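import Groth.Statements.S17377
-- import your own Groth.Agent.* helpers here
import Groth.Agent.CSplit23.Basic
import Groth.Agent.EGA43.Unibranch.Open

set_option autoImplicit false
universe u
open CategoryTheory CategoryTheory.Limits AlgebraicGeometry
open Variety

namespace Groth.Agent.S17377

/-- Let X and Y be integral normal schemes locally of finite type over a field k and f : Y → X a finite
étale k-morphism; let D ⊆ X be a closed subscheme which is an effective Cartier divisor and is
integral and normal as a scheme, and E ⊆ Y an integral closed subscheme mapping to D by a surjective
morphism g compatible with the inclusions whose residue-field extension at the generic point of E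
has degree 1 (so E is a prime divisor of Y over D with the same function field: D splits in Y at the
level of Weil divisors). Then g is an isomorphism and E is an effective Cartier divisor on Y; in
particular D is the image of the relative Cartier divisor E (D is c-split). (The source works with
projective, geometrically normal and geometrically integral X, Y of dimension at least 2 and
geometrically normal, geometrically integral D; those hypotheses only serve base change to extension
fields and are dropped here.) -/
theorem result (k : Type u) [Field k] (X Y : Scheme.{u})
    [X.Over (Spec (CommRingCat.of k))] [Y.Over (Spec (CommRingCat.of k))]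
    [LocallyOfFiniteType (X ↘ Spec (CommRingCat.of k))] [LocallyOfFiniteType (Y ↘ Spec (CommRingCat.of k))]
    [IsIntegral X] [IsIntegral Y] (hX : Pi1.IsNormalScheme X) (hY : Pi1.IsNormalScheme Y)
    (f : Y ⟶ X) (hf : f ≫ (X ↘ Spec (CommRingCat.of k)) = Y ↘ Spec (CommRingCat.of k)) [IsFinite f] [Etale f]
    (D : X.IdealSheafData) (hD : FGA.IsEffCartier D) [IsIntegral D.subscheme] (hDn : Pi1.IsNormalScheme D.subscheme)
    (E : Y.IdealSheafData) [IsIntegral E.subscheme]
    (g : (E.subscheme : Scheme.{u}) ⟶ D.subscheme) (hg : g ≫ D.subschemeι = E.subschemeι ≫ f)
    (hsurj : Function.Surjective g.base) (hdeg : g.residueDegree (genericPoint E.subscheme) = 1) :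
    IsIso g ∧ FGA.IsEffCartier E := by
  haveI : IsClosedImmersion D.subschemeι := inferInstance
  haveI : IsFinite (g ≫ D.subschemeι) := by rw [hg]; infer_instance
  haveI : IsFinite g := IsFinite.of_comp g D.subschemeι
  haveI : IsDominant g := ⟨hsurj.denseRange⟩
  have hgen := Groth.Agent.EGA43.Unibranch.map_genericPoint_of_isDominant g
  haveI : IsIso g := Groth.Agent.S4808.result (fun y => (hDn y).2) g hgen
    (Groth.Agent.CSplit23.isIso_stalkMap_of_residueDegree g hgen hdeg)
  haveI : IsLocallyNoetherian Y := LocallyOfFiniteType.isLocallyNoetherian (Y ↘ Spec (CommRingCat.of k))
  exact ⟨inferInstance, Groth.Agent.CSplit23.isEffCartier_of_isIso f D hD E g hg⟩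

end Groth.Agent.S17377
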