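import Groth.Statements.S1738
import Groth.Agent.CAlgH3.DT.S2Hull
-- import your own Groth.Agent.* helpers here

set_option autoImplicit false
universe u
open CategoryTheory
attribute [local instance] HasDerivedCategory.standard
open LocCoh

namespace Groth.Agent.S1738

/-- Let A be a Noetherian ring with a dualizing complex, T' ⊆ Spec A stable under specialization, and M
a finite A-module such that depth(M_p) ≥ 1 whenever q covers p in Spec A with q in T' and p outside
T'. Then there are a finite A-module M'' and a map M → M'' which is bijective after localizing at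
every prime outside T' and such that M''_p has depth ≥ 2 for every p in T'. (The source: coherent
modules on a Noetherian scheme locally having a dualizing complex, with uniqueness and a pullback
clause.) -/
theorem result (A : Type u) [CommRing A] [IsNoetherianRing A] (hA : ∃ ω : Dual.D A, Dual.IsDualizing A ω) (T' : Set (PrimeSpectrum A)) (hT : StableUnderSpecialization T') (M : Type u) [AddCommGroup M] [Module A M] [Module.Finite A M] (hM : ∀ p q : PrimeSpectrum A, p ⋖ q → q ∈ T' → p ∉ T' → 1 ≤ LocCoh.depth (Localization.AtPrime p.asIdeal) (LocalizedModule p.asIdeal.primeCompl M)) : ∃ (M'' : Type u) (_ : AddCommGroup M'') (_ : Module A M'') (_ : Module.Finite A M'') (f : M →ₗ[A] M''), (∀ p : PrimeSpectrum A, p ∉ T' → Function.Bijective (LocalizedModule.map p.asIdeal.primeCompl f)) ∧ ∀ p : PrimeSpectrum A, p ∈ T' → 2 ≤ LocCoh.depth (Localization.AtPrime p.asIdeal) (LocalizedModule p.asIdeal.primeCompl M'') := by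
  obtain ⟨ω, hω⟩ := hA
  let M' := M ⧸ Groth.Agent.CAlgH3.GammaQuot.gam T' M
  have hgam := Groth.Agent.CAlgH3.DT.gam_quotient T' M
  have hbij := Groth.Agent.CAlgH3.GammaQuot.bijective T' M
  have hdepth : ∀ p : PrimeSpectrum A, p ∉ T' →
      LocCoh.depth (Localization.AtPrime p.asIdeal) (LocalizedModule p.asIdeal.primeCompl M') =
        LocCoh.depth (Localization.AtPrime p.asIdeal) (LocalizedModule p.asIdeal.primeCompl M) := fun p hp =>
    (Groth.Agent.CAlgH3.depth_congr (LinearEquiv.ofBijective _ (hbij p hp))).symm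
  obtain ⟨J, hJ, hk⟩ := (Groth.Agent.CAlgH3.DT.annihilator_theorem_module hω hT hT 1 M').2 (fun p q hp hq hpq => by
    rw [hdepth p hp, Groth.Agent.CAlgH3.DT.krullDim_Icc hω hpq]
    have hlt : p < q := lt_of_le_of_ne hpq fun e => hp (e ▸ hq)
    have hd := Groth.Agent.DualLib.deg_lt hω hlt
    generalize hn : LocCoh.depth (Localization.AtPrime p.asIdeal) (LocalizedModule p.asIdeal.primeCompl M) = n
    cases n with
    | top => exact WithBot.coe_lt_coe.2 (show ((1 : ℕ) : ℕ∞) < ⊤ + _ by rw [top_add]; exact ENat.coe_lt_top 1)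
    | coe n =>
      have h1 : 1 < n + (Groth.Agent.DualLib.deg hω q - Groth.Agent.DualLib.deg hω p).toNat := by
        by_cases hc : p ⋖ q
        · have h := hM p q hc hq hp
          rw [hn] at h
          have h' : 1 ≤ n := by exact_mod_cast h
          omega
        · obtain ⟨r, hpr, hrq⟩ := (not_covBy_iff hlt).1 hc
          have h2 := Groth.Agent.DualLib.deg_lt hω hpr
          have h3 := Groth.Agent.DualLib.deg_lt hω hrq
          omega
      exact_mod_cast h1)
  obtain ⟨a, haJ, ha⟩ : ∃ a ∈ J, IsSMulRegular M' a := by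
    by_contra h
    push Not at h
    have hsub : (J : Set A) ⊆ ⋃ q ∈ associatedPrimes A M', (q : Set A) := fun x hx => by
      rw [biUnion_associatedPrimes_eq_compl_regular]; exact h x hx
    obtain ⟨q, hq, hle⟩ := (Ideal.subset_union_prime_finite (associatedPrimes.finite A M') ⊥ ⊥
      fun q hq _ _ => IsAssociatedPrime.isPrime hq).1 hsub
    obtain ⟨-, f, hf⟩ := (isAssociatedPrime_iff_exists_injective_linearMap q M').1 hq
    have hmem : f (Submodule.Quotient.mk 1) ∈ Groth.Agent.CAlgH3.GammaQuot.gam T' M' :=
      Groth.Agent.CAlgH3.DT.gam_of_killed (I := q)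
        (fun P hP => hJ (hle.trans hP)) (fun r hr => Groth.Agent.CAlgH3.DT.mk_one_smul f hr)
    rw [hgam, Submodule.mem_bot] at hmem
    exact hq.isPrime.ne_top ((Ideal.eq_top_iff_one _).2 ((Submodule.Quotient.mk_eq_zero _).1
      (hf (hmem.trans (map_zero f).symm))))
  haveI hfin := Groth.Agent.CAlgH3.DT.finite_hull hgam ha (fun x => hk 1 le_rfl a haJ x)
  refine ⟨Groth.Agent.CAlgH3.DT.hull T' M', inferInstance, inferInstance, hfin,
    Groth.Agent.CAlgH3.DT.toHull T' M' ∘ₗ (Groth.Agent.CAlgH3.GammaQuot.gam T' M).mkQ, fun p hp => ?_,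
    fun p hp => Groth.Agent.CAlgH3.DT.two_le_depth_hull hgam hT p hp⟩
  have e : ∀ x, LocalizedModule.map p.asIdeal.primeCompl
      (Groth.Agent.CAlgH3.DT.toHull T' M' ∘ₗ (Groth.Agent.CAlgH3.GammaQuot.gam T' M).mkQ) x =
      LocalizedModule.map p.asIdeal.primeCompl (Groth.Agent.CAlgH3.DT.toHull T' M')
        (LocalizedModule.map p.asIdeal.primeCompl (Groth.Agent.CAlgH3.GammaQuot.gam T' M).mkQ x) := fun x => by
    induction x using LocalizedModule.induction_on with | _ m s => rw [LocalizedModule.map_mk, LocalizedModule.map_mk, LocalizedModule.map_mk, LinearMap.comp_apply]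
  have h2 := (Groth.Agent.CAlgH3.DT.toHull_bijective T' M' p hp).comp (hbij p hp)
  convert h2 using 1
  exact funext e


end Groth.Agent.S1738
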