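import Groth.Statements.S17383
import Groth.Agent.FlatMorAdm.Common
import Groth.Agent.FlatMorAdm.BlowUpProj
import Groth.Agent.RelVALib.QuasiProj
-- import your own Groth.Agent.* helpers here

set_option autoImplicit false
set_option backward.isDefEq.respectTransparency false
set_option backward.isDefEq.respectTransparency.types false
universe u
open FlatMor

namespace Groth.Agent.S17383

open AlgebraicGeometry CategoryTheory Limits in
theorem dense_preimage_blowUp {X X' : Scheme.{u}} {I : X.IdealSheafData} {c : X' ⟶ X} (hc : BlowUp.IsBlowUp c I)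
    (U : X.Opens) (hU : BlowUp.IsAdmissibleFor U I) (hd : Dense (U : Set X)) : Dense ((c ⁻¹ᵁ U : X'.Opens) : Set X') := by
  let W : X.Opens := ModPair.interior I
  haveI : IsIso (c ∣_ W) := Groth.Agent.ProjLib.isIso_morphismRestrict hc W disjoint_compl_right
  have hM := Groth.Agent.FlatMorAdm.dense_of_isDenseOpen (Groth.Agent.ModPairLib.isDenseOpen_interior hc.1)
  rw [Groth.Agent.ModPairLib.interior_comap] at hM
  rw [dense_iff_inter_open]
  intro V hV hne
  obtain ⟨x, hxV, hxM⟩ := hM.inter_open_nonempty V hV hne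
  have hop : IsOpen (Subtype.val '' ((c ∣_ W) '' ((c ⁻¹ᵁ W).ι ⁻¹' V))) :=
    W.isOpen.isOpenMap_subtype_val _ ((c ∣_ W).homeomorph.isOpenMap _ (hV.preimage (c ⁻¹ᵁ W).ι.continuous))
  have key : ∀ a, ((c ∣_ W) a).1 = c a.1 := fun a => congr($(morphismRestrict_ι c W) a)
  obtain ⟨_, ⟨_, ⟨a, ha, rfl⟩, rfl⟩, hyU⟩ := hd.inter_open_nonempty _ hop ⟨_, _, ⟨⟨x, hxM⟩, hxV, rfl⟩, rfl⟩
  refine ⟨a.1, ha, ?_⟩
  show c a.1 ∈ U
  rw [← key a]
  exact hyU

open AlgebraicGeometry CategoryTheory Limits in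
/-- Points over the prescribed open are hit. -/
theorem preimage_subset_range {Γ X Y X' : Scheme.{u}} (π : Γ ⟶ X) (V : X.Opens) [IsIso (π ∣_ V)]
    {I : Γ.IdealSheafData} {b : Y ⟶ Γ} (hb : BlowUp.IsBlowUp b I) (hI : BlowUp.IsAdmissibleFor (π ⁻¹ᵁ V) I)
    {J : X.IdealSheafData} {c : X' ⟶ X} (hc : BlowUp.IsBlowUp c J) (hJ : BlowUp.IsAdmissibleFor V J)
    (j : Y ⟶ X') (h : j ≫ c = b ≫ π) : ((c ⁻¹ᵁ V : X'.Opens) : Set X') ⊆ Set.range j := by
  intro y hy
  haveI := Groth.Agent.ProjLib.isIso_morphismRestrict hb (π ⁻¹ᵁ V) hI.2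
  haveI := Groth.Agent.ProjLib.isIso_morphismRestrict hc V hJ.2
  obtain ⟨g, hg⟩ := (π ∣_ V).homeomorph.surjective ⟨c y, hy⟩
  obtain ⟨t, ht⟩ := (b ∣_ (π ⁻¹ᵁ V)).homeomorph.surjective g
  have hg' : π g.1 = c y := by
    have := congr($(morphismRestrict_ι π V) g)
    exact this.symm.trans (congrArg Subtype.val hg)
  have ht' : b t.1 = g.1 := by
    have := congr($(morphismRestrict_ι b (π ⁻¹ᵁ V)) t)
    exact this.symm.trans (congrArg Subtype.val ht)
  have e : c (j t.1) = c y := by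
    rw [← Scheme.Hom.comp_apply, h, Scheme.Hom.comp_apply, ht', hg']
  have hjy : j t.1 ∈ c ⁻¹ᵁ V := by
    show c (j t.1) ∈ V
    rw [e]; exact hy
  have : (⟨j t.1, hjy⟩ : (c ⁻¹ᵁ V : X'.Opens)) = ⟨y, hy⟩ := (c ∣_ V).homeomorph.injective (Subtype.ext (by
    have e1 := congr($(morphismRestrict_ι c V) (⟨j t.1, hjy⟩ : (c ⁻¹ᵁ V : X'.Opens)))
    have e2 := congr($(morphismRestrict_ι c V) (⟨y, hy⟩ : (c ⁻¹ᵁ V : X'.Opens)))
    exact e1.trans (e.trans e2.symm)))
  exact ⟨t.1, congrArg Subtype.val this⟩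

end Groth.Agent.S17383

namespace Groth.Agent.S17383

open AlgebraicGeometry CategoryTheory Limits in
/-- Let S be a quasi-compact quasi-separated scheme, f : X → S a separated morphism of finite type, and
U ⊆ X a quasi-compact dense open subscheme which is quasi-projective over S (of finite type with a
relatively ample invertible module). Then there are a blowing up q : X' → X in a quasi-coherent
ideal of finite type with support disjoint from U, a projective morphism g : P → S (P the relative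
homogeneous spectrum of a quasi-coherent graded algebra generated in degree one with degree-one part
of finite type) and an open immersion j : X' → P with dense image such that j ≫ g = q ≫ f. The
centre of the blow-up misses the prescribed open U. -/
theorem result
    {X S : Scheme.{u}} [CompactSpace S] [QuasiSeparatedSpace S]
    (f : X ⟶ S) [IsSeparated f] [QuasiCompact f] [LocallyOfFiniteType f]
    (U : X.Opens) (hU : IsCompact (U : Set X)) (hUd : Dense (U : Set X))
    (hq : RelProj.IsQuasiProjective (U.ι ≫ f)) :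
    ∃ (𝓘 : X.IdealSheafData) (X' P : Scheme.{u}) (q : X' ⟶ X) (j : X' ⟶ P) (g : P ⟶ S),
      BlowUp.IsBlowUp q 𝓘 ∧ BlowUp.IsAdmissibleFor U 𝓘 ∧ RelProj.IsProjective g ∧
      IsOpenImmersion j ∧ IsDominant j ∧ j ≫ g = q ≫ f := by
  haveI : CompactSpace X := QuasiCompact.compactSpace_of_compactSpace f
  haveI : QuasiSeparatedSpace X := quasiSeparatedSpace_of_quasiSeparated f
  haveI : CompactSpace U.toScheme := isCompact_iff_compactSpace.1 hU
  haveI : QuasiCompact (U.ι ≫ f) := quasiCompact_of_compactSpace _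
  obtain ⟨M, hM⟩ := Groth.Agent.RelVALib.exists_hasBundleImmersion_of_isQuasiProjective
    (Or.inl ⟨inferInstance, inferInstance⟩) hq
  obtain ⟨𝒬, Q, q, chartQ, -, -, i, h1, h2, h3, -, hi, hid, hiq, -⟩ := hM.exists_dense_relProj
  have hqproj : RelProj.IsProjective q := ⟨𝒬, Q, q, chartQ, Iso.refl Q, h1, h2, h3, Category.id_comp q⟩
  haveI : IsProper q := Groth.Agent.RelVALib.isProper_of_isProjective hqproj
  haveI : CompactSpace Q := QuasiCompact.compactSpace_of_compactSpace q
  haveI : QuasiSeparatedSpace Q := quasiSeparatedSpace_of_quasiSeparated q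
  haveI : QuasiSeparatedSpace (pullback f q : Scheme.{u}) :=
    quasiSeparatedSpace_of_quasiSeparated (pullback.fst f q)
  let σ := pullback.lift U.ι i hiq.symm
  haveI : QuasiCompact σ := quasiCompact_of_compactSpace σ
  haveI : IsImmersion (σ ≫ pullback.fst f q) := by rw [pullback.lift_fst]; infer_instance
  haveI : IsImmersion σ := IsImmersion.of_comp σ (pullback.fst f q)
  let π₁ := σ.imageι ≫ pullback.fst f q
  let π₂ := σ.imageι ≫ pullback.snd f q
  have ht₁ : σ.toImage ≫ π₁ = U.ι := by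
    simp only [π₁, Scheme.Hom.toImage_imageι_assoc]; exact pullback.lift_fst _ _ _
  have ht₂ : σ.toImage ≫ π₂ = i := by
    simp only [π₂, Scheme.Hom.toImage_imageι_assoc]; exact pullback.lift_snd _ _ _
  obtain ⟨hiso₁, hr₁⟩ := Groth.Agent.FlatMorAdm.isIso_restrict_of_section σ.toImage
    (Groth.Agent.ModPairLib.ker_toImage σ) π₁ U.ι ht₁
  obtain ⟨hiso₂, hr₂⟩ := Groth.Agent.FlatMorAdm.isIso_restrict_of_section σ.toImage
    (Groth.Agent.ModPairLib.ker_toImage σ) π₂ i ht₂
  obtain ⟨L, L₁, L₂, Xt, X₁', X₂', b, c₁, c₂, j₁, j₂, hb, hba, hc₁, hc₁a, hc₂, hc₂a, hj₁, hj₂, hcomm₁, hcomm₂⟩ :=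
    Groth.Agent.FlatMorAdm.exists_common π₁ π₂ U.ι.opensRange i.opensRange (isCompact_range U.ι.continuous)
      (isCompact_range i.continuous) (SetLike.coe_injective (hr₂.symm.trans hr₁))
  haveI : IsProper b := Groth.Agent.BlowUpLib.isProper_of_isBlowUp hb hba.1
  haveI : IsProper c₁ := Groth.Agent.BlowUpLib.isProper_of_isBlowUp hc₁ hc₁a.1
  haveI : IsProper π₁ := inferInstanceAs (IsProper (σ.imageι ≫ pullback.fst f q))
  haveI : IsProper (j₁ ≫ c₁) := by rw [hcomm₁]; infer_instance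
  haveI : IsProper j₁ := IsProper.of_comp j₁ c₁
  have hd₁ : Dense (U.ι.opensRange : Set X) := by rw [Scheme.Opens.opensRange_ι]; exact hUd
  have hsurj : Set.range j₁ = Set.univ := by
    refine Set.univ_subset_iff.1 ?_
    rw [← (dense_preimage_blowUp hc₁ _ hc₁a hd₁).closure_eq]
    exact j₁.isClosedMap.isClosed_range.closure_subset_iff.2
      (preimage_subset_range π₁ U.ι.opensRange hb hba hc₁ hc₁a j₁ hcomm₁)
  haveI : Surjective j₁ := ⟨Set.range_eq_univ.1 hsurj⟩
  haveI : IsIso j₁ := IsOpenImmersion.isIso j₁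
  haveI : IsDominant (inv j₁ ≫ j₂) := by
    haveI : IsDominant j₂ := ⟨by
      have hA : π₂ ⁻¹ᵁ i.opensRange = π₁ ⁻¹ᵁ U.ι.opensRange := SetLike.coe_injective (hr₂.symm.trans hr₁)
      exact (dense_preimage_blowUp hc₂ _ hc₂a hid).mono
        (preimage_subset_range π₂ i.opensRange hb (hA ▸ hba) hc₂ hc₂a j₂ hcomm₂)⟩
    infer_instance
  refine ⟨L₁, X₁', X₂', c₁, inv j₁ ≫ j₂, c₂ ≫ q, hc₁, ?_, ?_, inferInstance, inferInstance, ?_⟩
  · rwa [Scheme.Opens.opensRange_ι] at hc₁a
  · exact Groth.Agent.FlatMorAdm.isProjective_comp c₂ q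
      (Groth.Agent.FlatMorAdm.isProjective_blowUp hc₂a.1 hc₂) hqproj
  · rw [← cancel_epi j₁]
    simp only [Category.assoc, IsIso.hom_inv_id_assoc]
    rw [reassoc_of% hcomm₁, reassoc_of% hcomm₂]
    simp only [π₁, π₂, Category.assoc, pullback.condition]

end Groth.Agent.S17383
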