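import Groth.Statements.S17384
import Groth.Agent.FlatMorAdm.Bir

set_option autoImplicit false
universe u
open FlatMor

namespace Groth.Agent.S17384

open AlgebraicGeometry CategoryTheory Limits in
/-- Let S be a quasi-compact quasi-separated scheme, X and Y quasi-compact quasi-separated S-schemes
with Y → S separated and locally of finite type, U ⊆ V ⊆ X dense quasi-compact open subschemes, and
f : U → Y an S-morphism which is a quasi-domination of V over Y: the image Γ of its graph morphism U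
→ X ×_S Y satisfies closure(Γ) ∩ (part over V) ⊆ Γ, i.e. the graph is closed in V ×_S Y. Then there
are a blowing up q : X̃ → X in a quasi-coherent ideal of finite type with support disjoint from V, a
dense open W ⊆ X̃ containing q⁻¹(U), and an S-morphism f̃ : W → Y which agrees with f on q⁻¹(U) and
whose graph morphism W → X̃ ×_S Y has closed image (a quasi-domination of X̃ over Y extending f). -/
theorem result
    {S X Y : Scheme.{u}} [CompactSpace S] [QuasiSeparatedSpace S]
    [CompactSpace X] [QuasiSeparatedSpace X] [CompactSpace Y] [QuasiSeparatedSpace Y]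
    (pX : X ⟶ S) (pY : Y ⟶ S) [IsSeparated pY] [LocallyOfFiniteType pY]
    (U V : X.Opens) (hUV : U ≤ V) (hU : IsCompact (U : Set X)) (hV : IsCompact (V : Set X))
    (hUd : Dense (U : Set X))
    (f : (U : Scheme.{u}) ⟶ Y) (hf : U.ι ≫ pX = f ≫ pY)
    (hcl : closure (Set.range (fun x => pullback.lift U.ι f hf x)) ∩
        ((pullback.fst pX pY) ⁻¹ᵁ V : Set ↥(pullback pX pY)) ⊆ Set.range (fun x => pullback.lift U.ι f hf x)) :
    ∃ (𝓘 : X.IdealSheafData) (Xt : Scheme.{u}) (q : Xt ⟶ X),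
      BlowUp.IsBlowUp q 𝓘 ∧ BlowUp.IsAdmissibleFor V 𝓘 ∧
      ∃ (W : Xt.Opens) (hle : q ⁻¹ᵁ U ≤ W) (ft : (W : Scheme.{u}) ⟶ Y) (hft : W.ι ≫ q ≫ pX = ft ≫ pY),
        Dense (W : Set Xt) ∧ Xt.homOfLE hle ≫ ft = (q ∣_ U) ≫ f ∧
        IsClosed (Set.range (fun x => pullback.lift W.ι ft hft x)) := by
  set σ := pullback.lift U.ι f hf with hσdef
  haveI : QuasiCompact pX := inferInstance
  haveI : QuasiCompact pY := inferInstance
  obtain ⟨K, Xt, q, hq, hadm, hint, hmain⟩ := Groth.Agent.FlatMorAdm.exists_blowUp_over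
    (pullback.fst pX pY) U V hU hV hUV σ (pullback.lift_fst _ _ _) (fun z hz hzV => by
      obtain ⟨u, rfl⟩ := hcl ⟨hz, hzV⟩
      show pullback.fst pX pY (σ u) ∈ U
      rw [← Scheme.Hom.comp_apply, pullback.lift_fst]
      exact u.2)
  obtain ⟨σ', hσq, h₁, h₂, hopen⟩ := hmain _ _ _ (IsPullback.of_hasPullback (pullback.fst pX pY) q)
  set π := σ'.imageι ≫ pullback.snd (pullback.fst pX pY) q with hπdef
  have htop : σ'.toImage ≫ π = (q ⁻¹ᵁ U).ι := by
    rw [hπdef, Scheme.Hom.toImage_imageι_assoc, h₂]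
  have hle : q ⁻¹ᵁ U ≤ π.opensRange := by
    intro x hx
    refine ⟨σ'.toImage ⟨x, hx⟩, ?_⟩
    show (σ'.toImage ≫ π) ⟨x, hx⟩ = x
    rw [htop]
    rfl
  have htop' : Xt.homOfLE hle ≫ π.isoOpensRange.inv = σ'.toImage := by
    rw [← cancel_mono π, Category.assoc, Scheme.Hom.isoOpensRange_inv_comp, Scheme.homOfLE_ι, htop]
  let ft : (π.opensRange : Scheme.{u}) ⟶ Y :=
    π.isoOpensRange.inv ≫ σ'.imageι ≫ pullback.fst (pullback.fst pX pY) q ≫ pullback.snd pX pY
  have hft : π.opensRange.ι ≫ q ≫ pX = ft ≫ pY := by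
    rw [← Scheme.Hom.isoOpensRange_inv_comp π]
    simp only [ft, hπdef, Category.assoc, ← pullback.condition_assoc, pullback.condition]
  refine ⟨K, Xt, q, hq, hadm, π.opensRange, hle, ft, hft, ?_, ?_, ?_⟩
  · -- density
    refine Dense.mono (fun x hx => hle hx) ?_
    rw [dense_iff_inter_open]
    intro G hG hGne
    have hdV : Dense ((q ⁻¹ᵁ V : Xt.Opens) : Set Xt) :=
      Groth.Agent.FlatMorAdm.dense_of_isDenseOpen (hint ▸ Groth.Agent.ModPairLib.isDenseOpen_interior hq.1)
    obtain ⟨x, hxG, hxV⟩ := dense_iff_inter_open.1 hdV G hG hGne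
    haveI := Groth.Agent.ProjLib.isIso_morphismRestrict hq V hadm.2
    let G' : (q ⁻¹ᵁ V : Xt.Opens).toScheme.Opens := (q ⁻¹ᵁ V).ι ⁻¹ᵁ ⟨G, hG⟩
    obtain ⟨_, ⟨w, hwG, rfl⟩, hwU⟩ := dense_iff_inter_open.1 hUd (V.ι '' ((q ∣_ V) '' (G' : Set _)))
      (V.ι.isOpenEmbedding.isOpenMap _ ((q ∣_ V).isOpenEmbedding.isOpenMap _ G'.isOpen))
      ⟨_, _, ⟨⟨x, hxV⟩, hxG, rfl⟩, rfl⟩
    obtain ⟨y, hyG, rfl⟩ := hwG
    refine ⟨y.1, hyG, ?_⟩
    show q y.1 ∈ U
    rw [show q y.1 = V.ι ((q ∣_ V) y) from by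
      rw [← Scheme.Hom.comp_apply, morphismRestrict_ι]; rfl]
    exact hwU
  · simp only [ft]
    rw [reassoc_of% htop', Scheme.Hom.toImage_imageι_assoc, reassoc_of% h₁, hσdef, pullback.lift_snd]
  · let Φ : pullback (pullback.fst pX pY) q ⟶ pullback (q ≫ pX) pY :=
      pullback.lift (pullback.snd (pullback.fst pX pY) q)
        (pullback.fst (pullback.fst pX pY) q ≫ pullback.snd pX pY)
        (by rw [Category.assoc, ← pullback.condition, ← pullback.condition_assoc])
    let Ψ : pullback (q ≫ pX) pY ⟶ pullback (pullback.fst pX pY) q :=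
      pullback.lift (pullback.lift (pullback.fst (q ≫ pX) pY ≫ q) (pullback.snd (q ≫ pX) pY)
          (by rw [Category.assoc, pullback.condition]))
        (pullback.fst (q ≫ pX) pY) (by rw [pullback.lift_fst])
    have hΦ₁ : Φ ≫ pullback.fst (q ≫ pX) pY = pullback.snd (pullback.fst pX pY) q :=
      pullback.lift_fst _ _ _
    have hΦ₂ : Φ ≫ pullback.snd (q ≫ pX) pY =
        pullback.fst (pullback.fst pX pY) q ≫ pullback.snd pX pY := pullback.lift_snd _ _ _
    have hΨ₁ : Ψ ≫ pullback.fst (pullback.fst pX pY) q ≫ pullback.fst pX pY =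
        pullback.fst (q ≫ pX) pY ≫ q := by
      rw [← Category.assoc]
      exact (congrArg (· ≫ pullback.fst pX pY) (pullback.lift_fst _ _ _)).trans (pullback.lift_fst _ _ _)
    have hΨ₂ : Ψ ≫ pullback.fst (pullback.fst pX pY) q ≫ pullback.snd pX pY =
        pullback.snd (q ≫ pX) pY := by
      rw [← Category.assoc]
      exact (congrArg (· ≫ pullback.snd pX pY) (pullback.lift_fst _ _ _)).trans (pullback.lift_snd _ _ _)
    have hΨ₃ : Ψ ≫ pullback.snd (pullback.fst pX pY) q = pullback.fst (q ≫ pX) pY :=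
      pullback.lift_snd _ _ _
    have hΦΨ : Φ ≫ Ψ = 𝟙 _ := by
      apply pullback.hom_ext
      · apply pullback.hom_ext
        · simp only [Category.assoc, Category.id_comp, hΨ₁, reassoc_of% hΦ₁]
          exact pullback.condition.symm
        · simp only [Category.assoc, Category.id_comp, hΨ₂, hΦ₂]
      · simp only [Category.assoc, Category.id_comp, hΨ₃, hΦ₁]
    have hΨΦ : Ψ ≫ Φ = 𝟙 _ := by
      apply pullback.hom_ext
      · simp only [Category.assoc, Category.id_comp, hΦ₁, hΨ₃]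
      · simp only [Category.assoc, Category.id_comp, hΦ₂, hΨ₂]
    haveI : IsIso Φ := ⟨Ψ, hΦΨ, hΨΦ⟩
    have he : pullback.lift π.opensRange.ι ft hft = π.isoOpensRange.inv ≫ σ'.imageι ≫ Φ := by
      apply pullback.hom_ext
      · simp only [Φ, Category.assoc, pullback.lift_fst]
        exact (Scheme.Hom.isoOpensRange_inv_comp π).symm
      · simp only [ft, Φ, Category.assoc, pullback.lift_snd]
    rw [show (fun x => pullback.lift π.opensRange.ι ft hft x) =
      fun x => (π.isoOpensRange.inv ≫ σ'.imageι ≫ Φ) x from funext fun x => by rw [he]]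
    exact (π.isoOpensRange.inv ≫ σ'.imageι ≫ Φ).isClosedEmbedding.isClosed_range

end Groth.Agent.S17384
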