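import Groth.Statements.S17387
import Groth.Agent.FlatMorAdm.Common
import Groth.Agent.FlatMorAdm.SeparateFamily
import Groth.Agent.SDiv28.BlowUp

set_option autoImplicit false
universe u
open FlatMor
set_option backward.isDefEq.respectTransparency.types false

namespace Groth.Agent.S17387

open AlgebraicGeometry CategoryTheory Limits in
/-- Let S be a quasi-compact quasi-separated scheme, U and X_1, …, X_n separated S-schemes of finite
type, and j_i : U → X_i open immersions over S with dense image. Then there are blowing ups b_i :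
X_i' → X_i in quasi-coherent ideals of finite type with support disjoint from the image of U, a
separated S-scheme X of finite type, and open immersions o_i : X_i' → X over S whose images cover X,
together with the lifts u_i : U → X_i' of the j_i (u_i ≫ b_i = j_i), such that all the composites
u_i ≫ o_i : U → X coincide. -/
theorem result
    {S U : Scheme.{u}} [CompactSpace S] [QuasiSeparatedSpace S] {n : ℕ}
    (gU : U ⟶ S) [IsSeparated gU] [QuasiCompact gU] [LocallyOfFiniteType gU]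
    (X : Fin n → Scheme.{u}) (g : ∀ i, X i ⟶ S)
    [∀ i, IsSeparated (g i)] [∀ i, QuasiCompact (g i)] [∀ i, LocallyOfFiniteType (g i)]
    (j : ∀ i, U ⟶ X i) [∀ i, IsOpenImmersion (j i)] [∀ i, IsDominant (j i)] (hj : ∀ i, j i ≫ g i = gU) :
    ∃ (Xc : Scheme.{u}) (q : Xc ⟶ S) (_ : IsSeparated q) (_ : QuasiCompact q) (_ : LocallyOfFiniteType q)
      (𝓘 : ∀ i, (X i).IdealSheafData) (X' : Fin n → Scheme.{u}) (b : ∀ i, X' i ⟶ X i)
      (o : ∀ i, X' i ⟶ Xc) (u : ∀ i, U ⟶ X' i),
      (∀ i, BlowUp.IsBlowUp (b i) (𝓘 i) ∧ BlowUp.IsAdmissibleFor (j i).opensRange (𝓘 i) ∧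
        IsOpenImmersion (o i) ∧ o i ≫ q = b i ≫ g i ∧ u i ≫ b i = j i) ∧
      (⋃ i, Set.range (fun x => o i x)) = Set.univ ∧ (∀ i i', u i ≫ o i = u i' ≫ o i') := by
  classical
  haveI : QuasiSeparatedSpace U := quasiSeparatedSpace_of_quasiSeparated gU
  haveI : CompactSpace U := QuasiCompact.compactSpace_of_compactSpace gU
  suffices H : ∀ (m : ℕ) (X : Fin (m + 1) → Scheme.{u}) (g : ∀ i, X i ⟶ S),
      (∀ i, IsSeparated (g i)) → (∀ i, QuasiCompact (g i)) → (∀ i, LocallyOfFiniteType (g i)) →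
      ∀ (j : ∀ i, U ⟶ X i) [∀ i, IsOpenImmersion (j i)], (∀ i, j i ≫ g i = gU) →
      ∃ (Xc : Scheme.{u}) (q : Xc ⟶ S) (jc : U ⟶ Xc) (W : Fin (m + 1) → Set Xc),
        IsSeparated q ∧ QuasiCompact q ∧ LocallyOfFiniteType q ∧ IsOpenImmersion jc ∧ jc ≫ q = gU ∧
        (⋃ i, W i) = Set.univ ∧
        ∀ i, ∃ (I : (X i).IdealSheafData) (X' : Scheme.{u}) (b : X' ⟶ X i) (o : X' ⟶ Xc) (u : U ⟶ X'),
          BlowUp.IsBlowUp b I ∧ BlowUp.IsAdmissibleFor (j i).opensRange I ∧ IsOpenImmersion o ∧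
          o ≫ q = b ≫ g i ∧ u ≫ b = j i ∧ u ≫ o = jc ∧ Set.range o = W i by
    obtain rfl | ⟨m, rfl⟩ : n = 0 ∨ ∃ m, n = m + 1 := by
      cases n with
      | zero => exact Or.inl rfl
      | succ m => exact Or.inr ⟨m, rfl⟩
    · refine ⟨∅, Scheme.emptyTo S, inferInstance, quasiCompact_of_compactSpace _, inferInstance,
        fun i => i.elim0, fun i => i.elim0, fun i => i.elim0, fun i => i.elim0, fun i => i.elim0,
        fun i => i.elim0, ?_, fun i => i.elim0⟩
      exact Set.eq_univ_of_forall fun x => (IsEmpty.false x).elim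
    obtain ⟨Xc, q, jc, W, hs, hq, hl, -, -, hW, hd⟩ := H m X g inferInstance inferInstance inferInstance
      j hj
    choose I X' b o u hb hba ho hoq hu huo hr using hd
    exact ⟨Xc, q, hs, hq, hl, I, X', b, o, u, fun i => ⟨hb i, hba i, ho i, hoq i, hu i⟩,
      by rw [← hW]; exact Set.iUnion_congr hr, fun i i' => by rw [huo, huo]⟩
  intro m
  induction m with
  | zero =>
    intro X g hs hqc hl j hjo hjg
    refine ⟨X 0, g 0, j 0, fun _ => Set.univ, hs 0, hqc 0, hl 0, hjo 0, hjg 0, Set.iUnion_const _,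
      fun i => ?_⟩
    obtain rfl : i = 0 := Fin.fin_one_eq_zero i
    refine ⟨⊤, X 0, 𝟙 _, 𝟙 _, j 0, ⟨?_, fun T f _ => ⟨f, Category.comp_id f, fun y hy => ?_⟩⟩,
      FlatMorAdm.isAdmissibleFor_top _, inferInstance, rfl, Category.comp_id _, Category.comp_id _,
      Set.range_id'⟩
    · rw [Scheme.IdealSheafData.comap_id]; exact ProjLib.isEffCartierIdeal_top
    · rw [← hy, Category.comp_id]
  | succ m ih =>
    intro X g hs hqc hl j hjo hjg
    obtain ⟨Xc, q, jc, W, hsc, hqcc, hlc, hjc, hjcq, hW, hd⟩ := ih (fun i => X i.succ) (fun i => g i.succ)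
      (fun i => hs _) (fun i => hqc _) (fun i => hl _) (fun i => j i.succ)
      (fun i => hjg _)
    haveI := hsc; haveI := hqcc; haveI := hlc; haveI := hjc
    haveI := hs 0; haveI := hqc 0; haveI := hl 0; haveI := hjo 0
    obtain ⟨Z, p, hps, hpl, hpq, L₁, L₂, Xc', X₀', c, b₀, a, a₀, t, t₀, hc, hca, hb₀, hb₀a, ha, ha₀,
      hap, ha₀p, ht, ht₀, htt, hto, -, hcov⟩ :=
      FlatMorAdm.exists_common_target q (g 0) jc (j 0) (by rw [hjcq, hjg])
    haveI := ha; haveI := ha₀; haveI := hto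
    refine ⟨Z, p, t ≫ a, Fin.cons (Set.range a₀) (fun i => a '' (c ⁻¹' W i)), hps, hpq, hpl,
      inferInstance, by rw [Category.assoc, hap, reassoc_of% ht, hjcq], ?_, fun i => ?_⟩
    · refine Set.eq_univ_of_forall fun z => ?_
      rcases hcov z with ⟨y, rfl⟩ | hz
      · obtain ⟨i, hi⟩ := Set.mem_iUnion.1 (hW.ge (Set.mem_univ (c y)))
        exact Set.mem_iUnion.2 ⟨i.succ, by rw [Fin.cons_succ]; exact ⟨y, hi, rfl⟩⟩
      · exact Set.mem_iUnion.2 ⟨0, by rwa [Fin.cons_zero]⟩
    refine Fin.cases ?_ (fun i => ?_) i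
    · exact ⟨L₂, X₀', b₀, a₀, t₀, hb₀, hb₀a, ha₀, ha₀p, ht₀, htt.symm, by rw [Fin.cons_zero]⟩
    obtain ⟨I, X', b, o, u, hb, hba, ho, hoq, hu, huo, hr⟩ := hd i
    haveI := ho
    haveI := hjo i.succ
    haveI := hs i.succ; haveI := hqc i.succ; haveI := hl i.succ
    haveI : CompactSpace (X i.succ) := QuasiCompact.compactSpace_of_compactSpace (g i.succ)
    haveI : QuasiSeparatedSpace (X i.succ) := quasiSeparatedSpace_of_quasiSeparated (g i.succ)
    have hJ : BlowUp.IsAdmissibleFor (b ⁻¹ᵁ (j i.succ).opensRange) (L₁.comap o) := by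
      refine ⟨FlatMorAdm.isFiniteType_comap o L₁ hca.1, Set.disjoint_left.2 fun y hy hyU => ?_⟩
      rw [Scheme.IdealSheafData.support_comap] at hy
      haveI := ProjLib.isIso_morphismRestrict hb _ hba.2
      have hyU2 : b y ∈ Set.range (j i.succ) := hyU
      obtain ⟨x, hx⟩ := hyU2
      have hux : b (u x) = b y := by rw [← Scheme.Hom.comp_apply, hu, hx]
      have : y = u x := congrArg Subtype.val
        ((b ∣_ (j i.succ).opensRange).isOpenEmbedding.injective (a₁ := ⟨y, hyU⟩)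
          (a₂ := ⟨u x, show b (u x) ∈ (j i.succ).opensRange by rw [hux]; exact hyU⟩)
          (Subtype.ext (by simpa only [morphismRestrict_base_coe] using hux.symm)))
      refine Set.disjoint_left.1 hca.2 (show o y ∈ _ from hy) ⟨x, ?_⟩
      rw [this, ← Scheme.Hom.comp_apply, huo]
    obtain ⟨K, hK, hKa⟩ := FlatMorAdm.exists_isBlowUp_comp (j i.succ).opensRange hba hb hJ
      (SDiv28.isBlowUp_flat_baseChange hc o)
    refine ⟨K, pullback o c, pullback.fst o c ≫ b, pullback.snd o c ≫ a,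
      pullback.lift u t (by rw [huo, ht]), hK, hKa, inferInstance, ?_, ?_, ?_, ?_⟩
    · rw [Category.assoc, hap, ← pullback.condition_assoc, hoq, Category.assoc]
    · rw [pullback.lift_fst_assoc, hu]
    · rw [pullback.lift_snd_assoc]
    · rw [Fin.cons_succ, ← hr, Scheme.Hom.comp_base, TopCat.coe_comp, Set.range_comp,
        Scheme.Pullback.range_snd]

end Groth.Agent.S17387
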