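import Groth.Statements.S17388
import Groth.Agent.FlatMorAdm.Common
import Groth.Agent.ModPairLib.LocPullback

set_option autoImplicit false
universe u
open FlatMor
set_option backward.isDefEq.respectTransparency.types false

namespace Groth.Agent.S17388

open AlgebraicGeometry CategoryTheory Limits in
/-- Let X, Y₁, Y₂ be quasi-compact quasi-separated schemes and π_i : X → Y_i (i = 1, 2) separated
morphisms of finite type which are birational: U_i ⊆ Y_i is a quasi-compact dense open subscheme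
over which π_i restricts to an isomorphism and whose preimage is dense in X. Let U = π₁⁻¹(U₁) ∩
π₂⁻¹(U₂), a dense quasi-compact open of X mapping isomorphically onto dense opens of Y₁ and Y₂. Then
there are blowing ups b : X̃ → X, c₁ : Ỹ₁ → Y₁, c₂ : Ỹ₂ → Y₂ in quasi-coherent ideals of finite type
whose supports are disjoint from U, π₁(U) and π₂(U) respectively, and open immersions j_i : X̃ → Ỹ_i
with j_i ≫ c_i = b ≫ π_i. -/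
theorem result
    {X Y₁ Y₂ : Scheme.{u}} [CompactSpace X] [QuasiSeparatedSpace X]
    [CompactSpace Y₁] [QuasiSeparatedSpace Y₁] [CompactSpace Y₂] [QuasiSeparatedSpace Y₂]
    (π₁ : X ⟶ Y₁) (π₂ : X ⟶ Y₂)
    [IsSeparated π₁] [QuasiCompact π₁] [LocallyOfFiniteType π₁]
    [IsSeparated π₂] [QuasiCompact π₂] [LocallyOfFiniteType π₂]
    (U₁ : Y₁.Opens) (U₂ : Y₂.Opens) (hU₁ : IsCompact (U₁ : Set Y₁)) (hU₂ : IsCompact (U₂ : Set Y₂))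
    (hd₁ : Dense (U₁ : Set Y₁)) (hd₂ : Dense (U₂ : Set Y₂)) [IsIso (π₁ ∣_ U₁)] [IsIso (π₂ ∣_ U₂)]
    (hd₁' : Dense ((π₁ ⁻¹ᵁ U₁ : X.Opens) : Set X)) (hd₂' : Dense ((π₂ ⁻¹ᵁ U₂ : X.Opens) : Set X)) :
    ∃ (𝓘 : X.IdealSheafData) (𝓙₁ : Y₁.IdealSheafData) (𝓙₂ : Y₂.IdealSheafData)
      (Xt Yt₁ Yt₂ : Scheme.{u}) (b : Xt ⟶ X) (c₁ : Yt₁ ⟶ Y₁) (c₂ : Yt₂ ⟶ Y₂) (j₁ : Xt ⟶ Yt₁) (j₂ : Xt ⟶ Yt₂),
      BlowUp.IsBlowUp b 𝓘 ∧ BlowUp.IsAdmissibleFor (π₁ ⁻¹ᵁ U₁ ⊓ π₂ ⁻¹ᵁ U₂) 𝓘 ∧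
      BlowUp.IsBlowUp c₁ 𝓙₁ ∧ BlowUp.IsFiniteTypeIdeal 𝓙₁ ∧
        Disjoint (𝓙₁.support : Set Y₁) ((fun x => π₁ x) '' ((π₁ ⁻¹ᵁ U₁ ⊓ π₂ ⁻¹ᵁ U₂ : X.Opens) : Set X)) ∧
      BlowUp.IsBlowUp c₂ 𝓙₂ ∧ BlowUp.IsFiniteTypeIdeal 𝓙₂ ∧
        Disjoint (𝓙₂.support : Set Y₂) ((fun x => π₂ x) '' ((π₁ ⁻¹ᵁ U₁ ⊓ π₂ ⁻¹ᵁ U₂ : X.Opens) : Set X)) ∧
      IsOpenImmersion j₁ ∧ IsOpenImmersion j₂ ∧ j₁ ≫ c₁ = b ≫ π₁ ∧ j₂ ≫ c₂ = b ≫ π₂ := by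
  set W := π₁ ⁻¹ᵁ U₁ ⊓ π₂ ⁻¹ᵁ U₂ with hW
  have hWc : IsCompact (W : Set X) :=
    QuasiSeparatedSpace.inter_isCompact _ _ (π₁ ⁻¹ᵁ U₁).2 (QuasiCompact.isCompact_preimage _ U₁.2 hU₁)
      (π₂ ⁻¹ᵁ U₂).2 (QuasiCompact.isCompact_preimage _ U₂.2 hU₂)
  have key : ∀ {Y : Scheme.{u}} (π : X ⟶ Y) (U : Y.Opens) (_ : IsIso (π ∣_ U)) (_ : W ≤ π ⁻¹ᵁ U),
      ∃ V : Y.Opens, V ≤ U ∧ π ⁻¹ᵁ V = W ∧ (V : Set Y) = (fun x => π x) '' (W : Set X) := by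
    intro Y π U _ hWU
    have e : W.ι ≫ π = (X.homOfLE hWU ≫ (π ∣_ U)) ≫ U.ι := by
      rw [Category.assoc, morphismRestrict_ι, X.homOfLE_ι_assoc]
    haveI : IsOpenImmersion (W.ι ≫ π) := by rw [e]; infer_instance
    have hV : ((W.ι ≫ π).opensRange : Set Y) = (fun x => π x) '' (W : Set X) := by
      rw [Scheme.Hom.coe_opensRange]
      ext y; constructor
      · rintro ⟨x, rfl⟩; exact ⟨x.1, x.2, rfl⟩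
      · rintro ⟨x, hx, rfl⟩; exact ⟨⟨x, hx⟩, rfl⟩
    refine ⟨(W.ι ≫ π).opensRange, ?_, ?_, hV⟩
    · intro y hy
      obtain ⟨x, hx, rfl⟩ := hV.le hy
      exact hWU hx
    · ext x
      refine ⟨fun hx => ?_, fun hx => hV.ge ⟨x, hx, rfl⟩⟩
      obtain ⟨x', hx', e'⟩ := hV.le hx
      have hx1 : x ∈ π ⁻¹ᵁ U := by show π x ∈ U; rw [← e']; exact hWU hx'
      have := (π ∣_ U).isOpenEmbedding.injective (a₁ := ⟨x, hx1⟩) (a₂ := ⟨x', hWU hx'⟩)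
        (Subtype.ext (by simpa only [morphismRestrict_base_coe] using e'.symm))
      rw [show x = x' from congrArg Subtype.val this]
      exact hx'
  obtain ⟨V₁, hV₁, hp₁, hs₁⟩ := key π₁ U₁ ‹_› inf_le_left
  obtain ⟨V₂, hV₂, hp₂, hs₂⟩ := key π₂ U₂ ‹_› inf_le_right
  haveI := ModPairLib.isIso_restrict_mono (σ := π₁) hV₁
  haveI := ModPairLib.isIso_restrict_mono (σ := π₂) hV₂
  obtain ⟨I, J₁, J₂, Xt, Y₁', Y₂', b, c₁, c₂, j₁, j₂, hb, hba, hc₁, hc₁a, hc₂, hc₂a, hj₁, hj₂, e₁, e₂⟩ :=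
    FlatMorAdm.exists_common π₁ π₂ V₁ V₂ (hs₁ ▸ hWc.image π₁.continuous)
      (hs₂ ▸ hWc.image π₂.continuous) (hp₂.trans hp₁.symm)
  exact ⟨I, J₁, J₂, Xt, Y₁', Y₂', b, c₁, c₂, j₁, j₂, hb, hp₁ ▸ hba, hc₁, hc₁a.1, hs₁ ▸ hc₁a.2,
    hc₂, hc₂a.1, hs₂ ▸ hc₂a.2, hj₁, hj₂, e₁, e₂⟩

end Groth.Agent.S17388
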