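import Groth.Statements.S17390
import Groth.Agent.FlatMorAdm.Strict
import Groth.Agent.BlowUpLib.StrictImage
import Groth.Agent.SDiv28.BlowUp
import Groth.Agent.FlatMor12.RegularExtend
import Groth.Agent.BlowUpLib.Proper

set_option autoImplicit false
universe u
open FlatMor
set_option backward.isDefEq.respectTransparency.types false

namespace Groth.Agent.S17390

open AlgebraicGeometry CategoryTheory Limits in
/-- Let S be a quasi-compact quasi-separated scheme, X and Y separated S-schemes of finite type, U a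
quasi-compact scheme with an open immersion jX : U → X with dense image (so U is separated of finite
type over S), V ⊆ Y a quasi-compact open subscheme with an open immersion jV : U → V which is
schematically dense and such that U has dense image in Y, and φ : V → X an S-morphism with jV ≫ φ =
jX which is a quasi-domination of Y over X (its graph morphism V → Y ×_S X has closed image). Let I
be a quasi-coherent ideal of finite type on X with support disjoint from the image of U and b : X̃ →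
X a blowing up of X in I; let W ⊆ X̃ be an open subscheme, u : U → W the lift of jX (u ≫ W.ι ≫ b =
jX), assumed schematically dense as a morphism to X̃, and ψ : W → V an S-morphism with u ≫ ψ = jV
which is a quasi-domination of X̃ over V (its graph morphism W → X̃ ×_S V has closed image). Then ψ
is a blowing up of V in the inverse image ideal I·O_V, hence proper, and the graph morphism W → X̃
×_S Y of ψ followed by V ⊆ Y has closed image. -/
theorem result
    {S U X Y Xt : Scheme.{u}} [CompactSpace S] [QuasiSeparatedSpace S]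
    (gX : X ⟶ S) (gY : Y ⟶ S)
    [IsSeparated gX] [QuasiCompact gX] [LocallyOfFiniteType gX]
    [IsSeparated gY] [QuasiCompact gY] [LocallyOfFiniteType gY]
    (jX : U ⟶ X) [IsOpenImmersion jX] [IsDominant jX] [CompactSpace U]
    (V : Y.Opens) (hVc : IsCompact (V : Set Y))
    (jV : U ⟶ (V : Scheme.{u})) [IsOpenImmersion jV] [IsSchemeTheoreticallyDominant jV]
    [IsDominant (jV ≫ V.ι)]
    (φ : (V : Scheme.{u}) ⟶ X) (hφU : jV ≫ φ = jX) (hφ : V.ι ≫ gY = φ ≫ gX)
    (hφcl : IsClosed (Set.range (fun x => pullback.lift V.ι φ hφ x)))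
    (𝓘 : X.IdealSheafData) (h𝓘 : BlowUp.IsAdmissibleFor jX.opensRange 𝓘)
    (b : Xt ⟶ X) (hb : BlowUp.IsBlowUp b 𝓘)
    (W : Xt.Opens) (u : U ⟶ (W : Scheme.{u})) (hu : u ≫ W.ι ≫ b = jX)
    [IsSchemeTheoreticallyDominant (u ≫ W.ι)]
    (ψ : (W : Scheme.{u}) ⟶ (V : Scheme.{u})) (hψU : u ≫ ψ = jV)
    (hψ : W.ι ≫ b ≫ gX = ψ ≫ V.ι ≫ gY)
    (hψcl : IsClosed (Set.range (fun x => pullback.lift W.ι ψ hψ x))) :
    BlowUp.IsBlowUp ψ (𝓘.comap φ) ∧
      IsClosed (Set.range (fun x => pullback.lift (f := b ≫ gX) (g := gY) W.ι (ψ ≫ V.ι)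
        (hψ.trans (Category.assoc ψ V.ι gY).symm) x)) := by
  have hd : IsSchemeTheoreticallyDominant (u ≫ W.ι) := by assumption
  have hdV : IsSchemeTheoreticallyDominant jV := by assumption
  have hres : ∀ {X A : Scheme.{u}} (i : A ⟶ X) [IsOpenImmersion i] (f : U ⟶ X) (k : U ⟶ A) [QuasiCompact f],
      IsSchemeTheoreticallyDominant f → k ≫ i = f → IsSchemeTheoreticallyDominant k := by
    intro X A i _ f k _ hf hk
    haveI := hf
    haveI : IsIso (pullback.lift (f := f) (g := i) (𝟙 U) k (by rw [Category.id_comp, hk])) := by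
      refine ⟨pullback.fst f i, pullback.lift_fst _ _ _, ?_⟩
      apply pullback.hom_ext
      · rw [Category.assoc, pullback.lift_fst, Category.comp_id, Category.id_comp]
      · rw [← cancel_mono i]
        simp only [Category.assoc, Category.id_comp, pullback.lift_snd_assoc, hk, pullback.condition]
    rw [← pullback.lift_snd (f := f) (g := i) (𝟙 U) k (by rw [Category.id_comp, hk])]
    infer_instance
  haveI : IsProper b := BlowUpLib.isProper_of_isBlowUp hb h𝓘.1
  haveI : QuasiSeparatedSpace X := quasiSeparatedSpace_of_quasiSeparated gX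
  haveI : QuasiSeparatedSpace Y := quasiSeparatedSpace_of_quasiSeparated gY
  haveI : QuasiSeparatedSpace Xt := quasiSeparatedSpace_of_quasiSeparated b
  haveI : QuasiSeparatedSpace (V : Scheme.{u}) := quasiSeparatedSpace_of_quasiSeparated V.ι
  haveI : QuasiCompact (u ≫ W.ι) := quasiCompact_of_compactSpace _
  haveI : QuasiCompact jV := quasiCompact_of_compactSpace _
  have hu' : IsSchemeTheoreticallyDominant u := hres W.ι (u ≫ W.ι) u hd rfl
  have hWb : W.ι ≫ b = ψ ≫ φ := by
    refine @FlatMor12.RegularExtend.ext_of_isSchemeTheoreticallyDominant _ _ _ _ _ _ gX _ ?_ u hu' ?_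
    · rw [Category.assoc, Category.assoc, hψ, hφ]
    · rw [reassoc_of% hψU, hφU, hu]
  set J := 𝓘.comap φ with hJ
  obtain ⟨V', bV, hbV⟩ := BlowUpLib.exists_isBlowUp (I := J)
  haveI : IsProper bV := BlowUpLib.isProper_of_isBlowUp hbV (FlatMorAdm.isFiniteType_comap φ 𝓘 h𝓘.1)
  haveI : QuasiSeparatedSpace V' := quasiSeparatedSpace_of_quasiSeparated bV
  -- the universal maps
  have hWc : BlowUp.IsEffCartierIdeal (J.comap ψ) := by
    have := SDiv28.isEffCartier_comap_of_flat hb.1 W.ι
    rwa [← Scheme.IdealSheafData.comap_comp, hWb, Scheme.IdealSheafData.comap_comp] at this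
  obtain ⟨η, hη, -⟩ := hbV.2 _ ψ hWc
  have hc : BlowUp.IsEffCartierIdeal (𝓘.comap (bV ≫ φ)) := by
    rw [Scheme.IdealSheafData.comap_comp]; exact hbV.1
  obtain ⟨θ, hθ, -⟩ := hb.2 _ (bV ≫ φ) hc
  -- the common open is schematically dense in the blow-up
  set R : (V : Scheme.{u}).Opens := ⟨(J.support : Set _)ᶜ, J.support.isClosed.isOpen_compl⟩ with hR
  haveI := ProjLib.isIso_morphismRestrict hbV R disjoint_compl_right
  set C : V'.Opens := bV ⁻¹ᵁ R with hC
  have hCs : (C : Set V') = ((J.comap bV).support : Set V')ᶜ := by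
    rw [Scheme.IdealSheafData.support_comap]; rfl
  haveI := BlowUpLib.isAffineHom_compl_ι hbV.1 C hCs
  haveI hCd : IsSchemeTheoreticallyDominant C.ι :=
    ProjLib.isSchemeTheoreticallyDominant_compl_effCartier hbV.1 C hCs.ge
  have hjR : Set.range jV ⊆ Set.range R.ι := by
    rw [Scheme.Opens.range_ι]
    rintro _ ⟨x, rfl⟩
    show jV x ∉ (J.support : Set _)
    rw [hJ, Scheme.IdealSheafData.support_comap]
    show φ (jV x) ∉ (𝓘.support : Set X)
    rw [← Scheme.Hom.comp_apply, hφU]
    exact fun h => Set.disjoint_left.1 h𝓘.2 h ⟨x, rfl⟩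
  let l := IsOpenImmersion.lift R.ι jV hjR
  have hl : l ≫ R.ι = jV := IsOpenImmersion.lift_fac _ _ _
  have hld : IsSchemeTheoreticallyDominant l := hres R.ι jV l hdV hl
  let t := (l ≫ inv (bV ∣_ R)) ≫ C.ι
  have ht : t ≫ bV = jV := by
    simp only [t, Category.assoc]
    rw [show C.ι ≫ bV = (bV ∣_ R) ≫ R.ι from (morphismRestrict_ι bV R).symm,
      IsIso.inv_hom_id_assoc, hl]
  have htd : IsSchemeTheoreticallyDominant t := by
    have hinv : Scheme.Hom.ker (inv (bV ∣_ R)) = ⊥ := by simp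
    exact ⟨by simp only [t]; rw [Scheme.Hom.ker_comp, Scheme.Hom.ker_comp, hld.ker_eq_bot,
      Scheme.IdealSheafData.map_bot, hinv, Scheme.IdealSheafData.map_bot, hCd.ker_eq_bot]⟩
  haveI : QuasiCompact t := quasiCompact_of_compactSpace _
  haveI := htd
  haveI : IsDominant t := by
    rw [isDominant_iff, DenseRange, dense_iff_closure_eq, ← Scheme.Hom.support_ker, htd.ker_eq_bot,
      Scheme.IdealSheafData.support_bot, TopologicalSpace.Closeds.coe_top]
  have htη : u ≫ η = t := (hbV.2 U jV (by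
    rw [ProjLib.comap_eq_top_of_disjoint J jV (Set.disjoint_left.2 fun x hx => by
      have := hjR hx
      rw [Scheme.Opens.range_ι] at this
      exact this)]
    exact ProjLib.isEffCartierIdeal_top)).unique
      (by show (u ≫ η) ≫ bV = jV; rw [Category.assoc, hη, hψU]) ht
  have htθ : t ≫ θ = u ≫ W.ι := (hb.2 U jX (by
    rw [ProjLib.comap_eq_top_of_disjoint 𝓘 jX h𝓘.2.symm]
    exact ProjLib.isEffCartierIdeal_top)).unique
      (by show (t ≫ θ) ≫ b = jX; rw [Category.assoc, hθ, reassoc_of% ht, hφU])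
      (by show (u ≫ W.ι) ≫ b = jX; rw [Category.assoc, hu])
  -- the closedness of the graph puts the blow-up inside `W`
  let Γ := pullback.lift W.ι ψ hψ
  let χ := pullback.lift θ bV (show θ ≫ b ≫ gX = bV ≫ V.ι ≫ gY by rw [reassoc_of% hθ, hφ])
  have htχ : t ≫ χ = u ≫ Γ := by
    apply pullback.hom_ext
    · simp only [Γ, χ, Category.assoc, pullback.lift_fst, htθ]
    · simp only [Γ, χ, Category.assoc, pullback.lift_snd, ht, hψU]
  have hθW : Set.range θ ⊆ Set.range W.ι := by
    rintro _ ⟨z, rfl⟩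
    have hz : χ z ∈ Set.range Γ := by
      refine closure_minimal ?_ hψcl (image_closure_subset_closure_image χ.continuous
        ⟨z, t.denseRange z, rfl⟩)
      rintro _ ⟨_, ⟨x, rfl⟩, rfl⟩
      exact ⟨u x, show Γ (u x) = χ (t x) by rw [← Scheme.Hom.comp_apply, ← Scheme.Hom.comp_apply, htχ]⟩
    obtain ⟨w, hw⟩ := hz
    refine ⟨w, ?_⟩
    have h := congrArg (pullback.fst (b ≫ gX) (V.ι ≫ gY)) hw
    simp only [Γ, χ, ← Scheme.Hom.comp_apply, pullback.lift_fst] at h
    exact h
  let θ' := IsOpenImmersion.lift W.ι θ hθW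
  have hθ' : θ' ≫ W.ι = θ := IsOpenImmersion.lift_fac _ _ _
  have htθ' : t ≫ θ' = u := by rw [← cancel_mono W.ι, Category.assoc, hθ', htθ]
  have hθψ : θ' ≫ ψ = bV := by
    haveI : IsSeparated (V.ι ≫ gY) := inferInstance
    refine FlatMor12.RegularExtend.ext_of_isSchemeTheoreticallyDominant (V.ι ≫ gY) ?_ t ?_
    · rw [Category.assoc, ← hψ, reassoc_of% hθ', reassoc_of% hθ, hφ]
    · rw [reassoc_of% htθ', hψU, ht]
  have hθη : θ' ≫ η = 𝟙 V' := (hbV.2 V' bV hbV.1).unique
    (by show (θ' ≫ η) ≫ bV = bV; rw [Category.assoc, hη, hθψ]) (Category.id_comp bV)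
  have hηθ : η ≫ θ' = 𝟙 (W : Scheme.{u}) := by
    rw [← cancel_mono W.ι, Category.assoc, hθ', Category.id_comp]
    exact (hb.2 _ (W.ι ≫ b) (by
      rw [Scheme.IdealSheafData.comap_comp]
      exact SDiv28.isEffCartier_comap_of_flat hb.1 W.ι)).unique
      (by show (η ≫ θ) ≫ b = W.ι ≫ b; rw [Category.assoc, hθ, reassoc_of% hη, hWb]) rfl
  have hblow : BlowUp.IsBlowUp ψ J := by
    refine ⟨hWc, fun T g hg => ?_⟩
    obtain ⟨h, hh, huniq⟩ := hbV.2 T g hg
    refine ⟨h ≫ θ', by show (h ≫ θ') ≫ ψ = g; rw [Category.assoc, hθψ, hh], fun k hk => ?_⟩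
    have : k ≫ η = h := huniq _ (by show (k ≫ η) ≫ bV = g; rw [Category.assoc, hη]; exact hk)
    rw [← this, Category.assoc, hηθ, Category.comp_id]
  refine ⟨hblow, ?_⟩
  -- the graph over `Y`
  let ν : pullback (b ≫ gX) (V.ι ≫ gY) ⟶ pullback (b ≫ gX) gY :=
    pullback.map _ _ _ _ (𝟙 _) V.ι (𝟙 _) (by simp) (by simp)
  let μ : pullback (b ≫ gX) gY ⟶ pullback gY gX :=
    pullback.lift (pullback.snd _ _) (pullback.fst _ _ ≫ b) (by rw [Category.assoc, pullback.condition])
  have hcomm : W.ι ≫ b ≫ gX = (ψ ≫ V.ι) ≫ gY := hψ.trans (Category.assoc ψ V.ι gY).symm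
  have he : pullback.lift (f := b ≫ gX) (g := gY) W.ι (ψ ≫ V.ι) hcomm = Γ ≫ ν := by
    apply pullback.hom_ext
    · simp only [Γ, ν, pullback.map, Category.assoc, Category.comp_id]
      erw [pullback.lift_fst, pullback.lift_fst, pullback.lift_fst]
    · simp only [Γ, ν, pullback.map, Category.assoc, Category.comp_id]
      erw [pullback.lift_snd, pullback.lift_snd, pullback.lift_snd_assoc]
  have hrange : Set.range (Γ ≫ ν) = ν '' Set.range Γ := by
    rw [← Set.range_comp]; rfl
  change IsClosed (Set.range (pullback.lift (f := b ≫ gX) (g := gY) W.ι (ψ ≫ V.ι) hcomm))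
  rw [he, hrange, ← closure_subset_iff_isClosed]
  intro z hz
  have hzT : μ z ∈ Set.range (pullback.lift V.ι φ hφ) := by
    refine closure_minimal ?_ (hφcl.preimage μ.continuous) hz
    rintro _ ⟨_, ⟨x, rfl⟩, rfl⟩
    refine ⟨ψ x, ?_⟩
    show pullback.lift V.ι φ hφ (ψ x) = μ (ν (Γ x))
    rw [← Scheme.Hom.comp_apply, ← Scheme.Hom.comp_apply, ← Scheme.Hom.comp_apply]
    suffices e : ψ ≫ pullback.lift V.ι φ hφ = Γ ≫ ν ≫ μ by rw [e]
    apply pullback.hom_ext
    · simp only [Γ, ν, μ, pullback.map, Category.assoc, Category.comp_id]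
      erw [pullback.lift_fst, pullback.lift_fst, pullback.lift_snd, pullback.lift_snd_assoc]
    · simp only [Γ, ν, μ, Category.assoc, pullback.lift_snd, pullback.map, pullback.lift_fst_assoc,
        Category.comp_id, Category.id_comp]
      exact hWb.symm
  have hzV : pullback.snd (b ≫ gX) gY z ∈ Set.range V.ι := by
    obtain ⟨v, hv⟩ := hzT
    refine ⟨v, ?_⟩
    have h := congrArg (pullback.fst gY gX) hv
    simp only [μ, ← Scheme.Hom.comp_apply, pullback.lift_fst] at h
    exact h
  obtain ⟨z', rfl⟩ : z ∈ Set.range ν := by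
    rw [Scheme.Pullback.range_map]
    exact ⟨⟨pullback.fst (b ≫ gX) gY z, rfl⟩, hzV⟩
  refine ⟨z', ?_, rfl⟩
  rw [← hψcl.closure_eq, ν.isOpenEmbedding.isInducing.closure_eq_preimage_closure_image]
  exact hz

end Groth.Agent.S17390
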