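import Groth.Statements.S17394
import Groth.Agent.FlatMorAdm.SeparateFamily

set_option autoImplicit false
universe u
open FlatMor
set_option backward.isDefEq.respectTransparency.types false

namespace Groth.Agent.S17394

open AlgebraicGeometry CategoryTheory Limits in
/-- Let S be a quasi-compact quasi-separated scheme, X → S separated of finite type, and for i = 1, …, m
let X̄_i → S be proper, o_i : X_i → X̄_i a quasi-compact open immersion and q_i : X_i → X a proper
S-morphism; let U be a scheme with quasi-compact open immersions jU : U → X and v_i : U → X_i such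
that v_i ≫ q_i = jU, with U dense in X, in each X_i and in each X̄_i (via v_i ≫ o_i). Let Y_i ⊆ X_i
be closed subschemes of finite presentation. Let Ū ⊆ X̄_1 ×_S ⋯ ×_S X̄_m be the closure of the image
of U (the scheme-theoretic closure, the morphism being quasi-compact) with projections π_i : Ū →
X̄_i, and assume ⋂_i π_i⁻¹(Y_i) = ∅. Then there are blowing ups c_i : X̄_i' → X̄_i in quasi-coherent
ideals of finite type with support disjoint from X_i (X_i-admissible), with the lifts v_i' : U →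
X̄_i' of v_i ≫ o_i, such that, writing Ū' for the closure of the image of U in X̄_1' ×_S ⋯ ×_S X̄_m'
with projections π_i' and Ȳ_i' for the closure in X̄_i' of c_i⁻¹(Y_i), one has ⋂_i (π_i')⁻¹(Ȳ_i') =
∅. -/
theorem result
    {S X U : Scheme.{u}} [CompactSpace S] [QuasiSeparatedSpace S] {m : ℕ}
    (gX : X ⟶ S) [IsSeparated gX] [QuasiCompact gX] [LocallyOfFiniteType gX]
    (Xi Xb : Fin m → Scheme.{u}) (gb : ∀ i, Xb i ⟶ S) [∀ i, IsProper (gb i)]
    (o : ∀ i, Xi i ⟶ Xb i) [∀ i, IsOpenImmersion (o i)] [∀ i, QuasiCompact (o i)]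
    (q : ∀ i, Xi i ⟶ X) [∀ i, IsProper (q i)] (hq : ∀ i, q i ≫ gX = o i ≫ gb i)
    (jU : U ⟶ X) [IsOpenImmersion jU] [QuasiCompact jU] [IsDominant jU]
    (v : ∀ i, U ⟶ Xi i) [∀ i, IsOpenImmersion (v i)] [∀ i, QuasiCompact (v i)] [∀ i, IsDominant (v i)]
    [∀ i, IsDominant (v i ≫ o i)]
    (hv : ∀ i, v i ≫ q i = jU) (w : ∀ i, (v i ≫ o i) ≫ gb i = jU ≫ gX)
    (Y : ∀ i, (Xi i).IdealSheafData) (hY : ∀ i, BlowUp.IsFiniteTypeIdeal (Y i))
    (hempty : ∀ z ∈ closure (Set.range (fun x => (WidePullback.lift (jU ≫ gX) (fun i => v i ≫ o i) w) x)),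
      ∃ i, (WidePullback.π gb i) z ∉ (fun x => o i x) '' ((Y i).support : Set (Xi i))) :
    ∃ (𝓔 : ∀ i, (Xb i).IdealSheafData) (Xb' : Fin m → Scheme.{u}) (c : ∀ i, Xb' i ⟶ Xb i)
      (v' : ∀ i, U ⟶ Xb' i) (w' : ∀ i, v' i ≫ c i ≫ gb i = jU ≫ gX),
      (∀ i, BlowUp.IsBlowUp (c i) (𝓔 i) ∧ BlowUp.IsAdmissibleFor (o i).opensRange (𝓔 i) ∧
        v' i ≫ c i = v i ≫ o i) ∧
      ∀ z ∈ closure (Set.range (fun x => (WidePullback.lift (jU ≫ gX) (fun i => v' i) w') x)),
        ∃ i, (WidePullback.π (fun i => c i ≫ gb i) i) z ∉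
          closure ((fun y => c i y) ⁻¹' ((fun x => o i x) '' ((Y i).support : Set (Xi i)))) := by
  classical
  haveI : ∀ i, CompactSpace (Xb i) := fun i => QuasiCompact.compactSpace_of_compactSpace (gb i)
  haveI : ∀ i, QuasiSeparatedSpace (Xb i) := fun i => quasiSeparatedSpace_of_quasiSeparated (gb i)
  haveI : CompactSpace X := QuasiCompact.compactSpace_of_compactSpace gX
  haveI : ∀ i, CompactSpace (Xi i) := fun i => QuasiCompact.compactSpace_of_compactSpace (q i)
  haveI : CompactSpace (widePullback S Xb gb : Scheme.{u}) := FlatMorAdm.compactSpace_widePullback gb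
  set σ := WidePullback.lift (arrows := gb) (jU ≫ gX) (fun i => v i ≫ o i) w with hσ
  have hσπ : ∀ i, σ ≫ WidePullback.π gb i = v i ≫ o i := fun i => WidePullback.lift_π _ _ _ _ i
  set V : ∀ i, (Xb i).Opens := fun i => (o i).opensRange with hV
  have hVc : ∀ i, IsCompact (V i : Set (Xb i)) := fun i => isCompact_range (o i).continuous
  set Z : ∀ i, Set (Xb i) := fun i => (o i '' ((Y i).support : Set (Xi i))ᶜ)ᶜ with hZdef
  have hZ : ∀ i, IsClosed (Z i) := fun i =>
    ((o i).isOpenEmbedding.isOpenMap _ (Y i).support.isClosed.isOpen_compl).isClosed_compl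
  have hsc : ∀ i, IsCompact ((Y i).support : Set (Xi i))ᶜ := by
    intro i
    obtain ⟨t, ht, hcov⟩ : ∃ t : Set (Xi i).affineOpens, t.Finite ∧
        ∀ x, ∃ U ∈ t, x ∈ (U : (Xi i).affineOpens).1 := by
      have hloc : ∀ x : Xi i, ∃ U : (Xi i).affineOpens, x ∈ U.1 := fun x => by
        obtain ⟨U, hU, hxU, -⟩ := exists_isAffineOpen_mem_and_subset
          (show x ∈ (⊤ : (Xi i).Opens) from trivial)
        exact ⟨⟨U, hU⟩, hxU⟩
      choose U hU using hloc
      obtain ⟨t, ht⟩ := isCompact_univ.elim_finite_subcover (fun x => ((U x).1 : Set (Xi i)))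
        (fun x => (U x).1.2) (fun x _ => Set.mem_iUnion.2 ⟨x, hU x⟩)
      exact ⟨U '' t, t.finite_toSet.image U, fun x => by
        obtain ⟨y, hy, hxy⟩ := Set.mem_iUnion₂.1 (ht (Set.mem_univ x))
        exact ⟨U y, ⟨y, hy, rfl⟩, hxy⟩⟩
    have heq : ((Y i).support : Set (Xi i))ᶜ =
        ⋃ U ∈ t, (U.1 : Set (Xi i)) \ ((Y i).support : Set (Xi i)) := by
      ext x
      simp only [Set.mem_compl_iff, Set.mem_iUnion, Set.mem_sdiff]
      exact ⟨fun hx => by obtain ⟨U, hU, hxU⟩ := hcov x; exact ⟨U, hU, hxU, hx⟩,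
        fun ⟨U, _, _, hx⟩ => hx⟩
    rw [heq]
    refine ht.isCompact_biUnion fun U _ => ?_
    obtain ⟨G, hG⟩ := hY i U
    have : (U.1 : Set (Xi i)) \ ((Y i).support : Set (Xi i)) =
        ⋃ g ∈ (G : Set Γ(Xi i, U.1)), ((Xi i).basicOpen g : Set (Xi i)) := by
      rw [← Set.sdiff_inter_self_eq_sdiff, Scheme.IdealSheafData.coe_support_inter, ← hG,
        Set.sdiff_inter_self_eq_sdiff]
      ext x
      constructor
      · rintro ⟨_, hx⟩
        rw [Scheme.zeroLocus_span, Scheme.mem_zeroLocus_iff] at hx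
        push_neg at hx
        obtain ⟨g, hg, hxg⟩ := hx
        exact Set.mem_iUnion₂.2 ⟨g, hg, hxg⟩
      · intro hx
        obtain ⟨g, hg, hxg⟩ := Set.mem_iUnion₂.1 hx
        refine ⟨(Xi i).basicOpen_le g hxg, fun h => ?_⟩
        rw [Scheme.zeroLocus_span, Scheme.mem_zeroLocus_iff] at h
        exact h g hg hxg
    rw [this]
    exact G.finite_toSet.isCompact_biUnion fun g _ => (U.2.basicOpen g).isCompact
  have hZc : ∀ i, IsCompact (Z i)ᶜ := fun i => by
    rw [hZdef, compl_compl]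
    exact (hsc i).image (o i).continuous
  have hZV : ∀ i, Z i ∩ (V i : Set (Xb i)) = o i '' ((Y i).support : Set (Xi i)) := by
    intro i
    ext y
    constructor
    · rintro ⟨hy, x, rfl⟩
      exact ⟨x, not_not.1 fun h => hy ⟨x, h, rfl⟩, rfl⟩
    · rintro ⟨x, hx, rfl⟩
      exact ⟨fun ⟨x', hx', he⟩ => hx' ((o i).isOpenEmbedding.injective he ▸ hx), x, rfl⟩
  set Ub : Set (widePullback S Xb gb : Scheme.{u}) := closure (Set.range σ) with hUb
  have hVV : ∀ i j, ∀ z ∈ Ub, WidePullback.π gb j z ∈ V j → WidePullback.π gb i z ∈ V i := by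
    intro i j z hz hzj
    have hq' : ∀ k, ((o k).isoOpensRange.inv ≫ q k) ≫ gX = (o k).opensRange.ι ≫ gb k := fun k => by
      rw [Category.assoc, hq, Scheme.Hom.isoOpensRange_inv_comp_assoc]
    have hd : ∀ k, (v k ≫ (o k).isoOpensRange.hom) ≫ (o k).opensRange.ι = σ ≫ WidePullback.π gb k :=
      fun k => by rw [Category.assoc, Scheme.Hom.isoOpensRange_hom_ι, hσπ]
    obtain ⟨v₁, -, hv₁, -, -⟩ := FlatMorAdm.exists_eq_of_mem_closure gX (gb i) (gb j) (V i)
      ((o i).isoOpensRange.inv ≫ q i) (hq' i) (V j) ((o j).isoOpensRange.inv ≫ q j) (hq' j)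
      (WidePullback.π gb i) (WidePullback.π gb j) (by rw [WidePullback.π_arrow, WidePullback.π_arrow]) σ
      (v i ≫ (o i).isoOpensRange.hom) (v j ≫ (o j).isoOpensRange.hom) (hd i) (hd j)
      (by simp [hv]) z hz hzj
    rw [← hv₁]
    exact v₁.2
  set O : Set (widePullback S Xb gb : Scheme.{u}) :=
    Ub ∩ ⋂ i, WidePullback.π gb i ⁻¹' (V i : Set (Xb i)) with hO
  obtain ⟨E, hE, hmain⟩ := FlatMorAdm.exists_separated_family Xb (fun i => WidePullback.π gb i) V hVc Z
    hZ hZc Ub O (fun i z hz => Set.mem_iInter.1 hz.2 i)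
    (fun i z hz => ⟨hz.1, Set.mem_iInter.2 fun j => hVV j i z hz.1 hz.2⟩) Finset.univ Ub
    isClosed_closure subset_rfl (fun z hz => by
      obtain ⟨i, hi⟩ := hempty z hz.1
      exact ⟨i, Finset.mem_univ i, fun h => hi ((hZV i).le ⟨h, Set.mem_iInter.1 hz.2.2 i⟩)⟩)
  have hex : ∀ i, ∃ (X' : Scheme.{u}) (c : X' ⟶ Xb i) (v' : U ⟶ X'),
      BlowUp.IsBlowUp c (E i) ∧ v' ≫ c = v i ≫ o i := by
    intro i
    obtain ⟨X', c, hc⟩ := BlowUpLib.exists_isBlowUp (I := E i)
    obtain ⟨v', hv', -⟩ := FlatMorAdm.exists_lift_of_isIso c (V i)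
      (ProjLib.isIso_morphismRestrict hc (V i) (hE i).2) (v i ≫ o i) (by
        rintro _ ⟨x, rfl⟩
        exact ⟨v i x, rfl⟩)
    exact ⟨X', c, v', hc, hv'⟩
  choose Xb' c v' hc hv' using hex
  have w' : ∀ i, v' i ≫ c i ≫ gb i = jU ≫ gX := fun i => by rw [reassoc_of% hv' i, ← w i, Category.assoc]
  refine ⟨E, Xb', c, v', w', fun i => ⟨hc i, hE i, hv' i⟩, fun z hz => ?_⟩
  let μ : widePullback S Xb' (fun i => c i ≫ gb i) ⟶ widePullback S Xb gb :=
    WidePullback.lift (WidePullback.base _) (fun i => WidePullback.π (fun i => c i ≫ gb i) i ≫ c i)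
      (fun i => by rw [Category.assoc]; exact WidePullback.π_arrow (fun i => c i ≫ gb i) i)
  have hμ : ∀ i, μ ≫ WidePullback.π gb i = WidePullback.π (fun i => c i ≫ gb i) i ≫ c i := fun i =>
    WidePullback.lift_π _ _ _ _ i
  obtain ⟨i, -, hi⟩ := hmain Xb' c (fun i _ => hc i) _ μ _ hμ z (by
    refine closure_mono ?_ hz
    rintro _ ⟨x, rfl⟩
    have e : μ (WidePullback.lift (jU ≫ gX) (fun i => v' i) w' x) = σ x := by
      suffices he : WidePullback.lift (jU ≫ gX) (fun i => v' i) w' ≫ μ = σ by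
        rw [← Scheme.Hom.comp_apply, he]
      apply WidePullback.hom_ext
      · intro i
        rw [Category.assoc, hμ, WidePullback.lift_π_assoc, hv', hσπ]
      · rw [Category.assoc, WidePullback.lift_base, WidePullback.lift_base, hσ,
          WidePullback.lift_base]
    refine ⟨?_, ?_⟩
    · show μ _ ∈ Ub
      rw [e]
      exact subset_closure ⟨x, rfl⟩
    · show μ _ ∈ O
      rw [e]
      refine ⟨subset_closure ⟨x, rfl⟩, Set.mem_iInter.2 fun j => ?_⟩
      show WidePullback.π gb j (σ x) ∈ V j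
      rw [← Scheme.Hom.comp_apply, hσπ]
      exact ⟨v j x, rfl⟩)
  refine ⟨i, ?_⟩
  rw [hZV i] at hi
  exact hi

end Groth.Agent.S17394
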