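import Groth.Statements.S17409
import Mathlib

set_option linter.all false

set_option autoImplicit false
universe u
open Prym5

open TensorProduct Matrix

namespace Groth.Agent.S17409

theorem in_m {K : Type u} [Field K] {σ : Type} (P : MvPolynomial σ K) :
    P ∈ Ideal.span (Set.range (MvPolynomial.X : σ → MvPolynomial σ K)) ↔ MvPolynomial.constantCoeff P = 0 := by
  have hP : ∀ P : MvPolynomial σ K, P - MvPolynomial.C (MvPolynomial.constantCoeff P) ∈
      Ideal.span (Set.range (MvPolynomial.X : σ → MvPolynomial σ K)) := by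
    intro P
    induction P using MvPolynomial.induction_on with
    | C c => simp
    | add p q hp hq => rw [map_add, map_add, add_sub_add_comm]; exact add_mem hp hq
    | mul_X p i _ =>
      simp only [map_mul, MvPolynomial.constantCoeff_X, mul_zero, map_zero, sub_zero]
      exact Ideal.mul_mem_left _ _ (Ideal.subset_span ⟨i, rfl⟩)
  refine ⟨fun h => ?_, fun h => by simpa [h] using hP P⟩
  have : Ideal.span (Set.range (MvPolynomial.X : σ → MvPolynomial σ K)) ≤ RingHom.ker MvPolynomial.constantCoeff :=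
    Ideal.span_le.2 (by rintro _ ⟨i, rfl⟩; simp)
  exact this h

theorem surf_sing_iff {K : Type u} [Field K] (h2 : (2 : K) ≠ 0) (G₂ G₃ G₄ : MvPolynomial (Fin 2) K) :
    MvPolynomial.rename (Fin.castSucc : Fin 2 → Fin 3) G₂ * MvPolynomial.X (2 : Fin 3) ^ 2
        + 2 * MvPolynomial.rename (Fin.castSucc : Fin 2 → Fin 3) G₃ * MvPolynomial.X (2 : Fin 3)
        + MvPolynomial.rename (Fin.castSucc : Fin 2 → Fin 3) G₄
        ∈ (Ideal.span (Set.range (MvPolynomial.X : Fin 3 → MvPolynomial (Fin 3) K))) ^ 2 ↔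
      G₃ ∈ Ideal.span (Set.range (MvPolynomial.X : Fin 2 → MvPolynomial (Fin 2) K)) ∧
      G₄ ∈ (Ideal.span (Set.range (MvPolynomial.X : Fin 2 → MvPolynomial (Fin 2) K))) ^ 2 := by
  set m := Ideal.span (Set.range (MvPolynomial.X : Fin 2 → MvPolynomial (Fin 2) K)) with hm
  set M := Ideal.span (Set.range (MvPolynomial.X : Fin 3 → MvPolynomial (Fin 3) K)) with hM
  constructor
  · intro h
    let ψ : MvPolynomial (Fin 3) K →ₐ[K] MvPolynomial (Fin 2) K :=
      MvPolynomial.aeval ![MvPolynomial.X 0, MvPolynomial.X 1, 0]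
    have hψr : ∀ G, ψ (MvPolynomial.rename (Fin.castSucc : Fin 2 → Fin 3) G) = G := by
      intro G
      rw [MvPolynomial.aeval_rename]
      conv_rhs => rw [← MvPolynomial.aeval_X_left_apply G]
      congr 2; funext i; fin_cases i <;> rfl
    have hψM : M.map ψ ≤ m := by
      rw [hM, Ideal.map_span, Ideal.span_le]
      rintro _ ⟨_, ⟨i, rfl⟩, rfl⟩
      fin_cases i <;> simp [ψ] <;> exact Ideal.subset_span ⟨_, rfl⟩
    let χ : MvPolynomial (Fin 3) K →ₐ[K] Polynomial K := MvPolynomial.aeval ![0, 0, Polynomial.X]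
    have hχr : ∀ G, χ (MvPolynomial.rename (Fin.castSucc : Fin 2 → Fin 3) G) =
        Polynomial.C (MvPolynomial.constantCoeff G) := by
      intro G
      rw [MvPolynomial.aeval_rename, show (![0, 0, Polynomial.X] : Fin 3 → Polynomial K) ∘ Fin.castSucc = 0 by
        funext i; fin_cases i <;> rfl, MvPolynomial.aeval_zero]
      rfl
    have hχM : M.map χ ≤ Ideal.span {Polynomial.X} := by
      rw [hM, Ideal.map_span, Ideal.span_le]
      rintro _ ⟨_, ⟨i, rfl⟩, rfl⟩
      fin_cases i <;> simp [χ]
    refine ⟨?_, ?_⟩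
    · have h' : χ _ ∈ (Ideal.span {Polynomial.X}) ^ 2 :=
        (Ideal.pow_right_mono hχM 2) (by rw [← Ideal.map_pow]; exact Ideal.mem_map_of_mem χ h)
      rw [Ideal.span_singleton_pow, Ideal.mem_span_singleton, Polynomial.X_pow_dvd_iff] at h'
      have := h' 1 one_lt_two
      simp only [map_add, map_mul, map_pow, map_ofNat, hχr] at this
      rw [show χ (MvPolynomial.X 2) = Polynomial.X by simp [χ]] at this
      rw [hm, in_m]
      simp [Polynomial.coeff_X_pow, Polynomial.coeff_C, Polynomial.coeff_ofNat_mul] at this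
      exact this.resolve_left h2
    · have h' : ψ _ ∈ m ^ 2 := (Ideal.pow_right_mono hψM 2) (by rw [← Ideal.map_pow]; exact Ideal.mem_map_of_mem ψ h)
      simp only [map_add, map_mul, map_pow, map_ofNat, hψr] at h'
      rw [show ψ (MvPolynomial.X 2) = 0 by simp [ψ]] at h'
      simpa using h'
  · rintro ⟨h3, h4⟩
    have hr : m.map (MvPolynomial.rename (Fin.castSucc : Fin 2 → Fin 3)) ≤ M := by
      rw [hm, Ideal.map_span, Ideal.span_le]
      rintro _ ⟨_, ⟨i, rfl⟩, rfl⟩
      simp only [MvPolynomial.rename_X, SetLike.mem_coe]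
      exact Ideal.subset_span ⟨_, rfl⟩
    have hz : MvPolynomial.X (2 : Fin 3) ∈ M := Ideal.subset_span ⟨_, rfl⟩
    refine add_mem (add_mem (Ideal.mul_mem_left _ _ (Ideal.pow_mem_pow hz 2)) ?_) ?_
    · rw [mul_assoc, pow_two]
      exact Ideal.mul_mem_left _ _ (Ideal.mul_mem_mul (hr (Ideal.mem_map_of_mem _ h3)) hz)
    · exact (Ideal.pow_right_mono hr 2) (by rw [← Ideal.map_pow]; exact Ideal.mem_map_of_mem _ h4)

/-- Over a perfect field K of characteristic different from 2 and 3, let G₂, G₃, G₄ be polynomials in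
two variables x, y and consider G₂ z² + 2 G₃ z + G₄ as a polynomial in the three variables x, y, z.
If it lies in the square of the ideal (x, y, z) — the surface it defines has a double point at the
origin — then the discriminant G₃² − G₂ G₄ lies in the square of the ideal (x, y) of K[x, y], so the
plane curve G₃² − G₂ G₄ = 0 is singular at the origin. (This is the affine-local form used in the
published proof: the surface is a quartic with a node at the centre of projection placed at infinity
on the z-axis, and the curve is the branch sextic of that projection.) -/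
theorem result (K : Type u) [Field K] [PerfectField K]
    (h2 : (2 : K) ≠ 0) (h3 : (3 : K) ≠ 0) (G₂ G₃ G₄ : MvPolynomial (Fin 2) K)
    (h : MvPolynomial.rename (Fin.castSucc : Fin 2 → Fin 3) G₂ * MvPolynomial.X (2 : Fin 3) ^ 2
        + 2 * MvPolynomial.rename (Fin.castSucc : Fin 2 → Fin 3) G₃ * MvPolynomial.X (2 : Fin 3)
        + MvPolynomial.rename (Fin.castSucc : Fin 2 → Fin 3) G₄
        ∈ (Ideal.span (Set.range (MvPolynomial.X : Fin 3 → MvPolynomial (Fin 3) K))) ^ 2) :
    G₃ ^ 2 - G₂ * G₄ ∈ (Ideal.span (Set.range (MvPolynomial.X : Fin 2 → MvPolynomial (Fin 2) K))) ^ 2 := by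
  obtain ⟨e3, e4⟩ := (surf_sing_iff h2 G₂ G₃ G₄).1 h
  exact sub_mem (Ideal.pow_mem_pow e3 2) (Ideal.mul_mem_left _ _ e4)

end Groth.Agent.S17409
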