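import Groth.Statements.S1741
import Groth.Agent.CAlgH3.TorExtMap
-- import your own Groth.Agent.* helpers here

set_option autoImplicit false
universe u
open CategoryTheory
attribute [local instance] HasDerivedCategory.standard
open LocCoh

namespace Groth.Agent.S1741

/-- Equivalence of (4) and (7) in the Noetherian case. Let R be a Noetherian ring, α : M → M' a map of
R-modules with M finite, and e ≥ 0. Then precomposition with α kills all classes in Ext^{e+1}(M', N)
(maps M' → N[e+1] in D(R)) for every module N if and only if the map Tor_{e+1}(M, N) → Tor_{e+1}(M',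
N) induced by α is zero for every module N. -/
theorem result (R : Type u) [CommRing R] [IsNoetherianRing R] (M M' : Type u) [AddCommGroup M] [Module R M] [Module.Finite R M] [AddCommGroup M'] [Module R M'] (α : M →ₗ[R] M') (e : ℕ) : (∀ (N : Type u) [AddCommGroup N] [Module R N] (φ : Dual.inD R M' ⟶ (Dual.inD R N)⟦((e : ℤ) + 1)⟧), (DerivedCategory.singleFunctor (ModuleCat.{u} R) 0).map (ModuleCat.ofHom α) ≫ φ = 0) ↔ (∀ (N : Type u) [AddCommGroup N] [Module R N], ((CategoryTheory.Tor (ModuleCat.{u} R) (e + 1)).map (ModuleCat.ofHom α)).app (ModuleCat.of R N) = 0) := by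
  open Groth.Agent.CAlgH3.TorExtMap in
    haveI : Module.Finite R (ModuleCat.of R M) := inferInstanceAs (Module.Finite R M)
    refine Iff.trans ?_ ((e_iff_z e (ModuleCat.of R M) (ModuleCat.of R M') (ModuleCat.ofHom α)).trans
      ⟨fun h N _ _ => (tor_map_eq_zero_iff _ _ e).2 (h (ModuleCat.of R N)),
        fun h N => (tor_map_eq_zero_iff (ModuleCat.ofHom α) N e).1 (h N)⟩)
    have hn : ((e + 1 : ℕ) : ℤ) = (e : ℤ) + 1 := by push_cast; ring
    constructor
    · intro h N x
      apply Abelian.Ext.ext
      rw [Abelian.Ext.comp_hom, Abelian.Ext.mk₀_hom, Abelian.Ext.zero_hom, ShiftedHom.mk₀_comp]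
      have key : ∀ (n : ℤ), n = (e : ℤ) + 1 → ∀ φ : ShiftedHom (Dual.inD R M') (Dual.inD R N) n,
          (DerivedCategory.singleFunctor (ModuleCat.{u} R) 0).map (ModuleCat.ofHom α) ≫ φ = 0 := by
        rintro _ rfl φ
        exact h N φ
      exact key _ hn x.hom
    · intro h N _ _ φ
      have key : ∀ (n : ℤ), n = (e : ℤ) + 1 → (∀ φ : ShiftedHom (Dual.inD R M') (Dual.inD R N) n,
          (DerivedCategory.singleFunctor (ModuleCat.{u} R) 0).map (ModuleCat.ofHom α) ≫ φ = 0) →
          (DerivedCategory.singleFunctor (ModuleCat.{u} R) 0).map (ModuleCat.ofHom α) ≫ φ = 0 := by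
        rintro _ rfl h
        exact h φ
      refine key _ hn fun ψ => ?_
      have e' := congrArg Abelian.Ext.hom (h (ModuleCat.of R N) (Abelian.Ext.homEquiv.symm ψ))
      rw [Abelian.Ext.comp_hom, Abelian.Ext.mk₀_hom, Abelian.Ext.zero_hom, ShiftedHom.mk₀_comp] at e'
      unfold Abelian.Ext.hom at e'
      rw [Equiv.apply_symm_apply] at e'
      exact e'

end Groth.Agent.S1741
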