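import Groth.Statements.S17410
import Mathlib
-- import your own Groth.Agent.* helpers here

set_option autoImplicit false
universe u
open Prym5

namespace Groth.Agent.S17410

/-- Over a perfect field K of characteristic different from 2 and 3, let h be an irreducible polynomial
of degree 2 in the variable z with coefficients in K[x, y] and A = K[x, y][z]/(h). For every
multiplicative subset S of K[x, y], the localisation S⁻¹A is integral over S⁻¹K[x, y] if and only if
the leading coefficient of h is invertible in S⁻¹K[x, y]; and K(x, y) ⊗ A is a K(x, y)-vector space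
of dimension 2. (Geometrically: for a quartic surface with an ordinary double point, written u₂ x₃²
+ 2 u₃ x₃ + u₄ = 0 with the node at (0:0:0:1), the projection from the node restricted to a standard
affine chart of the plane is given by such an algebra A with leading coefficient the dehomogenised
u₂, so the projection is finite of degree two exactly over the locus u₂ ≠ 0. Stated for any
irreducible h of degree 2, which is all the argument uses.) -/
theorem result (K : Type u) [Field K]
    [PerfectField K] (h2 : (2 : K) ≠ 0) (h3 : (3 : K) ≠ 0)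
    (h : Polynomial (MvPolynomial (Fin 2) K)) (hirr : Irreducible h) (hdeg : h.natDegree = 2)
    (S : Submonoid (MvPolynomial (Fin 2) K)) :
    (Algebra.IsIntegral (Localization S) (Localization (Algebra.algebraMapSubmonoid (AdjoinRoot h) S))
        ↔ IsUnit (algebraMap (MvPolynomial (Fin 2) K) (Localization S) h.leadingCoeff))
      ∧ Module.finrank (FractionRing (MvPolynomial (Fin 2) K))
          (TensorProduct (MvPolynomial (Fin 2) K) (FractionRing (MvPolynomial (Fin 2) K)) (AdjoinRoot h)) = 2 := by
  classical
  set R := MvPolynomial (Fin 2) K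
  have hh : h.degree ≠ 0 := by
    rw [Polynomial.degree_eq_natDegree hirr.ne_zero, hdeg]; simp
  refine ⟨⟨fun hint => ?_, fun hu => ?_⟩, ?_⟩
  · let r : Localization (Algebra.algebraMapSubmonoid (AdjoinRoot h) S) :=
      algebraMap (AdjoinRoot h) _ (AdjoinRoot.root h)
    obtain ⟨P, hP, hPr⟩ := hint.isIntegral r
    obtain ⟨s, hs⟩ := IsLocalization.integerNormalization_map_to_map S P
    set P₀ := IsLocalization.integerNormalization S P
    have hev : algebraMap (AdjoinRoot h) (Localization (Algebra.algebraMapSubmonoid (AdjoinRoot h) S)) (Polynomial.aeval (AdjoinRoot.root h) P₀) = 0 := by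
      rw [← Polynomial.aeval_algebraMap_apply]
      change Polynomial.aeval r P₀ = 0
      rw [← Polynomial.aeval_map_algebraMap (Localization S), hs]
      have hPr' : Polynomial.aeval r P = 0 := hPr
      rw [Algebra.smul_def, map_mul, hPr', mul_zero]
    obtain ⟨⟨t, ht⟩, ht0⟩ := (IsLocalization.map_eq_zero_iff (Algebra.algebraMapSubmonoid (AdjoinRoot h) S) _ _).1 hev
    obtain ⟨t', ht', rfl⟩ := ht
    change algebraMap R (AdjoinRoot h) t' * Polynomial.aeval (AdjoinRoot.root h) P₀ = 0 at ht0
    rw [← Polynomial.aeval_C (AdjoinRoot.root h) t', ← map_mul, AdjoinRoot.aeval_eq, AdjoinRoot.mk_eq_zero] at ht0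
    rcases hirr.prime.dvd_or_dvd ht0 with hd | hd
    · by_cases ht0' : t' = 0
      · exact isUnit_of_mul_isUnit_left (y := (1 : Localization S)) (by
          haveI : Subsingleton (Localization S) := IsLocalization.subsingleton (ht0' ▸ ht')
          exact isUnit_of_subsingleton _)
      · exact absurd (Polynomial.natDegree_le_of_dvd hd (Polynomial.C_ne_zero.2 ht0')) (by rw [hdeg, Polynomial.natDegree_C]; omega)
    · -- compare leading coefficients
      obtain ⟨Q, hQ⟩ := hd
      have hsu : IsUnit (algebraMap R (Localization S) s) := IsLocalization.map_units _ s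
      have hlc : (P₀.map (algebraMap R (Localization S))).leadingCoeff = algebraMap R (Localization S) s := by
        rcases subsingleton_or_nontrivial (Localization S) with hsub | hnt
        · exact Subsingleton.elim _ _
        rw [hs, Algebra.smul_def, Polynomial.algebraMap_apply, Polynomial.leadingCoeff_mul_monic hP, Polynomial.leadingCoeff_C]
      rcases subsingleton_or_nontrivial (Localization S) with hsub | hnt
      · exact isUnit_of_subsingleton _
      have h0 : (P₀.map (algebraMap R (Localization S))).leadingCoeff ≠ 0 := by rw [hlc]; exact hsu.ne_zero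
      have hS0 : (0 : R) ∉ S := fun h0' => one_ne_zero (α := Localization S) (@Subsingleton.elim _ (IsLocalization.subsingleton h0') _ _)
      have hinjR : Function.Injective (algebraMap R (Localization S)) :=
        IsLocalization.injective _ (le_nonZeroDivisors_of_noZeroDivisors hS0)
      rw [Polynomial.leadingCoeff_map_of_injective hinjR, hQ, Polynomial.leadingCoeff_mul, map_mul] at hlc
      exact isUnit_of_mul_isUnit_left (hlc ▸ hsu)
  · refine ⟨fun z => ?_⟩
    obtain ⟨⟨a, ⟨m, hm⟩⟩, rfl⟩ := IsLocalization.mk'_surjective (Algebra.algebraMapSubmonoid (AdjoinRoot h) S) z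
    obtain ⟨m', hm', rfl⟩ := hm
    let r : Localization (Algebra.algebraMapSubmonoid (AdjoinRoot h) S) :=
      algebraMap (AdjoinRoot h) _ (AdjoinRoot.root h)
    have hr : IsIntegral (Localization S) r := by
      obtain ⟨v, hv⟩ := hu
      refine ⟨Polynomial.C (↑v⁻¹ : Localization S) * h.map (algebraMap R (Localization S)), ?_, ?_⟩
      · refine Polynomial.monic_C_mul_of_mul_leadingCoeff_eq_one ?_
        rcases subsingleton_or_nontrivial (Localization S) with hsub | hnt
        · exact Subsingleton.elim _ _
        rw [Polynomial.leadingCoeff_map_of_leadingCoeff_ne_zero _ (hv ▸ v.ne_zero), ← hv, Units.inv_mul]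
      · show Polynomial.aeval r _ = 0
        rw [map_mul]
        refine mul_eq_zero_of_right _ ?_
        rw [Polynomial.aeval_map_algebraMap]
        simp only [r]
        rw [Polynomial.aeval_algebraMap_apply, AdjoinRoot.aeval_eq, AdjoinRoot.mk_self, map_zero]
    obtain ⟨q, rfl⟩ := AdjoinRoot.mk_surjective a
    have ha : IsIntegral (Localization S) (algebraMap (AdjoinRoot h) (Localization (Algebra.algebraMapSubmonoid (AdjoinRoot h) S)) (AdjoinRoot.mk h q)) := by
      rw [← AdjoinRoot.aeval_eq, ← Polynomial.aeval_algebraMap_apply, ← Polynomial.aeval_map_algebraMap (Localization S)]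
      exact Algebra.adjoin_le (S := integralClosure (Localization S) _) (Set.singleton_subset_iff.2 hr) (Polynomial.aeval_mem_adjoin_singleton _ _)
    have hmu : IsUnit (algebraMap R (Localization S) m') := IsLocalization.map_units _ (⟨m', hm'⟩ : S)
    obtain ⟨w, hw⟩ := hmu
    have hz : IsLocalization.mk' (Localization (Algebra.algebraMapSubmonoid (AdjoinRoot h) S)) (AdjoinRoot.mk h q)
        (⟨algebraMap R (AdjoinRoot h) m', ⟨m', hm', rfl⟩⟩ : Algebra.algebraMapSubmonoid (AdjoinRoot h) S) =
        algebraMap (Localization S) _ (↑w⁻¹ : Localization S) * algebraMap (AdjoinRoot h) _ (AdjoinRoot.mk h q) := by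
      rw [IsLocalization.mk'_eq_iff_eq_mul]
      rw [mul_assoc, mul_comm (algebraMap (AdjoinRoot h) _ (AdjoinRoot.mk h q)), ← mul_assoc,
        ← IsScalarTower.algebraMap_apply R (AdjoinRoot h), IsScalarTower.algebraMap_apply R (Localization S),
        ← map_mul, ← hw, Units.inv_mul, map_one, one_mul]
    show IsIntegral (Localization S) (IsLocalization.mk' _ _ _)
    rw [hz]
    exact isIntegral_algebraMap.mul ha
  · set hK := h.map (algebraMap R (FractionRing R))
    let φ : TensorProduct R (FractionRing R) (AdjoinRoot h) →ₐ[FractionRing R] AdjoinRoot hK :=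
      Algebra.TensorProduct.lift (Algebra.ofId _ _)
        (AdjoinRoot.liftAlgHom h (Algebra.ofId R (AdjoinRoot hK)) (AdjoinRoot.root hK) (by
          show Polynomial.aeval (AdjoinRoot.root hK) h = 0
          rw [← Polynomial.aeval_map_algebraMap (FractionRing R), AdjoinRoot.aeval_eq, AdjoinRoot.mk_self]))
        (fun _ _ => Commute.all _ _)
    let ψ : AdjoinRoot hK →ₐ[FractionRing R] TensorProduct R (FractionRing R) (AdjoinRoot h) :=
      AdjoinRoot.liftAlgHom hK (Algebra.ofId _ _) ((1 : FractionRing R) ⊗ₜ AdjoinRoot.root h) (by
        show Polynomial.aeval _ (h.map (algebraMap R (FractionRing R))) = 0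
        rw [Polynomial.aeval_map_algebraMap, ← Algebra.TensorProduct.includeRight_apply, Polynomial.aeval_algHom_apply,
          AdjoinRoot.aeval_eq, AdjoinRoot.mk_self, map_zero])
    have e : TensorProduct R (FractionRing R) (AdjoinRoot h) ≃ₐ[FractionRing R] AdjoinRoot hK :=
      AlgEquiv.ofAlgHom φ ψ (AdjoinRoot.algHom_ext (by simp [φ, ψ]))
        (Algebra.TensorProduct.ext' fun x y => by
          obtain ⟨q, rfl⟩ := AdjoinRoot.mk_surjective y
          have hy : ψ (AdjoinRoot.liftAlgHom h (Algebra.ofId R (AdjoinRoot hK)) (AdjoinRoot.root hK) (by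
              show Polynomial.aeval (AdjoinRoot.root hK) h = 0
              rw [← Polynomial.aeval_map_algebraMap (FractionRing R), AdjoinRoot.aeval_eq, AdjoinRoot.mk_self]) (AdjoinRoot.mk h q)) =
              (1 : FractionRing R) ⊗ₜ AdjoinRoot.mk h q := by
            have := congrArg (fun f : AdjoinRoot h →ₐ[R] TensorProduct R (FractionRing R) (AdjoinRoot h) => f (AdjoinRoot.mk h q))
              (show (ψ.restrictScalars R).comp (AdjoinRoot.liftAlgHom h (Algebra.ofId R (AdjoinRoot hK)) (AdjoinRoot.root hK) (by
                  show Polynomial.aeval (AdjoinRoot.root hK) h = 0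
                  rw [← Polynomial.aeval_map_algebraMap (FractionRing R), AdjoinRoot.aeval_eq, AdjoinRoot.mk_self])) =
                Algebra.TensorProduct.includeRight from AdjoinRoot.algHom_ext (by simp [ψ]))
            exact this
          show ψ (φ (x ⊗ₜ AdjoinRoot.mk h q)) = x ⊗ₜ AdjoinRoot.mk h q
          simp only [φ, Algebra.TensorProduct.lift_tmul, map_mul, hy, AlgHom.commutes, Algebra.ofId_apply]
          rw [Algebra.TensorProduct.algebraMap_apply, Algebra.TensorProduct.tmul_mul_tmul, one_mul]
          simp)
    rw [e.toLinearEquiv.finrank_eq, (AdjoinRoot.powerBasis ((Polynomial.map_ne_zero_iff (IsFractionRing.injective R (FractionRing R))).2 hirr.ne_zero : hK ≠ 0)).finrank,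
      AdjoinRoot.powerBasis_dim, Polynomial.natDegree_map_eq_of_injective (IsFractionRing.injective R (FractionRing R)), hdeg]

end Groth.Agent.S17410
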