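import Groth.Statements.S17411
import Groth.Agent.DimLib.Morphism
-- import your own Groth.Agent.* helpers here

set_option autoImplicit false
universe u
open CategoryTheory AlgebraicGeometry
open Prym5

namespace Groth.Agent.S17411

/-- Let k be an algebraically closed field of characteristic zero and X, Y, Z schemes of finite type
over k, with Y and Z irreducible of the same dimension, η : Y → Z a dominant k-morphism and ρ : X →
Y a k-morphism. Then the composite ρ ≫ η is dominant exactly when ρ is dominant. (The published
statement concerns the forgetful map from the moduli space of étale double covers of genus-five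
curves to the moduli space of genus-five curves, both irreducible of dimension 12, and a morphism
into the former; its argument uses only the hypotheses kept here.) -/
theorem result (k : Type u) [Field k] [IsAlgClosed k]
    [CharZero k] (X Y Z : Scheme.{u}) [X.Over (Spec (CommRingCat.of k))] [Y.Over (Spec (CommRingCat.of k))]
    [Z.Over (Spec (CommRingCat.of k))]
    [LocallyOfFiniteType (X ↘ Spec (CommRingCat.of k))] [QuasiCompact (X ↘ Spec (CommRingCat.of k))]
    [LocallyOfFiniteType (Y ↘ Spec (CommRingCat.of k))] [QuasiCompact (Y ↘ Spec (CommRingCat.of k))]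
    [LocallyOfFiniteType (Z ↘ Spec (CommRingCat.of k))] [QuasiCompact (Z ↘ Spec (CommRingCat.of k))]
    [IrreducibleSpace Y] [IrreducibleSpace Z] (hdim : topologicalKrullDim Y = topologicalKrullDim Z)
    (ρ : X ⟶ Y) [ρ.IsOver (Spec (CommRingCat.of k))] (η : Y ⟶ Z) [η.IsOver (Spec (CommRingCat.of k))]
    [IsDominant η] :
    IsDominant (ρ ≫ η) ↔ IsDominant ρ := by
  constructor
  · intro hdom
    set f := ρ ≫ η
    haveI : CompactSpace X := QuasiCompact.compactSpace_of_compactSpace (X ↘ Spec (CommRingCat.of k))
    haveI : IsLocallyNoetherian X := LocallyOfFiniteType.isLocallyNoetherian (X ↘ Spec (CommRingCat.of k))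
    haveI : AlgebraicGeometry.IsNoetherian X := {}
    -- some point maps to the generic point of `Z`
    obtain ⟨x, hx⟩ : ∃ x : X, f x = genericPoint Z := by
      obtain ⟨S, hSf, hSc, hSi, hSu⟩ := TopologicalSpace.NoetherianSpace.exists_finite_set_isClosed_irreducible
        (isClosed_univ (X := X))
      haveI := hSf.to_subtype
      have hcl : IsClosed (⋃ s : S, closure {f (hSi s.1 s.2).genericPoint}) :=
        isClosed_iUnion_of_finite fun _ => isClosed_closure
      have hsub : Set.range f ⊆ ⋃ s : S, closure {f (hSi s.1 s.2).genericPoint} := by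
        rintro _ ⟨y, rfl⟩
        have hy : y ∈ ⋃₀ S := hSu ▸ Set.mem_univ y
        obtain ⟨s, hs, hys⟩ := hy
        refine Set.mem_iUnion.2 ⟨⟨s, hs⟩, ?_⟩
        have h1 : y ∈ closure {(hSi s hs).genericPoint} := by
          rw [(hSi s hs).genericPoint_closure_eq]; exact subset_closure hys
        rw [← Set.image_singleton]
        exact image_closure_subset_closure_image f.continuous ⟨y, h1, rfl⟩
      have hd : genericPoint Z ∈ closure (Set.range f) := by
        rw [f.denseRange.closure_eq]; exact Set.mem_univ _
      obtain ⟨s, hs⟩ := Set.mem_iUnion.1 (closure_minimal hsub hcl hd)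
      refine ⟨(hSi s.1 s.2).genericPoint, ?_⟩
      exact ((genericPoint_specializes (f (hSi s.1 s.2).genericPoint)).antisymm
        (specializes_iff_mem_closure.2 hs)).eq.symm
    -- the point `ρ x` has maximal dimension
    have hηo : η ≫ (Z ↘ Spec (CommRingCat.of k)) = Y ↘ Spec (CommRingCat.of k) := comp_over η _
    haveI : LocallyOfFiniteType (η ≫ (Z ↘ Spec (CommRingCat.of k))) := by rw [hηo]; infer_instance
    have h1 := Groth.Agent.DimLib.ptDim_apply_le (Z ↘ Spec (CommRingCat.of k)) η (ρ x)
    have hx' : η (ρ x) = genericPoint Z := by rw [← Scheme.Hom.comp_apply]; exact hx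
    rw [hx', hηo] at h1
    have hY := Groth.Agent.DimLib.topologicalKrullDim_eq_ptDim_genericPoint (Y ↘ Spec (CommRingCat.of k))
    have hZ := Groth.Agent.DimLib.topologicalKrullDim_eq_ptDim_genericPoint (Z ↘ Spec (CommRingCat.of k))
    rw [hY, hZ] at hdim
    norm_cast at hdim
    have hgen : ρ x = genericPoint Y := by
      by_contra hne
      have := Groth.Agent.DimLib.ptDim_lt_of_specializes (Y ↘ Spec (CommRingCat.of k))
        (genericPoint_specializes (ρ x)) (Ne.symm hne)
      omega
    refine ⟨dense_iff_closure_eq.2 (Set.eq_univ_of_univ_subset ?_)⟩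
    rw [← genericPoint_spec Y]
    exact closure_mono (Set.singleton_subset_iff.2 ⟨x, hgen⟩)
  · intro h
    infer_instance

end Groth.Agent.S17411
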