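import Groth.Statements.S17412
import Groth.Agent.ProjLin5.Basic
import Groth.Agent.Clifford24.Main
import Groth.Agent.JacAJ27.Kappa
-- import your own Groth.Agent.* helpers here

set_option autoImplicit false
set_option backward.isDefEq.respectTransparency.types false
universe u
open Groth.Agent
open CategoryTheory CategoryTheory.Limits AlgebraicGeometry
open Prym5

namespace Groth.Agent.S17412

/-- Let k be an algebraically closed field of characteristic zero, g ≥ 3, and X₁, X₂ smooth proper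
integral curves of genus g over k. Suppose each X_j is canonically embedded: i_j : X_j → P^{g-1}_k
is a closed immersion over k, the pullback i_j^* O(1) is isomorphic to the sheaf of differentials of
X_j over k, and X_j lies in no hyperplane (the restriction map from the global sections of O(1) to
those of i_j^* O(1) is injective). Then X₁ and X₂ are isomorphic over k exactly when they are
projectively equivalent: there are a k-automorphism σ of P^{g-1}_k and an isomorphism ψ : X₁ ≅ X₂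
with i₁ ≫ σ = ψ ≫ i₂. (Projective equivalence is expressed through k-automorphisms of the scheme
P^{g-1}_k; that these are exactly the projective linear transformations is classical and not
restated.) -/
theorem result (k : Type u) [Field k] [IsAlgClosed k]
    [CharZero k] (g : ℕ) (hg : 3 ≤ g)
    (X₁ X₂ : Scheme.{u}) [X₁.Over (Spec (CommRingCat.of k))] [X₂.Over (Spec (CommRingCat.of k))]
    [AlgebraicGeometry.IsIntegral X₁] [AlgebraicGeometry.IsIntegral X₂]
    [IsProper (X₁ ↘ Spec (CommRingCat.of k))] [IsProper (X₂ ↘ Spec (CommRingCat.of k))]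
    [Smooth (X₁ ↘ Spec (CommRingCat.of k))] [Smooth (X₂ ↘ Spec (CommRingCat.of k))]
    (hd₁ : topologicalKrullDim X₁ = 1) (hd₂ : topologicalKrullDim X₂ = 1)
    (hg₁ : Curv2.genus k X₁ = g) (hg₂ : Curv2.genus k X₂ = g)
    (i₁ : X₁ ⟶ CohB1.ProjSpace (g - 1) k) (i₂ : X₂ ⟶ CohB1.ProjSpace (g - 1) k)
    [IsClosedImmersion i₁] [IsClosedImmersion i₂]
    (hi₁ : i₁ ≫ CohB1.ProjSpace.toSpec (g - 1) k = X₁ ↘ Spec (CommRingCat.of k))
    (hi₂ : i₂ ≫ CohB1.ProjSpace.toSpec (g - 1) k = X₂ ↘ Spec (CommRingCat.of k))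
    (e₁ : (Scheme.Modules.pullback i₁).obj (Twist.twistProjSpace (g - 1) k 1)
      ≅ Omega.sheaf (X₁ ↘ Spec (CommRingCat.of k)))
    (e₂ : (Scheme.Modules.pullback i₂).obj (Twist.twistProjSpace (g - 1) k 1)
      ≅ Omega.sheaf (X₂ ↘ Spec (CommRingCat.of k)))
    (hnd₁ : Function.Injective
      (((Scheme.Modules.pullbackPushforwardAdjunction i₁).unit.app (Twist.twistProjSpace (g - 1) k 1)).app ⊤))
    (hnd₂ : Function.Injective
      (((Scheme.Modules.pullbackPushforwardAdjunction i₂).unit.app (Twist.twistProjSpace (g - 1) k 1)).app ⊤)) :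
    (∃ φ : X₁ ≅ X₂, φ.hom ≫ (X₂ ↘ Spec (CommRingCat.of k)) = X₁ ↘ Spec (CommRingCat.of k)) ↔
      ∃ (σ : CohB1.ProjSpace (g - 1) k ≅ CohB1.ProjSpace (g - 1) k) (ψ : X₁ ≅ X₂),
        σ.hom ≫ CohB1.ProjSpace.toSpec (g - 1) k = CohB1.ProjSpace.toSpec (g - 1) k ∧
        i₁ ≫ σ.hom = ψ.hom ≫ i₂ := by
  obtain ⟨n, rfl⟩ : ∃ n, g = n + 1 := ⟨g - 1, by omega⟩
  constructor
  swap
  · rintro ⟨σ, ψ, hσ, h⟩
    refine ⟨ψ, ?_⟩
    rw [← hi₂, ← reassoc_of% h, hσ, hi₁]
  rintro ⟨φ, hφ⟩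
  haveI : GeometricallyConnected (X₁ ↘ Spec (CommRingCat.of k)) :=
    SGA3cLib.CentralDescent.geometricallyConnected_of_isAlgClosed _
  haveI : GeometricallyConnected (X₂ ↘ Spec (CommRingCat.of k)) :=
    SGA3cLib.CentralDescent.geometricallyConnected_of_isAlgClosed _
  haveI := AbVarLib.geometricallyIntegral_of_smooth (X₁ ↘ Spec (CommRingCat.of k))
  haveI := AbVarLib.geometricallyIntegral_of_smooth (X₂ ↘ Spec (CommRingCat.of k))
  -- the linear forms as canonical differentials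
  have hfr : ∀ (X : Scheme.{u}) [X.Over (Spec (CommRingCat.of k))] [IsIntegral X]
      [IsProper (X ↘ Spec (CommRingCat.of k))] [Smooth (X ↘ Spec (CommRingCat.of k))]
      [GeometricallyIntegral (X ↘ Spec (CommRingCat.of k))], topologicalKrullDim X = 1 →
      Curv2.genus k X = n + 1 →
      Module.finrank k (Coherent.GA (ProjUP.toGlobal (X ↘ Spec (CommRingCat.of k)))
        (Omega.sheaf (X ↘ Spec (CommRingCat.of k)))) = n + 1 := by
    intro X _ _ _ _ _ hd hgX
    have h := Clifford24.h1_eq_h0_omega k hd (L := Coh.structureModule X) (N := Coh.structureModule X)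
      AmpleLib.isInvertible_structureModule AmpleLib.isInvertible_structureModule (AmpleLib.unitTensorIso _)
    rw [CurveRR24.finrank_HH_congr k (AmpleLib.tensorComm (Omega.sheaf (X ↘ Spec (CommRingCat.of k)))
      (Coh.structureModule X) ≪≫ AmpleLib.unitTensorIso _) 0] at h
    exact ((CurveRR24.hhZero k _).finrank_eq.symm.trans h.symm).trans hgX
  have hequiv : ∀ (X : Scheme.{u}) [X.Over (Spec (CommRingCat.of k))] [IsIntegral X]
      [IsProper (X ↘ Spec (CommRingCat.of k))] [Smooth (X ↘ Spec (CommRingCat.of k))]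
      [GeometricallyIntegral (X ↘ Spec (CommRingCat.of k))], topologicalKrullDim X = 1 →
      Curv2.genus k X = n + 1 →
      ∀ f : (Fin (n + 1) → k) →ₗ[k] Coherent.GA (ProjUP.toGlobal (X ↘ Spec (CommRingCat.of k)))
        (Omega.sheaf (X ↘ Spec (CommRingCat.of k))), Function.Injective f →
      ∃ F : (Fin (n + 1) → k) ≃ₗ[k] Coherent.GA (ProjUP.toGlobal (X ↘ Spec (CommRingCat.of k)))
        (Omega.sheaf (X ↘ Spec (CommRingCat.of k))), F.toLinearMap = f := by
    intro X _ _ _ _ _ hd hgX f hf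
    haveI : Module.Finite k (Coherent.GA (ProjUP.toGlobal (X ↘ Spec (CommRingCat.of k)))
        (Omega.sheaf (X ↘ Spec (CommRingCat.of k)))) :=
      Module.finite_of_finrank_pos (by rw [hfr X hd hgX]; omega)
    exact ⟨LinearMap.linearEquivOfInjective f hf (by rw [hfr X hd hgX, Module.finrank_fin_fun]),
      LinearMap.ext fun _ => rfl⟩
  obtain ⟨F₁, hF₁⟩ := hequiv X₁ hd₁ hg₁ (ProjLin5.lin i₁ hi₁ e₁) (ProjLin5.lin_injective_of_hnd i₁ hi₁ e₁ hnd₁)
  obtain ⟨F₂, hF₂⟩ := hequiv X₂ hd₂ hg₂ (ProjLin5.lin i₂ hi₂ e₂) (ProjLin5.lin_injective_of_hnd i₂ hi₂ e₂ hnd₂)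
  -- transport of differentials along the isomorphism
  obtain ⟨θ⟩ : Nonempty ((Scheme.Modules.pullback φ.hom).obj (Omega.sheaf (X₂ ↘ Spec (CommRingCat.of k))) ≅
      Omega.sheaf (X₁ ↘ Spec (CommRingCat.of k))) :=
    JacAJ27.nonempty_omega_bc (g := 𝟙 (Spec (CommRingCat.of k)))
      (IsPullback.of_horiz_isIso ⟨by rw [hφ, Category.comp_id]⟩)
  let A : Coherent.GA (ProjUP.toGlobal (X₂ ↘ Spec (CommRingCat.of k))) (Omega.sheaf (X₂ ↘ Spec (CommRingCat.of k))) →ₗ[k]
      Coherent.GA (ProjUP.toGlobal (X₁ ↘ Spec (CommRingCat.of k))) (Omega.sheaf (X₁ ↘ Spec (CommRingCat.of k))) :=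
    { toFun := fun m => θ.hom.app ⊤ (ProjUP.pullSec φ.hom _ m)
      map_add' := fun a b => (congrArg (fun t => θ.hom.app ⊤ t) (map_add _ a b)).trans (map_add _ _ _)
      map_smul' := fun c m => by
        refine (congrArg (fun t => θ.hom.app ⊤ t)
          (PicLib.pullSec_smul φ.hom (U := ⊤) (ProjUP.toGlobal (X₂ ↘ Spec (CommRingCat.of k)) c) m)).trans ?_
        refine (Scheme.Modules.Hom.app_smul _ _ _).trans ?_
        exact congrArg (· • _) (ProjLin5.toGlobal_comp φ.hom hφ c) }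
  have hA : Function.Injective A := fun a b h =>
    ProjLin5.pullSec_injective_of_iso φ _ (Coherent.app_injective_of_mono θ.hom ⊤ h)
  let B₀ : (Fin (n + 1) → k) →ₗ[k] Fin (n + 1) → k := F₁.symm.toLinearMap ∘ₗ A ∘ₗ F₂.toLinearMap
  have hB₀ : Function.Injective B₀ := F₁.symm.injective.comp (hA.comp F₂.injective)
  let B := LinearMap.linearEquivOfInjective B₀ hB₀ rfl
  obtain ⟨σ, hσ, τ, hτ⟩ := ProjLin5.exists_aut B
  refine ⟨σ, φ, hσ, ?_⟩
  obtain ⟨Θ, hΘ⟩ := ProjLin5.exists_lin_comp i₁ hi₁ e₁ σ.hom hσ τ B.toLinearMap hτ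
  obtain ⟨Θ', hΘ'⟩ := HypLib.exists_iso_comp φ.hom i₂ (ProjLin5.O1 n k) e₂ θ
  refine ProjLin5.eq_of_lin ((Category.assoc _ _ _).trans ((congrArg (i₁ ≫ ·) hσ).trans hi₁))
    ((Category.assoc _ _ _).trans ((congrArg (φ.hom ≫ ·) hi₂).trans hφ)) Θ Θ' fun i => ?_
  rw [hΘ, ← hF₁]
  refine Eq.trans ?_ (hΘ' (HypLib.lsec n (Pi.single i (1 : k)))).symm
  show F₁ (F₁.symm (A (F₂ (Pi.single i 1)))) = _
  rw [F₁.apply_symm_apply, show F₂ (Pi.single i 1) = ProjLin5.lin i₂ hi₂ e₂ (Pi.single i 1) from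
    LinearMap.congr_fun hF₂ _]
  rfl

end Groth.Agent.S17412
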