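import Groth.Statements.S17413
import Groth.Agent.CommAlg4.CotInjective
import Groth.Agent.CommAlg4.WellIntersect
import Groth.Agent.GenSmoothLib.CharZero
import Groth.Agent.FlatMor12.GenericSmooth
import Groth.Agent.DimLib.Components
import Groth.Agent.VarietyLib.SmoothStalk
-- import your own Groth.Agent.* helpers here

set_option autoImplicit false
universe u
open CategoryTheory AlgebraicGeometry
open Prym5

namespace Groth.Agent.S17413

theorem residue_lift {k : Type u} [Field k] [IsAlgClosed k] {X Y : Scheme.{u}}
    {qX : X ⟶ Spec (CommRingCat.of k)} {qY : Y ⟶ Spec (CommRingCat.of k)} [LocallyOfFiniteType qX]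
    {u : X ⟶ Y} (hu : u ≫ qY = qX) (P : X) (hP : IsClosed ({P} : Set X)) (s : X.presheaf.stalk P) :
    ∃ r : Y.presheaf.stalk (u P), (u.stalkMap P).hom r - s ∈ IsLocalRing.maximalIdeal (X.presheaf.stalk P) := by
  let g : CommRingCat.of k ⟶ Y.residueField (u P) := Spec.preimage (Y.fromSpecResidueField (u P) ≫ qY)
  have hg : g ≫ u.residueFieldMap P = (residueFieldIsoBase qX P hP).inv := by
    apply Spec.map_injective
    rw [Spec.map_comp, Spec.map_preimage, SpecMap_residueFieldIsoBase_inv, ← Category.assoc,
      Scheme.Hom.SpecMap_residueFieldMap_fromSpecResidueField, Category.assoc, hu]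
  obtain ⟨c, hc⟩ := (ConcreteCategory.bijective_of_isIso (residueFieldIsoBase qX P hP).inv).2
    (IsLocalRing.residue (X.presheaf.stalk P) s)
  obtain ⟨r, hr⟩ := IsLocalRing.residue_surjective (R := Y.presheaf.stalk (u P)) (g c)
  refine ⟨r, ?_⟩
  rw [← IsLocalRing.residue_eq_zero_iff, map_sub, sub_eq_zero, ← hc, ← hg]
  show _ = u.residueFieldMap P (g c)
  rw [← hr]
  rfl

/-- Let k be an algebraically closed field of characteristic zero, X a reduced scheme of finite type
over k, Y an integral scheme of finite type over k and u : X → Y a k-morphism. Then u is dominant if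
and only if there is a closed point P of X such that X is regular at P and the differential of u at
P is surjective onto the tangent space of Y at u(P); surjectivity of the differential is written
dually as injectivity of the map of cotangent spaces m_{u(P)}/m_{u(P)}² → m_P/m_P² induced by the
local homomorphism of u at P. (The published statement asks only that Y be irreducible, puts no
condition on P and concludes that the scheme-theoretic image is all of Y. Without regularity at P
the backward implication fails: the inclusion of the union of the two coordinate axes into the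
affine plane induces a bijection of tangent spaces at the origin and is not dominant. Without
reducedness of Y the forward implication fails: the reduced line inside the doubled line y² = 0 is
dominant but its differential is nowhere surjective. For Y integral and u quasi-compact, dominance
is the same as the scheme-theoretic image being Y.) -/
theorem result (k : Type u) [Field k]
    [IsAlgClosed k] [CharZero k] (X Y : Scheme.{u})
    [X.Over (Spec (CommRingCat.of k))] [Y.Over (Spec (CommRingCat.of k))]
    [LocallyOfFiniteType (X ↘ Spec (CommRingCat.of k))] [QuasiCompact (X ↘ Spec (CommRingCat.of k))]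
    [LocallyOfFiniteType (Y ↘ Spec (CommRingCat.of k))] [QuasiCompact (Y ↘ Spec (CommRingCat.of k))]
    [AlgebraicGeometry.IsReduced X] [AlgebraicGeometry.IsIntegral Y] (u : X ⟶ Y) [u.IsOver (Spec (CommRingCat.of k))] :
    IsDominant u ↔
      ∃ P : X, IsClosed ({P} : Set X) ∧ IsRegularLocalRing (X.presheaf.stalk P) ∧
        ∀ a ∈ IsLocalRing.maximalIdeal (Y.presheaf.stalk (u P)),
          (u.stalkMap P).hom a ∈ IsLocalRing.maximalIdeal (X.presheaf.stalk P) ^ 2 →
            a ∈ IsLocalRing.maximalIdeal (Y.presheaf.stalk (u P)) ^ 2 := by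
  have hu : u ≫ (Y ↘ Spec (CommRingCat.of k)) = X ↘ Spec (CommRingCat.of k) := comp_over u (Spec (CommRingCat.of k))
  haveI : LocallyOfFinitePresentation u := GenSmoothLib.finitePresentation_of_overField k u hu
  haveI : IsLocallyNoetherian X := LocallyOfFiniteType.isLocallyNoetherian (X ↘ Spec (CommRingCat.of k))
  haveI : IsLocallyNoetherian Y := LocallyOfFiniteType.isLocallyNoetherian (Y ↘ Spec (CommRingCat.of k))
  haveI : CompactSpace X := QuasiCompact.compactSpace_of_compactSpace (X ↘ Spec (CommRingCat.of k))
  haveI : IsNoetherian X := {}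
  constructor
  · intro hdom
    have hmem : genericPoint Y ∈ (u '' Set.univ : Set Y) := by
      refine CommAlg4.WellIntersect.mem_image_of_mem_closure u.continuous isClosed_univ ?_ ?_
      · rw [Set.image_univ, u.denseRange.closure_range]; trivial
      · exact fun y _ => by rw [(genericPoint_spec Y).def]; trivial
    obtain ⟨x, -, hx⟩ := hmem
    let U : X.Opens :=
      ⟨(⋃₀ (irreducibleComponents X \ {irreducibleComponent x}))ᶜ, by
        rw [Set.sUnion_eq_biUnion, isOpen_compl_iff]
        exact TopologicalSpace.NoetherianSpace.finite_irreducibleComponents.sdiff.isClosed_biUnion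
          fun W hW ↦ isClosed_of_mem_irreducibleComponents W hW.1⟩
    have hU : closure U = irreducibleComponent x :=
      closure_sUnion_irreducibleComponents_sdiff_singleton
        TopologicalSpace.NoetherianSpace.finite_irreducibleComponents
        _ (irreducibleComponent_mem_irreducibleComponents x)
    haveI : IrreducibleSpace U := isIrreducible_iff_irreducibleSpace.mp
      (isIrreducible_iff_closure.mp (hU ▸ isIrreducible_irreducibleComponent))
    haveI : AlgebraicGeometry.IsIntegral U := isIntegral_of_irreducibleSpace_of_isReduced _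
    have hsp : U.ι (genericPoint U) ⤳ x := ((genericPoint_spec U).image U.ι.continuous).specializes (by
      rw [Set.image_univ, Scheme.Opens.range_ι, hU]; exact mem_irreducibleComponent)
    have hg : u (U.ι (genericPoint U)) = genericPoint Y :=
      ((hx ▸ hsp.map u.continuous).antisymm (genericPoint_specializes _)).eq
    haveI : IsDominant (U.ι ≫ u) := ⟨by
      rw [denseRange_iff_closure_range, Set.eq_univ_iff_forall]
      exact fun y => (genericPoint_specializes y).mem_closed isClosed_closure
        (subset_closure ⟨genericPoint U, hg⟩)⟩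
    haveI : PerfectField Y.functionField :=
      GenSmoothLib.perfectField_functionField k (Y ↘ Spec (CommRingCat.of k))
    haveI : IsRegularLocalRing (U.toScheme.presheaf.stalk (genericPoint U)) :=
      inferInstanceAs (IsRegularLocalRing U.toScheme.functionField)
    have h1 : U.ι (genericPoint U) ∈ u.smoothLocus := by
      have := FlatMor12.GenericSmooth.mem_smoothLocus_of_regular (U.ι ≫ u) (genericPoint U) hg
      rwa [← Scheme.Hom.preimage_smoothLocus_eq, Scheme.Hom.mem_preimage] at this
    have h2 : U.ι (genericPoint U) ∈ (X ↘ Spec (CommRingCat.of k)).smoothLocus := by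
      have := (U.ι ≫ (X ↘ Spec (CommRingCat.of k))).genericPoint_mem_smoothLocus_of_perfectField
      rwa [← Scheme.Hom.preimage_smoothLocus_eq, Scheme.Hom.mem_preimage] at this
    let O : X.Opens := u.smoothLocus ⊓ (X ↘ Spec (CommRingCat.of k)).smoothLocus
    obtain ⟨P, hPO, hP⟩ := DimLib.exists_isClosed_singleton_mem (X ↘ Spec (CommRingCat.of k))
      (S := (O : Set X)) ⟨_, h1, h2⟩ O.2.isLocallyClosed
    haveI : Smooth (O.ι ≫ (X ↘ Spec (CommRingCat.of k))) := by
      rw [← Scheme.Hom.smoothLocus_eq_top_iff, ← Scheme.Hom.preimage_smoothLocus_eq]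
      exact TopologicalSpace.Opens.ext (Set.eq_univ_of_forall fun v => v.2.2)
    haveI := VarietyLib.isRegularLocalRing_stalk_of_smooth k O.toScheme
      (O.ι ≫ (X ↘ Spec (CommRingCat.of k))) ⟨P, hPO⟩
    refine ⟨P, hP, .of_ringEquiv (O.stalkIso ⟨P, hPO⟩).commRingCatIsoToRingEquiv, fun a _ ha2 => ?_⟩
    exact CommAlg4.CotInjective.mem_sq_of_formallySmooth _ _ (u.stalkMap P).hom
      (Scheme.Hom.mem_smoothLocus.1 hPO.1) (residue_lift hu P hP) a ha2
  · rintro ⟨P, hP, hreg, hinj⟩
    have hi : Function.Injective (u.stalkMap P).hom :=
      CommAlg4.CotInjective.injective_of_cotangent _ _ (u.stalkMap P).hom (residue_lift hu P hP) hinj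
    haveI := CAlgH3.isDomain_of_isRegularLocalRing (X.presheaf.stalk P)
    refine ⟨?_⟩
    rw [denseRange_iff_closure_range, Set.eq_univ_iff_forall]
    intro y
    refine (genericPoint_specializes y).mem_closed isClosed_closure (subset_closure ?_)
    let b : Spec (X.presheaf.stalk P) := (⟨⊥, Ideal.isPrime_bot⟩ : PrimeSpectrum (X.presheaf.stalk P))
    refine ⟨X.fromSpecStalk P b, ?_⟩
    have hc : u (X.fromSpecStalk P b) = Y.fromSpecStalk (u P) (Spec.map (u.stalkMap P) b) :=
      (congrArg (fun m : Spec (X.presheaf.stalk P) ⟶ Y => m b) (Scheme.SpecMap_stalkMap_fromSpecStalk u)).symm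
    refine hc.trans ?_
    obtain ⟨q, hq⟩ : genericPoint Y ∈ Set.range (Y.fromSpecStalk (u P)) := by
      rw [Scheme.range_fromSpecStalk]; exact genericPoint_specializes _
    refine ((?_ : Y.fromSpecStalk (u P) (Spec.map (u.stalkMap P) b) ⤳ genericPoint Y).antisymm
      (genericPoint_specializes _)).eq
    rw [← hq]
    refine Specializes.map ?_ (Y.fromSpecStalk (u P)).continuous
    refine (PrimeSpectrum.le_iff_specializes _ _).1 ?_
    refine (PrimeSpectrum.asIdeal_le_asIdeal _ _).1 ?_
    intro r hr
    have : (u.stalkMap P).hom r = 0 := hr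
    rw [(map_eq_zero_iff _ hi).1 this]
    exact q.asIdeal.zero_mem

end Groth.Agent.S17413
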