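import Groth.Statements.S17424
import Groth.Agent.LD6.Dual

set_option autoImplicit false
universe u
open CategoryTheory CategoryTheory.Limits AlgebraicGeometry
attribute [local instance] HasDerivedCategory.standard
open Dual

namespace Groth.Agent.S17424

/-- Let (R, m) be a Noetherian local ring with a dualizing complex ω_R (given in D(R), and as the object
W of D_QCoh(Spec R)), and let f : X → Spec R be proper (f is the structure morphism of X over Spec
R; Rf_*, its preservation of D_QCoh and its right adjoint f^! are carried as hypotheses). Assume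
every local ring of X is Cohen–Macaulay, X has dimension n, and the relative dualizing complex
f^!ω_R has zero cohomology sheaves outside a single degree d (as happens when X is moreover
equidimensional and connected); write ω_X for its degree-d cohomology sheaf. Let L be an invertible
O_X-module and M an O_X-module with L ⊗ M ≅ O_X, and let Z ⊆ X be the closed fibre (the complement
of the preimage of the punctured spectrum). Then for all natural numbers i, j with i + j = n: H^i(X,
ω_X ⊗ L) = 0 (equivalently R^i f_*(ω_X ⊗ L) = 0, the base being affine) if and only if the local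
cohomology group H^j_Z(X, M) vanishes. (The published statement is over an arbitrary Noetherian base
Y at a point y, after base change to Spec O_{Y,y}; this is that local form.) -/
theorem result (R : Type u) [CommRing R] [IsNoetherianRing R] [IsLocalRing R]
    (ωR : Dual.D R) (hω : Dual.IsDualizing R ωR)
    [PreservesFiniteLimits (tilde.functor (CommRingCat.of R))]
    (W : DCoh.DQCoh (Spec (CommRingCat.of R))) (hW : Nonempty (W.obj ≅ (DCoh.tildeD (CommRingCat.of R)).obj ωR))
    (X : Scheme.{u}) [X.Over (Spec (CommRingCat.of R))] [IsProper (X ↘ Spec (CommRingCat.of R))]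
    [DCoh.HasRpush (X ↘ Spec (CommRingCat.of R))] (h : DCoh.RpushPreservesQCoh (X ↘ Spec (CommRingCat.of R))) [DCoh.HasShriek (X ↘ Spec (CommRingCat.of R)) h]
    (hCM : ∀ x : X, LocCoh.IsCohenMacaulayLocalRing (X.presheaf.stalk x))
    (d : ℤ) (hconc : ∀ j : ℤ, j ≠ d → IsZero (DCoh.HD (DCoh.dualizingCx (X ↘ Spec (CommRingCat.of R)) h W) j))
    (n : ℕ) (hn : topologicalKrullDim X = n)
    (L M : X.Modules) (hL : PicF.IsInvertible L) (e : (DCoh.tensorBi.obj L).obj M ≅ Coh.structureModule X)
    (i j : ℕ) (hij : i + j = n) :
    Subsingleton (Coh.HH X ((DCoh.tensorBi.obj (DCoh.HD (DCoh.dualizingCx (X ↘ Spec (CommRingCat.of R)) h W) d)).obj L) i) ↔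
      Subsingleton (LocCohZ.HZM X M j ((X ↘ Spec (CommRingCat.of R)) ⁻¹ᵁ (LocCoh.puncturedOpen R (IsLocalRing.maximalIdeal R)))) := by
  exact Groth.Agent.LD6.twist_vanish_iff ωR hω W hW h _ (DCoh.shriekAdj (X ↘ Spec (CommRingCat.of R)) h) d hconc n hn L M hL e i j hij

end Groth.Agent.S17424
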