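import Groth.Statements.S17427
import Groth.Agent.RatSplit13.Cover
import Groth.Agent.RatSplit13.Retraction
import Groth.Agent.RatSplit13.Rationality

set_option autoImplicit false
universe u
open CategoryTheory CategoryTheory.Limits AlgebraicGeometry
attribute [local instance] HasDerivedCategory.standard
open Resolve

namespace Groth.Agent.S17427

/-- Rational singularities are derived splinters. Let S be an integral Noetherian scheme of equal
characteristic zero (every residue field has characteristic zero) which is quasi-excellent (the
coordinate ring of every affine open is a G-ring and is J-2), normal, and has rational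
singularities: for every point s and every proper morphism X → Spec O_{S,s} from an integral regular
scheme which is an isomorphism over a nonempty open, H^i(X, O_X) = 0 for all i > 0. Assume moreover
that every integral scheme Y′ with a proper morphism to S that is an isomorphism over a nonempty
open of S admits a proper morphism W → Y′ from an integral regular scheme W which is an isomorphism
over a nonempty open of Y′. Then S is a derived splinter: for every proper surjective morphism g : Y
→ S (with the unbounded derived direct image Rg_* carried as a hypothesis), the natural morphism O_S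
→ Rg_*O_Y in D(O_S) — the map O_S → g_*O_Y placed in degree zero followed by the canonical map from
g_*O_Y to Rg_*O_Y — is a split monomorphism. (The published statement does not assume S integral,
and assumes only quasi-excellence where this row also assumes the existence of these resolutions.) -/
theorem result (S : Scheme.{u}) [IsIntegral S] [IsNoetherian S]
    (hQ : ∀ s : S, CharZero (S.residueField s))
    (hqe : ∀ U : S.affineOpens, CAlg.IsGRing Γ(S, (U : S.Opens)) ∧ EGA4.IsJ2 Γ(S, (U : S.Opens)))
    (hnor : Pi1.IsNormalScheme S)
    (hrat : ∀ (s : S) (X : Scheme.{u}) (f : X ⟶ Spec (S.presheaf.stalk s)) [IsProper f] [IsIntegral X],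
      (∀ x : X, IsRegularLocalRing (X.presheaf.stalk x)) →
      (∃ U : (Spec (S.presheaf.stalk s)).Opens, (U : Set (Spec (S.presheaf.stalk s))).Nonempty ∧ IsIso (f ∣_ U)) →
      ∀ i : ℕ, 0 < i → Subsingleton (Coh.HH X (Coh.structureModule X) i))
    (hres : ∀ (Y' : Scheme.{u}) (b : Y' ⟶ S) [IsIntegral Y'] [IsProper b],
      (∃ U : S.Opens, (U : Set S).Nonempty ∧ IsIso (b ∣_ U)) →
      ∃ (W : Scheme.{u}) (μ : W ⟶ Y'), IsIntegral W ∧ IsProper μ ∧ (∀ w : W, IsRegularLocalRing (W.presheaf.stalk w)) ∧
        ∃ V : Y'.Opens, (V : Set Y').Nonempty ∧ IsIso (μ ∣_ V))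
    (Y : Scheme.{u}) (g : Y ⟶ S) [IsProper g] [Surjective g] [DCoh.HasRpush g] :
    IsSplitMono ((DerivedCategory.singleFunctor S.Modules 0).map (ClSub.unitToPush g) ≫
        DerivedCategory.Qh.map ((HomotopyCategory.quotient S.Modules (ComplexShape.up ℤ)).map
          ((HomologicalComplex.singleMapHomologicalComplex (Scheme.Modules.pushforward g) (ComplexShape.up ℤ) 0).inv.app
            (Coh.structureModule Y))) ≫
        ((DCoh.pushKh g).totalRightDerivedUnit DerivedCategory.Qh
          (HomotopyCategory.quasiIso Y.Modules (ComplexShape.up ℤ))).app
          ((HomotopyCategory.singleFunctor Y.Modules 0).obj (Coh.structureModule Y))) := by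
  obtain ⟨T, W, h, q, p, hT, hW, hq, hp, hreg, ⟨U, hU, hpU⟩, hqgen, e⟩ := RatSplit13.exists_cover S hres g
  haveI := hT
  haveI := hW
  haveI := hq
  haveI := hp
  haveI := hpU
  haveI := Coherent.hasInjectiveResolutions_modules T
  haveI := Coherent.hasInjectiveResolutions_modules W
  haveI := Coherent.hasInjectiveResolutions_modules Y
  haveI : Coh.IsQCoh (Coh.structureModule T) := Coherent.isQCoh_structureModule
  obtain ⟨hp0, hp1⟩ := RatSplit13.acyclic_modification hnor hrat p hreg U hU
  obtain ⟨τ, hτ⟩ := RatSplit13.exists_retraction_unit q hqgen (Models7.isNormalScheme_of_regular hreg)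
    (RatSplit13.charZero_residueField p hQ)
  exact RatSplit13.isSplitMono_of_cover h g q p e (fun i hi => DQCoh.isZero_rpush_affine q _ i hi) τ hτ hp0 hp1

end Groth.Agent.S17427
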