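import Groth.Statements.S17429
import Groth.Agent.CAlgH3.FlatH
import Groth.Agent.CAlgH3.KaehlerFlat
import Groth.Agent.CAlgH.Popescu
import Groth.Agent.CAlgH.GRingRegular
import Groth.Agent.CAlgH3.RegularHom
-- import your own Groth.Agent.* helpers here

set_option autoImplicit false
universe u
open LocCoh

namespace Groth.Agent.S17429

/-- Let p be a prime, A a regular local ring of characteristic p, t_1, …, t_r an A-regular sequence such
that A/(t_1, …, t_r) is again a regular local ring (a regular closed immersion Z ↪ X = Spec A of
codimension r with Z regular and non-empty), and I = (t_1, …, t_r). Then for every i and every j ≠ r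
the local cohomology module H^j_I(Ω^i_A) vanishes, where Ω^i_A is the i-th exterior power over A of
the module of Kähler differentials of A over ℤ (the same module as over the prime field). (Module
form, for X local, of the vanishing of the local cohomology sheaves H^j_Z(X, Ω^i_X), j ≠ r; the same
vanishing holds more generally for the de Rham–Witt sheaves W_mΩ^i_X and their quotients by
dV^{m-1}Ω^{i-1}_X on the étale site of a regular F_p-scheme, a form not stated here.) -/
theorem result (p : ℕ) [Fact p.Prime]
    (A : Type u) [CommRing A] [IsRegularLocalRing A] [CharP A p]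
    (ts : List A) (hreg : RingTheory.Sequence.IsRegular A ts)
    (hZ : IsRegularLocalRing (A ⧸ Ideal.ofList ts))
    (i j : ℕ) (hj : j ≠ ts.length) :
    Subsingleton (LocCoh.H (Ideal.ofList ts) j
      ↥(ExteriorAlgebra.exteriorPower A i (KaehlerDifferential ℤ A))) := by
  let k := ULift.{u} (ZMod p)
  haveI : Finite k := inferInstance
  haveI : PerfectField k := PerfectField.ofFinite
  letI : Algebra k A := ((ZMod.castHom dvd_rfl A).comp (ULift.ringEquiv : k ≃+* ZMod p).toRingHom).toAlgebra
  haveI : IsRegularRing A := Groth.Agent.CAlgH3.isRegularRing_of_isRegularLocalRing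
  have hind : Smoothing.IndSmooth k A := Groth.Agent.CAlgH.Popescu.indSmooth_of_isRegularHom
    ((Groth.Agent.CAlgH.isRegularHom_field_iff k A).2
      (Groth.Agent.CAlgH.isGeometricallyRegular_of_perfectField k A))
  haveI := Groth.Agent.CAlgH3.KaehlerFlat.flat_exteriorPower_kaehler k A hind i
  have hk : ∀ c : k, ∃ n : ℤ, (n : k) = c := fun c => by
    obtain ⟨n, hn⟩ := ZMod.intCast_surjective ((ULift.ringEquiv : k ≃+* ZMod p) c)
    exact ⟨n, (ULift.ringEquiv : k ≃+* ZMod p).injective (by rw [map_intCast, hn])⟩
  let e := Groth.Agent.CAlgH3.FlatH.kaehlerEquivInt k A hk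
  let e' : ↥(ExteriorAlgebra.exteriorPower A i (KaehlerDifferential k A)) ≃ₗ[A]
      ↥(ExteriorAlgebra.exteriorPower A i (KaehlerDifferential ℤ A)) :=
    LinearEquiv.ofLinearMap (exteriorPower.map i e.toLinearMap) (exteriorPower.map i e.symm.toLinearMap)
      (by rw [← exteriorPower.map_comp, e.comp_symm, exteriorPower.map_id])
      (by rw [← exteriorPower.map_comp, e.symm_comp, exteriorPower.map_id])
  haveI : Module.Flat A ↥(ExteriorAlgebra.exteriorPower A i (KaehlerDifferential ℤ A)) :=
    Module.Flat.of_linearEquiv e'.symm
  exact Groth.Agent.CAlgH3.FlatH.subsingleton_H_of_weaklyRegular ts _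
    (Groth.Agent.CAlgH3.FlatH.isWeaklyRegular_of_flat ts _ hreg.toIsWeaklyRegular) j hj

end Groth.Agent.S17429
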