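import Groth.Statements.S17430
import Groth.Agent.AdjVarLib.Top
-- import your own Groth.Agent.* helpers here

set_option autoImplicit false
set_option linter.style.haveILetI false
universe u v w
open LieAlgebra LieModule
open AdjVar

namespace Groth.Agent.S17430

open Groth.Agent.AdjVarLib

set_option backward.isDefEq.respectTransparency.types false

/-- Let L be a finite-dimensional simple Lie algebra over an algebraically closed field K of
characteristic zero, H a Cartan subalgebra and b a basis of (L, H) in Mathlib's sense (Chevalley
generators h_i, e_i, f_i indexed by a finite type, with simple roots α_i = b.baseSupp i and upper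
Borel subalgebra 𝔟 = H + the Lie subalgebra generated by the e_i). Let ρ be the highest root: a root
of H on L whose root space is nonzero and such that no ρ + α_i is a root (the root space of ρ + α_i
is zero for every i). Assume that exactly one simple root α_j is not orthogonal to ρ (ρ(h_i) ≠ 0 if
and only if i = j) and that ρ(h_j) = 1; for simple L these two conditions say precisely that L is
not of type A_r or C_r (r ≥ 1), the case excluded in the source. Then a two-dimensional linear
subspace W of L is stable under 𝔟 (bracketing with any element of 𝔟 maps W into W) if and only if W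
is the sum of the root spaces of ρ and of ρ − α_j. Equivalently, the projective line spanned by the
root vectors of ρ and ρ − α_j is the only line of P(L) stable under the Borel subgroup (over the
complex numbers, stability under the connected group B is the same as stability under its Lie
algebra 𝔟, which is the form stated here). -/
theorem result {ι : Type u} {K : Type v} {L : Type w} [Fintype ι] [Field K] [CharZero K]
    [IsAlgClosed K] [LieRing L] [LieAlgebra K L] [FiniteDimensional K L] [LieAlgebra.IsSimple K L]
    (H : LieSubalgebra K L) [H.IsCartanSubalgebra] (b : LieAlgebra.Basis ι H)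
    (ρ : Module.Dual K H) (hρ : rootSpace H ρ ≠ ⊥) (htop : ∀ i, rootSpace H (ρ + b.baseSupp i) = ⊥)
    (j : ι) (hN : ∀ i, ρ (b.h' i) ≠ 0 ↔ i = j) (hj : ρ (b.h' j) = 1)
    (W : Submodule K L) :
    (Module.finrank K W = 2 ∧
        ∀ x ∈ H.toSubmodule ⊔ (b.borelUpper : Submodule K L), ∀ w ∈ W, ⁅x, w⁆ ∈ W) ↔
      W = (rootSpace H ρ : Submodule K L) ⊔ (rootSpace H (ρ - b.baseSupp j) : Submodule K L) := by
  obtain ⟨v, T⟩ := exists_top hρ htop hN hj
  have e1 : (rootSpace H ρ : Submodule K L) = K ∙ v := T.rs_top
  have e2 : (rootSpace H (ρ - b.baseSupp j) : Submodule K L) = K ∙ ⁅b.f j, v⁆ :=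
    (congrArg (fun f => (rootSpace H f : Submodule K L)) (funext fun _ => rfl)).trans T.rs_one
  rw [e1, e2]
  set u := ⁅b.f j, v⁆ with hu
  have hspan : (K ∙ v) ⊔ (K ∙ u) = Submodule.span K (Set.range ![v, u]) := by
    rw [Matrix.range_cons, Matrix.range_cons, Matrix.range_empty, Set.union_empty, Submodule.span_union]
  have hdim : Module.finrank K ↥((K ∙ v) ⊔ (K ∙ u)) = 2 := by
    rw [hspan, finrank_span_eq_card T.indep_pair]; rfl
  constructor
  · rintro ⟨hW, hst⟩
    obtain ⟨hH, hE⟩ := stable_of_borel b hst
    have hle : (K ∙ v) ⊔ (K ∙ u) ≤ W := by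
      by_contra hc
      have hWv : W ≤ K ∙ v := stable_le hH fun μ x hxW hx => by
        rcases eq_or_ne x 0 with rfl | hx0
        · exact zero_mem _
        by_cases hμ : μ = ρ
        · subst hμ; rwa [T.rs_top] at hx
        · obtain ⟨hv, h⟩ := T.exists_depth hE hxW hx hx0
          exact absurd (sup_le ((Submodule.span_singleton_le_iff_mem _ _).mpr hv)
            ((Submodule.span_singleton_le_iff_mem _ _).mpr (h hμ).1)) hc
      have := Submodule.finrank_mono hWv
      rw [finrank_span_singleton T.ne] at this
      omega
    exact (Submodule.eq_of_le_of_finrank_eq hle (hdim.trans hW.symm)).symm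
  · rintro rfl
    refine ⟨hdim, borel_lie b (fun h w hw => ?_) (fun i w hw => ?_)⟩
    · obtain ⟨p, hp, q, hq, rfl⟩ := Submodule.mem_sup.mp hw
      obtain ⟨s, rfl⟩ := Submodule.mem_span_singleton.mp hp
      obtain ⟨t, rfl⟩ := Submodule.mem_span_singleton.mp hq
      rw [lie_add, lie_smul, lie_smul, T.lie, lie_of_mem T.u1_mem, smul_comm s, smul_comm t]
      exact Submodule.add_mem_sup (Submodule.smul_mem _ _ hp) (Submodule.smul_mem _ _ hq)
    · obtain ⟨p, hp, q, hq, rfl⟩ := Submodule.mem_sup.mp hw
      obtain ⟨s, rfl⟩ := Submodule.mem_span_singleton.mp hp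
      obtain ⟨t, rfl⟩ := Submodule.mem_span_singleton.mp hq
      rw [lie_add, lie_smul, lie_smul, T.kill, smul_zero, zero_add]
      rcases eq_or_ne i j with rfl | hi
      · rw [hu, T.e_u1]
        exact Submodule.mem_sup_left (Submodule.smul_mem _ _ (Submodule.mem_span_singleton_self v))
      · rw [hu, T.e_u1_ne hi, smul_zero]; exact zero_mem _

end Groth.Agent.S17430
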