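import Groth.Statements.S17432
import Groth.Agent.AdjVarLib.Three
-- import your own Groth.Agent.* helpers here

set_option autoImplicit false
set_option linter.style.haveILetI false
universe u v w
open LieAlgebra LieModule
open AdjVar

namespace Groth.Agent.S17432

open Groth.Agent.AdjVarLib

set_option backward.isDefEq.respectTransparency.types false

theorem semi {K M : Type*} [Field K] [CharZero K] [AddCommGroup M] [Module K M] (q : QuadraticForm K M)
    (N : M → M) (c l : K) (hl : l ≠ 0) (x y z : M) (hx : N x = 0) (hy : N y = l • x) (hz : N z = 0)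
    (hadd : ∀ a b, N (a + b) = N a + N b) (h : ∀ a, QuadraticMap.polar q (N a) a = c * q a) :
    (c ≠ 0 → q x = 0 ∧ q y = 0 ∧ q z = 0 ∧ QuadraticMap.polar q x y = 0 ∧
      QuadraticMap.polar q x z = 0 ∧ QuadraticMap.polar q y z = 0) ∧
    (c = 0 → q x = 0 ∧ QuadraticMap.polar q x y = 0 ∧ QuadraticMap.polar q x z = 0) := by
  have p0 : ∀ a, QuadraticMap.polar q 0 a = 0 := q.polar_zero_left
  have hy' : l * QuadraticMap.polar q x y = c * q y := by
    have := h y
    rwa [hy, q.polar_smul_left, smul_eq_mul] at this
  have hxy : l * (2 * q x + QuadraticMap.polar q x y) = c * (q x + q y + QuadraticMap.polar q x y) := by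
    have := h (x + y)
    rwa [hadd, hx, zero_add, hy, q.polar_smul_left, q.polar_add_right, q.polar_self, QuadraticMap.map_add q,
      smul_eq_mul, two_nsmul, ← two_mul] at this
  have hyz : l * (QuadraticMap.polar q x y + QuadraticMap.polar q x z) =
      c * (q y + q z + QuadraticMap.polar q y z) := by
    have := h (y + z)
    rwa [hadd, hz, add_zero, hy, q.polar_smul_left, q.polar_add_right, QuadraticMap.map_add q, smul_eq_mul] at this
  have hx' : c * q x = 0 := by have := h x; rw [hx, p0] at this; exact this.symm
  have hz' : c * q z = 0 := by have := h z; rw [hz, p0] at this; exact this.symm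
  have hxz : c * (q x + q z + QuadraticMap.polar q x z) = 0 := by
    have := h (x + z); rw [hadd, hx, hz, add_zero, p0, QuadraticMap.map_add q] at this; exact this.symm
  constructor
  · intro hc
    have a1 : q x = 0 := (mul_eq_zero.mp hx').resolve_left hc
    have a2 : q z = 0 := (mul_eq_zero.mp hz').resolve_left hc
    have a3 : QuadraticMap.polar q x z = 0 := by
      simpa [a1, a2] using (mul_eq_zero.mp hxz).resolve_left hc
    have a4 : QuadraticMap.polar q x y = 0 := by
      have : c * QuadraticMap.polar q x y = 0 := by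
        linear_combination hy' - hxy + (2 * l - c) * a1
      exact (mul_eq_zero.mp this).resolve_left hc
    have a5 : q y = 0 := by
      refine (mul_eq_zero.mp (?_ : c * q y = 0)).resolve_left hc
      rw [← hy', a4, mul_zero]
    refine ⟨a1, a5, a2, a4, a3, (mul_eq_zero.mp (?_ : c * QuadraticMap.polar q y z = 0)).resolve_left hc⟩
    linear_combination -hyz - c * a5 - c * a2 + l * a4 + l * a3
  · rintro rfl
    simp only [zero_mul, mul_eq_zero, hl, false_or] at hy' hxy hyz
    refine ⟨?_, hy', by simpa [hy'] using hyz⟩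
    simpa [hy'] using hxy

/-- Let L be a finite-dimensional simple Lie algebra over an algebraically closed field K of
characteristic zero, H a Cartan subalgebra and b a basis of (L, H) in Mathlib's sense (Chevalley
generators h_i, e_i, f_i indexed by a finite type, with simple roots α_i = b.baseSupp i and upper
Borel subalgebra 𝔟 = H + the Lie subalgebra generated by the e_i). Let ρ be the highest root: a root
of H on L whose root space is nonzero and such that no ρ + α_i is a root (the root space of ρ + α_i
is zero for every i). Assume that exactly one simple root α_j is not orthogonal to ρ (ρ(h_i) ≠ 0 if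
and only if i = j) and that ρ(h_j) = 1; for simple L these two conditions say precisely that L is
not of type A_r or C_r (r ≥ 1), the case excluded in the source. Let W be a three-dimensional linear
subspace of L stable under 𝔟 and q a quadratic form on W which is semi-invariant under 𝔟: for every
x in 𝔟 there is a scalar c with polar_q([x, w], w) = c q(w) for all w in W (this is the
infinitesimal condition for the line spanned by q, equivalently the conic q = 0 of the plane P(W),
to be stable under the Borel subgroup). Then q is a scalar multiple of the square of a linear form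
on W. In the source's words: P(L) contains no Borel-stable conic which is smooth or reducible (a
pair of distinct lines); only double lines occur. (Over the complex numbers a conic of rank at least
two is Borel-stable exactly when its plane is 𝔟-stable and its equation is 𝔟-semi-invariant, which
is the form stated here.) -/
theorem result {ι : Type u} {K : Type v} {L : Type w} [Fintype ι] [Field K] [CharZero K]
    [IsAlgClosed K] [LieRing L] [LieAlgebra K L] [FiniteDimensional K L] [LieAlgebra.IsSimple K L]
    (H : LieSubalgebra K L) [H.IsCartanSubalgebra] (b : LieAlgebra.Basis ι H)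
    (ρ : Module.Dual K H) (hρ : rootSpace H ρ ≠ ⊥) (htop : ∀ i, rootSpace H (ρ + b.baseSupp i) = ⊥)
    (j : ι) (hN : ∀ i, ρ (b.h' i) ≠ 0 ↔ i = j) (hj : ρ (b.h' j) = 1)
    (W : Submodule K L) (hW : Module.finrank K W = 3)
    (hst : ∀ x ∈ H.toSubmodule ⊔ (b.borelUpper : Submodule K L), ∀ w ∈ W, ⁅x, w⁆ ∈ W)
    (q : QuadraticForm K W)
    (hq : ∀ (x : L) (hx : x ∈ H.toSubmodule ⊔ (b.borelUpper : Submodule K L)), ∃ c : K, ∀ w : W,
      QuadraticMap.polar q ⟨⁅x, (w : L)⁆, hst x hx w w.property⟩ w = c * q w) :
    ∃ (ℓ : Module.Dual K W) (c : K), ∀ w : W, q w = c * ℓ w ^ 2 := by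
  obtain ⟨v, T⟩ := exists_top hρ htop hN hj
  obtain ⟨hH, hE⟩ := stable_of_borel b hst
  obtain ⟨i, hi0, hspan⟩ := three T W hW hH hE
  obtain ⟨hij, -, hA⟩ := T.adj hi0
  have hmem : ∀ k, ![v, ⁅b.f j, v⁆, ⁅b.f i, ⁅b.f j, v⁆⁆] k ∈ W := fun k =>
    hspan.ge (Submodule.subset_span ⟨k, rfl⟩)
  let vs : Fin 3 → W := fun k => ⟨_, hmem k⟩
  have hvs : LinearIndependent K vs :=
    LinearIndependent.of_comp W.subtype (by simpa [vs, Function.comp_def] using T.indep hi0)
  let B := basisOfLinearIndependentOfCardEqFinrank hvs (by rw [hW]; rfl)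
  let x : W := vs 0
  let y : W := vs 1
  let z : W := vs 2
  obtain ⟨a1, a2, a3, a4, a5⟩ : q x = 0 ∧ q y = 0 ∧ QuadraticMap.polar q x y = 0 ∧
      QuadraticMap.polar q x z = 0 ∧ QuadraticMap.polar q y z = 0 := by
    have memE : ∀ k, b.e k ∈ H.toSubmodule ⊔ (b.borelUpper : Submodule K L) := fun k =>
      Submodule.mem_sup_right (LieSubalgebra.subset_lieSpan (Set.mem_range_self k))
    obtain ⟨c, hc⟩ := hq _ (memE j)
    obtain ⟨d, hd⟩ := hq _ (memE i)
    have hj' := semi q (fun w => ⟨⁅b.e j, (w : L)⁆, hst _ (memE j) w w.2⟩) c 1 one_ne_zero x y z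
      (Subtype.ext (T.kill j))
      (by rw [one_smul]; exact Subtype.ext T.e_u1)
      (Subtype.ext (T.e_u2_ne hij hij.symm)) (fun _ _ => Subtype.ext (lie_add _ _ _)) hc
    have hi' := semi q (fun w => ⟨⁅b.e i, (w : L)⁆, hst _ (memE i) w w.2⟩) d (-(b.A j i : K))
      (neg_ne_zero.mpr (Int.cast_ne_zero.mpr hA)) y z x
      (Subtype.ext (T.e_u1_ne hij))
      (Subtype.ext (T.e_u2 hij))
      (Subtype.ext (T.kill i)) (fun _ _ => Subtype.ext (lie_add _ _ _)) hd
    have hxy := QuadraticMap.polar_comm q x y
    by_cases h : c = 0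
    · obtain ⟨p1, p2, p3⟩ := hj'.2 h
      by_cases h' : d = 0
      · obtain ⟨r1, r2, r3⟩ := hi'.2 h'
        exact ⟨p1, r1, p2, p3, r2⟩
      · obtain ⟨r1, r2, r3, r4, r5, r6⟩ := hi'.1 h'
        exact ⟨p1, r1, p2, p3, r4⟩
    · obtain ⟨p1, p2, p3, p4, p5, p6⟩ := hj'.1 h
      exact ⟨p1, p2, p4, p5, p6⟩
  refine ⟨B.coord 2, q z, fun w => ?_⟩
  have e : w = (B.repr w 0 • x + B.repr w 1 • y) + B.repr w 2 • z := by
    conv_lhs => rw [← B.sum_repr w]
    rw [Fin.sum_univ_three]
    simp [B, x, y, z]
  conv_lhs => rw [e, QuadraticMap.map_add q, QuadraticMap.map_add q]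
  simp only [QuadraticMap.map_smul, QuadraticMap.polar_add_left,
    QuadraticMap.polar_smul_left, QuadraticMap.polar_smul_right, a1, a2, a3, a4, a5, smul_eq_mul,
    Module.Basis.coord_apply]
  ring

end Groth.Agent.S17432
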