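import Groth.Statements.S17433
import Groth.Agent.AdjVarLib.Five
-- import your own Groth.Agent.* helpers here

set_option autoImplicit false
set_option linter.style.haveILetI false
universe u v w
open LieAlgebra LieModule
open AdjVar

namespace Groth.Agent.S17433

open Groth.Agent.AdjVarLib

set_option backward.isDefEq.respectTransparency.types false

/-- Let L be a finite-dimensional simple Lie algebra over an algebraically closed field K of
characteristic zero, H a Cartan subalgebra and b a basis of (L, H) in Mathlib's sense (Chevalley
generators h_i, e_i, f_i indexed by a finite type, with simple roots α_i = b.baseSupp i and upper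
Borel subalgebra 𝔟 = H + the Lie subalgebra generated by the e_i). Let ρ be the highest root: a root
of H on L whose root space is nonzero and such that no ρ + α_i is a root (the root space of ρ + α_i
is zero for every i). Assume that exactly one simple root α_j is not orthogonal to ρ (ρ(h_i) ≠ 0 if
and only if i = j) and that ρ(h_j) = 1; for simple L these two conditions say precisely that L is
not of type A_r or C_r (r ≥ 1), the case excluded in the source. Let A be the Lie subalgebra of L
generated by the root spaces of ρ, of −ρ and of ρ − α_j; this is the smallest Lie subalgebra whose
projectivisation contains both the standard twistor conic (which spans the plane on E_ρ, H_ρ,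
E_{−ρ}) and the Borel-stable line (through E_ρ and E_{ρ−α_j}). Then A has dimension 5, its solvable
radical has dimension 2, and the image of that radical in L is the sum of the root spaces of ρ − α_j
and of −α_j (the two-dimensional ideal which the source's proof displays as the unipotent radical of
A; the solvable radical and the unipotent radical agree here because the quotient of A by this ideal
is sl_2). The published statement also says that the sl_2-subalgebra spanned by the root spaces of ρ
and −ρ is a maximal reductive subalgebra of A; that clause is not stated here. The source states
this for an arbitrary point x of the adjoint variety, a twistor conic C and a line through x, and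
reduces to the present configuration by homogeneity; only this base configuration, which its proof
computes, is stated here. -/
theorem result {ι : Type u} {K : Type v} {L : Type w} [Fintype ι] [Field K] [CharZero K]
    [IsAlgClosed K] [LieRing L] [LieAlgebra K L] [FiniteDimensional K L] [LieAlgebra.IsSimple K L]
    (H : LieSubalgebra K L) [H.IsCartanSubalgebra] (b : LieAlgebra.Basis ι H)
    (ρ : Module.Dual K H) (hρ : rootSpace H ρ ≠ ⊥) (htop : ∀ i, rootSpace H (ρ + b.baseSupp i) = ⊥)
    (j : ι) (hN : ∀ i, ρ (b.h' i) ≠ 0 ↔ i = j) (hj : ρ (b.h' j) = 1)
    (A : LieSubalgebra K L)
    (hA : A = LieSubalgebra.lieSpan K L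
      ((rootSpace H ρ : Set L) ∪ (rootSpace H (-ρ) : Set L) ∪ (rootSpace H (ρ - b.baseSupp j) : Set L))) :
    Module.finrank K A = 5 ∧ Module.finrank K (LieAlgebra.radical K A) = 2 ∧
      (LieAlgebra.radical K A).toSubmodule.map (A.incl : A →ₗ⁅K⁆ L).toLinearMap =
        (rootSpace H (ρ - b.baseSupp j) : Submodule K L) ⊔ (rootSpace H (-b.baseSupp j) : Submodule K L) := by
  obtain ⟨v, T⟩ := exists_top hρ htop hN hj
  have cast : ∀ (μ : Module.Dual K H) (f : H → K), (μ : H → K) = f →
      rs H μ = (rootSpace H f : Submodule K L) := fun μ f h => congrArg (fun g => (rootSpace H g : Submodule K L)) h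
  have e1 := cast (-ρ) (-(ρ : H → K)) (funext fun _ => rfl)
  have e2 := cast (ρ - b.baseSupp j) ((ρ : H → K) - (b.baseSupp j : H → K)) (funext fun _ => rfl)
  have e3 := cast (-b.baseSupp j) (-(b.baseSupp j : H → K)) (funext fun _ => rfl)
  have ht : rs H (ρ + b.baseSupp j) = ⊥ := by
    refine rs_eq_bot_iff.mp ?_
    convert htop j using 2
    exact funext fun _ => rfl
  have h5 := five T ht A (by
    rw [hA, e1, e2]; rfl)
  rw [e2, e3] at h5
  exact h5

end Groth.Agent.S17433
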