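import Groth.Statements.S17435
import Groth.Agent.Misc15.DefoExt
-- import your own Groth.Agent.* helpers here

set_option autoImplicit false
universe u
open CategoryTheory AlgebraicGeometry
open DefoSh

set_option backward.isDefEq.respectTransparency false
set_option backward.isDefEq.respectTransparency.types false
open CategoryTheory.Limits Groth.Agent.Misc15.DefoConnAlg Groth.Agent.Misc15.DefoExt

namespace Groth.Agent.S17435

/-- Let k be a field, X a locally Noetherian scheme over k and E a coherent O_X-module. There is a
bijection e between the isomorphism classes of deformations of E over the dual numbers k[ε]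
(O_X-modules with a k[ε]-action, flat stalkwise, with reduction identified with E) and Ext¹(E, E)
such that, for every such deformation D with reduction π : D.sheaf → E and for the map i : E →
D.sheaf with π ≫ i = ε (multiplication by ε), e sends the class of D to the extension class of the
short exact sequence 0 → E → D.sheaf → E → 0 formed by i and π; and e sends the class of the trivial
deformation E ⊕ εE to 0. The published statement takes X to be any scheme over k; this row assumes X
locally Noetherian, so that coherent means quasi-coherent of finite type. -/
theorem result (k : Type u) [Field k] (X : Scheme.{u})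
    [X.Over (Spec (CommRingCat.of k))] [IsLocallyNoetherian X] (E : X.Modules) (hE : Coh.IsCoh E)
    [HasExt.{u} X.Modules] :
    ∃ e : DefoSh.FirstOrder k E ≃ Abelian.Ext E E 1,
      e (DefoSh.Defo.trivDual k E).cl = 0 ∧
      ∀ (D : DefoSh.Defo E (ArtFun.Art.dual k k)) (i : E ⟶ D.sheaf)
        (hi : D.π ≫ i = D.act (DualNumber.eps : DualNumber k))
        (h0 : i ≫ D.π = 0) (hS : (ShortComplex.mk i D.π h0).ShortExact),
        e D.cl = hS.extClass := by
  choose ι hι using fun D : DefoSh.Defo E (ArtFun.Art.dual k k) => exists_ι D
  let cls : DefoSh.Defo E (ArtFun.Art.dual k k) → Abelian.Ext E E 1 := fun D => (shortExact D (ι D) (hι D)).extClass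
  have huniq : ∀ (D : DefoSh.Defo E (ArtFun.Art.dual k k)) (i : E ⟶ D.sheaf),
      D.π ≫ i = D.act (DualNumber.eps : DualNumber k) → i = ι D := by
    intro D i hi
    haveI := epi_π D
    exact (cancel_epi D.π).1 (hi.trans (hι D).symm)
  let f : DefoSh.FirstOrder k E → Abelian.Ext E E 1 :=
    Quotient.lift cls fun D D' ⟨e⟩ => extClass_eq_of_iso D D' e _ (hι D) _ (hι D')
  have hf : Function.Bijective f := by
    constructor
    · intro a b
      induction a using Quotient.inductionOn with
      | _ D =>
        induction b using Quotient.inductionOn with
        | _ D' => exact fun h => Quotient.sound (iso_of_extClass_eq D D' _ (hι D) _ (hι D') h)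
    · intro η
      obtain ⟨L, u, v, w, h, hη⟩ := Groth.Agent.Et18.ExtRealize.exists_extClass_eq η
      obtain ⟨D, hL, hπ, hu⟩ := exists_defo (k := k) u v w h
      refine ⟨D.cl, ?_⟩
      subst hL
      simp only [eqToHom_refl, Category.id_comp, Category.comp_id] at hπ hu
      subst hπ
      show (shortExact D (ι D) (hι D)).extClass = η
      obtain rfl := huniq D u hu
      exact hη
  refine ⟨Equiv.ofBijective f hf, ?_, fun D i hi h0 hS => ?_⟩
  · let T := DefoSh.Defo.trivDual k E
    show (shortExact T (ι T) (hι T)).extClass = 0
    exact extClass_eq_zero_of_section _ (biprod.inl : E ⟶ E ⊞ E) biprod.inl_fst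
  · obtain rfl := huniq D i hi
    rfl

end Groth.Agent.S17435
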