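import Groth.Statements.S17436
import Groth.Agent.Misc15.DefoConnAlg

set_option autoImplicit false
universe u
open CategoryTheory AlgebraicGeometry
open DefoSh

set_option backward.isDefEq.respectTransparency false
set_option backward.isDefEq.respectTransparency.types false
open CategoryTheory.Limits Opposite Groth.Agent.Misc15.DefoConnAlg

namespace Groth.Agent.S17436

/-- Let k be a field, X a scheme over k with a receptacle of differentials (Ω′, δ) over k, Ω′
quasi-coherent, and E a finite locally free O_X-module with a connection ∇ : E → E ⊗ Ω′. Let D be a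
first-order deformation of E (over k[ε]) with reduction π : D.sheaf → E, let ι : E → D.sheaf be
multiplication by ε (π ≫ ι = ε), and let c₀ be a deformation of ∇ over D (a connection on D.sheaf
commuting with k[ε] and reducing to ∇ along π). Then the deformations c of ∇ over D correspond
bijectively to the O_X-linear maps φ : E → E ⊗ Ω′ (the global sections of End(E) ⊗ Ω′ for a vector
bundle), the bijection Φ being pinned by c − c₀ = π ≫ Φ(c) ≫ (ι ⊗ 1). The printed statement is the
case of the trivial deformation E ⊕ εE; its clause on connections with fixed determinant is not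
stated. The published statement is for a curve with its sheaf of differentials; this row takes any
scheme over k with any quasi-coherent receptacle of differentials, which the printed computation
does not use. -/
theorem result (k : Type u) [Field k] (X : Scheme.{u})
    [X.Over (Spec (CommRingCat.of k))] (Ω' : X.Modules) (δ : OmegaSh.Der (X ↘ Spec (CommRingCat.of k)) Ω')
    (hΩ' : Coh.IsQCoh Ω') (E : X.Modules) (hE : FlatMod.IsFinLocFree E)
    (nabla : Coh.toAb E ⟶ Coh.toAb (CohB1.tensorMod E Ω')) (hn : ConnSh.IsConn δ E nabla)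
    (D : DefoSh.Defo E (ArtFun.Art.dual k k)) (ι : E ⟶ D.sheaf)
    (hι : D.π ≫ ι = D.act (DualNumber.eps : DualNumber k)) (c₀ : DefoSh.DefoConn δ nabla D) :
    ∃ Φ : DefoSh.DefoConn δ nabla D ≃ (E ⟶ CohB1.tensorMod E Ω'),
      ∀ c : DefoSh.DefoConn δ nabla D,
        c.conn - c₀.conn = (SheafOfModules.toSheaf X.ringCatSheaf).map (D.π ≫ Φ c ≫ KoszTw.tensorMap ι (𝟙 Ω')) := by
  haveI := epi_π D
  haveI := mono_T (Ω' := Ω') D ι hι hE
  let mk : (E ⟶ CohB1.tensorMod E Ω') → (D.sheaf ⟶ CohB1.tensorMod D.sheaf Ω') :=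
    fun φ => D.π ≫ φ ≫ T Ω' ι
  have hinj : ∀ φ ψ, A (mk φ) = A (mk ψ) → φ = ψ := fun φ ψ h => by
    have h1 := (SheafOfModules.toSheaf X.ringCatSheaf).map_injective h
    exact (cancel_mono (T Ω' ι)).1 ((cancel_epi D.π).1 h1)
  have hex : ∀ c : DefoSh.DefoConn δ nabla D, ∃ φ, A (mk φ) = c.conn - c₀.conn := by
    intro c
    obtain ⟨Δ, hΔ⟩ := exists_linear_sub c.isConn c₀.isConn
    have h1 : Δ ≫ T Ω' D.π = 0 := by
      apply (SheafOfModules.toSheaf X.ringCatSheaf).map_injective
      show A (Δ ≫ T Ω' D.π) = A 0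
      rw [A_comp, A_zero]
      rw [hΔ, Preadditive.sub_comp, horizontal_iff.1 c.π_horizontal, horizontal_iff.1 c₀.π_horizontal, sub_self]
    have h2 : ι ≫ Δ = 0 := by
      apply (SheafOfModules.toSheaf X.ringCatSheaf).map_injective
      show A (ι ≫ Δ) = A 0
      rw [A_comp, A_zero]
      rw [hΔ, Preadditive.comp_sub, ι_conn D ι hι c, ι_conn D ι hι c₀, sub_self]
    obtain ⟨φ, hφ⟩ := exists_factor D ι _ (shortExact_T hE D ι hι Ω') Δ h1 (ι_π D ι hι) h2 (shortExact D ι hι)
    exact ⟨φ, (congrArg A hφ).trans hΔ⟩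
  choose Φ hΦ using hex
  have hext : ∀ c c' : DefoSh.DefoConn δ nabla D, c.conn = c'.conn → c = c' := by
    rintro ⟨⟩ ⟨⟩ h
    cases h
    rfl
  refine ⟨Equiv.ofBijective Φ ⟨fun c c' h => hext c c' ?_, fun φ => ?_⟩, fun c => (hΦ c).symm⟩
  · have := (hΦ c).symm.trans ((congrArg (fun φ => A (mk φ)) h).trans (hΦ c'))
    exact sub_left_injective this
  · have hΔπ : mk φ ≫ T Ω' D.π = 0 := by
      simp only [mk, Category.assoc, ← T_comp, ι_π D ι hι, T_zero, comp_zero]
    refine ⟨⟨c₀.conn + A (mk φ), ?_, fun z => ?_, ?_⟩, hinj _ _ ((hΦ _).trans ?_)⟩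
    · intro U t e
      show ConnSh.secApp c₀.conn U (t • e) + ConnSh.secApp (A (mk φ)) U (t • e) =
        t • (ConnSh.secApp c₀.conn U e + ConnSh.secApp (A (mk φ)) U e) + _
      rw [c₀.isConn U t e, smul_add, show ConnSh.secApp (A (mk φ)) U (t • e) = t • ConnSh.secApp (A (mk φ)) U e from
        Scheme.Modules.Hom.app_smul (mk φ) t e]
      abel
    · refine horizontal_iff.2 ?_
      rw [Preadditive.add_comp, Preadditive.comp_add, horizontal_iff.1 (c₀.act_horizontal z), ← A_comp,
        ← A_comp]
      congr 2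
      simp only [mk, Category.assoc, ← T_comp, ι_act D ι hι z, T_smul, Linear.comp_smul]
      rw [← Category.assoc (D.act z : D.sheaf ⟶ D.sheaf), act_π D ι hι z, Linear.smul_comp]
    · refine horizontal_iff.2 ?_
      rw [Preadditive.add_comp, horizontal_iff.1 c₀.π_horizontal, ← A_comp, hΔπ, A_zero, add_zero]
    · exact add_sub_cancel_left _ _

end Groth.Agent.S17436
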