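import Groth.Statements.S17437
import Groth.Agent.Misc15.DefoConnAlg

set_option autoImplicit false
universe u
open CategoryTheory AlgebraicGeometry
open DefoSh

set_option backward.isDefEq.respectTransparency false
set_option backward.isDefEq.respectTransparency.types false
open CategoryTheory.Limits Opposite Groth.Agent.Misc15.DefoConnAlg

namespace Groth.Agent.S17437

/-- Let k be a field, X a scheme over k with a receptacle of differentials (Ω′, δ) over k, Ω′
quasi-coherent, and E a finite locally free O_X-module with a connection ∇ : E → E ⊗ Ω′. Let D be a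
first-order deformation of E with reduction π : D.sheaf → E and let ι : E → D.sheaf be
multiplication by ε (π ≫ ι = ε). Two deformations c and c′ of ∇ over D are transport equivalent —
some automorphism of D inducing the identity of E carries c to c′ — if and only if there is a global
endomorphism S of E with c′ − c = π ≫ (∇ ≫ (S ⊗ 1) − S ≫ ∇) ≫ (ι ⊗ 1); the middle map is minus the
covariant derivative of S for the connection induced on End(E), so together with the bijection
between deformations of ∇ over D and Hom(E, E ⊗ Ω′) this identifies transport classes with H⁰(End(E)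
⊗ Ω′) modulo the derivatives of global endomorphisms. The printed statement is the case of the
trivial deformation. The published statement is for a curve with its sheaf of differentials; this
row takes any scheme over k with any quasi-coherent receptacle of differentials, which the printed
computation does not use. -/
theorem result (k : Type u) [Field k] (X : Scheme.{u})
    [X.Over (Spec (CommRingCat.of k))] (Ω' : X.Modules) (δ : OmegaSh.Der (X ↘ Spec (CommRingCat.of k)) Ω')
    (hΩ' : Coh.IsQCoh Ω') (E : X.Modules) (hE : FlatMod.IsFinLocFree E)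
    (nabla : Coh.toAb E ⟶ Coh.toAb (CohB1.tensorMod E Ω')) (hn : ConnSh.IsConn δ E nabla)
    (D : DefoSh.Defo E (ArtFun.Art.dual k k)) (ι : E ⟶ D.sheaf)
    (hι : D.π ≫ ι = D.act (DualNumber.eps : DualNumber k)) (c c' : DefoSh.DefoConn δ nabla D) :
    DefoSh.DefoConn.Transport c c' ↔ ∃ S : E ⟶ E,
      c'.conn - c.conn = (SheafOfModules.toSheaf X.ringCatSheaf).map D.π ≫
        (nabla ≫ (SheafOfModules.toSheaf X.ringCatSheaf).map (KoszTw.tensorMap S (𝟙 Ω')) - (SheafOfModules.toSheaf X.ringCatSheaf).map S ≫ nabla) ≫
          (SheafOfModules.toSheaf X.ringCatSheaf).map (KoszTw.tensorMap ι (𝟙 Ω')) := by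
  haveI := epi_π D
  let θ : (E ⟶ E) → (D.sheaf ⟶ D.sheaf) := fun S => D.π ≫ S ≫ ι
  have key : ∀ (S : E ⟶ E) (e : D.sheaf ⟶ D.sheaf), e = 𝟙 _ + θ S →
      (ConnSh.IsHorizontal c.conn c'.conn e ↔
        c'.conn - c.conn = A D.π ≫ (nabla ≫ A (T Ω' S) - A S ≫ nabla) ≫ A (T Ω' ι)) := by
    intro S e he
    subst he
    rw [horizontal_iff, T_add, T_id, A_add, A_add, A_id, A_id]
    simp only [θ, T_comp, A_comp, Preadditive.comp_add, Preadditive.add_comp, Category.comp_id,
      Category.id_comp]
    rw [← Category.assoc c.conn, horizontal_iff.1 c.π_horizontal]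
    simp only [Category.assoc, Preadditive.comp_sub, Preadditive.sub_comp, ι_conn D ι hι c']
    constructor <;> intro h
    · rw [sub_eq_sub_iff_add_eq_add]
      exact h.symm.trans (add_comm _ _)
    · rw [sub_eq_sub_iff_add_eq_add] at h
      exact (add_comm _ _).trans h.symm
  constructor
  · rintro ⟨e, he⟩
    let Δ := e.iso.hom - 𝟙 D.sheaf
    have h1 : Δ ≫ D.π = 0 := by
      rw [Preadditive.sub_comp, e.hom_π, Category.id_comp, sub_self]
    have h2 : ι ≫ Δ = 0 := by
      rw [← cancel_epi D.π, comp_zero, ← Category.assoc, hι, Preadditive.comp_sub, e.act_hom]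
      rw [Category.comp_id, ← hι, ← Category.assoc, e.hom_π, sub_self]
    obtain ⟨S, hS⟩ := exists_factor D ι _ (shortExact D ι hι) Δ h1 (ι_π D ι hι) h2 (shortExact D ι hι)
    exact ⟨S, (key S e.iso.hom (by show _ = _ + D.π ≫ S ≫ ι; rw [hS, add_sub_cancel])).1 he⟩
  · rintro ⟨S, hS⟩
    have hθ2 : θ S ≫ θ S = 0 := by
      simp only [θ, Category.assoc]
      rw [← Category.assoc ι, ι_π D ι hι, zero_comp, comp_zero, comp_zero]
    refine ⟨⟨⟨𝟙 _ + θ S, 𝟙 _ - θ S, ?_, ?_⟩, fun a => ?_, ?_⟩, (key S _ rfl).2 hS⟩
    · rw [Preadditive.add_comp, Category.id_comp, Preadditive.comp_sub, Category.comp_id, hθ2, sub_zero, sub_add_cancel]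
    · rw [Preadditive.sub_comp, Category.id_comp, Preadditive.comp_add, Category.comp_id, hθ2, add_zero, add_sub_cancel_right]
    · show (D.act a : D.sheaf ⟶ D.sheaf) ≫ (𝟙 _ + θ S) = (𝟙 _ + θ S) ≫ (D.act a : D.sheaf ⟶ D.sheaf)
      simp only [θ, Preadditive.comp_add, Preadditive.add_comp, Category.id_comp, Category.comp_id, Category.assoc,
        ι_act D ι hι a, Linear.comp_smul]
      rw [← Category.assoc (D.act a : D.sheaf ⟶ D.sheaf), act_π D ι hι a, Linear.smul_comp]
    · show (𝟙 _ + θ S) ≫ D.π = D.π
      simp only [θ, Preadditive.add_comp, Category.id_comp, Category.assoc, ι_π D ι hι, comp_zero, add_zero]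

end Groth.Agent.S17437
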