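import Groth.Statements.S17439
import Groth.Agent.AmpleLib.Tensor
import Groth.Agent.DCat.PullTensor

set_option autoImplicit false
universe u
open CategoryTheory AlgebraicGeometry
open DefoSh

set_option backward.isDefEq.respectTransparency.types false
open CategoryTheory.Limits Opposite TopologicalSpace DefoSh Groth.Agent.AmpleLib

namespace Groth.Agent.S17439

variable {X : Scheme.{u}} {Ω' : X.Modules}

local notation "T" => fun φ => KoszTw.tensorMap φ (𝟙 Ω')

theorem T_tmul {M N : X.Modules} (φ : M ⟶ N) (U : X.Opens) (a : Γ(M, U)) (b : Γ(Ω', U)) :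
    (KoszTw.tensorMap φ (𝟙 Ω')).app U (tmul a b) = tmul (φ.app U a) b := by
  rw [← KoszTw.tensorBi_map_app]
  exact DCat.PullTensor.tensorBi_map_tmul φ U a b

theorem T_add {M N : X.Modules} (φ ψ : M ⟶ N) :
    KoszTw.tensorMap (φ + ψ) (𝟙 Ω') = KoszTw.tensorMap φ (𝟙 Ω') + KoszTw.tensorMap ψ (𝟙 Ω') := by
  refine AmpleLib.hom_ext fun U a b => ?_
  rw [T_tmul]
  show tmul ((φ + ψ).app U a) b =
    (KoszTw.tensorMap φ (𝟙 Ω')).app U (tmul a b) + (KoszTw.tensorMap ψ (𝟙 Ω')).app U (tmul a b)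
  rw [T_tmul, T_tmul, ← tmul_add_left]
  rfl

theorem isHorizontal_add {M M' : X.Modules} {c : Coh.toAb M ⟶ Coh.toAb (CohB1.tensorMod M Ω')}
    {c' : Coh.toAb M' ⟶ Coh.toAb (CohB1.tensorMod M' Ω')} {φ ψ : M ⟶ M'}
    (hφ : ConnSh.IsHorizontal c c' φ) (hψ : ConnSh.IsHorizontal c c' ψ) : ConnSh.IsHorizontal c c' (φ + ψ) := by
  intro U e
  rw [T_add]
  show ConnSh.secApp c' U (φ.app U e + ψ.app U e) = _
  exact (map_add (ConnSh.secApp c' U) _ _).trans (congrArg₂ (· + ·) (hφ U e) (hψ U e))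

variable {k : Type u} [Field k] [X.Over (Spec (CommRingCat.of k))]

/-- a derivation over `k` kills constants -/
theorem d_const (δ : OmegaSh.Der (X ↘ Spec (CommRingCat.of k)) Ω') (c : k) (U : X.Opens) :
    δ.app U (X.presheaf.map (homOfLE (le_top : U ≤ ⊤)).op (Coh.toGlobal (X ↘ Spec (CommRingCat.of k)) c)) = 0 := by
  have h1 := δ.d_app (X := op (⊤ : (Spec (CommRingCat.of k)).Opens)) ((Scheme.ΓSpecIso (CommRingCat.of k)).inv c)
  have h2 := δ.d_map (X := op (⊤ : X.Opens)) (Y := op U) (homOfLE (le_top : U ≤ ⊤)).op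
    (Coh.toGlobal (X ↘ Spec (CommRingCat.of k)) c)
  refine h2.trans ?_
  exact (congrArg (Ω'.val.map (homOfLE (le_top : U ≤ ⊤)).op) h1).trans (map_zero _)

theorem isHorizontal_smul (δ : OmegaSh.Der (X ↘ Spec (CommRingCat.of k)) Ω') {M : X.Modules}
    (c : Coh.toAb M ⟶ Coh.toAb (CohB1.tensorMod M Ω')) (hc : ConnSh.IsConn δ M c) (a : k) :
    ConnSh.IsHorizontal c c (a • 𝟙 M) := by
  let r : ∀ U : X.Opens, Γ(X, U) := fun U =>
    X.presheaf.map (homOfLE (le_top : U ≤ ⊤)).op (Coh.toGlobal (X ↘ Spec (CommRingCat.of k)) a)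
  have hT : KoszTw.tensorMap (a • 𝟙 M) (𝟙 Ω') = a • 𝟙 (CohB1.tensorMod M Ω') := by
    refine AmpleLib.hom_ext fun U x b => ?_
    rw [T_tmul, KLin.smul_id, KLin.smul_id]
    show tmul ((r U) • x) b = (r U) • tmul x b
    exact tmul_smul_left _ _ _
  intro U e
  rw [hT, KLin.smul_id, KLin.smul_id]
  show ConnSh.secApp c U (r U • e) = r U • ConnSh.secApp c U e
  rw [hc U (r U) e, d_const δ a U]
  refine add_eq_left.2 ?_
  have h := AmpleLib.tmul_add_right (L := M) (M := Ω') e 0 0
  rw [add_zero, left_eq_add] at h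
  exact h


/-- Let k be a field, X a scheme over k with a receptacle of differentials (Ω′, δ) over k, Ω′
quasi-coherent, and E a finite locally free O_X-module with a connection ∇ : E → E ⊗ Ω′. Then ∇ has
at least one deformation over the trivial first-order deformation E ⊕ εE of E (a connection on E ⊕
εE commuting with k[ε] and reducing to ∇), so the set of deformations of ∇ over the trivial
deformation (the set that corresponds to H⁰(End(E) ⊗ Ω′)) is not empty. The published statement is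
for a curve with its sheaf of differentials; this row takes any scheme over k with any
quasi-coherent receptacle of differentials, which the printed computation does not use. -/
theorem result (k : Type u) [Field k] (X : Scheme.{u})
    [X.Over (Spec (CommRingCat.of k))] (Ω' : X.Modules) (δ : OmegaSh.Der (X ↘ Spec (CommRingCat.of k)) Ω')
    (hΩ' : Coh.IsQCoh Ω') (E : X.Modules) (hE : FlatMod.IsFinLocFree E)
    (nabla : Coh.toAb E ⟶ Coh.toAb (CohB1.tensorMod E Ω')) (hn : ConnSh.IsConn δ E nabla) :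
    Nonempty (DefoSh.DefoConn δ nabla (DefoSh.Defo.trivDual k E)) := by
  let inl : E ⟶ E ⊞ E := biprod.inl
  let inr : E ⟶ E ⊞ E := biprod.inr
  let fst : E ⊞ E ⟶ E := biprod.fst
  let snd : E ⊞ E ⟶ E := biprod.snd
  let C : Coh.toAb (E ⊞ E) ⟶ Coh.toAb (CohB1.tensorMod (E ⊞ E) Ω') :=
    (SheafOfModules.toSheaf X.ringCatSheaf).map fst ≫ nabla ≫ (SheafOfModules.toSheaf X.ringCatSheaf).map (KoszTw.tensorMap inl (𝟙 Ω')) +
      (SheafOfModules.toSheaf X.ringCatSheaf).map snd ≫ nabla ≫ (SheafOfModules.toSheaf X.ringCatSheaf).map (KoszTw.tensorMap inr (𝟙 Ω'))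
  have hC : ∀ (U : X.Opens) (e : Γ(E ⊞ E, U)), ConnSh.secApp C U e =
      (KoszTw.tensorMap inl (𝟙 Ω')).app U (ConnSh.secApp nabla U (fst.app U e)) +
        (KoszTw.tensorMap inr (𝟙 Ω')).app U (ConnSh.secApp nabla U (snd.app U e)) := fun U e => rfl
  have htot : ∀ (U : X.Opens) (e : Γ(E ⊞ E, U)), inl.app U (fst.app U e) + inr.app U (snd.app U e) = e := by
    intro U e
    exact ConcreteCategory.congr_hom (congrArg (fun g : E ⊞ E ⟶ E ⊞ E => g.app U) (biprod.total (X := E) (Y := E))) e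
  have hconn : ConnSh.IsConn δ (E ⊞ E) C := by
    intro U t e
    have key : ∀ (i : E ⟶ E ⊞ E) (p : E ⊞ E ⟶ E),
        (KoszTw.tensorMap i (𝟙 Ω')).app U (ConnSh.secApp nabla U (p.app U (t • e))) =
          t • (KoszTw.tensorMap i (𝟙 Ω')).app U (ConnSh.secApp nabla U (p.app U e)) +
            tmul (i.app U (p.app U e)) (δ.app U t) := by
      intro i p
      rw [show p.app U (t • e) = t • p.app U e from Scheme.Modules.Hom.app_smul (φ := p) t e]
      erw [hn U t (p.app U e), map_add, Scheme.Modules.Hom.app_smul]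
      exact congrArg _ (T_tmul i U (p.app U e) (δ.app U t))
    rw [hC, hC, key inl fst, key inr snd]
    show _ = t • _ + tmul e (δ.app U t)
    conv_rhs => arg 2; arg 1; rw [← htot U e]
    rw [tmul_add_left, smul_add]
    abel
  have hcomp : ∀ (i : E ⟶ E ⊞ E) (p : E ⊞ E ⟶ E) (U : X.Opens) (x : Γ(E, U)), p.app U (i.app U x) = (i ≫ p).app U x :=
    fun i p U x => rfl
  have hfst : ConnSh.IsHorizontal C nabla fst := by
    intro U e
    rw [hC, map_add, ← ConcreteCategory.comp_apply, ← ConcreteCategory.comp_apply, ← Scheme.Modules.Hom.comp_app,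
      ← Scheme.Modules.Hom.comp_app, ← KoszTw.tensorMap_comp, ← KoszTw.tensorMap_comp, biprod.inl_fst,
      biprod.inr_fst, Category.id_comp]
    rw [KoszTw.tensorMap_id]
    have h0 : KoszTw.tensorMap (0 : E ⟶ E) (𝟙 Ω') = 0 := by
      have := T_add (Ω' := Ω') (0 : E ⟶ E) 0
      rwa [add_zero, left_eq_add] at this
    rw [h0]
    exact (add_zero _).symm
  have hinr : ConnSh.IsHorizontal nabla C inr := by
    intro U x
    rw [hC, hcomp, hcomp, biprod.inr_fst, biprod.inr_snd]
    show (KoszTw.tensorMap inl (𝟙 Ω')).app U (ConnSh.secApp nabla U 0) + _ = _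
    rw [map_zero]
    erw [map_zero, zero_add]
    rfl
  refine ⟨⟨C, hconn, fun z => ?_, hfst⟩⟩
  show ConnSh.IsHorizontal C C (dualAct k E z : E ⊞ E ⟶ E ⊞ E)
  rw [dualAct_hom]
  refine isHorizontal_add (isHorizontal_smul δ C hconn z.fst) ?_
  have h := isHorizontal_comp (isHorizontal_comp hfst hinr) (isHorizontal_smul δ C hconn z.snd)
  rwa [Linear.comp_smul, Category.comp_id] at h

end Groth.Agent.S17439
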