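import Groth.Statements.S17440
import Groth.Agent.Misc15.DefoConnAlg
import Groth.Agent.DCat.LocLift
-- import your own Groth.Agent.* helpers here

set_option autoImplicit false
universe u
open CategoryTheory AlgebraicGeometry
open DefoSh

set_option backward.isDefEq.respectTransparency false
set_option backward.isDefEq.respectTransparency.types false
open CategoryTheory.Limits Groth.Agent.Misc15.DefoConnAlg

namespace Groth.Agent.S17440

theorem restrict_smul {X : Scheme.{u}} {V : X.Opens} (M : X.Modules) (W : V.toScheme.Opens)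
    (r : Γ(X, V.ι ''ᵁ W)) (x : Γ(M, V.ι ''ᵁ W)) :
    (show Γ(V.toScheme, W) from r) • (show Γ(M.restrict V.ι, W) from x) = r • x := by
  show ((V.ι.appIso W).inv (show Γ(V.toScheme, W) from r)) • x = r • x
  rw [Scheme.Opens.ι_appIso]
  rfl

theorem restrict_smul_comm {k : Type u} [Field k] {X : Scheme.{u}} [X.Over (Spec (CommRingCat.of k))] (U : X.Opens)
    {M N : X.Modules} (g : M.restrict U.ι ⟶ N.restrict U.ι) (c : k) :
    (Scheme.Modules.restrictFunctor U.ι).map (c • 𝟙 M) ≫ g = g ≫ (Scheme.Modules.restrictFunctor U.ι).map (c • 𝟙 N) := by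
  refine Scheme.Modules.hom_ext _ _ fun W => ?_
  ext m
  show g.app W ((c • 𝟙 M : M ⟶ M).app (U.ι ''ᵁ W) m) = (c • 𝟙 N : N ⟶ N).app (U.ι ''ᵁ W) (g.app W m)
  rw [KLin.smul_app_apply, KLin.smul_app_apply]
  refine Eq.trans ?_ ((Scheme.Modules.Hom.app_smul g
    (show Γ(↑U, W) from X.presheaf.map (homOfLE le_top).op (Coh.toGlobal (X ↘ Spec (CommRingCat.of k)) c)) m).trans ?_)
  · refine congrArg (g.app W) ?_
    rw [Scheme.Modules.Hom.id_app]
    exact (restrict_smul M W _ _).symm
  · rw [Scheme.Modules.Hom.id_app]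
    exact restrict_smul N W _ _


theorem exists_ι {k : Type u} [Field k] {X : Scheme.{u}} [X.Over (Spec (CommRingCat.of k))] {E : X.Modules}
    (D : DefoSh.Defo E (ArtFun.Art.dual k k)) :
    ∃ ι : E ⟶ D.sheaf, D.π ≫ ι = D.act (DualNumber.eps : DualNumber k) := by
  haveI := epi_π D
  let Ad := ArtFun.Art.dual k k
  let ε : Ad := (DualNumber.eps : DualNumber k)
  have h0 : (D.act ε : D.sheaf ⟶ D.sheaf) ≫ D.π = 0 := D.act_π _ rfl
  have h2 : (D.act ε : D.sheaf ⟶ D.sheaf) ≫ (D.act ε : D.sheaf ⟶ D.sheaf) = 0 := by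
    have h := map_mul D.act ε ε
    rw [show ε * ε = 0 from DualNumber.eps_mul_eps, map_zero, End.mul_def] at h
    exact h.symm
  have hex : (ShortComplex.mk (D.act ε : D.sheaf ⟶ D.sheaf) D.π h0).Exact := by
    refine Groth.Agent.OmegaLib.exact_of_stalks _ fun x => ?_
    rw [ShortComplex.moduleCat_exact_iff]
    intro v hv
    letI : Module Ad (D.sheaf.presheaf.stalk x) := DefoSh.stalkModule D.sheaf D.act.toRingHom x
    have h := D.ker_le x v hv
    have hle : IsLocalRing.maximalIdeal Ad ≤ Ideal.span {ε} := by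
      intro z hz
      rw [ArtFun.Art.mem_maximalIdeal_iff] at hz
      refine Ideal.mem_span_singleton.2 ⟨(TrivSqZeroExt.inl (TrivSqZeroExt.snd (show DualNumber k from z)) : DualNumber k), ?_⟩
      change (show DualNumber k from z) = DualNumber.eps * TrivSqZeroExt.inl _
      ext
      · have hz' : TrivSqZeroExt.fst (show DualNumber k from z) = 0 := hz
        simpa using hz'
      · simp
    replace h := Submodule.smul_mono_left hle h
    rw [Submodule.ideal_span_singleton_smul, Submodule.mem_smul_pointwise_iff_exists] at h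
    obtain ⟨w, -, hw⟩ := h
    exact ⟨w, hw⟩
  haveI : Epi (ShortComplex.mk (D.act ε : D.sheaf ⟶ D.sheaf) D.π h0).g := epi_π D
  exact ⟨hex.desc _ h2, hex.g_desc _ h2⟩

/-- Let k be a field, X a scheme over k, E a finite locally free O_X-module and D a first-order
deformation of E, with reduction π : D.sheaf → E. Then D is locally trivial: every point of X has an
open neighbourhood U together with an isomorphism of O_U-modules between the restrictions to U of
D.sheaf and of E ⊕ εE which commutes with the actions of k[ε] and with the reductions to E. In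
particular the deformed module is again a vector bundle over the dual numbers. -/
theorem result (k : Type u) [Field k] (X : Scheme.{u})
    [X.Over (Spec (CommRingCat.of k))] (E : X.Modules) (hE : FlatMod.IsFinLocFree E)
    (D : DefoSh.Defo E (ArtFun.Art.dual k k)) (x : X) :
    ∃ (U : X.Opens) (e : D.sheaf.restrict U.ι ≅ (DefoSh.Defo.trivDual k E).sheaf.restrict U.ι), x ∈ U ∧
      e.hom ≫ (Scheme.Modules.restrictFunctor U.ι).map (DefoSh.Defo.trivDual k E).π =
        (Scheme.Modules.restrictFunctor U.ι).map D.π ∧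
      ∀ a : ArtFun.Art.dual k k, (Scheme.Modules.restrictFunctor U.ι).map (D.act a) ≫ e.hom =
        e.hom ≫ (Scheme.Modules.restrictFunctor U.ι).map ((DefoSh.Defo.trivDual k E).act a) := by
  haveI := epi_π D
  let εe : D.sheaf ⟶ D.sheaf := D.act (DualNumber.eps : DualNumber k)
  haveI : Coh.IsQCoh E := Groth.Agent.CAlgH3.LocFreeFactor.isQCoh_of_finLocFree hE
  -- the map `ι`
  obtain ⟨ι, hι⟩ := exists_ι D
  obtain ⟨V, hxV, s, hs⟩ := Groth.Agent.DCat.LocLift.exists_liftAt hE (𝟙 E) D.π x
  let R := Scheme.Modules.restrictFunctor V.ι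
  have hS : ((ShortComplex.mk ι D.π (ι_π D ι hι)).map R).ShortExact := (shortExact D ι hι).map_of_exact R
  have hs' : s ≫ R.map D.π = 𝟙 _ := hs.trans (R.map_id E)
  haveI := hS.mono_f
  let σ := ShortComplex.Splitting.ofExactOfSection _ hS.exact s hs' (hS.mono_f)
  let r : R.obj D.sheaf ⟶ R.obj E := σ.r
  have hr : R.map ι ≫ r = 𝟙 _ := σ.f_r
  have hid : r ≫ R.map ι + R.map D.π ≫ s = 𝟙 _ := σ.id
  have hsr : s ≫ r = 0 := σ.s_r
  have hιπ : R.map ι ≫ R.map D.π = 0 := by rw [← R.map_comp, ι_π D ι hι, R.map_zero]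
  have hT : (DefoSh.Defo.trivDual k E).π = (biprod.fst : E ⊞ E ⟶ E) := rfl
  let e : R.obj D.sheaf ≅ R.obj (E ⊞ E) :=
    { hom := R.map D.π ≫ R.map biprod.inl + r ≫ R.map biprod.inr
      inv := R.map biprod.fst ≫ s + R.map biprod.snd ≫ R.map ι
      hom_inv_id := by
        simp only [Preadditive.add_comp, Preadditive.comp_add, Category.assoc, ← R.map_comp_assoc, biprod.inl_fst,
          biprod.inl_snd, biprod.inr_fst, biprod.inr_snd, R.map_zero, R.map_id, zero_comp, comp_zero, Category.id_comp,
          add_zero, zero_add]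
        rw [add_comm]
        exact hid
      inv_hom_id := by
        simp only [Preadditive.add_comp, Preadditive.comp_add, Category.assoc, reassoc_of% hs', reassoc_of% hsr,
          reassoc_of% hr, reassoc_of% hιπ, zero_comp, comp_zero, Category.id_comp, add_zero, zero_add]
        rw [← R.map_comp, ← R.map_comp, ← R.map_add, biprod.total, R.map_id] }
  refine ⟨V, e, hxV, ?_, fun a => ?_⟩
  · show (R.map D.π ≫ R.map biprod.inl + r ≫ R.map biprod.inr) ≫ R.map (biprod.fst : E ⊞ E ⟶ E) = R.map D.π
    simp only [Preadditive.add_comp, Category.assoc, ← R.map_comp, biprod.inl_fst, biprod.inr_fst, R.map_zero,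
      comp_zero, add_zero, Category.comp_id]
  · haveI : IsIso e.inv := Iso.isIso_inv e
    rw [← cancel_epi e.inv, e.inv_hom_id_assoc, ← Category.assoc, ← Iso.eq_comp_inv]
    let w : DualNumber k := a
    have h1 : R.map (D.act a : D.sheaf ⟶ D.sheaf) =
        R.map (w.fst • 𝟙 D.sheaf) + R.map (w.snd • 𝟙 D.sheaf) ≫ R.map D.π ≫ R.map ι := by
      rw [← R.map_comp, ← R.map_comp, ← R.map_add, act_eq D ι hι a, Linear.smul_comp, Category.id_comp]
    have h2 : R.map ((DefoSh.Defo.trivDual k E).act a : E ⊞ E ⟶ E ⊞ E) =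
        R.map (w.fst • 𝟙 (E ⊞ E)) + R.map (w.snd • 𝟙 (E ⊞ E)) ≫ R.map biprod.fst ≫ R.map biprod.inr := by
      rw [← R.map_comp, ← R.map_comp, ← R.map_add]
      refine congrArg R.map ?_
      rw [Linear.smul_comp, Category.id_comp]
      exact DefoSh.dualAct_hom E w
    have h3 : e.inv ≫ R.map D.π = R.map biprod.fst := by
      show (R.map biprod.fst ≫ s + R.map biprod.snd ≫ R.map ι) ≫ R.map D.π = _
      simp only [Preadditive.add_comp, Category.assoc, hs', hιπ, comp_zero, add_zero, Category.comp_id]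
      exact Category.comp_id _
    have h4 : R.map biprod.inr ≫ e.inv = R.map ι := by
      show R.map biprod.inr ≫ (R.map biprod.fst ≫ s + R.map biprod.snd ≫ R.map ι) = _
      simp only [Preadditive.comp_add, ← R.map_comp_assoc, biprod.inr_fst, biprod.inr_snd, R.map_zero, R.map_id,
        zero_comp, zero_add, Category.id_comp]
    show e.inv ≫ R.map (D.act a : D.sheaf ⟶ D.sheaf) =
      R.map ((DefoSh.Defo.trivDual k E).act a : E ⊞ E ⟶ E ⊞ E) ≫ e.inv
    clear_value e
    rw [h1, h2, Preadditive.comp_add, Preadditive.add_comp, restrict_smul_comm V e.inv w.fst]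
    simp only [Category.assoc, h4]
    rw [← Category.assoc e.inv, ← restrict_smul_comm V e.inv w.snd, Category.assoc, ← Category.assoc e.inv, h3]

end Groth.Agent.S17440
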