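import Groth.Statements.S17441
import Groth.Agent.FlatCrit.Inj
import Groth.Agent.ModStalk.Exact

set_option autoImplicit false
universe u
open CategoryTheory AlgebraicGeometry
open DefoSh

namespace Groth.Agent.S17441

/-- Let k be a field, X a scheme over k, E an O_X-module and A a local Artinian k-algebra with residue
field k. If D and D′ are deformations of E over A (O_X-modules with an action of A, flat over A
stalkwise, with reductions π, π′ to E whose stalkwise kernels are m_A times the stalk), then every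
O_X-linear map φ : D.sheaf → D′.sheaf that commutes with the actions of A and satisfies φ ≫ π′ = π
is an isomorphism. The printed remark is the first-order case A = k[ε]; this row states it for every
local Artinian k-algebra A with residue field k. -/
theorem result (k : Type u) [Field k] (X : Scheme.{u})
    [X.Over (Spec (CommRingCat.of k))] (E : X.Modules) (A : ArtFun.Art k k)
    (D D' : DefoSh.Defo E A) (φ : D.sheaf ⟶ D'.sheaf)
    (hact : ∀ a : A, D.act a ≫ φ = φ ≫ D'.act a) (hπ : φ ≫ D'.π = D.π) :
    IsIso φ := by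
  refine Groth.Agent.ModStalk.isIso_of_stalks φ fun p => ?_
  rw [ConcreteCategory.isIso_iff_bijective]
  have hu : ∀ v, ((DerSch.stalkFunctor X p).map φ).hom v = RefHull.stalkMapₗ φ p v := by
    intro v
    obtain ⟨U, hU, m, rfl⟩ := TopCat.Presheaf.exists_germ_eq D.sheaf.presheaf v
    rw [RefHull.stalkMapₗ_germ]
    exact DerSch.stalkFunctor_map_germ p φ U hU m
  have hm : IsNilpotent (IsLocalRing.maximalIdeal A) := by
    rw [← IsLocalRing.jacobson_eq_maximalIdeal ⊥ bot_ne_top]
    exact IsArtinianRing.isNilpotent_jacobson_bot (R := A)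
  letI i1 := DefoSh.stalkModule D.sheaf D.act.toRingHom p
  letI i2 := DefoSh.stalkModule D'.sheaf D'.act.toRingHom p
  haveI : Module.Flat A ↑(D'.sheaf.presheaf.stalk p) := D'.flat p
  haveI : Module.Free A ↑(D'.sheaf.presheaf.stalk p) := Groth.Agent.FlatCrit.free_of_flat_of_isNilpotent hm
  let u : ↑(D.sheaf.presheaf.stalk p) →ₗ[A] ↑(D'.sheaf.presheaf.stalk p) :=
    { toFun := fun v => RefHull.stalkMapₗ φ p v
      map_add' := fun v w => map_add (RefHull.stalkMapₗ φ p) v w
      map_smul' := fun a v => by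
        show RefHull.stalkMapₗ φ p (RefHull.stalkMapₗ (D.act a) p v) =
          RefHull.stalkMapₗ (D'.act a) p (RefHull.stalkMapₗ φ p v)
        rw [← DefoSh.stalkMapₗ_comp_apply, ← DefoSh.stalkMapₗ_comp_apply, hact] }
  have hπu : ∀ v, RefHull.stalkMapₗ D'.π p (u v) = RefHull.stalkMapₗ D.π p v := by
    intro v
    show RefHull.stalkMapₗ D'.π p (RefHull.stalkMapₗ φ p v) = _
    rw [← DefoSh.stalkMapₗ_comp_apply, hπ]
  have hsurj : Function.Surjective u := by
    rw [← LinearMap.range_eq_top]
    refine Groth.Agent.FlatCrit.submodule_eq_top_of_nilpotent hm _ (eq_top_iff.2 fun w _ => ?_)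
    obtain ⟨v, hv⟩ := D.surj p (RefHull.stalkMapₗ D'.π p w)
    refine Submodule.mem_sup.2 ⟨u v, ⟨v, rfl⟩, w - u v, D'.ker_le p _ ?_, add_sub_cancel _ _⟩
    rw [map_sub, hπu, hv, sub_self]
  obtain ⟨σ, hσ⟩ := Module.projective_lifting_property u LinearMap.id hsurj
  have hσ' : ∀ w, u (σ w) = w := fun w => LinearMap.congr_fun hσ w
  have hσs : Function.Surjective σ := by
    rw [← LinearMap.range_eq_top]
    refine Groth.Agent.FlatCrit.submodule_eq_top_of_nilpotent hm _ (eq_top_iff.2 fun v _ => ?_)
    refine Submodule.mem_sup.2 ⟨σ (u v), ⟨u v, rfl⟩, v - σ (u v), D.ker_le p _ ?_, add_sub_cancel _ _⟩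
    rw [map_sub, ← hπu (σ (u v)), hσ', hπu, sub_self]
  have hinj : Function.Injective u := by
    intro a b hab
    obtain ⟨a', rfl⟩ := hσs a
    obtain ⟨b', rfl⟩ := hσs b
    rw [hσ', hσ'] at hab
    rw [hab]
  constructor
  · intro a b hab
    exact hinj ((hu a).symm.trans (hab.trans (hu b)))
  · intro w
    obtain ⟨v, hv⟩ := hsurj w
    exact ⟨v, (hu v).trans hv⟩

end Groth.Agent.S17441
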