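import Groth.Statements.S17443
import Groth.Agent.AbCubeLib.Poincare
-- import your own Groth.Agent.* helpers here

set_option autoImplicit false
universe u
open CategoryTheory CategoryTheory.Limits MonoidalCategory CartesianMonoidalCategory MonObj GrpObj AlgebraicGeometry
open AbVar

namespace Groth.Agent.S17443

/-- Let k be a field, A an abelian variety over k (a proper smooth k-group scheme with geometrically
connected fibres), (A^t, φ) a given dual abelian variety of A for the fppf topology with A^t itself
an abelian variety, and P an invertible module on A ×_k A^t whose class is a Poincaré class (it lies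
in Pic⁰ fibrewise over A^t, corresponds to the identity of A^t under φ, and is rigidified along the
unit section of A). Write [-1] for the inverse of the identity in the group of endomorphisms of A,
resp. of A^t (the inversion). Then the pull back of P along id_A × [-1] and the pull back of P along
[-1] × id_{A^t} are both inverse to P: their tensor products with P have the class of the structure
sheaf. (This is the case n = -1 of the published statement, which asserts (id_A × [n])^*P ≅ P^{⊗n} ≅
([n] × id_{A^t})^*P for every integer n; together with the case n ≥ 0 it yields every integer n.) -/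
theorem result (k : Type u) [Field k]
    (A At : Over (Spec (CommRingCat.of k))) [GrpObj A] [IsProper A.hom] [Smooth A.hom] [GeometricallyConnected A.hom]
    [GrpObj At] [IsProper At.hom] [Smooth At.hom] [GeometricallyConnected At.hom]
    (φ : ∀ T : Over (Spec (CommRingCat.of k)), PicF.Cl (PicF.XT A.hom T) → (T ⟶ At))
    (hφ : AbDual.IsDualAV Scheme.fppfPrecoverage A At φ)
    (P : (PicF.XT A.hom At).Modules) (hP : PicF.IsInvertible P)
    (hξ : AbDual.IsPoincareCl A At φ (PicF.cl P)) :
    PicF.IsTrivialCl (PicF.cl (CohB1.tensorMod ((Scheme.Modules.pullback (PicF.XTmap A.hom (𝟙 At)⁻¹)).obj P) P)) ∧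
      PicF.IsTrivialCl (PicF.cl (CohB1.tensorMod ((Scheme.Modules.pullback (AbDual.bcMap (𝟙 A)⁻¹ At)).obj P) P)) := by
  haveI : GeometricallyIntegral A.hom := Groth.Agent.AbVarLib.geometricallyIntegral_of_smooth A.hom
  haveI : GeometricallyIntegral At.hom := Groth.Agent.AbVarLib.geometricallyIntegral_of_smooth At.hom
  have key := (AbCubeLib.poincare_pow hφ (PicLib.PicM.of hP) hξ (fst A At) (snd A At) 1).2
  have e0 : lift (fst A At) (snd A At) = 𝟙 _ := lift_fst_snd
  rw [e0, AbCubeLib.pb_id] at key
  have e1 : PicF.XTmap A.hom (𝟙 At)⁻¹ = (lift (fst A At) (snd A At)⁻¹).left := by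
    rw [show (snd A At)⁻¹ = snd A At ≫ (𝟙 At)⁻¹ by rw [GrpObj.comp_inv, Category.comp_id]]
    exact AbCubeLib.XTmap_eq A (𝟙 At)⁻¹
  have e2 : AbDual.bcMap (𝟙 A)⁻¹ At = (lift (fst A At)⁻¹ (snd A At)).left := by
    rw [show (fst A At)⁻¹ = fst A At ≫ (𝟙 A)⁻¹ by rw [GrpObj.comp_inv, Category.comp_id]]
    exact AbCubeLib.bcMap_eq (𝟙 A)⁻¹ At
  refine ⟨?_, ?_⟩
  · rw [e1]
    exact congrArg PicLib.PicM.val key.2
  · rw [e2]
    exact congrArg PicLib.PicM.val key.1

end Groth.Agent.S17443
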