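import Groth.Statements.S17444


set_option autoImplicit false
universe u v
open SSRed

namespace Groth.Agent.S17444

/-- Let K be a field of characteristic zero, V a K-vector space and g a K-linear endomorphism of V such
that g - 1 is nilpotent (a unipotent automorphism). Then for every integer n > 0 the endomorphisms
gⁿ - 1 and g - 1 have the same kernel: a vector fixed by gⁿ is fixed by g. (The published statement
assumes V finite-dimensional; this row allows any V.) -/
theorem result (K : Type u) (V : Type v) [Field K] [CharZero K]
    [AddCommGroup V] [Module K V] (g : Module.End K V) (hg : IsNilpotent (g - 1)) (n : ℕ) (hn : 0 < n) :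
    LinearMap.ker (g ^ n - 1) = LinearMap.ker (g - 1) := by
  have hcomm : Commute (g - 1) (∑ i ∈ Finset.range n, g ^ i) :=
    Commute.sum_right _ _ _ fun i _ => ((Commute.refl g).sub_left (Commute.one_left g)).pow_right i
  have hfac : g ^ n - 1 = (∑ i ∈ Finset.range n, g ^ i) * (g - 1) := (geom_sum_mul g n).symm
  have hunit : IsUnit (∑ i ∈ Finset.range n, g ^ i) := by
    have h1 : (∑ i ∈ Finset.range n, g ^ i) = (n : Module.End K V) + ∑ i ∈ Finset.range n, (g ^ i - 1) := by
      simp
    have hnil : IsNilpotent (∑ i ∈ Finset.range n, (g ^ i - 1)) := by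
      have : (∑ i ∈ Finset.range n, (g ^ i - 1)) = (∑ i ∈ Finset.range n, ∑ j ∈ Finset.range i, g ^ j) * (g - 1) := by
        rw [Finset.sum_mul]; exact Finset.sum_congr rfl fun i _ => (geom_sum_mul g i).symm
      rw [this]
      refine Commute.isNilpotent_mul_left ?_ hg
      exact Commute.sum_left _ _ _ fun i _ => Commute.sum_left _ _ _ fun j _ => (((Commute.refl g).sub_left (Commute.one_left g)).pow_right j).symm
    have hu : IsUnit (n : Module.End K V) := by
      have := (isUnit_iff_ne_zero.2 (Nat.cast_ne_zero.2 hn.ne' : (n : K) ≠ 0)).map (algebraMap K (Module.End K V))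
      simpa using this
    rw [h1]
    exact hnil.isUnit_add_left_of_commute hu (Nat.cast_commute n _).symm
  obtain ⟨u, hu⟩ := hunit
  ext x
  rw [hfac, ← hu, LinearMap.mem_ker, LinearMap.mem_ker, Module.End.mul_apply]
  constructor
  · intro h
    have := congrArg (↑u⁻¹ : Module.End K V) h
    rwa [← Module.End.mul_apply, Units.inv_mul, map_zero] at this
  · intro h; rw [h, map_zero]

end Groth.Agent.S17444
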