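import Groth.Statements.S17445
import Mathlib
import Groth.Prelude

set_option linter.all false

set_option autoImplicit false
open Finset
open SSRed

open Finset

namespace Groth.Agent.S17445

theorem val_prod (p : ℕ) [Fact p.Prime] {ι : Type} (s : Finset ι) (f : ι → ℕ) (h : ∀ i ∈ s, f i ≠ 0) :
    padicValNat p (∏ i ∈ s, f i) = ∑ i ∈ s, padicValNat p (f i) := by
  classical
  induction s using Finset.induction_on with
  | empty => simp
  | @insert i s hi ih =>
    rw [prod_insert hi, sum_insert hi, padicValNat.mul (h i (mem_insert_self i s))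
      (prod_ne_zero_iff.2 fun j hj => h j (mem_insert_of_mem hj)), ih fun j hj => h j (mem_insert_of_mem hj)]

theorem val_factorial (p : ℕ) [Fact p.Prime] (g : ℕ) : ∑ a ∈ Icc 1 g, padicValNat p a = padicValNat p g.factorial := by
  induction g with
  | zero => simp
  | succ g ih =>
    rw [Finset.sum_Icc_succ_top (by omega), ih, Nat.factorial_succ, padicValNat.mul (by omega) g.factorial_ne_zero, add_comm]

theorem term_ne_zero {l a : ℕ} (hl : 1 < l) (ha : 1 ≤ a) : l ^ (2 * a) - 1 ≠ 0 := by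
  have : 1 < l ^ (2 * a) := Nat.one_lt_pow (by omega) hl
  omega

theorem pow_add_sq (r p n : ℕ) : ∃ c, (r + p) ^ (n + 1) = r ^ (n + 1) + (n + 1) * r ^ n * p + p ^ 2 * c := by
  induction n with
  | zero => exact ⟨0, by ring⟩
  | succ n ih =>
    obtain ⟨c, hc⟩ := ih
    exact ⟨(n + 1) * r ^ n + c * (r + p), by rw [pow_succ (r + p), hc]; ring⟩

theorem exists_prim (p : ℕ) [hp : Fact p.Prime] (hp2 : p ≠ 2) :
    ∃ r : ℕ, ¬ p ∣ r ∧ (∀ m : ℕ, (r : ZMod p) ^ m = 1 → p - 1 ∣ m) ∧ ¬ r ^ (p - 1) ≡ 1 [MOD p ^ 2] := by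
  obtain ⟨g, hg⟩ := IsCyclic.exists_generator (α := (ZMod p)ˣ)
  have hord : orderOf g = p - 1 := by
    rw [orderOf_eq_card_of_forall_mem_zpowers hg, Nat.card_eq_fintype_card, ZMod.card_units]
  set r := (g : ZMod p).val with hr
  have hrg : (r : ZMod p) = g := ZMod.natCast_zmod_val _
  have h1 : ¬ p ∣ r := fun h => g.ne_zero (by rw [← hrg, (ZMod.natCast_eq_zero_iff r p).2 h])
  have h2 : ∀ m : ℕ, (r : ZMod p) ^ m = 1 → p - 1 ∣ m := fun m hm => by
    rw [← hord, orderOf_dvd_iff_pow_eq_one, Units.ext_iff, Units.val_pow_eq_pow_val, ← hrg, hm, Units.val_one]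
  by_cases h : r ^ (p - 1) ≡ 1 [MOD p ^ 2]
  · refine ⟨r + p, fun hd => h1 ((Nat.dvd_add_self_right).1 hd), fun m hm => h2 m (by simpa using hm), fun h' => ?_⟩
    obtain ⟨n, hn⟩ : ∃ n, p - 1 = n + 1 := ⟨p - 2, by have := hp.out.two_le; omega⟩
    obtain ⟨c, hc⟩ := pow_add_sq r p n
    rw [hn] at h h'
    have h3 : ((r + p : ℕ) : ZMod (p ^ 2)) ^ (n + 1) = 1 := by
      have := (ZMod.natCast_eq_natCast_iff ((r + p) ^ (n + 1)) 1 (p ^ 2)).2 h'
      simpa using this
    have h4 : (r : ZMod (p ^ 2)) ^ (n + 1) = 1 := by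
      have := (ZMod.natCast_eq_natCast_iff (r ^ (n + 1)) 1 (p ^ 2)).2 h
      simpa using this
    have h5 : (((n + 1) * r ^ n * p : ℕ) : ZMod (p ^ 2)) = 0 := by
      have e := congrArg (fun x : ℕ => (x : ZMod (p ^ 2))) hc
      have hp0 : ((p : ZMod (p ^ 2))) ^ 2 = 0 := by exact_mod_cast ZMod.natCast_self (p ^ 2)
      push_cast at e h3 ⊢
      rw [hp0, zero_mul, add_zero, h3, h4] at e
      linear_combination -e
    rw [ZMod.natCast_eq_zero_iff, sq] at h5
    have h6 := Nat.dvd_of_mul_dvd_mul_right hp.out.pos h5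
    rcases (Nat.Prime.dvd_mul hp.out).1 h6 with h7 | h7
    · have := Nat.le_of_dvd (by omega) h7; omega
    · exact h1 (hp.out.dvd_of_dvd_pow h7)
  · exact ⟨r, h1, h2, h⟩

/-- the exponent at the odd prime `p` -/
def e (g p : ℕ) : ℕ := (2 * g) / (p - 1) + ∑ i ∈ Icc 1 ((2 * g) / (p - 1)), padicValNat p i

theorem sum_reindex (g p : ℕ) [hp : Fact p.Prime] (hp2 : p ≠ 2) :
    ∑ a ∈ (Icc 1 g).filter (fun a => p - 1 ∣ 2 * a), (1 + padicValNat p (2 * a / (p - 1))) = e g p := by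
  obtain ⟨q, hq⟩ := hp.out.odd_of_ne_two hp2
  have hq0 : 1 ≤ q := by have := hp.out.two_le; omega
  rw [show p - 1 = 2 * q by omega] at *
  unfold e
  rw [show p - 1 = 2 * q by omega]
  have hcard : (2 * g) / (2 * q) = g / q := Nat.mul_div_mul_left g q (by omega)
  rw [hcard, show g / q + ∑ i ∈ Icc 1 (g / q), padicValNat p i = ∑ i ∈ Icc 1 (g / q), (1 + padicValNat p i) by
    rw [sum_add_distrib]; simp]
  refine sum_nbij' (fun a => a / q) (fun i => q * i) ?_ ?_ ?_ ?_ ?_
  · intro a ha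
    simp only [mem_filter, mem_Icc] at ha ⊢
    obtain ⟨c, hc⟩ := Nat.dvd_of_mul_dvd_mul_left (by norm_num) ha.2
    refine ⟨?_, Nat.div_le_div_right ha.1.2⟩
    rw [hc, Nat.mul_div_cancel_left _ (by omega)]
    rcases c with - | c
    · simp at hc; omega
    · omega
  · intro i hi
    simp only [mem_filter, mem_Icc] at hi ⊢
    exact ⟨⟨Nat.one_le_iff_ne_zero.2 (Nat.mul_ne_zero (by omega) (by omega)), by
      rw [mul_comm]; exact (Nat.le_div_iff_mul_le (by omega)).1 hi.2⟩, ⟨i, by ring⟩⟩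
  · intro a ha
    simp only [mem_filter] at ha
    exact Nat.mul_div_cancel' (Nat.dvd_of_mul_dvd_mul_left (by norm_num) ha.2)
  · intro i hi
    exact Nat.mul_div_cancel_left i (by omega)
  · intro a ha
    rw [Nat.mul_div_mul_left a q (by norm_num)]

theorem odd_le (p l g : ℕ) [hp : Fact p.Prime] (hp2 : p ≠ 2) (hl : 1 < l) (hpl : ¬ p ∣ l) :
    e g p ≤ padicValNat p (∏ a ∈ Icc 1 g, (l ^ (2 * a) - 1)) := by
  rw [val_prod p _ _ (fun a ha => term_ne_zero hl (mem_Icc.1 ha).1), ← sum_reindex g p hp2]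
  refine le_trans (sum_le_sum fun a ha => ?_) (sum_le_sum_of_subset (filter_subset _ _))
  obtain ⟨ha1, c, hc⟩ := mem_filter.1 ha
  have hpm : p - 1 ≠ 0 := by have := hp.out.two_le; omega
  have hc0 : c ≠ 0 := fun h => by rw [h] at hc; have := (mem_Icc.1 ha1).1; omega
  have h1 : 1 < l ^ (p - 1) := Nat.one_lt_pow hpm hl
  have hd : p ∣ l ^ (p - 1) - 1 := by
    have h := Nat.ModEq.pow_totient (show Nat.Coprime l p from (hp.out.coprime_iff_not_dvd.2 hpl).symm)
    rw [Nat.totient_prime hp.out] at h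
    exact (Nat.modEq_iff_dvd' h1.le).1 h.symm
  have hval := padicValNat.pow_sub_pow (p := p) (hp.out.odd_of_ne_two hp2) (y := 1) h1 hd
    (fun h => hpl (hp.out.dvd_of_dvd_pow h)) hc0
  rw [one_pow, ← pow_mul, ← hc] at hval
  rw [hval, hc, Nat.mul_div_cancel_left _ (Nat.pos_of_ne_zero hpm)]
  have : 1 ≤ padicValNat p (l ^ (p - 1) - 1) := one_le_padicValNat_of_dvd (by omega) hd
  omega

theorem odd_eq (p g B : ℕ) [hp : Fact p.Prime] (hp2 : p ≠ 2) :
    ∃ l : ℕ, l.Prime ∧ B < l ∧ padicValNat p (∏ a ∈ Icc 1 g, (l ^ (2 * a) - 1)) = e g p := by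
  obtain ⟨r, h1, h2, h3⟩ := exists_prim p hp2
  obtain ⟨l, hlB, hl, hlr⟩ := Nat.forall_exists_prime_gt_and_modEq B (q := p ^ 2) (a := r) (pow_ne_zero _ hp.out.ne_zero)
    (Nat.Coprime.pow_right 2 (hp.out.coprime_iff_not_dvd.2 h1).symm)
  refine ⟨l, hl, hlB, ?_⟩
  have hlr1 : (l : ZMod p) = (r : ZMod p) := (ZMod.natCast_eq_natCast_iff l r p).2 (hlr.of_dvd (dvd_pow_self p two_ne_zero))
  have hpl : ¬ p ∣ l := fun h => h1 ((ZMod.natCast_eq_zero_iff r p).1 (hlr1 ▸ (ZMod.natCast_eq_zero_iff l p).2 h))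
  rw [val_prod p _ _ (fun a ha => term_ne_zero hl.one_lt (mem_Icc.1 ha).1), ← sum_reindex g p hp2, sum_filter]
  refine sum_congr rfl fun a ha => ?_
  have h1l : 1 < l ^ (2 * a) := Nat.one_lt_pow (by have := (mem_Icc.1 ha).1; omega) hl.one_lt
  split_ifs with hd
  · obtain ⟨c, hc⟩ := hd
    have hpm : p - 1 ≠ 0 := by have := hp.out.two_le; omega
    have hc0 : c ≠ 0 := fun h => by rw [h] at hc; have := (mem_Icc.1 ha).1; omega
    have h1' : 1 < l ^ (p - 1) := Nat.one_lt_pow hpm hl.one_lt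
    have hd' : p ∣ l ^ (p - 1) - 1 := by
      have h := Nat.ModEq.pow_totient (show Nat.Coprime l p from (hp.out.coprime_iff_not_dvd.2 hpl).symm)
      rw [Nat.totient_prime hp.out] at h
      exact (Nat.modEq_iff_dvd' h1'.le).1 h.symm
    have hval := padicValNat.pow_sub_pow (p := p) (hp.out.odd_of_ne_two hp2) (y := 1) h1' hd'
      (fun h => hpl (hp.out.dvd_of_dvd_pow h)) hc0
    rw [one_pow, ← pow_mul, ← hc] at hval
    rw [hval, hc, Nat.mul_div_cancel_left _ (Nat.pos_of_ne_zero hpm)]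
    congr 1
    refine le_antisymm ?_ (one_le_padicValNat_of_dvd (by omega) hd')
    by_contra hgt
    have h2' : p ^ 2 ∣ l ^ (p - 1) - 1 := (padicValNat_dvd_iff_le (by omega)).2 (by omega)
    exact h3 ((hlr.pow (p - 1)).symm.trans ((Nat.modEq_iff_dvd' h1'.le).2 h2').symm)
  · refine padicValNat.eq_zero_of_not_dvd fun h => hd (h2 _ ?_)
    rw [← hlr1, ← Nat.cast_pow, ← Nat.cast_one (R := ZMod p), ZMod.natCast_eq_natCast_iff]
    exact ((Nat.modEq_iff_dvd' h1l.le).2 h).symm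

theorem two_le (l g : ℕ) (hl : 1 < l) (h2l : ¬ 2 ∣ l) :
    3 * g + padicValNat 2 g.factorial ≤ padicValNat 2 (∏ a ∈ Icc 1 g, (l ^ (2 * a) - 1)) := by
  rw [val_prod 2 _ _ (fun a ha => term_ne_zero hl (mem_Icc.1 ha).1), ← val_factorial 2 g,
    show 3 * g = ∑ a ∈ Icc 1 g, 3 by simp [mul_comm], ← sum_add_distrib]
  refine sum_le_sum fun a ha => ?_
  have ha1 := (mem_Icc.1 ha).1
  have h := padicValNat.pow_two_sub_one_ge hl h2l (n := 2 * a) (by omega) (even_two_mul a)
  rw [padicValNat.mul (by norm_num) (by omega), padicValNat.self (by norm_num)] at h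
  omega

theorem two_eq (g B : ℕ) :
    ∃ l : ℕ, l.Prime ∧ B < l ∧ padicValNat 2 (∏ a ∈ Icc 1 g, (l ^ (2 * a) - 1)) = 3 * g + padicValNat 2 g.factorial := by
  obtain ⟨l, hlB, hl, hl8⟩ := Nat.forall_exists_prime_gt_and_modEq B (q := 8) (a := 3) (by norm_num) (by decide)
  refine ⟨l, hl, hlB, ?_⟩
  have h8 : l % 8 = 3 := hl8
  have h2l : ¬ 2 ∣ l := by omega
  rw [val_prod 2 _ _ (fun a ha => term_ne_zero hl.one_lt (mem_Icc.1 ha).1), ← val_factorial 2 g,
    show 3 * g = ∑ a ∈ Icc 1 g, 3 by simp [mul_comm], ← sum_add_distrib]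
  refine sum_congr rfl fun a ha => ?_
  have ha1 := (mem_Icc.1 ha).1
  have h := padicValNat.pow_two_sub_one hl.one_lt h2l (n := 2 * a) (by omega) (even_two_mul a)
  have e1 : padicValNat 2 (l - 1) = 1 := by
    obtain ⟨c, hc⟩ : ∃ c, l - 1 = 2 * (2 * c + 1) := ⟨(l - 1) / 4, by omega⟩
    rw [hc, padicValNat.mul (by norm_num) (by omega), padicValNat.self (by norm_num), padicValNat.eq_zero_of_not_dvd (by omega)]
  have e2 : padicValNat 2 (l + 1) = 2 := by
    obtain ⟨c, hc⟩ : ∃ c, l + 1 = 2 ^ 2 * (2 * c + 1) := ⟨(l + 1) / 8, by omega⟩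
    rw [hc, padicValNat.mul (by norm_num) (by omega), padicValNat.prime_pow, padicValNat.eq_zero_of_not_dvd (by omega)]
  rw [padicValNat.mul (by norm_num) (by omega), padicValNat.self (by norm_num), e1, e2] at h
  omega

/-- For natural numbers g and B with B ≥ 2g + 1, a natural number d divides ∏_{a=1}^{g} (ℓ^{2a} - 1) for
every prime ℓ > B if and only if d divides N(g) = 2^{3g + v₂(g!)} · ∏_{3 ≤ p ≤ 2g+1, p prime}
p^{[2g/(p-1)] + Σ_{1 ≤ i ≤ [2g/(p-1)]} v_p(i)}. In words: N(g) is the greatest common divisor of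
these products as ℓ runs through the primes beyond any bound that is at least 2g + 1; its prime
factors are the primes p ≤ 2g + 1. (This is the number N(g) of the published result, which bounds
the degree of the field of semistable reduction of a g-dimensional abelian variety over a strictly
henselian discretely valued field; the printed phrase is the greatest common divisor over all large
primes, made precise here by the bound 2g + 1, below which a prime ℓ ≤ 2g + 1 divides N(g) but not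
its own product.) -/
theorem result (g B d : ℕ) (hB : 2 * g + 1 ≤ B) :
    (∀ ℓ : ℕ, ℓ.Prime → B < ℓ → d ∣ ∏ a ∈ Icc 1 g, (ℓ ^ (2 * a) - 1)) ↔
      d ∣ 2 ^ (3 * g + padicValNat 2 g.factorial) *
        ∏ p ∈ (Icc 3 (2 * g + 1)).filter Nat.Prime,
          p ^ ((2 * g) / (p - 1) + ∑ i ∈ Icc 1 ((2 * g) / (p - 1)), padicValNat p i) := by
  constructor
  · intro h
    rw [Nat.dvd_iff_prime_pow_dvd_dvd]
    intro p k hp hpk
    haveI := Fact.mk hp
    have hle : ∀ l : ℕ, l.Prime → B < l → k ≤ padicValNat p (∏ a ∈ Icc 1 g, (l ^ (2 * a) - 1)) := fun l hl hlB =>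
      (padicValNat_dvd_iff_le (prod_ne_zero_iff.2 fun a ha => term_ne_zero hl.one_lt (mem_Icc.1 ha).1)).1 (hpk.trans (h l hl hlB))
    by_cases hp2 : p = 2
    · subst hp2
      obtain ⟨l, hl, hlB, hv⟩ := two_eq g B
      exact Dvd.dvd.mul_right (pow_dvd_pow 2 (hv ▸ hle l hl hlB)) _
    · obtain ⟨l, hl, hlB, hv⟩ := odd_eq p g B hp2
      have hk := hv ▸ hle l hl hlB
      by_cases hpg : p ≤ 2 * g + 1
      · refine Dvd.dvd.mul_left (dvd_trans (pow_dvd_pow p hk) ?_) _
        have := dvd_prod_of_mem (fun q => q ^ e g q) (show p ∈ (Icc 3 (2 * g + 1)).filter Nat.Prime from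
          mem_filter.2 ⟨mem_Icc.2 ⟨by have := hp.two_le; omega, hpg⟩, hp⟩)
        exact this
      · have he : e g p = 0 := by
          unfold e
          rw [Nat.div_eq_of_lt (by omega)]
          simp
        rw [he] at hk
        rw [Nat.le_zero.1 hk, pow_zero]
        exact one_dvd _
  · intro h l hl hlB
    refine h.trans ?_
    have hne := prod_ne_zero_iff.2 fun a (ha : a ∈ Icc 1 g) => term_ne_zero hl.one_lt (mem_Icc.1 ha).1
    refine Nat.Coprime.mul_dvd_of_dvd_of_dvd ?_ ?_ ?_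
    · refine Nat.Coprime.pow_left _ (Nat.Coprime.prod_right fun q hq => ?_)
      obtain ⟨hq, hqp⟩ := mem_filter.1 hq
      exact Nat.Coprime.pow_right _ ((Nat.coprime_primes Nat.prime_two hqp).2 (by have := (mem_Icc.1 hq).1; omega))
    · by_cases hg : g = 0
      · subst hg; simp
      refine (padicValNat_dvd_iff_le hne).2 (two_le l g hl.one_lt fun h2 => ?_)
      have := (Nat.prime_dvd_prime_iff_eq Nat.prime_two hl).1 h2
      omega
    · refine prod_dvd_of_isRelPrime (fun q hq q' hq' hne' => ?_) fun q hq => ?_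
      · simp only [coe_filter, Set.mem_setOf_eq] at hq hq'
        exact Nat.coprime_iff_isRelPrime.1 (Nat.Coprime.pow _ _ ((Nat.coprime_primes hq.2 hq'.2).2 hne'))
      · obtain ⟨hq, hqp⟩ := mem_filter.1 hq
        haveI := Fact.mk hqp
        have hq3 := mem_Icc.1 hq
        refine (padicValNat_dvd_iff_le hne).2 (odd_le q l g (by omega) hl.one_lt fun h2 => ?_)
        have := (Nat.prime_dvd_prime_iff_eq hqp hl).1 h2
        omega

end Groth.Agent.S17445
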