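import Groth.Statements.S17446
import Mathlib
import Groth.Prelude

set_option linter.all false

set_option autoImplicit false
universe u v
open SSRed

open IsLocalRing TensorProduct

set_option maxRecDepth 4000

namespace Groth.Agent.S17446

section
variable {K : Type u} {V : Type v} [Field K] [AddCommGroup V] [Module K V]

def dl (g : V ≃ₗ[K] V) : Module.End K V := (g : Module.End K V) - 1

theorem dl_apply (g : V ≃ₗ[K] V) (x : V) : dl g x = g x - x := rfl

def filt (H : Subgroup (V ≃ₗ[K] V)) : ℕ → Submodule K V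
  | 0 => ⊤
  | k + 1 => ⨆ h : H, (filt H k).map (dl (h : V ≃ₗ[K] V))

variable {H : Subgroup (V ≃ₗ[K] V)}

theorem filt_anti : ∀ k, filt H (k + 1) ≤ filt H k
  | 0 => le_top
  | k + 1 => iSup_mono fun h => Submodule.map_mono (filt_anti k)

theorem dl_mem_filt (h : H) {k : ℕ} {x : V} (hx : x ∈ filt H k) : dl (h : V ≃ₗ[K] V) x ∈ filt H (k + 1) :=
  Submodule.mem_iSup_of_mem h (Submodule.mem_map_of_mem hx)

theorem filt_stable (g : V ≃ₗ[K] V) (hg : ∀ h ∈ H, g * h * g⁻¹ ∈ H) : ∀ k, ∀ x ∈ filt H k, g x ∈ filt H k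
  | 0 => fun _ _ => trivial
  | k + 1 => by
    suffices filt H (k + 1) ≤ (filt H (k + 1)).comap (g : Module.End K V) from fun x hx => this hx
    refine iSup_le fun h => Submodule.map_le_iff_le_comap.2 fun x hx => ?_
    have := dl_mem_filt ⟨_, hg h h.2⟩ (filt_stable g hg k x hx)
    simpa [dl_apply, LinearEquiv.mul_apply] using this

theorem filt_eq_bot {n : ℕ} (hH : ∀ L : List H, L.length = n → (L.map fun h => dl h.1).prod = 0) :
    ∀ k (L : List H), k + L.length = n → filt H k ≤ LinearMap.ker (L.map fun h => dl h.1).prod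
  | 0 => fun L hL => by rw [hH L (by omega)]; simp
  | k + 1 => fun L hL => iSup_le fun h => Submodule.map_le_iff_le_comap.2 fun x hx => by
    have := filt_eq_bot hH k (L ++ [h]) (by simp; omega) hx
    simpa using this

theorem list_hyp {H : Subgroup (V ≃ₗ[K] V)} {n : ℕ}
    (h : ∀ f : Fin n → H, (List.ofFn fun i => (((f i : H) : V ≃ₗ[K] V) : Module.End K V) - 1).prod = 0)
    (L : List H) (hL : L.length = n) : (L.map fun h => dl h.1).prod = 0 := by
  subst hL
  rw [← List.ofFn_get L, List.map_ofFn]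
  exact h L.get

theorem unipotent_sup (H₁ H₂ : Subgroup (V ≃ₗ[K] V)) (hnorm : ∀ g ∈ H₂, ∀ h ∈ H₁, g * h * g⁻¹ ∈ H₁)
    {n₁ n₂ : ℕ} (h1 : ∀ L : List H₁, L.length = n₁ → (L.map fun h => dl h.1).prod = 0)
    (h2 : ∀ L : List H₂, L.length = n₂ → (L.map fun h => dl h.1).prod = 0)
    (L : List ↥(H₁ ⊔ H₂)) (hL : L.length = n₁ * n₂) : (L.map fun h => dl h.1).prod = 0 := by
  let S : Subgroup (V ≃ₗ[K] V) :=
    { carrier := {x | ∃ h ∈ H₁, ∃ g ∈ H₂, x = h * g}
      one_mem' := ⟨1, one_mem _, 1, one_mem _, (one_mul _).symm⟩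
      mul_mem' := by
        rintro _ _ ⟨h, hh, g, hg, rfl⟩ ⟨h', hh', g', hg', rfl⟩
        exact ⟨_, mul_mem hh (hnorm g hg h' hh'), _, mul_mem hg hg', by group⟩
      inv_mem' := by
        rintro _ ⟨h, hh, g, hg, rfl⟩
        exact ⟨_, hnorm g⁻¹ (inv_mem hg) h⁻¹ (inv_mem hh), g⁻¹, inv_mem hg, by group⟩ }
  have hS : H₁ ⊔ H₂ ≤ S := sup_le (fun h hh => ⟨h, hh, 1, one_mem _, (mul_one _).symm⟩)
    (fun g hg => ⟨1, one_mem _, g, hg, (one_mul _).symm⟩)
  choose hh hh1 gg gg2 heq using fun x : ↥(H₁ ⊔ H₂) => hS x.2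
  have hstab : ∀ (g : H₂) k, ∀ x ∈ filt H₁ k, (g : V ≃ₗ[K] V) x ∈ filt H₁ k := fun g => filt_stable _ (hnorm _ g.2)
  have key : ∀ (k : ℕ) (x : V), x ∈ filt H₁ k → ∀ M : List ↥(H₁ ⊔ H₂),
      (M.map fun h => dl h.1).prod x ∈ filt H₁ k ∧
      (M.map fun h => dl h.1).prod x - (M.map fun h => dl (gg h)).prod x ∈ filt H₁ (k + 1) := by
    intro k x hx M
    induction M with
    | nil => simp [hx]
    | cons a M ih =>
      simp only [List.map_cons, List.prod_cons, Module.End.mul_apply]
      generalize (M.map fun h => dl h.1).prod x = P at ih ⊢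
      generalize (M.map fun h => dl (gg h)).prod x = P' at ih ⊢
      have e : dl (a : V ≃ₗ[K] V) P = dl (hh a) (gg a P) + dl (gg a) P := by
        simp only [dl_apply]
        rw [heq a, LinearEquiv.mul_apply]
        abel
      have m1 := dl_mem_filt ⟨hh a, hh1 a⟩ (hstab ⟨gg a, gg2 a⟩ k P ih.1)
      have m2 : ∀ j, ∀ y ∈ filt H₁ j, dl (gg a) y ∈ filt H₁ j := fun j y hy => by
        rw [dl_apply]; exact Submodule.sub_mem _ (hstab ⟨gg a, gg2 a⟩ j y hy) hy
      rw [e]
      refine ⟨Submodule.add_mem _ (filt_anti k m1) (m2 k P ih.1), ?_⟩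
      rw [add_sub_assoc, ← map_sub]
      exact Submodule.add_mem _ m1 (m2 (k + 1) _ ih.2)
  have step : ∀ j (M : List ↥(H₁ ⊔ H₂)), M.length = j * n₂ → ∀ x, (M.map fun h => dl h.1).prod x ∈ filt H₁ j := by
    intro j
    induction j with
    | zero => intro M _ x; trivial
    | succ j ih =>
      intro M hM x
      rw [← List.take_append_drop n₂ M, List.map_append, List.prod_append, Module.End.mul_apply]
      have hd := ih (M.drop n₂) (by rw [List.length_drop, hM, Nat.succ_mul]; omega) x
      have hk := (key j _ hd (M.take n₂)).2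
      have hz : ((M.take n₂).map fun h => dl (gg h)).prod = 0 := by
        have := h2 ((M.take n₂).map fun h => ⟨gg h, gg2 h⟩) (by simp [hM, Nat.succ_mul])
        rw [List.map_map] at this
        exact this
      rwa [hz, LinearMap.zero_apply, sub_zero] at hk
  refine LinearMap.ext fun x => ?_
  have := filt_eq_bot h1 n₁ [] rfl (step n₁ L hL x)
  simpa using this
end

/-- Let K be a field, V a finite-dimensional K-vector space and H₁, H₂ subgroups of the group of
K-linear automorphisms of V such that H₂ normalizes H₁. Call the action of a subgroup H unipotent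
when, for some n, every product (h₁ - 1)(h₂ - 1)⋯(hₙ - 1) with all hᵢ in H is the zero endomorphism
(equivalently, V has an H-stable flag on whose successive quotients H acts trivially). If H₁ and H₂
act unipotently, then the subgroup generated by H₁ and H₂ acts unipotently. (In the published result
H₁ and H₂ are the absolute Galois groups of two finite Galois extensions of a strictly henselian
discretely valued field over which an abelian variety becomes semistable, acting on its rational
ℓ-adic Tate module, and the conclusion is semistability over the intersection of the two fields; the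
printed argument uses only that H₂ normalizes H₁.) -/
theorem result (K : Type u) (V : Type v) [Field K]
    [AddCommGroup V] [Module K V] [FiniteDimensional K V]
    (H₁ H₂ : Subgroup (V ≃ₗ[K] V)) (hnorm : ∀ g ∈ H₂, ∀ h ∈ H₁, g * h * g⁻¹ ∈ H₁)
    (h₁ : ∃ n : ℕ, ∀ f : Fin n → ↥H₁,
      (List.ofFn fun i => (((f i : ↥H₁) : V ≃ₗ[K] V) : Module.End K V) - 1).prod = 0)
    (h₂ : ∃ n : ℕ, ∀ f : Fin n → ↥H₂,
      (List.ofFn fun i => (((f i : ↥H₂) : V ≃ₗ[K] V) : Module.End K V) - 1).prod = 0) :
    ∃ n : ℕ, ∀ f : Fin n → ↥(H₁ ⊔ H₂),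
      (List.ofFn fun i => (((f i : ↥(H₁ ⊔ H₂)) : V ≃ₗ[K] V) : Module.End K V) - 1).prod = 0 := by
  obtain ⟨n₁, h1⟩ := h₁
  obtain ⟨n₂, h2⟩ := h₂
  refine ⟨n₁ * n₂, fun f => ?_⟩
  have := unipotent_sup H₁ H₂ hnorm (list_hyp h1) (list_hyp h2) (List.ofFn f) (by simp)
  rw [List.map_ofFn] at this
  exact this

end Groth.Agent.S17446
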