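import Mathlib.AlgebraicGeometry.Morphisms.Proper
import Mathlib.AlgebraicGeometry.Morphisms.Flat
import Mathlib.AlgebraicGeometry.Morphisms.Smooth
import Mathlib.AlgebraicGeometry.Geometrically.Connected
import Mathlib.AlgebraicGeometry.Fiber
import Mathlib.AlgebraicGeometry.Noetherian
import Mathlib.Topology.Sober
import Groth.Agent.S1363
import Groth.Agent.FlatMorGeomIrr.CountOne
import Mathlib.Topology.Sober

set_option autoImplicit false
universe u
namespace CategoryTheory
end CategoryTheory
namespace CategoryTheory.Limits
end CategoryTheory.Limits
namespace AlgebraicGeometry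
end AlgebraicGeometry
open CategoryTheory CategoryTheory.Limits AlgebraicGeometry
namespace Stein
end Stein
open Stein

namespace Groth.Agent.S17449

/-- Let S be a Noetherian scheme and f : X → S a proper, flat and surjective morphism. Suppose that for
every generic point η of an irreducible component of S the fibre of f at η is geometrically
connected and smooth over the residue field κ(η). Then every fibre of f is geometrically connected. -/
theorem result {X S : Scheme.{u}}
    (f : X ⟶ S) [IsProper f] [Flat f] [Surjective f] [IsNoetherian S]
    (h : ∀ (Z : Set ↑S) (η : ↑S), Z ∈ irreducibleComponents ↑S → IsGenericPoint η Z →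
      GeometricallyConnected (f.fiberToSpecResidueField η) ∧ Smooth (f.fiberToSpecResidueField η)) :
    GeometricallyConnected f := by
  haveI : LocallyOfFinitePresentation f := inferInstance
  rw [GeometricallyConnected.iff_geometricallyConnected_fiber]
  intro s
  rw [Groth.Agent.FlatMorGeomIrr.geometricallyConnected_iff_count]
  have h1 : 1 ≤ MoreMor.nGeomConnComp f s := by
    haveI : Surjective (f.fiberToSpecResidueField s) := inferInstanceAs (Surjective (pullback.snd f _))
    haveI : Surjective (pullback.snd (f.fiberToSpecResidueField s) (Spec.map (CommRingCat.ofHom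
      (algebraMap (S.residueField s) (SeparableClosure (S.residueField s)))))) := inferInstance
    obtain ⟨w, -⟩ := (pullback.snd (f.fiberToSpecResidueField s) (Spec.map (CommRingCat.ofHom
      (algebraMap (S.residueField s) (SeparableClosure (S.residueField s)))))).surjective
        (⟨⊥, Ideal.isPrime_bot⟩ : PrimeSpectrum (SeparableClosure (S.residueField s)))
    refine Order.one_le_iff_pos.2 (pos_iff_ne_zero.2 fun h0 => ?_)
    unfold MoreMor.nGeomConnComp at h0
    exact ((ENat.card_eq_zero_iff_empty _).1 h0).false (_root_.ConnectedComponents.mk w)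
  refine le_antisymm (not_lt.1 fun hlt => ?_) h1
  obtain ⟨Z, hZ, hsZ⟩ : ∃ Z ∈ irreducibleComponents S, s ∈ Z :=
    ⟨_, irreducibleComponent_mem_irreducibleComponents s, mem_irreducibleComponent⟩
  obtain ⟨η, hη⟩ := QuasiSober.sober hZ.1 (isClosed_of_mem_irreducibleComponents Z hZ)
  have hopen := (Groth.Agent.S1363.result f).isOpen_preimage 1
  have hmem : η ∈ (fun t => MoreMor.nGeomConnComp f t) ⁻¹' Set.Ioi 1 :=
    (hη.specializes hsZ).mem_open hopen hlt
  exact (ne_of_gt (show 1 < MoreMor.nGeomConnComp f η from hmem))
    ((Groth.Agent.FlatMorGeomIrr.geometricallyConnected_iff_count f η).1 (h Z η hZ hη).1)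

end Groth.Agent.S17449
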