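import Groth.Statements.S8925
import Groth.Agent.InjHullLib.Basic
import Mathlib.RingTheory.Flat.Basic
import Mathlib.LinearAlgebra.TensorProduct.Tower

open TensorProduct

set_option autoImplicit false
universe u
open InjHull

namespace Groth.Agent.S8925

/-- If S is a flat R-algebra and E is an injective S-module, then E, viewed as an R-module by
restriction of scalars, is an injective R-module. -/
theorem result (R S : Type u) [CommRing R] [CommRing S] [Algebra R S] [Module.Flat R S] (E : Type u) [AddCommGroup E] [Module S E] [Module R E] [IsScalarTower R S E] [Module.Injective S E] : Module.Injective R E := by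
  refine Module.Baer.injective fun 𝔞 g => ?_
  let j : TensorProduct R S 𝔞 →ₗ[S] TensorProduct R S R := LinearMap.baseChange S 𝔞.subtype
  have hj : Function.Injective j :=
    Module.Flat.lTensor_preserves_injective_linearMap 𝔞.subtype Subtype.val_injective
  obtain ⟨h, hh⟩ := Module.Injective.out j hj (LinearMap.liftBaseChange S g)
  refine ⟨LinearMap.toSpanSingleton R E (h (1 ⊗ₜ 1)), fun a ha => ?_⟩
  have h1 := hh (1 ⊗ₜ ⟨a, ha⟩)
  simp only [j, LinearMap.baseChange_tmul, LinearMap.liftBaseChange_tmul, one_smul] at h1
  rw [LinearMap.toSpanSingleton_apply, ← h1]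
  show a • h (1 ⊗ₜ 1) = h (1 ⊗ₜ a)
  rw [← LinearMap.map_smul_of_tower, ← TensorProduct.tmul_smul, smul_eq_mul, mul_one]

end Groth.Agent.S8925
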