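import Groth.Statements.S1745
import Groth.Agent.S0301
import Groth.Agent.S0305
import Groth.Agent.S0306
import Groth.Agent.S0307
import Groth.Agent.S0342
import Groth.Agent.S8925
import Groth.Agent.S11359
import Groth.Agent.S11661
import Groth.Agent.InjHullLib.Basic
import Groth.Agent.InjHullLib.Localization
import Mathlib.RingTheory.IsTensorProduct
import Mathlib.RingTheory.Localization.BaseChange
import Mathlib.LinearAlgebra.TensorProduct.Tower
import Mathlib.LinearAlgebra.DirectSum.TensorProduct
-- import your own Groth.Agent.* helpers here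

set_option autoImplicit false
set_option linter.style.haveILetI false
universe u
open scoped TensorProduct
open InjHull

namespace Groth.Agent.S1745

open Groth.Agent.InjHullLib

/-- A map from a finite ideal into a module extends as soon as it does so at one suitable prime. -/
theorem baer_of_primes {B : Type u} [CommRing B] [IsNoetherianRing B] (T : Submonoid B) {M : Type u}
    [AddCommGroup M] [Module B M] (hT : ∀ t ∈ T, Function.Bijective (fun m : M => t • m))
    (h : ∀ q : Ideal B, ∀ [q.IsPrime], Disjoint (q : Set B) T → ∃ (N : Type u) (_ : AddCommGroup N)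
      (_ : Module B N) (φ : M →ₗ[B] N), Module.Injective B N ∧ IsLocalizedModule q.primeCompl φ) :
    Module.Injective B M := by
  classical
  refine Module.Baer.injective fun J g => ?_
  let 𝔟 : Ideal B :=
    { carrier := {b | ∃ x : M, ∀ j : J, b • g j = (j : B) • x}
      add_mem' := by
        rintro a b ⟨x, hx⟩ ⟨y, hy⟩
        exact ⟨x + y, fun j => by rw [add_smul, hx, hy, smul_add]⟩
      zero_mem' := ⟨0, fun j => by simp⟩
      smul_mem' := by
        rintro c b ⟨x, hx⟩
        exact ⟨c • x, fun j => by rw [smul_eq_mul, mul_smul, hx, smul_comm]⟩ }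
  suffices h1 : (1 : B) ∈ 𝔟 by
    obtain ⟨x, hx⟩ := h1
    exact ⟨LinearMap.toSpanSingleton B M x, fun j hj => by simpa using (hx ⟨j, hj⟩).symm⟩
  by_contra h1
  have hdisj : Disjoint (𝔟 : Set B) T := Set.disjoint_left.2 fun b hb hbT => by
    obtain ⟨x, hx⟩ := hb
    obtain ⟨y, hy⟩ := (hT b hbT).2 x
    refine h1 ⟨y, fun j => (one_smul B _).trans ((hT b hbT).1 ?_)⟩
    show b • g j = b • (j : B) • y
    rw [hx, smul_comm b (j : B) y]
    exact congrArg ((j : B) • ·) hy.symm
  obtain ⟨q, hq, hle, hqT⟩ := Ideal.exists_le_prime_disjoint 𝔟 T hdisj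
  obtain ⟨N, _, _, φ, hN, hφ⟩ := h q hqT
  obtain ⟨G, hG⟩ := Module.Baer.of_injective hN J (φ ∘ₗ g)
  obtain ⟨⟨y, s⟩, hys⟩ := IsLocalizedModule.surj q.primeCompl φ (G 1)
  have hz : ∀ j : J, φ ((s : B) • g j - (j : B) • y) = 0 := fun j => by
    have := hG j.1 j.2
    rw [map_sub, map_smul, map_smul, ← hys, sub_eq_zero]
    show (s : B) • φ (g j) = (j : B) • (s : B) • G 1
    rw [smul_comm (j : B) (s : B), ← map_smul G, smul_eq_mul, mul_one, this]
    rfl
  choose c hc using fun j => (IsLocalizedModule.eq_zero_iff q.primeCompl φ).1 (hz j)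
  obtain ⟨S, hS⟩ := IsNoetherian.noetherian (⊤ : Submodule B J)
  refine ((∏ j ∈ S, c j) * s : q.primeCompl).2 (hle ?_)
  refine ⟨((∏ j ∈ S, c j : q.primeCompl) : B) • y, fun j => ?_⟩
  have hlin : (((∏ j ∈ S, c j) : q.primeCompl) : B) • ((s : B) • g) =
      (((∏ j ∈ S, c j) : q.primeCompl) : B) • (LinearMap.toSpanSingleton B M y ∘ₗ J.subtype) := by
    refine LinearMap.ext_on hS (fun k hk => ?_)
    obtain ⟨d, hd⟩ := Finset.dvd_prod_of_mem c hk
    have h0 : ((c k : q.primeCompl) : B) • ((s : B) • g k - (k : B) • y) = 0 := hc k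
    simp only [LinearMap.smul_apply, LinearMap.comp_apply, LinearMap.toSpanSingleton_apply,
      Submodule.subtype_apply, hd, Submonoid.coe_mul, mul_comm (c k : B), mul_smul]
    rw [← sub_eq_zero, ← smul_sub, ← smul_sub, h0, smul_zero]
  have := LinearMap.congr_fun hlin j
  simp only [LinearMap.smul_apply, LinearMap.comp_apply, LinearMap.toSpanSingleton_apply,
    Submodule.subtype_apply] at this
  rw [Submonoid.coe_mul, mul_smul, this, smul_comm]

/-- Base change of the hull of a residue field along a flat map with unramified primes. -/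
theorem injective_hull_baseChange (A B : Type u) [CommRing A] [CommRing B] [Algebra A B]
    [IsNoetherianRing A] [IsNoetherianRing B] [Module.Flat A B]
    (h : ∀ q : PrimeSpectrum B, Ideal.map (algebraMap B (Localization.AtPrime q.asIdeal))
      ((q.asIdeal.comap (algebraMap A B)).map (algebraMap A B)) =
        IsLocalRing.maximalIdeal (Localization.AtPrime q.asIdeal))
    (p : Ideal A) [p.IsPrime] (E : Type u) [AddCommGroup E] [Module A E] (f : (A ⧸ p) →ₗ[A] E)
    (hf : InjHull.IsInjectiveHull f) : Module.Injective B (B ⊗[A] E) := by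
  classical
  haveI := hf.isInjective
  refine baer_of_primes (p.primeCompl.map (algebraMap A B)) (fun t ht => ?_) fun q _ hq => ?_
  · obtain ⟨a, ha, rfl⟩ := ht
    let e := LinearEquiv.lTensor B (LinearEquiv.ofBijective (LinearMap.lsmul A E a) (bijective_smul_of_notMem hf ha))
    convert e.bijective using 1
    funext m
    induction m with
    | zero => simp
    | tmul b x =>
      simp [e, TensorProduct.smul_tmul']
    | add x y hx hy => rw [smul_add, hx, hy, map_add]
  · have hle : q.comap (algebraMap A B) ≤ p := fun a ha => by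
      by_contra hap
      exact Set.disjoint_left.1 hq ha ⟨a, hap, rfl⟩
    let Bq := Localization.AtPrime q
    let φ₀ : (B ⊗[A] E) →ₗ[B] Bq ⊗[B] (B ⊗[A] E) := TensorProduct.mk B Bq (B ⊗[A] E) 1
    have hφ₀ : IsLocalizedModule q.primeCompl φ₀ :=
      (isLocalizedModule_iff_isBaseChange q.primeCompl Bq φ₀).2 (TensorProduct.isBaseChange B (B ⊗[A] E) Bq)
    let e₁ : Bq ⊗[B] (B ⊗[A] E) ≃ₗ[B] Bq ⊗[A] E :=
      (TensorProduct.AlgebraTensorModule.cancelBaseChange A B B Bq E)
    by_cases hpq : q.comap (algebraMap A B) = p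
    · subst hpq
      let p := q.comap (algebraMap A B)
      let Ap := Localization.AtPrime p
      obtain ⟨hb, g, hg⟩ := (Groth.Agent.S11661.result A p.primeCompl p E f hf).2 (disjoint_compl_right)
      let E' := LocalizedModule p.primeCompl E
      let ι : E ≃ₗ[A] E' := LinearEquiv.ofBijective _ hb
      letI : Algebra Ap Bq := (Localization.localRingHom p q (algebraMap A B) rfl).toAlgebra
      haveI : IsScalarTower A Ap Bq := IsScalarTower.of_algebraMap_eq fun a => by
        rw [RingHom.algebraMap_toAlgebra, IsScalarTower.algebraMap_apply A B Bq]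
        exact (Localization.localRingHom_to_map p q (algebraMap A B) rfl a).symm
      haveI : Module.Flat A Bq := Module.Flat.trans A B Bq
      haveI : Module.Flat Ap Bq := (Module.flat_iff_of_isLocalization Ap p.primeCompl Bq).2 ‹_›
      have hmax : (IsLocalRing.maximalIdeal Ap).map (algebraMap Ap Bq) = IsLocalRing.maximalIdeal Bq := by
        rw [← IsLocalization.AtPrime.map_eq_maximalIdeal (p := p) Ap, Ideal.map_map,
          ← IsScalarTower.algebraMap_eq, IsScalarTower.algebraMap_eq A B Bq, ← Ideal.map_map]
        exact h ⟨q, inferInstance⟩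
      let F := Bq ⧸ (IsLocalRing.maximalIdeal Ap).map (algebraMap Ap Bq)
      have hF : IsField F := by
        have : ((IsLocalRing.maximalIdeal Ap).map (algebraMap Ap Bq)).IsMaximal := hmax ▸ inferInstance
        exact (Ideal.Quotient.maximal_ideal_iff_isField_quotient _).1 this
      have hG : LocCoh.IsGorensteinLocalRing F := by
        letI := hF.toField
        exact Groth.Agent.S0342.result F
      have hA : IsArtinianRing F := by
        letI := hF.toField
        infer_instance
      have hmap : p.map (algebraMap A Ap) = IsLocalRing.maximalIdeal Ap :=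
        IsLocalization.AtPrime.map_eq_maximalIdeal (p := p) Ap
      let r : IsLocalRing.ResidueField Ap →ₗ[Ap] E' :=
        g ∘ₗ (Submodule.quotEquivOfEq _ _ hmap.symm).toLinearMap
      have hr : InjHull.IsInjectiveHull r :=
        { injective := hg.injective.comp (LinearEquiv.injective _)
          essential := fun N hN => by
            have : LinearMap.range r = LinearMap.range g :=
              LinearMap.range_comp_of_range_eq_top _ (LinearEquiv.range _)
            rw [this]
            exact hg.essential N hN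
          isInjective := hg.isInjective }
      obtain ⟨g', hg'⟩ := Groth.Agent.S11359.result Ap Bq hG hA E' r hr
      haveI := hg'.isInjective
      haveI : Module.Injective B (Bq ⊗[Ap] E') := Groth.Agent.S8925.result B Bq (Bq ⊗[Ap] E')
      let e₂ : Bq ⊗[A] E ≃ₗ[B] Bq ⊗[A] E' :=
        TensorProduct.AlgebraTensorModule.congr (LinearEquiv.refl B Bq) ι
      haveI : TensorProduct.CompatibleSMul A Ap Bq E' :=
        IsLocalization.tensorProduct_compatibleSMul p.primeCompl Ap Bq E'
      let e₃ : Bq ⊗[Ap] E' ≃ₗ[B] Bq ⊗[A] E' :=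
        TensorProduct.equivOfCompatibleSMul A Ap B Bq E'
      exact ⟨Bq ⊗[Ap] E', inferInstance, inferInstance, ((e₁.trans e₂).trans e₃.symm).toLinearMap ∘ₗ φ₀,
        inferInstance, IsLocalizedModule.of_linearEquiv q.primeCompl φ₀ _⟩
    · obtain ⟨a, hap, haq⟩ : ∃ a ∈ p, a ∉ q.comap (algebraMap A B) := by
        by_contra hne
        push Not at hne
        exact hpq (le_antisymm hle hne)
      have hzero : ∀ m : Bq ⊗[A] E, m = 0 := fun m => by
        induction m with
        | zero => rfl
        | tmul b x =>
          obtain ⟨n, hn⟩ := exists_pow_smul_eq_zero_of_mem hf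
            (fun J => Groth.Agent.S0301.result A E ‹_› J) hap x
          have hu : IsUnit (algebraMap A Bq (a ^ n)) := by
            rw [map_pow, IsScalarTower.algebraMap_apply A B Bq]
            exact (IsLocalization.map_units Bq (⟨algebraMap A B a, haq⟩ : q.primeCompl)).pow n
          obtain ⟨b', rfl⟩ : ∃ b', a ^ n • b' = b :=
            ⟨hu.unit⁻¹ * b, by rw [Algebra.smul_def, ← mul_assoc, IsUnit.mul_val_inv, one_mul]⟩
          rw [TensorProduct.smul_tmul, hn, TensorProduct.tmul_zero]
        | add x y hx hy => rw [hx, hy, add_zero]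
      haveI : Subsingleton (Bq ⊗[A] E) := ⟨fun x y => (hzero x).trans (hzero y).symm⟩
      exact ⟨Bq ⊗[A] E, inferInstance, inferInstance, e₁.toLinearMap ∘ₗ φ₀,
        Module.Baer.injective fun _ _ => ⟨0, fun _ _ => Subsingleton.elim _ _⟩,
        IsLocalizedModule.of_linearEquiv q.primeCompl φ₀ _⟩

/-- Let A → B be a flat homomorphism of Noetherian rings such that for every prime q of B with
contraction p, the ideal p B_q equals the maximal ideal q B_q of B_q (for instance an étale map).
Then for every injective A-module I the B-module B ⊗_A I is injective. -/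
theorem result (A B : Type u) [CommRing A] [CommRing B] [Algebra A B] [IsNoetherianRing A] [IsNoetherianRing B] [Module.Flat A B] (h : ∀ q : PrimeSpectrum B, Ideal.map (algebraMap B (Localization.AtPrime q.asIdeal)) ((q.asIdeal.comap (algebraMap A B)).map (algebraMap A B)) = IsLocalRing.maximalIdeal (Localization.AtPrime q.asIdeal)) (I : Type u) [AddCommGroup I] [Module A I] [Module.Injective A I] : Module.Injective B (B ⊗[A] I) := by
  classical
  obtain ⟨ι, E, hint, hE⟩ := Groth.Agent.S0307.result A I ‹_›
  haveI hB : ∀ i, Module.Injective B (B ⊗[A] E i) := fun i => by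
    obtain ⟨p, _, g, hg⟩ := Groth.Agent.S0306.result A (E i) (hE i).1 (hE i).2
    let ρ : (A ⧸ p) →ₗ[A] p.ResidueField := (IsScalarTower.toAlgHom A (A ⧸ p) p.ResidueField).toLinearMap
    refine injective_hull_baseChange A B h p (E i) (g ∘ₗ ρ) ?_
    refine ⟨(Groth.Agent.InjHullLib.essential_iff _).2
      ⟨hg.injective.comp (IsFractionRing.injective (A ⧸ p) p.ResidueField), fun x hx => ?_⟩,
      hg.isInjective⟩
    obtain ⟨a, ⟨k, hk⟩, ha⟩ := ((Groth.Agent.InjHullLib.essential_iff g).1 hg.toIsEssentialInj).2 x hx
    obtain ⟨⟨m, s⟩, hms⟩ := IsLocalization.surj (nonZeroDivisors (A ⧸ p)) k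
    obtain ⟨t, ht⟩ := Ideal.Quotient.mk_surjective (s : A ⧸ p)
    have hk' : t • k = ρ m := by
      rw [Algebra.smul_def, IsScalarTower.algebraMap_apply A (A ⧸ p) p.ResidueField,
        Ideal.Quotient.algebraMap_eq, ht, mul_comm]
      exact hms
    refine ⟨t * a, ⟨m, ?_⟩, fun h0 => ha ?_⟩
    · rw [LinearMap.comp_apply, ← hk', map_smul, hk, mul_smul]
    · rw [mul_smul, ← hk, ← map_smul] at h0
      have h1 : t • k = 0 := hg.injective (h0.trans (map_zero g).symm)
      rw [Algebra.smul_def] at h1
      rcases mul_eq_zero.1 h1 with h2 | h2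
      · rw [IsScalarTower.algebraMap_apply A (A ⧸ p) p.ResidueField, Ideal.Quotient.algebraMap_eq, ht] at h2
        exact absurd ((map_eq_zero_iff _ (IsFractionRing.injective (A ⧸ p) p.ResidueField)).1 h2)
          (nonZeroDivisors.coe_ne_zero s)
      · rw [← hk, h2, map_zero]
  let e₀ : DirectSum ι (fun i => E i) ≃ₗ[A] I := LinearEquiv.ofBijective (DirectSum.coeLinearMap E) hint
  let e : B ⊗[A] I ≃ₗ[B] DirectSum ι (fun i => B ⊗[A] E i) :=
    (TensorProduct.AlgebraTensorModule.congr (LinearEquiv.refl B B) e₀.symm).trans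
      (TensorProduct.directSumRight A B B (fun i => E i))
  exact Groth.Agent.InjHullLib.injective_of_equiv e.symm (Groth.Agent.InjHullLib.injective_directSum _ hB)

end Groth.Agent.S1745
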