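import Groth.Statements.S17450
import Groth.Agent.AlgGrpLib.SemiabTorsion
import Groth.Agent.AlgGrpLib.IsogenyBC

set_option autoImplicit false
set_option backward.isDefEq.respectTransparency.types false
universe u
open CategoryTheory MonoidalCategory CartesianMonoidalCategory MonObj GrpObj AlgebraicGeometry CategoryTheory.Limits
open AlgGrp

namespace Groth.Agent.S17450

/-- Let k be a field with algebraic closure K and G a semi-abelian variety over k, that is, a smooth
connected commutative k-group scheme of finite type whose base change to K is an extension of an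
abelian variety by a torus (there are a closed subgroup scheme T of G_K which is a torus and a flat
surjective homomorphism from G_K onto a proper smooth connected K-group scheme with kernel T). Let H
be a closed subgroup scheme of G and ℓ a prime number such that the ℓ-torsion subgroup scheme H[ℓ]
is trivial: every point h of H with values in any k-scheme satisfying h^ℓ = 1 is the unit. Then H is
finite over k. -/
theorem result (k : Type u) [Field k]
    (G : Over (Spec (CommRingCat.of k))) [GrpObj G] [IsCommMonObj G] [Smooth G.hom] [QuasiCompact G.hom]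
    [ConnectedSpace ↥G.left]
    (hK : (∃ (T : Over (Spec (CommRingCat.of (AlgebraicClosure k)))) (_ : GrpObj T) (i : T ⟶ Red.bc (Spec.map (CommRingCat.ofHom (algebraMap k (AlgebraicClosure k)))) G) (A : Over (Spec (CommRingCat.of (AlgebraicClosure k)))) (_ : GrpObj A) (q : Red.bc (Spec.map (CommRingCat.ofHom (algebraMap k (AlgebraicClosure k)))) G ⟶ A),
        IsMonHom i ∧ IsClosedImmersion i.left ∧ Red.IsTorus T ∧ IsMonHom q ∧ Surjective q.left ∧ Flat q.left ∧
        AlgGrp.IsKernel i q ∧ IsProper A.hom ∧ Smooth A.hom ∧ ConnectedSpace ↥A.left))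
    (H : Over (Spec (CommRingCat.of k))) [GrpObj H] (j : H ⟶ G) [IsMonHom j] [IsClosedImmersion j.left]
    (ℓ : ℕ) (hℓ : ℓ.Prime)
    (htors : ∀ (Y : Over (Spec (CommRingCat.of k))) (h : Y ⟶ H), h ^ ℓ = 1 → h = 1) :
    IsFinite H.hom := by
  obtain ⟨T, _, i, A, _, q, _, _, hT, _, _, _, hk, _, _, _⟩ := hK
  let K := AlgebraicClosure k
  let g : Spec (CommRingCat.of K) ⟶ Spec (CommRingCat.of k) := Spec.map (CommRingCat.ofHom (algebraMap k K))
  haveI : IsCommMonObj (Red.bc g G) := (Groth.Agent.AlgGrpLib.IsogenyBC.comm_bc_iff (g := g) (G := G)).2 inferInstance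
  haveI : LocallyOfFiniteType (Red.bc g G).hom := MorphismProperty.pullback_snd (P := @LocallyOfFiniteType) G.hom g inferInstance
  haveI : QuasiCompact (Red.bc g G).hom := MorphismProperty.pullback_snd (P := @QuasiCompact) G.hom g inferInstance
  let j' : Red.bc g H ⟶ Red.bc g G := (Over.pullback g).map j
  haveI : IsMonHom j' := inferInstanceAs (IsMonHom ((Over.pullback g).map j))
  haveI : IsClosedImmersion j'.left :=
    MorphismProperty.of_isPullback (Groth.Agent.SGA3cLib.MultHomLocus.isPullback_map j g) inferInstance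
  have h : Groth.Agent.AlgGrpLib.SemiabTorsion.TorsFree (Red.bc g H) ℓ := by
    intro Y y hy
    let φ := MonoidHom.mk' (Groth.Agent.SGA3cLib.BCPoints.pt g H Y) (Groth.Agent.SGA3cLib.BCPoints.pt_mul g)
    obtain ⟨x, rfl⟩ : ∃ x, φ x = y := (Groth.Agent.SGA3cLib.BCPoints.pt g H Y).surjective y
    rw [← map_pow, ← map_one φ] at hy
    rw [htors _ x ((Groth.Agent.SGA3cLib.BCPoints.pt g H Y).injective hy), map_one]
  haveI hfin : IsFinite (Red.bc g H).hom :=
    Groth.Agent.AlgGrpLib.SemiabTorsion.isFinite_of_torsFree i q hT hk j' hℓ h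
  haveI := Groth.Agent.Et18.descends_isFinite.{u}
  haveI : Surjective g := ⟨fun y => ⟨IsLocalRing.closedPoint K, Subsingleton.elim (α := PrimeSpectrum k) _ _⟩⟩
  exact MorphismProperty.of_pullback_snd_of_descendsAlong (P := @IsFinite)
    (Q := @Surjective ⊓ @Flat ⊓ @QuasiCompact) (f := H.hom) (g := g) ⟨⟨inferInstance, inferInstance⟩, inferInstance⟩ hfin

end Groth.Agent.S17450
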