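import Groth.Statements.S17453
import Groth.Agent.AlgGrpLib.SemiabExt
import Groth.Agent.IsoTriv.ExtensionComm

set_option autoImplicit false
set_option backward.isDefEq.respectTransparency.types false
universe u
open CategoryTheory MonoidalCategory CartesianMonoidalCategory MonObj GrpObj AlgebraicGeometry CategoryTheory.Limits
open AlgGrp

namespace Groth.Agent.S17453

/-- Let k be a field with algebraic closure K and 1 → G' → G → G'' → 1 a short exact sequence of smooth
connected k-group schemes of finite type: G' → G is a homomorphism and a closed immersion, G → G''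
is a flat surjective homomorphism, and G' is its kernel. Say that such a group is semi-abelian when
its base change to K, modulo a suitable torus, is an abelian variety (there are a closed subgroup
scheme of the base change which is a torus and a flat surjective homomorphism onto a proper smooth
connected K-group scheme with that kernel); commutativity is not assumed, it follows. Then G is
semi-abelian exactly when both G' and G'' are semi-abelian. -/
theorem result (k : Type u) [Field k]
    (G' G G'' : Over (Spec (CommRingCat.of k))) [GrpObj G'] [GrpObj G] [GrpObj G'']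
    [Smooth G'.hom] [QuasiCompact G'.hom] [ConnectedSpace ↥G'.left]
    [Smooth G.hom] [QuasiCompact G.hom] [ConnectedSpace ↥G.left]
    [Smooth G''.hom] [QuasiCompact G''.hom] [ConnectedSpace ↥G''.left]
    (j : G' ⟶ G) [IsMonHom j] [IsClosedImmersion j.left]
    (p : G ⟶ G'') [IsMonHom p] [Surjective p.left] [Flat p.left] (hex : AlgGrp.IsKernel j p) :
    (∃ (T : Over (Spec (CommRingCat.of (AlgebraicClosure k)))) (_ : GrpObj T) (i : T ⟶ Red.bc (Spec.map (CommRingCat.ofHom (algebraMap k (AlgebraicClosure k)))) G) (A : Over (Spec (CommRingCat.of (AlgebraicClosure k)))) (_ : GrpObj A) (q : Red.bc (Spec.map (CommRingCat.ofHom (algebraMap k (AlgebraicClosure k)))) G ⟶ A),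
        IsMonHom i ∧ IsClosedImmersion i.left ∧ Red.IsTorus T ∧ IsMonHom q ∧ Surjective q.left ∧ Flat q.left ∧
        AlgGrp.IsKernel i q ∧ IsProper A.hom ∧ Smooth A.hom ∧ ConnectedSpace ↥A.left) ↔
    ((∃ (T : Over (Spec (CommRingCat.of (AlgebraicClosure k)))) (_ : GrpObj T) (i : T ⟶ Red.bc (Spec.map (CommRingCat.ofHom (algebraMap k (AlgebraicClosure k)))) G') (A : Over (Spec (CommRingCat.of (AlgebraicClosure k)))) (_ : GrpObj A) (q : Red.bc (Spec.map (CommRingCat.ofHom (algebraMap k (AlgebraicClosure k)))) G' ⟶ A),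
        IsMonHom i ∧ IsClosedImmersion i.left ∧ Red.IsTorus T ∧ IsMonHom q ∧ Surjective q.left ∧ Flat q.left ∧
        AlgGrp.IsKernel i q ∧ IsProper A.hom ∧ Smooth A.hom ∧ ConnectedSpace ↥A.left) ∧
     (∃ (T : Over (Spec (CommRingCat.of (AlgebraicClosure k)))) (_ : GrpObj T) (i : T ⟶ Red.bc (Spec.map (CommRingCat.ofHom (algebraMap k (AlgebraicClosure k)))) G'') (A : Over (Spec (CommRingCat.of (AlgebraicClosure k)))) (_ : GrpObj A) (q : Red.bc (Spec.map (CommRingCat.ofHom (algebraMap k (AlgebraicClosure k)))) G'' ⟶ A),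
        IsMonHom i ∧ IsClosedImmersion i.left ∧ Red.IsTorus T ∧ IsMonHom q ∧ Surjective q.left ∧ Flat q.left ∧
        AlgGrp.IsKernel i q ∧ IsProper A.hom ∧ Smooth A.hom ∧ ConnectedSpace ↥A.left)) := by
  let K := AlgebraicClosure k
  let g : Spec (CommRingCat.of K) ⟶ Spec (CommRingCat.of k) := Spec.map (CommRingCat.ofHom (algebraMap k K))
  haveI : Smooth (Red.bc g G').hom := inferInstanceAs (Smooth (pullback.snd G'.hom g))
  haveI : Smooth (Red.bc g G).hom := inferInstanceAs (Smooth (pullback.snd G.hom g))
  haveI : Smooth (Red.bc g G'').hom := inferInstanceAs (Smooth (pullback.snd G''.hom g))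
  haveI : QuasiCompact (Red.bc g G').hom := inferInstanceAs (QuasiCompact (pullback.snd G'.hom g))
  haveI : QuasiCompact (Red.bc g G).hom := inferInstanceAs (QuasiCompact (pullback.snd G.hom g))
  haveI : QuasiCompact (Red.bc g G'').hom := inferInstanceAs (QuasiCompact (pullback.snd G''.hom g))
  haveI := Groth.Agent.AlgGrpLib.IsogenyBC.connected_bc g G
  haveI := Groth.Agent.AlgGrpLib.IsogenyBC.connected_bc g G'
  let j' : Red.bc g G' ⟶ Red.bc g G := (Over.pullback g).map j
  let p' : Red.bc g G ⟶ Red.bc g G'' := (Over.pullback g).map p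
  haveI : IsMonHom j' := inferInstanceAs (IsMonHom ((Over.pullback g).map j))
  haveI : IsMonHom p' := inferInstanceAs (IsMonHom ((Over.pullback g).map p))
  haveI : IsClosedImmersion j'.left :=
    MorphismProperty.of_isPullback (Groth.Agent.SGA3cLib.MultHomLocus.isPullback_map j g) ‹IsClosedImmersion j.left›
  haveI : Surjective p'.left :=
    MorphismProperty.of_isPullback (Groth.Agent.SGA3cLib.MultHomLocus.isPullback_map p g) ‹Surjective p.left›
  haveI : Flat p'.left :=
    MorphismProperty.of_isPullback (Groth.Agent.SGA3cLib.MultHomLocus.isPullback_map p g) ‹Flat p.left›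
  have hex' : AlgGrp.IsKernel j' p' := Groth.Agent.IsoTriv.ExtensionComm.isKernel_bc j p hex g
  refine ⟨fun h => ⟨?_, ?_⟩, fun h => ?_⟩
  · exact Groth.Agent.AlgGrpLib.SemiabExt.sa_subgroup j' h
  · exact Groth.Agent.AlgGrpLib.SemiabExt.sa_quotient p' h
  · haveI := Groth.Agent.AlgGrpLib.SemiabExt.comm_of_extension j' p' hex' h.1 h.2
    exact Groth.Agent.AlgGrpLib.SemiabSum.sa_of_extension j' p' hex' h.1 h.2

end Groth.Agent.S17453
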