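import Groth.Statements.S17454
import Groth.Agent.AlgGrpLib.ImageSubgroup
import Groth.Agent.AlgGrpLib.AntiAffineMul
import Groth.Agent.AlgGrpLib.AffineToProper

set_option autoImplicit false
universe u
open CategoryTheory MonoidalCategory CartesianMonoidalCategory MonObj GrpObj AlgebraicGeometry CategoryTheory.Limits
open AlgGrp

namespace Groth.Agent.S17454

/-- Let k be a perfect field and f : G' → G a surjective homomorphism of smooth connected k-group
schemes of finite type. Let N' → G' and N → G be Chevalley decompositions: normal closed subgroup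
schemes which are smooth, connected and affine, kernels of flat surjective homomorphisms q' : G' →
A' and q : G → A onto proper smooth connected k-group schemes. Then f maps N' onto N: there is a
homomorphism g : N' → N, compatible with f and the two inclusions, whose underlying map is
surjective; and f induces a homomorphism A' → A compatible with q' and q whose underlying map is
surjective. (The isogeny refinement of the published statement is not stated.) -/
theorem result (k : Type u) [Field k] [PerfectField k]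
    (G' G : Over (Spec (CommRingCat.of k))) [GrpObj G'] [GrpObj G]
    [Smooth G'.hom] [QuasiCompact G'.hom] [ConnectedSpace ↥G'.left]
    [Smooth G.hom] [QuasiCompact G.hom] [ConnectedSpace ↥G.left]
    (f : G' ⟶ G) [IsMonHom f] [Surjective f.left]
    (N' : Over (Spec (CommRingCat.of k))) [GrpObj N'] (i' : N' ⟶ G') [IsMonHom i'] [IsClosedImmersion i'.left]
    [Smooth N'.hom] [ConnectedSpace ↥N'.left] [IsAffine N'.left] (hn' : AlgGrp.IsNormalHom i')
    (A' : Over (Spec (CommRingCat.of k))) [GrpObj A'] (q' : G' ⟶ A') [IsMonHom q'] [Surjective q'.left] [Flat q'.left]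
    [IsProper A'.hom] [Smooth A'.hom] [ConnectedSpace ↥A'.left] (hk' : AlgGrp.IsKernel i' q')
    (N : Over (Spec (CommRingCat.of k))) [GrpObj N] (i : N ⟶ G) [IsMonHom i] [IsClosedImmersion i.left]
    [Smooth N.hom] [ConnectedSpace ↥N.left] [IsAffine N.left] (hn : AlgGrp.IsNormalHom i)
    (A : Over (Spec (CommRingCat.of k))) [GrpObj A] (q : G ⟶ A) [IsMonHom q] [Surjective q.left] [Flat q.left]
    [IsProper A.hom] [Smooth A.hom] [ConnectedSpace ↥A.left] (hk : AlgGrp.IsKernel i q) :
    (∃ g : N' ⟶ N, IsMonHom g ∧ g ≫ i = i' ≫ f ∧ Surjective g.left) ∧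
      (∃ h : A' ⟶ A, IsMonHom h ∧ q' ≫ h = f ≫ q ∧ Surjective h.left) := by
  open Groth.Agent.AlgGrpLib in
  haveI : IsReduced N'.left := Groth.Agent.AbSchLib.isReduced_of_smooth N'.hom
  haveI : GeometricallyReduced G.hom := Groth.Agent.AbSchLib.geometricallyReduced_of_smooth _
  haveI : Flat f.left := Groth.Agent.AlgGrpLib.flat_hom_of_surjective f
  haveI := Groth.Agent.AlgGrpLib.quasiCompact_left f
  haveI := Groth.Agent.AlgGrpLib.quasiCompact_left q'
  have hq : (i' ≫ f) ≫ q = 1 := by
    haveI : LocallyOfFiniteType N'.hom := inferInstance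
    rw [Category.assoc]
    exact Groth.Agent.AlgGrpLib.AffineToProper.eq_one_of_affine_to_proper _
  obtain ⟨g, hg⟩ := Groth.Agent.AlgGrpLib.exists_lift_kernel hk hq
  haveI : Mono i.left := inferInstance
  haveI : Mono i := Over.mono_of_mono_left i
  haveI : IsMonHom g := Groth.Agent.AlgGrpLib.MultTypeAct.isMonHom_of_map_mul g fun x y => by
    rw [← cancel_mono i, Category.assoc, hg, MonObj.mul_comp, MonObj.mul_comp, Category.assoc, Category.assoc, hg]
  obtain ⟨h, hh⟩ := Groth.Agent.AlgGrpLib.ExactSeqBasics.exists_desc q' hk' (f ≫ q) (by rw [← Category.assoc]; exact hq)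
  haveI : IsMonHom (q' ≫ h) := by rw [hh]; infer_instance
  haveI : IsMonHom h := Groth.Agent.AlgGrpLib.AffineHull.isMonHom_of_comp q' h
  haveI : Surjective (f ≫ q).left := by rw [Over.comp_left]; infer_instance
  haveI hsh : Surjective h.left := ⟨fun a => by
    obtain ⟨x, hx⟩ := (f ≫ q).left.surjective a
    exact ⟨q'.left x, by
      rw [← hx]
      exact congrArg (fun φ : G' ⟶ A => φ.left x) hh⟩⟩
  refine ⟨⟨g, inferInstance, hg, ?_⟩, ⟨h, inferInstance, hh, hsh⟩⟩
  -- the image of N' in N
  haveI : QuasiCompact N.hom := inferInstance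
  obtain ⟨M, _, iM, gM, _, _, _, hgM, hgMs, hgMf, _, _, _⟩ := Groth.Agent.AlgGrpLib.ImageSubgroup.exists_image g
  haveI : Mono iM.left := inferInstance
  haveI : Mono iM := Over.mono_of_mono_left iM
  haveI := Groth.Agent.AlgGrpLib.quasiCompact_left gM
  have hMn : AlgGrp.IsNormalHom iM := by
    intro T n m
    obtain ⟨T', c, x, _, _, _, hx⟩ := Groth.Agent.AlgGrpLib.exists_lift_cover gM m
    obtain ⟨T'', c', y, _, _, _, hy⟩ := Groth.Agent.AlgGrpLib.exists_lift_cover f (c ≫ n ≫ i)
    obtain ⟨x', hx'⟩ := hn' T'' y (c' ≫ x)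
    haveI : Surjective (c' ≫ c).left := by rw [Over.comp_left]; infer_instance
    haveI : Flat (c' ≫ c).left := by rw [Over.comp_left]; infer_instance
    haveI : QuasiCompact (c' ≫ c).left := by rw [Over.comp_left]; infer_instance
    obtain ⟨m', hm'⟩ := Groth.Agent.AlgGrpLib.exists_factor_of_cover (c' ≫ c) iM (n * (m ≫ iM) * n⁻¹) (x' ≫ gM) (by
      rw [← cancel_mono i, Category.assoc, Category.assoc, reassoc_of% hgM, hg, ← Category.assoc x' i' f, ← hx',
        MonObj.mul_comp, MonObj.mul_comp, GrpObj.inv_comp, hy]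
      simp only [Category.assoc, MonObj.comp_mul, MonObj.mul_comp, GrpObj.comp_inv, GrpObj.inv_comp]
      rw [← reassoc_of% hx, reassoc_of% hgM, hg])
    exact ⟨m', hm'.symm⟩
  obtain ⟨Q, _, r, _, hQa, hQt, _, _, hkr⟩ := Groth.Agent.S3278.result k N M iM hMn
  haveI := hQa
  haveI := hQt
  -- the inverse image of N
  obtain ⟨K, _, kK, _, _, hkK, -⟩ := Groth.Agent.AlgGrpLib.AffineToProper.exists_kernel h
  let E := Limits.pullback q' kK
  let p₁ : E ⟶ G' := Limits.pullback.fst q' kK
  let p₂ : E ⟶ K := Limits.pullback.snd q' kK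
  have hsq : IsPullback p₁ p₂ q' kK := IsPullback.of_hasPullback q' kK
  have hsqS := hsq.map (Over.forget (Spec (CommRingCat.of k)))
  haveI : Flat p₂.left := MorphismProperty.of_isPullback hsqS ‹_›
  haveI : Surjective p₂.left := MorphismProperty.of_isPullback hsqS ‹_›
  haveI : QuasiCompact p₂.left := MorphismProperty.of_isPullback hsqS ‹_›
  obtain ⟨n, hn'⟩ := Groth.Agent.AlgGrpLib.exists_lift_kernel hk (g := p₁ ≫ f) (by
    rw [Category.assoc, ← hh, ← Category.assoc, hsq.w, Category.assoc,
      Groth.Agent.AlgGrpLib.kernel_comp hkK, MonObj.comp_one])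
  haveI : Surjective n.left := ⟨fun x => by
    obtain ⟨w, hw⟩ := f.left.surjective (i.left x)
    have h2 : h.left (q'.left w) ∈ Set.range η[A].left := ⟨(toUnit N).left x, by
      have e1 : h.left (q'.left w) = q.left (f.left w) := congrArg (fun φ : G' ⟶ A => φ.left w) hh
      rw [e1, hw]
      exact (congrArg (fun φ : N ⟶ A => φ.left x) hk.w).symm⟩
    obtain ⟨w₂, hw₂, -⟩ : ∃ w₂, kK.left w₂ = q'.left w ∧ True := by
      obtain ⟨t, ht⟩ := h2
      obtain ⟨z, hz, -⟩ := Scheme.Pullback.exists_preimage_pullback (q'.left w) t ht.symm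
      refine ⟨(hkK.map (Over.forget (Spec (CommRingCat.of k)))).isoPullback.inv z, ?_, trivial⟩
      rw [← hz]
      exact congrArg (fun φ => φ z) (hkK.map (Over.forget (Spec (CommRingCat.of k)))).isoPullback_inv_fst
    obtain ⟨z, hz, -⟩ := Scheme.Pullback.exists_preimage_pullback w w₂ hw₂.symm
    refine ⟨hsqS.isoPullback.inv z, i.left.isClosedEmbedding.injective ?_⟩
    show (n ≫ i).left (hsqS.isoPullback.inv z) = _
    rw [hn', ← hw, ← hz]
    show f.left (p₁.left (hsqS.isoPullback.inv z)) = _
    exact congrArg f.left (congrArg (fun φ => φ z) hsqS.isoPullback_inv_fst)⟩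
  -- N'' := N / M is finite
  have hu : ∀ {T : Over (Spec (CommRingCat.of k))} (a b : T ⟶ E), a ≫ p₂ = b ≫ p₂ → a ≫ n ≫ r = b ≫ n ≫ r := by
    intro T a b hab
    obtain ⟨m, hm⟩ := Groth.Agent.AlgGrpLib.exists_lift_kernel hk' (g := (a ≫ p₁) * (b ≫ p₁)⁻¹) (by
      rw [MonObj.mul_comp, GrpObj.inv_comp, Category.assoc, Category.assoc, hsq.w, ← Category.assoc,
        ← Category.assoc b, hab, mul_inv_cancel])
    have h3 : (a ≫ n) * (b ≫ n)⁻¹ = m ≫ g := by
      rw [← cancel_mono i, MonObj.mul_comp, GrpObj.inv_comp, Category.assoc, Category.assoc, Category.assoc, hn',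
        hg, ← Category.assoc m, hm, MonObj.mul_comp, GrpObj.inv_comp, Category.assoc, Category.assoc]
    have h4 := congrArg (· ≫ r) h3
    simp only [MonObj.mul_comp, GrpObj.inv_comp, Category.assoc] at h4
    rw [← hgM] at h4
    simp only [Category.assoc, Groth.Agent.AlgGrpLib.kernel_comp hkr, MonObj.comp_one] at h4
    exact mul_inv_eq_one.1 h4
  haveI : EffectiveEpi p₂.left := inferInstance
  let u₀ : K.left ⟶ Q.left := EffectiveEpi.desc p₂.left (n ≫ r).left (fun {W} a b hab => by
    let W' : Over (Spec (CommRingCat.of k)) := Over.mk (a ≫ E.hom)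
    let a' : W' ⟶ E := Over.homMk a rfl
    let b' : W' ⟶ E := Over.homMk b (by
      show b ≫ E.hom = a ≫ E.hom
      rw [← Over.w p₂, ← Category.assoc, ← hab, Category.assoc])
    exact congrArg CommaMorphism.left (hu a' b' (Over.OverMorphism.ext hab)))
  have hu₀ : p₂.left ≫ u₀ = (n ≫ r).left := EffectiveEpi.fac _ _ _
  haveI : Surjective u₀ := ⟨fun y => by
    obtain ⟨x, rfl⟩ := r.left.surjective y
    obtain ⟨e, rfl⟩ := n.left.surjective x
    exact ⟨p₂.left e, congrArg (fun φ => φ e) hu₀⟩⟩
  haveI : IsProper K.hom := by rw [← Over.w kK]; infer_instance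
  haveI : UniversallyClosed Q.hom := by
    haveI : UniversallyClosed (u₀ ≫ Q.hom) := by
      have e : u₀ ≫ Q.hom = K.hom := by
        rw [← cancel_epi p₂.left, ← Category.assoc, hu₀, Over.w (n ≫ r), Over.w p₂]
      rw [e]; infer_instance
    exact UniversallyClosed.of_comp_surjective u₀ Q.hom
  haveI : IsAffineHom Q.hom := isAffineHom_of_isAffine _
  haveI : IsProper Q.hom := ⟨⟩
  haveI : IsFinite Q.hom := IsFinite.iff_isProper_and_isAffineHom.2 ⟨inferInstance, inferInstance⟩
  haveI : ConnectedSpace Q.left := r.left.surjective.connectedSpace r.left.continuous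
  haveI : Subsingleton ↥Q.left := by
    haveI : Finite ↥Q.left := by
      have h := Q.hom.finite_preimage_singleton (IsLocalRing.closedPoint k)
      exact Set.finite_univ_iff.1 (h.subset fun x _ => Subsingleton.elim (α := PrimeSpectrum k) _ _)
    haveI : JacobsonSpace ↥Q.left := LocallyOfFiniteType.jacobsonSpace Q.hom
    haveI : DiscreteTopology ↥Q.left := inferInstance
    exact PreconnectedSpace.trivial_of_discrete
  refine ⟨fun x => ?_⟩
  obtain ⟨m, hm⟩ : x ∈ Set.range iM.left := by
    obtain ⟨z, hz, -⟩ := Scheme.Pullback.exists_preimage_pullback (f := r.left) (g := η[Q].left) x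
      (IsLocalRing.closedPoint k) (Subsingleton.elim _ _)
    refine ⟨(hkr.map (Over.forget (Spec (CommRingCat.of k)))).isoPullback.inv z, ?_⟩
    rw [← hz]
    exact congrArg (fun φ => φ z) (hkr.map (Over.forget (Spec (CommRingCat.of k)))).isoPullback_inv_fst
  obtain ⟨t, rfl⟩ := hgMs.surj m
  exact ⟨t, by rw [← hm, ← hgM]; rfl⟩

end Groth.Agent.S17454
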