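import Groth.Statements.S17459
import Groth.Agent.Et18.NeronIsogeny
-- import your own Groth.Agent.* helpers here

set_option autoImplicit false
universe u
open CategoryTheory CategoryTheory.Limits AlgebraicGeometry MonObj
open SGA7

namespace Groth.Agent.S17459

/-- Let R be a discrete valuation ring with fraction field K, let N and N' be group schemes over Spec R
which are Néron models of their generic fibres A = N_K and B = N'_K, abelian varieties (proper and
geometrically integral) of the same dimension, and let u : N → N' be a homomorphism (the extension
of u_K : A → B). If the homomorphism induced by u on the special fibres is locally quasi-finite — as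
it is when it restricts to an isogeny between the identity components, the printed hypothesis, which
also forces dim A = dim B — then u_K is an isogeny: its underlying map is surjective and its kernel
is finite. -/
theorem result (R K : Type u) [CommRing R] [IsDomain R]
    [IsDiscreteValuationRing R] [Field K] [Algebra R K] [IsFractionRing R K]
    (N N' : Over (Spec (CommRingCat.of R))) [GrpObj N] [GrpObj N']
    (hN : SGA7.IsNeron R K N) (hN' : SGA7.IsNeron R K N')
    [IsProper ((SGA7.genFib R K).obj N).hom] [GeometricallyIntegral ((SGA7.genFib R K).obj N).hom]
    [IsProper ((SGA7.genFib R K).obj N').hom] [GeometricallyIntegral ((SGA7.genFib R K).obj N').hom]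
    (hdim : topologicalKrullDim ↥((SGA7.genFib R K).obj N).left = topologicalKrullDim ↥((SGA7.genFib R K).obj N').left)
    (u : N ⟶ N') [IsMonHom u]
    [LocallyQuasiFinite (SGA7.fibreHom (IsLocalRing.closedPoint R) u).left] :
    SGA7.IsIsogenyOver ((SGA7.genFib R K).map u) := by
  haveI := hN.1
  haveI := hN.2.1
  haveI := hN.2.2.1
  haveI := hN'.1
  haveI := hN'.2.1
  haveI : LocallyOfFiniteType u.left := by
    haveI : LocallyOfFiniteType (u.left ≫ N'.hom) := by rw [Over.w u]; infer_instance
    exact locallyOfFiniteType_of_comp u.left N'.hom
  haveI : QuasiCompact u.left := by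
    haveI : QuasiCompact (u.left ≫ N'.hom) := by rw [Over.w u]; infer_instance
    exact QuasiCompact.of_comp u.left N'.hom
  obtain ⟨a, ha⟩ := Groth.Agent.Et18.NeronIsog.exists_qfAt R K u η[N].left (Over.w η[N])
  haveI : LocallyOfFiniteType ((SGA7.genFib R K).map u).left :=
    MorphismProperty.of_isPullback (Groth.Agent.AbVarLib.isPullback_pullback_map _ u) inferInstance
  exact Groth.Agent.Et18.NeronIsog.isIsogenyOver_of_qfAt hdim _ a ha

end Groth.Agent.S17459
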