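import Groth.Statements.S17462
import Groth.Agent.HenselLib.SchemeFinitePart

set_option autoImplicit false
universe u
open CategoryTheory CategoryTheory.Limits AlgebraicGeometry
open Hensel

namespace Groth.Agent.S17462

/-- Let R be a henselian local ring and let X and Y be quasi-finite separated schemes over Spec R
(locally of finite type, quasi-compact, with discrete fibres, separated), with finite parts W_X ⊆ X
and W_Y ⊆ Y (open and closed subsets, finite over Spec R as open subschemes, containing every point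
over the closed point). If W ⊆ X ×_R Y is the finite part of the fibre product (same three
conditions, for the structure morphism of X ×_R Y), then W = W_X ×_R W_Y: a point of X ×_R Y lies in
W if and only if its first projection lies in W_X and its second projection lies in W_Y. -/
theorem result (R : Type u) [CommRing R] [HenselianLocalRing R]
    {X Y : Scheme.{u}} (f : X ⟶ Spec (CommRingCat.of R)) (f' : Y ⟶ Spec (CommRingCat.of R))
    [LocallyQuasiFinite f] [LocallyOfFiniteType f] [QuasiCompact f] [IsSeparated f]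
    [LocallyQuasiFinite f'] [LocallyOfFiniteType f'] [QuasiCompact f'] [IsSeparated f']
    (WX : X.Opens) (hWX : (IsClosed (WX : Set ↥X) ∧ IsFinite (WX.ι ≫ f) ∧ ∀ x : ↥X, f.base x = IsLocalRing.closedPoint R → x ∈ WX))
    (WY : Y.Opens) (hWY : (IsClosed (WY : Set ↥Y) ∧ IsFinite (WY.ι ≫ f') ∧ ∀ x : ↥Y, f'.base x = IsLocalRing.closedPoint R → x ∈ WY))
    (W : (pullback f f').Opens)
    (hW : (IsClosed (W : Set ↥(pullback f f')) ∧ IsFinite (W.ι ≫ (pullback.fst f f' ≫ f)) ∧ ∀ x : ↥(pullback f f'), (pullback.fst f f' ≫ f).base x = IsLocalRing.closedPoint R → x ∈ W))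
    (z : ↥(pullback f f')) :
    z ∈ W ↔ ((pullback.fst f f').base z ∈ WX ∧ (pullback.snd f f').base z ∈ WY) := by
  haveI := hW.2.1
  haveI := hWX.2.1
  haveI := hWY.2.1
  constructor
  · intro hz
    have h1 := HenselLib.SchemeFinite.finitePart_unique (pullback.fst f f' ≫ f) W (pullback.fst f f' ⁻¹ᵁ WX)
      (fun x hx => hWX.2.2 _ hx) hW.1 hz
    have h2 := HenselLib.SchemeFinite.finitePart_unique (pullback.fst f f' ≫ f) W (pullback.snd f f' ⁻¹ᵁ WY)
      (fun x hx => hWY.2.2 _ (by rw [pullback.condition] at hx; exact hx)) hW.1 hz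
    exact ⟨h1, h2⟩
  · intro hz
    let j := pullback.map (WX.ι ≫ f) (WY.ι ≫ f') f f' WX.ι WY.ι (𝟙 _) (by simp) (by simp)
    have hj : j ≫ pullback.fst f f' ≫ f = pullback.fst (WX.ι ≫ f) (WY.ι ≫ f') ≫ WX.ι ≫ f := by
      simp only [j, pullback.map, pullback.lift_fst_assoc, Category.assoc]
    haveI : UniversallyClosed (j ≫ pullback.fst f f' ≫ f) := by rw [hj]; infer_instance
    have hrange : Set.range j = pullback.fst f f' ⁻¹' Set.range WX.ι ∩ pullback.snd f f' ⁻¹' Set.range WY.ι :=
      AlgebraicGeometry.Scheme.Pullback.range_map _ _ _ _ _ _ _ _ _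
    simp only [Scheme.Opens.range_ι] at hrange
    have h0 := HenselLib.SchemeFinite.eq_empty_of_forall (pullback.fst f f' ≫ f) j
      ((((pullback.fst f f').base ⁻¹' WX) ∩ ((pullback.snd f f').base ⁻¹' WY)) \ W)
      (IsClosed.sdiff ((hWX.1.preimage (pullback.fst f f').continuous).inter
        (hWY.1.preimage (pullback.snd f f').continuous)) W.isOpen)
      (Set.sdiff_subset.trans hrange.ge) (fun x hx hxm => hx.2 (hW.2.2 x hxm))
    by_contra hzW
    exact Set.notMem_empty z (h0 ▸ ⟨⟨hz.1, hz.2⟩, hzW⟩)

end Groth.Agent.S17462
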