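import Groth.Statements.S17463
import Mathlib
import Groth.Agent.LatticeLib24.Dist
import Groth.Agent.GrLib.Hilbert

set_option linter.all false

set_option autoImplicit false
universe u v w
open SSRed

open TensorProduct

namespace Groth.Agent.S17463

/-- Let K be a field of characteristic zero, V a K-vector space, G a group with a K-linear action ρ : G
→ GL(V) such that every ρ(g) is unipotent (ρ(g) - 1 is nilpotent), and H a subgroup of G of finite
index. Then the H-invariants equal the G-invariants: a vector fixed by every element of H is fixed
by every element of G. (In the source G and H are the absolute Galois groups of K and of a finite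
extension K', acting unipotently on the rational ℓ-adic Tate module of an abelian variety.) -/
theorem result (K : Type u) (V : Type v) (G : Type w) [Field K] [CharZero K]
    [AddCommGroup V] [Module K V] [Group G] (ρ : G →* (V ≃ₗ[K] V))
    (hunip : ∀ g : G, IsNilpotent (((ρ g : V ≃ₗ[K] V) : Module.End K V) - 1))
    (H : Subgroup G) [H.FiniteIndex] (v : V) (hv : ∀ h ∈ H, ρ h v = v) (g : G) :
    ρ g v = v := by
  obtain ⟨n, hn, -, hg⟩ := H.exists_pow_mem_of_index_ne_zero (Subgroup.FiniteIndex.index_ne_zero) g
  set T : Module.End K V := ((ρ g : V ≃ₗ[K] V) : Module.End K V) with hT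
  have hpow : (T ^ n) v = v := by
    have h := hv _ hg
    rw [map_pow] at h
    have : ∀ m : ℕ, ∀ x, (T ^ m) x = ((ρ g) ^ m : V ≃ₗ[K] V) x := by
      intro m
      induction m with
      | zero => intro x; simp
      | succ m ih => intro x; rw [pow_succ, pow_succ, Module.End.mul_apply, ih]; rfl
    rw [this, h]
  have hgeom : (∑ i ∈ Finset.range n, T ^ i) * (T - 1) = T ^ n - 1 := geom_sum_mul T n
  have hU : IsUnit (∑ i ∈ Finset.range n, T ^ i) := by
    have e : ∑ i ∈ Finset.range n, T ^ i = (n : Module.End K V) + ∑ i ∈ Finset.range n, (T ^ i - 1) := by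
      rw [Finset.sum_sub_distrib]; simp
    have hnil : IsNilpotent (∑ i ∈ Finset.range n, (T ^ i - 1)) := by
      refine Commute.isNilpotent_sum (fun i _ => ?_) (fun i j _ _ => ?_)
      · rw [← geom_sum_mul T i]
        refine Commute.isNilpotent_mul_left ?_ (hunip g)
        exact Commute.sum_left _ _ _ fun j _ => ((Commute.refl T).pow_left j).sub_right (Commute.one_right _)
      · exact ((Commute.pow_pow_self T i j).sub_left (Commute.one_left _)).sub_right (Commute.one_right _)
    have hn' : IsUnit (n : Module.End K V) := by
      rw [← map_natCast (algebraMap K (Module.End K V))]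
      exact (isUnit_iff_ne_zero.2 (Nat.cast_ne_zero.2 (by omega))).map _
    rw [e, add_comm]
    exact hnil.isUnit_add_right_of_commute hn' (Nat.commute_cast _ n)
  obtain ⟨U, hU⟩ := hU
  have h0 : ((∑ i ∈ Finset.range n, T ^ i) * (T - 1)) v = 0 := by
    rw [hgeom, LinearMap.sub_apply, hpow, Module.End.one_apply, sub_self]
  rw [← hU, Module.End.mul_apply] at h0
  have := congrArg (↑U⁻¹ : Module.End K V) h0
  rw [← Module.End.mul_apply, Units.inv_mul, map_zero, Module.End.one_apply, LinearMap.sub_apply,
    Module.End.one_apply, sub_eq_zero] at this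
  exact this

end Groth.Agent.S17463
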