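import Groth.Statements.S17464
import Groth.Agent.AlgGrpLib.TorusToProper
import Groth.Agent.AlgGrpLib.ExactSeqBasics

set_option backward.isDefEq.respectTransparency.types false

set_option autoImplicit false
universe u
open CategoryTheory MonoidalCategory CartesianMonoidalCategory MonObj GrpObj AlgebraicGeometry CategoryTheory.Limits
open AlgGrp

namespace Groth.Agent.S17464

/-- Let k be an algebraically closed field, T a k-torus and U a smooth connected affine k-group scheme
of finite type with a composition series whose successive quotients are additive groups: closed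
subgroup schemes U_0 → U_1 → … → U_n = U (homomorphisms which are closed immersions, U_i ↦ U_{i+1}),
with U_0 the trivial group, U_n identified with U by an isomorphism of group schemes, and each U_i
the kernel of a flat surjective homomorphism from U_{i+1} onto the additive group. Then every
homomorphism from U to T is the trivial one. (The published statement is over an arbitrary field for
a torus and a smooth connected unipotent group, unipotent meaning that such a composition series
exists over an algebraic closure; this row states the case of an algebraically closed base field.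
The companion assertion, that homomorphisms from T to U are trivial, is an existing statement about
groups of multiplicative type.) -/
theorem result (k : Type u) [Field k] [IsAlgClosed k]
    (T U : Over (Spec (CommRingCat.of k))) [GrpObj T] [GrpObj U] (hT : Red.IsTorus T)
    [Smooth U.hom] [QuasiCompact U.hom] [ConnectedSpace ↥U.left] [IsAffine U.left]
    (n : ℕ) (Us : Fin (n + 1) → Over (Spec (CommRingCat.of k))) [∀ i, GrpObj (Us i)]
    (h0 : Red.IsTrivialGrp (Us 0))
    (e : Us (Fin.last n) ≅ U) [IsMonHom e.hom]
    (incl : ∀ i : Fin n, Us i.castSucc ⟶ Us i.succ) [∀ i, IsMonHom (incl i)]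
    [∀ i, IsClosedImmersion (incl i).left]
    (quot : ∀ i : Fin n, Us i.succ ⟶ Red.Ga (Spec (CommRingCat.of k))) [∀ i, IsMonHom (quot i)]
    [∀ i, Surjective (quot i).left] [∀ i, Flat (quot i).left]
    (hker : ∀ i : Fin n, AlgGrp.IsKernel (incl i) (quot i))
    (f : U ⟶ T) [IsMonHom f] :
    f = 1 := by
  have haff : ∀ i, IsAffine (Us i).left := fun i => by
    induction i using Fin.reverseInduction with
    | last =>
      haveI : IsIso e.hom.left := ((Over.forget _).mapIso e).isIso_hom
      exact IsAffine.of_isIso e.hom.left
    | cast i ih =>
      haveI := ih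
      exact isAffine_of_isAffineHom (incl i).left
  haveI : IsAffine (Red.Ga (Spec (CommRingCat.of k))).left := by
    haveI : IsAffine (Red.GaZ.{u}).left :=
      inferInstanceAs (IsAffine (Spec (CommRingCat.of (SymmetricAlgebra (ULift.{u} ℤ) (ULift.{u} ℤ)))))
    show IsAffine (Limits.pullback _ _)
    infer_instance
  have key : ∀ i (φ : Us i ⟶ T) [IsMonHom φ], φ = 1 := fun i => by
    induction i using Fin.induction with
    | zero =>
      intro φ _
      haveI : IsIso (Us 0).hom := h0
      haveI : IsIso (toUnit (Us 0)) := (isIso_iff_of_reflects_iso _ (Over.forget _)).1 h0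
      have h1 : η[Us 0] = inv (toUnit (Us 0)) := IsIso.eq_inv_of_inv_hom_id (toUnit_unique _ _)
      haveI : IsIso η[Us 0] := by rw [h1]; infer_instance
      rw [← cancel_epi η[Us 0], IsMonHom.one_hom φ, Hom.one_def, ← Category.assoc,
        toUnit_unique (η[Us 0] ≫ toUnit _) (𝟙 _), Category.id_comp]
    | succ i ih =>
      intro φ _
      haveI := haff i.succ
      haveI : QuasiCompact (quot i).left := inferInstance
      obtain ⟨g, hg⟩ := Groth.Agent.AlgGrpLib.ExactSeqBasics.exists_desc (quot i) (hker i) φ (ih (incl i ≫ φ))
      have h1 : (η[Us i.succ] ≫ quot i) ≫ g = η[T] := by rw [Category.assoc, hg, IsMonHom.one_hom φ]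
      rw [← hg, Groth.Agent.AlgGrpLib.TorusToProper.eq_one_of_Ga hT g _ h1, MonObj.comp_one]
  rw [← cancel_epi e.hom, MonObj.comp_one]
  exact key _ (e.hom ≫ f)

end Groth.Agent.S17464
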