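import Groth.Statements.S17466
import Groth.Agent.RootDat.Weyl

set_option autoImplicit false
universe u v
open BigOperators
open NRGIT

namespace Groth.Agent.S17466

/-- Let A be a commutative algebra graded by the natural numbers, let σ_1, …, σ_n be homogeneous
elements of degree 1 and let s ≥ 1 be an integer such that, for every i, the degree-zero homogeneous
localisation of A away from σ_i is generated over A_0 by the fractions f / σ_i ^ s with f
homogeneous of degree s. Then for every exponent vector K = (k_1, …, k_n) with k_1 + ⋯ + k_n = s,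
the degree-zero homogeneous localisation of A away from the monomial σ^K = ∏ σ_i ^ (k_i) is
generated over A_0 by the fractions f / σ^K with f homogeneous of degree s. (Equivalently: the
natural map from the degree-zero localisation of the symmetric algebra on A_s, taken away from σ^K
viewed as an element of degree one, to the degree-zero localisation of A away from σ^K is
surjective. The published lemma concerns the algebra of invariant sections of the powers of a
linearised line bundle on an irreducible projective scheme over a field, with the σ_i a basis of a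
weight space of sections, and concludes a closed immersion of a quotient into an open piece of a
projective space; this row keeps only the graded-algebra step, for any commutative graded algebra,
with the base field replaced by A_0, which generates nothing new since a / 1 = a σ^s / σ^s for a of
degree zero.) -/
theorem result
    {R : Type u} {A : Type v} [CommRing R] [CommRing A] [Algebra R A]
    (𝒜 : ℕ → Submodule R A) [GradedAlgebra 𝒜]
    {n : ℕ} (σ : Fin n → A) (hσ : ∀ i, σ i ∈ 𝒜 1) {s : ℕ} (hs : 0 < s)
    (hgen : ∀ i, Algebra.adjoin (𝒜 0)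
      {z : HomogeneousLocalization.Away 𝒜 (σ i) |
        ∃ f ∈ 𝒜 s, z.val = Localization.mk f ⟨σ i ^ s, Submonoid.pow_mem _ (Submonoid.mem_powers (σ i)) s⟩} = ⊤)
    (K : Fin n → ℕ) (hK : ∑ i, K i = s) :
    Algebra.adjoin (𝒜 0)
      {z : HomogeneousLocalization.Away 𝒜 (∏ i, σ i ^ K i) |
        ∃ f ∈ 𝒜 s, z.val = Localization.mk f ⟨∏ i, σ i ^ K i, Submonoid.mem_powers _⟩} = ⊤ := by
  classical
  set P : A := ∏ i, σ i ^ K i with hPdef
  have hP : P ∈ 𝒜 s := by
    have := SetLike.prod_mem_graded 𝒜 K (fun i => σ i ^ K i) (F := Finset.univ)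
      (fun i _ => by simpa using SetLike.pow_mem_graded (K i) (hσ i))
    simpa [P, hK] using this
  let L := Localization.Away P
  let a : A →+* L := algebraMap A L
  let T := Algebra.adjoin (𝒜 0)
      {z : HomogeneousLocalization.Away 𝒜 P |
        ∃ f ∈ 𝒜 s, z.val = Localization.mk f ⟨P, Submonoid.mem_powers _⟩}
  change T = ⊤
  have haP : IsUnit (a P) := IsLocalization.Away.algebraMap_isUnit P
  have hmk : ∀ (x b : A) (hb : b ∈ Submonoid.powers P), (Localization.mk x ⟨b, hb⟩ : L) * a b = a x := by
    intro x b hb
    rw [Localization.mk_eq_mk']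
    exact IsLocalization.mk'_spec L x ⟨b, hb⟩
  have hgenP : ∀ f ∈ 𝒜 s, ∃ z ∈ T, z.val * a P = a f := by
    intro f hf
    refine ⟨HomogeneousLocalization.Away.mk 𝒜 hP 1 f (by rwa [one_smul]),
      Algebra.subset_adjoin ⟨f, hf, ?_⟩, ?_⟩
    · rw [HomogeneousLocalization.Away.val_mk]
      congr 2
      exact pow_one P
    · rw [HomogeneousLocalization.Away.val_mk]
      have := hmk f (P ^ 1) ⟨1, rfl⟩
      rwa [map_pow, pow_one (a P)] at this
  choose uf huT huv using fun i => hgenP (σ i ^ s) (by simpa using SetLike.pow_mem_graded s (hσ i))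
  obtain ⟨i₀, hi₀⟩ : ∃ i, 0 < K i := by
    by_contra h
    simp only [not_exists, not_lt, Nat.le_zero] at h
    simp [h] at hK
    omega
  let w := uf i₀ ^ (K i₀ - 1) * ∏ i ∈ Finset.univ.erase i₀, uf i ^ K i
  have hwT : w ∈ T := Subalgebra.mul_mem _ (Subalgebra.pow_mem _ (huT i₀) _)
    (Subalgebra.prod_mem _ fun i _ => Subalgebra.pow_mem _ (huT i) _)
  have hone : uf i₀ * w = 1 := by
    have h1 : uf i₀ * w = ∏ i, uf i ^ K i := by
      rw [← mul_assoc, ← pow_succ', Nat.sub_add_cancel hi₀]
      exact Finset.mul_prod_erase _ (fun i => uf i ^ K i) (Finset.mem_univ i₀)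
    rw [h1]
    apply HomogeneousLocalization.val_injective
    rw [HomogeneousLocalization.val_one]
    let v : HomogeneousLocalization.Away 𝒜 P →+* L :=
      algebraMap (HomogeneousLocalization.Away 𝒜 P) L
    change v (∏ i, uf i ^ K i) = 1
    rw [← (haP.pow s).mul_left_inj, one_mul, map_prod]
    calc (∏ i, v (uf i ^ K i)) * a P ^ s = ∏ i, ((uf i).val * a P) ^ K i := by
          rw [← hK, ← Finset.prod_pow_eq_pow_sum, ← Finset.prod_mul_distrib]
          exact Finset.prod_congr rfl fun i _ => by rw [map_pow, mul_pow]; rfl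
      _ = a P ^ s := by
          simp only [huv]
          rw [show a P = a (∏ i, σ i ^ K i) from rfl]
          simp only [map_prod, map_pow, ← pow_mul, ← Finset.prod_pow]
          exact Finset.prod_congr rfl fun i _ => by rw [mul_comm]
  let g : A := σ i₀ ^ (K i₀ - 1) * ∏ i ∈ Finset.univ.erase i₀, σ i ^ K i
  have hx : P = σ i₀ * g := by
    rw [← mul_assoc, ← pow_succ', Nat.sub_add_cancel hi₀]
    exact (Finset.mul_prod_erase _ (fun i => σ i ^ K i) (Finset.mem_univ i₀)).symm
  have hg : g ∈ 𝒜 ((K i₀ - 1) + ∑ i ∈ Finset.univ.erase i₀, K i) := by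
    refine SetLike.mul_mem_graded ?_ ?_
    · simpa using SetLike.pow_mem_graded (K i₀ - 1) (hσ i₀)
    · exact SetLike.prod_mem_graded 𝒜 K (fun i => σ i ^ K i)
        (fun i _ => by simpa using SetLike.pow_mem_graded (K i) (hσ i))
  let φ := HomogeneousLocalization.awayMapₐ (f := σ i₀) 𝒜 hg hx
  have hφ : ∀ (y : HomogeneousLocalization.Away 𝒜 (σ i₀)) (x : A) (N : ℕ),
      y.val * algebraMap A (Localization.Away (σ i₀)) (σ i₀) ^ N = algebraMap A _ x →
        (φ y).val * a (σ i₀) ^ N = a x := by
    intro y x N h
    rw [HomogeneousLocalization.awayMapₐ_apply, HomogeneousLocalization.val_awayMap]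
    have := congrArg (Localization.awayLift (algebraMap A L) (σ i₀)
      (isUnit_of_dvd_unit (map_dvd _ ⟨_, hx⟩) haP)) h
    simp only [map_mul, map_pow, Localization.awayLift, IsLocalization.Away.lift_eq] at this
    exact this
  have hmk₀ : ∀ (y : HomogeneousLocalization.Away 𝒜 (σ i₀)) (x : A) (N : ℕ) (h),
      y.val = Localization.mk x ⟨σ i₀ ^ N, h⟩ → (φ y).val * a (σ i₀) ^ N = a x := by
    intro y x N h hy
    refine hφ y x N ?_
    rw [hy, Localization.mk_eq_mk', ← map_pow]
    exact IsLocalization.mk'_spec (Localization.Away (σ i₀)) x ⟨σ i₀ ^ N, h⟩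
  have hall : ∀ y, φ y ∈ T := by
    intro y
    have hy : y ∈ T.comap φ := by
      have : (⊤ : Subalgebra (𝒜 0) (HomogeneousLocalization.Away 𝒜 (σ i₀))) ≤ T.comap φ := by
        rw [← hgen i₀]
        refine Algebra.adjoin_le ?_
        rintro z ⟨f, hf, hz⟩
        obtain ⟨F, hFT, hFv⟩ := hgenP f hf
        change φ z ∈ T
        suffices φ z = F * w by rw [this]; exact Subalgebra.mul_mem _ hFT hwT
        apply HomogeneousLocalization.val_injective
        have hu : IsUnit (a (σ i₀) ^ s) := (isUnit_of_dvd_unit (map_dvd _ ⟨_, hx⟩) haP).pow s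
        rw [← hu.mul_left_inj, hmk₀ z f s _ hz, HomogeneousLocalization.val_mul, ← map_pow,
          ← huv i₀, show F.val * w.val * ((uf i₀).val * a P) = F.val * a P * ((uf i₀).val * w.val) by ring,
          ← HomogeneousLocalization.val_mul, hone, HomogeneousLocalization.val_one, mul_one, hFv]
      exact this trivial
    exact hy
  refine eq_top_iff.mpr fun z _ => ?_
  obtain ⟨m, x, hxm, rfl⟩ := HomogeneousLocalization.Away.mk_surjective 𝒜 hP z
  set y := HomogeneousLocalization.Away.mk 𝒜 (hσ i₀) (m * s) x (by simpa [smul_eq_mul] using hxm)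
  suffices HomogeneousLocalization.Away.mk 𝒜 hP m x hxm = φ y * uf i₀ ^ m by
    rw [this]; exact Subalgebra.mul_mem _ (hall y) (Subalgebra.pow_mem _ (huT i₀) _)
  apply HomogeneousLocalization.val_injective
  rw [← (haP.pow m).mul_left_inj, HomogeneousLocalization.Away.val_mk, ← map_pow, hmk,
    HomogeneousLocalization.val_mul, HomogeneousLocalization.val_pow, mul_assoc, map_pow, ← mul_pow,
    huv, ← map_pow, ← pow_mul, map_pow, mul_comm s m]
  exact (hmk₀ y x (m * s) _ (HomogeneousLocalization.Away.val_mk ..)).symm

end Groth.Agent.S17466
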