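import Groth.Statements.S17467
import Groth.Agent.CAlgMisc2.Normal
import Groth.Agent.NormalExtLib.Basic
import Mathlib

set_option autoImplicit false
universe u
open CategoryTheory AlgebraicGeometry
open Variety TopologicalSpace Groth.Agent
set_option backward.isDefEq.respectTransparency.types false

namespace Groth.Agent.S17467

open TensorProduct in
/-- An element with nilpotent `s ⊗ 1 - 1 ⊗ s` comes from the base field in characteristic zero. -/
theorem mem_range_of_isNilpotent (K L : Type u) [Field K] [CharZero K] [Field L] [Algebra K L] (s : L)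
    (h : IsNilpotent (s ⊗ₜ[K] (1 : L) - (1 : L) ⊗ₜ[K] s)) : s ∈ (algebraMap K L).range := by
  classical
  suffices h0 : s ⊗ₜ[K] (1 : L) = (1 : L) ⊗ₜ[K] s by
    by_contra hs
    have hs' : s ∉ Submodule.span K {(1 : L)} := fun h' => hs (by
      obtain ⟨c, hc⟩ := Submodule.mem_span_singleton.1 h'
      exact ⟨c, by rw [← hc, Algebra.smul_def, mul_one]⟩)
    obtain ⟨φ, hφs, hφ1⟩ := Submodule.exists_dual_map_eq_bot_of_notMem hs' inferInstance
    have h1 : φ 1 = 0 := by
      have h2 : φ 1 ∈ (Submodule.span K {(1 : L)}).map φ := ⟨1, Submodule.subset_span rfl, rfl⟩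
      rw [hφ1] at h2
      exact h2
    have h3 := congrArg (fun z => TensorProduct.rid K L ((φ.lTensor L) z)) h0
    simp only [LinearMap.lTensor_tmul, TensorProduct.rid_tmul, h1, zero_smul] at h3
    exact hφs ((smul_eq_zero.1 h3.symm).resolve_right one_ne_zero)
  let A := Algebra.adjoin K {s}
  let σ : A := ⟨s, Algebra.self_mem_adjoin_singleton K s⟩
  let μ := Algebra.TensorProduct.map A.val A.val
  have hμ : Function.Injective μ := TensorProduct.map_injective_of_flat_flat A.val.toLinearMap A.val.toLinearMap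
    Subtype.val_injective Subtype.val_injective
  have hε : IsNilpotent (σ ⊗ₜ[K] (1 : A) - (1 : A) ⊗ₜ[K] σ) := by
    obtain ⟨n, hn⟩ := h
    exact ⟨n, hμ (by rw [map_pow, map_sub, map_zero]; simpa [μ, σ] using hn)⟩
  suffices hz : σ ⊗ₜ[K] (1 : A) - (1 : A) ⊗ₜ[K] σ = 0 by
    have h2 := congrArg μ hz
    rw [map_sub, map_zero, sub_eq_zero] at h2
    simpa [μ, σ] using h2
  by_cases halg : IsAlgebraic K s
  · haveI hfin : Module.Finite K A := Algebra.finite_adjoin_simple_of_isIntegral halg.isIntegral
    haveI : IsDomain A := inferInstance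
    haveI : IsArtinianRing A := .of_finite K A
    letI : Field A := (isField_of_isIntegral_of_isField' (R := K) (S := A) (Field.toIsField K)).toField
    haveI : Algebra.IsSeparable K A := inferInstance
    haveI : Algebra.FormallyUnramified K A := Algebra.FormallyUnramified.of_isSeparable K A
    haveI : Algebra.FormallyUnramified K (A ⊗[K] A) := .comp K A (A ⊗[K] A)
    haveI : Algebra.EssFiniteType K (A ⊗[K] A) := inferInstance
    haveI : IsReduced (A ⊗[K] A) := Algebra.FormallyUnramified.isReduced_of_field K _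
    exact hε.eq_zero
  · have htr : Function.Injective (Polynomial.aeval (R := K) s) := transcendental_iff_injective.1 halg
    have hr : (Polynomial.aeval (R := K) s).range = A := (Algebra.adjoin_singleton_eq_range_aeval K s).symm
    let e : Polynomial K ≃ₐ[K] A := (AlgEquiv.ofInjective _ htr).trans (Subalgebra.equivOfEq _ _ hr)
    have he : e.symm σ = Polynomial.X := by
      rw [AlgEquiv.symm_apply_eq]
      exact Subtype.ext (Polynomial.aeval_X s).symm
    let ψ : A ⊗[K] A →ₐ[K] MvPolynomial (Fin 2) K := Algebra.TensorProduct.productMap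
      ((Polynomial.aeval (MvPolynomial.X 0)).comp e.symm.toAlgHom)
      ((Polynomial.aeval (MvPolynomial.X 1)).comp e.symm.toAlgHom)
    have h4 := (hε.map ψ).eq_zero
    rw [map_sub, sub_eq_zero] at h4
    simp only [ψ, Algebra.TensorProduct.productMap_apply_tmul, AlgHom.comp_apply, map_one, mul_one, one_mul] at h4
    have he' : (e.symm : A →ₐ[K] Polynomial K) σ = Polynomial.X := he
    simp only [AlgEquiv.toAlgHom_eq_coe, he', Polynomial.aeval_X] at h4
    exact absurd (MvPolynomial.X_injective h4) (by decide)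

theorem isField_stalk_of_eq {Y : Scheme.{u}} [IsIntegral Y] {p : Y} (hp : p = genericPoint Y) :
    IsField (Y.presheaf.stalk p) := by
  subst hp; exact Field.toIsField Y.functionField

theorem isFractionRing_stalk_of_eq {Y : Scheme.{u}} [IsIntegral Y] {p y : Y} (hp : p = genericPoint Y) (h : p ⤳ y) :
    letI := (Y.presheaf.stalkSpecializes h).hom.toAlgebra
    IsFractionRing (Y.presheaf.stalk y) (Y.presheaf.stalk p) := by
  subst hp
  exact inferInstanceAs (IsFractionRing (Y.presheaf.stalk y) Y.functionField)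

theorem isFractionRing_sections_of_eq {Y : Scheme.{u}} [IsIntegral Y] {p : Y} (hp : p = genericPoint Y)
    {U : Y.Opens} (hU : IsAffineOpen U) (hpU : p ∈ U) :
    letI := (Y.presheaf.germ U p hpU).hom.toAlgebra
    IsFractionRing Γ(Y, U) (Y.presheaf.stalk p) := by
  subst hp
  haveI : Nonempty U := ⟨⟨_, hpU⟩⟩
  exact functionField_isFractionRing_of_isAffineOpen Y U hU

theorem valuationRing_of_normal (O : Type u) [CommRing O] [IsDomain O] [IsNoetherianRing O] [IsLocalRing O]
    [IsIntegrallyClosed O] (h : ringKrullDim O ≤ 1) : ValuationRing O := by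
  have e : (IsIntegrallyClosed O ∧ ∀ P : Ideal O, P ≠ ⊥ → P.IsPrime → P = IsLocalRing.maximalIdeal O) ↔ ValuationRing O :=
    (tfae_of_isNoetherianRing_of_isLocalRing_of_isDomain O).out 3 1
  refine e.mp ⟨inferInstance, fun P hP0 hP => ?_⟩
  by_contra hne
  have h1 : P < IsLocalRing.maximalIdeal O := lt_of_le_of_ne (IsLocalRing.le_maximalIdeal hP.ne_top) hne
  haveI := hP
  have h2 := Ideal.height_strict_mono_of_isPrime_of_isPrime (bot_lt_iff_ne_bot.2 hP0 : (⊥ : Ideal O) < P)
  have h3 := Ideal.height_strict_mono_of_isPrime_of_isPrime h1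
  have h4 : ((IsLocalRing.maximalIdeal O).height : WithBot ℕ∞) ≤ 1 := by
    rw [IsLocalRing.maximalIdeal_height_eq_ringKrullDim]; exact h
  have h5 : (IsLocalRing.maximalIdeal O).height ≤ 1 := WithBot.coe_le_coe.mp h4
  have h6 : (1 : ℕ∞) ≤ P.height := Order.one_le_iff_pos.mpr ((bot_le : (0 : ℕ∞) ≤ _).trans_lt h2)
  exact absurd (h3.trans_le h5) (not_lt.2 h6)

section main

variable {k : Type u} [Field k] [IsAlgClosed k]
open Limits TensorProduct

/-- The nilpotency of `s ⊗ 1 - 1 ⊗ s` over the generic point. -/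
theorem isNilpotent_generic (X Y : Over (Spec (CommRingCat.of k)))
    [LocallyOfFiniteType X.hom] [QuasiCompact X.hom] [IsSeparated Y.hom] [LocallyOfFiniteType Y.hom]
    (f : X ⟶ Y) (s : Γ(X.left, ⊤))
    (hs : ∀ x₁ x₂ : Spec (CommRingCat.of k) ⟶ X.left,
      x₁ ≫ X.hom = 𝟙 _ → x₂ ≫ X.hom = 𝟙 _ → x₁ ≫ f.left = x₂ ≫ f.left →
        x₁.appTop.hom s = x₂.appTop.hom s) (η : X.left) :
    letI := (f.left.stalkMap η).hom.toAlgebra
    IsNilpotent (X.left.presheaf.germ ⊤ η trivial s ⊗ₜ[Y.left.presheaf.stalk (f.left η)] (1 : X.left.presheaf.stalk η) -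
      (1 : X.left.presheaf.stalk η) ⊗ₜ[Y.left.presheaf.stalk (f.left η)] X.left.presheaf.germ ⊤ η trivial s) := by
  letI := (f.left.stalkMap η).hom.toAlgebra
  let K := Y.left.presheaf.stalk (f.left η)
  let L := X.left.presheaf.stalk η
  let P := pullback f.left f.left
  haveI : LocallyOfFiniteType (f.left ≫ Y.hom) := by rw [Over.w f]; infer_instance
  haveI : LocallyOfFiniteType f.left := locallyOfFiniteType_of_comp f.left Y.hom
  let str : P ⟶ Spec (CommRingCat.of k) := pullback.fst f.left f.left ≫ X.hom
  haveI : LocallyOfFiniteType str := inferInstance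
  haveI : JacobsonSpace P := LocallyOfFiniteType.jacobsonSpace str
  let a : Γ(P, ⊤) := (pullback.fst f.left f.left).appTop s - (pullback.snd f.left f.left).appTop s
  have hbo : P.basicOpen a = ⊥ := by
    by_contra hne
    obtain ⟨z, hz, hzc⟩ : ((P.basicOpen a : Set P) ∩ closedPoints P).Nonempty :=
      nonempty_inter_closedPoints (Set.nonempty_iff_ne_empty.2 fun h => hne (Opens.ext h)) (P.basicOpen a).2.isLocallyClosed
    let c := pointOfClosedPoint str z hzc
    have hc : c ≫ str = 𝟙 _ := pointOfClosedPoint_comp str z hzc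
    have h1 : (c ≫ pullback.fst f.left f.left) ≫ X.hom = 𝟙 _ := by rw [Category.assoc]; exact hc
    have h2 : (c ≫ pullback.snd f.left f.left) ≫ X.hom = 𝟙 _ := by
      rw [Category.assoc, ← Over.w f, ← pullback.condition_assoc, Over.w f]; exact hc
    have h3 := hs _ _ h1 h2 (by rw [Category.assoc, Category.assoc, pullback.condition])
    have h4 : c.appTop a = 0 := by
      simp only [a, map_sub]
      rw [Scheme.Hom.comp_appTop, Scheme.Hom.comp_appTop] at h3
      exact sub_eq_zero.2 h3
    have h5 : IsLocalRing.closedPoint k ∈ c ⁻¹ᵁ P.basicOpen a := by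
      show c (IsLocalRing.closedPoint k) ∈ P.basicOpen a
      rw [pointOfClosedPoint_apply str z hzc]
      exact hz
    rw [Scheme.preimage_basicOpen_top, h4, Scheme.basicOpen_zero] at h5
    exact h5
  let T := L ⊗[K] L
  let iL : X.left.presheaf.stalk η ⟶ CommRingCat.of T :=
    CommRingCat.ofHom (Algebra.TensorProduct.includeLeft (R := K) (S := K) (A := L) (B := L)).toRingHom
  let iR : X.left.presheaf.stalk η ⟶ CommRingCat.of T :=
    CommRingCat.ofHom (Algebra.TensorProduct.includeRight (R := K) (A := L) (B := L)).toRingHom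
  have hi : f.left.stalkMap η ≫ iL = f.left.stalkMap η ≫ iR := by
    ext c
    exact ((Algebra.TensorProduct.includeLeft (R := K) (S := K) (A := L) (B := L)).commutes c).trans
      ((Algebra.TensorProduct.includeRight (R := K) (A := L) (B := L)).commutes c).symm
  let l : Spec (CommRingCat.of T) ⟶ P := pullback.lift (Spec.map iL ≫ X.left.fromSpecStalk η)
    (Spec.map iR ≫ X.left.fromSpecStalk η) (by
      rw [Category.assoc, Category.assoc, ← Scheme.SpecMap_stalkMap_fromSpecStalk, ← Category.assoc,
        ← Category.assoc, ← Spec.map_comp, ← Spec.map_comp, hi])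
  have hj : ∀ (i : X.left.presheaf.stalk η ⟶ CommRingCat.of T),
      (Scheme.ΓSpecIso (CommRingCat.of T)).hom ((Spec.map i ≫ X.left.fromSpecStalk η).appTop s) =
        i (X.left.presheaf.germ ⊤ η trivial s) := by
    intro i
    have h : (Spec.map i ≫ X.left.fromSpecStalk η).appTop ≫ (Scheme.ΓSpecIso (CommRingCat.of T)).hom =
        X.left.presheaf.germ ⊤ η trivial ≫ i := by
      rw [Scheme.Hom.comp_appTop, Scheme.fromSpecStalk_appTop]
      simp [Scheme.ΓSpecIso_naturality]
    exact congrArg (fun m => m s) h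
  have hl : (Scheme.ΓSpecIso (CommRingCat.of T)).hom (l.appTop a) =
      iL (X.left.presheaf.germ ⊤ η trivial s) - iR (X.left.presheaf.germ ⊤ η trivial s) := by
    rw [← hj iL, ← hj iR]
    simp only [a, map_sub]
    congr 1
    · rw [show Spec.map iL ≫ X.left.fromSpecStalk η = l ≫ pullback.fst f.left f.left from (pullback.lift_fst _ _ _).symm,
        Scheme.Hom.comp_appTop]
      rfl
    · rw [show Spec.map iR ≫ X.left.fromSpecStalk η = l ≫ pullback.snd f.left f.left from (pullback.lift_snd _ _ _).symm,
        Scheme.Hom.comp_appTop]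
      rfl
  have h6 : (Spec (CommRingCat.of T)).basicOpen (l.appTop a) = ⊥ := by
    rw [← Scheme.preimage_basicOpen_top, hbo]
    rfl
  rw [basicOpen_eq_of_affine'] at h6
  have h7 := (PrimeSpectrum.basicOpen_eq_bot_iff _).1 h6
  rw [hl] at h7
  exact h7

end main


/-- Let k be an algebraically closed field of characteristic zero, X and Y integral separated schemes of
finite type over k with Y normal, and f : X → Y a k-morphism surjective on points. A global function
s on X which takes equal values at any two k-rational points of X having the same image under f is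
the pull-back of a global function on Y. (The published statement is phrased for set-theoretic
sections of a vector bundle on Y whose pull-back along f is a regular section; that form reduces to
the present one locally on Y, and the present one is the case of the trivial line bundle.) -/
theorem result
    (k : Type u) [Field k] [IsAlgClosed k] [CharZero k]
    (X Y : Over (Spec (CommRingCat.of k)))
    [AlgebraicGeometry.IsIntegral X.left] [AlgebraicGeometry.IsIntegral Y.left]
    [LocallyOfFiniteType X.hom] [QuasiCompact X.hom] [IsSeparated X.hom]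
    [LocallyOfFiniteType Y.hom] [QuasiCompact Y.hom] [IsSeparated Y.hom]
    (hY : Pi1.IsNormalScheme Y.left)
    (f : X ⟶ Y) (hf : Function.Surjective f.left.base)
    (s : Γ(X.left, ⊤))
    (hs : ∀ x₁ x₂ : Spec (CommRingCat.of k) ⟶ X.left,
      x₁ ≫ X.hom = 𝟙 _ → x₂ ≫ X.hom = 𝟙 _ → x₁ ≫ f.left = x₂ ≫ f.left →
        x₁.appTop.hom s = x₂.appTop.hom s) :
    ∃ r : Γ(Y.left, ⊤), f.left.appTop.hom r = s := by
  let η := genericPoint X.left
  haveI : Surjective f.left := ⟨hf⟩
  have hη : f.left η = genericPoint Y.left := by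
    refine IsGenericPoint.eq ?_ (genericPoint_spec Y.left)
    have h1 := (genericPoint_spec X.left).image f.left.continuous
    rwa [Set.image_univ, hf.range_eq, closure_univ] at h1
  let K := Y.left.presheaf.stalk (f.left η)
  let L := X.left.presheaf.stalk η
  letI : Field K := (isField_stalk_of_eq hη).toField
  letI : Field L := (isField_stalk_of_eq (rfl : η = genericPoint X.left)).toField
  letI algKL : Algebra K L := (f.left.stalkMap η).hom.toAlgebra
  haveI : CharZero K := by
    refine charZero_of_injective_ringHom (R := k)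
      ((Scheme.ΓSpecIso (CommRingCat.of k)).inv ≫ Y.hom.appTop ≫ Y.left.presheaf.germ ⊤ (f.left η) trivial).hom.injective
  obtain ⟨r, hr⟩ := mem_range_of_isNilpotent K L _ (isNilpotent_generic X Y f s hs η)
  haveI : IsLocallyNoetherian Y.left := LocallyOfFiniteType.isLocallyNoetherian Y.hom
  -- `r` is regular on every affine open
  have key : ∀ V : Y.left.affineOpens, (hV : f.left η ∈ V.1) → ∃ t : Γ(Y.left, V.1), Y.left.presheaf.germ V.1 (f.left η) hV t = r := by
    rintro ⟨V, hVa⟩ hV
    haveI : Nonempty V := ⟨⟨_, hV⟩⟩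
    let A := Γ(Y.left, V)
    haveI : IsIntegrallyClosed A := NormalExtLib.isIntegrallyClosed_sections hY V hVa
    haveI : IsNoetherianRing A := IsLocallyNoetherian.component_noetherian ⟨V, hVa⟩
    letI : Algebra A K := (Y.left.presheaf.germ V (f.left η) hV).hom.toAlgebra
    haveI : IsFractionRing A K := isFractionRing_sections_of_eq hη hVa hV
    let e : FractionRing A ≃ₐ[A] K := FractionRing.algEquiv A K
    suffices h : e.symm r ∈ Set.range (algebraMap A (FractionRing A)) by
      obtain ⟨t, ht⟩ := h
      exact ⟨t, by rw [← e.apply_symm_apply r, ← ht, AlgEquiv.commutes]; rfl⟩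
    refine CAlgMisc2.mem_range_of_forall_height_one _ fun p hp hp1 => ?_
    suffices h : ∃ (a s : A), s ∉ p ∧ r * algebraMap A K s = algebraMap A K a by
      obtain ⟨a, t, ht, h⟩ := h
      exact ⟨a, t, ht, e.injective (by rw [map_mul, e.apply_symm_apply, AlgEquiv.commutes, AlgEquiv.commutes, h])⟩
    let P : PrimeSpectrum A := ⟨p, hp⟩
    obtain ⟨y, hyV, hyP⟩ : ∃ (y : Y.left) (hy : y ∈ V), hVa.primeIdealOf ⟨y, hy⟩ = P :=
      ⟨hVa.fromSpec P, hVa.range_fromSpec.le (Set.mem_range_self _),
        hVa.fromSpec.isOpenEmbedding.injective (hVa.fromSpec_primeIdealOf _)⟩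
    let O := Y.left.presheaf.stalk y
    letI algAO : Algebra A O := (Y.left.presheaf.germ V y hyV).hom.toAlgebra
    haveI hloc : IsLocalization.AtPrime O p := by
      have h := hVa.isLocalization_stalk ⟨y, hyV⟩
      rwa [hyP] at h
    have hηy : f.left η ⤳ y := by rw [hη]; exact genericPoint_specializes y
    letI algOK : Algebra O K := (Y.left.presheaf.stalkSpecializes hηy).hom.toAlgebra
    haveI : IsFractionRing O K := isFractionRing_stalk_of_eq hη hηy
    haveI : IsScalarTower A O K := IsScalarTower.of_algebraMap_eq' (congrArg CommRingCat.Hom.hom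
      (Y.left.presheaf.germ_stalkSpecializes hyV hηy)).symm
    haveI : IsIntegrallyClosed O :=
      isIntegrallyClosed_of_isLocalization (R := A) _ p.primeCompl p.primeCompl_le_nonZeroDivisors
    haveI : ValuationRing O := valuationRing_of_normal O (by
      rw [IsLocalization.AtPrime.ringKrullDim_eq_height p O, hp1]; rfl)
    suffices h : ∃ o : O, algebraMap O K o = r by
      obtain ⟨o, ho⟩ := h
      obtain ⟨⟨a, t⟩, h⟩ := IsLocalization.surj p.primeCompl o
      exact ⟨a, t, t.2, by rw [← ho, IsScalarTower.algebraMap_apply A O K, ← map_mul, h,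
        ← IsScalarTower.algebraMap_apply A O K]⟩
    rcases ValuationRing.isInteger_or_isInteger O r with h | h
    · exact h
    obtain ⟨o, ho⟩ := h
    rcases eq_or_ne r 0 with hr0 | hr0
    · exact ⟨0, by rw [map_zero, hr0]⟩
    obtain ⟨x, hxy⟩ := hf y
    subst hxy
    have hηx : η ⤳ x := genericPoint_specializes x
    letI algL : Algebra (X.left.presheaf.stalk x) L := (X.left.presheaf.stalkSpecializes hηx).hom.toAlgebra
    haveI : IsFractionRing (X.left.presheaf.stalk x) L := isFractionRing_stalk_of_eq (rfl : η = genericPoint X.left) hηx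
    have hsq : algebraMap (X.left.presheaf.stalk x) L (f.left.stalkMap x o) = algebraMap K L (algebraMap O K o) :=
      congrArg (fun m => m o) (Scheme.Hom.stalkSpecializes_stalkMap f.left η x hηx).symm
    have hu : f.left.stalkMap x o * X.left.presheaf.germ ⊤ x trivial s = 1 := by
      refine IsFractionRing.injective (X.left.presheaf.stalk x) L ?_
      have h1 : algebraMap (X.left.presheaf.stalk x) L (X.left.presheaf.germ ⊤ x trivial s) = X.left.presheaf.germ ⊤ η trivial s :=
        congrArg (fun m => m s) (X.left.presheaf.germ_stalkSpecializes (U := ⊤) trivial hηx)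
      rw [map_mul, hsq, h1, ← hr, ← map_mul, ho, inv_mul_cancel₀ hr0, map_one, map_one]
    have hou : IsUnit o := (isUnit_map_iff (f.left.stalkMap x).hom o).1 (isUnit_iff_exists_inv.2 ⟨_, hu⟩)
    refine ⟨(hou.unit⁻¹ : Oˣ), ?_⟩
    rw [map_units_inv, IsUnit.unit_spec, ho, inv_inv]
  let U : {V : Y.left.affineOpens // f.left η ∈ V.1} → Y.left.Opens := fun V => V.1.1
  choose t ht using fun V : {V : Y.left.affineOpens // f.left η ∈ V.1} => key V.1 V.2
  have hcover : (⊤ : Y.left.Opens) ≤ iSup U := by
    intro y _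
    obtain ⟨_, ⟨V, hV, rfl⟩, hyV, -⟩ :=
      Y.left.isBasis_affineOpens.exists_subset_of_mem_open (Set.mem_univ y) isOpen_univ
    exact Opens.mem_iSup.2 ⟨⟨⟨V, hV⟩, by rw [hη]; exact (genericPoint_specializes y).mem_open V.2 hyV⟩, hyV⟩
  obtain ⟨r₀, hr₀, -⟩ := Y.left.sheaf.existsUnique_gluing' U ⊤ (fun V => homOfLE le_top) hcover t (by
    intro V W
    refine germ_injective_of_isIntegral Y.left (f.left η) (U := U V ⊓ U W) ⟨V.2, W.2⟩ ?_
    exact ((Y.left.presheaf.germ_res_apply _ _ _ _).trans (ht V)).trans
      ((Y.left.presheaf.germ_res_apply _ _ _ _).trans (ht W)).symm)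
  refine ⟨r₀, germ_injective_of_isIntegral X.left η (U := ⊤) trivial ?_⟩
  have e1 : Y.left.presheaf.germ ⊤ (f.left η) trivial r₀ = r := by
    obtain ⟨_, ⟨V, hV, rfl⟩, hyV, -⟩ :=
      Y.left.isBasis_affineOpens.exists_subset_of_mem_open (Set.mem_univ (f.left η)) isOpen_univ
    rw [← ht ⟨⟨V, hV⟩, hyV⟩, ← hr₀ ⟨⟨V, hV⟩, hyV⟩]
    exact (Y.left.presheaf.germ_res_apply _ _ _ _).symm
  exact ((Scheme.Hom.germ_stalkMap_apply f.left ⊤ η trivial r₀).symm.trans (congrArg (f.left.stalkMap η) e1)).trans hr

end Groth.Agent.S17467
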