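import Groth.Statements.S17468
import Mathlib.Algebra.Lie.Sl2
import Mathlib.LinearAlgebra.Trace
import Mathlib.Algebra.DirectSum.LinearMap
import Mathlib.LinearAlgebra.Eigenspace.Basic
import Mathlib.Algebra.Lie.Semisimple.Defs
import Mathlib.FieldTheory.IsAlgClosed.Basic
import Mathlib.Algebra.Lie.Weights.Basic
import Mathlib.Tactic

set_option autoImplicit false
universe u v w
open LieRep

namespace Groth.Agent.S17468

open LieModule Module

theorem sum_sq {k : Type u} [Field k] [CharZero k] (a : k) : ∀ N : ℕ, ∑ i ∈ Finset.range N, (a - 2 * (i : k)) ^ 2 =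
    N * a ^ 2 - 2 * a * N * (N - 1) + 2 * N * (N - 1) * (2 * N - 1) / 3 := by
  intro N
  induction N with
  | zero => simp
  | succ N ih => rw [Finset.sum_range_succ, ih]; push_cast; ring

theorem trace_irreducible {k : Type u} [Field k] [IsAlgClosed k] [CharZero k]
    {L : Type v} [LieRing L] [LieAlgebra k L] {h e f : L} (t : IsSl2Triple h e f)
    (hspan : t.toLieSubalgebra k = ⊤) (M : Type w) [AddCommGroup M] [Module k M] [LieRingModule L M]
    [LieModule k L M] [FiniteDimensional k M] [IsIrreducible k L M] :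
    LinearMap.trace k M ((toEnd k L M h) ^ 2) = 2 * (((finrank k M + 1).choose 3 : ℕ) : k) := by
  classical
  haveI : Nontrivial M := LieSubmodule.nontrivial_iff k L M |>.mp (inferInstanceAs (Nontrivial (LieSubmodule k L M)))
  obtain ⟨μ, m, hm, P⟩ := t.exists_hasPrimitiveVectorWith (R := k) (M := M)
  obtain ⟨n, hn⟩ := P.exists_nat
  let v : Fin (n + 1) → M := fun i => ((toEnd k L M f) ^ (i : ℕ)) m
  have hev : ∀ i : Fin (n + 1), toEnd k L M h (v i) = ((n : k) - 2 * ((i : ℕ) : k)) • v i := fun i => by
    rw [← hn]; exact P.lie_h_pow_toEnd_f i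
  have hli : LinearIndependent k v := by
    refine Module.End.eigenvectors_linearIndependent' (toEnd k L M h) (fun i : Fin (n + 1) => (n : k) - 2 * ((i : ℕ) : k))
      (fun i j hij => ?_) v fun i => ⟨Module.End.mem_eigenspace_iff.mpr (hev i), P.pow_toEnd_f_ne_zero_of_eq_nat hn (Nat.lt_succ_iff.mp i.2)⟩
    have : ((i : ℕ) : k) = ((j : ℕ) : k) := by
      have h2 : (2 : k) * ((i : ℕ) : k) = 2 * ((j : ℕ) : k) := by linear_combination -hij
      exact mul_left_cancel₀ two_ne_zero h2
    exact Fin.ext (by exact_mod_cast this)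
  let W := Submodule.span k (Set.range v)
  have hpw : ∀ i : ℕ, ((toEnd k L M f) ^ i) m ∈ W := by
    intro i
    by_cases hi : i ≤ n
    · exact Submodule.subset_span ⟨⟨i, by omega⟩, rfl⟩
    · obtain ⟨j, rfl⟩ : ∃ j, i = j + (n + 1) := ⟨i - (n + 1), by omega⟩
      rw [pow_add, Module.End.mul_apply, P.pow_toEnd_f_eq_zero_of_eq_nat hn, map_zero]
      exact zero_mem _
  have hstab : ∀ x : L, ∀ y ∈ W, ⁅x, y⁆ ∈ W := by
    intro x
    have hx : x ∈ t.toLieSubalgebra k := hspan ▸ LieSubalgebra.mem_top x
    obtain ⟨c₁, c₂, c₃, rfl⟩ := IsSl2Triple.mem_toLieSubalgebra_iff.mp hx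
    intro y hy
    have hgen : ∀ z ∈ ({e, f, h} : Set L), ⁅z, y⁆ ∈ W := by
      intro z hz
      refine Submodule.span_induction (p := fun y _ => ⁅z, y⁆ ∈ W) ?_ (by simp)
        (fun a b _ _ ha hb => by rw [lie_add]; exact add_mem ha hb)
        (fun c a _ ha => by rw [lie_smul]; exact W.smul_mem c ha) hy
      rintro _ ⟨i, rfl⟩
      rcases hz with rfl | rfl | rfl
      · rcases Nat.eq_zero_or_pos (i : ℕ) with hi | hi
        · show ⁅z, ((toEnd k L M f) ^ (i : ℕ)) m⁆ ∈ W
          rw [hi, pow_zero, Module.End.one_apply, P.lie_e]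
          exact zero_mem _
        · show ⁅z, ((toEnd k L M f) ^ (i : ℕ)) m⁆ ∈ W
          obtain ⟨j, hj⟩ : ∃ j, (i : ℕ) = j + 1 := ⟨(i : ℕ) - 1, by omega⟩
          rw [hj, P.lie_e_pow_succ_toEnd_f]
          exact W.smul_mem _ (hpw j)
      · show ⁅z, ((toEnd k L M z) ^ (i : ℕ)) m⁆ ∈ W
        rw [P.lie_f_pow_toEnd_f]
        exact hpw _
      · show ⁅z, ((toEnd k L M f) ^ (i : ℕ)) m⁆ ∈ W
        rw [P.lie_h_pow_toEnd_f]
        exact W.smul_mem _ (hpw _)
    rw [t.lie_e_f, add_lie, add_lie, smul_lie, smul_lie, smul_lie]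
    exact add_mem (add_mem (W.smul_mem _ (hgen e (by simp))) (W.smul_mem _ (hgen f (by simp))))
      (W.smul_mem _ (hgen h (by simp)))
  let W' : LieSubmodule k L M := { W with lie_mem := fun {x y} hy => hstab x y hy }
  have htop : W = ⊤ := by
    have : W' = ⊤ := (IsSimpleOrder.eq_bot_or_eq_top W').resolve_left fun hb => hm (by
      have h2 : m ∈ W' := by
        show m ∈ W
        simpa using hpw 0
      rw [hb] at h2
      exact h2)
    exact congrArg (fun X : LieSubmodule k L M => X.toSubmodule) this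
  let b : Basis (Fin (n + 1)) k M := Basis.mk hli (top_le_iff.mpr htop)
  rw [finrank_eq_card_basis b, Fintype.card_fin, LinearMap.trace_eq_matrix_trace k b, Matrix.trace]
  have hdiag : ∀ i, (LinearMap.toMatrix b b ((toEnd k L M h) ^ 2)).diag i = ((n : k) - 2 * ((i : ℕ) : k)) ^ 2 := by
    intro i
    rw [Matrix.diag_apply, LinearMap.toMatrix_apply]
    have : ((toEnd k L M h) ^ 2) (b i) = (((n : k) - 2 * ((i : ℕ) : k)) ^ 2) • b i := by
      rw [Basis.mk_apply, pow_two, Module.End.mul_apply, hev, map_smul, hev, smul_smul, pow_two]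
    rw [this, map_smul, b.repr_self, Finsupp.smul_apply, Finsupp.single_eq_same, smul_eq_mul, mul_one]
  simp only [hdiag]
  rw [Fin.sum_univ_eq_sum_range (fun i : ℕ => ((n : k) - 2 * (i : k)) ^ 2), sum_sq]
  have hc : (((n + 1 + 1).choose 3 : ℕ) : k) * 6 = ((n : k) + 2) * ((n : k) + 1) * n := by
    have := Nat.descFactorial_eq_factorial_mul_choose (n + 1 + 1) 3
    simp [Nat.descFactorial, Nat.factorial] at this
    have h' : ((n + 1 + 1).choose 3) * 6 = (n + 2) * (n + 1) * n := by rw [mul_comm ((n + 1 + 1).choose 3), ← this]; ring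
    exact_mod_cast h'
  push_cast
  field_simp
  linear_combination -hc

/-- Let k be an algebraically closed field of characteristic zero, L a Lie algebra over k spanned by an
sl_2-triple (h, e, f), and V a finite-dimensional L-module written as an internal direct sum of
finitely many irreducible Lie submodules V_i. Then the trace on V of the square of the action of h
is 2 Σ_i C(dim V_i + 1, 3). (The published statement concerns a finite-dimensional representation V
of a simple Lie algebra restricted to the copy of sl_2 attached to the highest root θ, with h the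
coroot θ^∨; there Σ_i C(dim V_i + 1, 3) is the index of V, and the trace is the sum over the weights
λ of V, with multiplicity, of ⟨λ, θ^∨⟩².) -/
theorem result
    (k : Type u) [Field k] [IsAlgClosed k] [CharZero k]
    (L : Type v) [LieRing L] [LieAlgebra k L]
    (h e f : L) (t : IsSl2Triple h e f) (hspan : t.toLieSubalgebra k = ⊤)
    (V : Type w) [AddCommGroup V] [Module k V] [LieRingModule L V] [LieModule k L V]
    [FiniteDimensional k V]
    (ι : Type) [Fintype ι] [DecidableEq ι] (W : ι → LieSubmodule k L V)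
    (hW : DirectSum.IsInternal fun i => (W i).toSubmodule)
    (hirr : ∀ i, LieModule.IsIrreducible k L (W i)) :
    LinearMap.trace k V ((LieModule.toEnd k L V h) ^ 2) =
      2 * ∑ i, (((Module.finrank k (W i) + 1).choose 3 : ℕ) : k) := by
  classical
  have hmap : ∀ i, Set.MapsTo (⇑((toEnd k L V h) ^ 2)) ((W i).toSubmodule : Set V) ((W i).toSubmodule : Set V) :=
    fun i x hx => by
      show ((toEnd k L V h) ^ 2 : Module.End k V) x ∈ (W i).toSubmodule
      rw [pow_two, Module.End.mul_apply]
      exact (W i).lie_mem ((W i).lie_mem hx)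
  rw [LinearMap.trace_eq_sum_trace_restrict hW hmap, Finset.mul_sum]
  refine Finset.sum_congr rfl fun i _ => ?_
  haveI := hirr i
  have : ((toEnd k L V h) ^ 2).restrict (hmap i) = (toEnd k L (W i) h) ^ 2 := by
    ext x
    simp [pow_two]
    rfl
  rw [this]
  exact trace_irreducible t hspan (W i)

end Groth.Agent.S17468
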