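import Groth.Statements.S17469
import Groth.Agent.H8Lim.BiratNormal

set_option autoImplicit false
universe u
open CategoryTheory AlgebraicGeometry
open Variety
open Groth.Agent
set_option backward.isDefEq.respectTransparency.types false

namespace Groth.Agent.S17469

/-- Let X be a locally Noetherian integral scheme all of whose local rings are integrally closed domains
and U an open subset of X. A section of O_X over U that is integral over the ring of global sections
of X, the latter acting through restriction, is itself the restriction of a global section. (The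
published lemma is stated for an irreducible normal variety and for the graded ring of sections over
U of all non-negative powers of a line bundle, integral over the corresponding ring of sections over
X; for the trivial line bundle its homogeneous components are the present statement, which is made
here for any locally Noetherian normal integral scheme.) -/
theorem result
    (X : Scheme.{u}) [AlgebraicGeometry.IsIntegral X] [IsLocallyNoetherian X]
    (hX : Pi1.IsNormalScheme X) (U : X.Opens) (b : Γ(X, U))
    (hb : (X.presheaf.map (homOfLE le_top : U ⟶ ⊤).op).hom.IsIntegralElem b) :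
    b ∈ Set.range (X.presheaf.map (homOfLE le_top : U ⟶ ⊤).op).hom := by
  rcases isEmpty_or_nonempty U with hU | hU
  · haveI : Subsingleton Γ(X, U) := by
      have : U = ⊥ := by ext x; exact ⟨fun hx => (hU.false ⟨x, hx⟩).elim, fun hx => hx.elim⟩
      rw [this]; infer_instance
    exact ⟨0, Subsingleton.elim _ _⟩
  obtain ⟨⟨u, hu⟩⟩ := hU
  have hηU : genericPoint X ∈ U := (genericPoint_specializes u).mem_open U.2 hu
  let ξ := X.presheaf.germ U (genericPoint X) hηU b
  obtain ⟨s, hs⟩ := H8Lim.mem_range_germ_of_local (O := (⊤ : X.Opens)) trivial ξ fun x _ => by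
    obtain ⟨_, ⟨W, hW, rfl⟩, hxW, -⟩ :=
      X.isBasis_affineOpens.exists_subset_of_mem_open (Set.mem_univ x) isOpen_univ
    have hηW : genericPoint X ∈ W := (genericPoint_specializes x).mem_open W.2 hxW
    refine ⟨W, hηW, le_top, hxW, H8Lim.mem_range_germ_of_isIntegralElem (fun y => (hX y).2) hW rfl hηW ξ ?_⟩
    obtain ⟨P, hP, hPb⟩ := hb
    refine ⟨P.map (X.presheaf.map (homOfLE le_top : W ⟶ ⊤).op).hom, hP.map _, ?_⟩
    rw [Polynomial.eval₂_map]
    have e : (X.presheaf.germ W (genericPoint X) hηW).hom.comp (X.presheaf.map (homOfLE le_top : W ⟶ ⊤).op).hom =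
        (X.presheaf.germ U (genericPoint X) hηU).hom.comp (X.presheaf.map (homOfLE le_top : U ⟶ ⊤).op).hom := by
      ext c
      show X.presheaf.germ W _ hηW (X.presheaf.map _ c) = X.presheaf.germ U _ hηU (X.presheaf.map _ c)
      rw [TopCat.Presheaf.germ_res_apply, TopCat.Presheaf.germ_res_apply]
    rw [e, show ξ = (X.presheaf.germ U (genericPoint X) hηU).hom b from rfl, ← Polynomial.hom_eval₂, hPb, map_zero]
  refine ⟨s, germ_injective_of_isIntegral X _ hηU ?_⟩
  erw [TopCat.Presheaf.germ_res_apply]
  exact hs

end Groth.Agent.S17469
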