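import Groth.Statements.S17471
import Groth.Agent.RootDat.BaseR

set_option autoImplicit false
universe u v w x
open RootCh Groth.Agent.RootDat

namespace Groth.Agent.S17471

/-- Let Φ be a finite, reduced, crystallographic, irreducible root system with a base, and θ a positive
root such that θ + β is a root for no positive root β (so θ is the highest root). Then Σ_{β>0} ⟨β,
θ^∨⟩² = 2 + Σ_{β>0} ⟨β, θ^∨⟩ = 2(1 + ⟨ρ, θ^∨⟩), ρ being half the sum of the positive roots; in the
source the left side is the index of the adjoint representation obtained from its formal character,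
and 1 + ⟨ρ, θ^∨⟩ is the dual Coxeter number. -/
theorem result
    {ι : Type u} {R : Type v} {M : Type w} {N : Type x}
    [Field R] [LinearOrder R] [IsStrictOrderedRing R]
    [AddCommGroup M] [Module R M] [AddCommGroup N] [Module R N] [Fintype ι]
    (P : RootPairing ι R M N) [P.IsRootSystem] [P.IsCrystallographic] [P.IsReduced]
    [P.IsIrreducible] (b : P.Base) (θ : ι) (hθ : b.IsPos θ)
    (hmax : ∀ i : ι, b.IsPos i → P.root θ + P.root i ∉ Set.range P.root) :
    ∑ i ∈ Finset.univ.filter (fun i => 0 < b.height i), P.pairing i θ ^ 2 =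
      2 + ∑ i ∈ Finset.univ.filter (fun i => 0 < b.height i), P.pairing i θ := by
  classical
  have hfil : (Finset.univ.filter fun i => 0 < b.height i) = Finset.univ.filter b.IsPos := by
    ext i; simp [RootPairing.Base.IsPos]
  rw [hfil]
  set S := Finset.univ.filter b.IsPos
  have hθS : θ ∈ S := Finset.mem_filter.mpr ⟨Finset.mem_univ _, hθ⟩
  rw [← Finset.add_sum_erase _ _ hθS, ← Finset.add_sum_erase _ _ hθS, P.pairing_same]
  have hp : ∀ i ∈ S.erase θ, P.pairing i θ ^ 2 = P.pairing i θ := by
    intro i hi
    obtain ⟨hne, hiS⟩ := Finset.mem_erase.mp hi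
    have hipos : b.IsPos i := (Finset.mem_filter.mp hiS).2
    have halg : P.pairing i θ = (P.pairingIn ℤ i θ : R) := by
      rw [← P.algebraMap_pairingIn ℤ i θ]; simp
    have hnegne : P.root i ≠ -P.root θ := fun e => by
      have : i = Groth.Agent.RootDat.neg P θ := P.root.injective (by rw [root_neg, e])
      rw [this, isPos_neg_iff] at hipos
      exact hipos hθ
    have h0 : 0 ≤ P.pairingIn ℤ i θ := by
      by_contra hlt
      push Not at hlt
      exact hmax i hipos (by rw [add_comm]; exact P.root_add_root_mem_of_pairingIn_neg hlt hnegne)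
    have h1 : P.pairingIn ℤ i θ ≤ 1 := by
      by_contra hgt
      push Not at hgt
      obtain ⟨k, hk⟩ := P.root_sub_root_mem_of_pairingIn_pos (i := i) (j := θ) (by omega) hne
      have hkneg : ¬ b.IsPos k := fun hkp => hmax k hkp ⟨i, by rw [hk]; abel⟩
      have hk' : b.IsPos (Groth.Agent.RootDat.neg P k) := (isPos_neg_iff b k).mpr hkneg
      have hk'root : P.root (Groth.Agent.RootDat.neg P k) = P.root θ - P.root i := by
        rw [root_neg, hk]; abel
      apply hmax _ hk'
      rcases eq_or_lt_of_le (show 2 ≤ P.pairingIn ℤ i θ by omega) with e | e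
      · refine ⟨Groth.Agent.RootDat.neg P (P.reflectionPerm θ i), ?_⟩
        rw [root_neg, P.root_reflectionPerm, P.reflection_apply_root' ℤ, ← e, hk'root, two_zsmul]
        abel
      · have hkθ : P.pairingIn ℤ (Groth.Agent.RootDat.neg P k) θ < 0 := by
          have : P.pairingIn ℤ i θ =
              P.pairingIn ℤ k θ + P.pairingIn ℤ θ θ :=
            P.pairingIn_eq_add_of_root_eq_add (by rw [hk]; abel)
          rw [P.pairingIn_same] at this
          have e2 : P.pairingIn ℤ (Groth.Agent.RootDat.neg P k) θ = -P.pairingIn ℤ k θ :=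
            P.pairingIn_reflectionPerm_self_left ℤ k θ
          omega
        rw [add_comm]
        refine P.root_add_root_mem_of_pairingIn_neg hkθ fun e2 => ?_
        have : Groth.Agent.RootDat.neg P k = Groth.Agent.RootDat.neg P θ :=
          P.root.injective (by rw [root_neg P θ, e2])
        rw [this, isPos_neg_iff] at hk'
        exact hk' hθ
    rcases (show P.pairingIn ℤ i θ = 0 ∨ P.pairingIn ℤ i θ = 1 by omega) with e | e <;>
      simp [halg, e]
  rw [Finset.sum_congr rfl hp]
  ring

end Groth.Agent.S17471
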