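import Groth.Statements.S17472
import Mathlib
import Groth.Prelude

set_option linter.all false

set_option autoImplicit false
universe u
open HopfAlg

open TensorProduct Coalgebra

namespace Groth.Agent.S17472

variable {k : Type u} [Field k] {A : Type u} [CommRing A] [HopfAlgebra k A]

/-- translation by a character -/
noncomputable def τ (g : A →ₐ[k] k) : A →ₐ[k] A :=
  ((Algebra.TensorProduct.lid k A).toAlgHom.comp (Algebra.TensorProduct.map g (AlgHom.id k A))).comp (Bialgebra.comulAlgHom k A)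

theorem τ_apply {ι : Type*} (g : A →ₐ[k] k) (a : A) (r : Repr k a ι) :
    τ g a = ∑ i ∈ r.index, g (r.left i) • r.right i := by
  show Algebra.TensorProduct.lid k A (Algebra.TensorProduct.map g (AlgHom.id k A) (comul (R := k) a)) = _
  rw [← r.eq, map_sum, map_sum]
  simp

theorem counit_τ (g : A →ₐ[k] k) (a : A) : Bialgebra.counitAlgHom k A (τ g a) = g a := by
  rw [τ_apply g a (ℛ k a), map_sum]
  have h := congrArg (TensorProduct.rid k A) (sum_tmul_counit_eq (ℛ k a))
  simp only [map_sum, TensorProduct.rid_tmul, one_smul] at h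
  conv_rhs => rw [← h, map_sum]
  refine Finset.sum_congr rfl fun i _ => ?_
  simp [mul_comm]

theorem τ_comp (g g' : A →ₐ[k] k) (h : ∀ (b : A) (r : Repr k b (A × A)), ∑ j ∈ r.index, g (r.left j) * g' (r.right j) = counit b) (a : A) :
    τ g' (τ g a) = a := by
  rw [τ_apply g a (ℛ k a), map_sum]
  simp only [map_smul, fun i => τ_apply g' ((ℛ k a).right i) (ℛ k ((ℛ k a).right i)), Finset.smul_sum, smul_smul]
  let F : A ⊗[k] (A ⊗[k] A) →ₗ[k] A :=
    (TensorProduct.lid k A).toLinearMap.comp (TensorProduct.map g.toLinearMap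
      ((TensorProduct.lid k A).toLinearMap.comp (TensorProduct.map g'.toLinearMap LinearMap.id)))
  have hF : ∀ x y z, F (x ⊗ₜ[k] (y ⊗ₜ[k] z)) = (g x * g' y) • z := fun x y z => by simp [F, smul_smul, mul_comm]
  have e := congrArg F (sum_tmul_tmul_eq (ℛ k a) (fun i => ℛ k ((ℛ k a).left i)) (fun i => ℛ k ((ℛ k a).right i)))
  simp only [map_sum, hF] at e
  rw [← e]
  simp only [← Finset.sum_smul, h]
  exact sum_counit_smul (ℛ k a)

theorem τ_bijective (g : A →ₐ[k] k) : Function.Bijective (τ g) := by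
  refine Function.bijective_iff_has_inverse.2 ⟨τ (g.comp (HopfAlgebra.antipodeAlgHom k A)), ?_, ?_⟩
  · refine fun a => τ_comp g _ (fun b r => ?_) a
    have := congrArg g (HopfAlgebra.sum_mul_antipode_eq_algebraMap_counit r)
    rw [map_sum, AlgHom.commutes, Algebra.algebraMap_self, RingHom.id_apply] at this
    rw [← this]
    exact Finset.sum_congr rfl fun j _ => (map_mul g _ _).symm
  · refine fun a => τ_comp _ g (fun b r => ?_) a
    have := congrArg g (HopfAlgebra.sum_antipode_mul_eq_algebraMap_counit r)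
    rw [map_sum, AlgHom.commutes, Algebra.algebraMap_self, RingHom.id_apply] at this
    rw [← this]
    exact Finset.sum_congr rfl fun j _ => (map_mul g _ _).symm

theorem exists_char [IsAlgClosed k] [Algebra.FiniteType k A] (P : Ideal A) [P.IsMaximal] :
    ∃ g : A →ₐ[k] k, RingHom.ker g = P := by
  letI : Field (A ⧸ P) := Ideal.Quotient.field P
  haveI : Module.Finite k (A ⧸ P) := finite_of_finite_type_of_isJacobsonRing k (A ⧸ P)
  let e : k ≃ₐ[k] A ⧸ P := AlgEquiv.ofBijective (Algebra.ofId k (A ⧸ P)) IsAlgClosed.algebraMap_bijective_of_isIntegral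
  refine ⟨e.symm.toAlgHom.comp (Ideal.Quotient.mkₐ k P), ?_⟩
  ext x
  simp [RingHom.mem_ker, Ideal.Quotient.eq_zero_iff_mem]

theorem assoc_map {B : Type u} [CommRing B] (e : B ≃+* B) {P : Ideal B} (h : P ∈ associatedPrimes B B) :
    P.map e ∈ associatedPrimes B B := by
  haveI := h.isPrime
  obtain ⟨hp, x, hx⟩ := h
  refine ⟨Ideal.map_isPrime_of_equiv e, e x, ?_⟩
  ext y
  rw [← e.apply_symm_apply y, show (e (e.symm y) ∈ P.map e ↔ e.symm y ∈ P) from ⟨fun h => by
      obtain ⟨z, hz, he⟩ := (Ideal.mem_map_of_equiv e _).1 h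
      rwa [← e.injective he], Ideal.mem_map_of_mem _⟩, Ideal.mem_radical_iff, hx, Ideal.mem_radical_iff]
  refine exists_congr fun n => ?_
  simp only [Submodule.mem_colon_singleton, Submodule.mem_bot, smul_eq_mul, ← map_pow, ← map_mul, map_eq_zero_iff _ e.injective]

theorem map_inj {B : Type u} [CommRing B] (e : B ≃+* B) {P Q : Ideal B} (h : P.map e = Q.map e) : P = Q := by
  rw [← Ideal.comap_map_of_bijective e e.bijective (I := P), h, Ideal.comap_map_of_bijective e e.bijective]

theorem assoc_eq [IsAlgClosed k] [Algebra.FiniteType k A] (hconn : ∀ e : A, IsIdempotentElem e → e = 0 ∨ e = 1)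
    {P Q : Ideal A} (hP : P ∈ associatedPrimes A A) (hQ : Q ∈ associatedPrimes A A) : P = Q := by
  classical
  haveI : IsNoetherianRing A := Algebra.FiniteType.isNoetherianRing k A
  haveI : IsJacobsonRing A := isJacobsonRing_of_finiteType (A := k)
  set S := (associatedPrimes.finite A A).toFinset
  have hS : ∀ P, P ∈ S ↔ P ∈ associatedPrimes A A := fun P => (associatedPrimes.finite A A).mem_toFinset
  let ε := Bialgebra.counitAlgHom k A
  -- all maximal ideals contain the same number of associated primes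
  have htrans : ∀ (h : Ideal A), h.IsMaximal → ∀ P Q : Ideal A, P ∈ S → Q ∈ S → P ≤ h → Q ≤ h →
      (∀ P' Q' : Ideal A, P' ∈ S → Q' ∈ S → P' ≤ RingHom.ker ε → Q' ≤ RingHom.ker ε → P' = Q') → P = Q := by
    intro h hh P Q hP hQ hPh hQh hm
    obtain ⟨g, rfl⟩ := exists_char (k := k) h
    let e : A ≃+* A := (AlgEquiv.ofBijective (τ g) (τ_bijective g)).toRingEquiv
    have hle : ∀ P : Ideal A, P ≤ RingHom.ker g → P.map e ≤ RingHom.ker ε := by
      intro P hP
      refine Ideal.map_le_iff_le_comap.2 fun x hx => ?_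
      rw [Ideal.mem_comap, RingHom.mem_ker]
      exact (counit_τ g x).trans (hP hx)
    have := hm _ _ ((hS _).2 (assoc_map e ((hS _).1 hP))) ((hS _).2 (assoc_map e ((hS _).1 hQ))) (hle P hPh) (hle Q hQh)
    exact map_inj e this
  obtain ⟨P₀, hP₀S, hP₀min⟩ := S.exists_minimal ⟨P, (hS P).2 hP⟩
  have hP₀ := ((hS P₀).1 hP₀S).isPrime
  obtain ⟨h, hh, hP₀h, hprod⟩ : ∃ h : Ideal A, h.IsMaximal ∧ P₀ ≤ h ∧ ¬ (∏ Q ∈ S.erase P₀, Q) ≤ h := by
    by_contra hcon
    push Not at hcon
    have hle : (∏ Q ∈ S.erase P₀, Q) ≤ P₀ := by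
      conv_rhs => rw [← isJacobsonRing_iff_prime_eq.1 inferInstance P₀ hP₀]
      exact le_sInf fun J hJ => hcon J hJ.2 hJ.1
    obtain ⟨Q, hQ', hle'⟩ := hP₀.prod_le.1 hle
    exact Finset.ne_of_mem_erase hQ' (le_antisymm hle' (hP₀min (Finset.mem_of_mem_erase hQ') hle'))
  have honly : ∀ Q ∈ S, Q ≤ h → Q = P₀ := by
    intro Q hQ hQh
    by_contra hne
    exact hprod ((Ideal.prod_le_inf.trans (Finset.inf_le (f := fun Q => Q) (Finset.mem_erase.2 ⟨hne, hQ⟩))).trans hQh)
  have hone : ∀ P' Q' : Ideal A, P' ∈ S → Q' ∈ S → P' ≤ RingHom.ker ε → Q' ≤ RingHom.ker ε → P' = Q' := by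
    obtain ⟨g, hg⟩ := exists_char (k := k) h
    let e : A ≃+* A := (AlgEquiv.ofBijective (τ g) (τ_bijective g)).toRingEquiv
    intro P' Q' hP' hQ' hPm hQm
    have hle : ∀ P : Ideal A, P ≤ RingHom.ker ε → P.map e.symm ≤ h := by
      intro P hP
      refine Ideal.map_le_iff_le_comap.2 fun x hx => ?_
      rw [Ideal.mem_comap, ← hg, RingHom.mem_ker, ← counit_τ g]
      show ε (e (e.symm x)) = 0
      rw [e.apply_symm_apply]
      exact hP hx
    exact map_inj e.symm ((honly _ ((hS _).2 (assoc_map e.symm ((hS _).1 hP'))) (hle P' hPm)).trans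
      (honly _ ((hS _).2 (assoc_map e.symm ((hS _).1 hQ'))) (hle Q' hQm)).symm)
  by_contra hne
  -- a non-trivial idempotent
  have hcomax : P ⊔ (∏ Q ∈ S.erase P, Q) = ⊤ := by
    by_contra htop
    obtain ⟨J, hJ, hle⟩ := Ideal.exists_le_maximal _ htop
    obtain ⟨Q', hQ', hle'⟩ := hJ.isPrime.prod_le.1 (le_sup_right.trans hle)
    exact Finset.ne_of_mem_erase hQ' (htrans J hJ Q' P (Finset.mem_of_mem_erase hQ') ((hS P).2 hP) hle' (le_sup_left.trans hle) hone)
  obtain ⟨u, hu, v, hv, huv⟩ := Submodule.mem_sup.1 ((Ideal.eq_top_iff_one _).1 hcomax)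
  have hnil : IsNilpotent (u * v) := by
    rw [nilpotent_iff_mem_prime]
    intro J hJ
    obtain ⟨J₀, hJ₀, hJ₀le⟩ := Ideal.exists_minimalPrimes_le (I := Module.annihilator A A) (J := J) (by
      intro x hx
      have := Module.mem_annihilator.1 hx 1
      rw [smul_eq_mul, mul_one] at this
      rw [this]; exact J.zero_mem)
    have hJ₀S := (hS J₀).2 (Module.associatedPrimes.minimalPrimes_annihilator_subset_associatedPrimes A A hJ₀)
    by_cases hJP : J₀ = P
    · exact hJ₀le (hJP ▸ P.mul_mem_right _ hu)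
    · exact hJ₀le ((Ideal.prod_le_inf.trans (Finset.inf_le (f := fun Q => Q) (Finset.mem_erase.2 ⟨hJP, hJ₀S⟩)))
        (Ideal.mul_mem_left _ _ hv))
  obtain ⟨n, hn⟩ := hnil
  obtain ⟨a, b, hab⟩ := (show IsCoprime u v from ⟨1, 1, by rw [one_mul, one_mul, huv]⟩).pow (m := n) (n := n)
  have hid : IsIdempotentElem (a * u ^ n) := by
    show a * u ^ n * (a * u ^ n) = a * u ^ n
    rw [mul_pow] at hn
    linear_combination (a * u ^ n) * hab - a * b * hn
  rcases hconn _ hid with h0 | h1
  · rw [h0, zero_add] at hab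
    rcases eq_or_ne n 0 with rfl | hn0
    · simp at hn
      exact ((hS P).1 ((hS P).2 hP)).isPrime.ne_top ((Ideal.eq_top_iff_one P).2 (by
        haveI : Subsingleton A := subsingleton_of_zero_eq_one hn.symm
        rw [Subsingleton.elim (1 : A) 0]; exact P.zero_mem))
    · have hvn : v ^ n ∈ Q := Ideal.pow_mem_of_mem _ ((Ideal.prod_le_inf.trans (Finset.inf_le (f := fun Q => Q)
        (Finset.mem_erase.2 ⟨fun h => hne h.symm, (hS Q).2 hQ⟩))) hv) n (Nat.pos_of_ne_zero hn0)
      exact hQ.isPrime.ne_top ((Ideal.eq_top_iff_one Q).2 (hab ▸ Q.mul_mem_left _ hvn))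
  · rcases eq_or_ne n 0 with rfl | hn0
    · simp at hn
      exact hP.isPrime.ne_top ((Ideal.eq_top_iff_one P).2 (by
        haveI : Subsingleton A := subsingleton_of_zero_eq_one hn.symm
        rw [Subsingleton.elim (1 : A) 0]; exact P.zero_mem))
    · exact hP.isPrime.ne_top ((Ideal.eq_top_iff_one P).2 (h1 ▸ P.mul_mem_left _ (Ideal.pow_mem_of_mem _ hu n (Nat.pos_of_ne_zero hn0))))

/-- Let k be an algebraically closed field and A a commutative Hopf algebra over k, finitely generated
as a k-algebra, whose only idempotents are 0 and 1 (so that Spec A is a connected affine algebraic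
group over k, possibly non-reduced). Let m be the kernel of the counit, the ideal of the neutral
element. Then the intersection of the powers m^n, n ≥ 0, is the zero ideal; equivalently the
infinitesimal neighbourhoods Spec (A/m^n) of the neutral element are jointly schematically dense.
(The published statement assumes the group smooth, that is, a connected linear algebraic group; the
statement here allows any connected affine algebraic group, possibly non-reduced, a case the
published argument also treats.) -/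
theorem result (k : Type u) [Field k] [IsAlgClosed k]
    (A : Type u) [CommRing A] [HopfAlgebra k A] [Algebra.FiniteType k A]
    (hconn : ∀ e : A, IsIdempotentElem e → e = 0 ∨ e = 1) :
    (⨅ n : ℕ, RingHom.ker (Bialgebra.counitAlgHom k A) ^ n) = ⊥ := by
  haveI : IsNoetherianRing A := Algebra.FiniteType.isNoetherianRing k A
  refine eq_bot_iff.2 fun z hz => ?_
  have hz' : z ∈ (⨅ n : ℕ, RingHom.ker (Bialgebra.counitAlgHom k A) ^ n • (⊤ : Submodule A A)) := by
    simpa [smul_eq_mul] using hz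
  obtain ⟨⟨r, hr⟩, hrz⟩ := (Ideal.mem_iInf_smul_pow_eq_bot_iff (M := A) _ z).1 hz'
  change r * z = z at hrz
  rw [Submodule.mem_bot]
  by_contra hz0
  have hzd : (1 - r) ∈ (nonZeroDivisors A : Set A)ᶜ := fun hnz => hz0 (by
    refine (mem_nonZeroDivisors_iff_right.1 hnz) z ?_
    linear_combination -hrz)
  rw [← biUnion_associatedPrimes_eq_compl_nonZeroDivisors] at hzd
  obtain ⟨P, hP, hrP⟩ := Set.mem_iUnion₂.1 hzd
  haveI : Nontrivial A := ⟨⟨z, 0, hz0⟩⟩
  haveI := RingHom.ker_isPrime (Bialgebra.counitAlgHom k A)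
  obtain ⟨J₀, hJ₀, hJ₀le⟩ := Ideal.exists_minimalPrimes_le (I := Module.annihilator A A) (J := RingHom.ker (Bialgebra.counitAlgHom k A)) (by
    intro x hx
    have := Module.mem_annihilator.1 hx 1
    rw [smul_eq_mul, mul_one] at this
    rw [this]; exact zero_mem _)
  have hPeq := assoc_eq (k := k) hconn hP (Module.associatedPrimes.minimalPrimes_annihilator_subset_associatedPrimes A A hJ₀)
  have h1 : Bialgebra.counitAlgHom k A (1 - r) = 0 := hJ₀le (hPeq ▸ hrP)
  rw [map_sub, map_one, RingHom.mem_ker.1 hr, sub_zero] at h1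
  exact one_ne_zero h1

end Groth.Agent.S17472
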