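import Groth.Statements.S17474
import Groth.Agent.AlgGrpLib.StableOpen
import Groth.Agent.AlgGrpLib.PicActionDiff

set_option autoImplicit false
set_option backward.isDefEq.respectTransparency.types false
universe u
open CategoryTheory MonoidalCategory CartesianMonoidalCategory MonObj GrpObj AlgebraicGeometry CategoryTheory.Limits
open AlgGrp

namespace Groth.Agent.S17474

/-- Over an algebraically closed field k, let X be a projective variety (an integral k-scheme admitting
a closed immersion into some projective space over k) and let a connected k-group scheme of finite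
type G act on X. For a k-point g of G write t_g : X → X, x ↦ g · x. Then for every invertible
O_X-module L and every invertible M with L ⊗ M ≅ O_X (an inverse of L), the invertible module
t_g^*(L) ⊗ M is algebraically equivalent to zero. Equivalently, the neutral component of the
automorphism group scheme of X acts trivially on the Néron–Severi group of X. -/
theorem result (k : Type u) [Field k] [IsAlgClosed k]
    (G X : Over (Spec (CommRingCat.of k))) [GrpObj G] [LocallyOfFiniteType G.hom] [QuasiCompact G.hom]
    [ConnectedSpace ↥G.left] [IsIntegral X.left] (hX : RelProj.IsHProjective X.hom)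
    (a : AlgGrp.Action G X) (g : 𝟙_ (Over (Spec (CommRingCat.of k))) ⟶ G)
    (L M : X.left.Modules) (hL : PicF.IsInvertible L) (hM : PicF.IsInvertible M)
    (hLM : Nonempty (CohB1.tensorMod L M ≅ Coh.structureModule X.left)) :
    @Pic13.IsAlgEquivZero k _ X.left ⟨X.hom⟩
      (CohB1.tensorMod ((Scheme.Modules.pullback (lift (toUnit X ≫ g) (𝟙 X) ≫ a.act).left).obj L) M) := by
  classical
  letI : X.left.Over (Spec (CommRingCat.of k)) := ⟨X.hom⟩
  let σ' : X ⊗ G ⟶ X := lift (snd X G) (fst X G) ≫ a.act
  let c := Groth.Agent.PicLib.PicM.of hL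
  let d := Groth.Agent.PicLib.PicM.of hM
  obtain ⟨N, hN, hNe⟩ := Groth.Agent.PicLib.PicM.exists_eq_of
    (Groth.Agent.PicLib.PicM.pull σ'.left c * Groth.Agent.PicLib.PicM.pull (fst X G).left d)
  have hslice : ∀ h : 𝟙_ (Over (Spec (CommRingCat.of k))) ⟶ G,
      Groth.Agent.PicLib.PicM.pull (lift (𝟙 X) (toUnit X ≫ h)).left (Groth.Agent.PicLib.PicM.of hN) =
        Groth.Agent.PicLib.PicM.pull (Groth.Agent.AlgGrpLib.StableOpen.trans a h).left c * d := by
    intro h
    rw [← hNe, map_mul, Groth.Agent.PicLib.PicM.pull_pull, Groth.Agent.PicLib.PicM.pull_pull, ← Over.comp_left,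
      ← Over.comp_left, lift_fst]
    congr 1
    · refine congrArg (fun q : X ⟶ X => Groth.Agent.PicLib.PicM.pull q.left c) ?_
      simp only [σ', comp_lift_assoc, lift_fst, lift_snd]
    · exact Groth.Agent.PicLib.PicM.pull_id d
  refine ⟨G.left, G.hom, inferInstance, inferInstance, inferInstance, N, hN, g.left,
    (1 : 𝟙_ (Over (Spec (CommRingCat.of k))) ⟶ G).left, Over.w g, Over.w (1 : 𝟙_ (Over (Spec (CommRingCat.of k))) ⟶ G),
    ?_, ?_⟩
  · refine (Groth.Agent.PicLib.PicM.of_eq_iff (PicLoc.isInvertible_pullback _ hN)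
      (Groth.Agent.AmpleLib.isInvertible_tensorMod (PicLoc.isInvertible_pullback _ hL) hM)).1 ?_
    rw [← Groth.Agent.PicLib.PicM.of_mul (PicLoc.isInvertible_pullback _ hL) hM]
    exact hslice g
  · refine (Groth.Agent.PicLib.PicM.of_eq_one_iff (PicLoc.isInvertible_pullback _ hN)).1 ?_
    refine (hslice 1).trans ?_
    rw [Groth.Agent.AlgGrpLib.StableOpen.trans_one, show Groth.Agent.PicLib.PicM.pull (𝟙 X : X ⟶ X).left c = c from
      Groth.Agent.PicLib.PicM.pull_id c, Groth.Agent.PicLib.PicM.of_mul hL hM,
      Groth.Agent.PicLib.PicM.of_eq_one_iff]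
    exact hLM

end Groth.Agent.S17474
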