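import Groth.Statements.S17476
import Mathlib
import Groth.Agent.ParaF29.Basic
import Groth.Agent.Rat20Lib.Hartogs
import Groth.Agent.CAlgH3.Serre
import Groth.Agent.CAlgH3.FlatDepth
import Groth.Agent.Coherent.TensorTilde
-- import your own Groth.Agent.* helpers here

set_option autoImplicit false
universe u
open CategoryTheory AlgebraicGeometry Opposite
open Coh

namespace Groth.Agent.S17476

set_option backward.isDefEq.respectTransparency.types false

/-- Let R be a Noetherian ring, Z = Spec R, M a finitely generated R-module with associated
quasi-coherent sheaf M~ (so that Hom_R(M, R) = Hom_Z(M~, O_Z)), and Z₀ ⊆ Z an open subscheme. (1) If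
the restriction of functions Γ(Z, O_Z) → Γ(Z₀, O_Z) is injective, then the restriction map Hom_Z(M~,
O_Z) → Hom_{Z₀}(M~|Z₀, O_{Z₀}) is injective. (2) If R is an integrally closed domain and the closed
complement of Z₀ has codimension at least 2 (every prime ideal outside Z₀ has height at least 2),
then that restriction map is bijective. (The published first assertion assumes only that Z₀ is
dense; for R = k[x,y]/(x², xy), M = R and Z₀ the locus y ≠ 0, which is dense, multiplication by x is
a nonzero element of Hom_R(M, R) restricting to zero, so schematic density is what is needed and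
what the printed argument uses. The published second assertion is for a normal irreducible affine
variety; any Noetherian integrally closed domain is allowed here.) -/
theorem result (R : Type u) [CommRing R] [IsNoetherianRing R]
    (M : ModuleCat.{u} (CommRingCat.of R)) [Module.Finite R M] (U : (Spec (CommRingCat.of R)).Opens) :
    (Function.Injective ((Spec (CommRingCat.of R)).presheaf.map (homOfLE (le_top : U ≤ ⊤)).op) →
      Function.Injective (fun φ : AlgebraicGeometry.tilde M ⟶ Coh.structureModule (Spec (CommRingCat.of R)) =>
        (Scheme.Modules.restrictFunctor U.ι).map φ)) ∧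
    (IsDomain R → IsIntegrallyClosed R → (∀ p : PrimeSpectrum R, p ∉ U → (2 : ℕ∞) ≤ p.asIdeal.height) →
      Function.Bijective (fun φ : AlgebraicGeometry.tilde M ⟶ Coh.structureModule (Spec (CommRingCat.of R)) =>
        (Scheme.Modules.restrictFunctor U.ι).map φ)) := by
  constructor
  · intro hinj φ ψ hφψ
    refine Groth.Agent.Coherent.tilde_hom_ext fun m => ?_
    let adj := Scheme.Modules.restrictAdjunction U.ι
    have h1 : φ ≫ adj.unit.app _ = ψ ≫ adj.unit.app _ := by
      refine (adj.unit.naturality φ).trans (Eq.trans ?_ (adj.unit.naturality ψ).symm)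
      exact congrArg (fun t => adj.unit.app _ ≫ (Scheme.Modules.pushforward U.ι).map t) hφψ
    have h2 := congrArg (fun t : AlgebraicGeometry.tilde M ⟶ _ => t.app ⊤ (Groth.Agent.Coherent.tsec M m)) h1
    have key : ∀ {T : (Spec (CommRingCat.of R)).Opens} (_ : T = U) (hle : T ≤ ⊤),
        Function.Injective ((Spec (CommRingCat.of R)).presheaf.map (homOfLE hle).op) := by
      rintro T rfl hle; exact hinj
    refine key ?_ ((U.ι).image_preimage_le ⊤) h2
    rw [Scheme.Hom.image_preimage_eq_opensRange_inf, Scheme.Opens.opensRange_ι, inf_top_eq]
  · intro _ _ hU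
    have hdepth : ∀ x : Spec (CommRingCat.of R), x ∉ U → (2 : ℕ∞) ≤
        LocCoh.depth ((Spec (CommRingCat.of R)).presheaf.stalk x) ((Spec (CommRingCat.of R)).presheaf.stalk x) := by
      intro x₀ hx
      let x : PrimeSpectrum R := x₀
      haveI : IsIntegrallyClosed (Localization.AtPrime x.asIdeal) :=
        isIntegrallyClosed_of_isLocalization _ x.asIdeal.primeCompl x.asIdeal.primeCompl_le_nonZeroDivisors
      have hdim : (2 : WithBot ℕ∞) ≤ ringKrullDim (Localization.AtPrime x.asIdeal) := by
        rw [IsLocalization.AtPrime.ringKrullDim_eq_height x.asIdeal]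
        exact WithBot.coe_le_coe.2 (hU x hx)
      exact le_of_le_of_eq (Groth.Agent.CAlgH3.two_le_depth_of_normal hdim)
        (Groth.Agent.CAlgH3.depth_ringEquiv (StructureSheaf.stalkIso R x).toRingEquiv)
    refine Groth.Agent.ParaF29.map_bijective U.ι ?_ _ Groth.Agent.AmpleLib.isInvertible_structureModule
    rw [Scheme.Opens.opensRange_ι]
    exact fun V => Groth.Agent.Rat20Lib.res_bijective U hdepth V

end Groth.Agent.S17476
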