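import Groth.Statements.S17478
import Groth.Agent.FixAmple29.Rigid
import Groth.Agent.S11412
import Groth.Agent.S3293
-- import your own Groth.Agent.* helpers here

set_option autoImplicit false
set_option linter.style.haveILetI false
set_option backward.isDefEq.respectTransparency.types false
universe u
open CategoryTheory MonoidalCategory CartesianMonoidalCategory MonObj GrpObj AlgebraicGeometry CategoryTheory.Limits
open AlgGrp

namespace Groth.Agent.S17478
open Groth.Agent.PicLib Groth.Agent.AbCubeLib Groth.Agent.AmpleLib

/-- Over an algebraically closed field k, let X be a projective variety (an integral k-scheme with a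
closed immersion into some projective space over k) and L an ample invertible O_X-module. Let G be a
reduced k-group scheme of finite type acting faithfully on X (for every k-scheme T, a T-point of G
acting as the identity on X × T is the unit) such that every k-point g of G fixes the isomorphism
class of L: t_g^*(L) ≅ L, where t_g : X → X is x ↦ g · x. Then G is affine. (The published statement
is that the reduced stabiliser of the class of L in the automorphism group scheme of X is a linear
algebraic group, i.e. smooth, affine and of finite type; the form here is its consequence for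
reduced algebraic groups acting faithfully, the reduced closed subgroups of that stabiliser, and
does not restate that the stabiliser has finitely many components.) -/
theorem result (k : Type u) [Field k] [IsAlgClosed k]
    (G X : Over (Spec (CommRingCat.of k))) [GrpObj G] [LocallyOfFiniteType G.hom] [QuasiCompact G.hom]
    [IsReduced G.left] [IsIntegral X.left] (hX : RelProj.IsHProjective X.hom)
    (a : AlgGrp.Action G X)
    (hfaith : ∀ (T : Over (Spec (CommRingCat.of k))) (g : T ⟶ G),
      lift (fst T X ≫ g) (snd T X) ≫ a.act = snd T X → g = toUnit T ≫ η[G])
    (L : X.left.Modules) (hL : PicF.IsInvertible L) (hLa : CohB1.IsAmple L)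
    (hfix : ∀ g : 𝟙_ (Over (Spec (CommRingCat.of k))) ⟶ G, Nonempty ((Scheme.Modules.pullback (lift (toUnit X ≫ g) (𝟙 X) ≫ a.act).left).obj L ≅ L)) :
    IsAffine G.left := by
  haveI : IsProper X.hom := by
    obtain ⟨n, i, hi, hif⟩ := hX
    haveI := Groth.Agent.RelVALib.isProper_toBase n (Spec (CommRingCat.of k))
    rw [← hif]; infer_instance
  refine Groth.Agent.AlgGrpLib.AffineHull.isAffine_of_antiAffine_trivial G fun N _ _ _ j _ _ hN => ?_
  have hN' : Function.Bijective ((Scheme.ΓSpecIso (CommRingCat.of k)).inv ≫ N.hom.appTop).hom :=
    hN.comp ((ConcreteCategory.isIso_iff_bijective (Scheme.ΓSpecIso (CommRingCat.of k)).inv).1 inferInstance)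
  haveI := (Groth.Agent.S11412.result k N hN').1
  haveI := (Groth.Agent.S3293.result k N hN').1
  refine (hfaith N j ?_).trans rfl
  refine Groth.Agent.FixAmple29.act_eq_snd hN j a hLa fun g => ?_
  show PicM.pull _ _ = _
  rw [PicM.pull_of]
  exact (PicM.of_eq_iff (PicLoc.isInvertible_pullback _ hLa.1) hLa.1).2 (hfix (g ≫ j))

end Groth.Agent.S17478
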