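import Groth.Statements.S17479
import Groth.Agent.FixAmple29.Rigid
import Groth.Agent.S11412
import Groth.Agent.S3293
import Groth.Agent.FlatMor12.ProjectiveAmple
-- import your own Groth.Agent.* helpers here

set_option autoImplicit false
set_option linter.style.haveILetI false
set_option backward.isDefEq.respectTransparency.types false
universe u
open CategoryTheory MonoidalCategory CartesianMonoidalCategory MonObj GrpObj AlgebraicGeometry CategoryTheory.Limits
open AlgGrp

namespace Groth.Agent.S17479
open Groth.Agent.PicLib Groth.Agent.AbCubeLib Groth.Agent.AmpleLib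

/-- Over an algebraically closed field k, let X be a projective variety (an integral k-scheme with a
closed immersion into some projective space over k) whose Picard variety is trivial: every
invertible O_X-module algebraically equivalent to zero is isomorphic to O_X. Let G be a connected
k-group scheme of finite type acting faithfully on X (for every k-scheme T, a T-point of G acting as
the identity on X × T is the unit). Then G is affine. (The published statement is that the neutral
component of the reduced automorphism group of X is linear; linear is read as affine, and the form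
here is its consequence for connected algebraic groups acting faithfully, which are closed subgroup
schemes of the neutral component of the automorphism group scheme. For a non-reduced such group this
says slightly more than the published corollary: one also uses that a Noetherian scheme whose
reduction is affine is affine.) -/
theorem result (k : Type u) [Field k] [IsAlgClosed k]
    (G X : Over (Spec (CommRingCat.of k))) [GrpObj G] [LocallyOfFiniteType G.hom] [QuasiCompact G.hom]
    [ConnectedSpace ↥G.left] [IsIntegral X.left] (hX : RelProj.IsHProjective X.hom)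
    (hPic : ∀ L : X.left.Modules, PicF.IsInvertible L → @Pic13.IsAlgEquivZero k _ X.left ⟨X.hom⟩ L →
      Nonempty (L ≅ Coh.structureModule X.left))
    (a : AlgGrp.Action G X)
    (hfaith : ∀ (T : Over (Spec (CommRingCat.of k))) (g : T ⟶ G),
      lift (fst T X ≫ g) (snd T X) ≫ a.act = snd T X → g = toUnit T ≫ η[G]) :
    IsAffine G.left := by
  haveI : IsProper X.hom := by
    obtain ⟨n, i, hi, hif⟩ := hX
    haveI := Groth.Agent.RelVALib.isProper_toBase n (Spec (CommRingCat.of k))
    rw [← hif]; infer_instance
  obtain ⟨L, hLa⟩ : ∃ L : X.left.Modules, CohB1.IsAmple L := by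
    obtain ⟨n, i, hi, hif⟩ := hX
    exact Groth.Agent.FlatMor12.ProjectiveAmple.exists_isAmple_of_immersion
      ⟨_, isAmple_of_isQuasiAffine (X := Spec (CommRingCat.of k)) AmpleLib.isInvertible_structureModule⟩ i
  refine Groth.Agent.AlgGrpLib.AffineHull.isAffine_of_antiAffine_trivial G fun N _ _ _ j _ _ hN => ?_
  have hN' : Function.Bijective ((Scheme.ΓSpecIso (CommRingCat.of k)).inv ≫ N.hom.appTop).hom :=
    hN.comp ((ConcreteCategory.isIso_iff_bijective (Scheme.ΓSpecIso (CommRingCat.of k)).inv).1 inferInstance)
  haveI := (Groth.Agent.S11412.result k N hN').1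
  haveI := (Groth.Agent.S3293.result k N hN').1
  refine (hfaith N j ?_).trans rfl
  refine Groth.Agent.FixAmple29.act_eq_snd hN j a hLa fun g => ?_
  let l := PicM.of hLa.1
  obtain ⟨l', hl'⟩ := PicM.exists_mul_eq_one l
  let m : X ⊗ N ⟶ X := lift (snd X N ≫ j) (fst X N) ≫ a.act
  obtain ⟨M, hM, hMeq⟩ := PicM.exists_eq_of (pb m l * pb (fst X N) l')
  let w : X ⟶ X := lift (toUnit X ≫ g ≫ j) (𝟙 X) ≫ a.act
  obtain ⟨P, hP, hPeq⟩ := PicM.exists_eq_of (pb w l * l')
  have hone : lift (toUnit X ≫ (1 : 𝟙_ _ ⟶ N) ≫ j) (𝟙 X) ≫ a.act = 𝟙 X := by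
    rw [MonObj.one_comp, MonObj.comp_one, show (1 : X ⟶ G) = toUnit X ≫ η[G] from rfl]
    have h := congrArg (lift (toUnit X) (𝟙 X) ≫ ·) a.one_act
    simp only [lift_whiskerRight_assoc, lift_leftUnitor_hom] at h
    exact h
  have hslice : ∀ t : 𝟙_ (Over (Spec (CommRingCat.of k))) ⟶ N,
      pb (lift (𝟙 X) (toUnit X ≫ t)) (PicM.of hM) = pb (lift (toUnit X ≫ t ≫ j) (𝟙 X) ≫ a.act) l * l' := fun t => by
    rw [← hMeq]
    simp only [map_mul, pb_pb, lift_fst, m, comp_lift_assoc, lift_snd_assoc, Category.assoc, AbCubeLib.pb_id]
  have halg : @Pic13.IsAlgEquivZero k _ X.left ⟨X.hom⟩ P := by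
    letI : X.left.Over (Spec (CommRingCat.of k)) := ⟨X.hom⟩
    have hs : ∀ (t : 𝟙_ (Over (Spec (CommRingCat.of k))) ⟶ N) (ht : t.left ≫ N.hom = 𝟙 _),
        Pic13.sliceAt k X.left N.hom t.left ht = (lift (𝟙 X) (toUnit X ≫ t)).left := by
      intro t ht
      apply pullback.hom_ext
      · exact (pullback.lift_fst _ _ _).trans (congrArg CommaMorphism.left (lift_fst (𝟙 X) (toUnit X ≫ t))).symm
      · exact (pullback.lift_snd _ _ _).trans (congrArg CommaMorphism.left (lift_snd (𝟙 X) (toUnit X ≫ t))).symm
    refine ⟨N.left, N.hom, inferInstance, inferInstance, inferInstance, M, hM, g.left,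
      (1 : 𝟙_ (Over (Spec (CommRingCat.of k))) ⟶ N).left, Over.w g, Over.w (1 : 𝟙_ (Over (Spec (CommRingCat.of k))) ⟶ N), ?_, ?_⟩
    · refine (PicM.of_eq_iff (PicLoc.isInvertible_pullback _ hM) hP).1 ?_
      rw [← hPeq, ← PicM.pull_of _ hM, hs]
      exact hslice g
    · refine (PicM.of_eq_one_iff (PicLoc.isInvertible_pullback _ hM)).1 ?_
      rw [← PicM.pull_of _ hM, hs]
      exact (hslice 1).trans (by rw [hone, AbCubeLib.pb_id]; exact hl')
  have h1 : pb w l * l' = 1 := hPeq.trans ((PicM.of_eq_one_iff hP).2 (hPic P hP halg))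
  calc pb w l = pb w l * l' * l := by rw [_root_.mul_assoc, _root_.mul_comm l' l, hl', _root_.mul_one]
    _ = l := by rw [h1, _root_.one_mul]

end Groth.Agent.S17479
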