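import Groth.Statements.S17480
import Groth.Agent.NormQuot25.Main

set_option autoImplicit false
universe u
open CategoryTheory MonoidalCategory CartesianMonoidalCategory MonObj GrpObj AlgebraicGeometry CategoryTheory.Limits
open AlgGrp

namespace Groth.Agent.S17480

/-- Over an algebraically closed field k, let G be a connected linear algebraic group (a smooth, affine,
connected k-group scheme), i : H → G a closed subgroup scheme (not necessarily reduced), j : H⁰ → H
its neutral component (an open subgroup scheme which is connected), and n : N → G the normaliser of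
H⁰ in G. Let Q₁ = G/H and Q₂ = G/N be the quotients (G-actions with base points o₁, o₂ whose orbit
maps are flat and surjective, with G × H ≅ G ×_{Q₁} G and likewise for N), and let f : Q₁ → Q₂ be
the morphism under which the orbit map of o₁ composes to the orbit map of o₂ (it exists since H ⊆
N). Then f is an affine morphism. -/
theorem result (k : Type u) [Field k] [IsAlgClosed k]
    (G H H₀ N Q₁ Q₂ : Over (Spec (CommRingCat.of k))) [GrpObj G] [GrpObj H] [GrpObj H₀] [GrpObj N]
    [IsAffine G.left] [Smooth G.hom] [ConnectedSpace ↥G.left]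
    (i : H ⟶ G) [IsMonHom i] (hi : IsClosedImmersion i.left)
    (j : H₀ ⟶ H) [IsMonHom j] (hj : IsOpenImmersion j.left) [ConnectedSpace ↥H₀.left]
    (n : N ⟶ G) (hN : Red.IsNormalizerOf (j ≫ i) n)
    (a₁ : AlgGrp.Action G Q₁) (o₁ : 𝟙_ (Over (Spec (CommRingCat.of k))) ⟶ Q₁) (hQ₁ : AGF.IsQuotient i Q₁ a₁ o₁)
    (a₂ : AlgGrp.Action G Q₂) (o₂ : 𝟙_ (Over (Spec (CommRingCat.of k))) ⟶ Q₂) (hQ₂ : AGF.IsQuotient n Q₂ a₂ o₂)
    (f : Q₁ ⟶ Q₂) (hf : a₁.orbitMap o₁ ≫ f = a₂.orbitMap o₂) :
    IsAffineHom f.left := by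
  exact Groth.Agent.NormQuot25.isAffineHom_main i hi j hj n hN a₁ o₁ hQ₁ a₂ o₂ hQ₂ f hf

end Groth.Agent.S17480
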