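import Groth.Prelude.Def_Fitting
import Mathlib.RingTheory.Finiteness.Defs
import Mathlib.LinearAlgebra.Matrix.Determinant.Basic
import Mathlib.RingTheory.LocalRing.ResidueField.Ideal
import Mathlib.RingTheory.TensorProduct.Basic
import Mathlib.Algebra.Module.LocalizedModule.Basic
import Mathlib.RingTheory.Localization.Away.Basic
import Mathlib.LinearAlgebra.Dimension.Finrank
import Groth.Agent.FittLib.Local

set_option autoImplicit false
universe u
namespace TensorProduct
end TensorProduct
open TensorProduct
namespace Fitt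
end Fitt
open Fitt

namespace Groth.Agent.S6894
open TensorProduct

/-- Let `M` be a finite `R`-module, `k ≥ 0` and `𝔭 ⊆ R` a prime. Then each of the following conditions
implies all the others: the Fitting ideal `Fit_k(M)` is not contained in `𝔭`; the fiber `M ⊗_R κ(𝔭)`
has dimension at most `k` over `κ(𝔭)`; some `k` elements span the localization `M_𝔭` over `R_𝔭`; and
for some `f ∉ 𝔭`, the module `M_f` is spanned over `R_f` by `k` elements. -/
theorem result {R : Type u} [CommRing R] (M : Type u) [AddCommGroup M] [Module R M]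
    [Module.Finite R M] (k : ℕ) (p : Ideal R) [p.IsPrime] :
    (¬ Fitt.ideal R M k ≤ p ↔ Module.finrank p.ResidueField (p.ResidueField ⊗[R] M) ≤ k) ∧
    (¬ Fitt.ideal R M k ≤ p ↔
      ∃ g : Fin k → LocalizedModule p.primeCompl M, Submodule.span (Localization.AtPrime p) (Set.range g) = ⊤) ∧
    (¬ Fitt.ideal R M k ≤ p ↔ ∃ f : R, f ∉ p ∧
      ∃ g : Fin k → LocalizedModule (Submonoid.powers f) M,
        Submodule.span (Localization.Away f) (Set.range g) = ⊤) := by
  open Groth.Agent.FittLib in
  refine ⟨not_le_iff_finrank_le k p, ⟨exists_span_atPrime_of_not_le, fun ⟨g, hg⟩ => ?_⟩,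
    ⟨exists_away_span_of_not_le, fun ⟨f, hf, g, hg⟩ => ?_⟩⟩
  · exact Groth.Agent.FittLib.not_le_of_span_localizedModule (S := p.primeCompl)
      (Set.disjoint_left.2 fun x hx hxp => hx hxp) g hg
  · refine Groth.Agent.FittLib.not_le_of_span_localizedModule (S := Submonoid.powers f)
      (Set.disjoint_left.2 ?_) g hg
    rintro _ ⟨m, rfl⟩ hm
    exact hf (Ideal.IsPrime.mem_of_pow_mem inferInstance m hm)

end Groth.Agent.S6894
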