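import Groth.Statements.S17486
import Groth.Agent.FlatMor12.FittSheaf
import Groth.Agent.S6894
import Groth.Agent.H8Lim.ModEq
import Groth.Agent.DQCoh.FreeLocus17
import Groth.Agent.BoxRes17.Envelope
import Groth.Agent.LocFreeLib.Semilocal

set_option autoImplicit false
set_option linter.style.haveILetI false
set_option backward.isDefEq.respectTransparency false
universe u
open CategoryTheory CategoryTheory.Limits AlgebraicGeometry
open Coherent TensorProduct

namespace Groth.Agent.S17486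

/-- Let k be an algebraically closed field of characteristic zero and Y a smooth projective variety over
k (an integral scheme, smooth over k, with a closed immersion into some P^n_k over k). Let A = A₁ ⊕
A₂ and B = B₁ ⊕ B₂ be finite locally free O_Y-modules with A_i of rank a_i ≥ 1 and B_j of rank b_j ≥
1, a₁ + a₂ ≤ b₁ + b₂, such that the sheaves Hom(A₁, B₁), Hom(A₁, B₂), Hom(A₂, B₂) (right adjoints of
A_i ⊗ -, whose existence is the stated instance hypothesis; it holds) are globally generated while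
every morphism A₂ → B₁ is zero (the sheaf Hom(A₂, B₁) has no nonzero global section). For φ : A → B
let Z(φ) ⊆ Y be the closed set where φ drops rank, i.e. where the rank of φ on fibres is less than
a₁ + a₂: the zero set of the (b₁ + b₂ - a₁ - a₂)-th Fitting ideal sheaf of the cokernel of φ
(locally generated by the maximal minors of φ). If b₂ < a₂, then every φ : A → B drops rank at every
point of Y, i.e. Z(φ) = Y. -/
theorem result
    (k : Type u) [Field k] [IsAlgClosed k] [CharZero k]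
    (Y : Scheme.{u}) [Y.Over (Spec (CommRingCat.of k))] [AlgebraicGeometry.IsIntegral Y]
    [Smooth (Y ↘ Spec (CommRingCat.of k))]
    (hproj : ∃ (N : ℕ) (ι : Y ⟶ CohB1.ProjSpace N k), IsClosedImmersion ι ∧
      ι ≫ CohB1.ProjSpace.toSpec N k = (Y ↘ (Spec (CommRingCat.of k))))
    (A₁ A₂ B₁ B₂ : Y.Modules) (a₁ a₂ b₁ b₂ : ℕ)
    (hA₁ : FlatMod.IsFinLocFreeOfRank a₁ A₁) (hA₂ : FlatMod.IsFinLocFreeOfRank a₂ A₂)
    (hB₁ : FlatMod.IsFinLocFreeOfRank b₁ B₁) (hB₂ : FlatMod.IsFinLocFreeOfRank b₂ B₂)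
    (ha₁ : 1 ≤ a₁) (ha₂ : 1 ≤ a₂) (hb₁ : 1 ≤ b₁) (hb₂ : 1 ≤ b₂) (hab : a₁ + a₂ ≤ b₁ + b₂)
    [DCoh.HasSheafHom A₁] [DCoh.HasSheafHom A₂]
    (h₁₁ : Curv2.IsGloballyGenerated ((DCoh.sheafHom A₁).obj B₁))
    (h₁₂ : Curv2.IsGloballyGenerated ((DCoh.sheafHom A₁).obj B₂))
    (h₂₂ : Curv2.IsGloballyGenerated ((DCoh.sheafHom A₂).obj B₂))
    (h₂₁ : ∀ ψ : A₂ ⟶ B₁, ψ = 0) (hlt : b₂ < a₂) (φ : (A₁ ⊞ A₂) ⟶ (B₁ ⊞ B₂)) :
    (((Fitt.sheafIdeal (cokernel φ) (b₁ + b₂ - (a₁ + a₂))).support : TopologicalSpace.Closeds Y) : Set Y) = Set.univ := by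
  classical
  let X := Y
  haveI := LocFreeLib.isQCoh_of_isFinLocFreeOfRank hA₁
  haveI := LocFreeLib.isQCoh_of_isFinLocFreeOfRank hA₂
  haveI := LocFreeLib.isQCoh_of_isFinLocFreeOfRank hB₁
  haveI := LocFreeLib.isQCoh_of_isFinLocFreeOfRank hB₂
  haveI := Coherent.isQCoh_biprod A₁ A₂
  haveI := Coherent.isQCoh_biprod B₁ B₂
  haveI hq : Coh.IsQCoh (cokernel φ) := Coherent.isQCoh_cokernel φ
  have hFT : CohB1.IsFT (cokernel φ) := H8Lim.isFT_cokernel φ
    (DQCoh.FreeLocus17.isFT_of_finLocFree (BoxRes17.isFinLocFree_biprod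
      (LocFreeLib.isFinLocFree_of_rank hB₁) (LocFreeLib.isFinLocFree_of_rank hB₂)))
  refine Set.eq_univ_of_forall fun y => ?_
  obtain ⟨U₁, hyU₁, ⟨eA⟩⟩ := hA₁ y
  obtain ⟨U₂, hyU₂, ⟨eB⟩⟩ := hB₁ y
  obtain ⟨W, hW, hyW, hWU⟩ := TopologicalSpace.Opens.isBasis_iff_nbhd.mp Y.isBasis_affineOpens
    (show y ∈ U₁ ⊓ U₂ from ⟨hyU₁, hyU₂⟩)
  obtain ⟨bA⟩ := Props12.exists_basis_sections eA (hWU.trans inf_le_left)
  obtain ⟨bB⟩ := Props12.exists_basis_sections eB (hWU.trans inf_le_right)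
  show y ∈ (Fitt.sheafIdeal (cokernel φ) (b₁ + b₂ - (a₁ + a₂))).support
  rw [Scheme.IdealSheafData.mem_support_iff_of_mem (U := ⟨W, hW⟩) hyW, Scheme.mem_zeroLocus_iff,
    FlatMor12.FittSheaf.ideal_eq _ hFT]
  intro d hd hyd
  apply (EGA43.InjFibre.mem_basicOpen_iff_notMem hW hyW d).1 hyd
  revert d
  let p := (hW.primeIdealOf ⟨y, hyW⟩).asIdeal
  suffices h : Fitt.ideal Γ(Y, W) Γ(cokernel φ, W) (b₁ + b₂ - (a₁ + a₂)) ≤ p from fun d hd _ => h hd
  by_contra hnot
  haveI := H8Lim.finite_sections_of_isFT hFT hW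
  have hle := (Groth.Agent.S6894.result Γ(cokernel φ, W) (b₁ + b₂ - (a₁ + a₂)) p).1.1 hnot
  -- the block (A₁ → B₁)
  let π := Coherent.appLin (cokernel.π φ) W
  have hπ : Function.Surjective π := FlatMor12.FittSheaf.surjective_app_of_epi' (cokernel.π φ) hW
  let f := Coherent.appLin (biprod.inl ≫ φ ≫ biprod.fst : A₁ ⟶ B₁) W
  have hsplit : φ ≫ biprod.fst = biprod.fst ≫ (biprod.inl ≫ φ ≫ biprod.fst) := by
    apply biprod.hom_ext'
    · simp
    · rw [biprod.inr_fst_assoc, zero_comp, h₂₁ (biprod.inr ≫ φ ≫ biprod.fst)]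
  let ψ := (LinearMap.range f).mkQ ∘ₗ Coherent.appLin (biprod.fst : B₁ ⊞ B₂ ⟶ B₁) W
  have hψ : Function.Surjective ψ := (Submodule.mkQ_surjective _).comp fun x =>
    ⟨(biprod.inl : B₁ ⟶ B₁ ⊞ B₂).app W x, by
      show ((biprod.inl : B₁ ⟶ B₁ ⊞ B₂) ≫ biprod.fst).app W x = x
      rw [biprod.inl_fst]; rfl⟩
  haveI : Coh.IsQCoh (kernel (cokernel.π φ)) := Coherent.isQCoh_kernel _
  have hker : LinearMap.ker π ≤ LinearMap.ker ψ := by
    intro x hx
    let S : ShortComplex Y.Modules :=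
      ShortComplex.mk (kernel.ι (cokernel.π φ)) (cokernel.π φ) (kernel.condition _)
    haveI : Mono S.f := inferInstanceAs (Mono (kernel.ι _))
    haveI : Epi S.g := inferInstanceAs (Epi (cokernel.π φ))
    have hS : S.ShortExact := { exact := S.exact_of_f_is_kernel (kernelIsKernel _) }
    obtain ⟨z, hz⟩ := Coherent.sections_exact hS x hx
    obtain ⟨a, ha⟩ := FlatMor12.FittSheaf.surjective_app_of_epi' (Abelian.factorThruImage φ) hW z
    have hxa : φ.app W a = x := by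
      have h1 : φ.app W a = (Abelian.image.ι φ).app W ((Abelian.factorThruImage φ).app W a) := by
        conv_lhs => rw [← Abelian.image.fac φ]
        rfl
      rw [h1, ha]; exact hz
    show Submodule.Quotient.mk ((biprod.fst : B₁ ⊞ B₂ ⟶ B₁).app W x) = 0
    rw [Submodule.Quotient.mk_eq_zero]
    refine ⟨(biprod.fst : A₁ ⊞ A₂ ⟶ A₁).app W a, ?_⟩
    show (biprod.fst ≫ biprod.inl ≫ φ ≫ biprod.fst : A₁ ⊞ A₂ ⟶ B₁).app W a = _
    rw [← hsplit, ← hxa]; rfl
  let q := (LinearMap.ker π).liftQ ψ hker ∘ₗ (π.quotKerEquivOfSurjective hπ).symm.toLinearMap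
  have hq' : Function.Surjective q := fun x => by
    obtain ⟨b, rfl⟩ := hψ x
    refine ⟨π.quotKerEquivOfSurjective hπ (Submodule.Quotient.mk b), ?_⟩
    simp [q]
  let κ := p.ResidueField
  haveI := Module.Finite.of_basis bB
  haveI := Module.Finite.of_basis bA
  have hQ : Module.finrank κ (κ ⊗[Γ(Y, W)] (Γ(B₁, W) ⧸ LinearMap.range f)) ≤ b₁ + b₂ - (a₁ + a₂) :=
    (LinearMap.finrank_le_finrank_of_surjective (f := q.baseChange κ)
      (LinearMap.lTensor_surjective κ hq')).trans hle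
  let F := f.baseChange κ
  let G := (LinearMap.range f).mkQ.baseChange κ
  have hex : Function.Exact F G := lTensor_exact κ (LinearMap.exact_map_mkQ_range f)
    (Submodule.mkQ_surjective _)
  have hG : Function.Surjective G := LinearMap.lTensor_surjective κ (Submodule.mkQ_surjective _)
  have h1 := G.finrank_range_add_finrank_ker
  rw [LinearMap.range_eq_top.2 hG, finrank_top, hex.linearMap_ker_eq,
    Module.finrank_eq_card_basis (Algebra.TensorProduct.basis κ bB), Fintype.card_fin] at h1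
  have h2 := F.finrank_range_le
  rw [Module.finrank_eq_card_basis (Algebra.TensorProduct.basis κ bA), Fintype.card_fin] at h2
  omega

end Groth.Agent.S17486
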