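import Groth.Statements.S17487

set_option autoImplicit false
set_option linter.style.haveILetI false
universe u
open CategoryTheory CategoryTheory.Limits AlgebraicGeometry
open Coherent

namespace Groth.Agent.S17487Aux
open CategoryTheory CategoryTheory.Limits CategoryTheory.Abelian
variable {C : Type*} [Category C] [Abelian C] [HasExt.{u} C] {m : ℕ} (P : Fin m → C)

theorem subsingleton_of_iso_left {A B Y : C} (e : A ≅ B) (p : ℕ) (h : Subsingleton (Ext B Y p)) :
    Subsingleton (Ext A Y p) := by
  refine subsingleton_of_forall_eq 0 fun x => ?_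
  rw [← Ext.mk₀_id_comp x, ← e.hom_inv_id, ← Ext.mk₀_comp_mk₀, Ext.comp_assoc _ _ _ (zero_add 0) (zero_add p) (by omega),
    h.elim ((Ext.mk₀ e.inv).comp x (zero_add p)) 0, Ext.comp_zero]

theorem subsingleton_of_iso_right {A B Y : C} (e : A ≅ B) (p : ℕ) (h : Subsingleton (Ext Y B p)) :
    Subsingleton (Ext Y A p) := by
  refine subsingleton_of_forall_eq 0 fun x => ?_
  rw [← Ext.comp_mk₀_id x, ← e.hom_inv_id, ← Ext.mk₀_comp_mk₀, ← Ext.comp_assoc _ _ _ (add_zero p) (zero_add 0) (by omega),
    h.elim (x.comp (Ext.mk₀ e.hom) (add_zero p)) 0, Ext.zero_comp]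

theorem subsingleton_coprod_left (Y : C) (p : ℕ) (h : ∀ t, Subsingleton (Ext (P t) Y p)) :
    Subsingleton (Ext (∐ P) Y p) := by
  haveI : HasFiniteBiproducts C := HasFiniteBiproducts.of_hasFiniteProducts
  refine subsingleton_of_iso_left (biproduct.isoCoproduct P).symm p (subsingleton_of_forall_eq 0 fun x => ?_)
  rw [← Ext.mk₀_id_comp x, ← biproduct.total, Ext.mk₀_sum, Ext.sum_comp]
  refine Finset.sum_eq_zero fun t _ => ?_
  rw [← Ext.mk₀_comp_mk₀, Ext.comp_assoc _ _ _ (zero_add 0) (zero_add p) (by omega),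
    (h t).elim ((Ext.mk₀ (biproduct.ι P t)).comp x (zero_add p)) 0, Ext.comp_zero]

theorem subsingleton_coprod_right (Y : C) (p : ℕ) (h : ∀ t, Subsingleton (Ext Y (P t) p)) :
    Subsingleton (Ext Y (∐ P) p) := by
  haveI : HasFiniteBiproducts C := HasFiniteBiproducts.of_hasFiniteProducts
  refine subsingleton_of_iso_right (biproduct.isoCoproduct P).symm p (subsingleton_of_forall_eq 0 fun x => ?_)
  rw [← Ext.comp_mk₀_id x, ← biproduct.total, Ext.mk₀_sum, Ext.comp_sum]
  refine Finset.sum_eq_zero fun t _ => ?_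
  rw [← Ext.mk₀_comp_mk₀, ← Ext.comp_assoc _ _ _ (add_zero p) (zero_add 0) (by omega),
    (h t).elim (x.comp (Ext.mk₀ (biproduct.π P t)) (add_zero p)) 0, Ext.zero_comp]

end Groth.Agent.S17487Aux

namespace Groth.Agent.S17487

/-- Let k be an algebraically closed field of characteristic zero and Y a smooth projective variety over
k (an integral scheme, smooth over k, with a closed immersion into some P^n_k over k). Let E_1, …,
E_n be coherent O_Y-modules forming a strong exceptional sequence, expressed through Ext groups in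
the category of O_Y-modules (the Ext instance is the stated hypothesis; it holds): End(E_i) is
one-dimensional over k, Ext^p(E_i, E_j) = 0 for all p when i > j, and Ext^p(E_i, E_j) = 0 for all i,
j when p ≥ 1 (indices here run over 0, …, n-1). Let d ≤ n and let 0 → K → M → F → 0 be a short exact
sequence of O_Y-modules in which K is isomorphic to a finite direct sum of copies of members E_i
with i < d and M to a finite direct sum of copies of members E_i with i ≥ d (a two-term resolution
of F by the sequence, split at d). Then Ext^p(E_i, F) = 0 for every i and every p ≥ 1, and Ext^p(F,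
E_i) = 0 for every i < d and every p ≠ 1. (The published criterion also asks that the sequence
generate the derived category, states the first vanishing only for i ≥ d, and adds conditions on
terms of the associated filtration and cofiltration of F, which are not restated here; the
vanishings above follow from the resolution alone.) -/
theorem result
    (k : Type u) [Field k] [IsAlgClosed k] [CharZero k]
    (Y : Scheme.{u}) [Y.Over (Spec (CommRingCat.of k))] [AlgebraicGeometry.IsIntegral Y]
    [Smooth (Y ↘ Spec (CommRingCat.of k))]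
    (hproj : ∃ (N : ℕ) (ι : Y ⟶ CohB1.ProjSpace N k), IsClosedImmersion ι ∧
      ι ≫ CohB1.ProjSpace.toSpec N k = (Y ↘ (Spec (CommRingCat.of k))))
    [HasExt.{u} Y.Modules]
    (n d : ℕ) (hdn : d ≤ n) (E : Fin n → Y.Modules) (hEcoh : ∀ i, Coh.IsCoh (E i))
    (hend : ∀ i, Module.finrank k (E i ⟶ E i) = 1)
    (hexc : ∀ i j : Fin n, j < i → ∀ p : ℕ, Subsingleton (Abelian.Ext (E i) (E j) p))
    (hstr : ∀ (i j : Fin n) (p : ℕ), 1 ≤ p → Subsingleton (Abelian.Ext (E i) (E j) p))
    (S : ShortComplex Y.Modules) (hS : S.ShortExact)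
    (m₁ : ℕ) (c₁ : Fin m₁ → Fin n) (hc₁ : ∀ t, (c₁ t : ℕ) < d) (e₁ : S.X₁ ≅ ∐ fun t => E (c₁ t))
    (m₂ : ℕ) (c₂ : Fin m₂ → Fin n) (hc₂ : ∀ t, d ≤ (c₂ t : ℕ)) (e₂ : S.X₂ ≅ ∐ fun t => E (c₂ t)) :
    (∀ (i : Fin n) (p : ℕ), 1 ≤ p → Subsingleton (Abelian.Ext (E i) S.X₃ p)) ∧
      (∀ i : Fin n, (i : ℕ) < d → ∀ p : ℕ, p ≠ 1 → Subsingleton (Abelian.Ext S.X₃ (E i) p)) := by
  open Groth.Agent.S17487Aux in
  refine ⟨fun i p hp => subsingleton_of_forall_eq 0 fun x => ?_, fun i hi p hp => subsingleton_of_forall_eq 0 fun x => ?_⟩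
  · have h1 : Subsingleton (Abelian.Ext (E i) S.X₁ (p + 1)) :=
      subsingleton_of_iso_right e₁ _ (subsingleton_coprod_right _ _ _ fun t => hstr i (c₁ t) (p + 1) (by omega))
    have h2 : Subsingleton (Abelian.Ext (E i) S.X₂ p) :=
      subsingleton_of_iso_right e₂ _ (subsingleton_coprod_right _ _ _ fun t => hstr i (c₂ t) p hp)
    obtain ⟨y, rfl⟩ := Abelian.Ext.covariant_sequence_exact₃ (E i) hS x rfl (h1.elim _ _)
    rw [h2.elim y 0, Abelian.Ext.zero_comp]
  · have hM : ∀ q, Subsingleton (Abelian.Ext S.X₂ (E i) q) := fun q =>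
      subsingleton_of_iso_left e₂ _ (subsingleton_coprod_left _ _ _ fun t =>
        hexc (c₂ t) i (Fin.lt_def.2 (lt_of_lt_of_le hi (hc₂ t))) q)
    rcases p with _ | p
    · haveI := hS.epi_g
      refine Abelian.Ext.homEquiv₀.injective ?_
      rw [← cancel_epi S.g]
      exact Abelian.Ext.homEquiv₀.symm.injective ((hM 0).elim _ _)
    · obtain ⟨y, rfl⟩ := Abelian.Ext.contravariant_sequence_exact₃ hS (E i) x ((hM (p + 1)).elim _ _) (n₀ := p) (by omega)
      have hK : Subsingleton (Abelian.Ext S.X₁ (E i) p) :=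
        subsingleton_of_iso_left e₁ _ (subsingleton_coprod_left _ _ _ fun t => hstr (c₁ t) i p (by omega))
      rw [hK.elim y 0, Abelian.Ext.comp_zero]

end Groth.Agent.S17487
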