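import Groth.Statements.S17498
import Mathlib
import Groth.Agent.CommAlg4.QuotProd
-- import your own Groth.Agent.* helpers here

set_option autoImplicit false
universe u
open RelQuot

namespace Groth.Agent.S17498

open CategoryTheory CategoryTheory.Limits AlgebraicGeometry in
set_option linter.unusedVariables false
set_option backward.isDefEq.respectTransparency.types false

open CategoryTheory CategoryTheory.Limits AlgebraicGeometry Groth.Agent.CommAlg4.QuotProd

attribute [local simp] WidePullback.lift_π WidePullback.lift_base WidePullback.lift_π_assoc WidePullback.lift_base_assoc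

/-- The class of a finite disjoint union of opens. -/
theorem cl_iSup {Y A : Scheme.{u}} [IsLocallyNoetherian A] [CompactSpace A] (f : A ⟶ Y) [LocallyOfFiniteType f]
    [QuasiCompact f] {ι : Type*} [DecidableEq ι] (O : ι → A.Opens) (hd : ∀ i j, i ≠ j → Disjoint (O i : Set A) (O j))
    (s : Finset ι) : K0Var.cl ((s.sup O).ι ≫ f) = ∑ i ∈ s, K0Var.cl ((O i).ι ≫ f) := by
  haveI : IsNoetherian A := ⟨⟩
  induction s using Finset.induction_on with
  | empty =>
    rw [Finset.sum_empty, Finset.sup_empty]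
    haveI : IsEmpty (K0Var.Gen.mk (⊥ : A.Opens).toScheme ((⊥ : A.Opens).ι ≫ f)).X := ⟨fun x => x.2⟩
    exact K0Var.Gen.cl_eq_zero_of_isEmpty _
  | insert a s ha ih =>
    rw [Finset.sum_insert ha, Finset.sup_insert, ← ih]
    have hdis : Disjoint (O a : Set A) (s.sup O : A.Opens) := by
      rw [Finset.sup_eq_iSup]
      simp only [TopologicalSpace.Opens.coe_iSup, Set.disjoint_iUnion_right]
      exact fun i hi => hd a i fun h => ha (h ▸ hi)
    let W : A.Opens := O a ⊔ s.sup O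
    let j₁ : (O a).toScheme ⟶ W := A.homOfLE le_sup_left
    let j₂ : (s.sup O).toScheme ⟶ W := A.homOfLE le_sup_right
    have r₁ : Set.range j₁ = {x : W | (x : A) ∈ O a} := by
      ext x
      constructor
      · rintro ⟨y, rfl⟩
        show _ ∈ O a
        rw [show ((_ : W) : A) = y.1 from Scheme.homOfLE_apply (X := A) _ y]
        exact y.2
      · intro hx
        exact ⟨⟨x.1, hx⟩, Subtype.ext (Scheme.homOfLE_apply (X := A) _ _)⟩
    have r₂ : Set.range j₂ = {x : W | (x : A) ∈ s.sup O} := by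
      ext x
      constructor
      · rintro ⟨y, rfl⟩
        show _ ∈ s.sup O
        rw [show ((_ : W) : A) = y.1 from Scheme.homOfLE_apply (X := A) _ y]
        exact y.2
      · intro hx
        exact ⟨⟨x.1, hx⟩, Subtype.ext (Scheme.homOfLE_apply (X := A) _ _)⟩
    have hr : Set.range j₁ = (Set.range j₂)ᶜ := by
      rw [r₁, r₂]
      ext x
      have h3 : (x : A) ∈ O a ∨ (x : A) ∈ s.sup O := TopologicalSpace.Opens.mem_sup.1 x.2
      exact ⟨fun h h' => Set.disjoint_left.1 hdis h h', fun h => h3.resolve_right h⟩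
    haveI : IsClosedImmersion j₁ := IsClosedImmersion.of_isPreimmersion j₁
      (by rw [hr]; exact j₂.isOpenEmbedding.isOpen_range.isClosed_compl)
    rw [K0Var.cl_scissor (W.ι ≫ f) j₁ j₂ hr]
    congr 1 <;> exact K0Var.cl_congr _ _ (Iso.refl _) (by simp [j₁, j₂, W])

section

variable {X X' Y : Scheme.{u}} (f : X ⟶ Y) (f' : X' ⟶ Y)

theorem disj {x : X} {y : X'} : (coprod.inl : X ⟶ X ⨿ X') x ≠ (coprod.inr : X' ⟶ X ⨿ X') y := fun h =>
  Set.disjoint_left.1 (isCompl_range_inl_inr X X').disjoint ⟨x, rfl⟩ ⟨y, h.symm⟩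

noncomputable abbrev P (n : ℕ) : Scheme.{u} := SymProd.fibPow (coprod.desc f f') n

/-- The open piece of a word. -/
noncomputable def U {n : ℕ} (w : Fin n → Bool) : (P f f' n).Opens :=
  ⟨⋂ k, (WidePullback.π (fun _ : Fin n => coprod.desc f f') k) ⁻¹'
      (if w k = true then Set.range (coprod.inl : X ⟶ X ⨿ X') else Set.range (coprod.inr : X' ⟶ X ⨿ X')),
    isOpen_iInter_of_finite fun k => by
      refine IsOpen.preimage (WidePullback.π (fun _ : Fin n => coprod.desc f f') k).continuous ?_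
      split
      · exact (coprod.inl : X ⟶ X ⨿ X').isOpenEmbedding.isOpen_range
      · exact (coprod.inr : X' ⟶ X ⨿ X').isOpenEmbedding.isOpen_range⟩

theorem mem_U {n : ℕ} (w : Fin n → Bool) (z : P f f' n) :
    z ∈ U f f' w ↔ ∀ k, (w k = true → WidePullback.π (fun _ : Fin n => coprod.desc f f') k z ∈ Set.range (coprod.inl : X ⟶ X ⨿ X')) ∧
      (w k = false → WidePullback.π (fun _ : Fin n => coprod.desc f f') k z ∈ Set.range (coprod.inr : X' ⟶ X ⨿ X')) := by
  rw [← SetLike.mem_coe]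
  simp only [U, TopologicalSpace.Opens.coe_mk, Set.mem_iInter, Set.mem_preimage]
  refine forall_congr' fun k => ?_
  cases w k <;> simp

theorem U_cover {n : ℕ} : TopologicalSpace.IsOpenCover (U f f' (n := n)) := by
  refine TopologicalSpace.Opens.ext (Set.eq_univ_iff_forall.2 fun z => ?_)
  rw [SetLike.mem_coe, TopologicalSpace.Opens.mem_iSup]
  classical
  refine ⟨fun k => decide (WidePullback.π (fun _ : Fin n => coprod.desc f f') k z ∈ Set.range (coprod.inl : X ⟶ X ⨿ X')), (mem_U f f' _ z).2 fun k => ?_⟩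
  constructor
  · intro h; simpa using h
  · intro h
    have h' : ¬ WidePullback.π (fun _ : Fin n => coprod.desc f f') k z ∈ Set.range (coprod.inl : X ⟶ X ⨿ X') := by simpa using h
    rw [← (isCompl_range_inl_inr X X').compl_eq]
    exact h'

theorem U_eq {n : ℕ} {w w' : Fin n → Bool} {z : P f f' n} (h : z ∈ U f f' w) (h' : z ∈ U f f' w') : w = w' := by
  funext k
  have a := (mem_U f f' w z).1 h k
  have b := (mem_U f f' w' z).1 h' k
  cases hw : w k <;> cases hw' : w' k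
  · rfl
  · obtain ⟨x, hx⟩ := b.1 hw'
    obtain ⟨y, hy⟩ := a.2 hw
    exact absurd (hx.trans hy.symm) disj
  · obtain ⟨x, hx⟩ := a.1 hw
    obtain ⟨y, hy⟩ := b.2 hw'
    exact absurd (hx.trans hy.symm) disj
  · rfl

end

abbrev Idx (n : ℕ) : Type := ↥(Finset.HasAntidiagonal.antidiagonal n)

/-- A standard splitting of `Fin n`. -/
def e0 {n : ℕ} (p : Idx n) : Fin p.1.1 ⊕ Fin p.1.2 ≃ Fin n :=
  finSumFinEquiv.trans (finCongr (Finset.HasAntidiagonal.mem_antidiagonal.1 p.2))

theorem exists_word_equiv {n : ℕ} (w : Fin n → Bool) :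
    ∃ (p : Idx n) (e : Fin p.1.1 ⊕ Fin p.1.2 ≃ Fin n), (∀ k, w (e (Sum.inl k)) = true) ∧ ∀ k, w (e (Sum.inr k)) = false := by
  classical
  let a := Fintype.equivFin {k : Fin n // w k = true}
  let b := Fintype.equivFin {k : Fin n // ¬ w k = true}
  let e := (Equiv.sumCongr a.symm b.symm).trans (Equiv.sumCompl (fun k => w k = true))
  have hp : Fintype.card {k : Fin n // w k = true} + Fintype.card {k : Fin n // ¬ w k = true} = n := by
    simpa using Fintype.card_congr e
  refine ⟨⟨(_, _), Finset.HasAntidiagonal.mem_antidiagonal.2 hp⟩, e, fun k => (a.symm k).2, fun k => ?_⟩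
  have h2 := (b.symm k).2
  simp only [Bool.not_eq_true] at h2
  exact h2

section

variable {k : Type u} [Field k] [CharZero k] {X X' Y : Scheme.{u}} (pY : Y ⟶ Spec (CommRingCat.of k))
  {f : X ⟶ Y} {f' : X' ⟶ Y}
  {Sy : ℕ → Scheme.{u}} {q : ∀ n, SymProd.fibPow f n ⟶ Sy n} {g : ∀ n, Sy n ⟶ Y}
  (hS : ∀ n, SymProd.IsSymProd f n (q n) (g n))
  {Sy' : ℕ → Scheme.{u}} {q' : ∀ n, SymProd.fibPow f' n ⟶ Sy' n} {g' : ∀ n, Sy' n ⟶ Y}
  (hS' : ∀ n, SymProd.IsSymProd f' n (q' n) (g' n))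

/-- The structure map of a fibre power. -/
noncomputable abbrev bb {Z W : Scheme.{u}} (f : Z ⟶ W) (i : ℕ) : SymProd.fibPow f i ⟶ W :=
  WidePullback.base (fun _ : Fin i => f)

/-- The morphism into a piece given by tuples. -/
noncomputable def pr (i j : ℕ) {V : Scheme.{u}} (x : Fin i → (V ⟶ X)) (y : Fin j → (V ⟶ X')) (b : V ⟶ Y)
    (hx : ∀ l, x l ≫ f = b) (hy : ∀ l, y l ≫ f' = b) : V ⟶ pullback (g i) (g' j) :=
  pullback.lift (WidePullback.lift b x hx ≫ q i) (WidePullback.lift b y hy ≫ q' j)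
    (by rw [Category.assoc, (hS i).over, Category.assoc, (hS' j).over, WidePullback.lift_base, WidePullback.lift_base])

include hS in
theorem left_perm (i : ℕ) {V : Scheme.{u}} (x : Fin i → (V ⟶ X)) (b : V ⟶ Y) (hx : ∀ l, x l ≫ f = b)
    (s : Equiv.Perm (Fin i)) (x' : Fin i → (V ⟶ X)) (hx' : ∀ l, x' l ≫ f = b) (h : ∀ l, x l = x' (s l)) :
    WidePullback.lift b x hx ≫ q i = WidePullback.lift b x' hx' ≫ q i := by
  have e : WidePullback.lift b x hx = WidePullback.lift b x' hx' ≫ SymProd.permHom f i s.symm := by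
    apply WidePullback.hom_ext
    · intro l; simp [h l]
    · simp
  rw [e, Category.assoc]
  congr 1
  exact (hS i).isQuot.inv ⟨s.symm⟩

theorem card_le_of {n : ℕ} {p p' : Idx n} (e : Fin p.1.1 ⊕ Fin p.1.2 ≃ Fin n) (e' : Fin p'.1.1 ⊕ Fin p'.1.2 ≃ Fin n)
    (h : ∀ l, ((e'.symm (e (Sum.inl l))).isLeft = true)) :
    ∃ s : Fin p.1.1 → Fin p'.1.1, Function.Injective s ∧ ∀ l, e' (Sum.inl (s l)) = e (Sum.inl l) := by
  refine ⟨fun l => (e'.symm (e (Sum.inl l))).getLeft (h l), fun a b hab => ?_, fun l => ?_⟩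
  · have := congrArg (fun z => e' (Sum.inl z)) hab
    simpa using this
  · simp

theorem card_le_of_right {n : ℕ} {p p' : Idx n} (e : Fin p.1.1 ⊕ Fin p.1.2 ≃ Fin n) (e' : Fin p'.1.1 ⊕ Fin p'.1.2 ≃ Fin n)
    (h : ∀ l, ((e'.symm (e (Sum.inr l))).isRight = true)) :
    ∃ s : Fin p.1.2 → Fin p'.1.2, Function.Injective s ∧ ∀ l, e' (Sum.inr (s l)) = e (Sum.inr l) := by
  refine ⟨fun l => (e'.symm (e (Sum.inr l))).getRight (h l), fun a b hab => ?_, fun l => ?_⟩
  · have := congrArg (fun z => e' (Sum.inr z)) hab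
    simpa using this
  · simp

theorem pr_ι_eq {n : ℕ} {V : Scheme.{u}} (t : V ⟶ P f f' n) (p p' : Idx n) (e : Fin p.1.1 ⊕ Fin p.1.2 ≃ Fin n)
    (e' : Fin p'.1.1 ⊕ Fin p'.1.2 ≃ Fin n) (x : Fin p.1.1 → (V ⟶ X)) (y : Fin p.1.2 → (V ⟶ X'))
    (x' : Fin p'.1.1 → (V ⟶ X)) (y' : Fin p'.1.2 → (V ⟶ X')) (b : V ⟶ Y) (hx : ∀ l, x l ≫ f = b)
    (hy : ∀ l, y l ≫ f' = b) (hx' : ∀ l, x' l ≫ f = b) (hy' : ∀ l, y' l ≫ f' = b)
    (tx : ∀ l, t ≫ WidePullback.π _ (e (Sum.inl l)) = x l ≫ coprod.inl)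
    (ty : ∀ l, t ≫ WidePullback.π _ (e (Sum.inr l)) = y l ≫ coprod.inr)
    (tx' : ∀ l, t ≫ WidePullback.π _ (e' (Sum.inl l)) = x' l ≫ coprod.inl)
    (ty' : ∀ l, t ≫ WidePullback.π _ (e' (Sum.inr l)) = y' l ≫ coprod.inr) (v : V) :
    pr hS hS' _ _ x y b hx hy ≫ Sigma.ι (fun p : Idx n => pullback (g p.1.1) (g' p.1.2)) p =
      pr hS hS' _ _ x' y' b hx' hy' ≫ Sigma.ι (fun p : Idx n => pullback (g p.1.1) (g' p.1.2)) p' := by
  have cL : ∀ {p p' : Idx n} (e : Fin p.1.1 ⊕ Fin p.1.2 ≃ Fin n) (e' : Fin p'.1.1 ⊕ Fin p'.1.2 ≃ Fin n)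
      (x : Fin p.1.1 → (V ⟶ X)) (y' : Fin p'.1.2 → (V ⟶ X')),
      (∀ l, t ≫ WidePullback.π _ (e (Sum.inl l)) = x l ≫ coprod.inl) →
      (∀ l, t ≫ WidePullback.π _ (e' (Sum.inr l)) = y' l ≫ coprod.inr) →
      ∀ l, (e'.symm (e (Sum.inl l))).isLeft = true := by
    intro p p' e e' x y' tx ty' l
    rcases h : e'.symm (e (Sum.inl l)) with a | a
    · rfl
    · exfalso
      have h' : e (Sum.inl l) = e' (Sum.inr a) := by rw [← h, Equiv.apply_symm_apply]
      have := (tx l).symm.trans (h' ▸ ty' a)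
      exact disj (congrArg (fun φ : V ⟶ X ⨿ X' => φ v) this)
  have cR : ∀ {p p' : Idx n} (e : Fin p.1.1 ⊕ Fin p.1.2 ≃ Fin n) (e' : Fin p'.1.1 ⊕ Fin p'.1.2 ≃ Fin n)
      (y : Fin p.1.2 → (V ⟶ X')) (x' : Fin p'.1.1 → (V ⟶ X)),
      (∀ l, t ≫ WidePullback.π _ (e (Sum.inr l)) = y l ≫ coprod.inr) →
      (∀ l, t ≫ WidePullback.π _ (e' (Sum.inl l)) = x' l ≫ coprod.inl) →
      ∀ l, (e'.symm (e (Sum.inr l))).isRight = true := by
    intro p p' e e' y x' ty tx' l
    rcases h : e'.symm (e (Sum.inr l)) with a | a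
    · exfalso
      have h' : e (Sum.inr l) = e' (Sum.inl a) := by rw [← h, Equiv.apply_symm_apply]
      have := (tx' a).symm.trans (h' ▸ ty l)
      exact disj (congrArg (fun φ : V ⟶ X ⨿ X' => φ v) this)
    · rfl
  obtain ⟨s, hs, hse⟩ := card_le_of e e' (cL e e' x y' tx ty')
  obtain ⟨s₂, hs₂, -⟩ := card_le_of e' e (cL e' e x' y tx' ty)
  have h1 : p.1.1 = p'.1.1 := le_antisymm (by simpa using Fintype.card_le_of_injective s hs)
    (by simpa using Fintype.card_le_of_injective s₂ hs₂)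
  have h2 : p.1.2 = p'.1.2 := by
    have := Finset.HasAntidiagonal.mem_antidiagonal.1 p.2
    have := Finset.HasAntidiagonal.mem_antidiagonal.1 p'.2
    omega
  obtain rfl : p = p' := Subtype.ext (Prod.ext h1 h2)
  obtain ⟨r, hr, hre⟩ := card_le_of_right e e' (cR e e' y x' ty tx')
  congr 1
  refine pullback.hom_ext ?_ ?_
  · simp only [pr, pullback.lift_fst]
    refine left_perm hS _ x b hx (Equiv.ofBijective s (Finite.injective_iff_bijective.1 hs)) x' hx' fun l => ?_
    rw [← cancel_mono (coprod.inl : X ⟶ X ⨿ X')]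
    exact (tx l).symm.trans (by rw [Equiv.ofBijective_apply, ← hse l]; exact tx' (s l))
  · simp only [pr, pullback.lift_snd]
    refine left_perm hS' _ y b hy (Equiv.ofBijective r (Finite.injective_iff_bijective.1 hr)) y' hy' fun l => ?_
    rw [← cancel_mono (coprod.inr : X' ⟶ X ⨿ X')]
    exact (ty l).symm.trans (by rw [Equiv.ofBijective_apply, ← hre l]; exact ty' (r l))

include hS hS' in
theorem exists_split (n : ℕ) : ∃ Ψ : P f f' n ⟶ ∐ (fun p : Idx n => pullback (g p.1.1) (g' p.1.2)),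
    ∀ {V : Scheme.{u}} (t : V ⟶ P f f' n) (p : Idx n) (e : Fin p.1.1 ⊕ Fin p.1.2 ≃ Fin n)
      (x : Fin p.1.1 → (V ⟶ X)) (y : Fin p.1.2 → (V ⟶ X')) (b : V ⟶ Y) (hb : t ≫ WidePullback.base _ = b)
      (hx : ∀ l, x l ≫ f = b) (hy : ∀ l, y l ≫ f' = b)
      (tx : ∀ l, t ≫ WidePullback.π _ (e (Sum.inl l)) = x l ≫ coprod.inl)
      (ty : ∀ l, t ≫ WidePullback.π _ (e (Sum.inr l)) = y l ≫ coprod.inr),
      t ≫ Ψ = pr hS hS' _ _ x y b hx hy ≫ Sigma.ι (fun p : Idx n => pullback (g p.1.1) (g' p.1.2)) p := by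
  classical
  choose pp ee he₁ he₂ using fun w : Fin n → Bool => exists_word_equiv w
  have rL : ∀ w l, Set.range ((U f f' w).ι ≫ WidePullback.π _ (ee w (Sum.inl l))) ⊆ Set.range (coprod.inl : X ⟶ X ⨿ X') := by
    rintro w l _ ⟨z, rfl⟩
    exact ((mem_U f f' w _).1 z.2 _).1 (he₁ w l)
  have rR : ∀ w l, Set.range ((U f f' w).ι ≫ WidePullback.π _ (ee w (Sum.inr l))) ⊆ Set.range (coprod.inr : X' ⟶ X ⨿ X') := by
    rintro w l _ ⟨z, rfl⟩
    exact ((mem_U f f' w _).1 z.2 _).2 (he₂ w l)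
  let x₀ := fun w l => IsOpenImmersion.lift (coprod.inl : X ⟶ X ⨿ X') _ (rL w l)
  let y₀ := fun w l => IsOpenImmersion.lift (coprod.inr : X' ⟶ X ⨿ X') _ (rR w l)
  have hx₀ : ∀ w l, x₀ w l ≫ f = (U f f' w).ι ≫ WidePullback.base _ := fun w l => by
    refine (congrArg (x₀ w l ≫ ·) (coprod.inl_desc f f').symm).trans ?_
    simp [x₀]
  have hy₀ : ∀ w l, y₀ w l ≫ f' = (U f f' w).ι ≫ WidePullback.base _ := fun w l => by
    refine (congrArg (y₀ w l ≫ ·) (coprod.inr_desc f f').symm).trans ?_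
    simp [y₀]
  let ψ := fun w => pr hS hS' _ _ (x₀ w) (y₀ w) _ (hx₀ w) (hy₀ w) ≫
    Sigma.ι (fun p : Idx n => pullback (g p.1.1) (g' p.1.2)) (pp w)
  let 𝒰 := (P f f' n).openCoverOfIsOpenCover (U f f') (U_cover f f')
  have hcompat : ∀ A B, pullback.fst (𝒰.f A) (𝒰.f B) ≫ ψ A = pullback.snd (𝒰.f A) (𝒰.f B) ≫ ψ B := fun A B => by
    show pullback.fst (U f f' A).ι (U f f' B).ι ≫ _ = pullback.snd (U f f' A).ι (U f f' B).ι ≫ _
    by_cases hAB : A = B
    · subst hAB
      rw [(cancel_mono (U f f' A).ι).1 pullback.condition]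
    · haveI : IsEmpty ↑(pullback (U f f' A).ι (U f f' B).ι) := ⟨fun z => hAB (U_eq f f'
        (z := (U f f' A).ι (pullback.fst (U f f' A).ι (U f f' B).ι z))
        (pullback.fst (U f f' A).ι (U f f' B).ι z).2 (by
          rw [← Scheme.Hom.comp_apply, pullback.condition, Scheme.Hom.comp_apply]
          exact (pullback.snd (U f f' A).ι (U f f' B).ι z).2))⟩
      exact isInitialOfIsEmpty.hom_ext _ _
  refine ⟨𝒰.glueMorphisms ψ hcompat, fun {V} t p e x y b hb hx hy tx ty => ?_⟩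
  rcases isEmpty_or_nonempty V with hV | ⟨⟨v⟩⟩
  · exact isInitialOfIsEmpty.hom_ext _ _
  let w : Fin n → Bool := fun l => (e.symm l).isLeft
  have hr : Set.range t ⊆ Set.range (U f f' w).ι := by
    rintro _ ⟨z, rfl⟩
    rw [Scheme.Opens.range_ι]
    refine (mem_U f f' w _).2 fun l => ?_
    obtain ⟨(l | l), rfl⟩ := e.surjective l
    · refine ⟨fun _ => ⟨x l z, ?_⟩, fun h => by simp [w] at h⟩
      rw [← Scheme.Hom.comp_apply, ← tx, Scheme.Hom.comp_apply]
    · refine ⟨fun h => by simp [w] at h, fun _ => ⟨y l z, ?_⟩⟩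
      rw [← Scheme.Hom.comp_apply, ← ty, Scheme.Hom.comp_apply]
  let t' := IsOpenImmersion.lift (U f f' w).ι t hr
  have ht' : t' ≫ (U f f' w).ι = t := IsOpenImmersion.lift_fac _ _ _
  have h1 : (U f f' w).ι ≫ 𝒰.glueMorphisms ψ hcompat = ψ w := 𝒰.ι_glueMorphisms ψ hcompat w
  conv_lhs => rw [← ht', Category.assoc, h1]
  simp only [ψ, ← Category.assoc]
  have hx1 : ∀ l, (t' ≫ x₀ w l) ≫ f = b := fun l => by rw [Category.assoc, hx₀, ← Category.assoc, ht', hb]
  have hy1 : ∀ l, (t' ≫ y₀ w l) ≫ f' = b := fun l => by rw [Category.assoc, hy₀, ← Category.assoc, ht', hb]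
  rw [show t' ≫ pr hS hS' _ _ (x₀ w) (y₀ w) _ (hx₀ w) (hy₀ w) =
      pr hS hS' _ _ (fun l => t' ≫ x₀ w l) (fun l => t' ≫ y₀ w l) b hx1 hy1 by
    refine pullback.hom_ext ?_ ?_
    all_goals
      simp only [pr, Category.assoc, pullback.lift_fst, pullback.lift_snd]
      rw [← Category.assoc]
      congr 1
      apply WidePullback.hom_ext
      · intro l; simp
      · simp [reassoc_of% ht', hb]]
  exact pr_ι_eq hS hS' t _ _ (ee w) e _ _ _ _ b hx1 hy1 hx hy
    (fun l => by rw [Category.assoc, IsOpenImmersion.lift_fac, ← Category.assoc, ht'])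
    (fun l => by rw [Category.assoc, IsOpenImmersion.lift_fac, ← Category.assoc, ht']) tx ty v

include hS hS' pY in
set_option backward.isDefEq.respectTransparency false in
theorem exists_iso (n : ℕ) {T : Scheme.{u}} (Q : P f f' n ⟶ T) (h : T ⟶ Y)
    (hT : SymProd.IsSymProd (coprod.desc f f') n Q h) :
    ∃ Φ : (∐ fun p : Idx n => pullback (g p.1.1) (g' p.1.2)) ≅ T,
      ∀ p, Sigma.ι (fun p : Idx n => pullback (g p.1.1) (g' p.1.2)) p ≫ Φ.hom ≫ h = pullback.fst _ _ ≫ g p.1.1 := by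
  classical
  obtain ⟨Ψ, hΨ⟩ := exists_split hS hS' n
  let m := fun p : Idx n => pullback.map (bb f p.1.1) (bb f' p.1.2) (g p.1.1) (g' p.1.2) (q p.1.1) (q' p.1.2) (𝟙 Y)
    (by simp [bb, (hS _).over]) (by simp [bb, (hS' _).over])
  have hprod := fun p : Idx n => prod_desc (g p.1.1) (g' p.1.2) (q p.1.1) (q' p.1.2) (bb f p.1.1) (bb f' p.1.2) (hS _).over
    (hS' _).over _ _ (hS _).isQuot (hS' _).isQuot
    (fun V => isUnit_natCast_sections (g p.1.1 ≫ pY) _ Nat.card_pos.ne' V)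
    (fun V => isUnit_natCast_sections (g' p.1.2 ≫ pY) _ Nat.card_pos.ne' V)
  let c : ∀ (p : Idx n) (z : Fin p.1.1 ⊕ Fin p.1.2), (pullback (bb f p.1.1) (bb f' p.1.2) ⟶ X ⨿ X') := fun p z =>
    Sum.elim (fun l => pullback.fst _ _ ≫ WidePullback.π _ l ≫ coprod.inl)
      (fun l => pullback.snd _ _ ≫ WidePullback.π _ l ≫ coprod.inr) z
  have hc : ∀ p z, c p z ≫ coprod.desc f f' = pullback.fst (bb f p.1.1) (bb f' p.1.2) ≫ bb f p.1.1 := fun p z => by
    rcases z with l | l
    · simp [c, bb]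
    · simp [c, bb, bb, pullback.condition]
  let u : ∀ p : Idx n, pullback (bb f p.1.1) (bb f' p.1.2) ⟶ P f f' n := fun p =>
    WidePullback.lift (pullback.fst _ _ ≫ bb f p.1.1) (fun l => c p ((e0 p).symm l)) (fun l => hc p _)
  have hperm : ∀ σ : Equiv.Perm (Fin n), SymProd.permHom (coprod.desc f f') n σ ≫ Q = Q := fun σ =>
    hT.isQuot.inv ⟨σ⟩
  have hu : ∀ p : Idx n, (∀ σ, pullback.map (bb f p.1.1) (bb f' p.1.2) (bb f p.1.1) (bb f' p.1.2) (SymProd.permActU f p.1.1 σ).hom (𝟙 _) (𝟙 Y)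
      (by simp [bb]) (by simp) ≫ u p ≫ Q = u p ≫ Q) ∧
      ∀ σ, pullback.map (bb f p.1.1) (bb f' p.1.2) (bb f p.1.1) (bb f' p.1.2) (𝟙 _) (SymProd.permActU f' p.1.2 σ).hom (𝟙 Y)
      (by simp) (by simp [bb]) ≫ u p ≫ Q = u p ≫ Q := fun p => by
    constructor <;> intro σ
    · let τ : Equiv.Perm (Fin n) := (e0 p).permCongr (Equiv.sumCongr σ.down (Equiv.refl _))
      conv_rhs => rw [← hperm τ]
      simp only [← Category.assoc]
      congr 1
      apply WidePullback.hom_ext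
      · intro l
        obtain ⟨(l | l), rfl⟩ := (e0 p).surjective l <;> simp [u, c, τ, Equiv.permCongr_def]
      · simp [u, bb]
    · let τ : Equiv.Perm (Fin n) := (e0 p).permCongr (Equiv.sumCongr (Equiv.refl _) σ.down)
      conv_rhs => rw [← hperm τ]
      simp only [← Category.assoc]
      congr 1
      apply WidePullback.hom_ext
      · intro l
        obtain ⟨(l | l), rfl⟩ := (e0 p).surjective l <;> simp [u, c, τ, Equiv.permCongr_def]
      · simp [u, bb]
  choose w hw using fun p => (hprod p).2 T (u p ≫ Q) (hu p).1 (hu p).2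
  let Φ := Sigma.desc w
  haveI : ∀ p, Epi (m p) := fun p => (hprod p).1
  have huΨ : ∀ p, u p ≫ Ψ = m p ≫ Sigma.ι (fun p : Idx n => pullback (g p.1.1) (g' p.1.2)) p := fun p => by
    rw [hΨ (u p) p (e0 p) (fun l => pullback.fst _ _ ≫ WidePullback.π _ l) (fun l => pullback.snd _ _ ≫ WidePullback.π _ l)
      (pullback.fst _ _ ≫ bb f p.1.1) (by simp [u]) (fun l => by simp [bb]) (fun l => by simp [bb, bb, pullback.condition])
      (fun l => by simp [u, c]) (fun l => by simp [u, c])]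
    congr 1
    apply pullback.hom_ext
    · simp only [pr, m, pullback.lift_fst]
      congr 1
      apply WidePullback.hom_ext
      · intro l; simp
      · simp [bb]
    · simp only [pr, m, pullback.lift_snd]
      congr 1
      apply WidePullback.hom_ext
      · intro l; simp
      · simp [bb, bb, pullback.condition]
  choose pp ee he₁ he₂ using fun a : Fin n → Bool => exists_word_equiv a
  have onU : ∀ a : Fin n → Bool, ∃ (x : Fin (pp a).1.1 → ((U f f' a).toScheme ⟶ X))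
      (y : Fin (pp a).1.2 → ((U f f' a).toScheme ⟶ X')), (∀ l, (U f f' a).ι ≫ WidePullback.π _ (ee a (Sum.inl l)) = x l ≫ coprod.inl) ∧
      (∀ l, (U f f' a).ι ≫ WidePullback.π _ (ee a (Sum.inr l)) = y l ≫ coprod.inr) ∧
      (∀ l, x l ≫ f = (U f f' a).ι ≫ WidePullback.base _) ∧ (∀ l, y l ≫ f' = (U f f' a).ι ≫ WidePullback.base _) := fun a => by
    refine ⟨fun l => IsOpenImmersion.lift (coprod.inl : X ⟶ X ⨿ X') ((U f f' a).ι ≫ WidePullback.π _ (ee a (Sum.inl l))) ?_,
      fun l => IsOpenImmersion.lift (coprod.inr : X' ⟶ X ⨿ X') ((U f f' a).ι ≫ WidePullback.π _ (ee a (Sum.inr l))) ?_,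
      fun l => (IsOpenImmersion.lift_fac _ _ _).symm, fun l => (IsOpenImmersion.lift_fac _ _ _).symm, fun l => ?_, fun l => ?_⟩
    · rintro _ ⟨z, rfl⟩
      exact ((mem_U f f' a _).1 z.2 _).1 (he₁ a l)
    · rintro _ ⟨z, rfl⟩
      exact ((mem_U f f' a _).1 z.2 _).2 (he₂ a l)
    · conv_lhs => enter [2]; rw [← coprod.inl_desc f f']
      rw [IsOpenImmersion.lift_fac_assoc, Category.assoc, WidePullback.π_arrow]
    · conv_lhs => enter [2]; rw [← coprod.inr_desc f f']
      rw [IsOpenImmersion.lift_fac_assoc, Category.assoc, WidePullback.π_arrow]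
  choose x y tx ty hx hy using onU
  have hinv : ∀ σ, (SymProd.permActU (coprod.desc f f') n σ).hom ≫ Ψ = Ψ := fun σ => by
    refine Scheme.Cover.hom_ext ((P f f' n).openCoverOfIsOpenCover (U f f') (U_cover f f')) _ _ fun a => ?_
    show (U f f' a).ι ≫ _ = (U f f' a).ι ≫ _
    rw [← Category.assoc, hΨ (U f f' a).ι (pp a) (ee a) (x a) (y a) _ rfl (hx a) (hy a) (tx a) (ty a)]
    exact hΨ _ (pp a) ((ee a).trans σ.down) (x a) (y a) _ (by simp) (hx a) (hy a)
      (fun l => by simp [tx]) (fun l => by simp [ty])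
  obtain ⟨ψT, hψT, -⟩ := S2925.result _ _ hT.isQuot _ Ψ hinv
  haveI : Epi Q := ⟨fun a b hab => (S2925.result _ _ hT.isQuot _ (Q ≫ a) (fun σ => by
    rw [reassoc_of% (hT.isQuot.inv σ)])).unique rfl hab.symm⟩
  refine ⟨{ hom := Φ, inv := ψT, hom_inv_id := ?_, inv_hom_id := ?_ }, fun p => ?_⟩
  · refine Sigma.hom_ext _ _ fun p => ?_
    simp only [Φ, colimit.ι_desc_assoc, Cofan.mk_ι_app, Category.comp_id]
    rw [← cancel_epi (m p), reassoc_of% (hw p), hψT, huΨ]
  · rw [← cancel_epi Q, reassoc_of% hψT, Category.comp_id]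
    refine Scheme.Cover.hom_ext ((P f f' n).openCoverOfIsOpenCover (U f f') (U_cover f f')) _ _ fun a => ?_
    show (U f f' a).ι ≫ Ψ ≫ Φ = (U f f' a).ι ≫ Q
    rw [← Category.assoc, hΨ (U f f' a).ι (pp a) (ee a) (x a) (y a) _ rfl (hx a) (hy a) (tx a) (ty a)]
    let L : (U f f' a).toScheme ⟶ pullback (bb f (pp a).1.1) (bb f' (pp a).1.2) := pullback.lift
      (WidePullback.lift _ (x a) (hx a)) (WidePullback.lift _ (y a) (hy a)) (by simp [bb, bb])
    rw [show pr hS hS' _ _ (x a) (y a) _ (hx a) (hy a) = L ≫ m (pp a) by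
      apply pullback.hom_ext <;> simp [pr, L, m]]
    simp only [Φ, Category.assoc, colimit.ι_desc, Cofan.mk_ι_app]
    rw [hw]
    conv_rhs => rw [← hperm ((ee a).symm.trans (e0 (pp a)))]
    simp only [← Category.assoc]
    congr 1
    apply WidePullback.hom_ext
    · intro l
      obtain ⟨(l | l), rfl⟩ := (e0 (pp a)).surjective l <;> simp [u, c, L, tx, ty]
    · simp [u, L, bb]
  · show Sigma.ι (fun p : Idx n => pullback (g p.1.1) (g' p.1.2)) p ≫ Φ ≫ h = _
    simp only [Φ, colimit.ι_desc_assoc, Cofan.mk_ι_app]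
    rw [← cancel_epi (m p), reassoc_of% (hw p)]
    simp [hT.over, u, m, bb, (hS _).over]

end
/-- Let k be an algebraically closed field of characteristic zero, Y a scheme of finite type over k, and
f : X → Y, f′ : X′ → Y morphisms of finite type. For every n ≥ 0 let (S_n, q_n, g_n) be an n-th
symmetric power of X over Y (q_n : X ×_Y ⋯ ×_Y X → S_n a quotient of the n-fold fibre power by the
symmetric group permuting the factors: affine, invariant, with the sections of S_n the invariant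
sections; g_n : S_n → Y its structure map, of finite type; for n = 0 this forces S_0 ≅ Y), and
likewise (S′_n, q′_n, g′_n) for X′ over Y and (T_n, Q_n, h_n) for the disjoint union X ⊔ X′ over Y
(structure map f on X and f′ on X′). Then the relative motivic zeta functions multiply: in the ring
of power series with coefficients in the Grothendieck ring of finite-type Y-schemes (multiplication
given by fibre product over Y), the series with n-th coefficient [T_n → Y] equals the product of the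
series with n-th coefficients [S_n → Y] and [S′_n → Y]. The published proposition asserts that the
motivic zeta function defines a pre-lambda structure on the whole Grothendieck ring; this row states
the multiplicativity on disjoint unions, which is the part established there, and it does not assume
f, f′ quasi-projective (that hypothesis only serves the existence of the symmetric powers, which are
taken as data here). -/
theorem result
    (k : Type u) [Field k] [IsAlgClosed k] [CharZero k] {X X' Y : Scheme.{u}}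
    (pY : Y ⟶ Spec (CommRingCat.of k)) [LocallyOfFiniteType pY] [QuasiCompact pY]
    (f : X ⟶ Y) [LocallyOfFiniteType f] [QuasiCompact f]
    (f' : X' ⟶ Y) [LocallyOfFiniteType f'] [QuasiCompact f']
    (Sy : ℕ → Scheme.{u}) (q : ∀ n, SymProd.fibPow f n ⟶ Sy n) (g : ∀ n, Sy n ⟶ Y)
    (hS : ∀ n, SymProd.IsSymProd f n (q n) (g n))
    [∀ n, LocallyOfFiniteType (g n)] [∀ n, QuasiCompact (g n)]
    (Sy' : ℕ → Scheme.{u}) (q' : ∀ n, SymProd.fibPow f' n ⟶ Sy' n) (g' : ∀ n, Sy' n ⟶ Y)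
    (hS' : ∀ n, SymProd.IsSymProd f' n (q' n) (g' n))
    [∀ n, LocallyOfFiniteType (g' n)] [∀ n, QuasiCompact (g' n)]
    (T : ℕ → Scheme.{u}) (Q : ∀ n, SymProd.fibPow (coprod.desc f f') n ⟶ T n) (h : ∀ n, T n ⟶ Y)
    (hT : ∀ n, SymProd.IsSymProd (coprod.desc f f') n (Q n) (h n))
    [∀ n, LocallyOfFiniteType (h n)] [∀ n, QuasiCompact (h n)] :
    PowerSeries.mk (fun n => K0Var.cl (h n)) =
      PowerSeries.mk (fun n => K0Var.cl (g n)) * PowerSeries.mk (fun n => K0Var.cl (g' n)) := by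
  ext n
  rw [PowerSeries.coeff_mk, PowerSeries.coeff_mul]
  simp only [PowerSeries.coeff_mk]
  obtain ⟨Φ, hΦ⟩ := exists_iso pY hS hS' n (Q n) (h n) (hT n)
  haveI : IsLocallyNoetherian Y := LocallyOfFiniteType.isLocallyNoetherian pY
  haveI : CompactSpace Y := QuasiCompact.compactSpace_of_compactSpace pY
  haveI : LocallyOfFiniteType (Φ.hom ≫ h n) := inferInstance
  haveI : QuasiCompact (Φ.hom ≫ h n) := inferInstance
  rw [← K0Var.cl_congr (Φ.hom ≫ h n) (h n) Φ rfl]
  haveI : IsLocallyNoetherian (∐ fun p : Idx n => pullback (g p.1.1) (g' p.1.2)) :=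
    LocallyOfFiniteType.isLocallyNoetherian (Φ.hom ≫ h n)
  haveI : CompactSpace ↥(∐ fun p : Idx n => pullback (g p.1.1) (g' p.1.2)) :=
    QuasiCompact.compactSpace_of_compactSpace (Φ.hom ≫ h n)
  let O : Idx n → (∐ fun p : Idx n => pullback (g p.1.1) (g' p.1.2)).Opens := fun p =>
    (Sigma.ι (fun p : Idx n => pullback (g p.1.1) (g' p.1.2)) p).opensRange
  have hsum := cl_iSup (Φ.hom ≫ h n) O (fun i j hij => by
    have := disjoint_opensRange_sigmaι (fun p : Idx n => pullback (g p.1.1) (g' p.1.2)) i j hij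
    simpa [TopologicalSpace.Opens.coe_disjoint] using this) Finset.univ
  have htop : Finset.univ.sup O = ⊤ := by
    rw [Finset.sup_univ_eq_iSup]
    exact (sigmaOpenCover (fun p : Idx n => pullback (g p.1.1) (g' p.1.2))).iSup_opensRange
  haveI : IsNoetherian (∐ fun p : Idx n => pullback (g p.1.1) (g' p.1.2)) := ⟨⟩
  rw [htop] at hsum
  rw [K0Var.cl_congr ((⊤ : (∐ fun p : Idx n => pullback (g p.1.1) (g' p.1.2)).Opens).ι ≫ Φ.hom ≫ h n) (Φ.hom ≫ h n)
    (Scheme.topIso _) rfl] at hsum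
  rw [hsum, ← Finset.sum_coe_sort (Finset.HasAntidiagonal.antidiagonal n)]
  refine Finset.sum_congr rfl fun p _ => ?_
  have hp : g p.1.1 = g p.1.1 := rfl
  haveI : LocallyOfFiniteType (pullback.fst (g p.1.1) (g' p.1.2) ≫ g p.1.1) := inferInstance
  rw [← K0Var.cl_mul]
  refine (K0Var.cl_congr _ _ (Scheme.Hom.isoOpensRange (Sigma.ι (fun p : Idx n => pullback (g p.1.1) (g' p.1.2)) p)) ?_).symm
  rw [Scheme.Hom.isoOpensRange_hom_ι_assoc, hΦ]

end Groth.Agent.S17498
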