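import Groth.Statements.S17499
import Mathlib
-- import your own Groth.Agent.* helpers here

set_option autoImplicit false
universe u
open RelQuot

namespace Groth.Agent.S17499

open CategoryTheory CategoryTheory.Limits AlgebraicGeometry in
set_option linter.unusedVariables false

open CategoryTheory CategoryTheory.Limits AlgebraicGeometry

theorem cl_eq_zero {X S : Scheme.{u}} (f : X ⟶ S) [LocallyOfFiniteType f] [QuasiCompact f] (h : IsEmpty X) :
    K0Var.cl f = 0 :=
  haveI : IsEmpty (K0Var.Gen.mk X f).X := h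
  K0Var.Gen.cl_eq_zero_of_isEmpty _

/-- The class over a locally closed piece where the family is trivial. -/
theorem cl_piece {k : Type u} [Field k] {X Y F : Scheme.{u}}
    (pY : Y ⟶ Spec (CommRingCat.of k)) [LocallyOfFiniteType pY] [QuasiCompact pY]
    (pF : F ⟶ Spec (CommRingCat.of k)) [LocallyOfFiniteType pF] [QuasiCompact pF]
    (f : X ⟶ Y) [LocallyOfFiniteType f] [QuasiCompact f] (U : Y.Opens)
    (e : (f ⁻¹ᵁ U).toScheme ≅ pullback (U.ι ≫ pY) pF) (he : e.hom ≫ pullback.fst (U.ι ≫ pY) pF = f ∣_ U)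
    {W : Scheme.{u}} (w : W ⟶ U) {iW : W ⟶ Y} [LocallyOfFiniteType iW] [QuasiCompact iW] (hw : w ≫ U.ι = iW) :
    K0Var.cl (pullback.snd f iW ≫ iW ≫ pY) = K0Var.cl (iW ≫ pY) * K0Var.cl pF := by
  subst hw
  rw [← K0Var.cl_mul]
  have s1 : IsPullback (f ⁻¹ᵁ U).ι (f ∣_ U) f U.ι := (isPullback_morphismRestrict f U).flip
  have s2 : IsPullback (f ∣_ U) (e.hom ≫ pullback.snd (U.ι ≫ pY) pF) (U.ι ≫ pY) pF :=
    (IsPullback.of_hasPullback (U.ι ≫ pY) pF).of_iso e.symm (Iso.refl _) (Iso.refl _) (Iso.refl _)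
      (by simp [← he]) (by simp) (by simp) (by simp)
  let l : pullback f (w ≫ U.ι) ⟶ f ⁻¹ᵁ U :=
    s1.lift (pullback.fst f (w ≫ U.ι)) (pullback.snd f (w ≫ U.ι) ≫ w) (by simp [pullback.condition])
  have hl1 : l ≫ (f ⁻¹ᵁ U).ι = pullback.fst f (w ≫ U.ι) := s1.lift_fst _ _ _
  have hl2 : l ≫ (f ∣_ U) = pullback.snd f (w ≫ U.ι) ≫ w := s1.lift_snd _ _ _
  have s3 : IsPullback l (pullback.snd f (w ≫ U.ι)) (f ∣_ U) w :=
    IsPullback.of_right (by rw [hl1]; exact IsPullback.of_hasPullback f (w ≫ U.ι)) hl2 s1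
  have s4 := (s3.paste_horiz s2.flip).flip
  refine K0Var.cl_congr _ _ ((pullback.congrHom (Category.assoc w U.ι pY).symm (rfl : pF = pF)).symm ≪≫ s4.isoPullback.symm).symm ?_
  simp [pullback.lift_fst_assoc, IsPullback.isoPullback_hom_fst_assoc]

theorem main {k : Type u} [Field k] {X Y F : Scheme.{u}}
    (pY : Y ⟶ Spec (CommRingCat.of k)) [LocallyOfFiniteType pY] [QuasiCompact pY]
    (pF : F ⟶ Spec (CommRingCat.of k)) [LocallyOfFiniteType pF] [QuasiCompact pF]
    (f : X ⟶ Y) [LocallyOfFiniteType f] [QuasiCompact f]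
    (hf : ∀ y : Y, ∃ (U : Y.Opens) (e : (f ⁻¹ᵁ U).toScheme ≅ pullback (U.ι ≫ pY) pF),
      y ∈ U ∧ e.hom ≫ pullback.fst (U.ι ≫ pY) pF = f ∣_ U)
    [TopologicalSpace.NoetherianSpace Y] (C : TopologicalSpace.Closeds Y) :
    ∀ {Z : Scheme.{u}} (i : Z ⟶ Y) [IsClosedImmersion i], Set.range i = C →
      K0Var.cl (pullback.snd f i ≫ i ≫ pY) = K0Var.cl (i ≫ pY) * K0Var.cl pF := by
  induction C using WellFoundedLT.induction with
  | _ C ih =>
    intro Z i _ hi
    cases isEmpty_or_nonempty Z with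
    | inl h =>
      rw [cl_eq_zero (i ≫ pY) h, zero_mul, cl_eq_zero]
      exact Function.isEmpty (pullback.snd f i)
    | inr h =>
      obtain ⟨z⟩ := h
      obtain ⟨U, e, hz, he⟩ := hf (i z)
      haveI : IsLocallyNoetherian Y := LocallyOfFiniteType.isLocallyNoetherian pY
      haveI : IsLocallyNoetherian Z := LocallyOfFiniteType.isLocallyNoetherian i
      haveI : CompactSpace Z := i.isClosedEmbedding.compactSpace
      haveI : IsNoetherian Z := ⟨⟩
      let W : Z.Opens := i ⁻¹ᵁ U
      let D := Scheme.IdealSheafData.vanishingIdeal (⟨(W : Set Z)ᶜ, W.isOpen.isClosed_compl⟩ : TopologicalSpace.Closeds Z)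
      let ι := D.subschemeι
      have hι : Set.range ι = (W : Set Z)ᶜ := by
        rw [Scheme.IdealSheafData.range_subschemeι]
        simp [D]
      have hr : Set.range ι = (Set.range W.ι)ᶜ := by rw [hι, Scheme.Opens.range_ι]
      have hlt : (⟨Set.range (ι ≫ i), (ι ≫ i).isClosedEmbedding.isClosed_range⟩ : TopologicalSpace.Closeds Y) < C := by
        refine lt_of_le_of_ne (fun y hy => ?_) fun heq => ?_
        · obtain ⟨t, rfl⟩ := hy
          exact hi.le ⟨ι t, rfl⟩
        · have hm : i z ∈ (C : Set Y) := hi.le ⟨z, rfl⟩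
          rw [← heq] at hm
          obtain ⟨t, ht⟩ := hm
          have h' : ι t = z := i.isClosedEmbedding.injective (by simpa using ht)
          exact (hι.le ⟨t, rfl⟩ : ι t ∈ (W : Set Z)ᶜ) (h' ▸ hz)
      have h1 := ih _ hlt (ι ≫ i) rfl
      have hw : (i ∣_ U) ≫ U.ι = W.ι ≫ i := morphismRestrict_ι i U
      have h2 := cl_piece pY pF f U e he (i ∣_ U) hw
      rw [K0Var.cl_scissor (i ≫ pY) ι W.ι hr, K0Var.cl_scissor (pullback.snd f i ≫ i ≫ pY)
        (pullback.fst (pullback.snd f i) ι) (pullback.fst (pullback.snd f i) W.ι)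
        (by rw [Scheme.Pullback.range_fst, Scheme.Pullback.range_fst, hr, Set.preimage_compl]), add_mul]
      congr 1
      · rw [K0Var.cl_congr (pullback.fst (pullback.snd f i) ι ≫ pullback.snd f i ≫ i ≫ pY)
          (pullback.snd f (ι ≫ i) ≫ (ι ≫ i) ≫ pY) (pullbackLeftPullbackSndIso f i ι)
          (by simp [← pullback.condition_assoc]), h1]
        simp [Category.assoc]
      · rw [K0Var.cl_congr (pullback.fst (pullback.snd f i) W.ι ≫ pullback.snd f i ≫ i ≫ pY)
          (pullback.snd f (W.ι ≫ i) ≫ (W.ι ≫ i) ≫ pY) (pullbackLeftPullbackSndIso f i W.ι)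
          (by simp [← pullback.condition_assoc]), h2]
        simp [Category.assoc]
/-- Let k be an algebraically closed field of characteristic zero, X, Y and F schemes of finite type
over k, and f : X → Y a morphism over k which is a Zariski locally trivial fibration with fibre F:
every point of Y has an open neighbourhood U together with an isomorphism from f⁻¹(U) to U ×_k F
whose composite with the first projection is the restriction of f. Then in the Grothendieck ring of
k-schemes of finite type the class of X equals [Y] · [F]. The published statement is for varieties;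
it is stated here for schemes of finite type over k, which present the same ring. -/
theorem result
    (k : Type u) [Field k] [IsAlgClosed k] [CharZero k] {X Y F : Scheme.{u}}
    (pY : Y ⟶ Spec (CommRingCat.of k)) [LocallyOfFiniteType pY] [QuasiCompact pY]
    (pF : F ⟶ Spec (CommRingCat.of k)) [LocallyOfFiniteType pF] [QuasiCompact pF]
    (f : X ⟶ Y) [LocallyOfFiniteType f] [QuasiCompact f]
    (hf : ∀ y : Y, ∃ (U : Y.Opens) (e : (f ⁻¹ᵁ U).toScheme ≅ pullback (U.ι ≫ pY) pF),
      y ∈ U ∧ e.hom ≫ pullback.fst (U.ι ≫ pY) pF = f ∣_ U) :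
    K0Var.cl (f ≫ pY) = K0Var.cl pY * K0Var.cl pF := by
  haveI : IsLocallyNoetherian Y := LocallyOfFiniteType.isLocallyNoetherian pY
  haveI : CompactSpace Y := QuasiCompact.compactSpace_of_compactSpace pY
  haveI : IsNoetherian Y := ⟨⟩
  have h := main pY pF f hf ⊤ (𝟙 Y) (by simp [Scheme.Hom.id_base])
  rw [K0Var.cl_congr (𝟙 Y ≫ pY) pY (Iso.refl _) (by simp)] at h
  rw [← h]
  exact (K0Var.cl_congr _ _ (asIso (pullback.fst f (𝟙 Y))) (by simp [pullback.condition_assoc])).symm

end Groth.Agent.S17499
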