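import Groth.Statements.S1750
import Groth.Agent.InjHullLib.Localization
import Groth.Agent.Matlis6.Transfer
import Groth.Agent.S0301
import Groth.Agent.S8925
import Groth.Agent.Matlis6.Recognition

set_option autoImplicit false
universe u
open InjHull

namespace Groth.Agent.S1750

open Groth.Agent.InjHullLib

/-- Let R → S be a flat local homomorphism of Noetherian local rings with m_R S = m_S inducing a
bijection on residue fields. If κ_S → E is an injective hull of the residue field of S over S, then
E regarded as an R-module is an injective hull of the residue field of R (for a suitable R-linear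
map κ_R → E). -/
theorem result (R S : Type u) [CommRing R] [CommRing S] [IsLocalRing R] [IsLocalRing S] [IsNoetherianRing R] [IsNoetherianRing S] [Algebra R S] [IsLocalHom (algebraMap R S)] [Module.Flat R S] (hm : (IsLocalRing.maximalIdeal R).map (algebraMap R S) = IsLocalRing.maximalIdeal S) (hk : Function.Bijective (IsLocalRing.ResidueField.map (algebraMap R S))) (E : Type u) [AddCommGroup E] [Module S E] [Module R E] [IsScalarTower R S E] (f : IsLocalRing.ResidueField S →ₗ[S] E) (hf : InjHull.IsInjectiveHull f) : ∃ g : IsLocalRing.ResidueField R →ₗ[R] E, InjHull.IsInjectiveHull g := by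
  haveI := hf.isInjective
  haveI : Module.Injective R E := Groth.Agent.S8925.result R S E
  have hE := Groth.Agent.Matlis6.of_isInjectiveHull_residueField hf
  obtain ⟨e, he, hme, hsoc⟩ := hE.eq_smul_of_killed
  have hkill : ∀ x : E, (∀ a ∈ IsLocalRing.maximalIdeal R, a • x = 0) →
      ∀ a ∈ IsLocalRing.maximalIdeal S, a • x = 0 := by
    intro x hx
    suffices h : IsLocalRing.maximalIdeal S ≤ LinearMap.ker (LinearMap.toSpanSingleton S E x) from fun a ha => h ha
    rw [← hm, Ideal.map_le_iff_le_comap]
    intro a ha
    show algebraMap R S a • x = 0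
    rw [algebraMap_smul]; exact hx a ha
  refine Groth.Agent.Matlis6.IsHullAt.exists_isInjectiveHull_residueField
    (Groth.Agent.Matlis6.IsHullAt.of_torsion inferInstance ?_ he ?_ ?_)
  · intro x
    obtain ⟨n, hn⟩ := hE.isPowerTorsion x
    refine ⟨n, fun a ha => ?_⟩
    rw [← algebraMap_smul S a x]
    refine hn _ ?_
    rw [← hm, ← Ideal.map_pow]
    exact Ideal.mem_map_of_mem _ ha
  · intro a ha
    rw [← algebraMap_smul S a e]
    exact hme _ (hm ▸ Ideal.mem_map_of_mem _ ha)
  · intro x hx
    obtain ⟨c, hc⟩ := hsoc x (hkill x hx)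
    obtain ⟨r, hr⟩ := hk.2 (IsLocalRing.residue S c)
    obtain ⟨r, rfl⟩ := IsLocalRing.residue_surjective r
    rw [IsLocalRing.ResidueField.map_residue] at hr
    refine ⟨r, ?_⟩
    have := hme _ (Ideal.Quotient.eq.1 hr.symm)
    rw [sub_smul, algebraMap_smul, sub_eq_zero] at this
    exact hc.trans this

end Groth.Agent.S1750
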