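import Groth.Statements.S17500
import Mathlib
import Groth.Prelude

set_option linter.all false

set_option autoImplicit false
universe u
open TorsMod

open TensorProduct

namespace Groth.Agent.S17500

/-- Let p be a prime number, n a natural number and H a module over ℤ/p^nℤ. Then H is flat over ℤ/p^nℤ
if and only if, for every i with 0 ≤ i ≤ n, the kernel of multiplication by p^i on H coincides with
the image of multiplication by p^(n-i) on H. (The published item is phrased for an fppf sheaf of
ℤ/p^nℤ-modules on a scheme; this is the case of a single module, which is the case the argument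
treats.) -/
theorem result (p n : ℕ) [Fact p.Prime]
    (H : Type u) [AddCommGroup H] [Module (ZMod (p ^ n)) H] :
    Module.Flat (ZMod (p ^ n)) H ↔
      ∀ i : ℕ, i ≤ n →
        LinearMap.ker ((p ^ i : ZMod (p ^ n)) • (LinearMap.id : H →ₗ[ZMod (p ^ n)] H)) =
          LinearMap.range ((p ^ (n - i) : ZMod (p ^ n)) • (LinearMap.id : H →ₗ[ZMod (p ^ n)] H)) := by
  have hp := Fact.out (p := p.Prime)
  set R := ZMod (p ^ n)
  set q : R := (p : R) with hq
  have hn0 : q ^ n = 0 := by rw [hq, ← Nat.cast_pow]; exact ZMod.natCast_self _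
  have hker_le : ∀ i ≤ n, LinearMap.range (q ^ (n - i) • (LinearMap.id : H →ₗ[R] H)) ≤ LinearMap.ker (q ^ i • (LinearMap.id : H →ₗ[R] H)) := by
    rintro i hi _ ⟨h, rfl⟩
    simp [smul_smul, ← pow_add, Nat.add_sub_cancel' hi, Nat.sub_add_cancel hi, hn0]
  constructor
  · intro hflat i hi
    refine le_antisymm ?_ (hker_le i hi)
    have hex : Function.Exact (LinearMap.mulLeft R (q ^ (n - i))) (LinearMap.mulLeft R (q ^ i)) := by
      intro x
      constructor
      · intro hx
        simp only [LinearMap.mulLeft_apply] at hx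
        haveI : NeZero (p ^ n) := ⟨pow_ne_zero _ hp.ne_zero⟩
        rw [hq, ← Nat.cast_pow, ← ZMod.natCast_zmod_val x, ← Nat.cast_mul, ZMod.natCast_eq_zero_iff] at hx
        obtain ⟨c, hc⟩ : p ^ (n - i) ∣ x.val := by
          have hx' : p ^ i * p ^ (n - i) ∣ p ^ i * x.val := by rwa [pow_mul_pow_sub p hi]
          exact Nat.dvd_of_mul_dvd_mul_left (pow_pos hp.pos i) hx'
        refine ⟨(c : R), ?_⟩
        rw [LinearMap.mulLeft_apply, hq, ← Nat.cast_pow, ← Nat.cast_mul, ← hc, ZMod.natCast_zmod_val]
      · rintro ⟨c, rfl⟩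
        simp [← mul_assoc, ← pow_add, Nat.add_sub_cancel' hi, hn0]
    have hex' := Module.Flat.rTensor_exact (M := H) hex
    intro h hh
    have hh' : q ^ i • h = 0 := by simpa using hh
    obtain ⟨z, hz⟩ := (hex' ((1 : R) ⊗ₜ h)).1 (by
      rw [LinearMap.rTensor_tmul, LinearMap.mulLeft_apply, mul_one, show (q ^ i : R) = q ^ i • (1 : R) by simp, TensorProduct.smul_tmul, hh', TensorProduct.tmul_zero])
    refine ⟨TensorProduct.lid R H z, ?_⟩
    have h2 := congrArg (TensorProduct.lid R H) hz
    rw [TensorProduct.lid_tmul, one_smul] at h2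
    rw [← h2]
    clear hz h2
    induction z with
    | zero => simp
    | add a b ha hb => rw [map_add, map_add, map_add, map_add, ha, hb]
    | tmul r m => simp [smul_smul, mul_comm]
  · intro h
    rw [Module.Flat.iff_rTensor_injective']
    intro I
    obtain ⟨i, hi, rfl⟩ : ∃ i ≤ n, I = Ideal.span {q ^ i} := by
      haveI : IsPrincipalIdealRing ℤ := inferInstance
      obtain ⟨g, hg⟩ := (IsPrincipalIdealRing.principal (I.comap (Int.castRingHom R))).principal
      have hmem : ((p ^ n : ℕ) : ℤ) ∈ I.comap (Int.castRingHom R) := by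
        rw [Ideal.mem_comap, map_natCast, ZMod.natCast_self]; exact zero_mem _
      have hg' : I.comap (Int.castRingHom R) = Ideal.span {g} := hg
      rw [hg', Ideal.mem_span_singleton] at hmem
      obtain ⟨i, hi, hgi⟩ := (Nat.dvd_prime_pow hp).1 (Int.natAbs_dvd_natAbs.2 hmem |>.trans (dvd_of_eq (Int.natAbs_natCast _)))
      refine ⟨i, hi, ?_⟩
      rw [← Ideal.map_comap_of_surjective (Int.castRingHom R) ZMod.intCast_surjective I, hg', ← Int.span_natAbs, hgi, Ideal.map_span,
        Set.image_singleton, map_natCast, Nat.cast_pow]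
    rw [injective_iff_map_eq_zero]
    intro x hx
    obtain ⟨m, rfl⟩ : ∃ m : H, x = (⟨q ^ i, Ideal.mem_span_singleton_self _⟩ : Ideal.span {q ^ i}) ⊗ₜ[R] m := by
      induction x with
      | zero => exact ⟨0, by simp⟩
      | tmul a m =>
        obtain ⟨c, hc⟩ := Ideal.mem_span_singleton'.1 a.2
        refine ⟨c • m, ?_⟩
        rw [TensorProduct.tmul_smul, TensorProduct.smul_tmul']
        congr 1
        exact Subtype.ext hc.symm
      | add a b ha hb =>
        have hxa := congrArg (fun z => z) hx
        obtain ⟨m1, rfl⟩ : ∃ m, a = (⟨q ^ i, Ideal.mem_span_singleton_self _⟩ : Ideal.span {q ^ i}) ⊗ₜ[R] m := by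
          clear ha hb hx hxa
          induction a with
          | zero => exact ⟨0, by simp⟩
          | tmul a m =>
            obtain ⟨c, hc⟩ := Ideal.mem_span_singleton'.1 a.2
            refine ⟨c • m, ?_⟩
            rw [TensorProduct.tmul_smul, TensorProduct.smul_tmul']
            congr 1
            exact Subtype.ext hc.symm
          | add a b ha hb => obtain ⟨u1, rfl⟩ := ha; obtain ⟨u2, rfl⟩ := hb; exact ⟨u1 + u2, by rw [TensorProduct.tmul_add]⟩
        obtain ⟨m2, rfl⟩ : ∃ m, b = (⟨q ^ i, Ideal.mem_span_singleton_self _⟩ : Ideal.span {q ^ i}) ⊗ₜ[R] m := by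
          clear hb ha hx hxa
          induction b with
          | zero => exact ⟨0, by simp⟩
          | tmul a m =>
            obtain ⟨c, hc⟩ := Ideal.mem_span_singleton'.1 a.2
            refine ⟨c • m, ?_⟩
            rw [TensorProduct.tmul_smul, TensorProduct.smul_tmul']
            congr 1
            exact Subtype.ext hc.symm
          | add a b ha hb => obtain ⟨u1, rfl⟩ := ha; obtain ⟨u2, rfl⟩ := hb; exact ⟨u1 + u2, by rw [TensorProduct.tmul_add]⟩
        exact ⟨m1 + m2, by rw [TensorProduct.tmul_add]⟩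
    have h0 : TensorProduct.lid R H ((q ^ i : R) ⊗ₜ[R] m) = TensorProduct.lid R H 0 := congrArg (TensorProduct.lid R H) hx
    rw [TensorProduct.lid_tmul, map_zero] at h0
    have hm : m ∈ LinearMap.ker (q ^ i • (LinearMap.id : H →ₗ[R] H)) := by simpa using h0
    rw [h i hi] at hm
    obtain ⟨m', rfl⟩ := hm
    simp only [LinearMap.smul_apply, LinearMap.id_apply]
    rw [TensorProduct.tmul_smul, TensorProduct.smul_tmul']
    have : (q ^ (n - i) • (⟨q ^ i, Ideal.mem_span_singleton_self _⟩ : Ideal.span {q ^ i})) = 0 :=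
      Subtype.ext (by simp [← pow_add, Nat.sub_add_cancel hi, hn0])
    rw [this, TensorProduct.zero_tmul]

end Groth.Agent.S17500
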