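import Groth.Statements.S17502
import Groth.Agent.Growth14.Family
import Groth.Agent.H0Growth23.Ztwist

set_option autoImplicit false
universe u
open CategoryTheory CategoryTheory.Limits MonoidalCategory CartesianMonoidalCategory MonObj GrpObj AlgebraicGeometry
open Coherent

open CategoryTheory AlgebraicGeometry Groth.Agent Groth.Agent.Coherent
set_option backward.isDefEq.respectTransparency false
set_option backward.isDefEq.respectTransparency.types false

namespace Groth.Agent.S17502

/-- Let k be a field, Y a projective k-scheme of dimension d (a k-scheme with a closed immersion c into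
projective N-space over k, compatible with the structure morphisms, whose underlying topological
space has Krull dimension d), L_1, …, L_r invertible O_Y-modules, and F a family of O_Y-modules
indexed by a ∈ ℤ^r with F(0) ≅ O_Y and F(a + e_j) ≅ F(a) ⊗ L_j for all a and j, so that F(a) ≅
L_1^{⊗ a_1} ⊗ ⋯ ⊗ L_r^{⊗ a_r} for every a. Then there is a real constant C > 0, depending only on Y
and the L_j, such that dim_k H^i(Y, F(a)) ≤ C · (1 + |a|^d) for every i and every a, where |a| =
|a_1| + ⋯ + |a_r|. (The published statement prints the exponent as the number r of line bundles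
instead of the dimension d of Y; that bound fails as soon as r < d — on the projective plane with r
= 1 and L_1 = O(1) the dimension of H^0(O(a)) grows like a²/2 — while the printed induction on d + r
over hyperplane sections yields the exponent d, which is what is stated here.) -/
theorem result
    (k : Type u) [Field k] (Y : Scheme.{u}) [Y.Over (Spec (CommRingCat.of k))]
    (N : ℕ) (c : Y ⟶ CohB1.ProjSpace N k) [IsClosedImmersion c]
    (hc : c ≫ CohB1.ProjSpace.toSpec N k = Y ↘ Spec (CommRingCat.of k))
    (d : ℕ) (hd : topologicalKrullDim ↥Y = d)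
    (r : ℕ) (Lb : Fin r → Y.Modules) (hLb : ∀ j, PicF.IsInvertible (Lb j))
    (F : (Fin r → ℤ) → Y.Modules) (hF0 : Nonempty (F 0 ≅ Coh.structureModule Y))
    (hF : ∀ (a : Fin r → ℤ) (j : Fin r), Nonempty (F (a + Pi.single j 1) ≅ CohB1.tensorMod (F a) (Lb j))) :
    ∃ C : ℝ, 0 < C ∧ ∀ (i : ℕ) (a : Fin r → ℤ),
      (Module.finrank k (Coh.HH Y (F a) i) : ℝ) ≤ C * (1 + (∑ j, |(a j : ℝ)|) ^ d) := by
  classical
  haveI : IsProper (CohB1.ProjSpace.toSpec N k) := Coherent.isProper_projSpace_toSpec N k
  haveI : IsProper (Y ↘ Spec (CommRingCat.of k)) := hc ▸ inferInstance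
  haveI := EulerLib.isNoetherian_of_proper (X := Y) k
  haveI : Y.IsSeparated := EulerLib.isSeparated_of_proper k
  let u : Fin r → (EulerLib.InvCl Y)ˣ := fun j => Growth14.unitCl (Lb j) (hLb j)
  have hproj := Growth14.exists_isAmple_of_embedding k c
  have hY : topologicalKrullDim (CohB1.support (Coh.structureModule Y)) < ((d + 1 : ℕ) : WithBot ℕ∞) :=
    lt_of_le_of_lt ((topologicalKrullDim_subspace_le Y _).trans hd.le) (by exact_mod_cast Nat.lt_succ_self d)
  choose C hC using (Growth14.exists_bounds' k hproj u (d + 1)).1 _ (isCoh_structureModule Y) hY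
  let T : ℕ := ∑ i ∈ Finset.range (d + 1), C i
  refine ⟨((T * 2 ^ d + 1 : ℕ) : ℝ), by positivity, fun i a => ?_⟩
  obtain ⟨ha, hma⟩ := Growth14.exists_mk_family Lb hLb F hF0 hF a
  have key : Module.finrank k (Coh.HH Y (F a) i) ≤ T * (1 + H0Growth23.len a) ^ d := by
    by_cases hi : i ≤ d
    · rw [← H0Growth23.hh_structure k i (F a) ha, hma]
      refine (hC i a).trans (Nat.mul_le_mul_right _ ?_)
      exact Finset.single_le_sum (f := C) (fun _ _ => Nat.zero_le _) (Finset.mem_range.2 (by omega))
    · haveI : Subsingleton (Coh.HH Y (F a) i) := EulerLib.subsingleton_HH_of_support ⊤ _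
        (AmpleLib.isQCoh_of_isInvertible ha) (Set.subset_univ _) i
        (lt_of_le_of_lt (topologicalKrullDim_subspace_le Y _) (hd ▸ by exact_mod_cast (show d < i by omega)))
      exact le_of_eq_of_le Module.finrank_zero_of_subsingleton (Nat.zero_le _)
  have hp : ((1 + H0Growth23.len a : ℕ) : ℝ) ^ d ≤ 2 ^ d * (1 + (∑ j, |(a j : ℝ)|) ^ d) := by
    have hl : ((H0Growth23.len a : ℕ) : ℝ) = ∑ j, |(a j : ℝ)| := by
      rw [H0Growth23.len, Nat.cast_sum]
      exact Finset.sum_congr rfl fun j _ => by rw [Nat.cast_natAbs, Int.cast_abs]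
    rw [← hl, Nat.cast_add, Nat.cast_one]
    set x : ℝ := ((H0Growth23.len a : ℕ) : ℝ)
    have hx : (0 : ℝ) ≤ x := Nat.cast_nonneg _
    rcases le_total x 1 with h1 | h1
    · refine (pow_le_pow_left₀ (by linarith) (show 1 + x ≤ 2 by linarith) d).trans ?_
      nlinarith [pow_nonneg hx d, pow_nonneg (show (0:ℝ) ≤ 2 by norm_num) d]
    · refine (pow_le_pow_left₀ (by linarith) (show 1 + x ≤ 2 * x by linarith) d).trans ?_
      rw [mul_pow]
      nlinarith [pow_nonneg (show (0:ℝ) ≤ 2 by norm_num) d]
  calc (Module.finrank k (Coh.HH Y (F a) i) : ℝ) ≤ (T : ℝ) * ((1 + H0Growth23.len a : ℕ) : ℝ) ^ d := by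
        exact_mod_cast key
    _ ≤ (T : ℝ) * (2 ^ d * (1 + (∑ j, |(a j : ℝ)|) ^ d)) := mul_le_mul_of_nonneg_left hp (Nat.cast_nonneg _)
    _ ≤ _ := by
        rw [← _root_.mul_assoc]
        refine mul_le_mul_of_nonneg_right ?_ (by positivity)
        push_cast
        linarith

end Groth.Agent.S17502
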