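import Groth.Statements.S17504
import Groth.Agent.AbCohLib.IndexAdd
-- import your own Groth.Agent.* helpers here

set_option autoImplicit false
set_option linter.style.haveILetI false
set_option backward.isDefEq.respectTransparency.types false
universe u
open CategoryTheory CategoryTheory.Limits MonoidalCategory CartesianMonoidalCategory MonObj GrpObj AlgebraicGeometry
open AbVar

namespace Groth.Agent.S17504

open CategoryTheory CategoryTheory.Limits MonObj AlgebraicGeometry in
open Groth.Agent in
/-- Let X be an abelian variety over a field k (a proper, geometrically integral k-group scheme), let L₁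
and L₂ be invertible O_X-modules and M an O_X-module isomorphic to L₁ ⊗ L₂. Suppose that the
cohomology of L₁ is concentrated in degree i₁: H^j(X, L₁) = 0 for j ≠ i₁ and H^i₁(X, L₁) ≠ 0, that
likewise the cohomology of L₂ is concentrated in degree i₂, and that of M in degree i, each non-zero
in that degree (all three line bundles non-degenerate, with indices i₁, i₂, i). Then i ≤ i₁ + i₂. (A
line bundle on an abelian variety is non-degenerate with index i exactly when its cohomology
vanishes outside degree i and is non-zero in degree i; this is how non-degeneracy and the index are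
expressed here.) -/
theorem result
    (k : Type u) [Field k] (X : Over (Spec (CommRingCat.of k))) [GrpObj X] [IsProper X.hom] [GeometricallyIntegral X.hom]
    (L₁ L₂ M : X.left.Modules) (hL₁ : PicF.IsInvertible L₁) (hL₂ : PicF.IsInvertible L₂)
    (hM : Nonempty (M ≅ CohB1.tensorMod L₁ L₂)) (i₁ i₂ i : ℕ)
    (h₁ : ∀ j : ℕ, j ≠ i₁ → Subsingleton (Coh.HH X.left L₁ j)) (h₁' : Nontrivial (Coh.HH X.left L₁ i₁))
    (h₂ : ∀ j : ℕ, j ≠ i₂ → Subsingleton (Coh.HH X.left L₂ j)) (h₂' : Nontrivial (Coh.HH X.left L₂ i₂))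
    (h : ∀ j : ℕ, j ≠ i → Subsingleton (Coh.HH X.left M j)) (h' : Nontrivial (Coh.HH X.left M i)) :
    i ≤ i₁ + i₂ := by
  obtain ⟨eM⟩ := hM
  let K := AlgebraicClosure k
  let s := Spec.map (CommRingCat.ofHom (algebraMap k K))
  let A := (Over.pullback s).obj X
  letI : GrpObj A := Functor.grpObjObj
  haveI : IsProper A.hom := inferInstanceAs (IsProper (pullback.snd X.hom s))
  haveI : GeometricallyIntegral A.hom := inferInstanceAs (GeometricallyIntegral (pullback.snd X.hom s))
  let π : A.left ⟶ X.left := pullback.fst X.hom s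
  obtain ⟨g, hg⟩ := AbCubeLib.exists_dim_eq A
  have hT : PicF.IsInvertible (CohB1.tensorMod L₁ L₂) := Groth.Agent.AmpleLib.isInvertible_tensorMod hL₁ hL₂
  obtain ⟨a₁, n₁⟩ := Groth.Agent.AbCohLib.isIdx_bc hL₁ h₁ h₁'
  obtain ⟨a₂, n₂⟩ := Groth.Agent.AbCohLib.isIdx_bc hL₂ h₂ h₂'
  obtain ⟨a, n⟩ := Groth.Agent.AbCohLib.isIdx_bc hT
    (fun j hj => FlatMorStrat.subsingleton_HH_of_iso eM j (h j hj))
    (not_subsingleton_iff_nontrivial.1 fun hs => not_subsingleton_iff_nontrivial.2 h'
      (FlatMorStrat.subsingleton_HH_of_iso eM.symm i hs))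
  obtain ⟨c₁', hc₁⟩ := PicLib.PicM.exists_mul_eq_one (PicLib.PicM.pull π (PicLib.PicM.of hL₁))
  obtain ⟨c₂', hc₂⟩ := PicLib.PicM.exists_mul_eq_one (PicLib.PicM.pull π (PicLib.PicM.of hL₂))
  rw [← PicLib.PicM.of_mul hL₁ hL₂, map_mul] at a n
  exact Groth.Agent.AbCohLib.IsIdx.le_add hg hc₁ hc₂ n₁ n₂ n a₁ a₂ a

end Groth.Agent.S17504
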