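import Groth.Statements.S17507
import Mathlib
import Groth.Agent.CommAlg4.ThetaRep

set_option linter.all false

set_option autoImplicit false
universe u
open CategoryTheory
open ThetaRep

open Groth.Agent.CommAlg4

namespace Groth.Agent.S17507

/-- Let k be an algebraically closed field and Γ a group given with an injective homomorphism ι from the
multiplicative group kˣ onto the centre of Γ, such that the quotient K = Γ/ι(kˣ) is a finite
commutative group (every commutator lies in ι(kˣ)) whose order is prime to the characteristic
exponent of k — the group of k-points of a non-degenerate theta group 1 → G_m → G → K → 1 with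
rank(K) prime to char(k), non-degeneracy of the commutator pairing being the condition that ι(kˣ) is
the whole centre. A finite-dimensional representation of Γ over k has weight 1 when ι(z) acts as
multiplication by z for every z. Let V be an irreducible finite-dimensional representation of weight
1, W any finite-dimensional representation of weight 1, and H a maximal level subgroup of Γ: a
subgroup with H ∩ ι(kˣ) = 1 which is maximal among subgroups with this property. Then W is
semisimple (completely reducible) and dim_k W = dim_k(W^H) · dim_k V, where W^H is the subspace of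
H-invariants; together with the uniqueness of the irreducible weight-1 representation this says that
W is a direct sum of dim_k(W^H) copies of V. (Rendered for the group of k-points of the theta group
scheme, as in the preceding row.) -/
theorem result (k : Type u) [Field k] [IsAlgClosed k]
    (Γ : Type u) [Group Γ] (ι : kˣ →* Γ) (hι : Function.Injective ι)
    (hcent : ι.range = Subgroup.center Γ) (hcomm : commutator Γ ≤ ι.range)
    [Finite (Γ ⧸ ι.range)] (hcop : (Nat.card (Γ ⧸ ι.range)).Coprime (ringExpChar k))
    (V : FDRep k Γ) (hV : Representation.IsIrreducible V.ρ) (hV1 : ∀ (z : kˣ) (v : V), V.ρ (ι z) v = (z : k) • v)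
    (W : FDRep k Γ) (hW1 : ∀ (z : kˣ) (w : W), W.ρ (ι z) w = (z : k) • w)
    (H : Subgroup Γ) (hH : H ⊓ ι.range = ⊥) (hmax : ∀ H' : Subgroup Γ, H' ⊓ ι.range = ⊥ → H ≤ H' → H' = H) :
    Representation.IsSemisimpleRepresentation W.ρ ∧
      Module.finrank k W =
        Module.finrank k (Representation.invariants (W.ρ.comp H.subtype)) * Module.finrank k V := by
  haveI := Fintype.ofFinite (Γ ⧸ ι.range)
  haveI : ι.range.Normal := hcent ▸ inferInstance
  haveI := hV
  have hn : Nat.card (Γ ⧸ ι.range) = Fintype.card (Γ ⧸ ι.range) := Nat.card_eq_fintype_card
  have hcard : (Fintype.card (Γ ⧸ ι.range) : k) ≠ 0 :=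
    ThetaRep.card_ne_zero Fintype.card_ne_zero (hn ▸ hcop)
  let f : H →* Γ ⧸ ι.range := (QuotientGroup.mk' ι.range).comp H.subtype
  have hf : Function.Injective f := by
    rw [injective_iff_map_eq_one]
    intro h h1
    have : (h : Γ) ∈ H ⊓ ι.range := ⟨h.2, (QuotientGroup.eq_one_iff _).mp h1⟩
    rw [hH, Subgroup.mem_bot] at this
    exact Subtype.ext this
  haveI : Finite H := Finite.of_injective f hf
  haveI := Fintype.ofFinite H
  have hHcard : (Fintype.card H : k) ≠ 0 := by
    refine ThetaRep.card_ne_zero Fintype.card_ne_zero (Nat.Coprime.coprime_dvd_left ?_ hcop)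
    rw [← Nat.card_eq_fintype_card]
    exact Subgroup.card_dvd_of_injective f hf
  refine ⟨ThetaRep.semisimple hcard hW1, ?_⟩
  rw [ThetaRep.finrank_eq_index_mul hι hcent hcomm H hH hmax hcard hHcard hW1,
    ThetaRep.finrank_eq_index_mul hι hcent hcomm H hH hmax hcard hHcard hV1,
    ThetaRep.finrank_invariants_eq_one hι hcent hcomm H hH hmax hcard hHcard hV1, mul_one, mul_comm]

end Groth.Agent.S17507
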