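import Groth.Statements.S17508
import Groth.Agent.AbIdx19.IndexPair
import Groth.Agent.DimLib.BaseChange
open Groth.Agent
set_option backward.isDefEq.respectTransparency.types false

set_option autoImplicit false
universe u
open CategoryTheory CategoryTheory.Limits MonoidalCategory CartesianMonoidalCategory MonObj GrpObj AlgebraicGeometry
open AbVar

set_option backward.isDefEq.respectTransparency.types false
set_option backward.isDefEq.respectTransparency false

namespace Groth.Agent.S17508


/-- Let X be an abelian variety over a field k (a proper, geometrically integral k-group scheme) whose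
underlying space has Krull dimension g, let L be an invertible O_X-module with an inverse L' (an
O_X-module with L ⊗ L' ≅ O_X), and let i be a natural number such that H^j(X, L) = 0 for j ≠ i and
H^i(X, L) ≠ 0. Then i ≤ g, H^j(X, L') = 0 for j ≠ g − i and H^{g−i}(X, L') ≠ 0: the index of the
inverse bundle is g − i(L). (Non-degeneracy with index i is expressed by the equivalent condition
that the cohomology is concentrated in degree i and non-zero there.) -/
theorem result
    (k : Type u) [Field k] (X : Over (Spec (CommRingCat.of k))) [GrpObj X] [IsProper X.hom] [GeometricallyIntegral X.hom]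
    (g : ℕ) (hg : topologicalKrullDim ↥X.left = g)
    (L L' : X.left.Modules) (hL : PicF.IsInvertible L)
    (hL' : Nonempty (CohB1.tensorMod L L' ≅ Coh.structureModule X.left)) (i : ℕ)
    (hvan : ∀ j : ℕ, j ≠ i → Subsingleton (Coh.HH X.left L j)) (hne : Nontrivial (Coh.HH X.left L i)) :
    i ≤ g ∧ (∀ j : ℕ, j ≠ g - i → Subsingleton (Coh.HH X.left L' j)) ∧
      Nontrivial (Coh.HH X.left L' (g - i)) := by
  classical
  have hI : PicF.IsInvertible (CohB1.tensorMod L L') := fun z => by
    obtain ⟨W, hz, ⟨e⟩⟩ := AmpleLib.isInvertible_structureModule (X := X.left) z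
    exact ⟨W, hz, ⟨(Scheme.Modules.restrictFunctor W.ι).mapIso hL'.some ≪≫ e⟩⟩
  have hL'i : PicF.IsInvertible L' := PicLib.PicM.isInvertible_of_tensor hL hI
  have hll : PicLib.PicM.of hL * PicLib.PicM.of hL'i = 1 :=
    (PicLib.PicM.of_mul hL hL'i).trans ((PicLib.PicM.of_eq_one_iff _).2 hL')
  let K := AlgebraicClosure k
  let s := Spec.map (CommRingCat.ofHom (algebraMap k K))
  let A' := (Over.pullback s).obj X
  letI : GrpObj A' := Functor.grpObjObj
  haveI : IsProper A'.hom := inferInstanceAs (IsProper (pullback.snd X.hom s))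
  haveI : GeometricallyIntegral A'.hom := inferInstanceAs (GeometricallyIntegral (pullback.snd X.hom s))
  let π : A'.left ⟶ X.left := pullback.fst X.hom s
  let P := PicLoc.isInvertible_pullback π hL
  let P' := PicLoc.isInvertible_pullback π hL'i
  have hll' : PicLib.PicM.of P * PicLib.PicM.of P' = 1 := by
    rw [← PicLib.PicM.pull_of π hL, ← PicLib.PicM.pull_of π hL'i, ← map_mul, hll, map_one]
  have hvan' : ∀ j : ℕ, j ≠ i → Subsingleton (Coh.HH A'.left ((Scheme.Modules.pullback π).obj L) j) :=
    fun j hj => (AbCohLib.subsingleton_HH_bc_iff k K X L hL j).1 (hvan j hj)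
  have hne' : Nontrivial (Coh.HH A'.left ((Scheme.Modules.pullback π).obj L) i) :=
    not_subsingleton_iff_nontrivial.1 fun h =>
      not_subsingleton_iff_nontrivial.2 hne ((AbCohLib.subsingleton_HH_bc_iff k K X L hL i).2 h)
  have heul := AbCohLib.eul_ne_zero_of_concentrated (A := A') P hvan' hne'
  rw [AbCohLib.eul_of P] at heul
  have hfin : Set.Finite {x : 𝟙_ (Over (Spec (CommRingCat.of K))) ⟶ A' |
      Nonempty ((Scheme.Modules.pullback (𝟙 A' * (toUnit A' ≫ x)).left).obj ((Scheme.Modules.pullback π).obj L) ≅
        (Scheme.Modules.pullback π).obj L)} := by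
    by_contra h
    exact heul (S17505.result K A' _ P h)
  have hg' : topologicalKrullDim A'.left = g := (DimLib.topologicalKrullDim_bc X.hom K).trans hg
  obtain ⟨a, a', hsum, ⟨hv, hn⟩, ⟨hv', hn'⟩⟩ := AbIdx19.exists_index_pair (A := A') P P' hll' hfin hg'
  obtain rfl : a = i := by
    by_contra h
    exact not_subsingleton_iff_nontrivial.2 hn (hvan' a h)
  refine ⟨by omega, fun j hj => (AbCohLib.subsingleton_HH_bc_iff k K X L' hL'i j).2 (hv' j (by omega)), ?_⟩
  rw [show g - a = a' by omega]
  exact not_subsingleton_iff_nontrivial.1 fun h =>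
    not_subsingleton_iff_nontrivial.2 hn' ((AbCohLib.subsingleton_HH_bc_iff k K X L' hL'i a').1 h)

end Groth.Agent.S17508
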