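import Groth.Statements.S17510
import Groth.Agent.AbCohLib.IndexRootsField
-- import your own Groth.Agent.* helpers here

set_option autoImplicit false
set_option linter.style.haveILetI false
set_option backward.isDefEq.respectTransparency.types false
universe u
open CategoryTheory CategoryTheory.Limits MonoidalCategory CartesianMonoidalCategory MonObj GrpObj AlgebraicGeometry
open AbVar

namespace Groth.Agent.S17510

open CategoryTheory CategoryTheory.Limits MonObj AlgebraicGeometry in
open Groth.Agent in
/-- Let X be an abelian variety over a field k (a proper, geometrically integral k-group scheme), let L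
be an invertible O_X-module with H^j(X, L) = 0 for j ≠ i and H^i(X, L) ≠ 0, H an ample invertible
O_X-module, and M an O_X-module isomorphic to L ⊗ H with H^j(X, M) = 0 for j ≠ i' and H^{i'}(X, M) ≠
0 (so L and L ⊗ H are non-degenerate with indices i and i'). Let Φ be a polynomial with rational
coefficients such that Φ(n) = χ(X, L ⊗ H^{⊗ n}) for every natural number n, and suppose Φ has
exactly one real root τ in the interval [0, 1], with τ ≠ 1. Then i ≤ i' + μ, where μ is the
multiplicity of τ as a root of Φ. (Non-degeneracy with index i is expressed by the equivalent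
condition that the cohomology is concentrated in degree i and non-zero there.) -/
theorem result
    (k : Type u) [Field k] (X : Over (Spec (CommRingCat.of k))) [GrpObj X] [IsProper X.hom] [GeometricallyIntegral X.hom]
    (L H M : X.left.Modules) (hL : PicF.IsInvertible L) (hH : CohB1.IsAmple H)
    (hM : Nonempty (M ≅ CohB1.tensorMod L H)) (i i' : ℕ)
    (hvan : ∀ j : ℕ, j ≠ i → Subsingleton (Coh.HH X.left L j)) (hne : Nontrivial (Coh.HH X.left L i))
    (hvan' : ∀ j : ℕ, j ≠ i' → Subsingleton (Coh.HH X.left M j)) (hne' : Nontrivial (Coh.HH X.left M i'))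
    (Φ : Polynomial ℚ)
    (hΦ : ∀ n : ℕ, Φ.eval (n : ℚ) =
      (@Curv2.euler k _ X.left ⟨X.hom⟩ (CohB1.tensorMod L (CohB1.tensorPow H n)) : ℚ))
    (τ : ℝ) (hτ0 : 0 ≤ τ) (hτ1 : τ < 1) (hτ : (Φ.map (algebraMap ℚ ℝ)).eval τ = 0)
    (huniq : ∀ t : ℝ, 0 ≤ t → t ≤ 1 → (Φ.map (algebraMap ℚ ℝ)).eval t = 0 → t = τ) :
    i ≤ i' + (Φ.map (algebraMap ℚ ℝ)).rootMultiplicity τ := by
  obtain ⟨eM⟩ := hM
  have hLH : PicF.IsInvertible (CohB1.tensorMod L H) := Groth.Agent.AmpleLib.isInvertible_tensorMod hL hH.1
  obtain ⟨⟨K, _, _, A, _, _, _, g, hg, l, l', hl, H', hH', h', hh, hi, he, hd, ⟨hi', he'⟩, hray⟩⟩ :=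
    Groth.Agent.AbCohLib.exists_rayData hL hvan hne hH hΦ
      (fun K _ _ A _ _ _ c => Groth.Agent.AbCohLib.IsIdx A c i' ∧ Groth.Agent.S17505.eul K A c ≠ 0)
      (fun _ _ _ => by
        rw [PicLib.PicM.of_mul hL hH.1]
        exact Groth.Agent.AbCohLib.isIdx_bc hLH
          (fun j hj => FlatMorStrat.subsingleton_HH_of_iso eM j (hvan' j hj))
          (not_subsingleton_iff_nontrivial.1 fun h => not_subsingleton_iff_nontrivial.2 hne'
            (FlatMorStrat.subsingleton_HH_of_iso eM.symm i' h)))
  have h0 : (Φ.map (algebraMap ℚ ℝ)).eval 0 ≠ 0 := fun e => he (by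
    have := hray 1 0 one_pos
    rw [pow_one, pow_zero, _root_.mul_one, Nat.cast_zero, zero_div, e, mul_zero, Int.cast_eq_zero] at this
    exact this)
  have hτpos : 0 < τ := lt_of_le_of_ne hτ0 fun e => h0 (e.symm ▸ hτ)
  exact Groth.Agent.AbCohLib.index_le_add_rootMultiplicity hg hl hH' hh hray (a := 1) (b := 0) (a' := 1) (b' := 1)
    one_pos one_pos (by simpa using hτpos) (by simpa using hτ1)
    (fun t t1 t2 e => huniq t (by simpa using t1) (by simpa using t2) e) (by simpa using hi) (by simpa using hi')

end Groth.Agent.S17510
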