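import Groth.Statements.S17511
import Groth.Agent.Coherent.CohBC.EulerFamily
import Groth.Agent.Coherent.CohBC.Relative
import Groth.Agent.PicLib.FiniteSetTriv
-- import your own Groth.Agent.* helpers here

set_option autoImplicit false
universe u
open CategoryTheory CategoryTheory.Limits MonoidalCategory CartesianMonoidalCategory MonObj GrpObj AlgebraicGeometry
open AbVar

namespace Groth.Agent.S17511

/-- In an algebraic family of line bundles the index cannot jump locally. Let X be an abelian variety
over a field k (a proper, geometrically integral k-group scheme), let T be a locally Noetherian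
k-scheme, M an invertible module on X ×_k T, and for each point t of T let M_t be the pull-back of M
to the fibre X ×_k Spec k(t). Suppose every M_t is non-degenerate, with index idx(t): H^j(X ×_k Spec
k(t), M_t) = 0 for j ≠ idx(t) and H^{idx(t)} ≠ 0. Then t ↦ idx(t) is a locally constant function on
T. (Non-degeneracy with index i is expressed by the equivalent condition that the cohomology is
concentrated in degree i and non-zero there.) -/
theorem result
    (k : Type u) [Field k] (X : Over (Spec (CommRingCat.of k))) [GrpObj X] [IsProper X.hom] [GeometricallyIntegral X.hom]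
    (T : Over (Spec (CommRingCat.of k))) [IsLocallyNoetherian T.left]
    (M : (X ⊗ T).left.Modules) (hM : PicF.IsInvertible M)
    (idx : ↥T.left → ℕ)
    (hidx : ∀ t : ↥T.left,
      (∀ j : ℕ, j ≠ idx t →
        Subsingleton (Coh.HH (pullback (snd X T).left (T.left.fromSpecResidueField t))
          ((Scheme.Modules.pullback (pullback.fst (snd X T).left (T.left.fromSpecResidueField t))).obj M) j)) ∧
      Nontrivial (Coh.HH (pullback (snd X T).left (T.left.fromSpecResidueField t))
          ((Scheme.Modules.pullback (pullback.fst (snd X T).left (T.left.fromSpecResidueField t))).obj M) (idx t))) :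
    IsLocallyConstant idx := by
  classical
  haveI : IsProper (snd X T).left := MorphismProperty.pullback_snd (P := @IsProper) X.hom T.hom inferInstance
  haveI : Flat X.hom := inferInstance
  haveI : Flat (snd X T).left := MorphismProperty.pullback_snd (P := @Flat) X.hom T.hom inferInstance
  haveI : IsLocallyNoetherian (X ⊗ T).left := LocallyOfFiniteType.isLocallyNoetherian (snd X T).left
  have hMF : FlatMod.IsFinLocFree M := fun x =>
    let ⟨U, hx, e⟩ := Groth.Agent.PicLib.isFinLocFreeOfRank_one hM x; ⟨U, 1, hx, e⟩
  have hc : Coh.IsCoh M := Groth.Agent.Coherent.CohBC.isCoh_of_isFinLocFree hMF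
  have hfl : FlatMod.IsFlatOver (snd X T).left M :=
    Groth.Agent.Coherent.CohBC.isFlatOver_of_isFinLocFree _ hMF
  have h0 : ∀ (z : T.left) (j : ℕ), CohIII.fiberRank (snd X T).left M j z = 0 ↔ j ≠ idx z := by
    intro z j
    rw [← Groth.Agent.Coherent.CohBC.subsingleton_fiberH_iff_fiberRank _ M hc z j]
    refine ⟨fun h hj => ?_, fun hj => (hidx z).1 j hj⟩
    subst hj
    exact not_subsingleton_iff_nontrivial.2 (hidx z).2 h
  rw [IsLocallyConstant.iff_exists_open]
  intro t
  obtain ⟨W₁, hW, htW, -⟩ := TopologicalSpace.Opens.isBasis_iff_nbhd.mp T.left.isBasis_affineOpens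
    (TopologicalSpace.Opens.mem_top t)
  let W : T.left.Opens := W₁
  replace hW : IsAffineOpen W := hW
  haveI : IsNoetherianRing Γ(T.left, W) := IsLocallyNoetherian.component_noetherian ⟨W, hW⟩
  obtain ⟨P, hP, -, ⟨i₀, hi₀⟩, hd, -⟩ := Groth.Agent.Coherent.CohBC.exists_localComplex (snd X T).left M hc hfl hW
  let N : ℕ := (-i₀).toNat + 2
  refine ⟨(W : Set T.left) ∩ ⋂ j ∈ (Finset.range N).erase (idx t),
      {z | CohIII.fiberRank (snd X T).left M j z = 0}, ?_, ⟨htW, ?_⟩, ?_⟩
  · exact W.isOpen.inter (isOpen_biInter_finset fun j _ =>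
      Groth.Agent.Coherent.CohBC.isOpen_fiberRank_eq_zero _ M hc hfl j)
  · exact Set.mem_iInter₂.2 fun j hj => (h0 t j).2 (Finset.ne_of_mem_erase hj)
  · rintro z ⟨hzW, hz⟩
    by_contra hne
    by_cases hlt : idx z < N
    · exact (h0 z (idx z)).1 (Set.mem_iInter₂.1 hz (idx z) (Finset.mem_erase.2 ⟨hne, Finset.mem_range.2 hlt⟩)) rfl
    · refine (h0 z (idx z)).1 ?_ rfl
      rw [hd _ z hzW]
      exact Groth.Agent.Coherent.CohBC.dRank_eq_zero_of_isZero P hP _ _ (hi₀ _ (by omega)) (hi₀ _ (by omega))

end Groth.Agent.S17511
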