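import Groth.Statements.S17512
import Groth.Agent.CommAlg4.CommPairing
-- import your own Groth.Agent.* helpers here

set_option autoImplicit false
universe u
open ThetaRep

namespace Groth.Agent.S17512

/-- For the group of k-points of a non-degenerate theta group with constant K, let k be an algebraically
closed field and Γ a group given with an injective homomorphism ι from kˣ onto the centre of Γ such
that K = Γ/ι(kˣ) is finite and commutative (all commutators lie in ι(kˣ)) of order prime to the
characteristic exponent of k — the group of k-points of a non-degenerate theta group 1 → G_m → G → K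
→ 1 with rank(K) prime to char(k). Subgroups of K correspond to subgroups H of Γ containing ι(kˣ);
such an H is totally isotropic for the commutator pairing exactly when it is commutative, and its
orthogonal corresponds to the centralizer of H. For a subgroup H ⊇ ι(kˣ) the following are
equivalent: (i) H is commutative and maximal among commutative subgroups of Γ; (ii) H is commutative
and [H : ι(kˣ)]² = [Γ : ι(kˣ)]; (iii) H is its own centralizer. (The published lemma is for an
arbitrary non-degenerate theta group scheme, where (iii) ⇔ (ii) ⇒ (i) always and (i) ⇒ (iii) needs k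
algebraically closed; this row is the case of the group of k-points with K constant.) -/
theorem result
    (k : Type u) [Field k] [IsAlgClosed k]
    (Γ : Type u) [Group Γ] (ι : kˣ →* Γ) (hι : Function.Injective ι)
    (hcent : ι.range = Subgroup.center Γ) (hcomm : commutator Γ ≤ ι.range)
    [Finite (Γ ⧸ ι.range)] (hcop : (Nat.card (Γ ⧸ ι.range)).Coprime (ringExpChar k))
    (H : Subgroup Γ) (hH : ι.range ≤ H) :
    List.TFAE [
      IsMulCommutative H ∧ ∀ H' : Subgroup Γ, IsMulCommutative H' → H ≤ H' → H' = H,
      IsMulCommutative H ∧ (ι.range.relIndex H) ^ 2 = ι.range.index,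
      H = Subgroup.centralizer (H : Set Γ)] := by
  classical
  haveI : ι.range.Normal := by rw [hcent]; infer_instance
  haveI : ι.range.FiniteIndex := Subgroup.finiteIndex_of_finite_quotient
  haveI hHfi : H.FiniteIndex := Subgroup.finiteIndex_of_le hH
  have hidx := Groth.Agent.CommAlg4.CommPairing.index_centralizer_eq ι hι hcent hcomm H hH
  have hcomH : IsMulCommutative H ↔ H ≤ Subgroup.centralizer (H : Set Γ) := by
    constructor
    · intro h x hx
      exact Subgroup.mem_centralizer_iff.2 fun y hy =>
        congrArg Subtype.val (h.is_comm.comm (⟨y, hy⟩ : H) ⟨x, hx⟩)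
    · intro h
      exact ⟨⟨fun a b => Subtype.ext ((Subgroup.mem_centralizer_iff.1 (h b.2)) a.1 a.2)⟩⟩
  have hprod := Subgroup.relIndex_mul_index hH
  tfae_have 1 → 3 := by
    rintro ⟨h, hmax⟩
    refine le_antisymm (hcomH.1 h) fun x hx => ?_
    have hc : IsMulCommutative (Subgroup.closure ((H : Set Γ) ∪ {x})) := by
      refine Subgroup.isMulCommutative_closure ?_
      rintro a (ha | ha) b (hb | hb)
      · exact (Subgroup.mem_centralizer_iff.1 (hcomH.1 h hb)) a ha
      · rw [Set.mem_singleton_iff] at hb; subst hb
        exact (Subgroup.mem_centralizer_iff.1 hx) a ha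
      · rw [Set.mem_singleton_iff] at ha; subst ha
        exact ((Subgroup.mem_centralizer_iff.1 hx) b hb).symm
      · rw [Set.mem_singleton_iff] at ha hb; rw [ha, hb]
    have := hmax _ hc (fun y hy => Subgroup.subset_closure (Or.inl hy))
    rw [← this]
    exact Subgroup.subset_closure (Or.inr rfl)
  tfae_have 3 → 1 := by
    intro h
    refine ⟨hcomH.2 h.le, fun H' h' hle => le_antisymm (fun x hx => ?_) hle⟩
    rw [h]
    exact Subgroup.mem_centralizer_iff.2 fun y hy =>
      congrArg Subtype.val (h'.is_comm.comm (⟨y, hle hy⟩ : H') ⟨x, hx⟩)
  tfae_have 3 → 2 := by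
    intro h
    refine ⟨hcomH.2 h.le, ?_⟩
    rw [← h] at hidx
    rw [sq, ← hprod, hidx]
  tfae_have 2 → 3 := by
    rintro ⟨h, hsq⟩
    have hle := hcomH.1 h
    have h0 : ι.range.relIndex H ≠ 0 := fun e => by
      have := ι.range.index_ne_zero_of_finite
      rw [← hsq, e] at this
      exact this (by norm_num)
    rw [sq, ← hprod] at hsq
    have hHi : H.index = ι.range.relIndex H := (Nat.eq_of_mul_eq_mul_left (Nat.pos_of_ne_zero h0) hsq).symm
    refine le_antisymm hle (Subgroup.relIndex_eq_one.1 ?_)
    have := Subgroup.relIndex_mul_index hle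
    rw [hidx, hHi] at this
    exact Nat.eq_of_mul_eq_mul_right (Nat.pos_of_ne_zero h0) (by rw [this, one_mul])
  tfae_finish

end Groth.Agent.S17512
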