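import Groth.Statements.S17516
import Groth.Agent.AbDualLib.LambdaPullback
-- import your own Groth.Agent.* helpers here

set_option autoImplicit false
set_option linter.style.haveILetI false
set_option backward.isDefEq.respectTransparency.types false
universe u
open CategoryTheory CategoryTheory.Limits MonoidalCategory CartesianMonoidalCategory MonObj GrpObj AlgebraicGeometry
open AbVar

namespace Groth.Agent.S17516

open CategoryTheory CategoryTheory.Limits MonObj AlgebraicGeometry in
open Groth.Agent in
/-- Let X and Y be abelian varieties over a field k (proper, geometrically integral, commutative k-group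
schemes) with given dual abelian varieties (X^t, φ_X) and (Y^t, φ_Y) for the fppf topology, let f :
X → Y be an isogeny — a homomorphism which is finite, flat and surjective — of constant degree d,
with transpose f^t : Y^t → X^t, and let λ : Y → Y^t be a polarization of Y (a homomorphism whose
base change to every algebraically closed field is the homomorphism φ_M attached to some ample
invertible module M) which is finite and flat of constant degree e. Then f^*λ := f^t ∘ λ ∘ f : X →
X^t is a polarization of X, and it is finite and flat of constant degree d² · e = deg(f)² · deg(λ). -/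
theorem result
    (k : Type u) [Field k] (X Xt Y Yt : Over (Spec (CommRingCat.of k)))
    [GrpObj X] [IsCommMonObj X] [IsProper X.hom] [GeometricallyIntegral X.hom] [GrpObj Xt] [IsCommMonObj Xt] [IsProper Xt.hom] [GeometricallyIntegral Xt.hom]
    [GrpObj Y] [IsCommMonObj Y] [IsProper Y.hom] [GeometricallyIntegral Y.hom] [GrpObj Yt] [IsCommMonObj Yt] [IsProper Yt.hom] [GeometricallyIntegral Yt.hom]
    (φX : AgPol.DualMap X Xt) (hX : AbDual.IsDualAV Scheme.fppfPrecoverage X Xt φX)
    (φY : AgPol.DualMap Y Yt) (hY : AbDual.IsDualAV Scheme.fppfPrecoverage Y Yt φY)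
    (f : X ⟶ Y) [IsMonHom f] [IsFinite f.left] [Flat f.left] [Surjective f.left]
    (d : ℕ) (hd : ∀ y : ↥Y.left, Scheme.Hom.finrank f.left y = d)
    (ft : Yt ⟶ Xt) (hft : AbDual.IsTranspose f φX φY ft)
    (lam : Y ⟶ Yt) (hlam : AgPol.IsPolarization Y Yt φY lam)
    [IsFinite lam.left] [Flat lam.left] (e : ℕ) (he : ∀ y : ↥Yt.left, Scheme.Hom.finrank lam.left y = e) :
    AgPol.IsPolarization X Xt φX (f ≫ lam ≫ ft) ∧ IsFinite (f ≫ lam ≫ ft).left ∧ Flat (f ≫ lam ≫ ft).left ∧
      ∀ x : ↥Xt.left, Scheme.Hom.finrank (f ≫ lam ≫ ft).left x = d ^ 2 * e := by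
  haveI := AbDualLib.geometricallyConnected_var X
  haveI := AbDualLib.geometricallyConnected_var Y
  haveI := AbDualLib.geometricallyConnected_var Xt
  haveI := AbDualLib.geometricallyConnected_var Yt
  haveI := AbVarLib.smooth_of_geometricallyReduced X
  haveI := AbVarLib.smooth_of_geometricallyReduced Y
  haveI := AbVarLib.smooth_of_geometricallyReduced Xt
  haveI := AbVarLib.smooth_of_geometricallyReduced Yt
  haveI := AbDualLib.isMonHom_transpose hX hY hft
  obtain ⟨h1, h2, h3⟩ := AbDualLib.isogeny_transpose hX hY hft
  haveI := h1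
  haveI := h2
  haveI := hlam.1
  refine ⟨⟨inferInstance, fun Ω _ _ t => ?_⟩, ?_, ?_, fun x => ?_⟩
  · obtain ⟨L, hL, hLl⟩ := hlam.2 Ω t
    haveI : IsProper (Red.bc t Y).hom := inferInstanceAs (IsProper (pullback.snd Y.hom t))
    haveI : IsProper (Red.bc t Yt).hom := inferInstanceAs (IsProper (pullback.snd Yt.hom t))
    haveI : GeometricallyIntegral (Red.bc t Y).hom := inferInstanceAs (GeometricallyIntegral (pullback.snd Y.hom t))
    haveI : GeometricallyIntegral (Red.bc t Yt).hom := inferInstanceAs (GeometricallyIntegral (pullback.snd Yt.hom t))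
    haveI : IsMonHom ((Over.pullback t).map f) := Functor.map.instIsMonHom _ _ _
    haveI : IsFinite ((Over.pullback t).map f).left := AbVarLib.prop_map @IsFinite t f inferInstance
    refine ⟨(Scheme.Modules.pullback ((Over.pullback t).map f).left).obj L,
      AmpleLib.isAmple_pullback_of_isAffineHom _ hL, ?_⟩
    have h := AbDualLib.isLambda_pullback (AbDualLib.isDualAV_bcDual (k := t) hX)
      (AbDualLib.isDualAV_bcDual (k := t) hY) ((Over.pullback t).map f) (AbDualLib.isTranspose_bcDual hft) hL.1 hLl
    rw [Functor.map_comp, Functor.map_comp]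
    exact h
  · rw [Over.comp_left, Over.comp_left]
    infer_instance
  · rw [Over.comp_left, Over.comp_left]
    infer_instance
  · have hd' : ∀ y, Scheme.Hom.finrank f.left y = d := hd
    rw [Over.comp_left, Over.comp_left, AbCubeLib.finrank_comp f.left (lam.left ≫ ft.left) hd',
      AbCubeLib.finrank_comp lam.left ft.left he, AbDualLib.finrank_eq_at_origin ft x,
      AbDualLib.finrank_transpose_eq hX hY hft, hd]
    ring

end Groth.Agent.S17516
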