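import Groth.Statements.S17517
import Mathlib.Analysis.InnerProductSpace.Convex
import Mathlib.LinearAlgebra.Dual.Lemmas
import Mathlib.Algebra.Module.ZLattice.Basic

set_option autoImplicit false
universe u
open GIT

namespace Groth.Agent.S17517

/-- Let `E` be a finite-dimensional real inner product space and `L` a full lattice in `E` (a discrete
subgroup spanning `E`) on which the inner product is integer valued; let `F` and `G` be nonempty
finite sets of real linear functionals on `E` taking integer values on `L`, with `f_min v = min_{f ∈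
F} f v` and `g_min v = min_{g ∈ G} g v`. If some vector `v` has `f_min v ≥ 0` and `g_min v > 0`,
then on the set `C_F` of nonzero `v` with `f_min v ≥ 0` the function `v ↦ g_min v / ‖v‖` attains a
greatest value `M`, and there is exactly one lattice vector `v₀ ∈ C_F` with `g_min v₀ / ‖v₀‖ = M` of
which every lattice vector `v ∈ C_F` with `g_min v / ‖v‖ = M` is an integer multiple. -/
theorem result
    (E : Type u) [NormedAddCommGroup E] [InnerProductSpace ℝ E] [FiniteDimensional ℝ E]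
    (L : Submodule ℤ E) [DiscreteTopology L] [IsZLattice ℝ L]
    (hint : ∀ x ∈ L, ∀ y ∈ L, ∃ n : ℤ, inner ℝ x y = (n : ℝ))
    (F G : Finset (Module.Dual ℝ E)) (hF : F.Nonempty) (hG : G.Nonempty)
    (hFi : ∀ f ∈ F, ∀ x ∈ L, ∃ n : ℤ, f x = (n : ℝ)) (hGi : ∀ g ∈ G, ∀ x ∈ L, ∃ n : ℤ, g x = (n : ℝ))
    (hpos : ∃ v : E, 0 ≤ F.inf' hF (fun f => f v) ∧ 0 < G.inf' hG (fun g => g v)) :
    ∃ M : ℝ, IsGreatest ((fun v => G.inf' hG (fun g => g v) / ‖v‖) ''
        {v : E | v ≠ 0 ∧ 0 ≤ F.inf' hF (fun f => f v)}) M ∧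
      ∃! v₀ : E, v₀ ∈ L ∧ v₀ ≠ 0 ∧ 0 ≤ F.inf' hF (fun f => f v₀) ∧
        G.inf' hG (fun g => g v₀) / ‖v₀‖ = M ∧
        ∀ v ∈ L, v ≠ 0 → 0 ≤ F.inf' hF (fun f => f v) → G.inf' hG (fun g => g v) / ‖v‖ = M →
          ∃ n : ℤ, v = n • v₀ := by
  classical
  obtain ⟨v₁, hv₁F, hv₁G⟩ := hpos
  let g : E → ℝ := fun v => G.inf' hG (fun g => g v)
  have hgc : Continuous g :=
    Continuous.finset_inf'_apply hG fun f _ => f.continuous_of_finiteDimensional
  have hFc : Continuous fun v : E => F.inf' hF (fun f => f v) :=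
    Continuous.finset_inf'_apply hF fun f _ => f.continuous_of_finiteDimensional
  have hgle : ∀ f ∈ G, ∀ v : E, g v ≤ f v := fun f hf v => Finset.inf'_le _ hf
  have hFle : ∀ (v : E), 0 ≤ F.inf' hF (fun f => f v) ↔ ∀ f ∈ F, 0 ≤ f v := fun v => Finset.le_inf'_iff _ _
  have hgsmul : ∀ t : ℝ, 0 ≤ t → ∀ v : E, g (t • v) = t * g v := fun t ht v => by
    refine le_antisymm ?_ ((Finset.le_inf'_iff _ _).2 fun f hf => by
      rw [map_smul, smul_eq_mul]; exact mul_le_mul_of_nonneg_left (hgle f hf v) ht)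
    obtain ⟨f, hf, hfe⟩ := Finset.exists_mem_eq_inf' hG (fun g => g v)
    calc g (t • v) ≤ f (t • v) := hgle f hf _
      _ = t * g v := by rw [map_smul, smul_eq_mul, ← hfe]
  have hg0 : g 0 = 0 := by simpa using hgsmul 0 le_rfl 0
  have hv₁ : v₁ ≠ 0 := fun h => by
    have h1 : 0 < g v₁ := hv₁G
    rw [h, hg0] at h1
    exact lt_irrefl _ h1
  let K : Set E := Metric.sphere (0 : E) 1 ∩ {v | 0 ≤ F.inf' hF (fun f => f v)}
  have hK : IsCompact K := (isCompact_sphere _ _).inter_right (isClosed_le continuous_const hFc)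
  have hnorm : ∀ v : E, v ≠ 0 → 0 ≤ F.inf' hF (fun f => f v) → (‖v‖⁻¹ • v) ∈ K ∧ g (‖v‖⁻¹ • v) = g v / ‖v‖ :=
    fun v hv hF' => ⟨⟨by simp [norm_smul, inv_mul_cancel₀ (norm_ne_zero_iff.2 hv)],
      (hFle _).2 fun f hf => by
        rw [map_smul, smul_eq_mul]; exact mul_nonneg (inv_nonneg.2 (norm_nonneg _)) ((hFle v).1 hF' f hf)⟩,
      by rw [hgsmul _ (inv_nonneg.2 (norm_nonneg _)), div_eq_inv_mul]⟩
  obtain ⟨u, ⟨hu1, huF⟩, humax⟩ := hK.exists_isMaxOn ⟨_, (hnorm v₁ hv₁ hv₁F).1⟩ hgc.continuousOn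
  have hu1' : ‖u‖ = 1 := by simpa using hu1
  let M := g u
  have hmax : ∀ v : E, v ≠ 0 → 0 ≤ F.inf' hF (fun f => f v) → g v ≤ M * ‖v‖ := fun v hv hF' => by
    have h : g (‖v‖⁻¹ • v) ≤ M := humax (hnorm v hv hF').1
    rw [(hnorm v hv hF').2, div_le_iff₀ (norm_pos_iff.2 hv)] at h
    exact h
  have hM : 0 < M := by
    by_contra hc
    push Not at hc
    have h := hmax v₁ hv₁ hv₁F
    have h1 : 0 < g v₁ := hv₁G
    nlinarith [norm_nonneg v₁]
  have hu0 : u ≠ 0 := fun h => by rw [h, norm_zero] at hu1'; exact zero_ne_one hu1'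
  have hgreat : IsGreatest ((fun v => G.inf' hG (fun g => g v) / ‖v‖) ''
      {v : E | v ≠ 0 ∧ 0 ≤ F.inf' hF (fun f => f v)}) M := by
    refine ⟨⟨u, ⟨hu0, huF⟩, by show g u / ‖u‖ = _; rw [hu1', div_one]⟩, ?_⟩
    rintro _ ⟨v, ⟨hv, hF'⟩, rfl⟩
    show g v / ‖v‖ ≤ M
    rw [div_le_iff₀ (norm_pos_iff.2 hv)]
    exact hmax v hv hF'
  -- the maximizing direction is unique
  have huniq : ∀ v : E, v ≠ 0 → 0 ≤ F.inf' hF (fun f => f v) → g v / ‖v‖ = M → v = ‖v‖ • u := by
    intro v hv hF' hvM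
    obtain ⟨⟨hw1, hwF⟩, hwg⟩ := hnorm v hv hF'
    have hw1' : ‖‖v‖⁻¹ • v‖ = 1 := by simpa using hw1
    suffices h : ‖v‖⁻¹ • v = u by rw [← h, smul_smul, mul_inv_cancel₀ (norm_ne_zero_iff.2 hv), one_smul]
    by_contra hne
    have hlt : ‖‖v‖⁻¹ • v + u‖ < 2 :=
      lt_of_lt_of_eq (norm_add_lt_of_not_sameRay fun h => hne (h.norm_eq_iff.1 (hw1'.trans hu1'.symm)))
        (by rw [hw1', hu1']; norm_num)
    have hsum : ∀ f ∈ G, M + M ≤ f (‖v‖⁻¹ • v + u) := fun f hf => by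
      rw [map_add]
      exact add_le_add (le_trans (le_of_eq (hwg.trans hvM).symm) (hgle f hf _)) (hgle f hf _)
    have h2 : M + M ≤ g (‖v‖⁻¹ • v + u) := (Finset.le_inf'_iff _ _).2 hsum
    have hne0 : ‖v‖⁻¹ • v + u ≠ 0 := fun h => by
      rw [h, hg0] at h2
      linarith
    have h3 := hmax _ hne0 ((hFle _).2 fun f hf => by
      rw [map_add]; exact add_nonneg ((hFle _).1 hwF f hf) ((hFle _).1 huF f hf))
    nlinarith
  -- the scaled maximizer
  let p : E := M⁻¹ • u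
  have hgp : g p = 1 := by rw [hgsmul _ (inv_nonneg.2 hM.le), inv_mul_cancel₀ hM.ne']
  have hFp : ∀ f ∈ F, 0 ≤ f p := fun f hf => by
    rw [map_smul, smul_eq_mul]; exact mul_nonneg (inv_nonneg.2 hM.le) ((hFle u).1 huF f hf)
  have hnp : ‖p‖ = M⁻¹ := by rw [norm_smul, hu1', mul_one, Real.norm_of_nonneg (inv_nonneg.2 hM.le)]
  have hp0 : p ≠ 0 := fun h => by rw [h, hg0] at hgp; exact zero_ne_one hgp
  let A : Finset (Module.Dual ℝ E) := (F.filter fun f => f p = 0) ∪ G.filter fun f => f p = 1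
  have horth : ∀ w : E, (∀ f ∈ A, f w = 0) → inner ℝ p w = (0 : ℝ) := by
    intro w hw
    let U : Set ℝ := {t | (∀ f ∈ F, f p = 0 ∨ 0 < f p + t * f w) ∧ (∀ f ∈ G, f p = 1 ∨ 1 < f p + t * f w)}
    have hU : U ∈ nhds (0 : ℝ) := by
      have h1 : ∀ f ∈ F, ∀ᶠ t in nhds (0 : ℝ), f p = 0 ∨ 0 < f p + t * f w := fun f hf => by
        rcases (hFp f hf).eq_or_lt with h | h
        · exact Filter.Eventually.of_forall fun _ => Or.inl h.symm
        · have hc : ContinuousAt (fun t : ℝ => f p + t * f w) 0 := by fun_prop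
          exact (continuousAt_const.eventually_lt hc (by simpa using h)).mono fun t ht => Or.inr ht
      have h2 : ∀ f ∈ G, ∀ᶠ t in nhds (0 : ℝ), f p = 1 ∨ 1 < f p + t * f w := fun f hf => by
        have hle : (1 : ℝ) ≤ f p := hgp ▸ hgle f hf p
        rcases hle.eq_or_lt with h | h
        · exact Filter.Eventually.of_forall fun _ => Or.inl h.symm
        · have hc : ContinuousAt (fun t : ℝ => f p + t * f w) 0 := by fun_prop
          exact (continuousAt_const.eventually_lt hc (by simpa using h)).mono fun t ht => Or.inr ht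
      exact Filter.Eventually.and ((Filter.eventually_all_finset F).2 h1) ((Filter.eventually_all_finset G).2 h2)
    have hsq : ∀ t ∈ U, ‖p‖ ^ 2 ≤ ‖p + t • w‖ ^ 2 := by
      intro t ht
      have hg1 : 1 ≤ g (p + t • w) := (Finset.le_inf'_iff _ _).2 fun f hf => by
        rw [map_add, f.map_smul t w, smul_eq_mul]
        rcases ht.2 f hf with h | h
        · rw [hw f (Finset.mem_union_right _ (Finset.mem_filter.2 ⟨hf, h⟩)), h]; simp
        · exact h.le
      have hne : p + t • w ≠ 0 := fun h => by rw [h, hg0] at hg1; linarith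
      have h3 := hmax _ hne ((hFle _).2 fun f hf => by
        rw [map_add, f.map_smul t w, smul_eq_mul]
        rcases ht.1 f hf with h | h
        · rw [hw f (Finset.mem_union_left _ (Finset.mem_filter.2 ⟨hf, h⟩)), h]; simp
        · exact h.le)
      have h4 : M⁻¹ ≤ ‖p + t • w‖ := by
        rw [inv_eq_one_div, div_le_iff₀ hM]; linarith
      rw [hnp]
      exact pow_le_pow_left₀ (inv_nonneg.2 hM.le) h4 2
    by_contra hne
    obtain ⟨ε, hε, hball⟩ := Metric.mem_nhds_iff.1 hU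
    have hi : 0 < |inner ℝ p w| := abs_pos.2 hne
    let W := ‖w‖ ^ 2 + 1
    have hW : 0 < W := by positivity
    let s := min (1 / W) (ε / (2 * |inner ℝ p w|))
    have hs : 0 < s := lt_min (by positivity) (by positivity)
    have hmem : -(s * inner ℝ p w) ∈ U := hball (by
      rw [mem_ball_zero_iff, Real.norm_eq_abs, abs_neg, abs_mul, abs_of_pos hs]
      calc s * |inner ℝ p w| ≤ ε / (2 * |inner ℝ p w|) * |inner ℝ p w| :=
            mul_le_mul_of_nonneg_right (min_le_right _ _) hi.le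
        _ = ε / 2 := by field_simp
        _ < ε := half_lt_self hε)
    have h5 := hsq _ hmem
    rw [norm_add_sq_real, real_inner_smul_right, norm_smul (-(s * inner ℝ p w)) w, Real.norm_eq_abs, mul_pow (|-(s * inner ℝ p w)|), sq_abs] at h5
    have h6 : s * ‖w‖ ^ 2 ≤ 1 := by
      calc s * ‖w‖ ^ 2 ≤ 1 / W * ‖w‖ ^ 2 := mul_le_mul_of_nonneg_right (min_le_left _ _) (sq_nonneg _)
        _ ≤ 1 / W * W := mul_le_mul_of_nonneg_left (by simp [W]) (by positivity)
        _ = 1 := by field_simp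
    have h7 : 0 < s * inner ℝ p w ^ 2 := mul_pos hs (by positivity)
    have h8 := mul_le_mul_of_nonneg_left h6 h7.le
    nlinarith [h5, h7, h8]
  -- Lagrange multipliers
  have hker : (⨅ i : A, LinearMap.ker (i : Module.Dual ℝ E)) ≤ LinearMap.ker (innerₗ E p) := fun w hw => by
    simp only [Submodule.mem_iInf, LinearMap.mem_ker] at hw
    rw [LinearMap.mem_ker, innerₗ_apply_apply]
    exact horth w fun f hf => hw ⟨f, hf⟩
  obtain ⟨lam, hlam⟩ := (Submodule.mem_span_range_iff_exists_fun ℝ).1 (mem_span_of_iInf_ker_le_ker hker)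
  let b := (Module.Free.chooseBasis ℤ L).ofZLatticeBasis ℝ L
  have hbL : ∀ j, b j ∈ L := fun j => by
    rw [Module.Basis.ofZLatticeBasis_apply]; exact Submodule.coe_mem _
  haveI : Module.Finite ℤ L := ZLattice.module_finite ℝ L
  obtain ⟨ρ, hρ⟩ := LinearMap.exists_leftInverse_of_injective (Algebra.linearMap ℚ ℝ)
    (LinearMap.ker_eq_bot.2 (algebraMap ℚ ℝ).injective)
  have hρint : ∀ (z : ℝ) (n : ℤ), (ρ (z * n) : ℝ) = (ρ z : ℝ) * n := fun z n => by
    rw [show z * (n : ℝ) = n • z by rw [zsmul_eq_mul, mul_comm], map_zsmul, zsmul_eq_mul]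
    push_cast
    ring
  have hρn : ∀ n : ℤ, (ρ (n : ℝ) : ℝ) = n := fun n => by
    have h := LinearMap.congr_fun hρ (n : ℚ)
    simp only [LinearMap.comp_apply, Algebra.linearMap_apply, map_intCast, LinearMap.id_apply] at h
    rw [h]; norm_cast
  let x : _ → ℝ := fun l => b.repr p l
  let q : E := ∑ l, (ρ (x l) : ℝ) • b l
  have hpx : p = ∑ l, x l • b l := (b.sum_repr p).symm
  have hqint : ∀ φ : Module.Dual ℝ E, (∀ y ∈ L, ∃ n : ℤ, φ y = n) → φ q = (ρ (φ p) : ℝ) := fun φ hφ => by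
    simp only [q]
    conv_rhs => rw [hpx]
    simp only [map_sum, map_smul, smul_eq_mul, Rat.cast_sum]
    refine Finset.sum_congr rfl fun l _ => ?_
    obtain ⟨n, hn⟩ := hφ _ (hbL l)
    rw [hn, hρint]
  have hAint : ∀ f ∈ A, ∀ y ∈ L, ∃ n : ℤ, f y = n := fun f hf => by
    rcases Finset.mem_union.1 hf with h | h
    · exact hFi f (Finset.mem_filter.1 h).1
    · exact hGi f (Finset.mem_filter.1 h).1
  have hAq : ∀ f ∈ A, f q = f p := fun f hf => by
    rw [hqint f (hAint f hf)]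
    rcases Finset.mem_union.1 hf with h | h <;> rw [(Finset.mem_filter.1 h).2]
    · simpa using hρn 0
    · simpa using hρn 1
  have hqA : innerₗ E q = ∑ i : A, (ρ (lam i) : ℝ) • (i : Module.Dual ℝ E) := b.ext fun j => by
    rw [innerₗ_apply_apply, real_inner_comm, ← innerₗ_apply_apply, hqint _ fun y hy => hint _ (hbL j) _ hy,
      innerₗ_apply_apply, real_inner_comm, ← innerₗ_apply_apply, ← hlam]
    simp only [LinearMap.sum_apply, LinearMap.smul_apply, smul_eq_mul, map_sum, Rat.cast_sum]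
    refine Finset.sum_congr rfl fun i _ => ?_
    obtain ⟨n, hn⟩ := hAint i i.2 _ (hbL j)
    rw [hn, hρint]
  have hpq : q = p := by
    have hz : ∀ f ∈ A, f (q - p) = 0 := fun f hf => by rw [map_sub, hAq f hf, sub_self]
    have h1 : inner ℝ q (q - p) = (0 : ℝ) := by
      rw [← innerₗ_apply_apply, hqA, LinearMap.sum_apply]
      exact Finset.sum_eq_zero fun i _ => by rw [LinearMap.smul_apply, hz i i.2, smul_zero]
    have h2 : inner ℝ (q - p) (q - p) = (0 : ℝ) := by rw [inner_sub_left, h1, horth _ hz, sub_zero]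
    exact sub_eq_zero.1 (inner_self_eq_zero.1 h2)
  -- a lattice point on the ray
  let D : ℕ := ∏ l, (ρ (x l)).den
  have hD : 0 < (D : ℝ) := by exact_mod_cast Finset.prod_pos fun l _ => (ρ (x l)).den_pos
  have hDp : (D : ℝ) • p ∈ L := by
    rw [← hpq, Finset.smul_sum]
    refine Submodule.sum_mem _ fun l _ => ?_
    obtain ⟨e, he⟩ : (ρ (x l)).den ∣ D := Finset.dvd_prod_of_mem _ (Finset.mem_univ l)
    rw [smul_smul]
    have h : (D : ℝ) * (ρ (x l) : ℝ) = (((e : ℤ) * (ρ (x l)).num : ℤ) : ℝ) := by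
      have h2 : ((ρ (x l)).den : ℚ) * ρ (x l) = (ρ (x l)).num := by rw [mul_comm]; exact Rat.mul_den_eq_num _
      have h3 : ((D : ℚ) * ρ (x l)) = (((e : ℤ) * (ρ (x l)).num : ℤ) : ℚ) := by
        rw [he]; push_cast; rw [mul_comm ((ρ (x l)).den : ℚ), mul_assoc, h2]
      have h4 := congrArg (Rat.cast : ℚ → ℝ) h3
      push_cast at h4 ⊢
      exact h4
    rw [h, Int.cast_smul_eq_zsmul]
    exact L.smul_mem _ (hbL l)
  obtain ⟨j, hj⟩ : ∃ j, x j ≠ 0 := by
    by_contra hc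
    push Not at hc
    exact hp0 (hpx.trans (Finset.sum_eq_zero fun l _ => by rw [hc l, zero_smul]))
  let H : AddSubgroup ℤ :=
    { carrier := {n | ((n : ℝ) / x j) • p ∈ L}
      zero_mem' := by simp
      add_mem' := fun {a c} ha hc => by
        show (((a + c : ℤ) : ℝ) / x j) • p ∈ L
        rw [Int.cast_add, add_div, add_smul]; exact L.add_mem ha hc
      neg_mem' := fun {a} ha => by
        show (((-a : ℤ) : ℝ) / x j) • p ∈ L
        rw [Int.cast_neg, neg_div, neg_smul]; exact L.neg_mem ha }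
  have hcoord : ∀ t : ℝ, t • p ∈ L → ∃ n : ℤ, n ∈ H ∧ t = (n : ℝ) / x j := fun t ht => by
    have hr := Module.Basis.ofZLatticeBasis_repr_apply ℝ L (Module.Free.chooseBasis ℤ L) ⟨_, ht⟩ j
    change b.repr (t • p) j = _ at hr
    rw [map_smul, Finsupp.smul_apply, smul_eq_mul] at hr
    refine ⟨_, ?_, (eq_div_iff hj).2 hr⟩
    show _ • p ∈ L
    rwa [← (eq_div_iff hj).2 hr]
  obtain ⟨a, ha⟩ := Int.subgroup_cyclic H
  have hgen : ∀ t : ℝ, t • p ∈ L → ∃ n : ℤ, t = n * ((a : ℝ) / x j) := fun t ht => by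
    obtain ⟨n, hn, hte⟩ := hcoord t ht
    rw [ha, AddSubgroup.mem_closure_singleton] at hn
    obtain ⟨m, hm⟩ := hn
    refine ⟨m, ?_⟩
    rw [hte, ← hm, zsmul_eq_mul, Int.cast_mul]
    simp [mul_div_assoc]
  let c : ℝ := |(a : ℝ) / x j|
  have hc : 0 < c := by
    obtain ⟨n, hn⟩ := hgen _ hDp
    refine abs_pos.2 fun h => ?_
    rw [h, mul_zero] at hn
    exact hD.ne' hn
  have hcL : c • p ∈ L := by
    have haH : a ∈ H := by rw [ha]; exact AddSubgroup.mem_closure_singleton_self a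
    rcases abs_choice ((a : ℝ) / x j) with h | h <;> simp only [c, h]
    · exact haH
    · rw [neg_smul]; exact L.neg_mem haH
  have hcgen : ∀ t : ℝ, t • p ∈ L → ∃ n : ℤ, t = n * c := fun t ht => by
    obtain ⟨n, hn⟩ := hgen t ht
    rcases abs_choice ((a : ℝ) / x j) with h | h <;> simp only [c, h]
    · exact ⟨n, hn⟩
    · exact ⟨-n, by rw [hn, Int.cast_neg, neg_mul_neg]⟩
  have hray : ∀ v : E, v ∈ L → v ≠ 0 → 0 ≤ F.inf' hF (fun f => f v) → g v / ‖v‖ = M →
      ∃ n : ℤ, v = n • (c • p) := fun v hvL hv hvF hvM => by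
    have he : v = (‖v‖ * M) • p := by
      rw [smul_smul, mul_assoc, mul_inv_cancel₀ hM.ne', mul_one]; exact huniq v hv hvF hvM
    obtain ⟨n, hn⟩ := hcgen _ (he ▸ hvL)
    exact ⟨n, by rw [← Int.cast_smul_eq_zsmul ℝ, smul_smul, ← hn, ← he]⟩
  have hcp : c • p ≠ 0 := smul_ne_zero hc.ne' hp0
  have hcF : 0 ≤ F.inf' hF (fun f => f (c • p)) := (hFle _).2 fun f hf => by
    rw [map_smul, smul_eq_mul]; exact mul_nonneg hc.le (hFp f hf)
  have hcM : g (c • p) / ‖c • p‖ = M := by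
    rw [hgsmul _ hc.le, hgp, norm_smul, hnp, Real.norm_of_nonneg hc.le]
    field_simp
  refine ⟨M, hgreat, c • p, ⟨hcL, hcp, hcF, hcM, hray⟩, ?_⟩
  rintro v ⟨hvL, hv, hvF, hvM, hall⟩
  obtain ⟨n, hn⟩ := hray v hvL hv hvF hvM
  obtain ⟨m, hm⟩ := hall _ hcL hcp hcF hcM
  have h : ((m * n : ℤ) : ℝ) • (c • p) = (1 : ℝ) • (c • p) := by
    rw [one_smul, Int.cast_smul_eq_zsmul, mul_zsmul, ← hn, ← hm]
  have hmn : m * n = 1 := by exact_mod_cast smul_left_injective ℝ hcp h
  rcases Int.eq_one_or_neg_one_of_mul_eq_one' hmn with ⟨-, h1⟩ | ⟨-, h1⟩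
  · rw [hn, h1, one_zsmul]
  · exfalso
    have he := huniq v hv hvF hvM
    rw [hn, h1, neg_zsmul, one_zsmul, norm_neg, norm_smul, hnp, Real.norm_of_nonneg hc.le] at he
    have h2 : (-(c * M⁻¹)) • u = (c * M⁻¹) • u := by rw [neg_smul, mul_smul]; exact he.trans (mul_smul _ _ _)
    have := smul_left_injective ℝ hu0 h2
    have hpos' : 0 < c * M⁻¹ := by positivity
    linarith

end Groth.Agent.S17517
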