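import Groth.Statements.S17518
import Groth.Agent.S14770
import Groth.Agent.FlatMor12.SubtrRefine
import Groth.Agent.FlatMor12.SubmFT.ProperDescent
-- import your own Groth.Agent.* helpers here

set_option autoImplicit false
set_option backward.isDefEq.respectTransparency false
set_option backward.isDefEq.respectTransparency.types false
universe u
open CategoryTheory AlgebraicGeometry
open HTop

namespace Groth.Agent.S17518

/-- Let `f : X' ⟶ X` be a universally submersive morphism of Noetherian schemes (every base change of
`f` is a quotient map of topological spaces) and `g : X ⟶ Y` a morphism to a Noetherian scheme. If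
`f ≫ g` is locally of finite type, then `g` is locally of finite type. (Both morphisms are then of
finite type, their sources being Noetherian.) -/
theorem result
    {X' X Y : Scheme.{u}} [IsNoetherian X'] [IsNoetherian X] [IsNoetherian Y]
    (f : X' ⟶ X) (hf : SGA1.UnivSubmersive f) (g : X ⟶ Y)
    [LocallyOfFiniteType (f ≫ g)] : LocallyOfFiniteType g := by
  haveI : LocallyOfFiniteType f := locallyOfFiniteType_of_comp f g
  haveI : LocallyOfFinitePresentation f := LocallyOfFinitePresentation.iff_locallyOfFiniteType.2 inferInstance
  obtain ⟨W, q, hq, hqs, -, hloc⟩ := Groth.Agent.FlatMor12.SubtrRefine.exists_refinement_proper f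
    (Or.inr inferInstance) ((Groth.Agent.S14770.result f).1 hf)
  haveI : LocallyOfFiniteType (q ≫ g) := by
    choose O a hx ha using hloc
    refine IsZariskiLocalAtSource.of_openCover (P := (@LocallyOfFiniteType : MorphismProperty Scheme.{u}))
      (Scheme.openCoverOfIsOpenCover W O (TopologicalSpace.IsOpenCover.mk
        (eq_top_iff.2 fun x _ => TopologicalSpace.Opens.mem_iSup.2 ⟨x, hx x⟩))) fun x => ?_
    haveI : LocallyOfFiniteType ((O x).ι ≫ q) := inferInstance
    haveI : LocallyOfFiniteType (a x ≫ f) := (ha x).symm ▸ inferInstance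
    haveI : LocallyOfFiniteType (a x) := locallyOfFiniteType_of_comp _ f
    show LocallyOfFiniteType ((O x).ι ≫ q ≫ g)
    rw [← reassoc_of% ha x]
    infer_instance
  refine (HasRingHomProperty.iff_appLE (P := @LocallyOfFiniteType.{u})).2 fun U V e => ?_
  letI := (g.appLE U.1 V.1 e).hom.toAlgebra
  haveI : IsNoetherianRing Γ(Y, U.1) := IsLocallyNoetherian.component_noetherian U
  haveI : IsNoetherianRing Γ(X, V.1) := IsLocallyNoetherian.component_noetherian V
  let h := Limits.pullback.snd q V.2.fromSpec
  haveI : IsProper h := MorphismProperty.pullback_snd _ _ hq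
  haveI : Surjective h := MorphismProperty.pullback_snd _ _ hqs
  haveI : LocallyOfFiniteType (h ≫ Spec.map (CommRingCat.ofHom (algebraMap Γ(Y, U.1) Γ(X, V.1)))) := by
    haveI : LocallyOfFiniteType ((h ≫ Spec.map (g.appLE U.1 V.1 e)) ≫ U.2.fromSpec) := by
      rw [Category.assoc, U.2.SpecMap_appLE_fromSpec g V.2 e, ← Limits.pullback.condition_assoc]
      infer_instance
    exact locallyOfFiniteType_of_comp (h ≫ Spec.map (g.appLE U.1 V.1 e)) U.2.fromSpec
  exact Groth.Agent.FlatMor12.SubmFT.finiteType_of_proper_surjective Γ(Y, U.1) Γ(X, V.1) h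

end Groth.Agent.S17518
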