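import Groth.Statements.S1752
import Groth.Agent.DualLib.DualizingCoherent

set_option autoImplicit false
universe u
open CategoryTheory AlgebraicGeometry
open Dual

namespace Groth.Agent.S1752

/-- For X proper over a field k with dim X = d, there exist a coherent O_X-module ω (the dualizing
module) and a k-linear map t : H^d(X, ω) → k such that for every quasi-coherent O_X-module F and
every k-linear form ψ on H^d(X, F) there is exactly one map φ : F → ω with ψ = t ∘ H^d(φ). In other
words ω represents F ↦ Hom_k(H^d(X, F), k). -/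
theorem result (k : Type u) [Field k] (X : Scheme.{u}) [X.Over (Spec (CommRingCat.of k))] [IsProper (X ↘ Spec (CommRingCat.of k))] (d : ℕ) (hd : topologicalKrullDim X = d) : ∃ (ω : X.Modules) (t : Coh.HH X ω d →ₗ[k] k), Coh.IsCoh ω ∧ ∀ (F : X.Modules), Coh.IsQCoh F → ∀ ψ : Coh.HH X F d →ₗ[k] k, ∃! φ : F ⟶ ω, ∀ x : Coh.HH X F d, ψ x = t (Sheaf.H.map ((SheafOfModules.toSheaf X.ringCatSheaf).map φ) d x) := by
  haveI := Groth.Agent.DCat.hasRpush (X ↘ Spec (CommRingCat.of k))
  obtain ⟨ω, t, hω, hrep⟩ := Groth.Agent.DualLib.DualCoh.exists_coherent_dualizing k X hd.le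
  refine ⟨ω, t, hω, fun F hF ψ => ?_⟩
  obtain ⟨φ, hφ⟩ := (hrep F hF).2 ψ
  refine ⟨φ, fun x => ?_, fun φ' hφ' => (hrep F hF).1 (LinearMap.ext fun x => ?_)⟩
  · rw [← hφ, Groth.Agent.SerreDual.theta_apply]
  · rw [hφ, Groth.Agent.SerreDual.theta_apply]
    exact (hφ' x).symm

end Groth.Agent.S1752
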