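import Groth.Statements.S17521
import Groth.Agent.CohAff19.UnitDescend

set_option autoImplicit false
universe u
open CategoryTheory AlgebraicGeometry
open StMod

set_option backward.isDefEq.respectTransparency.types false
set_option backward.isDefEq.respectTransparency false

namespace Groth.Agent.S17521


/-- Let `S` be a quasi-separated scheme, `𝒳` an algebraic stack over `(Sch/S)` for the fppf topology,
`M` and `M'` algebraic spaces over `S` that are quasi-separated over `S`, `g : M' ⟶ M` a morphism of
algebraic spaces over `S`, `π : 𝒳 ⟶ M` a quasi-compact and quasi-separated morphism over `S`, and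
`π' : 𝒳 ×_M M' ⟶ M'` its base change (first projection of the 2-fibre product), the 2-fibre product
being assumed algebraic. Suppose `g` is faithfully flat: flat (on etale charts) and surjective on
points. If `π'` is a good moduli space, then `π` is a good moduli space. Here a good moduli space is
a morphism to an algebraic space along which pushforward takes surjections of quasi-coherent modules
to maps surjective on sections over every affine scheme etale over the target, and for which the
canonical map from the functions on any scheme etale over the target to the sections of the
pushforward of the structure sheaf is bijective; cohomologically affine means the first of these two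
conditions. (The published statement asks the algebraic spaces to be quasi-separated; the row takes
them quasi-separated over a quasi-separated base scheme `S`. Quasi-compactness and
quasi-separatedness of `π` are assumed here rather than concluded: along a flat surjective `g` that
is not quasi-compact these two properties do not descend, while exactness of pushforward and the
bijectivity on functions do.) -/
theorem result
    (S : Scheme.{u}) [QuasiSeparatedSpace S]
    (𝒳 : AlgSt.Cat S) (h𝒳 : AlgSt.IsAlgStack Scheme.fppfPrecoverage 𝒳)
    (M M' : AlgSp.Space S) (hM : AlgSp.IsQuasiSeparatedSp M.obj) (hM' : AlgSp.IsQuasiSeparatedSp M'.obj)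
    (g : M'.obj ⟶ M.obj) (hgf : AlgSp.LocP @Flat g) (hgs : AlgSp.IsSurjectiveMor g)
    (π : 𝒳 ⥤ᵇ AlgSt.ofSp M.obj)
    (hqc : AlgSt.IsQuasiCompactMor Scheme.fppfPrecoverage π) (hqs : AlgSt.IsQuasiSeparatedMor π)
    (h𝒳' : AlgSt.IsAlgStack Scheme.fppfPrecoverage (FibCat.fp (AlgSt.ofSpMap g) π))
    (hqc' : AlgSt.IsQuasiCompactMor Scheme.fppfPrecoverage (FibCat.fpFst (AlgSt.ofSpMap g) π))
    (hqs' : AlgSt.IsQuasiSeparatedMor (FibCat.fpFst (AlgSt.ofSpMap g) π))
    (h' : StMod.IsGoodModuli (FibCat.fpFst (AlgSt.ofSpMap g) π)) :
    StMod.IsGoodModuli π := by
  exact ⟨CohAff19.isCohAffine_descend h𝒳 M.property M'.property hgf hgs hqc hqs h'.1,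
    CohAff19.unitIsIso_descend h𝒳 M.property M'.property hgf hgs hqc hqs h'.2⟩

end Groth.Agent.S17521
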