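import Groth.Statements.S17535
import Groth.Agent.ResProp20.ClosedPts
import Groth.Agent.S12867
import Groth.Agent.Stk19.AlgSt.UnivTop
import Groth.Agent.Stk19b.LargestRep.Basic
import Groth.Agent.AlgSpLib.ClosedPointAlg
import Groth.Agent.AlgSpLib.DecentPoints
import Groth.Agent.AlgSpLib.GabberSheaf
-- import your own Groth.Agent.* helpers here

set_option autoImplicit false
universe u
open CategoryTheory AlgebraicGeometry
open StMod

namespace Groth.Agent.S17535

section Helpers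

open CategoryTheory.Limits Opposite TopologicalSpace FibCat Groth.Agent.Desc19 Groth.Agent.Stk19
open Groth.Agent.Coherent Groth.Agent.PicLib Groth.Agent.TameGood19
open Groth.Agent.ResProp20 Groth.Agent.ResProp20.AffineRep Groth.Agent.ResProp20.ClosedPts

noncomputable section

set_option backward.isDefEq.respectTransparency false
set_option backward.isDefEq.respectTransparency.types false

variable {S : Scheme.{u}} {𝒵 𝒳 : AlgSt.Cat S}
variable {M : AlgSp.Sp S} (hM : AlgSp.IsAlgSpace M) (π : 𝒳 ⥤ᵇ AlgSt.ofSp M)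

include hM in
theorem false_of_disjoint (h𝒳 : AlgSt.IsAlgStack Scheme.fppfPrecoverage 𝒳) (h : StMod.IsCohAffine π)
    (hunit : StMod.UnitIsIso π) (Q : 𝒳.obj → Prop) (hQ : AlgSt.IsClosedSubstack 𝒳 Q Scheme.fppfPrecoverage)
    (C₁ C₂ : Set (AlgSt.Points 𝒳)) (h₁ : IsClosed C₁) (h₂ : IsClosed C₂) (hd : Disjoint C₁ C₂)
    (hrange : Set.range (AlgSt.Points.map (AlgSt.subIncl 𝒳 Q)) = C₁ ∪ C₂)
    (x₁ x₂ : AlgSt.Points 𝒳) (hx₁ : x₁ ∈ C₁) (hx₂ : x₂ ∈ C₂)
    (he : AlgSt.Points.map π x₁ = AlgSt.Points.map π x₂) : False := by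
  obtain ⟨hiso, halg, hcl⟩ := hQ
  let 𝒬 := AlgSt.fullSub 𝒳 Q
  let ι := AlgSt.subIncl 𝒳 Q
  have hX := h𝒳.isStack.1
  have hZ : IsFibGrpd 𝒬.p := halg.isStack.1
  have hdown : ∀ ⦃a b : 𝒳.obj⦄ (_ : a ⟶ b), Q b → Q a := fun a b φ => fullSub_down hiso hZ hX φ
  have hmem : ∀ (z : 𝒬.obj) (s : sch 𝒳 z.obj), pointAt hX z.obj s ∈ C₁ ∪ C₂ := by
    intro z s
    rw [← hrange]
    let p := resFPt hX z.obj s
    exact ⟨AlgSt.Points.mk ⟨p.K, p.str, ⟨p.obj, hdown (resMap hX z.obj s) z.property⟩, p.lies⟩, rfl⟩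
  let A : ∀ z : 𝒬.obj, Set (sch 𝒬 z) := fun z => {s | pointAt hX z.obj s ∈ C₁}
  have hA : ∀ z, IsClopen (A z) := fun z => by
    refine ⟨h₁.preimage (continuous_pointAt hX h𝒳 z.obj), ?_⟩
    have e : (A z)ᶜ = (pointAt hX z.obj) ⁻¹' C₂ := by
      ext s
      constructor
      · intro hs
        exact (hmem z s).resolve_left hs
      · intro hs hs'
        exact Set.disjoint_left.1 hd hs' hs
    exact isClosed_compl_iff.1 (e ▸ h₂.preimage (continuous_pointAt hX h𝒳 z.obj))
  choose idem hidem using fun z => exists_indicator (hA z)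
  have hnat : ∀ {z' z : 𝒬.obj} (ψ : z' ⟶ z), (bmap 𝒬 ψ).appTop (idem z) = idem z' := by
    intro z' z ψ
    refine IsIndicator.unique (hA z') ?_ (hidem z')
    have e : bmap 𝒬 ψ ⁻¹' A z = A z' := Set.ext fun s => by
      show pointAt hX z.obj (bmap 𝒬 ψ s) ∈ C₁ ↔ pointAt hX z'.obj s ∈ C₁
      rw [pointAt_map hX ψ.hom s]
      rfl
    exact e ▸ IsIndicator.pullback (hA z) (hidem z) (bmap 𝒬 ψ)
  obtain ⟨p₁, hp₁⟩ := AlgSt.Points.mk_surjective x₁
  obtain ⟨p₂, hp₂⟩ := AlgSt.Points.mk_surjective x₂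
  subst hp₁ hp₂
  obtain ⟨E, hE, Ω, _, w, c, q₁, q₂, e₁, e₂, α₁, α₂, hq₁, hq₂, hα₁, hα₂⟩ := exists_common hM π hX p₁ p₂ he
  let hι := affineMor_of_closedImm hcl
  let G := AffineRep.pushQ ι hZ hX hι (OQ 𝒬)
  let t : Mod.RelSect π G.obj (etaOf E) :=
    ⟨fun x _ => unval ι hZ hX hι (OQ 𝒬) x (idem (rad ι hX hι x)), fun x' x φ α => val_ext ι hZ hX hι (by
      rw [val_mapTop, val_unval, val_unval]
      exact hnat _)⟩
  obtain ⟨s, hs⟩ := h (unitHom ι hZ hX hcl) (isSurj_unitHom ι hZ hX hcl) E hE t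
  obtain ⟨r₀, hr₀⟩ := (hunit E).2 s
  let x₀ : Γ(Spec (CommRingCat.of Ω), ⊤) := c.left.appTop r₀
  -- evaluation at a field object of the closed substack
  have key : ∀ (q : AlgSt.FPt 𝒳) (e : 𝒳.p.obj q.obj = Over.mk w) (α : π.obj q.obj ⟶ etaOf E)
      (_ : baseOver π q.obj α = eqToHom e ≫ c) (_ : AlgSt.Points.mk q ∈ C₁ ∪ C₂),
      ∃ (z : 𝒬.obj) (g : sch 𝒬 z ⟶ Spec (CommRingCat.of Ω)), Nonempty (sch 𝒬 z) ∧ g.appTop x₀ = idem z ∧
        ∀ s₀, pointAt hX z.obj s₀ = AlgSt.Points.mk q := by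
    intro q e α hα hq
    rw [← hrange] at hq
    obtain ⟨y, hy⟩ := hq
    obtain ⟨p', rfl⟩ := AlgSt.Points.mk_surjective y
    rw [AlgSt.Points.map_mk] at hy
    obtain ⟨r, a, b, -⟩ := (points_mk_eq_iff hX).1 hy
    let z : 𝒬.obj := ⟨r.obj, hdown a p'.obj.property⟩
    let b' : ι.obj z ⟶ q.obj := b
    have hr : sch 𝒬 z = Spec (CommRingCat.of r.K) := congrArg Comma.left r.lies
    refine ⟨z, bmap 𝒳 b ≫ (eqToHom e).left, ?_, ?_, fun s₀ => ?_⟩
    · rw [hr]; infer_instance
    · have h1 : (baseOver ι z b').left = bmap 𝒳 b := by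
        simp [baseOver, bmap, b']
      have h2 : bmap 𝒬 (adj ι hX hι b') ≫ pr ι hX hι q.obj = bmap 𝒳 b := by
        rw [bmap_comp_baseOver_left, adj_ctr]
        exact h1
      have h3 : (pr ι hX hι q.obj).appTop ((baseOver π q.obj α).left.appTop r₀) = idem (rad ι hX hι q.obj) := by
        have := congrArg (fun k : Mod.RelSect π G.obj (etaOf E) => val ι hZ hX hι (OQ 𝒬) q.obj (k.1 q.obj α)) hs
        refine Eq.trans ?_ this
        rw [← hr₀]
        rfl
      rw [← hnat (adj ι hX hι b'), ← h3, hα]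
      rw [← h2]
      simp only [x₀, Over.comp_left, Scheme.Hom.comp_appTop, CommRingCat.comp_apply]
      rfl
    · haveI : Subsingleton (sch 𝒳 r.obj) := by
        show Subsingleton (𝒳.p.obj r.obj).left
        rw [r.lies]
        exact inferInstanceAs (Subsingleton (Spec (CommRingCat.of r.K)))
      exact (pointAt_field hX r r.obj (𝟙 _) ‹_› s₀).trans (AlgSt.Points.sound ⟨r, 𝟙 _, b, trivial⟩)
  obtain ⟨z₁, g₁, hz₁, hg₁, hp₁⟩ := key q₁ e₁ α₁ hα₁ (Or.inl (hq₁ ▸ hx₁))
  obtain ⟨z₂, g₂, hz₂, hg₂, hp₂⟩ := key q₂ e₂ α₂ hα₂ (Or.inr (hq₂ ▸ hx₂))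
  rw [(hidem z₁).eq_one (hA z₁) fun s₀ => show pointAt hX z₁.obj s₀ ∈ C₁ by rw [hp₁ s₀, hq₁]; exact hx₁] at hg₁
  rw [(hidem z₂).eq_zero (hA z₂) fun s₀ (hs₀ : pointAt hX z₂.obj s₀ ∈ C₁) => Set.disjoint_left.1 hd hs₀ (by rw [hp₂ s₀, hq₂]; exact hx₂)] at hg₂
  haveI : Nontrivial Γ(sch 𝒬 z₁, ⊤) := nontrivial_gamma hz₁
  haveI : Nontrivial Γ(sch 𝒬 z₂, ⊤) := nontrivial_gamma hz₂
  have hf : IsField Γ(Spec (CommRingCat.of Ω), ⊤) :=
    (Scheme.ΓSpecIso (CommRingCat.of Ω)).commRingCatIsoToRingEquiv.toMulEquiv.isField (Field.toIsField Ω)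
  letI := hf.toField
  have i₁ : x₀ = 1 := g₁.appTop.hom.injective (hg₁.trans (map_one _).symm)
  rw [i₁, map_one] at hg₂
  exact one_ne_zero hg₂


variable {T : Over S} (F : overCat T ⥤ᵇ AlgSt.ofSp M)

/-- The section of a functor from a slice. -/
def topSec : M.obj.obj (op T) := M.obj.map (eqToHom (F.w_obj (Over.mk (𝟙 T))).symm : T ⟶ _).op (F.obj (Over.mk (𝟙 T))).sec

/-- The morphism of a functor from a slice. -/
def topHom : (AlgSp.yon S).obj T ⟶ M := (AlgSp.J S).uliftYonedaEquiv.symm (topSec F)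

theorem eltObj_eq {X Y : (AlgSt.ofSp M).obj} (e : X.base = Y.base) (h : M.obj.map (eqToHom e).op Y.sec = X.sec) :
    X = Y := by
  obtain ⟨B, s⟩ := X
  obtain ⟨B', s'⟩ := Y
  obtain rfl : B = B' := e
  simp only [eqToHom_refl, op_id, CategoryTheory.Functor.map_id] at h
  exact congrArg _ h.symm

theorem obj_sec (a : Over T) :
    (F.obj a).sec = M.obj.map ((eqToHom (F.w_obj a) : (F.obj a).base ⟶ a.left) ≫ a.hom).op (topSec F) := by
  let m : a ⟶ Over.mk (𝟙 T) := Over.homMk a.hom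
  have e : (F.map m).hom = eqToHom (F.w_obj a) ≫ a.hom ≫ eqToHom (F.w_obj (Over.mk (𝟙 T))).symm :=
    Functor.congr_hom F.w m
  refine (F.map m).map_sec.symm.trans ?_
  rw [e, topSec, ← CategoryTheory.Functor.map_comp_apply, ← op_comp, Category.assoc]
  rfl

theorem functor_ext {F G : overCat T ⥤ᵇ AlgSt.ofSp M} (h : topSec F = topSec G) : F = G := by
  have ho : ∀ a, F.obj a = G.obj a := fun a => eltObj_eq ((F.w_obj a).trans (G.w_obj a).symm) (by
    rw [obj_sec G a, obj_sec F a, h, ← CategoryTheory.Functor.map_comp_apply, ← op_comp, eqToHom_trans_assoc])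
  have hf : F.toFunctor = G.toFunctor := CategoryTheory.Functor.ext ho fun a b f => Stk.EltObj.hom_ext (by
    have h1 : (F.map f).hom = _ := Functor.congr_hom F.w f
    have h2 : (G.map f).hom = _ := Functor.congr_hom G.w f
    have h3 : ∀ {X Y : (AlgSt.ofSp M).obj} (e : X = Y),
        (eqToHom e : X ⟶ Y).hom = eqToHom (congrArg Stk.EltObj.base e) := by
      intro X Y e; subst e; rfl
    rw [Stk.EltObj.comp_hom, Stk.EltObj.comp_hom, h3, h3, h1, h2]
    simp)
  obtain ⟨F, _⟩ := F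
  obtain ⟨G, _⟩ := G
  obtain rfl : F = G := hf
  rfl

theorem eq_ofSpMap : F = BasedFunctor.comp (AlgSt.ofOverCat T) (AlgSt.ofSpMap (topHom F)) := by
  apply functor_ext
  have e : (AlgSp.J S).uliftYonedaEquiv (topHom F) = topSec F := Equiv.apply_symm_apply _ _
  refine e.symm.trans ?_
  symm
  show M.obj.map (eqToHom _).op ((topHom F).hom.app (op T) ⟨𝟙 T⟩) = _
  rw [eqToHom_refl, op_id, CategoryTheory.Functor.map_id]
  rfl

theorem ofChart_eq (t : ↥T.left) :
    AlgSt.Points.ofChart F t = stPt (AlgSp.Points.ofPt (topHom F) t) := by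
  rw [← ofChart_sp]
  exact congrArg (fun G => AlgSt.Points.ofChart G t) (eq_ofSpMap F)

include hM in
/-- Rational points with the same point coincide. -/
theorem eq_of_ofPt_eq {k : Type u} [Field k] (sk : Spec (CommRingCat.of k) ⟶ S)
    (hterm : ∀ {Z : Over S} (u v : Z ⟶ Over.mk sk), u = v)
    (a b : (AlgSp.yon S).obj (Over.mk sk) ⟶ M) (t : ↥(Over.mk sk).left)
    (h : AlgSp.Points.ofPt a t = AlgSp.Points.ofPt b t) : a = b := by
  rw [AlgSpLib.ofPt_eq_ptOfHom_of_field, AlgSpLib.ofPt_eq_ptOfHom_of_field] at h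
  obtain ⟨Ω, _, w, u, v, huv⟩ := AlgSp.Points.mk_eq_mk_iff.1 h
  let c : Over.mk w ⟶ Over.mk sk := u
  haveI : IsAffine (Over.mk w).left := inferInstanceAs (IsAffine (Spec (CommRingCat.of Ω)))
  haveI : IsAffine (Over.mk sk).left := inferInstanceAs (IsAffine (Spec (CommRingCat.of k)))
  haveI : Flat c.left := by
    obtain ⟨φ, hφ⟩ := Spec.map_surjective c.left
    exact hφ ▸ AlgSpLib.flat_of_field φ
  haveI : Surjective c.left :=
    ⟨fun z => ⟨IsLocalRing.closedPoint Ω, Subsingleton.elim (α := ↥(Spec (CommRingCat.of k))) _ _⟩⟩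
  refine AlgSpLib.GabberSheaf.eq_of_fpqc hM c (AlgSpLib.GabberSheaf.fpqc_of_affine c.left) a b ?_
  apply (AlgSp.J S).uliftYonedaEquiv.injective
  rw [← GrothendieckTopology.uliftYonedaEquiv_naturality, ← GrothendieckTopology.uliftYonedaEquiv_naturality]
  obtain rfl : u = v := hterm u v
  exact huv

end

end Helpers

/-- Let `k` be an algebraically closed field, `𝒳` an algebraic stack over `(Sch/Spec k)` for the fppf
topology, `M` an algebraic space over `k` that is quasi-separated over `k`, and `π : 𝒳 ⟶ M` a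
quasi-compact and quasi-separated good moduli space. For `k`-points `x₁, x₂` of `𝒳` (functors
`(Sch/Spec k) ⟶ 𝒳` over `(Sch/Spec k)`), the `k`-points `π ∘ x₁` and `π ∘ x₂` of `M` coincide if and
only if the closures in `|𝒳|` of the points defined by `x₁` and `x₂` have a common point. Here a
good moduli space is a morphism to an algebraic space along which pushforward takes surjections of
quasi-coherent modules to maps surjective on sections over every affine scheme etale over the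
target, and for which the canonical map from the functions on any scheme etale over the target to
the sections of the pushforward of the structure sheaf is bijective; cohomologically affine means
the first of these two conditions. (The published statement is for geometric points over an
arbitrary base, with closures taken in the base change of `𝒳` to the algebraically closed field;
this row is its case where the base is already that field. The published result assumes `𝒳`
quasi-separated; `M` quasi-separated, which its proof uses, is assumed instead.) -/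
theorem result
    (k : Type u) [Field k] [IsAlgClosed k]
    (𝒳 : AlgSt.Cat (Spec (CommRingCat.of k))) (h𝒳 : AlgSt.IsAlgStack Scheme.fppfPrecoverage 𝒳)
    (M : AlgSp.Space (Spec (CommRingCat.of k))) (hM : AlgSp.IsQuasiSeparatedSp M.obj)
    (π : 𝒳 ⥤ᵇ AlgSt.ofSp M.obj)
    (hqc : AlgSt.IsQuasiCompactMor Scheme.fppfPrecoverage π) (hqs : AlgSt.IsQuasiSeparatedMor π)
    (h : StMod.IsGoodModuli π)
    (x₁ x₂ : FibCat.overCat (Over.mk (𝟙 (Spec (CommRingCat.of k)))) ⥤ᵇ 𝒳)
    (t : ↥(Spec (CommRingCat.of k))) :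
    BasedFunctor.comp x₁ π = BasedFunctor.comp x₂ π ↔
      (closure {AlgSt.Points.ofChart x₁ t} ∩ closure {AlgSt.Points.ofChart x₂ t}).Nonempty := by
  have hX := h𝒳.isStack.1
  have hMs : AlgSt.IsAlgStack Scheme.fppfPrecoverage (AlgSt.ofSp M.obj) := Stk19b.LargestRep.isAlgStack_ofSp M
  have hcont := Groth.Agent.Stk19.continuous_points_map hMs π
  have hd : AlgSp.IsDecent M.obj := AlgSpLib.isDecent_of_qsep M.property hM
  have key : ∀ x : FibCat.overCat (Over.mk (𝟙 (Spec (CommRingCat.of k)))) ⥤ᵇ 𝒳,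
      AlgSt.Points.map π (AlgSt.Points.ofChart x t) =
        Groth.Agent.Stk19.stPt (AlgSp.Points.ofPt (topHom (BasedFunctor.comp x π)) t) :=
    fun x => ofChart_eq (BasedFunctor.comp x π) t
  constructor
  · intro he
    by_contra hn
    have hd' : Disjoint (closure {AlgSt.Points.ofChart x₁ t}) (closure {AlgSt.Points.ofChart x₂ t}) :=
      Set.disjoint_iff_inter_eq_empty.2 (Set.not_nonempty_iff_eq_empty.1 hn)
    obtain ⟨Q, hQ, hrange, -⟩ := Groth.Agent.S12867.result h𝒳 _
      (isClosed_closure.union isClosed_closure :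
        IsClosed (closure {AlgSt.Points.ofChart x₁ t} ∪ closure {AlgSt.Points.ofChart x₂ t}))
    exact false_of_disjoint M.property π h𝒳 h.1 h.2 Q hQ _ _ isClosed_closure isClosed_closure hd' hrange
      (AlgSt.Points.ofChart x₁ t) (AlgSt.Points.ofChart x₂ t) (subset_closure rfl) (subset_closure rfl)
      (by rw [key, key, he])
  · rintro ⟨z, hz₁, hz₂⟩
    have hcl : ∀ x : FibCat.overCat (Over.mk (𝟙 (Spec (CommRingCat.of k)))) ⥤ᵇ 𝒳,
        z ∈ closure {AlgSt.Points.ofChart x t} →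
          AlgSt.Points.map π z = AlgSt.Points.map π (AlgSt.Points.ofChart x t) := by
      intro x hz
      have h1 : IsClosed ({AlgSt.Points.map π (AlgSt.Points.ofChart x t)} : Set _) := by
        rw [key]
        have := (Groth.Agent.Stk19.stPtHomeo M).isClosedMap _
          (AlgSpLib.isClosed_point_of_integral M.property hd (topHom (BasedFunctor.comp x π)) t)
        rw [Set.image_singleton] at this
        exact this
      exact closure_minimal (Set.singleton_subset_iff.2 (Set.mem_preimage.2 (Set.mem_singleton _))) (h1.preimage hcont) hz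
    have he := (hcl x₁ hz₁).symm.trans (hcl x₂ hz₂)
    rw [key, key] at he
    have ha := eq_of_ofPt_eq M.property (𝟙 (Spec (CommRingCat.of k)))
      (fun u v => (Over.mkIdTerminal (X := Spec (CommRingCat.of k))).hom_ext u v) _ _ t
      (Groth.Agent.Stk19.stPt_bijective.1 he)
    rw [eq_ofSpMap (BasedFunctor.comp x₁ π), eq_ofSpMap (BasedFunctor.comp x₂ π), ha]

end Groth.Agent.S17535
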