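import Groth.Statements.S17536
import Mathlib.RingTheory.Etale.Weakly
import Mathlib.RingTheory.HopkinsLevitzki
import Mathlib.RingTheory.LocalRing.Pullback
import Mathlib.RingTheory.PicardGroup
import Mathlib.RingTheory.TotallySplit
import Mathlib.RingTheory.WittVector.Basic
import Mathlib.Tactic
import Groth.Agent.CommAlg4.Nilpotent

set_option linter.all false

set_option autoImplicit false
universe u v w
open W4c5adicflatcompl
open CAlg

open Groth.Agent.CommAlg4

namespace Groth.Agent.S17536

/-- If the A-module M is I-adically separated then so is the module of I-adically decaying functions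
from a set Z to M. -/
theorem result {A : Type u} [CommRing A] (I : Ideal A) (Z : Type v)
    (M : Type w) [AddCommGroup M] [Module A M] [IsHausdorff I M] :
    IsHausdorff I (decaying I Z M) := by
  refine ⟨fun x hx => Subtype.ext (funext fun z => IsHausdorff.haus (I := I) inferInstance _ fun n => ?_)⟩
  rw [SModEq.zero]
  exact Submodule.smul_top_le_comap_smul_top (I ^ n) ((LinearMap.proj z).comp (decaying I Z M).subtype) (SModEq.zero.mp (hx n))

end Groth.Agent.S17536
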