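import Groth.Statements.S17537
import Groth.Agent.CommAlg4.DecayingNoetherian
import Mathlib.RingTheory.AdicCompletion.AsTensorProduct
import Mathlib.Tactic

set_option linter.all false

set_option autoImplicit false
universe u v
open CAlg

open Groth.Agent.CommAlg4
open scoped TensorProduct

namespace Groth.Agent.S17537

/-- For a commutative ring A, an ideal I and an A-module M, the I-adic completion M^ of M is itself
I-adically complete if and only if, for every n, every element of M^ is congruent modulo I^n M^ to
the image of an element of M (the maps M/I^n M → M^/I^n M^ are surjective). -/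
theorem result {A : Type u} [CommRing A] (I : Ideal A)
    (M : Type v) [AddCommGroup M] [Module A M] :
    IsAdicComplete I (AdicCompletion I M) ↔
      ∀ (n : ℕ) (x : AdicCompletion I M), ∃ y : M,
        x - AdicCompletion.of I M y ∈ (I ^ n • ⊤ : Submodule A (AdicCompletion I M)) := by
  refine ⟨fun h n x => exists_sub_of_mem n x, fun h => pow_smul_top_eq_ker_eval_iff.mpr fun n x hx => ?_⟩
  obtain ⟨y, hy⟩ := h n x
  have h1 := AdicCompletion.pow_smul_top_le_ker_eval (I := I) (M := M) n hy
  rw [LinearMap.mem_ker, map_sub, LinearMap.mem_ker.mp hx, zero_sub, neg_eq_zero,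
    AdicCompletion.eval_of, Submodule.mkQ_apply, Submodule.Quotient.mk_eq_zero] at h1
  simpa using add_mem hy (map_mem_pow (AdicCompletion.of I M) h1)

end Groth.Agent.S17537
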