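import Groth.Statements.S17538
import Groth.Agent.CommAlg4.DecayingNoetherian
import Mathlib.RingTheory.AdicCompletion.AsTensorProduct
import Mathlib.Tactic

set_option linter.all false

set_option autoImplicit false
universe u v
open CAlg

open Groth.Agent.CommAlg4
open scoped TensorProduct

namespace Groth.Agent.S17538

/-- For a commutative ring A, an ideal I and an A-module M, the canonical map from the I-adic completion
M^ to the I-adic completion of M^ admits an A-linear retraction (it is a split injection). (That M^
is I-adically separated is standard.) -/
theorem result {A : Type u} [CommRing A] (I : Ideal A)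
    (M : Type v) [AddCommGroup M] [Module A M] :
    ∃ ψ : AdicCompletion I (AdicCompletion I M) →ₗ[A] AdicCompletion I M,
      ψ ∘ₗ AdicCompletion.of I (AdicCompletion I M) = LinearMap.id := by
  let e : ∀ n, (AdicCompletion I M ⧸ (I ^ n • ⊤ : Submodule A (AdicCompletion I M))) →ₗ[A] M ⧸ (I ^ n • ⊤ : Submodule A M) :=
    fun n => Submodule.liftQ _ (AdicCompletion.eval I M n) (AdicCompletion.pow_smul_top_le_ker_eval (I := I) (M := M) n)
  let ψ : AdicCompletion I (AdicCompletion I M) →ₗ[A] AdicCompletion I M :=
    { toFun := fun x => ⟨fun n => e n (x.val n), fun {m n} h => by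
        obtain ⟨y, hy⟩ := Submodule.Quotient.mk_surjective _ (x.val n)
        have hxm : x.val m = AdicCompletion.transitionMap I _ h (x.val n) := (x.2 h).symm
        show AdicCompletion.transitionMap I M h (e n (x.val n)) = e m (x.val m)
        rw [hxm, ← hy]
        exact y.2 h⟩
      map_add' := fun x y => AdicCompletion.ext fun n => map_add (e n) (x.val n) (y.val n)
      map_smul' := fun c x => AdicCompletion.ext fun n => map_smul (e n) c (x.val n) }
  exact ⟨ψ, LinearMap.ext fun x => AdicCompletion.ext fun n => rfl⟩

end Groth.Agent.S17538
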