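import Groth.Statements.S1754
import Groth.Agent.CAlgH3.DT.HOne
-- import your own Groth.Agent.* helpers here

set_option autoImplicit false
universe u
open LocCoh

namespace Groth.Agent.S1754

/-- Let A be a Noetherian domain and I a nonzero ideal. Suppose that for every prime q containing I and
every associated prime P of the completion B of the local ring A_q, the quotient B/P has dimension
at least 2. Then the local cohomology module H^1_I(A) is a finite A-module. (This is the affine
form, with coherence of j_*O_U for U = Spec A ∖ V(I) expressed as finiteness of H^1_I(A).) -/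
theorem result (A : Type u) [CommRing A] [IsDomain A] [IsNoetherianRing A] (I : Ideal A) (hI : I ≠ ⊥) (h : ∀ (q : PrimeSpectrum A), I ≤ q.asIdeal → ∀ P ∈ associatedPrimes (AdicCompletion (IsLocalRing.maximalIdeal (Localization.AtPrime q.asIdeal)) (Localization.AtPrime q.asIdeal)) (AdicCompletion (IsLocalRing.maximalIdeal (Localization.AtPrime q.asIdeal)) (Localization.AtPrime q.asIdeal)), (2 : WithBot ℕ∞) ≤ ringKrullDim (AdicCompletion (IsLocalRing.maximalIdeal (Localization.AtPrime q.asIdeal)) (Localization.AtPrime q.asIdeal) ⧸ P)) : Module.Finite A (LocCoh.H I 1 A) := by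
  obtain ⟨a, haI, ha0⟩ := Submodule.exists_mem_ne_zero_of_ne_bot hI
  have ha : IsSMulRegular A a := IsSMulRegular.of_ne_zero ha0
  refine Groth.Agent.CAlgH3.DT.HOne.finite_H_one ha haI fun q hq => ?_
  haveI : IsNoetherianRing (Localization.AtPrime q.asIdeal) :=
    IsLocalization.isNoetherianRing q.asIdeal.primeCompl _ inferInstance
  obtain ⟨N, hN⟩ := Groth.Agent.CAlgH3.DT.HOne.exists_pow_kills_local (Localization.AtPrime q.asIdeal) (h q hq)
  let e : LocalizedModule q.asIdeal.primeCompl A ≃ₗ[Localization.AtPrime q.asIdeal] Localization.AtPrime q.asIdeal :=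
    (LocalizedModule.equivTensorProduct q.asIdeal.primeCompl A).trans
      (TensorProduct.AlgebraTensorModule.rid A (Localization.AtPrime q.asIdeal) (Localization.AtPrime q.asIdeal))
  refine ⟨N, fun r hr x => ?_⟩
  exact (Groth.Agent.LocCoh.Hequiv (I := IsLocalRing.maximalIdeal (Localization.AtPrime q.asIdeal)) 1 e).injective
    (by rw [map_smul, hN r hr, map_zero])


end Groth.Agent.S1754
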