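import Groth.Statements.S17540
import Groth.Agent.CommAlg4.DecayingNoetherian
import Groth.Agent.CommAlg4.DecayingSpan
import Mathlib.RingTheory.AdicCompletion.AsTensorProduct
import Mathlib.RingTheory.LocalRing.Module
import Mathlib.LinearAlgebra.TensorProduct.Quotient
import Mathlib.Tactic

set_option linter.all false

set_option autoImplicit false
universe u v w
open W4c5adicflatcompl
open CAlg

open Groth.Agent.CommAlg4
open scoped TensorProduct

namespace Groth.Agent.S17540

/-- Let A be I-adically complete, M an I-adically complete A-module and m : Z → M a family. The images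
of the m z generate M/IM (the span of the family together with IM is all of M) if and only if the
family I-adically generates M: every x in M is the I-adically convergent sum of g z • m z for some
I-adically decaying function g : Z → A. -/
theorem result {A : Type u} [CommRing A] (I : Ideal A) [IsAdicComplete I A]
    (M : Type v) [AddCommGroup M] [Module A M] [IsAdicComplete I M] (Z : Type w) (m : Z → M) :
    Submodule.span A (Set.range m) ⊔ I • ⊤ = ⊤ ↔
      ∀ x : M, ∃ g : Z → A, g ∈ decaying I Z A ∧
        ∀ n : ℕ, ∃ S : Finset Z,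
          (∀ z, z ∉ S → g z • m z ∈ (I ^ n • ⊤ : Submodule A M)) ∧
          x - (∑ z ∈ S, g z • m z) ∈ (I ^ n • ⊤ : Submodule A M) := by
  refine ⟨fun h x => ?_, fun h => eq_top_iff.mpr fun x _ => ?_⟩
  · obtain ⟨g, rfl⟩ := exists_scalarSum_eq m h x
    refine ⟨g, g.2, fun n => ⟨(g.2 n).toFinset, ?_⟩⟩
    have hS : ∀ z, z ∉ (g.2 n).toFinset → (g : Z → A) z • m z ∈ (I ^ n • ⊤ : Submodule A M) := fun z hz =>
      map_mem_pow (LinearMap.toSpanSingleton A M (m z)) (by simpa using hz)
    exact ⟨hS, scalarSum_sub_mem m g n _ hS⟩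
  · obtain ⟨g, -, hg⟩ := h x
    obtain ⟨S, -, hS⟩ := hg 1
    rw [pow_one] at hS
    exact Submodule.mem_sup.mpr ⟨_, sum_mem fun z _ => Submodule.smul_mem _ _ (Submodule.subset_span ⟨z, rfl⟩), _, hS, add_sub_cancel _ _⟩

end Groth.Agent.S17540
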