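import Groth.Statements.S17542
import Groth.Agent.CommAlg4.DecayingNoetherian
import Mathlib.RingTheory.AdicCompletion.AsTensorProduct
import Mathlib.Tactic

set_option linter.all false

set_option autoImplicit false
universe u v w
open W4c5adicflatcompl
open CAlg

open Groth.Agent.CommAlg4
open scoped TensorProduct

namespace Groth.Agent.S17542

/-- Over a Noetherian ring A which is I-adically complete, for a surjection φ : M → M'' of A-modules
with M finitely generated and a set Z, every I-adically decaying function Z → M'' is the composite
of φ with an I-adically decaying function Z → M. (This is the right exactness of the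
decaying-functions functor on finitely generated modules; left exactness is the statement about
submodules.) -/
theorem result {A : Type u} [CommRing A] [IsNoetherianRing A] (I : Ideal A)
    [IsAdicComplete I A] (Z : Type v) {M : Type w} {M'' : Type w} [AddCommGroup M] [Module A M]
    [Module.Finite A M] [AddCommGroup M''] [Module A M''] (φ : M →ₗ[A] M'')
    (hφ : Function.Surjective φ) (g : Z → M'') (hg : g ∈ decaying I Z M'') :
    ∃ f : Z → M, f ∈ decaying I Z M ∧ ∀ z, φ (f z) = g z := by
  haveI : Module.Finite A M'' := Module.Finite.of_surjective φ hφ
  haveI : IsHausdorff I M'' := IsHausdorff.of_le_jacobson I M'' (IsAdicComplete.le_jacobson_bot I)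
  exact exists_decaying_lift φ hφ g hg

end Groth.Agent.S17542
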