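import Groth.Statements.S17549
import Groth.Agent.CommAlg4.DecayingNoetherian
import Mathlib.RingTheory.AdicCompletion.AsTensorProduct
import Mathlib.Tactic

set_option linter.all false

set_option autoImplicit false
universe u
open W4c5adicflatcompl
open CAlg

open Groth.Agent.CommAlg4
open scoped TensorProduct

namespace Groth.Agent.S17549

/-- Over a Noetherian ring A with I-adic completion Â, an A-module P is I-adically projective
(I-adically complete, and every A-linear map from P to the target of a surjection between I-adically
complete modules lifts along that surjection) exactly when P is a retract of some module of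
I-adically decaying functions Z → Â: there are a set Z, an A-linear map i from P to the decaying
functions Z → Â and an A-linear map r back with r ∘ i the identity of P. Test modules, P and Z live
in the universe of A. -/
theorem result {A : Type u} [CommRing A] [IsNoetherianRing A]
    (I : Ideal A) (P : Type u) [AddCommGroup P] [Module A P] :
    IsAdicProjective I P ↔
      ∃ (Z : Type u) (i : P →ₗ[A] decaying I Z (AdicCompletion I A))
        (r : decaying I Z (AdicCompletion I A) →ₗ[A] P), r ∘ₗ i = LinearMap.id := by
  classical
  have hI : I.FG := IsNoetherian.noetherian I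
  haveI := AdicCompletion.isAdicComplete (M := A) hI
  have hD : ∀ Z : Type u, IsAdicComplete I (decaying I Z (AdicCompletion I A)) := fun Z => isAdicComplete_decaying hI
  constructor
  · rintro ⟨hc, hp⟩
    let φ := complSum I (id : P → P)
    have hφ : Function.Surjective φ := fun p => ⟨single I p 1, complSum_single id p⟩
    obtain ⟨χ, hχ⟩ := hp _ _ (hD P) hc φ hφ LinearMap.id
    exact ⟨P, χ, φ, hχ⟩
  · rintro ⟨Z, i, r, hri⟩
    haveI := hD Z
    refine ⟨isAdicComplete_of_retract i r hri, fun M N _ _ _ _ hM hN φ hφ ψ => ?_⟩
    choose lift hlift using hφ
    let F := complSum I (fun z => lift ((ψ ∘ₗ r) (single I z 1)))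
    have : φ ∘ₗ F = ψ ∘ₗ r := decaying_completion_ext hI fun z => by
      simp [F, complSum_single, hlift]
    exact ⟨F ∘ₗ i, by rw [← LinearMap.comp_assoc, this, LinearMap.comp_assoc, hri, LinearMap.comp_id]⟩

end Groth.Agent.S17549
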