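import Groth.Statements.S1755
import Groth.Agent.CAlgH3.DT.HOne
import Groth.Agent.CAlgH3.FiniteHOne
-- import your own Groth.Agent.* helpers here

set_option autoImplicit false
universe u
open LocCoh

namespace Groth.Agent.S1755

/-- Kollár's criterion for finiteness of first local cohomology, sufficiency direction, in affine form.
Let A be a Noetherian ring, I an ideal and M a finite A-module. Suppose that for every associated
prime p of M not containing I, every prime q containing both p and I, and every associated prime P
of the completion C of the local ring A_q/pA_q at its maximal ideal, the quotient C/P has Krull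
dimension at least 2. Then H¹_I(M) is a finite A-module. (The criterion is an equivalence; only this
implication is asserted here.) -/
theorem result (A : Type u) [CommRing A] [IsNoetherianRing A] (I : Ideal A) (M : Type u) [AddCommGroup M] [Module A M] [Module.Finite A M] (h : ∀ p : Ideal A, p ∈ associatedPrimes A M → ¬ I ≤ p → ∀ (q : PrimeSpectrum A), p ≤ q.asIdeal → I ≤ q.asIdeal → ∀ P ∈ associatedPrimes (AdicCompletion ((IsLocalRing.maximalIdeal (Localization.AtPrime q.asIdeal)).map (Ideal.Quotient.mk (p.map (algebraMap A (Localization.AtPrime q.asIdeal))))) (Localization.AtPrime q.asIdeal ⧸ p.map (algebraMap A (Localization.AtPrime q.asIdeal)))) (AdicCompletion ((IsLocalRing.maximalIdeal (Localization.AtPrime q.asIdeal)).map (Ideal.Quotient.mk (p.map (algebraMap A (Localization.AtPrime q.asIdeal))))) (Localization.AtPrime q.asIdeal ⧸ p.map (algebraMap A (Localization.AtPrime q.asIdeal)))), (2 : WithBot ℕ∞) ≤ ringKrullDim (AdicCompletion ((IsLocalRing.maximalIdeal (Localization.AtPrime q.asIdeal)).map (Ideal.Quotient.mk (p.map (algebraMap A (Localization.AtPrime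 q.asIdeal))))) (Localization.AtPrime q.asIdeal ⧸ p.map (algebraMap A (Localization.AtPrime q.asIdeal))) ⧸ P)) : Module.Finite A (LocCoh.H I 1 M) := by
  refine (Groth.Agent.CAlgH3.FiniteHOne.finite_H_one_iff I M).2 fun p hp hIp => ?_
  haveI := hp.isPrime
  obtain ⟨a, haI, hap⟩ := SetLike.not_le_iff_exists.1 hIp
  have ha : IsSMulRegular (A ⧸ p) a := fun x y hxy => by
    obtain ⟨x, rfl⟩ := Ideal.Quotient.mk_surjective x
    obtain ⟨y, rfl⟩ := Ideal.Quotient.mk_surjective y
    rw [Ideal.Quotient.eq] 
    replace hxy : Ideal.Quotient.mk p (a * x) = Ideal.Quotient.mk p (a * y) := hxy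
    rw [Ideal.Quotient.eq, ← mul_sub] at hxy
    exact (Ideal.IsPrime.mem_or_mem ‹p.IsPrime› hxy).resolve_left hap
  refine Groth.Agent.CAlgH3.DT.HOne.finite_H_one ha haI fun q hq => ?_
  by_cases hpq : p ≤ q.asIdeal
  · haveI : IsNoetherianRing (Localization.AtPrime q.asIdeal) :=
      IsLocalization.isNoetherianRing q.asIdeal.primeCompl _ inferInstance
    have htop : p.map (algebraMap A (Localization.AtPrime q.asIdeal)) ≠ ⊤ :=
      (IsLocalization.isPrime_of_isPrime_disjoint q.asIdeal.primeCompl _ p inferInstance
        (Set.disjoint_left.2 fun x hx hxp => hx (hpq hxp))).ne_top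
    obtain ⟨N, hN⟩ := Groth.Agent.CAlgH3.DT.HOne.exists_pow_kills_quotient (Localization.AtPrime q.asIdeal)
      (p.map (algebraMap A (Localization.AtPrime q.asIdeal))) htop (h p hp hIp q hpq hq)
    let e : LocalizedModule q.asIdeal.primeCompl (A ⧸ p) ≃ₗ[Localization.AtPrime q.asIdeal]
        Localization.AtPrime q.asIdeal ⧸ p.map (algebraMap A (Localization.AtPrime q.asIdeal)) :=
      (LocalizedModule.equivTensorProduct q.asIdeal.primeCompl (A ⧸ p)).trans
        (Algebra.TensorProduct.quotIdealMapEquivTensorQuot (Localization.AtPrime q.asIdeal) p).symm.toLinearEquiv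
    refine ⟨N, fun r hr x => ?_⟩
    exact (Groth.Agent.LocCoh.Hequiv (I := IsLocalRing.maximalIdeal (Localization.AtPrime q.asIdeal)) 1 e).injective
      (by rw [map_smul, hN r hr, map_zero])
  · haveI : Subsingleton (LocalizedModule q.asIdeal.primeCompl (A ⧸ p)) := by
      refine not_nontrivial_iff_subsingleton.1 fun hn => hpq ?_
      have h1 := Module.annihilator_le_of_mem_support (R := A) (M := A ⧸ p) (p := q) hn
      rwa [Ideal.annihilator_quotient] at h1
    haveI := Groth.Agent.LocCoh.subsingleton_H_of_subsingleton (I := IsLocalRing.maximalIdeal (Localization.AtPrime q.asIdeal))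
      (M := LocalizedModule q.asIdeal.primeCompl (A ⧸ p)) 1
    exact ⟨0, fun r _ x => Subsingleton.elim _ _⟩


end Groth.Agent.S1755
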