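import Groth.Statements.S17550
import Groth.Agent.CommAlg4.DecayingNoetherian
import Groth.Agent.CommAlg4.DecayingSpan
import Mathlib.RingTheory.AdicCompletion.AsTensorProduct
import Mathlib.RingTheory.LocalRing.Module
import Mathlib.LinearAlgebra.TensorProduct.Quotient
import Mathlib.Tactic

set_option linter.all false

set_option autoImplicit false
universe u
open W4c5adicflatcompl
open scoped TensorProduct
open CAlg

open Groth.Agent.CommAlg4
open scoped TensorProduct

namespace Groth.Agent.S17550

/-- For Noetherian rings A and B with B an A-algebra, ideals I of A and J of B with I B contained in J,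
and an I-adically free A-module P, the J-adic completion of B ⊗ P is a J-adically free B-module (the
completed base change of an adically free module is adically free). -/
theorem result {A B : Type u} [CommRing A] [CommRing B] [Algebra A B]
    [IsNoetherianRing A] [IsNoetherianRing B] (I : Ideal A) (J : Ideal B)
    (hIJ : I.map (algebraMap A B) ≤ J) (P : Type u) [AddCommGroup P] [Module A P]
    (hP : IsAdicFree I P) :
    IsAdicFree J (AdicCompletion J (B ⊗[A] P)) := by
  classical
  obtain ⟨Z, ⟨e⟩⟩ := hP
  refine ⟨Z, ?_⟩
  have hI : I.FG := IsNoetherian.noetherian I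
  have hJ : J.FG := IsNoetherian.noetherian J
  haveI hC : IsAdicComplete J (AdicCompletion J (B ⊗[A] P)) := AdicCompletion.isAdicComplete hJ
  haveI := AdicCompletion.isAdicComplete (M := B) hJ
  haveI hD : IsAdicComplete J (decaying J Z (AdicCompletion J B)) := isAdicComplete_decaying hJ
  have hpow : ∀ n, ∀ a ∈ I ^ n, algebraMap A B a ∈ J ^ n := fun n a ha =>
    Ideal.pow_right_mono hIJ n (Ideal.map_pow (algebraMap A B) I n ▸ Ideal.mem_map_of_mem _ ha)
  have hres : ∀ (N : Type u) [AddCommGroup N] [Module A N] [Module B N] [IsScalarTower A B N] (n : ℕ) (x : N),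
      x ∈ (I ^ n • ⊤ : Submodule A N) → x ∈ (J ^ n • ⊤ : Submodule B N) := by
    intro N _ _ _ _ n x hx
    refine Submodule.smul_induction_on hx (fun a ha y _ => ?_) fun a b ha hb => add_mem ha hb
    rw [← algebraMap_smul B a y]
    exact Submodule.smul_mem_smul (hpow n a ha) trivial
  -- Â → B̂
  let ε : ∀ n, (A ⧸ (I ^ n • ⊤ : Submodule A A)) →ₗ[A] B ⧸ (J ^ n • ⊤ : Submodule B B) := fun n =>
    Submodule.liftQ _ ((((J ^ n • ⊤ : Submodule B B).mkQ).restrictScalars A) ∘ₗ Algebra.linearMap A B) (fun a ha => by
      rw [LinearMap.mem_ker]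
      refine (Submodule.Quotient.mk_eq_zero _).mpr ?_
      rw [smul_eq_mul, Ideal.mul_top] at ha ⊢
      exact hpow n a ha)
  let ι : AdicCompletion I A →ₗ[A] AdicCompletion J B :=
    { toFun := fun x => ⟨fun n => ε n (x.val n), fun {m n} h => by
        obtain ⟨a, ha⟩ := Submodule.Quotient.mk_surjective _ (x.val n)
        have hxm : x.val m = AdicCompletion.transitionMap I A h (x.val n) := (x.2 h).symm
        show AdicCompletion.transitionMap J B h (ε n (x.val n)) = ε m (x.val m)
        rw [hxm, ← ha]; rfl⟩
      map_add' := fun x y => AdicCompletion.ext fun n => map_add (ε n) (x.val n) (y.val n)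
      map_smul' := fun c x => AdicCompletion.ext fun n => map_smul (ε n) c (x.val n) }
  have hι1 : ι 1 = 1 := by
    have e1 : (1 : AdicCompletion I A) = AdicCompletion.of I A 1 := by
      rw [← map_one (algebraMap A (AdicCompletion I A)), AdicCompletion.algebraMap_apply]; rfl
    have e2 : (1 : AdicCompletion J B) = AdicCompletion.of J B 1 := by
      rw [← map_one (algebraMap B (AdicCompletion J B)), AdicCompletion.algebraMap_apply]; rfl
    rw [e1, e2]
    refine AdicCompletion.ext fun n => ?_
    show Submodule.Quotient.mk (algebraMap A B 1) = Submodule.Quotient.mk (1 : B)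
    rw [map_one]
  -- P → D_J
  let α0 : decaying I Z (AdicCompletion I A) →ₗ[A] decaying J Z (AdicCompletion J B) :=
    { toFun := fun g => ⟨fun z => ι ((g : Z → _) z), fun n => (g.2 n).subset fun z hz h => hz (hres _ n _ (map_mem_pow ι h))⟩
      map_add' := fun f g => Subtype.ext (funext fun z => map_add ι _ _)
      map_smul' := fun c g => Subtype.ext (funext fun z => by simp) }
  let α1 : B ⊗[A] P →ₗ[B] decaying J Z (AdicCompletion J B) := LinearMap.liftBaseChange B (α0 ∘ₗ e.toLinearMap)
  let α : AdicCompletion J (B ⊗[A] P) →ₗ[B] decaying J Z (AdicCompletion J B) :=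
    (AdicCompletion.ofLinearEquiv J _).symm.toLinearMap ∘ₗ (AdicCompletion.map J α1).restrictScalars B
  let F : Z → AdicCompletion J (B ⊗[A] P) := fun z => AdicCompletion.of J _ (1 ⊗ₜ[A] e.symm (single I z 1))
  let β : decaying J Z (AdicCompletion J B) →ₗ[B] AdicCompletion J (B ⊗[A] P) := complSum J F
  have hαof : ∀ x, α (AdicCompletion.of J _ x) = α1 x := fun x => by
    show (AdicCompletion.ofLinearEquiv J _).symm (AdicCompletion.map J α1 (AdicCompletion.of J _ x)) = _
    erw [AdicCompletion.map_of]
    simp
  have hα0s : ∀ z, α0 (single I z 1) = single J z 1 := fun z => Subtype.ext (funext fun z' => by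
    show ι ((single I z (1 : AdicCompletion I A) : Z → _) z') = _
    rcases eq_or_ne z' z with rfl | h
    · simp [hι1]
    · simp [h])
  have h1 : α ∘ₗ β = LinearMap.id := decaying_completion_ext hJ fun z => by
    simp [β, F, complSum_single, hαof, α1, hα0s]
  have h2 : β ∘ₗ α = LinearMap.id := completion_linearMap_ext fun x => by
    rw [LinearMap.comp_apply, hαof, LinearMap.id_apply]
    have : β ∘ₗ α1 = AdicCompletion.of J (B ⊗[A] P) := by
      refine TensorProduct.AlgebraTensorModule.ext fun b p => ?_
      haveI : IsHausdorff I (AdicCompletion J (B ⊗[A] P)) := IsHausdorff.of_map hIJ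
      have hext : (β.restrictScalars A) ∘ₗ α0 = ((AdicCompletion.of J (B ⊗[A] P)).restrictScalars A) ∘ₗ (TensorProduct.mk A B P 1) ∘ₗ e.symm.toLinearMap :=
        decaying_completion_ext hI fun z => by
          simp [β, F, hα0s, complSum_single]
      have := LinearMap.congr_fun hext (e p)
      simp at this
      rw [show b ⊗ₜ[A] p = b • ((1 : B) ⊗ₜ[A] p) by simp [TensorProduct.smul_tmul'], map_smul, map_smul, LinearMap.comp_apply]
      congr 1
      simpa [α1] using this
    exact LinearMap.congr_fun this x
  exact ⟨LinearEquiv.ofLinear α β h1 h2⟩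

end Groth.Agent.S17550
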