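import Groth.Statements.S17551
import Groth.Agent.CommAlg4.DecayingNoetherian
import Mathlib.RingTheory.LocalRing.Module
import Mathlib.RingTheory.LocalRing.Quotient
import Mathlib.Tactic

set_option linter.all false

set_option autoImplicit false
universe u
open W4c5adicflatcompl
open CAlg

open Groth.Agent.CommAlg4
open scoped TensorProduct

namespace Groth.Agent.S17551

/-- For a complete Noetherian local ring A (maximal ideal m, m-adic completion Â) and an m-adic system
(M n, ψ n : M (n+1) → M n) of A-modules, meaning that each M n is a module over A/m^(n+1) and each ψ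
n is surjective with kernel m^(n+1) M (n+1), if every M n is flat over A/m^(n+1) then the inverse
limit of the system is m-adically free (isomorphic to the m-adically decaying functions Z → Â for
some set Z), and for every n its projection to M n is surjective with kernel m^(n+1) times the
limit. A, the M n and Z share one universe. -/
theorem result {A : Type u} [CommRing A] [IsNoetherianRing A] [IsLocalRing A]
    [IsAdicComplete (IsLocalRing.maximalIdeal A) A]
    (M : ℕ → Type u) [∀ n, AddCommGroup (M n)] [∀ n, Module A (M n)]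
    [∀ n, Module (A ⧸ IsLocalRing.maximalIdeal A ^ (n + 1)) (M n)]
    [∀ n, IsScalarTower A (A ⧸ IsLocalRing.maximalIdeal A ^ (n + 1)) (M n)]
    [∀ n, Module.Flat (A ⧸ IsLocalRing.maximalIdeal A ^ (n + 1)) (M n)]
    (ψ : ∀ n, M (n + 1) →ₗ[A] M n) (hψ : ∀ n, Function.Surjective (ψ n))
    (hker : ∀ n, LinearMap.ker (ψ n) =
      (IsLocalRing.maximalIdeal A ^ (n + 1) • ⊤ : Submodule A (M (n + 1)))) :
    IsAdicFree (IsLocalRing.maximalIdeal A) (sysLim M ψ) ∧
      ∀ n, Function.Surjective (sysProj M ψ n) ∧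
        LinearMap.ker (sysProj M ψ n) =
          (IsLocalRing.maximalIdeal A ^ (n + 1) • ⊤ : Submodule A (sysLim M ψ)) := by
  classical
  have hfg : (IsLocalRing.maximalIdeal A).FG := IsNoetherian.noetherian (IsLocalRing.maximalIdeal A)
  let Q : ℕ → Type u := fun n => A ⧸ (IsLocalRing.maximalIdeal A) ^ (n + 1)
  have hsurjQ : ∀ n, Function.Surjective (algebraMap A (A ⧸ (IsLocalRing.maximalIdeal A) ^ (n+1))) := fun n => Ideal.Quotient.mk_surjective
  have hkill : ∀ n, ∀ a ∈ (IsLocalRing.maximalIdeal A) ^ (n+1), ∀ x : M n, a • x = 0 := fun n a ha x => by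
    rw [← algebraMap_smul (A ⧸ (IsLocalRing.maximalIdeal A) ^ (n+1)) a x, Ideal.Quotient.algebraMap_eq, Ideal.Quotient.eq_zero_iff_mem.mpr ha, zero_smul]
  -- basis of M 0
  let k := A ⧸ (IsLocalRing.maximalIdeal A) ^ (0+1)
  haveI : Module.Free k (M 0) := by
    have hm1 : (IsLocalRing.maximalIdeal A) ^ (0+1) = (IsLocalRing.maximalIdeal A) := pow_one (IsLocalRing.maximalIdeal A)
    haveI : ((IsLocalRing.maximalIdeal A) ^ (0+1)).IsMaximal := hm1.symm ▸ IsLocalRing.maximalIdeal.isMaximal A
    letI : Field k := Ideal.Quotient.field _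
    exact Module.Free.of_divisionRing _ _
  let Z := Module.Free.ChooseBasisIndex k (M 0)
  let b := Module.Free.chooseBasis k (M 0)
  -- compatible lifts
  choose lift hlift using hψ
  let v : ∀ n, Z → M n := fun n => Nat.rec (fun z => b z) (fun n w z => lift n (w z)) n
  have hv : ∀ n z, ψ n (v (n+1) z) = v n z := fun n z => hlift n (v n z)
  -- composite to level 0
  let π : ∀ n, M n →ₗ[A] M 0 := fun n => Nat.rec LinearMap.id (fun n p => p ∘ₗ ψ n) n
  have hπv : ∀ n z, π n (v n z) = b z := by
    intro n z; induction n with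
    | zero => rfl
    | succ n ih => show π n (ψ n (v (n+1) z)) = _; rw [hv, ih]
  have hπker : ∀ n, LinearMap.ker (π n) ≤ ((IsLocalRing.maximalIdeal A) • ⊤ : Submodule A (M n)) := by
    intro n; induction n with
    | zero => intro x hx; simp only [π, LinearMap.mem_ker, Nat.rec_zero, LinearMap.id_apply] at hx; exact hx ▸ Submodule.zero_mem _
    | succ n ih =>
      intro x hx
      have h1 : ψ n x ∈ ((IsLocalRing.maximalIdeal A) • ⊤ : Submodule A (M n)) := ih hx
      rw [show (⊤ : Submodule A (M n)) = Submodule.map (ψ n) ⊤ by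
        rw [Submodule.map_top, LinearMap.range_eq_top.mpr fun y => ⟨lift n y, hlift n y⟩], ← Submodule.map_smul''] at h1
      obtain ⟨y, hy, hyx⟩ := h1
      have h2 : x - y ∈ LinearMap.ker (ψ n) := by rw [LinearMap.mem_ker, map_sub, hyx, sub_self]
      rw [hker] at h2
      have := add_mem (Submodule.smul_mono_left (Ideal.pow_le_self n.succ_ne_zero) h2) hy
      simpa using this
  have hspan : ∀ n, Submodule.span A (Set.range (v n)) = ⊤ := by
    intro n
    have h0 : Submodule.span A (Set.range b) = ⊤ := by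
      rw [← Submodule.restrictScalars_span A k (hsurjQ 0) (Set.range b), b.span_eq, Submodule.restrictScalars_top]
    have hstep : ⊤ ≤ Submodule.span A (Set.range (v n)) ⊔ (IsLocalRing.maximalIdeal A) • ⊤ := by
      intro x _
      have hx : π n x ∈ Submodule.map (π n) (Submodule.span A (Set.range (v n))) := by
        rw [Submodule.map_span, ← Set.range_comp, show (⇑(π n) ∘ v n) = ⇑b from funext (hπv n), h0]; trivial
      obtain ⟨y, hy, hy'⟩ := hx
      exact Submodule.mem_sup.mpr ⟨y, hy, x - y, hπker n (by rw [LinearMap.mem_ker, map_sub, hy', sub_self]), add_sub_cancel _ _⟩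
    have hall : ∀ j, ⊤ ≤ Submodule.span A (Set.range (v n)) ⊔ (IsLocalRing.maximalIdeal A) ^ j • ⊤ := by
      intro j; induction j with
      | zero => simp
      | succ j ih =>
        refine ih.trans (sup_le le_sup_left ?_)
        calc (IsLocalRing.maximalIdeal A) ^ j • ⊤ ≤ (IsLocalRing.maximalIdeal A) ^ j • (Submodule.span A (Set.range (v n)) ⊔ (IsLocalRing.maximalIdeal A) • ⊤) := Submodule.smul_mono le_rfl hstep
          _ ≤ _ := by
            rw [Submodule.smul_sup, ← mul_smul, ← pow_succ]
            exact sup_le_sup_right Submodule.smul_le_right _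
    refine eq_top_iff.mpr ((hall (n+1)).trans (sup_le le_rfl ?_))
    exact Submodule.smul_le.mpr fun a ha x _ => by rw [hkill n a ha x]; exact Submodule.zero_mem _
  have hli : ∀ n, LinearIndependent (A ⧸ (IsLocalRing.maximalIdeal A) ^ (n+1)) (v n) := by
    intro n
    have hne : (IsLocalRing.maximalIdeal A) ^ (n+1) ≠ ⊤ := fun h => (IsLocalRing.maximalIdeal.isMaximal A).ne_top (eq_top_iff.mpr (h ▸ Ideal.pow_le_self n.succ_ne_zero))
    haveI : Nontrivial (A ⧸ (IsLocalRing.maximalIdeal A) ^ (n+1)) := Ideal.Quotient.nontrivial_iff.mpr hne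
    haveI : IsLocalRing (A ⧸ (IsLocalRing.maximalIdeal A) ^ (n+1)) := IsLocalRing.of_surjective' (Ideal.Quotient.mk ((IsLocalRing.maximalIdeal A) ^ (n+1))) Ideal.Quotient.mk_surjective
    apply Module.IsLocalRing.linearIndependent_of_flat
    rw [linearIndependent_iff']
    intro s c hc i hi
    choose a' ha' using fun j => Ideal.Quotient.mk_surjective (I := IsLocalRing.maximalIdeal (A ⧸ (IsLocalRing.maximalIdeal A) ^ (n+1))) (c j)
    choose a ha using fun j => Ideal.Quotient.mk_surjective (I := (IsLocalRing.maximalIdeal A) ^ (n+1)) (a' j)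
    have h1 : TensorProduct.mk (A ⧸ (IsLocalRing.maximalIdeal A) ^ (n+1)) (IsLocalRing.ResidueField (A ⧸ (IsLocalRing.maximalIdeal A) ^ (n+1))) (M n) 1 (∑ j ∈ s, a j • v n j) = 0 := by
      rw [map_sum, ← hc]
      refine Finset.sum_congr rfl fun j _ => ?_
      rw [← algebraMap_smul (A ⧸ (IsLocalRing.maximalIdeal A) ^ (n+1)) (a j), map_smul, ← algebraMap_smul (IsLocalRing.ResidueField (A ⧸ (IsLocalRing.maximalIdeal A) ^ (n+1))) (algebraMap A (A ⧸ (IsLocalRing.maximalIdeal A) ^ (n+1)) (a j)), Function.comp_apply]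
      congr 1
      rw [← ha' j, ← ha j]; rfl
    have hK : LinearMap.ker (TensorProduct.mk (A ⧸ (IsLocalRing.maximalIdeal A) ^ (n+1)) (IsLocalRing.ResidueField (A ⧸ (IsLocalRing.maximalIdeal A) ^ (n+1))) (M n) 1) =
        (IsLocalRing.maximalIdeal (A ⧸ (IsLocalRing.maximalIdeal A) ^ (n+1)) • ⊤ : Submodule (A ⧸ (IsLocalRing.maximalIdeal A) ^ (n+1)) (M n)) := LinearMap.ker_tensorProductMk (M n) (I := IsLocalRing.maximalIdeal (A ⧸ (IsLocalRing.maximalIdeal A) ^ (n+1)))
    have hπ0 : ∀ x, x ∈ (IsLocalRing.maximalIdeal (A ⧸ (IsLocalRing.maximalIdeal A) ^ (n+1)) • ⊤ : Submodule (A ⧸ (IsLocalRing.maximalIdeal A) ^ (n+1)) (M n)) → π n x = 0 := by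
      intro x hx
      refine Submodule.smul_induction_on hx (fun r hr y _ => ?_) fun p q hp hq => by rw [map_add, hp, hq, add_zero]
      obtain ⟨r, rfl⟩ := Ideal.Quotient.mk_surjective r
      have hr' : r ∈ (IsLocalRing.maximalIdeal A) := by
        intro hu
        exact hr (hu.map _)
      rw [show Ideal.Quotient.mk ((IsLocalRing.maximalIdeal A) ^ (n+1)) r • y = r • y from algebraMap_smul (A ⧸ (IsLocalRing.maximalIdeal A) ^ (n+1)) r y, map_smul]
      exact hkill 0 r (by rwa [pow_one]) _
    have h2 := hπ0 _ (hK ▸ (LinearMap.mem_ker.mpr h1 : _ ∈ LinearMap.ker _))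
    rw [map_sum] at h2
    simp only [map_smul, hπv] at h2
    have h3 := linearIndependent_iff'.mp b.linearIndependent s (fun j => algebraMap A k (a j)) (by
      simpa only [algebraMap_smul] using h2) i hi
    have h4 : a i ∈ (IsLocalRing.maximalIdeal A) := by
      have := Ideal.Quotient.eq_zero_iff_mem.mp (show Ideal.Quotient.mk ((IsLocalRing.maximalIdeal A) ^ (0+1)) (a i) = 0 from h3)
      rwa [pow_one] at this
    rw [← ha' i]
    refine Ideal.Quotient.eq_zero_iff_mem.mpr ?_
    rw [← ha i, IsLocalRing.mem_maximalIdeal]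
    intro hu
    obtain ⟨y, hy⟩ := hu.exists_right_inv
    obtain ⟨y, rfl⟩ := Ideal.Quotient.mk_surjective y
    rw [← map_mul, ← map_one (Ideal.Quotient.mk ((IsLocalRing.maximalIdeal A) ^ (n+1))), Ideal.Quotient.eq] at hy
    refine (IsLocalRing.maximalIdeal.isMaximal A).ne_top ((Ideal.eq_top_iff_one _).mpr ?_)
    have := sub_mem (Ideal.mul_mem_right y (IsLocalRing.maximalIdeal A) h4) (Ideal.pow_le_self n.succ_ne_zero hy)
    rwa [sub_sub_cancel] at this
  -- coefficients mod (IsLocalRing.maximalIdeal A)^(n+1)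
  have hcoef : ∀ n (S : Finset Z) (c : Z → A), ∑ z ∈ S, c z • v n z = 0 → ∀ z ∈ S, c z ∈ (IsLocalRing.maximalIdeal A) ^ (n+1) := by
    intro n S c h z hz
    exact Ideal.Quotient.eq_zero_iff_mem.mp (linearIndependent_iff'.mp (hli n) S (fun j => algebraMap A (A ⧸ (IsLocalRing.maximalIdeal A) ^ (n+1)) (c j)) (by simpa only [algebraMap_smul] using h) z hz)
  -- the map
  let F : ∀ n, decaying (IsLocalRing.maximalIdeal A) Z A →ₗ[A] M n := fun n =>
    { toFun := fun g => ∑ᶠ z, (g : Z → A) z • v n z
      map_add' := fun f g => by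
        simp only [Submodule.coe_add, Pi.add_apply, add_smul]
        exact finsum_add_distrib ((f.2 (n+1)).subset fun z hz h => hz (hkill n _ (by simpa [smul_eq_mul] using h) _))
          ((g.2 (n+1)).subset fun z hz h => hz (hkill n _ (by simpa [smul_eq_mul] using h) _))
      map_smul' := fun c g => by
        simp only [Submodule.coe_smul, Pi.smul_apply, RingHom.id_apply, smul_eq_mul, mul_smul]
        exact (smul_finsum' c ((g.2 (n+1)).subset fun z hz h => hz (hkill n _ (by simpa [smul_eq_mul] using h) _))).symm }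
  have hF : ∀ n (g : decaying (IsLocalRing.maximalIdeal A) Z A) (S : Finset Z), (∀ z, z ∉ S → (g : Z → A) z ∈ (IsLocalRing.maximalIdeal A) ^ (n+1)) → F n g = ∑ z ∈ S, (g : Z → A) z • v n z :=
    fun n g S hS => finsum_eq_sum_of_support_subset _ fun z hz => by
      by_contra h; exact hz (hkill n _ (hS z h) _)
  have hS : ∀ n (g : decaying (IsLocalRing.maximalIdeal A) Z A), ∀ z, z ∉ (g.2 (n+1)).toFinset → (g : Z → A) z ∈ (IsLocalRing.maximalIdeal A) ^ (n+1) := fun n g z hz => by
    simpa [smul_eq_mul] using hz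
  have hFψ : ∀ g n, ψ n (F (n+1) g) = F n g := by
    intro g n
    rw [hF (n+1) g (g.2 (n+2)).toFinset (hS (n+1) g), hF n g (g.2 (n+2)).toFinset (fun z hz => Ideal.pow_le_pow_right (n+1).le_succ (hS (n+1) g z hz)), map_sum]
    simp [hv]
  let Φ : decaying (IsLocalRing.maximalIdeal A) Z A →ₗ[A] sysLim M ψ := LinearMap.codRestrict _ (LinearMap.pi F) (fun g n => hFψ g n)
  have hzero : ∀ n g, F n g = 0 → ∀ z, (g : Z → A) z ∈ (IsLocalRing.maximalIdeal A) ^ (n+1) := by
    intro n g hg z
    by_cases hz : z ∈ (g.2 (n+1)).toFinset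
    · exact hcoef n _ _ (by rw [← hF n g _ (hS n g)]; exact hg) z hz
    · exact hS n g z hz
  have hinj : Function.Injective Φ := (injective_iff_map_eq_zero Φ).mpr fun g hg => Subtype.ext (funext fun z =>
    IsHausdorff.haus (I := (IsLocalRing.maximalIdeal A)) inferInstance _ fun n => SModEq.zero.mpr (by
      rw [smul_eq_mul, Ideal.mul_top]
      exact Ideal.pow_le_pow_right n.le_succ (hzero n g (congrFun (congrArg Subtype.val hg) n) z)))
  have hsurj : Function.Surjective Φ := by
    rintro ⟨x, hx⟩
    choose c hc using fun n => (Finsupp.mem_span_range_iff_exists_finsupp).mp (show x n ∈ Submodule.span A (Set.range (v n)) by rw [hspan n]; trivial)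
    have hstep : ∀ n z, c (n+1) z - c n z ∈ (IsLocalRing.maximalIdeal A) ^ (n+1) := by
      intro n z
      have h1 : ∑ j ∈ (c (n+1)).support ∪ (c n).support, (c (n+1) j - c n j) • v n j = 0 := by
        simp only [sub_smul, Finset.sum_sub_distrib]
        rw [← Finsupp.sum_of_support_subset (c (n+1)) Finset.subset_union_left (fun j a => a • v n j) (by simp),
          ← Finsupp.sum_of_support_subset (c n) Finset.subset_union_right (fun j a => a • v n j) (by simp), hc n]
        have := hx n
        rw [← hc (n+1), map_finsuppSum] at this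
        simp only [map_smul, hv] at this
        rw [this, sub_self]
      by_cases hz : z ∈ (c (n+1)).support ∪ (c n).support
      · exact hcoef n _ _ h1 z hz
      · simp only [Finset.mem_union, Finsupp.mem_support_iff, not_or, not_not] at hz
        rw [hz.1, hz.2, sub_self]; exact zero_mem _
    have hc2 : ∀ z a b, a ≤ b → c b z - c a z ∈ (IsLocalRing.maximalIdeal A) ^ (a+1) := by
      intro z a b hab
      induction b, hab using Nat.le_induction with
      | base => simp
      | succ b hb ih => simpa using add_mem (Ideal.pow_le_pow_right (Nat.succ_le_succ hb) (hstep b z)) ih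
    have hlim : ∀ z, ∃ L : A, ∀ n, c n z - L ∈ (IsLocalRing.maximalIdeal A) ^ n := by
      intro z
      obtain ⟨L, hL⟩ := IsPrecomplete.prec (I := (IsLocalRing.maximalIdeal A)) (M := A) inferInstance (f := fun n => c n z) (fun {a b} hab => SModEq.sub_mem.mpr (by
        rw [smul_eq_mul, Ideal.mul_top]
        exact neg_sub (c b z) (c a z) ▸ neg_mem (Ideal.pow_le_pow_right a.le_succ (hc2 z a b hab))))
      exact ⟨L, fun n => by simpa [smul_eq_mul] using SModEq.sub_mem.mp (hL n)⟩
    choose g hg using hlim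
    have hgc : ∀ n z, g z - c n z ∈ (IsLocalRing.maximalIdeal A) ^ (n+1) := fun n z => by
      have := sub_mem (hc2 z n (n+1) n.le_succ) (hg z (n+1))
      rwa [sub_sub_sub_cancel_left] at this
    have hgd : g ∈ decaying (IsLocalRing.maximalIdeal A) Z A := fun n => (c n).support.finite_toSet.subset fun z hz => by
      by_contra h0
      simp only [Finset.mem_coe, Finsupp.mem_support_iff, not_not] at h0
      have := hgc n z
      rw [h0, sub_zero] at this
      exact hz (by rw [smul_eq_mul, Ideal.mul_top]; exact Ideal.pow_le_pow_right n.le_succ this)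
    refine ⟨⟨g, hgd⟩, Subtype.ext (funext fun n => ?_)⟩
    show F n ⟨g, hgd⟩ = x n
    rw [hF n ⟨g, hgd⟩ (c n).support (fun z hz => by
      have := hgc n z; rwa [Finsupp.notMem_support_iff.mp hz, sub_zero] at this), ← hc n, Finsupp.sum]
    refine Finset.sum_congr rfl fun z _ => ?_
    rw [← sub_eq_zero, ← sub_smul]; exact hkill n _ (hgc n z) _
  let e := LinearEquiv.ofBijective Φ ⟨hinj, hsurj⟩
  refine ⟨⟨Z, ⟨?_⟩⟩, fun n => ⟨?_, le_antisymm ?_ ?_⟩⟩
  · let c : AdicCompletion (IsLocalRing.maximalIdeal A) A ≃ₗ[A] A := (AdicCompletion.ofLinearEquiv (IsLocalRing.maximalIdeal A) A).symm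
    let d : decaying (IsLocalRing.maximalIdeal A) Z A ≃ₗ[A] decaying (IsLocalRing.maximalIdeal A) Z (AdicCompletion (IsLocalRing.maximalIdeal A) A) := (LinearEquiv.ofLinear (decayingMap c.symm.toLinearMap) (decayingMap c.toLinearMap)
      (LinearMap.ext fun g => Subtype.ext (funext fun z => by simp))
      (LinearMap.ext fun g => Subtype.ext (funext fun z => by simp)))
    exact e.symm.trans d
  · intro x
    obtain ⟨c, rfl⟩ := Finsupp.mem_span_range_iff_exists_finsupp.mp (show x ∈ Submodule.span A (Set.range (v n)) by rw [hspan n]; trivial)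
    refine ⟨Φ ⟨⇑c, fun j => c.support.finite_toSet.subset fun z hz => ?_⟩, ?_⟩
    · by_contra h0
      simp only [Finset.mem_coe, Finsupp.mem_support_iff, not_not] at h0
      exact hz (by rw [h0]; exact Submodule.zero_mem _)
    · exact hF n _ c.support (fun z hz => by show c z ∈ _; rw [Finsupp.notMem_support_iff.mp hz]; exact zero_mem _)
  · intro x hx
    obtain ⟨g, rfl⟩ := hsurj x
    refine map_mem_pow Φ ((mem_pow_smul_decaying_iff hfg (n+1) g).mpr fun z => ?_)
    rw [smul_eq_mul, Ideal.mul_top]
    exact hzero n g hx z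
  · exact Submodule.smul_le.mpr fun a ha x _ => by
      rw [LinearMap.mem_ker, map_smul]; exact hkill n a ha _

end Groth.Agent.S17551
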