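import Groth.Statements.S17552
import Groth.Agent.CommAlg4.DecayingNoetherian
import Groth.Agent.CommAlg4.DecayingSpan
import Mathlib.RingTheory.AdicCompletion.AsTensorProduct
import Mathlib.RingTheory.LocalRing.Module
import Mathlib.LinearAlgebra.TensorProduct.Quotient
import Mathlib.Tactic

set_option linter.all false

set_option autoImplicit false
universe u
open W4c5adicflatcompl
open CAlg

open Groth.Agent.CommAlg4
open scoped TensorProduct

namespace Groth.Agent.S17552

/-- For a complete Noetherian local ring A (maximal ideal m, m-adic completion Â), an A-module M is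
isomorphic to the module of m-adically decaying functions Z → Â for some set Z (m-adically free)
exactly when M is flat and m-adically complete. M and Z live in the universe of A. -/
theorem result {A : Type u} [CommRing A] [IsNoetherianRing A] [IsLocalRing A]
    [IsAdicComplete (IsLocalRing.maximalIdeal A) A]
    (M : Type u) [AddCommGroup M] [Module A M] :
    IsAdicFree (IsLocalRing.maximalIdeal A) M ↔
      Module.Flat A M ∧ IsAdicComplete (IsLocalRing.maximalIdeal A) M := by
  classical
  set m := IsLocalRing.maximalIdeal A with hm
  have hfg : m.FG := IsNoetherian.noetherian m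
  let c : AdicCompletion m A ≃ₗ[A] A := (AdicCompletion.ofLinearEquiv m A).symm
  have dEquiv : ∀ Z : Type u, Nonempty (decaying m Z (AdicCompletion m A) ≃ₗ[A] decaying m Z A) := fun Z =>
    ⟨LinearEquiv.ofLinear (decayingMap c.toLinearMap) (decayingMap c.symm.toLinearMap)
      (LinearMap.ext fun g => Subtype.ext (funext fun z => by simp))
      (LinearMap.ext fun g => Subtype.ext (funext fun z => by simp))⟩
  constructor
  · rintro ⟨Z, ⟨e⟩⟩
    obtain ⟨d⟩ := dEquiv Z
    haveI : Module.Flat A (decaying m Z A) := flat_decaying m Z
    haveI : IsAdicComplete m (decaying m Z A) := isAdicComplete_decaying hfg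
    exact ⟨Module.Flat.of_linearEquiv (e.trans d), isAdicComplete_of_retract (e.trans d).toLinearMap (e.trans d).symm.toLinearMap (LinearMap.ext fun x => by simp)⟩
  · rintro ⟨hflat, hcomp⟩
    let k := IsLocalRing.ResidueField A
    let b := Module.Free.chooseBasis k (k ⊗[A] M)
    let Z := Module.Free.ChooseBasisIndex k (k ⊗[A] M)
    have hsur : Function.Surjective (TensorProduct.mk A k M 1) := TensorProduct.mk_surjective A M k Ideal.Quotient.mk_surjective
    choose v hv using fun z => hsur (b z)
    have hK : LinearMap.ker (TensorProduct.mk A k M 1) = (m • ⊤ : Submodule A M) := LinearMap.ker_tensorProductMk M (I := m)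
    have hker : ∀ x : M, TensorProduct.mk A k M 1 x = 0 → x ∈ (m • ⊤ : Submodule A M) := fun x hx => hK ▸ hx
    have hker' : ∀ x : M, x ∈ (m • ⊤ : Submodule A M) → TensorProduct.mk A k M 1 x = 0 := fun x hx =>
      LinearMap.mem_ker.mp (hK.symm ▸ hx)
    have hspan : Submodule.span A (Set.range v) ⊔ m • ⊤ = ⊤ := by
      refine eq_top_iff.mpr fun x _ => ?_
      have hx : TensorProduct.mk A k M 1 x ∈ Submodule.map (TensorProduct.mk A k M 1) (Submodule.span A (Set.range v)) := by
        rw [Submodule.map_span, ← Set.range_comp, show (⇑(TensorProduct.mk A k M 1) ∘ v) = ⇑b from funext hv,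
          ← Submodule.restrictScalars_span A k ?_ (Set.range b)]
        · rw [Submodule.restrictScalars_mem, b.span_eq]; trivial
        · exact Ideal.Quotient.mk_surjective
      obtain ⟨y, hy, hy'⟩ := hx
      exact Submodule.mem_sup.mpr ⟨y, hy, x - y, hker _ (by rw [map_sub, hy', sub_self]), add_sub_cancel _ _⟩
    let φ : decaying m Z A →ₗ[A] M := scalarSum m v
    have hφs : Function.Surjective φ := exists_scalarSum_eq v hspan
    have hcz : ∀ (z : Z) (g : decaying m Z A), b.repr (TensorProduct.mk A k M 1 (φ g)) z = algebraMap A k ((g : Z → A) z) := by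
      intro z g
      let S := insert z (g.2 1).toFinset
      have hS : ∀ z', z' ∉ S → (g : Z → A) z' • v z' ∈ (m ^ 1 • ⊤ : Submodule A M) := fun z' hz' =>
        map_mem_pow (LinearMap.toSpanSingleton A M (v z')) (by simp [S] at hz' ⊢; exact hz'.2)
      have h1 := scalarSum_sub_mem v g 1 S hS
      rw [pow_one] at h1
      have h2 := hker' _ h1
      rw [map_sub, sub_eq_zero] at h2
      rw [h2, map_sum, map_sum, Finset.sum_apply']
      rw [Finset.sum_eq_single z]
      · rw [map_smul, hv, ← algebraMap_smul k ((g : Z → A) z), map_smul, b.repr_self]; simp [Algebra.smul_def]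
      · intro z' _ hne
        rw [map_smul, hv, ← algebraMap_smul k ((g : Z → A) z'), map_smul, b.repr_self]
        simp [Finsupp.single_apply, hne]
      · simp [S]
    have hφi : ∀ g, φ g = 0 → ∀ n z, (g : Z → A) z ∈ m ^ n := by
      intro g hg n
      induction n with
      | zero => simp
      | succ n ih =>
        intro z
        have hg' : g ∈ (m ^ n • ⊤ : Submodule A (decaying m Z A)) :=
          (mem_pow_smul_decaying_iff hfg n g).mpr fun z => by simpa [smul_eq_mul] using ih z
        let μ : ∀ (N : Type u) [AddCommGroup N] [Module A N], (↥(m ^ n)) ⊗[A] N →ₗ[A] N := fun N _ _ =>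
          TensorProduct.lift ((LinearMap.lsmul A N) ∘ₗ (m ^ n).subtype)
        obtain ⟨t, ht⟩ : g ∈ LinearMap.range (μ (decaying m Z A)) := by
          refine Submodule.smul_le.mpr (fun a ha y _ => ?_) hg'
          exact ⟨⟨a, ha⟩ ⊗ₜ y, by simp [μ]⟩
        have hnat : ∀ (N N' : Type u) [AddCommGroup N] [Module A N] [AddCommGroup N'] [Module A N'] (f : N →ₗ[A] N') s, f (μ N s) = μ N' (f.lTensor _ s) := by
          intro N N' _ _ _ _ f s
          induction s using TensorProduct.induction_on with
          | zero => simp
          | tmul a y => simp [μ]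
          | add a c ha hc => simp [ha, hc]
        have hinj : Function.Injective (μ M) := by
          have h := (Module.Flat.iff_rTensor_injective').mp hflat (m ^ n)
          have : μ M = (TensorProduct.lid A M).toLinearMap ∘ₗ (m ^ n).subtype.rTensor M := TensorProduct.ext' fun a y => by simp [μ]
          rw [this]; exact (TensorProduct.lid A M).injective.comp h
        have h0 : φ.lTensor _ t = 0 := hinj (by rw [← hnat, ht, hg, map_zero])
        let ev : decaying m Z A →ₗ[A] A := decayingEval z
        let cz : M →ₗ[A] k := ((Finsupp.lapply z ∘ₗ b.repr.toLinearMap).restrictScalars A) ∘ₗ TensorProduct.mk A k M 1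
        have hc : cz ∘ₗ φ = (Algebra.linearMap A k) ∘ₗ ev := LinearMap.ext fun g => hcz z g
        let s := (ev.lTensor _) t
        have hs : (Algebra.linearMap A k).lTensor _ s = 0 := by
          rw [← LinearMap.lTensor_comp_apply, ← hc, LinearMap.lTensor_comp_apply, h0, map_zero]
        have hgz : (g : Z → A) z = μ A s := by rw [← hnat, ht]; rfl
        let Θ : (↥(m ^ n)) ⊗[A] k →ₗ[A] A ⧸ m ^ (n+1) :=
          TensorProduct.lift
            { toFun := fun a => Submodule.liftQ m ((m ^ (n+1)).mkQ ∘ₗ LinearMap.toSpanSingleton A A (a : A)) (fun r hr => by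
                rw [LinearMap.mem_ker, LinearMap.comp_apply, Submodule.mkQ_apply, Submodule.Quotient.mk_eq_zero, LinearMap.toSpanSingleton_apply, smul_eq_mul, pow_succ']
                exact Ideal.mul_mem_mul hr a.2)
              map_add' := fun a a' => Submodule.linearMap_qext _ (LinearMap.ext fun r => by
                show Submodule.Quotient.mk (p := m ^ (n+1)) (r • ((a : A) + (a' : A))) = Submodule.Quotient.mk (p := m ^ (n+1)) (r • (a : A)) + Submodule.Quotient.mk (p := m ^ (n+1)) (r • (a' : A))
                rw [← Submodule.Quotient.mk_add, smul_add])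
              map_smul' := fun c a => Submodule.linearMap_qext _ (LinearMap.ext fun r => by
                show Submodule.Quotient.mk (p := m ^ (n+1)) (r • (c • (a : A))) = c • Submodule.Quotient.mk (p := m ^ (n+1)) (r • (a : A))
                rw [← Submodule.Quotient.mk_smul, smul_comm]) }
        have hΘ : ∀ s, Θ ((Algebra.linearMap A k).lTensor _ s) = (m ^ (n+1)).mkQ (μ A s) := by
          intro s
          induction s using TensorProduct.induction_on with
          | zero => simp
          | tmul a r =>
            simp only [Θ, μ, LinearMap.lTensor_tmul, TensorProduct.lift.tmul, LinearMap.coe_mk, AddHom.coe_mk, LinearMap.comp_apply]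
            show Submodule.Quotient.mk (r • (a : A)) = Submodule.Quotient.mk ((a : A) • r)
            rw [smul_eq_mul, smul_eq_mul, mul_comm]
          | add a c ha hc => simp only [map_add, ha, hc]
        have := hΘ s
        rw [hs, map_zero, ← hgz] at this
        exact (Submodule.Quotient.mk_eq_zero _).mp this.symm
    have hφb : Function.Bijective φ := ⟨(injective_iff_map_eq_zero φ).mpr fun g hg => Subtype.ext (funext fun z =>
      IsHausdorff.haus (I := m) inferInstance _ fun n => SModEq.zero.mpr (by simpa [smul_eq_mul] using hφi g hg n z)), hφs⟩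
    obtain ⟨d⟩ := dEquiv Z
    exact ⟨Z, ⟨(LinearEquiv.ofBijective φ hφb).symm.trans d.symm⟩⟩

end Groth.Agent.S17552
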