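import Groth.Statements.S17573
import Groth.Agent.Bivar15.ZeroSection

set_option autoImplicit false
set_option backward.isDefEq.respectTransparency.types false
universe u
open CategoryTheory AlgebraicGeometry
open Bivar

namespace Groth.Agent.S17573

/-- Let L be an invertible O_X-module and c_1(L) ∈ A^1(X) its first Chern class. Then c_1(L) is in the
centre of the ring A^*(X) of operational classes: for every operational class d ∈ A^q(X), every test
scheme g : Y → X locally of finite type (with induced dimension function) and every x ∈ CH_k(Y) one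
has c_1(L) ∩ (d ∩ x) = d ∩ (c_1(L) ∩ x) in CH_{k−q−1}(Y). Here c_1(L) is given through the binder
Bivar.IsC1Class (on every test scheme it caps a cycle class to the class of c_1(g^*L) ∩ α computed
with any nowhere-zero rational sections), and the two sides, of weights k − q − 1 and k − 1 − q, are
compared through the transport Bivar.chCast. Here a pair (X, δ) with Cyc.IsSetup plays the role of a
scheme locally of finite type over the base (S, δ) (X locally Noetherian with universally catenary
local rings, δ a dimension function), Cyc.DeltaCompat records that a dimension function is the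
induced one, and bivariant classes are taken in the operational sense of the prelude: additive
operations on the Chow groups CH_k (k-cycles modulo rational equivalence) of all test schemes,
compatible with proper pushforward, flat pullback and the Gysin maps of zero schemes of sections of
invertible modules in representative form (Bivar.Cl for A^p(X → Y), Bivar.OpCl for A^p(X)). -/
theorem result (X : Scheme.{u}) (δX : X → ℤ) (hX : Cyc.IsSetup X δX) (L : X.Modules) (c : Bivar.OpCl 1 X δX) (hc : Bivar.IsC1Class L c) (q : ℤ) (d : Bivar.OpCl q X δX) (s : Bivar.OSq X δX) (k : ℤ) (x : ChowOps.CH s.Y s.δ k) : c.op s (k - q) (d.op s k x) = Bivar.chCast s.Y s.δ (sub_right_comm k 1 q) (d.op s (k - 1) (c.op s k x)) := by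
  obtain ⟨α, hα, rfl⟩ := Bivar.exists_rep x
  have hs := Groth.Agent.Bivar15.isSetup_osq hX s
  haveI := hs.1
  have hN := PicLoc.isInvertible_pullback s.g hc.1
  obtain ⟨w, hw⟩ := Groth.Agent.CycLib28.PB.Ops.exists_secs hN
  obtain ⟨β, hβ, e1, H⟩ := d.gysin s s (CategoryTheory.CategoryStruct.id s.Y) (CategoryTheory.Category.id_comp _)
    ((Scheme.Modules.pullback s.g).obj L) hN 0 (Groth.Agent.Bivar15.isZeroSchemeOf_zero hN) k α hα
  obtain ⟨γ, hγ⟩ := Groth.Agent.CycLib28.exists_c1Cap_cycle hs.2.2 hN α w hw
  have hγk := Groth.Agent.CycLib28.PB.Ops.c1Cap_mem hα hγ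
  obtain ⟨ζ, hζ, hζc, e2⟩ := H w hw γ
    (fun y => by rw [Groth.Agent.Bivar15.gysinChoice_zero, hγ]; rfl) hγk
  have hζc' : ⇑ζ = Cyc.c1CapFun s.δ ((Scheme.Modules.pullback s.g).obj L) ⇑β w :=
    funext fun y => by rw [hζc, Groth.Agent.Bivar15.gysinChoice_zero]; rfl
  have hζ' : ζ ∈ Cyc.Zk s.Y s.δ (k - q - 1) := Groth.Agent.CycLib28.PB.Ops.c1Cap_mem hβ hζc'
  rw [e1, hc.2 s (k - q) β hβ w hw ζ hζc' hζ', hc.2 s k α hα w hw γ hγ hγk, e2, Bivar.chCast_cl]

end Groth.Agent.S17573
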