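import Groth.Statements.S17574
import Groth.Agent.Bivar15.ZeroSection
import Groth.Agent.Bivar15.SecIso

set_option autoImplicit false
set_option backward.isDefEq.respectTransparency.types false
universe u
open CategoryTheory AlgebraicGeometry
open Bivar

namespace Groth.Agent.S17574

/-- Let f : X' → X be locally of finite type, L an invertible O_X-module, and c ∈ A^p(X' → X) a
bivariant class. Then c ∘ c_1(L) = c_1(f^*L) ∘ c in A^{p+1}(X' → X): for every cartesian square (g :
Y → X, Y' = Y ×_X X', g' : Y' → X') with g locally of finite type and every x ∈ CH_k(Y), c ∩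
(c_1(g^*L) ∩ x) = c_1((g')^*f^*L) ∩ (c ∩ x) in CH_{k−1−p}(Y'). Here the first Chern classes of L on
X and of f^*L on X' are given as operational classes cX ∈ A^1(X), cX' ∈ A^1(X') through the binder
Bivar.IsC1Class, evaluated on the test schemes Y → X and Y' → X' of the square (Y' → X' is locally
of finite type as a base change of g), and the two sides, of weights k − p − 1 and k − 1 − p, are
compared through the transport Bivar.chCast. Here a pair (X, δ) with Cyc.IsSetup plays the role of a
scheme locally of finite type over the base (S, δ) (X locally Noetherian with universally catenary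
local rings, δ a dimension function), Cyc.DeltaCompat records that a dimension function is the
induced one, and bivariant classes are taken in the operational sense of the prelude: additive
operations on the Chow groups CH_k (k-cycles modulo rational equivalence) of all test schemes,
compatible with proper pushforward, flat pullback and the Gysin maps of zero schemes of sections of
invertible modules in representative form (Bivar.Cl for A^p(X → Y), Bivar.OpCl for A^p(X)). -/
theorem result (X X' : Scheme.{u}) (δX : X → ℤ) (δX' : X' → ℤ) (hX : Cyc.IsSetup X δX) (hX' : Cyc.IsSetup X' δX') (f : X' ⟶ X) [LocallyOfFiniteType f] (hδ : Cyc.DeltaCompat f δX' δX) (L : X.Modules) (cX : Bivar.OpCl 1 X δX) (hcX : Bivar.IsC1Class L cX) (cX' : Bivar.OpCl 1 X' δX') (hcX' : Bivar.IsC1Class ((Scheme.Modules.pullback f).obj L) cX') (p : ℤ) (c : Bivar.Cl p f δX' δX) (s : Bivar.Sq f δX' δX) (k : ℤ) (x : ChowOps.CH s.Y' s.δY' k) : c.op s (k - 1) (cX.op ⟨s.Y', s.g, s.lft, s.δY', s.compatY⟩ k x) = Bivar.chCast s.X' s.δX' (sub_right_comm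 k p 1) (cX'.op ⟨s.X', s.g', MorphismProperty.of_isPullback s.isPullback s.lft, s.δX', s.compatX⟩ (k - p) (c.op s k x)) := by
  obtain ⟨α, hα, rfl⟩ := Bivar.exists_rep x
  haveI := s.lft
  haveI hlg : LocallyOfFiniteType s.g' := CategoryTheory.MorphismProperty.of_isPullback s.isPullback inferInstance
  have hsY := Groth.Agent.CycLib28.PB.isSetup_of_deltaCompat s.g hX s.compatY
  have hsX := Groth.Agent.CycLib28.PB.isSetup_of_deltaCompat s.g' hX' s.compatX
  haveI := hsY.1
  haveI := hsX.1
  have hN := PicLoc.isInvertible_pullback s.g hcX.1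
  have hN' := PicLoc.isInvertible_pullback s.f' hN
  have hM := PicLoc.isInvertible_pullback s.g' hcX'.1
  let e : (Scheme.Modules.pullback s.f').obj ((Scheme.Modules.pullback s.g).obj L) ≅
      (Scheme.Modules.pullback s.g').obj ((Scheme.Modules.pullback f).obj L) :=
    (Scheme.Modules.pullbackComp s.f' s.g).app L ≪≫ (Scheme.Modules.pullbackCongr s.isPullback.w).app L ≪≫
      ((Scheme.Modules.pullbackComp s.g' f).app L).symm
  obtain ⟨w, hw⟩ := Groth.Agent.CycLib28.PB.Ops.exists_secs hN
  obtain ⟨u, hu⟩ := Groth.Agent.CycLib28.PB.Ops.exists_secs hN'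
  obtain ⟨β, hβ, e1, H⟩ := c.gysin s s (CategoryTheory.CategoryStruct.id s.Y') (CategoryTheory.CategoryStruct.id s.X')
    (CategoryTheory.Category.id_comp _) (by simp) (CategoryTheory.Category.id_comp _)
    ((Scheme.Modules.pullback s.g).obj L) hN 0 (Groth.Agent.Bivar15.isZeroSchemeOf_zero hN)
    0 (Groth.Agent.Bivar15.isZeroSchemeOf_zero hN') k α hα
  obtain ⟨γ, hγ⟩ := Groth.Agent.CycLib28.exists_c1Cap_cycle hsY.2.2 hN α w hw
  have hγk := Groth.Agent.CycLib28.PB.Ops.c1Cap_mem hα hγ
  obtain ⟨ζ, hζ, hζc, e2⟩ := H w hw γ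
    (fun y => by rw [Groth.Agent.Bivar15.gysinChoice_zero, hγ]; rfl) hγk u hu
  have hζc' : ⇑ζ = Cyc.c1CapFun s.δX' ((Scheme.Modules.pullback s.g').obj ((Scheme.Modules.pullback f).obj L)) ⇑β
      (fun ξ => Groth.Agent.Bivar15.secMap e.hom ξ (u ξ)) := funext fun y => by
    rw [hζc, Groth.Agent.Bivar15.gysinChoice_zero]
    refine finsum_congr fun ξ => congrArg (β ξ * ·) ?_
    exact (Groth.Agent.Bivar15.secDivFun_secMap hsX.2.2 hN' hM e (hu ξ) _).symm
  have hζ' : ζ ∈ Cyc.Zk s.X' s.δX' (k - p - 1) := Groth.Agent.CycLib28.PB.Ops.c1Cap_mem hβ hζc'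
  rw [hcX.2 ⟨s.Y', s.g, s.lft, s.δY', s.compatY⟩ k α hα w hw γ hγ hγk, e1,
    hcX'.2 ⟨s.X', s.g', CategoryTheory.MorphismProperty.of_isPullback s.isPullback s.lft, s.δX', s.compatX⟩
      (k - p) β hβ (fun ξ => Groth.Agent.Bivar15.secMap e.hom ξ (u ξ))
      (fun ξ => Groth.Agent.Bivar15.secMap_ne_zero e (hu ξ)) ζ hζc' hζ',
    Bivar.chCast_cl, e2]

end Groth.Agent.S17574
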