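import Groth.Statements.S17576
import Groth.Agent.Bivar15.C1
import Groth.Agent.S6482
import Groth.Agent.S6484

set_option autoImplicit false
set_option backward.isDefEq.respectTransparency.types false
universe u
open CategoryTheory AlgebraicGeometry
open Bivar

namespace Groth.Agent.S17576

/-- Let f : X → Y be locally of finite type, g : Y' → Y an envelope (a proper, completely decomposed
morphism: over every point of Y lies a point of Y' with trivial residue field extension) and X' = Y'
×_Y X. Then a bivariant class c ∈ A^p(X → Y) is determined by its restriction res(c) ∈ A^p(X' → Y'):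
two classes with the same restriction along the square (g, X') are equal. (The existence part — a
class c' on X' → Y' whose two restrictions to X' ×_X X' → Y' ×_Y Y' agree descends — is not stated
here.) Here a pair (X, δ) with Cyc.IsSetup plays the role of a scheme locally of finite type over
the base (S, δ) (X locally Noetherian with universally catenary local rings, δ a dimension
function), Cyc.DeltaCompat records that a dimension function is the induced one, and bivariant
classes are taken in the operational sense of the prelude: additive operations on the Chow groups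
CH_k (k-cycles modulo rational equivalence) of all test schemes, compatible with proper pushforward,
flat pullback and the Gysin maps of zero schemes of sections of invertible modules in representative
form (Bivar.Cl for A^p(X → Y), Bivar.OpCl for A^p(X)). -/
theorem result (X Y : Scheme.{u}) (δX : X → ℤ) (δY : Y → ℤ) (hX : Cyc.IsSetup X δX) (hY : Cyc.IsSetup Y δY) (f : X ⟶ Y) [LocallyOfFiniteType f] (hδ : Cyc.DeltaCompat f δX δY) (p : ℤ) (s₀ : Bivar.Sq f δX δY) [IsProper s₀.g] (hcd : Cyc.IsCompletelyDecomposed s₀.g) (c₁ c₂ : Bivar.Cl p f δX δY) (heq : c₁.res s₀ = c₂.res s₀) : c₁ = c₂ := by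
  refine Bivar.Cl.ext (funext fun s => funext fun k => AddMonoidHom.ext fun x => ?_)
  obtain ⟨α, hα, rfl⟩ := Bivar.exists_rep x
  haveI := s.lft
  haveI := s₀.lft
  let h : CategoryTheory.Limits.pullback s₀.g s.g ⟶ s.Y' := CategoryTheory.Limits.pullback.snd s₀.g s.g
  let a : CategoryTheory.Limits.pullback s₀.g s.g ⟶ s₀.Y' := CategoryTheory.Limits.pullback.fst s₀.g s.g
  haveI : IsProper h := CategoryTheory.MorphismProperty.pullback_snd _ _ inferInstance
  haveI : LocallyOfFiniteType a := CategoryTheory.MorphismProperty.pullback_fst _ _ inferInstance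
  haveI : LocallyOfFiniteType s₀.f' := CategoryTheory.MorphismProperty.of_isPullback s₀.isPullback.flip inferInstance
  haveI : LocallyOfFiniteType (CategoryTheory.Limits.pullback.snd a s₀.f') :=
    CategoryTheory.MorphismProperty.pullback_snd _ _ inferInstance
  obtain ⟨δ₁, h₁⟩ := Groth.Agent.CycLib28.exists_deltaCompat_of_locallyOfFiniteType a s₀.δY'
  obtain ⟨δ₂, h₂⟩ := Groth.Agent.CycLib28.exists_deltaCompat_of_locallyOfFiniteType
    (CategoryTheory.Limits.pullback.snd a s₀.f') s₀.δX'
  let t : Bivar.Sq s₀.f' s₀.δX' s₀.δY' :=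
    ⟨_, _, a, CategoryTheory.Limits.pullback.fst a s₀.f', CategoryTheory.Limits.pullback.snd a s₀.f',
      CategoryTheory.IsPullback.of_hasPullback _ _, inferInstance, δ₁, δ₂, h₁, h₂⟩
  have hY' := Groth.Agent.CycLib28.PB.isSetup_of_deltaCompat s.g hY s.compatY
  have hY₀ := Groth.Agent.CycLib28.PB.isSetup_of_deltaCompat s₀.g hY s₀.compatY
  have hT := Groth.Agent.CycLib28.PB.isSetup_of_deltaCompat a hY₀ h₁
  have hh : h ≫ s.g = a ≫ s₀.g := CategoryTheory.Limits.pullback.condition.symm
  have hδh : Cyc.DeltaCompat h δ₁ s.δY' :=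
    Groth.Agent.CycLib28.PB.deltaCompat_cancel (f := s₀.g) (π := s.g) (π' := a) (f' := h) hh h₁
      s₀.compatY s.compatY
  obtain ⟨β, hβ, hmap⟩ := Groth.Agent.S6482.result s.Y' _ s.δY' δ₁ hY' hT h
    (Groth.Agent.S6484.result Y s.Y' s₀.Y' s₀.g s.g hcd) hδh k α hα
  let h' : (s₀.paste t).X' ⟶ s.X' := s.isPullback.lift (t.f' ≫ h) ((s₀.paste t).g')
    (by rw [CategoryTheory.Category.assoc, hh]; exact (s₀.paste t).isPullback.w)
  have hsq : CategoryTheory.IsPullback t.f' h' h s.f' :=
    CategoryTheory.IsPullback.of_bot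
      (by rw [hh, CategoryTheory.IsPullback.lift_snd]; exact (s₀.paste t).isPullback)
      (s.isPullback.lift_fst _ _ _).symm s.isPullback
  haveI : IsProper h' := CategoryTheory.MorphismProperty.of_isPullback hsq inferInstance
  have hop : c₁.op (s₀.paste t) k (ChowOps.cl β hβ) = c₂.op (s₀.paste t) k (ChowOps.cl β hβ) :=
    congrArg (fun c : Bivar.Cl p s₀.f' s₀.δX' s₀.δY' => c.op t k (ChowOps.cl β hβ)) heq
  obtain ⟨b₁, hb₁, e₁, d₁⟩ := c₁.push s (s₀.paste t) h h' hh (s.isPullback.lift_fst _ _ _)
    (s.isPullback.lift_snd _ _ _) k β hβ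
  obtain ⟨b₂, hb₂, e₂, d₂⟩ := c₂.push s (s₀.paste t) h h' hh (s.isPullback.lift_fst _ _ _)
    (s.isPullback.lift_snd _ _ _) k β hβ
  haveI : LocallyOfFiniteType s.g' := CategoryTheory.MorphismProperty.of_isPullback s.isPullback inferInstance
  haveI : LocallyOfFiniteType s₀.g' := CategoryTheory.MorphismProperty.of_isPullback s₀.isPullback inferInstance
  have hX' := Groth.Agent.CycLib28.PB.isSetup_of_deltaCompat s.g' hX s.compatX
  haveI : LocallyOfFiniteType (s₀.paste t).g' := CategoryTheory.MorphismProperty.of_isPullback (s₀.paste t).isPullback inferInstance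
  have hXt := Groth.Agent.CycLib28.PB.isSetup_of_deltaCompat (s₀.paste t).g' hX (s₀.paste t).compatX
  have hδh' : Cyc.DeltaCompat h' δ₂ s.δX' :=
    Groth.Agent.CycLib28.PB.deltaCompat_cancel (f := CategoryTheory.CategoryStruct.id X) (π := s.g')
      (π' := (s₀.paste t).g') (f' := h')
      (by rw [CategoryTheory.Category.comp_id]; exact s.isPullback.lift_snd _ _ _) (s₀.paste t).compatX
      (Bivar.deltaCompat_id δX) s.compatX
  haveI := hX'.1
  haveI := hXt.1
  subst hmap
  rw [d₁, d₂]
  refine Groth.Agent.Bivar15.cl_eq_of_cls_eq _ _ ?_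
  rw [← Groth.Agent.CycLib28.PB.Ops.push_cls h' hXt.2.2 hX'.2.2 hδh' hb₁,
    ← Groth.Agent.CycLib28.PB.Ops.push_cls h' hXt.2.2 hX'.2.2 hδh' hb₂,
    Groth.Agent.CycLib28.PB.Ops.cls_eq hb₁, Groth.Agent.CycLib28.PB.Ops.cls_eq hb₂, ← e₁, ← e₂, hop]

end Groth.Agent.S17576
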