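import Groth.Statements.S17580
import Groth.Agent.AmpleLib.Ample
-- import your own Groth.Agent.* helpers here

set_option autoImplicit false
open CategoryTheory CategoryTheory.Limits AlgebraicGeometry
open PosLin

namespace Groth.Agent.S17580
open AlgebraicGeometry Groth.Agent.AmpleLib Groth.Agent.Coherent Groth.Agent.PicLib in
lemma exists_sec_mul {X : Scheme.{0}} {L : X.Modules} (hL : PicF.IsInvertible L) (m : ℕ) (k : ℕ) (hk : 0 < k)
    (s : Coh.structureModule X ⟶ CohB1.tensorPow L m) :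
    ∃ t : Coh.structureModule X ⟶ CohB1.tensorPow L (m * k), CohB1.genLocus _ t = CohB1.genLocus _ s := by
  obtain ⟨b, hb⟩ := exists_glocus_pow hL m (unitVal s ⊤) k hk
  exact ⟨unitDesc _ b, hb.trans (genLocus_eq_glocus s).symm⟩


/-- Let X be a projective variety over the complex numbers (an integral scheme, proper over ℂ, with an
ample invertible module) and L an invertible O_X-module. For m ≥ 1 let Bs(L^⊗m) ⊆ X be the base
locus of the complete linear series of L^⊗m, the set of points x lying in no open X_s over which a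
global section s : O_X → L^⊗m is an isomorphism, and let B(L) = ⋂_{m ≥ 1} Bs(L^⊗m) be the stable
base locus (an intersection of closed subsets, scheme structures disregarded). Then there is an
integer n₀ > 0 such that B(L) = Bs(L^⊗kn₀) for every k ≥ 1. -/
theorem result (X : Scheme.{0}) [X.Over (Spec (CommRingCat.of ℂ))] [IsIntegral X]
    [IsProper (X ↘ Spec (CommRingCat.of ℂ))] (H : X.Modules) (hH : CohB1.IsAmple H)
    (L : X.Modules) (hL : PicF.IsInvertible L) :
    ∃ n₀ : ℕ, 0 < n₀ ∧ ∀ k : ℕ, 0 < k →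
      {x : X | ∀ m : ℕ, 0 < m → ∀ s : Coh.structureModule X ⟶ CohB1.tensorPow L m, x ∉ CohB1.genLocus (CohB1.tensorPow L m) s} =
        {x : X | ∀ s : Coh.structureModule X ⟶ CohB1.tensorPow L (k * n₀), x ∉ CohB1.genLocus (CohB1.tensorPow L (k * n₀)) s} := by
  haveI : IsLocallyNoetherian X := LocallyOfFiniteType.isLocallyNoetherian (X ↘ Spec (CommRingCat.of ℂ))
  haveI : CompactSpace X := QuasiCompact.compactSpace_of_compactSpace (X ↘ Spec (CommRingCat.of ℂ))
  haveI : IsNoetherian X := ⟨⟩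
  let G : ℕ → TopologicalSpace.Opens X := fun n => ⨆ s : Coh.structureModule X ⟶ CohB1.tensorPow L (n + 1), CohB1.genLocus _ s
  have hG : ∀ n x, x ∈ G n ↔ ∃ s, x ∈ CohB1.genLocus (CohB1.tensorPow L (n + 1)) s := fun n x => TopologicalSpace.Opens.mem_iSup
  have hmono : ∀ n j, G n ≤ G ((n + 1) * (j + 1) - 1) := by
    intro n j x hx
    obtain ⟨s, hs⟩ := (hG n x).1 hx
    obtain ⟨t, ht⟩ := exists_sec_mul hL (n + 1) (j + 1) j.succ_pos s
    have : (n + 1) * (j + 1) - 1 + 1 = (n + 1) * (j + 1) := Nat.sub_add_cancel (Nat.mul_pos n.succ_pos j.succ_pos)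
    refine (hG _ x).2 ?_
    rw [this]
    exact ⟨t, ht ▸ hs⟩
  obtain ⟨U, ⟨n, rfl⟩, hmax⟩ := WellFounded.has_min (wellFounded_gt (α := TopologicalSpace.Opens X)) (Set.range G) (Set.range_nonempty G)
  have hall : ∀ m, G m ≤ G n := by
    intro m
    have h1 := hmono n m
    have h2 := hmono m n
    rw [mul_comm (m + 1)] at h2
    have heq := (eq_of_le_of_not_lt h1 (hmax _ ⟨_, rfl⟩)).symm
    rw [heq] at h2
    exact h2
  refine ⟨n + 1, n.succ_pos, fun k hk => ?_⟩
  obtain ⟨j, rfl⟩ : ∃ j, k = j + 1 := ⟨k - 1, by omega⟩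
  ext x
  simp only [Set.mem_ofPred_eq]
  constructor
  · intro h s
    exact h _ (Nat.mul_pos j.succ_pos n.succ_pos) s
  · intro h m hm s hx
    obtain ⟨m, rfl⟩ : ∃ i, m = i + 1 := ⟨m - 1, by omega⟩
    obtain ⟨t, ht⟩ := (hG n x).1 (hall m ((hG m x).2 ⟨s, hx⟩))
    obtain ⟨t', ht'⟩ := exists_sec_mul hL (n + 1) (j + 1) j.succ_pos t
    have he : (n + 1) * (j + 1) = (j + 1) * (n + 1) := mul_comm _ _
    revert t'
    rw [he]
    intro t' ht'
    exact h t' (ht' ▸ ht)

end Groth.Agent.S17580
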