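import Groth.Statements.S17581
import Groth.Agent.AmpleLib.Ample
-- import your own Groth.Agent.* helpers here

set_option autoImplicit false
open CategoryTheory CategoryTheory.Limits AlgebraicGeometry
open PosLin

namespace Groth.Agent.S17581
open AlgebraicGeometry Groth.Agent.AmpleLib Groth.Agent.Coherent Groth.Agent.PicLib in
lemma exists_sec_mul {X : Scheme.{0}} {L : X.Modules} (hL : PicF.IsInvertible L) (m : ℕ) (k : ℕ) (hk : 0 < k)
    (s : Coh.structureModule X ⟶ CohB1.tensorPow L m) :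
    ∃ t : Coh.structureModule X ⟶ CohB1.tensorPow L (m * k), CohB1.genLocus _ t = CohB1.genLocus _ s := by
  obtain ⟨b, hb⟩ := exists_glocus_pow hL m (unitVal s ⊤) k hk
  exact ⟨unitDesc _ b, hb.trans (genLocus_eq_glocus s).symm⟩


/-- Let X be a projective variety over the complex numbers (an integral scheme, proper over ℂ, with an
ample invertible module) and L an invertible O_X-module; for m ≥ 1 let Bs(L^⊗m) be the base locus of
L^⊗m (the points lying in no open X_s over which a global section s : O_X → L^⊗m is an isomorphism)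
and B(L) = ⋂_{m ≥ 1} Bs(L^⊗m) the stable base locus. Then, among the closed sets Bs(L^⊗m) with m ≥
1, B(L) occurs and is the only minimal one: B(L) = Bs(L^⊗m) for some m ≥ 1, and for each m ≥ 1,
Bs(L^⊗m) is minimal in this family if and only if it coincides with B(L). -/
theorem result (X : Scheme.{0}) [X.Over (Spec (CommRingCat.of ℂ))] [IsIntegral X]
    [IsProper (X ↘ Spec (CommRingCat.of ℂ))] (H : X.Modules) (hH : CohB1.IsAmple H)
    (L : X.Modules) (hL : PicF.IsInvertible L) :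
    (∃ m : ℕ, 0 < m ∧ {x : X | ∀ s : Coh.structureModule X ⟶ CohB1.tensorPow L m, x ∉ CohB1.genLocus (CohB1.tensorPow L m) s} = {x : X | ∀ m : ℕ, 0 < m → ∀ s : Coh.structureModule X ⟶ CohB1.tensorPow L m, x ∉ CohB1.genLocus (CohB1.tensorPow L m) s}) ∧
    ∀ m : ℕ, 0 < m →
      ((∀ m' : ℕ, 0 < m' →
          {x : X | ∀ s : Coh.structureModule X ⟶ CohB1.tensorPow L m', x ∉ CohB1.genLocus (CohB1.tensorPow L m') s} ⊆ {x : X | ∀ s : Coh.structureModule X ⟶ CohB1.tensorPow L m, x ∉ CohB1.genLocus (CohB1.tensorPow L m) s} →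
          {x : X | ∀ s : Coh.structureModule X ⟶ CohB1.tensorPow L m', x ∉ CohB1.genLocus (CohB1.tensorPow L m') s} = {x : X | ∀ s : Coh.structureModule X ⟶ CohB1.tensorPow L m, x ∉ CohB1.genLocus (CohB1.tensorPow L m) s}) ↔
        {x : X | ∀ s : Coh.structureModule X ⟶ CohB1.tensorPow L m, x ∉ CohB1.genLocus (CohB1.tensorPow L m) s} = {x : X | ∀ m : ℕ, 0 < m → ∀ s : Coh.structureModule X ⟶ CohB1.tensorPow L m, x ∉ CohB1.genLocus (CohB1.tensorPow L m) s}) := by
  haveI : IsLocallyNoetherian X := LocallyOfFiniteType.isLocallyNoetherian (X ↘ Spec (CommRingCat.of ℂ))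
  haveI : CompactSpace X := QuasiCompact.compactSpace_of_compactSpace (X ↘ Spec (CommRingCat.of ℂ))
  haveI : IsNoetherian X := ⟨⟩
  let G : ℕ → TopologicalSpace.Opens X := fun n => ⨆ s : Coh.structureModule X ⟶ CohB1.tensorPow L (n + 1), CohB1.genLocus _ s
  have hG : ∀ n x, x ∈ G n ↔ ∃ s, x ∈ CohB1.genLocus (CohB1.tensorPow L (n + 1)) s := fun n x => TopologicalSpace.Opens.mem_iSup
  have hmono : ∀ n j, G n ≤ G ((n + 1) * (j + 1) - 1) := by
    intro n j x hx
    obtain ⟨s, hs⟩ := (hG n x).1 hx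
    obtain ⟨t, ht⟩ := exists_sec_mul hL (n + 1) (j + 1) j.succ_pos s
    have : (n + 1) * (j + 1) - 1 + 1 = (n + 1) * (j + 1) := Nat.sub_add_cancel (Nat.mul_pos n.succ_pos j.succ_pos)
    refine (hG _ x).2 ?_
    rw [this]
    exact ⟨t, ht ▸ hs⟩
  obtain ⟨U, ⟨n, rfl⟩, hmax⟩ := WellFounded.has_min (wellFounded_gt (α := TopologicalSpace.Opens X)) (Set.range G) (Set.range_nonempty G)
  have hall : ∀ m, G m ≤ G n := by
    intro m
    have h1 := hmono n m
    have h2 := hmono m n
    rw [mul_comm (m + 1)] at h2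
    have heq := (eq_of_le_of_not_lt h1 (hmax _ ⟨_, rfl⟩)).symm
    rw [heq] at h2
    exact h2
  have hB : {x : X | ∀ s : Coh.structureModule X ⟶ CohB1.tensorPow L (n + 1), x ∉ CohB1.genLocus (CohB1.tensorPow L (n + 1)) s} =
      {x : X | ∀ m : ℕ, 0 < m → ∀ s : Coh.structureModule X ⟶ CohB1.tensorPow L m, x ∉ CohB1.genLocus (CohB1.tensorPow L m) s} := by
    ext x
    simp only [Set.mem_ofPred_eq]
    refine ⟨fun h m hm s hx => ?_, fun h s => h _ n.succ_pos s⟩
    obtain ⟨m, rfl⟩ : ∃ i, m = i + 1 := ⟨m - 1, by omega⟩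
    obtain ⟨t, ht⟩ := (hG n x).1 (hall m ((hG m x).2 ⟨s, hx⟩))
    exact h t ht
  refine ⟨⟨n + 1, n.succ_pos, hB⟩, fun m hm => ⟨fun h => ?_, fun h m' hm' hsub => ?_⟩⟩
  · refine (h (n + 1) n.succ_pos ?_).symm.trans hB
    rw [hB]
    exact fun x hx => hx m hm
  · refine Set.Subset.antisymm hsub ?_
    rw [h]
    exact fun x hx => hx m' hm'

end Groth.Agent.S17581
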