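import Groth.Statements.S17582
import Groth.Agent.AmpleLib.Ample
-- import your own Groth.Agent.* helpers here

set_option autoImplicit false
open CategoryTheory CategoryTheory.Limits AlgebraicGeometry
open PosLin

namespace Groth.Agent.S17582
open AlgebraicGeometry Groth.Agent.AmpleLib Groth.Agent.Coherent Groth.Agent.PicLib in
lemma exists_sec_mul {X : Scheme.{0}} {L : X.Modules} (hL : PicF.IsInvertible L) (m : ℕ) (k : ℕ) (hk : 0 < k)
    (s : Coh.structureModule X ⟶ CohB1.tensorPow L m) :
    ∃ t : Coh.structureModule X ⟶ CohB1.tensorPow L (m * k), CohB1.genLocus _ t = CohB1.genLocus _ s := by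
  obtain ⟨b, hb⟩ := exists_glocus_pow hL m (unitVal s ⊤) k hk
  exact ⟨unitDesc _ b, hb.trans (genLocus_eq_glocus s).symm⟩


/-- Let X be a projective variety over the complex numbers (an integral scheme, proper over ℂ, with an
ample invertible module), L an invertible O_X-module and p ≥ 1. With Bs(M) the base locus of an
O_X-module M (the points lying in no open X_s over which a global section s : O_X → M is an
isomorphism) and B(L) = ⋂_{m ≥ 1} Bs(L^⊗m) the stable base locus, one has B(L^⊗p) = B(L). -/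
theorem result (X : Scheme.{0}) [X.Over (Spec (CommRingCat.of ℂ))] [IsIntegral X]
    [IsProper (X ↘ Spec (CommRingCat.of ℂ))] (H : X.Modules) (hH : CohB1.IsAmple H)
    (L : X.Modules) (hL : PicF.IsInvertible L) (p : ℕ) (hp : 0 < p) :
    {x : X | ∀ m : ℕ, 0 < m → ∀ s : Coh.structureModule X ⟶ CohB1.tensorPow (CohB1.tensorPow L p) m, x ∉ CohB1.genLocus (CohB1.tensorPow (CohB1.tensorPow L p) m) s} = {x : X | ∀ m : ℕ, 0 < m → ∀ s : Coh.structureModule X ⟶ CohB1.tensorPow L m, x ∉ CohB1.genLocus (CohB1.tensorPow L m) s} := by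
  ext x
  simp only [Set.mem_ofPred_eq]
  constructor
  · intro h m hm s hx
    obtain ⟨t, ht⟩ := exists_sec_mul hL m p hp s
    obtain ⟨e, -⟩ := AmpleLib.exists_powPowIso hL p m
    let e' : CohB1.tensorPow L (m * p) ≅ CohB1.tensorPow (CohB1.tensorPow L p) m := eqToIso (by rw [mul_comm]) ≪≫ e.symm
    refine h m hm (t ≫ e'.hom) ?_
    rw [AmpleLib.genLocus_comp_iso, ht]
    exact hx
  · intro h m hm s hx
    obtain ⟨e, -⟩ := AmpleLib.exists_powPowIso hL p m
    refine h (p * m) (Nat.mul_pos hp hm) (s ≫ e.hom) ?_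
    rw [AmpleLib.genLocus_comp_iso]
    exact hx

end Groth.Agent.S17582
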