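import Groth.Statements.S17586
import Groth.Agent.H0Growth23.ENN


set_option autoImplicit false
open CategoryTheory CategoryTheory.Limits AlgebraicGeometry
open PosLin

namespace Groth.Agent.S17586

open Groth.Agent.H0Growth23

/-- Let X be a projective variety over the complex numbers (an integral scheme, proper over ℂ, with an
ample invertible module) of dimension n, and L an invertible O_X-module (the module of a Cartier
divisor D). The following two characterisations of bigness of D are equivalent: (a) for every ample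
invertible O_X-module A there are m > 0 and a monomorphism A → L^⊗m (that is, mD is linearly
equivalent to A plus an effective divisor); (b) there are a constant C > 0 and m₁ such that dim_ℂ
H^0(X, L^⊗m) ≥ C·m^n for all m ≥ m₁. (In the text both are shown equivalent to D having Iitaka
dimension n; this row states their equivalence with each other.) -/
theorem result (X : Scheme.{0}) [X.Over (Spec (CommRingCat.of ℂ))] [IsIntegral X]
    [IsProper (X ↘ Spec (CommRingCat.of ℂ))] (H : X.Modules) (hH : CohB1.IsAmple H)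
    (n : ℕ) (hn : topologicalKrullDim X = n)
    (L : X.Modules) (hL : PicF.IsInvertible L) :
    (∀ A : X.Modules, CohB1.IsAmple A → ∃ (m : ℕ) (φ : A ⟶ CohB1.tensorPow L m), 0 < m ∧ Mono φ) ↔
      ∃ C : ℝ, 0 < C ∧ ∃ m₁ : ℕ, ∀ m : ℕ, m₁ ≤ m →
        C * (m : ℝ) ^ n ≤ (Module.finrank ℂ (Coh.HH X (CohB1.tensorPow L m) 0) : ℝ) := by
  constructor
  · intro h
    obtain ⟨A, hA, hA0⟩ := exists_ample_eff ℂ (X := X) ⟨H, hH⟩
    obtain ⟨m₀, φ, hm₀, hφ⟩ := h A hA
    obtain ⟨a', ha'⟩ := exists_inv hA.1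
    have he : EffCl (EulerLib.InvCl.mk L hL ^ m₀ * a') := by
      haveI := hφ
      have ha := isInvertible_repCl a'
      haveI : Mono (AmpleLib.tensorMap φ (𝟙 (repCl a'))) := EulerLib.mono_tensorMap ha φ
      obtain ⟨e⟩ := nonempty_iso_of_mk_eq (L := Coh.structureModule X) (N := CohB1.tensorMod A (repCl a'))
        (hL := AmpleLib.isInvertible_structureModule) (hN := AmpleLib.isInvertible_tensorMod hA.1 ha)
        (by rw [← EulerLib.InvCl.mk_mul hA.1 ha, mk_repCl, ha']; rfl)
      have hh := effCl_of_section (AmpleLib.isInvertible_tensorMod (AmpleLib.isInvertible_tensorPow hL m₀) ha)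
        (s := (e.hom ≫ AmpleLib.tensorMap φ (𝟙 (repCl a'))).app ⊤ (AmpleLib.oneSec ⊤)) (fun h0 => by
          have := (Groth.Agent.Coherent.app_injective_of_mono (e.hom ≫ AmpleLib.tensorMap φ (𝟙 (repCl a'))) ⊤)
            (h0.trans (map_zero _).symm)
          exact notMem_glocus_zero (Coh.structureModule X) (genericPoint X) (this ▸ AmpleLib.glocus_oneSec.ge trivial))
      rwa [← EulerLib.InvCl.mk_mul (AmpleLib.isInvertible_tensorPow hL m₀) ha, EulerLib.InvCl.mk_tensorPow hL,
        mk_repCl] at hh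
    obtain ⟨c, N, hc, hN⟩ := exists_big_lower_of_eff ℂ hn hA hA0 ha' hm₀ he
    refine ⟨(c : ℝ), by exact_mod_cast hc, N, fun m hm => ?_⟩
    rw [← h0Cl_pow ℂ L hL m]
    exact_mod_cast hN m hm
  · rintro ⟨C, hC, m₁, hm₁⟩ A hA
    obtain ⟨m, hm, φ, hφ⟩ := exists_mono_of_big ℂ (d := n) hn hA hL fun C₀ => by
      obtain ⟨M, hM⟩ := exists_nat_gt ((C₀ : ℝ) / C)
      refine ⟨max (max M m₁) 1, le_max_right _ _, ?_⟩
      have h1 := hm₁ (max (max M m₁) 1) (le_trans (le_max_right M m₁) (le_max_left _ _))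
      rw [← h0Cl_pow ℂ L hL] at h1
      have h2 : (C₀ : ℝ) < C * (max (max M m₁) 1 : ℕ) := by
        have := (div_lt_iff₀ hC).1 hM
        have hle : (M : ℝ) ≤ ((max (max M m₁) 1 : ℕ) : ℝ) := by
          exact_mod_cast le_trans (le_max_left M m₁) (le_max_left _ _)
        nlinarith
      have ht1 : 1 ≤ max (max M m₁) 1 := le_max_right _ _
      generalize max (max M m₁) 1 = t at h1 h2 ht1 ⊢
      have h3 : ((C₀ : ℚ) : ℝ) * (t : ℝ) ^ n < (h0Cl ℂ (EulerLib.InvCl.mk L hL ^ t) : ℝ) * t := by
        have ht : (0 : ℝ) < (t : ℝ) := by exact_mod_cast ht1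
        calc (C₀ : ℝ) * (t : ℝ) ^ n < C * t * (t : ℝ) ^ n := by gcongr
          _ = C * (t : ℝ) ^ n * t := by ring
          _ ≤ _ := by gcongr
      exact_mod_cast h3
    exact ⟨m, φ, hm, hφ⟩

end Groth.Agent.S17586
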