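import Groth.Statements.S17587
import Groth.Agent.CurveRR24.Section
import Groth.Agent.RelVALib.FTQuot
import Groth.Agent.CohEdge27.Product
import Groth.Agent.EulerLib.Twist
import Groth.Agent.AmpleLib.Ample
-- import your own Groth.Agent.* helpers here

set_option autoImplicit false
open CategoryTheory CategoryTheory.Limits AlgebraicGeometry
open PosLin

open Groth.Agent Groth.Agent.Coherent Groth.Agent.PicLib Groth.Agent.AmpleLib

namespace Groth.Agent.S17587

/-- Let X be a projective variety over the complex numbers (an integral scheme, proper over ℂ, with an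
ample invertible module), and L an invertible O_X-module which is big, bigness being expressed
through the equivalent condition that every ample invertible O_X-module A admits a monomorphism A →
L^⊗m for some m > 0. Then the exponent of L is 1, that is, H^0(X, L^⊗m) ≠ 0 for every sufficiently
large m. -/
theorem result (X : Scheme.{0}) [X.Over (Spec (CommRingCat.of ℂ))] [IsIntegral X]
    [IsProper (X ↘ Spec (CommRingCat.of ℂ))] (H : X.Modules) (hH : CohB1.IsAmple H)
    (L : X.Modules) (hL : PicF.IsInvertible L)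
    (hbig : ∀ A : X.Modules, CohB1.IsAmple A → ∃ (m : ℕ) (φ : A ⟶ CohB1.tensorPow L m), 0 < m ∧ Mono φ) :
    ∃ m₁ : ℕ, ∀ m : ℕ, m₁ ≤ m → Nontrivial (Coh.HH X (CohB1.tensorPow L m) 0) := by
  haveI := EulerLib.isNoetherian_of_proper (X := X) ℂ
  have hη := genericPoint_spec X
  have hne0 : ∀ {M : X.Modules}, PicF.IsInvertible M → ∀ {b : Γ(M, ⊤)}, genericPoint X ∈ glocus M b → b ≠ 0 := by
    intro M hM b hb hb0
    obtain ⟨W, hW, g, hg⟩ := exists_isGen hM (genericPoint X)
    have h' : genericPoint X ∈ X.basicOpen (hg.coef le_rfl (resM M le_top b)) := (glocus_inf b hg).le ⟨hb, hW⟩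
    rw [hg.coef_eq le_rfl (show (0 : Γ(X, W)) • resM M le_rfl g = resM M le_top b by rw [zero_smul, hb0, map_zero]),
      X.basicOpen_zero] at h'
    exact h'
  obtain ⟨hHi, -, hH'⟩ := isAmple_iff_affGlocus.1 hH
  obtain ⟨n₀, hn₀, b₀, hb₀, -, -⟩ := affGlocus_of_mem (x := genericPoint X) (U := ⊤) hH trivial
  haveI := isQCoh_of_isInvertible hL
  obtain ⟨N, hN⟩ := RelVALib.eventually_genOn hH L (CurveRR24.isCoh_of_isInvertible ℂ hL).2
  obtain ⟨n, hn⟩ : ∃ n, n = n₀ * (N + 1) := ⟨_, rfl⟩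
  obtain ⟨b, hb⟩ : ∃ b : Γ(CohB1.tensorPow H n, ⊤), glocus _ b = glocus _ b₀ := by
    rw [hn]; exact exists_glocus_pow hHi n₀ b₀ (N + 1) N.succ_pos
  have hnN : N ≤ n := by rw [hn]; nlinarith
  have hb0 : b ≠ 0 := hne0 (isInvertible_tensorPow hHi _) (hb.ge hb₀)
  obtain ⟨A, r, u, hA, hu⟩ := hN n hnN (genericPoint X)
  have hu0 : ∃ i, u i ≠ 0 := by
    by_contra hall
    push_neg at hall
    obtain ⟨W, hW, g, hg⟩ := exists_isGen (AmpleLib.isInvertible_tensorMod hL (isInvertible_tensorPow hHi n))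
      (genericPoint X)
    obtain ⟨W', hle, hz, c, hc⟩ := hu (W ⊓ A) inf_le_right (resM _ inf_le_left g) _ ⟨hW, hA⟩
    haveI : Nonempty W' := ⟨⟨_, hz⟩⟩
    have h0 : (1 : Γ(X, W')) • resM _ (hle.trans inf_le_left) g = (0 : Γ(X, W')) • resM _ (hle.trans inf_le_left) g := by
      rw [one_smul, zero_smul, ← resM_resM _ inf_le_left hle, hc]
      exact Finset.sum_eq_zero fun i _ => by simp [hall]
    exact one_ne_zero ((hg W' (hle.trans inf_le_left)).1 h0)
  obtain ⟨i, hi⟩ := hu0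
  obtain ⟨m, φ, hm, hφ⟩ := hbig (CohB1.tensorPow H n) ((isAmple_pow_iff hHi n (hn ▸ Nat.mul_pos hn₀ N.succ_pos)).2 hH)
  have h1 : genericPoint X ∈ glocus _ (φ.app ⊤ b) := by
    refine CurveRR24.genericPoint_mem_glocus (isInvertible_tensorPow hL m) fun h => hb0 ?_
    exact Coherent.app_injective_of_mono φ ⊤ (h.trans (map_zero _).symm)
  haveI := EulerLib.mono_tensorMap hL φ
  let ψ : CohB1.tensorMod L (CohB1.tensorPow H n) ⟶ CohB1.tensorPow L (m + 1) :=
    (tensorComm _ _).hom ≫ AmpleLib.tensorMap φ (𝟙 L)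
  haveI : Mono ψ := @mono_comp _ _ _ _ _ (tensorComm _ _).hom inferInstance (AmpleLib.tensorMap φ (𝟙 L)) (EulerLib.mono_tensorMap hL φ)
  have h2 : genericPoint X ∈ glocus _ (ψ.app ⊤ (u i)) := by
    refine CurveRR24.genericPoint_mem_glocus (isInvertible_tensorPow hL (m + 1)) fun h => hi ?_
    exact Coherent.app_injective_of_mono ψ ⊤ (h.trans (map_zero _).symm)
  let S : ℕ → Prop := fun j => ∃ c : Γ(CohB1.tensorPow L j, ⊤), genericPoint X ∈ glocus _ c
  have hadd : ∀ a c, S a → S c → S (a + c) := by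
    rintro a c ⟨s, hs⟩ ⟨t, ht⟩
    obtain ⟨d, hd⟩ := exists_glocus_mul hL a c s t
    exact ⟨d, hd ▸ ⟨hs, ht⟩⟩
  have hmul : ∀ a, S a → ∀ j, S (a * (j + 1)) := fun a ha j => by
    induction j with
    | zero => simpa using ha
    | succ j ih => rw [Nat.mul_succ]; exact hadd _ _ ih ha
  refine ⟨m * m, fun j hj => ?_⟩
  have hS : S j := by
    have hq : m ≤ j / m := (Nat.le_div_iff_mul_le hm).2 hj
    have hr := Nat.mod_lt j hm
    obtain ⟨e, he⟩ : ∃ e, j / m - j % m = e + 1 := ⟨j / m - j % m - 1, by omega⟩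
    have hdiv := Nat.div_add_mod j m
    have hq' : j / m = j % m + (e + 1) := by omega
    rcases Nat.eq_zero_or_pos (j % m) with h0 | h0
    · rw [show j = m * (e + 1) by rw [h0] at hdiv hq'; rw [hq'] at hdiv; linarith]
      exact hmul m ⟨_, h1⟩ e
    · obtain ⟨f, hf⟩ : ∃ f, j % m = f + 1 := ⟨j % m - 1, by omega⟩
      rw [show j = m * (e + 1) + (m + 1) * (f + 1) by rw [hq', hf] at hdiv; linarith]
      exact hadd _ _ (hmul m ⟨_, h1⟩ e) (hmul (m + 1) ⟨_, h2⟩ f)
  obtain ⟨c, hc⟩ := hS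
  have hcne := hne0 (isInvertible_tensorPow hL j) hc
  haveI : Nontrivial Γ(CohB1.tensorPow L j, ⊤) := ⟨c, 0, hcne⟩
  exact (CohEdge27.hhZero (CohB1.tensorPow L j)).toEquiv.nontrivial

end Groth.Agent.S17587
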