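import Groth.Statements.S17589
import Groth.Agent.MulMap16.Basic

set_option autoImplicit false
open CategoryTheory CategoryTheory.Limits AlgebraicGeometry
open PosLin

namespace Groth.Agent.S17589

/-- Let X be a projective variety over the complex numbers (an integral scheme, proper over ℂ, with an
ample invertible module) which is normal, L a globally generated invertible O_X-module and F a
coherent O_X-module. Then there is an integer m₀ > 0 such that for all a, b ≥ m₀ the map H^0(X, F ⊗
L^⊗a) ⊗ H^0(X, L^⊗b) → H^0(X, F ⊗ L^⊗a ⊗ L^⊗b) given by multiplication of sections is surjective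
(such a multiplication map is written as the map from the global sections of the sectionwise tensor
product presheaf to the global sections of its sheafification). The case F = O_X is the first
assertion of the lemma, surjectivity of H^0(X, L^⊗a) ⊗ H^0(X, L^⊗b) → H^0(X, L^⊗(a+b)) for a, b
large. -/
theorem result (X : Scheme.{0}) [X.Over (Spec (CommRingCat.of ℂ))] [IsIntegral X]
    [IsProper (X ↘ Spec (CommRingCat.of ℂ))] (H : X.Modules) (hH : CohB1.IsAmple H)
    (hXn : Pi1.IsNormalScheme X)
    (L : X.Modules) (hL : PicF.IsInvertible L) (hLg : Curv2.IsGloballyGenerated L)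
    (F : X.Modules) (hF : Coh.IsCoh F) :
    ∃ m₀ : ℕ, 0 < m₀ ∧ ∀ a b : ℕ, m₀ ≤ a → m₀ ≤ b →
      Function.Surjective
        ((toSheafify (Opens.grothendieckTopology X)
          (CohB1.tensorPre (CohB1.tensorMod F (CohB1.tensorPow L a)) (CohB1.tensorPow L b)).presheaf).app
          (Opposite.op ⊤)) := by
  obtain ⟨m, hm⟩ := Groth.Agent.MulMap16.exists_span_tmul_of_gg (k := ℂ) hL hLg F hF
  refine ⟨m + 1, Nat.succ_pos m, fun a b ha _ z => ?_⟩
  have hz := (hm a b (by omega)).ge (AddSubgroup.mem_top z)
  induction hz using AddSubgroup.closure_induction with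
  | mem w hw =>
    obtain ⟨s, t, rfl⟩ := hw
    exact ⟨_, rfl⟩
  | zero => exact ⟨0, map_zero _⟩
  | add p q _ _ hp hq =>
    obtain ⟨x, hx⟩ := hp
    obtain ⟨y, hy⟩ := hq
    exact ⟨x + y, (map_add _ x y).trans (congrArg₂ (· + ·) hx hy)⟩
  | neg p _ hp =>
    obtain ⟨x, hx⟩ := hp
    exact ⟨-x, (map_neg _ x).trans (congrArg Neg.neg hx)⟩

end Groth.Agent.S17589
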