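import Groth.Statements.S17592
import Groth.Agent.HenselLib.PairNbhd

set_option autoImplicit false
universe u
open Hensel

namespace Groth.Agent.S17592

/-- Let R → S be an étale ring map and I an ideal of R such that the induced map R/I → S/IS is
bijective. Then a Henselization of the pair (S, IS), regarded as an R-algebra, is a Henselization of
the pair (R, I). -/
theorem result (R : Type u) [CommRing R] (I : Ideal R)
    (S : Type u) [CommRing S] [Algebra R S] [Algebra.Etale R S]
    (hq : Function.Bijective
      (Ideal.quotientMap (I.map (algebraMap R S)) (algebraMap R S) Ideal.le_comap_map))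
    (H : Type u) [CommRing H] [Algebra S H] [Algebra R H] [IsScalarTower R S H]
    (hH : Hens2.IsPairHenselization S (I.map (algebraMap R S)) H) :
    Hens2.IsPairHenselization R I H := by
  have hm : (I.map (algebraMap R S)).map (algebraMap S H) = I.map (algebraMap R H) := by
    rw [Ideal.map_map, ← IsScalarTower.algebraMap_eq]
  refine ⟨hm ▸ hH.1, fun C _ J f hJ hle => ?_⟩
  let : Algebra R C := f.toAlgebra
  obtain ⟨σ, hσ, hu⟩ := Groth.Agent.HenselLib.exists_point I hq
  let τ : R ⧸ I →ₐ[R] C ⧸ J := Ideal.Quotient.liftₐ I (Algebra.ofId R (C ⧸ J)) fun a ha =>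
    Ideal.Quotient.eq_zero_iff_mem.mpr (hle (Ideal.mem_map_of_mem f ha))
  obtain ⟨s, hs, hsu⟩ := Groth.Agent.HenselLib.existsUnique_lift J (τ.comp σ)
  have hsJ : (I.map (algebraMap R S)).map s.toRingHom ≤ J := by
    rw [Ideal.map_map]
    exact (congrArg (Ideal.map · I) s.comp_algebraMap).trans_le hle
  obtain ⟨g, hg, hgu⟩ := hH.2 C J s.toRingHom hJ hsJ
  refine ⟨g, RingHom.ext fun r => ?_, fun g' hg' => hgu g' ?_⟩
  · rw [RingHom.comp_apply, IsScalarTower.algebraMap_apply R S H]
    exact (congr($hg (algebraMap R S r))).trans (s.commutes r)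
  · let s' : S →ₐ[R] C :=
      { g'.comp (algebraMap S H) with
        commutes' := fun r => by
          show g' (algebraMap S H (algebraMap R S r)) = _
          rw [← IsScalarTower.algebraMap_apply]
          exact congr($hg' r) }
    have : s' = s := hsu s' (AlgHom.ext fun a => by
      obtain ⟨r, hr⟩ := Ideal.Quotient.mk_surjective (σ a)
      have hmem : a - algebraMap R S r ∈ I.map (algebraMap R S) := by
        rw [← hσ, RingHom.mem_ker, map_sub, AlgHom.commutes, sub_eq_zero]
        exact hr.symm
      have h1 := Groth.Agent.HenselLib.mem_map_algHom s' I hmem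
      rw [map_sub, AlgHom.commutes] at h1
      show Ideal.Quotient.mk J (s' a) = τ (σ a)
      rw [← hr]
      exact Ideal.Quotient.eq.mpr (hle h1))
    exact congrArg AlgHom.toRingHom this

end Groth.Agent.S17592
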