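import Groth.Statements.S17593
import Groth.Agent.HenselLib.ZeroLocusShrink
import Groth.Agent.S0387

set_option autoImplicit false
universe u
open Hensel

namespace Groth.Agent.S17593

/-- Suppose (A, I) is a Henselian pair, and R is an A-algebra of finite presentation for which A → R is
flat at each prime of R that contains IR. Then there is an étale R-algebra R' such that R/IR →
R'/IR' is bijective and A → R' is flat. -/
theorem result (A : Type u) [CommRing A] (I : Ideal A) [HenselianRing A I]
    (R : Type u) [CommRing R] [Algebra A R] [Algebra.FinitePresentation A R]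
    (h : ∀ (p : Ideal R) [p.IsPrime], I.map (algebraMap A R) ≤ p → Module.Flat A (Localization.AtPrime p))
    : ∃ (R' : Type u) (_ : CommRing R') (_ : Algebra R R') (_ : Algebra A R') (_ : IsScalarTower A R R'),
      Algebra.Etale R R' ∧
      Function.Bijective (Ideal.quotientMap ((I.map (algebraMap A R)).map (algebraMap R R'))
        (algebraMap R R') Ideal.le_comap_map) ∧ Module.Flat A R' := by
  obtain ⟨g, hg, hgU⟩ := Groth.Agent.HenselLib.ZeroLocusShrink.exists_away
    (I.map (algebraMap A R)) (Groth.Agent.S0387.result (R := A) (S := R) (M := R))
    fun x hx => h x.asIdeal hx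
  refine ⟨Localization.Away g, inferInstance, inferInstance, inferInstance, inferInstance,
    inferInstance,
    Groth.Agent.HenselLib.ZeroLocusShrink.bijective_quotientMap_away _ g hg, ?_⟩
  refine Module.flat_of_isLocalized_maximal (Localization.Away g) (Localization.Away g)
    (fun P [P.IsMaximal] => Localization.AtPrime P) (fun P [P.IsMaximal] => Algebra.linearMap _ _)
    fun P hP => ?_
  let p : PrimeSpectrum R := PrimeSpectrum.comap (algebraMap R (Localization.Away g)) ⟨P, hP.isPrime⟩
  have hp : Module.Flat A (Localization.AtPrime p.asIdeal) := hgU (a := p) (by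
    rw [← PrimeSpectrum.localization_away_comap_range (Localization.Away g) g]
    exact ⟨_, rfl⟩)
  have : IsLocalization.AtPrime (Localization.AtPrime P) p.asIdeal :=
    IsLocalization.isLocalization_isLocalization_atPrime_isLocalization (Submonoid.powers g) _ P
  let e := (IsLocalization.algEquiv p.asIdeal.primeCompl (Localization.AtPrime p.asIdeal)
    (Localization.AtPrime P)).restrictScalars A
  exact Module.Flat.of_linearEquiv e.symm.toLinearEquiv

end Groth.Agent.S17593
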