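import Groth.Statements.S1760
import Groth.Agent.DualLib.GorFieldExt

set_option autoImplicit false
universe u
open scoped TensorProduct
open Goren

namespace Groth.Agent.S1760

/-- First assertion, written for the local ring B = O_{X,x}. Let k'/k be a finitely generated field
extension, B a Noetherian local k-algebra, and q a prime of B ⊗_k k' lying over the maximal ideal of
B. Then B is Gorenstein if and only if the localization of B ⊗_k k' at q is Gorenstein. -/
theorem result (k k' : Type u) [Field k] [Field k'] [Algebra k k'] (hfg : ∃ s : Finset k', IntermediateField.adjoin k (s : Set k') = ⊤) (B : Type u) [CommRing B] [IsLocalRing B] [IsNoetherianRing B] [Algebra k B] (q : PrimeSpectrum (B ⊗[k] k')) (hq : q.asIdeal.comap (algebraMap B (B ⊗[k] k')) = IsLocalRing.maximalIdeal B) : LocCoh.IsGorensteinLocalRing B ↔ LocCoh.IsGorensteinLocalRing (Localization.AtPrime q.asIdeal) := by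
  haveI : Algebra.EssFiniteType k k' := IntermediateField.fg_top_iff.1 hfg
  haveI : IsNoetherianRing (B ⊗[k] k') := Algebra.EssFiniteType.isNoetherianRing B (B ⊗[k] k')
  rw [← DualLib.GorRing.gor_baseChange_field_iff q.asIdeal (DualLib.GorRing.gorensteinRing_field_tensor_fg _)]
  refine DualLib.GorFlat.gor_congr (IsLocalization.atUnits B
    (q.asIdeal.comap (algebraMap B (B ⊗[k] k'))).primeCompl fun x hx => ?_).toRingEquiv
  have hx' : x ∉ IsLocalRing.maximalIdeal B := fun h => hx (hq.ge h)
  exact IsLocalRing.notMem_maximalIdeal.1 hx'

end Groth.Agent.S1760
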