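import Groth.Statements.S17615
import Groth.Agent.HenselLib.HfpFlat

set_option autoImplicit false
universe u
open Hensel Groth.Agent.HenselLib

namespace Groth.Agent.S17615

/-- Let (A, I) be a Henselian pair and let B be a Henselization of the pair (R₀, IR₀) for a finitely
presented A-algebra R₀ (so A → B is a Henselian finitely presented map of Henselian pairs). If B is
flat over A, then there are a finitely presented A-algebra S that is flat over A and an S-algebra
structure on B compatible with that of A for which B is a Henselization of the pair (S, IS). -/
theorem result (A : Type u) [CommRing A]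
    (I : Ideal A) [HenselianRing A I]
    (R₀ : Type u) [CommRing R₀] [Algebra A R₀] [Algebra.FinitePresentation A R₀]
    (B : Type u) [CommRing B] [Algebra R₀ B] [Algebra A B] [IsScalarTower A R₀ B]
    (hB : Hens2.IsPairHenselization R₀ (I.map (algebraMap A R₀)) B) [Module.Flat A B] :
    ∃ (S : Type u) (_ : CommRing S) (_ : Algebra A S) (_ : Algebra S B) (_ : IsScalarTower A S B),
      Algebra.FinitePresentation A S ∧ Module.Flat A S ∧
      Hens2.IsPairHenselization S (I.map (algebraMap A S)) B := by
  have hB' : IsPairHull R₀ (I.map (algebraMap A R₀)) B := hB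
  obtain ⟨g, hg, hflat⟩ := HfpFlat.exists_flat_away hB'
  have hu : IsUnit (algebraMap R₀ B g) := by
    have h1 : algebraMap R₀ B g - 1 ∈ (I.map (algebraMap A R₀)).map (algebraMap R₀ B) := by
      rw [← map_one (algebraMap R₀ B), ← map_sub]
      exact Ideal.mem_map_of_mem _ hg
    exact Ideal.isUnit_of_sub_one_mem_jacobson_bot _ (hB'.1.jac h1)
  letI : Algebra (Localization.Away g) B := (IsLocalization.Away.lift g hu).toAlgebra
  have hst : IsScalarTower R₀ (Localization.Away g) B :=
    .of_algebraMap_eq fun r => (IsLocalization.Away.lift_eq g hu r).symm
  have hst' : IsScalarTower A (Localization.Away g) B := .of_algebraMap_eq fun a => by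
    rw [IsScalarTower.algebraMap_apply A R₀ B, IsScalarTower.algebraMap_apply A R₀ (Localization.Away g),
      ← IsScalarTower.algebraMap_apply R₀ (Localization.Away g) B]
  refine ⟨Localization.Away g, inferInstance, inferInstance, inferInstance, hst',
    Algebra.FinitePresentation.trans A R₀ (Localization.Away g), hflat, ?_⟩
  have := Hfp.of_nbhd hB' (R' := Localization.Away g) (ZeroLocusShrink.bijective_quotientMap_away _ g hg)
  rw [Ideal.map_map, ← IsScalarTower.algebraMap_eq] at this
  exact this

end Groth.Agent.S17615
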