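import Groth.Statements.S17605
import Mathlib.RingTheory.Jacobson.Ideal

set_option autoImplicit false
universe u
open Hensel

namespace Groth.Agent.S17605

/-- Let A be a ring with an ideal I and let f₁, f₂ be elements of A such that D(f₂) ∩ V(I) ⊆ D(f₁) ∩
V(I) in Spec A. If H₁ is a Henselization of the pair (A_{f₁}, IA_{f₁}) and H₂ a Henselization of the
pair (A_{f₂}, IA_{f₂}), with their induced A-algebra structures, then there is exactly one A-algebra
map H₁ → H₂. -/
theorem result (A : Type u) [CommRing A]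
    (I : Ideal A) (f₁ f₂ : A)
    (h : (PrimeSpectrum.basicOpen f₂ : Set (PrimeSpectrum A)) ∩ PrimeSpectrum.zeroLocus (I : Set A) ⊆
      (PrimeSpectrum.basicOpen f₁ : Set (PrimeSpectrum A)) ∩ PrimeSpectrum.zeroLocus (I : Set A))
    (H₁ : Type u) [CommRing H₁] [Algebra (Localization.Away f₁) H₁] [Algebra A H₁]
    [IsScalarTower A (Localization.Away f₁) H₁]
    (hH₁ : Hens2.IsPairHenselization (Localization.Away f₁)
      (I.map (algebraMap A (Localization.Away f₁))) H₁)
    (H₂ : Type u) [CommRing H₂] [Algebra (Localization.Away f₂) H₂] [Algebra A H₂]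
    [IsScalarTower A (Localization.Away f₂) H₂]
    (hH₂ : Hens2.IsPairHenselization (Localization.Away f₂)
      (I.map (algebraMap A (Localization.Away f₂))) H₂) :
    Nonempty (H₁ →ₐ[A] H₂) ∧ Subsingleton (H₁ →ₐ[A] H₂) := by
  set J := (I.map (algebraMap A (Localization.Away f₂))).map (algebraMap (Localization.Away f₂) H₂)
  have hJ : J = I.map (algebraMap A H₂) := by
    simp only [J]
    rw [Ideal.map_map, ← IsScalarTower.algebraMap_eq]
  haveI := hH₂.1
  have hu : IsUnit (algebraMap A H₂ f₁) := by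
    by_contra hnu
    obtain ⟨M, hM, hf1⟩ := exists_max_ideal_of_mem_nonunits hnu
    have hJM : J ≤ M := ((hH₂.1).jac).trans (by rw [Ideal.jacobson]; exact sInf_le ⟨bot_le, hM⟩)
    let p : PrimeSpectrum A := ⟨M.comap (algebraMap A H₂), Ideal.IsPrime.comap _⟩
    have hp1 : p ∈ PrimeSpectrum.zeroLocus (I : Set A) := fun a ha => by
      change algebraMap A H₂ a ∈ M
      exact hJM (hJ ▸ Ideal.mem_map_of_mem _ ha)
    have hp2 : p ∈ PrimeSpectrum.basicOpen f₂ := fun hf2 => hM.ne_top (M.eq_top_of_isUnit_mem hf2 (by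
      rw [IsScalarTower.algebraMap_apply A (Localization.Away f₂) H₂]
      exact (IsLocalization.Away.algebraMap_isUnit f₂).map _))
    exact (h ⟨hp2, hp1⟩).1 hf1
  let ψ : Localization.Away f₁ →+* H₂ := IsLocalization.Away.lift f₁ (g := algebraMap A H₂) hu
  have hψ : ψ.comp (algebraMap A (Localization.Away f₁)) = algebraMap A H₂ :=
    IsLocalization.Away.lift_comp f₁ hu
  obtain ⟨g, hg, huniq⟩ := hH₁.2 H₂ J ψ hH₂.1 (by rw [Ideal.map_map, hψ, hJ])
  refine ⟨⟨{ g with commutes' := fun a => ?_ }⟩, ⟨fun φ φ' => AlgHom.coe_ringHom_injective ?_⟩⟩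
  · change g (algebraMap A H₁ a) = algebraMap A H₂ a
    rw [IsScalarTower.algebraMap_apply A (Localization.Away f₁) H₁, ← hψ]
    exact RingHom.congr_fun hg (algebraMap A (Localization.Away f₁) a)
  · have key : ∀ φ : H₁ →ₐ[A] H₂, (φ : H₁ →+* H₂).comp (algebraMap (Localization.Away f₁) H₁) = ψ := by
      intro φ
      refine IsLocalization.ringHom_ext (Submonoid.powers f₁) ?_
      rw [hψ, RingHom.comp_assoc, ← IsScalarTower.algebraMap_eq]
      exact φ.comp_algebraMap
    exact (huniq _ (key φ)).trans (huniq _ (key φ')).symm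

end Groth.Agent.S17605
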