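import Groth.Statements.S17606
-- import your own Groth.Agent.* helpers here
import Groth.Agent.SphLib.SheafGlue

set_option autoImplicit false
universe u
open Hensel
open scoped TensorProduct

namespace Groth.Agent.S17606

open Groth.Agent.SphSheaf

/-- Let A be a ring with an ideal I and let g_i (i ∈ ι) be elements of A whose images generate the unit
ideal of A/I, so that the basic opens D(g_i) cover V(I). Let H be a Henselization of the pair (A,
I), H_i a Henselization of (A_{g_i}, IA_{g_i}) and H_{ij} a Henselization of (A_{g_i g_j}, IA_{g_i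
g_j}), all with their induced A-algebra structures, and fix A-algebra maps H → H_i, H_i → H_{ij} and
H_j → H_{ij} (each is the unique such map). Then the sequence H → ∏ H_i ⇉ ∏ H_{ij} is an equalizer:
an element of H is determined by its images in the H_i, and every family (s_i) with s_i ∈ H_i whose
images in each H_{ij} agree is the image of an element of H. (This is the sheaf condition, for the
covering of V(I) by the D(g_i), of the presheaf D(f) ∩ V(I) ↦ Henselization of (A_f, IA_f); the case
of a general basic open D(f) ∩ V(I) follows by replacing A with A_f.) -/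
theorem result (A : Type u) [CommRing A] (I : Ideal A)
    (ι : Type u) (g : ι → A) (hcov : I ⊔ Ideal.span (Set.range g) = ⊤)
    (H : Type u) [CommRing H] [Algebra A H] (hH : Hens2.IsPairHenselization A I H)
    (Hi : ι → Type u) [∀ i, CommRing (Hi i)] [∀ i, Algebra (Localization.Away (g i)) (Hi i)]
    [∀ i, Algebra A (Hi i)] [∀ i, IsScalarTower A (Localization.Away (g i)) (Hi i)]
    (hHi : ∀ i, Hens2.IsPairHenselization (Localization.Away (g i))
      (I.map (algebraMap A (Localization.Away (g i)))) (Hi i))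
    (Hij : ι → ι → Type u) [∀ i j, CommRing (Hij i j)]
    [∀ i j, Algebra (Localization.Away (g i * g j)) (Hij i j)]
    [∀ i j, Algebra A (Hij i j)] [∀ i j, IsScalarTower A (Localization.Away (g i * g j)) (Hij i j)]
    (hHij : ∀ i j, Hens2.IsPairHenselization (Localization.Away (g i * g j))
      (I.map (algebraMap A (Localization.Away (g i * g j)))) (Hij i j))
    (ρ : ∀ i, H →ₐ[A] Hi i) (σ : ∀ i j, Hi i →ₐ[A] Hij i j) (τ : ∀ i j, Hi j →ₐ[A] Hij i j) :
    (∀ x y : H, (∀ i, ρ i x = ρ i y) → x = y) ∧
    ∀ s : ∀ i, Hi i, (∀ i j, σ i j (s i) = τ i j (s j)) → ∃ x : H, ∀ i, ρ i x = s i := by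
  classical
  refine ⟨fun x y h => sub_eq_zero.1 (eq_zero_of_restrict I hH g hcov Hi hHi ρ (x - y)
    fun i => by rw [map_sub, h i, sub_self]), fun s hs => ?_⟩
  have : HenselianRing H (I.map (algebraMap A H)) := hH.1
  obtain ⟨π, hπ, hker⟩ := exists_red_top I hH
  let πi := fun a => (exists_red I (g a) (hHi a)).some
  choose C iC aC eC fC φ t ht using fun a => exists_rep I (hHi a) (s a)
  have hCu : ∀ a, IsUnit (algebraMap A (C a) (g a)) := fun a => by
    have := (IsLocalization.Away.algebraMap_isUnit (S := Localization.Away (g a)) (g a)).map (fC a)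
    rwa [AlgHom.commutes] at this
  let top : ∀ c : A, A ⧸ I →ₐ[A] Qg I c := fun c => IsScalarTower.toAlgHom A (A ⧸ I) (Qg I c)
  let Ψ : ∀ a, H ⊗[A] C a →ₐ[A] Qg I (g a) := fun a =>
    Algebra.TensorProduct.lift ((top (g a)).comp π) ((πi a).comp (φ a)) fun _ _ => Commute.all _ _
  have hcov' : Ideal.span (Set.range fun a => Ideal.Quotient.mk I (g a)) = ⊤ := by
    rw [Set.range_comp' (Ideal.Quotient.mk I) g, ← Ideal.map_span]
    have := congrArg (Ideal.map (Ideal.Quotient.mk I)) hcov
    rwa [Ideal.map_sup, Ideal.map_quotient_self, bot_sup_eq, Ideal.map_top] at this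
  obtain ⟨x, hx⟩ := exists_glue π hπ hker g hcov' (fun a => H ⊗[A] C a) (fun a => (Ψ a).toRingHom)
    (fun a => RingHom.ext fun y => by
      show Ψ a (y ⊗ₜ[A] (1 : C a)) = _
      simp [Ψ, top]
      )
    (fun a => by
      refine surjective_to_qg I (g a) ?_ (Ψ a)
      have := (hCu a).map (Algebra.TensorProduct.includeRight : C a →ₐ[A] H ⊗[A] C a)
      rwa [AlgHom.commutes] at this)
    (fun a => (1 : H) ⊗ₜ[A] t a) (fun a b => by
      obtain ⟨πab⟩ := exists_red I (g a * g b) (hHij a b)
      have hu : IsUnit (algebraMap A (Qg I (g a * g b)) (g a)) ∧ IsUnit (algebraMap A (Qg I (g a * g b)) (g b)) := by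
        exact IsUnit.mul_iff.1 ((map_mul (algebraMap A (Qg I (g a * g b))) (g a) (g b)) ▸ isUnit_qg I (g a * g b))
      obtain ⟨ra⟩ := qg_algHom I (g a) (qg_map_bot I (g a * g b)) hu.1
      obtain ⟨rb⟩ := qg_algHom I (g b) (qg_map_bot I (g a * g b)) hu.2
      have : Algebra.Etale (C a) (C a ⊗[A] C b) := inferInstance
      have : Algebra.Etale A (C a ⊗[A] C b) := Algebra.Etale.comp A (C a) (C a ⊗[A] C b)
      let φab : C a ⊗[A] C b →ₐ[A] Hij a b :=
        Algebra.TensorProduct.lift ((σ a b).comp (φ a)) ((τ a b).comp (φ b)) fun _ _ => Commute.all _ _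
      have hCab : IsUnit (algebraMap A (C a ⊗[A] C b) (g a * g b)) := by
        rw [map_mul]
        refine IsUnit.mul ?_ ?_
        · have := (hCu a).map (Algebra.TensorProduct.includeLeft : C a →ₐ[A] C a ⊗[A] C b)
          rwa [AlgHom.commutes] at this
        · have := (hCu b).map (Algebra.TensorProduct.includeRight : C b →ₐ[A] C a ⊗[A] C b)
          rwa [AlgHom.commutes] at this
      obtain ⟨c, hc, hc1⟩ := exists_annihilator I (hHij a b) φab (t a ⊗ₜ 1 - 1 ⊗ₜ t b) (by
        rw [map_sub]
        simp [φab, ht, hs a b]) πab (surjective_to_qg I (g a * g b) hCab _)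
      let L := Localization.Away c
      have : Algebra.Etale (C a ⊗[A] C b) L := Algebra.Etale.of_isLocalizationAway c
      have : Algebra.Etale A L := Algebra.Etale.comp A (C a ⊗[A] C b) L
      let inc : C a ⊗[A] C b →ₐ[A] L := IsScalarTower.toAlgHom A (C a ⊗[A] C b) L
      have hu' : IsUnit ((πab.comp φab).toRingHom c) := by
        rw [show (πab.comp φab).toRingHom c = 1 from hc1]; exact isUnit_one
      let ψL : L →ₐ[A] Qg I (g a * g b) := AlgHom.mk
        (IsLocalization.Away.lift c (g := (πab.comp φab).toRingHom) hu') fun z => by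
          rw [IsScalarTower.algebraMap_apply A (C a ⊗[A] C b) L]
          exact (IsLocalization.Away.lift_eq c hu' _).trans ((πab.comp φab).commutes z)
      have hψL : ∀ z, ψL (inc z) = πab (φab z) := fun z => IsLocalization.Away.lift_eq c hu' z
      let Θ : H ⊗[A] L →ₐ[A] Qg I (g a * g b) :=
        Algebra.TensorProduct.lift ((top (g a * g b)).comp π) ψL fun _ _ => Commute.all _ _
      let ca : H ⊗[A] C a →ₐ[H] H ⊗[A] L :=
        Algebra.TensorProduct.map (AlgHom.id H H) (inc.comp Algebra.TensorProduct.includeLeft)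
      let cb : H ⊗[A] C b →ₐ[H] H ⊗[A] L :=
        Algebra.TensorProduct.map (AlgHom.id H H) (inc.comp Algebra.TensorProduct.includeRight)
      refine ⟨H ⊗[A] L, inferInstance, inferInstance, inferInstance, ca, cb, Θ.toRingHom, ra.toRingHom,
        rb.toRingHom, RingHom.ext fun y => ?_, ?_, ?_, ?_, ?_, ?_⟩
      · show Θ (y ⊗ₜ[A] (1 : L)) = _
        simp [Θ, top]
      · exact Ideal.Quotient.ringHom_ext (RingHom.ext fun z => ra.commutes z)
      · exact Ideal.Quotient.ringHom_ext (RingHom.ext fun z => rb.commutes z)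
      · refine congrArg AlgHom.toRingHom (show Θ.comp (ca.restrictScalars A) = ra.comp (Ψ a) from
          Algebra.TensorProduct.ext' fun y z => ?_)
        show Θ (y ⊗ₜ[A] inc (z ⊗ₜ 1)) = ra (Ψ a (y ⊗ₜ z))
        simp only [Θ, Ψ, Algebra.TensorProduct.lift_tmul, map_mul]
        rw [hψL]
        congr 1
        · exact (AlgHom.congr_fun (hom_top_ext I hH ((top (g a * g b)).comp π) (ra.comp ((top (g a)).comp π))) y)
        · simp only [φab, Algebra.TensorProduct.lift_tmul, map_one, mul_one]
          exact AlgHom.congr_fun (hom_to_qg_ext I (g a) (hHi a) (πab.comp (σ a b)) (ra.comp (πi a))) (φ a z)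
      · refine congrArg AlgHom.toRingHom (show Θ.comp (cb.restrictScalars A) = rb.comp (Ψ b) from
          Algebra.TensorProduct.ext' fun y z => ?_)
        show Θ (y ⊗ₜ[A] inc (1 ⊗ₜ z)) = rb (Ψ b (y ⊗ₜ z))
        simp only [Θ, Ψ, Algebra.TensorProduct.lift_tmul, map_mul]
        rw [hψL]
        congr 1
        · exact (AlgHom.congr_fun (hom_top_ext I hH ((top (g a * g b)).comp π) (rb.comp ((top (g b)).comp π))) y)
        · simp only [φab, Algebra.TensorProduct.lift_tmul, map_one, one_mul]
          exact AlgHom.congr_fun (hom_to_qg_ext I (g b) (hHi b) (πab.comp (τ a b)) (rb.comp (πi b))) (φ b z)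
      · show (1 : H) ⊗ₜ[A] inc (t a ⊗ₜ 1) = (1 : H) ⊗ₜ[A] inc (1 ⊗ₜ t b)
        congr 1
        refine sub_eq_zero.1 ?_
        rw [← map_sub]
        exact (IsLocalization.map_eq_zero_iff (Submonoid.powers c) L _).2
          ⟨⟨c, 1, pow_one c⟩, hc⟩)
  refine ⟨x, fun a => ?_⟩
  obtain ⟨c, hc, hc1⟩ := hx a
  let χ : H ⊗[A] C a →ₐ[A] Hi a := Algebra.TensorProduct.lift (ρ a) (φ a) fun _ _ => Commute.all _ _
  have hπχ : (πi a).comp χ = Ψ a := Algebra.TensorProduct.ext' fun y z => by
    simp only [χ, Ψ, AlgHom.comp_apply, Algebra.TensorProduct.lift_tmul, map_mul]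
    congr 1
    exact AlgHom.congr_fun (hom_top_ext I hH ((πi a).comp (ρ a)) ((top (g a)).comp π)) y
  have hu : IsUnit (χ c) := isUnit_of_red_eq_one I (g a) (hHi a) (πi a)
    ((AlgHom.congr_fun hπχ c).trans hc1)
  have := hu.mul_right_eq_zero.1 ((map_mul χ c _).symm.trans ((congrArg χ hc).trans (map_zero χ)))
  rw [map_sub, sub_eq_zero] at this
  simpa [χ, ht] using this

end Groth.Agent.S17606
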