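import Groth.Statements.S17610
import Groth.Agent.HenselLib.HfpMaps

set_option autoImplicit false
universe u
open Hensel

namespace Groth.Agent.S17610

/-- Let (A, I) be a Henselian pair and let B be a Henselization of the pair (R₀, IR₀) for a finitely
presented A-algebra R₀ (so A → B is a Henselian finitely presented map of Henselian pairs). Then A →
B is h-formally étale, meaning that for all A-algebras E and C annihilated by some power I^N (N ≥
1), every surjective A-algebra map p : E → C with nilpotent kernel and every A-algebra map u : B →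
C, there is exactly one A-algebra map v : B → E with p ∘ v = u, if and only if A/I^r → B/I^rB is
étale for every r ≥ 1. (Test algebras E, C are taken in the universe of A.) -/
theorem result (A : Type u) [CommRing A] (I : Ideal A)
    [HenselianRing A I] (R₀ : Type u) [CommRing R₀] [Algebra A R₀] [Algebra.FinitePresentation A R₀]
    (B : Type u) [CommRing B] [Algebra R₀ B] [Algebra A B] [IsScalarTower A R₀ B]
    (hB : Hens2.IsPairHenselization R₀ (I.map (algebraMap A R₀)) B) :
    (∀ (E C : Type u) [CommRing E] [CommRing C] [Algebra A E] [Algebra A C] (N : ℕ), 1 ≤ N →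
        (I ^ N).map (algebraMap A E) = ⊥ → (I ^ N).map (algebraMap A C) = ⊥ →
        ∀ (p : E →ₐ[A] C), Function.Surjective p → (∃ M : ℕ, 1 ≤ M ∧ RingHom.ker p ^ M = ⊥) →
        ∀ u : B →ₐ[A] C, ∃! v : B →ₐ[A] E, p.comp v = u) ↔
    ∀ r : ℕ, 1 ≤ r → Algebra.Etale (A ⧸ I ^ r) (B ⧸ (I ^ r).map (algebraMap A B)) := by
  open Groth.Agent.HenselLib.HfpMaps in
  constructor
  · intro h r hr
    have h1 : LiftsSurj I B := fun E C _ _ _ _ N hN hE hC p hp hM u =>
      (h E C N hN hE hC p hp hM u).exists
    have h2 : LiftsInj I B := fun E C _ _ _ _ N hN hE hC p hp hM v v' hvv =>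
      (h E C N hN hE hC p hp hM (p.comp v')).unique hvv rfl
    have := liftsSurj_iff.mp h1 r hr
    have := liftsInj_iff.mp h2 r hr
    have := finitePresentation_quotient_pow hB r
    have := Algebra.FormallyEtale.of_formallyUnramified_and_formallySmooth
      (R := A ⧸ I ^ r) (A := B ⧸ (I ^ r).map (algebraMap A B))
    exact ⟨inferInstance, inferInstance⟩
  · intro h E C _ _ _ _ N hN hE hC p hp hM u
    have h1 : LiftsSurj I B := liftsSurj_iff.mpr fun r hr => have := h r hr; inferInstance
    have h2 : LiftsInj I B := liftsInj_iff.mpr fun r hr => have := h r hr; inferInstance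
    obtain ⟨v, hv⟩ := h1 E C N hN hE hC p hp hM u
    exact ⟨v, hv, fun v' hv' => h2 E C N hN hE hC p hp hM v' v (hv'.trans hv.symm)⟩

end Groth.Agent.S17610
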