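import Groth.Statements.S17613
import Groth.Agent.HenselLib.HfpLimit

set_option autoImplicit false
universe u
open Hensel

namespace Groth.Agent.S17613

/-- Let (A, I) be a Henselian pair and let B be a Henselization of the pair (R₀, IR₀) for a finitely
presented A-algebra R₀ (so A → B is Henselian finitely presented). Let (R_a) be a directed system of
A-algebras with A-compatible transition maps such that each (R_a, IR_a) is a Henselian pair, and let
L be its direct limit with the induced A-algebra structure. Then the canonical map from the colimit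
of the Hom_A(B, R_a) to Hom_A(B, L) is bijective: every A-algebra map B → L factors through some
R_a, and two A-algebra maps B → R_a whose composites with R_a → L agree become equal after passing
to some R_b. (Index set in the universe of the rings.) -/
theorem result (A : Type u) [CommRing A] (I : Ideal A)
    [HenselianRing A I] (R₀ : Type u) [CommRing R₀] [Algebra A R₀] [Algebra.FinitePresentation A R₀]
    (B : Type u) [CommRing B] [Algebra R₀ B] [Algebra A B] [IsScalarTower A R₀ B]
    (hB : Hens2.IsPairHenselization R₀ (I.map (algebraMap A R₀)) B)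
    {κ : Type u} [Preorder κ] [IsDirectedOrder κ] [Nonempty κ]
    (Ra : κ → Type u) [∀ a, CommRing (Ra a)] [∀ a, Algebra A (Ra a)]
    [∀ a, HenselianRing (Ra a) (I.map (algebraMap A (Ra a)))]
    (t : ∀ a b : κ, a ≤ b → (Ra a →+* Ra b)) [DirectedSystem Ra (fun a b h => t a b h)]
    (ht : ∀ (a b : κ) (h : a ≤ b), (t a b h).comp (algebraMap A (Ra a)) = algebraMap A (Ra b))
    [Algebra A (DirectLimit Ra t)]
    (halg : ∀ (a : κ) (x : A), algebraMap A (DirectLimit Ra t) x =
      DirectLimit.Ring.of Ra t a (algebraMap A (Ra a) x)) :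
    (∀ χ : B →ₐ[A] DirectLimit Ra t, ∃ (a : κ) (φ : B →ₐ[A] Ra a),
        ∀ x : B, DirectLimit.Ring.of Ra t a (φ x) = χ x) ∧
    ∀ (a : κ) (φ ψ : B →ₐ[A] Ra a),
      (∀ x : B, DirectLimit.Ring.of Ra t a (φ x) = DirectLimit.Ring.of Ra t a (ψ x)) →
      ∃ (b : κ) (h : a ≤ b), ∀ x : B, t a b h (φ x) = t a b h (ψ x) := by
  classical
  obtain ⟨n, π, hπ, ⟨Gr, hGr⟩⟩ := Algebra.FinitePresentation.out (R := A) (A := R₀)
  have hL := Groth.Agent.HenselLib.HfpLimit.henselianRing_directLimit (t := t) I ht halg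
  let tA : ∀ a b, a ≤ b → (Ra a →ₐ[A] Ra b) := fun a b h =>
    { t a b h with commutes' := fun x => congr($(ht a b h) x) }
  let ofA : ∀ a, Ra a →ₐ[A] DirectLimit Ra t := fun a =>
    { DirectLimit.Ring.of Ra t a with commutes' := fun x => (halg a x).symm }
  refine ⟨fun χ => ?_, fun a φ ψ h => ?_⟩
  · obtain ⟨a, y, hy⟩ := Groth.Agent.HenselLib.HfpLimit.exists_family (t := t)
      fun i => χ (algebraMap R₀ B (π (MvPolynomial.X i)))
    let g₀ : MvPolynomial (Fin n) A →ₐ[A] Ra a := MvPolynomial.aeval y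
    have hg₀ : (ofA a).comp g₀ = (χ.comp (IsScalarTower.toAlgHom A R₀ B)).comp π :=
      MvPolynomial.algHom_ext fun i => by
        show DirectLimit.Ring.of Ra t a (g₀ (MvPolynomial.X i)) = _
        rw [show g₀ (MvPolynomial.X i) = y i from MvPolynomial.aeval_X _ _, hy]
        rfl
    have hzero : ∀ r : Gr, ∃ (b : κ) (h : a ≤ b), t a b h (g₀ r.1) = 0 := fun r => by
      obtain ⟨b, hab, hb⟩ := (Groth.Agent.HenselLib.HfpLimit.of_eq_of_iff (t := t) (g₀ r.1) 0).mp (by
        rw [map_zero]
        refine (congr($hg₀ r.1)).trans ?_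
        show χ (algebraMap R₀ B (π r.1)) = 0
        rw [show π r.1 = 0 from RingHom.mem_ker.mp (hGr.le (Ideal.subset_span r.2)), map_zero,
          map_zero])
      exact ⟨b, hab, by rw [hb, map_zero]⟩
    choose b hab hb using hzero
    obtain ⟨c₁, hc₁⟩ := Finite.exists_le b
    obtain ⟨c, hac, hc₁c⟩ := exists_ge_ge a c₁
    let g₁ : MvPolynomial (Fin n) A →ₐ[A] Ra c := (tA a c hac).comp g₀
    have hker : RingHom.ker π.toRingHom ≤ RingHom.ker g₁.toRingHom := by
      rw [show RingHom.ker π.toRingHom = Ideal.span (Gr : Set _) from hGr.symm]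
      refine Ideal.span_le.mpr fun r hr => ?_
      show t a c hac (g₀ r) = 0
      rw [← DirectedSystem.map_map' (f := fun i j h => t i j h) (hab ⟨r, hr⟩)
        ((hc₁ ⟨r, hr⟩).trans hc₁c), hb ⟨r, hr⟩, map_zero]
    let g₂ : R₀ →+* Ra c := π.toRingHom.liftOfSurjective hπ ⟨g₁.toRingHom, hker⟩
    have hg₂ : ∀ p, g₂ (π p) = g₁ p := fun p =>
      congr($(π.toRingHom.liftOfSurjective_comp hπ ⟨g₁.toRingHom, hker⟩) p)
    have hg₂A : ∀ x, g₂ (algebraMap A R₀ x) = algebraMap A (Ra c) x := fun x => by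
      rw [← π.commutes, hg₂, g₁.commutes]
    let g₃ : R₀ →ₐ[A] Ra c := { g₂ with commutes' := hg₂A }
    obtain ⟨φ, hφ⟩ := Groth.Agent.HenselLib.HfpMaps.exists_extend hB g₃
    have heq : (ofA c).comp φ = χ := Groth.Agent.HenselLib.HfpMaps.algHom_ext hB _ _ fun r => by
      obtain ⟨p, rfl⟩ := hπ r
      show DirectLimit.Ring.of Ra t c (φ _) = _
      rw [hφ]
      show DirectLimit.Ring.of Ra t c (g₂ (π p)) = _
      rw [hg₂]
      show DirectLimit.Ring.of Ra t c (t a c hac (g₀ p)) = _
      rw [DirectLimit.Ring.of_f]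
      exact congr($hg₀ p)
    exact ⟨c, φ, fun x => congr($heq x)⟩
  · choose b hab hb using fun i : Fin n => (Groth.Agent.HenselLib.HfpLimit.of_eq_of_iff (t := t)
      (φ (algebraMap R₀ B (π (MvPolynomial.X i)))) (ψ (algebraMap R₀ B (π (MvPolynomial.X i))))).mp (h _)
    obtain ⟨c₁, hc₁⟩ := Finite.exists_le b
    obtain ⟨c, hac, hc₁c⟩ := exists_ge_ge a c₁
    refine ⟨c, hac, fun x => ?_⟩
    have hX : ((tA a c hac).comp φ).comp ((IsScalarTower.toAlgHom A R₀ B).comp π) =
        ((tA a c hac).comp ψ).comp ((IsScalarTower.toAlgHom A R₀ B).comp π) :=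
      MvPolynomial.algHom_ext fun i => by
        show t a c hac (φ (algebraMap R₀ B (π (MvPolynomial.X i)))) =
          t a c hac (ψ (algebraMap R₀ B (π (MvPolynomial.X i))))
        rw [← DirectedSystem.map_map' (f := fun i j h => t i j h) (hab i) ((hc₁ i).trans hc₁c),
          ← DirectedSystem.map_map' (f := fun i j h => t i j h) (hab i) ((hc₁ i).trans hc₁c), hb i]
    have heq : (tA a c hac).comp φ = (tA a c hac).comp ψ :=
      Groth.Agent.HenselLib.HfpMaps.algHom_ext hB _ _ fun r => by
        obtain ⟨p, rfl⟩ := hπ r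
        exact congr($hX p)
    exact congr($heq x)

end Groth.Agent.S17613
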