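import Groth.Statements.S17618
import Groth.Agent.HenselLib.HfpLimit
import Groth.Agent.HenselLib.HfpModels

set_option autoImplicit false
universe u
open Hensel

namespace Groth.Agent.S17618

/-- Let (A, I) and (B, IB) be Henselian pairs with B an A-algebra. Assume that for every directed system
(R_a) of A-algebras with A-compatible transition maps such that each (R_a, IR_a) is a Henselian
pair, with direct limit L carrying the induced A-algebra structure, the canonical map from the
colimit of the Hom_A(B, R_a) to Hom_A(B, L) is bijective (every A-algebra map B → L factors through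
some R_a, and two A-algebra maps B → R_a with equal composites to L agree after passing to some
R_b). Then A → B is Henselian finitely presented: there are a finitely presented A-algebra R and an
R-algebra structure on B compatible with that of A for which B is a Henselization of the pair (R,
IR). (Index sets in the universe of the rings.) -/
theorem result (A : Type u) [CommRing A] (I : Ideal A)
    [HenselianRing A I] (B : Type u) [CommRing B] [Algebra A B]
    [HenselianRing B (I.map (algebraMap A B))]
    (h : ∀ (κ : Type u) [Preorder κ] [IsDirectedOrder κ] [Nonempty κ]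
      (Ra : κ → Type u) [∀ a, CommRing (Ra a)] [∀ a, Algebra A (Ra a)]
      [∀ a, HenselianRing (Ra a) (I.map (algebraMap A (Ra a)))]
      (t : ∀ a b : κ, a ≤ b → (Ra a →+* Ra b)) [DirectedSystem Ra (fun a b hab => t a b hab)],
      (∀ (a b : κ) (hab : a ≤ b), (t a b hab).comp (algebraMap A (Ra a)) = algebraMap A (Ra b)) →
      ∀ [Algebra A (DirectLimit Ra t)],
      (∀ (a : κ) (x : A), algebraMap A (DirectLimit Ra t) x =
        DirectLimit.Ring.of Ra t a (algebraMap A (Ra a) x)) →
      (∀ χ : B →ₐ[A] DirectLimit Ra t, ∃ (a : κ) (φ : B →ₐ[A] Ra a),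
          ∀ x : B, DirectLimit.Ring.of Ra t a (φ x) = χ x) ∧
      ∀ (a : κ) (φ ψ : B →ₐ[A] Ra a),
        (∀ x : B, DirectLimit.Ring.of Ra t a (φ x) = DirectLimit.Ring.of Ra t a (ψ x)) →
        ∃ (b : κ) (hab : a ≤ b), ∀ x : B, t a b hab (φ x) = t a b hab (ψ x)) :
    ∃ (R : Type u) (_ : CommRing R) (_ : Algebra A R) (_ : Algebra R B) (_ : IsScalarTower A R B),
      Algebra.FinitePresentation A R ∧ Hens2.IsPairHenselization R (I.map (algebraMap A R)) B := by
  classical
  open Groth.Agent.HenselLib in
  -- finitely many henselian generators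
  let S : Finset B → Type u := fun s => MvPolynomial s A
  let P : Finset B → Type u := fun s => PairH (MvPolynomial s A) (I.map (algebraMap A (MvPolynomial s A)))
  have hP : ∀ s : Finset B, IsPairHull (MvPolynomial s A) (I.map (algebraMap A (MvPolynomial s A)))
      (PairH (MvPolynomial s A) (I.map (algebraMap A (MvPolynomial s A)))) := fun s =>
    isPairHull_pairH _ _
  let : ∀ s : Finset B, Algebra A (PairH (MvPolynomial s A) (I.map (algebraMap A (MvPolynomial s A)))) :=
    fun s => ((algebraMap (MvPolynomial s A) _).comp (algebraMap A (MvPolynomial s A))).toAlgebra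
  have : ∀ s : Finset B, IsScalarTower A (MvPolynomial s A)
      (PairH (MvPolynomial s A) (I.map (algebraMap A (MvPolynomial s A)))) :=
    fun s => IsScalarTower.of_algebraMap_eq fun _ => rfl
  have hhP : ∀ s : Finset B, HenselianRing
      (PairH (MvPolynomial s A) (I.map (algebraMap A (MvPolynomial s A))))
      (I.map (algebraMap A _)) := fun s => by
    rw [IsScalarTower.algebraMap_eq A (MvPolynomial s A) (PairH (MvPolynomial s A) _), ← Ideal.map_map]
    exact (hP s).1
  choose π hπ using fun s : Finset B => HfpMaps.exists_extend (hP s) (C := B)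
    (MvPolynomial.aeval fun i : s => (i : B))
  have hmono : ∀ s t : Finset B, s ≤ t → (π s).range ≤ (π t).range := fun s t hst => by
    obtain ⟨m, hm⟩ := HfpMaps.exists_extend (hP s)
      (C := PairH (MvPolynomial t A) (I.map (algebraMap A (MvPolynomial t A))))
      ((IsScalarTower.toAlgHom A (MvPolynomial t A) _).comp
        (MvPolynomial.rename fun i : s => (⟨i, hst i.2⟩ : t)))
    have heq : (π t).comp m = π s := HfpMaps.algHom_ext (hP s) _ _ fun r => by
      show π t (m _) = _
      rw [hm]
      show π t (algebraMap (MvPolynomial t A) _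
        (MvPolynomial.rename (fun i : s => (⟨i, hst i.2⟩ : t)) r)) = _
      rw [hπ, hπ, MvPolynomial.aeval_rename]
      rfl
    rintro _ ⟨x, rfl⟩
    exact ⟨m x, congr($heq x)⟩
  have hrh : ∀ s, HenselianRing (π s).range (I.map (algebraMap A (π s).range)) := fun s => by
    let : Algebra (PairH (MvPolynomial s A) (I.map (algebraMap A (MvPolynomial s A)))) (π s).range :=
      (π s).rangeRestrict.toRingHom.toAlgebra
    have : Algebra.IsIntegral (PairH (MvPolynomial s A) (I.map (algebraMap A (MvPolynomial s A))))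
        (π s).range := ⟨fun y => by
      obtain ⟨x, rfl⟩ := (π s).rangeRestrict_surjective y
      exact isIntegral_algebraMap⟩
    have := hhP s
    have h2 := henselianRing_of_isIntegral
      (I.map (algebraMap A (PairH (MvPolynomial s A) (I.map (algebraMap A (MvPolynomial s A))))))
      (π s).range
    rwa [Ideal.map_map, show (algebraMap (PairH (MvPolynomial s A) _) (π s).range).comp
      (algebraMap A _) = algebraMap A (π s).range from (π s).rangeRestrict.comp_algebraMap] at h2
  let tr : ∀ s t : Finset B, s ≤ t → ((π s).range →+* (π t).range) := fun s t hst =>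
    (Subalgebra.inclusion (hmono s t hst)).toRingHom
  have : DirectedSystem (fun s => (π s).range) (fun s t hst => tr s t hst) :=
    ⟨fun _ _ => rfl, fun _ _ _ _ _ _ => rfl⟩
  let L₁ := DirectLimit (fun s : Finset B => (π s).range) (fun s t hst => tr s t hst)
  have htr : ∀ s t (hst : s ≤ t), (tr s t hst).comp (algebraMap A (π s).range) =
      algebraMap A (π t).range := fun _ _ _ => rfl
  letI : Algebra A L₁ :=
    ((DirectLimit.Ring.of (fun s : Finset B => (π s).range) tr ∅).comp
      (algebraMap A (π ∅).range)).toAlgebra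
  have halg : ∀ (s : Finset B) (x : A), algebraMap A L₁ x =
      DirectLimit.Ring.of (fun s : Finset B => (π s).range) tr s (algebraMap A (π s).range x) :=
    fun s x => (DirectLimit.Ring.of_f (f := tr) (Finset.empty_subset s) _).symm
  let ρ : L₁ →+* B := DirectLimit.Ring.lift (fun s : Finset B => (π s).range) tr B
    (fun s => (π s).range.val.toRingHom) fun _ _ _ _ => rfl
  have hρ : Function.Bijective ρ := by
    refine ⟨(injective_iff_map_eq_zero _).mpr fun z hz => ?_, fun b => ?_⟩
    · obtain ⟨s, x, rfl⟩ := HfpLimit.exists_of (t := tr) z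
      have hx : x = 0 := Subtype.ext hz
      rw [hx, map_zero]
    · have hb : b ∈ (π {b}).range := ⟨algebraMap (MvPolynomial ({b} : Finset B) A) _
          (MvPolynomial.X ⟨b, Finset.mem_singleton_self b⟩), by
        show π {b} _ = b
        rw [hπ, MvPolynomial.aeval_X]⟩
      exact ⟨DirectLimit.Ring.of (fun s : Finset B => (π s).range) tr {b} ⟨b, hb⟩,
        DirectLimit.Ring.lift_of ..⟩
  let e₁ : L₁ ≃ₐ[A] B := AlgEquiv.ofBijective { ρ with commutes' := fun _ => rfl } hρ
  obtain ⟨hex, -⟩ := h (Finset B) (fun s => (π s).range) tr htr halg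
  obtain ⟨s, φ₁, hφ₁⟩ := hex e₁.symm.toAlgHom
  have hsurj : Function.Surjective (π s) := fun b => by
    obtain ⟨x, hx⟩ := (π s).rangeRestrict_surjective (φ₁ b)
    refine ⟨x, ?_⟩
    have h1 : ρ (DirectLimit.Ring.of (fun s : Finset B => (π s).range) tr s (φ₁ b)) = b := by
      rw [hφ₁]; exact e₁.apply_symm_apply b
    rw [← hx] at h1
    exact h1
  -- finitely many relations
  let Q := PairH (MvPolynomial s A) (I.map (algebraMap A (MvPolynomial s A)))
  let J : Ideal Q := RingHom.ker (π s).toRingHom
  let K : Finset J → Ideal Q := fun t => Ideal.span ((t.image Subtype.val : Finset Q) : Set Q)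
  have hKmono : ∀ t t' : Finset J, t ≤ t' → K t ≤ K t' := fun t t' htt =>
    Ideal.span_mono (Finset.coe_subset.mpr (Finset.image_subset_image htt))
  have hKJ : ∀ t, K t ≤ J := fun t => Ideal.span_le.mpr fun x hx => by
    obtain ⟨y, -, rfl⟩ := Finset.mem_image.mp hx
    exact y.2
  have hQK : ∀ t, HenselianRing (Q ⧸ K t) (I.map (algebraMap A (Q ⧸ K t))) := fun t => by
    have := hhP s
    have h2 := henselianRing_quotient (I.map (algebraMap A Q)) (K t)
    rwa [Ideal.map_map, show (Ideal.Quotient.mk (K t)).comp (algebraMap A Q) = algebraMap A (Q ⧸ K t)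
      from rfl] at h2
  let tq : ∀ t t' : Finset J, t ≤ t' → (Q ⧸ K t →+* Q ⧸ K t') := fun t t' htt =>
    Ideal.Quotient.factor (hKmono t t' htt)
  have : DirectedSystem (fun t => Q ⧸ K t) (fun t t' htt => tq t t' htt) :=
    ⟨fun t x => by obtain ⟨x, rfl⟩ := Ideal.Quotient.mk_surjective x; rfl,
      fun _ _ _ _ _ x => by obtain ⟨x, rfl⟩ := Ideal.Quotient.mk_surjective x; rfl⟩
  let L₂ := DirectLimit (fun t : Finset J => Q ⧸ K t) (fun t t' htt => tq t t' htt)
  have htq : ∀ t t' (htt : t ≤ t'), (tq t t' htt).comp (algebraMap A (Q ⧸ K t)) =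
      algebraMap A (Q ⧸ K t') := fun _ _ _ => RingHom.ext fun _ => rfl
  letI : Algebra A L₂ :=
    ((DirectLimit.Ring.of (fun t : Finset J => Q ⧸ K t) tq ∅).comp
      (algebraMap A (Q ⧸ K ∅))).toAlgebra
  have halg₂ : ∀ (t : Finset J) (x : A), algebraMap A L₂ x =
      DirectLimit.Ring.of (fun t : Finset J => Q ⧸ K t) tq t (algebraMap A (Q ⧸ K t) x) :=
    fun t x => (DirectLimit.Ring.of_f (f := tq) (Finset.empty_subset t) _).symm
  let ρ₂ : L₂ →+* B := DirectLimit.Ring.lift (fun t : Finset J => Q ⧸ K t) tq B
    (fun t => Ideal.Quotient.lift (K t) (π s).toRingHom fun x hx => hKJ t hx)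
    fun _ _ _ x => by obtain ⟨x, rfl⟩ := Ideal.Quotient.mk_surjective x; rfl
  have hρ₂ : Function.Bijective ρ₂ := by
    refine ⟨(injective_iff_map_eq_zero _).mpr fun z hz => ?_, fun b => ?_⟩
    · obtain ⟨t, x, rfl⟩ := HfpLimit.exists_of (t := tq) z
      obtain ⟨x, rfl⟩ := Ideal.Quotient.mk_surjective x
      rw [← DirectLimit.Ring.of_f (f := tq) (Finset.subset_union_left : t ⊆ t ∪ {⟨x, hz⟩})]
      rw [show tq t (t ∪ {⟨x, hz⟩}) Finset.subset_union_left (Ideal.Quotient.mk (K t) x) = 0 from
        Ideal.Quotient.eq_zero_iff_mem.mpr (Ideal.subset_span (Finset.mem_coe.mpr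
          (Finset.mem_image.mpr ⟨⟨x, hz⟩, Finset.mem_union_right _ (Finset.mem_singleton_self _), rfl⟩))),
        map_zero]
    · obtain ⟨x, rfl⟩ := hsurj b
      exact ⟨DirectLimit.Ring.of (fun t : Finset J => Q ⧸ K t) tq ∅ (Ideal.Quotient.mk _ x), rfl⟩
  have hρ₂A : ∀ x, ρ₂ (algebraMap A L₂ x) = algebraMap A B x := fun x => (π s).commutes x
  let e₂ : L₂ ≃ₐ[A] B := AlgEquiv.ofBijective { ρ₂ with commutes' := hρ₂A } hρ₂
  obtain ⟨hex₂, -⟩ := h (Finset J) (fun t => Q ⧸ K t) tq htq halg₂
  obtain ⟨t, φ, hφ⟩ := hex₂ e₂.symm.toAlgHom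
  have hπφ : ∀ b, Ideal.Quotient.lift (K t) (π s).toRingHom (fun x hx => hKJ t hx) (φ b) = b :=
    fun b => (congrArg ρ₂ (hφ b)).trans (e₂.apply_symm_apply b)
  choose w hw using fun i : s => Ideal.Quotient.mk_surjective
    (Ideal.Quotient.mk (K t) (algebraMap (MvPolynomial s A) Q (MvPolynomial.X i)) -
      φ (π s (algebraMap (MvPolynomial s A) Q (MvPolynomial.X i))))
  have hwJ : ∀ i, w i ∈ J := fun i => by
    show π s (w i) = 0
    have h1 : Ideal.Quotient.lift (K t) (π s).toRingHom (fun x hx => hKJ t hx)
        (Ideal.Quotient.mk (K t) (w i)) = 0 := by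
      rw [hw, map_sub, hπφ]
      exact sub_self _
    exact h1
  let t' : Finset J := t ∪ Finset.univ.image fun i => ⟨w i, hwJ i⟩
  have htt : t ≤ t' := Finset.subset_union_left
  have := hQK t'
  let ft : Q ⧸ K t →ₐ[A] Q ⧸ K t' :=
    Ideal.Quotient.factorₐ A (hKmono t t' htt)
  have heq : (Ideal.Quotient.mkₐ A (K t')) = (ft.comp φ).comp (π s) :=
    HfpMaps.algHom_ext (hP s) _ _ fun r => by
      have hX : ((Ideal.Quotient.mkₐ A (K t')).comp (IsScalarTower.toAlgHom A (MvPolynomial s A) Q)) =
          ((ft.comp φ).comp (π s)).comp (IsScalarTower.toAlgHom A (MvPolynomial s A) Q) :=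
        MvPolynomial.algHom_ext fun i => by
          have h1 : ft (Ideal.Quotient.mk (K t) (w i)) = 0 :=
            Ideal.Quotient.eq_zero_iff_mem.mpr (Ideal.subset_span (Finset.mem_coe.mpr
              (Finset.mem_image.mpr ⟨⟨w i, hwJ i⟩,
                Finset.mem_union_right _ (Finset.mem_image_of_mem _ (Finset.mem_univ i)), rfl⟩)))
          rw [hw, map_sub, sub_eq_zero] at h1
          exact h1
      exact congr($hX r)
  have hker : J = K t' := le_antisymm (fun x hx => Ideal.Quotient.eq_zero_iff_mem.mp (by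
    have h1 : Ideal.Quotient.mk (K t') x = ft (φ (π s x)) := congr($heq x)
    rw [h1, show π s x = 0 from hx, map_zero, map_zero])) (hKJ t')
  let n := s.card
  let eS : MvPolynomial (Fin n) A ≃ₐ[A] MvPolynomial s A := MvPolynomial.renameEquiv A s.equivFin.symm
  letI : Algebra (MvPolynomial (Fin n) A) Q :=
    ((algebraMap (MvPolynomial s A) Q).comp eS.toRingEquiv.toRingHom).toAlgebra
  have hn : IsPairHull (MvPolynomial (Fin n) A) (I.map (algebraMap A (MvPolynomial (Fin n) A))) Q := by
    have h1 := HfpModels.of_surjective (hP s) eS.symm.toRingEquiv.toRingHom eS.symm.surjective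
      (RingHom.id Q) (fun x => ⟨x, rfl⟩)
      (by
        rw [(RingHom.injective_iff_ker_eq_bot _).mp (fun a b h => h),
          show RingHom.ker eS.symm.toRingEquiv.toRingHom = ⊥ from
            (RingHom.injective_iff_ker_eq_bot _).mp eS.symm.injective, Ideal.map_bot])
      (RingHom.ext fun x => by
        show algebraMap (MvPolynomial s A) Q x = algebraMap (MvPolynomial s A) Q (eS (eS.symm x))
        rw [eS.apply_symm_apply])
    rwa [Ideal.map_map, show eS.symm.toRingEquiv.toRingHom.comp (algebraMap A (MvPolynomial s A)) =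
      algebraMap A (MvPolynomial (Fin n) A) from eS.symm.toAlgHom.comp_algebraMap] at h1
  have : IsScalarTower A (MvPolynomial (Fin n) A) Q := IsScalarTower.of_algebraMap_eq fun a => by
    show _ = algebraMap (MvPolynomial s A) Q (eS (algebraMap A _ a))
    rw [eS.commutes]
    rfl
  exact HfpModels.exists_model A I n Q B hn (π s) hsurj ⟨t'.image Subtype.val, hker.symm⟩

end Groth.Agent.S17618
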