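import Groth.Statements.S1762
import Groth.Agent.DualLib.Global

set_option autoImplicit false
universe u
open CategoryTheory
attribute [local instance] HasDerivedCategory.standard
open Dual

namespace Groth.Agent.S1762

/-- Let A be a Noetherian ring with a dualizing complex ω and p a minimal prime of A. Then there is
exactly one integer i for which H^i(ω) localized at p is nonzero. -/
theorem result (A : Type u) [CommRing A] [IsNoetherianRing A] (ω : Dual.D A) (hω : Dual.IsDualizing A ω) (p : Ideal A) (hp : p ∈ minimalPrimes A) : ∃! i : ℤ, Nontrivial (LocalizedModule (Ideal.primeCompl p (hp := hp.1.1)) (Dual.HD A ω i)) := by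
  haveI : p.IsPrime := hp.1.1
  let P : PrimeSpectrum A := ⟨p, hp.1.1⟩
  have hmin : ∀ q ∈ Module.support A A, q ≤ P → q = P := fun q _ hq =>
    PrimeSpectrum.ext (le_antisymm hq (hp.2 ⟨q.2, bot_le⟩ hq))
  have hmem : P ∈ Module.support A A := Module.mem_support_iff_of_finite.2 (fun a ha => by
    have h1 := Module.mem_annihilator.1 ha 1
    rw [smul_eq_mul, mul_one] at h1
    exact h1 ▸ P.asIdeal.zero_mem)
  have key : ∀ i : ℤ, Nontrivial (LocalizedModule P.asIdeal.primeCompl (Dual.HD A ω i)) ↔
      i = Groth.Agent.DualLib.deg hω P := fun i => by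
    rw [← Module.mem_support_iff, ← (Groth.Agent.DualLib.eSelf ω i).support_eq]
    constructor
    · intro h
      by_contra hi
      exact Groth.Agent.DualLib.notMem_support_of_min
        (fun h' => hi ((Groth.Agent.DualLib.deg_spec hω P i).1 h')) A hmin h
    · rintro rfl
      exact Groth.Agent.DualLib.mem_support_of_min (Groth.Agent.DualLib.deg_spec hω P) A hmin hmem
  exact ⟨_, (key _).2 rfl, fun j hj => (key j).1 hj⟩

end Groth.Agent.S1762
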