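import Groth.Statements.S17620
import Groth.Agent.HenselLib.LocalHens
import Groth.Agent.HenselLib.PairQuot

set_option autoImplicit false
universe u
open Hensel

namespace Groth.Agent.S17620

/-- Let R be a local ring and J an ideal of R contained in the maximal ideal, let H be a Henselization
of the pair (R, J) which is a local ring with local structure map R → H, and let S be a strict
Henselization of the local ring H. Then S, with its composite R-algebra structure, is a strict
Henselization of the local ring R. (This is the identification of the strict Henselization of the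
local ring of a scheme at a point with that of the local ring of its Henselization along a closed
subscheme through the point.) -/
theorem result
    (R : Type u) [CommRing R] [IsLocalRing R] (J : Ideal R) (hJ : J ≤ IsLocalRing.maximalIdeal R)
    (H : Type u) [CommRing H] [IsLocalRing H] [Algebra R H] [IsLocalHom (algebraMap R H)]
    (hH : Hens2.IsPairHenselization R J H)
    (S : Type u) [CommRing S] [IsLocalRing S] [Algebra H S] [IsLocalHom (algebraMap H S)]
    [Hensel.IsStrictHenselization H S]
    [Algebra R S] [IsScalarTower R H S] [IsLocalHom (algebraMap R S)] :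
    Hensel.IsStrictHenselization R S := by
  have hJH := hH.1
  have hS : HenselianLocalRing S := Hensel.IsStrictHenselization.henselian (R := H)
  -- the residue fields of `R` and `H` agree
  have hbij := Groth.Agent.HenselLib.IsPairHull.bijective_quotientMap hH 1
  have happrox : ∀ h : H, ∃ r, h - algebraMap R H r ∈ J.map (algebraMap R H) := fun h => by
    obtain ⟨x, hx⟩ := hbij.2 (Ideal.Quotient.mk _ h)
    obtain ⟨r, rfl⟩ := Ideal.Quotient.mk_surjective x
    rw [Ideal.quotientMap_mk, Ideal.Quotient.eq, pow_one] at hx
    exact ⟨r, by simpa using neg_mem hx⟩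
  have hmH : (IsLocalRing.maximalIdeal R).map (algebraMap R H) ≤ IsLocalRing.maximalIdeal H :=
    ((IsLocalRing.local_hom_TFAE (algebraMap R H)).out 0 2).mp ‹_›
  have hκ : Function.Surjective (IsLocalRing.ResidueField.map (algebraMap R H)) := fun x => by
    obtain ⟨h, rfl⟩ := IsLocalRing.residue_surjective x
    obtain ⟨r, hr⟩ := happrox h
    refine ⟨IsLocalRing.residue R r, ?_⟩
    rw [IsLocalRing.ResidueField.map_residue]
    exact (Ideal.Quotient.eq.mpr (hmH (Ideal.map_mono hJ hr))).symm
  have hcomp : ∀ x, IsLocalRing.ResidueField.map (algebraMap R S) x =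
      IsLocalRing.ResidueField.map (algebraMap H S)
        (IsLocalRing.ResidueField.map (algebraMap R H) x) := fun x => by
    obtain ⟨r, rfl⟩ := IsLocalRing.residue_surjective x
    simp [IsLocalRing.ResidueField.map_residue, ← IsScalarTower.algebraMap_apply]
  refine ⟨hS, ?_, fun T _ _ f hf τ hτ => ?_⟩
  · have := Hensel.IsStrictHenselization.isSepClosure (R := H) (S := S)
    have : IsScalarTower (IsLocalRing.ResidueField R) (IsLocalRing.ResidueField H)
        (IsLocalRing.ResidueField S) := IsScalarTower.of_algebraMap_eq hcomp
    refine ⟨IsSepClosure.sep_closed (IsLocalRing.ResidueField H), ?_⟩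
    have : Algebra.IsAlgebraic (IsLocalRing.ResidueField R) (IsLocalRing.ResidueField H) :=
      Algebra.IsAlgebraic.mk fun y => by
        obtain ⟨x, rfl⟩ := hκ y
        exact isAlgebraic_algebraMap x
    have : Algebra.IsSeparable (IsLocalRing.ResidueField R) (IsLocalRing.ResidueField H) :=
      ⟨fun y => by
        obtain ⟨x, rfl⟩ := hκ y
        exact isSeparable_algebraMap x⟩
    have : Algebra.IsSeparable (IsLocalRing.ResidueField H) (IsLocalRing.ResidueField S) :=
      IsSepClosure.separable
    exact Algebra.IsSeparable.trans (IsLocalRing.ResidueField R) (IsLocalRing.ResidueField H) _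
  · have hfm : J.map f ≤ IsLocalRing.maximalIdeal T :=
      (Ideal.map_mono hJ).trans (((IsLocalRing.local_hom_TFAE f).out 0 2).mp hf)
    obtain ⟨h, hh, hhu⟩ := hH.2 T (IsLocalRing.maximalIdeal T) f
      (Groth.Agent.HenselLib.henselianRing_maximalIdeal T) hfm
    have : IsLocalHom h := ⟨fun x hx => by
      obtain ⟨r, hr⟩ := happrox x
      have hm : x - algebraMap R H r ∈ IsLocalRing.maximalIdeal H := hmH (Ideal.map_mono hJ hr)
      have hm' : h (x - algebraMap R H r) ∈ IsLocalRing.maximalIdeal T := by
        have := Ideal.mem_map_of_mem h hr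
        rw [Ideal.map_map, hh] at this
        exact hfm this
      by_contra hnu
      rw [← mem_nonunits_iff, ← IsLocalRing.mem_maximalIdeal] at hnu
      have hr1 : algebraMap R H r ∈ IsLocalRing.maximalIdeal H := by simpa using sub_mem hnu hm
      have hr2 : r ∈ IsLocalRing.maximalIdeal R := (IsLocalRing.maximalIdeal_comap (algebraMap R H)).le hr1
      have hr3 : h (algebraMap R H r) ∈ IsLocalRing.maximalIdeal T := by
        rw [show h (algebraMap R H r) = f r from congr($hh r)]
        exact (((IsLocalRing.local_hom_TFAE f).out 0 2).mp hf :) (Ideal.mem_map_of_mem f hr2)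
      have := add_mem hm' hr3
      rw [← map_add, sub_add_cancel] at this
      exact this hx⟩
    have hτ' : τ.comp (IsLocalRing.ResidueField.map (algebraMap H S)) = IsLocalRing.ResidueField.map h := by
      refine RingHom.ext fun y => ?_
      obtain ⟨x, rfl⟩ := hκ y
      obtain ⟨r, rfl⟩ := IsLocalRing.residue_surjective x
      rw [RingHom.comp_apply, ← hcomp]
      simp only [IsLocalRing.ResidueField.map_residue]
      rw [show h (algebraMap R H r) = f r from congr($hh r), ← IsLocalRing.ResidueField.map_residue f,
        ← hτ, RingHom.comp_apply, IsLocalRing.ResidueField.map_residue]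
    obtain ⟨g, ⟨hg, hgres⟩, hgu⟩ := Hensel.IsStrictHenselization.universal (R := H) (S := S) T h τ hτ'
    refine ⟨g, ⟨?_, hgres⟩, fun g' hg' => hgu g' ⟨?_, hg'.2⟩⟩
    · rw [IsScalarTower.algebraMap_eq R H S, ← RingHom.comp_assoc, hg, hh]
    · refine hhu _ ?_
      show (g'.comp (algebraMap H S)).comp (algebraMap R H) = f
      rw [RingHom.comp_assoc, ← IsScalarTower.algebraMap_eq, hg'.1]

end Groth.Agent.S17620
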