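import Groth.Statements.S17626
import Groth.Agent.H0Growth23.Top
import Groth.Agent.H0Growth23.ENN


set_option autoImplicit false
universe u
open CategoryTheory CategoryTheory.Limits AlgebraicGeometry
open Variety

namespace Groth.Agent.S17626

open Groth.Agent.H0Growth23

/-- Let X be an integral scheme, proper over an algebraically closed field k of characteristic zero and
admitting an ample invertible module, of dimension n ≥ 1 (stated in the source over the complex
numbers), and L an invertible O_X-module which is big, in the sense that its volume ĥ^0(X, L) =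
limsup_m dim_k H^0(X, L^{⊗m}) · n!/m^n is positive. Then ĥ^n(X, L) = 0. (The published statement
allows n = 0, where it fails: X is then a point, every L is big and ĥ^0(X, L) = 1; the printed
argument uses that L and its inverse cannot both be big, which needs n ≥ 1.) -/
theorem result (k : Type u) [Field k] [IsAlgClosed k] [CharZero k] (X : Scheme.{u})
    [X.Over (Spec (CommRingCat.of k))] [AlgebraicGeometry.IsIntegral X]
    [IsProper (X ↘ Spec (CommRingCat.of k))] (hproj : ∃ A : X.Modules, CohB1.IsAmple A)
    (n : ℕ) (hn : topologicalKrullDim X = n) (hn1 : 1 ≤ n)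
    (L : X.Modules) (hL : PicF.IsInvertible L) (hbig : 0 < W4c5asymptcohfn.hhat k X n 0 L) :
    W4c5asymptcohfn.hhat k X n n L = 0 := by
  have hb : ∀ C : ℚ, ∃ m : ℕ, 1 ≤ m ∧ C * (m : ℚ) ^ n < (h0Cl k (EulerLib.InvCl.mk L hL ^ m) : ℚ) * m := by
    intro C
    by_contra hc
    push Not at hc
    refine hbig.ne' ?_
    refine Filter.Tendsto.limsup_eq ?_
    refine squeeze_zero' (Filter.Eventually.of_forall fun m => by positivity)
      (Filter.eventually_atTop.2 ⟨1, fun m hm => ?_⟩) (tendsto_const_div_atTop_nhds_zero_nat ((C : ℝ) * n.factorial))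
    have h : (h0Cl k (EulerLib.InvCl.mk L hL ^ m) : ℝ) * m ≤ (C : ℝ) * (m : ℝ) ^ n := by exact_mod_cast hc m hm
    rw [h0Cl_pow] at h
    have hm' : (0 : ℝ) < m := by exact_mod_cast hm
    rw [div_le_div_iff₀ (by positivity) hm']
    nlinarith [h, show (0 : ℝ) ≤ n.factorial by positivity]
  obtain ⟨N, hN⟩ := exists_subsingleton_top k hn hn1 hproj hb
  refine Filter.Tendsto.limsup_eq (tendsto_const_nhds.congr' (Filter.eventually_atTop.2 ⟨N, fun m hm => ?_⟩))
  obtain ⟨e⟩ := nonempty_iso_repCl _ (AmpleLib.isInvertible_tensorPow hL m)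
  rw [EulerLib.InvCl.mk_tensorPow hL] at e
  haveI := hN m hm
  show (0 : ℝ) = (Module.finrank k (Coh.HH X (CohB1.tensorPow L m) n) : ℝ) * n.factorial / (m : ℝ) ^ n
  rw [← Mumford23.finrank_HH_congr k e n, Module.finrank_zero_of_subsingleton]
  simp

end Groth.Agent.S17626
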