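import Groth.Statements.S17632
import Groth.Agent.H0Growth23.Ztwist


set_option autoImplicit false
universe u
open CategoryTheory CategoryTheory.Limits AlgebraicGeometry
open Variety

namespace Groth.Agent.S17632

open Groth.Agent.H0Growth23

/-- Let X be an integral scheme, proper over an uncountable algebraically closed field k of
characteristic zero and admitting an ample invertible module, of dimension n (stated in the source
over the complex numbers), L an invertible O_X-module and A an ample invertible O_X-module with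
inverse A', i.e. A ⊗ A' ≅ O_X. Then for every i ≥ 0, (ĥ^i(X, L^{⊗p} ⊗ A') − ĥ^i(X, L^{⊗p})) / p^n
tends to 0 as p → ∞, where ĥ^i(X, M) = limsup_m dim_k H^i(X, M^{⊗m}) · n!/m^n. -/
theorem result (k : Type u) [Field k] [IsAlgClosed k] [CharZero k] [Uncountable k] (X : Scheme.{u})
    [X.Over (Spec (CommRingCat.of k))] [AlgebraicGeometry.IsIntegral X]
    [IsProper (X ↘ Spec (CommRingCat.of k))] (hproj : ∃ A : X.Modules, CohB1.IsAmple A)
    (n : ℕ) (hn : topologicalKrullDim X = n)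
    (L : X.Modules) (hL : PicF.IsInvertible L) (A A' : X.Modules) (hA : CohB1.IsAmple A)
    (hA' : ClSub.IsInverseOf A A') (i : ℕ) :
    Filter.Tendsto (fun p : ℕ =>
        (W4c5asymptcohfn.hhat k X n i (CohB1.tensorMod (CohB1.tensorPow L p) A') -
          W4c5asymptcohfn.hhat k X n i (CohB1.tensorPow L p)) / (p : ℝ) ^ n)
      Filter.atTop (nhds 0) := by
  obtain ⟨L', hL'⟩ := Groth.Agent.VarietyLib.exists_isInverseOf hL
  obtain ⟨u, hu, -⟩ := exists_unit hL hL'
  obtain ⟨v, hv, hv'⟩ := exists_unit hA.1 hA'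
  haveI := Groth.Agent.EulerLib.isNoetherian_of_proper (X := X) k
  obtain ⟨-, C, hC0, hC⟩ := exists_asymp_bounds k ![u, v] hproj (Groth.Agent.Coherent.isCoh_structureModule X)
    (dim_support_lt hn) i
  have hLp : ∀ p : ℕ, PicF.IsInvertible (CohB1.tensorPow L p) := Groth.Agent.AmpleLib.isInvertible_tensorPow hL
  have hA'i := isInvertible_of_isInverseOf hA.1 hA'
  have e0 : ∀ p : ℕ, W4c5asymptcohfn.hhat k X n i (CohB1.tensorPow L p) =
      Filter.limsup (hseq k n i (Coh.structureModule X) (zcl ![u, v] ![(p : ℤ), 0])) Filter.atTop := fun p => by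
    rw [hhat_eq k n i _ (hLp p)]
    congr 2
    rw [Groth.Agent.EulerLib.InvCl.mk_tensorPow hL, zcl]
    simp [Fin.prod_univ_two, zpow_natCast, hu]
  have e1 : ∀ p : ℕ, W4c5asymptcohfn.hhat k X n i (CohB1.tensorMod (CohB1.tensorPow L p) A') =
      Filter.limsup (hseq k n i (Coh.structureModule X) (zcl ![u, v] ![(p : ℤ), -1])) Filter.atTop := fun p => by
    rw [hhat_eq k n i _ (Groth.Agent.AmpleLib.isInvertible_tensorMod (hLp p) hA'i)]
    congr 2
    rw [← Groth.Agent.EulerLib.InvCl.mk_mul (hLp p) hA'i, Groth.Agent.EulerLib.InvCl.mk_tensorPow hL, zcl]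
    simp [Fin.prod_univ_two, zpow_natCast, hu, ← hv']
  refine squeeze_zero_norm' (a := fun p : ℕ => C * 4 ^ n / (p : ℝ))
    (Filter.eventually_atTop.2 ⟨1, fun p hp => ?_⟩) (tendsto_const_div_atTop_nhds_zero_nat _)
  rw [e0, e1, Real.norm_eq_abs, abs_div, abs_of_nonneg (pow_nonneg (Nat.cast_nonneg p) n : (0 : ℝ) ≤ (p : ℝ) ^ n)]
  have h := hC ![(p : ℤ), -1] ![(p : ℤ), 0]
  have hl1 : len (![(p : ℤ), 0] - ![(p : ℤ), -1]) = 1 := by simp [len, Fin.sum_univ_two]
  have hl2 : len ![(p : ℤ), -1] = p + 1 := by simp [len, Fin.sum_univ_two]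
  rw [hl1, hl2, Nat.cast_one, mul_one] at h
  have hp' : (0 : ℝ) < p := by exact_mod_cast hp
  rw [div_le_div_iff₀ (pow_pos hp' n) hp']
  refine (mul_le_mul_of_nonneg_right h hp'.le).trans ?_
  rcases n with _ | n
  · simp [bndR]; positivity
  show C * ((p + 1 + 1 : ℕ) : ℝ) ^ n * (p : ℝ) ≤ C * 4 ^ (n + 1) * (p : ℝ) ^ (n + 1)
  have h4 : ((p + 1 + 1 : ℕ) : ℝ) ≤ 4 * p := by
    have : (1 : ℝ) ≤ p := by exact_mod_cast hp
    push_cast
    linarith
  calc C * ((p + 1 + 1 : ℕ) : ℝ) ^ n * (p : ℝ) ≤ C * (4 * (p : ℝ)) ^ n * p :=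
        mul_le_mul_of_nonneg_right (mul_le_mul_of_nonneg_left (pow_le_pow_left₀ (Nat.cast_nonneg _) h4 n) hC0) hp'.le
    _ = C * 4 ^ n * (p : ℝ) ^ (n + 1) := by rw [mul_pow]; ring
    _ ≤ _ := mul_le_mul_of_nonneg_right (mul_le_mul_of_nonneg_left (pow_le_pow_right₀ (by norm_num) (Nat.le_succ n)) hC0)
        (pow_nonneg hp'.le _)

end Groth.Agent.S17632
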