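import Groth.Statements.S17633
import Groth.Agent.H0Growth23.Ztwist


set_option autoImplicit false
universe u
open CategoryTheory CategoryTheory.Limits AlgebraicGeometry
open Variety

namespace Groth.Agent.S17633

open Groth.Agent.H0Growth23

/-- Let X be an integral scheme, proper over an uncountable algebraically closed field k of
characteristic zero and admitting an ample invertible module, of dimension n (the published
statement is over the complex numbers), and let L_1, …, L_r be invertible O_X-modules with inverses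
M_1, …, M_r. For a ∈ ℤ^r write L^a = ⊗_j L_j^{a_j} (negative powers taken through the M_j) and ‖a‖ =
max_j |a_j|. Then for every i (the published statement takes 0 ≤ i ≤ n; for i > n both sides vanish)
there is a constant C such that for all a, b ∈ ℤ^r, |ĥ^i(X, L^a) − ĥ^i(X, L^b)| ≤ C · Σ_{q=1}^{n}
max(‖a‖, ‖b‖)^{n−q} · ‖a − b‖^q, where ĥ^i(X, L) = limsup_m dim_k H^i(X, L^{⊗m}) · n!/m^n. (The
published statement gives this Lipschitz-type estimate for ĥ^i as a function on the rational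
Néron–Severi space with any fixed norm, together with its homogeneity of degree n; restricted to the
classes spanned by L_1, …, L_r with the maximum norm on coordinates it reads as here.) -/
theorem result (k : Type u) [Field k] [IsAlgClosed k] [CharZero k] [Uncountable k] (X : Scheme.{u})
    [X.Over (Spec (CommRingCat.of k))] [AlgebraicGeometry.IsIntegral X]
    [IsProper (X ↘ Spec (CommRingCat.of k))] (hproj : ∃ A : X.Modules, CohB1.IsAmple A)
    (n : ℕ) (hn : topologicalKrullDim X = n)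
    (r : ℕ) (L M : Fin r → X.Modules) (hL : ∀ j, PicF.IsInvertible (L j))
    (hM : ∀ j, ClSub.IsInverseOf (L j) (M j)) (i : ℕ) :
    ∃ C : ℝ, ∀ a b : Fin r → ℤ,
      |W4c5asymptcohfn.hhat k X n i (W4c5asymptcohfn.ztwist X L M a) -
          W4c5asymptcohfn.hhat k X n i (W4c5asymptcohfn.ztwist X L M b)| ≤
        C * (Finset.Icc 1 n).sum (fun q =>
          (max ‖(fun j => ((a j : ℤ) : ℝ))‖ ‖(fun j => ((b j : ℤ) : ℝ))‖) ^ (n - q) *
            ‖(fun j => ((a j - b j : ℤ) : ℝ))‖ ^ q) := by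
  obtain ⟨C, hC0, -, hC⟩ := exists_hhat_bounds k hproj hn L M hL hM i
  refine ⟨C * (r : ℝ) * (2 * (r : ℝ) + r) ^ (n - 1), fun a b => (hC a b).trans ?_⟩
  set D : ℝ := ‖(fun j => ((a j - b j : ℤ) : ℝ))‖ with hD
  set Mx : ℝ := max ‖(fun j => ((a j : ℤ) : ℝ))‖ ‖(fun j => ((b j : ℤ) : ℝ))‖ with hMx
  have hMx0 : 0 ≤ Mx := (norm_nonneg _).trans (le_max_left _ _)
  have hlen : (len (b - a) : ℝ) ≤ r * D := by
    refine (len_le_norm (b - a)).trans_eq ?_
    rw [hD, ← norm_neg]
    congr 2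
    funext j
    simp
  have hD2 : D ≤ 2 * Mx := by
    rw [hD, show (fun j => ((a j - b j : ℤ) : ℝ)) = (fun j => ((a j : ℤ) : ℝ)) - (fun j => ((b j : ℤ) : ℝ)) by
      funext j; simp]
    refine (norm_sub_le _ _).trans ?_
    linarith [le_max_left ‖(fun j => ((a j : ℤ) : ℝ))‖ ‖(fun j => ((b j : ℤ) : ℝ))‖,
      le_max_right ‖(fun j => ((a j : ℤ) : ℝ))‖ ‖(fun j => ((b j : ℤ) : ℝ))‖]
  have hsum : ∀ q ∈ Finset.Icc 1 n, 0 ≤ Mx ^ (n - q) * D ^ q := fun q _ =>
    mul_nonneg (pow_nonneg hMx0 _) (pow_nonneg (norm_nonneg _) _)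
  rcases n with _ | n
  · simp [bndR]
  have h1 : Mx ^ n * D ≤ (Finset.Icc 1 (n + 1)).sum fun q => Mx ^ (n + 1 - q) * D ^ q := by
    refine le_trans (le_of_eq ?_) (Finset.single_le_sum hsum (Finset.mem_Icc.2 ⟨le_rfl, Nat.succ_le_succ (Nat.zero_le n)⟩))
    rw [Nat.add_sub_cancel, pow_one]
  have hS : ((len a + len (b - a) : ℕ) : ℝ) ≤ (2 * (r : ℝ) + r) * Mx := by
    push_cast
    have h2 := mul_le_mul_of_nonneg_left hD2 (Nat.cast_nonneg r : (0 : ℝ) ≤ r)
    have h3 := mul_le_mul_of_nonneg_left (le_max_left ‖(fun j => ((a j : ℤ) : ℝ))‖ ‖(fun j => ((b j : ℤ) : ℝ))‖)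
      (Nat.cast_nonneg r : (0 : ℝ) ≤ r)
    rw [← hMx] at h3
    linarith [len_le_norm a]
  show C * (len (b - a) : ℝ) * ((len a + len (b - a) : ℕ) : ℝ) ^ n ≤ _
  calc C * (len (b - a) : ℝ) * ((len a + len (b - a) : ℕ) : ℝ) ^ n
      ≤ C * ((r : ℝ) * D) * ((2 * (r : ℝ) + r) * Mx) ^ n :=
        mul_le_mul (mul_le_mul_of_nonneg_left hlen hC0) (pow_le_pow_left₀ (Nat.cast_nonneg _) hS n)
          (pow_nonneg (Nat.cast_nonneg _) _) (mul_nonneg hC0 (mul_nonneg (Nat.cast_nonneg _) (norm_nonneg _)))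
    _ = C * (r : ℝ) * (2 * (r : ℝ) + r) ^ (n + 1 - 1) * (Mx ^ n * D) := by
        rw [Nat.add_sub_cancel, mul_pow]; ring
    _ ≤ _ := mul_le_mul_of_nonneg_left h1 (by positivity)

end Groth.Agent.S17633
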