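import Mathlib.Analysis.Normed.Module.Basic
import Groth.Statements.S17635

set_option autoImplicit false
open Finset
open Variety

namespace Groth.Agent.S17635

theorem aux_nn (n : ℕ) (M D : ℝ) (hM : 0 ≤ M) (hD : 0 ≤ D) :
    0 ≤ (Finset.Icc 1 n).sum (fun q => M ^ (n - q) * D ^ q) :=
  Finset.sum_nonneg fun q _ => mul_nonneg (pow_nonneg hM _) (pow_nonneg hD _)

theorem aux_mono (n : ℕ) (M M' D D' : ℝ) (hM : 0 ≤ M) (hD : 0 ≤ D) (hMM : M ≤ M') (hDD : D ≤ D') :
    (Finset.Icc 1 n).sum (fun q => M ^ (n - q) * D ^ q) ≤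
      (Finset.Icc 1 n).sum (fun q => M' ^ (n - q) * D' ^ q) :=
  Finset.sum_le_sum fun q _ => mul_le_mul (pow_le_pow_left₀ hM hMM _)
    (pow_le_pow_left₀ hD hDD _) (pow_nonneg hD _) (pow_nonneg (hM.trans hMM) _)


/-- Let r and n be natural numbers and f : ℚ^r → ℝ a nonnegative function which is homogeneous of degree
n for positive rational scalars, f(q · v) = q^n · f(v) for q > 0; give ℚ^r the maximum norm ‖v‖ =
max_j |v_j| of its standard basis. Suppose that for every standard basis vector e_i there is a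
constant C_i with |f(v − b · e_i) − f(v)| ≤ C_i · Σ_{q=1}^{n} ‖v‖^{n−q} · b^q for all v ∈ ℚ^r and
all integers b ≥ 1. Then there is a constant C > 0 such that |f(v) − f(w)| ≤ C · Σ_{q=1}^{n}
max(‖v‖, ‖w‖)^{n−q} · ‖v − w‖^q for all v, w ∈ ℚ^r. (The source allows any norm on an r-dimensional
rational vector space with a chosen basis and argues with the maximum norm of that basis, which is
the case stated here.) -/
theorem result (r n : ℕ) (f : (Fin r → ℚ) → ℝ)
    (hf0 : ∀ v, 0 ≤ f v)
    (hhom : ∀ (q : ℚ) (v : Fin r → ℚ), 0 < q → f (q • v) = (q : ℝ) ^ n * f v)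
    (hdir : ∀ i : Fin r, ∃ Ci : ℝ, ∀ (v : Fin r → ℚ) (b : ℕ), 1 ≤ b →
      |f (v - (b : ℚ) • Pi.single i 1) - f v| ≤
        Ci * (Finset.Icc 1 n).sum (fun q => ‖(fun j => ((v j : ℚ) : ℝ))‖ ^ (n - q) * (b : ℝ) ^ q)) :
    ∃ C : ℝ, 0 < C ∧ ∀ v w : Fin r → ℚ,
      |f v - f w| ≤ C * (Finset.Icc 1 n).sum (fun q =>
        (max ‖(fun j => ((v j : ℚ) : ℝ))‖ ‖(fun j => ((w j : ℚ) : ℝ))‖) ^ (n - q) *
          ‖(fun j => ((v j - w j : ℚ) : ℝ))‖ ^ q) := by
  classical
  choose C hC using hdir
  -- positive rational steps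
  have stepA : ∀ (i : Fin r) (v : Fin r → ℚ) (t : ℚ), 0 < t →
      |f (v - t • Pi.single i 1) - f v| ≤
        |C i| * (Finset.Icc 1 n).sum (fun q => ‖(fun j => ((v j : ℚ) : ℝ))‖ ^ (n - q) * (t : ℝ) ^ q) := by
    intro i v t ht
    obtain ⟨a, ha⟩ : ∃ a : ℕ, t.num = (a : ℤ) := ⟨t.num.toNat, (Int.toNat_of_nonneg (by
      exact le_of_lt (Rat.num_pos.mpr ht))).symm⟩
    have hd0 : (0 : ℚ) < (t.den : ℚ) := by exact_mod_cast t.den_pos
    have ha1 : 1 ≤ a := by
      have := Rat.num_pos.mpr ht
      omega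
    have htq : t = (a : ℚ) / (t.den : ℚ) := by
      conv_lhs => rw [← Rat.num_div_den t]
      rw [ha]; push_cast; rfl
    set d : ℚ := (t.den : ℚ) with hddef
    have key : v - t • Pi.single i 1 = (1 / d) • (d • v - (a : ℚ) • Pi.single i 1) := by
      rw [smul_sub, smul_smul, smul_smul, htq]
      congr 1
      · rw [one_div_mul_cancel hd0.ne', one_smul]
      · congr 1; ring
    have key2 : v = (1 / d) • (d • v) := by
      rw [smul_smul, one_div_mul_cancel hd0.ne', one_smul]
    rw [key, hhom _ _ (by positivity)]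
    conv_lhs => arg 1; arg 2; rw [key2, hhom _ _ (by positivity)]
    rw [← mul_sub, abs_mul, abs_of_nonneg (by positivity)]
    refine le_trans (mul_le_mul_of_nonneg_left (le_trans (hC i (d • v) a ha1)
      (mul_le_mul_of_nonneg_right (le_abs_self (C i)) (aux_nn n _ _ (norm_nonneg _) (by positivity))))
      (by positivity)) ?_
    rw [mul_left_comm, Finset.mul_sum]
    refine le_of_eq ?_
    congr 1
    apply Finset.sum_congr rfl
    intro q hq
    rw [Finset.mem_Icc] at hq
    have hn : ‖(fun j => (((d • v) j : ℚ) : ℝ))‖ = (d : ℝ) * ‖(fun j => ((v j : ℚ) : ℝ))‖ := by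
      have : (fun j => (((d • v) j : ℚ) : ℝ)) = (d : ℝ) • (fun j => ((v j : ℚ) : ℝ)) := by
        funext j; simp
      rw [this, norm_smul, Real.norm_of_nonneg (by exact_mod_cast hd0.le)]
    rw [hn, htq]
    push_cast
    have hd' : (d : ℝ) ≠ 0 := by exact_mod_cast hd0.ne'
    obtain ⟨k, hk⟩ : ∃ k, n = q + k := ⟨n - q, by omega⟩
    subst hk
    rw [Nat.add_sub_cancel_left, mul_pow, div_pow, div_pow, one_pow, pow_add]
    field_simp
  -- signed steps
  have stepB : ∀ (i : Fin r) (v : Fin r → ℚ) (t : ℚ),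
      |f (v - t • Pi.single i 1) - f v| ≤
        |C i| * (Finset.Icc 1 n).sum (fun q => (max ‖(fun j => ((v j : ℚ) : ℝ))‖
          ‖(fun j => ((((v - t • Pi.single i (1 : ℚ)) : Fin r → ℚ) j : ℚ) : ℝ))‖) ^ (n - q) * |(t : ℝ)| ^ q) := by
    intro i v t
    rcases lt_trichotomy t 0 with ht | ht | ht
    · have h := stepA i (v - t • Pi.single i 1) (-t) (by linarith)
      have e : v - t • Pi.single i 1 - (-t) • Pi.single i 1 = v := by
        rw [neg_smul]; abel
      rw [e, abs_sub_comm] at h
      refine h.trans (mul_le_mul_of_nonneg_left ?_ (abs_nonneg _))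
      have ht' : ((-t : ℚ) : ℝ) = |(t : ℝ)| := by
        rw [abs_of_neg (by exact_mod_cast ht)]; push_cast; rfl
      rw [ht']
      exact aux_mono n _ _ _ _ (norm_nonneg _) (abs_nonneg _) (le_max_right _ _) le_rfl
    · subst ht
      simp only [zero_smul, sub_zero, sub_self, abs_zero, Rat.cast_zero]
      exact mul_nonneg (abs_nonneg _) (aux_nn n _ _ (by positivity) le_rfl)
    · refine (stepA i v t ht).trans (mul_le_mul_of_nonneg_left ?_ (abs_nonneg _))
      rw [abs_of_pos (show (0 : ℝ) < t by exact_mod_cast ht)]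
      exact aux_mono n _ _ _ _ (norm_nonneg _) (by exact_mod_cast ht.le) (le_max_left _ _) le_rfl
  refine ⟨∑ i, |C i| + 1, add_pos_of_nonneg_of_pos (Finset.sum_nonneg fun i _ => abs_nonneg _) one_pos, fun v w => ?_⟩
  set M := max ‖(fun j => ((v j : ℚ) : ℝ))‖ ‖(fun j => ((w j : ℚ) : ℝ))‖ with hMdef
  set D := ‖(fun j => ((v j - w j : ℚ) : ℝ))‖ with hDdef
  set S := (Finset.Icc 1 n).sum (fun q => M ^ (n - q) * D ^ q) with hSdef
  let z : ℕ → (Fin r → ℚ) := fun k j => if (j : ℕ) < k then w j else v j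
  have hz : ∀ k, ‖(fun j => ((z k j : ℚ) : ℝ))‖ ≤ M := by
    intro k
    refine (pi_norm_le_iff_of_nonneg (le_max_of_le_left (norm_nonneg _))).mpr fun j => ?_
    show ‖(((if (j : ℕ) < k then w j else v j) : ℚ) : ℝ)‖ ≤ M
    split_ifs
    · exact le_max_of_le_right (norm_le_pi_norm (fun j => ((w j : ℚ) : ℝ)) j)
    · exact le_max_of_le_left (norm_le_pi_norm (fun j => ((v j : ℚ) : ℝ)) j)
  have hS0 : 0 ≤ S := aux_nn n _ _ (le_max_of_le_left (norm_nonneg _)) (norm_nonneg _)
  have tel : ∀ k, k ≤ r → |f v - f (z k)| ≤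
      (∑ i ∈ (Finset.univ : Finset (Fin r)).filter (fun i : Fin r => (i : ℕ) < k), |C i|) * S := by
    intro k
    induction k with
    | zero =>
      intro _
      have : z 0 = v := by funext j; simp [z]
      rw [this, sub_self, abs_zero]
      simp
    | succ k ih =>
      intro hk
      let i : Fin r := ⟨k, by omega⟩
      have hzk : z (k + 1) = z k - (v i - w i) • Pi.single i 1 := by
        funext j
        simp only [z, Pi.sub_apply, Pi.smul_apply, Pi.single_apply, smul_eq_mul]
        by_cases hj : j = i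
        · subst hj
          simp [i]
        · have : (j : ℕ) ≠ k := fun h => hj (Fin.ext h)
          rw [if_neg hj, mul_zero, sub_zero]
          split_ifs <;> first | rfl | omega
      have hfil : (Finset.univ : Finset (Fin r)).filter (fun i : Fin r => (i : ℕ) < k + 1) =
          insert i ((Finset.univ : Finset (Fin r)).filter (fun i : Fin r => (i : ℕ) < k)) := by
        ext j
        simp only [Finset.mem_filter, Finset.mem_univ, true_and, Finset.mem_insert]
        constructor
        · intro h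
          by_cases hj : (j : ℕ) < k
          · exact Or.inr hj
          · exact Or.inl (Fin.ext (show (j : ℕ) = k by omega))
        · rintro (h | h)
          · subst h; simp [i]
          · omega
      rw [hfil, Finset.sum_insert (by simp [i]), add_mul]
      have h1 := stepB i (z k) (v i - w i)
      rw [← hzk] at h1
      have h2 : |f (z (k + 1)) - f (z k)| ≤ |C i| * S := by
        refine h1.trans (mul_le_mul_of_nonneg_left ?_ (abs_nonneg _))
        refine aux_mono n _ _ _ _ (le_max_of_le_left (norm_nonneg _)) (abs_nonneg _)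
          (max_le (hz k) (hz (k + 1))) ?_
        rw [← Real.norm_eq_abs]
        exact norm_le_pi_norm (fun j => ((v j - w j : ℚ) : ℝ)) i
      have h3 := ih (by omega)
      calc |f v - f (z (k + 1))| ≤ |f v - f (z k)| + |f (z k) - f (z (k + 1))| := abs_sub_le _ _ _
        _ ≤ _ := by rw [abs_sub_comm (f (z k))]; linarith
  have hw : z r = w := by funext j; simp [z, j.isLt]
  have h := tel r le_rfl
  rw [hw] at h
  refine h.trans ?_
  rw [show ((Finset.univ : Finset (Fin r)).filter (fun i : Fin r => (i : ℕ) < r)) = Finset.univ by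
    ext j; simp [j.isLt]]
  exact mul_le_mul_of_nonneg_right (le_add_of_nonneg_right zero_le_one) hS0

end Groth.Agent.S17635
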