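import Groth.Statements.S17639
import Groth.Agent.Dual22Lib.GammaApps

set_option autoImplicit false
universe u
open CategoryTheory CategoryTheory.Limits AlgebraicGeometry
attribute [local instance] HasDerivedCategory.standard
open Dual3

namespace Groth.Agent.S17639

attribute [local instance] HasDerivedCategory.standard
open Pretriangulated Dual22Lib Dual22Lib.GammaZ Dual22Lib.AdjGeom in
/-- No maps from an object killed on `W` to one killed on `j` if `W` and `j` cover. -/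
theorem eq_zero_of_cover {T X : Scheme.{u}} (j : T ⟶ X) [IsOpenImmersion j] (W : X.Opens)
    (hW : (W : Set X)ᶜ ⊆ Set.range j.base) {N M : DCoh.D X} (hN : killed W.ι N) (hM : killed j M)
    (g : N ⟶ M) : g = 0 := by
  haveI := Groth.Agent.DCat.hasRpush W.ι
  obtain ⟨adjW, -⟩ := exists_adj W.ι
  obtain ⟨N₁, a, c, hT⟩ := distinguished_cocone_triangle₁ (adjW.unit.app M)
  have hM' : killed j.opensRange.ι M := killed_mono j _ (by rw [Scheme.Opens.opensRange_ι]) hM
  have h2 := killed_Rpush W.ι j.opensRange (killed_restrict W.ι j.opensRange hM')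
  have h3 : killed j.opensRange.ι N₁ :=
    (Triangle.isZero₁_iff_isIso₂ _ ((DCoh.restrictD j.opensRange.ι).map_distinguished _ hT)).2
      ⟨0, hM'.eq_of_src _ _, h2.eq_of_src _ _⟩
  have h4 := killed_fibre_unit W.ι adjW hT
  haveI : IsIso (adjW.unit.app M) := by
    refine (Triangle.isZero₁_iff_isIso₂ _ hT).1
      (Groth.Agent.DCat.SuppOpen.isZero_of_hd _ fun i => Groth.Agent.ModStalk.isZero_of_stalks fun x => ?_)
    haveI : Subsingleton ((DCoh.HD N₁ i).presheaf.stalk x) := by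
      by_cases hx : x ∈ W
      · exact (killed_iff W.ι N₁).1 h4 i x (by rw [Scheme.Opens.opensRange_ι]; exact hx)
      · exact (killed_iff _ N₁).1 h3 i x (by rw [Scheme.Opens.opensRange_ι]; exact hW hx)
    exact Groth.Agent.DCat.SuppOpen.isZero_stalkFunctor (DCoh.HD N₁ i) x
  exact (cancel_mono (adjW.unit.app M)).1 ((eq_zero_of_killed W.ι hN _).trans zero_comp.symm)


/-- Let f : X ⟶ Y be a separated morphism of finite type of Noetherian schemes, factored as f = f̄ ∘ j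
with j : X ⟶ X̄ an open immersion and f̄ : X̄ ⟶ Y proper. Let Z ⊆ Y be a closed subset with open
complement U, and Z' ⊆ X a closed subset which is proper over Y and contained in f⁻¹(Z); such a Z'
has closed image in X̄, and it is given here as Z' = j⁻¹(X̄ ∖ W) for an open W ⊆ X̄ with X̄ ∖ W ⊆
j(X) and f⁻¹(U) ⊆ j⁻¹(W). Let Rf̄_* and Rj_* exist and preserve complexes with quasi-coherent
cohomology, let a be a right adjoint of Rf̄_* on D_qc with its adjunction (whose counit is the trace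
map of f̄), let an adjunction j^* ⊣ Rj_* be given, put f^!G = (a G)|_X, and let θ : RΓ_{Z'}(j^* aG)
⟶ j^*RΓ_{j(Z')}(aG) be the comparison morphism compatible with the two maps to j^*(aG), the unit
RΓ_{j(Z')}(aG) ⟶ Rj_* j^* RΓ_{j(Z')}(aG) being an isomorphism. Then for every F in D(O_X) with
quasi-coherent cohomology sheaves, bounded above and supported on Z', and every G in D_qc(O_Y),
bounded below with cohomology supported on Z, the map sending φ : F ⟶ RΓ_{Z'}(f^!G) to the composite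
Rf̄_* Rj_* F ⟶ Rf̄_* Rj_* RΓ_{Z'}(f^!G) ⟶ Rf̄_* Rj_* j^* RΓ_{j(Z')}(aG) ⟶ Rf̄_* RΓ_{j(Z')}(aG) ⟶
Rf̄_*(aG) ⟶ G (Rf̄_*Rj_* of φ and θ, inverse of the unit, the canonical map out of RΓ, the trace) is
a bijection from Hom(F, RΓ_{Z'} f^!G) onto Hom(Rf_* F, G), with Rf_* computed as Rf̄_* ∘ Rj_*: the
functor Rf_* is left adjoint to RΓ_{Z'} f^! on these objects. (Throughout, RΓ with support is the
total right derived functor of the sheaf of sections supported in the closed subset. The published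
statement derives instead the functor of sections killed by some power of a defining ideal; on
complexes with quasi-coherent cohomology sheaves over a Noetherian scheme the two derived functors
agree.) -/
theorem result {X Y : Scheme.{u}} [IsNoetherian X] [IsNoetherian Y]
    (f : X ⟶ Y) [IsSeparated f] [LocallyOfFiniteType f] (c : DEt.Compactification f)
    (U : Y.Opens) (W : c.Xbar.Opens) (hW : (W : Set c.Xbar)ᶜ ⊆ Set.range c.j.base) (hZ : f ⁻¹ᵁ U ≤ c.j ⁻¹ᵁ W)
    [DCoh.HasRpush c.fbar] [DCoh.HasRpush c.j] (hfbar : DCoh.RpushPreservesQCoh c.fbar) (hj : DCoh.RpushPreservesQCoh c.j)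
    (a : DCoh.DQCoh Y ⥤ DCoh.DQCoh c.Xbar) (adj : DCoh.RpushQ c.fbar hfbar ⊣ a)
    (adjj : DCoh.restrictD c.j ⊣ DCoh.Rpush c.j)
    [CxOX.HasRgammaZ W.ι] [CxOX.HasRgammaZ (c.j ⁻¹ᵁ W).ι]
    (G : DCoh.DQCoh Y) (n : ℤ) (hGn : DerivedCategory.IsGE G.obj n) (hGZ : CxOX.IsSuppD U.ι G.obj)
    (θ : (CxOX.RgammaZ (c.j ⁻¹ᵁ W).ι).obj ((Dual3.shriekC c a).obj G) ⟶
      (DCoh.restrictD c.j).obj ((CxOX.RgammaZ W.ι).obj (a.obj G).obj))
    (hθ : θ ≫ (DCoh.restrictD c.j).map ((CxOX.RgammaZToId W.ι).app (a.obj G).obj) =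
      (CxOX.RgammaZToId (c.j ⁻¹ᵁ W).ι).app ((Dual3.shriekC c a).obj G))
    [IsIso (adjj.unit.app ((CxOX.RgammaZ W.ι).obj (a.obj G).obj))]
    (F : DCoh.D X) (hF : DCoh.IsQCohD F) (m : ℤ) (hFm : DerivedCategory.IsLE F m)
    (hFZ : CxOX.IsSuppD (c.j ⁻¹ᵁ W).ι F) :
    Function.Bijective (fun φ : F ⟶ (CxOX.RgammaZ (c.j ⁻¹ᵁ W).ι).obj ((Dual3.shriekC c a).obj G) =>
      (DCoh.Rpush c.fbar).map ((DCoh.Rpush c.j).map (φ ≫ θ) ≫
          inv (adjj.unit.app ((CxOX.RgammaZ W.ι).obj (a.obj G).obj)) ≫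
          (CxOX.RgammaZToId W.ι).app (a.obj G).obj) ≫
        (adj.counit.app G).hom) := by
  open Pretriangulated Dual22Lib Dual22Lib.GammaZ Dual22Lib.AdjGeom in
  haveI := Groth.Agent.DCat.hasRpush W.ι
  haveI := Groth.Agent.DCat.hasRpush (c.j ⁻¹ᵁ W).ι
  haveI := Groth.Agent.Dual22Lib.GammaZ.isIso_counit c.j adjj
  let R := DCoh.restrictD c.j
  let P := DCoh.Rpush c.j
  let B := (a.obj G).obj
  let A := (CxOX.RgammaZ W.ι).obj B
  let t : A ⟶ B := (CxOX.RgammaZToId W.ι).app B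
  let hff := adjj.fullyFaithfulROfIsIsoCounit
  have hF' : killed (c.j ⁻¹ᵁ W).ι F := (killed_iff_isSuppD _ _).2 hFZ
  have hloc : ∀ {N : DCoh.D X}, killed (c.j ⁻¹ᵁ W).ι N → ∀ M, ∀ g : N ⟶ R.obj ((DCoh.Rpush W.ι).obj M), g = 0 := by
    intro N hN M g
    apply hff.map_injective
    let L' := (DCoh.Rpush W.ι).obj M
    obtain ⟨N₀, a₀, c₀, hT₀⟩ := distinguished_cocone_triangle₁ (adjj.unit.app L')
    have hPN := killed_Rpush c.j W hN
    have hc₀ : P.map g ≫ c₀ = 0 :=
      eq_zero_of_cover c.j W hW hPN ((killed c.j).le_shift (1 : ℤ) N₀ (killed_fibre_unit c.j adjj hT₀)) _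
    obtain ⟨h, hh⟩ := Triangle.coyoneda_exact₃ _ hT₀ (P.map g) hc₀
    rw [hh, eq_zero_of_killed W.ι hPN h, Functor.map_zero]
    exact zero_comp
  obtain ⟨b, c', hT, -⟩ := exists_triangle W.ι B
  have hRt : Function.Bijective fun x : F ⟶ R.obj A => x ≫ R.map t :=
    bijective_of_triangle (c.j ⁻¹ᵁ W).ι (R.map_distinguished _ hT) (fun N hN g => hloc hN _ g) hF'
  have hθb : Function.Bijective fun φ : F ⟶ (CxOX.RgammaZ (c.j ⁻¹ᵁ W).ι).obj ((Dual3.shriekC c a).obj G) =>
      φ ≫ θ := by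
    have h1 := bijective_comp (c.j ⁻¹ᵁ W).ι hF' ((Dual3.shriekC c a).obj G)
    have h2 : (fun φ : F ⟶ (CxOX.RgammaZ (c.j ⁻¹ᵁ W).ι).obj ((Dual3.shriekC c a).obj G) =>
        φ ≫ (CxOX.RgammaZToId (c.j ⁻¹ᵁ W).ι).app ((Dual3.shriekC c a).obj G)) =
        (fun x : F ⟶ R.obj A => x ≫ R.map t) ∘ fun φ => φ ≫ θ :=
      funext fun φ => (congrArg (φ ≫ ·) hθ.symm).trans (Category.assoc _ _ _).symm
    rw [h2] at h1
    exact ⟨h1.1.of_comp, fun y => by
      obtain ⟨φ, hφ⟩ := h1.2 (y ≫ R.map t)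
      exact ⟨φ, hRt.1 hφ⟩⟩
  have hP : Function.Bijective fun x : F ⟶ R.obj A => P.map x ≫ inv (adjj.unit.app A) :=
    ((asIso (adjj.unit.app A)).symm.homToEquiv (Z := P.obj F)).bijective.comp (hff.map_bijective F (R.obj A))
  have ht := Groth.Agent.Dual22Lib.GammaZ.bijective_comp W.ι (killed_Rpush c.j W hF') B
  let PF : DCoh.DQCoh c.Xbar := ⟨P.obj F, hj F hF⟩
  let hι := ObjectProperty.fullyFaithfulι (DCoh.IsQCohD : ObjectProperty (DCoh.D c.Xbar))
  have hadj : Function.Bijective fun y : PF.obj ⟶ (a.obj G).obj =>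
      (DCoh.Rpush c.fbar).map y ≫ (adj.counit.app G).hom := by
    have h1 : (fun y : PF.obj ⟶ (a.obj G).obj => (DCoh.Rpush c.fbar).map y ≫ (adj.counit.app G).hom) =
        (ObjectProperty.fullyFaithfulι _).homEquiv ∘ (adj.homEquiv PF G).symm ∘ hι.homEquiv.symm := funext fun y => by
      simp [Adjunction.homEquiv_counit]
      rfl
    rw [h1]
    exact (Equiv.bijective _).comp ((Equiv.bijective _).comp (Equiv.bijective _))
  have hall := hadj.comp (ht.comp (hP.comp hθb))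
  refine (iff_of_eq (congrArg Function.Bijective (funext fun φ => ?_))).1 hall
  simp [Function.comp, R, P, A, B, PF]

end Groth.Agent.S17639
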