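import Groth.Statements.S17643
import Groth.Agent.FlatCx12.AmpStalks
import Groth.Agent.DRingLib.AmpTerms
import Mathlib.AlgebraicGeometry.Morphisms.Smooth
import Mathlib.RingTheory.FiniteType

set_option autoImplicit false
set_option backward.isDefEq.respectTransparency false
set_option linter.style.haveILetI false
universe u
open CategoryTheory AlgebraicGeometry
attribute [local instance] HasDerivedCategory.standard
open DerSch

namespace Groth.Agent.S17643

open Groth.Agent.FlatCx12 in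
lemma finTD_of_factor {U W Y : Scheme.{u}} [CompactSpace U] (g : U ⟶ W) [IsClosedImmersion g] (h : W ⟶ Y) [Smooth h]
    (hf : DerSch.LocFiniteTorAmplitude (g ≫ h) (DerSch.unitCx U)) : DerSch.HasFiniteTorDim g := by
  classical
  have hG := AmpStalks.locHasFiniteTorDim_push g h _ hf
  choose V a b hV hamp using hG
  let O : U → U.Opens := fun z => g ⁻¹ᵁ V (g z)
  obtain ⟨s, hs⟩ := isCompact_univ.elim_finite_subcover (fun z => (O z : Set U)) (fun z => (O z).2)
    (fun z _ => Set.mem_iUnion.2 ⟨z, hV (g z)⟩)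
  by_cases hne : s.Nonempty
  · refine ⟨s.inf' hne fun z => a (g z), s.sup' hne fun z => b (g z), fun x => ?_⟩
    obtain ⟨z, hz, hxz⟩ := Set.mem_iUnion₂.1 (hs (Set.mem_univ x))
    obtain ⟨E, hE, hEf, ⟨e⟩⟩ := hamp (g z) _ ⟨Iso.refl _⟩
    have h1 := PushStalk.amp_of_flat_terms ((V (g z)).ι ≫ 𝟙 W) hE hEf e ⟨g x, hxz⟩
    have h2 := PushStalk.amp_of_restrict (𝟙 W) (V (g z)).ι _ ⟨g x, hxz⟩ h1
    have h3 := (PushStalk.amp_push_iff g (𝟙 W) (DerSch.unitCx U) _ _ x).1 h2
    rw [Category.comp_id] at h3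
    exact Groth.Agent.DRingLib.amp_mono h3 (Finset.inf'_le _ hz) (Finset.le_sup' (fun z => b (g z)) hz)
  · refine ⟨0, 0, fun x => ?_⟩
    obtain ⟨z, hz, -⟩ := Set.mem_iUnion₂.1 (hs (Set.mem_univ x))
    exact absurd ⟨z, hz⟩ hne

open Groth.Agent.FlatCx12 in
lemma locAmp_restrict {X Y : Scheme.{u}} (f : X ⟶ Y) (hf : DerSch.HasFiniteTorDim f) (U : X.Opens) :
    DerSch.LocFiniteTorAmplitude (U.ι ≫ f) (DerSch.unitCx (U : Scheme.{u})) := by
  obtain ⟨a, b, hab⟩ := hf
  intro x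
  refine ⟨⊤, a, b, trivial, fun x' _ => ?_⟩
  obtain ⟨s⟩ := AmpFibre.nonempty_stalk_restrict f U.ι (DerSch.unitCx X) x'
  let u : ((Scheme.Modules.restrictFunctor U.ι).mapHomologicalComplex (ComplexShape.up ℤ)).obj (DerSch.unitCx X) ≅
      DerSch.unitCx (U : Scheme.{u}) :=
    (HomologicalComplex.singleMapHomologicalComplex (Scheme.Modules.restrictFunctor U.ι) (ComplexShape.up ℤ) 0).app _ ≪≫
      (HomologicalComplex.single _ _ 0).mapIso (Scheme.Modules.restrictUnitIso U.ι)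
  obtain ⟨E, h1, h2, ⟨j⟩⟩ := hab (U.ι x')
  exact ⟨E, h1, h2, ⟨j ≪≫ s ≪≫ DerivedCategory.Q.mapIso ((DerSch.stalkCxOver (U.ι ≫ f) x').mapIso u)⟩⟩

/-- Let f : X ⟶ Y be a morphism of finite type between Noetherian schemes which is of finite
Tor-dimension (the structure sheaf of X, placed in degree 0, has finite tor amplitude stalkwise over
the local rings of Y), U ⊆ X an affine open subset and V ⊆ Y an affine open subset with f(U) ⊆ V.
Then the restriction of f to U factors as U ⟶ W ⟶ Y with U ⟶ W a closed immersion of finite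
Tor-dimension and W ⟶ Y smooth. The published section's standing conventions also take all morphisms
separated; the printed argument does not use this, so separatedness is not assumed here. -/
theorem result {X Y : Scheme.{u}}
    [IsNoetherian X] [IsNoetherian Y] (f : X ⟶ Y) [LocallyOfFiniteType f] (hf : DerSch.HasFiniteTorDim f)
    (U : X.Opens) (hU : IsAffineOpen U) (V : Y.Opens) (hV : IsAffineOpen V) (hUV : U ≤ f ⁻¹ᵁ V) :
    ∃ (W : Scheme.{u}) (g : (U : Scheme.{u}) ⟶ W) (h : W ⟶ Y),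
      IsClosedImmersion g ∧ DerSch.HasFiniteTorDim g ∧ Smooth h ∧ g ≫ h = U.ι ≫ f := by
  let φ : Γ(Y, V) ⟶ Γ(X, U) := f.appLE V U hUV
  have hφ : φ.hom.FiniteType := HasRingHomProperty.appLE @LocallyOfFiniteType f inferInstance ⟨V, hV⟩ ⟨U, hU⟩ hUV
  letI := φ.hom.toAlgebra
  haveI : Algebra.FiniteType Γ(Y, V) Γ(X, U) := hφ
  obtain ⟨n, ψ, hψ⟩ := Algebra.FiniteType.iff_quotient_mvPolynomial''.1 ‹Algebra.FiniteType Γ(Y, V) Γ(X, U)›
  let P : CommRingCat.{u} := CommRingCat.of (MvPolynomial (Fin n) Γ(Y, V))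
  let g : (U : Scheme.{u}) ⟶ Spec P := hU.isoSpec.hom ≫ Spec.map (CommRingCat.ofHom ψ.toRingHom)
  let h : Spec P ⟶ Y :=
    Spec.map (CommRingCat.ofHom (algebraMap Γ(Y, V) (MvPolynomial (Fin n) Γ(Y, V)))) ≫ hV.fromSpec
  haveI : IsClosedImmersion (Spec.map (CommRingCat.ofHom ψ.toRingHom)) := IsClosedImmersion.spec_of_surjective _ hψ
  haveI : IsClosedImmersion g := inferInstanceAs (IsClosedImmersion (_ ≫ _))
  haveI : Smooth (Spec.map (CommRingCat.ofHom (algebraMap Γ(Y, V) (MvPolynomial (Fin n) Γ(Y, V))))) :=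
    (HasRingHomProperty.Spec_iff (P := @Smooth)).2
      ((RingHom.smooth_algebraMap (R := Γ(Y, V)) (S := MvPolynomial (Fin n) Γ(Y, V))).2 ⟨inferInstance, inferInstance⟩)
  haveI : Smooth h := inferInstanceAs (Smooth (_ ≫ _))
  have hgh : g ≫ h = U.ι ≫ f := by
    have h1 : CommRingCat.ofHom (algebraMap Γ(Y, V) (MvPolynomial (Fin n) Γ(Y, V))) ≫ CommRingCat.ofHom ψ.toRingHom = φ := by
      ext r
      exact ψ.commutes r
    show (hU.isoSpec.hom ≫ Spec.map _) ≫ Spec.map _ ≫ hV.fromSpec = U.ι ≫ f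
    rw [Category.assoc, ← Spec.map_comp_assoc, h1, IsAffineOpen.SpecMap_appLE_fromSpec f hV hU, IsAffineOpen.isoSpec_hom,
      IsAffineOpen.toSpecΓ_fromSpec_assoc]
  haveI : IsAffine (U : Scheme.{u}) := hU
  refine ⟨Spec P, g, h, inferInstance, finTD_of_factor g h ?_, inferInstance, hgh⟩
  rw [hgh]
  exact locAmp_restrict f hf U

end Groth.Agent.S17643

#print axioms Groth.Agent.S17643.result
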