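import Groth.Statements.S17646
import Mathlib
import Groth.Agent.GabLoc.Envelope

set_option autoImplicit false
universe w v u
open CategoryTheory CategoryTheory.Limits
open GabLoc

namespace Groth.Agent.S17646

/-- Let C be a Grothendieck abelian category, E an indecomposable injective object of C (E is nonzero
and whenever E ≅ A ⊞ B one of A, B is zero) and S₁, S₂ localizing classes of objects (Serre classes
closed under coproducts). If there are an object of S₁ with a nonzero morphism to E and an object of
S₂ with a nonzero morphism to E, then there is an object belonging to both S₁ and S₂ with a nonzero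
morphism to E. Thus, on the set of isomorphism classes of indecomposable injectives, the subsets of
those having S-torsion, S localizing, are closed under finite intersections (they are also closed
under unions, and form a topology). The published definition of the injective spectrum says
injective objects without the word indecomposable; the published proof of this step uses that each
point of the spectrum is uniform, which is the indecomposable reading taken here. -/
theorem result {C : Type u} [Category.{v} C] [Abelian C]
    [IsGrothendieckAbelian.{w} C] (E : C) [Injective E] (hE : ¬ IsZero E)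
    (hind : ∀ (A B : C), Nonempty (E ≅ A ⊞ B) → IsZero A ∨ IsZero B)
    (S₁ S₂ : ObjectProperty C) (h₁ : GabLoc.IsLocalizing.{w} S₁) (h₂ : GabLoc.IsLocalizing.{w} S₂)
    (ht₁ : GabLoc.HasTorsion S₁ E) (ht₂ : GabLoc.HasTorsion S₂ E) :
    GabLoc.HasTorsion (S₁ ⊓ S₂) E := by
  haveI := h₁.isSerreClass
  haveI := h₂.isSerreClass
  obtain ⟨Y₁, hY₁, f₁, hf₁⟩ := ht₁
  obtain ⟨Y₂, hY₂, f₂, hf₂⟩ := ht₂
  have hi : image.ι f₁ ≠ 0 := fun h => hf₁ (by rw [← image.fac f₁, h, comp_zero])
  obtain ⟨T, a, b, _, _, hb, hab⟩ := Groth.Agent.GabLoc.exists_inter (image.ι f₁)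
    (Groth.Agent.GabLoc.ess_of_indecomposable.{w} E hind (image.ι f₁) hi) f₂ hf₂
  refine ⟨T, ⟨S₁.prop_of_mono b (S₁.prop_of_epi (factorThruImage f₁) hY₁),
    S₂.prop_of_mono a (S₂.prop_of_epi (factorThruImage f₂) hY₂)⟩, b ≫ image.ι f₁, fun h => hb ?_⟩
  exact zero_of_comp_mono _ h
end Groth.Agent.S17646
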