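import Groth.Statements.S17647
import Groth.Agent.ModStalk.Exact
import Groth.Agent.Coherent.QcohOps

set_option autoImplicit false
universe u
open CategoryTheory CategoryTheory.Limits AlgebraicGeometry
open QCohCat

namespace Groth.Agent.S17647

open Groth.Agent

variable {X : Scheme.{u}}

theorem bijective_iff_supports {A B : X.Modules} (φ : A ⟶ B) (x : X) :
    Function.Bijective ((DerSch.stalkFunctor X x).map φ) ↔
      x ∉ CohB1.support (kernel φ) ∧ x ∉ CohB1.support (cokernel φ) := by
  have hk : Subsingleton ((DerSch.stalkFunctor X x).obj (kernel φ)) ↔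
      Mono ((DerSch.stalkFunctor X x).map φ) := by
    refine ⟨fun h => ?_, fun h => ?_⟩
    · exact Preadditive.mono_of_isZero_kernel _
        (IsZero.of_iso (@ModuleCat.isZero_of_subsingleton _ _ _ h) (PreservesKernel.iso (DerSch.stalkFunctor X x) φ).symm)
    · exact ModuleCat.subsingleton_of_isZero
        (IsZero.of_iso (isZero_kernel_of_mono ((DerSch.stalkFunctor X x).map φ))
          (PreservesKernel.iso (DerSch.stalkFunctor X x) φ))
  have hc : Subsingleton ((DerSch.stalkFunctor X x).obj (cokernel φ)) ↔
      Epi ((DerSch.stalkFunctor X x).map φ) := by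
    refine ⟨fun h => ?_, fun h => ?_⟩
    · exact Preadditive.epi_of_isZero_cokernel _
        (IsZero.of_iso (@ModuleCat.isZero_of_subsingleton _ _ _ h) (PreservesCokernel.iso (DerSch.stalkFunctor X x) φ).symm)
    · exact ModuleCat.subsingleton_of_isZero
        (IsZero.of_iso (isZero_cokernel_of_epi ((DerSch.stalkFunctor X x).map φ))
          (PreservesCokernel.iso (DerSch.stalkFunctor X x) φ))
  show _ ↔ ¬ ¬ Subsingleton _ ∧ ¬ ¬ Subsingleton _
  rw [not_not, not_not]
  exact ⟨fun h => ⟨hk.2 ((ModuleCat.mono_iff_injective _).2 h.1), hc.2 ((ModuleCat.epi_iff_surjective _).2 h.2)⟩,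
    fun h => ⟨(ModuleCat.mono_iff_injective _).1 (hk.1 h.1), (ModuleCat.epi_iff_surjective _).1 (hc.1 h.2)⟩⟩

theorem isIso_restrict_iff {A B : X.Modules} (φ : A ⟶ B) (U : X.Opens) :
    IsIso ((Scheme.Modules.restrictFunctor U.ι).map φ) ↔
      CohB1.support (kernel φ) ⊆ (↑U : Set X)ᶜ ∧ CohB1.support (cokernel φ) ⊆ (↑U : Set X)ᶜ := by
  have key : ∀ u : (↑U : Scheme.{u}),
      Function.Bijective ((DerSch.stalkFunctor (↑U : Scheme.{u}) u).map ((Scheme.Modules.restrictFunctor U.ι).map φ)) ↔
        Function.Bijective ((DerSch.stalkFunctor X (U.ι u)).map φ) := fun u => by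
    let e := Scheme.Modules.restrictStalkNatIso U.ι u
    show Function.Bijective ((Scheme.Modules.restrictFunctor U.ι ⋙ Scheme.Modules.toPresheaf _ ⋙
      TopCat.Presheaf.stalkFunctor _ u).map φ) ↔
      Function.Bijective ((Scheme.Modules.toPresheaf X ⋙ TopCat.Presheaf.stalkFunctor _ (U.ι u)).map φ)
    rw [← ConcreteCategory.isIso_iff_bijective, ← ConcreteCategory.isIso_iff_bijective]
    exact NatIso.isIso_map_iff e φ
  constructor
  · intro h
    have hU : ∀ x ∈ U, x ∉ CohB1.support (kernel φ) ∧ x ∉ CohB1.support (cokernel φ) := fun x hx => by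
      refine (bijective_iff_supports φ x).1 ((key ⟨x, hx⟩).1 ?_)
      exact (ConcreteCategory.isIso_iff_bijective _).1 inferInstance
    exact ⟨fun x hx hxU => (hU x hxU).1 hx, fun x hx hxU => (hU x hxU).2 hx⟩
  · intro h
    refine ModStalk.isIso_of_stalks _ fun u => ?_
    rw [ConcreteCategory.isIso_iff_bijective, key u, bijective_iff_supports]
    exact ⟨fun hu => h.1 hu u.2, fun hu => h.2 hu u.2⟩

end Groth.Agent.S17647

namespace Groth.Agent.S17647

/-- Let X be a scheme and U ⊆ X an open subset whose inclusion U ⟶ X is quasi-compact, Z = X ∖ U. Then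
the restriction functor QCoh(X) ⥤ QCoh(U) between the categories of quasi-coherent modules is a
localization functor for the class of morphisms of quasi-coherent O_X-modules whose kernel and
cokernel (computed in O_X-modules) have support contained in Z: the category QCoh(U) is the quotient
of QCoh(X) by the localizing subcategory of quasi-coherent modules supported in Z, the direct image
along U ⟶ X being the fully faithful right adjoint. No hypothesis is made on X beyond the
quasi-compactness of U ⟶ X. -/
theorem result (X : Scheme.{u})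
    (U : X.Opens) [QuasiCompact U.ι] :
    (ObjectProperty.lift (QCohCat.isQCoh (↑U : Scheme.{u}))
        (ObjectProperty.ι (QCohCat.isQCoh X) ⋙ Scheme.Modules.restrictFunctor U.ι)
        (fun M => @Scheme.Modules.isQuasicoherent_restrictFunctor (↑U : Scheme.{u}) X U.ι
          inferInstance M.obj M.property)).IsLocalization
      (fun (A B : QCohCat.QCoh X) (f : A ⟶ B) =>
        CohB1.support (kernel f.hom) ⊆ (↑U : Set X)ᶜ ∧
          CohB1.support (cokernel f.hom) ⊆ (↑U : Set X)ᶜ) := by
  let ιX := ObjectProperty.ι (QCohCat.isQCoh X)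
  let R : QCohCat.QCoh (↑U : Scheme.{u}) ⥤ QCohCat.QCoh X := ObjectProperty.lift (QCohCat.isQCoh X)
    (ObjectProperty.ι (QCohCat.isQCoh (↑U : Scheme.{u})) ⋙ Scheme.Modules.pushforward U.ι)
    (fun M => haveI : Coh.IsQCoh M.obj := M.property
      Coherent.isQCoh_push U.ι M.obj)
  let G := ObjectProperty.lift (QCohCat.isQCoh (↑U : Scheme.{u}))
    (ObjectProperty.ι (QCohCat.isQCoh X) ⋙ Scheme.Modules.restrictFunctor U.ι)
    (fun M => @Scheme.Modules.isQuasicoherent_restrictFunctor (↑U : Scheme.{u}) X U.ι
      inferInstance M.obj M.property)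
  let adj : G ⊣ R := (Scheme.Modules.restrictAdjunction U.ι).restrictFullyFaithful
    (ObjectProperty.fullyFaithfulι (QCohCat.isQCoh X)) (ObjectProperty.fullyFaithfulι _)
    (Iso.refl _) (Iso.refl _)
  haveI : R.Full := inferInstance
  haveI : R.Faithful := inferInstance
  have hW : (MorphismProperty.isomorphisms _).inverseImage G =
      (fun (A B : QCohCat.QCoh X) (f : A ⟶ B) =>
        CohB1.support (kernel f.hom) ⊆ (↑U : Set X)ᶜ ∧
          CohB1.support (cokernel f.hom) ⊆ (↑U : Set X)ᶜ) := by
    refine MorphismProperty.ext _ _ fun A B f => ?_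
    show IsIso (G.map f) ↔ _
    rw [← isIso_iff_of_reflects_iso (G.map f) (ObjectProperty.ι _)]
    exact isIso_restrict_iff f.hom U
  exact hW ▸ adj.isLocalization

end Groth.Agent.S17647
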