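import Groth.Statements.S17649
import Groth.Agent.Coherent.QcohOps
import Groth.Agent.Coherent.CohBC.LocalModules

set_option autoImplicit false
universe u
open CategoryTheory CategoryTheory.Limits AlgebraicGeometry
open QCohCat

namespace Groth.Agent.S17649

open Groth.Agent Groth.Agent.Coherent

variable {X : Scheme.{u}}

theorem isZero_restrict_iff (M : X.Modules) (U : X.Opens) :
    IsZero ((Scheme.Modules.restrictFunctor U.ι).obj M) ↔ ∀ W : X.Opens, W ≤ U → Subsingleton Γ(M, W) := by
  refine ⟨fun h W hW => ?_, fun h => CohBC.isZero_restrict_of_sections M U fun W _ hW => h W hW⟩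
  have e : U.ι ''ᵁ (U.ι ⁻¹ᵁ W) = W := by
    rw [Scheme.Hom.image_preimage_eq_opensRange_inf, Scheme.Opens.opensRange_ι, inf_eq_right.2 hW]
  have hs : Subsingleton Γ(M, U.ι ''ᵁ (U.ι ⁻¹ᵁ W)) := by
    refine subsingleton_of_forall_eq 0 fun s => ?_
    exact congr(($((IsZero.iff_id_eq_zero _).1 h)).app (U.ι ⁻¹ᵁ W) s)
  rwa [e] at hs

end Groth.Agent.S17649

namespace Groth.Agent.S17649

/-- Suppose the scheme X is quasi-compact and quasi-separated, and take two quasi-compact opens U, V ⊆
X. Given a quasi-compact open W, denote by S_W the class of quasi-coherent O_X-modules that restrict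
to zero on W. Then S_{U ∩ V} is the smallest localizing subcategory of Qcoh(X) that contains both
S_U and S_V; concretely (this is the inclusion that is not formal): any quasi-coherent O_X-module F
satisfying F|_{U ∩ V} = 0 arises as an extension of a quasi-coherent module that is zero on V by a
quasi-coherent submodule that is zero on U — one can find a monomorphism A ⟶ F where A is
quasi-coherent, A|_U = 0 and (F/A)|_V = 0. -/
theorem result {X : Scheme.{u}}
    [CompactSpace X] [QuasiSeparatedSpace X] (U V : X.Opens) [QuasiCompact U.ι] [QuasiCompact V.ι]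
    (F : X.Modules) (hF : Coh.IsQCoh F) (h : IsZero ((Scheme.Modules.restrictFunctor (U ⊓ V).ι).obj F)) :
    ∃ (A : X.Modules) (i : A ⟶ F), Mono i ∧ Coh.IsQCoh A ∧
      IsZero ((Scheme.Modules.restrictFunctor U.ι).obj A) ∧
      IsZero ((Scheme.Modules.restrictFunctor V.ι).obj (cokernel i)) := by
  haveI : Coh.IsQCoh F := hF
  let η : F ⟶ (Coh.push U.ι).obj ((Scheme.Modules.restrictFunctor U.ι).obj F) :=
    (Scheme.Modules.restrictAdjunction U.ι).unit.app F
  haveI : Coh.IsQCoh ((Scheme.Modules.restrictFunctor U.ι).obj F) :=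
    Scheme.Modules.isQuasicoherent_restrictFunctor U.ι F
  haveI : Coh.IsQCoh ((Coh.push U.ι).obj ((Scheme.Modules.restrictFunctor U.ι).obj F)) :=
    Coherent.isQCoh_push U.ι _
  haveI : Coh.IsQCoh (kernel η) := Coherent.isQCoh_kernel η
  refine ⟨kernel η, kernel.ι η, inferInstance, inferInstance, ?_, ?_⟩
  · have hiso : IsIso ((Scheme.Modules.restrictFunctor U.ι).map η) := by
      have h1 := (Scheme.Modules.restrictAdjunction U.ι).left_triangle_components F
      haveI : IsIso ((Scheme.Modules.restrictAdjunction U.ι).counit.app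
        ((Scheme.Modules.restrictFunctor U.ι).obj F)) := inferInstance
      exact IsIso.of_isIso_fac_right h1
    refine (isZero_restrict_iff _ U).2 fun W hW => subsingleton_of_forall_eq 0 fun s => ?_
    refine Coherent.app_injective_of_mono (kernel.ι η) W ?_
    rw [map_zero]
    have h2 : η.app W ((kernel.ι η).app W s) = 0 := Coherent.kernel_ι_app_zero η W s
    have e : U.ι ''ᵁ (U.ι ⁻¹ᵁ W) = W := by
      rw [Scheme.Hom.image_preimage_eq_opensRange_inf, Scheme.Opens.opensRange_ι, inf_eq_right.2 hW]
    have hb : Function.Injective (η.app (U.ι ''ᵁ (U.ι ⁻¹ᵁ W))) := by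
      haveI : IsIso (((Scheme.Modules.restrictFunctor U.ι).map η).app (U.ι ⁻¹ᵁ W)) :=
        Scheme.Modules.Hom.isIso_iff_isIso_app.1 hiso _
      exact ((ConcreteCategory.isIso_iff_bijective (((Scheme.Modules.restrictFunctor U.ι).map η).app (U.ι ⁻¹ᵁ W))).1 inferInstance).1
    rw [e] at hb
    exact hb (h2.trans (map_zero _).symm)
  · have h0 := (isZero_restrict_iff F (U ⊓ V)).1 h
    refine (isZero_restrict_iff _ V).2 fun W hW => subsingleton_of_forall_eq 0 fun s => ?_
    refine Coherent.app_injective_of_mono (Abelian.factorThruCoimage η) W ?_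
    rw [map_zero]
    have hs : Subsingleton Γ(F, U.ι ''ᵁ (U.ι ⁻¹ᵁ W)) := h0 _ (le_inf (U.ι_image_le _)
      ((Scheme.Hom.image_preimage_eq_opensRange_inf U.ι W).trans_le (inf_le_right.trans hW)))
    exact @Subsingleton.elim _ hs _ _

end Groth.Agent.S17649
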