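import Groth.Statements.S17650
import Groth.Agent.Resolve13.ModBase
import Groth.Agent.EulerLib.SupportVanishing
import Groth.Agent.Coherent.CohBC.HomSheaf
-- import your own Groth.Agent.* helpers here

set_option autoImplicit false
universe u
open CategoryTheory CategoryTheory.Limits AlgebraicGeometry TopologicalSpace
open Curves

set_option backward.isDefEq.respectTransparency.types false
namespace Groth.Agent.S17650

/-- Let k be an algebraically closed field and B a connected scheme, proper over k, of dimension one,
with at-worst-nodal singularities and with H^1(B, O_B) = 0 (a connected proper prestable curve of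
arithmetic genus zero). If E is a finite locally free O_B-module generated by its global sections,
then H^1(B, E) = 0. (The source works over the complex numbers; the statement and its proof are
unchanged over any algebraically closed field.) -/
theorem result (k : Type u) [Field k] [IsAlgClosed k]
    (B : Scheme.{u}) [B.Over (Spec (CommRingCat.of k))] [IsProper (B ↘ Spec (CommRingCat.of k))]
    [ConnectedSpace ↥B] (hdim : topologicalKrullDim ↥B = 1) (hnod : Curv2.AtWorstNodal k B)
    (hg : Subsingleton (Coh.HH B (Coh.structureModule B) 1))
    (E : B.Modules) (hE : FlatMod.IsFinLocFree E) (hgg : Curv2.IsGloballyGenerated E) :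
    Subsingleton (Coh.HH B E 1) := by
  haveI := Groth.Agent.EulerLib.isNoetherian_of_proper (X := B) k
  haveI := Groth.Agent.EulerLib.isSeparated_of_proper (X := B) k
  haveI : Coh.IsQCoh E := (Groth.Agent.Coherent.CohBC.isCoh_of_isFinLocFree hE).1
  obtain ⟨ι, p, hp⟩ := hgg
  haveI : Coh.IsQCoh (SheafOfModules.free ι : B.Modules) :=
    Groth.Agent.SerreDual.isQCoh_colimit B _ fun _ => Groth.Agent.Coherent.isQCoh_structureModule
  exact @Groth.Agent.Lipman24.subsingleton_H1_of_epi B
    (fun M hM => haveI := hM; Groth.Agent.EulerLib.subsingleton_HH_of_dim M (d := 1) hdim.le (by norm_num))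
    (SheafOfModules.free ι) E inferInstance inferInstance p hp (Groth.Agent.Resolve13.subsingleton_HH_free 1 ι hg)

end Groth.Agent.S17650
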