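import Groth.Statements.S17653
import Groth.Agent.DimLib.Formula
import Mathlib.AlgebraicGeometry.ZariskisMainTheorem
import Mathlib.RingTheory.ZariskisMainTheorem

set_option autoImplicit false
set_option backward.isDefEq.respectTransparency.types false
universe u
open CategoryTheory CategoryTheory.Limits AlgebraicGeometry TopologicalSpace
open Variety

namespace Groth.Agent.S17653

theorem tdim_eq_krullDim {α : Type*} [TopologicalSpace α] [QuasiSober α] [T0Space α] :
    topologicalKrullDim α = @Order.krullDim α (specializationOrder α).toPreorder :=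
  let _ : PartialOrder α := specializationOrder α
  Order.krullDim_eq_of_orderIso irreducibleSetEquivPoints

theorem le_tdim {α : Type*} [TopologicalSpace α] [QuasiSober α] [T0Space α] {n : ℕ} (f : Fin (n + 1) → α)
    (hm : ∀ i j, i < j → f j ⤳ f i) (hi : Function.Injective f) : (n : WithBot ℕ∞) ≤ topologicalKrullDim α := by
  let _ : PartialOrder α := specializationOrder α
  rw [tdim_eq_krullDim]
  exact Order.LTSeries.length_le_krullDim (LTSeries.mk n f fun i j h => lt_of_le_of_ne (hm i j h) fun e => h.ne (hi e))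

theorem tdim_le {α : Type*} [TopologicalSpace α] [QuasiSober α] [T0Space α] (b : WithBot ℕ∞)
    (h : ∀ (n : ℕ) (f : Fin (n + 1) → α), (∀ i j, i ≤ j → f j ⤳ f i) → Function.Injective f → (n : WithBot ℕ∞) ≤ b) :
    topologicalKrullDim α ≤ b := by
  let _ : PartialOrder α := specializationOrder α
  rw [tdim_eq_krullDim]
  exact iSup_le fun p => h p.length p (fun i j hij => p.monotone hij) p.strictMono.injective

theorem dim_le_of_components {Y : Scheme.{u}} (d : WithBot ℕ∞)
    (hY : ∀ Z ∈ irreducibleComponents ↥Y, topologicalKrullDim ↥Z = d) : topologicalKrullDim ↥Y ≤ d := by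
  refine tdim_le d fun n f hm hi => ?_
  obtain ⟨Z, hZ, hZ'⟩ := exists_mem_irreducibleComponents_subset_of_isIrreducible {f (Fin.last n)} isIrreducible_singleton
  have hcl : IsClosed Z := isClosed_of_mem_irreducibleComponents Z hZ
  have : QuasiSober Z := hcl.isClosedEmbedding_subtypeVal.quasiSober
  have hmem : ∀ i, f i ∈ Z := fun i => (hm _ _ (Fin.le_last i)).mem_closed hcl (hZ' rfl)
  rw [← hY Z hZ]
  exact le_tdim (fun i => (⟨f i, hmem i⟩ : Z))
    (fun i j h => Topology.IsInducing.subtypeVal.specializes_iff.1 (hm i j h.le))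
    fun i j h => hi (congrArg Subtype.val h)

/-- Suppose X and Y are locally Noetherian schemes of the same pure dimension d (every irreducible
component of X and every irreducible component of Y has topological Krull dimension d), and π : X →
Y is a proper morphism between them. If there is a point x of X which is isolated in its fibre
π⁻¹(π(x)), i.e. some open neighbourhood of x meets that fibre only in x, then the image of π, with
the subspace topology, has the same dimension as Y. -/
theorem result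
    (X Y : Scheme.{u}) [IsLocallyNoetherian X] [IsLocallyNoetherian Y] (π : X ⟶ Y) [IsProper π]
    (d : WithBot ℕ∞) (hX : ∀ Z ∈ irreducibleComponents ↥X, topologicalKrullDim ↥Z = d)
    (hY : ∀ Z ∈ irreducibleComponents ↥Y, topologicalKrullDim ↥Z = d)
    (x : ↥X) (hx : ∃ U : X.Opens, x ∈ U ∧ ∀ x' ∈ U, π x' = π x → x' = x) :
    topologicalKrullDim ↥(Set.range (fun z : ↥X => π z)) = topologicalKrullDim ↥Y := by
  classical
  obtain ⟨O, hxO, hiso⟩ := hx
  let W : Set Y := Set.range (fun z : ↥X => π z)
  have hWcl : IsClosed W := π.isClosedMap.isClosed_range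
  refine le_antisymm (Topology.IsInducing.subtypeVal.topologicalKrullDim_le)
    ((dim_le_of_components d hY).trans ?_)
  obtain ⟨Z, hZ, hxZ⟩ := exists_mem_irreducibleComponents_subset_of_isIrreducible {x} isIrreducible_singleton
  have hZcl : IsClosed Z := isClosed_of_mem_irreducibleComponents Z hZ
  obtain ⟨η, hη⟩ := QuasiSober.sober hZ.1 hZcl
  have hqx : π.QuasiFiniteAt x := by
    rw [Scheme.Hom.quasiFiniteAt_iff_isOpen_singleton_asFiber]
    rw [← (π.fiberHomeo (π x)).isOpen_image]
    simp only [Set.image_singleton, Scheme.Hom.asFiber, Homeomorph.apply_symm_apply]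
    have : ({⟨x, rfl⟩} : Set (π ⁻¹' {π x})) = Subtype.val ⁻¹' (O : Set X) := by
      ext ⟨z, hz⟩
      exact ⟨fun h => by
          have hzx : z = x := congrArg Subtype.val (Set.mem_singleton_iff.1 h)
          show z ∈ O
          rw [hzx]; exact hxO,
        fun h => Subtype.ext (hiso z h hz)⟩
    rw [this]
    exact O.isOpen.preimage continuous_subtype_val
  have hsp : η ⤳ x := hη.specializes (hxZ rfl)
  have hqη : π.QuasiFiniteAt η := by
    rw [Scheme.Hom.quasiFiniteAt_iff] at hqx ⊢
    have : IsPreimmersion (Spec.map (X.presheaf.stalkSpecializes hsp)) := by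
      have : IsPreimmersion (Spec.map (X.presheaf.stalkSpecializes hsp) ≫ X.fromSpecStalk x) := by
        rw [Scheme.SpecMap_stalkSpecializes_fromSpecStalk]; infer_instance
      exact IsPreimmersion.of_comp _ (X.fromSpecStalk x)
    rw [← Scheme.SpecMap_stalkSpecializes_fromSpecStalk hsp, Category.assoc]
    infer_instance
  rw [← hX Z hZ]
  have : QuasiSober Z := hZcl.isClosedEmbedding_subtypeVal.quasiSober
  refine tdim_le _ fun n p hm hi => ?_
  obtain ⟨_, ⟨U, hU, rfl⟩, hzU, -⟩ := Y.isBasis_affineOpens.exists_subset_of_mem_open (Set.mem_univ (π (p 0))) isOpen_univ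
  obtain ⟨_, ⟨V, hV, rfl⟩, hzV, hVU⟩ := X.isBasis_affineOpens.exists_subset_of_mem_open (show ((p 0) : X) ∈ π ⁻¹ᵁ U from hzU) (π ⁻¹ᵁ U).isOpen
  have hU : IsAffineOpen U := hU
  have hV : IsAffineOpen V := hV
  have hVU : V ≤ π ⁻¹ᵁ U := hVU
  have hpV : ∀ i, (p i : X) ∈ V := fun i => by
    have h : p i ⤳ (p 0) := hm _ _ (Fin.zero_le i)
    exact (h.map continuous_subtype_val).mem_open V.isOpen hzV
  have hηV : η ∈ V := (hη.specializes (p 0).2).mem_open V.isOpen hzV
  algebraize [(π.appLE U V hVU).hom]
  have : Algebra.FiniteType Γ(Y, U) Γ(X, V) :=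
    (HasRingHomProperty.iff_appLE (P := @LocallyOfFiniteType)).1 inferInstance ⟨U, hU⟩ ⟨V, hV⟩ hVU
  have : IsNoetherianRing Γ(Y, U) := IsLocallyNoetherian.component_noetherian ⟨U, hU⟩
  let P := (hV.primeIdealOf ⟨η, hηV⟩).asIdeal
  have : P.IsPrime := (hV.primeIdealOf ⟨η, hηV⟩).isPrime
  have : Algebra.QuasiFiniteAt Γ(Y, U) P := hqη.quasiFiniteAt hV hU hVU hηV
  let P0 := P.under Γ(Y, U)
  let _ := Localization.AtPrime.algebraOfLiesOver P0 P
  have : Module.Finite P0.ResidueField P.ResidueField := inferInstance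
  let R := Γ(Y, U) ⧸ P0
  let S := Γ(X, V) ⧸ P
  let L := P.ResidueField
  let _ : Algebra R L := ((algebraMap P0.ResidueField L).comp (algebraMap R P0.ResidueField)).toAlgebra
  have : IsScalarTower R P0.ResidueField L := .of_algebraMap_eq' rfl
  have : IsScalarTower R S L := .of_algebraMap_eq fun r => by
    obtain ⟨a, rfl⟩ := Ideal.Quotient.mk_surjective r
    show algebraMap P0.ResidueField L (algebraMap R P0.ResidueField (algebraMap Γ(Y, U) R a)) =
      algebraMap S L (algebraMap Γ(X, V) S (algebraMap Γ(Y, U) Γ(X, V) a))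
    rw [← IsScalarTower.algebraMap_apply Γ(Y, U) R P0.ResidueField, ← IsScalarTower.algebraMap_apply Γ(Y, U) P0.ResidueField L,
      ← IsScalarTower.algebraMap_apply Γ(Y, U) Γ(X, V) S, ← IsScalarTower.algebraMap_apply Γ(Y, U) S L]
  have : Algebra.FiniteType R S := Algebra.FiniteType.of_restrictScalars_finiteType Γ(Y, U) R S
  have : Algebra.IsAlgebraic R S := ⟨fun s =>
    (isAlgebraic_algHom_iff (IsScalarTower.toAlgHom R S L) (IsFractionRing.injective S L)).1
      ((IsFractionRing.isAlgebraic_iff R P0.ResidueField L).2 (Algebra.IsAlgebraic.isAlgebraic _))⟩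
  have hSR : ringKrullDim S ≤ ringKrullDim R := by
    refine iSup_le fun l => ?_
    have : (l.last).asIdeal.LiesOver (l.last.asIdeal.under R) := ⟨rfl⟩
    have h1 : (l.length : ℕ∞) ≤ l.last.asIdeal.height := by
      rw [PrimeSpectrum.height_eq_orderHeight]; exact Order.length_le_height_last
    have h2 := Groth.Agent.DimLib.height_le_of_isAlgebraic (S := S) (l.last.asIdeal.under R) l.last.asIdeal
    exact le_trans (WithBot.coe_le_coe.2 (h1.trans h2)) (Ideal.height_le_ringKrullDim_of_ne_top (Ideal.IsPrime.ne_top inferInstance))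
  -- the chain lives in `Spec S`
  have hn : (n : WithBot ℕ∞) ≤ ringKrullDim S := by
    let φ : Fin (n + 1) → PrimeSpectrum Γ(X, V) := fun i => hV.primeIdealOf ⟨p i.rev, hpV _⟩
    have hφ : ∀ i, hV.fromSpec (φ i) = (p i.rev : X) := fun i => hV.fromSpec_primeIdealOf _
    have hPφ : ∀ i, P ≤ (φ i).asIdeal := fun i => by
      refine (PrimeSpectrum.le_iff_specializes (hV.primeIdealOf ⟨η, hηV⟩) (φ i)).2 ?_
      refine hV.fromSpec.isOpenEmbedding.isInducing.specializes_iff.1 ?_
      rw [hV.fromSpec_primeIdealOf, hφ]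
      exact hη.specializes (p _).2
    let ψ : Fin (n + 1) → PrimeSpectrum S := fun i => ⟨(φ i).asIdeal.map (Ideal.Quotient.mk P),
      Ideal.map_isPrime_of_surjective Ideal.Quotient.mk_surjective (by rw [Ideal.mk_ker]; exact hPφ i)⟩
    have hback : ∀ i, (ψ i).asIdeal.comap (Ideal.Quotient.mk P) = (φ i).asIdeal := fun i =>
      (Ideal.comap_map_of_surjective _ Ideal.Quotient.mk_surjective _).trans
        (sup_eq_left.2 (by rw [← RingHom.ker_eq_comap_bot, Ideal.mk_ker]; exact hPφ i))
    refine Order.LTSeries.length_le_krullDim (LTSeries.mk n ψ fun i j hij => ?_)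
    have h1 := hm _ _ (Fin.rev_le_rev.2 hij.le)
    have hsp' : φ i ⤳ φ j := hV.fromSpec.isOpenEmbedding.isInducing.specializes_iff.1 (by
      rw [hφ, hφ]; exact Specializes.map h1 continuous_subtype_val)
    refine lt_of_le_of_ne (Ideal.map_mono ((PrimeSpectrum.le_iff_specializes (φ i) (φ j)).2 hsp')) fun e => hij.ne (Fin.rev_injective (hi (Subtype.ext ?_)))
    rw [← hφ, ← hφ]
    exact congrArg hV.fromSpec (PrimeSpectrum.ext (by rw [← hback, ← hback, e]))
  refine hn.trans (hSR.trans ?_)
  rw [← PrimeSpectrum.topologicalKrullDim_eq_ringKrullDim]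
  let ρ : PrimeSpectrum R → Y := fun Q => hU.fromSpec (PrimeSpectrum.comap (Ideal.Quotient.mk P0) Q)
  have hρi : Topology.IsInducing ρ :=
    hU.fromSpec.isOpenEmbedding.isInducing.comp
      (PrimeSpectrum.isClosedEmbedding_comap_of_surjective _ (Ideal.Quotient.mk P0) Ideal.Quotient.mk_surjective).isInducing
  have hρW : ∀ Q, ρ Q ∈ W := fun Q => by
    have h0 : hU.fromSpec (hU.primeIdealOf ⟨π η, hVU hηV⟩) ⤳ ρ Q := by
      refine Specializes.map ((PrimeSpectrum.le_iff_specializes _ _).1 ?_) hU.fromSpec.continuous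
      show (hU.primeIdealOf ⟨π η, hVU hηV⟩).asIdeal ≤ Q.asIdeal.comap (Ideal.Quotient.mk P0)
      rw [← IsAffineOpen.comap_primeIdealOf_appLE (f := π) U hU V hV hVU hηV]
      intro a ha
      rw [Ideal.mem_comap, Ideal.Quotient.eq_zero_iff_mem.2 (show a ∈ P0 from ha)]
      exact zero_mem _
    rw [hU.fromSpec_primeIdealOf] at h0
    exact h0.mem_closed hWcl ⟨η, rfl⟩
  exact Topology.IsInducing.topologicalKrullDim_le (f := Set.codRestrict ρ W hρW) (hρi.codRestrict hρW)

end Groth.Agent.S17653
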