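import Groth.Statements.S17654
import Groth.Agent.TFPush7.TreeDef

set_option linter.style.haveILetI false
set_option backward.isDefEq.respectTransparency false
set_option backward.isDefEq.respectTransparency.types false
set_option maxHeartbeats 1000000

set_option autoImplicit false
universe u
open CategoryTheory CategoryTheory.Limits AlgebraicGeometry TopologicalSpace
attribute [local instance] HasDerivedCategory.standard
open Curves

namespace Groth.Agent.S17654

/-- Let k be an algebraically closed field and B a connected scheme, proper over k, of dimension one,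
with at-worst-nodal singularities and H^1(B, O_B) = 0. Write ω_B for the dualizing module of B over
k, the cohomology sheaf in degree −1 of the upper-shriek pull-back of O_{Spec k} (the existence of
the upper-shriek functor is assumed), and similarly for closed subschemes of B. A locally free E on
such a curve is called deformation ample when it is generated by global sections and H^1(E ⊗ ω) = 0.
Let E be a finite locally free O_B-module such that (1) for every irreducible component Z of B,
taken with its reduced structure, E|_Z is generated by global sections, and (2) for some connected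
reduced closed subscheme B' of B whose support is a union of irreducible components of B, the
restriction E|_{B'} is deformation ample on B'. Then E is deformation ample: E is generated by
global sections and H^1(B, E ⊗ ω_B) = 0. (The source works over the complex numbers and with E of
positive rank; the proof is unchanged over any algebraically closed field, and rank zero is
trivially allowed.) -/
theorem result (k : Type u) [Field k] [IsAlgClosed k]
    (B : Scheme.{u}) [B.Over (Spec (CommRingCat.of k))] [IsProper (B ↘ Spec (CommRingCat.of k))]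
    [ConnectedSpace ↥B] (hdim : topologicalKrullDim ↥B = 1) (hnod : Curv2.AtWorstNodal k B)
    (hg : Subsingleton (Coh.HH B (Coh.structureModule B) 1))
    [DCoh.HasRpush (B ↘ Spec (CommRingCat.of k))] (h : DCoh.RpushPreservesQCoh (B ↘ Spec (CommRingCat.of k))) [DCoh.HasShriek (B ↘ Spec (CommRingCat.of k)) h]
    (OY : DCoh.DQCoh (Spec (CommRingCat.of k))) (hOY : Nonempty (OY.obj ≅ DCoh.inD (Spec (CommRingCat.of k)) (Coh.structureModule (Spec (CommRingCat.of k)))))
    (E : B.Modules) (hE : FlatMod.IsFinLocFree E)
    (hcomp : ∀ Z : B.IdealSheafData, IsIntegral Z.subscheme → topologicalKrullDim (Z.support : Set ↥B) = 1 →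
      Curv2.IsGloballyGenerated ((Scheme.Modules.pullback Z.subschemeι).obj E))
    (B' : B.IdealSheafData) [ConnectedSpace ↥B'.subscheme] [AlgebraicGeometry.IsReduced B'.subscheme]
    (hunion : ∀ x ∈ (B'.support : Set ↥B), ∃ Z : B.IdealSheafData, IsIntegral Z.subscheme ∧
      topologicalKrullDim (Z.support : Set ↥B) = 1 ∧ (Z.support : Set ↥B) ⊆ B'.support ∧ x ∈ (Z.support : Set ↥B))
    [DCoh.HasRpush (B'.subschemeι ≫ (B ↘ Spec (CommRingCat.of k)))] (h' : DCoh.RpushPreservesQCoh (B'.subschemeι ≫ (B ↘ Spec (CommRingCat.of k))))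
    [DCoh.HasShriek (B'.subschemeι ≫ (B ↘ Spec (CommRingCat.of k))) h']
    (hgg' : Curv2.IsGloballyGenerated ((Scheme.Modules.pullback B'.subschemeι).obj E))
    (hvan' : Subsingleton (Coh.HH B'.subscheme (CohB1.tensorMod ((Scheme.Modules.pullback B'.subschemeι).obj E)
      (DCoh.dualizingMod (B'.subschemeι ≫ (B ↘ Spec (CommRingCat.of k))) h' OY 1)) 1)) :
    Curv2.IsGloballyGenerated E ∧
      Subsingleton (Coh.HH B (CohB1.tensorMod E (DCoh.dualizingMod (B ↘ Spec (CommRingCat.of k)) h OY 1)) 1) := by
  haveI := Groth.Agent.EulerLib.isNoetherian_of_proper k (X := B)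
  haveI := Groth.Agent.NodeLib7.geometricallyReduced_of_atWorstNodal k B hnod
  haveI : AlgebraicGeometry.IsReduced B := GeometricallyReduced.geometrically_isReduced
    (f := B ↘ Spec (CommRingCat.of k)) (𝟙 _) (𝟙 B) (B ↘ Spec (CommRingCat.of k)) (IsPullback.of_horiz_isIso ⟨by simp⟩)
  have hgB : Curv2.genus k B = 0 := Module.finrank_zero_of_subsingleton
  have hEc := Groth.Agent.Coherent.CohBC.isCoh_of_isFinLocFree hE
  haveI := hEc.1
  obtain ⟨-, -, hW, ⟨t, ht⟩, -, -⟩ :=
    Groth.Agent.DualMod3.nodal_setup k hdim (Groth.Agent.CurveRR24.h0_structure k) hnod h OY hOY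
  have hgg : Curv2.IsGloballyGenerated E :=
    Groth.Agent.TFPush7.TreeGG.isGloballyGenerated k hdim hgB hE hEc fun C hC =>
      hcomp (Scheme.IdealSheafData.vanishingIdeal C) (Groth.Agent.VarietyLib.isIntegral_vanishingIdeal C hC.1) (by
        rw [Scheme.IdealSheafData.coe_support_vanishingIdeal]
        exact Groth.Agent.DualMod3.components_dim_one hdim hC)
  refine ⟨hgg, Groth.Agent.TFPush7.TreeDef.subsingleton_h1 k hW t ht hgg fun u ψ huv => ?_⟩
  -- restrict to `B'`
  letI : B'.subscheme.Over (Spec (CommRingCat.of k)) := ⟨B'.subschemeι ≫ (B ↘ Spec (CommRingCat.of k))⟩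
  haveI : IsProper (B'.subscheme ↘ Spec (CommRingCat.of k)) :=
    inferInstanceAs (IsProper (B'.subschemeι ≫ (B ↘ Spec (CommRingCat.of k))))
  haveI := Groth.Agent.EulerLib.isNoetherian_of_proper k (X := B'.subscheme)
  haveI : DCoh.HasRpush (B'.subscheme ↘ Spec (CommRingCat.of k)) :=
    inferInstanceAs (DCoh.HasRpush (B'.subschemeι ≫ (B ↘ Spec (CommRingCat.of k))))
  haveI : DCoh.HasShriek (B'.subscheme ↘ Spec (CommRingCat.of k)) h' :=
    inferInstanceAs (DCoh.HasShriek (B'.subschemeι ≫ (B ↘ Spec (CommRingCat.of k))) h')
  obtain ⟨x⟩ := (inferInstance : Nonempty B'.subscheme)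
  obtain ⟨Z, -, hZd, hZB, -⟩ := hunion (B'.subschemeι x)
    (B'.range_subschemeι.le ⟨x, rfl⟩)
  have hd' : topologicalKrullDim B'.subscheme = 1 := by
    refine le_antisymm (B'.subschemeι.isEmbedding.isInducing.topologicalKrullDim_le.trans hdim.le) ?_
    rw [B'.subschemeι.isEmbedding.toHomeomorph.isHomeomorph.topologicalKrullDim_eq, B'.range_subschemeι]
    exact hZd.ge.trans (Groth.Agent.EulerLib.dim_mono hZB)
  obtain ⟨⟨t', ht'⟩, hWe'⟩ := Groth.Agent.DualMod3.dualizing_data k hd' h' OY hOY
  have hs := Groth.Agent.CurveRR24.euler_structure k (X := B'.subscheme) hd'.le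
  have hg' : Curv2.genus k B'.subscheme ≤ Curv2.genus k B := Groth.Agent.TFPush7.PointedSemi.genus_le k B hdim.le B'
  rw [Groth.Agent.CurveRR24.h0_structure k] at hs
  haveI := Groth.Agent.EGA43.InjFibre.isQCoh_pullback B'.subschemeι E
  obtain ⟨e⟩ := Groth.Agent.AmpleLib.exists_pullStructureIso (X := B) B'.subschemeι
  refine Groth.Agent.TFPush7.TreeDef.not_split k t' ht' (by omega)
    (Groth.Agent.DualMod3.isCoh k B'.subscheme h' OY hOY 1) hvan'
    (e.inv ≫ (Scheme.Modules.pullback B'.subschemeι).map u) ((Scheme.Modules.pullback B'.subschemeι).map ψ ≫ e.hom) ?_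
  rw [Category.assoc, ← Functor.map_comp_assoc, huv, CategoryTheory.Functor.map_id, Category.id_comp, e.inv_hom_id]

end Groth.Agent.S17654
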