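import Groth.Statements.S17658
import Mathlib.RingTheory.MvPolynomial.MonomialOrder
import Mathlib.RingTheory.MvPolynomial.Basic
-- import your own Groth.Agent.* helpers here

set_option autoImplicit false
universe u
open Surf

namespace Groth.Agent.S17658

/-- In the polynomial ring k[T₀,T₁,U,V] over a field k, bigraded by deg T₀ = deg T₁ = (0,1), deg U =
(1,−1), deg V = (1,0) (the Cox ring of the Hirzebruch surface F₁; its piece of bidegree (a,b) is the
space of sections of O(a(E+F)+bF)), let S_(a,b) denote the k-span of the monomials of bidegree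
(a,b), so that S_(0,c) is the space of forms of degree c in T₀, T₁. A subspace W ⊆ S_(a,b) is called
c-generating when W·S_(0,c) = S_(a,b+c). Fix a monomial order and natural numbers a, b, c, and let
W₀(a,b,c) be the set of monomials U^i V^(a−i) T₀^(b+i−j(c+1)) T₁^(j(c+1)) with 0 ≤ i ≤ a, j ≥ 0 and
j(c+1) < b+i, together with the monomials U^i V^(a−i) T₁^(b+i) with 0 ≤ i ≤ a. If every monomial of
W₀(a,b,c) is the leading monomial of some nonzero element of W, then W is c-generating. (The source
fixes the graded lexicographic order with U > V > T₀ > T₁ and works over the complex numbers; its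
argument uses only that leading monomials are multiplicative and that W₀(a,b,c)·S_(0,c) contains
every monomial of S_(a,b+c), so any monomial order and any field are allowed here. The printed index
j runs from 1; with that range the statement fails already for a = 0, b = c = 1 and W spanned by T₁,
and the range from 0 used here is the one matching the accompanying dimension count.) Variables are
indexed T₀ = 0, T₁ = 1, U = 2, V = 3. -/
theorem result (k : Type u) [Field k]
    (mo : MonomialOrder (Fin 4)) (a b c : ℕ) (W : Submodule k (MvPolynomial (Fin 4) k))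
    (hW : W ≤ Submodule.span k {f : MvPolynomial (Fin 4) k | ∃ e : Fin 4 →₀ ℕ, e 2 + e 3 = a ∧ e 0 + e 1 = b + e 2 ∧ f = MvPolynomial.monomial e 1})
    (h₁ : ∀ i j : ℕ, i ≤ a → j * (c + 1) < b + i → ∃ w ∈ W, w ≠ 0 ∧
      mo.degree w = Finsupp.single 0 (b + i - j * (c + 1)) + Finsupp.single 1 (j * (c + 1)) +
        Finsupp.single 2 i + Finsupp.single 3 (a - i))
    (h₂ : ∀ i : ℕ, i ≤ a → ∃ w ∈ W, w ≠ 0 ∧
      mo.degree w = Finsupp.single 1 (b + i) + Finsupp.single 2 i + Finsupp.single 3 (a - i)) :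
    W * Submodule.span k {f : MvPolynomial (Fin 4) k | ∃ e : Fin 4 →₀ ℕ, e 2 + e 3 = 0 ∧ e 0 + e 1 = c + e 2 ∧ f = MvPolynomial.monomial e 1} =
      Submodule.span k {f : MvPolynomial (Fin 4) k | ∃ e : Fin 4 →₀ ℕ, e 2 + e 3 = a ∧ e 0 + e 1 = (b + c) + e 2 ∧ f = MvPolynomial.monomial e 1} := by
  have hset : ∀ A B : ℕ, {f : MvPolynomial (Fin 4) k | ∃ e : Fin 4 →₀ ℕ, e 2 + e 3 = A ∧
      e 0 + e 1 = B + e 2 ∧ f = MvPolynomial.monomial e 1} =
      (fun e => MvPolynomial.monomial e (1 : k)) ''
        {e : Fin 4 →₀ ℕ | e 2 + e 3 = A ∧ e 0 + e 1 = B + e 2} := by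
    intro A B
    ext f
    constructor
    · rintro ⟨e, h1, h2, rfl⟩; exact ⟨e, ⟨h1, h2⟩, rfl⟩
    · rintro ⟨e, ⟨h1, h2⟩, rfl⟩; exact ⟨e, h1, h2, rfl⟩
  simp only [hset, ← MvPolynomial.restrictSupport_eq_span] at hW ⊢
  set Ec : Set (Fin 4 →₀ ℕ) := {e | e 2 + e 3 = 0 ∧ e 0 + e 1 = c + e 2}
  set E : Set (Fin 4 →₀ ℕ) := {e | e 2 + e 3 = a ∧ e 0 + e 1 = b + c + e 2}
  have hle : W * MvPolynomial.restrictSupport k Ec ≤ MvPolynomial.restrictSupport k E := by
    refine (mul_le_mul_left hW _).trans ?_
    rw [← MvPolynomial.restrictSupport_add]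
    refine MvPolynomial.restrictSupport_mono k ?_
    rintro _ ⟨e, ⟨h1, h2⟩, e', ⟨h3, h4⟩, rfl⟩
    refine ⟨?_, ?_⟩ <;> simp only [Finsupp.coe_add, Pi.add_apply] <;> omega
  refine le_antisymm hle ?_
  have key : ∀ e ∈ E, ∃ g ∈ W * MvPolynomial.restrictSupport k Ec,
      g ≠ 0 ∧ mo.degree g = e := by
    rintro e ⟨h1, h2⟩
    have main : ∀ d : Fin 4 →₀ ℕ, (∃ w ∈ W, w ≠ 0 ∧ mo.degree w = d) → d ≤ e →
        e - d ∈ Ec → ∃ g ∈ W * MvPolynomial.restrictSupport k Ec, g ≠ 0 ∧ mo.degree g = e := by
      rintro d ⟨w, hw, hw0, rfl⟩ hde hmem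
      refine ⟨w * MvPolynomial.monomial (e - mo.degree w) 1, Submodule.mul_mem_mul hw ?_,
        mul_ne_zero hw0 (by simp), ?_⟩
      · rw [MvPolynomial.mem_restrictSupport_iff]
        exact (Finset.coe_subset.mpr MvPolynomial.support_monomial_subset).trans (by simpa using hmem)
      · rw [mo.degree_mul hw0 (by simp)]
        classical
        rw [mo.degree_monomial, if_neg one_ne_zero, add_tsub_cancel_of_le hde]
    obtain ⟨i, hi⟩ : ∃ i, e 2 = i := ⟨_, rfl⟩
    obtain ⟨q, hq⟩ : ∃ q, e 1 / (c + 1) = q := ⟨_, rfl⟩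
    have hq1 : q * (c + 1) ≤ e 1 := hq ▸ Nat.div_mul_le_self _ _
    have hq2 : e 1 < q * (c + 1) + (c + 1) := hq ▸ Nat.lt_div_mul_add (Nat.succ_pos c)
    by_cases hj : q * (c + 1) < b + i
    · refine main _ (h₁ i q (by omega) hj) ?_ ⟨?_, ?_⟩
      · intro x
        fin_cases x <;> simp [Finsupp.single_apply] <;> omega
      all_goals simp [Finsupp.single_apply]; omega
    · refine main _ (h₂ i (by omega)) ?_ ⟨?_, ?_⟩
      · intro x
        fin_cases x <;> simp [Finsupp.single_apply] <;> omega
      all_goals simp [Finsupp.single_apply]; omega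
  suffices H : ∀ s : mo.syn, ∀ f ∈ MvPolynomial.restrictSupport k E,
      mo.toSyn (mo.degree f) ≤ s → f ∈ W * MvPolynomial.restrictSupport k Ec by
    exact fun f hf => H _ f hf le_rfl
  intro s
  induction s using WellFoundedLT.induction with
  | ind s ih =>
    intro f hf hfs
    by_cases hf0 : f = 0
    · rw [hf0]; exact zero_mem _
    have he : mo.degree f ∈ E := hf (mo.degree_mem_support hf0)
    obtain ⟨g, hgP, hg0, hdeg⟩ := key _ he
    set r := f.coeff (mo.degree f) / g.coeff (mo.degree f)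
    have hgc : g.coeff (mo.degree f) ≠ 0 := by
      rw [← hdeg]; exact mo.coeff_degree_ne_zero_iff.mpr hg0
    suffices h : f - r • g ∈ W * MvPolynomial.restrictSupport k Ec by
      simpa using add_mem h (Submodule.smul_mem _ r hgP)
    by_cases hh : f - r • g = 0
    · rw [hh]; exact zero_mem _
    have hmem : f - r • g ∈ MvPolynomial.restrictSupport k E :=
      sub_mem hf (Submodule.smul_mem _ r (hle hgP))
    refine ih _ (lt_of_lt_of_le ?_ hfs) _ hmem le_rfl
    have hsup := mo.degree_mem_support hh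
    refine lt_of_le_of_ne ?_ fun h => ?_
    · refine mo.degree_le_iff.mpr fun d hd => ?_
      have := MvPolynomial.support_sub (Fin 4) f (r • g) hd
      rcases Finset.mem_union.mp this with hd' | hd'
      · exact mo.le_degree hd'
      · exact hdeg ▸ mo.le_degree (MvPolynomial.support_smul hd')
    · rw [mo.toSyn.injective.eq_iff] at h
      rw [h, MvPolynomial.mem_support_iff, MvPolynomial.coeff_sub, MvPolynomial.coeff_smul,
        smul_eq_mul, div_mul_cancel₀ _ hgc, sub_self] at hsup
      exact hsup rfl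

end Groth.Agent.S17658
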