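import Groth.Statements.S17659
import Groth.Agent.VarietyLib.CurveDegreeApps
import Groth.Agent.EulerLib.Positive
import Groth.Agent.SerreDual.ExtShRep
-- import your own Groth.Agent.* helpers here

set_option autoImplicit false
set_option backward.isDefEq.respectTransparency.types false
universe u
open CategoryTheory CategoryTheory.Limits AlgebraicGeometry
open CIDisc

namespace Groth.Agent.S17659

/-- Let X be a proper scheme over a field k all of whose irreducible components have dimension one, E a
finite locally free O_X-module of constant rank n and F a coherent O_X-module. Then χ(X, E ⊗ F) =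
Σ_Z r_Z(F) · deg(E|_{Z_red}) + n · χ(X, F), the sum running over the irreducible components Z of X,
where r_Z(F) is the length of the stalk of F at the generic point ξ_Z of Z as a module over
O_{X,ξ_Z}, and Z_red is Z with its reduced induced structure (the closed subscheme cut out by the
radical of the ideal of the component). The Noetherian hypothesis on X is a consequence of
properness over k and is stated for convenience. -/
theorem result (k : Type u) [Field k] (X : Scheme.{u}) [X.Over (Spec (CommRingCat.of k))]
    [IsProper (X ↘ (Spec (CommRingCat.of k)))] [IsNoetherian X]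
    (hdim : ∀ Z ∈ irreducibleComponents (X : Type u), topologicalKrullDim Z = 1)
    (n : ℕ) (E : X.Modules) (hE : FlatMod.IsFinLocFreeOfRank n E) (F : X.Modules) (hF : Coh.IsCoh F) :
    Curv2.euler k X (CohB1.tensorMod E F) =
      (∑ᶠ Z : irreducibleComponents (X : Type u),
        ((Module.length (X.presheaf.stalk Z.2.1.genericPoint) (F.presheaf.stalk Z.2.1.genericPoint)).toNat : ℤ) *
          @Curv2.deg k _ (X.irreducibleComponentIdeal Z.1 Z.2).radical.subscheme
            ⟨(X.irreducibleComponentIdeal Z.1 Z.2).radical.subschemeι ≫ (X ↘ (Spec (CommRingCat.of k)))⟩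
            ((Scheme.Modules.pullback (X.irreducibleComponentIdeal Z.1 Z.2).radical.subschemeι).obj E) n) +
        (n : ℤ) * Curv2.euler k X F := by
  classical
  have hdim1 : topologicalKrullDim X ≤ 1 := SerreDual.dim_le_of_components (r := 1) fun Z hZ => (hdim Z hZ).le
  obtain ⟨S, hS1, hS2, hsum⟩ := VarietyLib.degFun_eq_sum k hdim1 hE
  rw [show Curv2.euler k X (CohB1.tensorMod E F) = VarietyLib.degFun k n E F + n * Curv2.euler k X F from by
    rw [VarietyLib.degFun, EulerLib.euler_congr k X (AmpleLib.tensorComm E F), sub_add_cancel], hsum _ hF, add_left_inj]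
  haveI : Fintype (irreducibleComponents (X : Type u)) :=
    (TopologicalSpace.NoetherianSpace.finite_irreducibleComponents).fintype
  rw [finsum_eq_sum_of_fintype]
  have hdu : topologicalKrullDim (Set.univ : Set X) ≤ ((1 : ℕ) : WithBot ℕ∞) :=
    ((Homeomorph.Set.univ X).isInducing.topologicalKrullDim_le).trans hdim1
  have hcl : ∀ Z : irreducibleComponents (X : Type u), closure ({Z.2.1.genericPoint} : Set X) = Z.1 :=
    fun Z => (Z.2.1.isGenericPoint_genericPoint (isClosed_of_mem_irreducibleComponents _ Z.2)).def
  refine (Finset.sum_bij (fun (Z : irreducibleComponents (X : Type u)) _ => Z.2.1.genericPoint) ?_ ?_ ?_ ?_).symm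
  · intro Z hZ
    exact hS1 _ (by rw [hcl Z]; exact hdim Z.1 Z.2)
  · intro Z _ Z' _ h
    exact Subtype.ext (by rw [← hcl Z, ← hcl Z', h])
  · intro ξ hξ
    obtain ⟨C, hC, hsub⟩ : ∃ C ∈ irreducibleComponents (X : Type u), closure ({ξ} : Set X) ⊆ C :=
      exists_mem_irreducibleComponents_subset_of_isIrreducible _ isIrreducible_singleton.closure
    have heq : closure ({ξ} : Set X) = C := by
      let η := hC.1.genericPoint
      have hη : closure ({η} : Set X) = C := (hC.1.isGenericPoint_genericPoint (isClosed_of_mem_irreducibleComponents _ hC)).def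
      by_cases h : η ∈ closure ({ξ} : Set X)
      · exact hsub.antisymm (by rw [← hη]; exact closure_minimal (Set.singleton_subset_iff.2 h) isClosed_closure)
      · exfalso
        have hlt := EulerLib.dim_lt_of_notMem isClosed_closure hsub (isClosed_of_mem_irreducibleComponents _ hC) hη h
          ((EulerLib.dim_mono (Set.subset_univ C)).trans hdu)
        rw [hS2 ξ hξ] at hlt
        exact lt_irrefl _ hlt
    refine ⟨⟨C, hC⟩, Finset.mem_univ _, ?_⟩
    exact ((hC.1.isGenericPoint_genericPoint (isClosed_of_mem_irreducibleComponents _ hC)).eq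
        (show IsGenericPoint ξ C from heq))
  · intro Z _
    have e : (X.irreducibleComponentIdeal Z.1 Z.2).radical = AssSch12.clI Z.2.1.genericPoint := by
      rw [← Scheme.IdealSheafData.vanishingIdeal_support]
      exact congrArg Scheme.IdealSheafData.vanishingIdeal (TopologicalSpace.Closeds.ext (hcl Z).symm)
    rw [e, nsmul_eq_mul, VarietyLib.mult]
    congr 1
    letI : (AssSch12.clI Z.2.1.genericPoint).subscheme.Over (Spec (CommRingCat.of k)) :=
      ⟨(AssSch12.clI Z.2.1.genericPoint).subschemeι ≫ (X ↘ (Spec (CommRingCat.of k)))⟩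
    haveI : IsProper ((AssSch12.clI Z.2.1.genericPoint).subscheme ↘ Spec (CommRingCat.of k)) :=
      inferInstanceAs (IsProper ((AssSch12.clI Z.2.1.genericPoint).subschemeι ≫ (X ↘ Spec (CommRingCat.of k))))
    exact (VarietyLib.degFun_push k (AssSch12.clI Z.2.1.genericPoint).subschemeι rfl hE).symm

end Groth.Agent.S17659
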