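import Groth.Statements.S17661
import Groth.Agent.VarietyLib.FiniteClosedCover
import Mathlib.RingTheory.RingHom.Smooth
import Mathlib.AlgebraicGeometry.Morphisms.Smooth

set_option autoImplicit false
universe u
open CategoryTheory CategoryTheory.Limits AlgebraicGeometry
open Ribbon

set_option linter.style.haveILetI false
set_option backward.isDefEq.respectTransparency.types false
set_option backward.isDefEq.respectTransparency false

namespace Groth.Agent.S17661

/-- Let k be a field, C a scheme locally of finite type over k and I ⊂ O_C a quasi-coherent ideal with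
I² = 0, with closed subscheme D ⊂ C; suppose D is affine, connected and smooth over k and that I,
regarded as an O_D-module, is invertible (so C is a ribbon on the smooth affine scheme D, and D is
the reduced scheme underlying C). Then the ribbon is split: the inclusion D → C admits a retraction
C → D over k. -/
theorem result (k : Type u) [Field k] (C : Scheme.{u}) [C.Over (Spec (CommRingCat.of k))]
    [LocallyOfFiniteType (C ↘ (Spec (CommRingCat.of k)))]
    (I : C.IdealSheafData) (hI : I ^ 2 = ⊥) [IsAffine I.subscheme] [ConnectedSpace I.subscheme]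
    [Smooth (I.subschemeι ≫ (C ↘ (Spec (CommRingCat.of k))))]
    (hconormal : PicF.IsInvertible ((Scheme.Modules.pullback I.subschemeι).obj (ClSub.idealMod I))) :
    ∃ r : C ⟶ I.subscheme, I.subschemeι ≫ r = 𝟙 I.subscheme ∧
      r ≫ I.subschemeι ≫ (C ↘ (Spec (CommRingCat.of k))) = C ↘ (Spec (CommRingCat.of k)) := by
  let ι := I.subschemeι
  let s := C ↘ Spec (CommRingCat.of k)
  have hsurj : Function.Surjective ι := by
    have hd : (I.support : Set C) = Set.univ := by
      rw [← Scheme.IdealSheafData.support_pow I 2 (by norm_num), hI]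
      simp
    intro x
    have : x ∈ Set.range ι := by
      rw [show Set.range ι = _ from Scheme.IdealSheafData.range_subschemeι I, hd]
      trivial
    exact this
  haveI : IsAffine C := VarietyLib.isAffine_of_surjective_closedImmersion ι hsurj
  -- rings
  let R := Γ(C, ⊤)
  let Q := Γ(I.subscheme, ⊤)
  let π : R ⟶ Q := ι.appTop
  obtain ⟨a, ha⟩ := Spec.map_surjective (C.isoSpec.inv ≫ s)
  have hπ : Function.Surjective π.hom := by
    have := I.subschemeι_app_surjective ⟨⊤, isAffineOpen_top C⟩
    exact this
  letI : Algebra k R := a.hom.toAlgebra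
  letI : Algebra k Q := (a ≫ π).hom.toAlgebra
  have hnat : Spec.map π = I.subscheme.isoSpec.inv ≫ ι ≫ C.isoSpec.hom := by
    rw [← Scheme.isoSpec_hom_naturality ι, Iso.inv_hom_id_assoc]
  have hsm : Spec.map (a ≫ π) = I.subscheme.isoSpec.inv ≫ ι ≫ s := by
    rw [Spec.map_comp, ha, hnat]
    simp
  haveI : Algebra.Smooth k Q := by
    have : Smooth (Spec.map (a ≫ π)) := by rw [hsm]; infer_instance
    exact RingHom.smooth_algebraMap.1 ((HasRingHomProperty.Spec_iff (P := @Smooth)).1 this)
  let πA : R →ₐ[k] Q := { π.hom with commutes' := fun c => rfl }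
  have hker : RingHom.ker π.hom = I.ideal ⟨⊤, isAffineOpen_top C⟩ := by
    conv_rhs => rw [← Scheme.IdealSheafData.ker_subschemeι I]
    exact (Scheme.Hom.ker_apply ι ⟨⊤, isAffineOpen_top C⟩).symm
  have hnil : IsNilpotent (RingHom.ker (πA : R →+* Q)) := by
    refine ⟨2, ?_⟩
    show RingHom.ker π.hom ^ 2 = _
    have h := congrArg (fun J : C.IdealSheafData => J.ideal ⟨⊤, isAffineOpen_top C⟩) hI
    simp only [Scheme.IdealSheafData.ideal_pow, Scheme.IdealSheafData.ideal_bot] at h
    rw [hker]
    simpa using h
  let σ : Q →ₐ[k] R := Algebra.FormallySmooth.liftOfSurjective (AlgHom.id k Q) πA hπ hnil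
  let σ' : Q ⟶ R := CommRingCat.ofHom σ.toRingHom
  have h1 : σ' ≫ π = 𝟙 Q := CommRingCat.hom_ext (RingHom.ext fun q =>
    AlgHom.congr_fun (Algebra.FormallySmooth.comp_liftOfSurjective (AlgHom.id k Q) πA hπ hnil) q)
  have h2 : (a ≫ π) ≫ σ' = a := CommRingCat.hom_ext (RingHom.ext fun c => σ.commutes c)
  refine ⟨C.isoSpec.hom ≫ Spec.map σ' ≫ I.subscheme.isoSpec.inv, ?_, ?_⟩
  · rw [← cancel_mono I.subscheme.isoSpec.hom]
    simp only [Category.assoc, Iso.inv_hom_id, Category.comp_id, Category.id_comp]
    rw [← Scheme.isoSpec_hom_naturality_assoc ι, ← Spec.map_comp, h1, Spec.map_id, Category.comp_id]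
  · show (C.isoSpec.hom ≫ Spec.map σ' ≫ I.subscheme.isoSpec.inv) ≫ ι ≫ s = s
    simp only [Category.assoc]
    rw [← hsm, ← Spec.map_comp, h2, ha, Iso.hom_inv_id_assoc]

end Groth.Agent.S17661
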