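import Groth.Statements.S17662
import Mathlib

set_option linter.all false

set_option autoImplicit false
universe u
open CIDisc

open TensorProduct Matrix

namespace Groth.Agent.S17662

theorem cauchyBinet' {R : Type u} [CommRing R] {e r : ℕ} (A : Matrix (Fin e) (Fin r) R)
    (M : Matrix (Fin r) (Fin e) R) :
    (A * M).det = ∑ L : {s : Finset (Fin r) // s.card = e},
      (A.submatrix id (L.1.orderEmbOfFin L.2)).det * (M.submatrix (L.1.orderEmbOfFin L.2) id).det := by
  classical
  have expand : (A * M).det = ∑ f : Fin e → Fin r, (A.submatrix id f).det * ∏ i, M (f i) i := by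
    rw [Matrix.det_apply']
    simp only [Matrix.mul_apply, Fintype.prod_sum, Finset.mul_sum, Finset.prod_mul_distrib]
    rw [Finset.sum_comm]
    refine Finset.sum_congr rfl fun f _ => ?_
    rw [Matrix.det_apply', Finset.sum_mul]
    refine Finset.sum_congr rfl fun σ _ => ?_
    simp only [Matrix.submatrix_apply, id_eq]
    ring
  have hdetM : ∀ L : {s : Finset (Fin r) // s.card = e},
      (A.submatrix id (L.1.orderEmbOfFin L.2)).det * (M.submatrix (L.1.orderEmbOfFin L.2) id).det =
      ∑ σ : Equiv.Perm (Fin e), (A.submatrix id (L.1.orderEmbOfFin L.2 ∘ σ)).det * ∏ i, M (L.1.orderEmbOfFin L.2 (σ i)) i := by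
    intro L
    rw [Matrix.det_apply' (M.submatrix _ _), Finset.mul_sum]
    refine Finset.sum_congr rfl fun σ _ => ?_
    have : A.submatrix id (L.1.orderEmbOfFin L.2 ∘ σ) = (A.submatrix id (L.1.orderEmbOfFin L.2)).submatrix id σ := rfl
    rw [this, Matrix.det_permute']
    simp only [Matrix.submatrix_apply, id_eq]
    ring
  rw [expand, Finset.sum_congr rfl (fun L _ => hdetM L), ← Fintype.sum_prod_type',
    ← Finset.sum_filter_of_ne (p := fun f : Fin e → Fin r => Function.Injective f)]
  · refine (Finset.sum_bij (fun q _ => q.1.1.orderEmbOfFin q.1.2 ∘ q.2) ?_ ?_ ?_ (fun q _ => rfl)).symm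
    · intro q _
      simp only [Finset.mem_filter, Finset.mem_univ, true_and]
      exact (q.1.1.orderEmbOfFin q.1.2).injective.comp q.2.injective
    · intro p _ q _ h
      have h1 : p.1 = q.1 := by
        refine Subtype.ext (Finset.coe_injective ?_)
        have := congrArg Set.range h
        simpa [EquivLike.range_comp] using this
      refine Prod.ext h1 (Equiv.ext fun i => ?_)
      have h2 := congrFun h i
      simp only [Function.comp_apply, h1] at h2
      exact (q.1.1.orderEmbOfFin q.1.2).injective h2
    · intro f hf
      simp only [Finset.mem_filter, Finset.mem_univ, true_and] at hf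
      let L : {s : Finset (Fin r) // s.card = e} := ⟨Finset.univ.image f, by simp [Finset.card_image_of_injective _ hf]⟩
      let g : Fin e → Fin e := fun i => (L.1.orderIsoOfFin L.2).symm ⟨f i, by simp [L]⟩
      have hg : Function.Injective g := fun a b h => hf (congrArg Subtype.val ((L.1.orderIsoOfFin L.2).symm.injective h) :)
      refine ⟨(L, Equiv.ofBijective g (Finite.injective_iff_bijective.1 hg)), Finset.mem_univ _, funext fun i => ?_⟩
      simp [g, Finset.orderEmbOfFin, OrderIso.apply_symm_apply]
  · intro f _ hne
    by_contra hf
    apply hne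
    obtain ⟨a, b, hab, hne'⟩ := Function.not_injective_iff.1 hf
    rw [Matrix.det_zero_of_column_eq (M := A.submatrix id f) hne' (fun i => by simp [hab]), zero_mul]

/-- Let R be a commutative ring, M an r × n matrix over R and e ≥ 0; for each e-element set L of row
indices let A_L be an e × r matrix over R, and form the square matrix, indexed by the e-element sets
of row indices, whose (L, L') entry is the e × e minor of A_L on the columns L'. If the determinant
of that square matrix is a unit, then the sum over L of the ideals generated by the e × e minors of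
the products A_L · M is the ideal generated by all e × e minors of M. (In the source R is the
coordinate ring of an affine scheme X of codimension e cut out by f_1, …, f_r in affine n-space, M
is the image of the Jacobian matrix of the f_j, the A_L have entries in the ground field and cut out
complete intersections Z_L = V(A_L · f), so that the two sides are Σ_L Jac(Z_L) and Jac(X); the
source states the equality for general A_L and establishes it under the present invertibility
condition, which it shows to be generic.) -/
theorem result {R : Type u} [CommRing R] (e r n : ℕ)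
    (M : Matrix (Fin r) (Fin n) R)
    (A : {s : Finset (Fin r) // s.card = e} → Matrix (Fin e) (Fin r) R)
    (hA : IsUnit (Matrix.det (Matrix.of fun i j : {s : Finset (Fin r) // s.card = e} =>
      ((A i).submatrix id (j.1.orderEmbOfFin j.2)).det))) :
    (⨆ i, Ideal.span (Set.range fun t : {s : Finset (Fin n) // s.card = e} =>
        ((A i * M).submatrix id (t.1.orderEmbOfFin t.2)).det)) =
      Ideal.span (Set.range fun p : {s : Finset (Fin r) // s.card = e} × {s : Finset (Fin n) // s.card = e} =>
        (M.submatrix (p.1.1.orderEmbOfFin p.1.2) (p.2.1.orderEmbOfFin p.2.2)).det) := by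
  classical
  set P : Matrix {s : Finset (Fin r) // s.card = e} {s : Finset (Fin r) // s.card = e} R :=
    Matrix.of fun i j => ((A i).submatrix id (j.1.orderEmbOfFin j.2)).det with hP
  have hcb : ∀ i (t : {s : Finset (Fin n) // s.card = e}),
      ((A i * M).submatrix id (t.1.orderEmbOfFin t.2)).det =
        P.mulVec (fun L => (M.submatrix (L.1.orderEmbOfFin L.2) (t.1.orderEmbOfFin t.2)).det) i := by
    intro i t
    rw [Matrix.submatrix_mul _ _ id id _ Function.bijective_id, cauchyBinet']
    rfl
  apply le_antisymm
  · refine iSup_le fun i => Ideal.span_le.2 ?_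
    rintro _ ⟨t, rfl⟩
    simp only [SetLike.mem_coe, hcb, Matrix.mulVec, dotProduct]
    refine Ideal.sum_mem _ fun L _ => Ideal.mul_mem_left _ _ (Ideal.subset_span ?_)
    exact ⟨(L, t), rfl⟩
  · refine Ideal.span_le.2 ?_
    rintro _ ⟨⟨L, t⟩, rfl⟩
    have := congrFun (congrArg (fun X => Matrix.mulVec X (fun L => (M.submatrix (L.1.orderEmbOfFin L.2) (t.1.orderEmbOfFin t.2)).det)) (Matrix.nonsing_inv_mul P hA)) L
    rw [Matrix.one_mulVec, ← Matrix.mulVec_mulVec] at this
    simp only [SetLike.mem_coe]
    rw [← this]
    show (∑ i, P⁻¹ L i * (P.mulVec fun L' : {s : Finset (Fin r) // s.card = e} =>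
      (M.submatrix (L'.1.orderEmbOfFin L'.2) (t.1.orderEmbOfFin t.2)).det) i) ∈ _
    refine Ideal.sum_mem _ fun i _ => ?_
    refine Ideal.mul_mem_left _ _ ?_
    rw [← hcb]
    exact Ideal.mem_iSup_of_mem i (Ideal.subset_span ⟨t, rfl⟩)

end Groth.Agent.S17662
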