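import Groth.Statements.S17663
import Groth.Agent.SplitRibbon7.Main

set_option linter.style.haveILetI false
set_option backward.isDefEq.respectTransparency false
set_option backward.isDefEq.respectTransparency.types false

set_option autoImplicit false
universe u
open CategoryTheory CategoryTheory.Limits AlgebraicGeometry
open Ribbon

namespace Groth.Agent.S17663

/-- Let D be a reduced connected scheme of finite type over a field k and 𝓛 an invertible O_D-module.
Then some split ribbon on D has conormal bundle 𝓛: there are a k-scheme C locally of finite type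
together with a quasi-coherent ideal I ⊂ O_C with I² = 0, a k-isomorphism from the closed subscheme
V(I) to D, a retraction C → V(I) over k of the inclusion, and an isomorphism of O_D-modules between
I (regarded as a module on V(I) ≅ D) and 𝓛. -/
theorem result (k : Type u) [Field k] (D : Scheme.{u}) [D.Over (Spec (CommRingCat.of k))]
    [LocallyOfFiniteType (D ↘ (Spec (CommRingCat.of k)))] [QuasiCompact (D ↘ (Spec (CommRingCat.of k)))]
    [AlgebraicGeometry.IsReduced D] [ConnectedSpace D]
    (𝓛 : D.Modules) (h𝓛 : PicF.IsInvertible 𝓛) :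
    ∃ (C : Scheme.{u}) (sC : C ⟶ (Spec (CommRingCat.of k))) (I : C.IdealSheafData) (φ : I.subscheme ≅ D) (r : C ⟶ I.subscheme),
      LocallyOfFiniteType sC ∧ I ^ 2 = ⊥ ∧ φ.hom ≫ (D ↘ (Spec (CommRingCat.of k))) = I.subschemeι ≫ sC ∧ I.subschemeι ≫ r = 𝟙 I.subscheme ∧
        r ≫ I.subschemeι ≫ sC = sC ∧
        Nonempty ((Scheme.Modules.pullback (φ.inv ≫ I.subschemeι)).obj (ClSub.idealMod I) ≅ 𝓛) := by
  haveI := Groth.Agent.AmpleLib.isQCoh_of_isInvertible h𝓛
  haveI := Groth.Agent.SplitRibbon7.isFinite_p 𝓛 h𝓛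
  let s := Groth.Agent.SplitRibbon7.sec 𝓛
  let π := Groth.Agent.SplitRibbon7.p 𝓛
  have hι : s.toImage ≫ s.ker.subschemeι = s := s.toImage_imageι
  have hsp : s ≫ π = 𝟙 D := Groth.Agent.SplitRibbon7.sec_p 𝓛
  let φ : s.ker.subscheme ≅ D := (asIso s.toImage).symm
  have hφ : φ.hom ≫ s = s.ker.subschemeι := by
    rw [← Iso.eq_inv_comp]; exact hι.symm
  refine ⟨Groth.Agent.SplitRibbon7.C 𝓛, π ≫ (D ↘ Spec (CommRingCat.of k)), s.ker, φ, π ≫ φ.inv, inferInstance,
    Groth.Agent.SplitRibbon7.I_sq 𝓛, ?_, ?_, ?_, ?_⟩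
  · rw [← hφ, Category.assoc, reassoc_of% hsp]
  · rw [← hφ, Category.assoc, reassoc_of% hsp, Iso.hom_inv_id]
  · simp only [Category.assoc]
    rw [← hφ, Category.assoc, Iso.inv_hom_id_assoc, reassoc_of% hsp]
  · have e : φ.inv ≫ s.ker.subschemeι = s := hι
    rw [e]
    exact Groth.Agent.SplitRibbon7.pullback_idealMod 𝓛

end Groth.Agent.S17663
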