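import Groth.Statements.S17664
import Groth.Agent.Ribbon18.Split

set_option backward.isDefEq.respectTransparency false
set_option backward.isDefEq.respectTransparency.types false
set_option linter.style.haveILetI false

set_option autoImplicit false
universe u
open CategoryTheory CategoryTheory.Limits AlgebraicGeometry
open Ribbon

namespace Groth.Agent.S17664

/-- Let D be a reduced connected scheme of finite type over a field k. Let C and C' be two split ribbons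
on D with isomorphic conormal bundles: k-schemes with quasi-coherent ideals I ⊂ O_C, I' ⊂ O_{C'} of
square zero, k-isomorphisms φ : V(I) ≅ D, φ' : V(I') ≅ D, retractions C → V(I), C' → V(I') over k,
with I and I' invertible when regarded as O_D-modules and an isomorphism θ between them. Then C and
C' are isomorphic over D: there is an isomorphism ψ : C ≅ C' with (V(I) → C → C') = (V(I) ≅ D ≅
V(I') → C'). -/
theorem result (k : Type u) [Field k] (D : Scheme.{u}) [D.Over (Spec (CommRingCat.of k))]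
    [LocallyOfFiniteType (D ↘ (Spec (CommRingCat.of k)))] [QuasiCompact (D ↘ (Spec (CommRingCat.of k)))]
    [AlgebraicGeometry.IsReduced D] [ConnectedSpace D]
    (C : Scheme.{u}) (sC : C ⟶ (Spec (CommRingCat.of k))) (I : C.IdealSheafData) (hI : I ^ 2 = ⊥)
    (φ : I.subscheme ≅ D) (hφ : φ.hom ≫ (D ↘ (Spec (CommRingCat.of k))) = I.subschemeι ≫ sC)
    (r : C ⟶ I.subscheme) (hr : I.subschemeι ≫ r = 𝟙 I.subscheme) (hrk : r ≫ I.subschemeι ≫ sC = sC)
    (C' : Scheme.{u}) (sC' : C' ⟶ (Spec (CommRingCat.of k))) (I' : C'.IdealSheafData) (hI' : I' ^ 2 = ⊥)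
    (φ' : I'.subscheme ≅ D) (hφ' : φ'.hom ≫ (D ↘ (Spec (CommRingCat.of k))) = I'.subschemeι ≫ sC')
    (r' : C' ⟶ I'.subscheme) (hr' : I'.subschemeι ≫ r' = 𝟙 I'.subscheme) (hrk' : r' ≫ I'.subschemeι ≫ sC' = sC')
    (h𝓛 : PicF.IsInvertible ((Scheme.Modules.pullback (φ.inv ≫ I.subschemeι)).obj (ClSub.idealMod I)))
    (h𝓛' : PicF.IsInvertible ((Scheme.Modules.pullback (φ'.inv ≫ I'.subschemeι)).obj (ClSub.idealMod I')))
    (θ : (Scheme.Modules.pullback (φ.inv ≫ I.subschemeι)).obj (ClSub.idealMod I) ≅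
      (Scheme.Modules.pullback (φ'.inv ≫ I'.subschemeι)).obj (ClSub.idealMod I')) :
    ∃ ψ : C ≅ C', I.subschemeι ≫ ψ.hom = φ.hom ≫ φ'.inv ≫ I'.subschemeι ∧ ψ.hom ≫ sC' = sC := by
  haveI : IsClosedImmersion (φ.inv ≫ I.subschemeι) := inferInstance
  haveI : IsClosedImmersion (φ'.inv ≫ I'.subschemeι) := inferInstance
  set i := φ.inv ≫ I.subschemeι with hi
  set i' := φ'.inv ≫ I'.subschemeι with hi'
  have hker : i.ker = I := Groth.Agent.Ribbon18.ker_iso_comp_subschemeι I φ.inv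
  have hker' : i'.ker = I' := Groth.Agent.Ribbon18.ker_iso_comp_subschemeι I' φ'.inv
  have hIs : i.ker ^ 2 = ⊥ := by rw [hker]; exact hI
  have hIs' : i'.ker ^ 2 = ⊥ := by rw [hker']; exact hI'
  have hp : i ≫ sC = D ↘ (Spec (CommRingCat.of k)) := by rw [hi, Category.assoc, ← hφ, φ.inv_hom_id_assoc]
  have hp' : i' ≫ sC' = D ↘ (Spec (CommRingCat.of k)) := by rw [hi', Category.assoc, ← hφ', φ'.inv_hom_id_assoc]
  haveI : IsLocallyNoetherian D := LocallyOfFiniteType.isLocallyNoetherian (D ↘ (Spec (CommRingCat.of k)))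
  haveI : QuasiSeparatedSpace D := IsLocallyNoetherian.quasiSeparatedSpace
  haveI : QuasiSeparated (D ↘ (Spec (CommRingCat.of k))) := QuasiSeparated.of_quasiSeparatedSpace _
  have hqs : ∀ {C : Scheme.{u}} (j : D ⟶ C) [IsClosedImmersion j] (_ : j.ker ^ 2 = ⊥) (s : C ⟶ Spec (CommRingCat.of k)),
      QuasiSeparated s := fun {C} j _ hj s => by
    let e := j.isClosedEmbedding.isEmbedding.toHomeomorphOfSurjective (Groth.Agent.Ribbon18.surjective_i j hj)
    haveI : QuasiSeparatedSpace C := QuasiSeparatedSpace.of_isOpenEmbedding e.symm.isOpenEmbedding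
    exact QuasiSeparated.of_quasiSeparatedSpace s
  haveI := hqs i hIs sC
  haveI := hqs i' hIs' sC'
  have hd₂ := @Groth.Agent.OmegaLib.isUniversal_dOmega _ _ (D ↘ (Spec (CommRingCat.of k)))
    (QuasiSeparated.of_quasiSeparatedSpace _)
  obtain ⟨Ω₁, d₁, hd₁, φ₁, hφ₁, c₁, hc₁, r₁, σ₁, hw₁, hr₁, hσ₁, hS₁⟩ :=
    Groth.Agent.Ribbon18.exists_split_data (i := i) (pC := sC) (D ↘ (Spec (CommRingCat.of k))) hp _ hd₂ (r ≫ φ.hom)
      (by rw [hi, Category.assoc, reassoc_of% hr, φ.inv_hom_id])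
      (by rw [hi, Category.assoc, Category.assoc, φ.hom_inv_id_assoc, hrk])
  obtain ⟨Ω₁', d₁', hd₁', φ₁', hφ₁', c₁', hc₁', r₁', σ₁', hw₁', hr₁', hσ₁', hS₁'⟩ :=
    Groth.Agent.Ribbon18.exists_split_data (i := i') (pC := sC') (D ↘ (Spec (CommRingCat.of k))) hp' _ hd₂ (r' ≫ φ'.hom)
      (by rw [hi', Category.assoc, reassoc_of% hr', φ'.inv_hom_id])
      (by rw [hi', Category.assoc, Category.assoc, φ'.hom_inv_id_assoc, hrk'])
  let α : Omega.conormal i ≅ Omega.conormal i' :=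
    eqToIso (by show (Scheme.Modules.pullback i).obj (ClSub.idealMod i.ker) = _; rw [hker]) ≪≫ θ ≪≫
      eqToIso (by show _ = (Scheme.Modules.pullback i').obj (ClSub.idealMod i'.ker); rw [hker'])
  let β := r₁ ≫ α.hom ≫ φ₁' + c₁ ≫ σ₁' - r₁ ≫ (φ₁ ≫ c₁) ≫ σ₁'
  have hβ₁ : φ₁ ≫ β = α.hom ≫ φ₁' := by
    simp only [β, hw₁, zero_comp, comp_zero, sub_zero, Preadditive.comp_add, reassoc_of% hr₁, reassoc_of% hw₁,
      zero_comp, add_zero]
  have hβ₂ : β ≫ c₁' = c₁ := by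
    simp only [β, hw₁, zero_comp, comp_zero, sub_zero, Preadditive.add_comp, Category.assoc, hw₁', hσ₁',
      Category.comp_id, zero_add]
  haveI : HasExt.{u + 1} D.Modules := HasExt.standard _
  haveI := Groth.Agent.Ribbon18.isIso_mid hS₁ hS₁' α.hom β hβ₁ hβ₂
  obtain ⟨g, hg, hgk, hgp⟩ := Groth.Agent.Ribbon18.exists_hom_of_splitting (f := i) hIs' hφ₁' hc₁' hw₁' hS₁'
    (hp.trans hp'.symm) hc₁ β hβ₂
  obtain ⟨g', hg', hgk', hgp'⟩ := Groth.Agent.Ribbon18.exists_hom_of_splitting (f := i') hIs hφ₁ hc₁ hw₁ hS₁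
    (hp'.trans hp.symm) hc₁' (inv β) (by rw [IsIso.inv_comp_eq, hβ₂])
  have e1 : g' ≫ g = 𝟙 C := by
    have h1 := hgp'.comp hg' hgp hg
    rw [IsIso.hom_inv_id] at h1
    exact Groth.Agent.Ribbon18.hom_ext_of_isPdMap (f := i) hIs hφ₁ hw₁ hS₁
      (by rw [← Category.assoc, hg', hg]) (Category.comp_id _) h1 Groth.Agent.Ribbon18.isPdMap_id
  have e2 : g ≫ g' = 𝟙 C' := by
    have h1 := hgp.comp hg hgp' hg'
    rw [IsIso.inv_hom_id] at h1
    exact Groth.Agent.Ribbon18.hom_ext_of_isPdMap (f := i') hIs' hφ₁' hw₁' hS₁'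
      (by rw [← Category.assoc, hg, hg']) (Category.comp_id _) h1 Groth.Agent.Ribbon18.isPdMap_id
  refine ⟨⟨g', g, e1, e2⟩, ?_, hgk'⟩
  show I.subschemeι ≫ g' = _
  rw [← hg', hi, Category.assoc, φ.hom_inv_id_assoc]

end Groth.Agent.S17664
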