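import Groth.Statements.S17667
import Groth.Agent.TFPush7.Ribbon
import Groth.Agent.S15399
import Groth.Agent.PicDef15.Lift

set_option autoImplicit false
set_option linter.style.haveILetI false
set_option backward.isDefEq.respectTransparency false
set_option backward.isDefEq.respectTransparency.types false
set_option maxHeartbeats 1000000
universe u
open CategoryTheory CategoryTheory.Limits AlgebraicGeometry
open Ribbon

namespace Groth.Agent.S17667

open Groth.Agent.Coherent Groth.Agent.PicLib Groth.Agent.AmpleLib Groth.Agent.EulerLib Groth.Agent.CurveRR24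
open Groth.Agent.TFPush7

/-- Twisting sheaves pulled back multiply by adding the twists. -/
theorem cl_pullback_twist_add (k : Type u) [Field k] {Y : Scheme.{u}} (f : Y ⟶ CohB1.ProjSpace 1 k) {a b c : ℤ}
    (h : a + b = c) :
    PicF.cl ((Scheme.Modules.pullback f).obj (Twist.twistProjSpace 1 k c)) =
      PicF.cl (CohB1.tensorMod ((Scheme.Modules.pullback f).obj (Twist.twistProjSpace 1 k a))
        ((Scheme.Modules.pullback f).obj (Twist.twistProjSpace 1 k b))) := by
  obtain ⟨eT⟩ := SplitP1.nonempty_twist_add k h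
  obtain ⟨e'⟩ := exists_pullTensorIso f (SplitP1.inv_twist k a) (SplitP1.inv_twist k b)
  exact (PicGrp.cl_eq_cl_iff _ _).2 ⟨(Scheme.Modules.pullback f).mapIso eT.symm ≪≫ e'⟩

/-- A homomorphism onto `ℤ` splits off its kernel. -/
theorem exists_addEquiv_prod {G : Type*} [CommGroup G] {H : Type*} [AddCommGroup H] (D : G →* Multiplicative ℤ)
    (c : G) (hc : D c = Multiplicative.ofAdd 1) (K : Subgroup G) (hK : D.ker = K) (κ : K ≃* Multiplicative H) :
    ∃ φ : Additive G ≃+ H × ℤ, ∀ x : G, (φ (Additive.ofMul x)).2 = Multiplicative.toAdd (D x) := by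
  subst hK
  let p : G →* D.ker := MonoidHom.codRestrict
    { toFun := fun x => x / c ^ Multiplicative.toAdd (D x)
      map_one' := by simp
      map_mul' := fun x y => by rw [map_mul, toAdd_mul, zpow_add, mul_div_mul_comm] }
    _ fun x => by simp [MonoidHom.mem_ker, map_zpow, hc, ← ofAdd_zsmul]
  let f : Additive G →+ H × ℤ := AddMonoidHom.mk'
    (fun x => (Multiplicative.toAdd (κ (p x.toMul)), Multiplicative.toAdd (D x.toMul))) fun x y => by
      simp only [toMul_add, map_mul, toAdd_mul, Prod.mk_add_mk]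
  refine ⟨AddEquiv.ofBijective f ⟨?_, ?_⟩, fun x => rfl⟩
  · refine (injective_iff_map_eq_zero f).2 fun x hx => ?_
    obtain ⟨h1, h2⟩ := Prod.ext_iff.1 hx
    have h1' : p x.toMul = 1 := κ.injective (by rw [map_one]; exact h1)
    have h1'' : x.toMul / c ^ Multiplicative.toAdd (D x.toMul) = 1 := congrArg Subtype.val h1'
    rw [show Multiplicative.toAdd (D x.toMul) = 0 from h2, zpow_zero, div_one] at h1''
    exact h1''
  · rintro ⟨h, n⟩
    let y := κ.symm (Multiplicative.ofAdd h)
    have hy : D y.1 = 1 := y.2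
    have hD : D (y.1 * c ^ n) = Multiplicative.ofAdd n := by simp [map_zpow, hc, hy, ← ofAdd_zsmul]
    refine ⟨Additive.ofMul (y.1 * c ^ n), Prod.ext ?_ (congrArg Multiplicative.toAdd hD)⟩
    have : p (y.1 * c ^ n) = y := Subtype.ext (by
      show y.1 * c ^ n / c ^ Multiplicative.toAdd (D (y.1 * c ^ n)) = y.1
      rw [hD, toAdd_ofAdd, mul_div_assoc, div_self', mul_one])
    show Multiplicative.toAdd (κ (p (y.1 * c ^ n))) = h
    rw [this]
    simp [y]

/-- Let C be a ribbon of arithmetic genus g on the projective line over a field k — a proper k-scheme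
with a quasi-coherent ideal I ⊂ O_C, I² = 0, whose closed subscheme D is k-isomorphic to P^1 and
such that I, as an O_D-module, is isomorphic to O_{P^1}(-g-1) — and take the group law on Pic C
given by the tensor product. Then H^1(C, I) = H^1(P^1, O(-g-1)) is a k-vector space of dimension g
and Pic C ≅ H^1(C, I) × ℤ as abelian groups, by an isomorphism whose ℤ-component on the class of an
invertible O_C-module L is the degree χ(L|_D) - χ(O_D) of the restriction of L to D. (Existence of
such an isomorphism; the source derives it from the units sequence 0 → I → O_C^× → O_D^× → 1. Stated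
over an arbitrary field.) -/
theorem result (k : Type u) [Field k] (C : Scheme.{u}) [C.Over (Spec (CommRingCat.of k))]
    [IsProper (C ↘ (Spec (CommRingCat.of k)))]
    (I : C.IdealSheafData) (hI : I ^ 2 = ⊥)
    (e : I.subscheme ≅ CohB1.ProjSpace 1 k)
    (he : e.hom ≫ CohB1.ProjSpace.toSpec 1 k = I.subschemeι ≫ (C ↘ (Spec (CommRingCat.of k))))
    (g : ℕ)
    (hconormal : Nonempty ((Scheme.Modules.pullback I.subschemeι).obj (ClSub.idealMod I) ≅
      (Scheme.Modules.pullback e.hom).obj (Twist.twistProjSpace 1 k (-((g : ℤ) + 1)))))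
    [PicGrp.Law C] :
    Module.finrank k (Coh.HH C (ClSub.idealMod I) 1) = g ∧
    ∃ φ : Additive (PicLoc.PicSet C) ≃+ Coh.HH C (ClSub.idealMod I) 1 × ℤ,
      ∀ (L : C.Modules) (hL : PicF.IsInvertible L),
        (φ (Additive.ofMul (PicGrp.cls L hL))).2 =
          @Curv2.deg k _ I.subscheme ⟨I.subschemeι ≫ (C ↘ (Spec (CommRingCat.of k)))⟩
            ((Scheme.Modules.pullback I.subschemeι).obj L) 1 := by
  haveI : C.IsSeparated := EulerLib.isSeparated_of_proper (X := C) k
  haveI := isLocallyNoetherian_of_proper k (X := C)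
  haveI := isNoetherian_of_proper (X := C) k
  haveI : Coh.IsQCoh (ClSub.idealMod I) := (isCoh_idealMod' I).1
  have hdC := TFPush7.Ribbon.dim_le_one k I e hI
  refine ⟨?_, ?_⟩
  · obtain ⟨eI⟩ := hconormal
    rw [Ribbon.finrank_push k I e he (clIso I.subschemeι (Ribbon.killed_idealMod I hI)) eI 1]
    haveI := isQCoh_of_isInvertible (SplitP1.inv_twist k (-((g : ℤ) + 1)))
    have h := euler_eq_h0_sub_h1 k (X := CohB1.ProjSpace 1 k) (DimLib.PN.topologicalKrullDim_projSpace 1 k).le
      (Twist.twistProjSpace 1 k (-((g : ℤ) + 1))) inferInstance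
    rw [Ribbon.euler_P1, SplitP1.h0_twist] at h
    omega
  letI : I.subscheme.Over (Spec (CommRingCat.of k)) := ⟨I.subschemeι ≫ (C ↘ Spec (CommRingCat.of k))⟩
  haveI : IsProper (I.subscheme ↘ Spec (CommRingCat.of k)) :=
    inferInstanceAs (IsProper (I.subschemeι ≫ (C ↘ Spec (CommRingCat.of k))))
  letI : PicGrp.Law I.subscheme := (PicH127.nonempty_law I.subscheme).some
  have hi : PicGrp.PullMul I.subschemeι := PicH127.pullMul _
  let T : ℤ → I.subscheme.Modules := fun a => (Scheme.Modules.pullback e.hom).obj (Twist.twistProjSpace 1 k a)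
  have hT : ∀ a, PicF.IsInvertible (T a) := fun a => PicLoc.isInvertible_pullback e.hom (SplitP1.inv_twist k a)
  have heuler : ∀ (N : I.subscheme.Modules) (a : ℤ) (eN : N ≅ T a),
      Curv2.euler k I.subscheme N = a + 1 := fun N a eN => by
    rw [← Ribbon.euler_P1 k a]
    refine finsum_congr fun q => ?_
    haveI := isQCoh_of_isInvertible (SplitP1.inv_twist k a)
    haveI := isQCoh_of_isInvertible (hT a)
    haveI := CI14.isIso_clUnit_of_isIso e.hom (Twist.twistProjSpace 1 k a)
    rw [finrank_HH_congr k eN q, (SerreDual.hpush e.hom k he _ q).finrank_eq,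
      ← finrank_HH_congr k (asIso (clUnit e.hom (Twist.twistProjSpace 1 k a))) q]
  obtain ⟨z⟩ := SplitP1.nonempty_twist_zero k
  obtain ⟨p0⟩ := exists_pullStructureIso (X := CohB1.ProjSpace 1 k) e.hom
  let eT0 : T 0 ≅ Coh.structureModule I.subscheme := (Scheme.Modules.pullback e.hom).mapIso z ≪≫ p0
  have hO : Curv2.euler k I.subscheme (Coh.structureModule I.subscheme) = 1 := heuler _ 0 eT0.symm
  have hdegT : ∀ (N : I.subscheme.Modules) (a : ℤ), (N ≅ T a) → Curv2.deg k I.subscheme N 1 = a := fun N a eN => by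
    rw [Curv2.deg, heuler N a eN, hO]
    simp
  let τ : Multiplicative ℤ →* PicLoc.PicSet I.subscheme :=
    MonoidHom.mk' (fun a => PicGrp.cls (T a.toAdd) (hT _)) fun a b => by
      exact Subtype.ext ((cl_pullback_twist_add k e.hom (a := a.toAdd) (b := b.toAdd) rfl).trans
        (PicGrp.cls_mul_cls_val (hT a.toAdd) (hT b.toAdd)).symm)
  have hτ : Function.Bijective τ := by
    refine ⟨fun a b hab => ?_, fun x => ?_⟩
    · obtain ⟨eab⟩ := (PicGrp.cls_eq_cls_iff (hT a.toAdd) (hT b.toAdd)).1 hab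
      exact Multiplicative.toAdd.injective
        ((hdegT _ _ (Iso.refl (T a.toAdd))).symm.trans (hdegT _ _ eab))
    · obtain ⟨N, hN, rfl⟩ := PicGrp.exists_eq_cls x
      obtain ⟨a, ⟨ea⟩⟩ := PicPn22.exists_iso_twist (n := 1) (R := k) _ (PicLoc.isInvertible_pullback e.inv hN)
      refine ⟨Multiplicative.ofAdd a, (PicGrp.cls_eq_cls_iff (hT a) hN).2 ⟨Iso.symm ?_⟩⟩
      exact (Scheme.Modules.pullbackId _).symm.app _ ≪≫
        (Scheme.Modules.pullbackCongr e.hom_inv_id).symm.app _ ≪≫
        ((Scheme.Modules.pullbackComp e.hom e.inv).symm.app _) ≪≫ (Scheme.Modules.pullback e.hom).mapIso ea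
  let τe := MulEquiv.ofBijective τ hτ
  let P := PicGrp.pullHom I.subschemeι hi
  let D : PicLoc.PicSet C →* Multiplicative ℤ := τe.symm.toMonoidHom.comp P
  have hsurj : Function.Surjective I.subschemeι.appTop.hom := by
    haveI := isIso_appTop_toSpec (n := 1) (R := k)
    have h2 : IsIso (I.subschemeι ≫ (C ↘ Spec (CommRingCat.of k))).appTop := by
      rw [← he, Scheme.Hom.comp_appTop]; infer_instance
    rw [Scheme.Hom.comp_appTop] at h2
    exact Function.Surjective.of_comp (g := (C ↘ Spec (CommRingCat.of k)).appTop.hom)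
      (ConcreteCategory.bijective_of_isIso ((C ↘ Spec (CommRingCat.of k)).appTop ≫ I.subschemeι.appTop)).2
  obtain ⟨κ⟩ := Groth.Agent.S15399.result C I (by rw [← pow_two]; exact hI) hi hsurj
  obtain ⟨L₁, hL₁, ⟨e₁⟩⟩ := PicDef15.exists_invertible_lift I hI
    (subsingleton_HH_of_dim _ (d := 1) (by exact_mod_cast hdC.le) one_lt_two) (hT 1)
  have hc : D (PicGrp.cls L₁ hL₁) = Multiplicative.ofAdd 1 := by
    show τe.symm (P _) = _
    rw [MulEquiv.symm_apply_eq, PicGrp.pullHom_cls]
    exact (PicGrp.cls_eq_cls_iff _ (hT 1)).2 ⟨e₁⟩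
  have hker : D.ker = P.ker := by
    ext x
    simp [D, MonoidHom.mem_ker]
  obtain ⟨φ, hφ⟩ := exists_addEquiv_prod D (PicGrp.cls L₁ hL₁) hc P.ker hker κ
  refine ⟨φ, fun L hL => ?_⟩
  rw [hφ]
  obtain ⟨a, ⟨ea⟩⟩ := Ribbon.exists_twist k I e hL
  have ha : D (PicGrp.cls L hL) = Multiplicative.ofAdd a := by
    show τe.symm (P _) = _
    rw [MulEquiv.symm_apply_eq, PicGrp.pullHom_cls]
    exact (PicGrp.cls_eq_cls_iff _ (hT a)).2 ⟨ea⟩
  rw [ha]
  exact (hdegT _ a ea).symm

end Groth.Agent.S17667
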