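import Groth.Statements.S1767
import Groth.Agent.DQCoh.Bound
import Groth.Agent.DQCoh.Local
import Groth.Agent.DCat.WayOut

set_option autoImplicit false
universe u
open CategoryTheory CategoryTheory.Limits AlgebraicGeometry
attribute [local instance] HasDerivedCategory.standard
open Dual

namespace Groth.Agent.S1767

/-- Let f : X → Y be a morphism between quasi-compact quasi-separated schemes. Assume the derived direct
image Rf_* exists and preserves quasi-coherence of cohomology sheaves (both known results), so that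
it restricts to a functor D_QCoh(O_X) → D_QCoh(O_Y), and let a : D_QCoh(O_Y) → D_QCoh(O_X) be a
right adjoint of this restricted functor. Then there is an integer N ≥ 0 such that for every K in
D_QCoh(O_Y) and every integer c, if H^i(K) = 0 for all i ≤ c then H^i(a(K)) = 0 for all i ≤ c − N;
in particular a sends bounded-below objects to bounded-below objects. -/
theorem result (X Y : Scheme.{u}) [CompactSpace X] [QuasiSeparatedSpace X] [CompactSpace Y] [QuasiSeparatedSpace Y] (f : X ⟶ Y) [DCoh.HasRpush f] (h : ∀ K : DCoh.D X, DCoh.IsQCohD K → DCoh.IsQCohD ((DCoh.Rpush f).obj K)) (a : DCoh.DQCoh Y ⥤ DCoh.DQCoh X) (adj : (ObjectProperty.lift DCoh.IsQCohD (ObjectProperty.ι DCoh.IsQCohD ⋙ DCoh.Rpush f) (fun K => h K.obj K.property)) ⊣ a) : ∃ N : ℕ, ∀ (K : DCoh.DQCoh Y) (c : ℤ), (∀ i : ℤ, i ≤ c → IsZero (DCoh.HD K.obj i)) → ∀ i : ℤ, i ≤ c - N → IsZero (DCoh.HD (a.obj K).obj i) := by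
  haveI : QuasiSeparated f := inferInstance
  obtain ⟨_, _⟩ := Groth.Agent.DCat.exists_commShift_Rpush f
  obtain ⟨N₀, hN₀⟩ := Groth.Agent.DQCoh.exists_uniform_bound f
  refine ⟨N₀.toNat + 1, fun K c hK i hi => ?_⟩
  let t : Triangulated.TStructure (DCoh.D X) := DerivedCategory.TStructure.t
  let A : DCoh.D X := (a.obj K).obj
  let m : ℤ := c - (N₀.toNat + 1 : ℕ)
  let L : DCoh.D X := (t.truncLT (m + 1)).obj A
  have hL : DCoh.IsQCohD L := by
    refine Groth.Agent.DQCoh.isQCohD_obj₃
      (Pretriangulated.inv_rot_of_distTriang _ (Pretriangulated.inv_rot_of_distTriang _ (t.triangleLTGE_distinguished (m + 1) A)))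
      (Groth.Agent.DQCoh.isQCohD_shift (a.obj K).property (-1)) (Groth.Agent.DQCoh.isQCohD_shift ?_ (-1))
    exact Groth.Agent.DCat.WayOut.prop_homology_truncGE (Groth.Agent.DQCoh.qc X)
      (fun Z hZ => Groth.Agent.Coherent.isQCoh_of_isZero hZ) A _ (a.obj K).property
  haveI hLm : L.IsLE m := t.isLE_truncLT_obj _ _ _ (by omega)
  haveI : (L⟦m⟧).IsLE 0 := t.isLE_shift L m m 0 (by omega)
  have hRm : ((DCoh.Rpush f).obj (L⟦m⟧)).IsLE (N₀ - 1) :=
    (DerivedCategory.isLE_iff _ _).2 fun j hj =>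
      hN₀ _ (Groth.Agent.DQCoh.isQCohD_shift hL m) this j (by omega)
  haveI hR : ((DCoh.Rpush f).obj L).IsLE (m + (N₀ - 1)) := by
    let tY : Triangulated.TStructure (DCoh.D Y) := DerivedCategory.TStructure.t
    haveI : tY.IsLE ((shiftFunctor (DCoh.D X) m ⋙ DCoh.Rpush f).obj L) (N₀ - 1) := hRm
    haveI : (((DCoh.Rpush f).obj L)⟦m⟧).IsLE (N₀ - 1) :=
      tY.isLE_of_iso (((DCoh.Rpush f).commShiftIso m).app L) (N₀ - 1)
    exact tY.isLE_of_shift _ (m + (N₀ - 1)) m (N₀ - 1) (by omega)
  haveI : K.obj.IsGE (c + 1) := (DerivedCategory.isGE_iff _ _).2 fun j hj => hK j (by omega)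
  have hzero : ∀ g : (DCoh.Rpush f).obj L ⟶ K.obj, g = 0 := fun g =>
    (DerivedCategory.TStructure.t (C := Y.Modules)).zero g (m + (N₀ - 1)) (c + 1) (by omega)
  have hι : (t.truncLTι (m + 1)).app A = 0 := by
    let g : (⟨L, hL⟩ : DCoh.DQCoh X) ⟶ a.obj K := ObjectProperty.homMk ((t.truncLTι (m + 1)).app A)
    have h2 : g = 0 := by
      apply (adj.homEquiv _ _).symm.injective
      apply ObjectProperty.hom_ext
      exact (hzero _).trans (hzero _).symm
    exact congrArg (fun φ : (⟨L, hL⟩ : DCoh.DQCoh X) ⟶ a.obj K => φ.hom) h2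
  haveI : ((t.truncGE (m + 1)).obj A).IsGE (m + 1) := inferInstance
  haveI : Epi ((DerivedCategory.homologyFunctor X.Modules i).map ((t.truncLTι (m + 1)).app A)) :=
    ((DerivedCategory.HomologySequence.exact₂ _ (t.triangleLTGE_distinguished (m + 1) A) i)).epi_f
      ((DerivedCategory.isZero_of_isGE _ (m + 1) i (by simp only [m]; omega)).eq_of_tgt _ _)
  have h0 : (DerivedCategory.homologyFunctor X.Modules i).map ((t.truncLTι (m + 1)).app A) = 0 := by
    rw [hι, Functor.map_zero]
  refine (IsZero.iff_id_eq_zero _).2 ((cancel_epi ((DerivedCategory.homologyFunctor X.Modules i).map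
    ((t.truncLTι (m + 1)).app A))).1 ?_)
  rw [comp_zero]
  exact (congrArg (· ≫ 𝟙 _) h0).trans zero_comp

end Groth.Agent.S1767
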