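import Groth.Statements.S17678
import Mathlib.RingTheory.RingHom.Flat
import Mathlib.Algebra.MonoidAlgebra.Basic

set_option autoImplicit false
universe u v
open DiagMon

namespace Groth.Agent.S17678

/-- Let R be a commutative ring and N an abelian group. Then the ring map R[N] → R[N × N] of monoid
algebras induced by the diagonal n ↦ (n, n), which is the comorphism of the multiplication morphism
of the diagonalizable group scheme Spec R[N] over Spec R, is flat. (The published statement asserts
flatness for every cancellative commutative monoid N, on the ground that N acts freely on N × N
through the diagonal; but for the submonoid N of the natural numbers generated by 2 and 3, the pairs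
(x, x − 1) with x ≥ 3 form one orbit class that is not a free orbit, and the corresponding direct
summand of k[N × N] is the ideal t³k[t] viewed as a module over k[t², t³], which is not flat. The
statement is therefore given for groups, where N × N is a free N-set with basis the pairs (0, b).) -/
theorem result (R : Type u) [CommRing R] (N : Type v)
    [AddCommGroup N] :
    (AddMonoidAlgebra.mapDomainRingHom R ((AddMonoidHom.id N).prod (AddMonoidHom.id N))).Flat := by
  let sh : N × N ≃+ N × N :=
    { toFun := fun p => (p.2, p.2 + p.1), invFun := fun p => (p.2 - p.1, p.1), left_inv := fun p => by simp,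
      right_inv := fun p => by simp, map_add' := fun p q => by simp [add_add_add_comm] }
  let ψ : AddMonoidAlgebra (AddMonoidAlgebra R N) N ≃ₐ[R] AddMonoidAlgebra R (N × N) :=
    (AddMonoidAlgebra.curryAlgEquiv R).symm.trans (AddMonoidAlgebra.domCongr R R sh)
  have key : AddMonoidAlgebra.mapDomainRingHom R ((AddMonoidHom.id N).prod (AddMonoidHom.id N)) =
      (ψ : AddMonoidAlgebra (AddMonoidAlgebra R N) N →+* AddMonoidAlgebra R (N × N)).comp
        (algebraMap (AddMonoidAlgebra R N) (AddMonoidAlgebra (AddMonoidAlgebra R N) N)) := by
    refine AddMonoidAlgebra.ringHom_ext (fun r => ?_) (fun a => ?_) <;>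
      simp [ψ, sh]
  rw [key]
  refine RingHom.Flat.comp ((RingHom.flat_algebraMap_iff).2 inferInstance) ?_
  exact RingHom.Flat.of_bijective ψ.bijective

end Groth.Agent.S17678
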