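import Groth.Statements.S17679
import Mathlib.RingTheory.OrzechProperty
import Mathlib.LinearAlgebra.Pi
import Mathlib.Logic.Equiv.Fintype
import Mathlib.Tactic

set_option autoImplicit false
open DiagMon

namespace Groth.Agent.S17679

/-- For n ≥ 1 the minimal number of generators of ℤ^n as an additive monoid is n + 1: some n + 1
elements generate ℤ^n as a monoid, and every finite set generating ℤ^n as a monoid has at least n +
1 elements. (For n = 0 the empty set generates the zero monoid, so the count n + 1 is stated for n ≥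
1 only.) -/
theorem result (n : ℕ) (hn : 1 ≤ n) :
    (∃ s : Finset (Fin n → ℤ), s.card = n + 1 ∧ AddSubmonoid.closure (s : Set (Fin n → ℤ)) = ⊤) ∧
    ∀ s : Finset (Fin n → ℤ), AddSubmonoid.closure (s : Set (Fin n → ℤ)) = ⊤ → n + 1 ≤ s.card := by
  classical
  constructor
  · let e : Fin n → (Fin n → ℤ) := fun i => Pi.single i 1
    let a : Fin n → ℤ := fun _ => -1
    refine ⟨insert a (Finset.univ.image e), ?_, ?_⟩
    · rw [Finset.card_insert_of_notMem, Finset.card_image_of_injective, Finset.card_univ,
        Fintype.card_fin]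
      · intro i j h
        by_contra hne
        have := congrFun h i
        simp [e, Pi.single_eq_of_ne hne] at this
      · intro h
        obtain ⟨i, -, hi⟩ := Finset.mem_image.1 h
        have := congrFun hi i
        simp [e, a] at this
    · rw [eq_top_iff]
      rintro x -
      set S := AddSubmonoid.closure ((insert a (Finset.univ.image e) : Finset (Fin n → ℤ)) : Set (Fin n → ℤ))
      have he : ∀ i, e i ∈ S := fun i => AddSubmonoid.subset_closure (by simp)
      have ha : a ∈ S := AddSubmonoid.subset_closure (by simp)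
      let m : ℕ := ∑ i, (x i).natAbs
      have hm : ∀ i, 0 ≤ x i + m := fun i => by
        have : (x i).natAbs ≤ m := Finset.single_le_sum (f := fun i => (x i).natAbs) (fun _ _ => Nat.zero_le _) (Finset.mem_univ i)
        omega
      have hx : x = m • a + ∑ i, (x i + m).toNat • e i := by
        funext j
        simp [a, e, Finset.sum_apply, Pi.single_apply, hm j]
      rw [hx]
      exact add_mem (nsmul_mem ha _) (sum_mem fun i _ => nsmul_mem (he i) _)
  · intro s hs
    by_contra hc
    have hcard : s.card ≤ n := by omega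
    let v : Fin n → (Fin n → ℤ) := fun i => if h : (i : ℕ) < s.card then (s.equivFin.symm ⟨i, h⟩ : Fin n → ℤ) else 0
    let Ψ := Fintype.linearCombination ℤ v
    have key : ∀ x ∈ AddSubmonoid.closure (s : Set (Fin n → ℤ)), ∃ c : Fin n → ℤ, (∀ i, 0 ≤ c i) ∧ Ψ c = x := by
      intro x hx
      induction hx using AddSubmonoid.closure_induction with
      | mem y hy =>
        let k := s.equivFin ⟨y, hy⟩
        refine ⟨Pi.single ⟨k, lt_of_lt_of_le k.2 hcard⟩ 1, fun i => ?_, ?_⟩
        · rw [Pi.single_apply]; split_ifs <;> norm_num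
        · simp [Ψ, v, Fintype.linearCombination_apply_single, k]
      | zero => exact ⟨0, fun i => le_refl _, map_zero _⟩
      | add y z _ _ hy hz =>
        obtain ⟨c, hc, rfl⟩ := hy; obtain ⟨d, hd, rfl⟩ := hz
        exact ⟨c + d, fun i => add_nonneg (hc i) (hd i), map_add _ _ _⟩
    have hsur : Function.Surjective Ψ := fun x => by
      obtain ⟨c, -, h⟩ := key x (hs ▸ AddSubmonoid.mem_top x); exact ⟨c, h⟩
    have hinj : Function.Injective Ψ := OrzechProperty.injective_of_surjective_endomorphism _ hsur
    obtain ⟨c, hc0, hc1⟩ := key (-(Ψ (Pi.single ⟨0, hn⟩ 1))) (hs ▸ AddSubmonoid.mem_top _)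
    have h := congrFun (hinj (show Ψ (c + Pi.single ⟨0, hn⟩ 1) = Ψ 0 by simp [map_add, hc1])) ⟨0, hn⟩
    simp at h
    have := hc0 ⟨0, hn⟩
    omega

end Groth.Agent.S17679
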