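import Groth.Statements.S1768
import Groth.Agent.Dual22Lib.SupportAdj

set_option autoImplicit false
universe u
open CategoryTheory CategoryTheory.Limits AlgebraicGeometry
attribute [local instance] HasDerivedCategory.standard
open Dual

namespace Groth.Agent.S1768

open CategoryTheory CategoryTheory.Limits AlgebraicGeometry Groth.Agent


/-- Let Y be a Noetherian scheme and f : X → Y a proper morphism. Assume the derived direct image Rf_*
exists and preserves quasi-coherence of cohomology sheaves (both known results), so that it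
restricts to a functor D_QCoh(O_X) → D_QCoh(O_Y), and let a : D_QCoh(O_Y) → D_QCoh(O_X) be a right
adjoint of this restricted functor. Let V ⊆ Y be a quasi-compact open subset. If Q in D_QCoh(O_Y) is
bounded below (H^i(Q) = 0 for all i below some integer c) and every cohomology sheaf of Q restricts
to zero on V, then every cohomology sheaf of a(Q) restricts to zero on f⁻¹V. (The published
statement has a further case under different hypotheses; only the case of a Noetherian base is
stated here. Its conclusion is that a list of equivalent conditions holds; the condition stated here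
is the first of them.) -/
theorem result (X Y : Scheme.{u}) [IsNoetherian Y] (f : X ⟶ Y) [IsProper f] [DCoh.HasRpush f] (h : ∀ K : DCoh.D X, DCoh.IsQCohD K → DCoh.IsQCohD ((DCoh.Rpush f).obj K)) (a : DCoh.DQCoh Y ⥤ DCoh.DQCoh X) (adj : (ObjectProperty.lift DCoh.IsQCohD (ObjectProperty.ι DCoh.IsQCohD ⋙ DCoh.Rpush f) (fun K => h K.obj K.property)) ⊣ a) (V : Y.Opens) (hV : IsCompact (V : Set Y)) (Q : DCoh.DQCoh Y) (c : ℤ) (hQc : ∀ i : ℤ, i < c → IsZero (DCoh.HD Q.obj i)) (hQV : ∀ i : ℤ, IsZero ((DCoh.HD Q.obj i).restrict V.ι)) (i : ℤ) : IsZero ((DCoh.HD (a.obj Q).obj i).restrict (f ⁻¹ᵁ V).ι) := by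
  haveI : IsLocallyNoetherian X := LocallyOfFiniteType.isLocallyNoetherian f
  haveI := DCat.PullPerf.preservesFiniteLimits_restrict (f ⁻¹ᵁ V).ι
  haveI := DCat.PullPerf.preservesFiniteLimits_restrict V.ι
  haveI : Q.obj.IsGE c := (DerivedCategory.isGE_iff _ _).2 fun j hj => hQc j hj
  have hk : Dual22Lib.AdjGeom.killed V.ι Q.obj := DCat.SuppOpen.isZero_of_hd _ fun j =>
    (hQV j).of_iso (DCat.SuppOpen.hdMapIso (Scheme.Modules.restrictFunctor V.ι) Q.obj j)
  have hz := Dual22Lib.SupportAdj.killed_rep f V Q.obj c Q.property hk (a.obj Q).obj (adj.counit.app Q).hom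
    (a.obj Q).property (fun K hK => Dual22Lib.SupportAdj.rep_counit f h a adj Q K hK)
  exact ((DerivedCategory.homologyFunctor _ i).map_isZero hz).of_iso
    (DCat.SuppOpen.hdMapIso (Scheme.Modules.restrictFunctor (f ⁻¹ᵁ V).ι) (a.obj Q).obj i).symm

end Groth.Agent.S1768
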