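import Groth.Statements.S17683
import Mathlib.Tactic

set_option autoImplicit false
universe u
open DiagMon

namespace Groth.Agent.S17683

/-- Let N be a commutative monoid and F a submonoid of N. The additive projection ℤ[N] → ℤ[F] of monoid
algebras keeping the monomials with exponent in F and killing the others is multiplicative, i.e. F
is a face of N, if and only if for all x, y in N the sum x + y lies in F exactly when both x and y
do. -/
theorem result {N : Type u} [AddCommMonoid N] (F : AddSubmonoid N) :
    (∀ a b : AddMonoidAlgebra ℤ N,
        AddMonoidAlgebra.comapDomain ((↑) : F → N) Subtype.val_injective (a * b) =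
          AddMonoidAlgebra.comapDomain ((↑) : F → N) Subtype.val_injective a *
            AddMonoidAlgebra.comapDomain ((↑) : F → N) Subtype.val_injective b) ↔
      ∀ x y : N, x + y ∈ F ↔ (x ∈ F ∧ y ∈ F) := by
  classical
  have hs : ∀ (x : N) (r : ℤ),
      AddMonoidAlgebra.comapDomain ((↑) : F → N) Subtype.val_injective (AddMonoidAlgebra.single x r) =
        if h : x ∈ F then AddMonoidAlgebra.single (⟨x, h⟩ : F) r else 0 := by
    intro x r
    ext ⟨y, hy⟩
    rw [AddMonoidAlgebra.coeff_comapDomain, Finsupp.comapDomain_apply]
    split_ifs with h
    · simp [Finsupp.single_apply, Subtype.ext_iff]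
    · have : x ≠ y := fun e => h (e ▸ hy)
      simp [Finsupp.single_apply, this]
  constructor
  · intro h x y
    refine ⟨fun hxy => ?_, fun ⟨a, b⟩ => add_mem a b⟩
    have := h (AddMonoidAlgebra.single x 1) (AddMonoidAlgebra.single y 1)
    rw [AddMonoidAlgebra.single_mul_single, hs, hs, hs, dif_pos hxy] at this
    by_contra hc
    rcases not_and_or.1 hc with hx | hy
    · simp [hx] at this
    · simp [hy] at this
  · intro h a b
    induction a using AddMonoidAlgebra.induction_linear with
    | zero => ext; simp
    | add a a' ha ha' =>
      simp only [add_mul, AddMonoidAlgebra.comapDomain_add, ha, ha']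
    | single x r =>
      induction b using AddMonoidAlgebra.induction_linear with
      | zero => ext; simp
      | add b b' hb hb' =>
        simp only [mul_add, AddMonoidAlgebra.comapDomain_add, hb, hb']
      | single y t =>
        rw [AddMonoidAlgebra.single_mul_single, hs, hs, hs]
        by_cases hx : x ∈ F <;> by_cases hy : y ∈ F <;> simp [hx, hy, h]

end Groth.Agent.S17683
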