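import Groth.Statements.S17685
import Groth.Agent.SGA3cLib.Transporter
import Groth.Agent.SGA3cLib.TransporterFP

set_option autoImplicit false
universe u
open CategoryTheory MonoidalCategory CartesianMonoidalCategory MonObj GrpObj AlgebraicGeometry
open AlgGrp

namespace Groth.Agent.S17685

open CategoryTheory.Limits
set_option backward.isDefEq.respectTransparency.types false

/-- Let S be a scheme, F an S-scheme that is finite locally free over S (finite, flat and locally of
finite presentation) with a section e of F over S which is a surjective closed immersion (an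
infinitesimal pointed S-scheme), and X an S-scheme with an action of the pointed scheme F, i.e. an
S-morphism F ×_S X → X through which e acts as the identity. Then the subfunctor of F-fixed points
of X, whose T-points are the T-points x of X with g · x_{T'} = x_{T'} for every S-scheme T' over T
and every T'-point g of F, is represented by a closed subscheme of X. (The source allows F and X to
be algebraic spaces over S; this row is the case of schemes.) -/
theorem result (S : Scheme.{u})
    (F X : Over S) (e : 𝟙_ (Over S) ⟶ F) (act : F ⊗ X ⟶ X) (he : (e ▷ X) ≫ act = (λ_ X).hom)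
    [IsFinite F.hom] [Flat F.hom] [LocallyOfFinitePresentation F.hom]
    [IsClosedImmersion e.left] [Surjective e.left] :
    ∃ (Z : Scheme.{u}) (i : Z ⟶ X.left), IsClosedImmersion i ∧
      ∀ (T : Over S) (x : T ⟶ X), (∃ y : T.left ⟶ Z, y ≫ i = x.left) ↔
        ∀ (T' : Over S) (t : T' ⟶ T) (g : T' ⟶ F), lift g (t ≫ x) ≫ act = t ≫ x := by
  let ψ : F ⊗ X ⟶ X := CartesianMonoidalCategory.snd F X
  let c : (F ⊗ X).left ⟶ pullback X.hom X.hom :=
    pullback.lift act.left ψ.left ((Over.w act).trans (Over.w ψ).symm)
  let j : pullback c (pullback.diagonal X.hom) ⟶ (F ⊗ X).left := pullback.fst _ _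
  haveI : IsImmersion j := MorphismProperty.pullback_fst (P := @IsImmersion) _ _ inferInstance
  have hc1 : c ≫ pullback.fst X.hom X.hom = act.left := pullback.lift_fst _ _ _
  have hc2 : c ≫ pullback.snd X.hom X.hom = ψ.left := pullback.lift_snd _ _ _
  have hfac : ∀ {W : Scheme.{u}} (w : W ⟶ (F ⊗ X).left),
      (∃ l, l ≫ j = w) ↔ w ≫ act.left = w ≫ ψ.left := by
    intro W w
    constructor
    · rintro ⟨l, rfl⟩
      have h1 : j ≫ act.left = pullback.snd c (pullback.diagonal X.hom) := by
        rw [← hc1, ← Category.assoc, pullback.condition, Category.assoc, pullback.diagonal_fst, Category.comp_id]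
      have h2 : j ≫ ψ.left = pullback.snd c (pullback.diagonal X.hom) := by
        rw [← hc2, ← Category.assoc, pullback.condition, Category.assoc, pullback.diagonal_snd, Category.comp_id]
      rw [Category.assoc, Category.assoc, h1, h2]
    · intro h
      refine ⟨pullback.lift w (w ≫ act.left) ?_, pullback.lift_fst _ _ _⟩
      apply pullback.hom_ext
      · rw [Category.assoc, Category.assoc, hc1, pullback.diagonal_fst, Category.comp_id]
      · rw [Category.assoc, Category.assoc, hc2, pullback.diagonal_snd, Category.comp_id]
        exact h.symm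
  haveI : IsClosedImmersion j := by
    have hsect : ∃ l, l ≫ j = (e ▷ X).left := by
      rw [hfac]
      show ((e ▷ X) ≫ act).left = ((e ▷ X) ≫ ψ).left
      rw [he, whiskerRight_snd, leftUnitor_hom]
    haveI : Surjective (e ▷ X).left := by
      have hsq : IsPullback (CartesianMonoidalCategory.fst (𝟙_ (Over S)) X).left (e ▷ X).left e.left
          (CartesianMonoidalCategory.fst F X).left := by
        have e1 : (e ▷ X).left ≫ pullback.fst F.hom X.hom = pullback.fst (𝟙_ (Over S)).hom X.hom ≫ e.left :=
          Over.whiskerRight_left_fst e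
        have hbig : IsPullback (pullback.fst (𝟙_ (Over S)).hom X.hom) ((e ▷ X).left ≫ pullback.snd F.hom X.hom)
            (e.left ≫ F.hom) X.hom := by
          rw [show (e ▷ X).left ≫ pullback.snd F.hom X.hom = pullback.snd (𝟙_ (Over S)).hom X.hom from
            Over.whiskerRight_left_snd e, Over.w e]
          exact IsPullback.of_hasPullback (𝟙_ (Over S)).hom X.hom
        exact IsPullback.of_bot hbig e1.symm (IsPullback.of_hasPullback F.hom X.hom)
      exact MorphismProperty.of_isPullback hsq ‹Surjective e.left›
    obtain ⟨l, hl⟩ := hsect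
    refine IsClosedImmersion.of_isPreimmersion j ?_
    have : Set.range j = Set.univ := Set.eq_univ_of_forall fun z => by
      obtain ⟨w, hw⟩ := (e ▷ X).left.surjective z
      exact ⟨l w, by rw [← Scheme.Hom.comp_apply, hl, hw]⟩
    rw [this]
    exact isClosed_univ
  obtain ⟨Z, i, hi, hZ, -⟩ := Groth.Agent.SGA3cLib.WeilRes.exists_closedImmersion
    (CartesianMonoidalCategory.snd F X).left j
    (S5356.essentiallyFree_baseChange F.hom X.hom (Groth.Agent.SGA3cLib.TransporterFP.essentiallyFree_of_finite F.hom))
  refine ⟨Z, i, hi, fun T x => ?_⟩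
  have hsq : IsPullback (F ◁ x).left (CartesianMonoidalCategory.snd F T).left
      (CartesianMonoidalCategory.snd F X).left x.left := by
    refine IsPullback.of_right (h₁₂ := (CartesianMonoidalCategory.fst F X).left) (v₁₃ := F.hom) (h₂₂ := X.hom) ?_
      (congrArg CommaMorphism.left (whiskerLeft_snd F x)) (IsPullback.of_hasPullback F.hom X.hom)
    rw [show (F ◁ x).left ≫ (CartesianMonoidalCategory.fst F X).left = (CartesianMonoidalCategory.fst F T).left from
      congrArg CommaMorphism.left (whiskerLeft_fst F x), Over.w x]
    exact IsPullback.of_hasPullback F.hom T.hom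
  rw [← hZ]
  constructor
  · rintro ⟨l, hl⟩ T' t g
    have h : (F ◁ x) ≫ act = (F ◁ x) ≫ ψ := by
      apply Over.OverMorphism.ext
      show (F ◁ x).left ≫ act.left = (F ◁ x).left ≫ ψ.left
      rw [← hfac]
      exact ⟨hsq.isoPullback.hom ≫ l, by rw [Category.assoc, hl, IsPullback.isoPullback_hom_fst]⟩
    rw [← lift_whiskerLeft g t x, Category.assoc, h, whiskerLeft_snd, lift_snd_assoc]
  · intro h
    have h' := h (F ⊗ T) (CartesianMonoidalCategory.snd F T) (CartesianMonoidalCategory.fst F T)
    have e' : CartesianMonoidalCategory.lift (CartesianMonoidalCategory.fst F T) (CartesianMonoidalCategory.snd F T ≫ x) = F ◁ x := by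
      apply CartesianMonoidalCategory.hom_ext <;> simp
    rw [e'] at h'
    obtain ⟨l, hl⟩ := (hfac (F ◁ x).left).2 (congrArg CommaMorphism.left (h'.trans (whiskerLeft_snd F x).symm))
    exact ⟨hsq.isoPullback.inv ≫ l, by rw [Category.assoc, hl, IsPullback.isoPullback_inv_fst]⟩

end Groth.Agent.S17685
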