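import Groth.Statements.S17687
import Mathlib.RingTheory.GradedAlgebra.Homogeneous.Ideal
import Mathlib.Data.Finset.Powerset

set_option autoImplicit false
universe u v w
open DiagMon

namespace Groth.Agent.S17687

/-- Let R be a commutative ring and A a commutative R-algebra of finite type graded by a commutative
monoid M. Then the set of ideals J_N, N running over all submonoids of M, where J_N is generated by
the homogeneous elements of degree not in N (the ideal of the attractor of Spec A for the magnet N),
is finite: Spec A has finitely many attractors and hence finitely many pure magnets. (The source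
assumes Spec A of finite presentation over the base; its proof uses only a finite set of homogeneous
algebra generators, so finite type is assumed here.) -/
theorem result (R : Type u) [CommRing R] (A : Type v) [CommRing A]
    [Algebra R A] [Algebra.FiniteType R A] (M : Type w) [AddCommMonoid M] [DecidableEq M]
    (𝒜 : M → Submodule R A) [GradedAlgebra 𝒜] :
    (Set.range fun N : AddSubmonoid M => Ideal.span {a : A | ∃ m : M, m ∉ N ∧ a ∈ 𝒜 m}).Finite := by
  classical
  obtain ⟨t, ht⟩ := (Algebra.FiniteType.out : (⊤ : Subalgebra R A).FG)
  let G : Finset (M × A) := t.biUnion fun a => (DirectSum.decompose 𝒜 a).support.image fun i => (i, (DirectSum.decompose 𝒜 a i : A))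
  have hG : ∀ p ∈ G, p.2 ∈ 𝒜 p.1 := by
    intro p hp
    simp only [G, Finset.mem_biUnion, Finset.mem_image] at hp
    obtain ⟨a, -, i, -, rfl⟩ := hp
    exact SetLike.coe_mem _
  have key : ∀ N : AddSubmonoid M, Ideal.span {a : A | ∃ m : M, m ∉ N ∧ a ∈ 𝒜 m} =
      Ideal.span (((G.filter fun p => p.1 ∉ N).image Prod.snd : Finset A) : Set A) := by
    intro N
    set K := Ideal.span (((G.filter fun p => p.1 ∉ N).image Prod.snd : Finset A) : Set A) with hK
    have hKh : K.IsHomogeneous 𝒜 := Ideal.homogeneous_span _ _ fun x hx => by
      simp only [Finset.coe_image, Set.mem_image, Finset.mem_coe, Finset.mem_filter] at hx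
      obtain ⟨p, ⟨hp, -⟩, rfl⟩ := hx
      exact ⟨p.1, hG p hp⟩
    refine le_antisymm ?_ (Ideal.span_mono fun x hx => ?_)
    · let P : Subalgebra R A :=
        { carrier := {a | ∀ m, m ∉ N → (DirectSum.decompose 𝒜 a m : A) ∈ K}
          add_mem' := fun {a b} ha hb m hm => by
            rw [DirectSum.decompose_add, DirectSum.add_apply, AddMemClass.coe_add]
            exact add_mem (ha m hm) (hb m hm)
          mul_mem' := fun {a b} ha hb m hm => by
            rw [DirectSum.decompose_mul, DirectSum.coe_mul_apply]
            refine sum_mem fun ij hij => ?_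
            rw [Finset.mem_filter] at hij
            rcases not_and_or.1 (fun h : ij.1 ∈ N ∧ ij.2 ∈ N => hm (hij.2 ▸ add_mem h.1 h.2)) with h | h
            · exact K.mul_mem_right _ (ha _ h)
            · exact K.mul_mem_left _ (hb _ h)
          one_mem' := fun m hm => by
            rw [DirectSum.decompose_of_mem_ne 𝒜 SetLike.GradedOne.one_mem (fun h : (0 : M) = m => hm (h ▸ zero_mem N))]
            exact zero_mem K
          zero_mem' := fun m hm => by simp
          algebraMap_mem' := fun r m hm => by
            rw [DirectSum.decompose_of_mem_ne 𝒜 (SetLike.algebraMap_mem_graded 𝒜 r) (fun h : (0 : M) = m => hm (h ▸ zero_mem N))]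
            exact zero_mem K }
      have hP : P = ⊤ := by
        rw [eq_top_iff, ← ht, Algebra.adjoin_le_iff]
        intro a ha m hm
        by_cases h : DirectSum.decompose 𝒜 a m = 0
        · simp [h]
        · refine Ideal.subset_span ?_
          simp only [Finset.coe_image, Set.mem_image, Finset.mem_coe, Finset.mem_filter]
          refine ⟨(m, (DirectSum.decompose 𝒜 a m : A)), ⟨?_, hm⟩, rfl⟩
          exact Finset.mem_biUnion.2 ⟨a, ha, Finset.mem_image.2 ⟨m, DFinsupp.mem_support_iff.2 h, rfl⟩⟩
      rw [Ideal.span_le]
      rintro a ⟨m, hm, ha⟩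
      have := (hP ▸ Algebra.mem_top : a ∈ P) m hm
      rwa [DirectSum.decompose_of_mem_same 𝒜 ha] at this
    · simp only [Finset.coe_image, Set.mem_image, Finset.mem_coe, Finset.mem_filter] at hx
      obtain ⟨p, ⟨hp, hpN⟩, rfl⟩ := hx
      exact ⟨p.1, hpN, hG p hp⟩
  refine Set.Finite.subset (G.powerset.finite_toSet.image fun S => Ideal.span ((S.image Prod.snd : Finset A) : Set A)) ?_
  rintro _ ⟨N, rfl⟩
  exact ⟨G.filter fun p => p.1 ∉ N, Finset.mem_powerset.2 (Finset.filter_subset _ _), (key N).symm⟩

end Groth.Agent.S17687
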