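import Groth.Statements.S17688
import Groth.Agent.AbVarLib.DenseExt
open CategoryTheory MonoidalCategory CartesianMonoidalCategory MonObj GrpObj

set_option autoImplicit false
universe u
open CategoryTheory CategoryTheory.Limits AlgebraicGeometry MonObj
open Neron

namespace Groth.Agent.S17688

/-- Let R be a discrete valuation ring whose fraction field K has characteristic p > 0, and let U be a
flat, separated, commutative group scheme over Spec R whose generic fibre U_K is annihilated by a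
power p^N of p (in the group of endomorphisms of U_K as a K-scheme, the p^N-th power of the identity
is the unit). Then for every prime ℓ invertible in R the ℓ-th power map of U (the ℓ-th power of the
identity in the group of R-morphisms U → U) is an isomorphism. -/
theorem result
    (R : Type u) [CommRing R] [IsDomain R] [IsDiscreteValuationRing R]
    (p : ℕ) (hp : p.Prime) [CharP (FractionRing R) p]
    (U : Over (Spec (CommRingCat.of R))) [GrpObj U] [IsCommMonObj U] [Flat U.hom] [IsSeparated U.hom]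
    (N : ℕ) (hN : (𝟙 (Red.bc (Neron.genPt R) U) : Red.bc (Neron.genPt R) U ⟶ Red.bc (Neron.genPt R) U) ^ (p ^ N) = 1)
    (ℓ : ℕ) (hℓ : ℓ.Prime) (hℓu : IsUnit (ℓ : R)) :
    IsIso ((𝟙 U : U ⟶ U) ^ ℓ) := by
  have hmap : ∀ (m : ℕ), (Over.pullback (Neron.genPt R)).map ((𝟙 U : U ⟶ U) ^ m) =
      ((𝟙 _ : Red.bc (Neron.genPt R) U ⟶ Red.bc (Neron.genPt R) U) ^ m) := fun m => by
    rw [← CategoryTheory.Functor.map_id]
    exact map_pow ((Over.pullback (Neron.genPt R)).homMonoidHom) _ m
  have hU : ((𝟙 U : U ⟶ U) ^ (p ^ N)) = 1 := by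
    refine Groth.Agent.AbVarLib.eq_of_generic R (FractionRing R) ?_
    exact ((hmap _).trans hN).trans (by rw [← pow_zero (𝟙 U), hmap, pow_zero])
  have hlp : ℓ ≠ p := by
    rintro rfl
    have := hℓu.map (algebraMap R (FractionRing R))
    rw [map_natCast, CharP.cast_eq_zero] at this
    exact not_isUnit_zero this
  obtain ⟨a, ha⟩ : ∃ a : ℕ, ℓ * a % (p ^ N) = 1 % (p ^ N) := by
    by_cases h1 : 1 < p ^ N
    · obtain ⟨a, -, ha⟩ := Nat.exists_mul_mod_eq_one_of_coprime
        (Nat.Coprime.pow_right N ((Nat.coprime_primes hℓ hp).2 hlp)) h1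
      exact ⟨a, ha.trans (Nat.one_mod_eq_one.2 (by omega)).symm⟩
    · exact ⟨0, by rw [show p ^ N = 1 from le_antisymm (by omega) (Nat.one_le_pow _ _ hp.pos)]; simp [Nat.mod_one]⟩
  have hpow : ∀ m, ((𝟙 U : U ⟶ U) ^ m) = (𝟙 U : U ⟶ U) ^ (m % (p ^ N)) := fun m => pow_eq_pow_mod m hU
  have h1 : (𝟙 U : U ⟶ U) ^ (ℓ * a) = 𝟙 U := by rw [hpow, ha, ← hpow, pow_one]
  refine ⟨(𝟙 U : U ⟶ U) ^ a, ?_, ?_⟩
  · rw [MonObj.comp_pow, Category.comp_id, ← pow_mul, h1]
  · rw [MonObj.comp_pow, Category.comp_id, ← pow_mul, mul_comm, h1]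

end Groth.Agent.S17688
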