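import Groth.Statements.S17689
import Groth.Agent.UnivHomeo.Scheme
import Mathlib.RingTheory.IntegralClosure.IntegrallyClosed
import Mathlib.RingTheory.DiscreteValuationRing.Basic
import Mathlib.RingTheory.Polynomial.RationalRoot
open CategoryTheory CategoryTheory.Limits AlgebraicGeometry

set_option autoImplicit false
universe u
open CategoryTheory AlgebraicGeometry
open Neron

namespace Groth.Agent.S17689

/-- Let R ⊆ S be a finite extension of discrete valuation rings (the structure map R → S is injective
and S is a finite R-module) such that the induced extension K ⊆ L of fraction fields is purely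
inseparable. Then the morphism Spec S → Spec R is a universal homeomorphism: every base change of it
is a homeomorphism on underlying spaces. (No excellence hypothesis is needed here.) -/
theorem result
    (R S K L : Type u) [CommRing R] [IsDomain R] [IsDiscreteValuationRing R]
    [CommRing S] [IsDomain S] [IsDiscreteValuationRing S] [Algebra R S] [Module.Finite R S] [FaithfulSMul R S]
    [Field K] [Field L] [Algebra R K] [IsFractionRing R K] [Algebra S L] [IsFractionRing S L]
    [Algebra K L] [Algebra R L] [IsScalarTower R S L] [IsScalarTower R K L] [IsPurelyInseparable K L] :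
    FlatMor.IsUnivHomeo (Spec.map (CommRingCat.ofHom (algebraMap R S))) := by
  let φ := algebraMap R S
  refine (Groth.Agent.UnivHomeo.isUnivHomeo_iff φ).2 ⟨(algebraMap_isIntegral_iff).2 inferInstance, ?_, ?_⟩
  swap
  · rw [(RingHom.injective_iff_ker_eq_bot φ).1 (FaithfulSMul.algebraMap_injective R S)]
    exact bot_le
  intro M _ g₁ g₂ hg
  obtain ⟨q, hq⟩ := ExpChar.exists K
  ext s
  obtain ⟨n, a, ha⟩ := IsPurelyInseparable.pow_mem K q (algebraMap S L s)
  have hint : IsIntegral R (algebraMap K L a) := by
    rw [ha, ← map_pow]
    exact (Algebra.IsIntegral.isIntegral (s ^ q ^ n)).map (IsScalarTower.toAlgHom R S L)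
  obtain ⟨r, hr⟩ := IsIntegrallyClosed.isIntegral_iff.1 ((isIntegral_algebraMap_iff (algebraMap K L).injective).1 hint)
  have hs : φ r = s ^ q ^ n := IsFractionRing.injective S L (by
    rw [map_pow, ← ha, ← hr, ← IsScalarTower.algebraMap_apply R S L, ← IsScalarTower.algebraMap_apply R K L])
  have key : g₁ s ^ q ^ n = g₂ s ^ q ^ n := by
    rw [← map_pow, ← map_pow, ← hs]
    exact RingHom.congr_fun hg r
  rcases hq with _ | hp
  · simpa using key
  · have : Fact q.Prime := ⟨hp⟩
    have hR : CharP R q := RingHom.charP _ (IsFractionRing.injective R K) q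
    have : CharP M q := by
      have h0 : (q : M) = 0 := by
        rw [← map_natCast (g₁.comp φ) q, CharP.cast_eq_zero R q, map_zero]
      obtain ⟨c, hc⟩ := CharP.exists M
      have := ((Nat.dvd_prime hp).1 ((CharP.cast_eq_zero_iff M c q).1 h0)).resolve_left (CharP.char_ne_one M c)
      exact this ▸ hc
    exact iterateFrobenius_inj M q n key

end Groth.Agent.S17689
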