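import Groth.Statements.S17690
import Groth.Agent.CAlgH.NagataIC
import Groth.Agent.S2654
import Mathlib
-- import your own Groth.Agent.* helpers here

set_option autoImplicit false
universe u
open Neron

namespace Groth.Agent.S17690

/-- Let R be an excellent discrete valuation ring (Noetherian, universally catenary, G-ring, J-2) with
fraction field K, and let L be a finite purely inseparable field extension of K. Then the integral
closure S of R in L is a discrete valuation ring, and S is a finite R-module. -/
theorem result
    (R K L : Type u) [CommRing R] [IsDomain R] [IsDiscreteValuationRing R] (hR : EGA4.IsExcellent R)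
    [Field K] [Algebra R K] [IsFractionRing R K] [Field L] [Algebra K L] [FiniteDimensional K L]
    [IsPurelyInseparable K L] [Algebra R L] [IsScalarTower R K L] :
    IsDiscreteValuationRing ↥(integralClosure R L) ∧ Module.Finite R ↥(integralClosure R L) := by
  obtain ⟨p, hp⟩ := IsDiscreteValuationRing.exists_irreducible R
  have hft : Algebra.FiniteType R K := by
    refine ⟨⟨{(algebraMap R K p)⁻¹}, eq_top_iff.2 fun x _ => ?_⟩⟩
    obtain ⟨a, b, hb, rfl⟩ := IsFractionRing.div_surjective (A := R) x
    obtain ⟨n, w, rfl⟩ := IsDiscreteValuationRing.eq_unit_mul_pow_irreducible (nonZeroDivisors.ne_zero hb) hp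
    have e : algebraMap R K a / algebraMap R K ((w : R) * p ^ n) =
        algebraMap R K (a * (↑w⁻¹ : R)) * ((algebraMap R K p)⁻¹) ^ n := by
      rw [map_mul, map_mul, map_pow, inv_pow, map_units_inv]
      field_simp
    rw [e]
    exact Subalgebra.mul_mem _ (Subalgebra.algebraMap_mem _ _)
      (Subalgebra.pow_mem _ (Algebra.subset_adjoin (by simp)) n)
  have : Algebra.FiniteType K L := inferInstance
  have : Algebra.FiniteType R L := Algebra.FiniteType.trans hft this
  have hN : CAlg.IsNagata R := Groth.Agent.S2654.result R ⟨hR.1, hR.2.2.1, hR.2.2.2⟩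
  have hfin : Module.Finite R ↥(integralClosure R L) := Groth.Agent.CAlgH.finite_ic_of_isNagata hN L
  refine ⟨?_, hfin⟩
  let S := ↥(integralClosure R L)
  have hinj : Function.Injective (algebraMap R L) := by
    rw [IsScalarTower.algebraMap_eq R K L]
    exact (algebraMap K L).injective.comp (IsFractionRing.injective R K)
  have : IsFractionRing S L := integralClosure.isFractionRing_of_finite_extension K L
  have : IsIntegrallyClosed S := integralClosure.isIntegrallyClosedOfFiniteExtension K
  have : IsNoetherianRing S := isNoetherian_of_tower R inferInstance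
  have : Ring.DimensionLEOne S := Ring.DimensionLEOne.of_isIntegral R S
  have : IsDedekindRing S := (isDedekindRing_iff S L).2 ⟨inferInstance, inferInstance, fun {x} hx => (isIntegrallyClosed_iff L).1 inferInstance hx⟩
  have : IsDedekindDomain S := ⟨⟩
  have hinjS : Function.Injective (algebraMap R S) :=
    fun a b h => hinj (congrArg (fun s : S => (s : L)) h)
  have key : ∀ P : Ideal S, P.IsMaximal → ∀ Q : Ideal S, Q.IsMaximal → P ≤ Q := by
    intro P hP Q hQ x hx
    have hR' : ∀ M : Ideal S, M.IsMaximal → M.comap (algebraMap R S) = IsLocalRing.maximalIdeal R := fun M _ =>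
      IsLocalRing.eq_maximalIdeal (Ideal.isMaximal_comap_of_isIntegral_of_isMaximal M)
    obtain ⟨q, hq⟩ := ExpChar.exists K
    obtain ⟨n, a, ha⟩ := IsPurelyInseparable.pow_mem K q (x : L)
    have hint : IsIntegral R (algebraMap K L a) := by rw [ha]; exact x.2.pow _
    obtain ⟨r, hr⟩ := IsIntegrallyClosed.isIntegral_iff.1 ((isIntegral_algebraMap_iff (algebraMap K L).injective).1 hint)
    have hxr : algebraMap R S r = x ^ q ^ n := Subtype.ext (by
      show algebraMap R L r = (x : L) ^ q ^ n
      rw [← ha, ← hr, ← IsScalarTower.algebraMap_apply])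
    have h1 : r ∈ P.comap (algebraMap R S) := by
      rw [Ideal.mem_comap, hxr]
      exact P.pow_mem_of_mem hx _ (pow_pos (expChar_pos K q) n)
    rw [hR' P hP, ← hR' Q hQ, Ideal.mem_comap, hxr] at h1
    exact hQ.isPrime.mem_of_pow_mem _ h1
  obtain ⟨M, hM⟩ := Ideal.exists_maximal S
  have : IsLocalRing S := IsLocalRing.of_unique_max_ideal
    ⟨M, hM, fun P hP => hP.eq_of_le hM.ne_top (key P hP M hM)⟩
  have : IsPrincipalIdealRing S := IsPrincipalIdealRing.of_finite_primes (by
    refine Set.Finite.subset (Set.toFinite {(⊥ : Ideal S), M}) fun P hP => ?_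
    by_cases h0 : P = ⊥
    · simp [h0]
    · have hPm : P.IsMaximal := (show P.IsPrime from hP).isMaximal h0
      simp [hPm.eq_of_le hM.ne_top (key P hPm M hM)])
  refine { not_a_field' := fun h0 => hp.ne_zero (hinjS ?_) }
  rw [map_zero]
  have : M = ⊥ := (IsLocalRing.eq_maximalIdeal hM).trans h0
  have h1 : p ∈ M.comap (algebraMap R S) := by
    rw [IsLocalRing.eq_maximalIdeal (Ideal.isMaximal_comap_of_isIntegral_of_isMaximal M)]
    exact hp.not_isUnit
  rwa [this, Ideal.mem_comap, Ideal.mem_bot] at h1

end Groth.Agent.S17690
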