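import Groth.Statements.S17693
import Groth.Agent.FlatMor12.MorSAF
import Groth.Agent.CohDer1.QP.Final
import Groth.Agent.AmpleLib.Ample
import Groth.Agent.VarietyLib.FiniteClosedCover
-- import your own Groth.Agent.* helpers here

set_option autoImplicit false
set_option backward.isDefEq.respectTransparency false
set_option backward.isDefEq.respectTransparency.types false
universe u
open CategoryTheory CategoryTheory.Limits AlgebraicGeometry
open WeilRes

namespace Groth.Agent.S17693


open CategoryTheory Limits AlgebraicGeometry in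
theorem exists_affine_of_finite_field {k : Type u} [Field k] (G : Over (Spec (CommRingCat.of k))) [GrpObj G]
    [LocallyOfFiniteType G.hom] [QuasiCompact G.hom] (Z : Set G.left) (hZ : Z.Finite) :
    ∃ U : G.left.Opens, IsAffineOpen U ∧ Z ⊆ U := by
  obtain ⟨L, hL⟩ := Groth.Agent.CohDer1.QP.exists_ample G
  obtain ⟨m, -, b, hb, -, haff⟩ := Groth.Agent.AmpleLib.exists_affine_glocus_finite (U := ⊤) hL Z hZ fun _ _ => trivial
  exact ⟨_, haff, hb⟩

open CategoryTheory Limits AlgebraicGeometry in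
theorem exists_affine_of_finite_artinian {A : Type u} [CommRing A] [IsArtinianRing A]
    (G : Over (Spec (CommRingCat.of A))) [GrpObj G] [LocallyOfFiniteType G.hom] [QuasiCompact G.hom]
    (Z : Set G.left) (hZ : Z.Finite) : ∃ U : G.left.Opens, IsAffineOpen U ∧ Z ⊆ U := by
  classical
  let r : ∀ p : PrimeSpectrum A, Spec (CommRingCat.of (A ⧸ p.asIdeal)) ⟶ Spec (CommRingCat.of A) :=
    fun p => Spec.map (CommRingCat.ofHom (Ideal.Quotient.mk p.asIdeal))
  have hr : ∀ p, IsClosedImmersion (r p) := fun p =>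
    IsClosedImmersion.spec_of_surjective (CommRingCat.ofHom (Ideal.Quotient.mk p.asIdeal)) Ideal.Quotient.mk_surjective
  have hrange : ∀ p : PrimeSpectrum A, Set.range (r p) = {p} := fun p => by
    have := p.isPrime
    show Set.range (PrimeSpectrum.comap (Ideal.Quotient.mk p.asIdeal)) = {p}
    rw [range_comap_of_surjective _ _ Ideal.Quotient.mk_surjective, Ideal.mk_ker]
    ext q
    refine ⟨fun hq => PrimeSpectrum.ext (((IsArtinianRing.isMaximal_of_isPrime p.asIdeal).eq_of_le q.isPrime.ne_top hq).symm), ?_⟩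
    rintro rfl
    exact le_refl q.asIdeal
  let i : ∀ p, pullback G.hom (r p) ⟶ G.left := fun p => pullback.fst G.hom (r p)
  have hi : ∀ p, Set.range (i p) = G.hom ⁻¹' {p} := fun p => by
    rw [Scheme.Pullback.range_fst, hrange p]
  have hV : ∀ p, ∃ V : (pullback G.hom (r p)).Opens, IsAffineOpen V ∧ i p ⁻¹' Z ⊆ V := by
    intro p
    have := p.isPrime
    have : p.asIdeal.IsMaximal := IsArtinianRing.isMaximal_of_isPrime p.asIdeal
    letI : Field (A ⧸ p.asIdeal) := Ideal.Quotient.field p.asIdeal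
    haveI : LocallyOfFiniteType (Red.bc (r p) G).hom := inferInstanceAs (LocallyOfFiniteType (pullback.snd G.hom (r p)))
    haveI : QuasiCompact (Red.bc (r p) G).hom := inferInstanceAs (QuasiCompact (pullback.snd G.hom (r p)))
    haveI := hr p
    exact exists_affine_of_finite_field (Red.bc (r p) G) (i p ⁻¹' Z)
      (hZ.preimage (i p).isClosedEmbedding.injective.injOn)
  choose V hV hVZ using hV
  haveI : Finite (PrimeSpectrum A) := inferInstance
  haveI : DiscreteTopology (PrimeSpectrum A) := inferInstance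
  haveI : ∀ p, IsClosedImmersion (i p) := fun p => by
    haveI := hr p
    infer_instance
  have hopen : ∀ p, IsOpen (i p '' (V p : Set _)) := fun p => by
    obtain ⟨O, hO, hOV⟩ := (i p).isClosedEmbedding.isInducing.isOpen_iff.1 (V p).isOpen
    rw [show i p '' (V p : Set _) = O ∩ G.hom ⁻¹' {p} by rw [← hOV, Set.image_preimage_eq_inter_range, hi]]
    exact hO.inter ((isOpen_discrete _).preimage G.hom.continuous)
  let U : G.left.Opens := ⟨⋃ p, i p '' (V p : Set _), isOpen_iUnion hopen⟩
  have hmem : ∀ p x, x ∈ i p ⁻¹ᵁ U ↔ x ∈ V p := fun p x => by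
    refine ⟨fun hx => ?_, fun hx => Set.mem_iUnion.2 ⟨p, x, hx, rfl⟩⟩
    obtain ⟨q, y, hy, hxy⟩ := Set.mem_iUnion.1 hx
    obtain rfl : q = p := by
      have h1 : G.hom (i q y) = q := by
        simpa using (hi q).le ⟨y, rfl⟩
      have h2 : G.hom (i p x) = p := by
        simpa using (hi p).le ⟨x, rfl⟩
      rw [← h1, ← h2, hxy]
    rwa [← (i q).isClosedEmbedding.injective hxy]
  refine ⟨U, ?_, fun z hz => ?_⟩
  · haveI : ∀ p, IsAffine (i p ⁻¹ᵁ U : Scheme.{u}) := fun p => by
      rw [show i p ⁻¹ᵁ U = V p from TopologicalSpace.Opens.ext (Set.ext (hmem p))]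
      exact hV p
    exact Groth.Agent.VarietyLib.isAffine_of_closed_cover (fun p => (i p ⁻¹ᵁ U : Scheme.{u})) (fun p => i p ∣_ U) (by
      intro x
      obtain ⟨p, y, hy, hxy⟩ := Set.mem_iUnion.1 x.2
      exact ⟨p, ⟨y, (hmem p y).2 hy⟩, Subtype.ext (by simpa using hxy)⟩)
  · obtain ⟨y, hy⟩ : z ∈ Set.range (i (G.hom z)) := by rw [hi]; rfl
    exact Set.mem_iUnion.2 ⟨_, y, hVZ _ (show i _ y ∈ Z by rw [hy]; exact hz), hy⟩

open CategoryTheory Limits AlgebraicGeometry Opposite in
theorem exists_weilRes {S S' : Scheme.{u}} (f : S' ⟶ S) (hf : Mor2.IsFinLocFree f) (X' : Over S')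
    (hAF : ∀ (s : S) (d : ℕ) (x : Fin d → ↥X'.left), (∀ j, (X'.hom ≫ f) (x j) = s) →
      ∃ U : X'.left.Opens, IsAffineOpen U ∧ ∀ j, x j ∈ U) :
    ∃ (R : Over S) (q : Red.bc f R ⟶ X'), WeilRes.IsWeilRes f X' R q := by
  haveI := hf.1
  obtain ⟨⟨W₁, ⟨e₁⟩⟩⟩ := Groth.Agent.FlatMor12.MorSAF.isRepresentable f (X'.hom ≫ f) hf hAF
  obtain ⟨W₂, -, ⟨e₂⟩⟩ := Groth.Agent.FlatMor12.MorSLocal.exists_representableBy f f hf
  have n₁ : ∀ {T T' : Over S} (t : T' ⟶ T) (a : T ⟶ W₁),
      (e₁.homEquiv (t ≫ a)).left = ((Over.pullback f).map t).left ≫ (e₁.homEquiv a).left := fun t a => by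
    rw [e₁.homEquiv_comp]
    rfl
  have n₂ : ∀ {T T' : Over S} (t : T' ⟶ T) (a : T ⟶ W₂),
      (e₂.homEquiv (t ≫ a)).left = ((Over.pullback f).map t).left ≫ (e₂.homEquiv a).left := fun t a => by
    rw [e₂.homEquiv_comp]
    rfl
  let pp : (Flatn.morS f f).obj (op W₁) := Over.homMk ((e₁.homEquiv (𝟙 W₁)).left ≫ X'.hom)
    ((Category.assoc _ _ _).trans (Over.w (e₁.homEquiv (𝟙 W₁))))
  let ee : (Flatn.morS f f).obj (op (Over.mk (𝟙 S))) := Over.homMk (pullback.snd (𝟙 S) f) rfl
  let m : W₁ ⟶ W₂ := e₂.homEquiv.symm pp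
  let e : Over.mk (𝟙 S) ⟶ W₂ := e₂.homEquiv.symm ee
  have hm : ∀ {T : Over S} (a : T ⟶ W₁), (e₂.homEquiv (a ≫ m)).left = (e₁.homEquiv a).left ≫ X'.hom := fun {T} a => by
    rw [n₂, show (e₂.homEquiv m) = pp from e₂.homEquiv.apply_symm_apply pp]
    conv_rhs => rw [← Category.comp_id a, n₁]
    exact (Category.assoc _ _ _).symm
  have he : ∀ {T : Over S} (t : T ⟶ Over.mk (𝟙 S)), (e₂.homEquiv (t ≫ e)).left = pullback.snd T.hom f := fun {T} t => by
    rw [n₂, show (e₂.homEquiv e) = ee from e₂.homEquiv.apply_symm_apply ee]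
    exact Over.w ((Over.pullback f).map t)
  have key : ∀ {T : Over S} (a : T ⟶ W₁) (t : T ⟶ Over.mk (𝟙 S)),
      a ≫ m = t ≫ e ↔ (e₁.homEquiv a).left ≫ X'.hom = pullback.snd T.hom f := fun {T} a t => by
    rw [← hm a, ← he t]
    exact ⟨fun h => by rw [h], fun h => e₂.homEquiv.injective (Over.OverMorphism.ext h)⟩
  let p₁ : pullback m e ⟶ W₁ := pullback.fst m e
  let q : Red.bc f (pullback m e) ⟶ X' :=
    Over.homMk (e₁.homEquiv p₁).left ((key p₁ (pullback.snd m e)).1 pullback.condition)
  have hr : ∀ {T : Over S} (h : T ⟶ pullback m e), (WeilRes.restr f q T h).left = (e₁.homEquiv (h ≫ p₁)).left :=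
    fun h => (n₁ h p₁).symm
  refine ⟨pullback m e, q, fun T => ⟨fun h h' hh => ?_, fun ψ => ?_⟩⟩
  · refine pullback.hom_ext ?_ (Over.OverMorphism.ext ?_)
    · exact e₁.homEquiv.injective (Over.OverMorphism.ext ((hr h).symm.trans ((congrArg CommaMorphism.left hh).trans (hr h'))))
    · exact ((Category.comp_id _).symm.trans (Over.w (h ≫ pullback.snd m e))).trans
        (((Category.comp_id _).symm.trans (Over.w (h' ≫ pullback.snd m e))).symm)
  · let φ : (Flatn.morS f (X'.hom ≫ f)).obj (op T) := Over.homMk ψ.left (by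
      show ψ.left ≫ X'.hom ≫ f = pullback.snd T.hom f ≫ f
      rw [← Category.assoc, Over.w ψ]
      rfl)
    let t : T ⟶ Over.mk (𝟙 S) := Over.homMk T.hom (Category.comp_id _)
    have hφ : e₁.homEquiv.symm φ ≫ m = t ≫ e := (key _ t).2 (by
      rw [e₁.homEquiv.apply_symm_apply]
      exact Over.w ψ)
    refine ⟨pullback.lift _ t hφ, Over.OverMorphism.ext ?_⟩
    rw [hr, pullback.lift_fst, e₁.homEquiv.apply_symm_apply]
    rfl


end Groth.Agent.S17693

namespace Groth.Agent.S17693

/-- Let k be a field, A a finite k-algebra and G a group scheme of finite type over Spec A, not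
necessarily smooth. Then the Weil restriction of G along Spec A → Spec k is representable: there
exist a k-scheme R and an A-morphism q : R ×_k Spec A → G such that for every k-scheme T the map g ↦
(g ×_k Spec A) ≫ q is a bijection from k-morphisms T → R onto A-morphisms T ×_k Spec A → G. (The
published statement adds that the representing k-group scheme is quasi-projective; only
representability is stated here.) -/
theorem result
    (k A : Type u) [Field k] [CommRing A] [Algebra k A] [Module.Finite k A]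
    (G : Over (Spec (CommRingCat.of A))) [GrpObj G] [LocallyOfFiniteType G.hom] [QuasiCompact G.hom] :
    ∃ (R : Over (Spec (CommRingCat.of k)))
      (q : Red.bc (Spec.map (CommRingCat.ofHom (algebraMap k A))) R ⟶ G),
      WeilRes.IsWeilRes (Spec.map (CommRingCat.ofHom (algebraMap k A))) G R q := by
  haveI : IsArtinianRing A := IsArtinianRing.of_finite k A
  haveI : Module.Free k A := Module.Free.of_divisionRing k A
  have hf : Mor2.IsFinLocFree (Spec.map (CommRingCat.ofHom (algebraMap k A))) := by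
    refine ⟨(IsFinite.SpecMap_iff _).2 ?_, (HasRingHomProperty.Spec_iff (P := @Flat)).2 ?_,
      (HasRingHomProperty.Spec_iff (P := @LocallyOfFinitePresentation)).2 ?_⟩
    · exact RingHom.finite_algebraMap.2 inferInstance
    · exact RingHom.flat_algebraMap_iff.2 inferInstance
    · exact RingHom.finitePresentation_algebraMap.2 (Algebra.FinitePresentation.of_finiteType.1 inferInstance)
  exact exists_weilRes _ hf G fun _ _ x _ => by
    obtain ⟨U, hU, hZU⟩ := exists_affine_of_finite_artinian G (Set.range x) (Set.finite_range x)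
    exact ⟨U, hU, fun j => hZU ⟨j, rfl⟩⟩

end Groth.Agent.S17693
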