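import Groth.Statements.S17694
import Groth.Agent.TorusAb27.Basic
import Groth.Agent.UnipStruct.Unip
import Groth.Agent.Cochar26.Factor
import Groth.Agent.SGA3cLib.CentralEqBasic
import Groth.Prelude.Def_WeilRes2
-- import your own Groth.Agent.* helpers here

set_option autoImplicit false
set_option backward.isDefEq.respectTransparency false
set_option backward.isDefEq.respectTransparency.types false
set_option synthInstance.maxHeartbeats 200000
universe u
open CategoryTheory CategoryTheory.Limits AlgebraicGeometry MonObj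
open WeilRes

namespace Groth.Agent.S17694


open CategoryTheory Limits AlgebraicGeometry MonoidalCategory CartesianMonoidalCategory MonObj in
theorem eq_one_of_bc_Gm {S S' : Scheme.{u}} (f : S' ⟶ S) {A : Over S'} [GrpObj A] [IsProper A.hom]
    [LocallyOfFinitePresentation A.hom] (Φ : Red.bc f (Red.Gm S) ⟶ A) [IsMonHom Φ] : Φ = 1 := by
  obtain ⟨c, hc, -⟩ := Groth.Agent.SGA3cLib.CentralEq.exists_bc_DS f
  haveI := hc ℤ
  let d : Red.DS S' (Fin 1 → ℤ) ≅ Red.DS S' ℤ :=
    ⟨Red.DSmap S' (AddMonoidHom.single (fun _ : Fin 1 => ℤ) 0), Red.DSmap S' (Pi.evalAddMonoidHom (fun _ : Fin 1 => ℤ) 0),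
      by
        rw [Groth.Agent.Cochar26.DSmap_comp, show (AddMonoidHom.single (fun _ : Fin 1 => ℤ) 0).comp
          (Pi.evalAddMonoidHom (fun _ : Fin 1 => ℤ) 0) = AddMonoidHom.id _ from
            AddMonoidHom.ext fun x => funext fun i => by fin_cases i; simp]
        exact Groth.Agent.Cochar26.DSmap_id,
      by
        rw [Groth.Agent.Cochar26.DSmap_comp, show (Pi.evalAddMonoidHom (fun _ : Fin 1 => ℤ) 0).comp
          (AddMonoidHom.single (fun _ : Fin 1 => ℤ) 0) = AddMonoidHom.id _ from
            AddMonoidHom.ext fun x => by simp]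
        exact Groth.Agent.Cochar26.DSmap_id⟩
  haveI : IsMonHom d.hom := Groth.Agent.Cochar26.isMonHom_DSmap _
  haveI : IsMonHom (c ℤ).inv := inferInstance
  have h := Groth.Agent.TorusAb27.eq_one (Groth.Agent.UnipStruct.isTorus_DS S') (d.hom ≫ (c ℤ).inv ≫ Φ)
  haveI : IsIso (d.hom ≫ (c ℤ).inv) := (d ≪≫ (c ℤ).symm).isIso_hom
  rw [← cancel_epi (d.hom ≫ (c ℤ).inv), Category.assoc, h, MonObj.comp_one]

end Groth.Agent.S17694

namespace Groth.Agent.S17694

/-- Let κ be a field, B a finite κ-algebra and E an abelian scheme over B, that is a proper smooth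
B-group scheme whose geometric fibres are connected. Let R be a κ-group scheme which, with the
homomorphism q : R ×_κ Spec B → E, is the Weil restriction of E along Spec B → Spec κ. Then the
maximal torus of R is trivial; precisely, as the proof establishes, for every algebraically closed
field Ω over κ every homomorphism of Ω-group schemes from the multiplicative group over Ω to the
base change of R to Ω is trivial. -/
theorem result
    (κ B : Type u) [Field κ] [CommRing B] [Algebra κ B] [Module.Finite κ B]
    (E : Over (Spec (CommRingCat.of B))) [GrpObj E] [IsProper E.hom] [Smooth E.hom]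
    (hEc : ∀ (Ω' : Type u) [Field Ω'] (t : Spec (CommRingCat.of Ω') ⟶ Spec (CommRingCat.of B)),
      ConnectedSpace ↥(pullback E.hom t))
    (R : Over (Spec (CommRingCat.of κ))) [GrpObj R]
    (q : Red.bc (Spec.map (CommRingCat.ofHom (algebraMap κ B))) R ⟶ E) [IsMonHom q]
    (hR : WeilRes.IsWeilRes (Spec.map (CommRingCat.ofHom (algebraMap κ B))) E R q)
    (Ω : Type u) [Field Ω] [IsAlgClosed Ω] [Algebra κ Ω]
    (φ : Red.Gm (Spec (CommRingCat.of Ω)) ⟶ Red.bc (Spec.map (CommRingCat.ofHom (algebraMap κ Ω))) R)
    [IsMonHom φ] :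
    φ = 1 := by
  let f := Spec.map (CommRingCat.ofHom (algebraMap κ B))
  let t := Spec.map (CommRingCat.ofHom (algebraMap κ Ω))
  have hsq : IsPullback (pullback.fst f t) (pullback.snd f t) f t := IsPullback.of_hasPullback f t
  let f' := pullback.snd f t
  let t' := pullback.fst f t
  haveI : IsProper (Red.bc t' E).hom := inferInstanceAs (IsProper (pullback.snd E.hom t'))
  haveI : Smooth (Red.bc t' E).hom := inferInstanceAs (Smooth (pullback.snd E.hom t'))
  haveI : IsMonHom ((Over.pullback f').map φ) := inferInstance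
  haveI : IsMonHom (WeilRes.restr f' (WeilRes.bcDatum f t t' f' hsq.w q) _ φ) := by
    rw [WeilRes.restr_apply]; infer_instance
  apply (WeilRes.IsWeilRes.bc hsq hR _).1
  rw [WeilRes.restr_one]
  exact eq_one_of_bc_Gm f' _

end Groth.Agent.S17694
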