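import Groth.Statements.S17701
import Groth.Agent.PseudoAb27.Main
-- import your own Groth.Agent.* helpers here

set_option autoImplicit false
set_option linter.style.haveILetI false
set_option backward.isDefEq.respectTransparency.types false
universe u
open CategoryTheory CategoryTheory.Limits MonoidalCategory CartesianMonoidalCategory AlgebraicGeometry MonObj
open Neron

namespace Groth.Agent.S17701

open CategoryTheory CategoryTheory.Limits MonObj AlgebraicGeometry in
open Groth.Agent in
/-- Let k be a field, Ω a separable closure of k, ℓ a prime invertible in k and P a pseudo-abelian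
variety over k, that is a smooth connected commutative k-group scheme of finite type all of whose
smooth connected affine closed subgroup schemes are trivial (unit section an isomorphism). Suppose
L/k is a finite purely inseparable field extension and H is a smooth connected affine closed
subgroup scheme of P_L, unipotent in the sense that after base change to an algebraic closure of L
it has no non-trivial subtorus, such that the quotient P_L → A (a surjective homomorphism with
kernel H) is an abelian variety A over L of dimension g; g is then the virtual abelian rank of P.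
Then the ℓ-adic Tate module of P built from Ω-points (compatible sequences of ℓ-power torsion
Ω-points) is a finitely generated free ℤ_ℓ-module of rank 2g. -/
theorem result
    (k Ω : Type u) [Field k] [Field Ω] [Algebra k Ω] [IsSepClosure k Ω] (ℓ : ℕ) [Fact ℓ.Prime] (hℓ : (ℓ : k) ≠ 0)
    (P : Over (Spec (CommRingCat.of k))) [GrpObj P] [IsCommMonObj P]
    [Smooth P.hom] [LocallyOfFiniteType P.hom] [QuasiCompact P.hom] [ConnectedSpace ↥P.left]
    (hP : ∀ (H : Over (Spec (CommRingCat.of k))) [GrpObj H] (j : H ⟶ P) [IsMonHom j],
      IsClosedImmersion j.left → Smooth H.hom → ConnectedSpace ↥H.left → IsAffine H.left → IsIso η[H])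
    (L : Type u) [Field L] [Algebra k L] [FiniteDimensional k L] [IsPurelyInseparable k L]
    (H A : Over (Spec (CommRingCat.of L))) [GrpObj H] [GrpObj A]
    (i : H ⟶ Red.bc (Spec.map (CommRingCat.ofHom (algebraMap k L))) P) [IsMonHom i] (π : Red.bc (Spec.map (CommRingCat.ofHom (algebraMap k L))) P ⟶ A) [IsMonHom π]
    (hi : IsClosedImmersion i.left) (hker : AlgGrp.IsKernel i π) (hπ : Surjective π.left)
    [Smooth H.hom] [ConnectedSpace ↥H.left] [IsAffine H.left]
    (hH : Red.HasNoSubtorus (AlgebraicClosure L) (Red.bc (Spec.map (CommRingCat.ofHom (algebraMap L (AlgebraicClosure L)))) H))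
    [IsProper A.hom] [Smooth A.hom] [GeometricallyIntegral A.hom]
    (g : ℕ) (hg : topologicalKrullDim ↥A.left = g) :
    Module.Free ℤ_[ℓ] (AbDual.TateMod P ℓ (SGA7.pt Ω)) ∧ Module.Finite ℤ_[ℓ] (AbDual.TateMod P ℓ (SGA7.pt Ω)) ∧
      Module.finrank ℤ_[ℓ] (AbDual.TateMod P ℓ (SGA7.pt Ω)) = 2 * g := by
  haveI := hπ
  exact PseudoAb27.main Ω ℓ hℓ P hP L H A i π hi hker hH g hg

end Groth.Agent.S17701
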