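import Groth.Statements.S17703
import Groth.Agent.CAlgH.GRingMaximal
import Groth.Agent.CAlgH.GRingCompletion
import Groth.Agent.CAlgH.AdicSmoothFlatness
import Groth.Agent.CommAlg6.GeomRedJapanese
import Groth.Agent.CommAlg6.J2Small
import Groth.Agent.EGA43.RectDepthJacobson
import Groth.Agent.S0549

set_option autoImplicit false
universe u
open Neron

namespace Groth.Agent.S17703

open TensorProduct IsLocalRing Groth.Agent.CAlgH

theorem isGeometricallyRegular_of_geomReduced (k L : Type u) [Field k] [Field L] [Algebra k L]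
    [Algebra.IsGeometricallyReduced k L] : CAlg.IsGeometricallyRegular k L := by
  intro k' _ _ hk'
  haveI := hk'
  haveI : Algebra.IsAlgebraic k k' := Algebra.IsAlgebraic.of_finite k k'
  haveI : IsReduced (k' ⊗[k] L) := inferInstance
  letI : Algebra L (k' ⊗[k] L) := Algebra.TensorProduct.rightAlgebra
  haveI : Module.Finite L (k' ⊗[k] L) := Module.Finite.equiv (Algebra.TensorProduct.commRight k L k').toLinearEquiv
  haveI : IsArtinianRing (k' ⊗[k] L) := IsArtinianRing.of_finite L _
  refine isRegularRing_iff.2 fun q _ => ?_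
  haveI : q.IsMaximal := IsArtinianRing.isMaximal_of_isPrime q
  haveI : IsArtinianRing (Localization.AtPrime q) := IsArtinianRing.localization_artinian q.primeCompl _
  haveI : IsReduced (Localization.AtPrime q) := isReduced_localizationPreserves q.primeCompl _ inferInstance
  letI := (IsArtinianRing.isField_of_isReduced_of_isLocalRing (Localization.AtPrime q)).toField
  exact inferInstance

theorem exists_tmul_eq (R K B : Type u) [CommRing R] [IsDomain R] [Field K] [Algebra R K] [IsFractionRing R K]
    [CommRing B] [Algebra R B] (z : K ⊗[R] B) : ∃ (s : R) (y : B), s ≠ 0 ∧ algebraMap R K s • z = (1 : K) ⊗ₜ[R] y := by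
  induction z using TensorProduct.induction_on with
  | zero => exact ⟨1, 0, one_ne_zero, by simp⟩
  | tmul c b =>
    obtain ⟨a, s, hs, rfl⟩ := IsFractionRing.div_surjective (A := R) c
    refine ⟨s, a • b, nonZeroDivisors.ne_zero hs, ?_⟩
    have hs' : algebraMap R K s ≠ 0 := (map_ne_zero_iff _ (IsFractionRing.injective R K)).2 (nonZeroDivisors.ne_zero hs)
    rw [TensorProduct.smul_tmul', smul_eq_mul, mul_div_cancel₀ _ hs', ← TensorProduct.smul_tmul, Algebra.smul_def, mul_one]
  | add x y hx hy =>
    obtain ⟨s, b, hs, hb⟩ := hx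
    obtain ⟨t, c, ht, hc⟩ := hy
    refine ⟨s * t, t • b + s • c, mul_ne_zero hs ht, ?_⟩
    rw [TensorProduct.tmul_add, TensorProduct.tmul_smul, TensorProduct.tmul_smul, ← hb, ← hc, map_mul, smul_add,
      ← algebraMap_smul K t, ← algebraMap_smul K s (algebraMap R K t • y), smul_smul, smul_smul, mul_comm (algebraMap R K t)]

theorem isField_generic (R K B : Type u) [CommRing R] [IsDomain R] [IsDiscreteValuationRing R] [Field K] [Algebra R K]
    [IsFractionRing R K] [CommRing B] [IsDomain B] [IsDiscreteValuationRing B] [Algebra R B]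
    (hinj : Function.Injective (algebraMap R B)) (hm : (maximalIdeal R).map (algebraMap R B) = maximalIdeal B) :
    IsField (K ⊗[R] B) := by
  haveI : Nontrivial (K ⊗[R] B) := by
    haveI : Module.Flat R K := IsLocalization.flat K (nonZeroDivisors R)
    exact (Algebra.TensorProduct.includeLeft_injective (S := R) (A := K) hinj).nontrivial
  refine ⟨⟨0, 1, zero_ne_one⟩, mul_comm, fun {z} hz => ?_⟩
  obtain ⟨s, y, hs, hy⟩ := exists_tmul_eq R K B z
  obtain ⟨π, hπ⟩ := IsDiscreteValuationRing.exists_irreducible R
  have hsu : IsUnit (algebraMap R K s) := isUnit_iff_ne_zero.2 ((map_ne_zero_iff _ (IsFractionRing.injective R K)).2 hs)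
  have hy0 : y ≠ 0 := fun h => hz (by
    rw [h, TensorProduct.tmul_zero] at hy
    exact hsu.smul_eq_zero.1 hy)
  have hπB : maximalIdeal B = Ideal.span {algebraMap R B π} := by
    rw [← hm, hπ.maximalIdeal_eq, Ideal.map_span, Set.image_singleton]
  have hπ' : Irreducible (algebraMap R B π) :=
    (IsDiscreteValuationRing.irreducible_iff_uniformizer _).2 hπB
  obtain ⟨n, v, rfl⟩ := IsDiscreteValuationRing.eq_unit_mul_pow_irreducible hy0 hπ'
  have hu : IsUnit ((1 : K) ⊗ₜ[R] ((v : B) * algebraMap R B π ^ n)) := by
    have e : (1 : K) ⊗ₜ[R] ((v : B) * algebraMap R B π ^ n) =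
        ((1 : K) ⊗ₜ[R] (v : B)) * algebraMap K (K ⊗[R] B) (algebraMap R K π ^ n) := by
      rw [Algebra.TensorProduct.algebraMap_apply, Algebra.TensorProduct.tmul_mul_tmul, one_mul, mul_one,
        Algebra.algebraMap_self, RingHom.id_apply, ← map_pow, ← map_pow, Algebra.algebraMap_eq_smul_one (A := K),
        TensorProduct.smul_tmul, Algebra.smul_def, mul_comm]
    rw [e]
    exact (v.isUnit.map (Algebra.TensorProduct.includeRight : B →ₐ[R] K ⊗[R] B)).mul ((IsUnit.pow n (isUnit_iff_ne_zero.2
      ((map_ne_zero_iff _ (IsFractionRing.injective R K)).2 hπ.ne_zero))).map _)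
  rw [← hy, Algebra.smul_def] at hu
  obtain ⟨w, hw⟩ := hu
  exact ⟨↑w⁻¹ * algebraMap K (K ⊗[R] B) (algebraMap R K s), by
    rw [mul_left_comm, ← mul_comm (algebraMap K (K ⊗[R] B) _) z, ← hw, Units.inv_mul]⟩

/-- Let R be a discrete valuation ring with fraction field K, R̂ its completion and K̂ = Frac R̂. Then R
is excellent (Noetherian, universally catenary, G-ring and J-2) if and only if K̂ is geometrically
reduced over K, i.e. K ⊆ K̂ is separable; here K̂ is written as the generic formal fibre κ(0) ⊗_R R̂
of R, which is R̂ with the uniformizer inverted. -/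
theorem result
    (R : Type u) [CommRing R] [IsDomain R] [IsDiscreteValuationRing R] :
    EGA4.IsExcellent R ↔
      Algebra.IsGeometricallyReduced (⊥ : Ideal R).ResidueField (EGA4.formalFibre R (⊥ : Ideal R)) := by
  let Rh := EGA4.Cpl R
  obtain ⟨_, _⟩ := (_root_.Groth.Agent.S0549.result R).1 ⟨inferInstance, inferInstance⟩
  haveI : IsLocalHom (algebraMap R Rh) := isLocalHom_algebraMap_cpl R
  constructor
  · rintro ⟨-, -, hG, -⟩
    exact _root_.Groth.Agent.CommAlg6.isGeometricallyReduced_of_isGeometricallyRegular _ _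
      ((isRegularHom_adicCompletion_of_isGRing R hG (maximalIdeal R)).2 ⊥).2
  · intro hred
    haveI : IsRegularLocalRing R := inferInstance
    haveI : IsRegularRing R := CAlgH3.isRegularRing_of_isRegularLocalRing
    haveI : Module.FaithfullyFlat R Rh := Module.FaithfullyFlat.of_flat_of_isLocalHom
    have hgen : CAlg.IsGeometricallyRegular (⊥ : Ideal R).ResidueField (EGA4.formalFibre R (⊥ : Ideal R)) := by
      haveI : IsFractionRing R (⊥ : Ideal R).ResidueField :=
        IsLocalization.isLocalization_of_algEquiv _ (FractionRing.algEquiv R (⊥ : Ideal R).ResidueField)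
      letI := (isField_generic R (⊥ : Ideal R).ResidueField Rh (FaithfulSMul.algebraMap_injective R Rh)
        AdicCompletion.maximalIdeal_eq_map.symm).toField
      haveI := hred
      exact isGeometricallyRegular_of_geomReduced _ _
    have hclosed : CAlg.IsGeometricallyRegular (maximalIdeal R).ResidueField (EGA4.formalFibre R (maximalIdeal R)) := by
      obtain ⟨hloc, hs, -⟩ := AdicSmooth.closedFibre (A := R) (B := Rh)
      have hsurj : Function.Surjective (algebraMap (maximalIdeal R).ResidueField (EGA4.formalFibre R (maximalIdeal R))) := by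
        intro z
        obtain ⟨y, rfl⟩ := hs z
        obtain ⟨a, ha⟩ := exists_sub_algebraMap_mem R y
        refine ⟨algebraMap R _ a, ?_⟩
        rw [← IsScalarTower.algebraMap_apply, eq_comm, ← sub_eq_zero,
          ← AlgHom.commutes (Algebra.TensorProduct.includeRight : Rh →ₐ[R] EGA4.formalFibre R (maximalIdeal R)) a, ← map_sub]
        show y - algebraMap R Rh a ∈ RingHom.ker (Algebra.TensorProduct.includeRight : Rh →ₐ[R] EGA4.formalFibre R (maximalIdeal R)).toRingHom
        rw [AdicSmooth.ker_includeRight_of_surjective R _ Rh (Ideal.algebraMap_residueField_surjective _),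
          AdicSmooth.ker_algebraMap_closedResidue, ← AdicCompletion.maximalIdeal_eq_map]
        exact ha
      haveI : Nontrivial (EGA4.formalFibre R (maximalIdeal R)) := hloc.toNontrivial
      let e := AlgEquiv.ofBijective (Algebra.ofId (maximalIdeal R).ResidueField (EGA4.formalFibre R (maximalIdeal R)))
        ⟨(algebraMap (maximalIdeal R).ResidueField _).injective, hsurj⟩
      exact isGeometricallyRegular_of_algEquiv e fun k' _ _ _ =>
        IsRegularRing.of_ringEquiv (Algebra.TensorProduct.rid (maximalIdeal R).ResidueField k' k').toRingEquiv.symm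
    have hreg : CAlg.IsRegularHom R (EGA4.Cpl R) := isRegularHom_cpl_of_fibres R fun p hp => by
      rcases eq_or_ne p ⊥ with rfl | hne
      · exact hgen
      · obtain rfl := IsLocalRing.eq_maximalIdeal (hp.isMaximal hne)
        exact hclosed
    refine ⟨inferInstance, _root_.Groth.Agent.EGA43.RectDepth.isUniversallyCatenary_of_regular,
      ⟨inferInstance, fun p _ => isRegularHom_cpl_localization_of_local R hreg p⟩,
      _root_.Groth.Agent.CommAlg6.isJ2_of_semilocal R ?_ (Ring.krullDimLE_iff.1 inferInstance)⟩
    exact (Set.finite_singleton (maximalIdeal R)).subset fun I hI => IsLocalRing.eq_maximalIdeal hI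

end Groth.Agent.S17703
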