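import Groth.Statements.S17719
import Groth.Agent.CAlgH.AnnulusUnits.Main
import Groth.Agent.CAlgH3.Factorial
import Groth.Agent.CAlgH3.RegularLocal

set_option autoImplicit false
universe u
open scoped TensorProduct
open CAlg

namespace Groth.Agent.S17719

set_option backward.isDefEq.respectTransparency false in
open MvPowerSeries in
/-- Let R be a regular local ring, complete for its maximal ideal, with fraction field K; let r be a
non-zero element of R and A the quotient of the power series ring in two variables x, y over R by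
the ideal generated by xy − r. If an element a of A maps to a unit of A ⊗_R K, then there are an
element s of R, natural numbers m and n with mn = 0 and a unit u of A with a = s xⁿ yᵐ u. -/
theorem result
    (R : Type u) [CommRing R] [IsRegularLocalRing R]
    [IsAdicComplete (IsLocalRing.maximalIdeal R) R]
    (r : R) (hr : r ≠ 0)
    (a : (MvPowerSeries (Fin 2) R ⧸ Ideal.span {(X 0 * X 1 - C r : MvPowerSeries (Fin 2) R)}))
    (ha : IsUnit (a ⊗ₜ[R] (1 : FractionRing R) :
      (MvPowerSeries (Fin 2) R ⧸ Ideal.span {(X 0 * X 1 - C r : MvPowerSeries (Fin 2) R)}) ⊗[R] FractionRing R)) :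
    ∃ (s : R) (m n : ℕ) (u : (MvPowerSeries (Fin 2) R ⧸ Ideal.span {(X 0 * X 1 - C r : MvPowerSeries (Fin 2) R)})ˣ),
      m * n = 0 ∧ a = Ideal.Quotient.mk _ (C s * X 0 ^ n * X 1 ^ m) * (u : (MvPowerSeries (Fin 2) R ⧸ Ideal.span {(X 0 * X 1 - C r : MvPowerSeries (Fin 2) R)})) := by
  classical
  have : IsDomain R := Groth.Agent.CAlgH3.isDomain_of_isRegularLocalRing R
  have : UniqueFactorizationMonoid R := Groth.Agent.CAlgH3.ufm_of_regular R
  let A := MvPowerSeries (Fin 2) R ⧸ Ideal.span {(X 0 * X 1 - C r : MvPowerSeries (Fin 2) R)}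
  let K := FractionRing R
  let e : A ⊗[R] K ≃ₐ[R] K ⊗[R] A := Algebra.TensorProduct.comm R A K
  obtain ⟨z, hz⟩ := (ha.map e).exists_right_inv
  rw [show e (a ⊗ₜ[R] (1 : K)) = (1 : K) ⊗ₜ[R] a from rfl] at hz
  obtain ⟨⟨b, t⟩, hbt⟩ := IsLocalizedModule.surj (nonZeroDivisors R) (TensorProduct.mk R K A 1) z
  have h1 : TensorProduct.mk R K A 1 (a * b) = TensorProduct.mk R K A 1 ((t : R) • 1) := by
    have := congrArg ((t : R) • ·) hz
    simp only [← mul_smul_comm] at this
    rw [Submonoid.smul_def] at hbt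
    rw [hbt, TensorProduct.mk_apply, Algebra.TensorProduct.tmul_mul_tmul, one_mul, Algebra.TensorProduct.one_def,
      ← TensorProduct.tmul_smul] at this
    exact this
  obtain ⟨t', ht'⟩ := IsLocalizedModule.exists_of_eq (S := nonZeroDivisors R) h1
  obtain ⟨f, rfl⟩ := Ideal.Quotient.mk_surjective a
  obtain ⟨g, rfl⟩ := Ideal.Quotient.mk_surjective b
  have hs : (t' : R) * t ≠ 0 := mul_ne_zero (nonZeroDivisors.ne_zero t'.2) (nonZeroDivisors.ne_zero t.2)
  have hmk : ∀ c : R, algebraMap R A c = Ideal.Quotient.mk _ (C c) := fun _ => rfl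
  have hmem : f * (C (t' : R) * g) - C ((t' : R) * t) ∈ Groth.Agent.CAlgH.AnnulusUnits.annI r := by
    simp only [Submonoid.smul_def] at ht'
    have hsm : ∀ (c : R) (x : A), c • x = algebraMap R A c * x := fun c x => by
      obtain ⟨y, rfl⟩ := Ideal.Quotient.mk_surjective x
      rw [hmk, ← map_mul, ← MvPowerSeries.smul_eq_C_mul]
      rfl
    have h2 : algebraMap R A t' * (Ideal.Quotient.mk _ f * Ideal.Quotient.mk _ g) =
        algebraMap R A t' * (algebraMap R A t * 1) := by
      rw [← hsm, ← hsm, ← hsm]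
      exact ht'
    rw [mul_one, hmk, hmk, ← map_mul, ← map_mul, ← map_mul, Ideal.Quotient.mk_eq_mk_iff_sub_mem] at h2
    rw [map_mul, mul_left_comm]
    exact h2
  obtain ⟨s, m, n, u, hu, hmn, hf⟩ := Groth.Agent.CAlgH.AnnulusUnits.good_of_mul_eq hr hs f _ hmem
  refine ⟨s, m, n, (hu.map (Ideal.Quotient.mk _)).unit, hmn, ?_⟩
  rw [IsUnit.unit_spec, ← map_mul, Ideal.Quotient.mk_eq_mk_iff_sub_mem]
  exact hf

end Groth.Agent.S17719
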