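import Groth.Statements.S17720
import Mathlib.RingTheory.Filtration
import Mathlib.RingTheory.Ideal.Quotient.Noetherian
import Mathlib.RingTheory.LocalRing.RingHom.Basic
import Mathlib.RingTheory.MvPowerSeries.Inverse
import Mathlib.RingTheory.MvPowerSeries.Substitution
import Mathlib.RingTheory.PowerSeries.Basic
import Mathlib.Tactic

set_option linter.all false

set_option autoImplicit false
universe u
open CAlg

open IsLocalRing MvPowerSeries

namespace Groth.Agent.S17720

theorem aux_zero {A : Type u} [CommRing A] [IsLocalRing A] [IsNoetherianRing A]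
    (f g : PowerSeries A) (c : A) (h : f * g = PowerSeries.C c)
    (h0 : PowerSeries.coeff 0 f ∈ maximalIdeal A) (h1 : IsUnit (PowerSeries.coeff 1 f)) :
    c = 0 := by
  have hall : ∀ N n : ℕ, PowerSeries.coeff n g ∈ maximalIdeal A ^ N := by
    intro N
    induction N with
    | zero => simp
    | succ N ih =>
      intro n
      induction n using Nat.strong_induction_on with
      | _ n ihn =>
        have e := congrArg (PowerSeries.coeff (n + 1)) h
        rw [PowerSeries.coeff_mul, PowerSeries.coeff_C, if_neg (by omega),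
          Finset.Nat.sum_antidiagonal_eq_sum_range_succ
            (fun i j => PowerSeries.coeff i f * PowerSeries.coeff j g),
          Finset.sum_range_succ', Finset.sum_range_succ'] at e
        simp only [Nat.sub_zero, zero_add, Nat.add_sub_cancel] at e
        have hrest : ∑ k ∈ Finset.range n, PowerSeries.coeff (k + 1 + 1) f *
            PowerSeries.coeff (n + 1 - (k + 1 + 1)) g ∈ maximalIdeal A ^ (N + 1) :=
          Ideal.sum_mem _ fun k hk => Ideal.mul_mem_left _ _
            (ihn _ (by simp only [Finset.mem_range] at hk; omega))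
        have hf0 : PowerSeries.coeff 0 f * PowerSeries.coeff (n + 1) g
            ∈ maximalIdeal A ^ (N + 1) := by
          rw [pow_succ']; exact Ideal.mul_mem_mul h0 (ih _)
        have : PowerSeries.coeff 1 f * PowerSeries.coeff n g ∈ maximalIdeal A ^ (N + 1) := by
          have h2 := Submodule.add_mem _ hrest hf0
          rw [eq_neg_of_add_eq_zero_left (a := PowerSeries.coeff 1 f * PowerSeries.coeff n g)
            (b := _ + _) (by rw [← add_assoc, add_comm (PowerSeries.coeff 1 f * _)]; exact e)]
          exact Submodule.neg_mem _ h2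
        exact (Ideal.unit_mul_mem_iff_mem _ h1).mp this
  have hg : PowerSeries.coeff 0 g = 0 := by
    have : PowerSeries.coeff 0 g ∈ ⨅ N, maximalIdeal A ^ N := by
      rw [Ideal.mem_iInf]; exact fun N => hall N 0
    rwa [Ideal.iInf_pow_eq_bot_of_isLocalRing _ (maximalIdeal.isMaximal A).ne_top] at this
  have e := congrArg (PowerSeries.coeff 0) h
  simp only [PowerSeries.coeff_C, if_pos] at e
  rw [← e, PowerSeries.coeff_mul]
  simp [hg]

theorem ax_mem_span {A : Type u} [CommRing A] [IsLocalRing A] [IsNoetherianRing A]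
    (α β : A) (hα : α ∈ maximalIdeal A) (hβ : β ∈ maximalIdeal A)
    (φ : (MvPowerSeries (Fin 2) A ⧸ Ideal.span {(X 0 * X 1 - C α : MvPowerSeries (Fin 2) A)}) ≃ₐ[A] (MvPowerSeries (Fin 2) A ⧸ Ideal.span {(X 0 * X 1 - C β : MvPowerSeries (Fin 2) A)})) :
    α ∈ Ideal.span {β} := by
  classical
  let Iα : Ideal (MvPowerSeries (Fin 2) A) := Ideal.span {(X 0 * X 1 - C α)}
  let Iβ : Ideal (MvPowerSeries (Fin 2) A) := Ideal.span {(X 0 * X 1 - C β)}
  let Ab := A ⧸ Ideal.span {β}
  have hne : Ideal.span {β} ≠ ⊤ := fun h =>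
    (maximalIdeal.isMaximal A).ne_top (top_le_iff.mp (h ▸ (Ideal.span_le.mpr (by simpa using hβ))))
  have : Nontrivial Ab := Ideal.Quotient.nontrivial_iff.mpr hne
  have : IsLocalRing Ab := IsLocalRing.of_surjective' (Ideal.Quotient.mk _) Ideal.Quotient.mk_surjective
  -- substitution Y = 0 (resp. X = 0)
  have hsub : ∀ j : Fin 2, MvPowerSeries.HasSubst
      (fun i : Fin 2 => if i = j then (PowerSeries.X : PowerSeries Ab) else 0) := fun j => by
    apply MvPowerSeries.hasSubst_of_constantCoeff_zero
    intro i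
    split_ifs
    · exact MvPowerSeries.constantCoeff_X _
    · exact map_zero _
  let τ : Fin 2 → (MvPowerSeries (Fin 2) A →+* PowerSeries Ab) := fun j =>
    ((MvPowerSeries.substAlgHom (R := Ab) (hsub j)).toRingHom).comp
      (MvPowerSeries.map (Ideal.Quotient.mk (Ideal.span {β})))
  have hτC : ∀ j a, τ j (C a) = PowerSeries.C (Ideal.Quotient.mk _ a) := by
    intro j a
    show MvPowerSeries.substAlgHom (R := Ab) (hsub j) (MvPowerSeries.map _ (C a)) = _
    rw [MvPowerSeries.map_C]
    exact (MvPowerSeries.substAlgHom (R := Ab) (hsub j)).commutes _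
  have hτX : ∀ j i, τ j (X i) = if i = j then (PowerSeries.X : PowerSeries Ab) else 0 := by
    intro j i
    show MvPowerSeries.substAlgHom (R := Ab) (hsub j) (MvPowerSeries.map _ (X i)) = _
    rw [MvPowerSeries.map_X, MvPowerSeries.substAlgHom_X]
  have hτI : ∀ j, ∀ P ∈ Iβ, τ j P = 0 := by
    intro j P hP
    obtain ⟨Q, rfl⟩ := Ideal.mem_span_singleton'.mp hP
    rw [map_mul, map_sub, map_mul, hτC, hτX, hτX,
      Ideal.Quotient.eq_zero_iff_mem.mpr (Ideal.mem_span_singleton_self β)]
    fin_cases j <;> simp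
  let T : Fin 2 → ((MvPowerSeries (Fin 2) A ⧸ Iβ) →+* PowerSeries Ab) := fun j =>
    Ideal.Quotient.lift Iβ (τ j) (hτI j)
  let xb : Fin 2 → MvPowerSeries (Fin 2) A ⧸ Iα := fun i => Ideal.Quotient.mk Iα (X i)
  -- non-units
  have hnu : ∀ i, ¬ IsUnit (xb i) := by
    intro i hu
    obtain ⟨G, hG⟩ := Ideal.Quotient.mk_surjective ((hu.unit⁻¹ : _) : MvPowerSeries (Fin 2) A ⧸ Iα)
    have h1 : Ideal.Quotient.mk Iα (X i * G - 1) = 0 := by
      rw [map_sub, map_mul, hG, map_one]
      show xb i * _ - 1 = 0
      rw [IsUnit.mul_val_inv, sub_self]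
    obtain ⟨H, hH⟩ := Ideal.mem_span_singleton'.mp (Ideal.Quotient.eq_zero_iff_mem.mp h1)
    have h2 := congrArg MvPowerSeries.constantCoeff hH
    simp only [map_mul, map_sub, MvPowerSeries.constantCoeff_X, MvPowerSeries.constantCoeff_C,
      map_one, zero_mul, zero_sub, mul_neg, neg_inj] at h2
    exact (maximalIdeal.isMaximal A).ne_top ((Ideal.eq_top_iff_one _).mpr
      (h2 ▸ Ideal.mul_mem_left _ _ hα))
  have hT0 : ∀ j i, PowerSeries.coeff 0 (T j (φ (xb i))) ∈ maximalIdeal Ab := by
    intro j i
    obtain ⟨F, hF⟩ := Ideal.Quotient.mk_surjective (φ (xb i))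
    by_contra h
    apply hnu i
    have hc : IsUnit (MvPowerSeries.constantCoeff F) := by
      by_contra hc
      have hmem : MvPowerSeries.constantCoeff F ∈ maximalIdeal A := hc
      apply h
      have hsplit : MvPowerSeries.constantCoeff (F - C (MvPowerSeries.constantCoeff F)) = 0 := by
        simp
      rw [← hF]
      show PowerSeries.coeff 0 (τ j F) ∈ _
      have : τ j F = τ j (F - C (MvPowerSeries.constantCoeff F)) +
          PowerSeries.C (Ideal.Quotient.mk _ (MvPowerSeries.constantCoeff F)) := by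
        rw [map_sub, hτC, sub_add_cancel]
      rw [this, map_add, PowerSeries.coeff_C, if_pos rfl]
      refine Ideal.add_mem _ ?_ ?_
      · have : PowerSeries.coeff 0 (τ j (F - C (MvPowerSeries.constantCoeff F))) = 0 := by
          rw [PowerSeries.coeff_zero_eq_constantCoeff_apply]
          show MvPowerSeries.constantCoeff (MvPowerSeries.substAlgHom (R := Ab) (hsub j) _) = 0
          rw [MvPowerSeries.coe_substAlgHom]
          apply MvPowerSeries.constantCoeff_subst_eq_zero (hsub j)
          · intro s; split_ifs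
            · exact MvPowerSeries.constantCoeff_X _
            · exact map_zero _
          · rw [MvPowerSeries.constantCoeff_map, hsplit, map_zero]
        rw [this]; exact Ideal.zero_mem _
      · intro hu'
        exact hmem (IsLocalHom.of_surjective (Ideal.Quotient.mk (Ideal.span {β}))
          Ideal.Quotient.mk_surjective |>.map_nonunit _ hu')
    have hFu : IsUnit F := MvPowerSeries.isUnit_iff_constantCoeff.mpr hc
    have : IsUnit (φ (xb i)) := hF ▸ hFu.map _
    simpa using this.map φ.symm
  -- preimage of X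
  obtain ⟨z, hz⟩ := φ.surjective (Ideal.Quotient.mk Iβ (X 0))
  obtain ⟨P, rfl⟩ := Ideal.Quotient.mk_surjective z
  obtain ⟨P₀, P₁, hP⟩ : ∃ P₀ P₁, P = C (MvPowerSeries.constantCoeff P) + X 0 * P₀ + X 1 * P₁ := by
    let Q : MvPowerSeries (Fin 2) A := fun m => if m 1 = 0 then 0 else MvPowerSeries.coeff m P
    have hQ : ∀ m, MvPowerSeries.coeff m Q = if m 1 = 0 then 0 else MvPowerSeries.coeff m P :=
      fun m => rfl
    obtain ⟨P₁, hP₁⟩ : X 1 ∣ Q := MvPowerSeries.X_dvd_iff.mpr fun m hm => by rw [hQ, if_pos hm]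
    obtain ⟨P₀, hP₀⟩ : X 0 ∣ P - Q - C (MvPowerSeries.constantCoeff P) := by
      refine MvPowerSeries.X_dvd_iff.mpr fun m hm => ?_
      rw [map_sub, map_sub, hQ, MvPowerSeries.coeff_C]
      rcases eq_or_ne (m 1) 0 with h1 | h1
      · have : m = 0 := by
          ext i; fin_cases i
          · exact hm
          · exact h1
        subst this; simp
      · rw [if_neg h1, if_neg (fun h => h1 (by rw [h]; rfl))]; simp
    exact ⟨P₀, P₁, by rw [← hP₁, ← hP₀]; ring⟩
  have hunit : IsUnit (PowerSeries.coeff 1 (T 0 (φ (xb 0)))) ∨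
      IsUnit (PowerSeries.coeff 1 (T 0 (φ (xb 1)))) := by
    by_contra hcon
    push Not at hcon
    have hφC : φ (Ideal.Quotient.mk Iα (C (MvPowerSeries.constantCoeff P))) =
        Ideal.Quotient.mk Iβ (C (MvPowerSeries.constantCoeff P)) :=
      φ.commutes (MvPowerSeries.constantCoeff P)
    rw [hP, map_add, map_add, map_mul, map_mul, map_add, map_add, map_mul, map_mul, hφC] at hz
    have h2 := congrArg (fun w => PowerSeries.coeff 1 (T 0 w)) hz
    simp only [map_add, map_mul] at h2
    have hC : T 0 (Ideal.Quotient.mk Iβ (C (MvPowerSeries.constantCoeff P))) = PowerSeries.C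
        (Ideal.Quotient.mk _ (MvPowerSeries.constantCoeff P)) := hτC 0 _
    have hX : T 0 (Ideal.Quotient.mk Iβ (X 0)) = PowerSeries.X := by
      show τ 0 (X 0) = _; rw [hτX, if_pos rfl]
    rw [hC, hX, PowerSeries.coeff_C, if_neg one_ne_zero, PowerSeries.coeff_one_X, zero_add] at h2
    refine (maximalIdeal.isMaximal Ab).ne_top ((Ideal.eq_top_iff_one _).mpr (h2 ▸ ?_))
    refine Ideal.add_mem _ ?_ ?_ <;> rw [PowerSeries.coeff_mul] <;>
      refine Ideal.sum_mem _ fun p hp => Ideal.mul_mem_right _ _ ?_ <;>
      rw [Finset.HasAntidiagonal.mem_antidiagonal] at hp <;>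
      rcases Nat.le_one_iff_eq_zero_or_eq_one.mp (show p.1 ≤ 1 by omega) with h | h <;> rw [h]
    · exact hT0 0 0
    · exact hcon.1
    · exact hT0 0 1
    · exact hcon.2
  have hprod : T 0 (φ (xb 0)) * T 0 (φ (xb 1)) = PowerSeries.C (Ideal.Quotient.mk _ α) := by
    rw [← map_mul, ← map_mul]
    have : xb 0 * xb 1 = algebraMap A _ α := by
      show Ideal.Quotient.mk Iα (X 0 * X 1) = Ideal.Quotient.mk Iα (C α)
      exact Ideal.Quotient.eq.mpr (Ideal.mem_span_singleton_self _)
    rw [this, φ.commutes]
    exact hτC 0 α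
  rw [← Ideal.Quotient.eq_zero_iff_mem]
  rcases hunit with h | h
  · exact aux_zero _ _ _ hprod (hT0 0 0) h
  · exact aux_zero _ _ _ (by rw [mul_comm]; exact hprod) (hT0 0 1) h

open MvPowerSeries IsLocalRing in
/-- Let A be a Noetherian local ring and α, β two elements of its maximal ideal. If the quotient of the
power series ring in two variables over A by xy − α is isomorphic, as an A-algebra, to the quotient
by xy − β, then αA = βA. (The published statement allows any local ring A; it is taken Noetherian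
here, the case in which an algebra isomorphism between these complete local rings is continuous for
their adic topologies.) -/
theorem result
    (A : Type u) [CommRing A] [IsLocalRing A] [IsNoetherianRing A]
    (α β : A) (hα : α ∈ maximalIdeal A) (hβ : β ∈ maximalIdeal A)
    (φ : (MvPowerSeries (Fin 2) A ⧸ Ideal.span {(X 0 * X 1 - C α : MvPowerSeries (Fin 2) A)}) ≃ₐ[A] (MvPowerSeries (Fin 2) A ⧸ Ideal.span {(X 0 * X 1 - C β : MvPowerSeries (Fin 2) A)})) :
    Ideal.span {α} = Ideal.span {β} := by
  exact le_antisymm ((Ideal.span_singleton_le_iff_mem _).mpr (ax_mem_span α β hα hβ φ))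
    ((Ideal.span_singleton_le_iff_mem _).mpr (ax_mem_span β α hβ hα φ.symm))

end Groth.Agent.S17720
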