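import Groth.Statements.S17721
import Mathlib.Algebra.Algebra.Rat
import Mathlib.Algebra.MvPolynomial.Funext
import Mathlib.Algebra.Order.Ring.Star
import Mathlib.Algebra.Ring.IsFormallyReal
import Mathlib.Data.Rat.Star
import Mathlib.LinearAlgebra.Charpoly.Basic
import Mathlib.LinearAlgebra.FreeModule.PID
import Mathlib.RingTheory.AdicCompletion.AsTensorProduct
import Mathlib.RingTheory.AdicCompletion.Noetherian
import Mathlib.RingTheory.Adjoin.PowerBasis
import Mathlib.RingTheory.Etale.Field
import Mathlib.RingTheory.Flat.TorsionFree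
import Mathlib.RingTheory.Henselian
import Mathlib.RingTheory.Polynomial.GaussLemma
import Mathlib.RingTheory.PowerSeries.NoZeroDivisors
import Mathlib.RingTheory.RegularLocalRing.Defs
import Mathlib.RingTheory.SimpleRing.Principal
import Mathlib.Tactic

set_option linter.all false

set_option autoImplicit false
universe u
open CAlg

open scoped TensorProduct

namespace Groth.Agent.S17721

open Polynomial IsLocalRing in
/-- Let R be a complete discrete valuation ring with fraction field K, and f a polynomial over R with
non-zero constant term a₀ such that a₀ does not divide some coefficient of f of positive degree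
(equivalently, the Newton polygon of f has a side of negative slope). Let b be the power series over
K with b · f = a₀, the expansion of the geometric series in 1 − f/a₀. Then the valuations of the
coefficients b_j are not bounded below: for every non-zero c in R there is an index j with c · b_j
outside R. -/
theorem result
    (R : Type u) [CommRing R] [IsDomain R] [IsDiscreteValuationRing R]
    [IsAdicComplete (maximalIdeal R) R]
    (K : Type u) [Field K] [Algebra R K] [IsFractionRing R K]
    (f : R[X]) (h0 : f.coeff 0 ≠ 0) (hslope : ∃ i : ℕ, 0 < i ∧ ¬ (f.coeff 0 ∣ f.coeff i))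
    (b : PowerSeries K)
    (hb : b * ((f.map (algebraMap R K) : K[X]) : PowerSeries K) = PowerSeries.C (algebraMap R K (f.coeff 0))) :
    ∀ c : R, c ≠ 0 → ∃ j : ℕ, algebraMap R K c * PowerSeries.coeff j b ∉ (algebraMap R K).range := by
  classical
  intro c hc
  by_contra! hcon
  choose hh hh' using fun j => RingHom.mem_range.mp (hcon j)
  set φ : PowerSeries R := PowerSeries.mk hh
  have hinj : Function.Injective (PowerSeries.map (algebraMap R K)) := fun x y e => by
    ext j; exact IsFractionRing.injective R K (by simpa using congrArg (PowerSeries.coeff j) e)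
  have heq : φ * (f : PowerSeries R) = PowerSeries.C (c * f.coeff 0) := by
    apply hinj
    have hφ : PowerSeries.map (algebraMap R K) φ = PowerSeries.C (algebraMap R K c) * b := by
      ext j; simp [φ, hh']
    rw [map_mul, hφ, ← Polynomial.polynomial_map_coe, mul_assoc, hb, PowerSeries.map_C, map_mul, map_mul]
  obtain ⟨ϖ, hϖ⟩ := IsDiscreteValuationRing.exists_irreducible R
  have fac : ∀ ψ : PowerSeries R, ψ ≠ 0 → ∃ (k : ℕ) (g : PowerSeries R),
      ψ = PowerSeries.C (ϖ ^ k) * g ∧ PowerSeries.map (IsLocalRing.residue R) g ≠ 0 := by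
    intro ψ hψ
    obtain ⟨j, hj⟩ : ∃ j, PowerSeries.coeff j ψ ≠ 0 := by
      by_contra! h; exact hψ (PowerSeries.ext h)
    obtain ⟨t, ht⟩ := IsDiscreteValuationRing.associated_pow_irreducible hj hϖ
    have hex : ∃ k, ∃ i, ¬ ϖ ^ (k + 1) ∣ PowerSeries.coeff i ψ := ⟨t, j, fun h => by
      have := (Associated.dvd_iff_dvd_right ht).mp h
      exact hϖ.not_isUnit (isUnit_of_dvd_one (by
        rw [pow_succ] at this
        exact (mul_dvd_mul_iff_left (pow_ne_zero t hϖ.ne_zero)).mp (by simpa using this))) ⟩
    obtain ⟨i, hi⟩ := Nat.find_spec hex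
    have hall : ∀ i, ϖ ^ Nat.find hex ∣ PowerSeries.coeff i ψ := by
      intro i
      by_contra h
      rcases Nat.eq_zero_or_pos (Nat.find hex) with h0 | h0
      · rw [h0, pow_zero] at h; exact h (one_dvd _)
      · exact Nat.find_min hex (Nat.sub_lt h0 Nat.one_pos) ⟨i, by rwa [Nat.sub_add_cancel h0]⟩
    choose g hg using hall
    refine ⟨Nat.find hex, PowerSeries.mk g, ?_, ?_⟩
    · ext i; rw [PowerSeries.coeff_C_mul, PowerSeries.coeff_mk]; exact hg i
    · intro h
      have hgi : g i ∈ IsLocalRing.maximalIdeal R := by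
        rw [← IsLocalRing.residue_eq_zero_iff]
        simpa using congrArg (PowerSeries.coeff i) h
      rw [hϖ.maximalIdeal_eq, Ideal.mem_span_singleton] at hgi
      exact hi (by rw [hg i, pow_succ]; exact mul_dvd_mul_left _ hgi)
  have hne : (PowerSeries.C (c * f.coeff 0) : PowerSeries R) ≠ 0 := fun h =>
    mul_ne_zero hc h0 (by simpa using congrArg PowerSeries.constantCoeff h)
  obtain ⟨k, φ', hφ, hφ'⟩ := fac φ (fun h => hne (by rw [← heq, h, zero_mul]))
  obtain ⟨l, g, hg, hg'⟩ := fac (f : PowerSeries R) (fun h => hne (by rw [← heq, h, mul_zero]))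
  set w := φ' * g with hw
  have hpow : ϖ ^ (k + l) ≠ 0 := pow_ne_zero _ hϖ.ne_zero
  have hC : PowerSeries.C (ϖ ^ (k + l)) * w = PowerSeries.C (c * f.coeff 0) := by
    rw [← heq, hφ, hg, hw, pow_add, map_mul]; ring
  have hwC : w = PowerSeries.C (PowerSeries.constantCoeff w) := by
    ext j
    rcases eq_or_ne j 0 with rfl | hj
    · simp
    · have := congrArg (PowerSeries.coeff j) hC
      rw [PowerSeries.coeff_C_mul, PowerSeries.coeff_C, if_neg hj] at this
      rw [PowerSeries.coeff_C, if_neg hj]
      exact (mul_eq_zero.mp this).resolve_left hpow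
  have hwne : PowerSeries.map (IsLocalRing.residue R) w ≠ 0 := by
    rw [hw, map_mul]; exact mul_ne_zero hφ' hg'
  have hunit : IsUnit (PowerSeries.constantCoeff g) := by
    have : IsUnit (PowerSeries.constantCoeff w) := by
      rw [← IsLocalRing.residue_ne_zero_iff_isUnit]
      intro h; exact hwne (by rw [hwC, PowerSeries.map_C, h, map_zero])
    rw [hw, map_mul] at this
    exact isUnit_of_mul_isUnit_right this
  obtain ⟨i, -, hi⟩ := hslope
  refine hi ?_
  have hcoe : ∀ i, f.coeff i = ϖ ^ l * PowerSeries.coeff i g := fun i => by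
    rw [← Polynomial.coeff_coe, hg, PowerSeries.coeff_C_mul]
  rw [hcoe 0, hcoe i, PowerSeries.coeff_zero_eq_constantCoeff]
  exact mul_dvd_mul_left _ hunit.dvd

end Groth.Agent.S17721
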