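import Groth.Statements.S17722
import Mathlib.RingTheory.Flat.EquationalCriterion
import Mathlib.RingTheory.Flat.FaithfullyFlat.Algebra
import Mathlib.RingTheory.IntegralClosure.IntegrallyClosed
import Mathlib.Tactic

set_option linter.all false

set_option autoImplicit false
universe u
open CAlg


namespace Groth.Agent.S17722

theorem isPrincipal_descent {R R' : Type u} [CommRing R] [CommRing R'] [IsDomain R'] [IsNoetherianRing R]
    [IsLocalRing R'] [Algebra R R'] [Module.FaithfullyFlat R R']
    (p : Ideal R) (hp : (p.map (algebraMap R R')).IsPrincipal) : p.IsPrincipal := by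
  classical
  obtain ⟨x, hx⟩ := hp.principal
  obtain ⟨s, hs⟩ := (IsNoetherian.noetherian p : p.FG)
  have hback : ∀ g : R, p.map (algebraMap R R') = Ideal.span {algebraMap R R' g} → p.IsPrincipal := by
    intro g hg
    refine ⟨g, ?_⟩
    rw [← Ideal.comap_map_eq_self_of_faithfullyFlat (B := R') p, hg, ← Set.image_singleton,
      ← Ideal.map_span, Ideal.comap_map_eq_self_of_faithfullyFlat]
  rcases eq_or_ne x 0 with rfl | hx0
  · exact hback 0 (by rw [hx, map_zero]; try simp)
  have hmap : p.map (algebraMap R R') = Ideal.span ((algebraMap R R') '' (s : Set R)) := by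
    rw [← hs, Ideal.map_span]
  have hxm : x ∈ Ideal.span ((algebraMap R R') '' (s : Set R)) := by
    rw [← hmap, hx]; exact Ideal.mem_span_singleton_self x
  have hex : ∀ g ∈ s, ∃ c, algebraMap R R' g = c * x := fun g hg => by
    have : algebraMap R R' g ∈ p.map (algebraMap R R') :=
      Ideal.mem_map_of_mem _ (hs ▸ Ideal.subset_span hg)
    rw [hx] at this
    obtain ⟨c, hc⟩ := Ideal.mem_span_singleton'.mp this
    exact ⟨c, hc.symm⟩
  choose! c hc using hex
  by_cases hu : ∃ g ∈ s, IsUnit (c g)
  · obtain ⟨g, hg, hgu⟩ := hu
    refine hback g ?_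
    rw [hx, hc g hg]
    exact (Ideal.span_singleton_mul_left_unit hgu x).symm
  exfalso
  push Not at hu
  have : x ∈ IsLocalRing.maximalIdeal R' * Ideal.span {x} := by
    refine Submodule.span_induction (p := fun z _ => z ∈ IsLocalRing.maximalIdeal R' * Ideal.span {x}) ?_ (Submodule.zero_mem _) (fun a b _ _ => add_mem)
      (fun a b _ hb => Submodule.smul_mem _ a hb) hxm
    rintro _ ⟨g, hg, rfl⟩
    rw [hc g hg]
    exact Ideal.mul_mem_mul (hu g hg) (Ideal.mem_span_singleton_self x)
  obtain ⟨m, hm, hmx⟩ := Ideal.mem_mul_span_singleton.mp this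
  have : m = 1 := mul_right_cancel₀ hx0 (hmx.trans (one_mul x).symm)
  exact (IsLocalRing.maximalIdeal.isMaximal R').ne_top ((Ideal.eq_top_iff_one _).mpr (this ▸ hm))

/-- Let R → R' be a faithfully flat ring map between Noetherian integrally closed local domains, and p
an ideal of R. If the ideal pR' generated by the image of p is principal, then p is principal. (The
second assertion of the published lemma, descent of unique factorization, is not part of this row.) -/
theorem result
    (R R' : Type u) [CommRing R] [CommRing R'] [IsDomain R] [IsDomain R']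
    [IsNoetherianRing R] [IsNoetherianRing R'] [IsLocalRing R] [IsLocalRing R']
    [IsIntegrallyClosed R] [IsIntegrallyClosed R']
    [Algebra R R'] [Module.FaithfullyFlat R R']
    (p : Ideal R) (hp : (p.map (algebraMap R R')).IsPrincipal) :
    p.IsPrincipal := by
  exact isPrincipal_descent p hp

end Groth.Agent.S17722
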