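import Groth.Statements.S17723
import Mathlib.Algebra.Module.Submodule.Map
import Groth.Agent.GraphLib.Potential

set_option autoImplicit false
universe u
open LabGraph

namespace Groth.Agent.S17723

/-- Let G be a finite connected multigraph with endpoint map ends and edge labels l taking positive
integer values. We say g : V → ℤ is elementary-Cartier if, for some integer n ≥ 1, all values of g
are multiples of n and, for each edge whose label fails to divide n, g agrees at its two endpoints
(equivalently, once the edges with label dividing n are removed, g takes a single value on each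
connected piece of what remains). Then every Cartier function f (for each edge, the label divides
the difference of the values of f at its endpoints) lies in the ℤ-span of the elementary-Cartier
functions. -/
theorem result
    {V E : Type u} [Fintype V] [Fintype E] [DecidableEq V] [DecidableEq E]
    (ends : E → V × V) (l : E → ℕ) (hl : ∀ e, 0 < l e) (hconn : LabGraph.Connected ends)
    (f : V → ℤ) (hf : LabGraph.IsCartier ends l f) :
    f ∈ Submodule.span ℤ {g : V → ℤ | ∃ n : ℕ, 0 < n ∧ (∀ v, (n : ℤ) ∣ g v) ∧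
      ∀ e, ¬ (l e ∣ n) → g (ends e).1 = g (ends e).2} := by
  classical
  set Sset := {g : V → ℤ | ∃ n : ℕ, 0 < n ∧ (∀ v, (n : ℤ) ∣ g v) ∧
      ∀ e, ¬ (l e ∣ n) → g (ends e).1 = g (ends e).2}
  let N : ℕ := ∏ e : E, l e
  have hN : 0 < N := Finset.prod_pos fun e _ => hl e
  have hdN : ∀ e, l e ∣ N := fun e => Finset.dvd_prod_of_mem l (Finset.mem_univ e)
  have hmem : ∀ (n : ℕ) (g : V → ℤ), 0 < n → (∀ v, (n : ℤ) ∣ g v) →
      (∀ e, ¬ (l e ∣ n) → g (ends e).1 = g (ends e).2) → g ∈ Submodule.span ℤ Sset := fun n g h1 h2 h3 =>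
    Submodule.subset_span ⟨n, h1, h2, h3⟩
  let I : Ideal ℤ := (Submodule.span ℤ Sset).comap (LinearMap.toSpanSingleton ℤ (V → ℤ) f)
  have hI : ∀ c : ℤ, c ∈ I ↔ c • f ∈ Submodule.span ℤ Sset := fun c => Iff.rfl
  have hNI : (N : ℤ) ∈ I := (hI _).2 (hmem N _ hN (fun v => ⟨f v, by simp⟩) fun e he => absurd (hdN e) he)
  have key : ∀ q : ℕ, q.Prime → ∃ M ∈ I, ¬ (q : ℤ) ∣ M := by
    intro q hq
    haveI := Fact.mk hq
    obtain ⟨K, M, hM, hNM⟩ := Nat.exists_eq_pow_mul_and_not_dvd hN.ne' q hq.ne_one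
    refine ⟨(M : ℤ), (hI _).2 ?_, fun h => hM (Int.natCast_dvd_natCast.1 h)⟩
    have hM0 : 0 < M := Nat.pos_of_ne_zero fun h => hM (h ▸ dvd_zero q)
    have hqpos : (0 : ℤ) < q := by exact_mod_cast hq.pos
    have hdig : ∀ e k, k < K → ¬ l e ∣ q ^ k * M → (q : ℤ) ^ (k + 1) ∣ f (ends e).1 - f (ends e).2 := by
      intro e k hk hne
      obtain ⟨a, b, ha, hb, hab⟩ := (Nat.dvd_mul.1 (hNM ▸ hdN e))
      obtain ⟨j, -, rfl⟩ := (Nat.dvd_prime_pow hq).1 ha
      have hj : k + 1 ≤ j := by
        by_contra hj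
        exact hne (hab ▸ Nat.mul_dvd_mul (pow_dvd_pow q (by omega)) hb)
      refine dvd_trans (pow_dvd_pow _ hj) (dvd_trans ?_ (hf e))
      rw [← hab]; push_cast; exact dvd_mul_right _ _
    -- remainders
    have hrem : ∀ k, k ≤ K → (fun v => (M : ℤ) * (f v % (q : ℤ) ^ k)) ∈ Submodule.span ℤ Sset := by
      intro k
      induction k with
      | zero =>
        intro
        simp only [pow_zero, Int.emod_one, mul_zero]
        exact Submodule.zero_mem _
      | succ k ih =>
        intro hk
        have e1 : (fun v => (M : ℤ) * (f v % (q : ℤ) ^ (k + 1))) = (fun v => (M : ℤ) * (f v % (q : ℤ) ^ k)) +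
            (fun v => (M : ℤ) * (f v % (q : ℤ) ^ (k + 1) - f v % (q : ℤ) ^ k)) := by
          funext v; simp [mul_sub]
        rw [e1]
        refine Submodule.add_mem _ (ih (by omega))
          (hmem (q ^ k * M) _ (Nat.mul_pos (pow_pos hq.pos k) hM0) (fun v => ?_) fun e he => ?_)
        · push_cast
          rw [mul_comm ((q : ℤ) ^ k)]
          refine mul_dvd_mul_left _ ?_
          have h1 : (q : ℤ) ^ k ∣ f v % (q : ℤ) ^ (k + 1) - f v := by
            rw [Int.emod_def, sub_sub_cancel_left]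
            exact (dvd_neg).2 (Dvd.dvd.mul_right (pow_dvd_pow _ (Nat.le_succ k)) _)
          have h2 : (q : ℤ) ^ k ∣ f v % (q : ℤ) ^ k - f v := by
            rw [Int.emod_def, sub_sub_cancel_left]
            exact (dvd_neg).2 (dvd_mul_right _ _)
          simpa using dvd_sub h1 h2
        · have h1 := hdig e k (by omega) he
          have h2 : (q : ℤ) ^ k ∣ f (ends e).1 - f (ends e).2 := dvd_trans (pow_dvd_pow _ (Nat.le_succ k)) h1
          simp only [Int.emod_eq_emod_iff_emod_sub_eq_zero.2 (Int.emod_eq_zero_of_dvd h1),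
            Int.emod_eq_emod_iff_emod_sub_eq_zero.2 (Int.emod_eq_zero_of_dvd h2)]
    have e2 : (M : ℤ) • f = (fun v => (M : ℤ) * (f v % (q : ℤ) ^ K)) + fun v => (N : ℤ) * (f v / (q : ℤ) ^ K) := by
      funext v
      simp only [Pi.smul_apply, Pi.add_apply, smul_eq_mul, hNM]
      push_cast
      linear_combination -(M : ℤ) * Int.emod_add_mul_ediv (f v) ((q : ℤ) ^ K)
    rw [e2]
    exact Submodule.add_mem _ (hrem K le_rfl) (hmem N _ hN (fun v => dvd_mul_right _ _) fun e he => absurd (hdN e) he)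
  suffices h : (1 : ℤ) ∈ I by simpa using (hI _).1 h
  rw [← Ideal.eq_top_iff_one]
  by_contra hne
  have hn : (Submodule.IsPrincipal.generator I).natAbs ≠ 1 := fun h =>
    hne (Ideal.eq_top_of_isUnit_mem I (Submodule.IsPrincipal.generator_mem I) (Int.isUnit_iff_natAbs_eq.2 h))
  obtain ⟨q, hq, hqn⟩ := Nat.exists_prime_and_dvd hn
  obtain ⟨M, hM, hMq⟩ := key q hq
  exact hMq ((Int.natCast_dvd.2 hqn).trans ((Submodule.IsPrincipal.mem_iff_generator_dvd I).1 hM))

end Groth.Agent.S17723
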