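import Groth.Statements.S17724
import Groth.Agent.GraphLib.Potential

set_option autoImplicit false
universe u v
open LabGraph

namespace Groth.Agent.S17724

/-- Let G be a finite connected multigraph with endpoint map ends, whose edges carry labels lab in a set
L and positive integer labels n, and suppose the L-labels are constant along every circuit. Say g :
V → ℤ is pre-achievable when for some finite set B of edges all carrying the same L-label, g takes
equal values at the two endpoints of every edge outside B (so g is constant on the connected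
components of the graph with B deleted); say g is Cartier when for every edge e the integer n(e)
divides the difference of the values of g at its endpoints. Then every Cartier function f is a
finite sum of functions each of which is Cartier and pre-achievable, and when f vanishes at a vertex
v₀ the summands can all be taken to vanish at v₀. -/
theorem result
    {V E : Type u} [Fintype V] [Fintype E] [DecidableEq V] [DecidableEq E] {L : Type v}
    (ends : E → V × V) (lab : E → L) (n : E → ℕ) (hn : ∀ e, 0 < n e)
    (hconn : LabGraph.Connected ends)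
    (hcirc : ∀ C : Finset E, LabGraph.IsCircuit ends C → ∀ e ∈ C, ∀ e' ∈ C, lab e = lab e')
    (f : V → ℤ) (hf : LabGraph.IsCartier ends n f) :
    f ∈ AddSubmonoid.closure {g : V → ℤ | LabGraph.IsCartier ends n g ∧ (∃ B : Finset E, (∀ e ∈ B, ∀ e' ∈ B, lab e = lab e') ∧ ∀ e, e ∉ B → g (ends e).1 = g (ends e).2)} ∧
    ∀ v₀ : V, f v₀ = 0 →
      f ∈ AddSubmonoid.closure {g : V → ℤ | LabGraph.IsCartier ends n g ∧ (∃ B : Finset E, (∀ e ∈ B, ∀ e' ∈ B, lab e = lab e') ∧ ∀ e, e ∉ B → g (ends e).1 = g (ends e).2) ∧ g v₀ = 0} := by
  classical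
  obtain ⟨r⟩ := hconn.1
  obtain ⟨T, -, hT⟩ := (Groth.Agent.GraphLib.spans_univ hconn r).exists_good
  let g : L → V → ℤ := fun μ v => ∑ e ∈ T.filter (fun e => lab e = μ),
    Groth.Agent.GraphLib.grad ends f e * Groth.Agent.GraphLib.far ends T e v
  have htree : ∀ μ, ∀ e ∈ T, Groth.Agent.GraphLib.grad ends (g μ) e =
      if lab e = μ then Groth.Agent.GraphLib.grad ends f e else 0 := by
    intro μ e he
    have : Groth.Agent.GraphLib.grad ends (g μ) e = ∑ x ∈ T.filter (fun x => lab x = μ),
        Groth.Agent.GraphLib.grad ends f x * Groth.Agent.GraphLib.grad ends (Groth.Agent.GraphLib.far ends T x) e := by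
      simp only [Groth.Agent.GraphLib.grad, g, mul_sub, Finset.sum_sub_distrib]
    rw [this, Finset.sum_congr rfl fun x hx => by
      rw [Groth.Agent.GraphLib.grad_far hT (Finset.mem_filter.1 hx).1 he]]
    simp [he]
  have hall : ∀ μ e, Groth.Agent.GraphLib.grad ends (g μ) e =
      if lab e = μ then Groth.Agent.GraphLib.grad ends f e else 0 := by
    intro μ e
    by_cases he : e ∈ T
    · exact htree μ e he
    have hna : ¬ Groth.Agent.GraphLib.Acyc ends (insert e T) := fun h => by
      have h1 := h.card_lt r
      have h2 := hT.2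
      rw [Finset.card_insert_of_notMem he] at h1
      rw [Finset.card_singleton] at h2
      omega
    simp only [Groth.Agent.GraphLib.Acyc] at hna
    push Not at hna
    obtain ⟨C₀, hC₀, hne, hev⟩ := hna
    obtain ⟨C, hC, hcirc'⟩ := Groth.Agent.GraphLib.exists_circuit hne hev
    have heC : e ∈ C := by
      by_contra h
      obtain ⟨u, hu⟩ := hT.acyc C (fun x hx =>
        (Finset.mem_insert.1 (hC₀ (hC hx))).resolve_left (fun hxe => h (hxe ▸ hx))) hcirc'.1
      exact hu (hcirc'.2.1 u)
    have hpath : ∀ a b, Relation.ReflTransGen (Groth.Agent.GraphLib.AdjT ends (C.erase e)) a b →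
        g μ b - g μ a = if lab e = μ then f b - f a else 0 := by
      intro a b h
      induction h with
      | refl => simp
      | @tail x y _ hxy ih =>
        obtain ⟨e', he', hxy⟩ := hxy
        have he'T : e' ∈ T :=
          (Finset.mem_insert.1 (hC₀ (hC (Finset.mem_of_mem_erase he')))).resolve_left (Finset.mem_erase.1 he').1
        have h1 := htree μ e' he'T
        rw [hcirc C hcirc' e' (Finset.mem_of_mem_erase he') e heC] at h1
        simp only [Groth.Agent.GraphLib.grad] at h1
        rcases hxy with h2 | h2 <;> simp only [h2] at h1 <;> split_ifs at h1 ih ⊢ <;> linarith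
    exact hpath _ _ (Groth.Agent.GraphLib.conn_erase heC hcirc'.2.1)
  let lo : Finset L := Finset.univ.image lab
  have hconst : ∀ v w, f v - ∑ μ ∈ lo, g μ v = f w - ∑ μ ∈ lo, g μ w := by
    intro v w
    induction hconn.2 v w with
    | refl => rfl
    | @tail x y _ hxy ih =>
      refine ih.trans ?_
      obtain ⟨e, he⟩ := hxy
      have h1 : ∑ μ ∈ lo, Groth.Agent.GraphLib.grad ends (g μ) e = Groth.Agent.GraphLib.grad ends f e := by
        simp [hall, lo]
      simp only [Groth.Agent.GraphLib.grad, Finset.sum_sub_distrib] at h1
      rcases he with h2 | h2 <;> simp only [h2] at h1 <;> linarith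
  have hgood : ∀ μ (c : ℤ), LabGraph.IsCartier ends n (fun v => g μ v - c) ∧
      ∃ B : Finset E, (∀ e ∈ B, ∀ e' ∈ B, lab e = lab e') ∧
        ∀ e, e ∉ B → (fun v => g μ v - c) (ends e).1 = (fun v => g μ v - c) (ends e).2 := by
    intro μ c
    refine ⟨fun e => ?_, Finset.univ.filter (fun e => lab e = μ), fun e he e' he' => by
      rw [(Finset.mem_filter.1 he).2, (Finset.mem_filter.1 he').2], fun e he => ?_⟩
    · have h1 := hall μ e
      simp only [Groth.Agent.GraphLib.grad] at h1
      simp only [sub_sub_sub_cancel_right]
      rw [show g μ (ends e).1 - g μ (ends e).2 = -(if lab e = μ then f (ends e).2 - f (ends e).1 else 0) by linarith]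
      split_ifs
      · rw [neg_sub]; exact hf e
      · simp
    · simp only [Finset.mem_filter, Finset.mem_univ, true_and] at he
      have h1 := hall μ e
      rw [if_neg he, Groth.Agent.GraphLib.grad] at h1
      simp only
      linarith
  have hconstmem : ∀ c : ℤ, LabGraph.IsCartier ends n (fun _ : V => c) ∧
      ∃ B : Finset E, (∀ e ∈ B, ∀ e' ∈ B, lab e = lab e') ∧
        ∀ e, e ∉ B → (fun _ : V => c) (ends e).1 = (fun _ : V => c) (ends e).2 := fun c =>
    ⟨fun e => by simp, ∅, by simp, fun e _ => rfl⟩
  constructor
  · have hfeq : f = (∑ μ ∈ lo, g μ) + fun _ => f r - ∑ μ ∈ lo, g μ r := by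
      funext v
      simp only [Pi.add_apply, Finset.sum_apply]
      have := hconst v r
      linarith
    rw [hfeq]
    refine AddSubmonoid.add_mem _ (AddSubmonoid.sum_mem _ fun μ _ => AddSubmonoid.subset_closure ?_)
      (AddSubmonoid.subset_closure (hconstmem _))
    simpa using hgood μ 0
  · intro v₀ hv₀
    have hfeq : f = ∑ μ ∈ lo, fun v => g μ v - g μ v₀ := by
      funext v
      simp only [Finset.sum_apply, Finset.sum_sub_distrib]
      have := hconst v v₀
      linarith
    rw [hfeq]
    exact AddSubmonoid.sum_mem _ fun μ _ => AddSubmonoid.subset_closure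
      ⟨(hgood μ _).1, (hgood μ _).2, sub_self _⟩

end Groth.Agent.S17724
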