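import Mathlib.AlgebraicGeometry.Noetherian
import Mathlib.Logic.Relation
set_option autoImplicit false
universe u
namespace SpecSp
end SpecSp
open SpecSp

namespace Groth.Agent.S17725

open AlgebraicGeometry in
/-- In a connected Noetherian scheme any two points p, q are linked by a finite chain of points p = x₁,
…, xₙ = q such that for each i one of x_i, x_{i+1} is a specialization of the other; equivalently, p
and q are related by the equivalence relation generated by the specialization relation. -/
theorem result
    (X : Scheme.{u}) [IsNoetherian X] [ConnectedSpace X] (p q : X) :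
    Relation.EqvGen (fun x y : X => x ⤳ y) p q := by
  classical
  let C : Set X := {x | Relation.EqvGen (fun x y : X => x ⤳ y) p x}
  have hC : ∀ a b : X, a ⤳ b → (a ∈ C ↔ b ∈ C) := fun a b hab =>
    ⟨fun h => .trans _ _ _ h (.rel _ _ hab), fun h => .trans _ _ _ h (.symm _ _ (.rel _ _ hab))⟩
  have hcl : ∀ D : Set X, (∀ a b : X, a ⤳ b → (a ∈ D ↔ b ∈ D)) → IsClosed D := fun D hD => by
    have : D = ⋃₀ {Z ∈ irreducibleComponents X | Z ⊆ D} := by
      refine Set.Subset.antisymm (fun x hx => ?_) (Set.sUnion_subset fun Z hZ => hZ.2)
      refine ⟨irreducibleComponent x, ⟨irreducibleComponent_mem_irreducibleComponents x, fun z hz => ?_⟩,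
        mem_irreducibleComponent⟩
      obtain ⟨η, hη⟩ := QuasiSober.sober (isIrreducible_irreducibleComponent (x := x)) isClosed_irreducibleComponent
      exact (hD _ _ (hη.specializes hz)).1 ((hD _ _ (hη.specializes mem_irreducibleComponent)).2 hx)
    rw [this, Set.sUnion_eq_biUnion]
    exact (TopologicalSpace.NoetherianSpace.finite_irreducibleComponents.subset fun Z hZ => hZ.1).isClosed_biUnion
      fun Z hZ => isClosed_of_mem_irreducibleComponents Z hZ.1
  have hclopen : IsClopen C := ⟨hcl C hC, by
    rw [← isClosed_compl_iff]
    exact hcl _ fun a b hab => not_congr (hC a b hab)⟩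
  have : C = Set.univ := hclopen.eq_univ ⟨p, .refl p⟩
  exact (Set.eq_univ_iff_forall.1 this q : q ∈ C)

end Groth.Agent.S17725
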