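import Groth.Statements.S17726
import Mathlib.RingTheory.Derivation.Basic
import Mathlib.RingTheory.Flat.Equalizer
import Mathlib.RingTheory.Henselian
import Mathlib.RingTheory.Regular.RegularSequence
import Mathlib.RingTheory.RegularLocalRing.Defs
import Mathlib.RingTheory.SimpleRing.Principal
import Mathlib.RingTheory.Flat.FaithfullyFlat.Algebra
import Mathlib.RingTheory.Ideal.AssociatedPrime.Basic
import Mathlib.RingTheory.HopkinsLevitzki
import Mathlib.RingTheory.Support
import Mathlib.Tactic
import Groth.Agent.CommAlg4.Basic

set_option linter.all false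

set_option autoImplicit false
universe u
open CAlg

open Groth.Agent.CommAlg4

namespace Groth.Agent.S17726

/-- Let f and g be non-zero-divisors of a commutative ring A, not both units; think of them as local
equations, at a point of the union of the supports, of two effective Cartier divisors E and D. If
the ideals generated by g^{m₁} and f^{n₁} coincide, and likewise for g^{m₂} and f^{n₂}, then m₁ n₂ =
m₂ n₁. So all pairs (m, n) with m D = n E locally at the point are proportional, and the saturation
of the monoid they form is generated by a single element. -/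
theorem result
    (A : Type u) [CommRing A] (f g : A)
    (hf : f ∈ nonZeroDivisors A) (hg : g ∈ nonZeroDivisors A) (hfg : ¬ (IsUnit f ∧ IsUnit g))
    (m₁ n₁ m₂ n₂ : ℕ)
    (h₁ : Ideal.span {g ^ m₁} = Ideal.span {f ^ n₁})
    (h₂ : Ideal.span {g ^ m₂} = Ideal.span {f ^ n₂}) :
    m₁ * n₂ = m₂ * n₁ := by
  by_contra hne
  have key : Ideal.span {g ^ (m₁ * n₂)} = Ideal.span {g ^ (m₂ * n₁)} := by
    rw [pow_mul, pow_mul, ← Ideal.span_singleton_pow, ← Ideal.span_singleton_pow (g ^ m₂), h₁, h₂, Ideal.span_singleton_pow, Ideal.span_singleton_pow, ← pow_mul, ← pow_mul, mul_comm]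
  have hgu : IsUnit g := by
    have : ∀ a b, a < b → Ideal.span {g ^ a} = Ideal.span {g ^ b} → IsUnit g := by
      intro a b hab h
      obtain ⟨c, hc⟩ := Ideal.span_singleton_le_span_singleton.mp h.le
      have hd : g ^ a * 1 = g ^ a * (g ^ (b - a) * c) := by
        rw [mul_one, ← mul_assoc, ← pow_add, Nat.add_sub_cancel' hab.le]; exact hc
      rw [mul_cancel_left_mem_nonZeroDivisors (pow_mem hg a)] at hd
      exact (isUnit_pow_iff (by omega : b - a ≠ 0)).mp (IsUnit.of_mul_eq_one _ hd.symm)
    rcases Nat.lt_or_gt_of_ne hne with h | h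
    exacts [this _ _ h key, this _ _ h key.symm]
  have : ∀ m n, Ideal.span {g ^ m} = Ideal.span {f ^ n} → n = 0 := by
    intro m n h
    by_contra hn
    refine hfg ⟨(isUnit_pow_iff hn).mp ?_, hgu⟩
    rw [← Ideal.span_singleton_eq_top, ← h, Ideal.span_singleton_eq_top]; exact hgu.pow m
  simp [this _ _ h₁, this _ _ h₂] at hne

end Groth.Agent.S17726
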