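import Groth.Statements.S17727
import Groth.Agent.EGA43.SchDom
import Mathlib.AlgebraicGeometry.AffineScheme
open CategoryTheory CategoryTheory.Limits AlgebraicGeometry TopologicalSpace

set_option autoImplicit false
universe u
open Neron

namespace Groth.Agent.S17727

open CategoryTheory AlgebraicGeometry in
/-- Let f : E → S be a morphism of schemes and U ⊆ S a schematically dense open subscheme such that f
restricts to an isomorphism over U and the preimage of U is schematically dense in E. Then for every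
section σ of f and every point s of S there is an open neighbourhood W of σ(s) in E on which f
restricts to an open immersion. (The published statements conclude that the section lands in the
étale locus of f, in one published form for an algebraic space E, in another for f locally of finite
type over a Noetherian base; the affine-local argument gives the sharper conclusion recorded here,
for schemes.) -/
theorem result
    {E S : Scheme.{u}} (f : E ⟶ S) (U : S.Opens) (hU : CInt.IsSchematicallyDense U)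
    (hiso : IsIso (morphismRestrict f U)) (hdense : CInt.IsSchematicallyDense (f ⁻¹ᵁ U))
    (σ : S ⟶ E) (hσ : σ ≫ f = 𝟙 S) (s : S) :
    ∃ W : E.Opens, σ.base s ∈ W ∧ IsOpenImmersion (W.ι ≫ f) := by
  obtain ⟨V, hV, hsV, -⟩ := exists_isAffineOpen_mem_and_subset (x := σ s) (U := ⊤) trivial
  obtain ⟨D, hD, hsD, hDV⟩ := exists_isAffineOpen_mem_and_subset (x := s) (U := σ ⁻¹ᵁ V) hsV
  have hfσ : ∀ x, f (σ x) = x := fun x => by rw [← Scheme.Hom.comp_apply, hσ]; rfl
  let W : E.Opens := V ⊓ f ⁻¹ᵁ D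
  refine ⟨W, ⟨hsV, by show f (σ s) ∈ D; rw [hfσ]; exact hsD⟩, ?_⟩
  let π : W.toScheme ⟶ D.toScheme := IsOpenImmersion.lift D.ι (W.ι ≫ f) (by
    rw [Scheme.Opens.range_ι]; rintro _ ⟨w, rfl⟩; exact w.2.2)
  have hπ : π ≫ D.ι = W.ι ≫ f := IsOpenImmersion.lift_fac _ _ _
  let τ : D.toScheme ⟶ W.toScheme := IsOpenImmersion.lift W.ι (D.ι ≫ σ) (by
    rw [Scheme.Opens.range_ι]
    rintro _ ⟨d, rfl⟩
    exact ⟨hDV d.2, by show f (σ (D.ι d)) ∈ D; rw [hfσ]; exact d.2⟩)
  have hτ : τ ≫ W.ι = D.ι ≫ σ := IsOpenImmersion.lift_fac _ _ _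
  have h1 : τ ≫ π = 𝟙 _ := by
    rw [← cancel_mono D.ι, Category.assoc, hπ, reassoc_of% hτ, hσ, Category.id_comp, Category.comp_id]
  have : IsAffine V.toScheme := hV
  have hsep : IsSeparated (terminal.from W.toScheme) := by
    rw [← terminal.comp_from (E.homOfLE (inf_le_left : W ≤ V))]
    infer_instance
  have hdom : Groth.Agent.EGA43.SchDom (fun _ : Unit => (f ⁻¹ᵁ U).ι) := by
    intro O t ht
    refine hdense O (Eq.trans ?_ (map_zero _).symm)
    have := ht ()
    rw [Scheme.Opens.ι_app] at this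
    have hle : O ⊓ (f ⁻¹ᵁ U) ≤ (f ⁻¹ᵁ U).ι ''ᵁ (f ⁻¹ᵁ U).ι ⁻¹ᵁ O := fun x hx => ⟨⟨x, hx.2⟩, hx.1, rfl⟩
    have h2 := congrArg (E.presheaf.map (homOfLE hle).op) this
    refine Eq.trans ?_ (h2.trans (map_zero (E.presheaf.map (homOfLE hle).op).hom))
    exact ConcreteCategory.congr_hom (E.presheaf.map_comp (homOfLE (Scheme.Hom.image_preimage_le _ O)).op (homOfLE hle).op) t
  let r := f ∣_ U
  let l : U.toScheme ⟶ (f ⁻¹ᵁ U).toScheme := IsOpenImmersion.lift (f ⁻¹ᵁ U).ι (U.ι ≫ σ) (by
    rw [Scheme.Opens.range_ι]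
    rintro _ ⟨d, rfl⟩
    show f (σ (U.ι d)) ∈ U
    rw [hfσ]; exact d.2)
  have hl : l ≫ (f ⁻¹ᵁ U).ι = U.ι ≫ σ := IsOpenImmersion.lift_fac _ _ _
  have hlr : l ≫ r = 𝟙 _ := by
    rw [← cancel_mono U.ι, Category.assoc, morphismRestrict_ι, reassoc_of% hl, hσ, Category.id_comp, Category.comp_id]
  have hkey : (f ⁻¹ᵁ U).ι ≫ f ≫ σ = (f ⁻¹ᵁ U).ι := by
    rw [← morphismRestrict_ι_assoc, ← hl, show l = inv r from (IsIso.inv_eq_of_inv_hom_id hlr).symm]
    exact IsIso.hom_inv_id_assoc r _
  have h2 : π ≫ τ = 𝟙 _ := by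
    refine (hdom.restrict W).eq_of_separated (terminal.from W.toScheme) _ _ (terminal.hom_ext _ _) fun _ => ?_
    rw [← cancel_mono W.ι]
    simp only [Category.assoc, Category.id_comp, hτ, reassoc_of% hπ, morphismRestrict_ι_assoc, morphismRestrict_ι]
    rw [hkey]
  have : IsIso π := ⟨τ, h2, h1⟩
  rw [← hπ]
  infer_instance

end Groth.Agent.S17727
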