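import Groth.Statements.S17728
import Groth.Agent.EGA43.FlatDescent.SchemeOpen
import Groth.Agent.NeronLib.FlatDense
import Groth.Agent.SGA3xLib.SepFibre
import Mathlib.AlgebraicGeometry.Morphisms.FlatMono
import Mathlib.AlgebraicGeometry.Morphisms.Etale
-- import your own Groth.Agent.* helpers here

set_option autoImplicit false
universe u
open Neron

namespace Groth.Agent.S17728

open CategoryTheory CategoryTheory.Limits AlgebraicGeometry

theorem eq_of_comp_eq {X S P : Scheme.{u}} (f : X ⟶ S) (U : S.Opens) [IsIso (f ∣_ U)] (a b : P ⟶ X)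
    (h : a ≫ f = b ≫ f) (ha : ∀ p, f (a p) ∈ U) : a = b := by
  have hb : ∀ p, f (b p) ∈ U := fun p => by
    have := congrArg (fun m : P ⟶ S => m p) h
    simp only [Scheme.Hom.comp_apply] at this
    exact this ▸ ha p
  let a' := IsOpenImmersion.lift (f ⁻¹ᵁ U).ι a (by
    rw [Scheme.Opens.range_ι]; rintro _ ⟨p, rfl⟩; exact ha p)
  let b' := IsOpenImmersion.lift (f ⁻¹ᵁ U).ι b (by
    rw [Scheme.Opens.range_ι]; rintro _ ⟨p, rfl⟩; exact hb p)
  have e : a' = b' := by
    rw [← cancel_mono (f ∣_ U ≫ U.ι), morphismRestrict_ι, ← Category.assoc, ← Category.assoc]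
    simp only [a', b', IsOpenImmersion.lift_fac, h]
  calc a = a' ≫ (f ⁻¹ᵁ U).ι := (IsOpenImmersion.lift_fac _ _ _).symm
    _ = b' ≫ (f ⁻¹ᵁ U).ι := by rw [e]
    _ = b := IsOpenImmersion.lift_fac _ _ _

theorem nhd_of_section {X S : Scheme.{u}} (f : X ⟶ S) (U : S.Opens) [IsIso (f ∣_ U)]
    (hdense : CInt.IsSchematicallyDense (f ⁻¹ᵁ U)) (V : S.Opens) (σ : (V : Scheme.{u}) ⟶ X)
    (hσ : σ ≫ f = V.ι) (v : V) : ∃ W : X.Opens, σ v ∈ W ∧ IsOpenImmersion (W.ι ≫ f) := by
  obtain ⟨X₀, hX₀, hvX₀, -⟩ := exists_isAffineOpen_mem_and_subset (x := σ v) (U := ⊤) trivial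
  let D : S.Opens := V.ι ''ᵁ (σ ⁻¹ᵁ X₀)
  have hDV : D ≤ V := by rintro _ ⟨a, -, rfl⟩; exact a.2
  have hfσ : ∀ a : V, f (σ a) = V.ι a := fun a => by rw [← Scheme.Hom.comp_apply, hσ]
  let W : X.Opens := X₀ ⊓ f ⁻¹ᵁ D
  refine ⟨W, ⟨hvX₀, show f (σ v) ∈ D by rw [hfσ]; exact ⟨v, hvX₀, rfl⟩⟩, ?_⟩
  let π : W.toScheme ⟶ D.toScheme := IsOpenImmersion.lift D.ι (W.ι ≫ f) (by
    rw [Scheme.Opens.range_ι]; rintro _ ⟨w, rfl⟩; exact w.2.2)
  have hπ : π ≫ D.ι = W.ι ≫ f := IsOpenImmersion.lift_fac _ _ _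
  let τ : D.toScheme ⟶ W.toScheme := IsOpenImmersion.lift W.ι (S.homOfLE hDV ≫ σ) (by
    rw [Scheme.Opens.range_ι]
    rintro _ ⟨d, rfl⟩
    obtain ⟨a, ha, e⟩ := d.2
    have ed : S.homOfLE hDV d = a := V.ι.injective (by
      exact ((Scheme.Hom.comp_apply _ _ _).symm.trans (congrArg (fun m => m d) (Scheme.homOfLE_ι S hDV))).trans e.symm)
    refine ⟨?_, show f (σ (S.homOfLE hDV d)) ∈ D from ?_⟩
    · show σ (S.homOfLE hDV d) ∈ X₀
      rw [ed]; exact ha
    · rw [ed, hfσ]; exact ⟨a, ha, rfl⟩)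
  have hτ : τ ≫ W.ι = S.homOfLE hDV ≫ σ := IsOpenImmersion.lift_fac _ _ _
  have h1 : τ ≫ π = 𝟙 _ := by
    rw [← cancel_mono D.ι, Category.assoc, hπ, reassoc_of% hτ, hσ, Scheme.homOfLE_ι, Category.id_comp]
  have : IsAffine X₀.toScheme := hX₀
  have h2 : π ≫ τ = 𝟙 _ := by
    rw [← cancel_mono (X.homOfLE (inf_le_left : W ≤ X₀))]
    refine SGA3xLib.eq_of_schematicallyDense (SGA3xLib.schematicallyDense_preimage W.ι hdense) ?_
    rw [← cancel_mono X₀.ι]
    simp only [Category.assoc, Category.id_comp, Scheme.homOfLE_ι]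
    refine eq_of_comp_eq f U _ _ ?_ fun p => ?_
    · simp only [Category.assoc]
      rw [reassoc_of% hτ, hσ, Scheme.homOfLE_ι, hπ]
    · simp only [← Scheme.Hom.comp_apply, Category.assoc]
      rw [reassoc_of% hτ, hσ, Scheme.homOfLE_ι, hπ]
      exact p.2
  have : IsIso π := ⟨τ, h2, h1⟩
  rw [← hπ]
  infer_instance

theorem nhd_of_flat {X S : Scheme.{u}} [IsLocallyNoetherian S] (f : X ⟶ S) [LocallyOfFiniteType f]
    (U : S.Opens) [IsIso (f ∣_ U)] (hdense : CInt.IsSchematicallyDense (f ⁻¹ᵁ U)) (x : X)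
    (hx : (f.stalkMap x).hom.Flat) : ∃ W : X.Opens, x ∈ W ∧ IsOpenImmersion (W.ι ≫ f) := by
  have : IsLocallyNoetherian X := LocallyOfFiniteType.isLocallyNoetherian f
  obtain ⟨W, hW, hxW, hle⟩ := exists_isAffineOpen_mem_and_subset (x := x)
    (U := ⟨_, Groth.Agent.EGA43.FlatDescent.isOpen_flat_stalkMap f⟩) hx
  refine ⟨W, hxW, ?_⟩
  let g := W.ι ≫ f
  have : IsAffine W.toScheme := hW
  have : Flat g := by
    refine (Flat.iff_flat_stalkMap g).2 fun w => ?_
    rw [Scheme.Hom.stalkMap_comp]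
    exact RingHom.Flat.comp (hle w.2) (RingHom.Flat.of_bijective (f := (W.ι.stalkMap w).hom) (ConcreteCategory.bijective_of_isIso (W.ι.stalkMap w)))
  have : Mono g := by
    have : IsLocallyNoetherian W.toScheme := inferInstance
    have key : pullback.fst g g = pullback.snd g g := by
      refine SGA3xLib.eq_of_schematicallyDense
        (NeronLib.isSchematicallyDense_preimage (pullback.fst g g) (SGA3xLib.schematicallyDense_preimage W.ι hdense)) ?_
      rw [← cancel_mono W.ι]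
      refine eq_of_comp_eq f U _ _ ?_ fun p => ?_
      · simp only [Category.assoc]
        exact congrArg (_ ≫ ·) (pullback.condition (f := g) (g := g))
      · exact p.2
    refine ⟨fun a b h => ?_⟩
    exact ((pullback.lift_fst a b h).symm.trans (congrArg (pullback.lift a b h ≫ ·) key)).trans (pullback.lift_snd a b h)
  exact IsOpenImmersion.of_flat_of_mono g

end Groth.Agent.S17728

namespace Groth.Agent.S17728

open CategoryTheory AlgebraicGeometry in
/-- Let S be a Noetherian scheme, U ⊆ S a dense open subscheme and f : X → S a morphism locally of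
finite type which restricts to an isomorphism over U and for which the preimage of U is
schematically dense in X. For a point x of X the following are equivalent: f is étale on some open
neighbourhood of x; f is flat at x, that is, the local ring of X at x is flat over the local ring of
S at f(x); some open neighbourhood V of f(x) carries a section σ of f over V passing through x. -/
theorem result
    {X S : Scheme.{u}} [IsNoetherian S] (f : X ⟶ S) [LocallyOfFiniteType f]
    (U : S.Opens) (hU : Dense (U : Set S))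
    (hiso : IsIso (morphismRestrict f U)) (hdense : CInt.IsSchematicallyDense (f ⁻¹ᵁ U))
    (x : X) :
    List.TFAE [
      ∃ W : X.Opens, x ∈ W ∧ Etale (W.ι ≫ f),
      (f.stalkMap x).hom.Flat,
      ∃ (V : S.Opens) (hV : f.base x ∈ V) (σ : (V : Scheme.{u}) ⟶ X),
        σ ≫ f = V.ι ∧ σ.base ⟨f.base x, hV⟩ = x] := by
  have := hiso
  tfae_have 1 → 2
  | ⟨W, hxW, hW⟩ => by
    have h := (Flat.iff_flat_stalkMap (W.ι ≫ f)).1 inferInstance ⟨x, hxW⟩
    rw [Scheme.Hom.stalkMap_comp] at h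
    have h2 := RingHom.Flat.comp h (RingHom.Flat.of_bijective
      (ConcreteCategory.bijective_of_isIso (inv (W.ι.stalkMap ⟨x, hxW⟩))))
    erw [← CommRingCat.hom_comp, Category.assoc, IsIso.hom_inv_id, Category.comp_id] at h2
    exact h2
  tfae_have 2 → 3
  | h => by
    obtain ⟨W, hxW, hW⟩ := nhd_of_flat f U hdense x h
    let g := W.ι ≫ f
    refine ⟨g.opensRange, ⟨⟨x, hxW⟩, rfl⟩, g.isoOpensRange.inv ≫ W.ι, ?_, ?_⟩
    · rw [Category.assoc, Scheme.Hom.isoOpensRange_inv_comp]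
    · refine congrArg W.ι (?_ : g.isoOpensRange.inv _ = ⟨x, hxW⟩)
      refine g.injective ?_
      rw [← Scheme.Hom.comp_apply, Scheme.Hom.isoOpensRange_inv_comp]
      rfl
  tfae_have 3 → 1
  | ⟨V, hV, σ, hσ, hσx⟩ => by
    obtain ⟨W, hW, himm⟩ := nhd_of_section f U hdense V σ hσ ⟨f.base x, hV⟩
    exact ⟨W, by rw [← hσx]; exact hW, inferInstance⟩
  tfae_finish

end Groth.Agent.S17728
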