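import Groth.Statements.S17729
import Groth.Agent.NodeSmoothH2.Core
import Groth.Agent.SmoothLib.StalkCrit

set_option autoImplicit false
universe u
open DualGr

namespace Groth.Agent.S17729

open CategoryTheory AlgebraicGeometry IsLocalRing in
theorem mem_of_schematicallyDense {R : Type u} [CommRing R] (U : (Spec (CommRingCat.of R)).Opens)
    (hU : CInt.IsSchematicallyDense U) (p : Ideal R) [hp : p.IsPrime] (x : R) (hx0 : x ≠ 0)
    (hx : ∀ i ∈ p, i * x = 0) : (⟨p, hp⟩ : PrimeSpectrum R) ∈ U := by
  by_contra hpU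
  let φ := (Scheme.ΓSpecIso (CommRingCat.of R)).inv
  have h0 : φ x = 0 := by
    refine hU ⊤ ?_
    rw [map_zero]
    apply TopCat.Presheaf.section_ext (Spec (CommRingCat.of R)).sheaf
    intro y hy
    show (Spec (CommRingCat.of R)).presheaf.germ (⊤ ⊓ U) y hy _ = (Spec (CommRingCat.of R)).presheaf.germ (⊤ ⊓ U) y hy 0
    rw [map_zero]
    refine (TopCat.Presheaf.germ_res_apply _ (homOfLE inf_le_left) y hy (φ x)).trans ?_
    obtain ⟨i, hip, hiy⟩ := SetLike.not_le_iff_exists.1 (fun hle : p ≤ (y : PrimeSpectrum R).asIdeal =>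
      hpU (((PrimeSpectrum.le_iff_specializes (⟨p, hp⟩ : PrimeSpectrum R) y).1 hle).mem_open U.isOpen hy.2))
    have hu : IsUnit ((Spec (CommRingCat.of R)).presheaf.germ ⊤ y trivial (φ i)) := by
      rw [← Scheme.mem_basicOpen, basicOpen_eq_of_affine]
      exact hiy
    refine hu.mul_right_eq_zero.1 ?_
    rw [← map_mul, ← map_mul, hx i hip, map_zero, map_zero]
  exact hx0 (((Scheme.ΓSpecIso (CommRingCat.of R)).symm.commRingCatIsoToRingEquiv.injective) (h0.trans (map_zero _).symm))

open CategoryTheory AlgebraicGeometry IsLocalRing in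
/-- Let R be a complete Noetherian local ring and C → Spec R a morphism locally of finite type, smooth
over a schematically dense open subscheme U of Spec R. Let c be a point of C over the closed point
whose local ring is formally a node of thickness (a) over R for an element a of R: the completion of
the local ring at c is isomorphic, compatibly with R, to R̂[[x,y]]/(xy − a). Then a is a
non-zero-divisor in R. (The published statement is for a semistable curve over a locally Noetherian
base and a non-smooth point over a separably closed field, with the node presentation supplied by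
the local structure of such curves; it is stated here over the spectrum of a complete Noetherian
local ring with the node presentation as a hypothesis, the case to which the argument reduces, and
semistability plays no further role.) -/
theorem result
    (R : Type u) [CommRing R] [IsNoetherianRing R] [IsLocalRing R]
    [IsAdicComplete (maximalIdeal R) R]
    {C : Scheme.{u}} (f : C ⟶ Spec (CommRingCat.of R)) [LocallyOfFiniteType f]
    (U : (Spec (CommRingCat.of R)).Opens) (hU : CInt.IsSchematicallyDense U)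
    (hsm : Smooth (morphismRestrict f U))
    (c : C) (hc : f.base c = closedPoint R) (a : R)
    (hnode : DualGr.IsThickNode (DualGr.stalkHom f c) a) :
    a ∈ nonZeroDivisors R := by
  by_contra hna
  obtain ⟨p, hpass, hap⟩ : ∃ p ∈ associatedPrimes R R, a ∈ p := by
    have h : a ∈ (⋃ p ∈ associatedPrimes R R, (p : Set R)) := by
      rw [biUnion_associatedPrimes_eq_compl_nonZeroDivisors]; exact hna
    obtain ⟨p, hp, ha⟩ := Set.mem_iUnion₂.1 h
    exact ⟨p, hp, ha⟩
  obtain ⟨hp, φ, hφ⟩ := (isAssociatedPrime_iff_exists_injective_linearMap p R).1 hpass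
  let x : R := φ (Submodule.Quotient.mk 1)
  have hx : x ≠ 0 ∧ ∀ i ∈ p, i * x = 0 := by
    refine ⟨fun h0 => hp.ne_top ((Ideal.eq_top_iff_one _).2
      ((Submodule.Quotient.mk_eq_zero p).1 (hφ (h0.trans (map_zero φ).symm)))), fun i hi => ?_⟩
    rw [← smul_eq_mul, ← map_smul, ← Submodule.Quotient.mk_smul, smul_eq_mul, mul_one,
      (Submodule.Quotient.mk_eq_zero p).2 hi, map_zero]
  haveI := hp
  have hpU : (⟨p, hp⟩ : PrimeSpectrum R) ∈ U := mem_of_schematicallyDense U hU p x hx.1 hx.2
  obtain ⟨V, hV, hcV, -⟩ := exists_isAffineOpen_mem_and_subset (x := c) (U := (⊤ : C.Opens)) trivial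
  let T := Spec (CommRingCat.of R)
  have hT : IsAffineOpen (⊤ : T.Opens) := isAffineOpen_top _
  have e : V ≤ f ⁻¹ᵁ ⊤ := le_top
  let A := Γ(C, V)
  let G := Γ(T, ⊤)
  let ψ : R ≃+* G := (Scheme.ΓSpecIso (CommRingCat.of R)).symm.commRingCatIsoToRingEquiv
  letI : Algebra R G := ψ.toRingHom.toAlgebra
  letI : Algebra G A := (f.appLE ⊤ V e).hom.toAlgebra
  letI : Algebra R A := ((algebraMap G A).comp (algebraMap R G)).toAlgebra
  haveI : IsScalarTower R G A := IsScalarTower.of_algebraMap_eq fun _ => rfl
  haveI : Algebra.FiniteType G A := HasRingHomProperty.appLE @LocallyOfFiniteType f inferInstance ⟨⊤, hT⟩ ⟨V, hV⟩ e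
  haveI : Algebra.FiniteType R G := Algebra.FiniteType.of_surjective (Algebra.ofId R G) ψ.surjective
  haveI : Algebra.FiniteType R A := Algebra.FiniteType.trans (S := G) inferInstance inferInstance
  haveI : IsNoetherianRing A := Algebra.FiniteType.isNoetherianRing R A
  let S := C.presheaf.stalk c
  letI : Algebra A S := C.presheaf.algebra_section_stalk ⟨c, hcV⟩
  haveI hloc := hV.isLocalization_stalk ⟨c, hcV⟩
  letI : Algebra R S := (DualGr.stalkHom f c).toAlgebra
  haveI : IsScalarTower R A S := IsScalarTower.of_algebraMap_eq fun r => by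
    show DualGr.stalkHom f c r = (C.presheaf.germ V c hcV) ((f.appTop ≫ C.presheaf.map (homOfLE e).op) (ψ r))
    exact (TopCat.Presheaf.germ_res_apply C.presheaf (homOfLE (le_top : V ≤ ⊤)) c hcV _).symm
  haveI : IsNoetherianRing S :=
    IsLocalization.isNoetherianRing (hV.primeIdealOf ⟨c, hcV⟩).asIdeal.primeCompl _ inferInstance
  haveI : Algebra.EssFiniteType A S :=
    Algebra.EssFiniteType.of_isLocalization S (hV.primeIdealOf ⟨c, hcV⟩).asIdeal.primeCompl
  haveI : Algebra.EssFiniteType R S := Algebra.EssFiniteType.comp R A S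
  obtain ⟨eN, heN⟩ := hnode
  refine NodeSmoothH2.core a eN heN p hap fun P _ hPp => ?_
  let Q : Ideal A := P.comap (algebraMap A S)
  let z : C := hV.fromSpec ⟨Q, inferInstance⟩
  have hzV : z ∈ V := by
    have := Set.mem_range_self (f := hV.fromSpec) ⟨Q, inferInstance⟩
    rwa [hV.range_fromSpec] at this
  have hzQ : hV.primeIdealOf ⟨z, hzV⟩ = ⟨Q, inferInstance⟩ :=
    hV.fromSpec.isOpenEmbedding.injective (hV.fromSpec_primeIdealOf ⟨z, hzV⟩)
  have hmem : ∀ g : A, z ∈ C.basicOpen g ↔ g ∉ Q := fun g => by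
    show (⟨Q, inferInstance⟩ : PrimeSpectrum A) ∈ hV.fromSpec ⁻¹ᵁ C.basicOpen g ↔ _
    rw [hV.fromSpec_preimage_basicOpen]
    rfl
  have hfz : f z = (⟨p, hp⟩ : PrimeSpectrum R) := by
    refine PrimeSpectrum.ext (Ideal.ext fun r => ?_)
    rw [← not_iff_not]
    show f z ∈ PrimeSpectrum.basicOpen r ↔ r ∉ p
    rw [← basicOpen_eq_of_affine (R := CommRingCat.of R) r]
    show z ∈ f ⁻¹ᵁ T.basicOpen (ψ r) ↔ _
    rw [Scheme.preimage_basicOpen]
    have h1 : z ∈ C.basicOpen (f.app ⊤ (ψ r)) ↔ z ∈ C.basicOpen (algebraMap R A r) := by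
      show _ ↔ z ∈ C.basicOpen (C.presheaf.map (homOfLE e).op (f.app ⊤ (ψ r)))
      rw [Scheme.basicOpen_res]
      exact ⟨fun h => ⟨hzV, h⟩, fun h => h.2⟩
    rw [h1, hmem]
    show algebraMap R A r ∉ P.comap (algebraMap A S) ↔ _
    rw [Ideal.mem_comap, ← IsScalarTower.algebraMap_apply, ← hPp, Ideal.mem_comap]
  have hzU : z ∈ f ⁻¹ᵁ U := by
    show f z ∈ U
    rw [hfz]; exact hpU
  haveI := hsm
  haveI : Smooth ((f ⁻¹ᵁ U).ι ≫ f) := by
    rw [← morphismRestrict_ι]; infer_instance
  have hs := (formallySmooth_stalkMap_iff ⊤ hT V hV e hzV).1 (SmoothLib.formallySmooth_stalkMap_of_nhd f hzU)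
  have hs' : Algebra.FormallySmooth G (Localization.AtPrime Q) := by
    have h2 : (⟨Q, inferInstance⟩ : PrimeSpectrum A) ∈ Algebra.smoothLocus G A := hzQ ▸ hs
    exact h2
  haveI := hs'
  haveI : Algebra.FormallyEtale R G :=
    Algebra.FormallyEtale.of_equiv (AlgEquiv.ofBijective (Algebra.ofId R G) ψ.bijective)
  haveI : Algebra.FormallySmooth R (Localization.AtPrime Q) := Algebra.FormallySmooth.comp R G _
  haveI : IsLocalization.AtPrime (Localization.AtPrime P) Q :=
    IsLocalization.isLocalization_isLocalization_atPrime_isLocalization (hV.primeIdealOf ⟨c, hcV⟩).asIdeal.primeCompl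
      (Localization.AtPrime P) P
  exact Algebra.FormallySmooth.of_equiv
    ((IsLocalization.algEquiv Q.primeCompl (Localization.AtPrime Q) (Localization.AtPrime P)).restrictScalars R)

end Groth.Agent.S17729
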