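import Groth.Statements.S17731
import Groth.Agent.NeronLib.Restrict
open Groth.Agent.NeronLib CategoryTheory CategoryTheory.Limits AlgebraicGeometry

set_option autoImplicit false
universe u
open Neron

namespace Groth.Agent.S17731

open CategoryTheory AlgebraicGeometry in
/-- Let S be a scheme, U ⊆ S a schematically dense open subscheme and N → S a smooth S-scheme having
uniqueness in the Néron mapping property with respect to U: for every smooth S-scheme Y, restriction
to U is injective on S-morphisms Y → N. Then for every smooth morphism g : S' → S the base change N
×_S S' → S' has uniqueness in the Néron mapping property with respect to g⁻¹(U): for every smooth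
S'-scheme Y', restriction to g⁻¹(U) is injective on S'-morphisms Y' → N ×_S S'. (The published
statement is for models which are algebraic spaces, tested against smooth algebraic spaces; this row
states the case of a scheme model tested against smooth schemes. The companion assertion that Néron
models are preserved by smooth base change is not restated here.) -/
theorem result
    {S S' : Scheme.{u}} (g : S' ⟶ S) [Smooth g]
    (U : S.Opens) (hU : CInt.IsSchematicallyDense U) (N : Over S) [Smooth N.hom]
    (hN : ∀ Y : Over S, Smooth Y.hom →
      Function.Injective (fun f : Y ⟶ N => (Over.pullback U.ι).map f))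
    (Y' : Over S') [Smooth Y'.hom] :
    Function.Injective (fun f : Y' ⟶ (Over.pullback g).obj N => (Over.pullback (g ⁻¹ᵁ U).ι).map f) := by
  have hY : Smooth (Y'.hom ≫ g) := inferInstance
  have hP := (IsPullback.of_hasPullback Y'.hom (g ⁻¹ᵁ U).ι).paste_vert (isPullback_morphismRestrict g U).flip
  rw [injective_map_iff _ (IsPullback.of_hasPullback Y'.hom (g ⁻¹ᵁ U).ι)]
  intro a b hab
  let Y : Over S := Over.mk (Y'.hom ≫ g)
  let d : ∀ c : Y' ⟶ (Over.pullback g).obj N, Y ⟶ N := fun c =>
    Over.homMk (c.left ≫ pullback.fst N.hom g) (by
      show (c.left ≫ pullback.fst N.hom g) ≫ N.hom = Y'.hom ≫ g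
      rw [Category.assoc, pullback.condition, ← Category.assoc]
      exact congrArg (· ≫ g) (Over.w c))
  have h := (injective_map_iff (Z := Y) U.ι hP).1 (hN Y hY) (d a) (d b)
    ((Category.assoc _ _ _).symm.trans ((congrArg (· ≫ pullback.fst N.hom g) hab).trans (Category.assoc _ _ _)))
  exact Over.OverMorphism.ext (pullback.hom_ext (congrArg (fun t => t.left) h) ((Over.w a).trans (Over.w b).symm))

end Groth.Agent.S17731
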