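import Groth.Statements.S17732
import Mathlib

set_option autoImplicit false
universe u
open CDiv

namespace Groth.Agent.S17732

open AlgebraicGeometry in
/-- Let X be a Noetherian scheme and D, E effective Cartier divisors on X, encoded by their ideal
sheaves, each locally generated on an affine open by a single non-zero-divisor. Assume that the
union of the supports of D and E is connected (or empty) and that every point of X has an affine
open neighbourhood on which the m-th power of the ideal of D equals the n-th power of the ideal of E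
for some (m, n) ≠ (0, 0). Then there is a pair (m, n) ≠ (0, 0) for which this equality holds on
every affine open of X, that is, m D = n E globally. -/
theorem result
    (X : Scheme.{u}) [IsNoetherian X] (D E : X.IdealSheafData)
    (hD : (∀ x : X, ∃ U : X.affineOpens, x ∈ (U : X.Opens) ∧ ∃ g : Γ(X, U), g ∈ nonZeroDivisors Γ(X, U) ∧ D.ideal U = Ideal.span {g}))
    (hE : (∀ x : X, ∃ U : X.affineOpens, x ∈ (U : X.Opens) ∧ ∃ g : Γ(X, U), g ∈ nonZeroDivisors Γ(X, U) ∧ E.ideal U = Ideal.span {g}))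
    (hconn : IsPreconnected ((D.support : Set X) ∪ (E.support : Set X)))
    (hloc : ∀ x : X, ∃ U : X.affineOpens, x ∈ (U : X.Opens) ∧
      ∃ m n : ℕ, (m, n) ≠ (0, 0) ∧ D.ideal U ^ m = E.ideal U ^ n) :
    ∃ m n : ℕ, (m, n) ≠ (0, 0) ∧ ∀ U : X.affineOpens, D.ideal U ^ m = E.ideal U ^ n := by
  classical
  have hkey : ∀ (A : Type u) [CommRing A] (g : A), g ∈ nonZeroDivisors A → ¬ IsUnit g →
      ∀ a b : ℕ, Ideal.span {g ^ a} = Ideal.span {g ^ b} → a = b := by
    intro A _ g hg hu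
    have main : ∀ a b : ℕ, a < b → Ideal.span {g ^ a} ≠ Ideal.span {g ^ b} := by
      intro a b hab h
      obtain ⟨c, hc⟩ := Ideal.span_singleton_le_span_singleton.mp h.le
      have h1 : g ^ a * (1 - g ^ (b - a) * c) = 0 := by
        have : g ^ a * g ^ (b - a) = g ^ b := by rw [← pow_add, Nat.add_sub_cancel' hab.le]
        linear_combination hc - c * this
      rw [mul_comm] at h1
      have h2 := sub_eq_zero.mp ((mul_right_mem_nonZeroDivisors_eq_zero_iff (pow_mem hg a)).mp h1)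
      exact hu (isUnit_pow_iff (by omega : b - a ≠ 0) |>.mp (IsUnit.of_mul_eq_one c h2.symm))
    intro a b h
    rcases lt_trichotomy a b with h1 | h1 | h1
    · exact absurd h (main a b h1)
    · exact h1
    · exact absurd h.symm (main b a h1)
  have huniq : ∀ (I : X.IdealSheafData), (∀ x : X, ∃ U : X.affineOpens, x ∈ (U : X.Opens) ∧ ∃ g : Γ(X, U), g ∈ nonZeroDivisors Γ(X, U) ∧ I.ideal U = Ideal.span {g}) →
      ∀ y ∈ I.support, ∀ (U V : X.affineOpens), y ∈ U.1 → y ∈ V.1 → ∀ a b : ℕ,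
      (∀ W : X.affineOpens, W ≤ U → W ≤ V → I.ideal W ^ a = I.ideal W ^ b) → a = b := by
    intro I hI y hy U V hyU hyV a b h
    obtain ⟨G, hyG, g, hg, hgI⟩ := hI y
    obtain ⟨f, hfle, hyf⟩ := G.2.exists_basicOpen_le (V := U.1 ⊓ V.1 ⊓ G.1) ⟨y, ⟨⟨hyU, hyV⟩, hyG⟩⟩ hyG
    let W : X.affineOpens := X.affineBasicOpen f
    haveI : IsLocalization.Away f Γ(X, X.basicOpen f) := G.2.isLocalization_basicOpen f
    let g' : Γ(X, W) := algebraMap Γ(X, G) Γ(X, X.basicOpen f) g
    have hg' : g' ∈ nonZeroDivisors Γ(X, W) :=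
      IsLocalization.map_nonZeroDivisors_le (Submonoid.powers f) Γ(X, X.basicOpen f) (Submonoid.mem_map_of_mem _ hg)
    have hIW : I.ideal W = Ideal.span {g'} := by
      rw [← I.map_ideal_basicOpen G f, hgI, Ideal.map_span, Set.image_singleton]
      rfl
    refine hkey _ g' hg' (fun hu => ?_) a b ?_
    · have := (I.mem_support_iff_of_mem (U := W) hyf).mp hy
      rw [hIW, Ideal.span_singleton_eq_top.mpr hu] at this
      exact ((X.mem_zeroLocus_iff _ y).mp this 1 trivial) (by rw [X.basicOpen_of_isUnit isUnit_one]; exact hyf)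
    · rw [← Ideal.span_singleton_pow, ← Ideal.span_singleton_pow, ← hIW]
      exact h W (fun z hz => (hfle hz).1.1) (fun z hz => (hfle hz).1.2)
  let S : Set X := (D.support : Set X) ∪ (E.support : Set X)
  have hpow : ∀ (I J : X.IdealSheafData) (U W : X.affineOpens) (a b : ℕ), W ≤ U →
      I.ideal U ^ a = J.ideal U ^ b → I.ideal W ^ a = J.ideal W ^ b := by
    intro I J U W a b hWU h
    rw [← I.map_ideal hWU, ← J.map_ideal hWU, ← Ideal.map_pow, ← Ideal.map_pow, h]
  have hratio : ∀ y ∈ S, ∀ (U V : X.affineOpens), y ∈ U.1 → y ∈ V.1 → ∀ m n m' n' : ℕ,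
      D.ideal U ^ m = E.ideal U ^ n → D.ideal V ^ m' = E.ideal V ^ n' → m * n' = m' * n := by
    intro y hy U V hyU hyV m n m' n' h h'
    rcases hy with hy | hy
    · refine huniq D hD y hy U V hyU hyV _ _ fun W hWU hWV => ?_
      rw [pow_mul, hpow D E U W m n hWU h, ← pow_mul, pow_mul (D.ideal W) m', hpow D E V W m' n' hWV h', ← pow_mul,
        mul_comm n n']
    · refine huniq E hE y hy U V hyU hyV _ _ fun W hWU hWV => ?_
      rw [mul_comm m n', mul_comm m' n, pow_mul, ← hpow D E V W m' n' hWV h', ← pow_mul, pow_mul (E.ideal W) n,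
        ← hpow D E U W m n hWU h, ← pow_mul, mul_comm m m']
  have hne : ∀ {m n : ℕ}, (m, n) ≠ (0, 0) → m ≠ 0 ∨ n ≠ 0 := by
    intro m n h
    by_contra hh
    push Not at hh
    exact h (by rw [hh.1, hh.2])
  choose Uc hxU mc nc hmn heq using hloc
  obtain ⟨m0, n0, hmn0, hglob⟩ : ∃ m0 n0 : ℕ, (m0, n0) ≠ (0, 0) ∧
      ∀ x, (((Uc x).1 : Set X) ∩ S).Nonempty → ∃ d : ℕ, mc x = d * m0 ∧ nc x = d * n0 := by
    rcases S.eq_empty_or_nonempty with hS | ⟨y0, hy0⟩
    · exact ⟨1, 1, by simp, fun x ⟨z, hz⟩ => absurd hz.2 (by rw [hS]; exact id)⟩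
    let O1 : Set X := ⋃ x ∈ {x | mc x * nc y0 = mc y0 * nc x}, ((Uc x).1 : Set X)
    let O2 : Set X := ⋃ x ∈ {x | mc x * nc y0 ≠ mc y0 * nc x}, ((Uc x).1 : Set X)
    have hO1 : IsOpen O1 := isOpen_biUnion fun x _ => (Uc x).1.isOpen
    have hO2 : IsOpen O2 := isOpen_biUnion fun x _ => (Uc x).1.isOpen
    have hcov : S ⊆ O1 ∪ O2 := fun z _ => by
      by_cases h : mc z * nc y0 = mc y0 * nc z
      · exact Or.inl (Set.mem_biUnion (x := z) h (hxU z))
      · exact Or.inr (Set.mem_biUnion (x := z) h (hxU z))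
    have hdisj : ∀ z ∈ S, z ∈ O1 → z ∈ O2 → False := by
      intro z hz h1 h2
      obtain ⟨a, ha, hza⟩ := Set.mem_iUnion₂.mp h1
      obtain ⟨b, hb, hzb⟩ := Set.mem_iUnion₂.mp h2
      have h := hratio z hz (Uc a) (Uc b) hza hzb _ _ _ _ (heq a) (heq b)
      simp only [Set.mem_setOf_eq] at ha hb
      apply hb
      rcases hne (hmn a) with h0 | h0
      · apply mul_left_cancel₀ h0
        calc mc a * (mc b * nc y0) = mc b * (mc a * nc y0) := by ring
          _ = mc y0 * (mc b * nc a) := by rw [ha]; ring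
          _ = mc y0 * (mc a * nc b) := by rw [h]
          _ = mc a * (mc y0 * nc b) := by ring
      · apply mul_left_cancel₀ h0
        calc nc a * (mc b * nc y0) = (mc b * nc a) * nc y0 := by ring
          _ = (mc a * nc b) * nc y0 := by rw [h]
          _ = nc b * (mc a * nc y0) := by ring
          _ = nc a * (mc y0 * nc b) := by rw [ha]; ring
    let g := Nat.gcd (mc y0) (nc y0)
    have hgpos : 0 < g := by
      rcases hne (hmn y0) with h0 | h0
      · exact Nat.gcd_pos_of_pos_left _ (Nat.pos_of_ne_zero h0)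
      · exact Nat.gcd_pos_of_pos_right _ (Nat.pos_of_ne_zero h0)
    obtain ⟨a0, b0, hco, ha0, hb0⟩ := Nat.exists_coprime (mc y0) (nc y0)
    have hg0 : 0 < Nat.gcd (mc y0) (nc y0) := hgpos
    refine ⟨a0, b0, fun h => ?_, fun x ⟨z, hzU, hzS⟩ => ?_⟩
    · simp only [Prod.mk.injEq] at h
      rcases hne (hmn y0) with h0 | h0
      · exact h0 (by rw [ha0, h.1, zero_mul])
      · exact h0 (by rw [hb0, h.2, zero_mul])
    have hzO1 : z ∈ O1 := by
      rcases hcov hzS with h | h
      · exact h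
      · obtain ⟨w, hwS, hw1, hw2⟩ := hconn O1 O2 hO1 hO2 hcov ⟨y0, hy0, Set.mem_biUnion (x := y0) rfl (hxU y0)⟩ ⟨z, hzS, h⟩
        exact (hdisj w hwS hw1 hw2).elim
    have hx : mc x * nc y0 = mc y0 * nc x := by
      by_contra hxne
      exact hdisj z hzS hzO1 (Set.mem_biUnion (x := x) hxne hzU)
    generalize hG : Nat.gcd (mc y0) (nc y0) = G0 at ha0 hb0 hg0
    rw [ha0, hb0, ← mul_assoc, mul_right_comm a0] at hx
    have hx2 : mc x * b0 = a0 * nc x := Nat.eq_of_mul_eq_mul_right hg0 hx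
    obtain ⟨d, hd⟩ : a0 ∣ mc x := hco.dvd_of_dvd_mul_right ⟨nc x, hx2⟩
    rcases Nat.eq_zero_or_pos a0 with h0 | h0
    · have hb1 : b0 = 1 := by rw [h0] at hco; simpa using hco
      exact ⟨nc x, by rw [h0, mul_zero, hd, h0, zero_mul], by rw [hb1, mul_one]⟩
    · refine ⟨d, by rw [hd, mul_comm], Nat.eq_of_mul_eq_mul_left h0 ?_⟩
      rw [← hx2, hd, mul_assoc]
  obtain ⟨t, ht⟩ := isCompact_univ.elim_finite_subcover (fun x => ((Uc x).1 : Set X)) (fun x => (Uc x).1.isOpen)
    (fun x _ => Set.mem_iUnion.mpr ⟨x, hxU x⟩)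
  let dd : X → ℕ := fun x => if h : (((Uc x).1 : Set X) ∩ S).Nonempty then (hglob x h).choose else 1
  have hdd : ∀ x, 0 < dd x := by
    intro x
    simp only [dd]
    split_ifs with h
    · refine Nat.pos_of_ne_zero fun h0 => ?_
      obtain ⟨h1, h2⟩ := (hglob x h).choose_spec
      rw [h0, zero_mul] at h1 h2
      exact hmn x (by rw [h1, h2])
    · exact one_pos
  let L := ∏ x ∈ t, dd x
  refine ⟨L * m0, L * n0, fun h => ?_, ?_⟩
  · have hL : 0 < L := Finset.prod_pos fun x _ => hdd x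
    simp only [Prod.mk.injEq, mul_eq_zero, hL.ne', false_or] at h
    exact hmn0 (by rw [h.1, h.2])
  suffices h : D ^ (L * m0) = E ^ (L * n0) by
    intro U
    have := congrArg (fun I : X.IdealSheafData => I.ideal U) h
    simpa [Scheme.IdealSheafData.ideal_pow] using this
  refine Scheme.IdealSheafData.ext_of_iSup_eq_top (fun x : t => Uc x.1) ?_ fun x => ?_
  · rw [eq_top_iff]
    intro z _
    obtain ⟨x, hx, hz⟩ := Set.mem_iUnion₂.mp (ht (Set.mem_univ z))
    exact TopologicalSpace.Opens.mem_iSup.mpr ⟨⟨x, hx⟩, hz⟩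
  · simp only [Scheme.IdealSheafData.ideal_pow, Pi.pow_apply]
    obtain ⟨e, he⟩ : dd x.1 ∣ L := Finset.dvd_prod_of_mem dd x.2
    by_cases h : (((Uc x.1).1 : Set X) ∩ S).Nonempty
    · obtain ⟨h1, h2⟩ := (hglob x.1 h).choose_spec
      have hd : dd x.1 = (hglob x.1 h).choose := dif_pos h
      rw [← hd] at h1 h2
      rw [he, mul_right_comm, ← h1, pow_mul, heq x.1, ← pow_mul, h2, mul_right_comm]
    · have htop : ∀ I : X.IdealSheafData, (∀ z ∈ (Uc x.1).1, z ∉ I.support) → I.ideal (Uc x.1) = ⊤ := by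
        intro I hI
        by_contra hne'
        have hz : ((Uc x.1).1 : Set X) ∩ X.zeroLocus (U := (Uc x.1).1) (I.ideal (Uc x.1)) = ∅ :=
          Set.eq_empty_of_forall_notMem fun z hz =>
            hI z hz.1 ((I.mem_support_iff_of_mem (U := Uc x.1) hz.1).mpr hz.2)
        have h0 : PrimeSpectrum.zeroLocus (I.ideal (Uc x.1) : Set Γ(X, (Uc x.1).1)) = ∅ := by
          have := (Uc x.1).2.fromSpec_preimage_zeroLocus (I.ideal (Uc x.1) : Set Γ(X, (Uc x.1).1))
          rw [← this]
          refine Set.eq_empty_of_forall_notMem fun p hp => ?_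
          refine (Set.eq_empty_iff_forall_notMem.mp hz) _ ⟨?_, hp⟩
          rw [← (Uc x.1).2.range_fromSpec]
          exact Set.mem_range_self p
        exact hne' (PrimeSpectrum.zeroLocus_empty_iff_eq_top.mp h0)
      rw [htop D fun z hz hz' => h ⟨z, hz, Or.inl hz'⟩, htop E fun z hz hz' => h ⟨z, hz, Or.inr hz'⟩,
        ← Ideal.one_eq_top, one_pow, one_pow]
end Groth.Agent.S17732
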