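import Groth.Statements.S17733
import Groth.Agent.SDiv28.NormalCartierEq

set_option autoImplicit false
universe u
open CDiv

namespace Groth.Agent.S17733

open CategoryTheory AlgebraicGeometry in
/-- Let S be a locally Noetherian normal scheme (every local ring an integrally closed domain), f : S' →
S a proper morphism whose scheme-theoretic image is S (its kernel ideal sheaf is zero), and U ⊆ S a
schematically dense open subscheme such that f⁻¹(U) is also schematically dense in S'. Suppose D and
E are effective Cartier divisors of S, encoded by ideal sheaves each locally generated on an affine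
open by one non-zero-divisor, with supports disjoint from U. If the pulled-back ideal sheaves of D
and E along f coincide, then D = E. -/
theorem result
    {S S' : Scheme.{u}} [IsLocallyNoetherian S]
    (hnorm : ∀ x : S, IsDomain (S.presheaf.stalk x) ∧ IsIntegrallyClosed (S.presheaf.stalk x))
    (f : S' ⟶ S) [IsProper f] (hdom : f.ker = ⊥)
    (U : S.Opens) (hU : CInt.IsSchematicallyDense U) (hU' : CInt.IsSchematicallyDense (f ⁻¹ᵁ U))
    (D E : S.IdealSheafData)
    (hD : (∀ x : S, ∃ U : S.affineOpens, x ∈ (U : S.Opens) ∧ ∃ g : Γ(S, U), g ∈ nonZeroDivisors Γ(S, U) ∧ D.ideal U = Ideal.span {g}))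
    (hE : (∀ x : S, ∃ U : S.affineOpens, x ∈ (U : S.Opens) ∧ ∃ g : Γ(S, U), g ∈ nonZeroDivisors Γ(S, U) ∧ E.ideal U = Ideal.span {g}))
    (hDU : (D.support : Set S) ⊆ (U : Set S)ᶜ) (hEU : (E.support : Set S) ⊆ (U : Set S)ᶜ)
    (h : D.comap f = E.comap f) : D = E := by
  haveI : IsLocallyNoetherian S' := LocallyOfFiniteType.isLocallyNoetherian f
  have hsurj : Function.Surjective f := by
    have h1 := congrArg (fun I : S.IdealSheafData => (I.support : Set S)) hdom
    simp only [Scheme.Hom.support_ker, Scheme.IdealSheafData.support_bot, TopologicalSpace.Closeds.coe_top,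
      TopologicalSpace.Closeds.coe_closure] at h1
    rw [f.isClosedMap.isClosed_range.closure_eq] at h1
    exact Set.range_eq_univ.1 h1
  refine Groth.Agent.Misc15.DivDescent.ext_stk fun x => le_antisymm ?_ ?_
  · exact Groth.Agent.SDiv28.NormalEq.le_of_comap_eq f hsurj hnorm U hU' D E hD hE hDU h x
  · exact Groth.Agent.SDiv28.NormalEq.le_of_comap_eq f hsurj hnorm U hU' E D hE hD hEU h.symm x
end Groth.Agent.S17733
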