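import Groth.Statements.S17735
import Groth.Agent.CommAlg4.NodeCompletion
import Groth.Agent.CAlgH3.Factorial
import Groth.Agent.CAlgH3.RegularLocal
-- import your own Groth.Agent.* helpers here

set_option autoImplicit false
universe u
open CAlg

namespace Groth.Agent.S17735

open IsLocalRing in
open Groth.Agent.CommAlg4.NodeCompletion in
open IsLocalRing in
theorem core (R : Type u) [CommRing R] [IsDomain R] [IsLocalRing R] [IsNoetherianRing R] [UniqueFactorizationMonoid R]
    [IsAdicComplete (maximalIdeal R) R] {r : R} (hr : r ∈ maximalIdeal R) (hr0 : r ≠ 0)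
    {L : Type u} [CommRing L] [IsNoetherianRing L] [Algebra R L]
    {B : Type u} [CommRing B] [IsNoetherianRing B] [IsDomain B] [Algebra R B]
    (mkB : MvPowerSeries (Fin 2) R →+* B) (hmkB : Function.Surjective mkB)
    (hkerB : RingHom.ker mkB = Ideal.span {g r})
    (hBalg : ∀ a, mkB (MvPowerSeries.C a) = algebraMap R B a)
    (ψ : MvPolynomial (Fin 2) R →+* L) (hψg : ψ (gp r) = 0) (hψalg : ∀ a, ψ (MvPolynomial.C a) = algebraMap R L a)
    (φ : L →+* B) (hφ : ∀ f, φ (ψ f) = mkB (co' f))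
    (hψgen : ∀ q q' : Ideal L, (∀ f, ψ f ∈ q → ψ f ∈ q') → q ≤ q')
    (hπB : ∀ a : R, algebraMap R B a = 0 → a = 0) :
    Set.BijOn (fun 𝔓 => Ideal.comap φ 𝔓)
      {𝔓 | 𝔓.IsPrime ∧ 𝔓.height = 1 ∧ Ideal.comap (algebraMap R B) 𝔓 ≠ ⊥}
      {𝔮 : Ideal L | 𝔮.IsPrime ∧ 𝔮.height = 1 ∧ Ideal.comap (algebraMap R L) 𝔮 ≠ ⊥} := by
  classical
  have hcomp : ∀ a, φ (algebraMap R L a) = algebraMap R B a := fun a => by
    rw [← hψalg, hφ, co'_C, hBalg]
  have hgB : mkB (g r) = 0 := RingHom.mem_ker.1 (by rw [hkerB]; exact Ideal.mem_span_singleton_self _)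
  have std : ∀ {π : R}, Prime π → ∀ {T}, Valid r π T → ∃ I : Ideal B,
      I.IsPrime ∧ I.height = 1 ∧ (Ideal.comap φ I).height = 1 ∧ π ∈ Ideal.comap (algebraMap R B) I ∧
      (∀ t ∈ T, mkB (co' t) ∈ I) ∧
      (∀ Q : Ideal B, Q.IsPrime → Q.height = 1 → π ∈ Ideal.comap (algebraMap R B) Q →
        (∀ t ∈ T, mkB (co' t) ∈ Q) → Q = I) ∧
      (∀ q : Ideal L, q.IsPrime → q.height = 1 → π ∈ Ideal.comap (algebraMap R L) q →
        (∀ t ∈ T, ψ t ∈ q) → q = Ideal.comap φ I) := by
    intro π hπ T hT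
    obtain ⟨J, hJ, hgJ, hπJ, hTJ, hgen, hpoly, hsplit⟩ := exists_prime_of_valid hr hπ hT
    haveI := hJ
    have hkerJ : RingHom.ker mkB ≤ J := by rw [hkerB, Ideal.span_singleton_le_iff_mem]; exact hgJ
    let I := J.map mkB
    have hI : I.IsPrime := Ideal.map_isPrime_of_surjective hmkB hkerJ
    have hIc : I.comap mkB = J := by
      rw [Ideal.comap_map_of_surjective _ hmkB, ← RingHom.ker_eq_comap_bot]
      exact sup_eq_left.2 hkerJ
    have hmemI : ∀ x, mkB x ∈ I ↔ x ∈ J := fun x => by rw [← Ideal.mem_comap, hIc]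
    have hπI : π ∈ Ideal.comap (algebraMap R B) I := by
      rw [Ideal.mem_comap, ← hBalg, hmemI]; exact hπJ
    have hTI : ∀ t ∈ T, mkB (co' t) ∈ I := fun t ht => (hmemI _).2 (hTJ t ht)
    have hIle : ∀ Q : Ideal B, π ∈ Ideal.comap (algebraMap R B) Q → (∀ t ∈ T, mkB (co' t) ∈ Q) → I ≤ Q := by
      intro Q hπQ hTQ
      rw [Ideal.map_le_iff_le_comap]
      refine hgen.trans (Ideal.span_le.2 ?_)
      rintro x (rfl | rfl | ⟨t, ht, rfl⟩)
      · show mkB _ ∈ Q; rw [hBalg]; exact hπQ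
      · show mkB _ ∈ Q; rw [hgB]; exact zero_mem _
      · exact hTQ t ht
    have hcle : ∀ q : Ideal L, π ∈ Ideal.comap (algebraMap R L) q → (∀ t ∈ T, ψ t ∈ q) → Ideal.comap φ I ≤ q := by
      intro q hπq hTq
      refine hψgen _ _ fun f hf => ?_
      rw [Ideal.mem_comap, hφ, hmemI] at hf
      have := Ideal.mem_map_of_mem ψ (hpoly f hf)
      rw [Ideal.map_span] at this
      refine (Ideal.span_le.2 ?_) this
      rintro x ⟨y, (rfl | rfl | ht), rfl⟩
      · rw [hψalg]; exact hπq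
      · rw [hψg]; exact zero_mem _
      · exact hTq _ ht
    haveI := hI
    haveI hc : (Ideal.comap φ I).IsPrime := Ideal.IsPrime.comap _
    have hπc : π ∈ Ideal.comap (algebraMap R L) (Ideal.comap φ I) := by
      rw [Ideal.mem_comap, Ideal.mem_comap, hcomp]; exact hπI
    have hπ0 : algebraMap R B π ≠ 0 := fun h0 => hπ.ne_zero (hπB π h0)
    have hbotI : (⊥ : Ideal B) < I := lt_of_le_of_ne bot_le fun h => hπ0 (by rwa [← h, Ideal.mem_comap, Ideal.mem_bot] at hπI)
    have hkerlt : RingHom.ker φ < Ideal.comap φ I := by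
      refine lt_of_le_of_ne (fun x hx => ?_) fun h => hπ0 ?_
      · rw [RingHom.mem_ker] at hx
        rw [Ideal.mem_comap, hx]; exact zero_mem _
      · rw [← hcomp, ← RingHom.mem_ker, h]; exact hπc
    haveI hkp : (RingHom.ker φ).IsPrime := RingHom.ker_isPrime φ
    -- height at most one
    have hI1 : I.height ≤ 1 := by
      refine Ideal.height_le_one_of_isPrincipal_of_mem_minimalPrimes (Ideal.span {algebraMap R B π}) _ ?_
      refine ⟨⟨hI, (Ideal.span_singleton_le_iff_mem _).2 hπI⟩, fun Q hQ hQI => hIle Q ?_ fun t ht => ?_⟩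
      · exact Ideal.mem_comap.2 ((Ideal.span_singleton_le_iff_mem _).1 hQ.2)
      · haveI := hQ.1
        obtain ⟨t', htt, ht'⟩ := hsplit t ht
        have h1 : mkB (co' (t * t')) ∈ Q := by
          have := Ideal.mem_map_of_mem (mkB.comp co') htt
          rw [Ideal.map_span] at this
          refine (Ideal.span_le.2 ?_) this
          rintro x ⟨y, (rfl | rfl), rfl⟩
          · show mkB (co' _) ∈ Q; rw [co'_C, hBalg]; exact (Ideal.span_singleton_le_iff_mem _).1 hQ.2
          · show mkB (co' _) ∈ Q; rw [co'_gp, hgB]; exact zero_mem _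
        rw [map_mul, map_mul] at h1
        exact (hQ.1.mem_or_mem h1).resolve_right fun h2 => ht' ((hmemI _).1 (hQI h2))
    have hc1 : (Ideal.comap φ I).height ≤ 1 := by
      refine Ideal.height_le_one_of_isPrincipal_of_mem_minimalPrimes (Ideal.span {algebraMap R L π}) _ ?_
      refine ⟨⟨hc, (Ideal.span_singleton_le_iff_mem _).2 hπc⟩, fun q hq hqI => hcle q ?_ fun t ht => ?_⟩
      · exact Ideal.mem_comap.2 ((Ideal.span_singleton_le_iff_mem _).1 hq.2)
      · obtain ⟨t', htt, ht'⟩ := hsplit t ht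
        have h1 : ψ (t * t') ∈ q := by
          have := Ideal.mem_map_of_mem ψ htt
          rw [Ideal.map_span] at this
          refine (Ideal.span_le.2 ?_) this
          rintro x ⟨y, (rfl | rfl), rfl⟩
          · rw [hψalg]; exact (Ideal.span_singleton_le_iff_mem _).1 hq.2
          · rw [hψg]; exact zero_mem _
        rw [map_mul] at h1
        exact (hq.1.mem_or_mem h1).resolve_right fun h2 => ht' ((hmemI _).1 (by
          rw [← hφ]; exact hqI h2))
    haveI : I.FiniteHeight := I.finiteHeight_iff.2 (Or.inr (ne_top_of_le_ne_top ENat.one_ne_top hI1))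
    haveI : (Ideal.comap φ I).FiniteHeight :=
      (Ideal.comap φ I).finiteHeight_iff.2 (Or.inr (ne_top_of_le_ne_top ENat.one_ne_top hc1))
    have hI2 : I.height = 1 := le_antisymm hI1 (Order.one_le_iff_pos.2 (lt_of_le_of_lt zero_le
      (Ideal.height_strict_mono_of_isPrime_of_isPrime hbotI)))
    have hc2 : (Ideal.comap φ I).height = 1 := le_antisymm hc1 (Order.one_le_iff_pos.2 (lt_of_le_of_lt zero_le
      (Ideal.height_strict_mono_of_isPrime_of_isPrime hkerlt)))
    refine ⟨I, hI, hI2, hc2, hπI, hTI, fun Q hQp hQ hπQ hTQ => ?_, fun q hqp hq hπq hTq => ?_⟩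
    · rcases (hIle Q hπQ hTQ).eq_or_lt with h | h
      · exact h.symm
      · have := Ideal.height_strict_mono_of_isPrime (J := Q) h
        rw [hI2, hQ] at this
        exact absurd this (lt_irrefl _)
    · rcases (hcle q hπq hTq).eq_or_lt with h | h
      · exact h.symm
      · have := Ideal.height_strict_mono_of_isPrime (J := q) h
        rw [hc2, hq] at this
        exact absurd this (lt_irrefl _)
  have hgB' : (mkB.comp co') (gp r) = 0 := by rw [RingHom.comp_apply, co'_gp, hgB]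
  refine ⟨?_, ?_, ?_⟩
  · rintro Q ⟨hQp, hQ, hQR⟩
    haveI : (Ideal.comap (algebraMap R B) Q).IsPrime := Ideal.IsPrime.comap _
    obtain ⟨π, hπQ, hπ⟩ := Ideal.IsPrime.exists_mem_prime_of_ne_bot ‹_› hQR
    obtain ⟨T, hT, hTQ⟩ := exists_valid (r := r) (π := π) (mkB.comp co') hgB' Q
      (by rw [RingHom.comp_apply, co'_C, hBalg]; exact hπQ)
    obtain ⟨I, hI, hI2, hc2, hπI, -, huB, -⟩ := std hπ hT
    obtain rfl := huB Q hQp hQ hπQ hTQ
    refine ⟨Ideal.IsPrime.comap _, hc2, fun h => hπ.ne_zero ?_⟩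
    rw [← Ideal.mem_bot, ← h, Ideal.mem_comap]
    beta_reduce
    rw [Ideal.mem_comap, hcomp]; exact hπI
  · rintro Q₁ ⟨hp₁, h₁, hR₁⟩ Q₂ ⟨hp₂, h₂, -⟩ he
    haveI : (Ideal.comap (algebraMap R B) Q₁).IsPrime := Ideal.IsPrime.comap _
    obtain ⟨π, hπQ, hπ⟩ := Ideal.IsPrime.exists_mem_prime_of_ne_bot ‹_› hR₁
    obtain ⟨T, hT, hTQ⟩ := exists_valid (r := r) (π := π) (mkB.comp co') hgB' Q₁
      (by rw [RingHom.comp_apply, co'_C, hBalg]; exact hπQ)
    obtain ⟨I, -, -, -, -, -, huB, -⟩ := std hπ hT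
    have hmem : ∀ x, φ x ∈ Q₁ → φ x ∈ Q₂ := fun x hx => by
      have : x ∈ (fun 𝔓 => Ideal.comap φ 𝔓) Q₁ := hx
      rwa [he] at this
    rw [huB Q₁ hp₁ h₁ hπQ hTQ, huB Q₂ hp₂ h₂ ?_ fun t ht => ?_]
    · rw [Ideal.mem_comap, ← hcomp]
      exact hmem _ (by rw [hcomp]; exact hπQ)
    · rw [← hφ]
      exact hmem _ (by rw [hφ]; exact hTQ t ht)
  · rintro q ⟨hqp, hq, hqR⟩
    haveI : (Ideal.comap (algebraMap R L) q).IsPrime := Ideal.IsPrime.comap _
    obtain ⟨π, hπq, hπ⟩ := Ideal.IsPrime.exists_mem_prime_of_ne_bot ‹_› hqR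
    obtain ⟨T, hT, hTq⟩ := exists_valid (r := r) (π := π) ψ hψg q (by rw [hψalg]; exact hπq)
    obtain ⟨I, hI, hI2, -, hπI, -, -, huL⟩ := std hπ hT
    exact ⟨I, ⟨hI, hI2, fun h => hπ.ne_zero (by rwa [h, Ideal.mem_bot] at hπI)⟩, (huL q hqp hq hπq hTq).symm⟩

open IsLocalRing in
/-- Let R be a regular local ring complete for its maximal ideal, r a non-zero element of R, A the
quotient of the power series ring in x, y over R by xy − r, B the quotient of the polynomial ring in
x, y over R by xy − r, ι : B → A the natural map, P the ideal of B generated by x, y and the maximal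
ideal of R, à the localization of B at P and φ : à → A the map extending ι. Call a prime of height
one of A (or of Ã) fibral when it contains a non-zero element of R. Then contraction along φ is a
bijection from the set of fibral height-one primes of A onto the set of fibral height-one primes of
Ã; equivalently it induces an isomorphism between the free abelian groups of fibral Weil divisors. -/
theorem result
    (R : Type u) [CommRing R] [IsRegularLocalRing R]
    [IsAdicComplete (maximalIdeal R) R]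
    (r : R) (hr : r ≠ 0)
    (ι : (MvPolynomial (Fin 2) R ⧸ Ideal.span {(MvPolynomial.X 0 * MvPolynomial.X 1 - MvPolynomial.C r : MvPolynomial (Fin 2) R)}) →+*
      (MvPowerSeries (Fin 2) R ⧸ Ideal.span {(MvPowerSeries.X 0 * MvPowerSeries.X 1 - MvPowerSeries.C r : MvPowerSeries (Fin 2) R)}))
    (hι : ι.comp (Ideal.Quotient.mk _) =
      (Ideal.Quotient.mk _).comp (MvPolynomial.coeToMvPowerSeries.ringHom : MvPolynomial (Fin 2) R →+* MvPowerSeries (Fin 2) R))
    (P : Ideal (MvPolynomial (Fin 2) R ⧸ Ideal.span {(MvPolynomial.X 0 * MvPolynomial.X 1 - MvPolynomial.C r : MvPolynomial (Fin 2) R)})) [P.IsPrime]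
    (hP : P = Ideal.span {Ideal.Quotient.mk _ (MvPolynomial.X 0), Ideal.Quotient.mk _ (MvPolynomial.X 1)} ⊔
      (maximalIdeal R).map (algebraMap R _))
    (φ : Localization.AtPrime P →+* (MvPowerSeries (Fin 2) R ⧸ Ideal.span {(MvPowerSeries.X 0 * MvPowerSeries.X 1 - MvPowerSeries.C r : MvPowerSeries (Fin 2) R)}))
    (hφ : φ.comp (algebraMap _ (Localization.AtPrime P)) = ι) :
    Set.BijOn (fun 𝔓 => Ideal.comap φ 𝔓)
      {𝔓 | 𝔓.IsPrime ∧ 𝔓.height = 1 ∧ Ideal.comap (algebraMap R _) 𝔓 ≠ ⊥}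
      {𝔮 : Ideal (Localization.AtPrime P) | 𝔮.IsPrime ∧ @Ideal.height (Localization.AtPrime P) _ 𝔮 = 1 ∧ Ideal.comap (algebraMap R (Localization.AtPrime P)) 𝔮 ≠ ⊥} := by
  classical
  haveI : IsDomain R := Groth.Agent.CAlgH3.isDomain_of_isRegularLocalRing R
  haveI := Groth.Agent.CAlgH3.ufm_of_regular R
  have hr1 : r ∈ maximalIdeal R := by
    intro hu
    refine ‹P.IsPrime›.ne_top ((Ideal.eq_top_iff_one _).2 ?_)
    obtain ⟨u, hu⟩ := hu.exists_left_inv
    have hx : Ideal.Quotient.mk _ (MvPolynomial.X 0) ∈ P := by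
      rw [hP]; exact Ideal.mem_sup_left (Ideal.subset_span (Set.mem_insert _ _))
    have := P.mul_mem_left (Ideal.Quotient.mk _ (MvPolynomial.C u * MvPolynomial.X 1)) hx
    rwa [← map_mul, Ideal.Quotient.eq.2 (show (MvPolynomial.C u * MvPolynomial.X 1 * MvPolynomial.X 0 :
      MvPolynomial (Fin 2) R) - 1 ∈ Ideal.span _ from Ideal.mem_span_singleton.2 ⟨MvPolynomial.C u, by
        rw [show (1 : MvPolynomial (Fin 2) R) = MvPolynomial.C u * MvPolynomial.C r by
          rw [← map_mul, hu, map_one]]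
        ring⟩), map_one] at this
  haveI := Groth.Agent.CommAlg4.NodeDomain.isPrime_span hr1 hr
  haveI : IsNoetherianRing (Localization.AtPrime P) :=
    IsLocalization.isNoetherianRing P.primeCompl (Localization.AtPrime P) inferInstance
  have hB0 : ∀ a : R, algebraMap R (MvPowerSeries (Fin 2) R ⧸
      Ideal.span {(MvPowerSeries.X 0 * MvPowerSeries.X 1 - MvPowerSeries.C r : MvPowerSeries (Fin 2) R)}) a = 0 → a = 0 := by
    intro a ha
    have h1 : Ideal.Quotient.mk _ (MvPowerSeries.C a) = (0 : MvPowerSeries (Fin 2) R ⧸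
      Ideal.span {(MvPowerSeries.X 0 * MvPowerSeries.X 1 - MvPowerSeries.C r : MvPowerSeries (Fin 2) R)}) := by
      rw [← ha]; rfl
    rw [Ideal.Quotient.eq_zero_iff_mem, Ideal.mem_span_singleton] at h1
    replace h1 : Groth.Agent.CommAlg4.NodeCompletion.g r ∣
        Groth.Agent.CommAlg4.NodeCompletion.co' (MvPolynomial.C a) := by
      rw [Groth.Agent.CommAlg4.NodeCompletion.co'_C]; exact h1
    obtain ⟨c, hc⟩ := Groth.Agent.CommAlg4.NodeCompletion.gp_dvd_of_g_dvd hr1 h1
    have := congrArg (MvPolynomial.eval (fun i : Fin 2 => if i = 0 then 1 else r)) hc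
    simpa [Groth.Agent.CommAlg4.NodeCompletion.gp] using this
  refine core R hr1 hr (L := Localization.AtPrime P)
    (B := MvPowerSeries (Fin 2) R ⧸
      Ideal.span {(MvPowerSeries.X 0 * MvPowerSeries.X 1 - MvPowerSeries.C r : MvPowerSeries (Fin 2) R)})
    (Ideal.Quotient.mk _) Ideal.Quotient.mk_surjective Ideal.mk_ker (fun a => rfl)
    ((algebraMap _ (Localization.AtPrime P)).comp (Ideal.Quotient.mk
      (Ideal.span {(MvPolynomial.X 0 * MvPolynomial.X 1 - MvPolynomial.C r : MvPolynomial (Fin 2) R)}))) ?_ (fun a => ?_) φ (fun f => ?_) ?_ hB0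
  · rw [RingHom.comp_apply, Groth.Agent.CommAlg4.NodeCompletion.gp, Ideal.Quotient.eq_zero_iff_mem.2 (Ideal.mem_span_singleton_self _), map_zero]
  · rw [RingHom.comp_apply, IsScalarTower.algebraMap_apply R
      (MvPolynomial (Fin 2) R ⧸ Ideal.span {(MvPolynomial.X 0 * MvPolynomial.X 1 - MvPolynomial.C r : MvPolynomial (Fin 2) R)})
      (Localization.AtPrime P)]
    rfl
  · rw [RingHom.comp_apply, ← RingHom.comp_apply φ, hφ, ← RingHom.comp_apply ι, hι]; rfl
  · intro q q' h
    rw [← IsLocalization.map_comap P.primeCompl (Localization.AtPrime P) q, Ideal.map_le_iff_le_comap]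
    intro x hx
    obtain ⟨x, rfl⟩ := Ideal.Quotient.mk_surjective x
    exact h x hx

end Groth.Agent.S17735
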