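import Groth.Statements.S17737
import Groth.Agent.DualGr22.NodeUnique

set_option autoImplicit false
universe u
open DualGr

namespace Groth.Agent.S17737

open IsLocalRing MvPowerSeries in
private theorem key {R A : Type u} [CommRing R] [IsLocalRing R] [IsNoetherianRing R] [CommRing A]
    [IsLocalRing A] (φ : R →+* A) (a b : R) (ha : a ∈ maximalIdeal R) (hb : b ∈ maximalIdeal R)
    (h₁ : DualGr.IsThickNode φ a) (h₂ : DualGr.IsThickNode φ b) : a ∈ Ideal.span {b} := by
  obtain ⟨e1, he1⟩ := h₁
  obtain ⟨e2, he2⟩ := h₂
  let θ := e1.symm.trans e2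
  have hθ : ∀ r : R, θ (Ideal.Quotient.mk _ (C (algebraMap R (Curv2.cpl R) r))) =
      Ideal.Quotient.mk _ (C (algebraMap R (Curv2.cpl R) r)) := fun r => by
    rw [RingEquiv.trans_apply, ← he1 r, RingEquiv.symm_apply_apply, he2]
  have hmem : ∀ r ∈ maximalIdeal R,
      algebraMap R (Curv2.cpl R) r ∈ maximalIdeal (Curv2.cpl R) := fun r hr => by
    rw [AdicCompletion.maximalIdeal_eq_map]
    exact Ideal.mem_map_of_mem _ hr
  refine DualGr22.mem_span_of_algebraMap_mem
    (DualGr22.mem_span_of_iso (hmem a ha) (hmem b hb) θ (hθ a) ?_)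
  intro c hc
  rw [AdicCompletion.maximalIdeal_eq_map, Ideal.map] at hc
  induction hc using Submodule.span_induction with
  | mem x hx =>
    obtain ⟨r, hr, rfl⟩ := hx
    exact ⟨_, hθ r, by rw [MvPowerSeries.map_C, (residue_eq_zero_iff _).mpr (hmem r hr), map_zero]⟩
  | zero => exact ⟨0, by simp, map_zero _⟩
  | add x y _ _ hx hy =>
    obtain ⟨W, hW, hW'⟩ := hx
    obtain ⟨V, hV, hV'⟩ := hy
    exact ⟨W + V, by simp [hW, hV], by simp [hW', hV']⟩
  | smul s x _ hx =>
    obtain ⟨W, hW, hW'⟩ := hx
    obtain ⟨V, hV⟩ := Ideal.Quotient.mk_surjective (θ (Ideal.Quotient.mk _ (C s)))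
    exact ⟨V * W, by simp [hW, hV], by simp [hW']⟩



open IsLocalRing in
/-- Let R be a Noetherian local ring, A a local ring with a ring map φ : R → A, and a, b two elements of
the maximal ideal of R such that A is formally a node over R both of thickness (a) and of thickness
(b): the completion of A is isomorphic, compatibly with R, to R̂[[x,y]]/(xy − a) and also to
R̂[[x,y]]/(xy − b). Then aR = bR. (This is the uniqueness assertion: the element in a node
presentation is not unique but the principal ideal it generates is; it is stated for presentations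
with the element taken in R, whose ideal in R is then determined.) -/
theorem result
    (R A : Type u) [CommRing R] [IsLocalRing R] [IsNoetherianRing R] [CommRing A] [IsLocalRing A]
    (φ : R →+* A) (a b : R) (ha : a ∈ maximalIdeal R) (hb : b ∈ maximalIdeal R)
    (h₁ : DualGr.IsThickNode φ a) (h₂ : DualGr.IsThickNode φ b) :
    Ideal.span {a} = Ideal.span {b} := by
  exact le_antisymm ((Ideal.span_singleton_le_iff_mem _).mpr (key φ a b ha hb h₁ h₂))
    ((Ideal.span_singleton_le_iff_mem _).mpr (key φ b a hb ha h₂ h₁))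

end Groth.Agent.S17737
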