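import Groth.Prelude.Def_CAlg
import Mathlib.LinearAlgebra.Dual.Defs
import Mathlib.RingTheory.IntegralClosure.IntegrallyClosed
import Mathlib.RingTheory.Noetherian.Basic
import Groth.Agent.CAlgMisc2.Reflexive

set_option autoImplicit false
universe u
namespace CAlg
end CAlg
open CAlg

namespace Groth.Agent.S2054

/-- Let `R` be a Noetherian normal domain and `M` a finite `R`-module. Then `M` is reflexive (the map to
its double dual is bijective) if and only if `M` is torsion free and satisfies Serre's condition
`(S_2)`. -/
theorem result {R M : Type u} [CommRing R] [IsDomain R] [IsNoetherianRing R]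
    [IsIntegrallyClosed R] [AddCommGroup M] [Module R M] [Module.Finite R M] :
    Module.IsReflexive R M ↔ NoZeroSMulDivisors R M ∧ LocCoh.HasSk 2 R M := by
  rw [Groth.Agent.CAlgMisc2.isReflexive_iff_normal]
  refine and_congr_left' ⟨fun h => ?_, fun h => ?_⟩
  · exact ⟨fun {r m} => smul_eq_zero.1⟩
  · exact .of_smul_eq_zero fun r m hrm => h.eq_zero_or_eq_zero_of_smul_eq_zero hrm

end Groth.Agent.S2054
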