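import Groth.Statements.S17750
import Groth.Agent.DualLib.GorRing
import Groth.Agent.RefHullLib.RankOne
import Groth.Agent.S7708
import Groth.Agent.S7692
import Groth.Agent.S7696
import Groth.Agent.S7697
import Groth.Agent.S7701
import Groth.Agent.S2054

set_option autoImplicit false
universe u
open Goren

namespace Groth.Agent.S17750

/-- Let B be a regular local ring and p a prime ideal of B such that the integral domain B ⧸ p is a
unique factorization domain. If the local ring B ⧸ p is Cohen–Macaulay then it is Gorenstein, i.e.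
has finite injective dimension as a module over itself. (For a unique factorization domain that is a
quotient of a regular local ring, Cohen–Macaulay and Gorenstein are equivalent; the converse
implication holds for every Noetherian local ring.) -/
theorem result (B : Type u) [CommRing B] [IsRegularLocalRing B] (p : Ideal B) [p.IsPrime] [UniqueFactorizationMonoid (B ⧸ p)] [LocCoh.IsCohenMacaulayLocalRing (B ⧸ p)] : LocCoh.IsGorensteinLocalRing (B ⧸ p) := by
  obtain ⟨n, hn⟩ := LocCoh.exists_dim_eq (R := B ⧸ p)
  set R := B ⧸ p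
  rcases Nat.eq_zero_or_pos n with h0 | hn0
  · subst h0
    haveI : Ring.KrullDimLE 0 R := Ring.krullDimLE_iff.2 hn.le
    letI := (Ring.KrullDimLE.isField_of_isDomain (R := R)).toField
    haveI : IsRegularRing R := inferInstance
    exact (DualLib.GorFlat.gor_congr (IsLocalization.atUnits R (IsLocalRing.maximalIdeal R).primeCompl
      fun x hx => IsLocalRing.notMem_maximalIdeal.1 hx).toRingEquiv).2 (DualLib.GorRing.gor_of_isRegularLocalRing (Localization.AtPrime (IsLocalRing.maximalIdeal R)))
  haveI : LocCoh.IsGorensteinLocalRing B := DualLib.GorRing.gor_of_isRegularLocalRing B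
  obtain ⟨E, _, _, f, hf⟩ := Matlis6.exists_isInjectiveHull R (IsLocalRing.ResidueField R)
  obtain ⟨K, hKfin, ⟨eK⟩⟩ := S7708.result R n hn E f hf B (Ideal.Quotient.mk p) Ideal.Quotient.mk_surjective
  haveI := hKfin
  have hass := S7692.result R n hn E f hf K eK hn0
  have hbot : ∀ P ∈ associatedPrimes R K, P = ⊥ := by
    intro P hP
    rw [hass] at hP
    obtain ⟨hPp, hPn⟩ := hP
    by_contra hne
    obtain ⟨x, hxP, hx0⟩ := Submodule.exists_mem_ne_zero_of_ne_bot hne
    have h1 := ringKrullDim_quotient_succ_le_of_nonZeroDivisor (mem_nonZeroDivisors_of_ne_zero hx0)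
    have h2 : ringKrullDim (R ⧸ P) ≤ ringKrullDim (R ⧸ Ideal.span {x}) :=
      ringKrullDim_le_of_surjective (Ideal.Quotient.factor ((Ideal.span_singleton_le_iff_mem _).2 hxP))
        (Ideal.Quotient.factor_surjective _)
    rw [hn] at h1
    have h3 := (add_le_add_right h2 1).trans (by simpa [add_comm] using h1)
    rw [hPn] at h3
    exact absurd h3 (by norm_cast; omega)
  haveI htf : NoZeroSMulDivisors R K := ⟨fun {c x} hcx => by
    by_contra! hc
    have h1 : c ∈ ⋃ P ∈ associatedPrimes R K, (P : Set R) := by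
      rw [biUnion_associatedPrimes_eq_zero_divisors]; exact ⟨x, hc.2, hcx⟩
    simp only [Set.mem_iUnion] at h1
    obtain ⟨P, hP, hcP⟩ := h1
    rw [hbot P hP] at hcP
    exact hc.1 hcP⟩
  haveI : Nontrivial K := by
    have hb : (⊥ : Ideal R) ∈ associatedPrimes R K := by
      rw [hass]; exact ⟨Ideal.isPrime_bot, by rw [ringKrullDim_eq_of_ringEquiv (RingEquiv.quotientBot R), hn]⟩
    by_contra hK
    rw [not_nontrivial_iff_subsingleton] at hK
    rw [associatedPrimes.eq_empty_of_subsingleton] at hb
    exact hb
  haveI : Module.IsReflexive R K := S2054.result.2 ⟨htf, S7696.result R n hn E f hf K eK⟩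
  let P0 : Ideal R := ⊥
  haveI : P0.IsPrime := Ideal.isPrime_bot
  let K0 := LocalizedModule P0.primeCompl K
  let R0 := Localization.AtPrime P0
  have hle : P0.primeCompl ≤ nonZeroDivisors R := fun x hx => mem_nonZeroDivisors_of_ne_zero fun h => hx (h ▸ P0.zero_mem)
  have hinj : Function.Injective (LocalizedModule.mkLinearMap P0.primeCompl K) := fun x y hxy => by
    obtain ⟨c, hc⟩ := (IsLocalizedModule.eq_iff_exists P0.primeCompl _).1 hxy
    refine sub_eq_zero.1 ((htf.eq_zero_or_eq_zero_of_smul_eq_zero ?_).resolve_left fun h : (c : R) = 0 => c.2 (h ▸ P0.zero_mem))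
    rw [smul_sub, sub_eq_zero]
    exact hc
  haveI : Nontrivial K0 := hinj.nontrivial
  haveI : IsNoetherianRing R0 := IsLocalization.isNoetherianRing P0.primeCompl R0 inferInstance
  obtain ⟨h, hh⟩ := LocCoh.exists_dim_eq (R := R0)
  obtain ⟨E0, _, _, f0, hf0⟩ := Matlis6.exists_isInjectiveHull R0 (IsLocalRing.ResidueField R0)
  obtain ⟨e0⟩ := S7697.result R n hn E f hf K eK B (Ideal.Quotient.mk p) Ideal.Quotient.mk_surjective P0 inferInstance h hh E0 f0 hf0
  have hreg : IsRegularLocalRing R0 := by
    haveI : IsFractionRing R R0 := IsLocalization.of_le_of_exists_dvd P0.primeCompl _ hle fun x hx =>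
      ⟨x, fun h => nonZeroDivisors.ne_zero hx h, dvd_rfl⟩
    letI := IsFractionRing.toField R (K := R0)
    exact IsRegularLocalRing.of_ringEquiv (R := Localization.AtPrime (⊥ : Ideal R0))
      (IsLocalization.atUnits R0 (⊥ : Ideal R0).primeCompl fun x hx =>
        Ne.isUnit (fun h => hx (h ▸ Submodule.zero_mem _))).toRingEquiv.symm
  haveI hg0 : LocCoh.IsGorensteinLocalRing R0 := @DualLib.GorRing.gor_of_isRegularLocalRing R0 _ hreg
  haveI := LocCoh.isCohenMacaulayLocalRing_of_gorenstein (R := R0)
  obtain ⟨ε⟩ := (S7701.result R0 h hh E0 f0 hf0 K0 e0).1 hg0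
  have hrk : Module.finrank R K ≤ 1 := by
    rw [← IsLocalizedModule.finrank_eq P0.primeCompl (LocalizedModule.mkLinearMap P0.primeCompl K) hle,
      (ε.restrictScalars R).finrank_eq, IsLocalizedModule.finrank_eq P0.primeCompl (Algebra.linearMap R R0) hle,
      Module.finrank_self]
  haveI := RefHullLib.free_of_isReflexive_of_finrank_le_one (RefHullLib.finrank_dual.trans hrk)
  have h1 : Module.finrank R K = 1 := le_antisymm hrk Module.finrank_pos
  exact (S7701.result R n hn E f hf K eK).2 ⟨((Module.finBasisOfFinrankEq R K h1).equivFun).trans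
    (LinearEquiv.funUnique (Fin 1) R R)⟩

end Groth.Agent.S17750
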