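import Groth.Statements.S17754
import Mathlib.Algebra.Category.ModuleCat.Abelian
import Mathlib.CategoryTheory.Limits.Shapes.Countable
import Mathlib.CategoryTheory.Limits.Types.Pullbacks
import Mathlib.Dynamics.Newton
import Mathlib.Order.CompletePartialOrder
import Mathlib.RingTheory.AdicCompletion.Noetherian
import Mathlib.RingTheory.Etale.Weakly
import Mathlib.RingTheory.Flat.TorsionFree
import Mathlib.RingTheory.Ideal.AssociatedPrime.Localization
import Mathlib.RingTheory.PicardGroup
import Mathlib.RingTheory.PowerSeries.NoZeroDivisors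
import Mathlib.RingTheory.PowerSeries.Trunc
import Mathlib.RingTheory.TotallySplit
import Mathlib.Tactic
import Groth.Agent.CommAlg4.Nilpotent
import Groth.Agent.S14020

set_option linter.all false

set_option autoImplicit false
universe u
open CAlg

open CategoryTheory

namespace Groth.Agent.S17754

/-- Let R be a complete Noetherian local ring with maximal ideal m, and let I_0 ⊇ I_1 ⊇ I_2 ⊇ ⋯ be a
descending sequence of ideals of R whose intersection is zero. Then for every natural number n there
is an index s with I_s contained in m^n; that is, the filtration by the I_s is at least as fine as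
the m-adic one. -/
theorem result (R : Type u) [CommRing R] [IsNoetherianRing R] [IsLocalRing R] [IsAdicComplete (IsLocalRing.maximalIdeal R) R] (I : ℕ → Ideal R) (hI : Antitone I) (hinf : ⨅ s, I s = ⊥) (n : ℕ) : ∃ s : ℕ, I s ≤ IsLocalRing.maximalIdeal R ^ n := by
  set m := IsLocalRing.maximalIdeal R with hm
  haveI : IsArtinianRing (R ⧸ m) := by
    letI := Ideal.Quotient.field m
    infer_instance
  have hstab : ∀ k, ∃ s0, ∀ s, s0 ≤ s → I s ⊔ m ^ k = I s0 ⊔ m ^ k := by
    intro k
    haveI := Groth.Agent.S14020.result R m (IsNoetherian.noetherian m) k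
    haveI : IsArtinian R (R ⧸ m ^ k) := isArtinian_of_surjective_algebraMap (R := R ⧸ m ^ k) Ideal.Quotient.mk_surjective
    obtain ⟨s0, hs0⟩ := IsArtinian.monotone_stabilizes (R := R) (M := R ⧸ m ^ k) ⟨fun s => OrderDual.toDual (Submodule.map (Submodule.mkQ (m ^ k)) (I s)), fun a b h => Submodule.map_mono (hI h)⟩
    refine ⟨s0, fun s hs => ?_⟩
    have := congrArg (Submodule.comap (Submodule.mkQ (m ^ k))) (OrderDual.toDual.injective (hs0 s hs))
    simp only [Submodule.comap_map_eq, Submodule.ker_mkQ] at this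
    exact this.symm
  choose s0 hs0 using hstab
  let J : ℕ → Ideal R := fun k => I (s0 k) ⊔ m ^ k
  have hJle : ∀ k s, J k ≤ I s ⊔ m ^ k := by
    intro k s
    show I (s0 k) ⊔ m ^ k ≤ _
    rw [← hs0 k (max s (s0 k)) (le_max_right _ _)]
    exact sup_le_sup_right (hI (le_max_left _ _)) _
  by_contra hne
  push Not at hne
  obtain ⟨x0, hx0, hx0'⟩ : ∃ x, x ∈ J n ∧ x ∉ m ^ n := by
    obtain ⟨x, hx, hx'⟩ := SetLike.not_le_iff_exists.mp (hne (s0 n))
    exact ⟨x, Submodule.mem_sup_left hx, hx'⟩
  have hnext : ∀ k x, x ∈ J k → ∃ y ∈ J (k+1), y - x ∈ m ^ k := by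
    intro k x hx
    obtain ⟨i, hi, j, hj, rfl⟩ := Submodule.mem_sup.mp (hJle k (s0 (k+1)) hx)
    exact ⟨i, Submodule.mem_sup_left hi, by simpa using neg_mem hj⟩
  choose g hg hg' using hnext
  let F : ∀ j : ℕ, {x : R // x ∈ J (n + j)} := fun j => Nat.rec ⟨x0, hx0⟩ (fun j p => ⟨g (n + j) p.1 p.2, hg _ _ _⟩) j
  have hF : ∀ a b, a ≤ b → (F b).1 - (F a).1 ∈ m ^ (n + a) := by
    intro a b hab
    induction hab with
    | refl => simp
    | step h ih =>
      rename_i b
      have : (F (b+1)).1 - (F b).1 ∈ m ^ (n + b) := hg' _ _ _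
      simpa using add_mem (Ideal.pow_le_pow_right (Nat.add_le_add_left h n) this) ih
  obtain ⟨L, hL⟩ := IsPrecomplete.prec (I := m) (M := R) inferInstance (f := fun k => (F k).1) (fun {a b} hab => by
    rw [SModEq.sub_mem, smul_eq_mul, Ideal.mul_top]
    exact Ideal.pow_le_pow_right (by omega) (neg_sub (F b).1 (F a).1 ▸ neg_mem (hF a b hab)))
  simp only [SModEq.sub_mem, smul_eq_mul, Ideal.mul_top] at hL
  have hLmem : ∀ s, L ∈ I s := by
    intro s
    rw [← Ideal.Quotient.eq_zero_iff_mem]
    refine IsHausdorff.haus (I := m) (M := R ⧸ I s) (IsHausdorff.of_isLocalRing m (R ⧸ I s) (IsLocalRing.maximalIdeal.isMaximal R).ne_top) _ fun k => ?_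
    rw [SModEq.zero, Ideal.smul_top_eq_map, Submodule.restrictScalars_mem]
    obtain ⟨i, hi, j, hj, hij⟩ := Submodule.mem_sup.mp (hJle (n + k) s (F k).2)
    have e : Ideal.Quotient.mk (I s) L = Ideal.Quotient.mk (I s) (j - ((F k).1 - L)) := by
      rw [Ideal.Quotient.eq, ← hij]; convert hi using 1; ring
    rw [e]
    exact Ideal.mem_map_of_mem _ (sub_mem (Ideal.pow_le_pow_right (by omega) hj) (hL k))
  have hL0 : L = 0 := by
    have : L ∈ ⨅ s, I s := Submodule.mem_iInf _ |>.mpr hLmem
    rwa [hinf] at this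
  apply hx0'
  have h2 := hF 0 n (Nat.zero_le _)
  have h1 := hL n
  rw [hL0, sub_zero] at h1
  have := sub_mem h1 (Ideal.pow_le_pow_right (by omega) h2)
  simpa [F] using this

end Groth.Agent.S17754
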