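import Groth.Statements.S17756
import Groth.Agent.Matlis6.Local
import Mathlib.Algebra.Module.SpanRankOperations

set_option autoImplicit false
universe u
open Matlis

namespace Groth.Agent.S17756

/-- Let R be a Noetherian local ring with maximal ideal m and residue field k, E an injective hull of k,
and M a finitely generated R-module with Matlis dual M^v = Hom_R(M, E). Then the minimal number of
generators of M equals the k-dimension of the socle of M^v, the submodule of elements of M^v killed
by m (stated as its length as an R-module). -/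
theorem result (R : Type u) [CommRing R] [IsNoetherianRing R] [IsLocalRing R] (E : Type u) [AddCommGroup E] [Module R E] (f : IsLocalRing.ResidueField R →ₗ[R] E) (hf : InjHull.IsInjectiveHull f) (M : Type u) [AddCommGroup M] [Module R M] [Module.Finite R M] : ((⊤ : Submodule R M).spanFinrank : ℕ∞) = Module.length R (LocCoh.torsionBy (IsLocalRing.maximalIdeal R) (M →ₗ[R] E)) := by
  set m := IsLocalRing.maximalIdeal R
  have hE : Matlis6.IsHullAt m E := Matlis6.of_isInjectiveHull_residueField hf
  let Q := ↥(⊤ : Submodule R M) ⧸ (m • ⊤ : Submodule R ↥(⊤ : Submodule R M))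
  let π : M →ₗ[R] Q := (Submodule.mkQ _).comp (LinearMap.id.codRestrict ⊤ fun _ => trivial)
  have hπ : Function.Surjective π := fun q => by
    obtain ⟨x, rfl⟩ := Submodule.Quotient.mk_surjective _ q
    exact ⟨x.1, rfl⟩
  have hkill : ∀ a ∈ m ^ 1, ∀ q : Q, a • q = 0 := by
    intro a ha q
    obtain ⟨x, rfl⟩ := Submodule.Quotient.mk_surjective _ q
    rw [← Submodule.Quotient.mk_smul, Submodule.Quotient.mk_eq_zero]
    exact Submodule.smul_mem_smul (by simpa using ha) trivial
  letI : Field (R ⧸ m) := Ideal.Quotient.field _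
  haveI : Module.Finite (R ⧸ m) Q := Module.Finite.of_restrictScalars_finite R _ _
  have hlenQ : Module.length R Q = ((⊤ : Submodule R M).spanFinrank : ℕ∞) := by
    rw [Module.length_eq_of_surjective (R := R ⧸ m) (S := R) (M := Q) Ideal.Quotient.mk_surjective,
      Module.length_eq_finrank, IsLocalRing.spanFinrank_eq_finrank_quotient _ Module.Finite.fg_top]
  have hfl : IsFiniteLength R Q := Module.length_ne_top_iff.1 (by rw [hlenQ]; exact ENat.natCast_ne_top _)
  rw [← hlenQ, ← hE.length_dual hfl hkill]
  let G : (Q →ₗ[R] E) →ₗ[R] ↥(LocCoh.torsionBy m (M →ₗ[R] E)) :=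
    (LinearMap.lcomp R E π).codRestrict _ fun ψ => (Submodule.mem_torsionBySet_iff _ _).2 fun a =>
      LinearMap.ext fun x => by
        change (a : R) • ψ (π x) = 0
        rw [← map_smul, hkill a (by simpa using a.2), map_zero]
  refine (LinearEquiv.ofBijective G ⟨?_, ?_⟩).length_eq
  · intro ψ χ h
    refine LinearMap.ext fun q => ?_
    obtain ⟨x, rfl⟩ := hπ q
    exact LinearMap.congr_fun (congrArg Subtype.val h) x
  · rintro ⟨φ, hφ⟩
    rw [Submodule.mem_torsionBySet_iff] at hφ
    have hle : (m • ⊤ : Submodule R ↥(⊤ : Submodule R M)) ≤ LinearMap.ker (φ.comp (Submodule.subtype ⊤)) := by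
      refine Submodule.smul_le.2 fun a ha x _ => ?_
      rw [LinearMap.mem_ker, map_smul]
      exact LinearMap.congr_fun (hφ ⟨a, ha⟩) x.1
    exact ⟨Submodule.liftQ _ (φ.comp (Submodule.subtype ⊤)) hle, Subtype.ext (LinearMap.ext fun x => rfl)⟩

end Groth.Agent.S17756
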