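import Groth.Statements.S17764
import Groth.Agent.InjHullLib.Basic

set_option autoImplicit false
universe u
open InjHull

namespace Groth.Agent.S17764

/-- Let R be a commutative ring and M an R-module which is torsion-free (no nonzero element of R kills a
nonzero element of M) and divisible (multiplication by every nonzero element of R is surjective on
M). Then M is an injective R-module. (Over a ring with zero divisors the two hypotheses force M =
0.) -/
theorem result (R : Type u) [CommRing R] (M : Type u) [AddCommGroup M] [Module R M] [NoZeroSMulDivisors R M] (hdiv : ∀ r : R, r ≠ 0 → Function.Surjective (fun m : M => r • m)) : Module.Injective R M := by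
  by_cases hdom : ∀ a b : R, a * b = 0 → a = 0 ∨ b = 0
  · refine Module.Baer.injective fun 𝔞 g => ?_
    by_cases h0 : ∀ a ∈ 𝔞, a = (0 : R)
    · refine ⟨0, fun x hx => ?_⟩
      obtain rfl := h0 x hx
      exact ((congrArg g (Subtype.ext rfl)).trans (map_zero g)).symm
    push Not at h0
    obtain ⟨a, ha, ha0⟩ := h0
    obtain ⟨y, hy⟩ := hdiv a ha0 (g ⟨a, ha⟩)
    refine ⟨LinearMap.toSpanSingleton R M y, fun b hb => ?_⟩
    have h1 : a • g ⟨b, hb⟩ = b • g ⟨a, ha⟩ := by
      rw [← map_smul, ← map_smul]
      exact congrArg g (Subtype.ext (mul_comm a b))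
    have h2 : a • (g ⟨b, hb⟩ - b • y) = 0 := by
      rw [smul_sub, h1, smul_comm a b y]
      simp only at hy
      rw [hy, sub_self]
    rw [LinearMap.toSpanSingleton_apply]
    exact (sub_eq_zero.1 ((NoZeroSMulDivisors.eq_zero_or_eq_zero_of_smul_eq_zero h2).resolve_left ha0)).symm
  · push Not at hdom
    obtain ⟨a, b, hab, ha, hb⟩ := hdom
    have : Subsingleton M := ⟨fun x y => sub_eq_zero.1 (by
      have h2 : a • b • (x - y) = 0 := by rw [smul_smul, hab, zero_smul]
      exact (NoZeroSMulDivisors.eq_zero_or_eq_zero_of_smul_eq_zero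
        ((NoZeroSMulDivisors.eq_zero_or_eq_zero_of_smul_eq_zero h2).resolve_left ha)).resolve_left hb)⟩
    exact ⟨fun X Y _ _ _ _ f hf g => ⟨0, fun x => Subsingleton.elim _ _⟩⟩

end Groth.Agent.S17764
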