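import Groth.Statements.S17765
import Groth.Agent.LocCoh.FaltingsRegular
import Groth.Agent.CAlgH3.RegularHom

set_option autoImplicit false
universe u
open CategoryTheory
open LocCoh

namespace Groth.Agent.S17765

/-- Let B be a regular local ring, M a finitely generated B-module and p an associated prime ideal of M.
Then the height of p is at most the projective dimension of M: for every n such that M has
projective dimension at most n, ht p ≤ n. -/
theorem result (B : Type u) [CommRing B] [IsRegularLocalRing B] (M : Type u) [AddCommGroup M] [Module B M] [Module.Finite B M] (p : Ideal B) (hp : p ∈ associatedPrimes B M) (n : ℕ) (hn : HasProjectiveDimensionLE (ModuleCat.of B M) n) : p.height ≤ n := by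
  haveI : p.IsPrime := hp.isPrime
  haveI : Module.Finite (Localization.AtPrime p) (LocalizedModule p.primeCompl M) :=
    Module.Finite.of_isLocalizedModule (Rₚ := Localization.AtPrime p) p.primeCompl
      (LocalizedModule.mkLinearMap p.primeCompl M)
  have hass : IsLocalRing.maximalIdeal (Localization.AtPrime p) ∈
      associatedPrimes (Localization.AtPrime p) (LocalizedModule p.primeCompl M) :=
    Module.associatedPrimes.mem_associatedPrimes_of_comap_mem_associatedPrimes_of_isLocalizedModule
      p.primeCompl (LocalizedModule.mkLinearMap p.primeCompl M) _
      (by change (IsLocalRing.maximalIdeal _).under B ∈ _; rwa [IsLocalization.AtPrime.under_maximalIdeal (Localization.AtPrime p) p])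
  haveI : Nontrivial (LocalizedModule p.primeCompl M) := by
    by_contra h
    rw [not_nontrivial_iff_subsingleton] at h
    haveI := h
    rw [associatedPrimes.eq_empty_of_subsingleton] at hass
    exact hass
  have h0 := (CAlgH3.depth_eq_zero_iff (R := Localization.AtPrime p)
    (M := LocalizedModule p.primeCompl M)).2 hass
  have hpd : CAlgH3.PD (Localization.AtPrime p) (n + 1) (LocalizedModule p.primeCompl M) := by
    have := CommAlg6.pdLE_baseChange (B := Localization.AtPrime p) n (M := M) hn
    exact (CommAlg6.pdLE_congr ((IsLocalizedModule.isBaseChange p.primeCompl (Localization.AtPrime p)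
      (LocalizedModule.mkLinearMap p.primeCompl M)).equiv) n).1 this
  classical
  haveI := CAlgH3.isRegularRing_of_isRegularLocalRing (R := B)
  have hex : ∃ k, CAlgH3.PD (Localization.AtPrime p) k (LocalizedModule p.primeCompl M) := ⟨_, hpd⟩
  have hk0 : Nat.find hex ≠ 0 := fun h => by
    have := Nat.find_spec hex
    rw [h, CAlgH3.pd_zero_iff] at this
    exact not_subsingleton (LocalizedModule p.primeCompl M) this
  obtain ⟨e, he⟩ := Nat.exists_eq_succ_of_ne_zero hk0
  have h1 := CAlgH3.depth_add_of_pd e (LocalizedModule p.primeCompl M) (by have := Nat.find_spec hex; rwa [he] at this)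
    (Nat.find_min hex (by omega))
  rw [LocCoh.depth_localization_eq_height, h0, add_zero] at h1
  rw [h1, Nat.cast_le]
  have := Nat.find_min' hex hpd
  omega

end Groth.Agent.S17765
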