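import Groth.Statements.S17766
import Groth.Agent.CAlgH3.CanonicalIdeal
import Groth.Agent.LocCoh.ExtBridge
import Groth.Agent.S0342
-- import your own Groth.Agent.* helpers here

set_option autoImplicit false
universe u
open CategoryTheory Opposite
open LocCoh

namespace Groth.Agent.S17766

/-- Let B be a regular local ring, p a prime ideal of B of height r, and suppose that A = B ⧸ p is
Cohen–Macaulay. Then the B-module Ext^r_B(A, B) is isomorphic either to A itself or to a proper
ideal I of A which is unmixed of height one, i.e. every associated prime of A ⧸ I has height one in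
A (existence of a B-linear isomorphism in each case). -/
theorem result (B : Type u) [CommRing B] [IsRegularLocalRing B] (p : Ideal B) [p.IsPrime] [LocCoh.IsCohenMacaulayLocalRing (B ⧸ p)] (r : ℕ) (hr : p.height = r) : Nonempty (((Ext B (ModuleCat.{u} B) r).obj (op (ModuleCat.of B (B ⧸ p)))).obj (ModuleCat.of B B) ≃ₗ[B] (B ⧸ p)) ∨ ∃ I : Ideal (B ⧸ p), I ≠ ⊤ ∧ (∀ q ∈ associatedPrimes (B ⧸ p) ((B ⧸ p) ⧸ I), q.height = 1) ∧ Nonempty (((Ext B (ModuleCat.{u} B) r).obj (op (ModuleCat.of B (B ⧸ p)))).obj (ModuleCat.of B B) ≃ₗ[B] I) := by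
  classical
  haveI : IsDomain (B ⧸ p) := Ideal.Quotient.isDomain p
  haveI : LocCoh.IsGorensteinLocalRing B := Groth.Agent.S0342.result B
  haveI := Groth.Agent.CAlgH3.isCohenMacaulayLocalRing_of_regular B
  obtain ⟨n, hn⟩ := Groth.Agent.LocCoh.exists_dim_eq (R := B ⧸ p)
  obtain ⟨m, hm⟩ := Groth.Agent.LocCoh.exists_dim_eq (R := B)
  have hmn : m - n = r := by
    have := Groth.Agent.LocCoh.height_add_dim_quotient_of_cm p hr hn hm
    omega
  subst hmn
  obtain ⟨E, _, _, hE⟩ := Groth.Agent.Matlis6.exists_isHullAt (IsLocalRing.maximalIdeal (B ⧸ p))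
  let X := CategoryTheory.Abelian.Ext (ModuleCat.of B (B ⧸ p)) (ModuleCat.of B B) (m - n)
  haveI : Module.Finite B (B ⧸ p) := inferInstance
  haveI : Module.Finite B X := inferInstance
  have hkill : Module.IsTorsionBySet B X (p : Set B) := fun x ⟨a, ha⟩ =>
    Groth.Agent.LocCoh.smul_ext_eq_zero B a (fun b => by
      rw [Algebra.smul_def, Ideal.Quotient.algebraMap_eq, Ideal.Quotient.eq_zero_iff_mem.2 ha, zero_mul]) (m - n) x
  letI : Module (B ⧸ p) X := hkill.module
  haveI : IsScalarTower B (B ⧸ p) X := IsScalarTower.of_algebraMap_smul fun a x => rfl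
  haveI : Module.Finite (B ⧸ p) X := Module.Finite.of_restrictScalars_finite B (B ⧸ p) X
  obtain ⟨eK⟩ := Groth.Agent.LocCoh.exists_canonical_of_gorenstein_image (R' := B) (R := B ⧸ p)
    Ideal.Quotient.mk_surjective hn hm hE X (LinearEquiv.refl B X)
  let f := Groth.Agent.LocCoh.extEquiv (ModuleCat.of B (B ⧸ p)) (m - n) (ModuleCat.of B B)
  rcases Groth.Agent.CAlgH3.CanonicalIdeal.exists_ideal hn hE eK with ⟨⟨e⟩⟩ | ⟨I, hI, hq, ⟨e⟩⟩
  · exact Or.inl ⟨f.trans (e.restrictScalars B)⟩
  · exact Or.inr ⟨I, hI, hq, ⟨f.trans (e.restrictScalars B)⟩⟩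

end Groth.Agent.S17766
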