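import Groth.Statements.S17767
import Groth.Agent.GrLib.Positive
import Groth.Agent.GrLib.StarLocal

set_option autoImplicit false
universe u
open GrLC

namespace Groth.Agent.S17767

open Groth.Agent.GrLib

/-- Let R = ⊕_{n ≥ 0} R_n be a Noetherian positively ℤ-graded ring which is *local, i.e. has a unique
homogeneous maximal ideal m (equivalently R_0 is local), and let M be a finitely generated graded
R-module. Then for every i the homogeneous pieces H^i_m(M)_n of the graded local cohomology with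
support in m, computed from any *injective resolution of M in the graded category, are zero for all
sufficiently large n. -/
theorem result (R : Type u) [CommRing R] [IsNoetherianRing R] (𝒜 : ℤ → AddSubgroup R) [GradedRing 𝒜] (hpos : ∀ n : ℤ, n < 0 → 𝒜 n = ⊥) (m : HomogeneousIdeal 𝒜) (hm : GrLC.IsStarLocal 𝒜 m) (M : Type u) [AddCommGroup M] [Module R M] [Module.Finite R M] (ℳ : ℤ → AddSubgroup M) [DirectSum.Decomposition ℳ] [SetLike.GradedSMul 𝒜 ℳ] (E : GrLC.StarInjRes 𝒜 ℳ) (i : ℕ) : ∃ N : ℤ, ∀ n : ℤ, N ≤ n → E.Hcomp m i n = ⊥ := by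
  have hpos' : ∀ k : ℤ, k < 0 → ∀ x ∈ 𝒜 k, x = 0 := fun k hk x hx => by
    rw [hpos k hk] at hx
    exact hx
  let P : HomogeneousIdeal 𝒜 := ⟨Ideal.span (⋃ k ∈ Set.Ioi (0 : ℤ), (𝒜 k : Set R)),
    Ideal.homogeneous_span 𝒜 _ (fun x hx => by
      obtain ⟨k, -, hk⟩ := Set.mem_iUnion₂.1 hx
      exact ⟨k, hk⟩)⟩
  have hle : P.toIdeal ≤ m.toIdeal := starLocal_irrelevant_le hpos' hm.1
  obtain ⟨r, hr⟩ := Groth.Agent.GrLib.exists_vanishing hpos' P rfl m hle i inferInstance E
  exact ⟨r + 1, fun n hn => (Groth.Agent.GrLib.Hcomp_eq_bot_iff m i n).2 (hr n (by omega))⟩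

end Groth.Agent.S17767
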