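import Groth.Statements.S17769
import Groth.Agent.GrLib.GradedDim
import Groth.Agent.GrLib.RegPoly
import Groth.Agent.LocCoh.DepthLocal

set_option autoImplicit false
set_option linter.style.haveILetI false
universe u
open GrLC

namespace Groth.Agent.S17769

/-- Let R = ⊕_{n ≥ 0} R_n be a Noetherian positively ℤ-graded ring which is standard graded (its
irrelevant ideal is generated by R_1), *local with unique homogeneous maximal ideal m,
Cohen–Macaulay, and of Krull dimension d + 1. Let x be a homogeneous element of degree k lying in m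
which is a non-zerodivisor on R, and let N be R ⧸ xR as a graded R-module, presented by a surjective
degree-preserving R-linear map π : R → N with kernel xR. Writing a(·) for the largest degree in
which the top graded local cohomology with support in m is nonzero (computed from *injective
resolutions I of R and F of N), one has a(R ⧸ xR) = a(R) + k, that is, the end of H^d_m(N) equals
the end of H^{d+1}_m(R) plus k. (The published statement does not require x to lie in m; for a
homogeneous unit x of degree 0 one has R ⧸ xR = 0, whose local cohomology vanishes, and the formula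
fails. The proof uses that H^d_m(R ⧸ xR) is the top local cohomology, i.e. that x is not a unit, so
x is taken in m here; for a standard graded ring this excludes only the units of degree 0.) -/
theorem result (R : Type u) [CommRing R] [LocCoh.IsCohenMacaulayRing R] (𝒜 : ℤ → AddSubgroup R) [GradedRing 𝒜] (hpos : ∀ n : ℤ, n < 0 → 𝒜 n = ⊥) (hstd : Ideal.span (⋃ n ∈ Set.Ioi (0 : ℤ), (𝒜 n : Set R)) = Ideal.span ((𝒜 1 : AddSubgroup R) : Set R)) (m : HomogeneousIdeal 𝒜) (hm : GrLC.IsStarLocal 𝒜 m) (d : ℕ) (hd : ringKrullDim R = (d + 1 : ℕ)) (I : GrLC.StarInjRes 𝒜 𝒜) (x : R) (k : ℤ) (hxk : x ∈ 𝒜 k) (hxm : x ∈ m.toIdeal) (hx : IsSMulRegular R x) (N : Type u) [AddCommGroup N] [Module R N] (𝒩 : ℤ → AddSubgroup N) [DirectSum.Decomposition 𝒩] [SetLike.GradedSMul 𝒜 𝒩] (π : R →ₗ[R] N) (hπ : GrLC.IsGrHom 𝒜 𝒩 π) (hπs : Function.Surjective π) (hπk : LinearMap.ker π = Ideal.span {x}) (F : GrLC.StarInjRes 𝒜 𝒩) : GrLC.endDeg (F.Hgr m d) = GrLC.endDeg (I.Hgr m (d + 1)) + ((k : WithTop ℤ) : WithBot (WithTop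 ℤ)) := by
  have hpos' : ∀ n : ℤ, n < 0 → ∀ r ∈ 𝒜 n, r = 0 := fun n hn r hr => by
    rw [hpos n hn] at hr
    exact hr
  haveI : Nontrivial R := by
    by_contra h
    rw [not_nontrivial_iff_subsingleton] at h
    rw [ringKrullDim_eq_bot_of_subsingleton] at hd
    exact WithBot.bot_ne_coe hd
  have hk : 0 ≤ k := by
    by_contra hk
    rw [hpos' k (by omega) x hxk] at hx
    exact not_subsingleton R (IsSMulRegular.subsingleton hx)
  haveI := GrLib.isMaximal_starMaximal hpos' hm
  have hH : Subsingleton (LocCoh.H m.toIdeal d R) := by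
    have h1 := GrLib.ringKrullDim_eq_height_starMaximal hpos' hm
    rw [hd] at h1
    have h2 := (Groth.Agent.LocCoh.isCohenMacaulayRing_iff_idealDepth R).1 inferInstance m.toIdeal
      (Ideal.IsMaximal.ne_top inferInstance)
    have h3 : m.toIdeal.height = ((d + 1 : ℕ) : ℕ∞) := (WithBot.coe_inj.1 h1).symm
    rw [h3] at h2
    exact (Groth.Agent.LocCoh.natCast_le_idealDepth_iff_H m.toIdeal R (d + 1)).1 h2.ge d (Nat.lt_succ_self d)
  obtain ⟨e⟩ := GrLib.nonempty_H_equiv I m d
  haveI := e.toEquiv.subsingleton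
  have hex : Function.Exact (x • LinearMap.id : R →ₗ[R] R) π := LinearMap.exact_iff.2 (by
    rw [hπk]
    ext r
    rw [Ideal.mem_span_singleton', LinearMap.mem_range]
    exact exists_congr fun c => by simp [mul_comm])
  have hinj : Function.Injective (x • LinearMap.id : R →ₗ[R] R) := fun _ _ h => hx h
  obtain ⟨δ, hδ, -, hexH⟩ := GrLib.exists_les_deg I F I m (GrLib.smul_id_grHomDeg (ℳ := 𝒜) hxk) hinj hπ hπs hex
  have hδinj : ∀ w, δ d w = 0 → w = 0 := fun w hw => by
    obtain ⟨z, rfl⟩ := ((hexH d).2.1 w).1 hw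
    rw [Subsingleton.elim z 0, map_zero]
  have hker : ∀ y, x • y = 0 → y ∈ LinearMap.range (δ d) := fun y hy => ((hexH d).2.2 y).1 (by
    rw [GrLib.mapH_smul_id m hxk]; exact hy)
  refine le_antisymm ((GrLib.endDeg_le_iff _ _).2 fun n hn => ?_) ?_
  · obtain ⟨y, hy, hy0⟩ : ∃ y ∈ F.Hgr m d n, y ≠ 0 := by
      by_contra! h
      exact hn ((AddSubgroup.eq_bot_iff_forall _).2 h)
    have h1 : I.Hgr m (d + 1) (n - k) ≠ ⊥ := fun h =>
      hy0 (hδinj y ((AddSubgroup.eq_bot_iff_forall _).1 h _ (by rw [sub_eq_add_neg]; exact hδ d n y hy)))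
    have h2 : (((n - k : ℤ) : WithTop ℤ) : WithBot (WithTop ℤ)) ≤ GrLC.endDeg (I.Hgr m (d + 1)) :=
      (GrLib.endDeg_le_iff _ _).1 le_rfl _ h1
    refine le_of_eq_of_le ?_ (add_le_add_left h2 _)
    rw [← WithBot.coe_add, ← WithTop.coe_add, sub_add_cancel]
  · have key : ∀ (t : ℕ) (j : ℤ), ∀ y ∈ I.Hgr m (d + 1) j, y ≠ 0 → x ^ t • y = 0 →
        ∃ n, j + k ≤ n ∧ F.Hgr m d n ≠ ⊥ := by
      intro t
      induction t with
      | zero => exact fun j y _ h0 h => absurd (by rwa [pow_zero, one_smul] at h) h0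
      | succ t ih =>
        intro j y hy h0 h
        letI := GrLib.Hdecomp I m (d + 1)
        by_cases hxy : x • y = 0
        · letI := GrLib.Hdecomp F m d
          obtain ⟨w, hw, hwy⟩ := GrLib.exists_preimage (hδ d) (g := j + k) (y := y)
            (by rwa [add_neg_cancel_right]) (hker y hxy)
          exact ⟨j + k, le_rfl, fun hb => h0 (by
            rw [← hwy, (AddSubgroup.eq_bot_iff_forall _).1 hb w hw, map_zero])⟩
        · obtain ⟨n, hn, hne⟩ := ih (k + j) (x • y) (GrLib.smul_mem (ℳ := I.Hgr m (d + 1)) hxk hy) hxy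
            (by rwa [← mul_smul, ← pow_succ])
          exact ⟨n, by omega, hne⟩
    have key2 : ∀ j, I.Hgr m (d + 1) j ≠ ⊥ →
        (((j + k : ℤ) : WithTop ℤ) : WithBot (WithTop ℤ)) ≤ GrLC.endDeg (F.Hgr m d) := by
      intro j hj
      obtain ⟨y, hy, hy0⟩ : ∃ y ∈ I.Hgr m (d + 1) j, y ≠ 0 := by
        by_contra! h
        exact hj ((AddSubgroup.eq_bot_iff_forall _).2 h)
      obtain ⟨t, ht⟩ := GrLib.exists_pow_smul_H m (d + 1) y
      obtain ⟨n, hn, hne⟩ := key t j y hy hy0 (ht _ (Ideal.pow_mem_pow hxm t))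
      exact le_trans (WithBot.coe_le_coe.2 (WithTop.coe_le_coe.2 hn)) ((GrLib.endDeg_le_iff _ _).1 le_rfl n hne)
    induction hc : GrLC.endDeg (F.Hgr m d) with
    | bot =>
      have h0 : GrLC.endDeg (I.Hgr m (d + 1)) ≤ ⊥ := (GrLib.endDeg_le_iff _ _).2 fun j hj => by
        have h := key2 j hj
        rw [hc, le_bot_iff] at h
        exact absurd h WithBot.coe_ne_bot
      rw [le_bot_iff.1 h0, WithBot.bot_add]
    | coe c =>
      induction c with
      | top => exact le_top
      | coe c =>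
        refine (GrLib.endDeg_add_le_int _ k c).2 fun j hj => (AddSubgroup.eq_bot_iff_forall _).1 ?_
        by_contra hne
        have h := key2 j hne
        rw [hc, WithBot.coe_le_coe, WithTop.coe_le_coe] at h
        omega

end Groth.Agent.S17769
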