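import Groth.Statements.S17771
import Groth.Agent.CAlgH3.GrArtinBase
import Mathlib

set_option autoImplicit false
universe u
open GrLC

namespace Groth.Agent.S17771

/-- Let R = ⊕_{n ≥ 0} R_n be a positively ℤ-graded ring which is standard graded (irrelevant ideal
generated by R_1), with R_0 Artinian, *local with unique homogeneous maximal ideal m, and
Cohen–Macaulay of Krull dimension d. Then the a-invariant of R is at least −d: the end (largest
nonzero degree) of the graded local cohomology module H^d_m(R), computed from any *injective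
resolution of R in the graded category, is ≥ −d. (Equality holds exactly for polynomial rings
R_0[T_1, …, T_d]; that characterisation is not part of this statement.) -/
theorem result (R : Type u) [CommRing R] [LocCoh.IsCohenMacaulayRing R] (𝒜 : ℤ → AddSubgroup R) [GradedRing 𝒜] (hpos : ∀ n : ℤ, n < 0 → 𝒜 n = ⊥) (hstd : Ideal.span (⋃ n ∈ Set.Ioi (0 : ℤ), (𝒜 n : Set R)) = Ideal.span ((𝒜 1 : AddSubgroup R) : Set R)) [IsArtinianRing (GrLC.deg0 𝒜)] (m : HomogeneousIdeal 𝒜) (hm : GrLC.IsStarLocal 𝒜 m) (d : ℕ) (hd : ringKrullDim R = d) (I : GrLC.StarInjRes 𝒜 𝒜) : (((-(d : ℤ) : ℤ) : WithTop ℤ) : WithBot (WithTop ℤ)) ≤ GrLC.endDeg (I.Hgr m d) := by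
  have hpos' : ∀ k : ℤ, k < 0 → ∀ x ∈ 𝒜 k, x = 0 := fun k hk x hx => by rw [hpos k hk] at hx; exact hx
  by_contra hlt
  have hb : I.Hgr m d (0 - d) = ⊥ := by
    by_contra hne
    apply hlt
    rw [zero_sub] at hne
    exact le_iSup₂ (f := fun (k : ℤ) (_ : I.Hgr m d k ≠ ⊥) => ((k : WithTop ℤ) : WithBot (WithTop ℤ))) _ hne
  have h1 := Groth.Agent.CAlgH3.GrArtinBase.piece_le_span hpos' hm hstd hd I 0 hb 1 SetLike.GradedOne.one_mem
  haveI : Nontrivial R := by
    by_contra hn
    rw [not_nontrivial_iff_subsingleton] at hn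
    rw [ringKrullDim_eq_bot_of_subsingleton] at hd
    exact WithBot.bot_ne_coe hd
  refine one_ne_zero (α := R) ((Submodule.mem_bot R).1 ((Submodule.span_eq_bot.2 fun y hy => ?_).le h1))
  exact hpos' (0 - 1) (by omega) y hy

end Groth.Agent.S17771
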