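import Groth.Statements.S17772
import Groth.Agent.CAlgH3.GrSerreFormula
import Groth.Agent.CAlgH3.GrEndDeg
import Mathlib
-- import your own Groth.Agent.* helpers here

set_option autoImplicit false
universe u
open GrLC

namespace Groth.Agent.S17772

/-- Let R = ⊕_{n ≥ 0} R_n be a positively ℤ-graded ring which is standard graded (irrelevant ideal
generated by R_1), with R_0 Artinian, *local with unique homogeneous maximal ideal m, and
Cohen–Macaulay of Krull dimension d; let H_R(n) = ℓ_{R_0}(R_n) be its Hilbert function and P_R ∈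
ℚ[X] its Hilbert polynomial (a polynomial agreeing with H_R for all large n, taken as given). Then
the a-invariant of R, the largest degree in which H^d_m(R) is nonzero (computed from any *injective
resolution of R), equals the supremum of the integers n with P_R(n) ≠ H_R(n). (The published text
writes 'min' for this supremum; the set of such n is unbounded below whenever it is nonempty, e.g.
all n < 0 for a polynomial ring over a field, and the published one-line proof H_R(n) − P_R(n) =
(−1)^d ℓ(H^d_m(R)_n) identifies the set with the nonzero degrees of H^d_m(R), whose largest element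
is a(R).) -/
theorem result (R : Type u) [CommRing R] [LocCoh.IsCohenMacaulayRing R] (𝒜 : ℤ → AddSubgroup R) [GradedRing 𝒜] (hpos : ∀ n : ℤ, n < 0 → 𝒜 n = ⊥) (hstd : Ideal.span (⋃ n ∈ Set.Ioi (0 : ℤ), (𝒜 n : Set R)) = Ideal.span ((𝒜 1 : AddSubgroup R) : Set R)) [IsArtinianRing (GrLC.deg0 𝒜)] (m : HomogeneousIdeal 𝒜) (hm : GrLC.IsStarLocal 𝒜 m) (d : ℕ) (hd : ringKrullDim R = d) (I : GrLC.StarInjRes 𝒜 𝒜) (P : Polynomial ℚ) (hP : ∃ N : ℤ, ∀ n : ℤ, N ≤ n → P.eval (n : ℚ) = ((Module.length (GrLC.deg0 𝒜) (GrLC.comp 𝒜 𝒜 n)).toNat : ℚ)) : GrLC.endDeg (I.Hgr m d) = ⨆ (n : ℤ) (_ : P.eval (n : ℚ) ≠ ((Module.length (GrLC.deg0 𝒜) (GrLC.comp 𝒜 𝒜 n)).toNat : ℚ)), ((n : WithTop ℤ) : WithBot (WithTop ℤ)) := by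
  classical
  have hpos' : ∀ k : ℤ, k < 0 → ∀ x ∈ 𝒜 k, x = 0 := fun k hk x hx => by rw [hpos k hk] at hx; exact hx
  obtain ⟨N, hN⟩ := hP
  have key : ∀ n : ℤ, (I.Hgr m d n ≠ ⊥ ↔
      P.eval (n : ℚ) ≠ ((Module.length (GrLC.deg0 𝒜) (GrLC.comp 𝒜 𝒜 n)).toNat : ℚ)) := by
    intro n
    have h := Groth.Agent.CAlgH3.GrSerreFormula.serre_formula hpos' hstd hm hd _ R 𝒜 rfl I P ⟨N, hN⟩ n
    rw [Groth.Agent.CAlgH3.GrSerreFormula.chi, Finset.sum_eq_single d (fun i hi hne => ?_)
      (fun hn => absurd (Finset.mem_range.2 (Nat.lt_succ_self d)) hn)] at h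
    · haveI := Groth.Agent.CAlgH3.GrSerreFormula.isNoetherian_Hpiece hpos' hm I d n
      haveI : IsArtinian (GrLC.deg0 𝒜) (GrLC.comp 𝒜 (I.Hgr m d) n) :=
        IsSemiprimaryRing.isNoetherian_iff_isArtinian.1 inferInstance
      constructor
      · intro hne heq
        refine hne ?_
        have h0 : Groth.Agent.CAlgH3.GrSerreFormula.len 𝒜 (I.Hgr m d) n = 0 := by
          have h1 : Groth.Agent.CAlgH3.GrSerreFormula.len 𝒜 𝒜 n = P.eval (n : ℚ) := heq.symm
          rw [h1, sub_self, eq_comm, mul_eq_zero] at h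
          exact h.resolve_left (pow_ne_zero _ (by norm_num))
        rw [Groth.Agent.CAlgH3.GrSerreFormula.len, Nat.cast_eq_zero, ENat.toNat_eq_zero] at h0
        haveI := Module.length_eq_zero_iff.1 (h0.resolve_right Module.length_ne_top)
        refine (AddSubgroup.eq_bot_iff_forall _).2 fun x hx => ?_
        exact congrArg Subtype.val (Subsingleton.elim (⟨x, hx⟩ : GrLC.comp 𝒜 (I.Hgr m d) n) 0)
      · intro hne hbot
        refine hne ?_
        rw [Groth.Agent.CAlgH3.GrSerreFormula.len_eq_zero fun x hx => (AddSubgroup.eq_bot_iff_forall _).1 hbot x hx,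
          mul_zero] at h
        exact (sub_eq_zero.1 h).symm
    · haveI : Subsingleton (I.H m i) :=
        haveI := Groth.Agent.GrLib.isMaximal_starMaximal hpos' hm
        Groth.Agent.CAlgH3.GrEndDeg.subsingleton_H_low m (n := d)
          (by
            have hh := Groth.Agent.GrLib.ringKrullDim_eq_height_starMaximal hpos' hm
            rw [hd] at hh
            exact_mod_cast hh.symm) I i
          (by have := Finset.mem_range.1 hi; omega)
      rw [Groth.Agent.CAlgH3.GrSerreFormula.len_eq_zero fun x _ => Subsingleton.elim x 0, mul_zero]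
  rw [GrLC.endDeg]
  exact iSup_congr fun n => iSup_congr_Prop (key n) fun _ => rfl


end Groth.Agent.S17772
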