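import Groth.Prelude.Def_Wider
import Mathlib.CategoryTheory.Monoidal.Tor
import Mathlib.Algebra.Category.ModuleCat.Monoidal.Basic
import Mathlib.Algebra.Category.ModuleCat.Projective
import Mathlib.Algebra.Homology.QuasiIso
import Mathlib.RingTheory.Flat.Basic
import Mathlib.Algebra.Homology.HomologicalComplexAbelian
import Groth.Agent.FlatCx12.Cochain
import Groth.Agent.SpecSeq.MapExtend
import Mathlib.CategoryTheory.Monoidal.Tor
import Mathlib.CategoryTheory.Abelian.LeftDerived
import Mathlib.CategoryTheory.Abelian.Projective.Resolution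
import Mathlib.Algebra.Homology.Embedding.ExtendHomology
import Mathlib.Algebra.Category.ModuleCat.Monoidal.Symmetric
import Mathlib.Algebra.Category.ModuleCat.Projective

set_option autoImplicit false
set_option backward.isDefEq.respectTransparency false
set_option backward.defeqAttrib.useBackward true
universe u
namespace CategoryTheory
end CategoryTheory
namespace CategoryTheory.Limits
end CategoryTheory.Limits
open CategoryTheory CategoryTheory.Limits
namespace CAlg
end CAlg
open CAlg

namespace Groth.Agent.S17773

open HomologicalComplex in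
/-- A quasi-isomorphism of chain complexes of flat modules stays one after tensoring. -/
theorem quasiIso_tensor {R : Type u} [CommRing R] {P F : ChainComplex (ModuleCat.{u} R) ℕ}
    (hP : ∀ i, Module.Flat R (P.X i)) (hF : ∀ i, Module.Flat R (F.X i)) (g : P ⟶ F) [QuasiIso g]
    (N : ModuleCat.{u} R) :
    QuasiIso (((MonoidalCategory.tensorRight N).mapHomologicalComplex (ComplexShape.down ℕ)).map g) := by
  set T := MonoidalCategory.tensorRight N
  set e := ComplexShape.embeddingUpIntLE 0
  have flatExt : ∀ K : ChainComplex (ModuleCat.{u} R) ℕ, (∀ i, Module.Flat R (K.X i)) →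
      ∀ j, Module.Flat R ((K.extend e).X j) := fun K hK j => by
    by_cases h : ∃ k, e.f k = j
    · obtain ⟨k, hk⟩ := h
      haveI := hK k
      exact Module.Flat.of_linearEquiv (K.extendXIso e hk).toLinearEquiv
    · haveI := ModuleCat.subsingleton_of_isZero (K.isZero_extend_X e j (fun k hk => h ⟨k, hk⟩))
      infer_instance
  have bExt : ∀ K : ChainComplex (ModuleCat.{u} R) ℕ, ∃ b : ℤ, ∀ j, b < j → Limits.IsZero ((K.extend e).X j) :=
    fun K => ⟨0, fun j hj => K.isZero_extend_X e j (fun k hk => by
      rw [show e.f k = 0 - (k : ℤ) from rfl] at hk; omega)⟩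
  haveI : QuasiIso (extendMap g e) := (quasiIso_extendMap_iff g e).2 inferInstance
  have h := Groth.Agent.FlatCx12.quasiIso_tensorRight _ _ (flatExt P hP) (flatExt F hF) (bExt P) (bExt F)
    (extendMap g e) N
  rw [← quasiIso_extendMap_iff _ e]
  have hcomm : (Groth.Agent.SpecSeq.mapExtendIso T P e).hom ≫ extendMap ((T.mapHomologicalComplex _).map g) e =
      (T.mapHomologicalComplex _).map (extendMap g e) ≫ (Groth.Agent.SpecSeq.mapExtendIso T F e).hom := by
    ext1 j
    by_cases hj : ∃ k, e.f k = j
    · obtain ⟨k, hk⟩ := hj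
      simp only [comp_f, Groth.Agent.SpecSeq.mapExtendIso, Hom.isoOfComponents_hom_f,
        Functor.mapHomologicalComplex_map_f, Groth.Agent.SpecSeq.mapExtendXIso_eq T _ e hk,
        extendMap_f _ e hk]
      simp only [Iso.trans_hom, Functor.mapIso_hom, Iso.symm_hom, Category.assoc, Iso.inv_hom_id_assoc,
        Functor.map_comp, Functor.mapHomologicalComplex_map_f]
      rw [← T.map_comp_assoc (F.extendXIso e hk).inv, Iso.inv_hom_id, T.map_id, Category.id_comp]
    · exact (T.map_isZero (P.isZero_extend_X e j (fun k hk => hj ⟨k, hk⟩))).eq_of_src _ _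
  exact (quasiIso_iff_comp_left (Groth.Agent.SpecSeq.mapExtendIso T P e).hom _).1
    (hcomm ▸ inferInstance)

/-- Lift of the identity to a map from a projective resolution to any resolution. -/
theorem exists_lift {R : Type u} [CommRing R] {M : ModuleCat.{u} R} (P : ProjectiveResolution M)
    (F : ChainComplex (ModuleCat.{u} R) ℕ) (φ : F ⟶ (ChainComplex.single₀ _).obj M) [QuasiIso φ] :
    ∃ g : P.complex ⟶ F, g ≫ φ = P.π := by
  haveI : Epi (φ.f 0) := by
    rw [ModuleCat.epi_iff_surjective]
    intro m
    have h0 := (ChainComplex.quasiIsoAt₀_iff φ).1 inferInstance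
    rw [ShortComplex.quasiIso_iff_of_zeros' _ (F.shape _ _ (by simp)) rfl rfl] at h0
    exact (ModuleCat.epi_iff_surjective _).1 h0.2 m
  have hz : F.d 1 0 ≫ φ.f 0 = 0 := by rw [← φ.comm 1 0, HomologicalComplex.single_obj_d, comp_zero]
  have h0 : (ShortComplex.mk _ _ hz).Exact := by
    have h := (ChainComplex.quasiIsoAt₀_iff φ).1 inferInstance
    rw [ShortComplex.quasiIso_iff_of_zeros' _ (F.shape _ _ (by simp)) rfl rfl] at h
    exact h.1
  have hs : ∀ n, (ShortComplex.mk _ _ (F.d_comp_d (n + 2) (n + 1) n)).Exact := fun n => by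
    have : F.ExactAt (n + 1) := (quasiIsoAt_iff_exactAt' φ (n + 1)
      (ChainComplex.exactAt_succ_single_obj _ _)).1 inferInstance
    rwa [HomologicalComplex.exactAt_iff' _ (n + 2) (n + 1) n (by simp) (by simp)] at this
  let g0 : P.complex.X 0 ⟶ F.X 0 := Projective.factorThru (P.π.f 0) (φ.f 0)
  have hg0 : g0 ≫ φ.f 0 = P.π.f 0 := Projective.factorThru_comp _ _
  let g1 : P.complex.X 1 ⟶ F.X 1 := h0.liftFromProjective (P.complex.d 1 0 ≫ g0)
    (by rw [Category.assoc, hg0]; exact P.complex_d_comp_π_f_zero)
  refine ⟨ChainComplex.mkHom _ _ g0 g1 (h0.liftFromProjective_comp _ _)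
    (fun n ⟨a, b, w⟩ => ⟨(hs n).liftFromProjective (P.complex.d (n + 2) (n + 1) ≫ b)
      (by simp [w]), (hs n).liftFromProjective_comp _ _⟩), ?_⟩
  refine HomologicalComplex.to_single_hom_ext ?_
  simpa using hg0

/-- Let R be a commutative ring, M and N two R-modules, and F a flat resolution of M: a chain complex F
of flat R-modules concentrated in non-negative degrees together with a quasi-isomorphism from F to M
placed in degree 0. Then for every i ≥ 0 the i-th homology module of the complex F ⊗_R N is
isomorphic to Tor_i^R(M, N), the i-th left derived functor of − ⊗_R N evaluated at M (existence of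
an isomorphism of R-modules). -/
theorem result (R : Type u) [CommRing R] (M N : Type u) [AddCommGroup M] [Module R M] [AddCommGroup N] [Module R N] (F : ChainComplex (ModuleCat.{u} R) ℕ) (hF : ∀ i : ℕ, Module.Flat R (F.X i)) (φ : F ⟶ (ChainComplex.single₀ (ModuleCat.{u} R)).obj (ModuleCat.of R M)) [QuasiIso φ] (i : ℕ) : Nonempty ((((MonoidalCategory.tensorRight (ModuleCat.of R N)).mapHomologicalComplex (ComplexShape.down ℕ)).obj F).homology i ≅ ((Tor' (ModuleCat.{u} R) i).obj (ModuleCat.of R M)).obj (ModuleCat.of R N)) := by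
  let P := ProjectiveResolution.of (ModuleCat.of R M)
  obtain ⟨g, hg⟩ := exists_lift P F φ
  haveI : QuasiIso (g ≫ φ) := hg ▸ inferInstance
  haveI : QuasiIso g := quasiIso_of_comp_right g φ
  have hP : ∀ n, Module.Flat R (P.complex.X n) := fun n => by
    haveI := P.projective n
    haveI : Module.Projective R (P.complex.X n) := (IsProjective.iff_projective _).2 inferInstance
    infer_instance
  haveI := quasiIso_tensor hP hF g (ModuleCat.of R N)
  exact ⟨(asIso (HomologicalComplex.homologyMap
    (((MonoidalCategory.tensorRight (ModuleCat.of R N)).mapHomologicalComplex (ComplexShape.down ℕ)).map g) i)).symm ≪≫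
    (P.isoLeftDerivedObj (MonoidalCategory.tensorRight (ModuleCat.of R N)) i).symm⟩

end Groth.Agent.S17773
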