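import Groth.Statements.S17775
import Groth.Agent.LocCoh.GorensteinCriteria
import Groth.Agent.CAlgH3.CohenMacaulay
-- import your own Groth.Agent.* helpers here

set_option autoImplicit false
set_option maxHeartbeats 1000000
universe u
open BigOperators
open Goren

namespace Groth.Agent.S17775

section
open IsLocalRing RingTheory.Sequence
open scoped Pointwise

variable {R : Type u} [CommRing R] [IsNoetherianRing R] [IsLocalRing R]

theorem supportDim_le_add : ∀ (xs : List R) (M : Type u) [AddCommGroup M] [Module R M] [Module.Finite R M],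
    (∀ x ∈ xs, x ∈ maximalIdeal R) →
    Module.supportDim R M ≤
      Module.supportDim R (M ⧸ (Ideal.ofList xs • (⊤ : Submodule R M))) + (xs.length : WithBot ℕ∞) := by
  intro xs
  induction xs with
  | nil =>
    intro M _ _ _ _
    have h : (Ideal.ofList ([] : List R) • (⊤ : Submodule R M)) = ⊥ := by rw [Ideal.ofList_nil, Submodule.bot_smul]
    rw [Module.supportDim_eq_of_equiv (Submodule.quotEquivOfEqBot _ h)]
    simp
  | cons x xs ih =>
    intro M _ _ _ hmem
    have h1 := Module.supportDim_le_supportDim_quotSMulTop_succ (M := M) (hmem x (by simp))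
    have h2 := ih (QuotSMulTop x M) fun y hy => hmem y (by simp [hy])
    rw [Module.supportDim_eq_of_equiv (Submodule.quotOfListConsSMulTopEquivQuotSMulTopInner M x xs)]
    refine h1.trans ((add_le_add h2 le_rfl).trans ?_)
    rw [List.length_cons, Nat.cast_add, Nat.cast_one, add_assoc]

/-- Systems of parameters of Cohen-Macaulay modules are regular sequences. -/
theorem weaklyRegular_of_sop : ∀ (xs : List R) (M : Type u) [AddCommGroup M] [Module R M] [Module.Finite R M],
    LocCoh.IsCohenMacaulayModule R M → (∀ x ∈ xs, x ∈ maximalIdeal R) →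
    Module.supportDim R M = (xs.length : WithBot ℕ∞) →
    Module.supportDim R (M ⧸ (Ideal.ofList xs • (⊤ : Submodule R M))) ≤ 0 → IsWeaklyRegular M xs := by
  intro xs
  induction xs with
  | nil =>
    intro M _ _ _ _ _ _ _
    exact IsWeaklyRegular.nil R M
  | cons x xs ih =>
    intro M _ _ _ hCM hmem hdim hzero
    have hx : x ∈ maximalIdeal R := hmem x (by simp)
    rw [Module.supportDim_eq_of_equiv (Submodule.quotOfListConsSMulTopEquivQuotSMulTopInner M x xs)] at hzero
    have hle : Module.supportDim R (QuotSMulTop x M) ≤ (xs.length : WithBot ℕ∞) :=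
      (supportDim_le_add xs _ fun y hy => hmem y (by simp [hy])).trans
        ((add_le_add hzero le_rfl).trans (by rw [zero_add]))
    have hreg : IsSMulRegular M x := Groth.Agent.CAlgH3.isSMulRegular_of_supportDim_quot hCM
      ((add_le_add hle le_rfl).trans (by rw [hdim, List.length_cons, Nat.cast_add, Nat.cast_one]))
    refine (isWeaklyRegular_cons_iff M x xs).2 ⟨hreg, ih _
      ((Groth.Agent.CAlgH3.isCohenMacaulayModule_quotSMulTop_iff hx hreg).2 hCM)
      (fun y hy => hmem y (by simp [hy])) (le_antisymm hle ?_) hzero⟩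
    have h1 := Module.supportDim_le_supportDim_quotSMulTop_succ (M := M) hx
    rw [hdim, List.length_cons, Nat.cast_add, Nat.cast_one] at h1
    generalize Module.supportDim R (QuotSMulTop x M) = c at h1 hle
    induction c with
    | bot => simp at h1
    | coe c =>
      induction c with
      | top =>
        have h3 : (⊤ : ℕ∞) ≤ (xs.length : ℕ∞) := by exact_mod_cast hle
        exact absurd (le_antisymm le_top h3) (ENat.natCast_ne_top _)
      | coe c =>
        have h2 : xs.length + 1 ≤ c + 1 := by exact_mod_cast h1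
        exact_mod_cast (by omega : xs.length ≤ c)

theorem weaklyRegular_of_radical [LocCoh.IsCohenMacaulayLocalRing R] (xs : List R)
    (hd : ringKrullDim R = (xs.length : WithBot ℕ∞)) (hmem : ∀ x ∈ xs, x ∈ maximalIdeal R)
    (hrad : maximalIdeal R ≤ (Ideal.ofList xs).radical) : IsWeaklyRegular R xs := by
  refine weaklyRegular_of_sop xs R ((Groth.Agent.CAlgH3.isCohenMacaulayLocalRing_iff R).1 inferInstance) hmem
    ((Module.supportDim_self_eq_ringKrullDim (R := R)).trans hd) ?_
  rw [show Ideal.ofList xs • (⊤ : Submodule R R) = Ideal.ofList xs by rw [smul_eq_mul, Ideal.mul_top],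
    Module.supportDim_quotient_eq_ringKrullDim, ringKrullDim_quotient]
  haveI : Subsingleton (PrimeSpectrum.zeroLocus (Ideal.ofList xs : Set R)) :=
    ⟨fun p q => by
      have key : ∀ p : PrimeSpectrum.zeroLocus (Ideal.ofList xs : Set R), p.1.asIdeal = maximalIdeal R := fun p =>
        le_antisymm (le_maximalIdeal p.1.isPrime.ne_top)
          (hrad.trans (p.1.isPrime.radical_le_iff.2 p.2))
      exact Subtype.ext (PrimeSpectrum.ext ((key p).trans (key q).symm))⟩
  exact Order.krullDim_nonpos_of_subsingleton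

variable {d : ℕ} (x : Fin d → R)

/-- The list of powers. -/
def pw (e : Fin d → ℕ) : List R := List.ofFn fun i => x i ^ e i

theorem ofList_pw (e : Fin d → ℕ) : Ideal.ofList (pw x e) = Ideal.span (Set.range fun i => x i ^ e i) := by
  rw [Ideal.ofList]
  congr 1
  ext r
  simp [pw, List.mem_ofFn]

theorem mem_max (hx : (Ideal.span (Set.range x)).radical = maximalIdeal R) (i : Fin d) : x i ∈ maximalIdeal R :=
  hx ▸ Ideal.le_radical (Ideal.subset_span ⟨i, rfl⟩)

theorem le_radical_pw (hx : (Ideal.span (Set.range x)).radical = maximalIdeal R) (e : Fin d → ℕ) :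
    maximalIdeal R ≤ (Ideal.span (Set.range fun i => x i ^ e i)).radical := by
  rw [← hx]
  refine Ideal.radical_le_radical_iff.2 (Ideal.span_le.2 ?_)
  rintro _ ⟨i, rfl⟩
  exact ⟨e i, Ideal.subset_span ⟨i, rfl⟩⟩

variable [LocCoh.IsCohenMacaulayLocalRing R]

theorem weaklyRegular_pw (hd : ringKrullDim R = d) (hx : (Ideal.span (Set.range x)).radical = maximalIdeal R)
    (e : Fin d → ℕ) (he : ∀ i, 0 < e i) : IsWeaklyRegular R (pw x e) := by
  refine weaklyRegular_of_radical _ (by simpa [pw] using hd) (fun r hr => ?_) ((le_radical_pw x hx e).trans_eq ?_)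
  · obtain ⟨i, rfl⟩ : ∃ i, x i ^ e i = r := by simpa [pw, List.mem_ofFn] using hr
    exact Ideal.pow_mem_of_mem _ (mem_max x hx i) _ (he i)
  · rw [ofList_pw]

/-- One power is regular modulo the others. -/
theorem mem_others (hd : ringKrullDim R = d) (hx : (Ideal.span (Set.range x)).radical = maximalIdeal R)
    (e : Fin d → ℕ) (he : ∀ i, 0 < e i) (i : Fin d) (a : R)
    (ha : x i ^ e i * a ∈ Ideal.span ((fun j => x j ^ e j) '' {j | j ≠ i})) :
    a ∈ Ideal.span ((fun j => x j ^ e j) '' {j | j ≠ i}) := by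
  let l : List R := ((List.finRange d).erase i).map fun j => x j ^ e j
  have hl : ∀ r, r ∈ l ↔ ∃ j, j ≠ i ∧ x j ^ e j = r := by
    intro r
    simp [l, (List.nodup_finRange d).mem_erase_iff]
  have hJ : Ideal.ofList l = Ideal.span ((fun j => x j ^ e j) '' {j | j ≠ i}) := by
    rw [Ideal.ofList]
    congr 1
    ext r
    simpa using hl r
  have hw : IsWeaklyRegular R (l ++ [x i ^ e i]) := by
    refine weaklyRegular_of_radical _ ?_ (fun r hr => ?_) ((le_radical_pw x hx e).trans (Ideal.radical_mono ?_))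
    · have hpos : 0 < d := Fin.pos i
      simp only [l, List.length_append, List.length_map, List.length_erase_of_mem (List.mem_finRange i),
        List.length_finRange, List.length_singleton]
      rw [Nat.sub_add_cancel hpos]
      exact hd
    · rcases List.mem_append.1 hr with h | h
      · obtain ⟨j, -, rfl⟩ := (hl r).1 h
        exact Ideal.pow_mem_of_mem _ (mem_max x hx j) _ (he j)
      · rw [List.mem_singleton.1 h]
        exact Ideal.pow_mem_of_mem _ (mem_max x hx i) _ (he i)
    · refine Ideal.span_le.2 ?_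
      rintro _ ⟨j, rfl⟩
      refine Ideal.subset_span (List.mem_append.2 ?_)
      by_cases hj : j = i
      · exact Or.inr (by simp [hj])
      · exact Or.inl ((hl _).2 ⟨j, hj, rfl⟩)
  have hr := ((isWeaklyRegular_cons_iff _ _ _).1 ((isWeaklyRegular_append_iff R l [x i ^ e i]).1 hw).2).1
  rw [show Ideal.ofList l • (⊤ : Submodule R R) = Ideal.ofList l by rw [smul_eq_mul, Ideal.mul_top], hJ] at hr
  rw [← Submodule.Quotient.mk_eq_zero]
  refine hr (?_ : x i ^ e i • Submodule.Quotient.mk a = x i ^ e i • 0)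
  rw [smul_zero, ← Submodule.Quotient.mk_smul, smul_eq_mul, Submodule.Quotient.mk_eq_zero]
  exact ha

/-- The colon ideal of powers. -/
theorem mem_of_mul_prod_pow (hd : ringKrullDim R = d) (hx : (Ideal.span (Set.range x)).radical = maximalIdeal R)
    (n k : ℕ) (hn : 0 < n) (S : Finset (Fin d)) : ∀ a : R,
    a * ∏ j ∈ S, x j ^ k ∈ Ideal.span (Set.range fun j => x j ^ if j ∈ S then n + k else n) →
    a ∈ Ideal.span (Set.range fun j => x j ^ n) := by
  induction S using Finset.induction_on with
  | empty => intro a ha; simpa using ha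
  | insert i S hi ih =>
    intro a ha
    refine ih a ?_
    let J : Ideal R := Ideal.span ((fun j => x j ^ if j ∈ S then n + k else n) '' {j | j ≠ i})
    have hsplit : Ideal.span (Set.range fun j => x j ^ if j ∈ insert i S then n + k else n) ≤
        Ideal.span {x i ^ (n + k)} ⊔ J := by
      refine Ideal.span_le.2 ?_
      rintro _ ⟨j, rfl⟩
      by_cases hj : j = i
      · subst hj
        exact Submodule.mem_sup_left (Ideal.subset_span (by simp))
      · exact Submodule.mem_sup_right (Ideal.subset_span ⟨j, hj, by simp [hj]⟩)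
    obtain ⟨b, hb, c, hc, hbc⟩ := Submodule.mem_sup.1 (hsplit ha)
    obtain ⟨b', rfl⟩ := Ideal.mem_span_singleton'.1 hb
    rw [Finset.prod_insert hi] at hbc
    let e : Fin d → ℕ := fun j => if j ∈ S then n + k else n
    have he : ∀ j, 0 < e j := fun j => by dsimp only [e]; split_ifs <;> omega
    rcases Nat.eq_zero_or_pos k with hk | hk
    · subst hk
      simp only [pow_zero, Finset.prod_const_one, mul_one, add_zero, ite_self] at ha ⊢
      exact ha
    let e' : Fin d → ℕ := fun j => if j = i then k else e j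
    have hJ : J = Ideal.span ((fun j => x j ^ e' j) '' {j | j ≠ i}) :=
      congrArg Ideal.span (Set.image_congr fun j (hj : j ≠ i) => by simp [e', hj, e])
    have hz : a * (∏ j ∈ S, x j ^ k) - b' * x i ^ n ∈ J := by
      rw [hJ]
      refine mem_others x hd hx e' (fun j => by dsimp only [e']; split_ifs <;> [exact hk; exact he j]) i _ ?_
      rw [← hJ]
      have h2 : x i ^ e' i * (a * (∏ j ∈ S, x j ^ k) - b' * x i ^ n) = c := by
        rw [show e' i = k by simp [e'], mul_sub]
        linear_combination -hbc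
      rw [h2]
      exact hc
    rw [show a * (∏ j ∈ S, x j ^ k) = (a * (∏ j ∈ S, x j ^ k) - b' * x i ^ n) + b' * x i ^ n by ring]
    refine add_mem (Ideal.span_mono (Set.image_subset_range _ _) hz) (Ideal.mul_mem_left _ _ ?_)
    exact Ideal.subset_span ⟨i, by simp [hi]⟩

end


/-- Let R be a Gorenstein local ring of Krull dimension d with maximal ideal m and residue field k, and
let x_1, …, x_d be a system of parameters of R, i.e. d elements generating an ideal whose radical is
m. Put t = x_1 ⋯ x_d. Then the R-module R_t ⧸ Σ_i R_{x_1⋯x̂_i⋯x_d}, realised as the quotient of the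
localization R_t by the R-submodule spanned by the fractions x_i^n / t^n (i = 1, …, d, n ≥ 0), is an
injective hull of k: some R-linear map from k into it is an injective hull. -/
theorem result (R : Type u) [CommRing R] [LocCoh.IsGorensteinLocalRing R] (d : ℕ) (hd : ringKrullDim R = d) (x : Fin d → R) (hx : (Ideal.span (Set.range x)).radical = IsLocalRing.maximalIdeal R) : ∃ f : IsLocalRing.ResidueField R →ₗ[R] (Localization.Away (∏ i, x i) ⧸ Submodule.span R {y : Localization.Away (∏ i, x i) | ∃ (i : Fin d) (n : ℕ), y = algebraMap R (Localization.Away (∏ i, x i)) (x i ^ n) * IsLocalization.Away.invSelf (∏ i, x i) ^ n}), InjHull.IsInjectiveHull f := by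
  open Groth.Agent IsLocalRing in
  haveI : LocCoh.IsCohenMacaulayLocalRing R := Groth.Agent.LocCoh.isCohenMacaulayLocalRing_of_gorenstein (R := R)
  let t : R := ∏ i, x i
  let L := Localization.Away t
  let inv : L := IsLocalization.Away.invSelf t
  let N : Submodule R L := Submodule.span R {y : L | ∃ (i : Fin d) (n : ℕ),
    y = algebraMap R L (x i ^ n) * inv ^ n}
  let J : ℕ → Ideal R := fun n => Ideal.span (Set.range fun i => x i ^ n)
  have hinv : algebraMap R L t * inv = 1 := IsLocalization.Away.mul_invSelf t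
  have hshift : ∀ (r : R) (n k : ℕ), algebraMap R L (r * t ^ k) * inv ^ (n + k) = algebraMap R L r * inv ^ n := by
    intro r n k
    rw [map_mul, map_pow, pow_add, show algebraMap R L r * algebraMap R L t ^ k * (inv ^ n * inv ^ k) =
      algebraMap R L r * inv ^ n * (algebraMap R L t * inv) ^ k by ring, hinv, one_pow, mul_one]
  have hJt : ∀ (n k : ℕ) (r : R), r ∈ J n → r * t ^ k ∈ J (n + k) := by
    intro n k r hr
    refine Submodule.span_induction ?_ (by simp) (fun a b _ _ ha hb => by rw [add_mul]; exact add_mem ha hb)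
      (fun c a _ ha => by rw [smul_eq_mul, mul_assoc]; exact Ideal.mul_mem_left _ _ ha) hr
    rintro _ ⟨i, rfl⟩
    simp only [t]
    rw [← Finset.mul_prod_erase Finset.univ x (Finset.mem_univ i), mul_pow, ← mul_assoc, ← pow_add]
    exact Ideal.mul_mem_right _ _ (Ideal.subset_span ⟨i, rfl⟩)
  have hN : ∀ z ∈ N, ∃ (n : ℕ) (r : R), r ∈ J n ∧ z = algebraMap R L r * inv ^ n := by
    intro z hz
    refine Submodule.span_induction ?_ ⟨0, 0, zero_mem _, by simp⟩ ?_ ?_ hz
    · rintro _ ⟨i, n, rfl⟩
      exact ⟨n, _, Ideal.subset_span ⟨i, rfl⟩, rfl⟩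
    · rintro a b - - ⟨n, r, hr, rfl⟩ ⟨m, s, hs, rfl⟩
      refine ⟨n + m, r * t ^ m + s * t ^ n, add_mem (hJt n m r hr) ?_, ?_⟩
      · rw [add_comm n m]; exact hJt m n s hs
      · rw [map_add, add_mul, hshift, add_comm n m, hshift]
    · rintro c a - ⟨n, r, hr, rfl⟩
      exact ⟨n, c * r, Ideal.mul_mem_left _ _ hr, by rw [Algebra.smul_def, map_mul, mul_assoc]⟩
  let ι : ℕ → (R →ₗ[R] L ⧸ N) := fun n => LinearMap.toSpanSingleton R _ (Submodule.Quotient.mk (inv ^ n))
  have hι : ∀ n r, ι n r = Submodule.Quotient.mk (algebraMap R L r * inv ^ n) := fun n r => by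
    simp only [ι, LinearMap.toSpanSingleton_apply, ← Submodule.Quotient.mk_smul, Algebra.smul_def]
  have hker : ∀ n, 0 < n → ∀ r, ι n r = 0 ↔ r ∈ J n := by
    intro n hn r
    rw [hι, Submodule.Quotient.mk_eq_zero]
    refine ⟨fun h => ?_, fun h => ?_⟩
    · obtain ⟨m, s, hs, he⟩ := hN _ h
      rw [← hshift r n m, ← hshift s m n, add_comm m n] at he
      have hu : IsUnit (inv ^ (n + m)) :=
        (IsUnit.of_mul_eq_one (algebraMap R L t) (by rw [mul_comm]; exact hinv)).pow _
      obtain ⟨⟨_, p, rfl⟩, hp⟩ := (IsLocalization.eq_iff_exists (Submonoid.powers t) L).1 (hu.mul_right_cancel he)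
      refine mem_of_mul_prod_pow x hd hx n (m + p) hn Finset.univ r ?_
      have h1 : r * t ^ (m + p) ∈ J (n + (m + p)) := by
        have h2 := hJt m (n + p) s hs
        rw [show n + (m + p) = m + (n + p) by ring]
        have hp' : r * t ^ (m + p) = s * t ^ (n + p) := by
          simp only at hp
          rw [pow_add, pow_add]
          linear_combination hp
        rw [hp']
        exact h2
      simpa [J, t, Finset.prod_pow] using h1
    · refine Submodule.span_induction ?_ (by simp) (fun a b _ _ ha hb => by rw [map_add, add_mul]; exact add_mem ha hb)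
        (fun c a _ ha => by
          rw [smul_eq_mul, map_mul, mul_assoc, ← Algebra.smul_def]; exact N.smul_mem _ ha) h
      rintro _ ⟨i, rfl⟩
      exact Submodule.subset_span ⟨i, n, rfl⟩
  have hιt : ∀ n k r, ι (n + k) (r * t ^ k) = ι n r := fun n k r => by rw [hι, hι, hshift]
  have hsurj : ∀ q : L ⧸ N, ∃ (n : ℕ) (r : R), 0 < n ∧ ι n r = q := by
    intro q
    obtain ⟨z, rfl⟩ := Submodule.Quotient.mk_surjective _ q
    obtain ⟨⟨r, ⟨_, k, rfl⟩⟩, hz⟩ := IsLocalization.surj (Submonoid.powers t) z
    refine ⟨k + 1, r * t ^ 1, Nat.succ_pos _, ?_⟩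
    rw [hιt, hι]
    congr 1
    simp only [map_pow] at hz
    rw [← hz, mul_assoc, ← mul_pow, hinv, one_pow, mul_one]
  have hJm : ∀ n, 0 < n → ∀ i, x i ^ n ∈ maximalIdeal R := fun n hn i =>
    Ideal.pow_mem_of_mem _ (mem_max x hx i) _ hn
  have hpwmem : ∀ n, 0 < n → ∀ r ∈ pw x (fun _ => n), r ∈ maximalIdeal R := by
    intro n hn r hr
    obtain ⟨i, rfl⟩ : ∃ i, x i ^ n = r := by simpa [pw, List.mem_ofFn] using hr
    exact hJm n hn i
  have hpwrad : ∀ n, maximalIdeal R ≤ (Ideal.ofList (pw x (fun _ => n))).radical := fun n => by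
    rw [ofList_pw]; exact le_radical_pw x hx _
  have hpwlen : ∀ n : ℕ, (pw x (fun _ => n)).length = d := fun n => by simp [pw]
  have hsoc : ∀ n, 0 < n → Groth.Agent.LocCoh.IsSocleLine (J n) := fun n hn => by
    have := (Groth.Agent.LocCoh.nonempty_socle_iff (hpwlen n) (hpwmem n hn)
      (weaklyRegular_pw x hd hx _ fun _ => hn) (hpwrad n)).1 (Groth.Agent.LocCoh.nonempty_socle_of_gorenstein hd)
    rwa [ofList_pw] at this
  obtain ⟨e₀, he₀, hme₀, -⟩ := hsoc 1 one_pos
  refine Matlis6.IsHullAt.exists_isInjectiveHull_residueField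
    (Matlis6.isHullAt_of_length (m := maximalIdeal R) (T := L ⧸ N) (fun q => ?_) (e := ι 1 e₀) ?_ ?_ ?_ ?_)
  · obtain ⟨n, r, hn, rfl⟩ := hsurj q
    obtain ⟨k, hk⟩ := Ideal.exists_pow_le_of_le_radical_of_fg (le_radical_pw x hx fun _ => n)
      (IsNoetherian.noetherian _)
    exact ⟨k, fun a ha => by
      rw [← map_smul, hker n hn, smul_eq_mul]; exact Ideal.mul_mem_right _ _ (hk ha)⟩
  · rw [Ne, hker 1 one_pos]; exact he₀
  · intro a ha
    rw [← map_smul, hker 1 one_pos, smul_eq_mul]
    exact hme₀ a ha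
  · intro q hq
    obtain ⟨n, r, hn, rfl⟩ := hsurj q
    obtain ⟨e', he', hme', hline⟩ := hsoc n hn
    have hr : ∀ a ∈ maximalIdeal R, a * r ∈ J n := fun a ha => by
      rw [← hker n hn, ← smul_eq_mul, map_smul]; exact hq a ha
    obtain ⟨m, rfl⟩ : ∃ m, n = 1 + m := ⟨n - 1, by omega⟩
    have he1 : ι (1 + m) (e₀ * t ^ m) = ι 1 e₀ := hιt 1 m e₀
    obtain ⟨j₀, hj₀, b₀, hb₀, hsum₀⟩ := Submodule.mem_sup.1 (hline (e₀ * t ^ m) fun a ha => by
      rw [← hker _ hn, ← smul_eq_mul, map_smul, he1, ← map_smul, hker 1 one_pos]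
      exact hme₀ a ha)
    obtain ⟨c₀, rfl⟩ := Ideal.mem_span_singleton'.1 hb₀
    obtain ⟨j, hj, b, hb, hsum⟩ := Submodule.mem_sup.1 (hline r hr)
    obtain ⟨c, rfl⟩ := Ideal.mem_span_singleton'.1 hb
    have hc₀ : IsUnit c₀ := by
      by_contra hc
      refine he₀ ((hker 1 one_pos _).1 ?_)
      rw [← he1, hker _ hn, ← hsum₀]
      exact add_mem hj₀ (hme' c₀ ((mem_maximalIdeal _).2 hc))
    obtain ⟨u, rfl⟩ := hc₀
    refine ⟨c * ↑u⁻¹, ?_⟩
    rw [← he1, ← map_smul, ← hsum₀, ← hsum, smul_eq_mul, mul_add, map_add, map_add, (hker _ hn j).2 hj,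
      (hker _ hn _).2 (Ideal.mul_mem_left _ _ hj₀), zero_add, zero_add]
    congr 1
    rw [mul_assoc, ← mul_assoc (↑u⁻¹ : R), Units.inv_mul, one_mul]
  · intro j
    obtain ⟨E, _, _, hE⟩ := Matlis6.exists_isHullAt (maximalIdeal R)
    obtain ⟨eE⟩ := Groth.Agent.LocCoh.nonempty_H_equiv_hull_of_gorenstein hd hE
    have hq := Groth.Agent.LocCoh.nonempty_quotient_equiv_torsionBy_H (maximalIdeal R) (pw x (fun _ => j + 1)) R
      (hpwmem (j + 1) j.succ_pos) (weaklyRegular_pw x hd hx _ fun _ => j.succ_pos)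
      ((hpwrad (j + 1)).trans (Ideal.radical_mono le_sup_left))
    rw [hpwlen, show Ideal.ofList (pw x fun _ => j + 1) • (⊤ : Submodule R R) = J (j + 1) by
      rw [smul_eq_mul, Ideal.mul_top, ofList_pw]] at hq
    obtain ⟨eq⟩ := hq
    have hle : Ideal.ofList (pw x fun _ => j + 1) ≤ maximalIdeal R ^ j := by
      rw [ofList_pw, Ideal.span_le]
      rintro _ ⟨i, rfl⟩
      exact Ideal.pow_le_pow_right j.le_succ (Ideal.pow_mem_pow (mem_max x hx i) _)
    let φ : (R ⧸ J (j + 1)) →ₗ[R] L ⧸ N := Submodule.liftQ _ (ι (j + 1))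
      fun a ha => (hker _ j.succ_pos a).2 ha
    have hφ : Function.Injective φ := by
      rw [injective_iff_map_eq_zero]
      intro q hq0
      obtain ⟨a, rfl⟩ := Submodule.Quotient.mk_surjective _ q
      exact (Submodule.Quotient.mk_eq_zero _).2 ((hker _ j.succ_pos a).1 hq0)
    let g : ↥(Submodule.torsionBySet R E ((maximalIdeal R ^ j : Ideal R) : Set R)) →ₗ[R]
        ↥(_root_.LocCoh.torsionBy (Ideal.ofList (pw x fun _ => j + 1)) (_root_.LocCoh.H (maximalIdeal R) d R)) :=
      LinearMap.codRestrict _ (eE.symm.toLinearMap.comp (Submodule.subtype _)) fun y =>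
        (Submodule.mem_torsionBySet_iff _ _).2 fun a => by
          show (a : R) • eE.symm y.1 = 0
          rw [← map_smul, (Submodule.mem_torsionBySet_iff _ _).1 y.2 ⟨a.1, hle a.2⟩, map_zero]
    have hg : Function.Injective g := fun a b h =>
      Subtype.ext (eE.symm.injective (congrArg Subtype.val h))
    rw [← hE.isSocleAt.length_torsion j]
    refine Module.length_le_of_injective (LinearMap.codRestrict _ (φ.comp (eq.symm.toLinearMap.comp g)) fun y =>
      (Submodule.mem_torsionBySet_iff _ _).2 fun a => ?_) fun a b h => ?_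
    · rw [← map_smul, show ((a : R) • y) = 0 from Subtype.ext ((Submodule.mem_torsionBySet_iff _ _).1 y.2 a), map_zero]
    · exact hg (eq.symm.injective (hφ (congrArg Subtype.val h)))

end Groth.Agent.S17775
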