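import Groth.Statements.S17779
import Mathlib
import Groth.Prelude

set_option linter.all false

set_option autoImplicit false
open DRR

open TensorProduct

namespace Groth.Agent.S17779

theorem T_rec (m k : ℕ) :
    (∑ j ∈ Finset.range (m + 2), (-1 : ℤ) ^ (m + 1 - j) * ((m + 1).choose j : ℤ) * (j : ℤ) ^ (k + 1)) =
      (m + 1 : ℤ) * ((∑ j ∈ Finset.range (m + 2), (-1 : ℤ) ^ (m + 1 - j) * ((m + 1).choose j : ℤ) * (j : ℤ) ^ k) +
        ∑ j ∈ Finset.range (m + 1), (-1 : ℤ) ^ (m - j) * (m.choose j : ℤ) * (j : ℤ) ^ k) := by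
  have hext : ∑ j ∈ Finset.range (m + 1), (-1 : ℤ) ^ (m - j) * (m.choose j : ℤ) * (j : ℤ) ^ k =
      ∑ j ∈ Finset.range (m + 2), (-1 : ℤ) ^ (m - j) * (m.choose j : ℤ) * (j : ℤ) ^ k := by
    rw [Finset.sum_range_succ _ (m + 1), Nat.choose_succ_self]; simp
  rw [hext, ← Finset.sum_add_distrib, Finset.mul_sum]
  refine Finset.sum_congr rfl fun j hj => ?_
  rw [Finset.mem_range] at hj
  rcases Nat.lt_or_ge m j with h | h
  · obtain rfl : j = m + 1 := by omega
    simp [Nat.choose_succ_self, pow_succ]; ring
  · have e : (j : ℤ) * ((m + 1).choose j : ℤ) = (m + 1 : ℤ) * (((m + 1).choose j : ℤ) - (m.choose j : ℤ)) := by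
      rcases j with _ | i
      · simp
      · rw [Nat.choose_succ_succ' m i]
        have := Nat.add_one_mul_choose_eq m i
        rw [Nat.choose_succ_succ' m i] at this
        push_cast
        have h' : ((m + 1) * m.choose i : ℤ) = ((m.choose i + m.choose (i + 1)) * (i + 1) : ℤ) := by exact_mod_cast this
        linear_combination -h'
    rw [show m + 1 - j = (m - j) + 1 by omega, pow_succ, pow_succ]
    linear_combination (-(-1 : ℤ) ^ (m - j) * (j : ℤ) ^ k) * e

theorem T_values (k : ℕ) : ∀ n, k ≤ n + 1 →
    (∑ j ∈ Finset.range (n + 1), (-1 : ℤ) ^ (n - j) * (n.choose j : ℤ) * (j : ℤ) ^ k) =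
      (if k = n + 1 then (((n + 1).choose 2 * n.factorial : ℕ) : ℤ)
        else if k = n then (n.factorial : ℤ) else 0) := by
  induction k with
  | zero =>
    intro n _
    rw [if_neg (by omega)]
    rcases n with _ | n
    · simp
    · rw [if_neg (by omega)]
      have h := Int.alternating_sum_range_choose_of_ne (n := n + 1) (by omega)
      have : ∀ j ∈ Finset.range (n + 1 + 1), (-1 : ℤ) ^ (n + 1 - j) * ((n + 1).choose j : ℤ) * (j : ℤ) ^ 0 =
          (-1 : ℤ) ^ (n + 1) * ((-1 : ℤ) ^ j * ((n + 1).choose j : ℤ)) := by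
        intro j hj
        rw [Finset.mem_range] at hj
        rw [pow_zero, mul_one, ← mul_assoc, ← pow_add, show n + 1 + j = (n + 1 - j) + 2 * j by omega, pow_add, pow_mul]
        simp
      rw [Finset.sum_congr rfl this, ← Finset.mul_sum, h, mul_zero]
  | succ k ih =>
    intro n hn
    rcases n with _ | m
    · obtain rfl : k = 0 := by omega
      simp [Nat.choose]
    · rw [T_rec, ih (m + 1) (by omega), ih m (by omega)]
      rcases lt_trichotomy k (m + 1) with h | rfl | h
      · rcases lt_or_eq_of_le (Nat.lt_succ_iff.1 h) with h' | rfl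
        · rw [if_neg (by omega), if_neg (by omega), if_neg (by omega), if_neg (by omega), if_neg (by omega), if_neg (by omega)]
          ring
        · rw [if_neg (by omega), if_neg (by omega), if_neg (by omega), if_pos rfl, if_neg (by omega), if_pos rfl,
            Nat.factorial_succ]
          push_cast; ring
      · rw [if_neg (by omega), if_pos rfl, if_pos rfl, if_pos rfl, Nat.choose_succ_succ' (m + 1) 1, Nat.choose_one_right,
          Nat.factorial_succ]
        push_cast; ring
      · omega

/-- For natural numbers n and k with k ≤ n + 1, the alternating sum over j = 0, …, n of (−1)^(n−j) C(n,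
j) j^k (with the convention 0^0 = 1) equals n! · n(n+1)/2 when k = n + 1, equals n! when k = n, and
vanishes when k < n. (The published statement takes n ≥ 1 and divides through by n!; the case n = 0
holds as well and is included.) -/
theorem result (n k : ℕ) (hk : k ≤ n + 1) :
    (∑ j ∈ Finset.range (n + 1), (-1 : ℤ) ^ (n - j) * (n.choose j : ℤ) * (j : ℤ) ^ k) =
      (if k = n + 1 then (((n + 1).choose 2 * n.factorial : ℕ) : ℤ)
        else if k = n then (n.factorial : ℤ) else 0) := by
  exact T_values k n hk

end Groth.Agent.S17779
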