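import Groth.Statements.S17780
import Mathlib
import Groth.Prelude

set_option linter.all false

set_option autoImplicit false
universe u
open DRR

open TensorProduct

namespace Groth.Agent.S17780

theorem T_rec (m k : ℕ) :
    (∑ j ∈ Finset.range (m + 2), (-1 : ℤ) ^ (m + 1 - j) * ((m + 1).choose j : ℤ) * (j : ℤ) ^ (k + 1)) =
      (m + 1 : ℤ) * ((∑ j ∈ Finset.range (m + 2), (-1 : ℤ) ^ (m + 1 - j) * ((m + 1).choose j : ℤ) * (j : ℤ) ^ k) +
        ∑ j ∈ Finset.range (m + 1), (-1 : ℤ) ^ (m - j) * (m.choose j : ℤ) * (j : ℤ) ^ k) := by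
  have hext : ∑ j ∈ Finset.range (m + 1), (-1 : ℤ) ^ (m - j) * (m.choose j : ℤ) * (j : ℤ) ^ k =
      ∑ j ∈ Finset.range (m + 2), (-1 : ℤ) ^ (m - j) * (m.choose j : ℤ) * (j : ℤ) ^ k := by
    rw [Finset.sum_range_succ _ (m + 1), Nat.choose_succ_self]; simp
  rw [hext, ← Finset.sum_add_distrib, Finset.mul_sum]
  refine Finset.sum_congr rfl fun j hj => ?_
  rw [Finset.mem_range] at hj
  rcases Nat.lt_or_ge m j with h | h
  · obtain rfl : j = m + 1 := by omega
    simp [Nat.choose_succ_self, pow_succ]; ring
  · have e : (j : ℤ) * ((m + 1).choose j : ℤ) = (m + 1 : ℤ) * (((m + 1).choose j : ℤ) - (m.choose j : ℤ)) := by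
      rcases j with _ | i
      · simp
      · rw [Nat.choose_succ_succ' m i]
        have := Nat.add_one_mul_choose_eq m i
        rw [Nat.choose_succ_succ' m i] at this
        push_cast
        have h' : ((m + 1) * m.choose i : ℤ) = ((m.choose i + m.choose (i + 1)) * (i + 1) : ℤ) := by exact_mod_cast this
        linear_combination -h'
    rw [show m + 1 - j = (m - j) + 1 by omega, pow_succ, pow_succ]
    linear_combination (-(-1 : ℤ) ^ (m - j) * (j : ℤ) ^ k) * e

theorem T_values (k : ℕ) : ∀ n, k ≤ n + 1 →
    (∑ j ∈ Finset.range (n + 1), (-1 : ℤ) ^ (n - j) * (n.choose j : ℤ) * (j : ℤ) ^ k) =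
      (if k = n + 1 then (((n + 1).choose 2 * n.factorial : ℕ) : ℤ)
        else if k = n then (n.factorial : ℤ) else 0) := by
  induction k with
  | zero =>
    intro n _
    rw [if_neg (by omega)]
    rcases n with _ | n
    · simp
    · rw [if_neg (by omega)]
      have h := Int.alternating_sum_range_choose_of_ne (n := n + 1) (by omega)
      have : ∀ j ∈ Finset.range (n + 1 + 1), (-1 : ℤ) ^ (n + 1 - j) * ((n + 1).choose j : ℤ) * (j : ℤ) ^ 0 =
          (-1 : ℤ) ^ (n + 1) * ((-1 : ℤ) ^ j * ((n + 1).choose j : ℤ)) := by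
        intro j hj
        rw [Finset.mem_range] at hj
        rw [pow_zero, mul_one, ← mul_assoc, ← pow_add, show n + 1 + j = (n + 1 - j) + 2 * j by omega, pow_add, pow_mul]
        simp
      rw [Finset.sum_congr rfl this, ← Finset.mul_sum, h, mul_zero]
  | succ k ih =>
    intro n hn
    rcases n with _ | m
    · obtain rfl : k = 0 := by omega
      simp [Nat.choose]
    · rw [T_rec, ih (m + 1) (by omega), ih m (by omega)]
      rcases lt_trichotomy k (m + 1) with h | rfl | h
      · rcases lt_or_eq_of_le (Nat.lt_succ_iff.1 h) with h' | rfl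
        · rw [if_neg (by omega), if_neg (by omega), if_neg (by omega), if_neg (by omega), if_neg (by omega), if_neg (by omega)]
          ring
        · rw [if_neg (by omega), if_neg (by omega), if_neg (by omega), if_pos rfl, if_neg (by omega), if_pos rfl,
            Nat.factorial_succ]
          push_cast; ring
      · rw [if_neg (by omega), if_pos rfl, if_pos rfl, if_pos rfl, Nat.choose_succ_succ' (m + 1) 1, Nat.choose_one_right,
          Nat.factorial_succ]
        push_cast; ring
      · omega

/-- For x, y in a commutative ring and a natural number n, (n+1)! · x · y^n equals the sum over j = 0,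
…, n of (−1)^(n−j) C(n, j) (x + j y)^(n+1), minus (n · (n+1)!/2) · y^(n+1). (The published identity
is stated in ℚ[x, y] with an overall factor 1/(n+1) and the coefficients C(n, j)(−1)^(n−j)/n!; it is
given here multiplied through by (n+1)!, which makes it an identity with integer coefficients valid
in every commutative ring; n · (n+1)!/2 is an integer.) -/
theorem result (A : Type u) [CommRing A] (x y : A) (n : ℕ) :
    ((n + 1).factorial : A) * x * y ^ n =
      (∑ j ∈ Finset.range (n + 1), (-1 : A) ^ (n - j) * (n.choose j : A) * (x + (j : A) * y) ^ (n + 1))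
        - ((n * (n + 1).factorial / 2 : ℕ) : A) * y ^ (n + 1) := by
  have hnum : n * (n + 1).factorial / 2 = (n + 1).choose 2 * n.factorial := by
    have h1 : n * (n + 1).factorial = ((n + 1).choose 2 * n.factorial) * 2 := by
      have h2 : (n + 1).choose 2 * 2 = (n + 1) * n := by
        rw [Nat.choose_two_right, Nat.add_sub_cancel, Nat.div_mul_cancel]
        rw [mul_comm]; exact (Nat.even_mul_succ_self n).two_dvd
      calc n * (n + 1).factorial = (n + 1) * n * n.factorial := by rw [Nat.factorial_succ]; ring
        _ = _ := by rw [← h2]; ring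
    rw [h1, Nat.mul_div_cancel _ two_pos]
  have hT : ∀ m, m ≤ n + 1 → ∑ j ∈ Finset.range (n + 1), (-1 : A) ^ (n - j) * (n.choose j : A) * (j : A) ^ m =
      (((if m = n + 1 then (((n + 1).choose 2 * n.factorial : ℕ) : ℤ)
        else if m = n then (n.factorial : ℤ) else 0) : ℤ) : A) := by
    intro m hm
    rw [← T_values m n hm]
    push_cast
    rfl
  have hexp : ∑ j ∈ Finset.range (n + 1), (-1 : A) ^ (n - j) * (n.choose j : A) * (x + (j : A) * y) ^ (n + 1) =
      ∑ m ∈ Finset.range (n + 2), (∑ j ∈ Finset.range (n + 1), (-1 : A) ^ (n - j) * (n.choose j : A) * (j : A) ^ m) *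
        (y ^ m * x ^ (n + 1 - m) * ((n + 1).choose m : A)) := by
    simp only [Finset.sum_mul]
    rw [Finset.sum_comm]
    refine Finset.sum_congr rfl fun j _ => ?_
    rw [add_comm x, add_pow, Finset.mul_sum]
    exact Finset.sum_congr rfl fun m _ => by ring
  rw [hexp, Finset.sum_range_succ, Finset.sum_range_succ, Finset.sum_eq_zero fun m hm => ?_,
    hT n (by omega), hT (n + 1) le_rfl, if_neg (by omega), if_pos rfl, if_pos rfl, hnum, Nat.choose_succ_self_right,
    Nat.choose_self, Nat.sub_self, Nat.add_sub_cancel_left, Nat.factorial_succ]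
  · push_cast; ring
  · rw [Finset.mem_range] at hm
    rw [hT m (by omega), if_neg (by omega), if_neg (by omega), Int.cast_zero, zero_mul]

end Groth.Agent.S17780
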