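import Groth.Statements.S17781
import Mathlib

set_option autoImplicit false
open Variety

namespace Groth.Agent.S17781

theorem not_dvd_choose_pow {p : ℕ} (hp : p.Prime) : ∀ (j m : ℕ), 0 < m → ¬ p ∣ (p ^ j * m - 1).choose (p ^ j - 1)
  | 0, m, _ => by simp [hp.one_lt.ne']
  | j + 1, m, hm => by
    haveI := Fact.mk hp
    have ih := not_dvd_choose_pow hp j m hm
    have key : ∀ a : ℕ, 0 < a → (p * a - 1) % p = p - 1 ∧ (p * a - 1) / p = a - 1 := by
      intro a ha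
      obtain ⟨b, rfl⟩ : ∃ b, a = b + 1 := ⟨a - 1, by omega⟩
      have h2 : p * (b + 1) - 1 = (p - 1) + p * b := by rw [Nat.mul_succ]; have := hp.one_lt; omega
      have hlt : p - 1 < p := by have := hp.one_lt; omega
      rw [h2, Nat.add_mul_mod_self_left, Nat.add_mul_div_left _ _ hp.pos, Nat.mod_eq_of_lt hlt, Nat.div_eq_of_lt hlt]
      simp
    obtain ⟨k1, k2⟩ := key (p ^ j * m) (Nat.mul_pos (pow_pos hp.pos j) hm)
    obtain ⟨l1, l2⟩ := key (p ^ j) (pow_pos hp.pos j)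
    rw [show p ^ (j + 1) * m = p * (p ^ j * m) by ring, show p ^ (j + 1) = p * p ^ j by ring]
    intro hd
    have h := Choose.choose_modEq_choose_mod_mul_choose_div (n := p * (p ^ j * m) - 1) (k := p * p ^ j - 1) (p := p)
    rw [k1, k2, l1, l2, Nat.choose_self, Nat.cast_one, one_mul] at h
    apply ih
    have h' : ((p : ℕ) : ℤ) ∣ (((p * (p ^ j * m) - 1).choose (p * p ^ j - 1) : ℕ) : ℤ) := Int.natCast_dvd_natCast.2 hd
    exact Int.natCast_dvd_natCast.1 (Int.modEq_zero_iff_dvd.1 (h.symm.trans (Int.modEq_zero_iff_dvd.2 h')))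

theorem chi_succ (d : ℕ) (hd : 1 ≤ d) (n : ℕ) :
    (1 - (-1 : ℤ) ^ (n + 1) * ((d - 1).choose (n + 1) : ℤ)) =
      (1 - (-1 : ℤ) ^ n * ((d - 1).choose n : ℤ)) + (-1 : ℤ) ^ n * (d.choose (n + 1) : ℤ) := by
  obtain ⟨e, rfl⟩ : ∃ e, d = e + 1 := ⟨d - 1, by omega⟩
  rw [Nat.choose_succ_succ, Nat.add_sub_cancel]
  push_cast
  ring

theorem mul_choose_eq (d n : ℕ) (hd : 1 ≤ d) (hn : 1 ≤ n) : n * d.choose n = d * (d - 1).choose (n - 1) := by
  obtain ⟨e, rfl⟩ : ∃ e, d = e + 1 := ⟨d - 1, by omega⟩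
  obtain ⟨l, rfl⟩ : ∃ l, n = l + 1 := ⟨n - 1, by omega⟩
  simp only [Nat.add_sub_cancel]
  rw [mul_comm, ← Nat.add_one_mul_choose_eq]


/-- Let d ≥ 1 and N ≥ 1 be integers and let I(d, N) be the greatest common divisor of the quotients d/δ
over the divisors δ of d with 1 ≤ δ ≤ N. Then I(d, N) equals the greatest common divisor of the
integers χ(d, n) = 1 − (−1)^n C(d − 1, n) for 1 ≤ n ≤ N (χ(d, n) is the Euler characteristic of O_H
for a degree-d hypersurface H in projective n-space). Both greatest common divisors are taken in ℤ,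
normalised to be non-negative. -/
theorem result (d N : ℕ) (hd : 1 ≤ d) (hN : 1 ≤ N) :
    (Finset.Icc 1 N).gcd (fun n => 1 - (-1 : ℤ) ^ n * ((d - 1).choose n : ℤ)) =
      ((Finset.Icc 1 N).filter (fun δ => δ ∣ d)).gcd (fun δ => ((d / δ : ℕ) : ℤ)) := by
  classical
  refine dvd_antisymm_of_normalize_eq Finset.normalize_gcd Finset.normalize_gcd ?_ ?_
  · set H := (Finset.Icc 1 N).gcd (fun n => 1 - (-1 : ℤ) ^ n * ((d - 1).choose n : ℤ))
    have hchi : ∀ n ≤ N, H ∣ 1 - (-1 : ℤ) ^ n * ((d - 1).choose n : ℤ) := by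
      intro n hn
      rcases Nat.eq_zero_or_pos n with rfl | hn0
      · simp
      · exact Finset.gcd_dvd (Finset.mem_Icc.2 ⟨hn0, hn⟩)
    have hC : ∀ n, 1 ≤ n → n ≤ N → H ∣ (d.choose n : ℤ) := by
      intro n hn1 hnN
      obtain ⟨l, rfl⟩ : ∃ l, n = l + 1 := ⟨n - 1, by omega⟩
      have h1 := dvd_sub (hchi (l + 1) hnN) (hchi l (by omega))
      rw [chi_succ d hd l, add_sub_cancel_left] at h1
      exact (IsUnit.dvd_mul_left ((Int.isUnit_iff).2 (neg_one_pow_eq_or ℤ l))).1 h1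
    refine Finset.dvd_gcd fun δ hδ => ?_
    rw [Finset.mem_filter, Finset.mem_Icc] at hδ
    obtain ⟨⟨hδ1, hδN⟩, hδd⟩ := hδ
    rw [Int.dvd_natCast, Nat.dvd_iff_prime_pow_dvd_dvd]
    intro p k hp hk
    obtain ⟨δ', hδ'⟩ := Nat.ordProj_dvd δ p
    set j := δ.factorization p
    have hnδ : p ^ j ≤ N := (Nat.le_of_dvd hδ1 (Nat.ordProj_dvd δ p)).trans hδN
    have hkC : p ^ k ∣ d.choose (p ^ j) :=
      hk.trans (Int.dvd_natCast.1 (hC _ (pow_pos hp.pos j) hnδ))
    obtain ⟨m, hm⟩ := (Nat.ordProj_dvd δ p).trans hδd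
    have hm0 : 0 < m := Nat.pos_of_ne_zero fun e => by rw [e, mul_zero] at hm; omega
    have hmain : p ^ j * p ^ k ∣ d * (d - 1).choose (p ^ j - 1) := by
      rw [← mul_choose_eq d _ hd (pow_pos hp.pos j)]
      exact mul_dvd_mul_left _ hkC
    have hcop : Nat.Coprime (p ^ j * p ^ k) ((d - 1).choose (p ^ j - 1)) := by
      rw [← pow_add]
      refine Nat.Coprime.pow_left _ ((Nat.Prime.coprime_iff_not_dvd hp).2 ?_)
      rw [hm]; exact not_dvd_choose_pow hp j m hm0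
    have hdd := hcop.dvd_of_dvd_mul_right hmain
    have hprod : d = p ^ j * (δ' * (d / δ)) := by
      rw [← mul_assoc, ← hδ', Nat.mul_div_cancel' hδd]
    rw [hprod] at hdd
    have h3 := (mul_dvd_mul_iff_left (pow_ne_zero j hp.ne_zero)).1 hdd
    refine Nat.Coprime.dvd_of_dvd_mul_left (Nat.Coprime.pow_left _ ((Nat.Prime.coprime_iff_not_dvd hp).2 ?_)) h3
    intro hpd
    have h4 : p ^ (j + 1) ∣ δ := by rw [hδ', pow_succ]; exact mul_dvd_mul_left _ hpd
    exact Nat.pow_succ_factorization_not_dvd (by omega) hp h4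
  · set G := ((Finset.Icc 1 N).filter (fun δ => δ ∣ d)).gcd (fun δ => ((d / δ : ℕ) : ℤ))
    refine Finset.dvd_gcd fun n hn => ?_
    have hC : ∀ n, 1 ≤ n → n ≤ N → G ∣ (d.choose n : ℤ) := by
      intro n hn1 hnN
      have hg0 : 0 < n.gcd d := Nat.gcd_pos_of_pos_left _ hn1
      have hmem : n.gcd d ∈ (Finset.Icc 1 N).filter (fun δ => δ ∣ d) :=
        Finset.mem_filter.2 ⟨Finset.mem_Icc.2 ⟨hg0, (Nat.le_of_dvd hn1 (Nat.gcd_dvd_left n d)).trans hnN⟩,
          Nat.gcd_dvd_right n d⟩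
      refine (Finset.gcd_dvd hmem).trans (Int.natCast_dvd_natCast.2 ?_)
      refine Nat.Coprime.dvd_of_dvd_mul_left (Nat.coprime_div_gcd_div_gcd hg0).symm ⟨(d - 1).choose (n - 1), ?_⟩
      have h := mul_choose_eq d n hd hn1
      refine Nat.eq_of_mul_eq_mul_left hg0 ?_
      rw [← mul_assoc, ← mul_assoc, Nat.mul_div_cancel' (Nat.gcd_dvd_left n d), Nat.mul_div_cancel' (Nat.gcd_dvd_right n d)]
      exact h
    have hall : ∀ l ≤ N, G ∣ 1 - (-1 : ℤ) ^ l * ((d - 1).choose l : ℤ) := by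
      intro l hl
      induction l with
      | zero => simp
      | succ l ih => rw [chi_succ d hd l]; exact dvd_add (ih (by omega)) (Dvd.dvd.mul_left (hC _ (by omega) hl) _)
    exact hall n (Finset.mem_Icc.1 hn).2

end Groth.Agent.S17781
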