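import Groth.Statements.S17783
import Groth.Agent.EulerMult7.Main
import Groth.Agent.Models7.EulerFibre
-- import your own Groth.Agent.* helpers here

set_option autoImplicit false
set_option linter.style.haveILetI false
set_option backward.isDefEq.respectTransparency.types false
universe u
open CategoryTheory CategoryTheory.Limits AlgebraicGeometry
open Variety

namespace Groth.Agent.S17783

/-- Let R be a discrete valuation ring with fraction field K, let 𝒳 be a normal scheme, proper and flat
over Spec R, with generic fibre the K-scheme X, and let m ≥ 1 be an integer such that the special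
fibre of 𝒳 is m times an effective Cartier divisor D, i.e. the ideal sheaf 𝔪_R · O_𝒳 of the special
fibre is the m-th power of the ideal sheaf of D. Then m divides the Euler characteristic χ(X, O_X).
(The published statement asks only that the special fibre be divisible by m as a Cartier divisor and
deduces from normality that the quotient divisor is effective; the divisor is taken effective here.) -/
theorem result (R : Type u) [CommRing R] [IsDomain R]
    [IsDiscreteValuationRing R] (𝒳 : Scheme.{u}) (p : 𝒳 ⟶ Spec (CommRingCat.of R)) [IsProper p] [Flat p]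
    (hn : Pi1.IsNormalScheme 𝒳) (X : Scheme.{u}) [X.Over (Spec (CommRingCat.of (FractionRing R)))]
    (hX : Models.IsModel R 𝒳 p X (X ↘ Spec (CommRingCat.of (FractionRing R)))) (m : ℕ) (hm : 1 ≤ m)
    (I : 𝒳.IdealSheafData) (hI : BlowUp.IsEffCartierIdeal I)
    (hIm : I ^ m = Models.specialFibreIdeal R (Over.mk p)) :
    (m : ℤ) ∣ Curv2.euler (FractionRing R) X (Coh.structureModule X) := by
  obtain ⟨-, -, -, g, hg⟩ := hX
  let K := FractionRing R
  let k := IsLocalRing.ResidueField R
  let f := X ↘ Spec (CommRingCat.of K)
  haveI : IsProper f := MorphismProperty.of_isPullback hg inferInstance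
  haveI : IsLocallyNoetherian 𝒳 := LocallyOfFiniteType.isLocallyNoetherian p
  haveI : Coh.IsQCoh (Coh.structureModule 𝒳) := Groth.Agent.Coherent.isQCoh_structureModule
  have hfl : FlatMod.IsFlatOver p (Coh.structureModule 𝒳) := fun x =>
    (Groth.Agent.EGA43.FibDepth.isFlatOverAt_structureModule p x).2 (Flat.stalkMap p x)
  let σ := Spec.map (CommRingCat.ofHom (algebraMap R K))
  let c := Spec.map (CommRingCat.ofHom (IsLocalRing.residue R))
  let s₁ : Spec (CommRingCat.of R) := σ (IsLocalRing.closedPoint K)
  let s₀ : Spec (CommRingCat.of R) := c (IsLocalRing.closedPoint k)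
  have hconst := (Groth.Agent.Coherent.CohBC.isLocallyConstant_eulerChar p
    (Groth.Agent.Coherent.isCoh_structureModule 𝒳) hfl).apply_eq_of_isPreconnected
    (PreconnectedSpace.isPreconnected_univ) (Set.mem_univ s₀) (Set.mem_univ s₁)
  have hgen : PerfAux.eulerChar p (Coh.structureModule 𝒳) s₁ = Curv2.euler K X (Coh.structureModule X) := by
    refine (Groth.Agent.Coherent.CohBC.eulerChar_eq_euler_of_point p (Coh.structureModule 𝒳) σ
      (IsLocalRing.closedPoint K)).trans ?_
    letI : (pullback p σ).Over (Spec (CommRingCat.of K)) := ⟨pullback.snd p σ⟩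
    haveI : IsProper ((pullback p σ) ↘ Spec (CommRingCat.of K)) :=
      MorphismProperty.pullback_snd (P := @IsProper) _ _ inferInstance
    haveI : CompactSpace ↥(pullback p σ) := QuasiCompact.compactSpace_of_compactSpace (pullback.snd p σ)
    haveI : (pullback p σ).IsSeparated := Groth.Agent.EulerLib.isSeparated_of_proper (X := pullback p σ) K
    haveI := Groth.Agent.CurveRR24.isLocallyNoetherian_of_proper K (X := pullback p σ)
    obtain ⟨e⟩ := Groth.Agent.AmpleLib.exists_pullStructureIso (pullback.fst p σ)
    have hsq : IsPullback hg.isoPullback.hom (X ↘ Spec (CommRingCat.of K)) (pullback p σ ↘ Spec (CommRingCat.of K))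
        (Spec.map (CommRingCat.ofHom (algebraMap K K))) := by
      rw [show CommRingCat.ofHom (algebraMap K K) = 𝟙 _ from rfl, Spec.map_id]
      exact IsPullback.of_horiz_isIso ⟨by rw [Category.comp_id]; exact hg.isoPullback_hom_snd⟩
    rw [Groth.Agent.EulerLib.euler_congr K _ e]
    simp only [Curv2.euler, Groth.Agent.CurveRR24.finrank_HH_structure_bc hsq]
    rfl
  have hcl : PerfAux.eulerChar p (Coh.structureModule 𝒳) s₀ =
      @Curv2.euler k _ (pullback p c) ⟨pullback.snd p c⟩ (Coh.structureModule (pullback p c)) := by
    refine (Groth.Agent.Coherent.CohBC.eulerChar_eq_euler_of_point p (Coh.structureModule 𝒳) c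
      (IsLocalRing.closedPoint k)).trans ?_
    letI : (pullback p c).Over (Spec (CommRingCat.of k)) := ⟨pullback.snd p c⟩
    obtain ⟨e⟩ := Groth.Agent.AmpleLib.exists_pullStructureIso (pullback.fst p c)
    exact Groth.Agent.EulerLib.euler_congr k _ e
  have h := Groth.Agent.EulerMult7.dvd_euler_specialFibre p m hm I hI hIm
  rwa [← hcl, hconst, hgen] at h

end Groth.Agent.S17783
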