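import Groth.Statements.S17791
import Groth.Agent.Lef23.Kosz.Quot
import Groth.Agent.Lef23.PurePair

set_option autoImplicit false
universe u
open CategoryTheory CategoryTheory.Limits AlgebraicGeometry
open Pi1

namespace Groth.Agent.S17791

/-- Write A = R/I with R a regular local ring and I generated by a finite set s of elements of the
maximal ideal, let c = dim R − dim A, and call δ = |s| − c the deviation of this presentation (for a
minimal generating set this is the deviation of A). Suppose A is excellent, equidimensional of Krull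
dimension at least 3, and a complete intersection in codimension at most 2 + δ: for every prime Q of
A with height(Q) + c ≤ 2 + |s|, the ideal generated by s in the localization of R at the preimage of
Q is generated by a regular sequence. Then A is pure: for every open V of Spec A, restriction of
finite étale covers from V to V minus the closed point is an equivalence of categories. -/
theorem result (R : Type u) [CommRing R] [IsRegularLocalRing R] (s : Finset R) (hs : ∀ x ∈ s, x ∈ IsLocalRing.maximalIdeal R) [IsLocalRing (R ⧸ Ideal.span (↑s : Set R))] (hexc : EGA4.IsExcellent (R ⧸ Ideal.span (↑s : Set R))) (heq : EGA4.IsEquidim (R ⧸ Ideal.span (↑s : Set R))) (hdim : (3 : WithBot ℕ∞) ≤ ringKrullDim (R ⧸ Ideal.span (↑s : Set R))) (c : ℕ) (hc : ringKrullDim R = ringKrullDim (R ⧸ Ideal.span (↑s : Set R)) + (c : WithBot ℕ∞)) (hci : ∀ (Q : Ideal (R ⧸ Ideal.span (↑s : Set R))) [Q.IsPrime], Q.height + (c : ℕ∞) ≤ ((2 + s.card : ℕ) : ℕ∞) → CInt.IsRegularIdeal ((Ideal.span (↑s : Set R)).map (algebraMap R (Localization.AtPrime (Q.comap (Ideal.Quotient.mk (Ideal.span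 (↑s : Set R)))))))) : SGA2.IsPurePair (Spec (CommRingCat.of (R ⧸ Ideal.span (↑s : Set R)))) (FEt.puncturedSpec (R ⧸ Ideal.span (↑s : Set R))) := by
  classical
  refine Groth.Agent.Lef23.isPurePair_punctured _ ?_
  let I := Ideal.span (↑s : Set R)
  let A := R ⧸ I
  by_cases hsd : s.card + 3 ≤ (IsLocalRing.maximalIdeal R).spanFinrank
  · exact Groth.Agent.Lef23.Kosz.isEquivalence_quotient (Ideal.Quotient.mk I) Ideal.Quotient.mk_surjective s
      (Ideal.mk_ker) hsd
  -- otherwise the presentation is a complete intersection at the closed point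
  let Q := IsLocalRing.maximalIdeal A
  haveI : IsLocalHom (Ideal.Quotient.mk I) := IsLocalHom.of_surjective _ Ideal.Quotient.mk_surjective
  have hQh : (Q.height : WithBot ℕ∞) = ringKrullDim A := IsLocalRing.maximalIdeal_height_eq_ringKrullDim
  have hle : Q.height + (c : ℕ∞) ≤ ((2 + s.card : ℕ) : ℕ∞) := by
    have h1 : ((Q.height + (c : ℕ∞) : ℕ∞) : WithBot ℕ∞) = ((IsLocalRing.maximalIdeal R).spanFinrank : ℕ) := by
      rw [IsRegularLocalRing.spanFinrank_maximalIdeal, hc, ← hQh]
      rfl
    rw [show Q.height + (c : ℕ∞) = (((IsLocalRing.maximalIdeal R).spanFinrank : ℕ) : ℕ∞) from by exact_mod_cast h1]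
    exact Nat.cast_le.2 (by omega)
  have hreg := hci Q hle
  have hP : Q.comap (Ideal.Quotient.mk I) = IsLocalRing.maximalIdeal R := IsLocalRing.eq_maximalIdeal
    (Ideal.comap_isMaximal_of_surjective _ Ideal.Quotient.mk_surjective)
  let P := Q.comap (Ideal.Quotient.mk I)
  let e : R ≃+* Localization.AtPrime P := (IsLocalization.atUnits R P.primeCompl (S := Localization.AtPrime P)
    (fun x hx => IsLocalRing.notMem_maximalIdeal.1 (fun h => hx (show x ∈ P from hP.ge h)))).toRingEquiv
  obtain ⟨rs, hrs, hspan⟩ := hreg
  let rs' := rs.map e.symm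
  have hrs' : RingTheory.Sequence.IsRegular R rs' :=
    (AddEquiv.isRegular_congr (M := Localization.AtPrime P) (M₂ := R) (e := e.symm.toAddEquiv) (as := rs) (bs := rs')
      (List.forall₂_map_right_iff.2 (List.forall₂_same.2 fun x _ y => map_mul e.symm x y))).1 hrs
  have hI : Ideal.ofList rs' = I := by
    have h := congrArg (Ideal.map e.symm.toRingHom) hspan
    rw [Ideal.map_ofList, Ideal.map_map] at h
    refine h.trans (le_antisymm (Ideal.map_le_iff_le_comap.2 fun a ha => ?_) fun a ha => ?_)
    · show e.symm (algebraMap R _ a) ∈ I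
      rw [show algebraMap R (Localization.AtPrime P) a = e a from rfl, e.symm_apply_apply]
      exact ha
    · have := Ideal.mem_map_of_mem ((e.symm.toRingHom).comp (algebraMap R (Localization.AtPrime P))) ha
      rwa [show (e.symm.toRingHom).comp (algebraMap R (Localization.AtPrime P)) a = a from e.symm_apply_apply a] at this
  have hlen := Groth.Agent.Lef23.Kosz.length_add_three_le rs' hrs' (by rw [hI]; exact hdim)
  refine Groth.Agent.Lef23.Kosz.isEquivalence_quotient (Ideal.Quotient.mk I) Ideal.Quotient.mk_surjective rs'.toFinset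
    ?_ ((Nat.add_le_add_right (List.toFinset_card_le _) 3).trans hlen)
  rw [Ideal.mk_ker, ← hI, Ideal.ofList, List.coe_toFinset]

end Groth.Agent.S17791
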