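import Groth.Statements.S17797
import Mathlib.RingTheory.AlgebraicIndependent.TranscendenceBasis
import Mathlib.RingTheory.EssentialFiniteness
import Mathlib.RingTheory.LocalRing.ResidueField.Basic
import Mathlib.RingTheory.Localization.FractionRing
-- import your own Groth.Agent.* helpers here

set_option autoImplicit false
set_option linter.all false
set_option maxHeartbeats 1600000
set_option synthInstance.maxHeartbeats 200000
set_option backward.isDefEq.respectTransparency false
universe u
open CAlg

namespace Groth.Agent.S17797

/-- Suppose k is a field of characteristic zero and S is a local domain that is an essentially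
finite-type k-algebra. Then there are an extension field K of k, a K-algebra A of finite type and a
maximal ideal m of A such that S is isomorphic over k to the localization A_m. -/
theorem result (k : Type u) [Field k] [CharZero k] (S : Type u) [CommRing S] [IsDomain S] [IsLocalRing S] [Algebra k S] [Algebra.EssFiniteType k S] : ∃ (K : Type u) (_ : Field K) (_ : Algebra k K) (A : Type u) (_ : CommRing A) (_ : Algebra K A) (_ : Algebra k A) (_ : IsScalarTower k K A) (_ : Algebra.FiniteType K A) (m : Ideal A) (_ : m.IsMaximal), Nonempty (S ≃ₐ[k] Localization.AtPrime m) := by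
  classical
  let κ := IsLocalRing.ResidueField S
  obtain ⟨s, hs⟩ := exists_isTranscendenceBasis k κ
  choose y hy using fun i : s => IsLocalRing.residue_surjective (i : κ)
  let P := MvPolynomial s k
  let ψ : P →ₐ[k] S := MvPolynomial.aeval y
  have hψκ : (IsScalarTower.toAlgHom k S κ).comp ψ = MvPolynomial.aeval ((↑) : s → κ) :=
    MvPolynomial.algHom_ext fun i => by simp [ψ]; exact hy i
  have hunit : ∀ z : nonZeroDivisors P, IsUnit (ψ.toRingHom z) := fun z => by
    by_contra hu
    have h0 : algebraMap S κ (ψ z) = 0 := (IsLocalRing.residue_eq_zero_iff _).mpr hu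
    rw [show algebraMap S κ (ψ z) = MvPolynomial.aeval ((↑) : s → κ) z.1 from AlgHom.congr_fun hψκ z.1] at h0
    exact nonZeroDivisors.ne_zero z.2 (hs.1 (by rw [h0, map_zero]))
  let K := FractionRing P
  let θ : K →+* S := IsLocalization.lift (M := nonZeroDivisors P) hunit
  letI : Algebra K S := θ.toAlgebra
  have hθ : ∀ z, θ (algebraMap P K z) = ψ z := fun z => IsLocalization.lift_eq hunit z
  haveI : IsScalarTower k K S := IsScalarTower.of_algebraMap_eq fun c => by
    rw [IsScalarTower.algebraMap_apply k P K]
    exact ((hθ _).trans (ψ.commutes c)).symm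
  haveI : Algebra.EssFiniteType K S := Algebra.EssFiniteType.of_comp k K S
  let A := Algebra.EssFiniteType.subalgebra K S
  let m : Ideal A := (IsLocalRing.maximalIdeal S).comap (algebraMap A S)
  haveI : Algebra.IsAlgebraic K κ := by
    haveI := hs.isAlgebraic
    refine ⟨fun x => ?_⟩
    obtain ⟨f, hf0, hfx⟩ := Algebra.IsAlgebraic.isAlgebraic (R := Algebra.adjoin k (Set.range ((↑) : s → κ))) x
    let e := hs.1.aevalEquiv
    refine ⟨f.map ((algebraMap P K).comp e.symm.toRingEquiv.toRingHom), ?_, ?_⟩
    · exact (Polynomial.map_ne_zero_iff (f := (algebraMap P K).comp e.symm.toRingEquiv.toRingHom)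
        (fun a b hab => e.symm.injective (IsFractionRing.injective P K hab))).mpr hf0
    · rw [Polynomial.aeval_def, Polynomial.eval₂_map]
      have he : (algebraMap K κ).comp ((algebraMap P K).comp e.symm.toRingEquiv.toRingHom) =
          algebraMap (Algebra.adjoin k (Set.range ((↑) : s → κ))) κ := RingHom.ext fun a => by
        show algebraMap S κ (θ (algebraMap P K (e.symm a))) = _
        rw [hθ]
        refine (AlgHom.congr_fun hψκ (e.symm a)).trans ?_
        rw [← hs.1.algebraMap_aevalEquiv, e.apply_symm_apply]
      rw [he]
      exact hfx
  haveI : m.IsMaximal := by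
    let φ : A →ₐ[K] κ := (IsScalarTower.toAlgHom K S κ).comp A.val
    have hm : m = RingHom.ker φ.rangeRestrict := by
      ext a
      rw [RingHom.mem_ker, Subtype.ext_iff, ZeroMemClass.coe_zero]
      exact (IsLocalRing.residue_eq_zero_iff (a : S)).symm
    rw [hm]
    letI := (Subalgebra.isField_of_algebraic φ.range).toField
    exact RingHom.ker_isMaximal_of_surjective _ φ.rangeRestrict_surjective
  haveI : IsLocalization m.primeCompl S := by
    have : Algebra.EssFiniteType.submonoid K S = m.primeCompl := by
      ext a
      show IsUnit (algebraMap A S a) ↔ ¬ (algebraMap A S a ∈ IsLocalRing.maximalIdeal S)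
      exact (IsLocalRing.notMem_maximalIdeal).symm
    exact this ▸ Algebra.EssFiniteType.isLocalization K S
  exact ⟨K, inferInstance, inferInstance, A, inferInstance, inferInstance, inferInstance, inferInstance,
    inferInstance, m, inferInstance, ⟨((IsLocalization.algEquiv m.primeCompl (Localization.AtPrime m) S).symm).restrictScalars k⟩⟩

end Groth.Agent.S17797
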