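import Groth.Statements.S17803
import Groth.Agent.CAlgH.ExcellentNormal
import Groth.Agent.CAlgH.GRingMaximal
import Groth.Agent.CAlgH.RegularFieldExt
import Groth.Agent.EGA41Lib.RegularJacobson
import Groth.Agent.AdicRing.ComplHom

set_option autoImplicit false
universe u
open EGA4

namespace Groth.Agent.S17803

theorem surjective_complMap {S T : Type u} [CommRing S] [CommRing T] [IsNoetherianRing S] [IsNoetherianRing T]
    (g : S →+* T) (hg : Function.Surjective g) (I : Ideal T) :
    Function.Surjective (FSch.complMap (I.comap g) I g (Ideal.map_comap_of_surjective g hg I).le) := by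
  let J := I.comap g
  let S' := AdicCompletion J S
  let T' := AdicCompletion I T
  let Φ := FSch.complMap J I g (Ideal.map_comap_of_surjective g hg I).le
  haveI hS : IsAdicComplete (J.map (algebraMap S S')) S' :=
    AdicCompletion.isAdicComplete_self J (IsNoetherian.noetherian _)
  have hmap : (J.map (algebraMap S S')).map Φ = I.map (algebraMap T T') := by
    have h : Φ.comp (algebraMap S S') = (algebraMap T T').comp g :=
      RingHom.ext fun r => _root_.Groth.Agent.FSchLib.complMap_algebraMap J I g (Ideal.map_comap_of_surjective g hg I).le r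
    rw [Ideal.map_map, h, ← Ideal.map_map, Ideal.map_comap_of_surjective g hg]
  haveI hT : IsAdicComplete (I.map (algebraMap T T')) T' :=
    AdicCompletion.isAdicComplete_self I (IsNoetherian.noetherian _)
  haveI : IsHausdorff ((J.map (algebraMap S S')).map Φ) T' := hmap ▸ hT.toIsHausdorff
  refine surjective_of_mk_map_comp_surjective (I := J.map (algebraMap S S')) Φ fun y0 => ?_
  suffices ∀ (K : Ideal T'), K = I.map (algebraMap T T') → ∀ y : T' ⧸ K, ∃ a, Ideal.Quotient.mk K (Φ a) = y by
    exact this _ hmap y0
  rintro K rfl y
  obtain ⟨t, ht⟩ := _root_.Groth.Agent.AdicRing.surjective_mk_algebraMap_completion I (IsNoetherian.noetherian _) y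
  obtain ⟨r, rfl⟩ := hg t
  exact ⟨algebraMap S S' r, (congrArg (Ideal.Quotient.mk (I.map (algebraMap T T'))) (_root_.Groth.Agent.FSchLib.complMap_algebraMap J I g (Ideal.map_comap_of_surjective g hg I).le r)).trans ht⟩

/-- Let A be an excellent normal domain which is a quotient of a regular ring, I an ideal of A and f ∈
A. Then the I-adic completion of the localization A_f is a normal ring (its localization at every
prime ideal is an integrally closed domain), and it is a quotient of a regular ring. -/
theorem result (A : Type u) [CommRing A] [IsDomain A] [IsIntegrallyClosed A] (hexc : EGA4.IsExcellent A) (hreg : ∃ (R : Type u) (_ : CommRing R) (_ : IsRegularRing R) (φ : R →+* A), Function.Surjective φ) (I : Ideal A) (f : A) : EGA4.IsNormalRing (AdicCompletion (I.map (algebraMap A (Localization.Away f))) (Localization.Away f)) ∧ ∃ (R' : Type u) (_ : CommRing R') (_ : IsRegularRing R') (ψ : R' →+* AdicCompletion (I.map (algebraMap A (Localization.Away f))) (Localization.Away f)), Function.Surjective ψ := by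
  classical
  obtain ⟨hN, -, hG, -⟩ := hexc
  haveI := hN
  let C := Localization.Away f
  let I' := I.map (algebraMap A C)
  refine ⟨_root_.Groth.Agent.CAlgH.ExcellentNormal.isNormalRing_adicCompletion C
    (_root_.Groth.Agent.CAlgH.isGRing_localization (Submonoid.powers f) C hG)
    (_root_.Groth.Agent.CommAlg6.NormalTensor.isNormalRing_localization (Submonoid.powers f)
      (_root_.Groth.Agent.CAlgH.ExcellentNormal.isNormalRing_of_isIntegrallyClosed A)) I', ?_⟩
  obtain ⟨R, _, hR, φ, hφ⟩ := hreg
  obtain ⟨g, rfl⟩ := hφ f
  haveI := hR
  haveI : IsRegularRing (Localization.Away g) :=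
    _root_.Groth.Agent.CAlgH.isRegularRing_localization (Submonoid.powers g) _
  let χ : Localization.Away g →+* C := Localization.awayMap φ g
  have hχ : Function.Surjective χ := Localization.awayMap_surjective_iff.2 fun a => ⟨(hφ a).choose, 0, by rw [(hφ a).choose_spec, pow_zero, one_mul]⟩
  exact ⟨_, inferInstance, _root_.Groth.Agent.EGA41Lib.isRegularRing_adicCompletion _ (I'.comap χ), _,
    surjective_complMap χ hχ I'⟩

end Groth.Agent.S17803
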