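import Groth.Statements.S17825
open CategoryTheory CategoryTheory.Limits AlgebraicGeometry

set_option autoImplicit false
universe u
open CategoryTheory CategoryTheory.Limits AlgebraicGeometry
open JacVar

namespace Groth.Agent.S17825

/-- Let S be a scheme, Y an S-scheme separated over S, F a presheaf of sets on the category of
S-schemes, f : h_Y ⟶ F a morphism from the functor of points of Y, and s : F ⟶ h_Y a section of f (s
followed by f is the identity). Then F is represented by a closed subscheme of Y: there are an
S-scheme Z, a morphism i : Z ⟶ Y over S which is a closed immersion, and an isomorphism F ≅ h_Z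
whose composite with h_i : h_Z ⟶ h_Y is s. (The published lemma treats the case where Y is the r-th
symmetric power of a curve, F the functor of degree-r invertible families modulo twisting and f the
divisor-class map.) -/
theorem result {S : Scheme.{u}} (Y : Over S) [IsSeparated Y.hom]
    (F : (Over S)ᵒᵖ ⥤ Type u) (f : yoneda.obj Y ⟶ F) (s : F ⟶ yoneda.obj Y) (hsf : s ≫ f = 𝟙 F) :
    ∃ (Z : Over S) (i : Z ⟶ Y), IsClosedImmersion i.left ∧
      ∃ e : F ≅ yoneda.obj Z, e.hom ≫ yoneda.map i = s := by
  obtain ⟨ε, hε⟩ : ∃ ε : Y ⟶ Y, yoneda.map ε = f ≫ s := ⟨_, yoneda.map_preimage _⟩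
  let Δ : pullback (pullback.lift (𝟙 Y.left) ε.left ((Category.id_comp _).trans (Over.w ε).symm)) (pullback.diagonal Y.hom) ⟶ Y.left :=
    pullback.fst _ _
  let Z : Over S := Over.mk (Δ ≫ Y.hom)
  let i : Z ⟶ Y := Over.homMk Δ rfl
  have hi : IsClosedImmersion i.left :=
    (IsClosedImmersion.isStableUnderBaseChange).of_isPullback (IsPullback.of_hasPullback _ (pullback.diagonal Y.hom)).flip inferInstance
  have hiε : i ≫ ε = i := by
    refine Over.OverMorphism.ext ?_
    show Δ ≫ ε.left = Δ
    have h := pullback.condition (f := pullback.lift (𝟙 Y.left) ε.left ((Category.id_comp _).trans (Over.w ε).symm))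
      (g := pullback.diagonal Y.hom)
    have h1 := congrArg (· ≫ pullback.fst Y.hom Y.hom) h
    have h2 := congrArg (· ≫ pullback.snd Y.hom Y.hom) h
    simp only [Category.assoc, pullback.lift_fst, pullback.lift_snd, pullback.diagonal_fst, pullback.diagonal_snd, Category.comp_id] at h1 h2
    exact h2.trans h1.symm
  have hlift : ∀ (T : Over S) (y : T ⟶ Y), y ≫ ε = y → ∃ z : T ⟶ Z, z ≫ i = y := by
    intro T y hy
    let z : T.left ⟶ Z.left := pullback.lift y.left y.left (pullback.hom_ext
      (by simp only [Category.assoc, pullback.lift_fst, pullback.diagonal_fst])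
      (by simp only [Category.assoc, pullback.lift_snd, pullback.diagonal_snd, Category.comp_id]; exact congrArg (fun t => t.left) hy))
    have hz : z ≫ Δ = y.left := pullback.lift_fst _ _ _
    exact ⟨Over.homMk z ((Category.assoc _ _ _).symm.trans ((congrArg (· ≫ Y.hom) hz).trans (Over.w y))), Over.OverMorphism.ext hz⟩
  have hmono : ∀ (T : Over S) (a b : T ⟶ Z), a ≫ i = b ≫ i → a = b := fun T a b h =>
    Over.OverMorphism.ext ((cancel_mono Δ).1 (congrArg (fun t => t.left) h))
  have hεs : ∀ (T : (Over S)ᵒᵖ) (a : F.obj T), s.app T a ≫ ε = s.app T a := by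
    intro T a
    have h1 : (yoneda.map ε).app T (s.app T a) = s.app T (f.app T (s.app T a)) := by rw [hε]; rfl
    have h2 : f.app T (s.app T a) = a := by
      rw [← types_comp_apply (s.app T) (f.app T), ← NatTrans.comp_app, hsf]; rfl
    rw [h2] at h1
    exact h1
  let g : yoneda.obj Z ⟶ F := yoneda.map i ≫ f
  have hgs : g ≫ s = yoneda.map i := by
    rw [Category.assoc, ← hε, ← Functor.map_comp, hiε]
  have hiso : ∀ T, IsIso (g.app T) := by
    intro T
    rw [isIso_iff_bijective]
    refine ⟨fun a b h => hmono _ a b ?_, fun a => ?_⟩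
    · have := congrArg (s.app T) h
      rw [← types_comp_apply (g.app T) (s.app T), ← types_comp_apply (g.app T) (s.app T), ← NatTrans.comp_app, hgs] at this
      exact this
    · obtain ⟨z, hz⟩ := hlift _ _ (hεs T a)
      refine ⟨z, ?_⟩
      show f.app T (z ≫ i) = a
      rw [hz, ← types_comp_apply (s.app T) (f.app T), ← NatTrans.comp_app, hsf]; rfl
  have : IsIso g := NatIso.isIso_of_isIso_app g
  exact ⟨Z, i, hi, (asIso g).symm, by rw [Iso.symm_hom, asIso_inv, IsIso.inv_comp_eq, hgs]⟩

end Groth.Agent.S17825
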