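import Groth.Statements.S17832
import Groth.Agent.AlgGrpLib.Blanchard
import Groth.Agent.SGA3cLib.MonoClosed
import Groth.Agent.SGA3cLib.ArtinComponent
import Groth.Agent.CAlgSmall.ProjMore
import Groth.Agent.Coherent.BirationalFibre
import Groth.Agent.S7520
import Groth.Agent.S0355

set_option backward.isDefEq.respectTransparency.types false

set_option autoImplicit false
universe u
open CategoryTheory MonoidalCategory CartesianMonoidalCategory MonObj GrpObj AlgebraicGeometry
open AutSch

namespace Groth.Agent.S17832

section Fam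

variable {S : Scheme.{u}} {X : Over S}

private theorem famOf_one {G : Over S} [GrpObj G] (a : AlgGrp.Action G X) (T : Over S) :
    AutSch.famOf a (1 : T ⟶ G) = fst X T := by
  have h : lift (snd X T ≫ (1 : T ⟶ G)) (fst X T) = lift (toUnit (X ⊗ T)) (fst X T) ≫ (η[G] ▷ X) := by
    refine CartesianMonoidalCategory.hom_ext _ _ ?_ ?_
    · rw [lift_fst, Category.assoc, whiskerRight_fst, lift_fst_assoc, MonObj.comp_one, Hom.one_def]
    · rw [lift_snd, Category.assoc, whiskerRight_snd, lift_snd]
  rw [AutSch.famOf, h, Category.assoc, a.one_act, leftUnitor_hom, lift_snd]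

private theorem endOf_famOf_comp {G : Over S} [GrpObj G] (a : AlgGrp.Action G X) {T : Over S} (g h : T ⟶ G) :
    AutSch.endOf (AutSch.famOf a g) ≫ AutSch.endOf (AutSch.famOf a h) =
      AutSch.endOf (AutSch.famOf a (h * g)) := by
  refine CartesianMonoidalCategory.hom_ext _ _ ?_ (by simp)
  rw [Category.assoc, AutSch.endOf_fst, AutSch.endOf_fst]
  have h1 : lift (snd X T ≫ (h * g)) (fst X T) =
      lift (lift (snd X T ≫ h) (snd X T ≫ g)) (fst X T) ≫ (μ[G] ▷ X) := by
    refine CartesianMonoidalCategory.hom_ext _ _ ?_ ?_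
    · rw [lift_fst, Category.assoc, whiskerRight_fst, lift_fst_assoc, ← Hom.mul_def, MonObj.comp_mul]
    · rw [lift_snd, Category.assoc, whiskerRight_snd, lift_snd]
  conv_rhs => rw [AutSch.famOf, h1, Category.assoc, a.mul_act]
  have h2 : lift (lift (snd X T ≫ h) (snd X T ≫ g)) (fst X T) ≫ (α_ G G X).hom ≫ (G ◁ a.act) =
      lift (snd X T ≫ h) (AutSch.famOf a g) := by
    refine CartesianMonoidalCategory.hom_ext _ _ ?_ ?_
    · simp
    · simp [AutSch.famOf, ← Category.assoc, comp_lift]
  rw [← Category.assoc (f := (α_ G G X).hom), ← Category.assoc, h2]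
  show AutSch.endOf (AutSch.famOf a g) ≫ lift (snd X T ≫ h) (fst X T) ≫ a.act = _
  rw [← Category.assoc, comp_lift, AutSch.endOf_fst, ← Category.assoc (AutSch.endOf _) (snd X T), AutSch.endOf_snd]

private theorem isAutFamily_famOf {G : Over S} [GrpObj G] (a : AlgGrp.Action G X) {T : Over S} (g : T ⟶ G) :
    AutSch.IsAutFamily (AutSch.famOf a g) :=
  ⟨⟨AutSch.endOf (AutSch.famOf a g⁻¹),
    by rw [endOf_famOf_comp, inv_mul_cancel, famOf_one, AutSch.endOf]; simp,
    by rw [endOf_famOf_comp, mul_inv_cancel, famOf_one, AutSch.endOf]; simp⟩⟩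

end Fam

section Trans

variable {k : Type u} [Field k]

/-- A homomorphism whose preimage of the unit component is compact has compact preimages of all components. -/
private theorem isCompact_preimage_component [IsAlgClosed k] {H G : Over (Spec (CommRingCat.of k))}
    [GrpObj H] [GrpObj G] [LocallyOfFiniteType H.hom] [LocallyOfFiniteType G.hom]
    (ρ : H ⟶ G) [IsMonHom ρ] (hc : IsCompact (ρ.left ⁻¹' connectedComponent (η[G].left (IsLocalRing.closedPoint k))))
    (x : G.left) : IsCompact (ρ.left ⁻¹' connectedComponent x) := by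
  haveI := LocallyOfFiniteType.jacobsonSpace H.hom
  haveI : IsLocallyNoetherian G.left := LocallyOfFiniteType.isLocallyNoetherian G.hom
  set D := ρ.left ⁻¹' connectedComponent x with hD
  rcases D.eq_empty_or_nonempty with h0 | hne
  · rw [h0]; exact isCompact_empty
  obtain ⟨h, hhD, hhc⟩ := nonempty_inter_closedPoints hne
    ((SGA3cLib.isOpen_connectedComponent x).preimage ρ.left.continuous).isLocallyClosed
  let p : 𝟙_ (Over (Spec (CommRingCat.of k))) ⟶ H :=
    Over.homMk (pointOfClosedPoint H.hom h hhc) (pointOfClosedPoint_comp _ _ _)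
  let σ : H ≅ H :=
    { hom := (toUnit H ≫ p) * 𝟙 H
      inv := (toUnit H ≫ p⁻¹) * 𝟙 H
      hom_inv_id := by
        simp only [MonObj.comp_mul, Category.comp_id, comp_toUnit_assoc, GrpObj.comp_inv]
        group
      inv_hom_id := by
        simp only [MonObj.comp_mul, Category.comp_id, comp_toUnit_assoc, GrpObj.comp_inv]
        group }
  let τ : G ≅ G :=
    { hom := (toUnit G ≫ (p ≫ ρ)) * 𝟙 G
      inv := (toUnit G ≫ (p ≫ ρ)⁻¹) * 𝟙 G
      hom_inv_id := by
        simp only [MonObj.comp_mul, Category.comp_id, comp_toUnit_assoc, GrpObj.comp_inv]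
        group
      inv_hom_id := by
        simp only [MonObj.comp_mul, Category.comp_id, comp_toUnit_assoc, GrpObj.comp_inv]
        group }
  let T : G.left ≃ₜ G.left := ((Over.forget _).mapIso τ).hom.homeomorph
  let T' : H.left ≃ₜ H.left := ((Over.forget _).mapIso σ).hom.homeomorph
  have hστ : σ.hom ≫ ρ = ρ ≫ τ.hom := by
    simp only [σ, τ, MonObj.mul_comp, MonObj.comp_mul, Category.id_comp, Category.comp_id,
      comp_toUnit_assoc, Category.assoc]
  have hT : ∀ y, T (ρ.left y) = ρ.left (T' y) := fun y => by
    change (ρ ≫ τ.hom).left y = (σ.hom ≫ ρ).left y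
    rw [hστ]
  have hu : T (η[G].left (IsLocalRing.closedPoint k)) = ρ.left h := by
    have e : η[G] ≫ τ.hom = p ≫ ρ := by
      simp [τ, MonObj.comp_mul, MonObj.one_eq_one]
    have e' := congrArg (fun m => m.left (IsLocalRing.closedPoint k)) e
    simp only [Over.comp_left, Scheme.Hom.comp_apply] at e'
    exact e'.trans (congrArg _ (pointOfClosedPoint_apply H.hom h hhc _))
  have himg : T '' connectedComponent (η[G].left (IsLocalRing.closedPoint k)) = connectedComponent x := by
    rw [show connectedComponent x = connectedComponent (ρ.left h) from connectedComponent_eq hhD, ← hu]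
    refine Set.Subset.antisymm (T.continuous.image_connectedComponent_subset _) fun y hy => ⟨T.symm y, ?_, T.apply_symm_apply y⟩
    have := T.symm.continuous.image_connectedComponent_subset _ ⟨y, hy, rfl⟩
    rwa [T.symm_apply_apply] at this
  have : D = T' '' (ρ.left ⁻¹' connectedComponent (η[G].left (IsLocalRing.closedPoint k))) := by
    ext y
    obtain ⟨y, rfl⟩ := T'.surjective y
    rw [T'.injective.mem_set_image]
    show ρ.left (T' y) ∈ connectedComponent x ↔ _
    rw [← hT, ← himg, T.injective.mem_set_image]
    rfl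
  rw [this]
  exact hc.image T'.continuous

/-- A homomorphism whose preimages of components are compact is quasi-compact. -/
private theorem quasiCompact_of_isCompact_preimage {H G : Over (Spec (CommRingCat.of k))}
    [LocallyOfFiniteType G.hom]
    (ρ : H ⟶ G) (hc : ∀ x, IsCompact (ρ.left ⁻¹' connectedComponent x)) : QuasiCompact ρ.left := by
  haveI : IsLocallyNoetherian G.left := LocallyOfFiniteType.isLocallyNoetherian G.hom
  let C : G.left → G.left.Opens := fun x => ⟨connectedComponent x, SGA3cLib.isOpen_connectedComponent x⟩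
  refine (IsZariskiLocalAtTarget.iff_of_iSup_eq_top (P := @QuasiCompact) C
    (eq_top_iff.2 fun x _ => TopologicalSpace.Opens.mem_iSup.2 ⟨x, mem_connectedComponent⟩)).2 fun x => ?_
  haveI : CompactSpace (ρ.left ⁻¹ᵁ C x).toScheme := isCompact_iff_compactSpace.1 (hc x)
  haveI : QuasiCompact ((ρ.left ∣_ C x) ≫ ((C x).ι ≫ G.hom)) := inferInstance
  exact QuasiCompact.of_comp (ρ.left ∣_ C x) ((C x).ι ≫ G.hom)

end Trans

/-- Over an algebraically closed field k, let X and Y be normal projective varieties (integral k-schemes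
whose local rings are integrally closed domains, each admitting a closed immersion into a projective
space over k) and f : X → Y a birational k-morphism: f restricts to an isomorphism over some
non-empty open subset of Y. Let (GX, aX) and (GY, aY) be the automorphism group schemes of X and Y
with their universal actions, both locally of finite type, and let H be a closed subgroup scheme of
GY (e : H → GY a homomorphism which is a closed immersion) whose action on Y through e lifts to an
action b of H on X for which f is equivariant. Then the homomorphism ρ : H → GX through which b is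
obtained from the universal action is a closed immersion. (The published statement takes for H the
reduced automorphism group of Y; the form here allows any closed subgroup scheme of the automorphism
group scheme whose action lifts.) -/
theorem result (k : Type u) [Field k] [IsAlgClosed k]
    (X Y : Over (Spec (CommRingCat.of k))) [IsIntegral X.left] [IsIntegral Y.left]
    (hXn : Pi1.IsNormalScheme X.left) (hYn : Pi1.IsNormalScheme Y.left)
    (hX : RelProj.IsHProjective X.hom) (hY : RelProj.IsHProjective Y.hom)
    (f : X ⟶ Y) (U : Y.left.Opens) (hU : (U : Set ↥Y.left).Nonempty) (hf : IsIso (f.left ∣_ U))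
    (GX : Over (Spec (CommRingCat.of k))) [GrpObj GX] [LocallyOfFiniteType GX.hom] (aX : AlgGrp.Action GX X)
    (hGX : AutSch.Represents X GX aX)
    (GY : Over (Spec (CommRingCat.of k))) [GrpObj GY] [LocallyOfFiniteType GY.hom] (aY : AlgGrp.Action GY Y)
    (hGY : AutSch.Represents Y GY aY)
    (H : Over (Spec (CommRingCat.of k))) [GrpObj H] (e : H ⟶ GY) [IsMonHom e] (he : IsClosedImmersion e.left)
    (b : AlgGrp.Action H X) (hb : (H ◁ f) ≫ (e ▷ Y) ≫ aY.act = b.act ≫ f)
    (ρ : H ⟶ GX) [IsMonHom ρ] (hρ : (ρ ▷ X) ≫ aX.act = b.act) :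
    IsClosedImmersion ρ.left := by
  haveI : IsProper X.hom := CAlgSmall.ProjMore.isProper_of_isHProjective hX
  haveI : IsProper Y.hom := CAlgSmall.ProjMore.isProper_of_isHProjective hY
  haveI : IsProper (f.left ≫ Y.hom) := by rw [Over.w]; infer_instance
  haveI : IsProper f.left := IsProper.of_comp f.left Y.hom
  haveI : IsLocallyNoetherian Y.left := LocallyOfFiniteType.isLocallyNoetherian Y.hom
  have happ : ∀ V : Y.left.Opens, IsIso (f.left.app V) := by
    haveI : Nonempty (U : Scheme.{u}) := hU.to_subtype
    haveI : Nonempty ((f.left ⁻¹ᵁ U : X.left.Opens) : Scheme.{u}) := ⟨(inv (f.left ∣_ U)) ⟨hU.some, hU.some_mem⟩⟩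
    haveI : IsIntegral (U : Scheme.{u}) := isIntegral_of_isOpenImmersion U.ι
    haveI : IsIntegral ((f.left ⁻¹ᵁ U : X.left.Opens) : Scheme.{u}) := isIntegral_of_isOpenImmersion (f.left ⁻¹ᵁ U).ι
    have hg1 := genericPoint_eq_of_isOpenImmersion (f.left ⁻¹ᵁ U).ι
    have hg2 := genericPoint_eq_of_isOpenImmersion ((f.left ∣_ U) ≫ U.ι)
    rw [morphismRestrict_ι] at hg2
    have hgen : f.left (genericPoint X.left) = genericPoint Y.left := by
      rw [← hg1, ← Scheme.Hom.comp_apply]; exact hg2
    have hmem : genericPoint X.left ∈ f.left ⁻¹ᵁ U := by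
      rw [← hg1]; exact (genericPoint ((f.left ⁻¹ᵁ U : X.left.Opens) : Scheme.{u})).2
    have hbir : IsIso (f.left.stalkMap (genericPoint X.left)) := by
      refine (MorphismProperty.arrow_mk_iso_iff (MorphismProperty.isomorphisms _)
        (morphismRestrictStalkMap f.left U ⟨genericPoint X.left, hmem⟩)).1 ?_
      exact (inferInstance : IsIso ((f.left ∣_ U).stalkMap ⟨genericPoint X.left, hmem⟩))
    exact Coherent.isIso_app_of_birational f.left hYn hgen hbir
  have epiT : ∀ T : Over (Spec (CommRingCat.of k)), Epi (f ▷ T) := fun T => by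
    haveI := AlgGrpLib.ActionDescent.flat_hom T
    haveI := AlgGrpLib.ActionDescent.epi_whiskerLeft T f happ
    rw [show f ▷ T = (β_ X T).hom ≫ (T ◁ f) ≫ (β_ Y T).inv by
      rw [← BraidedCategory.braiding_naturality_left_assoc, Iso.hom_inv_id, Category.comp_id]]
    infer_instance
  have keyH : ∀ {T : Over (Spec (CommRingCat.of k))} (t : T ⟶ H),
      (f ▷ T) ≫ AutSch.famOf aY (t ≫ e) = AutSch.famOf aX (t ≫ ρ) ≫ f := by
    intro T t
    have e1 : (f ▷ T) ≫ lift (snd Y T ≫ t ≫ e) (fst Y T) =
        lift (snd X T ≫ t) (fst X T) ≫ (H ◁ f) ≫ (e ▷ Y) := by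
      apply CartesianMonoidalCategory.hom_ext <;> simp
    have e2 : lift (snd X T ≫ t ≫ ρ) (fst X T) = lift (snd X T ≫ t) (fst X T) ≫ (ρ ▷ X) := by
      apply CartesianMonoidalCategory.hom_ext <;> simp
    rw [AutSch.famOf, AutSch.famOf, ← Category.assoc, e1, e2]
    simp only [Category.assoc]
    rw [hb, ← hρ, Category.assoc]
  -- e is mono
  haveI : Mono e.left := inferInstance
  haveI : Mono e := Over.mono_of_mono_left e
  haveI : LocallyOfFiniteType H.hom := by rw [← Over.w e]; infer_instance
  haveI : Mono ρ := ⟨fun {T} t t' htt => by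
    haveI := epiT T
    have hf' : AutSch.famOf aY (t ≫ e) = AutSch.famOf aY (t' ≫ e) := by
      rw [← cancel_epi (f ▷ T), keyH, keyH, htt]
    exact (cancel_mono e).1 ((((AutSch.represents_iff GY aY).1 hGY) T _ (isAutFamily_famOf aY (t ≫ e))).unique
      rfl hf'.symm)⟩
  -- the identity component of GX and its action on Y
  obtain ⟨G₀, _, incl, _, hincl, _, hrange, _, hG₀c⟩ := S7520.result k GX
  haveI : LocallyOfFiniteType G₀.hom := by rw [← Over.w incl]; infer_instance
  haveI : ConnectedSpace ↥G₀.left := by
    refine connectedSpace_iff_univ.2 ⟨⟨η[G₀].left (IsLocalRing.closedPoint k), trivial⟩, ?_⟩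
    rw [← incl.left.isClosedEmbedding.isInducing.isPreconnected_image, Set.image_univ, hrange]
    exact isPreconnected_connectedComponent
  let a₀ : AlgGrp.Action G₀ X :=
    { act := (incl ▷ X) ≫ aX.act
      one_act := by
        rw [← MonoidalCategory.comp_whiskerRight_assoc, IsMonHom.one_hom, aX.one_act]
      mul_act := by
        rw [← MonoidalCategory.comp_whiskerRight_assoc, IsMonHom.mul_hom, MonoidalCategory.comp_whiskerRight_assoc,
          aX.mul_act]
        simp only [MonoidalCategory.tensorHom_def, MonoidalCategory.comp_whiskerRight, Category.assoc,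
          MonoidalCategory.whiskerLeft_comp, MonoidalCategory.associator_naturality_middle_assoc,
          MonoidalCategory.associator_naturality_left_assoc]
        rw [← MonoidalCategory.whisker_exchange_assoc, ← MonoidalCategory.whisker_exchange_assoc] }
  obtain ⟨b₀, hb₀, -⟩ := AlgGrpLib.Blanchard.existsUnique_action f happ a₀
  obtain ⟨φ, hφ, -⟩ := (AutSch.represents_iff GY aY).1 hGY G₀ _ (isAutFamily_famOf b₀ (𝟙 G₀))
  have keyG : ∀ {T : Over (Spec (CommRingCat.of k))} (t : T ⟶ H) (g : T ⟶ G₀),
      t ≫ ρ = g ≫ incl → t ≫ e = g ≫ φ := by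
    intro T t g htg
    haveI := epiT T
    have h1 : AutSch.famOf aY (g ≫ φ) = AutSch.famOf b₀ g := by
      rw [AutSch.famOf_comp, hφ, ← AutSch.famOf_comp, Category.comp_id]
    refine (((AutSch.represents_iff GY aY).1 hGY) T _ (isAutFamily_famOf aY (g ≫ φ))).unique ?_ rfl
    rw [h1, ← cancel_epi (f ▷ T), keyH, htg]
    have e1 : (f ▷ T) ≫ lift (snd Y T ≫ g) (fst Y T) = lift (snd X T ≫ g) (fst X T) ≫ (G₀ ◁ f) := by
      apply CartesianMonoidalCategory.hom_ext <;> simp
    have e2 : lift (snd X T ≫ g ≫ incl) (fst X T) = lift (snd X T ≫ g) (fst X T) ≫ (incl ▷ X) := by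
      apply CartesianMonoidalCategory.hom_ext <;> simp
    rw [AutSch.famOf, AutSch.famOf, ← Category.assoc (f ▷ T), e1, e2]
    simp only [Category.assoc]
    rw [hb₀, Category.assoc]
  have hφu : φ.left (η[G₀].left (IsLocalRing.closedPoint k)) = η[GY].left (IsLocalRing.closedPoint k) := by
    have h := keyG η[H] η[G₀] (by rw [IsMonHom.one_hom, IsMonHom.one_hom])
    rw [IsMonHom.one_hom] at h
    rw [h]; rfl
  -- preimage of the identity component is compact
  let T : Over (Spec (CommRingCat.of k)) := Over.mk (Limits.pullback.fst ρ.left incl.left ≫ H.hom)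
  let t : T ⟶ H := Over.homMk (Limits.pullback.fst ρ.left incl.left)
  let g : T ⟶ G₀ := Over.homMk (Limits.pullback.snd ρ.left incl.left) (by
    show _ ≫ G₀.hom = Limits.pullback.fst ρ.left incl.left ≫ H.hom
    rw [← Over.w incl, ← Over.w ρ, Limits.pullback.condition_assoc])
  have htg : t ≫ e = g ≫ φ := keyG t g (Over.OverMorphism.ext Limits.pullback.condition)
  haveI : IsClosedImmersion t.left :=
    inferInstanceAs (IsClosedImmersion (Limits.pullback.fst ρ.left incl.left))
  haveI : CompactSpace T.left := by
    have hsub : Set.range (t ≫ e).left ⊆ connectedComponent (η[GY].left (IsLocalRing.closedPoint k)) := by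
      rw [htg]
      refine (Set.range_comp_subset_range g.left φ.left).trans ?_
      rw [← hφu]
      exact (isPreconnected_range φ.left.continuous).subset_connectedComponent ⟨_, rfl⟩
    haveI : IsClosedImmersion (t ≫ e).left := inferInstanceAs (IsClosedImmersion (t.left ≫ e.left))
    have hcl := (t ≫ e).left.isClosedEmbedding
    refine ⟨hcl.isInducing.isCompact_iff.2 ?_⟩
    rw [Set.image_univ]
    exact (S0355.result k GY).2.of_isClosed_subset hcl.isClosed_range hsub
  have hK : IsCompact (ρ.left ⁻¹' connectedComponent (η[GX].left (IsLocalRing.closedPoint k))) := by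
    rw [← hrange, ← Scheme.Pullback.range_fst]
    haveI : CompactSpace ↥(Limits.pullback ρ.left incl.left) := ‹CompactSpace ↥T.left›
    exact isCompact_range t.left.continuous
  haveI : QuasiCompact ρ.left :=
    quasiCompact_of_isCompact_preimage ρ (isCompact_preimage_component ρ hK)
  exact SGA3cLib.isClosedImmersion_of_mono ρ

end Groth.Agent.S17832
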