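import Groth.Statements.S17833
import Groth.Agent.AlgGrpLib.AntiAffineSections
import Groth.Agent.AlgGrpLib.SubgroupCalc
import Groth.Agent.AbSchLib.GlobalSections
import Groth.Agent.SGA3xLib.SepFibre
import Groth.Agent.WeilLib.Geom
import Groth.Agent.FlatMor12.GeomDescent
import Mathlib.AlgebraicGeometry.EffectiveEpi

set_option autoImplicit false
universe u
open CategoryTheory MonoidalCategory CartesianMonoidalCategory MonObj GrpObj AlgebraicGeometry
open AlgGrp

namespace Groth.Agent.S17833

/-- A morphism invariant on the kernel pair of a faithfully flat quasi-compact morphism descends. -/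
theorem exists_desc_fpqc {S : Scheme.{u}} {X Y Z : Over S} (p : X ⟶ Y) [Flat p.left] [Surjective p.left] [QuasiCompact p.left]
    (f : X ⟶ Z) (h : ∀ {W : Over S} (a b : W ⟶ X), a ≫ p = b ≫ p → a ≫ f = b ≫ f) :
    ∃ g : Y ⟶ Z, p ≫ g = f := by
  haveI : EffectiveEpi p.left := inferInstance
  let g₀ : Y.left ⟶ Z.left := EffectiveEpi.desc p.left f.left (fun {W} a b hab => by
    let W' : Over S := Over.mk (a ≫ X.hom)
    let a' : W' ⟶ X := Over.homMk a rfl
    let b' : W' ⟶ X := Over.homMk b (by
      show b ≫ X.hom = a ≫ X.hom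
      rw [← Over.w p, ← Category.assoc, ← hab, Category.assoc])
    exact congrArg CommaMorphism.left (h a' b' (Over.OverMorphism.ext hab)))
  have hg : p.left ≫ g₀ = f.left := EffectiveEpi.fac _ _ _
  exact ⟨Over.homMk g₀ (by rw [← cancel_epi p.left, ← Category.assoc, hg, Over.w f, Over.w p]),
    Over.OverMorphism.ext hg⟩

/-- Over an algebraically closed field k, let G be a connected smooth k-group scheme of finite type (in
the terminology of the notes, a smooth connected algebraic group), and H an affine normal subgroup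
scheme of G such that the quotient G/H is an abelian variety: here j : H → G is the kernel of a flat
surjective homomorphism q : G → Q of k-group schemes with Q proper over k, and H is affine. Then an
automorphism u of the algebraic group G which fixes H pointwise (j ∘ u = j) and induces the identity
of Q (q ∘ u = q) is the identity. Equivalently, the map from the group of automorphisms of G fixing
H pointwise to the automorphism group of G/H is injective. -/
theorem result (k : Type u) [Field k] [IsAlgClosed k]
    (G H Q : Over (Spec (CommRingCat.of k))) [GrpObj G] [GrpObj H] [GrpObj Q]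
    [Smooth G.hom] [QuasiCompact G.hom] [ConnectedSpace ↥G.left]
    [IsAffine H.left] [IsProper Q.hom]
    (j : H ⟶ G) [IsMonHom j] (q : G ⟶ Q) [IsMonHom q] [Flat q.left] [Surjective q.left]
    (hker : AlgGrp.IsKernel j q)
    (u : G ≅ G) [IsMonHom u.hom] (hH : j ≫ u.hom = j) (hQ : u.hom ≫ q = q) :
    u.hom = 𝟙 G := by
  haveI := AlgGrpLib.kernel_mono hker
  haveI : LocallyOfFiniteType Q.hom := inferInstance
  haveI := AlgGrpLib.quasiCompact_left q
  haveI : CompactSpace Q.left := QuasiCompact.compactSpace_of_compactSpace Q.hom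
  haveI : IsLocallyNoetherian Q.left := LocallyOfFiniteType.isLocallyNoetherian Q.hom
  haveI : ConnectedSpace Q.left := q.left.surjective.connectedSpace q.left.continuous
  haveI : IsReduced G.left := WeilLib.isReduced_of_smooth G.hom
  haveI : IsReduced Q.left := FlatMor12.isReduced_of_flat_surjective q.left
  have hQaa : Function.Bijective Q.hom.appTop := by
    refine AlgGrpLib.bijective_appTop_of_const ⟨?_, ?_⟩
    · haveI : Nonempty (⊤ : Q.left.Opens) := ⟨⟨(inferInstance : Nonempty Q.left).some, trivial⟩⟩
      exact RingHom.injective _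
    · intro y
      obtain ⟨x, hx⟩ := AbSchLib.surjective_appTop_of_isAlgClosed k Q.hom y
      refine ⟨(Scheme.ΓSpecIso (CommRingCat.of k)).hom x, ?_⟩
      show Q.hom.appTop ((Scheme.ΓSpecIso (CommRingCat.of k)).inv ((Scheme.ΓSpecIso (CommRingCat.of k)).hom x)) = y
      rw [← CommRingCat.comp_apply (Scheme.ΓSpecIso (CommRingCat.of k)).hom, Iso.hom_inv_id]
      exact hx
  obtain ⟨d, hd⟩ := AlgGrpLib.exists_lift_kernel hker (g := u.hom * (𝟙 G)⁻¹) (by
    rw [MonObj.mul_comp, GrpObj.inv_comp, hQ, Category.id_comp, mul_inv_cancel])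
  obtain ⟨e, he⟩ := exists_desc_fpqc q d (fun {W} a b hab => by
    obtain ⟨n, hn⟩ := AlgGrpLib.exists_lift_kernel hker (g := b⁻¹ * a) (by
      rw [MonObj.mul_comp, GrpObj.inv_comp, hab, inv_mul_cancel])
    have ha : a = b * (n ≫ j) := by rw [hn, mul_inv_cancel_left]
    rw [← cancel_mono j, Category.assoc, Category.assoc, hd, MonObj.comp_mul, MonObj.comp_mul, GrpObj.comp_inv,
      GrpObj.comp_inv, Category.comp_id, Category.comp_id]
    rw [ha, MonObj.mul_comp, Category.assoc, hH, _root_.mul_inv_rev]
    group)
  have hc : q ≫ e = q ≫ toUnit Q ≫ η[Q] ≫ e := congrArg (q ≫ ·) (AlgGrpLib.eq_const_of_affine hQaa η[Q] e)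
  have h0 : η[G] ≫ d = η[H] := by
    rw [← cancel_mono j, Category.assoc, hd, MonObj.comp_mul, GrpObj.comp_inv, Category.comp_id,
      IsMonHom.one_hom u.hom, mul_inv_cancel, IsMonHom.one_hom j, MonObj.one_eq_one]
  rw [← Category.assoc q, comp_toUnit, he, ← IsMonHom.one_hom q, Category.assoc η[G], he, h0, ← Hom.one_def] at hc
  rw [hc, MonObj.one_comp] at hd
  exact mul_inv_eq_one.1 hd.symm

end Groth.Agent.S17833
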