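import Groth.Statements.S17837
import Groth.Agent.AlgGrpLib.Blanchard
import Groth.Agent.SGA3cLib.ArtinComponent
import Groth.Agent.CAlgSmall.ProjMore
import Groth.Agent.S7520
import Mathlib.AlgebraicGeometry.Morphisms.FlatMono
import Mathlib.AlgebraicGeometry.AlgClosed.Basic

set_option backward.isDefEq.respectTransparency.types false

set_option autoImplicit false
universe u
open CategoryTheory MonoidalCategory CartesianMonoidalCategory MonObj GrpObj AlgebraicGeometry
open AutSch

namespace Groth.Agent.S17837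

section Fam

variable {S : Scheme.{u}} {X : Over S}

private theorem famOf_one {G : Over S} [GrpObj G] (a : AlgGrp.Action G X) (T : Over S) :
    AutSch.famOf a (1 : T ⟶ G) = fst X T := by
  have h : lift (snd X T ≫ (1 : T ⟶ G)) (fst X T) = lift (toUnit (X ⊗ T)) (fst X T) ≫ (η[G] ▷ X) := by
    refine CartesianMonoidalCategory.hom_ext _ _ ?_ ?_
    · rw [lift_fst, Category.assoc, whiskerRight_fst, lift_fst_assoc, MonObj.comp_one, Hom.one_def]
    · rw [lift_snd, Category.assoc, whiskerRight_snd, lift_snd]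
  rw [AutSch.famOf, h, Category.assoc, a.one_act, leftUnitor_hom, lift_snd]

private theorem endOf_famOf_comp {G : Over S} [GrpObj G] (a : AlgGrp.Action G X) {T : Over S} (g h : T ⟶ G) :
    AutSch.endOf (AutSch.famOf a g) ≫ AutSch.endOf (AutSch.famOf a h) =
      AutSch.endOf (AutSch.famOf a (h * g)) := by
  refine CartesianMonoidalCategory.hom_ext _ _ ?_ (by simp)
  rw [Category.assoc, AutSch.endOf_fst, AutSch.endOf_fst]
  have h1 : lift (snd X T ≫ (h * g)) (fst X T) =
      lift (lift (snd X T ≫ h) (snd X T ≫ g)) (fst X T) ≫ (μ[G] ▷ X) := by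
    refine CartesianMonoidalCategory.hom_ext _ _ ?_ ?_
    · rw [lift_fst, Category.assoc, whiskerRight_fst, lift_fst_assoc, ← Hom.mul_def, MonObj.comp_mul]
    · rw [lift_snd, Category.assoc, whiskerRight_snd, lift_snd]
  conv_rhs => rw [AutSch.famOf, h1, Category.assoc, a.mul_act]
  have h2 : lift (lift (snd X T ≫ h) (snd X T ≫ g)) (fst X T) ≫ (α_ G G X).hom ≫ (G ◁ a.act) =
      lift (snd X T ≫ h) (AutSch.famOf a g) := by
    refine CartesianMonoidalCategory.hom_ext _ _ ?_ ?_
    · simp
    · simp [AutSch.famOf, ← Category.assoc, comp_lift]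
  rw [← Category.assoc (f := (α_ G G X).hom), ← Category.assoc, h2]
  show AutSch.endOf (AutSch.famOf a g) ≫ lift (snd X T ≫ h) (fst X T) ≫ a.act = _
  rw [← Category.assoc, comp_lift, AutSch.endOf_fst, ← Category.assoc (AutSch.endOf _) (snd X T), AutSch.endOf_snd]

private theorem isAutFamily_famOf {G : Over S} [GrpObj G] (a : AlgGrp.Action G X) {T : Over S} (g : T ⟶ G) :
    AutSch.IsAutFamily (AutSch.famOf a g) :=
  ⟨⟨AutSch.endOf (AutSch.famOf a g⁻¹),
    by rw [endOf_famOf_comp, inv_mul_cancel, famOf_one, AutSch.endOf]; simp,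
    by rw [endOf_famOf_comp, mul_inv_cancel, famOf_one, AutSch.endOf]; simp⟩⟩

end Fam

section Descends

variable {k : Type u} [Field k]

/-- Condition cutting out the automorphisms of a fibration. -/
private theorem endOf_comp_iff {S : Scheme.{u}} {X Y T : Over S} (f : X ⟶ Y) (φ : X ⊗ T ⟶ X) (ψ : Y ⊗ T ⟶ Y) :
    AutSch.endOf φ ≫ (f ▷ T) = (f ▷ T) ≫ AutSch.endOf ψ ↔ φ ≫ f = (f ▷ T) ≫ ψ := by
  constructor
  · intro h
    have := congrArg (· ≫ fst Y T) h
    simpa using this
  · intro h
    apply CartesianMonoidalCategory.hom_ext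
    · simpa using h
    · simp

variable {X Y : Over (Spec (CommRingCat.of k))} {G : Over (Spec (CommRingCat.of k))} [GrpObj G]

/-- An endomorphism descending along `f` after a nonempty base change descends. -/
private theorem exists_factor_of_baseChange (f : X ⟶ Y) [IsProper f.left]
    (happ : ∀ U : Y.left.Opens, IsIso (f.left.app U)) (h : X ⟶ Y)
    (T : Over (Spec (CommRingCat.of k))) [Nonempty T.left] (ψ : Y ⊗ T ⟶ Y)
    (hψ : fst X T ≫ h = (f ▷ T) ≫ ψ) : ∃ h' : Y ⟶ Y, f ≫ h' = h := by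
  obtain ⟨h₀, hh₀⟩ := AlgGrpLib.ProperDescent.exists_factor f.left happ h.left (fun p q hpq => by
    obtain ⟨r, hr1, hr2⟩ := Scheme.Pullback.exists_preimage_pullback (f := f.left) (g := f.left) p q hpq
    let P : Over (Spec (CommRingCat.of k)) := Over.mk (Limits.pullback.fst f.left f.left ≫ X.hom)
    let u₁ : P ⟶ X := Over.homMk (Limits.pullback.fst f.left f.left)
    let u₂ : P ⟶ X := Over.homMk (Limits.pullback.snd f.left f.left) (by
      show _ ≫ X.hom = Limits.pullback.fst f.left f.left ≫ X.hom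
      rw [← Over.w f, Limits.pullback.condition_assoc])
    haveI : Surjective T.hom := ⟨fun s => ⟨Classical.arbitrary _, @Subsingleton.elim (PrimeSpectrum k) inferInstance _ _⟩⟩
    haveI : Surjective (fst P T).left := inferInstanceAs (Surjective (Limits.pullback.fst P.hom T.hom))
    obtain ⟨r', hr'⟩ := (fst P T).left.surjective r
    have hu : u₁ ≫ f = u₂ ≫ f := Over.OverMorphism.ext Limits.pullback.condition
    have e : fst P T ≫ u₁ ≫ h = fst P T ≫ u₂ ≫ h := by
      rw [← whiskerRight_fst_assoc u₁ T h, ← whiskerRight_fst_assoc u₂ T h, hψ,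
        ← MonoidalCategory.comp_whiskerRight_assoc, hu, MonoidalCategory.comp_whiskerRight_assoc]
    have e' := congrArg (fun m => m.left r') e
    simp only [Over.comp_left, Scheme.Hom.comp_apply, hr'] at e'
    change h.left ((Limits.pullback.fst f.left f.left) r) = h.left ((Limits.pullback.snd f.left f.left) r) at e'
    rwa [hr1, hr2] at e')
  haveI : Epi f.left := AlgGrpLib.ProperDescent.epi_of_isIso_app _ happ
  refine ⟨Over.homMk h₀ ?_, Over.OverMorphism.ext hh₀⟩
  rw [← cancel_epi f.left, ← Category.assoc, hh₀, Over.w, Over.w]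

/-- The endomorphism of `X` given by a rational point of an acting group. -/
private noncomputable def actPt (a : AlgGrp.Action G X) (g : 𝟙_ (Over (Spec (CommRingCat.of k))) ⟶ G) : X ⟶ X :=
  lift (toUnit X ≫ g) (𝟙 X) ≫ a.act

private theorem famOf_toUnit (a : AlgGrp.Action G X) (g : 𝟙_ (Over (Spec (CommRingCat.of k))) ⟶ G)
    (T : Over (Spec (CommRingCat.of k))) : AutSch.famOf a (toUnit T ≫ g) = fst X T ≫ actPt a g := by
  rw [AutSch.famOf, actPt, comp_lift_assoc, Category.comp_id, comp_toUnit_assoc, comp_toUnit_assoc]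

/-- A rational point preserves the fibration if it does so after a nonempty base change. -/
private theorem descends_of_baseChange (f : X ⟶ Y) [IsProper f.left]
    (happ : ∀ U : Y.left.Opens, IsIso (f.left.app U)) (a : AlgGrp.Action G X)
    (g : 𝟙_ (Over (Spec (CommRingCat.of k))) ⟶ G) (T : Over (Spec (CommRingCat.of k))) [Nonempty T.left]
    (h1 : ∃ ψ : Y ⊗ T ⟶ Y, AutSch.famOf a (toUnit T ≫ g) ≫ f = (f ▷ T) ≫ ψ)
    (h2 : ∃ ψ : Y ⊗ T ⟶ Y, AutSch.famOf a (toUnit T ≫ g⁻¹) ≫ f = (f ▷ T) ≫ ψ) :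
    ∃ ψ : Y ⊗ 𝟙_ _ ⟶ Y, AutSch.IsAutFamily ψ ∧
      AutSch.endOf (AutSch.famOf a g) ≫ (f ▷ 𝟙_ _) = (f ▷ 𝟙_ _) ≫ AutSch.endOf ψ := by
  have key : ∀ g, (∃ ψ : Y ⊗ T ⟶ Y, AutSch.famOf a (toUnit T ≫ g) ≫ f = (f ▷ T) ≫ ψ) →
      ∃ h' : Y ⟶ Y, f ≫ h' = actPt a g ≫ f := by
    rintro g ⟨ψ, hψ⟩
    rw [famOf_toUnit, Category.assoc] at hψ
    exact exists_factor_of_baseChange f happ _ T ψ hψ
  obtain ⟨d, hd⟩ := key g h1
  obtain ⟨d', hd'⟩ := key g⁻¹ h2
  have hfam : ∀ g, AutSch.famOf a g = fst X (𝟙_ _) ≫ actPt a g := fun g => by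
    rw [← famOf_toUnit, toUnit_unit, Category.id_comp]
  haveI := AlgGrpLib.ActionDescent.epi_of_isIso_app f happ
  have hinv : ∀ g, actPt a g ≫ actPt a g⁻¹ = 𝟙 X := fun g => by
    have e := congrArg (· ≫ fst X (𝟙_ _)) (endOf_famOf_comp a g g⁻¹)
    simp only [inv_mul_cancel, Category.assoc, AutSch.endOf_fst, famOf_one] at e
    rw [hfam g⁻¹, ← Category.assoc, AutSch.endOf_fst, hfam g, Category.assoc] at e
    have e' := congrArg (fun m => lift (𝟙 X) (toUnit X) ≫ m) e
    simpa using e'
  have hdd' : ∀ (g : 𝟙_ (Over (Spec (CommRingCat.of k))) ⟶ G) (d d' : Y ⟶ Y), f ≫ d = actPt a g ≫ f →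
      f ≫ d' = actPt a g⁻¹ ≫ f → d ≫ d' = 𝟙 Y := fun g d d' hd hd' => by
    rw [← cancel_epi f, ← Category.assoc, hd, Category.assoc, hd', ← Category.assoc, hinv, Category.id_comp,
      Category.comp_id]
  refine ⟨fst Y (𝟙_ _) ≫ d, ⟨⟨AutSch.endOf (fst Y (𝟙_ _) ≫ d'), ?_, ?_⟩⟩, (endOf_comp_iff f _ _).2 ?_⟩
  · apply CartesianMonoidalCategory.hom_ext
    · simp [hdd' g d d' hd hd']
    · simp
  · apply CartesianMonoidalCategory.hom_ext
    · simp [hdd' g⁻¹ d' d hd' (by rw [_root_.inv_inv]; exact hd)]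
    · simp
  · rw [hfam, Category.assoc, ← hd, whiskerRight_fst_assoc]

end Descends

/-- Over an algebraically closed field k, let f : X → Y be a fibration: X and Y are projective varieties
(integral k-schemes with closed immersions into projective spaces over k) and f is a k-morphism with
O_Y → f_*O_X an isomorphism (bijective on sections over every open of Y). Let (GX, aX) be the
automorphism group scheme of X with its universal action, locally of finite type, and let the
k-group scheme Gf with its action af on X represent the automorphisms of f: the families φ of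
automorphisms of X parametrised by T whose associated T-automorphism of X × T descends along f × T
to the T-automorphism associated with some family of automorphisms of Y. Then the homomorphism ρ :
Gf → GX through which af is obtained from the universal action (the first projection from the
automorphism group scheme of f) is a closed immersion. -/
theorem result (k : Type u) [Field k] [IsAlgClosed k]
    (X Y : Over (Spec (CommRingCat.of k))) [IsIntegral X.left] [IsIntegral Y.left]
    (hX : RelProj.IsHProjective X.hom) (hY : RelProj.IsHProjective Y.hom)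
    (f : X ⟶ Y) (hf : ∀ U : Y.left.Opens, IsIso (f.left.app U))
    (GX : Over (Spec (CommRingCat.of k))) [GrpObj GX] [LocallyOfFiniteType GX.hom] (aX : AlgGrp.Action GX X)
    (hGX : AutSch.Represents X GX aX)
    (Gf : Over (Spec (CommRingCat.of k))) [GrpObj Gf] (af : AlgGrp.Action Gf X)
    (hGf : AutSch.RepresentsSub X
      (fun T φ => ∃ ψ : Y ⊗ T ⟶ Y, AutSch.IsAutFamily ψ ∧ AutSch.endOf φ ≫ (f ▷ T) = (f ▷ T) ≫ AutSch.endOf ψ) Gf af)
    (ρ : Gf ⟶ GX) [IsMonHom ρ] (hρ : (ρ ▷ X) ≫ aX.act = af.act) :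
    IsClosedImmersion ρ.left := by
  haveI : IsProper X.hom := CAlgSmall.ProjMore.isProper_of_isHProjective hX
  haveI : IsProper Y.hom := CAlgSmall.ProjMore.isProper_of_isHProjective hY
  haveI : IsProper (f.left ≫ Y.hom) := by rw [Over.w]; infer_instance
  haveI : IsProper f.left := IsProper.of_comp f.left Y.hom
  haveI := LocallyOfFiniteType.jacobsonSpace GX.hom
  haveI : IsLocallyNoetherian GX.left := LocallyOfFiniteType.isLocallyNoetherian GX.hom
  have hrepX := (AutSch.represents_iff GX aX).1 hGX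
  have hfamρ : ∀ {T : Over (Spec (CommRingCat.of k))} (t : T ⟶ Gf),
      AutSch.famOf af t = AutSch.famOf aX (t ≫ ρ) := by
    intro T t
    have e2 : lift (snd X T ≫ t ≫ ρ) (fst X T) = lift (snd X T ≫ t) (fst X T) ≫ (ρ ▷ X) := by
      apply CartesianMonoidalCategory.hom_ext <;> simp
    rw [AutSch.famOf, AutSch.famOf, e2, Category.assoc, hρ]
  have uniqf : ∀ {T : Over (Spec (CommRingCat.of k))} (t t' : T ⟶ Gf),
      AutSch.famOf af t = AutSch.famOf af t' → t = t' := fun {T} t t' h =>
    (hGf.2 T _ (isAutFamily_famOf af t) (hGf.1 T t)).unique rfl h.symm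
  haveI : Mono ρ := ⟨fun {T} t t' h => uniqf t t' (by rw [hfamρ, hfamρ, h])⟩
  haveI : Mono ρ.left := inferInstance
  -- the identity component preserves the fibration
  obtain ⟨G₀, _, incl, _, hincl, hflat, hrange, _, _⟩ := S7520.result k GX
  haveI : LocallyOfFiniteType G₀.hom := by rw [← Over.w incl]; infer_instance
  haveI : LocallyOfFinitePresentation incl.left := inferInstance
  haveI : IsOpenImmersion incl.left := IsOpenImmersion.of_flat_of_mono incl.left
  haveI : ConnectedSpace ↥G₀.left := by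
    refine connectedSpace_iff_univ.2 ⟨⟨η[G₀].left (IsLocalRing.closedPoint k), trivial⟩, ?_⟩
    rw [← incl.left.isClosedEmbedding.isInducing.isPreconnected_image, Set.image_univ, hrange]
    exact isPreconnected_connectedComponent
  let a₀ : AlgGrp.Action G₀ X :=
    { act := (incl ▷ X) ≫ aX.act
      one_act := by
        rw [← MonoidalCategory.comp_whiskerRight_assoc, IsMonHom.one_hom, aX.one_act]
      mul_act := by
        rw [← MonoidalCategory.comp_whiskerRight_assoc, IsMonHom.mul_hom, MonoidalCategory.comp_whiskerRight_assoc,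
          aX.mul_act]
        simp only [MonoidalCategory.tensorHom_def, MonoidalCategory.comp_whiskerRight, Category.assoc,
          MonoidalCategory.whiskerLeft_comp, MonoidalCategory.associator_naturality_middle_assoc,
          MonoidalCategory.associator_naturality_left_assoc]
        rw [← MonoidalCategory.whisker_exchange_assoc, ← MonoidalCategory.whisker_exchange_assoc] }
  obtain ⟨b₀, hb₀, -⟩ := AlgGrpLib.Blanchard.existsUnique_action f hf a₀
  obtain ⟨σ, hσ, -⟩ := hGf.2 G₀ _ (isAutFamily_famOf aX incl) ⟨_, isAutFamily_famOf b₀ (𝟙 G₀), by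
    rw [endOf_comp_iff]
    have e1 : (f ▷ G₀) ≫ lift (snd Y G₀) (fst Y G₀) = lift (snd X G₀) (fst X G₀) ≫ (G₀ ◁ f) := by
      apply CartesianMonoidalCategory.hom_ext <;> simp
    have e2 : lift (snd X G₀ ≫ incl) (fst X G₀) = lift (snd X G₀) (fst X G₀) ≫ (incl ▷ X) := by
      apply CartesianMonoidalCategory.hom_ext <;> simp
    rw [AutSch.famOf, AutSch.famOf, Category.comp_id, ← Category.assoc (f ▷ G₀), e1, e2]
    simp only [Category.assoc]
    rw [hb₀, Category.assoc]⟩
  have hσρ : σ ≫ ρ = incl := by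
    rw [hfamρ] at hσ
    exact (hrepX G₀ _ (isAutFamily_famOf aX incl)).unique hσ rfl
  have liftT : ∀ {T : Over (Spec (CommRingCat.of k))} (g : 𝟙_ _ ⟶ GX) (C : Set GX.left),
      C = connectedComponent (g.left (IsLocalRing.closedPoint k)) → ∀ (t : T ⟶ GX), Set.range t.left ⊆ C →
      ∃ u : T ⟶ G₀, u ≫ incl = t * (toUnit T ≫ g)⁻¹ := by
    intro T g C hC t ht
    let R : GX ≅ GX :=
      { hom := 𝟙 GX * (toUnit GX ≫ g)⁻¹
        inv := 𝟙 GX * (toUnit GX ≫ g)
        hom_inv_id := by
          simp only [MonObj.comp_mul, Category.comp_id, comp_toUnit_assoc]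
          rw [_root_.mul_assoc, inv_mul_cancel, _root_.mul_one]
        inv_hom_id := by
          simp only [MonObj.comp_mul, Category.comp_id, comp_toUnit_assoc, GrpObj.comp_inv]
          rw [_root_.mul_assoc, mul_inv_cancel, _root_.mul_one] }
    have hR : t ≫ R.hom = t * (toUnit T ≫ g)⁻¹ := by
      simp only [R, MonObj.comp_mul, Category.comp_id, comp_toUnit_assoc, GrpObj.comp_inv]
    have hg : R.hom.left (g.left (IsLocalRing.closedPoint k)) = η[GX].left (IsLocalRing.closedPoint k) := by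
      have e : g ≫ R.hom = η[GX] := by
        simp [R, MonObj.comp_mul, GrpObj.comp_inv, MonObj.one_eq_one]
      rw [← Scheme.Hom.comp_apply, ← Over.comp_left, e]
    have hr : Set.range (t ≫ R.hom).left ⊆ Set.range incl.left := by
      rw [hrange, ← hg]
      rintro _ ⟨z, rfl⟩
      exact R.hom.left.continuous.image_connectedComponent_subset _ ⟨t.left z, hC ▸ ht ⟨z, rfl⟩, rfl⟩
    refine ⟨Over.homMk (IsOpenImmersion.lift incl.left (t ≫ R.hom).left hr) ?_, ?_⟩
    · rw [← Over.w incl, IsOpenImmersion.lift_fac_assoc, Over.w]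
    · rw [← hR]; exact Over.OverMorphism.ext (IsOpenImmersion.lift_fac _ _ _)
  let C : GX.left → GX.left.Opens := fun x => ⟨connectedComponent x, SGA3cLib.isOpen_connectedComponent x⟩
  refine (IsZariskiLocalAtTarget.iff_of_iSup_eq_top (P := @IsClosedImmersion) C
    (eq_top_iff.2 fun x _ => TopologicalSpace.Opens.mem_iSup.2 ⟨x, mem_connectedComponent⟩)).2 fun x => ?_
  rcases isEmpty_or_nonempty ((ρ.left ⁻¹ᵁ C x : Gf.left.Opens) : Scheme.{u}) with hE | ⟨⟨z, hz⟩⟩
  · exact IsClosedImmersion.of_isPreimmersion _ (by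
      rw [Set.range_eq_empty]; exact isClosed_empty)
  obtain ⟨y, hyC, hyc⟩ := nonempty_inter_closedPoints (Z := connectedComponent x) ⟨x, mem_connectedComponent⟩
    (SGA3cLib.isOpen_connectedComponent x).isLocallyClosed
  let g : 𝟙_ (Over (Spec (CommRingCat.of k))) ⟶ GX :=
    Over.homMk (pointOfClosedPoint GX.hom y hyc) (pointOfClosedPoint_comp _ _ _)
  have hgC : connectedComponent x = connectedComponent (g.left (IsLocalRing.closedPoint k)) := by
    rw [show g.left (IsLocalRing.closedPoint k) = y from pointOfClosedPoint_apply GX.hom y hyc _]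
    exact connectedComponent_eq hyC
  let T : Over (Spec (CommRingCat.of k)) := Over.mk (Gf.left.fromSpecResidueField z ≫ Gf.hom)
  haveI : Nonempty T.left := inferInstanceAs (Nonempty (PrimeSpectrum (Gf.left.residueField z)))
  let zT : T ⟶ Gf := Over.homMk (Gf.left.fromSpecResidueField z)
  obtain ⟨w, hw⟩ := liftT g _ hgC (zT ≫ ρ) (by
    rintro _ ⟨t, rfl⟩
    have e : (Gf.left.fromSpecResidueField z) t = z := Scheme.fromSpecResidueField_apply z t
    show ρ.left ((Gf.left.fromSpecResidueField z) t) ∈ connectedComponent x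
    rw [e]; exact hz)
  have hgT : ((w ≫ σ)⁻¹ * zT) ≫ ρ = toUnit T ≫ g := by
    rw [MonObj.mul_comp, GrpObj.inv_comp, Category.assoc, hσρ, hw, _root_.mul_inv_rev, _root_.inv_inv,
      _root_.mul_assoc, inv_mul_cancel, _root_.mul_one]
  have hdesc : ∀ {T : Over (Spec (CommRingCat.of k))} (t : T ⟶ Gf), ∃ ψ : Y ⊗ T ⟶ Y,
      AutSch.famOf aX (t ≫ ρ) ≫ f = (f ▷ T) ≫ ψ := fun {T} t => by
    obtain ⟨ψ, -, hψ⟩ := hGf.1 T t
    exact ⟨ψ, by rw [← hfamρ]; exact (endOf_comp_iff f _ _).1 hψ⟩
  obtain ⟨p, hp, -⟩ := hGf.2 _ _ (isAutFamily_famOf aX g)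
    (descends_of_baseChange f hf aX g T (hgT ▸ hdesc _) (by
      obtain ⟨ψ, hψ⟩ := hdesc ((w ≫ σ)⁻¹ * zT)⁻¹
      exact ⟨ψ, by rw [GrpObj.inv_comp, hgT, ← GrpObj.comp_inv] at hψ; exact hψ⟩))
  have hpρ : p ≫ ρ = g := by
    rw [hfamρ] at hp
    exact (hrepX _ _ (isAutFamily_famOf aX g)).unique hp rfl
  -- a section over the component
  let CO : Over (Spec (CommRingCat.of k)) := Over.mk ((C x).ι ≫ GX.hom)
  let ιC : CO ⟶ GX := Over.homMk (C x).ι
  obtain ⟨v, hv⟩ := liftT g _ hgC ιC (by
    rintro _ ⟨t, rfl⟩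
    exact t.2)
  let s : CO ⟶ Gf := (v ≫ σ) * (toUnit CO ≫ p)
  have hs : s ≫ ρ = ιC := by
    simp only [s, MonObj.mul_comp, Category.assoc, hσρ, hv, hpρ]
    rw [_root_.mul_assoc, inv_mul_cancel, _root_.mul_one]
  have hs' : s.left ≫ ρ.left = (C x).ι := congrArg (fun m : CO ⟶ GX => m.left) hs
  let s₀ : (C x : Scheme.{u}) ⟶ (ρ.left ⁻¹ᵁ C x : Gf.left.Opens) :=
    IsOpenImmersion.lift (ρ.left ⁻¹ᵁ C x).ι s.left (by
      rw [Scheme.Opens.range_ι]
      rintro _ ⟨t, rfl⟩
      show ρ.left (s.left t) ∈ C x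
      rw [← Scheme.Hom.comp_apply, hs']
      exact t.2)
  have hs₀ : s₀ ≫ (ρ.left ∣_ C x) = 𝟙 _ := by
    rw [← cancel_mono (C x).ι, Category.assoc, morphismRestrict_ι, IsOpenImmersion.lift_fac_assoc, hs',
      Category.id_comp]
  haveI : Mono (ρ.left ∣_ C x) :=
    MorphismProperty.of_isPullback (P := MorphismProperty.monomorphisms Scheme.{u})
      (isPullback_morphismRestrict ρ.left (C x)).flip ‹Mono ρ.left›
  haveI : IsIso (ρ.left ∣_ C x) := ⟨s₀, by rw [← cancel_mono (ρ.left ∣_ C x), Category.assoc, hs₀, Category.comp_id, Category.id_comp], hs₀⟩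
  infer_instance

end Groth.Agent.S17837
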