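import Groth.Statements.S17839
import Mathlib
import Groth.Agent.CycLib28.RelDim
import Groth.Agent.CycLib28.StalkGen
import Groth.Agent.CAlgH3.CMRing

set_option autoImplicit false
universe u
open CategoryTheory AlgebraicGeometry
open Cyc

namespace Groth.Agent.S17839

/-- Let S be a locally Noetherian scheme all of whose local rings are regular and universally catenary,
and δS : S → ℤ the function with δS(s) = −dim O_{S,s}. Let f : X ⟶ S be locally of finite type and δ
: X → ℤ the induced function, δ(x) = δS(f x) + trdeg_{κ(f x)} κ(x) — the S-dimension: for X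
irreducible with generic point ξ, δ(ξ) is the transcendence degree of the function field of X over
κ(f ξ) minus dim O_{S, f ξ}. Then δ is a dimension function on X: it drops strictly along every
nontrivial specialization and by exactly one along immediate ones; equivalently, for irreducible
closed subsets V ⊆ W of X with generic points v and w, codim(V, W) = δ(w) − δ(v). (The published
statement fixes S Noetherian, excellent, regular and separated and X separated of finite type over
S; its proof uses only the hypotheses listed.) -/
theorem result {X S : Scheme.{u}} (f : X ⟶ S)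
    [LocallyOfFiniteType f] [IsLocallyNoetherian S]
    (hreg : ∀ s : S, IsRegularLocalRing (S.presheaf.stalk s))
    (huc : ∀ s : S, CAlg.IsUniversallyCatenary (S.presheaf.stalk s))
    (δS : S → ℤ) (hδS : ∀ s : S, ringKrullDim (S.presheaf.stalk s) = ((-δS s).toNat : WithBot ℕ∞) ∧ δS s ≤ 0)
    (δ : X → ℤ) (hδ : Cyc.DeltaCompat f δ δS) :
    Cyc.IsDimFun X δ := by
  have hdimS : Cyc.IsDimFun S δS := by
    intro a b hab hne
    obtain ⟨P, rfl⟩ := CycLim28.exists_fromSpecStalk_eq hab
    haveI := hreg b
    haveI := CAlgH3.isCohenMacaulayLocalRing_of_regular (S.presheaf.stalk b)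
    have h1 := CAlgH3.height_add_ringKrullDim_quotient P.asIdeal
    rw [← CycLib28.ringKrullDim_stalk_eq_height b P, (hδS _).1, (hδS b).1] at h1
    obtain ⟨d, hd⟩ := EGA43.DimFormula.ringKrullDim_quotient_lt_top b P.asIdeal P.2.ne_top
    rw [hd] at h1
    have h2 : (-δS (S.fromSpecStalk b P)).toNat + d = (-δS b).toNat := by exact_mod_cast h1
    have h3 := (hδS b).2
    have h4 := (hδS (S.fromSpecStalk b P)).2
    have hpos : d ≠ 0 := fun h0 => by
      have : Ring.KrullDimLE 0 (S.presheaf.stalk b ⧸ P.asIdeal) := by
        rw [Ring.krullDimLE_iff, hd, h0]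
      have hm : P.asIdeal = IsLocalRing.maximalIdeal _ := IsLocalRing.eq_maximalIdeal
        (Ideal.Quotient.maximal_of_isField _ Ring.KrullDimLE.isField_of_isDomain)
      exact hne ((congrArg (S.fromSpecStalk b) (PrimeSpectrum.ext hm :
        P = IsLocalRing.closedPoint _)).trans Scheme.fromSpecStalk_closedPoint)
    refine ⟨by omega, fun himm => ?_⟩
    have hle : ringKrullDim (S.presheaf.stalk b ⧸ P.asIdeal) ≤ (1 : ℕ) := by
      haveI : Ring.KrullDimLE 1 (S.presheaf.stalk b ⧸ P.asIdeal) := by
        refine CycLib28.krullDimLE_one_quotient P fun Q hQ => ?_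
        rcases himm (S.fromSpecStalk b Q) ((CycLib28.specializes_iff_le b P Q).mpr hQ)
          (CycLim28.fromSpecStalk_specializes b Q) with e | e
        · exact Or.inl (CycLim28.fromSpecStalk_injective b e)
        · exact Or.inr (CycLim28.fromSpecStalk_injective b (e.trans Scheme.fromSpecStalk_closedPoint.symm))
      exact Ring.krullDimLE_iff.mp inferInstance
    rw [hd] at hle
    have hle' : d ≤ 1 := by exact_mod_cast hle
    omega
  exact CycLib28.isDimFun_of_deltaCompat f huc hdimS hδ
end Groth.Agent.S17839
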