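import Groth.Statements.S9400
import Groth.Agent.CAlgH.Nagata
import Mathlib.RingTheory.Localization.Ideal
import Mathlib.RingTheory.Localization.Finiteness

set_option autoImplicit false
universe u
open CAlg

namespace Groth.Agent.S9400

/-- Being a Nagata ring can be checked on a finite cover of Spec R by principal opens. -/
theorem result (R : Type u) [CommRing R]
    {ι : Type u} [Finite ι] (f : ι → R) (hf : Ideal.span (Set.range f) = ⊤)
    (h : ∀ i, CAlg.IsNagata (Localization.Away (f i))) : CAlg.IsNagata R := by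
  refine ⟨⟨fun J => ?_⟩, fun p _ => ?_⟩
  · refine Ideal.fg_of_localizationSpan (Set.range f) hf fun g => ?_
    obtain ⟨_, i, rfl⟩ := g
    have := (h i).1
    exact IsNoetherian.noetherian _
  let ν := {i : ι // f i ∉ p}
  let g : ν → R ⧸ p := fun i => Ideal.Quotient.mk p (f i.1)
  have hg : Ideal.span (Set.range g) = ⊤ := by
    rw [← top_le_iff, ← Ideal.map_top (Ideal.Quotient.mk p), ← hf, Ideal.map_span, Ideal.span_le]
    rintro _ ⟨_, ⟨i, rfl⟩, rfl⟩
    by_cases h0 : f i ∈ p
    · rw [Ideal.Quotient.eq_zero_iff_mem.mpr h0]; exact Ideal.zero_mem _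
    · exact Ideal.subset_span ⟨⟨i, h0⟩, rfl⟩
  let P : ∀ i : ν, Ideal (Localization.Away (f i.1)) := fun i => p.map (algebraMap R _)
  have hP : ∀ i, (P i).IsPrime := fun i =>
    IsLocalization.isPrime_of_isPrime_disjoint (Submonoid.powers (f i.1)) _ p inferInstance
      ((Ideal.disjoint_powers_iff_notMem (f i.1) (Ideal.IsPrime.isRadical inferInstance)).mpr i.2)
  let Rf : ν → Type u := fun i => Localization.Away (f i.1) ⧸ P i
  have : ∀ i, IsDomain (Rf i) := fun i => inferInstanceAs (IsDomain (Localization.Away (f i.1) ⧸ P i))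
  have : ∀ i, IsLocalization.Away (g i) (Rf i) := fun i => by
    have h1 : IsLocalization (Algebra.algebraMapSubmonoid (R ⧸ p) (Submonoid.powers (f i.1))) (Rf i) := inferInstance
    have e : Algebra.algebraMapSubmonoid (R ⧸ p) (Submonoid.powers (f i.1)) = Submonoid.powers (g i) := by
      exact Submonoid.map_powers (algebraMap R (R ⧸ p)) (f i.1)
    rwa [e] at h1
  exact Groth.Agent.CAlgH.isN2_of_cover (R ⧸ p) g hg Rf fun i => (h i.1).2 (P i)

end Groth.Agent.S9400
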