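import Groth.Statements.S9833
import Groth.Agent.S4710
import Groth.Agent.S9400
import Groth.Agent.CAlgH.NagataFiniteType

set_option autoImplicit false
universe u
open CategoryTheory AlgebraicGeometry TopologicalSpace
open Props

namespace Groth.Agent.S9833

/-- If a scheme has an affine open covering by spectra of Nagata rings, then the coordinate ring of
every affine open is Nagata. -/
theorem result (X : Scheme.{u}) {ι : Type u} (U : ι → X.Opens)
    (hU : iSup U = ⊤) (haff : ∀ i, IsAffineOpen (U i)) (hN : ∀ i, CAlg.IsNagata Γ(X, U i))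
    (V : X.Opens) (hV : IsAffineOpen V) : CAlg.IsNagata Γ(X, V) := by
  refine of_affine_open_cover (P := fun W : X.affineOpens => CAlg.IsNagata Γ(X, (W : X.Opens)))
    (fun i => (⟨U i, haff i⟩ : X.affineOpens)) hU ⟨V, hV⟩ (fun W f hW => ?_) (fun W s hs h => ?_) hN
  · have := W.2.isLocalization_basicOpen f
    exact Groth.Agent.CAlgH.isNagata_of_ringEquiv
      (IsLocalization.algEquiv (Submonoid.powers f) (Localization.Away f)
        Γ(X, X.basicOpen f)).toRingEquiv (Groth.Agent.S4710.result _ hW _)
  · refine Groth.Agent.S9400.result _ (fun i : s => (i : Γ(X, (W : X.Opens)))) ?_ fun i => ?_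
    · rw [Subtype.range_coe_subtype]; exact hs
    · have := W.2.isLocalization_basicOpen (i : Γ(X, (W : X.Opens)))
      exact Groth.Agent.CAlgH.isNagata_of_ringEquiv
        (IsLocalization.algEquiv (Submonoid.powers (i : Γ(X, (W : X.Opens))))
          (Localization.Away (i : Γ(X, (W : X.Opens))))
          Γ(X, X.basicOpen (i : Γ(X, (W : X.Opens))))).symm.toRingEquiv (h i)

end Groth.Agent.S9833
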