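import Groth.Statements.S7359
import Groth.Agent.BlowUpLib.Proper
import Groth.Agent.NormalizationLib.Basic
import Groth.Agent.CAlgSmall.NormNagata
import Groth.Agent.S9833

set_option autoImplicit false
set_option backward.isDefEq.respectTransparency.types false
universe u
open CategoryTheory CategoryTheory.Limits AlgebraicGeometry
open Resolve

namespace Groth.Agent.S7359

theorem nagata_of_lft {X Y : Scheme.{u}} (f : Y ⟶ X) [LocallyOfFiniteType f]
    (hN : ∀ U : X.affineOpens, CAlg.IsNagata Γ(X, U.1)) (W : Y.affineOpens) :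
    CAlg.IsNagata Γ(Y, W.1) := by
  have key : ∀ y : Y, ∃ O : Y.Opens, IsAffineOpen O ∧ y ∈ O ∧ CAlg.IsNagata Γ(Y, O) := fun y => by
    obtain ⟨_, ⟨B, hB, rfl⟩, hyB, -⟩ :=
      X.isBasis_affineOpens.exists_subset_of_mem_open (Set.mem_univ (f y)) isOpen_univ
    obtain ⟨_, ⟨O, hO, rfl⟩, hyO, hle⟩ :=
      Y.isBasis_affineOpens.exists_subset_of_mem_open (show y ∈ f ⁻¹ᵁ B from hyB) (f ⁻¹ᵁ B).2
    let _ := (f.appLE B O hle).hom.toAlgebra
    have : Algebra.FiniteType Γ(X, B) Γ(Y, O) := LocallyOfFiniteType.finiteType_appLE (f := f) hB hO hle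
    exact ⟨O, hO, hyO, CAlgH.isNagata_of_finiteType (hN ⟨B, hB⟩) _⟩
  choose O hO hyO hNO using key
  exact S9833.result Y O (eq_top_iff.2 fun y _ => TopologicalSpace.Opens.mem_iSup.2 ⟨y, hyO y⟩) hO hNO
    W.1 W.2

/-- Let X be an integral locally Noetherian Nagata scheme (every affine open has a Nagata coordinate
ring), x ∈ X a closed point, b : X' → X the blowing up of X at x (in the reduced point; X' is again
integral) and X'' → X' the normalization of X'. Then the normalized blowing up X'' is a normal
scheme, is Nagata, and X'' → X is proper. (The quasi-compactness and quasi-separatedness binders on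
Spec K(X') → X' always hold; they are needed only to form the normalization.) -/
theorem result (X : Scheme.{u}) [IsIntegral X] [IsLocallyNoetherian X]
    (hN : ∀ U : X.affineOpens, CAlg.IsNagata Γ(X, U.1)) (x : X) (hx : IsClosed ({x} : Set X))
    (X' : Scheme.{u}) (b : X' ⟶ X) (hb : BlowUp.IsBlowUp b (Scheme.IdealSheafData.vanishingIdeal ⟨{x}, hx⟩)) [IsIntegral X']
    [QuasiCompact (X'.fromSpecStalk (genericPoint X'))] [QuasiSeparated (X'.fromSpecStalk (genericPoint X'))] :
    Pi1.IsNormalScheme (Curv2.normalization X') ∧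
      (∀ U : (Curv2.normalization X').affineOpens, CAlg.IsNagata Γ(Curv2.normalization X', U.1)) ∧
      IsProper (Curv2.normalizationι X' ≫ b) := by
  have hft : BlowUp.IsFiniteTypeIdeal (Scheme.IdealSheafData.vanishingIdeal ⟨{x}, hx⟩) := fun U => by
    have : IsNoetherianRing Γ(X, U.1) := IsLocallyNoetherian.component_noetherian U
    exact IsNoetherian.noetherian _
  have hbp : IsProper b := BlowUpLib.isProper_of_isBlowUp hb hft
  have hN' : ∀ W : X'.affineOpens, CAlg.IsNagata Γ(X', W.1) := nagata_of_lft b hN
  let g : Spec (CommRingCat.of X'.functionField) ⟶ X' := X'.fromSpecStalk (genericPoint X')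
  have hlf : LocallyFinite
      (fun Z : ↥(irreducibleComponents ↥(Spec (X'.presheaf.stalk (genericPoint X')))) =>
        (Z : Set ↥(Spec (X'.presheaf.stalk (genericPoint X'))))) := by
    have : Subsingleton ↥(Spec (X'.presheaf.stalk (genericPoint X'))) :=
      inferInstanceAs (Subsingleton (PrimeSpectrum X'.functionField))
    exact locallyFinite_of_finite _
  have : IsReduced (Spec (X'.presheaf.stalk (genericPoint X'))) :=
    inferInstanceAs (IsReduced (Spec X'.functionField))
  have hfin : IsFinite (X'.fromSpecStalk (genericPoint X')).fromNormalization :=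
    CAlgSmall.NormNagata.isFinite_fromNormalization_of_generic _ hN' hlf fun z _ => by
      refine (RingHom.FiniteType.of_surjective _ ?_).essFiniteType
      intro a
      obtain ⟨a', rfl⟩ := Scheme.residue_surjective _ z a
      obtain ⟨c, rfl⟩ := (X'.fromSpecStalk (genericPoint X')).stalkMap_surjective z a'
      exact ⟨X'.residue _ c, by
        rw [← CategoryTheory.comp_apply, Scheme.residue_residueFieldMap]
        rfl⟩
  refine ⟨?_, ?_, ?_⟩
  · exact NormalizationLib.isNormal (RingHom.id X'.functionField)
      (X'.fromSpecStalk (genericPoint X')) (by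
        show _ = Spec.map (𝟙 _) ≫ _
        simp)
  · have : IsFinite (Curv2.normalizationι X') := hfin
    exact nagata_of_lft (Y := Curv2.normalization X') (Curv2.normalizationι X') hN'
  · have : IsFinite (Curv2.normalizationι X') := hfin
    infer_instance

end Groth.Agent.S7359
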