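import Groth.Statements.S7377
import Groth.Agent.Resolve13.NormPtResolve
import Groth.Agent.Resolve13.NormPtExtend

set_option autoImplicit false
set_option backward.isDefEq.respectTransparency.types false
universe u
open CategoryTheory CategoryTheory.Limits AlgebraicGeometry
open Resolve

namespace Groth.Agent.S7377

open Resolve13

/-- Birationality at generic points composes. -/
theorem birational_comp {A B C : Scheme.{u}} [IsIntegral A] [IsIntegral B] [IsIntegral C] (f : A ⟶ B) (g : B ⟶ C)
    (hfη : f (genericPoint A) = genericPoint B) (hfb : Function.Bijective (f.stalkMap (genericPoint A)))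
    (hgη : g (genericPoint B) = genericPoint C) (hgb : Function.Bijective (g.stalkMap (genericPoint B))) :
    (f ≫ g) (genericPoint A) = genericPoint C ∧ Function.Bijective ((f ≫ g).stalkMap (genericPoint A)) := by
  refine ⟨by rw [Scheme.Hom.comp_apply, hfη, hgη], ?_⟩
  have key : ∀ b : B, b = genericPoint B → Function.Bijective (g.stalkMap b) := by
    rintro b rfl; exact hgb
  rw [Scheme.Hom.stalkMap_comp]
  exact hfb.comp (key _ hfη)

/-- The normalisation is birational at the generic point. -/
theorem birational_normalizationι (X : Scheme.{u}) [IsIntegral X] [QuasiCompact (X.fromSpecStalk (genericPoint X))]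
    [QuasiSeparated (X.fromSpecStalk (genericPoint X))] :
    haveI : IsIntegral (Curv2.normalization X) :=
      inferInstanceAs (IsIntegral (X.fromSpecStalk (genericPoint X)).normalization)
    Curv2.normalizationι X (genericPoint (Curv2.normalization X)) = genericPoint X ∧
      Function.Bijective ((Curv2.normalizationι X).stalkMap (genericPoint (Curv2.normalization X))) := by
  let g := X.fromSpecStalk (genericPoint X)
  have hg : g = Spec.map (CommRingCat.ofHom (RingHom.id X.functionField)) ≫ X.fromSpecStalk (genericPoint X) := by
    show _ = Spec.map (𝟙 _) ≫ _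
    simp [g]
  haveI : IsIntegral g.normalization := inferInstance
  have hη := NormalizationLib.fromNormalization_genericPoint (RingHom.id X.functionField) g hg
  refine ⟨hη, ?_, ?_⟩
  · have : IsField (X.presheaf.stalk (g.fromNormalization (genericPoint g.normalization))) := by
      rw [hη]; exact Field.toIsField X.functionField
    let := this.toField
    exact (g.fromNormalization.stalkMap (genericPoint g.normalization)).hom.injective
  · have h1 := NormalizationLib.surjective_stalkMap g hg (fun x => ⟨x, rfl⟩)
    rw [NormalizationLib.toNormalization_closedPoint g] at h1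
    exact h1

/-- A sequence of normalised point blow-ups of an integral scheme is integral and birational. -/
theorem birational_seq {Y X : Scheme.{u}} {g : Y ⟶ X} (hg : IsNormPtBlowupSeq g) : ∀ [IsIntegral X],
    ∃ _ : IsIntegral Y, g (genericPoint Y) = genericPoint X ∧ Function.Bijective (g.stalkMap (genericPoint Y)) := by
  induction hg with
  | @iso Y' X' e =>
    intro _
    haveI : Nonempty Y' := ⟨e.inv (genericPoint X')⟩
    haveI : IsIntegral Y' := isIntegral_of_isOpenImmersion e.hom
    haveI : IsIso (e.hom ∣_ (⊤ : X'.Opens)) := inferInstance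
    exact ⟨inferInstance, Coherent.birational_of_isIso_morphismRestrict e.hom ⊤ ⟨genericPoint X', trivial⟩⟩
  | @step Z' Z X' _ _ _ b r z hz hb _ ih =>
    intro _
    obtain ⟨hZ, hrη, hrb⟩ := ih
    haveI := hZ
    let J := Scheme.IdealSheafData.vanishingIdeal ⟨{z}, hz⟩
    have hne : J.comap b ≠ ⊥ := fun h0 => by
      obtain ⟨U, hηU, f, hf, hfU⟩ := hb.1 (genericPoint Z')
      haveI : Nonempty (U : Z'.Opens) := ⟨⟨_, hηU⟩⟩
      rw [h0, Scheme.IdealSheafData.ideal_bot] at hfU
      exact nonZeroDivisors.ne_zero hf (Ideal.span_singleton_eq_bot.1 hfU.symm)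
    have hη : b (genericPoint Z') ∈ J.support.compl := fun h => by
      have := Resolve13.genericPoint_notMem_support (J.comap b) hne
      rw [Scheme.IdealSheafData.support_comap] at this
      exact this h
    haveI := SDiv28.isIso_off_center hb
    obtain ⟨hbη, hbb⟩ := Coherent.birational_of_isIso_morphismRestrict b J.support.compl ⟨_, hη⟩
    haveI hint : IsIntegral (Curv2.normalization Z') :=
      inferInstanceAs (IsIntegral (Z'.fromSpecStalk (genericPoint Z')).normalization)
    obtain ⟨hνη, hνb⟩ := birational_normalizationι Z'
    obtain ⟨h1, h2⟩ := birational_comp (Curv2.normalizationι Z') b hνη hνb hbη hbb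
    have h3 := birational_comp (Curv2.normalizationι Z' ≫ b) r h1 h2 hrη hrb
    rw [Category.assoc] at h3
    exact ⟨hint, h3⟩

/-- Let Y be a two-dimensional integral Noetherian scheme. Then Y has a resolution of singularities (a
proper morphism X → Y from an integral scheme with regular local rings which is an isomorphism over
a nonempty open) if and only if Y has a resolution of singularities by normalized blowups: a finite
sequence of normalized blowings up in closed points X_n → … → X_1 → Y^ν, Y^ν → Y the normalization,
with X_n regular and the composite X_n → Y proper. (The published definition of such a resolution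
asks every scheme of the sequence to be proper over Y; this row asks it of the composite X_n → Y,
which suffices for the equivalence. Some properness is needed: without it the right-hand side would
hold whenever Y^ν happens to be regular, even when Y^ν → Y is not finite and Y has no resolution.
The quasi-compactness and quasi-separatedness binders on Spec K(Y) → Y always hold.) -/
theorem result (Y : Scheme.{u}) [IsIntegral Y] [IsNoetherian Y]
    (hdim : topologicalKrullDim Y = 2)
    [QuasiCompact (Y.fromSpecStalk (genericPoint Y))] [QuasiSeparated (Y.fromSpecStalk (genericPoint Y))] :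
    (∃ (X : Scheme.{u}) (g : X ⟶ Y), IsProper g ∧ IsIntegral X ∧
        (∃ V : Y.Opens, (V : Set Y).Nonempty ∧ IsIso (g ∣_ V)) ∧ ∀ x : X, IsRegularLocalRing (X.presheaf.stalk x)) ↔
      ∃ (Xn : Scheme.{u}) (g : Xn ⟶ Curv2.normalization Y), Resolve.IsNormPtBlowupSeq g ∧
        IsProper (g ≫ Curv2.normalizationι Y) ∧ ∀ x : Xn, IsRegularLocalRing (Xn.presheaf.stalk x) := by
  haveI hYi : IsIntegral (Curv2.normalization Y) :=
    inferInstanceAs (IsIntegral (Y.fromSpecStalk (genericPoint Y)).normalization)
  let ν := Curv2.normalizationι Y
  obtain ⟨hνη, hνb⟩ := birational_normalizationι Y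
  have hn : Pi1.IsNormalScheme (Curv2.normalization Y) :=
    NormalizationLib.isNormal (RingHom.id Y.functionField) (Y.fromSpecStalk (genericPoint Y)) (by
      show _ = Spec.map (𝟙 _) ≫ _
      simp)
  have hY2 : ∀ y : Y, ringKrullDim (Y.presheaf.stalk y) ≤ 2 := fun y =>
    (CurvesLib24.stalk_dim_le_topologicalKrullDim _).trans hdim.le
  constructor
  · rintro ⟨X, g, hgp, hXi, hbir, hreg⟩
    haveI := hgp
    haveI := hXi
    haveI : IsLocallyNoetherian X := LocallyOfFiniteType.isLocallyNoetherian g
    haveI : CompactSpace X := QuasiCompact.compactSpace_of_compactSpace g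
    obtain ⟨U, hUne, hU⟩ := id hbir
    haveI := hU
    obtain ⟨hgη, hgb⟩ := Coherent.birational_of_isIso_morphismRestrict g U hUne
    have hX : Models7.RegSurf X := ⟨hXi, inferInstance, inferInstance, hreg, NormPt.dim_le_of_stalks 2 fun x =>
      (Modification.ringKrullDim_stalk_le g hgη hgb x).trans (hY2 _)⟩
    haveI : IsFinite ν := isFinite_normalizationι_of_proper hX.isNormal g hgη
    haveI : IsLocallyNoetherian (Curv2.normalization Y) := LocallyOfFiniteType.isLocallyNoetherian ν
    haveI : CompactSpace (Curv2.normalization Y) := QuasiCompact.compactSpace_of_compactSpace ν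
    haveI : AlgebraicGeometry.IsNoetherian (Curv2.normalization Y) := {}
    have hgood : CAlgSmall.NormalFactor.Good g := CAlgSmall.NormalFactor.good_of_normal g hX.isNormal fun t ht => by
      rw [irreducibleComponents_eq_singleton] at ht
      rw [show t = genericPoint X from ((genericPoint_spec _).eq (show IsGenericPoint t Set.univ from ht)).symm]
      exact hgη
    obtain ⟨p, hp, -⟩ := CAlgSmall.NormalFactor.existsUnique_fac hgood
    haveI : IsProper (p ≫ ν) := by rw [hp]; infer_instance
    haveI : IsProper p := IsProper.of_comp p ν
    obtain ⟨V, hV, hViso⟩ := BMLib.exists_isIso_normalization (X := Y)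
    obtain ⟨Xn, g', hg', hreg'⟩ := NormPt.exists_regular_seq hn
      (fun y => (Modification.ringKrullDim_stalk_le ν hνη hνb y).trans (hY2 _))
      (fun hc => not_isClosed_generic hdim (by rw [← hνη]; simpa using ν.isClosedMap _ hc)) hX p
      (NormPt.exists_isIso_of_comp p ν (hp.symm ▸ hbir) ⟨V, hV.nonempty, hViso⟩)
    haveI := hg'.proper
    exact ⟨Xn, g', hg'.seq, inferInstance, hreg'⟩
  · rintro ⟨Xn, g, hseq, hgp, hreg⟩
    obtain ⟨hXi, hgη, hgb⟩ := birational_seq hseq
    haveI := hXi
    haveI := hgp
    have hXn : Pi1.IsNormalScheme Xn := Models7.isNormalScheme_of_regular hreg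
    obtain ⟨hcη, -⟩ := birational_comp g ν hgη hgb hνη hνb
    haveI : IsFinite ν := isFinite_normalizationι_of_proper hXn (g ≫ ν) hcη
    haveI : IsLocallyNoetherian (Curv2.normalization Y) := LocallyOfFiniteType.isLocallyNoetherian ν
    haveI : IsProper g := IsProper.of_comp g ν
    obtain ⟨W, hW, -, hWdim⟩ := S11555.result g hn hgη hgb
    have hηW : genericPoint (Curv2.normalization Y) ∈ (W : Set (Curv2.normalization Y)) := by
      by_contra h
      have h2 := hWdim _ h
      have h0 : ringKrullDim ((Curv2.normalization Y).presheaf.stalk (genericPoint (Curv2.normalization Y))) = 0 :=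
        ringKrullDim_eq_zero_of_isField (Field.toIsField (Curv2.normalization Y).functionField)
      rw [h0] at h2
      exact absurd h2 (by decide)
    obtain ⟨V, hV, hViso⟩ := BMLib.exists_isIso_normalization (X := Y)
    haveI := hViso
    haveI := hW
    obtain ⟨V', hV'ne, hV'⟩ := RatExt.exists_isIso_comp ν g V hV.nonempty W ⟨_, hηW⟩
    exact ⟨Xn, g ≫ ν, hgp, hXi, ⟨V', hV'ne, hV'⟩, hreg⟩

end Groth.Agent.S7377
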