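import Groth.Statements.S17842
import Groth.Agent.RDPChain13.Lipman
import Groth.Agent.RDPChain13.ResolveSurface
import Groth.Agent.Resolve13.NormPtExtend
import Groth.Agent.S7359
import Groth.Agent.S7377
-- import your own Groth.Agent.* helpers here

set_option autoImplicit false
set_option backward.isDefEq.respectTransparency.types false
set_option linter.style.haveILetI false
universe u
open CategoryTheory AlgebraicGeometry
open Resolve

namespace Groth.Agent.S17842

theorem exists_excellent_chart {Y S : Scheme.{u}} (q : Y ⟶ S) [LocallyOfFiniteType q]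
    (hexc : ∀ U : S.affineOpens, EGA4.IsExcellent Γ(S, U)) (y : Y) :
    ∃ V : Y.Opens, IsAffineOpen V ∧ y ∈ V ∧ EGA4.IsExcellent Γ(Y, V) := by
  obtain ⟨U, hU, hqU, -⟩ := exists_isAffineOpen_mem_and_subset (x := q y) (U := (⊤ : S.Opens)) trivial
  obtain ⟨V, hV, hyV, hVU⟩ := exists_isAffineOpen_mem_and_subset (x := y) (U := q ⁻¹ᵁ U) hqU
  let φ := (q.appLE U V hVU).hom
  letI := φ.toAlgebra
  haveI : Algebra.FiniteType Γ(S, U) Γ(Y, V) := q.finiteType_appLE hU hV hVU
  exact ⟨V, hV, hyV, CommAlg6.isExcellent_of_finiteType Γ(S, U) Γ(Y, V) (hexc ⟨U, hU⟩)⟩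

/-- Let S be a Noetherian separated scheme whose affine opens have excellent coordinate rings and whose
local rings are regular, and let X be an integral scheme, separated and of finite type over S with
dim X ≤ 2 (Krull dimension). Then the alteration assumption A(S, ℤ, ≤ 2) holds for X: there are an
integral scheme X₁ all of whose local rings are regular and a projective morphism φ : X₁ ⟶ X which
is an alteration (proper, dominant, finite over a nonempty open of X) of degree one, that is, an
isomorphism over some nonempty open of X. -/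
theorem result {X S : Scheme.{u}} (p : X ⟶ S)
    [IsNoetherian S] [S.IsSeparated] (hexc : ∀ U : S.affineOpens, EGA4.IsExcellent Γ(S, U))
    (hreg : ∀ s : S, IsRegularLocalRing (S.presheaf.stalk s))
    [IsIntegral X] [IsSeparated p] [LocallyOfFiniteType p] [QuasiCompact p]
    (hdim : topologicalKrullDim ↥X ≤ 2) :
    ∃ (X₁ : Scheme.{u}) (φ : X₁ ⟶ X), IsIntegral X₁ ∧
      (∀ x : X₁, IsRegularLocalRing (X₁.presheaf.stalk x)) ∧ RelProj.IsProjective φ ∧
      Curv2.IsAlteration φ ∧ ∃ V : X.Opens, (V : Set X).Nonempty ∧ IsIso (φ ∣_ V) := by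
  haveI : IsLocallyNoetherian X := LocallyOfFiniteType.isLocallyNoetherian p
  haveI : CompactSpace X := QuasiCompact.compactSpace_of_compactSpace p
  haveI : IsNoetherian X := {}
  have hN : ∀ U : X.affineOpens, CAlg.IsNagata Γ(X, U.1) := S7359.nagata_of_lft p fun U => by
    obtain ⟨h1, -, h2, h3⟩ := hexc U
    exact S2654.result _ ⟨h1, h2, h3⟩
  haveI : QuasiCompact (X.fromSpecStalk (genericPoint X)) := inferInstance
  haveI : QuasiSeparated (X.fromSpecStalk (genericPoint X)) := inferInstance
  haveI hfin : IsFinite (Curv2.normalizationι X) := Resolve13.NormPt.isFinite_normalizationι hN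
  let ν := Curv2.normalizationι X
  haveI hNi : IsIntegral (Curv2.normalization X) :=
    inferInstanceAs (IsIntegral (X.fromSpecStalk (genericPoint X)).normalization)
  have hNn : Pi1.IsNormalScheme (Curv2.normalization X) :=
    NormalizationLib.isNormal (RingHom.id X.functionField) (X.fromSpecStalk (genericPoint X))
      (by rw [show CommRingCat.ofHom (RingHom.id X.functionField) = 𝟙 _ from rfl, Spec.map_id, Category.id_comp])
  haveI : IsLocallyNoetherian (Curv2.normalization X) := LocallyOfFiniteType.isLocallyNoetherian ν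
  haveI : CompactSpace (Curv2.normalization X) := QuasiCompact.compactSpace_of_compactSpace ν
  haveI : IsNoetherian (Curv2.normalization X) := {}
  have hNd : ∀ y : Curv2.normalization X, ringKrullDim ((Curv2.normalization X).presheaf.stalk y) ≤ 2 := fun y =>
    (CurvesLib24.stalk_dim_le_topologicalKrullDim y).trans
      ((AlgSpLib.topologicalKrullDim_le_of_isIntegralHom ν).trans hdim)
  let T : Set (Curv2.normalization X) := {y | ¬ IsRegularLocalRing ((Curv2.normalization X).presheaf.stalk y)}
  have hchart := fun y => exists_excellent_chart (ν ≫ p) hexc y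
  have hT : IsClosed T := by
    refine isOpen_compl_iff.1 (isOpen_iff_forall_mem_open.2 fun y hy => ?_)
    obtain ⟨V, hV, hyV, -, -, -, hJ⟩ := hchart y
    have hloc : ∀ q : PrimeSpectrum Γ(Curv2.normalization X, V),
        q ∈ EGA4.regLocus _ ↔ IsRegularLocalRing ((Curv2.normalization X).presheaf.stalk (hV.fromSpec q)) := fun q => by
      have hmem : hV.fromSpec q ∈ V := by
        have := Set.mem_range_self (f := hV.fromSpec) q
        rwa [hV.range_fromSpec] at this
      letI := (Curv2.normalization X).presheaf.algebra_section_stalk (⟨_, hmem⟩ : V)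
      haveI : IsLocalization q.asIdeal.primeCompl ((Curv2.normalization X).presheaf.stalk (hV.fromSpec q)) :=
        hV.isLocalization_stalk' q hmem
      let e := (IsLocalization.algEquiv q.asIdeal.primeCompl ((Curv2.normalization X).presheaf.stalk (hV.fromSpec q))
        (Localization.AtPrime q.asIdeal)).toRingEquiv
      refine ⟨fun h => ?_, fun h => ?_⟩
      · haveI : IsRegularLocalRing (Localization.AtPrime q.asIdeal) := h
        exact IsRegularLocalRing.of_ringEquiv e.symm
      · exact IsRegularLocalRing.of_ringEquiv e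
    refine ⟨hV.fromSpec '' EGA4.regLocus _, ?_,
      hV.fromSpec.isOpenEmbedding.isOpenMap _ (hJ Γ(Curv2.normalization X, V) inferInstance),
      ⟨hV.primeIdealOf ⟨y, hyV⟩, (hloc _).2 ((hV.fromSpec_primeIdealOf ⟨y, hyV⟩).symm ▸ not_not.1 hy),
        hV.fromSpec_primeIdealOf ⟨y, hyV⟩⟩⟩
    rintro _ ⟨q, hq, rfl⟩
    exact not_not.2 ((hloc q).1 hq)
  have hTfin : T.Finite := VarietyLib.finite_of_forall_isClosed hT fun y hy =>
    (RDPChain13.isClosed_of_dim_two hNd fun h => hy (by
      haveI := (hNn y).1; haveI := (hNn y).2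
      exact CAlgH3.isRegularLocalRing_of_normal_dim_le_one h)).1
  have hc : ∀ y : Curv2.normalization X, IsDomain (Curv2.cpl ((Curv2.normalization X).presheaf.stalk y)) ∧
      IsIntegrallyClosed (Curv2.cpl ((Curv2.normalization X).presheaf.stalk y)) := fun y => by
    obtain ⟨V, hV, hyV, -, -, hG, -⟩ := hchart y
    haveI := (hNn y).1
    haveI := (hNn y).2
    letI := (Curv2.normalization X).presheaf.algebra_section_stalk (⟨y, hyV⟩ : V)
    haveI := hV.isLocalization_stalk ⟨y, hyV⟩
    have hG' : CAlg.IsGRing ((Curv2.normalization X).presheaf.stalk y) :=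
      CAlgH.isGRing_localization (hV.primeIdealOf ⟨y, hyV⟩).asIdeal.primeCompl _ hG
    exact CommAlg6.NormalTensor.isDomain_of_local
      (CAlgH.ExcellentNormal.isNormalRing_adicCompletion _ hG'
        (CAlgH.ExcellentNormal.isNormalRing_of_isIntegrallyClosed _) _)
  obtain ⟨X₁, h, hXi, hproj, ⟨W, hW, hWiso⟩, hregX⟩ :=
    RDPChain13.exists_resolution_of_cpl _ hNn hNd hTfin fun y _ => hc y
  haveI := hXi
  haveI := hWiso
  haveI := RelVALib.isProper_of_isProjective hproj
  obtain ⟨U, hU, hiso⟩ := BMLib.exists_isIso_normalization (X := X)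
  haveI := hiso
  obtain ⟨V, hVne, hV⟩ := Resolve13.RatExt.exists_isIso_comp ν h U hU.nonempty W hW
  haveI := hV
  obtain ⟨hgen, -⟩ := Coherent.birational_of_isIso_morphismRestrict (h ≫ ν) V hVne
  haveI : IsDominant (h ≫ ν) := ⟨fun x => closure_mono (Set.singleton_subset_iff.2 ⟨genericPoint X₁, hgen⟩ :
    ({genericPoint X} : Set X) ⊆ Set.range (h ≫ ν).base) ((genericPoint_spec X).def.ge trivial)⟩
  exact ⟨X₁, h ≫ ν, hXi, hregX, FlatMorAdm.isProjective_comp h ν hproj (RelVALib.isProjective_of_isFinite _),
    ⟨inferInstance, hXi, inferInstance, inferInstance, V, hVne, inferInstance⟩, V, hVne, hV⟩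

end Groth.Agent.S17842
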