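import Groth.Statements.S17843
import Mathlib
import Groth.Prelude

set_option linter.all false

set_option autoImplicit false
universe u v
open CAlg

open IsLocalRing TensorProduct

namespace Groth.Agent.S17843

section
open Polynomial
variable {R : Type u} [CommRing R] (r : R)

noncomputable def scl {S : Type*} [CommRing S] (a : S) : S[X] →ₐ[S] S[X] := aeval (C a * X)

theorem scl_scl {S : Type*} [CommRing S] (a b : S) (p : S[X]) : scl a (scl b p) = scl (a * b) p := by
  refine DFunLike.congr_fun (f := (scl a).comp (scl b)) (Polynomial.algHom_ext ?_) p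
  simp [scl]; ring

theorem map_scl (a : R) (p : R[X]) : (scl a p).map (algebraMap R (Localization.Away r)) =
    scl (algebraMap R (Localization.Away r) a) (p.map (algebraMap R (Localization.Away r))) := by
  induction p using Polynomial.induction_on' with
  | add p q hp hq => rw [map_add, Polynomial.map_add, hp, hq, Polynomial.map_add, map_add]
  | monomial n c => simp [scl, aeval_monomial, mul_pow]

theorem eval_zero_scl {S : Type*} [CommRing S] (a : S) (p : S[X]) : (scl a p).eval 0 = p.eval 0 := by
  induction p using Polynomial.induction_on' with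
  | add p q hp hq => simp [hp, hq]
  | monomial n c => cases n <;> simp [scl, aeval_monomial, mul_pow]

theorem exists_lift_scl (p : (Localization.Away r)[X]) (c : R) (hc : algebraMap R (Localization.Away r) c = p.eval 0) :
    ∃ N, ∀ n, N ≤ n → ∃ P : R[X], P.map (algebraMap R (Localization.Away r)) = scl (algebraMap R (Localization.Away r) (r ^ n)) p ∧
      P.eval 0 = c := by
  let φ := algebraMap R (Localization.Away r)
  obtain ⟨_, ⟨k, rfl⟩, hb⟩ := IsLocalization.integerNormalization_spec (Submonoid.powers r) p.divX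
  let Q := IsLocalization.integerNormalization (Submonoid.powers r) p.divX
  refine ⟨k + 1, fun n hn => ⟨C c + X * C (r ^ (n - k)) * scl (r ^ n) Q, ?_, by simp⟩⟩
  have hQ : scl (φ (r ^ n)) (Q.map φ) = C (φ (r ^ k)) * scl (φ (r ^ n)) p.divX := by
    rw [show Q.map φ = C (φ (r ^ k)) * p.divX by rw [← Polynomial.smul_eq_C_mul, algebraMap_smul]; exact hb, map_mul,
      show scl (φ (r ^ n)) (C (φ (r ^ k))) = C (φ (r ^ k)) from aeval_C _ _]
  conv_rhs => rw [← divX_mul_X_add p, coeff_zero_eq_eval_zero, ← hc]
  rw [map_add, map_mul, show scl (φ (r ^ n)) (C (φ c)) = C (φ c) from aeval_C _ _,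
    show scl (φ (r ^ n)) X = C (φ (r ^ n)) * X from aeval_X _,
    Polynomial.map_add, Polynomial.map_mul, Polynomial.map_mul, map_scl, hQ, map_C, map_C, map_X,
    show n = n - k + k by omega, pow_add, map_mul φ, C_mul]
  simp only [Nat.add_sub_cancel]
  ring

theorem exists_scl_eq_zero (q : R[X]) (h : q.map (algebraMap R (Localization.Away r)) = 0) (h0 : q.eval 0 = 0) :
    ∃ M, ∀ n, M ≤ n → scl (r ^ n) q = 0 := by
  classical
  have hk : ∀ t, ∃ k, r ^ k * q.coeff t = 0 := fun t => by
    have h1 : algebraMap R (Localization.Away r) (q.coeff t) = 0 := by rw [← coeff_map, h, coeff_zero]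
    obtain ⟨⟨_, k, rfl⟩, hk⟩ := (IsLocalization.map_eq_zero_iff (Submonoid.powers r) _ _).1 h1
    exact ⟨k, hk⟩
  choose k hk using hk
  refine ⟨q.support.sup k, fun n hn => ?_⟩
  rw [q.as_sum_support, map_sum]
  refine Finset.sum_eq_zero fun t ht => ?_
  rcases t with _ | t
  · simp [coeff_zero_eq_eval_zero, h0]
  obtain ⟨l, rfl⟩ := Nat.exists_eq_add_of_le ((Finset.le_sup ht).trans hn)
  rw [scl, aeval_monomial, algebraMap_eq, mul_pow, ← mul_assoc, ← C_pow, ← C_mul, pow_succ' (r ^ _) t, pow_add,
    ← mul_assoc (q.coeff _), ← mul_assoc (q.coeff _), mul_comm (q.coeff _), hk]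
  simp
end

/-- In the case of an affine scheme of finite presentation, let B be a finitely presented R-algebra, r ∈
R, and x : B → R[1/r][T] an R-algebra homomorphism whose value at T = 0, a homomorphism B → R[1/r],
is induced by a homomorphism x̃₀ : B → R. Then for every large enough n, the homomorphism x(rⁿT) : B
→ R[1/r][T] is induced by a homomorphism x̃ : B → R[T] whose value at T = 0 is x̃₀. The published
statement is for algebraic spaces locally of finite presentation over R; this row takes an affine
scheme of finite presentation. -/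
theorem result
    (R : Type u) (B : Type v) [CommRing R] [CommRing B] [Algebra R B]
    [Algebra.FinitePresentation R B] (r : R)
    (x : B →ₐ[R] Polynomial (Localization.Away r))
    (x₀ : B →ₐ[R] R)
    (hx₀ : (algebraMap R (Localization.Away r)).comp x₀.toRingHom =
      (Polynomial.evalRingHom 0).comp x.toRingHom) :
    ∃ N : ℕ, ∀ n : ℕ, N ≤ n →
      ∃ y : B →ₐ[R] Polynomial R,
        (Polynomial.evalRingHom 0).comp y.toRingHom = x₀.toRingHom ∧
        (Polynomial.mapRingHom (algebraMap R (Localization.Away r))).comp y.toRingHom =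
          (Polynomial.aeval (Polynomial.C (algebraMap R (Localization.Away r) (r ^ n)) * Polynomial.X) :
              Polynomial (Localization.Away r) →ₐ[Localization.Away r] Polynomial (Localization.Away r)).toRingHom.comp
            x.toRingHom := by
  classical
  obtain ⟨m, f, hf, s, hs⟩ := Algebra.FinitePresentation.out (R := R) (A := B)
  let φ := algebraMap R (Localization.Away r)
  have hxe : ∀ b, φ (x₀ b) = (x b).eval 0 := fun b => RingHom.congr_fun hx₀ b
  choose N hN using fun i => exists_lift_scl r (x (f (MvPolynomial.X i))) _ (hxe _)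
  let N0 := Finset.univ.sup N
  choose P hP hP0 using fun i => hN i N0 (Finset.le_sup (Finset.mem_univ i))
  let F : MvPolynomial (Fin m) R →ₐ[R] Polynomial R := MvPolynomial.aeval P
  have hF0 : ∀ g, (F g).eval 0 = x₀ (f g) := by
    intro g
    refine DFunLike.congr_fun (f := ((Polynomial.aeval (0 : R)).comp F)) (g := x₀.comp f) (MvPolynomial.algHom_ext fun i => ?_) g
    simp [F, hP0]
  have hFm : ∀ g, (F g).map φ = scl (φ (r ^ N0)) (x (f g)) := by
    intro g
    have := MvPolynomial.ringHom_ext (f := (Polynomial.mapRingHom φ).comp F.toRingHom)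
      (g := (scl (φ (r ^ N0))).toRingHom.comp (x.comp f).toRingHom) (fun c => by
        simp [F, φ, scl, Polynomial.algebraMap_eq]) (fun i => by simp [F, hP, φ])
    exact RingHom.congr_fun this g
  choose M hM using fun g : s => exists_scl_eq_zero r (F g.1)
    (by rw [hFm, show f g.1 = 0 from (RingHom.mem_ker).1 (hs ▸ Ideal.subset_span g.2), map_zero, map_zero])
    (by rw [hF0, show f g.1 = 0 from (RingHom.mem_ker).1 (hs ▸ Ideal.subset_span g.2), map_zero])
  let M0 := s.attach.sup M
  refine ⟨N0 + M0, fun n hn => ?_⟩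
  obtain ⟨l, rfl⟩ := Nat.exists_eq_add_of_le (show N0 ≤ n by omega)
  let G : MvPolynomial (Fin m) R →ₐ[R] Polynomial R := ((scl (r ^ l)).restrictScalars R).comp F
  have hker : RingHom.ker f.toRingHom ≤ RingHom.ker G.toRingHom := by
    rw [← hs, Ideal.span_le]
    intro g hg
    exact hM ⟨g, hg⟩ l ((Finset.le_sup (Finset.mem_attach s ⟨g, hg⟩)).trans (by omega))
  let y : B →ₐ[R] Polynomial R := (Ideal.Quotient.liftₐ (RingHom.ker f) G fun a ha => hker ha).comp
    (Ideal.quotientKerAlgEquivOfSurjective hf).symm.toAlgHom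
  have hy : ∀ g, y (f g) = scl (r ^ l) (F g) := fun g => by
    have : (Ideal.quotientKerAlgEquivOfSurjective hf).symm (f g) = Ideal.Quotient.mk (RingHom.ker f) g := by
      rw [AlgEquiv.symm_apply_eq]; rfl
    show Ideal.Quotient.liftₐ (RingHom.ker f) G (fun a ha => hker ha) ((Ideal.quotientKerAlgEquivOfSurjective hf).symm (f g)) = _
    rw [this]; rfl
  refine ⟨y, RingHom.ext fun b => ?_, RingHom.ext fun b => ?_⟩
  · obtain ⟨g, rfl⟩ := hf b
    show (y (f g)).eval 0 = x₀ (f g)
    rw [hy, eval_zero_scl, hF0]
  · obtain ⟨g, rfl⟩ := hf b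
    show (y (f g)).map φ = scl (φ (r ^ (N0 + l))) (x (f g))
    rw [hy, map_scl, hFm, scl_scl, ← map_mul, ← pow_add, add_comm]

end Groth.Agent.S17843
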