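import Groth.Statements.S17849
import Mathlib

set_option linter.all false

set_option autoImplicit false
open CategoryTheory
open GalLat

open CategoryTheory

namespace Groth.Agent.S17849

section
open groupCohomology

theorem isZero_H1_iff {k : Type} [CommRing k] {G : Type} [Group G] (A : Rep.{0} k G) :
    Limits.IsZero (groupCohomology A 1) ↔
      ∀ c : G → A.V, (∀ g h, c (g * h) = A.ρ g (c h) + c g) → ∃ a : A.V, ∀ g, c g = A.ρ g a - a := by
  constructor
  · intro h c hc
    haveI := ModuleCat.isZero_iff_subsingleton.mp h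
    have h0 : H1π A ⟨c, (mem_cocycles₁_iff c).mpr hc⟩ = 0 :=
      @Subsingleton.elim (groupCohomology A 1) _ _ _
    rw [H1π_eq_zero_iff] at h0
    obtain ⟨a, ha⟩ := h0
    exact ⟨a, fun g => (congrFun ha g).symm⟩
  · intro h
    rw [ModuleCat.isZero_iff_subsingleton]
    suffices h0 : ∀ x : H1 A, x = 0 from ⟨fun a b => (h0 a).trans (h0 b).symm⟩
    intro x
    induction x using H1_induction_on with
    | h c =>
      rw [H1π_eq_zero_iff]
      obtain ⟨a, ha⟩ := h c ((mem_cocycles₁_iff c.1).mp c.2)
      exact ⟨a, funext fun g => (ha g).symm⟩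

theorem rep_exact_iff {k : Type} [CommRing k] {G : Type} [Group G] (E : ShortComplex (Rep.{0} k G)) :
    E.Exact ↔ ∀ x : E.X₂.V, E.g.hom x = 0 → ∃ y, E.f.hom y = x := by
  rw [← ShortComplex.exact_map_iff_of_faithful E (forget₂ (Rep.{0} k G) (ModuleCat.{0} k)), ShortComplex.moduleCat_exact_iff]
  rfl

end

theorem coflasque_iff (k : Type) [CommRing k]
    (Γ : Type) [Group Γ] [Finite Γ] (Λ : Rep.{0} k Γ) :
    (∀ Γ' : Subgroup Γ, Limits.IsZero (groupCohomology (Rep.res Γ'.subtype Λ) 1)) ↔
      ∀ (X : Type) [MulAction Γ X] [Finite X] (E : ShortComplex (Rep.{0} k Γ)),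
        E.ShortExact → Nonempty (E.X₁ ≅ Λ) → Nonempty (E.X₃ ≅ Rep.ofMulAction k Γ X) →
          Nonempty E.Splitting := by
  classical
  constructor
  · intro h X _ _ E hE ⟨a⟩ ⟨b⟩
    have hsurj := (Rep.epi_iff_surjective E.g).mp hE.epi_g
    have hinj := (Rep.mono_iff_injective E.f).mp hE.mono_f
    have hex := (rep_exact_iff E).mp hE.exact
    let δ : X → (Rep.ofMulAction k Γ X).V := fun x => MonoidAlgebra.single x 1
    have hfix : ∀ p : X, ∃ e : E.X₂.V, E.g.hom e = b.inv.hom (δ p) ∧
        ∀ g : Γ, g • p = p → E.X₂.ρ g e = e := by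
      intro p
      obtain ⟨e, he⟩ := hsurj (b.inv.hom (δ p))
      let H := MulAction.stabilizer Γ p
      have hk : ∀ g : H, ∃ y, E.f.hom y = E.X₂.ρ (g : Γ) e - e := by
        intro g
        refine hex _ ?_
        rw [map_sub, Rep.hom_comm_apply, he, ← Rep.hom_comm_apply]
        have : (Rep.ofMulAction k Γ X).ρ (g : Γ) (δ p) = δ p := by
          change Representation.ofMulAction k Γ X (g : Γ) (MonoidAlgebra.single p 1) = _
          rw [Representation.ofMulAction_single, show (g : Γ) • p = p from g.2]
        rw [this, sub_self]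
      choose c hc using hk
      have hcc : ∀ g g' : H, c (g * g') = E.X₁.ρ (g : Γ) (c g') + c g := by
        intro g g'
        apply hinj
        change E.f.hom (c (g * g')) = E.f.hom (E.X₁.ρ (g : Γ) (c g') + c g)
        rw [map_add, Rep.hom_comm_apply, hc, hc, hc, Subgroup.coe_mul, map_mul, map_sub]
        simp
      obtain ⟨l, hl⟩ := (isZero_H1_iff _).mp (h H) (fun g => a.hom.hom (c g))
        (fun g g' => by
          change a.hom.hom (c (g * g')) = Λ.ρ (g : Γ) (a.hom.hom (c g')) + a.hom.hom (c g)
          rw [hcc, map_add, Rep.hom_comm_apply])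
      refine ⟨e - E.f.hom (a.inv.hom l), ?_, fun g hg => ?_⟩
      · have : E.g.hom (E.f.hom (a.inv.hom l)) = 0 := by
          exact congrArg (fun m => m.hom (a.inv.hom l)) E.zero
        rw [map_sub, he, this, sub_zero]
      · have h1 : c ⟨g, hg⟩ = E.X₁.ρ g (a.inv.hom l) - a.inv.hom l := by
          have := congrArg a.inv.hom (hl ⟨g, hg⟩)
          simp only [map_sub] at this
          rw [← Rep.hom_comm_apply]
          refine Eq.trans ?_ this
          exact (congrArg (fun m => m.hom (c ⟨g, hg⟩)) a.hom_inv_id).symm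
        have h2 := congrArg E.f.hom h1
        rw [hc, map_sub, Rep.hom_comm_apply] at h2
        rw [map_sub]
        linear_combination (norm := module) h2
    choose e he1 he2 using hfix
    let r : X → X := fun x => (Quotient.mk (MulAction.orbitRel Γ X) x).out
    have hr : ∀ x, ∃ t : Γ, t • r x = x := fun x =>
      MulAction.mem_orbit_iff.mp (MulAction.orbitRel_apply.mp
        (Setoid.symm' _ (Quotient.mk_out (s := MulAction.orbitRel Γ X) x)))
    choose t ht using hr
    have hr' : ∀ (g : Γ) (x : X), r (g • x) = r x := fun g x => by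
      simp only [r]
      rw [Quotient.sound (s := MulAction.orbitRel Γ X) (MulAction.mem_orbit x g)]
    let σ : X → E.X₂.V := fun x => E.X₂.ρ (t x) (e (r x))
    have hσ : ∀ (g : Γ) (x : X), E.X₂.ρ g (σ x) = σ (g • x) := by
      intro g x
      have hst : ((t (g • x))⁻¹ * (g * t x)) • r x = r x := by
        rw [mul_smul, mul_smul, ht, inv_smul_eq_iff]
        conv_rhs => rw [← hr' g x, ht]
      simp only [σ, hr']
      conv_rhs => rw [← he2 _ _ hst]
      rw [← Module.End.mul_apply, ← map_mul, ← Module.End.mul_apply (E.X₂.ρ _), ← map_mul, mul_inv_cancel_left]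
    let L : MonoidAlgebra k X →ₗ[k] E.X₂.V :=
      (Finsupp.linearCombination k σ).comp (MonoidAlgebra.coeffLinearEquiv k).toLinearMap
    have hL : ∀ (x : X) (n : k), L (MonoidAlgebra.single x n) = n • σ x := fun x n => by
      simp [L]
    let s' : Rep.ofMulAction k Γ X ⟶ E.X₂ := Rep.ofHom
      { toLinearMap := L
        isIntertwining' := fun g => by
          apply LinearMap.ext
          intro p
          induction p using MonoidAlgebra.induction_linear with
          | zero => simp
          | add p q hp hq => simp only [map_add, hp, hq]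
          | single x n =>
            change L (Representation.ofMulAction k Γ X g (MonoidAlgebra.single x n)) = E.X₂.ρ g (L (MonoidAlgebra.single x n))
            rw [Representation.ofMulAction_single, hL, hL, map_smul, hσ] }
    have hs' : s' ≫ E.g = b.inv := by
      apply Rep.hom_ext
      apply Representation.IntertwiningMap.ext
      apply LinearMap.ext
      intro p
      change E.g.hom (L p) = b.inv.hom p
      induction p using MonoidAlgebra.induction_linear with
      | zero => simp
      | add p q hp hq => simp only [map_add, hp, hq]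
      | single x n =>
        rw [hL, map_smul]
        have hxn : (MonoidAlgebra.single x n : MonoidAlgebra k X) = n • MonoidAlgebra.single x 1 := by simp
        rw [hxn, map_smul]
        congr 1
        simp only [σ, Rep.hom_comm_apply, he1, ← Rep.hom_comm_apply b.inv]
        change b.inv.hom (Representation.ofMulAction k Γ X (t x) (MonoidAlgebra.single (r x) 1)) = _
        rw [Representation.ofMulAction_single, ht]
    haveI := hE.mono_f
    exact ⟨ShortComplex.Splitting.ofExactOfSection E hE.exact (b.hom ≫ s')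
      (by rw [Category.assoc, hs', Iso.hom_inv_id]) hE.mono_f⟩
  · intro h H
    rw [isZero_H1_iff]
    intro c hc
    have hc' : ∀ g g' : H, c (g * g') = Λ.ρ (g : Γ) (c g') + c g := hc
    let s : Γ ⧸ H → Γ := Quotient.out
    have hs : ∀ (g : Γ) (y : Γ ⧸ H), (s (g • y))⁻¹ * (g * s y) ∈ H := fun g y => by
      rw [← QuotientGroup.eq, QuotientGroup.out_eq']
      conv_lhs => rw [← QuotientGroup.out_eq' y]
      rfl
    let C : Γ → Γ ⧸ H → Λ.V := fun g y => Λ.ρ (s (g • y)) (c ⟨_, hs g y⟩)
    have hC : ∀ g g' y, C (g * g') y = Λ.ρ g (C g' y) + C g (g' • y) := by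
      intro g g' y
      have e1 : (⟨_, hs (g * g') y⟩ : H) = ⟨_, hs g (g' • y)⟩ * ⟨_, hs g' y⟩ := by
        ext
        simp only [Subgroup.coe_mul, mul_smul]
        group
      simp only [C]
      rw [e1, hc', map_add, mul_smul]
      congr 1
      simp only [← Module.End.mul_apply, ← map_mul]
      congr 2
      group
    let L : Γ → (MonoidAlgebra k (Γ ⧸ H) →ₗ[k] Λ.V) := fun g =>
      (Finsupp.linearCombination k (C g)).comp (MonoidAlgebra.coeffLinearEquiv k).toLinearMap
    have hL : ∀ g x (n : k), L g (MonoidAlgebra.single x n) = n • C g x := fun g x n => by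
      simp [L]
    have hLmul : ∀ g g' p, L (g * g') p = Λ.ρ g (L g' p) + L g (Representation.ofMulAction k Γ (Γ ⧸ H) g' p) := by
      intro g g' p
      induction p using MonoidAlgebra.induction_linear with
      | zero => simp
      | add p q hp hq => simp only [map_add, hp, hq]; abel
      | single x n => rw [Representation.ofMulAction_single, hL, hL, hL, hC, smul_add, map_smul]
    let op : Γ → ((Λ.V × MonoidAlgebra k (Γ ⧸ H)) →ₗ[k] (Λ.V × MonoidAlgebra k (Γ ⧸ H))) := fun g =>
      LinearMap.prod ((Λ.ρ g).comp (LinearMap.fst k _ _) + (L g).comp (LinearMap.snd k _ _))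
        ((Representation.ofMulAction k Γ (Γ ⧸ H) g).comp (LinearMap.snd k _ _))
    have op_mul : ∀ g g' x, op (g * g') x = op g (op g' x) := by
      intro g g' x
      apply Prod.ext
      · change Λ.ρ (g * g') x.1 + L (g * g') x.2 = Λ.ρ g (Λ.ρ g' x.1 + L g' x.2) + L g _
        rw [hLmul, map_mul, map_add, Module.End.mul_apply, add_assoc]
        rfl
      · change Representation.ofMulAction k Γ (Γ ⧸ H) (g * g') x.2 = _
        rw [map_mul]; rfl
    have op_one : ∀ x, op 1 x = x := by
      intro x
      have hL1 : L 1 x.2 = 0 := by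
        have := hLmul 1 1 x.2
        rw [mul_one, map_one, map_one, Module.End.one_apply, Module.End.one_apply] at this
        exact left_eq_add.mp this
      apply Prod.ext
      · change Λ.ρ 1 x.1 + L 1 x.2 = x.1
        rw [hL1, map_one, add_zero]; rfl
      · change Representation.ofMulAction k Γ (Γ ⧸ H) 1 x.2 = x.2
        rw [map_one]; rfl
    let ρE : Representation k Γ (Λ.V × MonoidAlgebra k (Γ ⧸ H)) :=
      { toFun := op
        map_one' := LinearMap.ext op_one
        map_mul' := fun g g' => LinearMap.ext (op_mul g g') }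
    let fE : Λ ⟶ Rep.of ρE := Rep.ofHom
      { toLinearMap := LinearMap.inl k _ _
        isIntertwining' := fun g => LinearMap.ext fun x => by
          change (Λ.ρ g x, (0 : MonoidAlgebra k (Γ ⧸ H))) = op g (x, 0)
          simp [op] }
    let gE : Rep.of ρE ⟶ Rep.ofMulAction k Γ (Γ ⧸ H) := Rep.ofHom
      { toLinearMap := LinearMap.snd k _ _
        isIntertwining' := fun g => LinearMap.ext fun x => rfl }
    let E : ShortComplex (Rep k Γ) := ShortComplex.mk fE gE (by
      apply Rep.hom_ext
      apply Representation.IntertwiningMap.ext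
      apply LinearMap.ext
      intro x
      rfl)
    have hE : E.ShortExact :=
      { exact := (rep_exact_iff E).mpr fun x hx => ⟨x.1, Prod.ext rfl hx.symm⟩
        mono_f := (Rep.mono_iff_injective fE).mpr fun x y hxy => congrArg Prod.fst hxy
        epi_g := (Rep.epi_iff_surjective gE).mpr fun p => ⟨(0, p), rfl⟩ }
    obtain ⟨spl⟩ := h (Γ ⧸ H) E hE ⟨Iso.refl _⟩ ⟨Iso.refl _⟩
    let y0 : Γ ⧸ H := ((1 : Γ) : Γ ⧸ H)
    let d0 : MonoidAlgebra k (Γ ⧸ H) := MonoidAlgebra.single y0 1
    let v : Λ.V × MonoidAlgebra k (Γ ⧸ H) := spl.s.hom d0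
    have hv : v.2 = d0 := congrArg (fun m => m.hom d0) spl.s_g
    refine ⟨Λ.ρ ((s y0)⁻¹) (-v.1), fun g => ?_⟩
    change c g = Λ.ρ (g : Γ) _ - _
    -- apply the section to the element fixed by `k`
    have hs0 : s y0 ∈ H := by
      have := hs (s y0) y0
      have e : (s y0) • y0 = y0 := by
        change (((s y0) * 1 : Γ) : Γ ⧸ H) = y0
        rw [mul_one]; exact QuotientGroup.out_eq' y0
      rw [e] at this
      simpa using this
    let kk : Γ := s y0 * g * (s y0)⁻¹
    have hkH : kk ∈ H := H.mul_mem (H.mul_mem hs0 g.2) (H.inv_mem hs0)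
    have hky : kk • y0 = y0 := by
      change ((kk * 1 : Γ) : Γ ⧸ H) = y0
      exact QuotientGroup.eq.mpr (by rw [mul_one, mul_one]; exact H.inv_mem hkH)
    have hd : Representation.ofMulAction k Γ (Γ ⧸ H) kk d0 = d0 := by
      rw [Representation.ofMulAction_single, hky]
    have hfix : op kk v = v := by
      have := Rep.hom_comm_apply spl.s kk d0
      change spl.s.hom (Representation.ofMulAction k Γ (Γ ⧸ H) kk d0) = op kk v at this
      rw [hd] at this
      exact this.symm
    have h1 : Λ.ρ kk v.1 + L kk v.2 = v.1 := congrArg Prod.fst hfix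
    rw [hv, hL, one_smul] at h1
    have hCk : C kk y0 = Λ.ρ (s y0) (c g) := by
      simp only [C, hky]
      congr 2
      ext
      simp only [hky, kk]
      group
    rw [hCk] at h1
    have h2 := congrArg (Λ.ρ (s y0)⁻¹) h1
    simp only [map_add, ← Module.End.mul_apply, ← map_mul, inv_mul_cancel, kk, ← mul_assoc, one_mul, map_one, Module.End.one_apply] at h2
    rw [map_neg, map_neg, ← Module.End.mul_apply, ← map_mul]
    linear_combination (norm := module) h2

/-- For a finite group Γ and a Γ-lattice Λ (finitely generated free ℤ-module with Γ-action) the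
following are equivalent: (i) H¹(Γ', Λ) = 0 for every subgroup Γ' ≤ Γ; (ii) Ext¹ over ℤ[Γ] of P into
Λ vanishes for every permutation lattice P = ℤ[X], X a finite Γ-set. Condition (ii) is stated
through Yoneda extensions: every short exact sequence 0 → Λ' → E → P → 0 of ℤ-linear
Γ-representations with Λ' ≅ Λ and P ≅ ℤ[X] splits. (These are the lattices called coflasque.) The
group, the lattice and the Γ-sets are taken in the lowest universe. -/
theorem result
    (Γ : Type) [Group Γ] [Finite Γ] (Λ : Rep ℤ Γ) [Module.Free ℤ Λ.V] [Module.Finite ℤ Λ.V] :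
    (∀ Γ' : Subgroup Γ, Limits.IsZero (groupCohomology (Rep.res Γ'.subtype Λ) 1)) ↔
      ∀ (X : Type) [MulAction Γ X] [Finite X] (E : ShortComplex (Rep ℤ Γ)),
        E.ShortExact → Nonempty (E.X₁ ≅ Λ) → Nonempty (E.X₃ ≅ Rep.ofMulAction ℤ Γ X) →
          Nonempty E.Splitting := by
  exact coflasque_iff ℤ Γ Λ

end Groth.Agent.S17849
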