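import Groth.Statements.S17853
import Mathlib
import Groth.Agent.CommAlg4.IdemSim
import Groth.Agent.CommAlg4.Horrocks
import Groth.Agent.CommAlg4.P1Bundle

set_option linter.all false

set_option autoImplicit false
open Polynomial LaurentPolynomial TensorProduct
universe u
open CAlg

open Polynomial TensorProduct

namespace Groth.Agent.S17853

/-- For an arbitrary commutative ring A, a finitely generated projective A[t]-module M is extended from
A (isomorphic to A[t] ⊗_A P for an A-module P) if and only if it extends to a vector bundle on the
projective line over A. The latter is stated by gluing: there are a finitely generated projective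
module N over the polynomial ring of the chart at infinity and an isomorphism over the Laurent
polynomial ring between the localisation of M and the base change of N along s ↦ t⁻¹, written as a
bijective additive map A[t,t⁻¹] ⊗ M → A[t,t⁻¹] ⊗ N that is semilinear with respect to the A-algebra
involution t ↦ t⁻¹ of A[t,t⁻¹]. (The published statement adds: for A semilocal, M is then free on
each connected component of the affine line.) -/
theorem result
    (A : Type u) [CommRing A] (M : Type u) [AddCommGroup M] [Module A[X] M]
    [Module.Finite A[X] M] [Module.Projective A[X] M] :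
    (∃ (P : Type u) (_ : AddCommGroup P) (_ : Module A P), Nonempty (M ≃ₗ[A[X]] (A[X] ⊗[A] P))) ↔
      ∃ (N : Type u) (_ : AddCommGroup N) (_ : Module A[X] N),
        Module.Finite A[X] N ∧ Module.Projective A[X] N ∧
        ∃ e : (A[T;T⁻¹] ⊗[A[X]] M) →ₛₗ[(LaurentPolynomial.invert (R := A)).toRingEquiv.toRingHom]
            (A[T;T⁻¹] ⊗[A[X]] N), Function.Bijective e := by
  constructor
  · rintro ⟨P, _, _, ⟨φ⟩⟩
    have : IsScalarTower A A[X] (LaurentPolynomial A) :=
      IsScalarTower.of_algebraMap_eq fun r => (Polynomial.toLaurent_C r).symm
    let ψ : (LaurentPolynomial A ⊗[A[X]] M) ≃ₗ[LaurentPolynomial A]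
        (LaurentPolynomial A ⊗[A] P) :=
      (LinearEquiv.baseChange A[X] (LaurentPolynomial A) M (A[X] ⊗[A] P) φ).trans
        (AlgebraTensorModule.cancelBaseChange A A[X] (LaurentPolynomial A) (LaurentPolynomial A) P)
    let σ : (LaurentPolynomial A ⊗[A] P) ≃ₗ[A] (LaurentPolynomial A ⊗[A] P) :=
      TensorProduct.congr (LaurentPolynomial.invert (R := A)).toLinearEquiv (LinearEquiv.refl A P)
    have hσ : ∀ (a : LaurentPolynomial A) z,
        σ (a • z) = LaurentPolynomial.invert a • σ z := by
      intro a z
      induction z using TensorProduct.induction_on with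
      | zero => simp
      | tmul b q => simp [σ, TensorProduct.smul_tmul']
      | add z w hz hw => simp [smul_add, hz, hw]
    refine ⟨M, inferInstance, inferInstance, inferInstance, inferInstance,
      { toFun := fun z => ψ.symm (σ (ψ z))
        map_add' := fun z w => by simp
        map_smul' := fun a z => by rw [map_smul, hσ, map_smul]; rfl }, ?_⟩
    exact ψ.symm.bijective.comp (σ.bijective.comp ψ.bijective)
  · rintro ⟨N, _, _, _, _, e, he⟩
    obtain ⟨P, i1, i2, -, -, h⟩ := Groth.Agent.CommAlg4.P1Bundle.exists_extended M N
      (AddEquiv.ofBijective e.toAddMonoidHom he) (fun a z => e.map_smulₛₗ a z)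
    exact ⟨P, i1, i2, h⟩

end Groth.Agent.S17853
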