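import Groth.Statements.S17854
import Groth.Agent.HenselLib.EtaleChart
import Mathlib.RingTheory.Jacobson.Ring
import Mathlib.LinearAlgebra.Dimension.Free
import Mathlib.RingTheory.LocalRing.ResidueField.Basic

set_option autoImplicit false
open TensorProduct
universe u
open EtAlg

namespace Groth.Agent.S17854

/-- In the case of a base with finite residue field, let k be a local ring whose residue field is
finite, R a finitely presented k-algebra and m a maximal ideal of R over the maximal ideal of k such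
that R is smooth over k at m of relative dimension d > 0 (the module of Kähler differentials of R
over k has rank d at m). Then there are g ∉ m and an étale k-algebra homomorphism φ : k[x₁, …, x_d]
→ R[1/g] which induces an isomorphism of residue fields at m, i.e. k[x₁, …, x_d] → R[1/g]/m R[1/g]
is surjective. The published statement is for any local ring k; this row takes the residue field of
k finite. -/
theorem result
    (k : Type u) [CommRing k] [IsLocalRing k] [Finite (IsLocalRing.ResidueField k)]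
    (R : Type u) [CommRing R] [Algebra k R] [Algebra.FinitePresentation k R]
    (m : Ideal R) [m.IsMaximal] (hm : m.comap (algebraMap k R) = IsLocalRing.maximalIdeal k)
    [Algebra.IsSmoothAt k m] (d : ℕ) (hd : 0 < d)
    (hdim : Module.finrank (R ⧸ m) ((R ⧸ m) ⊗[R] KaehlerDifferential k R) = d) :
    ∃ g : R, g ∉ m ∧ ∃ φ : MvPolynomial (Fin d) k →ₐ[k] Localization.Away g,
      φ.toRingHom.Etale ∧
      Function.Surjective
        ((Ideal.Quotient.mk (m.map (algebraMap R (Localization.Away g)))).comp φ.toRingHom) := by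
  classical
  let k₀ := IsLocalRing.ResidueField k
  letI := Ideal.Quotient.field m
  haveI hfin : Finite (R ⧸ m) := by
    let ι : k₀ →+* R ⧸ m := Ideal.Quotient.lift (IsLocalRing.maximalIdeal k)
      ((Ideal.Quotient.mk m).comp (algebraMap k R)) (fun c hc => by
        rw [← hm] at hc
        exact Ideal.Quotient.eq_zero_iff_mem.mpr hc)
    letI := ι.toAlgebra
    haveI : IsScalarTower k k₀ (R ⧸ m) := IsScalarTower.of_algebraMap_eq fun c => rfl
    haveI : Algebra.FiniteType k₀ (R ⧸ m) := Algebra.FiniteType.of_restrictScalars_finiteType k k₀ (R ⧸ m)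
    haveI : Module.Finite k₀ (R ⧸ m) := finite_of_finite_type_of_isJacobsonRing k₀ (R ⧸ m)
    exact Module.finite_of_finite k₀
  obtain ⟨θ, hθ⟩ := IsCyclic.exists_generator (α := (R ⧸ m)ˣ)
  have hθpow : ∀ c : R ⧸ m, c = 0 ∨ ∃ j : ℕ, (θ : R ⧸ m) ^ j = c := by
    intro c
    rcases eq_or_ne c 0 with h | h
    · exact Or.inl h
    · right
      obtain ⟨j, hj⟩ := (mem_powers_iff_mem_zpowers (x := θ) (y := Units.mk0 c h)).mpr (hθ _)
      refine ⟨j, ?_⟩
      rw [← Units.val_pow_eq_pow_val]
      exact congrArg Units.val hj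
  obtain ⟨θ₀, hθ₀⟩ := Ideal.Quotient.mk_surjective (I := m) (θ : R ⧸ m)
  haveI : Module.Finite (R ⧸ m) ((R ⧸ m) ⊗[R] KaehlerDifferential k R) :=
    Module.finite_of_finrank_pos (by rw [hdim]; exact hd)
  let e := Module.finBasisOfFinrankEq _ _ hdim
  let i₀ : Fin d := ⟨0, hd⟩
  let t : Fin d → R := fun i => if i = i₀ then θ₀ else 0
  choose a ha ha' using fun i => Groth.Agent.HenselLib.EtaleChart.exists_mem_D_eq (k := k) m
    (e i - (1 : R ⧸ m) ⊗ₜ[R] KaehlerDifferential.D k R (t i))
  let s : Fin d → R := fun i => t i + a i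
  obtain ⟨g, hg, het⟩ := Groth.Agent.HenselLib.EtaleChart.exists_etale_of_basis m s e (fun i => by
    simp only [s]
    rw [map_add, tmul_add, ha', add_sub_cancel])
  refine ⟨g, hg, MvPolynomial.aeval (algebraMap R (Localization.Away g) ∘ s), het, ?_⟩
  intro y
  obtain ⟨y, rfl⟩ := Ideal.Quotient.mk_surjective y
  obtain ⟨⟨r, ⟨w, n, hw⟩⟩, hy⟩ := IsLocalization.surj (Submonoid.powers g) y
  obtain ⟨c, hc⟩ : ∃ c : R, c * w - 1 ∈ m := by
    have hw0 : Ideal.Quotient.mk m w ≠ 0 := by
      rw [← hw, map_pow]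
      exact pow_ne_zero _ (fun h => hg (Ideal.Quotient.eq_zero_iff_mem.mp h))
    obtain ⟨c, hc⟩ := Ideal.Quotient.mk_surjective (Ideal.Quotient.mk m w)⁻¹
    exact ⟨c, by rw [← Ideal.Quotient.eq_zero_iff_mem, map_sub, map_mul, hc, inv_mul_cancel₀ hw0, map_one, sub_self]⟩
  let mT := m.map (algebraMap R (Localization.Away g))
  have hmem : ∀ {u v : R}, Ideal.Quotient.mk m u = Ideal.Quotient.mk m v →
      Ideal.Quotient.mk mT (algebraMap R _ u) = Ideal.Quotient.mk mT (algebraMap R _ v) := fun h => by
    rw [Ideal.Quotient.eq, ← map_sub]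
    exact Ideal.mem_map_of_mem _ (Ideal.Quotient.eq.mp h)
  have hy' : Ideal.Quotient.mk mT y = Ideal.Quotient.mk mT (algebraMap R _ (r * c)) := by
    have h1 : Ideal.Quotient.mk mT (algebraMap R _ (c * w)) = 1 := by
      rw [hmem (v := 1) (Ideal.Quotient.eq.mpr hc), map_one, map_one]
    rw [map_mul, map_mul, ← hy]
    rw [map_mul, map_mul] at h1
    rw [map_mul, mul_assoc, mul_comm (Ideal.Quotient.mk mT (algebraMap R _ w)), h1, mul_one]
  rcases hθpow (Ideal.Quotient.mk m (r * c)) with h | ⟨j, hj⟩
  · refine ⟨0, ?_⟩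
    rw [map_zero, hy', hmem (v := 0) (by rw [h, map_zero]), map_zero, map_zero]
  · refine ⟨MvPolynomial.X i₀ ^ j, ?_⟩
    rw [RingHom.comp_apply, map_pow, map_pow]
    show (Ideal.Quotient.mk mT (MvPolynomial.aeval (algebraMap R (Localization.Away g) ∘ s) (MvPolynomial.X i₀))) ^ j = _
    rw [MvPolynomial.aeval_X, hy', ← map_pow, Function.comp_apply, ← map_pow]
    refine hmem ?_
    rw [map_pow, ← hj]
    congr 1
    simp only [s, t, if_true]
    rw [map_add, Ideal.Quotient.eq_zero_iff_mem.mpr (ha i₀), add_zero, hθ₀]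

end Groth.Agent.S17854
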