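import Groth.Statements.S17855
import Groth.Agent.KerEval.Scale

set_option autoImplicit false
open CategoryTheory CategoryTheory.Limits MonoidalCategory CartesianMonoidalCategory MonObj GrpObj AlgebraicGeometry
universe u
open NonAbH1

namespace Groth.Agent.S17855


open Polynomial KerEval

variable {R : Type u} [CommRing R]

/-- `Spec` of an algebra, over the base -/
noncomputable abbrev pt (C : Type u) [CommRing C] [Algebra R C] :
    Over (Spec (CommRingCat.of R)) :=
  Over.mk (Spec.map (CommRingCat.ofHom (algebraMap R C)))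

noncomputable def om {C C' : Type u} [CommRing C] [Algebra R C] [CommRing C'] [Algebra R C']
    (φ : C →ₐ[R] C') : pt (R := R) C' ⟶ pt (R := R) C :=
  Over.homMk (sp φ.toRingHom) (by
    show sp φ.toRingHom ≫ sp (algebraMap R C) = sp (algebraMap R C')
    rw [← sp_comp, AlgHom.toRingHom_eq_coe, AlgHom.comp_algebraMap])

lemma om_comp {C C' C'' : Type u} [CommRing C] [Algebra R C] [CommRing C'] [Algebra R C']
    [CommRing C''] [Algebra R C''] (φ : C →ₐ[R] C') (ψ : C' →ₐ[R] C'') :
    om ψ ≫ om φ = om (ψ.comp φ) := by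
  apply Over.OverMorphism.ext
  show sp ψ.toRingHom ≫ sp φ.toRingHom = sp (ψ.comp φ).toRingHom
  rw [← sp_comp]; rfl

/-- evaluation of polynomials -/
noncomputable def pev {C C' : Type u} [CommRing C] [Algebra R C] [CommRing C'] [Algebra R C']
    (φ : C →ₐ[R] C') (x : C') : C[X] →ₐ[R] C' :=
  { eval₂RingHom φ.toRingHom x with
    commutes' := fun r => by simp [Polynomial.algebraMap_apply] }

@[simp] lemma pev_C {C C' : Type u} [CommRing C] [Algebra R C] [CommRing C'] [Algebra R C']
    (φ : C →ₐ[R] C') (x : C') (c : C) : pev φ x (Polynomial.C c) = φ c :=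
  Polynomial.eval₂_C φ.toRingHom x

@[simp] lemma pev_X {C C' : Type u} [CommRing C] [Algebra R C] [CommRing C'] [Algebra R C']
    (φ : C →ₐ[R] C') (x : C') : pev φ x Polynomial.X = x :=
  Polynomial.eval₂_X φ.toRingHom x

lemma pext {C C' : Type u} [CommRing C] [Algebra R C] [CommRing C'] [Algebra R C']
    {f g : C[X] →ₐ[R] C'} (h : ∀ c, f (Polynomial.C c) = g (Polynomial.C c))
    (hX : f Polynomial.X = g Polynomial.X) : f = g :=
  AlgHom.coe_ringHom_injective (Polynomial.ringHom_ext h hX)

/-- coefficientwise map -/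
noncomputable abbrev pmap {C C' : Type u} [CommRing C] [Algebra R C] [CommRing C'] [Algebra R C']
    (φ : C →ₐ[R] C') : C[X] →ₐ[R] C'[X] :=
  pev ((CAlgHom (R := R)).comp φ) Polynomial.X

/-- `X ↦ c X` -/
noncomputable abbrev pscale {C : Type u} [CommRing C] [Algebra R C] (c : C) : C[X] →ₐ[R] C[X] :=
  pev CAlgHom (Polynomial.C c * Polynomial.X)

lemma toRingHom_pscale {C : Type u} [CommRing C] [Algebra R C] (c : C) :
    (pscale (R := R) c).toRingHom = scale c :=
  Polynomial.ringHom_ext (fun a => by simp [scale_C]) (by simp [scale_X])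

lemma toRingHom_pmap {C C' : Type u} [CommRing C] [Algebra R C] [CommRing C'] [Algebra R C']
    (φ : C →ₐ[R] C') : (pmap (R := R) φ).toRingHom = Polynomial.mapRingHom φ.toRingHom :=
  Polynomial.ringHom_ext (fun a => by simp) (by simp)

/-- the evaluation at `0` -/
noncomputable abbrev pzero (C : Type u) [CommRing C] [Algebra R C] : C[X] →ₐ[R] C :=
  pev (AlgHom.id R C) 0

lemma toRingHom_pzero {C : Type u} [CommRing C] [Algebra R C] :
    (pzero (R := R) C).toRingHom = Polynomial.evalRingHom (0 : C) :=
  Polynomial.ringHom_ext (fun a => by simp) (by simp)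

variable (G : Over (Spec (CommRingCat.of R))) [GrpObj G] [LocallyOfFinitePresentation G.hom]

/-- the lifting lemma for points of `G` -/
theorem exists_lift (A₀ A₁ : Type u) [CommRing A₀] [CommRing A₁] [Algebra R A₀] [Algebra R A₁]
    [Algebra A₀ A₁] [IsScalarTower R A₀ A₁] (s : A₀) [IsLocalization.Away s A₁]
    (h : pt (R := R) A₁[X] ⟶ G) (hh : om (pzero A₁) ≫ h = 1) :
    ∃ (N : ℕ) (h₀ : pt (R := R) A₀[X] ⟶ G), om (pzero A₀) ≫ h₀ = 1 ∧
      om (pmap (IsScalarTower.toAlgHom R A₀ A₁)) ≫ h₀ =
        om (pscale (algebraMap A₀ A₁ s ^ N)) ≫ h := by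
  have hcomm : sp (algebraMap A₀ A₁) ≫ (1 : pt (R := R) A₀ ⟶ G).left =
      sp (Polynomial.evalRingHom (0 : A₁)) ≫ h.left := by
    rw [← toRingHom_pzero (R := R)]
    exact congrArg (fun k : pt (R := R) A₁ ⟶ G => k.left)
      ((MonObj.comp_one (M := G) (om (IsScalarTower.toAlgHom R A₀ A₁))).trans hh.symm)
  obtain ⟨N, g, hg, hg0, hg1⟩ := exists_lift_scale A₁ s G.hom h.left (Over.w h)
    (1 : pt (R := R) A₀ ⟶ G).left (Over.w _) hcomm
  refine ⟨N, Over.homMk g hg, ?_, ?_⟩
  · apply Over.OverMorphism.ext
    rw [Over.comp_left]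
    show sp (pzero (R := R) A₀).toRingHom ≫ g = _
    rw [toRingHom_pzero]; exact hg0
  · apply Over.OverMorphism.ext
    rw [Over.comp_left, Over.comp_left]
    show sp (pmap (IsScalarTower.toAlgHom R A₀ A₁)).toRingHom ≫ g =
      sp (pscale (R := R) (algebraMap A₀ A₁ s ^ N)).toRingHom ≫ h.left
    rw [toRingHom_pmap, toRingHom_pscale]
    exact hg1

omit [LocallyOfFinitePresentation G.hom] in
lemma comp_quot {X Y : Over (Spec (CommRingCat.of R))} (k : X ⟶ Y) (f g : Y ⟶ G) :
    k ≫ (f * g⁻¹) = (k ≫ f) * (k ≫ g)⁻¹ := by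
  rw [MonObj.comp_mul, GrpObj.comp_inv]

omit G in
theorem away_of_away_mul (r r' : R) (A' B : Type u) [CommRing A'] [CommRing B] [Algebra R A']
    [Algebra R B] [Algebra A' B] [IsScalarTower R A' B] [IsLocalization.Away r' A']
    [IsLocalization.Away (r * r') B] : IsLocalization.Away (algebraMap R A' r) B := by
  let T := Localization.Away (algebraMap R A' r)
  haveI : IsLocalization.Away (r * r') T := IsLocalization.Away.mul A' T r' r
  let e : T ≃ₐ[R] B := IsLocalization.algEquiv (Submonoid.powers (r * r')) T B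
  have he : (e.toAlgHom.comp (IsScalarTower.toAlgHom R A' T)) = IsScalarTower.toAlgHom R A' B :=
    IsLocalization.algHom_ext (Submonoid.powers r') (Subsingleton.elim _ _)
  let e' : T ≃ₐ[A'] B := AlgEquiv.ofRingEquiv (f := e.toRingEquiv) fun x => AlgHom.congr_fun he x
  exact IsLocalization.isLocalization_of_algEquiv _ e'

/-- For a group scheme locally of finite presentation, let R be a ring, G an R-group scheme locally of
finite presentation over S = Spec R, and r, r' ∈ R generating the unit ideal; let A = R[1/r], A' =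
R[1/r'], B = R[1/rr']. For an R-algebra C write G₀(C) for the set of S-morphisms Spec C[T] → G whose
restriction along T ↦ 0 (the S-morphism Spec C → Spec C[T]) is the unit. Then G₀(B) = G₀(A)·G₀(A'):
every g ∈ G₀(B) is the product, in the group of Spec B[T]-points of G, of the pullback of some g₁ ∈
G₀(A) and the pullback of some g₂ ∈ G₀(A') along Spec B[T] → Spec A[T], Spec A'[T]. The S-morphisms
induced by T ↦ 0 and by the localisation maps are taken as data determined by their underlying
scheme maps. The published statement also allows more general group functors and graded algebras. -/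
theorem result
    (R : Type u) [CommRing R]
    (G : Over (Spec (CommRingCat.of R))) [GrpObj G] [LocallyOfFinitePresentation G.hom]
    (r r' : R) (hrr : Ideal.span ({r, r'} : Set R) = ⊤)
    (A A' B : Type u) [CommRing A] [CommRing A'] [CommRing B] [Algebra R A] [Algebra R A'] [Algebra R B]
    [IsLocalization.Away r A] [IsLocalization.Away r' A'] [IsLocalization.Away (r * r') B]
    [Algebra A B] [Algebra A' B] [IsScalarTower R A B] [IsScalarTower R A' B]
    (eA : Over.mk (Spec.map (CommRingCat.ofHom (algebraMap R (A)))) ⟶ Over.mk (Spec.map (CommRingCat.ofHom (algebraMap R (Polynomial A)))))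
    (heA : eA.left = Spec.map (CommRingCat.ofHom (Polynomial.evalRingHom (0 : A))))
    (eA' : Over.mk (Spec.map (CommRingCat.ofHom (algebraMap R (A')))) ⟶ Over.mk (Spec.map (CommRingCat.ofHom (algebraMap R (Polynomial A')))))
    (heA' : eA'.left = Spec.map (CommRingCat.ofHom (Polynomial.evalRingHom (0 : A'))))
    (eB : Over.mk (Spec.map (CommRingCat.ofHom (algebraMap R (B)))) ⟶ Over.mk (Spec.map (CommRingCat.ofHom (algebraMap R (Polynomial B)))))
    (heB : eB.left = Spec.map (CommRingCat.ofHom (Polynomial.evalRingHom (0 : B))))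
    (tA : Over.mk (Spec.map (CommRingCat.ofHom (algebraMap R (Polynomial B)))) ⟶ Over.mk (Spec.map (CommRingCat.ofHom (algebraMap R (Polynomial A)))))
    (htA : tA.left = Spec.map (CommRingCat.ofHom (Polynomial.mapRingHom (algebraMap A B))))
    (tA' : Over.mk (Spec.map (CommRingCat.ofHom (algebraMap R (Polynomial B)))) ⟶ Over.mk (Spec.map (CommRingCat.ofHom (algebraMap R (Polynomial A')))))
    (htA' : tA'.left = Spec.map (CommRingCat.ofHom (Polynomial.mapRingHom (algebraMap A' B))))
    (g : Over.mk (Spec.map (CommRingCat.ofHom (algebraMap R (Polynomial B)))) ⟶ G) (hg : eB ≫ g = 1) :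
    ∃ (g₁ : Over.mk (Spec.map (CommRingCat.ofHom (algebraMap R (Polynomial A)))) ⟶ G) (g₂ : Over.mk (Spec.map (CommRingCat.ofHom (algebraMap R (Polynomial A')))) ⟶ G),
      eA ≫ g₁ = 1 ∧ eA' ≫ g₂ = 1 ∧ g = (tA ≫ g₁) * (tA' ≫ g₂) := by

  haveI hB' : IsLocalization.Away (algebraMap R A' r) B := away_of_away_mul r r' A' B
  haveI : IsLocalization.Away (r' * r) B := by rwa [mul_comm]
  haveI hB : IsLocalization.Away (algebraMap R A r') B := away_of_away_mul r' r A B
  have eA0 : eA = om (pzero A) := by
    apply Over.OverMorphism.ext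
    rw [heA]; exact (congrArg sp (toRingHom_pzero (R := R) (C := A))).symm
  have eA'0 : eA' = om (pzero A') := by
    apply Over.OverMorphism.ext
    rw [heA']; exact (congrArg sp (toRingHom_pzero (R := R) (C := A'))).symm
  have eB0 : eB = om (pzero B) := by
    apply Over.OverMorphism.ext
    rw [heB]; exact (congrArg sp (toRingHom_pzero (R := R) (C := B))).symm
  have tA0 : tA = om (pmap (IsScalarTower.toAlgHom R A B)) := by
    apply Over.OverMorphism.ext
    rw [htA]; exact (congrArg sp (toRingHom_pmap (R := R) (IsScalarTower.toAlgHom R A B))).symm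
  have tA'0 : tA' = om (pmap (IsScalarTower.toAlgHom R A' B)) := by
    apply Over.OverMorphism.ext
    rw [htA']; exact (congrArg sp (toRingHom_pmap (R := R) (IsScalarTower.toAlgHom R A' B))).symm
  subst eA0 eA'0 eB0 tA0 tA'0
  -- lift `g(r ^ N T)` to `A'`
  obtain ⟨N₁, k₂, hk₂, hk₂'⟩ := exists_lift G A' B (algebraMap R A' r) g hg
  -- the two-variable quotient `g (X + Y) / g X`
  let cc : B →ₐ[R] B[X][X] := CAlgHom.comp CAlgHom
  let ψ₁ : B[X] →ₐ[R] B[X][X] := pev cc (Polynomial.C Polynomial.X + Polynomial.X)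
  let ψ₀ : B[X] →ₐ[R] B[X][X] := pev cc (Polynomial.C Polynomial.X)
  let H : pt (R := R) B[X][X] ⟶ G := (om ψ₁ ≫ g) * (om ψ₀ ≫ g)⁻¹
  have hH : om (pzero B[X]) ≫ H = 1 := by
    have e : (pzero (R := R) B[X]).comp ψ₁ = (pzero (R := R) B[X]).comp ψ₀ :=
      pext (fun c => by simp [ψ₁, ψ₀, cc]) (by simp [ψ₁, ψ₀, cc])
    rw [comp_quot, ← Category.assoc, ← Category.assoc, om_comp, om_comp, e]
    exact mul_inv_cancel _
  letI : Algebra A[X] B[X] := (Polynomial.mapRingHom (algebraMap A B)).toAlgebra
  haveI : IsScalarTower R A[X] B[X] := IsScalarTower.of_algebraMap_eq fun x => by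
    rw [RingHom.algebraMap_toAlgebra, Polynomial.algebraMap_apply, Polynomial.algebraMap_apply,
      Polynomial.coe_mapRingHom, Polynomial.map_C, ← IsScalarTower.algebraMap_apply]
  haveI : IsLocalization.Away (Polynomial.C (algebraMap R A r')) B[X] := by
    have := Polynomial.isLocalization (Submonoid.powers (algebraMap R A r')) B
    rw [Submonoid.map_powers] at this
    exact this
  obtain ⟨N₂, k₁, hk₁, hk₁'⟩ :=
    exists_lift G A[X] B[X] (Polynomial.C (algebraMap R A r')) H hH
  obtain ⟨a, b, hab⟩ : ∃ a b : R, a * r ^ N₁ + b * r' ^ N₂ = 1 := by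
    obtain ⟨a, b, h⟩ := Ideal.mem_span_pair.mp (show (1 : R) ∈ Ideal.span {r, r'} by rw [hrr]; exact Submodule.mem_top)
    exact (IsCoprime.pow (m := N₁) (n := N₂) ⟨a, b, h⟩ : IsCoprime _ _)
  let θ : A[X][X] →ₐ[R] A[X] :=
    pev (pscale (algebraMap R A (a * r ^ N₁))) (Polynomial.C (algebraMap R A b) * Polynomial.X)
  let θB : B[X][X] →ₐ[R] B[X] :=
    pev (pscale (algebraMap R B (a * r ^ N₁))) (Polynomial.C (algebraMap R B b) * Polynomial.X)
  refine ⟨om θ ≫ k₁, om (pscale (algebraMap R A' a)) ≫ k₂, ?_, ?_, ?_⟩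
  · have e : (pzero (R := R) A).comp θ = (pzero (R := R) A).comp (pzero A[X]) := by
      refine pext (fun c => ?_) (by simp [θ])
      have : (pzero (R := R) A).comp (pscale (algebraMap R A (a * r ^ N₁))) = pzero A :=
        pext (fun c => by simp) (by simp)
      simpa [θ] using AlgHom.congr_fun this c
    rw [← Category.assoc, om_comp, e, ← om_comp, Category.assoc, hk₁, MonObj.comp_one]
  · have e : (pzero (R := R) A').comp (pscale (algebraMap R A' a)) = pzero A' :=
      pext (fun c => by simp) (by simp)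
    rw [← Category.assoc, om_comp, e, hk₂]
  · have e₁ : (pmap (IsScalarTower.toAlgHom R A B)).comp θ =
        θB.comp (pmap (IsScalarTower.toAlgHom R A[X] B[X])) := by
      refine pext (fun c => ?_) (by
        simp [θ, θB, ← IsScalarTower.algebraMap_apply R A B])
      have : (pmap (IsScalarTower.toAlgHom R A B)).comp (pscale (algebraMap R A (a * r ^ N₁))) =
          (pscale (algebraMap R B (a * r ^ N₁))).comp (IsScalarTower.toAlgHom R A[X] B[X]) :=
        pext (fun c => by simp [RingHom.algebraMap_toAlgebra])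
          (by simp [RingHom.algebraMap_toAlgebra, ← IsScalarTower.algebraMap_apply R A B])
      simpa [θ, θB] using AlgHom.congr_fun this c
    have es : (algebraMap A[X] B[X] (Polynomial.C (algebraMap R A r'))) ^ N₂ =
        Polynomial.C (algebraMap R B (r' ^ N₂)) := by
      rw [RingHom.algebraMap_toAlgebra, Polynomial.coe_mapRingHom, Polynomial.map_C,
        ← IsScalarTower.algebraMap_apply, map_pow, map_pow]
    have hsum : algebraMap R B (a * r ^ N₁) + algebraMap R B (r' ^ N₂) * algebraMap R B b = 1 := by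
      rw [← map_mul, ← map_add, mul_comm (r' ^ N₂) b, hab, map_one]
    have e₂ : (θB.comp (pscale (algebraMap A[X] B[X] (Polynomial.C (algebraMap R A r')) ^ N₂))).comp ψ₁ =
        AlgHom.id R B[X] := by
      refine pext (fun c => by simp [θB, ψ₁, cc]) ?_
      simp only [θB, ψ₁, cc, es, AlgHom.comp_apply, pev_X, pev_C, map_add, map_mul, CAlgHom_apply,
        AlgHom.id_apply]
      have h := congrArg (fun x => Polynomial.C x * (Polynomial.X : B[X])) hsum
      simp only [map_add, map_mul, map_one, one_mul] at h ⊢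
      linear_combination h
    have e₃ : (θB.comp (pscale (algebraMap A[X] B[X] (Polynomial.C (algebraMap R A r')) ^ N₂))).comp ψ₀ =
        pscale (algebraMap R B (a * r ^ N₁)) :=
      pext (fun c => by simp [θB, ψ₀, cc]) (by simp [θB, ψ₀, cc])
    have e₄ : (pmap (IsScalarTower.toAlgHom R A' B)).comp (pscale (algebraMap R A' a)) =
        (pscale (algebraMap R B a)).comp (pmap (IsScalarTower.toAlgHom R A' B)) :=
      pext (fun c => by simp) (by simp [← IsScalarTower.algebraMap_apply R A' B])
    have e₅ : (pscale (R := R) (algebraMap R B a)).comp (pscale (algebraMap A' B (algebraMap R A' r) ^ N₁)) =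
        pscale (algebraMap R B (a * r ^ N₁)) :=
      pext (fun c => by simp)
        (by simp [← IsScalarTower.algebraMap_apply R A' B, map_mul, map_pow]; ring)
    have h₁ : om (pmap (IsScalarTower.toAlgHom R A B)) ≫ om θ ≫ k₁ =
        g * (om (pscale (algebraMap R B (a * r ^ N₁))) ≫ g)⁻¹ := by
      rw [← Category.assoc, om_comp, e₁, ← om_comp, Category.assoc, hk₁', ← Category.assoc, om_comp,
        comp_quot, ← Category.assoc, ← Category.assoc, om_comp, om_comp, e₂, e₃]
      congr 1
      have : om (AlgHom.id R B[X]) = 𝟙 (pt (R := R) B[X]) := by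
        apply Over.OverMorphism.ext
        show sp (RingHom.id B[X]) = 𝟙 _
        exact (congrArg Spec.map CommRingCat.ofHom_id).trans (Spec.map_id _)
      rw [this, Category.id_comp]
    have h₂ : om (pmap (IsScalarTower.toAlgHom R A' B)) ≫ om (pscale (algebraMap R A' a)) ≫ k₂ =
        om (pscale (algebraMap R B (a * r ^ N₁))) ≫ g := by
      rw [← Category.assoc, om_comp, e₄, ← om_comp, Category.assoc, hk₂', ← Category.assoc, om_comp, e₅]
    rw [h₁, h₂]
    exact (inv_mul_cancel_right g _).symm

end Groth.Agent.S17855
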