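import Groth.Statements.S17859
import Mathlib.LinearAlgebra.Contraction
import Mathlib.RingTheory.Finiteness.Projective
import Mathlib.RingTheory.Finiteness.Basic
-- import your own Groth.Agent.* helpers here

set_option autoImplicit false
open CategoryTheory MonoidalCategory
universe u
open Algz

namespace Groth.Agent.S17859

/-- Over an affine scheme, that is for modules over a commutative ring `R`, a finitely generated
projective `R`-module `M`, viewed as an object of the monoidal category of `R`-modules (tensor
product over `R`), has a right dual. (The published statement is the equivalence, for quasi-coherent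
sheaves on a quasi-compact quasi-separated scheme, between being dualizable and being a vector
bundle; stated here is the affine case of the implication from vector bundle to dualizable. The
converse implication, that a module admitting a dual is finitely generated projective, is stated
separately and is not repeated here.) -/
theorem result (R : Type u) [CommRing R] (M : ModuleCat.{u} R)
    [Module.Finite R M] [Module.Projective R M] : Nonempty (HasRightDual M) := by
  classical
  obtain ⟨n, p, s, hps⟩ : ∃ (n : ℕ) (p : (Fin n → R) →ₗ[R] M) (s : M →ₗ[R] (Fin n → R)), p ∘ₗ s = LinearMap.id := by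
    obtain ⟨n, p, hp⟩ := Module.Finite.exists_fin' R M
    obtain ⟨s, hs⟩ := Module.projective_lifting_property p LinearMap.id hp
    exact ⟨n, p, s, hs⟩
  let e : Fin n → M := fun i => p (Pi.single i 1)
  let d : Fin n → Module.Dual R M := fun i => (LinearMap.proj i).comp s
  have hexp : ∀ x : M, ∑ i, d i x • e i = x := fun x => by
    have h1 : p (∑ i, (s x i) • (Pi.single i 1 : Fin n → R)) = x := by
      rw [← pi_eq_sum_univ' (s x)]
      exact LinearMap.congr_fun hps x
    rw [map_sum] at h1
    simpa [d, e, map_smul] using h1
  have hdual : ∀ g : Module.Dual R M, ∑ i, g (e i) • d i = g := fun g => LinearMap.ext fun x => by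
    conv_rhs => rw [← hexp x, map_sum]
    simp [mul_comm]
  refine ⟨{ rightDual := ModuleCat.of R (Module.Dual R M), exact :=
    { coevaluation' := ModuleCat.ofHom (LinearMap.toSpanSingleton R _ (∑ i, e i ⊗ₜ[R] d i))
      evaluation' := ModuleCat.ofHom (contractLeft R M)
      coevaluation_evaluation' := ?_
      evaluation_coevaluation' := ?_ } }⟩
  · apply ModuleCat.MonoidalCategory.tensor_ext
    intro g c
    change LinearMap.rTensor _ (contractLeft R M) ((TensorProduct.assoc R _ _ _).symm
      (g ⊗ₜ[R] (c • ∑ i, e i ⊗ₜ[R] d i))) = (1 : R) ⊗ₜ[R] (c • g)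
    simp only [Finset.smul_sum, TensorProduct.tmul_sum, map_sum, TensorProduct.tmul_smul, map_smul,
      TensorProduct.assoc_symm_tmul, LinearMap.rTensor_tmul, contractLeft_apply]
    rw [← Finset.smul_sum]
    congr 1
    conv_rhs => rw [← hdual g, TensorProduct.tmul_sum]
    exact Finset.sum_congr rfl fun i _ => by
      rw [← TensorProduct.smul_tmul, smul_eq_mul, mul_one]
  · apply ModuleCat.MonoidalCategory.tensor_ext
    intro c x
    change LinearMap.lTensor _ (contractLeft R M) ((TensorProduct.assoc R _ _ _)
      ((c • ∑ i, e i ⊗ₜ[R] d i) ⊗ₜ[R] x)) = (c • x) ⊗ₜ[R] (1 : R)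
    simp only [Finset.smul_sum, TensorProduct.sum_tmul, map_sum, ← TensorProduct.smul_tmul', map_smul,
      TensorProduct.assoc_tmul, LinearMap.lTensor_tmul, contractLeft_apply]
    rw [← Finset.smul_sum]
    congr 1
    conv_rhs => rw [← hexp x, TensorProduct.sum_tmul]
    exact Finset.sum_congr rfl fun i _ => by
      rw [TensorProduct.smul_tmul, smul_eq_mul, mul_one]

end Groth.Agent.S17859
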