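import Groth.Statements.S17862
import Groth.Agent.AlgzPiLib.PiPoints
-- import your own Groth.Agent.* helpers here

set_option autoImplicit false
open CategoryTheory AlgebraicGeometry
universe u
open Algz

namespace Groth.Agent.S17862

/-- Let `S` be an affine scheme, `X` a quasi-compact and quasi-separated algebraic space over `S`, and
`A i` a family of commutative rings indexed by an arbitrary type, with a morphism `h` from the
spectrum of the product ring to `S`. Two `S`-morphisms `Spec (Π i, A i) ⟶ X` that agree after
composition with every `Spec (A i) ⟶ Spec (Π i, A i)` are equal. (For schemes this is the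
injectivity half of the corresponding bijection; the algebraic-space case is the one stated here.
Over an affine base, relative and absolute quasi-separatedness agree.) -/
theorem result (S : Scheme.{u}) [IsAffine S]
    (X : AlgSp.Space S) (hqc : AlgSp.IsQuasiCompactSp X.obj) (hqs : AlgSp.IsQuasiSeparatedSp X.obj)
    {ι : Type u} (A : ι → CommRingCat.{u}) (h : Spec (CommRingCat.of (∀ i, A i)) ⟶ S) :
    Function.Injective (fun g : (AlgSp.ofScheme S).obj (Over.mk h) ⟶ X => fun i : ι =>
      (AlgSp.ofScheme S).map (Over.homMk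
        (Spec.map (CommRingCat.ofHom (Pi.evalRingHom (fun j => (A j : Type u)) i)))
        rfl : Over.mk (Spec.map (CommRingCat.ofHom (Pi.evalRingHom (fun j => (A j : Type u)) i)) ≫ h) ⟶
          Over.mk h) ≫ g) := by
  intro g₁ g₂ hg
  have hd := hqs.1
  let G₁ : (AlgSp.yon S).obj (Over.mk h) ⟶ X.obj := g₁.hom
  let G₂ : (AlgSp.yon S).obj (Over.mk h) ⟶ X.obj := g₂.hom
  let pr := Limits.prod.lift G₁ G₂
  have : CompactSpace (Over.mk h).left := inferInstanceAs (CompactSpace (Spec (CommRingCat.of (∀ i, A i))))
  have : QuasiSeparatedSpace (Over.mk h).left :=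
    inferInstanceAs (QuasiSeparatedSpace (Spec (CommRingCat.of (∀ i, A i))))
  let e := hd.snd pr
  have hsq := hd.isPullback pr
  have he : QuasiCompact e.left := hqs.property_snd pr
  have hm : Mono e := by
    have : Mono ((AlgSp.yon S).map e) := MorphismProperty.IsStableUnderBaseChange.of_isPullback
      (P := MorphismProperty.monomorphisms _) hsq (MorphismProperty.monomorphisms.infer_property (Limits.diag X.obj))
    exact (AlgSp.yon S).mono_of_mono_map this
  have : Mono e.left := inferInstance
  have : QuasiSeparated e.left := inferInstance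
  have : CompactSpace (hd.pullback pr).left := he.compactSpace_of_compactSpace e.left
  have : QuasiSeparatedSpace (hd.pullback pr).left := quasiSeparatedSpace_of_quasiSeparated e.left
  let T : ι → Over S := fun i =>
    Over.mk (Spec.map (CommRingCat.ofHom (Pi.evalRingHom (fun j => (A j : Type u)) i)) ≫ h)
  let j : ∀ i, T i ⟶ Over.mk h := fun i => Over.homMk
    (Spec.map (CommRingCat.ofHom (Pi.evalRingHom (fun j => (A j : Type u)) i))) rfl
  have hj : ∀ i, ∃ a : T i ⟶ hd.pullback pr, a ≫ e = j i := fun i => by
    have h12 : (AlgSp.yon S).map (j i) ≫ G₁ = (AlgSp.yon S).map (j i) ≫ G₂ :=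
      congrArg InducedCategory.Hom.hom (congr_fun hg i)
    refine ⟨hd.lift ((AlgSp.yon S).map (j i) ≫ G₁) (j i) ?_, hd.lift_snd _ _ _⟩
    apply Limits.prod.hom_ext <;> simp [pr, h12]
  choose a ha using hj
  obtain ⟨s, hs⟩ := Groth.Agent.AlgzPiLib.pointsPi_surjective A (hd.pullback pr).left fun i => (a i).left
  have hse : s ≫ e.left = 𝟙 _ := pointsPi_injective A _ (funext fun i => by
    have h1 := congr_fun hs i
    simp only [pointsPi] at h1 ⊢
    rw [← Category.assoc, h1, Category.comp_id]
    exact congrArg CommaMorphism.left (ha i))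
  let σ : Over.mk h ⟶ hd.pullback pr := Over.homMk s (by
    rw [← Over.w e, ← Category.assoc, hse]
    exact Category.id_comp _)
  have hσ : σ ≫ e = 𝟙 _ := Over.OverMorphism.ext hse
  have h1 : pr = (AlgSp.yon S).map σ ≫ hd.fst pr ≫ Limits.diag X.obj := by
    rw [hd.w, ← Category.assoc, ← Functor.map_comp, hσ]
    erw [CategoryTheory.Functor.map_id]
    exact (Category.id_comp _).symm
  have hf : G₁ = (AlgSp.yon S).map σ ≫ hd.fst pr :=
    (Limits.prod.lift_fst G₁ G₂).symm.trans ((congrArg (fun t => t ≫ Limits.prod.fst) h1).trans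
      ((Category.assoc _ _ _).trans ((congrArg (fun t => _ ≫ t) (Category.assoc _ _ _)).trans
        (congrArg (fun t => _ ≫ t) ((congrArg (fun t => _ ≫ t) (Limits.prod.lift_fst _ _)).trans (Category.comp_id _))))))
  have hsn : G₂ = (AlgSp.yon S).map σ ≫ hd.fst pr :=
    (Limits.prod.lift_snd G₁ G₂).symm.trans ((congrArg (fun t => t ≫ Limits.prod.snd) h1).trans
      ((Category.assoc _ _ _).trans ((congrArg (fun t => _ ≫ t) (Category.assoc _ _ _)).trans
        (congrArg (fun t => _ ≫ t) ((congrArg (fun t => _ ≫ t) (Limits.prod.lift_snd _ _)).trans (Category.comp_id _))))))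
  exact InducedCategory.hom_ext (hf.trans hsn.symm)

end Groth.Agent.S17862
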