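import Groth.Statements.S17861
import Groth.Agent.S17862
import Groth.Agent.AlgzPiLib.FiniteRatCharts
-- import your own Groth.Agent.* helpers here

set_option autoImplicit false
open CategoryTheory AlgebraicGeometry
universe u
open Algz

namespace Groth.Agent.S17861

set_option backward.isDefEq.respectTransparency.types false
set_option backward.isDefEq.respectTransparency false
open Groth.Agent.AlgSpLib Groth.Agent.Desc19b.HensSp Groth.Agent.AlgzPiLib AlgSp

/-- Let `S` be an affine scheme, `X` a quasi-compact and quasi-separated algebraic space over `S`, and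
`A i` a family of henselian local rings indexed by an arbitrary type, with a morphism `h` from the
spectrum of the product ring `Π i, A i` to `S` (so that each `Spec (A i)` is an `S`-scheme through
the projection). Sending an `S`-morphism `Spec (Π i, A i) ⟶ X` to the family of its composites with
the morphisms `Spec (A i) ⟶ Spec (Π i, A i)` is a bijection onto the set of families of
`S`-morphisms `Spec (A i) ⟶ X`. (Over an affine base, quasi-separatedness relative to `S` agrees
with the absolute notion.) -/
theorem result (S : Scheme.{u}) [IsAffine S]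
    (X : AlgSp.Space S) (hqc : AlgSp.IsQuasiCompactSp X.obj) (hqs : AlgSp.IsQuasiSeparatedSp X.obj)
    {ι : Type u} (A : ι → CommRingCat.{u}) [∀ i, HenselianLocalRing (A i)]
    (h : Spec (CommRingCat.of (∀ i, A i)) ⟶ S) :
    Function.Bijective (fun g : (AlgSp.ofScheme S).obj (Over.mk h) ⟶ X => fun i : ι =>
      (AlgSp.ofScheme S).map (Over.homMk
        (Spec.map (CommRingCat.ofHom (Pi.evalRingHom (fun j => (A j : Type u)) i)))
        rfl : Over.mk (Spec.map (CommRingCat.ofHom (Pi.evalRingHom (fun j => (A j : Type u)) i)) ≫ h) ⟶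
          Over.mk h) ≫ g) := by
  refine ⟨Groth.Agent.S17862.result S X hqc hqs A h, fun z => ?_⟩
  have : QuasiSeparatedSpace ↥S := inferInstance
  obtain ⟨V, f, hV, hf, hlift⟩ := exists_rat_chart X hqc hqs
  have := hV
  let str : ∀ i, Spec (A i) ⟶ S := fun i =>
    Spec.map (CommRingCat.ofHom (Pi.evalRingHom (fun j => (A j : Type u)) i)) ≫ h
  let j : ∀ i, Over.mk (str i) ⟶ Over.mk h := fun i => Over.homMk
    (Spec.map (CommRingCat.ofHom (Pi.evalRingHom (fun j => (A j : Type u)) i))) rfl
  have hg : ∀ i, ∃ g : Over.mk (str i) ⟶ V, (yon S).map g ≫ f = (z i).hom := fun i => by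
    obtain ⟨v, hv⟩ := hlift _ _ ((yon S).map (clIncl (R := (A i : Type u)) (str i)) ≫ (z i).hom)
    obtain ⟨g, -, hg⟩ := exists_chart_lift (R := (A i : Type u)) f hf (z i).hom v hv
    exact ⟨g, hg⟩
  choose g hg using hg
  obtain ⟨u, hu⟩ := Groth.Agent.AlgzPiLib.pointsPi_surjective A V.left fun i => (g i).left
  have hu' : u ≫ V.hom = h := pointsPi_injective A S (funext fun i => by
    have h1 := congr_fun hu i
    simp only [pointsPi] at h1 ⊢
    rw [← Category.assoc, h1]
    exact Over.w (g i))
  let G : Over.mk h ⟶ V := Over.homMk u hu'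
  refine ⟨InducedCategory.homMk ((yon S).map G ≫ f), funext fun i => InducedCategory.hom_ext ?_⟩
  show (yon S).map (j i) ≫ (yon S).map G ≫ f = (z i).hom
  rw [← Functor.map_comp_assoc, ← hg i]
  congr 2
  exact Over.OverMorphism.ext (congr_fun hu i)

end Groth.Agent.S17861
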