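import Groth.Statements.S17863
import Mathlib.AlgebraicGeometry.QuasiAffine
import Mathlib.RingTheory.AdicCompletion.RingHom
-- import your own Groth.Agent.* helpers here

set_option autoImplicit false
open CategoryTheory AlgebraicGeometry
universe u
open Algz

namespace Groth.Agent.S17863

/-- Let `A` be a commutative ring which is `I`-adically complete for an ideal `I` and let `X` be a
quasi-affine scheme. Then the natural map from `X(A)` to compatible systems in the `X(A/I^n)` is
bijective: two morphisms `Spec A ⟶ X` with the same restriction to every `Spec (A/I^n)` are equal,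
and every family of morphisms `Spec (A/I^n) ⟶ X` compatible with the transition maps `Spec (A/I^n) ⟶
Spec (A/I^(n+1))` is the family of restrictions of a morphism `Spec A ⟶ X`. -/
theorem result (A : Type u) [CommRing A] (I : Ideal A) [IsAdicComplete I A]
    (X : Scheme.{u}) [X.IsQuasiAffine] :
    (∀ f g : Spec (CommRingCat.of A) ⟶ X,
      (∀ n : ℕ, Spec.map (CommRingCat.ofHom (Ideal.Quotient.mk (I ^ n))) ≫ f =
        Spec.map (CommRingCat.ofHom (Ideal.Quotient.mk (I ^ n))) ≫ g) → f = g) ∧
    (∀ e : ∀ n : ℕ, Spec (CommRingCat.of (A ⧸ I ^ n)) ⟶ X,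
      (∀ n : ℕ, Spec.map (CommRingCat.ofHom (Ideal.Quotient.factorPowSucc I n)) ≫ e (n + 1) = e n) →
      ∃ f : Spec (CommRingCat.of A) ⟶ X,
        ∀ n : ℕ, Spec.map (CommRingCat.ofHom (Ideal.Quotient.mk (I ^ n))) ≫ f = e n) := by
---
  constructor
  · intro f g h
    obtain ⟨φ, hφ⟩ := Spec.map_surjective (f ≫ X.toSpecΓ)
    obtain ⟨ψ, hψ⟩ := Spec.map_surjective (g ≫ X.toSpecΓ)
    have hk : ∀ n : ℕ, φ ≫ CommRingCat.ofHom (Ideal.Quotient.mk (I ^ n)) =
        ψ ≫ CommRingCat.ofHom (Ideal.Quotient.mk (I ^ n)) := fun n => by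
      apply Spec.map_injective
      rw [Spec.map_comp, Spec.map_comp, hφ, hψ, ← Category.assoc, h n, Category.assoc]
    have e : φ = ψ := by
      refine CommRingCat.hom_ext (DFunLike.coe_injective (IsHausdorff.funext' I fun n x => ?_))
      exact congr($(hk n).hom x)
    rw [← cancel_mono X.toSpecΓ, ← hφ, ← hψ, e]
  · intro e he
    choose φ hφ using fun n => Spec.map_surjective (e n ≫ X.toSpecΓ)
    have hsucc : ∀ n : ℕ, φ (n + 1) ≫ CommRingCat.ofHom (Ideal.Quotient.factorPowSucc I n) = φ n := fun n => by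
      apply Spec.map_injective
      rw [Spec.map_comp, hφ, hφ, ← Category.assoc, he n]
    have hc : ∀ {m n : ℕ} (hle : m ≤ n),
        (Ideal.Quotient.factorPow I hle).comp (φ n).hom = (φ m).hom := by
      intro m n hle
      induction n, hle using Nat.le_induction with
      | base =>
        refine RingHom.ext fun x => ?_
        obtain ⟨a, ha⟩ := Ideal.Quotient.mk_surjective ((φ m).hom x)
        rw [RingHom.comp_apply, ← ha]
        rfl
      | succ n hle ih =>
        rw [← ih, ← hsucc n]
        refine RingHom.ext fun x => ?_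
        show _ = Ideal.Quotient.factorPow I hle (Ideal.Quotient.factorPowSucc I n ((φ (n + 1)).hom x))
        obtain ⟨a, ha⟩ := Ideal.Quotient.mk_surjective ((φ (n + 1)).hom x)
        rw [RingHom.comp_apply, ← ha]
        rfl
    let Φ := IsAdicComplete.liftRingHom I (fun n => (φ n).hom) hc
    let g := Spec.map (CommRingCat.ofHom Φ)
    have hg : ∀ n : ℕ, Spec.map (CommRingCat.ofHom (Ideal.Quotient.mk (I ^ n))) ≫ g = e n ≫ X.toSpecΓ :=
      fun n => by
      rw [← hφ, ← Spec.map_comp]
      exact congrArg (fun k => Spec.map (CommRingCat.ofHom k)) (IsAdicComplete.mk_comp_liftRingHom I _ hc n)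
    have hr : Set.range g ⊆ Set.range X.toSpecΓ := by
      rintro _ ⟨p, rfl⟩
      obtain ⟨m, hm, hpm⟩ := p.asIdeal.exists_le_maximal p.2.ne_top
      let q : PrimeSpectrum A := ⟨m, hm.isPrime⟩
      have hs : p ⤳ q := (PrimeSpectrum.le_iff_specializes p q).1 hpm
      obtain ⟨z, hz⟩ : ∃ z, Spec.map (CommRingCat.ofHom (Ideal.Quotient.mk (I ^ 1))) z = q := by
        show q ∈ Set.range (PrimeSpectrum.comap (Ideal.Quotient.mk (I ^ 1)))
        rw [range_comap_of_surjective _ _ Ideal.Quotient.mk_surjective, Ideal.mk_ker, pow_one]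
        exact (IsAdicComplete.le_jacobson_bot I).trans (sInf_le ⟨bot_le, hm⟩)
      refine (hs.map g.continuous).mem_open X.toSpecΓ.isOpenEmbedding.isOpen_range ?_
      exact ⟨e 1 z, (congr($(hg 1) z)).symm.trans (congrArg g hz)⟩
    refine ⟨IsOpenImmersion.lift X.toSpecΓ g hr, fun n => ?_⟩
    rw [← cancel_mono X.toSpecΓ, Category.assoc, IsOpenImmersion.lift_fac]
    exact hg n

end Groth.Agent.S17863
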