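import Groth.Statements.S17864
import Mathlib.RingTheory.AdicCompletion.Functoriality
import Mathlib.RingTheory.Finiteness.Projective
-- import your own Groth.Agent.* helpers here

set_option autoImplicit false
universe u
open Algz

namespace Groth.Agent.S17864

/-- The full-faithfulness assertion. Let `A` be a commutative ring which is `I`-adically complete for an
ideal `I`, and `P`, `Q` finitely generated projective `A`-modules. An `A`-linear map `P → Q` is
determined by its reductions modulo the powers `I^n`, and every family of `A`-linear maps `P/I^n P →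
Q/I^n Q` compatible with the transition maps is the family of reductions of an `A`-linear map `P →
Q`. (The companion assertion, that compatible systems of finite projective modules over the rings
`A/I^n` lift to `A`, is not restated here.) -/
theorem result (A : Type u) [CommRing A] (I : Ideal A)
    [IsAdicComplete I A] (P Q : Type u) [AddCommGroup P] [Module A P] [Module.Finite A P]
    [Module.Projective A P] [AddCommGroup Q] [Module A Q] [Module.Finite A Q] [Module.Projective A Q] :
    (∀ f f' : P →ₗ[A] Q, (∀ n : ℕ, f.reduceModIdeal (I ^ n) = f'.reduceModIdeal (I ^ n)) → f = f') ∧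
    (∀ g : ∀ n : ℕ, P ⧸ (I ^ n • ⊤ : Submodule A P) →ₗ[A] Q ⧸ (I ^ n • ⊤ : Submodule A Q),
      (∀ n : ℕ, AdicCompletion.transitionMap I Q (Nat.le_succ n) ∘ₗ g (n + 1) =
        g n ∘ₗ AdicCompletion.transitionMap I P (Nat.le_succ n)) →
      ∃ f : P →ₗ[A] Q, ∀ n : ℕ, f.reduceModIdeal (I ^ n) = g n) := by
  classical
  obtain ⟨n, p, hp⟩ := Module.Finite.exists_fin' A Q
  obtain ⟨s, hs⟩ := Module.projective_lifting_property p LinearMap.id hp
  have hQ : IsAdicComplete I Q := by
    have hmem : ∀ (m : ℕ) (w : Fin n → A), (∀ i, w i ∈ (I ^ m • ⊤ : Submodule A A)) →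
        p w ∈ (I ^ m • ⊤ : Submodule A Q) := fun m w hw => by
      rw [pi_eq_sum_univ' w, map_sum]
      refine Submodule.sum_mem _ fun i _ => ?_
      rw [map_smul]
      refine Submodule.smul_mem_smul ?_ Submodule.mem_top
      simpa using hw i
    have hcomp : ∀ (m : ℕ) (x : Q), x ∈ (I ^ m • ⊤ : Submodule A Q) → ∀ i, s x i ∈ (I ^ m • ⊤ : Submodule A A) :=
      fun m x hx i => Submodule.smul_induction_on hx
        (fun r hr z _ => by rw [map_smul, Pi.smul_apply]; exact Submodule.smul_mem_smul hr Submodule.mem_top)
        (fun z w hz hw => by rw [map_add, Pi.add_apply]; exact add_mem hz hw)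
    refine { toIsHausdorff := ⟨fun x hx => ?_⟩, toIsPrecomplete := ⟨fun {f} hf => ?_⟩ }
    · have hx0 : s x = 0 := funext fun i => IsHausdorff.haus (I := I) inferInstance _ fun m =>
        SModEq.zero.2 (hcomp m x (SModEq.zero.1 (hx m)) i)
      have e := LinearMap.congr_fun hs x
      simp only [LinearMap.comp_apply, hx0, map_zero, LinearMap.id_apply] at e
      exact e.symm
    · choose L hL using fun i => IsPrecomplete.prec (I := I) (M := A) inferInstance (f := fun m => s (f m) i)
        (fun {m l} hml => SModEq.sub_mem.2 (by
          rw [← Pi.sub_apply, ← map_sub]; exact hcomp m _ (SModEq.sub_mem.1 (hf hml)) i))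
      refine ⟨p L, fun m => SModEq.sub_mem.2 ?_⟩
      have e := LinearMap.congr_fun hs (f m)
      simp only [LinearMap.comp_apply, LinearMap.id_apply] at e
      rw [← e, ← map_sub]
      exact hmem m _ fun i => SModEq.sub_mem.1 (hL i m)
  refine ⟨fun f f' h => LinearMap.ext fun x => sub_eq_zero.1 (IsHausdorff.haus (I := I) inferInstance _
    fun m => ?_), fun g hg => ?_⟩
  · rw [SModEq.zero, ← Submodule.Quotient.mk_eq_zero, Submodule.Quotient.mk_sub, sub_eq_zero]
    have := LinearMap.congr_fun (h m) (Submodule.Quotient.mk x)
    exact this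
  · have hcompat : ∀ {m l : ℕ} (hml : m ≤ l),
        AdicCompletion.transitionMap I Q hml ∘ₗ (g l ∘ₗ Submodule.mkQ (I ^ l • ⊤ : Submodule A P)) =
          g m ∘ₗ Submodule.mkQ (I ^ m • ⊤ : Submodule A P) := by
      intro m l hml
      induction l, hml using Nat.le_induction with
      | base => exact LinearMap.ext fun x => by simp
      | succ l hml ih =>
        refine LinearMap.ext fun x => ?_
        rw [← ih]
        have hgl := LinearMap.congr_fun (hg l) (Submodule.Quotient.mk x)
        change AdicCompletion.transitionMap I Q (hml.trans (Nat.le_succ l)) (g (l + 1) (Submodule.Quotient.mk x)) =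
          AdicCompletion.transitionMap I Q hml (g l (Submodule.Quotient.mk x))
        have htrans : ∀ y : Q ⧸ (I ^ (l + 1) • ⊤ : Submodule A Q),
            AdicCompletion.transitionMap I Q (hml.trans (Nat.le_succ l)) y =
              AdicCompletion.transitionMap I Q hml (AdicCompletion.transitionMap I Q (Nat.le_succ l) y) := fun y => by
          obtain ⟨y, rfl⟩ := Submodule.Quotient.mk_surjective _ y
          rfl
        exact (htrans _).trans (congrArg _ hgl)
    refine ⟨IsAdicComplete.lift I (fun m => g m ∘ₗ Submodule.mkQ _) hcompat, fun m => LinearMap.ext fun x => ?_⟩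
    obtain ⟨x, rfl⟩ := Submodule.Quotient.mk_surjective _ x
    exact IsAdicComplete.mk_lift I hcompat m x

end Groth.Agent.S17864
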