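import Groth.Statements.S17872
import Mathlib.Tactic
import Mathlib.Algebra.Module.StablyFree.Basic
import Mathlib.Algebra.Order.Ring.Star
import Mathlib.Data.Rat.Star
import Mathlib.RingTheory.Flat.TorsionFree
import Mathlib.RingTheory.Henselian
import Mathlib.RingTheory.PicardGroup
import Mathlib.RingTheory.RegularLocalRing.Defs
import Mathlib.RingTheory.SimpleRing.Principal


set_option autoImplicit false
universe u v
open GRRSing

namespace Groth.Agent.S17872

/-- Let H be a vector space over a field K and let b_0, …, b_l be elements of H. If the sum of the t ^ i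
• b_i vanishes for infinitely many scalars t of K, then all the b_i are zero. -/
theorem result {K : Type u} {H : Type v} [Field K] [AddCommGroup H] [Module K H]
    (l : ℕ) (b : Fin (l + 1) → H)
    (h : Set.Infinite {t : K | ∑ i : Fin (l + 1), t ^ (i : ℕ) • b i = 0}) :
    b = 0 := by
  funext j
  by_contra hj
  obtain ⟨φ, hφ⟩ : ∃ φ : Module.Dual K H, φ (b j) ≠ 0 := by
    by_contra hc
    push Not at hc
    exact hj ((Module.forall_dual_apply_eq_zero_iff K (b j)).1 hc)
  let P : Polynomial K := ∑ i : Fin (l + 1), Polynomial.C (φ (b i)) * Polynomial.X ^ (i : ℕ)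
  have hP : P = 0 := by
    apply Polynomial.eq_zero_of_infinite_isRoot
    refine h.mono fun t ht => ?_
    have := congrArg φ (Set.mem_ofPred.1 ht)
    simp only [map_sum, map_smul, map_zero, smul_eq_mul] at this
    simp only [Set.mem_ofPred, P, Polynomial.IsRoot, Polynomial.eval_finsetSum, Polynomial.eval_mul, Polynomial.eval_C, Polynomial.eval_pow, Polynomial.eval_X]
    rw [← this]
    exact Finset.sum_congr rfl fun i _ => mul_comm _ _
  apply hφ
  have := congrArg (fun p => Polynomial.coeff p (j : ℕ)) hP
  simpa [P, Polynomial.finsetSum_coeff, Polynomial.coeff_C_mul, Polynomial.coeff_X_pow, Fin.val_inj] using this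

end Groth.Agent.S17872
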