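import Groth.Statements.S17873
import Groth.Agent.CAlgH3.CMRing
import Groth.Agent.LocCoh.Depth

set_option autoImplicit false
universe u
open GRRSing

namespace Groth.Agent.S17873

open IsLocalRing RingTheory.Sequence

/-- A minimal generating list with regular prefix. -/
theorem aux : ∀ (j : ℕ) {T : Type u} [CommRing T] [IsLocalRing T] [IsNoetherianRing T]
    (J : Ideal T), J ≠ ⊤ → (j : ℕ∞) ≤ LocCoh.idealDepth J T →
    j ≤ Submodule.spanFinrank J ∧ ∃ ts : List T, ts.length = Submodule.spanFinrank J ∧
      Ideal.ofList ts = J ∧ IsWeaklyRegular T (ts.take j) := by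
  intro j
  induction j with
  | zero =>
    intro T _ _ _ J hJ _
    obtain ⟨s, hs, hsp⟩ := Submodule.FG.exists_span_finset_card_eq_spanFinrank (IsNoetherian.noetherian J)
    refine ⟨Nat.zero_le _, s.toList, by rw [Finset.length_toList, hs], ?_, by
      rw [List.take_zero]; exact IsWeaklyRegular.nil T T⟩
    refine Eq.trans ?_ hsp
    show Ideal.span _ = _
    congr 1
    ext; simp
  | succ j ih =>
    intro T _ _ _ J hJ hd
    classical
    have hJT : J • (⊤ : Submodule T T) ≠ ⊤ := fun h => hJ (top_le_iff.1 (by simpa [Ideal.mul_top] using h.ge))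
    obtain ⟨rs, hlen, hmem, hrs⟩ := (Groth.Agent.LocCoh.natCast_le_idealDepth_iff_exists J T hJT (j + 1)).1 hd
    obtain ⟨r, rs, rfl⟩ : ∃ r l, rs = r :: l := by
      cases rs with
      | nil => simp at hlen
      | cons r l => exact ⟨r, l, rfl⟩
    have hr : IsSMulRegular T r := ((isWeaklyRegular_cons_iff T r rs).1 hrs.toIsWeaklyRegular).1
    have hass : ∀ q ∈ associatedPrimes T T, ¬ J ≤ q := fun q hq hle => by
      have : r ∈ ⋃ q ∈ associatedPrimes T T, (q : Set T) := Set.mem_biUnion hq (hle (hmem r (by simp)))
      rw [biUnion_associatedPrimes_eq_zero_divisors] at this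
      obtain ⟨m, hm0, hm⟩ := this
      exact hm0 (hr.right_eq_zero_of_smul hm)
    have hm : ¬ J ≤ maximalIdeal T * J := fun hle => by
      have h0 : J = ⊥ := Submodule.eq_bot_of_le_smul_of_le_jacobson_bot _ _ (IsNoetherian.noetherian _)
        (by rwa [smul_eq_mul]) (maximalIdeal_le_jacobson _)
      have hr0 := hmem r (by simp)
      rw [h0, Ideal.mem_bot] at hr0
      exact one_ne_zero (α := T) (hr (show r • (1 : T) = r • 0 by simp [hr0]))
    obtain ⟨x, hxp, hx⟩ : ∃ x ∈ J, (∀ q ∈ associatedPrimes T T, x ∉ q) ∧ x ∉ maximalIdeal T * J := by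
      let S : Finset (Ideal T) := insert (maximalIdeal T * J) (associatedPrimes.finite T T).toFinset
      have : ¬ (J : Set T) ⊆ ⋃ q ∈ (S : Set (Ideal T)), ((q : Ideal T) : Set T) := by
        intro hsub
        obtain ⟨q, hq, hle⟩ := (Ideal.subset_union_prime (f := fun q : Ideal T => q)
          (maximalIdeal T * J) (maximalIdeal T * J) (fun q hq h1 _ => by
            simp only [S, Finset.mem_insert, h1, false_or, Set.Finite.mem_toFinset] at hq
            exact IsAssociatedPrime.isPrime hq)).1 hsub
        simp only [S, Finset.mem_insert, Set.Finite.mem_toFinset] at hq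
        rcases hq with rfl | hq
        exacts [hm hle, hass q hq hle]
      obtain ⟨x, hxp, hx⟩ := Set.not_subset.1 this
      simp only [Set.mem_iUnion, SetLike.mem_coe, exists_prop, not_exists, not_and] at hx
      exact ⟨x, hxp, fun q hq => hx q (by simp [S, hq]), hx _ (by simp [S])⟩
    have hreg : IsSMulRegular T x := fun u v huv => by
      by_contra hne
      have : x ∈ ⋃ q ∈ associatedPrimes T T, (q : Set T) := by
        rw [biUnion_associatedPrimes_eq_zero_divisors]
        exact ⟨u - v, sub_ne_zero.2 hne, by rw [smul_sub, sub_eq_zero]; exact huv⟩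
      simp only [Set.mem_iUnion, SetLike.mem_coe] at this
      obtain ⟨q, hq, hxq⟩ := this
      exact hx.1 q hq hxq
    let π := Ideal.Quotient.mk (Ideal.span {x})
    have hxle : Ideal.span {x} ≤ J := (Ideal.span_singleton_le_iff_mem _).2 hxp
    haveI : Nontrivial (T ⧸ Ideal.span {x}) :=
      Ideal.Quotient.nontrivial_iff.2 fun h => hJ (top_le_iff.1 (h ▸ hxle))
    haveI : IsLocalRing (T ⧸ Ideal.span {x}) := IsLocalRing.of_surjective' π Ideal.Quotient.mk_surjective
    let J' := J.map π
    have hcomap : J'.comap π = J := by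
      rw [Ideal.comap_map_of_surjective _ Ideal.Quotient.mk_surjective, ← RingHom.ker_eq_comap_bot,
        Ideal.mk_ker, sup_eq_left.2 hxle]
    have hJ' : J' ≠ ⊤ := fun h => hJ (by rw [← hcomap, h, Ideal.comap_top])
    have hd' : (j : ℕ∞) ≤ LocCoh.idealDepth J' (T ⧸ Ideal.span {x}) := by
      rw [show J' = J.map (algebraMap T (T ⧸ Ideal.span {x})) from rfl,
        CAlgH3.idealDepth_of_surjective Ideal.Quotient.mk_surjective,
        ← CAlgH3.idealDepth_congr J (CAlgH3.quotSMulTopSelf x)]
      rw [← Groth.Agent.LocCoh.idealDepth_quotSMulTop_add_one J T hxp hreg] at hd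
      exact CAlgH3.natCast_add_one_le_iff.1 hd
    obtain ⟨hj', ts', hlen', hspan, hw⟩ := ih J' hJ' hd'
    obtain ⟨s, hs, hsp⟩ := Submodule.FG.exists_span_finset_card_eq_spanFinrank (IsNoetherian.noetherian J)
    have hμ : Submodule.spanFinrank J' + 1 ≤ Submodule.spanFinrank J := by
      obtain ⟨c, hc⟩ := Submodule.mem_span_finset.1 (hsp ▸ hxp : x ∈ Submodule.span T (s : Set T))
      obtain ⟨g, hg, u, hgu⟩ : ∃ g ∈ s, IsUnit (c g) := by
        by_contra! h
        refine hx.2 ?_
        rw [← hc.2]
        exact sum_mem fun g hg => Ideal.mul_mem_mul ((mem_maximalIdeal _).2 (h g hg))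
          (hsp ▸ Submodule.subset_span hg)
      have hgen' : J' = Ideal.span ↑((s.erase g).image π) := by
        refine le_antisymm ?_ (Ideal.span_le.2 ?_)
        · show J.map π ≤ _
          rw [show J = Ideal.span (s : Set T) from hsp.symm, Ideal.map_span, Ideal.span_le]
          rintro _ ⟨h, hh, rfl⟩
          by_cases hhg : h = g
          · subst hhg
            have e : c h * h = x - ∑ i ∈ s.erase h, c i • i := by
              rw [← hc.2, ← Finset.add_sum_erase _ _ hg]; simp
            have e2 : π h = π ↑u⁻¹ * (π x - ∑ i ∈ s.erase h, π (c i) * π i) := by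
              rw [show ∑ i ∈ s.erase h, π (c i) * π i = π (∑ i ∈ s.erase h, c i • i) by
                simp [map_sum], ← map_sub, ← map_mul, ← e, ← hgu, Units.inv_mul_cancel_left]
            rw [e2, show π x = 0 from Ideal.Quotient.eq_zero_iff_mem.2 (Ideal.mem_span_singleton_self x)]
            exact Ideal.mul_mem_left _ _ (sub_mem (zero_mem _) (sum_mem fun i hi =>
              Ideal.mul_mem_left _ _ (Ideal.subset_span (Finset.mem_coe.2 (Finset.mem_image_of_mem _ hi)))))
          · exact Ideal.subset_span (Finset.mem_coe.2 (Finset.mem_image_of_mem _ (Finset.mem_erase.2 ⟨hhg, hh⟩)))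
        · intro z hz
          obtain ⟨i, hi, rfl⟩ := Finset.mem_image.1 (Finset.mem_coe.1 hz)
          exact Ideal.mem_map_of_mem _ (hsp ▸ Submodule.subset_span (Finset.mem_of_mem_erase hi))
      rw [hgen', ← hs, ← Finset.card_erase_add_one hg]
      refine Nat.add_le_add_right ((Submodule.spanFinrank_span_le_ncard_of_finite (Finset.finite_toSet _)).trans ?_) 1
      rw [Set.ncard_coe_finset]
      exact Finset.card_image_le
    let sec : T ⧸ Ideal.span {x} → T := Function.surjInv Ideal.Quotient.mk_surjective
    have hsec : ∀ y, π (sec y) = y := Function.surjInv_eq _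
    have hid : ∀ l : List (T ⧸ Ideal.span {x}), (l.map sec).map π = l := fun l => by
      rw [List.map_map, show ⇑π ∘ sec = id from funext hsec, List.map_id]
    have hts : Ideal.ofList (x :: ts'.map sec) = J := by
      rw [← hcomap, ← hspan, Ideal.ofList_cons]
      conv_rhs => rw [← hid ts', ← Ideal.map_ofList]
      rw [Ideal.comap_map_of_surjective _ Ideal.Quotient.mk_surjective,
        ← RingHom.ker_eq_comap_bot, Ideal.mk_ker, sup_comm]
    refine ⟨(Nat.add_le_add_right hj' 1).trans hμ, x :: ts'.map sec,
      le_antisymm (by rw [List.length_cons, List.length_map, hlen']; exact hμ) ?_, hts, ?_⟩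
    · conv_lhs => rw [← hts]
      refine (Submodule.spanFinrank_span_le_ncard_of_finite (List.finite_toSet _)).trans ?_
      exact (List.coe_toFinset (x :: ts'.map sec) ▸ (Set.ncard_coe_finset _).trans_le (List.toFinset_card_le _) :)
    · rw [List.take_succ_cons, isWeaklyRegular_cons_iff, ← List.map_take]
      refine ⟨hreg, (LinearEquiv.isWeaklyRegular_congr (CAlgH3.quotSMulTopSelf x) _).2 ?_⟩
      refine (isWeaklyRegular_map_algebraMap_iff (T ⧸ Ideal.span {x}) (T ⧸ Ideal.span {x}) _).1 ?_
      rw [show ((ts'.take j).map sec).map (algebraMap T (T ⧸ Ideal.span {x})) = ts'.take j from hid _]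
      exact hw

/-- Let T be a Cohen–Macaulay Noetherian local ring, J a proper ideal of T, j the grade of J (the
J-depth of T, i.e. the supremum of the lengths of T-regular sequences inside J; a natural number
here) and c the minimal number of generators of J (equal to the dimension of J/𝔪J over the residue
field). Then j ≤ c and there is a generating sequence t_1, …, t_c of J such that t_1, …, t_j is a
T-regular sequence. (The published statement does not exclude J = T; there c = 1 while the grade,
read as the depth of T, can exceed 1, so this row assumes J proper.) -/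
theorem result {T : Type u} [CommRing T] [LocCoh.IsCohenMacaulayLocalRing T]
    (J : Ideal T) (hJ : J ≠ ⊤) (j : ℕ) (hj : LocCoh.idealDepth J T = j) :
    j ≤ Submodule.spanFinrank J ∧
      ∃ ts : List T, ts.length = Submodule.spanFinrank J ∧ Ideal.ofList ts = J ∧
        RingTheory.Sequence.IsRegular T (ts.take j) := by
  obtain ⟨h1, ts, h2, h3, h4⟩ := aux j J hJ hj.ge
  refine ⟨h1, ts, h2, h3, h4, fun heq => hJ (top_le_iff.1 ?_)⟩
  have h5 : Ideal.ofList (ts.take j) ≤ J := h3 ▸ Ideal.span_mono fun r hr => List.mem_of_mem_take hr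
  have h6 : (⊤ : Submodule T T) ≤ J • ⊤ := heq.le.trans (Submodule.smul_mono h5 le_rfl)
  simpa [Ideal.mul_top] using h6
end Groth.Agent.S17873
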