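import Groth.Statements.S17874
import Groth.Agent.CAlgH3.QuotientLocal
import Groth.Agent.CAlgH3.RegularLocal

set_option autoImplicit false
universe u
open GRRSing

namespace Groth.Agent.S17874

open IsLocalRing

/-- A list of generators of length `spanFinrank` is irredundant. -/
theorem notMem_others {R : Type u} [CommRing R] (ts : List R)
    (h : Submodule.spanFinrank (Ideal.ofList ts) = ts.length) :
    ∀ i : Fin ts.length,
      ts[i] ∉ Ideal.span (Set.range fun j : {j : Fin ts.length // j ≠ i} => ts[(j : Fin ts.length)]) := by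
  classical
  intro i hi
  have heq : Ideal.ofList ts =
      Ideal.span (Set.range fun j : {j : Fin ts.length // j ≠ i} => ts[(j : Fin ts.length)]) := by
    refine le_antisymm (Ideal.span_le.2 fun x hx => ?_) (Ideal.span_le.2 ?_)
    · obtain ⟨j, rfl⟩ := List.mem_iff_get.1 hx
      by_cases hji : j = i
      · subst hji; exact hi
      · exact Ideal.subset_span ⟨⟨j, hji⟩, rfl⟩
    · rintro _ ⟨j, rfl⟩
      exact Ideal.subset_span (List.getElem_mem _)
  have hle := Submodule.spanFinrank_span_le_ncard_of_finite (R := R)
    (Set.finite_range fun j : {j : Fin ts.length // j ≠ i} => ts[(j : Fin ts.length)])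
  have h2 : (Set.range fun j : {j : Fin ts.length // j ≠ i} => ts[(j : Fin ts.length)]).ncard < ts.length := by
    refine lt_of_le_of_lt (Finite.card_range_le _) ?_
    rw [Nat.card_eq_fintype_card, Fintype.card_subtype_compl, Fintype.card_fin, Fintype.card_subtype_eq]
    exact Nat.sub_lt (Fin.pos i) one_pos
  rw [show Submodule.span R _ = _ from heq.symm, h] at hle
  omega

/-- `y` is zero if it vanishes at every associated prime. -/
theorem eq_zero_of_forall {R : Type u} [CommRing R] [IsNoetherianRing R] (y : R)
    (h : ∀ q ∈ associatedPrimes R R, ∃ s, s ∉ q ∧ s * y = 0) : y = 0 := by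
  by_contra hy
  obtain ⟨P, hP, hle⟩ := exists_le_isAssociatedPrime_of_isNoetherianRing R y hy
  obtain ⟨s, hs, hsy⟩ := h P hP
  exact hs (hle (Submodule.mem_colon_singleton.2 (by simpa using hsy)))

/-- The inductive construction. -/
theorem exists_list : ∀ (n : ℕ) {T : Type u} [CommRing T] [LocCoh.IsCohenMacaulayLocalRing T]
    (p : Ideal T) [p.IsPrime] [IsRegularLocalRing (Localization.AtPrime p)], p.height = n →
    Submodule.spanFinrank p ≤ n + 1 →
    ∃ ts : List T, ts.length = Submodule.spanFinrank p ∧ Ideal.ofList ts = p ∧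
      ∀ (i k : ℕ) (hk : k < ts.length) (hik : i ≤ k),
        (Ideal.ofList (ts.take i)).colon {ts[k] * ts[i]'(Nat.lt_of_le_of_lt hik hk)} =
          (Ideal.ofList (ts.take i)).colon {ts[k]} := by
  intro n
  induction n with
  | zero =>
    intro T _ _ p _ _ hp hgen
    have hfg : p.FG := IsNoetherian.noetherian p
    obtain ⟨s, hs, hsp⟩ := Submodule.FG.exists_span_finset_card_eq_spanFinrank hfg
    rcases Nat.le_one_iff_eq_zero_or_eq_one.1 (by omega : Submodule.spanFinrank p ≤ 1) with h0 | h1
    · refine ⟨[], h0.symm, ?_, fun i k hk => absurd hk (by simp)⟩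
      rw [h0, Finset.card_eq_zero] at hs
      rw [Ideal.ofList_nil, ← hsp, hs]
      simp
    · obtain ⟨t, rfl⟩ := Finset.card_eq_one.1 (hs.trans h1)
      refine ⟨[t], h1.symm, by rw [Ideal.ofList_singleton, ← hsp]; simp, fun i k hk hik => ?_⟩
      obtain rfl : k = 0 := by simpa using hk
      obtain rfl : i = 0 := Nat.le_zero.1 hik
      refine le_antisymm (fun x hx => ?_) (fun x hx => ?_)
      · rw [Submodule.mem_colon_singleton] at hx ⊢
        simp only [List.take_zero, Ideal.ofList_nil, Ideal.mem_bot, smul_eq_mul, List.getElem_cons_zero] at hx ⊢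
        refine eq_zero_of_forall _ fun q hq => ?_
        haveI : q.IsPrime := IsAssociatedPrime.isPrime hq
        by_cases htq : t ∈ q
        · have hpq : p ≤ q := by rw [← hsp]; exact Ideal.span_le.2 (by simpa using htq)
          have hpq' : p = q := CAlgH3.eq_of_le_of_mem_associatedPrimes
            ((CAlgH3.isCohenMacaulayLocalRing_iff T).1 inferInstance) hq (q := ⟨p, inferInstance⟩)
            (CAlgH3.mem_support_self _) hpq
          let A := Localization.AtPrime p
          haveI : IsDomain A := CAlgH3.isDomain_of_isRegularLocalRing A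
          have hdim : ringKrullDim A = 0 := by
            rw [IsLocalization.AtPrime.ringKrullDim_eq_height p A, hp]; rfl
          haveI := (Ring.krullDimLE_iff (n := 0) (R := A)).2 hdim.le
          have hF : IsField A := Ring.KrullDimLE.isField_of_isDomain
          have ht : algebraMap T A t = 0 := by
            rw [IsLocalRing.isField_iff_maximalIdeal_eq] at hF
            rw [← Ideal.mem_bot, ← hF, ← Localization.AtPrime.map_eq_maximalIdeal]
            exact Ideal.mem_map_of_mem _ (hpq' ▸ htq)
          obtain ⟨⟨c, hc⟩, hct⟩ := (IsLocalization.map_eq_zero_iff p.primeCompl A t).1 ht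
          refine ⟨c, hpq' ▸ hc, ?_⟩
          rw [mul_left_comm, show c * t = 0 from hct, mul_zero]
        · exact ⟨t, htq, by rw [← hx]; ring⟩
      · rw [Submodule.mem_colon_singleton] at hx ⊢
        simp only [List.take_zero, Ideal.ofList_nil, Ideal.mem_bot, smul_eq_mul, List.getElem_cons_zero] at hx ⊢
        rw [← mul_assoc, hx, zero_mul]
  | succ n ih =>
    intro T _ _ p _ _ hp hgen
    classical
    let A := Localization.AtPrime p
    let a := algebraMap T A
    let Q : Ideal T := (maximalIdeal A ^ 2).comap a
    have hdimA : ringKrullDim A = ((n + 1 : ℕ) : ℕ∞) := by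
      rw [IsLocalization.AtPrime.ringKrullDim_eq_height p A, hp]
    have hpm : p ≤ maximalIdeal T := le_maximalIdeal ‹p.IsPrime›.ne_top
    have hass : ∀ q ∈ associatedPrimes T T, ¬ p ≤ q := fun q hq hle => by
      have : p = q := CAlgH3.eq_of_le_of_mem_associatedPrimes
        ((CAlgH3.isCohenMacaulayLocalRing_iff T).1 inferInstance) hq (q := ⟨p, inferInstance⟩)
        (CAlgH3.mem_support_self _) hle
      have h0 := CAlgH3.ringKrullDim_quotient_eq_of_mem_associatedPrimes
        ((CAlgH3.isCohenMacaulayLocalRing_iff T).1 inferInstance) hq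
      subst this
      rw [Module.supportDim_self_eq_ringKrullDim] at h0
      have h2 := CAlgH3.height_add_ringKrullDim_quotient p
      rw [h0, hp] at h2
      obtain ⟨m, hm⟩ := CAlgH3.exists_nat_eq_of_le_spanFinrank
        (ringKrullDim_le_spanFinrank_maximalIdeal T)
      rw [hm] at h2
      have h3 : n + 1 + m = m := by exact_mod_cast h2
      omega
    have hQ : ¬ p ≤ Q := fun hle => by
      have h1 : maximalIdeal A ≤ maximalIdeal A ^ 2 := by
        conv_lhs => rw [← Localization.AtPrime.map_eq_maximalIdeal]
        exact Ideal.map_le_iff_le_comap.2 hle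
      have h2 : maximalIdeal A = ⊥ := Submodule.eq_bot_of_le_smul_of_le_jacobson_bot _ _
        (IsNoetherian.noetherian _) (by rwa [smul_eq_mul, ← sq]) (maximalIdeal_le_jacobson _)
      have h3 : ((maximalIdeal A).spanFinrank : WithBot ℕ∞) = ringKrullDim A :=
        IsRegularLocalRing.spanFinrank_maximalIdeal
      rw [h2, Submodule.spanFinrank_bot, hdimA] at h3
      have : (0 : ℕ) = n + 1 := by exact_mod_cast h3
      omega
    have hm : ¬ p ≤ maximalIdeal T * p := fun hle => hQ (by
      have : p = ⊥ := Submodule.eq_bot_of_le_smul_of_le_jacobson_bot _ _ (IsNoetherian.noetherian _)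
        (by rwa [smul_eq_mul]) (maximalIdeal_le_jacobson _)
      rw [this]; exact bot_le)
    obtain ⟨x, hxp, hx⟩ : ∃ x ∈ p, (∀ q ∈ associatedPrimes T T, x ∉ q) ∧ x ∉ maximalIdeal T * p ∧ x ∉ Q := by
      let S : Finset (Ideal T) := insert (maximalIdeal T * p) (insert Q (associatedPrimes.finite T T).toFinset)
      have : ¬ (p : Set T) ⊆ ⋃ q ∈ (S : Set (Ideal T)), ((q : Ideal T) : Set T) := by
        intro hsub
        obtain ⟨q, hq, hle⟩ := (Ideal.subset_union_prime (f := fun q : Ideal T => q)
          (maximalIdeal T * p) Q (fun q hq h1 h2 => by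
            simp only [S, Finset.mem_insert, h1, h2, false_or, Set.Finite.mem_toFinset] at hq
            exact IsAssociatedPrime.isPrime hq)).1 hsub
        simp only [S, Finset.mem_insert, Set.Finite.mem_toFinset] at hq
        rcases hq with rfl | rfl | hq
        exacts [hm hle, hQ hle, hass q hq hle]
      obtain ⟨x, hxp, hx⟩ := Set.not_subset.1 this
      simp only [Set.mem_iUnion, SetLike.mem_coe, exists_prop, not_exists, not_and] at hx
      exact ⟨x, hxp, fun q hq => hx q (by simp [S, hq]), hx _ (by simp [S]), hx _ (by simp [S])⟩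
    have hreg : IsSMulRegular T x := fun u v huv => by
      by_contra hne
      have : x ∈ ⋃ q ∈ associatedPrimes T T, (q : Set T) := by
        rw [biUnion_associatedPrimes_eq_zero_divisors]
        exact ⟨u - v, sub_ne_zero.2 hne, by rw [smul_sub, sub_eq_zero]; exact huv⟩
      simp only [Set.mem_iUnion, SetLike.mem_coe] at this
      obtain ⟨q, hq, hxq⟩ := this
      exact hx.1 q hq hxq
    let π := Ideal.Quotient.mk (Ideal.span {x})
    have hxle : Ideal.span {x} ≤ p := (Ideal.span_singleton_le_iff_mem _).2 hxp
    haveI : Nontrivial (T ⧸ Ideal.span {x}) :=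
      Ideal.Quotient.nontrivial_iff.2 fun h => ‹p.IsPrime›.ne_top (top_le_iff.1 (h ▸ hxle))
    haveI : IsLocalRing (T ⧸ Ideal.span {x}) := IsLocalRing.of_surjective' π Ideal.Quotient.mk_surjective
    haveI : LocCoh.IsCohenMacaulayLocalRing (T ⧸ Ideal.span {x}) :=
      (CAlgH3.isCohenMacaulayLocalRing_quotient_span_iff (hpm hxp) hreg).2 inferInstance
    let p' := p.map π
    haveI : p'.IsPrime := Ideal.map_isPrime_of_surjective Ideal.Quotient.mk_surjective (by rwa [Ideal.mk_ker])
    have hcomap : p'.comap π = p := by
      rw [Ideal.comap_map_of_surjective _ Ideal.Quotient.mk_surjective, ← RingHom.ker_eq_comap_bot,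
        Ideal.mk_ker, sup_eq_left.2 hxle]
    -- the localisation of the quotient
    have hloc : IsRegularLocalRing (Localization.AtPrime p') ∧
        ringKrullDim (Localization.AtPrime p') = ((n : ℕ) : ℕ∞) := by
      obtain ⟨e, -⟩ := CAlgH3.exists_quotientLocalEquiv (Ideal.span {x}) p'
      have key : ∀ (P : Ideal T) [P.IsPrime], P = p →
          ∀ (y : Localization.AtPrime P), y = algebraMap T _ x →
          IsRegularLocalRing (Localization.AtPrime P ⧸ Ideal.span {y}) ∧
            ringKrullDim (Localization.AtPrime P ⧸ Ideal.span {y}) = ((n : ℕ) : ℕ∞) := by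
        rintro P _ rfl y rfl
        have hmem : a x ∈ maximalIdeal A := by
          rw [← Localization.AtPrime.map_eq_maximalIdeal]; exact Ideal.mem_map_of_mem _ hxp
        obtain ⟨h1, h2⟩ := CAlgH3.regular_quotient_of_notMem_sq hmem hx.2.2
        refine ⟨h1, ?_⟩
        rw [IsRegularLocalRing.spanFinrank_maximalIdeal, hdimA] at h2
        exact CAlgH3.withBot_add_one_cancel (by rw [← h2]; push_cast; rfl)
      obtain ⟨h1, h2⟩ := key _ hcomap _ rfl
      let e' := (Ideal.quotEquivOfEq (show Ideal.span {algebraMap T (Localization.AtPrime (p'.comap π)) x} =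
        (Ideal.span {x}).map (algebraMap T (Localization.AtPrime (p'.comap π))) by
          rw [Ideal.map_span, Set.image_singleton])).trans e
      exact ⟨IsRegularLocalRing.of_ringEquiv e', (ringKrullDim_eq_of_ringEquiv e').symm.trans h2⟩
    haveI := hloc.1
    have hp' : p'.height = (n : ℕ∞) :=
      WithBot.coe_injective ((IsLocalization.AtPrime.ringKrullDim_eq_height p' (Localization.AtPrime p')).symm.trans hloc.2)
    -- number of generators
    obtain ⟨s, hs, hsp⟩ := Submodule.FG.exists_span_finset_card_eq_spanFinrank (IsNoetherian.noetherian p)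
    have hμ : Submodule.spanFinrank p' + 1 ≤ Submodule.spanFinrank p := by
      obtain ⟨c, hc⟩ := Submodule.mem_span_finset.1 (hsp ▸ hxp : x ∈ Submodule.span T (s : Set T))
      obtain ⟨g, hg, u, hgu⟩ : ∃ g ∈ s, IsUnit (c g) := by
        by_contra! h
        refine hx.2.1 ?_
        rw [← hc.2]
        exact sum_mem fun g hg => Ideal.mul_mem_mul ((mem_maximalIdeal _).2 (h g hg))
          (hsp ▸ Submodule.subset_span hg)
      have hgen' : p' = Ideal.span ↑((s.erase g).image π) := by
        refine le_antisymm ?_ (Ideal.span_le.2 ?_)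
        · show p.map π ≤ _
          rw [show p = Ideal.span (s : Set T) from hsp.symm, Ideal.map_span, Ideal.span_le]
          rintro _ ⟨h, hh, rfl⟩
          by_cases hhg : h = g
          · subst hhg
            have e : c h * h = x - ∑ i ∈ s.erase h, c i • i := by
              rw [← hc.2, ← Finset.add_sum_erase _ _ hg]; simp
            have e2 : π h = π ↑u⁻¹ * (π x - ∑ i ∈ s.erase h, π (c i) * π i) := by
              rw [show ∑ i ∈ s.erase h, π (c i) * π i = π (∑ i ∈ s.erase h, c i • i) by
                simp [map_sum], ← map_sub, ← map_mul, ← e, ← hgu, Units.inv_mul_cancel_left]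
            rw [e2, show π x = 0 from Ideal.Quotient.eq_zero_iff_mem.2 (Ideal.mem_span_singleton_self x)]
            exact Ideal.mul_mem_left _ _ (sub_mem (zero_mem _) (sum_mem fun i hi =>
              Ideal.mul_mem_left _ _ (Ideal.subset_span (Finset.mem_coe.2 (Finset.mem_image_of_mem _ hi)))))
          · exact Ideal.subset_span (Finset.mem_coe.2 (Finset.mem_image_of_mem _ (Finset.mem_erase.2 ⟨hhg, hh⟩)))
        · intro z hz
          obtain ⟨i, hi, rfl⟩ := Finset.mem_image.1 (Finset.mem_coe.1 hz)
          exact Ideal.mem_map_of_mem _ (hsp ▸ Submodule.subset_span (Finset.mem_of_mem_erase hi))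
      rw [hgen', ← hs, ← Finset.card_erase_add_one hg]
      refine Nat.add_le_add_right ((Submodule.spanFinrank_span_le_ncard_of_finite (Finset.finite_toSet _)).trans ?_) 1
      rw [Set.ncard_coe_finset]
      exact Finset.card_image_le
    obtain ⟨ts', hlen, hspan, hcol⟩ := ih p' hp' (by omega)
    let sec : T ⧸ Ideal.span {x} → T := Function.surjInv Ideal.Quotient.mk_surjective
    have hsec : ∀ y, π (sec y) = y := Function.surjInv_eq _
    have hmap : ∀ l : List (T ⧸ Ideal.span {x}),
        Ideal.ofList (x :: l.map sec) = (Ideal.ofList l).comap π := fun l => by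
      have h1 : (Ideal.ofList (l.map sec)).map π = Ideal.ofList l := by
        rw [Ideal.map_ofList, List.map_map, show ⇑π ∘ sec = id from funext hsec, List.map_id]
      rw [Ideal.ofList_cons, ← h1, Ideal.comap_map_of_surjective _ Ideal.Quotient.mk_surjective,
        ← RingHom.ker_eq_comap_bot, Ideal.mk_ker, sup_comm]
    have hts : Ideal.ofList (x :: ts'.map sec) = p := by rw [hmap, hspan, hcomap]
    refine ⟨x :: ts'.map sec, le_antisymm (by rw [List.length_cons, List.length_map, hlen]; exact hμ) ?_, hts, ?_⟩
    · conv_lhs => rw [← hts]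
      refine (Submodule.spanFinrank_span_le_ncard_of_finite (List.finite_toSet _)).trans ?_
      exact (List.coe_toFinset (x :: ts'.map sec) ▸ (Set.ncard_coe_finset _).trans_le (List.toFinset_card_le _) :)
    intro i k hk hik
    rcases i with _ | i
    · refine Submodule.ext fun y => ?_
      simp only [Submodule.mem_colon_singleton, List.take_zero, Ideal.ofList_nil, Ideal.mem_bot,
        smul_eq_mul, List.getElem_cons_zero]
      refine ⟨fun h => hreg ?_, fun h => by rw [← mul_assoc, h, zero_mul]⟩
      show x • (y * _) = x • 0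
      rw [smul_zero, smul_eq_mul, ← h]; ring
    · obtain ⟨k, rfl⟩ : ∃ k', k = k' + 1 := ⟨k - 1, by omega⟩
      have hk' : k < ts'.length := by simpa using hk
      have h := hcol i k hk' (by omega)
      refine Submodule.ext fun y => ?_
      have h' := SetLike.ext_iff.1 h (π y)
      simp only [Submodule.mem_colon_singleton, smul_eq_mul] at h' ⊢
      simp only [List.take_succ_cons, ← List.map_take, hmap, Ideal.mem_comap, map_mul,
        List.getElem_cons_succ, List.getElem_map, hsec]
      exact h'

/-- Let T be a Cohen–Macaulay Noetherian local ring and p a prime ideal of T whose minimal number of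
generators is at most height(p) + 1, and assume the localization T_p is a regular local ring. In
that case some d-sequence generates p: there is a list of elements generating p, no member of which
lies in the ideal of the others, and such that for all positions i ≤ k the colon ideals ((t_1, …,
t_{i-1}) : t_k t_i) and ((t_1, …, t_{i-1}) : t_k) coincide. -/
theorem result {T : Type u} [CommRing T] [LocCoh.IsCohenMacaulayLocalRing T]
    (p : Ideal T) [p.IsPrime] (hgen : (Submodule.spanFinrank p : ℕ∞) ≤ p.height + 1)
    [IsRegularLocalRing (Localization.AtPrime p)] :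
    ∃ ts : List T, Ideal.ofList ts = p ∧ W4c5grrsingularflat.IsDSeq ts := by
  obtain ⟨n, hn⟩ : ∃ n : ℕ, p.height = n := ⟨p.height.toNat, (ENat.coe_toNat (Ideal.height_ne_top ‹p.IsPrime›.ne_top)).symm⟩
  rw [hn] at hgen
  obtain ⟨ts, hlen, hspan, hcol⟩ := exists_list n p hn (by exact_mod_cast hgen)
  exact ⟨ts, hspan, notMem_others ts (by rw [hspan, hlen]), hcol⟩
end Groth.Agent.S17874
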