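import Groth.Statements.S17875
import Mathlib
import Groth.Prelude

set_option linter.all false

set_option autoImplicit false
universe u
open Polynomial
open GRRSing

open scoped BigOperators

namespace Groth.Agent.S17875

/-- Let R be a commutative ℚ-algebra, r an element of R and δ a natural number with (r - 1) ^ (δ + 1) =
0. Write s(k, j) for the signed Stirling numbers of the first kind, the coefficients of x (x - 1) ⋯
(x - k + 1) = Σ_j s(k, j) x ^ j. Then (i) for every natural number n, r ^ n = Σ_{k ≤ δ} [n (n - 1) ⋯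
(n - k + 1) / k!] (r - 1) ^ k; and (ii) in the polynomial ring R[x], Σ_{k ≤ δ} [x (x - 1) ⋯ (x - k +
1) / k!] (r - 1) ^ k = Σ_{j ≤ δ} [Σ_{k ≤ δ} Σ_{u ≤ k} (-1) ^ (k - u) s(k, j) / (u! (k - u)!) · r ^
u] x ^ j. -/
theorem result {R : Type u} [CommRing R] [Algebra ℚ R]
    (r : R) (δ : ℕ) (hr : (r - 1) ^ (δ + 1) = 0) :
    (∀ n : ℕ, r ^ n = ∑ k ∈ Finset.range (δ + 1), ((descPochhammer ℚ k).eval (n : ℚ) / (k.factorial : ℚ)) • (r - 1) ^ k) ∧
    (∑ k ∈ Finset.range (δ + 1), ((k.factorial : ℚ)⁻¹ • (descPochhammer R k * Polynomial.C ((r - 1) ^ k))) =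
      ∑ j ∈ Finset.range (δ + 1), Polynomial.C (∑ k ∈ Finset.range (δ + 1), ∑ u ∈ Finset.range (k + 1),
        (((-1 : ℚ) ^ (k - u) * (((descPochhammer ℤ k).coeff j : ℤ) : ℚ)) / ((u.factorial * (k - u).factorial : ℕ) : ℚ)) • r ^ u) * Polynomial.X ^ j) := by
  constructor
  · intro n
    have h0 : ∀ k, δ + 1 ≤ k → (r - 1) ^ k = 0 := fun k hk => pow_eq_zero_of_le hk hr
    conv_lhs => rw [show r = (r - 1) + 1 by ring, add_pow]
    rw [Finset.sum_congr rfl fun k _ => show (r - 1) ^ k * 1 ^ (n - k) * (n.choose k : R) =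
      ((descPochhammer ℚ k).eval (n : ℚ) / (k.factorial : ℚ)) • (r - 1) ^ k by
        rw [← Nat.cast_choose_eq_descPochhammer_div, one_pow, mul_one, Nat.cast_smul_eq_nsmul, nsmul_eq_mul, mul_comm]]
    rcases le_total (n + 1) (δ + 1) with h | h
    · refine Finset.sum_subset (Finset.range_mono h) fun k _ hk => ?_
      rw [← Nat.cast_choose_eq_descPochhammer_div, Nat.choose_eq_zero_of_lt (by simpa using hk), Nat.cast_zero, zero_smul]
    · refine (Finset.sum_subset (Finset.range_mono h) fun k _ hk => ?_).symm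
      rw [h0 k (by simpa using hk), smul_zero]
  · ext j
    rw [Polynomial.finsetSum_coeff, Polynomial.finsetSum_coeff]
    simp only [Polynomial.coeff_smul, Polynomial.coeff_mul_C, Polynomial.coeff_C_mul_X_pow]
    have hs : ∀ k, (descPochhammer R k).coeff j = (((descPochhammer ℤ k).coeff j : ℤ) : R) := fun k => by
      rw [← descPochhammer_map (Int.castRingHom R) k, Polynomial.coeff_map]; rfl
    have key : ∀ k, (k.factorial : ℚ)⁻¹ • ((descPochhammer R k).coeff j * (r - 1) ^ k) = ∑ u ∈ Finset.range (k + 1),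
        (((-1 : ℚ) ^ (k - u) * (((descPochhammer ℤ k).coeff j : ℤ) : ℚ)) / ((u.factorial * (k - u).factorial : ℕ) : ℚ)) • r ^ u := by
      intro k
      rw [hs, sub_eq_add_neg, add_pow, Finset.mul_sum, Finset.smul_sum]
      refine Finset.sum_congr rfl fun u hu => ?_
      rw [Finset.mem_range] at hu
      have hc : (k.choose u : ℚ) = (k.factorial : ℚ) / ((u.factorial : ℚ) * ((k - u).factorial : ℚ)) :=
        Nat.cast_choose ℚ (by omega)
      rw [Algebra.smul_def, Algebra.smul_def, ← map_natCast (algebraMap ℚ R) (k.choose u),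
        ← map_intCast (algebraMap ℚ R) ((descPochhammer ℤ k).coeff j), show (-1 : R) = algebraMap ℚ R (-1) by simp,
        ← map_pow, hc]
      have hk : (k.factorial : ℚ) ≠ 0 := Nat.cast_ne_zero.2 k.factorial_ne_zero
      rw [show ((-1 : ℚ) ^ (k - u) * (((descPochhammer ℤ k).coeff j : ℤ) : ℚ)) / ((u.factorial * (k - u).factorial : ℕ) : ℚ) =
        (k.factorial : ℚ)⁻¹ * (((descPochhammer ℤ k).coeff j : ℤ) : ℚ) * ((-1 : ℚ) ^ (k - u) *
          ((k.factorial : ℚ) / ((u.factorial : ℚ) * ((k - u).factorial : ℚ)))) by push_cast; field_simp]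
      simp only [map_mul]
      ring
    rw [Finset.sum_congr rfl fun k _ => key k]
    by_cases hj : j ∈ Finset.range (δ + 1)
    · rw [Finset.sum_ite_eq, if_pos hj]
    · rw [Finset.sum_ite_eq, if_neg hj]
      rw [← Finset.sum_congr rfl fun k _ => key k]
      refine Finset.sum_eq_zero fun k hk => ?_
      have : (descPochhammer ℤ k).coeff j = 0 := Polynomial.coeff_eq_zero_of_natDegree_lt (by
        rw [descPochhammer_natDegree]; simp only [Finset.mem_range] at hk hj; omega)
      rw [hs, this, Int.cast_zero, zero_mul, smul_zero]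

end Groth.Agent.S17875
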