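import Groth.Statements.S17877
import Mathlib
import Groth.Agent.CAlgH.CotangentResidue
import Groth.Agent.HopfLib.CotangentDim
import Groth.Agent.DimLib.Components

set_option autoImplicit false
set_option backward.isDefEq.respectTransparency false
universe u
open GRRSing
open scoped TensorProduct

namespace Groth.Agent.S17877

/-- Let K be a field with algebraic closure K̄ and Z = Spec A an affine scheme of finite type over K of
dimension d whose geometric fibre Spec (K̄ ⊗_K A) is integral with at most hypersurface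
singularities (at every prime the embedding dimension of the local ring, the dimension of 𝔪/𝔪² over
the residue field, is at most the height of the prime plus one). Then for every prime p of A the
(Ω_{A/K})_p is generated over A_p by at most d + 1 elements. (The published statement is for any Z
of finite type over K; the assertion is local on Z and the hypotheses pass to affine opens.) -/
theorem result
    {K : Type u} [Field K] {A : Type u} [CommRing A] [Algebra K A] [Algebra.FiniteType K A]
    [IsDomain (TensorProduct K (AlgebraicClosure K) A)]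
    (hhyp : ∀ (q : Ideal (TensorProduct K (AlgebraicClosure K) A)) [q.IsPrime],
      (Module.finrank (IsLocalRing.ResidueField (Localization.AtPrime q))
          (IsLocalRing.CotangentSpace (Localization.AtPrime q)) : ℕ∞) ≤ q.height + 1)
    (d : ℕ) (hd : ringKrullDim A = d) (p : Ideal A) [p.IsPrime] :
    ∃ s : Finset (LocalizedModule p.primeCompl (KaehlerDifferential K A)),
      s.card ≤ d + 1 ∧ Submodule.span (Localization.AtPrime p) (s : Set (LocalizedModule p.primeCompl (KaehlerDifferential K A))) = ⊤ := by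
  classical
  letI := Algebra.TensorProduct.rightAlgebra (R := K) (A := AlgebraicClosure K) (B := A)
  let Kb := AlgebraicClosure K
  let A' := TensorProduct K Kb A
  obtain ⟨m, hm, hpm⟩ := p.exists_le_maximal Ideal.IsPrime.ne_top'
  -- a point of the geometric fibre
  haveI : Algebra.IsIntegral A A' := by
    constructor
    intro x
    induction x using TensorProduct.induction_on with
    | zero => exact isIntegral_zero
    | add s t hs ht => exact hs.add ht
    | tmul c a =>
      have h1 : IsIntegral A ((c ⊗ₜ[K] (1 : A)) : A') :=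
        ((Algebra.IsIntegral.isIntegral (R := K) c).map
          (Algebra.TensorProduct.includeLeft : Kb →ₐ[K] A')).tower_top
      have h2 : (c ⊗ₜ[K] a : A') = (c ⊗ₜ[K] (1 : A)) * algebraMap A A' a := by
        rw [show algebraMap A A' a = (1 : Kb) ⊗ₜ[K] a from rfl, Algebra.TensorProduct.tmul_mul_tmul,
          mul_one, one_mul]
      rw [h2]
      exact h1.mul isIntegral_algebraMap
  have hinj : Function.Injective (algebraMap A A') :=
    Algebra.TensorProduct.includeRight_injective (algebraMap K Kb).injective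
  obtain ⟨m', hm', hm'm⟩ := Ideal.exists_ideal_over_maximal_of_isIntegral (S := A') m
    (by rw [(RingHom.injective_iff_ker_eq_bot _).1 hinj]; exact bot_le)
  haveI := hm'
  have hd' : ringKrullDim A' = d := (DimLib.ringKrullDim_eq_of_isIntegral hinj).symm.trans hd
  haveI : IsNoetherianRing A' := Algebra.FiniteType.isNoetherianRing Kb A'
  have hk : Function.Bijective (algebraMap Kb (A' ⧸ m')) := by
    letI := Ideal.Quotient.field m'
    haveI : Module.Finite Kb (A' ⧸ m') := finite_of_finite_type_of_isJacobsonRing _ _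
    exact ⟨(algebraMap Kb (A' ⧸ m')).injective,
      IsAlgClosed.algebraMap_bijective_of_isIntegral.2⟩
  let e : Kb ≃ₐ[Kb] A' ⧸ m' := AlgEquiv.ofBijective (Algebra.ofId Kb (A' ⧸ m')) hk
  let ε : A' →ₐ[Kb] Kb := e.symm.toAlgHom.comp (Ideal.Quotient.mkₐ Kb m')
  have hε : m' = RingHom.ker ε := by
    ext x
    simp [ε, RingHom.mem_ker, Ideal.Quotient.eq_zero_iff_mem]
  have hfr : Module.finrank (A' ⧸ m') m'.Cotangent = Module.finrank Kb m'.Cotangent := by
    letI := Ideal.Quotient.field m'
    haveI : IsScalarTower Kb (A' ⧸ m') m'.Cotangent := ⟨fun c x v => by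
      obtain ⟨a, rfl⟩ := Ideal.Quotient.mk_surjective x
      show (c • a) • v = c • a • v
      exact smul_assoc c a v⟩
    rw [← Module.finrank_mul_finrank Kb (A' ⧸ m') m'.Cotangent, ← e.toLinearEquiv.finrank_eq,
      Module.finrank_self, one_mul]
  have hle : Module.finrank (A' ⧸ m') ((A' ⧸ m') ⊗[A'] Ω[A'⁄Kb]) ≤ d + 1 := by
    rw [CAlgH.finrank_tensor_kaehler_eq_finrank_cotangent Kb A' m' hk, hfr,
      ← HopfLib.finrank_cotangentSpace_eq ε m' hε]
    have h1 := hhyp m'
    have h2 : (m'.height : WithBot ℕ∞) ≤ (d : WithBot ℕ∞) :=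
      (Ideal.height_le_ringKrullDim_of_ne_top hm'.ne_top).trans_eq hd'
    have h3 : m'.height ≤ (d : ℕ∞) := WithBot.coe_le_coe.1 h2
    exact_mod_cast h1.trans (add_le_add_left h3 1)
  letI := Ideal.Quotient.field m
  letI := Ideal.Quotient.field m'
  let fm : A ⧸ m →+* A' ⧸ m' := Ideal.quotientMap m' (algebraMap A A') hm'm.ge
  letI := fm.toAlgebra
  haveI : IsScalarTower A (A ⧸ m) (A' ⧸ m') := IsScalarTower.of_algebraMap_eq fun a => rfl
  have heq : Module.finrank (A' ⧸ m') ((A' ⧸ m') ⊗[A'] Ω[A'⁄Kb]) =
      Module.finrank (A ⧸ m) ((A ⧸ m) ⊗[A] Ω[A⁄K]) := by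
    rw [← Module.finrank_baseChange (R := A' ⧸ m') (S := A ⧸ m) (M' := (A ⧸ m) ⊗[A] Ω[A⁄K])]
    exact (((TensorProduct.AlgebraTensorModule.congr (LinearEquiv.refl (A' ⧸ m') (A' ⧸ m'))
      (KaehlerDifferential.tensorKaehlerEquiv K Kb A A').symm).trans
      (TensorProduct.AlgebraTensorModule.cancelBaseChange A A' (A' ⧸ m') (A' ⧸ m') (Ω[A⁄K]))).trans
      (TensorProduct.AlgebraTensorModule.cancelBaseChange A (A ⧸ m) (A' ⧸ m') (A' ⧸ m') (Ω[A⁄K])).symm).finrank_eq
  -- lift a basis and apply Nakayama
  let V := (A ⧸ m) ⊗[A] Ω[A⁄K]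
  let b := Module.finBasis (A ⧸ m) V
  choose w hw using fun i => TensorProduct.mk_surjective A (Ω[A⁄K]) (A ⧸ m) Ideal.Quotient.mk_surjective (b i)
  let N : Submodule A (Ω[A⁄K]) := Submodule.span A (Set.range w)
  have htop : (⊤ : Submodule A (Ω[A⁄K])) ≤ N ⊔ m • ⊤ := by
    intro x _
    have hx := b.sum_repr ((1 : A ⧸ m) ⊗ₜ[A] x)
    choose c hc using fun i => Ideal.Quotient.mk_surjective (b.repr ((1 : A ⧸ m) ⊗ₜ[A] x) i)
    have h0 : (1 : A ⧸ m) ⊗ₜ[A] (x - ∑ i, c i • w i) = 0 := by
      rw [TensorProduct.tmul_sub, TensorProduct.tmul_sum, sub_eq_zero]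
      conv_lhs => rw [← hx]
      refine Finset.sum_congr rfl fun i _ => ?_
      rw [TensorProduct.tmul_smul, ← hw i, ← hc i, ← algebraMap_smul (A ⧸ m) (c i)]
      rfl
    have h1 : x - ∑ i, c i • w i ∈ m • (⊤ : Submodule A (Ω[A⁄K])) := by
      rw [← Submodule.Quotient.mk_eq_zero, ← map_zero (TensorProduct.quotTensorEquivQuotSMul (Ω[A⁄K]) m), ← h0,
        ← map_one (Ideal.Quotient.mk m), TensorProduct.quotTensorEquivQuotSMul_mk_tmul, one_smul]
    have hN : ∑ i, c i • w i ∈ N :=
      Submodule.sum_mem _ fun i _ => Submodule.smul_mem _ _ (Submodule.subset_span ⟨i, rfl⟩)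
    exact Submodule.mem_sup.2 ⟨_, hN, _, h1, add_sub_cancel _ _⟩
  haveI : Module.Finite A (Ω[A⁄K]) := inferInstance
  obtain ⟨r, hr, hr0⟩ := Submodule.exists_sub_one_mem_and_smul_eq_zero_of_fg_of_le_smul m
    (⊤ : Submodule A (Ω[A⁄K] ⧸ N)) Module.Finite.fg_top (by
      have := Submodule.map_mono (f := N.mkQ) htop
      rwa [Submodule.map_top, Submodule.range_mkQ, Submodule.map_sup, Submodule.map_smul'',
        Submodule.map_top, Submodule.range_mkQ, Submodule.mkQ_map_self, bot_sup_eq] at this)
  have hrp : r ∉ p := fun h => hm.ne_top ((Ideal.eq_top_iff_one _).2 (by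
    simpa using m.sub_mem (hpm h) hr))
  let g := LocalizedModule.mkLinearMap p.primeCompl (Ω[A⁄K])
  refine ⟨Finset.univ.image fun i => g (w i), Finset.card_image_le.trans ?_, ?_⟩
  · rw [Finset.card_univ, Fintype.card_fin]
    exact heq ▸ hle
  · rw [eq_top_iff]
    intro z _
    induction z using LocalizedModule.induction_on with
    | _ x s =>
      have hrx : r • x ∈ N := by
        rw [← Submodule.Quotient.mk_eq_zero, Submodule.Quotient.mk_smul]
        exact hr0 _ Submodule.mem_top
      have h1 : g (r • x) ∈ Submodule.span (Localization.AtPrime p)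
          (↑(Finset.univ.image fun i => g (w i)) : Set _) := by
        have h2 := Submodule.mem_map_of_mem (f := g) hrx
        rw [Submodule.map_span] at h2
        refine Submodule.span_le_restrictScalars A _ _ (Submodule.span_mono ?_ h2)
        rintro _ ⟨_, ⟨i, rfl⟩, rfl⟩
        simp
      have h3 : LocalizedModule.mk x s =
          (Localization.mk 1 (s * ⟨r, hrp⟩) : Localization p.primeCompl) • g (r • x) := by
        rw [LocalizedModule.mkLinearMap_apply, LocalizedModule.mk_smul_mk, one_smul, mul_one, LocalizedModule.mk_eq]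
        exact ⟨1, by simp [Submonoid.smul_def, mul_smul]⟩
      rw [h3]
      exact Submodule.smul_mem _ _ h1

end Groth.Agent.S17877
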