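import Groth.Statements.S17878
import Mathlib
import Groth.Prelude

set_option linter.all false

set_option autoImplicit false
universe u
open Filter Topology
open GRRSing

open Filter Topology TensorProduct

namespace Groth.Agent.S17878

theorem summ (j : ℕ) {y : ℂ} (hy : ‖y‖ < 1) : Summable fun k : ℕ => (k : ℂ) ^ j * y ^ k :=
  summable_pow_mul_geometric_of_norm_lt_one j hy

theorem f_rec (n : ℕ) {y : ℂ} (hy : ‖y‖ < 1) :
    (1 - y) * ∑' k : ℕ, (k : ℂ) ^ n * y ^ k =
      (if n = 0 then 1 else 0) + y * ∑ i ∈ Finset.range n, (n.choose i : ℂ) * ∑' k : ℕ, (k : ℂ) ^ i * y ^ k := by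
  have h0 := (summ n hy).tsum_eq_zero_add
  have h1 : ∑' k : ℕ, ((k + 1 : ℕ) : ℂ) ^ n * y ^ (k + 1) =
      y * ∑ i ∈ Finset.range (n + 1), (n.choose i : ℂ) * ∑' k : ℕ, (k : ℂ) ^ i * y ^ k := by
    calc ∑' k : ℕ, ((k + 1 : ℕ) : ℂ) ^ n * y ^ (k + 1)
        = ∑' k : ℕ, ∑ i ∈ Finset.range (n + 1), y * ((n.choose i : ℂ) * ((k : ℂ) ^ i * y ^ k)) := by
          refine tsum_congr fun k => ?_
          push_cast
          rw [add_pow, Finset.sum_mul]
          exact Finset.sum_congr rfl fun i _ => by ring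
      _ = _ := by
          rw [Summable.tsum_finsetSum (fun i _ => ((summ i hy).mul_left _).mul_left _), Finset.mul_sum]
          exact Finset.sum_congr rfl fun i _ => by rw [tsum_mul_left, tsum_mul_left]
  rw [h1, Finset.sum_range_succ, Nat.choose_self, Nat.cast_one, one_mul, pow_zero, mul_one] at h0
  rw [show (((0 : ℕ) : ℂ) ^ n) = if n = 0 then 1 else 0 by rcases n with - | n <;> simp] at h0
  linear_combination h0

theorem E_rec (E : ℕ → ℚ) (hE : PowerSeries.mk (fun j => E j / (j.factorial : ℚ)) * (PowerSeries.exp ℚ + 1) = 2) (n : ℕ) :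
    2 * E n + ∑ i ∈ Finset.range n, (n.choose i : ℚ) * E i = if n = 0 then 2 else 0 := by
  have h := congrArg (PowerSeries.coeff n) hE
  rw [mul_add, mul_one, map_add, PowerSeries.coeff_mul, Finset.Nat.sum_antidiagonal_eq_sum_range_succ_mk,
    show (2 : PowerSeries ℚ) = PowerSeries.C 2 from (map_ofNat _ 2).symm, PowerSeries.coeff_C, PowerSeries.coeff_mk] at h
  simp only [PowerSeries.coeff_mk, PowerSeries.coeff_exp, Algebra.algebraMap_self, RingHom.id_apply] at h
  rw [Finset.sum_range_succ, Nat.sub_self, Nat.factorial_zero, Nat.cast_one, div_one, mul_one] at h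
  have hn : (n.factorial : ℚ) ≠ 0 := Nat.cast_ne_zero.2 n.factorial_ne_zero
  have key : ∑ i ∈ Finset.range n, (n.choose i : ℚ) * E i =
      (n.factorial : ℚ) * ∑ i ∈ Finset.range n, E i / i.factorial * (1 / (n - i).factorial) := by
    rw [Finset.mul_sum]
    refine Finset.sum_congr rfl fun i hi => ?_
    rw [Nat.cast_choose ℚ (Finset.mem_range.1 hi).le]
    field_simp
  rw [key]
  have h2 := congrArg ((n.factorial : ℚ) * ·) h
  simp only [mul_add, mul_div_cancel₀ _ hn] at h2
  rcases n with - | n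
  · simp at h2 ⊢; linarith
  · simp at h2 ⊢; linarith

theorem f_tendsto (E : ℕ → ℚ) (hE : PowerSeries.mk (fun j => E j / (j.factorial : ℚ)) * (PowerSeries.exp ℚ + 1) = 2) (n : ℕ) :
    Tendsto (fun y : ℝ => ∑' k : ℕ, (k : ℂ) ^ n * (y : ℂ) ^ k) (𝓝[Set.Ioo (-1 : ℝ) 1] (-1 : ℝ)) (𝓝 ((E n : ℂ) / 2)) := by
  induction n using Nat.strong_induction_on with
  | _ n ih =>
    have hy : Tendsto (fun y : ℝ => (y : ℂ)) (𝓝[Set.Ioo (-1 : ℝ) 1] (-1 : ℝ)) (𝓝 (-1 : ℂ)) := by
      simpa using (Complex.continuous_ofReal.tendsto (-1 : ℝ)).mono_left nhdsWithin_le_nhds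
    have hlim := ((tendsto_const_nhds (x := (if n = 0 then 1 else 0 : ℂ))).add (hy.mul (tendsto_finsetSum (Finset.range n)
      fun i hi => (ih i (Finset.mem_range.1 hi)).const_mul (n.choose i : ℂ)))).div
      ((tendsto_const_nhds (x := (1 : ℂ))).sub hy) (by norm_num)
    have hval : ((E n : ℂ) / 2) = ((if n = 0 then 1 else 0 : ℂ) + -1 * ∑ i ∈ Finset.range n, (n.choose i : ℂ) * ((E i : ℂ) / 2)) / (1 - -1) := by
      have h := congrArg (fun q : ℚ => (q : ℂ)) (E_rec E hE n)
      simp only [mul_div_assoc', ← Finset.sum_div]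
      split_ifs at h ⊢ <;> push_cast at h <;> linear_combination h / 4
    rw [hval]
    refine hlim.congr' ?_
    filter_upwards [self_mem_nhdsWithin] with y hy'
    have hn : ‖(y : ℂ)‖ < 1 := by
      rw [Complex.norm_real, Real.norm_eq_abs, abs_lt]; exact hy'
    have hne : (1 : ℂ) - (y : ℂ) ≠ 0 := sub_ne_zero.2 (by exact_mod_cast hy'.2.ne')
    simp only [Pi.div_apply]
    rw [div_eq_iff hne, ← f_rec n hn]
    ring

/-- Let T be a nonzero commutative normed ℂ-algebra such that the map ℂ → T/nilradical(T) is surjective,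
let P = Σ_j d_j x ^ j be a polynomial over T and put h_k = P(k). Let E_0, E_1, … be the rational
numbers with 2/(e^t + 1) = Σ_j E_j t ^ j / j! (so E_0 = 1, E_1 = -1/2). Then for every complex y
with |y| < 1 the series Σ_k h_k y ^ k converges in T, and as y → -1 along real y in (-1, 1) its sum
tends to (1/2) Σ_j E_j d_j. (The published statement allows any norm topology on T as a complex
vector space; this row takes T a normed ℂ-algebra.) -/
theorem result {T : Type u} [NormedCommRing T] [NormedAlgebra ℂ T] [Nontrivial T]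
    (hT : Function.Surjective (algebraMap ℂ (T ⧸ nilradical T)))
    (E : ℕ → ℚ) (hE : PowerSeries.mk (fun j => E j / (j.factorial : ℚ)) * (PowerSeries.exp ℚ + 1) = 2)
    (P : Polynomial T) :
    (∀ y : ℂ, ‖y‖ < 1 → Summable (fun k : ℕ => y ^ k • P.eval (k : T))) ∧
    Tendsto (fun y : ℝ => ∑' k : ℕ, ((y : ℂ) ^ k) • P.eval (k : T)) (𝓝[Set.Ioo (-1 : ℝ) 1] (-1 : ℝ))
      (𝓝 ((2 : ℂ)⁻¹ • ∑ j ∈ Finset.range (P.natDegree + 1), ((E j : ℚ) : ℂ) • P.coeff j)) := by
  have heq : ∀ (y : ℂ) (k : ℕ), y ^ k • P.eval (k : T) =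
      ∑ j ∈ Finset.range (P.natDegree + 1), ((k : ℂ) ^ j * y ^ k) • P.coeff j := fun y k => by
    rw [Polynomial.eval_eq_sum_range, Finset.smul_sum]
    refine Finset.sum_congr rfl fun j _ => ?_
    rw [show P.coeff j * (k : T) ^ j = ((k : ℂ) ^ j) • P.coeff j by
      rw [Algebra.smul_def, map_pow, map_natCast, mul_comm], smul_smul, mul_comm]
  have hsum : ∀ y : ℂ, ‖y‖ < 1 → ∀ j, Summable fun k : ℕ => ((k : ℂ) ^ j * y ^ k) • P.coeff j :=
    fun y hy j => (summ j hy).smul_const _
  refine ⟨fun y hy => ?_, ?_⟩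
  · simp only [heq]
    exact summable_sum fun j _ => hsum y hy j
  · rw [Finset.smul_sum]
    refine (tendsto_finsetSum (Finset.range (P.natDegree + 1)) fun j _ =>
      ((f_tendsto E hE j).smul_const (P.coeff j))).congr' ?_ |>.trans ?_
    · filter_upwards [self_mem_nhdsWithin] with y hy
      have hn : ‖(y : ℂ)‖ < 1 := by
        rw [Complex.norm_real, Real.norm_eq_abs, abs_lt]; exact hy
      simp only [heq]
      rw [Summable.tsum_finsetSum (fun j _ => hsum _ hn j)]
      exact Finset.sum_congr rfl fun j _ => ((summ j hn).tsum_smul_const _).symm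
    · refine le_of_eq (congrArg 𝓝 (Finset.sum_congr rfl fun j _ => ?_))
      rw [smul_smul]
      congr 1
      ring

end Groth.Agent.S17878
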