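import Groth.Statements.S17881
import Mathlib.Algebra.Category.ModuleCat.Abelian
import Mathlib.CategoryTheory.Limits.Shapes.Countable
import Mathlib.CategoryTheory.Limits.Types.Pullbacks
import Mathlib.Dynamics.Newton
import Mathlib.Order.CompletePartialOrder
import Mathlib.RingTheory.AdicCompletion.Noetherian
import Mathlib.RingTheory.Etale.Weakly
import Mathlib.RingTheory.Flat.TorsionFree
import Mathlib.RingTheory.Ideal.AssociatedPrime.Localization
import Mathlib.RingTheory.PicardGroup
import Mathlib.RingTheory.PowerSeries.NoZeroDivisors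
import Mathlib.RingTheory.PowerSeries.Trunc
import Mathlib.RingTheory.TotallySplit
import Mathlib.Tactic
import Groth.Agent.CommAlg4.Nilpotent
import Groth.Agent.S14020

set_option linter.all false

set_option autoImplicit false
universe u
open CAlg

open CategoryTheory

namespace Groth.Agent.S17881

/-- Let O be a subring of a nontrivial commutative ring A. The following are equivalent: (i) A is a
local ring, every non-unit of A belongs to O, and for every unit u of A one of u, u⁻¹ belongs to O —
equivalently O is the preimage in the local ring A of a valuation ring of the residue field of A,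
which makes O a semi-valuation ring with semi-fraction ring A; (ii) for all f, g in A generating the
unit ideal, either f ∈ gO or g ∈ fO. (A is taken nontrivial: over the zero ring (ii) holds and (i)
fails.) -/
theorem result (A : Type u) [CommRing A] [Nontrivial A]
    (O : Subring A) :
    (IsLocalRing A ∧ (∀ a : A, ¬ IsUnit a → a ∈ O) ∧ (∀ u : Aˣ, (u : A) ∈ O ∨ ((u⁻¹ : Aˣ) : A) ∈ O)) ↔
      ∀ f g : A, IsCoprime f g → (∃ o ∈ O, f = g * o) ∨ (∃ o ∈ O, g = f * o) := by
  constructor
  · rintro ⟨hl, hnu, hu⟩ f g ⟨a, b, hab⟩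
    by_cases hg : IsUnit g
    · obtain ⟨g, rfl⟩ := hg
      by_cases hf : IsUnit f
      · obtain ⟨f, rfl⟩ := hf
        rcases hu (g⁻¹ * f) with h | h
        · exact .inl ⟨_, h, by simp⟩
        · exact .inr ⟨_, h, by simp⟩
      · left
        exact ⟨((g⁻¹ : Aˣ) : A) * f, hnu _ fun h => hf (isUnit_of_mul_isUnit_right h), by simp⟩
    · have hf : IsUnit f := by
        rcases IsLocalRing.isUnit_or_isUnit_of_add_one hab with h | h
        · exact isUnit_of_mul_isUnit_right h
        · exact absurd (isUnit_of_mul_isUnit_right h) hg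
      obtain ⟨f, rfl⟩ := hf
      right
      exact ⟨((f⁻¹ : Aˣ) : A) * g, hnu _ fun h => hg (isUnit_of_mul_isUnit_right h), by simp⟩
  · intro h
    have hnu : ∀ a : A, ¬ IsUnit a → a ∈ O := by
      intro a ha
      rcases h a 1 isCoprime_one_right with ⟨o, ho, e⟩ | ⟨o, ho, e⟩
      · rw [one_mul] at e; exact e ▸ ho
      · exact absurd (IsUnit.of_mul_eq_one o e.symm) ha
    refine ⟨?_, hnu, fun u => ?_⟩
    · refine IsLocalRing.of_isUnit_or_isUnit_of_isUnit_add fun a b hab => ?_
      have : IsCoprime a b := ⟨((hab.unit⁻¹ : Aˣ) : A), ((hab.unit⁻¹ : Aˣ) : A), by rw [← mul_add]; exact hab.val_inv_mul⟩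
      rcases h a b this with ⟨o, _, e⟩ | ⟨o, _, e⟩
      · right
        exact isUnit_of_mul_isUnit_left (y := o + 1) (by rwa [mul_add, mul_one, ← e])
      · left
        exact isUnit_of_mul_isUnit_left (y := 1 + o) (by rwa [mul_add, mul_one, ← e])
    · rcases h (u : A) 1 isCoprime_one_right with ⟨o, ho, e⟩ | ⟨o, ho, e⟩
      · left; rw [e, one_mul]; exact ho
      · right
        have : ((u⁻¹ : Aˣ) : A) = o := by
          calc ((u⁻¹ : Aˣ) : A) = ((u⁻¹ : Aˣ) : A) * ((u : A) * o) := by rw [← e, mul_one]
            _ = o := by rw [Units.inv_mul_cancel_left]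
        rw [this]; exact ho

end Groth.Agent.S17881
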