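import Groth.Statements.S17882
import Mathlib

set_option linter.all false

set_option autoImplicit false
universe u
open CAlg

open TensorProduct Matrix

namespace Groth.Agent.S17882

/-- Let B be a commutative ring, r ≥ 1, N a finitely generated submodule of B^r, and n_1, …, n_r ∈ N.
Suppose the determinant of the matrix with rows n_1, …, n_r is a nonzerodivisor of B and that the
determinant of every matrix whose rows lie in N is a multiple of it (the image of the top exterior
power of N in that of B^r ≅ B is the principal ideal generated by n_1 ∧ ⋯ ∧ n_r, a nonzerodivisor).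
Then n_1, …, n_r are linearly independent over B and span N: N is free of rank r with this basis. -/
theorem result (B : Type u) [CommRing B] (r : ℕ) (hr : 0 < r)
    (N : Submodule B (Fin r → B)) (hN : N.FG) (n : Fin r → (Fin r → B)) (hn : ∀ i, n i ∈ N)
    (hgen : ∀ m : Fin r → (Fin r → B), (∀ i, m i ∈ N) →
      Matrix.det (Matrix.of m) ∈ Ideal.span {Matrix.det (Matrix.of n)})
    (hnzd : Matrix.det (Matrix.of n) ∈ nonZeroDivisors B) :
    LinearIndependent B n ∧ Submodule.span B (Set.range n) = N := by
  classical
  set D := Matrix.det (Matrix.of n) with hD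
  have hzero : ∀ x : Fin r → B, D • x = 0 → x = 0 := fun x hx => funext fun i =>
    (mul_left_mem_nonZeroDivisors_eq_zero_iff hnzd).1 (congrFun hx i)
  have hvec : ∀ c : Fin r → B, Matrix.vecMul c (Matrix.of n) = ∑ i, c i • n i := fun c => by
    ext k; simp [Matrix.vecMul, dotProduct, Finset.sum_apply]
  refine ⟨?_, le_antisymm (Submodule.span_le.2 (by rintro _ ⟨i, rfl⟩; exact hn i)) fun m hm => ?_⟩
  · rw [Fintype.linearIndependent_iff]
    intro c hc
    have h := congrArg (fun v => Matrix.vecMul v (Matrix.of n).adjugate) ((hvec c).trans hc)
    simp only [Matrix.vecMul_vecMul, Matrix.mul_adjugate, Matrix.vecMul_smul, Matrix.vecMul_one,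
      Matrix.zero_vecMul] at h
    exact congrFun (hzero c h)
  · have hcr : ∀ i, Matrix.det ((Matrix.of n).updateRow i m) ∈ Ideal.span {D} := fun i =>
      hgen (Function.update n i m) fun j => by
        rcases eq_or_ne j i with rfl | h
        · simpa using hm
        · simpa [Function.update_of_ne h] using hn j
    choose b hb using fun i => Ideal.mem_span_singleton'.1 (hcr i)
    have h1 : Matrix.vecMul (Matrix.cramer (Matrix.of n).transpose m) (Matrix.of n) = D • m := by
      rw [← Matrix.mulVec_transpose, Matrix.mulVec_cramer, Matrix.det_transpose]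
    have h2 : Matrix.cramer (Matrix.of n).transpose m = fun i => b i * D := by
      ext i; rw [hb, Matrix.cramer_transpose_apply]
    have h3 : m = ∑ i, b i • n i := by
      rw [← sub_eq_zero]
      refine hzero _ ?_
      rw [smul_sub, ← h1, h2, hvec, Finset.smul_sum, sub_eq_zero]
      exact Finset.sum_congr rfl fun i _ => by rw [smul_smul, mul_comm]
    rw [h3]
    exact sum_mem fun i _ => Submodule.smul_mem _ _ (Submodule.subset_span ⟨i, rfl⟩)

end Groth.Agent.S17882
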