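import Groth.Statements.S17884
import Groth.Agent.FlatMorAdm.LocFreeApps
import Groth.Agent.RelVALib.QuasiProj
import Groth.Agent.LocImm12.BlowUpProjective
-- import your own Groth.Agent.* helpers here

set_option autoImplicit false
universe u v
open CategoryTheory AlgebraicGeometry
open FlatMor

namespace Groth.Agent.S17884

/-- Let S be a Noetherian scheme and f : X → S a separated quasi-projective morphism (of finite type,
with an f-ample invertible module), and let (E_i) be a finite family of finite locally free
O_X-modules. Then there exist a scheme X', an open immersion j : X → X' with schematically dense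
image and a projective morphism g : X' → S with j ≫ g = f, and for each i a finite locally free
module on X' whose pullback along j is isomorphic to E_i. -/
theorem result {S X : Scheme.{u}} (f : X ⟶ S)
    [IsNoetherian S] [IsSeparated f] (hf : RelProj.IsQuasiProjective f)
    {ι : Type v} [Finite ι] (E : ι → X.Modules) (hE : ∀ i, FlatMod.IsFinLocFree (E i)) :
    ∃ (X' : Scheme.{u}) (j : X ⟶ X') (g : X' ⟶ S), IsOpenImmersion j ∧ QuasiCompact j ∧
      IsSchemeTheoreticallyDominant j ∧ RelProj.IsProjective g ∧ j ≫ g = f ∧
      ∀ i, ∃ E' : X'.Modules, FlatMod.IsFinLocFree E' ∧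
        Nonempty ((Scheme.Modules.pullback j).obj E' ≅ E i) := by
  haveI : LocallyOfFiniteType f := hf.1
  haveI : QuasiCompact f := hf.2.1
  obtain ⟨M, hM⟩ := Groth.Agent.RelVALib.exists_hasBundleImmersion_of_isQuasiProjective
    (Or.inr (inferInstance : TopologicalSpace.NoetherianSpace S)) hf
  obtain ⟨𝒬, Q, q, chartQ, OQ, lamQ, j, h1, h2, h3, -, hj, -, hjq, -⟩ := hM.exists_dense_relProj
  have hq : RelProj.IsProjective q := ⟨𝒬, Q, q, chartQ, Iso.refl Q, h1, h2, h3, Category.id_comp q⟩
  haveI : IsProper q := Groth.Agent.RelVALib.isProper_of_isProjective hq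
  haveI : CompactSpace Q := QuasiCompact.compactSpace_of_compactSpace q
  haveI : IsLocallyNoetherian Q := LocallyOfFiniteType.isLocallyNoetherian q
  haveI : AlgebraicGeometry.IsNoetherian Q := {}
  obtain ⟨I, Y', b, k, hb, hI, hbp, hk, hkc, hks, hkb, h⟩ := FlatMorAdm.exists_lift_extend_family j E hE
  exact ⟨Y', k, b ≫ q, hk, hkc, hks, Groth.Agent.LocImm12.isProjective_blowUp_comp q hq hb hI.1,
    by rw [reassoc_of% hkb, hjq], h⟩


end Groth.Agent.S17884
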