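import Groth.Statements.S17885
import Groth.Agent.H8Lim.ApproxFP
import Mathlib

set_option backward.isDefEq.respectTransparency.types false

set_option autoImplicit false
universe u
open CategoryTheory AlgebraicGeometry
open Lim

namespace Groth.Agent.S17885

/-- Let f : Y → X be a morphism of schemes with X and Y quasi-compact and quasi-separated. Then f is
affine if and only if the X-scheme Y is a limit, in the category of schemes over X, of a filtered
inverse system of X-schemes that are affine and of finite presentation over X. -/
theorem result {X Y : Scheme.{u}} (f : Y ⟶ X)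
    [CompactSpace X] [QuasiSeparatedSpace X] [CompactSpace Y] [QuasiSeparatedSpace Y] :
    IsAffineHom f ↔
      ∃ (I : Type u) (_ : SmallCategory I) (_ : IsFiltered I) (D : Iᵒᵖ ⥤ Over X)
        (c : Limits.Cone D) (_ : Limits.IsLimit c),
        (∀ i, IsAffineHom (D.obj i).hom ∧ LocallyOfFinitePresentation (D.obj i).hom) ∧
        Nonempty (c.pt ≅ Over.mk f) := by
  constructor
  · intro hf
    obtain ⟨I, _, _, _, D, c, hc, hD, he⟩ := H8Lim.exists_limit_affine_finitePresentation f
    exact ⟨I, inferInstance, inferInstance, D, c, hc, hD, he⟩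
  · rintro ⟨I, _, _, D, c, hc, hD, ⟨e⟩⟩
    have hc' : Limits.IsLimit ((Over.forget X).mapCone c) := Limits.isLimitOfPreserves (Over.forget X) hc
    have hmap : ∀ {i j : Iᵒᵖ} (g : i ⟶ j), IsAffineHom ((D ⋙ Over.forget X).map g) := by
      intro i j g
      let hj : (D.obj j).left ⟶ X := (D.obj j).hom
      have : IsAffineHom hj := (hD j).1
      have h4 : AlgebraicGeometry.IsSeparated hj := inferInstance
      refine MorphismProperty.of_postcomp (W := @IsAffineHom) (W' := @AlgebraicGeometry.IsSeparated) _ hj
        h4 ?_
      rw [show (D ⋙ Over.forget X).map g ≫ hj = (D.obj i).hom from Over.w (D.map g)]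
      exact (hD i).1
    obtain ⟨i⟩ := IsCofiltered.nonempty (C := Iᵒᵖ)
    have haff := isAffineHom_π_app _ _ hc' i
    have : IsAffineHom c.pt.hom := by
      have h3 : (c.π.app i).left ≫ (D.obj i).hom = c.pt.hom := Over.w _
      rw [← h3]
      have := (hD i).1
      exact MorphismProperty.comp_mem @IsAffineHom _ _ haff this
    have h2 : e.inv.left ≫ c.pt.hom = f := Over.w e.inv
    rw [← h2]
    have : IsIso e.inv.left := inferInstanceAs (IsIso ((Over.forget X).map e.inv))
    infer_instance

end Groth.Agent.S17885
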