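import Groth.Statements.S17886
import Groth.Agent.FlatMorAdm.Nagata
import Groth.Agent.AmpleLib.Local
import Groth.Agent.AmpleLib.Relative

set_option autoImplicit false
universe u
open CategoryTheory AlgebraicGeometry
open FlatMor

namespace Groth.Agent.S17886

/-- Let S be a Noetherian scheme and f : X → S separated and of finite type. Then X is covered by
finitely many affine opens U_1, …, U_n each of which is dense in X and quasi-projective over S (of
finite type with a relatively ample invertible module). -/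
theorem result {S X : Scheme.{u}} (f : X ⟶ S)
    [IsNoetherian S] [IsSeparated f] [QuasiCompact f] [LocallyOfFiniteType f] :
    ∃ (n : ℕ) (U : Fin n → X.Opens), (⨆ i, U i) = ⊤ ∧
      ∀ i, IsAffineOpen (U i) ∧ Dense ((U i : Set X)) ∧ RelProj.IsQuasiProjective ((U i).ι ≫ f) := by
  classical
  haveI : CompactSpace X := QuasiCompact.compactSpace_of_compactSpace f
  haveI : IsLocallyNoetherian X := LocallyOfFiniteType.isLocallyNoetherian f
  haveI : IsNoetherian X := {}
  choose A hA hxA hAd using Groth.Agent.FlatMorAdm.exists_dense_affine (X := X)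
  obtain ⟨t, ht⟩ := isCompact_univ.elim_finite_subcover (fun x : X => (A x : Set X)) (fun x => (A x).2)
    fun x _ => Set.mem_iUnion.2 ⟨x, hxA x⟩
  refine ⟨t.card, fun i => A (t.equivFin.symm i : X), top_le_iff.1 fun x _ => ?_, fun i => ⟨hA _, hAd _, ?_⟩⟩
  · obtain ⟨y, hyt, hxy⟩ := Set.mem_iUnion₂.1 (ht (Set.mem_univ x))
    exact TopologicalSpace.Opens.mem_iSup.2 ⟨t.equivFin ⟨y, hyt⟩, by simpa using hxy⟩
  suffices ∀ x : X, RelProj.IsQuasiProjective ((A x).ι ≫ f) from this _
  intro x
  haveI : IsAffine (A x : Scheme.{u}) := hA x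
  haveI : LocallyOfFiniteType ((A x).ι ≫ f) := inferInstance
  haveI : QuasiCompact ((A x).ι ≫ f) := quasiCompact_of_compactSpace _
  refine ⟨inferInstance, inferInstance, Coh.structureModule _, (Groth.Agent.AmpleLib.isRelAmple_iff ..).2
    ⟨inferInstance, fun V => ?_⟩⟩
  haveI : CompactSpace (((A x).ι ≫ f) ⁻¹ᵁ V.1 : Scheme.{u}) :=
    isCompact_iff_compactSpace.1 (((A x).ι ≫ f).isCompact_preimage V.2.isCompact)
  haveI : (((A x).ι ≫ f) ⁻¹ᵁ V.1 : Scheme.{u}).IsQuasiAffine :=
    Scheme.IsQuasiAffine.of_isImmersion (((A x).ι ≫ f) ⁻¹ᵁ V.1).ι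
  obtain ⟨e⟩ := Groth.Agent.AmpleLib.exists_pullStructureIso (((A x).ι ≫ f) ⁻¹ᵁ V.1).ι
  exact Groth.Agent.AmpleLib.isAmple_of_iso e.symm (Groth.Agent.AmpleLib.isAmple_structureModule_iff.2 inferInstance)

end Groth.Agent.S17886
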