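import Groth.Statements.S1789
import Groth.Agent.DualLib.ShriekCompose
import Groth.Agent.DualLib.ShriekIndep
import Groth.Agent.DualLib.FiniteAdjoint
import Groth.Agent.DualLib.LocHom
import Groth.Agent.Dual22Lib.FiniteShriek
import Mathlib.RingTheory.Jacobson.Ring

set_option autoImplicit false
universe u
open CategoryTheory
attribute [local instance] HasDerivedCategory.standard
open Dual2

namespace Groth.Agent.S1789

/-- Let R → A be a ring map of finite type between Noetherian rings with R local, where φ^!(K) is formed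
from a presentation ψ : R[x_1, …, x_n] → A as RHom_P(A, K ⊗^L_R P)[n], assuming the derived base
change to P exists and taking for RHom_P(A, −) a right adjoint of restriction of scalars along ψ.
Let m be a maximal ideal of A lying over the maximal ideal of R and ω a normalized dualizing complex
for R. Assuming the derived base change D(A) → D(A_m) exists, the base change of φ^!(ω) to A_m is a
normalized dualizing complex for A_m. -/
theorem result (R A : Type u) [CommRing R] [CommRing A] [IsNoetherianRing R] [IsNoetherianRing A] [Algebra R A] (n : ℕ) (ψ : MvPolynomial (Fin n) R →ₐ[R] A) (hψ : Function.Surjective ψ) [DRing.HasLBaseChange (algebraMap R (MvPolynomial (Fin n) R))] (Rψ : Dual.D (MvPolynomial (Fin n) R) ⥤ Dual.D A) (adj : DRing.restrictD ψ.toRingHom ⊣ Rψ) [IsLocalRing R] (m : Ideal A) [m.IsMaximal] (hm : m.comap (algebraMap R A) = IsLocalRing.maximalIdeal R) (ω : Dual.D R) (hω : Dual.IsDualizing R ω) (hn : Dual.IsNormalized R ω) [DRing.HasLBaseChange (algebraMap A (Localization.AtPrime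 m))] : Dual.IsDualizing (Localization.AtPrime m) ((DRing.LBaseChange (algebraMap A (Localization.AtPrime m))).obj (Dual2.shriekVia n Rψ ω)) ∧ Dual.IsNormalized (Localization.AtPrime m) ((DRing.LBaseChange (algebraMap A (Localization.AtPrime m))).obj (Dual2.shriekVia n Rψ ω)) := by
  open Groth.Agent CategoryTheory CategoryTheory.Limits DerivedCategory TensorProduct Groth.Agent.DualLib in
  haveI : Algebra.FiniteType R A := Algebra.FiniteType.of_surjective ψ hψ
  let Y := Dual2.shriekVia n Rψ ω
  let k := A ⧸ m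
  let B := Localization.AtPrime m
  have hY : Dual.IsDualizing A Y := Dual22Lib.isDualizing_shriekVia ψ hψ adj hω
  refine ⟨DualLib.isDualizing_LBaseChange m.primeCompl hY, ?_⟩
  -- the residue field is finite over `R`
  letI : Field k := Ideal.Quotient.field m
  letI : Field (R ⧸ IsLocalRing.maximalIdeal R) := Ideal.Quotient.field _
  haveI : Module.Finite R k := by
    letI : Algebra (R ⧸ IsLocalRing.maximalIdeal R) k :=
      Ideal.Quotient.algebraQuotientOfLEComap hm.ge
    haveI : IsScalarTower R (R ⧸ IsLocalRing.maximalIdeal R) k := IsScalarTower.of_algebraMap_eq fun _ => rfl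
    haveI : Algebra.FiniteType R k :=
      (inferInstance : Algebra.FiniteType R A).of_surjective (Ideal.Quotient.mkₐ R m) Ideal.Quotient.mk_surjective
    haveI : Algebra.FiniteType (R ⧸ IsLocalRing.maximalIdeal R) k :=
      Algebra.FiniteType.of_restrictScalars_finiteType R _ _
    haveI := finite_of_finite_type_of_isJacobsonRing (R ⧸ IsLocalRing.maximalIdeal R) k
    exact Module.Finite.trans (R ⧸ IsLocalRing.maximalIdeal R) k
  haveI : Module.Finite A k := Module.Finite.of_surjective (Algebra.linearMap A k) Ideal.Quotient.mk_surjective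
  obtain ⟨R₁, ⟨adj₁⟩⟩ := Shriek.exists_rightAdjoint (algebraMap R k)
  obtain ⟨R₂, ⟨adj₂⟩⟩ := Shriek.exists_rightAdjoint (algebraMap A k)
  obtain ⟨c, d, hge, -⟩ := exists_bound hω
  haveI := hge
  let χ : MvPolynomial (Fin 0) A →+* k := MvPolynomial.eval₂Hom (algebraMap A k) Fin.elim0
  let θ : MvPolynomial (Fin n) R →+* k := (algebraMap A k).comp ψ.toRingHom
  have hχ : Function.Surjective χ := fun y => by
    obtain ⟨a, rfl⟩ := Ideal.Quotient.mk_surjective y
    exact ⟨MvPolynomial.C a, MvPolynomial.eval₂Hom_C _ _ a⟩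
  have hχC : χ.comp MvPolynomial.C = algebraMap A k := RingHom.ext fun a => MvPolynomial.eval₂Hom_C _ _ a
  have hθC : θ.comp MvPolynomial.C = algebraMap R k := RingHom.ext fun r => by
    show algebraMap A k (ψ (algebraMap R _ r)) = _
    rw [ψ.commutes, ← IsScalarTower.algebraMap_apply]
  haveI := DCat.hasLBaseChange (algebraMap A (MvPolynomial (Fin 0) A))
  obtain ⟨Rχ, ⟨adjχ⟩⟩ := Shriek.exists_rightAdjoint χ
  obtain ⟨Rθ, ⟨adjθ⟩⟩ := Shriek.exists_rightAdjoint θ
  obtain ⟨ec⟩ := Shriek.nonempty_shriekVia_comp n ψ.toRingHom hψ (RingHom.ext fun r => ψ.commutes r) Rψ adj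
    0 χ hχ hχC Rχ adjχ n θ (Ideal.Quotient.mk_surjective.comp hψ) hθC Rθ adjθ ω c
  obtain ⟨e₁⟩ := Shriek.nonempty_shriekVia_finite n θ hθC Rθ adjθ R₁ adj₁ ω
  obtain ⟨e₂⟩ := Shriek.nonempty_shriekVia_finite 0 χ hχC Rχ adjχ R₂ adj₂ Y
  let eR : R₂.obj Y ≅ R₁.obj ω := e₂.symm ≪≫ ec.symm ≪≫ e₁
  haveI : IsNoetherianRing k := inferInstance
  obtain ⟨d₀, ⟨hvan, -⟩, huniq⟩ := FiniteAdjoint.isDualIn_quotient adj₁ hω (⊥ : Ideal k)
  have hd0 : d₀ = 0 := huniq 0 fun i hi => by
    have h1 : (⊥ : Ideal k).under R = IsLocalRing.maximalIdeal R := by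
      rw [← hm]
      show RingHom.ker (algebraMap R k) = _
      ext r
      exact Ideal.Quotient.eq_zero_iff_mem
    haveI : Subsingleton (E ω (R ⧸ IsLocalRing.maximalIdeal R) i) := hn i hi
    exact (econgr ω (Submodule.quotEquivOfEq _ _ h1) i).symm.injective.subsingleton
  subst hd0
  have hE : ∀ i : ℤ, i ≠ 0 → Subsingleton (E Y (A ⧸ m) i) := fun i hi => by
    obtain ⟨e, -⟩ := FiniteAdjoint.exists_relE adj₂ (k ⧸ (⊥ : Ideal k)) Y i
    haveI := hvan i hi
    haveI : Subsingleton (E (R₂.obj Y) (k ⧸ (⊥ : Ideal k)) i) :=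
      (Iso.homCongr (Iso.refl _) ((shiftFunctor (Dual.D k) i).mapIso eR)).injective.subsingleton
    haveI : Subsingleton (E Y (FiniteAdjoint.res A k (k ⧸ (⊥ : Ideal k))) i) := e.symm.injective.subsingleton
    let q : (A ⧸ m) ≃ₗ[A] FiniteAdjoint.res A k (k ⧸ (⊥ : Ideal k)) :=
      { (Submodule.quotEquivOfEqBot (⊥ : Ideal k) rfl).symm.toAddEquiv with
        map_smul' := fun a x => by
          exact (congrArg _ (Algebra.smul_def a x)).trans
            ((Submodule.quotEquivOfEqBot (⊥ : Ideal k) rfl).symm.map_smul (algebraMap A k a) x) }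
    exact (econgr Y q i).symm.injective.subsingleton
  haveI : Module.Flat A B := IsLocalization.flat B m.primeCompl
  have hflat : (algebraMap A B).Flat := RingHom.flat_algebraMap_iff.2 inferInstance
  haveI := ModuleCat.preservesFiniteLimits_extendScalars_of_flat hflat
  haveI : PreservesFiniteColimits (ModuleCat.extendScalars.{u, u, u} (algebraMap A B)) :=
    haveI : PreservesColimitsOfSize.{0, 0} (ModuleCat.extendScalars.{u, u, u} (algebraMap A B)) :=
      (ModuleCat.extendRestrictScalarsAdj.{u, u, u} (algebraMap A B)).leftAdjoint_preservesColimits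
    inferInstance
  obtain ⟨aY, bY, hgeY, -⟩ := exists_bound hY
  obtain ⟨eL⟩ := DualLib.nonempty_LBaseChange_iso (B := B) hflat Y
  obtain ⟨eM⟩ := nonempty_ext_tensor (B := B) (ModuleCat.of A (A ⧸ m))
  let eF : (ModuleCat.extendScalars.{u, u, u} (algebraMap A B)).obj (ModuleCat.of A (A ⧸ m)) ≃ₗ[B]
      IsLocalRing.ResidueField B :=
    eM ≪≫ₗ (Algebra.TensorProduct.quotIdealMapEquivTensorQuot B m).symm.toLinearEquiv ≪≫ₗ
      Submodule.quotEquivOfEq _ _ (Localization.AtPrime.map_eq_maximalIdeal (I := m))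
  intro i hi
  haveI : Subsingleton (E ((extD (algebraMap A B)).obj Y)
      ((ModuleCat.extendScalars.{u, u, u} (algebraMap A B)).obj (ModuleCat.of A (A ⧸ m))) i) :=
    (subsingleton_E_iff m.primeCompl (A ⧸ m) hgeY i).2 fun θ' =>
      ⟨1, Submonoid.one_mem _, by haveI := hE i hi; exact Subsingleton.elim _ _⟩
  haveI : Subsingleton (E ((extD (algebraMap A B)).obj Y) (IsLocalRing.ResidueField B) i) :=
    (econgr _ eF i).injective.subsingleton
  exact (Iso.homCongr (Iso.refl _) ((shiftFunctor (Dual.D B) i).mapIso eL)).injective.subsingleton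

end Groth.Agent.S1789
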