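import Groth.Statements.S17890
import Groth.Agent.FlatMorAdm.Glue
import Groth.Agent.FlatMor12.RegularExtend

set_option autoImplicit false
universe u
open CategoryTheory AlgebraicGeometry Limits TopologicalSpace
open FlatMor
set_option backward.isDefEq.respectTransparency.types false

namespace Groth.Agent.S17890

/-- Let S be a Noetherian scheme, X₁ and X₂ separated S-schemes of finite type, and j₁ : U → X₁, j₂ : U
→ X₂ open immersions over S with schematically dense images. Suppose X₁ quasi-dominates X₂ and X₂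
quasi-dominates X₁ compatibly with U: there are schematically dense opens W₁ ⊆ X₁ and W₂ ⊆ X₂
through which j₁, j₂ factor, and S-morphisms φ : W₁ → X₂, ψ : W₂ → X₁ restricting to j₂ and j₁ on U,
whose graphs are closed subsets of X₁ ×_S X₂ and X₂ ×_S X₁. Then there exist a separated S-scheme Y
of finite type and open immersions i₁ : X₁ → Y, i₂ : X₂ → Y over S with j₁ ≫ i₁ = j₂ ≫ i₂, such that
U → Y has schematically dense image. -/
theorem result {S X₁ X₂ U : Scheme.{u}} [IsNoetherian S]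
    (p₁ : X₁ ⟶ S) (p₂ : X₂ ⟶ S) [IsSeparated p₁] [QuasiCompact p₁] [LocallyOfFiniteType p₁]
    [IsSeparated p₂] [QuasiCompact p₂] [LocallyOfFiniteType p₂]
    (j₁ : U ⟶ X₁) (j₂ : U ⟶ X₂) [IsOpenImmersion j₁] [IsOpenImmersion j₂]
    [IsSchemeTheoreticallyDominant j₁] [IsSchemeTheoreticallyDominant j₂] (hj : j₁ ≫ p₁ = j₂ ≫ p₂)
    (W₁ : X₁.Opens) [IsSchemeTheoreticallyDominant W₁.ι] (φ : (↑W₁ : Scheme.{u}) ⟶ X₂)
    (hφ : W₁.ι ≫ p₁ = φ ≫ p₂)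
    (hφc : IsClosed (Set.range (fun w => (Limits.pullback.lift W₁.ι φ hφ) w)))
    (k₁ : U ⟶ ↑W₁) (hk₁ : k₁ ≫ W₁.ι = j₁) (hk₁' : k₁ ≫ φ = j₂)
    (W₂ : X₂.Opens) [IsSchemeTheoreticallyDominant W₂.ι] (ψ : (↑W₂ : Scheme.{u}) ⟶ X₁)
    (hψ : W₂.ι ≫ p₂ = ψ ≫ p₁)
    (hψc : IsClosed (Set.range (fun w => (Limits.pullback.lift W₂.ι ψ hψ) w)))
    (k₂ : U ⟶ ↑W₂) (hk₂ : k₂ ≫ W₂.ι = j₂) (hk₂' : k₂ ≫ ψ = j₁) :
    ∃ (Y : Scheme.{u}) (q : Y ⟶ S) (i₁ : X₁ ⟶ Y) (i₂ : X₂ ⟶ Y), IsSeparated q ∧ QuasiCompact q ∧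
      LocallyOfFiniteType q ∧ IsOpenImmersion i₁ ∧ IsOpenImmersion i₂ ∧ i₁ ≫ q = p₁ ∧ i₂ ≫ q = p₂ ∧
      j₁ ≫ i₁ = j₂ ≫ i₂ ∧ QuasiCompact (j₁ ≫ i₁) ∧ IsSchemeTheoreticallyDominant (j₁ ≫ i₁) := by
  haveI : CompactSpace X₁ := QuasiCompact.compactSpace_of_compactSpace p₁
  haveI : CompactSpace X₂ := QuasiCompact.compactSpace_of_compactSpace p₂
  haveI : IsLocallyNoetherian X₁ := LocallyOfFiniteType.isLocallyNoetherian p₁
  haveI : IsLocallyNoetherian X₂ := LocallyOfFiniteType.isLocallyNoetherian p₂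
  haveI : IsNoetherian X₁ := {}
  haveI : IsNoetherian X₂ := {}
  haveI : NoetherianSpace U := j₁.isOpenEmbedding.isInducing.noetherianSpace
  have hd₁ : IsSchemeTheoreticallyDominant j₁ := by assumption
  have hd₂ : IsSchemeTheoreticallyDominant j₂ := by assumption
  -- a morphism to an open through which a schematically dense morphism factors is schematically dense
  have hres : ∀ {X A : Scheme.{u}} (i : A ⟶ X) [IsOpenImmersion i] (f : U ⟶ X) (k : U ⟶ A),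
      IsSchemeTheoreticallyDominant f → k ≫ i = f → IsSchemeTheoreticallyDominant k := by
    intro X A i _ f k hf hk
    haveI := hf
    haveI : IsIso (pullback.lift (f := f) (g := i) (𝟙 U) k (by rw [Category.id_comp, hk])) := by
      refine ⟨pullback.fst f i, pullback.lift_fst _ _ _, ?_⟩
      apply pullback.hom_ext
      · rw [Category.assoc, pullback.lift_fst, Category.comp_id, Category.id_comp]
      · rw [← cancel_mono i]
        simp only [Category.assoc, Category.id_comp, pullback.lift_snd_assoc, hk, pullback.condition]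
    rw [← pullback.lift_snd (f := f) (g := i) (𝟙 U) k (by rw [Category.id_comp, hk])]
    infer_instance
  set a := φ ∣_ W₂ with ha
  set b := ψ ∣_ W₁ with hb
  have hau : Set.range k₁ ⊆ (φ ⁻¹ᵁ W₂ : Set (W₁ : Scheme.{u})) := by
    rintro _ ⟨x, rfl⟩
    show φ (k₁ x) ∈ W₂
    rw [← Scheme.Hom.comp_apply, hk₁', ← hk₂]
    exact (k₂ x).2
  have hbu : Set.range k₂ ⊆ (ψ ⁻¹ᵁ W₁ : Set (W₂ : Scheme.{u})) := by
    rintro _ ⟨x, rfl⟩
    show ψ (k₂ x) ∈ W₁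
    rw [← Scheme.Hom.comp_apply, hk₂', ← hk₁]
    exact (k₁ x).2
  let lA := IsOpenImmersion.lift (φ ⁻¹ᵁ W₂).ι k₁ (by rwa [Scheme.Opens.range_ι])
  let lB := IsOpenImmersion.lift (ψ ⁻¹ᵁ W₁).ι k₂ (by rwa [Scheme.Opens.range_ι])
  have hlA : lA ≫ (φ ⁻¹ᵁ W₂).ι = k₁ := IsOpenImmersion.lift_fac _ _ _
  have hlB : lB ≫ (ψ ⁻¹ᵁ W₁).ι = k₂ := IsOpenImmersion.lift_fac _ _ _
  haveI : IsSchemeTheoreticallyDominant lA :=
    hres ((φ ⁻¹ᵁ W₂).ι ≫ W₁.ι) j₁ lA hd₁ (by rw [reassoc_of% hlA, hk₁])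
  haveI : IsSchemeTheoreticallyDominant lB :=
    hres ((ψ ⁻¹ᵁ W₁).ι ≫ W₂.ι) j₂ lB hd₂ (by rw [reassoc_of% hlB, hk₂])
  have hla : lA ≫ a = k₂ := by
    rw [← cancel_mono W₂.ι, Category.assoc, morphismRestrict_ι, reassoc_of% hlA, hk₁', hk₂]
  have hlb : lB ≫ b = k₁ := by
    rw [← cancel_mono W₁.ι, Category.assoc, morphismRestrict_ι, reassoc_of% hlB, hk₂', hk₁]
  have haψ : a ≫ ψ = (φ ⁻¹ᵁ W₂).ι ≫ W₁.ι := by
    refine FlatMor12.RegularExtend.ext_of_isSchemeTheoreticallyDominant p₁ ?_ lA ?_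
    · rw [Category.assoc, Category.assoc, ← hψ, hφ, ha, morphismRestrict_ι_assoc]
    · rw [reassoc_of% hla, hk₂', reassoc_of% hlA, hk₁]
  have hbφ : b ≫ φ = (ψ ⁻¹ᵁ W₁).ι ≫ W₂.ι := by
    refine FlatMor12.RegularExtend.ext_of_isSchemeTheoreticallyDominant p₂ ?_ lB ?_
    · rw [Category.assoc, Category.assoc, ← hφ, hψ, hb, morphismRestrict_ι_assoc]
    · rw [reassoc_of% hlb, hk₁', reassoc_of% hlB, hk₂]
  have har : Set.range a ⊆ Set.range (ψ ⁻¹ᵁ W₁).ι := by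
    rw [Scheme.Opens.range_ι]
    rintro _ ⟨x, rfl⟩
    show ψ (a x) ∈ W₁
    rw [← Scheme.Hom.comp_apply, haψ]
    exact ((φ ⁻¹ᵁ W₂).ι x).2
  have hbr : Set.range b ⊆ Set.range (φ ⁻¹ᵁ W₂).ι := by
    rw [Scheme.Opens.range_ι]
    rintro _ ⟨x, rfl⟩
    show φ (b x) ∈ W₂
    rw [← Scheme.Hom.comp_apply, hbφ]
    exact ((ψ ⁻¹ᵁ W₁).ι x).2
  let aB := IsOpenImmersion.lift (ψ ⁻¹ᵁ W₁).ι a har
  let bA := IsOpenImmersion.lift (φ ⁻¹ᵁ W₂).ι b hbr
  have haB : aB ≫ (ψ ⁻¹ᵁ W₁).ι = a := IsOpenImmersion.lift_fac _ _ _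
  have hbA : bA ≫ (φ ⁻¹ᵁ W₂).ι = b := IsOpenImmersion.lift_fac _ _ _
  haveI : IsIso aB := by
    refine ⟨bA, ?_, ?_⟩
    · rw [← cancel_mono (φ ⁻¹ᵁ W₂).ι, ← cancel_mono W₁.ι]
      simp only [Category.assoc, Category.id_comp]
      rw [reassoc_of% hbA, hb, morphismRestrict_ι, reassoc_of% haB, haψ]
    · rw [← cancel_mono (ψ ⁻¹ᵁ W₁).ι, ← cancel_mono W₂.ι]
      simp only [Category.assoc, Category.id_comp]
      rw [reassoc_of% haB, ha, morphismRestrict_ι, reassoc_of% hbA, hbφ]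
  haveI : IsOpenImmersion a := by rw [← haB]; infer_instance
  have hcomm : ((φ ⁻¹ᵁ W₂).ι ≫ W₁.ι) ≫ p₁ = (a ≫ W₂.ι) ≫ p₂ := by
    rw [Category.assoc, hφ, ha, morphismRestrict_ι, Category.assoc]
  let sw : pullback p₁ p₂ ⟶ pullback p₂ p₁ :=
    pullback.lift (pullback.snd _ _) (pullback.fst _ _) pullback.condition.symm
  have e₁ : pullback.lift ((φ ⁻¹ᵁ W₂).ι ≫ W₁.ι) (a ≫ W₂.ι) hcomm =
      (φ ⁻¹ᵁ W₂).ι ≫ pullback.lift W₁.ι φ hφ := by
    apply pullback.hom_ext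
    · simp only [Category.assoc, pullback.lift_fst]
    · simp only [Category.assoc, pullback.lift_snd, ha, morphismRestrict_ι]
  have e₂ : pullback.lift ((φ ⁻¹ᵁ W₂).ι ≫ W₁.ι) (a ≫ W₂.ι) hcomm ≫ sw =
      a ≫ pullback.lift W₂.ι ψ hψ := by
    apply pullback.hom_ext
    · simp only [sw, Category.assoc, pullback.lift_fst, pullback.lift_snd]
    · simp only [sw, Category.assoc, pullback.lift_fst, pullback.lift_snd, haψ]
  have hrange : Set.range (pullback.lift ((φ ⁻¹ᵁ W₂).ι ≫ W₁.ι) (a ≫ W₂.ι) hcomm) =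
      Set.range (pullback.lift W₁.ι φ hφ) ∩ sw ⁻¹' Set.range (pullback.lift W₂.ι ψ hψ) := by
    refine Set.Subset.antisymm ?_ ?_
    · rintro _ ⟨x, rfl⟩
      refine ⟨⟨(φ ⁻¹ᵁ W₂).ι x, ?_⟩, ⟨a x, ?_⟩⟩
      · rw [← Scheme.Hom.comp_apply, ← e₁]
      · rw [← Scheme.Hom.comp_apply, ← Scheme.Hom.comp_apply, ← e₂]
    · rintro z ⟨⟨w₁, rfl⟩, ⟨w₂, hw₂⟩⟩
      have h' : W₂.ι w₂ = φ w₁ := by
        have h := congrArg (pullback.fst p₂ p₁) hw₂
        simp only [sw, ← Scheme.Hom.comp_apply, pullback.lift_fst, pullback.lift_snd, Category.assoc] at h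
        exact h
      have hmem : w₁ ∈ φ ⁻¹ᵁ W₂ := by
        show φ w₁ ∈ W₂
        rw [← h']
        exact w₂.2
      refine ⟨⟨w₁, hmem⟩, ?_⟩
      rw [e₁]
      rfl
  obtain ⟨Y, i₁, i₂, q, hi₁, hi₂, hglue, hq₁, hq₂, hsep, hlft, hqc, hcov, -⟩ :=
    FlatMorAdm.exists_glue_separated ((φ ⁻¹ᵁ W₂).ι ≫ W₁.ι) (a ≫ W₂.ι) p₁ p₂ hcomm
      (hrange ▸ hφc.inter (hψc.preimage sw.continuous))
  have hU : j₁ ≫ i₁ = j₂ ≫ i₂ := by
    have h := congrArg (lA ≫ ·) hglue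
    simp only [Category.assoc] at h
    rwa [reassoc_of% hlA, reassoc_of% hk₁, reassoc_of% hla, reassoc_of% hk₂] at h
  haveI : QuasiCompact (j₁ ≫ i₁) := by
    refine ⟨fun O hO _ => ?_⟩
    exact NoetherianSpace.isCompact _
  refine ⟨Y, q, i₁, i₂, hsep, hqc, hlft, hi₁, hi₂, hq₁, hq₂, hU, inferInstance, ⟨?_⟩⟩
  refine Scheme.IdealSheafData.ext_of_iSup_eq_top
    (ι := {V : Y.affineOpens // V.1 ≤ i₁.opensRange ∨ V.1 ≤ i₂.opensRange}) (fun V => V.1) ?_ ?_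
  · refine eq_top_iff.2 fun y _ => ?_
    rcases hcov y with hy | hy
    · obtain ⟨V, hV, hyV, hle⟩ := exists_isAffineOpen_mem_and_subset (show y ∈ i₁.opensRange from hy)
      exact Opens.mem_iSup.2 ⟨⟨⟨V, hV⟩, Or.inl hle⟩, hyV⟩
    · obtain ⟨V, hV, hyV, hle⟩ := exists_isAffineOpen_mem_and_subset (show y ∈ i₂.opensRange from hy)
      exact Opens.mem_iSup.2 ⟨⟨⟨V, hV⟩, Or.inr hle⟩, hyV⟩
  · intro V
    rw [Scheme.Hom.ker_apply]
    simp only [Scheme.IdealSheafData.ideal_bot, Pi.bot_apply]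
    rw [← RingHom.injective_iff_ker_eq_bot]
    have key : ∀ {X : Scheme.{u}} (j : U ⟶ X) (i : X ⟶ Y) [IsOpenImmersion i]
        [IsSchemeTheoreticallyDominant j] [QuasiCompact j], V.1.1 ≤ i.opensRange →
        Function.Injective ((j ≫ i).app V.1.1).hom := by
      intro X j i _ _ _ hle
      haveI : IsIso (i.app V.1.1) := i.isIso_app V.1.1 hle
      rw [Scheme.Hom.comp_app]
      exact (j.app_injective _).comp
        ((ConcreteCategory.bijective_of_isIso (i.app V.1.1)).injective)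
    haveI : QuasiCompact j₁ := ⟨fun O hO _ => NoetherianSpace.isCompact _⟩
    haveI : QuasiCompact j₂ := ⟨fun O hO _ => NoetherianSpace.isCompact _⟩
    rcases V.2 with hle | hle
    · exact @key _ j₁ i₁ hi₁ hd₁ inferInstance hle
    · rw [hU]; exact @key _ j₂ i₂ hi₂ hd₂ inferInstance hle

end Groth.Agent.S17890
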