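import Groth.Statements.S17892
import Groth.Agent.S2331
import Groth.Agent.AmpleLib.Relative

set_option autoImplicit false
universe u
open CategoryTheory AlgebraicGeometry
open FlatMor

namespace Groth.Agent.S17892

open Groth.Agent.Coherent Groth.Agent.PicLib Groth.Agent.AmpleLib

section

set_option backward.isDefEq.respectTransparency.types false

/-- A map from the structure module is an isomorphism iff it generates everywhere. -/
theorem isIso_iff_genLocus {Z : Scheme.{u}} {M : Z.Modules} (s : Coh.structureModule Z ⟶ M) :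
    IsIso s ↔ CohB1.genLocus M s = ⊤ := by
  rw [eq_top_iff, le_genLocus_iff, Scheme.Modules.Hom.isIso_iff_isIso_app]
  have key : ∀ W : Z.Opens, IsIso (s.app W) ↔
      Function.Bijective (fun r : Γ(Z, W) => r • resM M (le_top : W ≤ ⊤) (unitVal s ⊤)) := fun W => by
    rw [ConcreteCategory.isIso_iff_bijective, resM_unitVal]
    have : (fun r : Γ(Z, W) => r • unitVal s W) = s.app W := funext fun r => (app_unit s r).symm
    rw [this]
    rfl
  exact ⟨fun h W _ => (key W).1 (h W), fun h W => (key W).2 (h W le_top)⟩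

/-- A pullback of a map from the structure module to an invertible module is an isomorphism iff
the map generates on the image. -/
theorem isIso_pullback_map_iff {X Z : Scheme.{u}} (σ : Z ⟶ X) {L : X.Modules} (hL : PicF.IsInvertible L)
    (ε : Coh.structureModule X ⟶ L) :
    IsIso ((Scheme.Modules.pullback σ).map ε) ↔ σ ⁻¹ᵁ CohB1.genLocus L ε = ⊤ := by
  let c := unitDesc ((Scheme.Modules.pullback σ).obj (Coh.structureModule X))
    (pullSec σ (oneSec (⊤ : X.Opens)))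
  have hc : IsIso c := by
    rw [isIso_iff_genLocus, ← glocus, eq_top_iff, le_glocus_iff, resM_self]
    exact isGen_pullSec σ (isGen_oneSec ⊤) isInvertible_structureModule
  have h : IsIso ((Scheme.Modules.pullback σ).map ε) ↔ IsIso (c ≫ (Scheme.Modules.pullback σ).map ε) :=
    ⟨fun _ => inferInstance, fun _ => IsIso.of_isIso_comp_left c _⟩
  rw [h, isIso_iff_genLocus, genLocus_eq_glocus, genLocus_eq_glocus ε, ← glocus_pullSec σ hL]
  have e : unitVal (c ≫ (Scheme.Modules.pullback σ).map ε) ⊤ = pullSec σ (unitVal ε ⊤) := by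
    show ((Scheme.Modules.pullback σ).map ε).app ⊤ (unitVal c ⊤) = _
    rw [unitVal_unitDesc, resM_self]
    exact pullback_map_app_pullSec (U := ⊤) σ ε (oneSec ⊤)
  rw [e]

end

/-- Here f : Y → X is an affine morphism with X and Y quasi-compact and quasi-separated; a
Y-modification of X is a factorization f = fᵢ ≫ gᵢ with fᵢ : Y → Xᵢ schematically dominant and gᵢ :
Xᵢ → X proper, and it is a Y-blow-up of X when Xᵢ carries a gᵢ-ample module L with a section ε : O →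
L whose pullback along fᵢ is an isomorphism (a Y-trivialization). If (Xᵢ, fᵢ, gᵢ) is a Y-blow-up of
X and (Xⱼ, fⱼ, gᵢⱼ) is a Y-blow-up of Xᵢ (with respect to fᵢ : Y → Xᵢ), then (Xⱼ, fⱼ, gᵢⱼ ≫ gᵢ) is a
Y-blow-up of X. -/
theorem result {X Y : Scheme.{u}} (f : Y ⟶ X)
    [CompactSpace X] [QuasiSeparatedSpace X] [CompactSpace Y] [QuasiSeparatedSpace Y] [IsAffineHom f]
    {Xᵢ Xⱼ : Scheme.{u}} (fᵢ : Y ⟶ Xᵢ) (gᵢ : Xᵢ ⟶ X) (fⱼ : Y ⟶ Xⱼ) (gᵢⱼ : Xⱼ ⟶ Xᵢ)
    (hᵢ : IsSchemeTheoreticallyDominant fᵢ ∧ IsProper gᵢ ∧ fᵢ ≫ gᵢ = f ∧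
        ∃ (L : Xᵢ.Modules) (ε : Coh.structureModule Xᵢ ⟶ L),
          RelAmple.IsRelAmple gᵢ L ∧ IsIso ((Scheme.Modules.pullback fᵢ).map ε))
    (hⱼ : IsSchemeTheoreticallyDominant fⱼ ∧ IsProper gᵢⱼ ∧ fⱼ ≫ gᵢⱼ = fᵢ ∧
        ∃ (L : Xⱼ.Modules) (ε : Coh.structureModule Xⱼ ⟶ L),
          RelAmple.IsRelAmple gᵢⱼ L ∧ IsIso ((Scheme.Modules.pullback fⱼ).map ε)) :
    IsSchemeTheoreticallyDominant fⱼ ∧ IsProper (gᵢⱼ ≫ gᵢ) ∧ fⱼ ≫ (gᵢⱼ ≫ gᵢ) = f ∧
        ∃ (L : Xⱼ.Modules) (ε : Coh.structureModule Xⱼ ⟶ L),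
          RelAmple.IsRelAmple (gᵢⱼ ≫ gᵢ) L ∧ IsIso ((Scheme.Modules.pullback fⱼ).map ε) := by
  obtain ⟨hdi, hpi, hci, L, ε, hL, hε⟩ := hᵢ
  obtain ⟨hdj, hpj, hcj, L', ε', hL', hε'⟩ := hⱼ
  have := hpi
  have := hpj
  refine ⟨hdj, inferInstance, by rw [← Category.assoc, hcj, hci], ?_⟩
  obtain ⟨n₀, -, hn⟩ := S2331.result gᵢⱼ gᵢ L' L hL' hL
  have hLi := isInvertible_of_isRelAmple _ hL
  have hLj := isInvertible_of_isRelAmple _ hL'
  let P := (Scheme.Modules.pullback gᵢⱼ).obj (CohB1.tensorPow L (n₀ + 1))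
  have hP : PicF.IsInvertible P := PicLoc.isInvertible_pullback gᵢⱼ (isInvertible_tensorPow hLi (n₀ + 1))
  let a : Γ(CohB1.tensorMod L' P, ⊤) := tmul (unitVal ε' ⊤) (pullSec gᵢⱼ (powSec (unitVal ε ⊤) (n₀ + 1)))
  refine ⟨_, unitDesc _ a, hn (n₀ + 1) (Nat.le_succ _), ?_⟩
  rw [isIso_pullback_map_iff fⱼ (isInvertible_tensorMod hLj hP), ← glocus]
  rw [isIso_pullback_map_iff fⱼ hLj, genLocus_eq_glocus] at hε'
  rw [isIso_pullback_map_iff fᵢ hLi, genLocus_eq_glocus, ← hcj] at hε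
  erw [glocus_tmul hLj hP]
  rw [glocus_pullSec gᵢⱼ (isInvertible_tensorPow hLi _), glocus_powSec hLi, Scheme.Hom.preimage_inf, hε']
  exact (top_inf_eq _).trans hε

end Groth.Agent.S17892
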