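import Groth.Statements.S17891
import Groth.Agent.S17892
import Groth.Agent.AmpleLib.Relative2
import Groth.Agent.ModPairLib.MProd

set_option autoImplicit false
universe u
open CategoryTheory AlgebraicGeometry
open FlatMor

namespace Groth.Agent.S17891

open Limits Groth.Agent.Coherent Groth.Agent.PicLib Groth.Agent.AmpleLib

/-- Here f : Y → X is an affine morphism with X and Y quasi-compact and quasi-separated; a
Y-modification of X is a factorization f = fᵢ ≫ gᵢ with fᵢ : Y → Xᵢ schematically dominant and gᵢ :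
Xᵢ → X proper, and it is a Y-blow-up of X when Xᵢ carries a gᵢ-ample module L with a section ε : O →
L whose pullback along fᵢ is an isomorphism (a Y-trivialization). Given two Y-blow-ups (X₁, f₁, g₁),
(X₂, f₂, g₂) of X there is a Y-blow-up (X₃, f₃, g₃) of X together with morphisms dᵢ : X₃ → Xᵢ
satisfying f₃ ≫ dᵢ = fᵢ and dᵢ ≫ gᵢ = g₃. -/
theorem result {X Y : Scheme.{u}} (f : Y ⟶ X)
    [CompactSpace X] [QuasiSeparatedSpace X] [CompactSpace Y] [QuasiSeparatedSpace Y] [IsAffineHom f]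
    {X₁ X₂ : Scheme.{u}} (f₁ : Y ⟶ X₁) (g₁ : X₁ ⟶ X) (f₂ : Y ⟶ X₂) (g₂ : X₂ ⟶ X)
    (h₁ : IsSchemeTheoreticallyDominant f₁ ∧ IsProper g₁ ∧ f₁ ≫ g₁ = f ∧
        ∃ (L : X₁.Modules) (ε : Coh.structureModule X₁ ⟶ L),
          RelAmple.IsRelAmple g₁ L ∧ IsIso ((Scheme.Modules.pullback f₁).map ε))
    (h₂ : IsSchemeTheoreticallyDominant f₂ ∧ IsProper g₂ ∧ f₂ ≫ g₂ = f ∧
        ∃ (L : X₂.Modules) (ε : Coh.structureModule X₂ ⟶ L),
          RelAmple.IsRelAmple g₂ L ∧ IsIso ((Scheme.Modules.pullback f₂).map ε)) :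
    ∃ (X₃ : Scheme.{u}) (f₃ : Y ⟶ X₃) (g₃ : X₃ ⟶ X) (d₁ : X₃ ⟶ X₁) (d₂ : X₃ ⟶ X₂),
      (IsSchemeTheoreticallyDominant f₃ ∧ IsProper g₃ ∧ f₃ ≫ g₃ = f ∧
        ∃ (L : X₃.Modules) (ε : Coh.structureModule X₃ ⟶ L),
          RelAmple.IsRelAmple g₃ L ∧ IsIso ((Scheme.Modules.pullback f₃).map ε)) ∧
      f₃ ≫ d₁ = f₁ ∧ d₁ ≫ g₁ = g₃ ∧ f₃ ≫ d₂ = f₂ ∧ d₂ ≫ g₂ = g₃ := by
  obtain ⟨hd₁, hp₁, hc₁, L₁, ε₁, hL₁, hε₁⟩ := h₁
  obtain ⟨hd₂, hp₂, hc₂, L₂, ε₂, hL₂, hε₂⟩ := h₂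
  have := hp₁
  have := hp₂
  let p : Y ⟶ pullback g₁ g₂ := pullback.lift f₁ f₂ (hc₁.trans hc₂.symm)
  have : QuasiCompact (p ≫ (pullback.snd g₁ g₂ ≫ g₂)) := by
    rw [pullback.lift_snd_assoc, hc₂]; infer_instance
  have : QuasiCompact p := QuasiCompact.of_comp p (pullback.snd g₁ g₂ ≫ g₂)
  let d₁ : p.image ⟶ X₁ := p.imageι ≫ pullback.fst g₁ g₂
  let d₂ : p.image ⟶ X₂ := p.imageι ≫ pullback.snd g₁ g₂
  have hf₁ : p.toImage ≫ d₁ = f₁ := by
    rw [← Category.assoc, p.toImage_imageι, pullback.lift_fst]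
  have hf₂ : p.toImage ≫ d₂ = f₂ := by
    rw [← Category.assoc, p.toImage_imageι, pullback.lift_snd]
  have hdom : IsSchemeTheoreticallyDominant p.toImage := ⟨ModPairLib.ker_toImage p⟩
  have hL₁i := isInvertible_of_isRelAmple _ hL₁
  have hP := PicLoc.isInvertible_pullback (pullback.fst g₁ g₂) hL₁i
  let a := pullSec p.imageι (pullSec (pullback.fst g₁ g₂) (unitVal ε₁ ⊤))
  have hL : RelAmple.IsRelAmple d₂
      ((Scheme.Modules.pullback p.imageι).obj ((Scheme.Modules.pullback (pullback.fst g₁ g₂)).obj L₁)) :=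
    isRelAmple_pullback_of_isEmbedding _ p.imageι p.imageι.isClosedEmbedding.isEmbedding
      (isRelAmple_baseChange g₁ g₂ hL₁)
  have hε : IsIso ((Scheme.Modules.pullback p.toImage).map (unitDesc _ a)) := by
    rw [S17892.isIso_pullback_map_iff p.toImage (PicLoc.isInvertible_pullback _ hP), ← glocus]
    erw [glocus_pullSec _ hP, glocus_pullSec _ hL₁i]
    rw [← genLocus_eq_glocus]
    rw [S17892.isIso_pullback_map_iff f₁ hL₁i, ← hf₁] at hε₁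
    exact hε₁
  have h₃ := S17892.result f f₂ g₂ p.toImage d₂ ⟨hd₂, hp₂, hc₂, L₂, ε₂, hL₂, hε₂⟩
    ⟨hdom, inferInstance, hf₂, _, unitDesc _ a, hL, hε⟩
  refine ⟨p.image, p.toImage, d₂ ≫ g₂, d₁, d₂, h₃, hf₁, ?_, hf₂, rfl⟩
  simp only [d₁, d₂, Category.assoc, pullback.condition]

end Groth.Agent.S17891
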