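import Groth.Statements.S17893
import Groth.Agent.S2079
import Groth.Agent.S17885
import Groth.Agent.S1274
import Groth.Agent.S17892
import Groth.Agent.S2331
import Groth.Agent.FlatMorYMod.Model
import Groth.Agent.FlatMorYMod.Image
import Groth.Agent.FlatMorYMod.IdealSection
import Groth.Agent.LocImm12.BlowUpProjective
import Groth.Agent.ProjLib.BlowUpBasics
import Groth.Agent.FlatMorAdm.Compactify
import Groth.Agent.AmpleLib.Relative2
import Groth.Agent.ModPairLib.MProd

set_option autoImplicit false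
set_option backward.isDefEq.respectTransparency.types false
set_option maxHeartbeats 1000000
universe u
open CategoryTheory AlgebraicGeometry
open FlatMor

namespace Groth.Agent.S17893


open CategoryTheory.Limits TopologicalSpace Groth.Agent.Coherent Groth.Agent.PicLib Groth.Agent.AmpleLib
open Groth.Agent.FlatMorYMod

/-- A morphism from an affine scheme over the base into a proper one factors through an affine finite type
model and a proper morphism of finite presentation containing the target as a closed subscheme. -/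
theorem exists_model {X Y : Scheme.{u}} (f : Y ⟶ X)
    [CompactSpace X] [QuasiSeparatedSpace X] [CompactSpace Y] [QuasiSeparatedSpace Y] [IsAffineHom f]
    {X' : Scheme.{u}} (f' : Y ⟶ X') (g' : X' ⟶ X) [IsProper g'] (hf' : f' ≫ g' = f) :
    ∃ (Y₀ Z : Scheme.{u}) (f₀ : Y₀ ⟶ X) (q : Y ⟶ Y₀) (gZ : Z ⟶ X) (a₀ : Y₀ ⟶ Z) (clo : X' ⟶ Z),
      IsAffineHom f₀ ∧ LocallyOfFinitePresentation f₀ ∧ IsProper gZ ∧ IsClosedImmersion clo ∧
      clo ≫ gZ = g' ∧ a₀ ≫ gZ = f₀ ∧ q ≫ f₀ = f ∧ q ≫ a₀ = f' ≫ clo := by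
  obtain ⟨J, _, _, E, cE, -, eE, -, hE⟩ := S2079.result g'
  obtain ⟨j⟩ := IsCofiltered.nonempty (C := J)
  obtain ⟨hclo, hgZ, hgZfp⟩ := hE j
  let clo : X' ⟶ (E.obj j).left := (eE.inv ≫ cE.π.app j).left
  have hclo' : IsClosedImmersion clo := by
    have : IsIso eE.inv.left := ((Over.forget X).mapIso eE).isIso_inv
    have := hclo
    show IsClosedImmersion (eE.inv.left ≫ (cE.π.app j).left)
    infer_instance
  have hcloc : clo ≫ (E.obj j).hom = g' := Over.w (eE.inv ≫ cE.π.app j)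
  obtain ⟨I, _, _, D, c, hc, hD, ⟨e⟩⟩ := (S17885.result f).1 inferInstance
  have := IsCofiltered.isConnected Iᵒᵖ
  let W := D ⋙ Over.forget X
  let cW : Limits.Cone W := (Over.forget X).mapCone c
  have hW : Limits.IsLimit cW := Limits.isLimitOfPreserves (Over.forget X) hc
  let t : W ⟶ (Functor.const _).obj X :=
    { app := fun i ↦ (D.obj i).hom
      naturality := fun i j g ↦ (Over.w (D.map g)).trans (Category.comp_id _).symm }
  have haff : ∀ {i j : Iᵒᵖ} (g : i ⟶ j), IsAffineHom (W.map g) := fun {i j} g => by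
    have := (hD j).1
    have : IsAffineHom ((D.map g).left ≫ (D.obj j).hom) := by rw [Over.w]; exact (hD i).1
    exact IsAffineHom.of_comp (f := (D.map g).left) (g := (D.obj j).hom)
  have hcomp : ∀ i, CompactSpace (W.obj i) := fun i => by
    have := (hD i).1
    show CompactSpace (D.obj i).left
    exact QuasiCompact.compactSpace_of_compactSpace (D.obj i).hom
  have hqs : ∀ i, QuasiSeparatedSpace (W.obj i) := fun i => by
    have := (hD i).1
    show QuasiSeparatedSpace (D.obj i).left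
    exact quasiSeparatedSpace_of_quasiSeparated (D.obj i).hom
  have := hgZfp
  let a : cW.pt ⟶ (E.obj j).left := e.hom.left ≫ f' ≫ clo
  obtain ⟨i, a₀, ha₀, ha₀'⟩ := Scheme.exists_π_app_comp_eq_of_locallyOfFinitePresentation W t
    (E.obj j).hom cW hW a (by
      ext i
      show (c.π.app i).left ≫ (D.obj i).hom = a ≫ (E.obj j).hom
      simp only [a, Category.assoc, hcloc, hf']
      exact (Over.w (c.π.app i)).trans (Over.w e.hom).symm)
  refine ⟨(D.obj i).left, (E.obj j).left, (D.obj i).hom, (e.inv ≫ c.π.app i).left, (E.obj j).hom, a₀, clo,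
    (hD i).1, (hD i).2, hgZ, hclo', hcloc, ha₀', Over.w (e.inv ≫ c.π.app i), ?_⟩
  show (e.inv.left ≫ (c.π.app i).left) ≫ a₀ = _
  rw [Category.assoc, show (c.π.app i).left ≫ a₀ = e.hom.left ≫ f' ≫ clo from ha₀]
  rw [← Category.assoc, ← Over.comp_left, e.inv_hom_id]
  exact Category.id_comp _

/-- Some power of a coordinate lies in the ideal, uniformly over a quasi-compact space. -/
theorem exists_bound {P : Scheme.{u}} [CompactSpace P] (I : P.IdealSheafData) {L : P.Modules}
    (hL : PicF.IsInvertible L) (s : Γ(L, ⊤)) (h : Disjoint (I.support : Set P) (glocus L s : Set P)) :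
    ∃ N : ℕ, ∀ n, N ≤ n → ∀ x : P, ∃ (W : P.affineOpens) (g : Γ(CohB1.tensorPow L n, W.1)) (c : Γ(P, W.1)),
      x ∈ W.1 ∧ IsGen (CohB1.tensorPow L n) W.1 g ∧ c ∈ I.ideal W ∧
        resM _ le_top (powSec s n) = c • g := by
  classical
  have loc : ∀ x : P, ∃ (W : P.affineOpens) (g : Γ(L, W.1)) (a : Γ(P, W.1)) (N : ℕ),
      x ∈ W.1 ∧ IsGen L W.1 g ∧ resM L le_top s = a • g ∧ a ^ N ∈ I.ideal W := fun x => by
    obtain ⟨U, hxU, g, hg⟩ := exists_isGen hL x
    obtain ⟨W, hW, hxW, hWU⟩ := Opens.isBasis_iff_nbhd.1 P.isBasis_affineOpens hxU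
    have hg' := hg.restrict hWU
    obtain ⟨a, ha⟩ := (hg' W le_rfl).2 (resM L le_top s)
    simp only [resM_self] at ha
    obtain ⟨N, hN⟩ := exists_pow_mem I ⟨W, hW⟩ a
      (h.mono_right (basicOpen_le_glocus hg' s ha.symm))
    exact ⟨⟨W, hW⟩, _, a, N, hxW, hg', ha.symm, hN⟩
  choose W g a N hx hg hs hN using loc
  obtain ⟨T, hT⟩ := isCompact_univ.elim_finite_subcover (fun x : P => ((W x).1 : Set P))
    (fun x => (W x).1.2) fun x _ => Set.mem_iUnion.2 ⟨x, hx x⟩
  refine ⟨T.sup N, fun n hn x => ?_⟩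
  obtain ⟨y, hy, hxy⟩ := Set.mem_iUnion₂.1 (hT (Set.mem_univ x))
  refine ⟨W y, powSec (g y) n, a y ^ n, hxy, isGen_powSec (hg y) n, ?_, ?_⟩
  · rw [← Nat.sub_add_cancel ((Finset.le_sup hy).trans hn), pow_add]
    exact Ideal.mul_mem_left _ _ (hN y)
  · rw [resM_powSec, hs y, powSec_smul]


/-- Here f : Y → X is an affine morphism with X and Y quasi-compact and quasi-separated; a
Y-modification of X is a factorization f = fᵢ ≫ gᵢ with fᵢ : Y → Xᵢ schematically dominant and gᵢ :
Xᵢ → X proper, and it is a Y-blow-up of X when Xᵢ carries a gᵢ-ample module L with a section ε : O →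
L whose pullback along fᵢ is an isomorphism (a Y-trivialization). Every Y-modification (X', f', g')
of X is dominated by a Y-blow-up: there exist a Y-blow-up (X₁, f₁, g₁) of X and a morphism d : X₁ →
X' with f₁ ≫ d = f' and d ≫ g' = g₁. -/
theorem result {X Y : Scheme.{u}} (f : Y ⟶ X)
    [CompactSpace X] [QuasiSeparatedSpace X] [CompactSpace Y] [QuasiSeparatedSpace Y] [IsAffineHom f]
    {X' : Scheme.{u}} (f' : Y ⟶ X') (g' : X' ⟶ X) [IsSchemeTheoreticallyDominant f'] [IsProper g']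
    (hf' : f' ≫ g' = f) :
    ∃ (X₁ : Scheme.{u}) (f₁ : Y ⟶ X₁) (g₁ : X₁ ⟶ X) (d : X₁ ⟶ X'),
      (IsSchemeTheoreticallyDominant f₁ ∧ IsProper g₁ ∧ f₁ ≫ g₁ = f ∧
        ∃ (L : X₁.Modules) (ε : Coh.structureModule X₁ ⟶ L),
          RelAmple.IsRelAmple g₁ L ∧ IsIso ((Scheme.Modules.pullback f₁).map ε)) ∧ f₁ ≫ d = f' ∧ d ≫ g' = g₁ := by
  obtain ⟨Y₀, Z, f₀, q, gZ, a₀, clo, hf₀, hf₀p, hgZ, hclo, hcloc, ha₀, hq, hqa⟩ := exists_model f f' g' hf'
  have := hf₀
  have := hf₀p
  have := hgZ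
  have := hclo
  obtain ⟨P, p, O1, s, k, hp, hO1, hk, hkf⟩ := exists_projective_model f₀
  have := hp
  have := hk
  have : CompactSpace Y₀ := QuasiCompact.compactSpace_of_compactSpace f₀
  let j : Y₀ ⟶ P := k ≫ (glocus O1 s).ι
  have hjp : j ≫ p = f₀ := by simp only [j, Category.assoc]; exact hkf
  have : QuasiCompact (j ≫ p) := by rw [hjp]; infer_instance
  have : QuasiCompact j := QuasiCompact.of_comp j p
  have : IsImmersion j := by show IsImmersion (k ≫ _); infer_instance
  let U : j.image.Opens := j.toImage.opensRange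
  have hU : U = j.imageι ⁻¹ᵁ glocus O1 s := opensRange_toImage j (glocus O1 s) k rfl
  have hUc : IsCompact (U : Set j.image) := isCompact_range j.toImage.continuous
  let p' : j.image ⟶ X := j.imageι ≫ p
  have : IsProper p' := by show IsProper (j.imageι ≫ p); infer_instance
  have : CompactSpace j.image := QuasiCompact.compactSpace_of_compactSpace p'
  have : QuasiSeparatedSpace j.image := quasiSeparatedSpace_of_quasiSeparated p'
  have hO1i := isInvertible_of_isRelAmple p hO1
  let L' := (Scheme.Modules.pullback j.imageι).obj O1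
  have hL'i : PicF.IsInvertible L' := PicLoc.isInvertible_pullback _ hO1i
  let s' : Γ(L', ⊤) := pullSec j.imageι s
  have hs' : glocus L' s' = U := (glocus_pullSec j.imageι hO1i s).trans hU.symm
  have hL'a : RelAmple.IsRelAmple p' L' :=
    isRelAmple_pullback_of_isEmbedding p j.imageι j.imageι.isClosedEmbedding.isEmbedding hO1
  -- the graph
  let m : Y₀ ⟶ pullback p gZ := pullback.lift j a₀ (by rw [hjp, ha₀])
  have hm1 : m ≫ pullback.fst p gZ = j := pullback.lift_fst _ _ _
  have hm2 : m ≫ pullback.snd p gZ = a₀ := pullback.lift_snd _ _ _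
  have : IsImmersion (m ≫ pullback.fst p gZ) := by rw [hm1]; infer_instance
  have : IsImmersion m := IsImmersion.of_comp m (pullback.fst p gZ)
  have : QuasiCompact (m ≫ pullback.fst p gZ) := by rw [hm1]; infer_instance
  have : QuasiCompact m := QuasiCompact.of_comp m (pullback.fst p gZ)
  let V2 := pullback.fst p gZ ⁻¹ᵁ glocus O1 s
  let k2 : Y₀ ⟶ (V2 : Scheme.{u}) := IsOpenImmersion.lift V2.ι m (by
    rw [Scheme.Opens.range_ι]
    rintro _ ⟨y, rfl⟩
    show pullback.fst p gZ (m y) ∈ glocus O1 s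
    rw [← Scheme.Hom.comp_apply, hm1]
    exact (k y).2)
  have hk2 : k2 ≫ V2.ι = m := IsOpenImmersion.lift_fac _ _ _
  have hk2' : k2 ≫ (pullback.fst p gZ ∣_ glocus O1 s) = k := by
    rw [← cancel_mono (glocus O1 s).ι, Category.assoc, morphismRestrict_ι, ← Category.assoc, hk2, hm1]
  have : IsClosedImmersion (k2 ≫ (pullback.fst p gZ ∣_ glocus O1 s)) := by rw [hk2']; exact hk
  have : IsClosedImmersion k2 := IsClosedImmersion.of_comp k2 (pullback.fst p gZ ∣_ glocus O1 s)
  let R := m.toImage.opensRange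
  have hR : R = m.imageι ⁻¹ᵁ V2 := opensRange_toImage m V2 k2 hk2
  let φ : m.image ⟶ j.image := IsClosedImmersion.lift j.imageι (m.imageι ≫ pullback.fst p gZ) (by
    have h1 : (m.imageι ≫ pullback.fst p gZ).ker = (m ≫ pullback.fst p gZ).ker := by
      rw [← Scheme.IdealSheafData.map_ker m.imageι, ← Scheme.IdealSheafData.map_ker m, Scheme.Hom.imageι,
        Scheme.IdealSheafData.ker_subschemeι]
    rw [h1, hm1, Scheme.Hom.imageι, Scheme.IdealSheafData.ker_subschemeι])
  have hφι : φ ≫ j.imageι = m.imageι ≫ pullback.fst p gZ := IsClosedImmersion.lift_fac _ _ _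
  have : IsProper (φ ≫ j.imageι) := by rw [hφι]; infer_instance
  have : IsProper φ := IsProper.of_comp φ j.imageι
  have hmφ : m.toImage ≫ φ = j.toImage := by
    rw [← cancel_mono j.imageι, Category.assoc, hφι, m.toImage_imageι_assoc, hm1, j.toImage_imageι]
  have hφU : φ ⁻¹ᵁ U = R := by
    rw [hR, hU, ← Scheme.Hom.comp_preimage, hφι]
    rfl
  have : IsIso (φ ∣_ U) := by
    have hr : Set.range m.toImage = Set.range (φ ⁻¹ᵁ U).ι := by
      rw [Scheme.Opens.range_ι, hφU]
      rfl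
    have hr' : Set.range j.toImage = Set.range U.ι := by rw [Scheme.Opens.range_ι]; rfl
    let α := IsOpenImmersion.isoOfRangeEq m.toImage (φ ⁻¹ᵁ U).ι hr
    let β := IsOpenImmersion.isoOfRangeEq j.toImage U.ι hr'
    have hαβ : α.hom ≫ (φ ∣_ U) = β.hom := by
      rw [← cancel_mono U.ι, Category.assoc, morphismRestrict_ι, ← Category.assoc,
        IsOpenImmersion.isoOfRangeEq_hom_fac, hmφ, IsOpenImmersion.isoOfRangeEq_hom_fac]
    have : IsIso (α.hom ≫ (φ ∣_ U)) := by rw [hαβ]; infer_instance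
    exact IsIso.of_isIso_comp_left α.hom _
  obtain ⟨𝓘, S', b, hb, hadm, h, hhφ⟩ := S1274.result φ U hUc
  have := BlowUpLib.isProper_of_isBlowUp hb hadm.1
  have : CompactSpace S' := QuasiCompact.compactSpace_of_compactSpace b
  -- lift to the blow-up
  have hbU : IsIso (b ∣_ U) := ProjLib.isIso_morphismRestrict hb U hadm.2
  obtain ⟨σ, hσ, -⟩ := FlatMorAdm.exists_lift_of_isIso b U hbU j.toImage subset_rfl
  let f₁' : Y ⟶ S' := q ≫ σ
  have hσh : σ ≫ h = m.toImage := by
    refine FlatMorAdm.eq_of_isIso_restrict φ U inferInstance ?_ ?_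
    · rw [Category.assoc, hhφ, hσ, hmφ]
    · rw [Category.assoc, hhφ, hσ]
      exact subset_rfl
  have hf₁b : f₁' ≫ b ≫ p' = f := by
    simp only [f₁', p', Category.assoc]
    rw [reassoc_of% hσ, j.toImage_imageι_assoc, hjp, hq]
  have : QuasiCompact (f₁' ≫ (b ≫ p')) := by rw [hf₁b]; infer_instance
  have : QuasiCompact f₁' := QuasiCompact.of_comp f₁' (b ≫ p')
  -- the section
  obtain ⟨N, hN⟩ := exists_bound 𝓘 hL'i s' (by rw [hs']; exact hadm.2)
  let E := 𝓘.comap b
  have hEa : RelAmple.IsRelAmple b (ClSub.idealMod E) :=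
    LocImm12.isRelAmple_idealMod_of_isBlowUp hb hadm.1
  obtain ⟨n₀, -, hn₀⟩ := S2331.result b p' (ClSub.idealMod E) L' hEa hL'a
  let n := max n₀ N + 1
  let M := (Scheme.Modules.pullback b).obj (CohB1.tensorPow L' n)
  have hMi : PicF.IsInvertible M := PicLoc.isInvertible_pullback b (isInvertible_tensorPow hL'i n)
  let t : Γ(M, ⊤) := pullSec b (powSec s' n)
  obtain ⟨a, ha⟩ := exists_idealSection E hb.1 hMi t fun z => by
    obtain ⟨W, g, c, hzW, hg, hc, hsc⟩ := hN n (le_max_right n₀ N |>.trans (Nat.le_succ _)) (b z)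
    obtain ⟨V, hV, hzV, hVW⟩ := Opens.isBasis_iff_nbhd.1 S'.isBasis_affineOpens (show z ∈ b ⁻¹ᵁ W.1 from hzW)
    refine ⟨⟨V, hV⟩, resM M hVW (pullSec b g), b.appLE W.1 V hVW c, hzV,
      (isGen_pullSec b hg (isInvertible_tensorPow hL'i n)).restrict hVW, ?_, ?_⟩
    · rw [FSchLib.ideal_comap_eq_map b 𝓘 ⟨V, hV⟩ W hVW]
      exact Ideal.mem_map_of_mem _ hc
    · have h1 : resM M (le_top : b ⁻¹ᵁ W.1 ≤ ⊤) t = pullSec b (c • g) := by
        rw [← hsc]
        exact resM_pullSec b (le_top : W.1 ≤ ⊤) (powSec s' n)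
      have h2 := congrArg (resM M hVW) h1
      rw [resM_resM, pullSec_smul, resM_smul] at h2
      refine h2.trans ?_
      rfl
  let L₁ := CohB1.tensorMod (ClSub.idealMod E) M
  have hL₁ : RelAmple.IsRelAmple (b ≫ p') L₁ := hn₀ n (le_max_left n₀ N |>.trans (Nat.le_succ _))
  have hEi := FlatMor12.IdealModGen.isInvertible_idealMod E hb.1
  have hL₁i : PicF.IsInvertible L₁ := isInvertible_tensorMod hEi hMi
  have hf₁a : f₁' ⁻¹ᵁ glocus L₁ a = ⊤ := by
    refine eq_top_iff.2 fun y _ => ha ?_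
    show f₁' y ∈ glocus M t
    rw [glocus_pullSec b (isInvertible_tensorPow hL'i n), glocus_powSec hL'i, hs']
    show b (σ (q y)) ∈ U
    rw [← Scheme.Hom.comp_apply, hσ]
    exact ⟨q y, rfl⟩
  -- the image
  let d₀ : f₁'.image ⟶ Z := f₁'.imageι ≫ h ≫ m.imageι ≫ pullback.snd p gZ
  have hd₀ : f₁'.toImage ≫ d₀ = f' ≫ clo := by
    simp only [d₀, f₁']
    rw [(q ≫ σ).toImage_imageι_assoc, Category.assoc, reassoc_of% hσh, m.toImage_imageι_assoc, hm2, hqa]
  have hd₀g : d₀ ≫ gZ = f₁'.imageι ≫ b ≫ p' := by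
    simp only [d₀, Category.assoc, ← pullback.condition]
    rw [← reassoc_of% hφι, reassoc_of% hhφ]
  let d : f₁'.image ⟶ X' := IsClosedImmersion.lift clo d₀ (by
    have h1 : d₀.ker = (f₁'.toImage ≫ d₀).ker := by
      rw [← Scheme.IdealSheafData.map_ker f₁'.toImage, ModPairLib.ker_toImage, Scheme.IdealSheafData.map_bot]
    rw [h1, hd₀]
    exact Scheme.Hom.le_ker_comp f' clo)
  have hd : d ≫ clo = d₀ := IsClosedImmersion.lift_fac _ _ _
  refine ⟨f₁'.image, f₁'.toImage, f₁'.imageι ≫ b ≫ p', d,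
    ⟨⟨ModPairLib.ker_toImage f₁'⟩, inferInstance, by rw [f₁'.toImage_imageι_assoc, hf₁b],
      _, unitDesc _ (pullSec f₁'.imageι a), ?_, ?_⟩, ?_, ?_⟩
  · exact isRelAmple_pullback_of_isEmbedding (b ≫ p') f₁'.imageι f₁'.imageι.isClosedEmbedding.isEmbedding hL₁
  · rw [S17892.isIso_pullback_map_iff f₁'.toImage (PicLoc.isInvertible_pullback _ hL₁i), ← glocus]
    erw [glocus_pullSec _ hL₁i]
    rw [← Scheme.Hom.comp_preimage, f₁'.toImage_imageι]
    exact hf₁a
  · rw [← cancel_mono clo, Category.assoc, hd, hd₀]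
  · rw [← hcloc, ← Category.assoc, hd, hd₀g]

end Groth.Agent.S17893
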