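import Groth.Statements.S17894
import Groth.Agent.S17892
import Groth.Agent.S2331
import Groth.Agent.RelVALib.QuasiProj
import Groth.Agent.FlatMorYMod.Model
import Groth.Agent.ModPairLib.MProd
import Groth.Agent.AmpleLib.Relative2
import Groth.Agent.CAlgSmall.FPExtend

set_option autoImplicit false
set_option backward.isDefEq.respectTransparency.types false
set_option maxHeartbeats 1000000
universe u
open CategoryTheory AlgebraicGeometry
open FlatMor

namespace Groth.Agent.S17894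


open CategoryTheory.Limits TopologicalSpace Groth.Agent.Coherent Groth.Agent.PicLib Groth.Agent.AmpleLib
open Groth.Agent.RelVALib

section
variable {X : Scheme.{u}}

/-- A section generating everywhere trivialises an invertible module. -/
theorem exists_trivialization {M : X.Modules} (σ : Γ(M, ⊤)) (hσ : IsGen M ⊤ σ) :
    ∃ θ : M ≅ Coh.structureModule X, θ.hom.app ⊤ σ = oneSec ⊤ := by
  obtain ⟨θ, hθ⟩ := exists_iso_of_gens (L := M) (M := Coh.structureModule X) (fun _ : PUnit.{u + 1} => (⊤ : X.Opens))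
    ciSup_const (fun _ => σ) (fun _ => hσ) (fun _ => oneSec ⊤) (fun _ => isGen_oneSec ⊤)
    fun i j W hi hj c hc => by
      have h1 : c = 1 := (hσ.restrict hj W le_rfl).1 (show c • resM M le_rfl (resM M hj σ) = (1 : Γ(X, W)) • resM M le_rfl (resM M hj σ) by
        rw [resM_self, one_smul]; exact hc.symm)
      rw [h1, one_smul]
  exact ⟨θ, hθ PUnit.unit⟩

/-- The pullback of the structure module along a morphism, with functions pulled back. -/
theorem exists_pullUnit {Z : Scheme.{u}} (σ : Z ⟶ X) :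
    ∃ w : (Scheme.Modules.pullback σ).obj (Coh.structureModule X) ≅ Coh.structureModule Z,
      ∀ (U : X.Opens) (a : Γ(X, U)),
        w.hom.app (σ ⁻¹ᵁ U) (pullSec σ (show Γ(Coh.structureModule X, U) from a)) = (σ.app U a : Γ(Z, σ ⁻¹ᵁ U)) := by
  obtain ⟨w, hw⟩ := exists_trivialization (M := (Scheme.Modules.pullback σ).obj (Coh.structureModule X))
    (pullSec σ (oneSec (⊤ : X.Opens))) (isGen_pullSec σ (isGen_oneSec ⊤) isInvertible_structureModule)
  refine ⟨w, fun U a => ?_⟩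
  have hw' : w.hom.app (σ ⁻¹ᵁ ⊤) (pullSec σ (oneSec (⊤ : X.Opens))) = oneSec (σ ⁻¹ᵁ ⊤) := hw
  have key : w.hom.app (σ ⁻¹ᵁ U) (pullSec σ (a • resM (Coh.structureModule X) (le_top : U ≤ ⊤) (oneSec ⊤))) =
      σ.app U a • oneSec (σ ⁻¹ᵁ U) := by
    rw [pullSec_smul, ← resM_pullSec σ (le_top : U ≤ ⊤), Scheme.Modules.Hom.app_smul, app_resM, hw']
    erw [resM_oneSec]
  rw [resM_oneSec] at key
  have h1 : (a • oneSec U : Γ(Coh.structureModule X, U)) = (show Γ(Coh.structureModule X, U) from a) := mul_one a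
  rw [h1] at key
  exact key.trans (mul_one (σ.app U a : Γ(Z, σ ⁻¹ᵁ U)))

/-- Sections of a biproduct from sections of the summands. -/
theorem biprod_fst_inl_add {M N : X.Modules} (U : X.Opens) (a : Γ(M, U)) (b : Γ(N, U)) :
    (biprod.fst : M ⊞ N ⟶ M).app U ((biprod.inl : M ⟶ M ⊞ N).app U a + (biprod.inr : N ⟶ M ⊞ N).app U b) = a ∧
    (biprod.snd : M ⊞ N ⟶ N).app U ((biprod.inl : M ⟶ M ⊞ N).app U a + (biprod.inr : N ⟶ M ⊞ N).app U b) = b := by
  have h1 : (biprod.fst : M ⊞ N ⟶ M).app U ((biprod.inl : M ⟶ M ⊞ N).app U a) = a :=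
    congrArg (fun φ : M ⟶ M => φ.app U a) biprod.inl_fst
  have h2 : (biprod.fst : M ⊞ N ⟶ M).app U ((biprod.inr : N ⟶ M ⊞ N).app U b) = (0 : Γ(M, U)) :=
    congrArg (fun φ : N ⟶ M => φ.app U b) biprod.inr_fst
  have h3 : (biprod.snd : M ⊞ N ⟶ N).app U ((biprod.inl : M ⟶ M ⊞ N).app U a) = (0 : Γ(N, U)) :=
    congrArg (fun φ : M ⟶ N => φ.app U a) biprod.inl_snd
  have h4 : (biprod.snd : M ⊞ N ⟶ N).app U ((biprod.inr : N ⟶ M ⊞ N).app U b) = b :=
    congrArg (fun φ : N ⟶ N => φ.app U b) biprod.inr_snd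
  exact ⟨by rw [map_add, h1, h2, add_zero], by rw [map_add, h3, h4, zero_add]⟩

end

attribute [local instance] CategoryTheory.Limits.HasFiniteBiproducts.of_hasFiniteProducts

/-- Here f : Y → X is an affine morphism with X and Y quasi-compact and quasi-separated; a
Y-modification of X is a factorization f = fᵢ ≫ gᵢ with fᵢ : Y → Xᵢ schematically dominant and gᵢ :
Xᵢ → X proper, and it is a Y-blow-up of X when Xᵢ carries a gᵢ-ample module L with a section ε : O →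
L whose pullback along fᵢ is an isomorphism (a Y-trivialization). Let V ⊆ X be a quasi-compact open
with preimage f⁻¹(V) ⊆ Y. Every f⁻¹(V)-blow-up (X'₁, f'₁, g'₁) of V (for the restriction f ∣_ V)
extends to a Y-blow-up (X₁, f₁, g₁) of X: there is an open immersion r : X'₁ → X₁ whose image is
g₁⁻¹(V), with r ≫ g₁ = g'₁ followed by the inclusion of V, and f'₁ ≫ r equal to the inclusion of
f⁻¹(V) followed by f₁. -/
theorem result {X Y : Scheme.{u}} (f : Y ⟶ X)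
    [CompactSpace X] [QuasiSeparatedSpace X] [CompactSpace Y] [QuasiSeparatedSpace Y] [IsAffineHom f]
    (V : X.Opens) (hV : IsCompact (V : Set X))
    {X'₁ : Scheme.{u}} (f'₁ : ↑(f ⁻¹ᵁ V) ⟶ X'₁) (g'₁ : X'₁ ⟶ ↑V)
    (h' : IsSchemeTheoreticallyDominant f'₁ ∧ IsProper g'₁ ∧ f'₁ ≫ g'₁ = (f ∣_ V) ∧
        ∃ (L : X'₁.Modules) (ε : Coh.structureModule X'₁ ⟶ L),
          RelAmple.IsRelAmple g'₁ L ∧ IsIso ((Scheme.Modules.pullback f'₁).map ε)) :
    ∃ (X₁ : Scheme.{u}) (f₁ : Y ⟶ X₁) (g₁ : X₁ ⟶ X) (r : X'₁ ⟶ X₁),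
      (IsSchemeTheoreticallyDominant f₁ ∧ IsProper g₁ ∧ f₁ ≫ g₁ = f ∧
        ∃ (L : X₁.Modules) (ε : Coh.structureModule X₁ ⟶ L),
          RelAmple.IsRelAmple g₁ L ∧ IsIso ((Scheme.Modules.pullback f₁).map ε)) ∧ IsOpenImmersion r ∧
      Set.range (fun x => r x) = (g₁ ⁻¹ᵁ V : Set X₁) ∧ r ≫ g₁ = g'₁ ≫ V.ι ∧ f'₁ ≫ r = (f ⁻¹ᵁ V).ι ≫ f₁ := by
  classical
  obtain ⟨hdom, hprop, hcomp, L, ε, hL, hε⟩ := h'
  have := hdom
  have := hprop
  have := CAlgSmall.FPExtend.quasiCompact_ι V hV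
  have : CompactSpace (V : Scheme.{u}) := isCompact_iff_compactSpace.1 hV
  let q : X'₁ ⟶ X := g'₁ ≫ V.ι
  let fV := f ⁻¹ᵁ V
  let ιf : (fV : Scheme.{u}) ⟶ Y := fV.ι
  have hfVc : IsCompact (fV : Set Y) := QuasiCompact.isCompact_preimage (f := f) _ V.2 hV
  have : QuasiCompact ιf := CAlgSmall.FPExtend.quasiCompact_ι fV hfVc
  have hk : f'₁ ≫ q = ιf ≫ f := by
    simp only [q, ιf, fV]
    rw [← Category.assoc, hcomp, morphismRestrict_ι]
  have : QuasiCompact (f'₁ ≫ g'₁) := by rw [hcomp]; infer_instance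
  have : QuasiCompact f'₁ := QuasiCompact.of_comp f'₁ g'₁
  -- the very ample power over the whole base
  have hLi := isInvertible_of_isRelAmple _ hL
  have hLq : RelAmple.IsRelAmple q L := by
    have hO : RelAmple.IsRelAmple V.ι (Coh.structureModule (V : Scheme.{u})) :=
      isQuasiAffine_iff_isRelAmple.1 ⟨inferInstance, fun W hW => by
        have : CompactSpace (V.ι ⁻¹ᵁ W : Scheme.{u}) :=
          isCompact_iff_compactSpace.1 (QuasiCompact.isCompact_preimage (f := V.ι) _ W.2 hW.isCompact)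
        have : IsAffine (W : Scheme.{u}) := hW
        exact Scheme.IsQuasiAffine.of_isImmersion (V.ι ∣_ W)⟩
    obtain ⟨n₀, -, hn⟩ := S2331.result g'₁ V.ι L _ hL hO
    obtain ⟨e₁⟩ : Nonempty (CohB1.tensorPow (Coh.structureModule (V : Scheme.{u})) n₀ ≅ Coh.structureModule _) := by
      obtain ⟨e, -⟩ := exists_trivialization (powSec (oneSec (⊤ : (V : Scheme.{u}).Opens)) n₀)
        (isGen_powSec (isGen_oneSec ⊤) n₀)
      exact ⟨e⟩
    obtain ⟨e₂⟩ := exists_pullStructureIso g'₁ (X := (V : Scheme.{u}))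
    exact RelVALib.isRelAmple_of_iso
      (AmpleLib.tensorIso (Iso.refl L) ((Scheme.Modules.pullback g'₁).mapIso e₁ ≪≫ e₂) ≪≫ tensorComm _ _ ≪≫ unitTensorIso L)
      (hn n₀ le_rfl)
  obtain ⟨N, hN⟩ := RelVALib.exists_pow_isRelVeryAmple q hLi hLq
  let Lx := CohB1.tensorPow L (N + 1)
  have hLxi : PicF.IsInvertible Lx := isInvertible_tensorPow hLi _
  obtain ⟨hFq, 𝒮, jS, P₀, p₀, chart₀, O₀, lam₀, φ₀, r₀, hr₀, τ₀, D, hr₀imm, hτ₀⟩ :=
    exists_canonical_immersion q Lx hLxi (hN (N + 1) (Nat.le_succ N))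
  have := hr₀imm
  let F := (Scheme.Modules.pushforward q).obj Lx
  have : Coh.IsQCoh F := hFq
  -- the trivialisation
  let εn : Γ(Lx, ⊤) := powSec (unitVal ε ⊤) (N + 1)
  have hσgen : IsGen ((Scheme.Modules.pullback f'₁).obj Lx) ⊤ (pullSec f'₁ εn) := by
    rw [S17892.isIso_pullback_map_iff f'₁ hLi, genLocus_eq_glocus, ← glocus_powSec hLi _ N,
      ← glocus_pullSec f'₁ (isInvertible_tensorPow hLi _)] at hε
    have := (le_glocus_iff _ _).1 hε.ge
    rwa [resM_self] at this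
  obtain ⟨θ, hθ⟩ := exists_trivialization _ hσgen
  let ξ : Lx ⟶ (Scheme.Modules.pushforward f'₁).obj (Coh.structureModule _) :=
    (Scheme.Modules.pullbackPushforwardAdjunction f'₁).unit.app Lx ≫ (Scheme.Modules.pushforward f'₁).map θ.hom
  let H := (Scheme.Modules.pushforward f).obj ((Scheme.Modules.pushforward ιf).obj (Coh.structureModule (fV : Scheme.{u})))
  let FY := (Scheme.Modules.pushforward f).obj (Coh.structureModule Y)
  let α : FY ⟶ H := (Scheme.Modules.pushforward f).map (ClSub.unitToPush ιf)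
  let β : F ⟶ H := (Scheme.Modules.pushforward q).map ξ ≫ (Scheme.Modules.pushforwardComp f'₁ q).hom.app _ ≫
    (Scheme.Modules.pushforwardCongr hk).hom.app _ ≫ (Scheme.Modules.pushforwardComp ιf f).inv.app _
  have hα : ∀ (U : X.Opens) (a : Γ(FY, U)),
      α.app U a = (ιf.app (f ⁻¹ᵁ U) (show Γ(Y, f ⁻¹ᵁ U) from a) : Γ(fV.toScheme, ιf ⁻¹ᵁ (f ⁻¹ᵁ U))) := fun _ _ => rfl
  have hleU : ∀ U : X.Opens, ιf ⁻¹ᵁ (f ⁻¹ᵁ U) ≤ f'₁ ⁻¹ᵁ (q ⁻¹ᵁ U) := fun U => le_of_eq (by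
    rw [← Scheme.Hom.comp_preimage, ← Scheme.Hom.comp_preimage, hk])
  have hβ : ∀ (U : X.Opens) (b : Γ(F, U)), β.app U b =
      resM (Coh.structureModule (fV : Scheme.{u})) (hleU U)
        (θ.hom.app _ (pullSec f'₁ (show Γ(Lx, q ⁻¹ᵁ U) from b))) := fun U b => rfl
  have : Coh.IsQCoh FY := by
    have : Coh.IsQCoh (Coh.structureModule Y) := isQCoh_structureModule
    exact isQCoh_push f _
  have : Coh.IsQCoh H := by
    have : Coh.IsQCoh (Coh.structureModule (fV : Scheme.{u})) := isQCoh_structureModule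
    have := isQCoh_push ιf (Coh.structureModule (fV : Scheme.{u}))
    exact isQCoh_push f _
  let Δ : FY ⊞ F ⟶ H := biprod.fst ≫ α - biprod.snd ≫ β
  let K := kernel Δ
  have := isQCoh_biprod FY F
  have hKq : Coh.IsQCoh K := isQCoh_kernel Δ
  let πY : K ⟶ FY := kernel.ι Δ ≫ biprod.fst
  let πF : K ⟶ F := kernel.ι Δ ≫ biprod.snd
  have hrel : ∀ (U : X.Opens) (m : Γ(K, U)), α.app U (πY.app U m) = β.app U (πF.app U m) := fun U m => by
    have h := kernel_ι_app_zero Δ U m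
    exact sub_eq_zero.1 h
  have hmk : ∀ (U : X.Opens) (a : Γ(FY, U)) (b : Γ(F, U)), α.app U a = β.app U b →
      ∃ m : Γ(K, U), πY.app U m = a ∧ πF.app U m = b := fun U a b hab => by
    obtain ⟨ha, hb⟩ := biprod_fst_inl_add U a b
    obtain ⟨m, hm⟩ := kernel_sections_exact Δ (U := U)
      ((biprod.inl : FY ⟶ FY ⊞ F).app U a + (biprod.inr : F ⟶ FY ⊞ F).app U b) (by
        show α.app U ((biprod.fst : FY ⊞ F ⟶ FY).app U _) - β.app U ((biprod.snd : FY ⊞ F ⟶ F).app U _) = 0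
        rw [ha, hb, hab, sub_self])
    exact ⟨m, (congrArg ((biprod.fst : FY ⊞ F ⟶ FY).app U) hm).trans ha,
      (congrArg ((biprod.snd : FY ⊞ F ⟶ F).app U) hm).trans hb⟩
  have hliftV : ∀ (U : X.Opens), U ≤ V → ∀ b : Γ(F, U), ∃ m : Γ(K, U), πF.app U m = b := fun U hU b => by
    have := ιf.isIso_app (f ⁻¹ᵁ U) (by rw [Scheme.Opens.opensRange_ι]; exact f.preimage_mono hU)
    obtain ⟨a, ha⟩ := (ConcreteCategory.bijective_of_isIso (ιf.app (f ⁻¹ᵁ U))).2 (β.app U b)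
    obtain ⟨m, -, hm⟩ := hmk U a b ((hα U a).trans ha)
    exact ⟨m, hm⟩
  obtain ⟨m₀, hm₀Y, hm₀F⟩ := hmk ⊤ (oneSec (f ⁻¹ᵁ ⊤)) (show Γ(Lx, q ⁻¹ᵁ ⊤) from εn) (by
    rw [hβ, hα]
    erw [hθ]
    exact (map_one (ιf.app (f ⁻¹ᵁ ⊤)).hom).trans (resM_oneSec (hleU ⊤)).symm)
  -- the pieces
  have : CompactSpace X'₁ := QuasiCompact.compactSpace_of_compactSpace g'₁
  have key : ∀ x : X'₁, ∃ (U : X.Opens) (_ : U ≤ V) (hU : IsAffineOpen U) (e : Γ(F, U)) (S : Set Γ(F, U))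
      (c : Γ(P₀, opn jS p₀ chart₀ hU e)) (ν : ℕ) (g : Fin ν → Γ(X'₁, r₀ ⁻¹ᵁ P₀.basicOpen c))
      (hle : r₀ ⁻¹ᵁ P₀.basicOpen c ≤ q ⁻¹ᵁ U),
      x ∈ r₀ ⁻¹ᵁ P₀.basicOpen c ∧ IsAffineOpen (r₀ ⁻¹ᵁ P₀.basicOpen c) ∧ S.Finite ∧
      c ∈ Subring.closure (Set.range (p₀.appLE U _ (D.opn_le hU e)) ∪
        {d | ∃ e' ∈ S, d • resM O₀ (D.opn_le hU e) (φ₀.app U e) = resM O₀ (D.opn_le hU e) (φ₀.app U e')}) ∧
      Subring.closure (Set.range (q.appLE U (r₀ ⁻¹ᵁ P₀.basicOpen c) hle) ∪ Set.range g) = ⊤ ∧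
      ∀ i, ∃ (n : ℕ) (z : Γ(P₀, opn jS p₀ chart₀ hU e)),
        z ∈ Subring.closure (Set.range (p₀.appLE U _ (D.opn_le hU e)) ∪
          {d | ∃ e' ∈ S, d • resM O₀ (D.opn_le hU e) (φ₀.app U e) = resM O₀ (D.opn_le hU e) (φ₀.app U e')}) ∧
        g i * r₀.appLE _ _ (r₀.preimage_mono (P₀.basicOpen_le c)) c ^ n =
          r₀.appLE _ _ (r₀.preimage_mono (P₀.basicOpen_le c)) z := by
    intro x
    obtain ⟨U, hU, hxU, hUV⟩ := Opens.isBasis_iff_nbhd.1 X.isBasis_affineOpens (show q x ∈ V from (g'₁ x).2)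
    have hxP : r₀ x ∈ p₀ ⁻¹ᵁ U := ge_of_over hr₀ U hxU
    obtain ⟨e, he⟩ := D.exists_mem_opn hU hxP
    obtain ⟨c, hcB, hxc⟩ := (D.isAffineOpen_opn hU e).exists_basicOpen_le
      (V := opn jS p₀ chart₀ hU e ⊓ r₀.coborderRange) ⟨r₀ x, he, subset_coborder ⟨x, rfl⟩⟩ he
    obtain ⟨hWaff, hsurj⟩ := surjective_app_of_le_coborderRange r₀ ((D.isAffineOpen_opn hU e).basicOpen c)
      (hcB.trans inf_le_right)
    let O := opn jS p₀ chart₀ hU e
    let W := r₀ ⁻¹ᵁ P₀.basicOpen c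
    have hle : W ≤ q ⁻¹ᵁ U :=
      (r₀.preimage_mono ((P₀.basicOpen_le c).trans (D.opn_le hU e))).trans (le_of_over hr₀ U)
    obtain ⟨ν, g, hg⟩ := MorProj.exists_ring_gens' q hWaff hU hle
    have hz : ∀ i, ∃ (n : ℕ) (z : Γ(P₀, O)),
        g i * r₀.appLE O W (r₀.preimage_mono (P₀.basicOpen_le c)) c ^ n =
          r₀.appLE O W (r₀.preimage_mono (P₀.basicOpen_le c)) z := fun i => by
      obtain ⟨y, hy⟩ := hsurj (g i)
      have := (D.isAffineOpen_opn hU e).isLocalization_basicOpen c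
      obtain ⟨⟨z, ⟨_, n, rfl⟩⟩, hn⟩ := IsLocalization.surj (M := Submonoid.powers c) (R := Γ(P₀, O))
        (S := Γ(P₀, P₀.basicOpen c)) y
      refine ⟨n, z, ?_⟩
      have hmap : ∀ d : Γ(P₀, O), r₀.appLE O W (r₀.preimage_mono (P₀.basicOpen_le c)) d =
          r₀.app (P₀.basicOpen c) (algebraMap Γ(P₀, O) Γ(P₀, P₀.basicOpen c) d) := fun d => by
        rw [Scheme.Hom.app_eq_appLE]
        exact ConcreteCategory.congr_hom (r₀.map_appLE le_rfl (homOfLE (P₀.basicOpen_le c)).op).symm d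
      rw [hmap, hmap, ← hy, ← map_pow, ← map_mul]
      refine congrArg _ ?_
      rw [← map_pow]
      exact hn
    choose n z hz using hz
    choose S₀ hS₀ hcS₀ using fun d : Γ(P₀, O) => exists_finite_coords D hU e d
    let S := S₀ c ∪ ⋃ i, S₀ (z i)
    have hmono : ∀ d : Γ(P₀, O), S₀ d ⊆ S → d ∈ Subring.closure (Set.range (p₀.appLE U _ (D.opn_le hU e)) ∪
        {d | ∃ e' ∈ S, d • resM O₀ (D.opn_le hU e) (φ₀.app U e) = resM O₀ (D.opn_le hU e) (φ₀.app U e')}) :=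
      fun d h => Subring.closure_mono
        (Set.union_subset_union_right _ (by rintro d' ⟨e', he', h'⟩; exact ⟨e', h he', h'⟩)) (hcS₀ d)
    exact ⟨U, hUV, hU, e, S, c, ν, g, hle, hxc, hWaff, (hS₀ c).union (Set.finite_iUnion fun i => hS₀ (z i)),
      hmono c Set.subset_union_left, hg, fun i => ⟨n i, z i,
        hmono (z i) ((Set.subset_iUnion (fun i => S₀ (z i)) i).trans Set.subset_union_right), hz i⟩⟩
  choose U hUV hU e S c ν g hle hxW hWaff hS hc hg hz using key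
  obtain ⟨T, hT⟩ := isCompact_univ.elim_finite_subcover (fun x : X'₁ => (r₀ ⁻¹ᵁ P₀.basicOpen (c x) : Set X'₁))
    (fun x => (r₀ ⁻¹ᵁ P₀.basicOpen (c x)).2) fun x _ => Set.mem_iUnion.2 ⟨x, hxW x⟩
  choose liftK hliftK using fun (x : X'₁) (b : Γ(F, U x)) => hliftV (U x) (hUV x) b
  have hext : ∀ x : T, ∃ Q : SubM K, Q.Good ⊤ ∧
      ∀ e' ∈ insert (e x.1) (S x.1), liftK x.1 e' ∈ Q.carrier (U x.1) := fun x => by
    have := ((hS x.1).insert (e x.1)).to_subtype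
    obtain ⟨Q, hQ, hQmem⟩ := exists_good_containing_qcqs (F := K) (hU x.1).isCompact
      (fun i : ↥(insert (e x.1) (S x.1)) => liftK x.1 i.1)
    exact ⟨Q, hQ, fun e' he' => hQmem ⟨e', he'⟩⟩
  choose Q hQ hQmem using hext
  obtain ⟨Q₀, hQ₀, hQ₀mem⟩ := exists_good_containing_qcqs (F := K) (U := ⊤) isCompact_univ
    (fun _ : PUnit.{u + 1} => m₀)
  let R : Option T → SubM K := fun o => o.elim Q₀ Q
  let G := SubM.sum R
  have hG : G.Good ⊤ := SubM.good_sum R (fun o => by cases o <;> first | exact hQ₀ | exact hQ _)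
  have hGq : Coh.IsQCoh G.toMod := SubM.isQCoh hG
  obtain ⟨e₀, he₀⟩ : m₀ ∈ Set.range (G.toι.app ⊤) :=
    G.mem_range_toι.2 (SubM.le_sum R none _ (hQ₀mem PUnit.unit))
  let sF : G.toMod ⟶ F := G.toι ≫ πF
  let t₂ : G.toMod ⟶ FY := G.toι ≫ πY
  have hmem : ∀ (x : T) (e' : Γ(F, U x.1)), e' ∈ insert (e x.1) (S x.1) → e' ∈ Set.range (sF.app (U x.1)) :=
    fun x e' he' => by
    obtain ⟨m, hm⟩ := G.mem_range_toι.2 (SubM.le_sum R (some x) _ (hQmem x e' he'))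
    exact ⟨m, (congrArg (πF.app (U x.1)) hm).trans (hliftK x.1 e')⟩
  obtain ⟨𝒯, jT, P, p, chart, O1, lam, φ, D₂⟩ := exists_bundle G.toMod hGq
  have := isProper_bundle hGq (SubM.isFT hG) D₂.hj D₂.hP
  -- the map from the modification
  have hcover : ∀ x : X'₁, ∃ k : T, x ∈ r₀ ⁻¹ᵁ P₀.basicOpen (c k.1) := fun x => by
    obtain ⟨k, hk, hxk⟩ := Set.mem_iUnion₂.1 (hT (Set.mem_univ x))
    exact ⟨⟨k, hk⟩, hxk⟩
  obtain ⟨cc, hcc, τc, hτc⟩ := exists_classifies D₂ (g := q) (L := Lx) (t := sF ≫ 𝟙 _) fun x => by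
    obtain ⟨k, hk⟩ := hcover x
    obtain ⟨e₂, he₂⟩ := hmem k (e k.1) (Set.mem_insert _ _)
    refine ⟨U k.1, hU k.1, e₂, r₀ ⁻¹ᵁ opn jS p₀ chart₀ (hU k.1) (e k.1),
      (r₀.preimage_mono (D.opn_le _ _)).trans (le_of_over hr₀ _), r₀.preimage_mono (P₀.basicOpen_le _) hk, ?_⟩
    have h := isGen_classified D hτ₀ (hU k.1) (e k.1) ((r₀.preimage_mono (D.opn_le _ _)).trans (le_of_over hr₀ _))
    show IsGen Lx _ (resM Lx _ (sF.app (U k.1) e₂))
    rw [he₂]
    exact h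
  have hpieces : ∀ k : T, ∃ W : P.Opens, IsAffineOpen W ∧ cc ⁻¹ᵁ W = r₀ ⁻¹ᵁ P₀.basicOpen (c k.1) ∧
      Function.Surjective (cc.app W) := fun k => by
    obtain ⟨e₂, he₂⟩ := hmem k (e k.1) (Set.mem_insert _ _)
    exact isImmersion_piece D D₂ hτ₀ hτc (hU k.1) (e k.1) e₂ he₂
      (fun e' he' => hmem k e' (Set.mem_insert_of_mem _ he')) (hc k.1) (hle k.1) (hg k.1) (hz k.1)
  choose Wc hWc hpre hsur using hpieces
  have hccimm : IsImmersion cc := PnEmb.isImmersion_of_charts cc Wc hWc (fun k => hpre k ▸ hWaff k.1) hsur fun x => by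
    obtain ⟨k, hk⟩ := hcover x
    exact ⟨k, (hpre k).ge hk⟩
  -- the map from Y
  have hone : ∀ W : X.Opens, t₂.app W (resM G.toMod le_top e₀) = (show Γ(FY, W) from oneSec (f ⁻¹ᵁ W)) := fun W => by
    show πY.app W (G.toι.app W (resM G.toMod le_top e₀)) = _
    rw [app_resM, he₀, app_resM, hm₀Y]
    exact resM_oneSec (X := Y) (f.preimage_mono le_top)
  obtain ⟨r, hr, τr, hτr⟩ := exists_classifies D₂ (g := f) (L := Coh.structureModule Y) (t := t₂) fun y => by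
    obtain ⟨W, hW, hyW, -⟩ := Opens.isBasis_iff_nbhd.1 X.isBasis_affineOpens (show f y ∈ (⊤ : X.Opens) from trivial)
    refine ⟨W, hW, resM G.toMod le_top e₀, f ⁻¹ᵁ W, le_rfl, hyW, ?_⟩
    rw [resM_self, hone]
    exact isGen_oneSec _
  -- they agree
  let t' : G.toMod ⟶ (Scheme.Modules.pushforward (ιf ≫ f)).obj (Coh.structureModule (fV : Scheme.{u})) :=
    t₂ ≫ α ≫ (Scheme.Modules.pushforwardComp ιf f).hom.app _
  obtain ⟨w, hw⟩ := exists_pullUnit ιf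
  obtain ⟨τ₁, hτ₁⟩ := hτr.comp ιf (k := ιf ≫ f) rfl w t' fun W _ m hle => by
    rw [hw]
    erw [resM_self]
    exact hα W (t₂.app W m)
  obtain ⟨τ₂, hτ₂⟩ := hτc.comp f'₁ (k := ιf ≫ f) hk θ t' fun W _ m hle => by
    have h := hrel W (G.toι.app W m)
    exact h.trans (hβ W (sF.app W m))
  have hagree : ιf ≫ r = f'₁ ≫ cc := eq_of_classifies D₂ (fun z => by
      obtain ⟨W, hW, hzW, -⟩ := Opens.isBasis_iff_nbhd.1 X.isBasis_affineOpens (show (ιf ≫ f) z ∈ (⊤ : X.Opens) from trivial)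
      refine ⟨W, hW, resM G.toMod le_top e₀, (ιf ≫ f) ⁻¹ᵁ W, le_rfl, hzW, ?_⟩
      have h1 : t'.app W (resM G.toMod le_top e₀) = (oneSec ((ιf ≫ f) ⁻¹ᵁ W)) := by
        show α.app W (t₂.app W (resM G.toMod le_top e₀)) = _
        rw [hone, hα]
        exact map_one (ιf.app (f ⁻¹ᵁ W)).hom
      rw [resM_self, h1]
      exact isGen_oneSec _) hτ₁ hτ₂
  -- the image
  have : QuasiCompact (r ≫ p) := by rw [hr]; infer_instance
  have : QuasiCompact r := QuasiCompact.of_comp r p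
  let g₁ : r.image ⟶ X := r.imageι ≫ p
  let r₁ : X'₁ ⟶ r.image := IsClosedImmersion.lift r.imageι cc (by
    have h1 : cc.ker = (f'₁ ≫ cc).ker := by
      rw [← Scheme.IdealSheafData.map_ker f'₁, f'₁.ker_eq_bot, Scheme.IdealSheafData.map_bot]
    rw [Scheme.Hom.imageι, Scheme.IdealSheafData.ker_subschemeι, h1, ← hagree]
    exact Scheme.Hom.le_ker_comp ιf r)
  have hr₁ : r₁ ≫ r.imageι = cc := IsClosedImmersion.lift_fac _ _ _
  have hr₁g : r₁ ≫ g₁ = g'₁ ≫ V.ι := by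
    show r₁ ≫ r.imageι ≫ p = _
    rw [← Category.assoc, hr₁, hcc]
  have hf'r₁ : f'₁ ≫ r₁ = ιf ≫ r.toImage := by
    rw [← cancel_mono r.imageι, Category.assoc, hr₁, Category.assoc, r.toImage_imageι, hagree]
  let W₁ := g₁ ⁻¹ᵁ V
  let r' : X'₁ ⟶ (W₁ : Scheme.{u}) := IsOpenImmersion.lift W₁.ι r₁ (by
    rw [Scheme.Opens.range_ι]
    rintro _ ⟨x, rfl⟩
    show g₁ (r₁ x) ∈ V
    rw [← Scheme.Hom.comp_apply, hr₁g]
    exact (g'₁ x).2)
  have hr' : r' ≫ W₁.ι = r₁ := IsOpenImmersion.lift_fac _ _ _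
  have : IsImmersion (r₁ ≫ r.imageι) := by rw [hr₁]; exact hccimm
  have : IsImmersion r₁ := IsImmersion.of_comp r₁ r.imageι
  have : IsImmersion (r' ≫ W₁.ι) := by rw [hr']; infer_instance
  have : IsImmersion r' := IsImmersion.of_comp r' W₁.ι
  have hr'g : r' ≫ (g₁ ∣_ V) = g'₁ := by
    rw [← cancel_mono V.ι, Category.assoc, morphismRestrict_ι, ← Category.assoc, hr', hr₁g]
  have : IsProper (r' ≫ (g₁ ∣_ V)) := by rw [hr'g]; infer_instance
  have : IsProper r' := IsProper.of_comp r' (g₁ ∣_ V)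
  have : IsClosedImmersion r' := IsClosedImmersion.of_isPreimmersion r' r'.isClosedMap.isClosed_range
  have hker : r'.ker = ⊥ := by
    have hd : IsSchemeTheoreticallyDominant r.toImage := ⟨ModPairLib.ker_toImage r⟩
    have : IsSchemeTheoreticallyDominant (r.toImage ∣_ W₁) :=
      IsSchemeTheoreticallyDominant.of_isPullback (isPullback_morphismRestrict r.toImage W₁).flip
    have hle' : r.toImage ⁻¹ᵁ W₁ ≤ fV := le_of_eq (by
      show r.toImage ⁻¹ᵁ (g₁ ⁻¹ᵁ V) = f ⁻¹ᵁ V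
      rw [← Scheme.Hom.comp_preimage, r.toImage_imageι_assoc, hr])
    have heq : (r.toImage ∣_ W₁) = (Y.homOfLE hle' ≫ f'₁) ≫ r' := by
      rw [← cancel_mono W₁.ι, morphismRestrict_ι, Category.assoc, hr', Category.assoc, hf'r₁,
        ← Category.assoc, Scheme.homOfLE_ι]
    have h1 := Scheme.Hom.le_ker_comp (Y.homOfLE hle' ≫ f'₁) r'
    rw [← heq, (r.toImage ∣_ W₁).ker_eq_bot] at h1
    exact le_bot_iff.1 h1
  have : IsIso r' := IsClosedImmersion.isIso_iff_ker_eq_bot.2 hker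
  have : IsOpenImmersion r₁ := by rw [← hr']; infer_instance
  refine ⟨r.image, r.toImage, g₁, r₁, ⟨⟨ModPairLib.ker_toImage r⟩, ?_, ?_, ?_⟩, inferInstance, ?_, hr₁g, hf'r₁⟩
  · show IsProper (r.imageι ≫ p)
    infer_instance
  · rw [r.toImage_imageι_assoc, hr]
  · let s : Γ(O1, ⊤) := φ.app ⊤ e₀
    have hO1 : RelAmple.IsRelAmple p O1 := RelVALib.isRelAmple_of_iso ((Scheme.Modules.pullbackId P).app O1)
      (RelVALib.isRelAmple_pullback_of_isEmbedding D₂.hgen D₂.hO1 p (𝟙 P) (Category.id_comp p)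
        Topology.IsEmbedding.id)
    refine ⟨_, unitDesc _ (pullSec r.imageι s),
      AmpleLib.isRelAmple_pullback_of_isEmbedding p r.imageι r.imageι.isClosedEmbedding.isEmbedding hO1, ?_⟩
    rw [S17892.isIso_pullback_map_iff r.toImage (PicLoc.isInvertible_pullback _ D₂.invertible), ← glocus]
    erw [glocus_pullSec _ D₂.invertible]
    rw [← Scheme.Hom.comp_preimage, r.toImage_imageι]
    refine eq_top_iff.2 ?_
    rw [← glocus_pullSec r D₂.invertible, le_glocus_iff, resM_self]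
    have h1 : IsGen (Coh.structureModule Y) ⊤ (τr.hom.app ⊤ (pullSec r s)) := by
      have h := hτr.on_opens ⊤ e₀
      have h2 := hone ⊤
      rw [resM_self] at h2
      rw [h2] at h
      refine RelVALib.isGen_congr h.symm ?_
      erw [resM_oneSec]
      exact isGen_oneSec _
    refine RelVALib.isGen_congr ?_ (isGen_of_iso τr.symm h1)
    exact congr(($(τr.hom_inv_id)).app ⊤ (pullSec r s))
  · rw [← hr']
    refine Set.ext fun z => ⟨?_, fun hz => ?_⟩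
    · rintro ⟨x, rfl⟩
      exact (r' x).2
    · obtain ⟨x, hx⟩ := r'.surjective ⟨z, hz⟩
      exact ⟨x, by show W₁.ι (r' x) = z; rw [hx]; rfl⟩

end Groth.Agent.S17894
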