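import Groth.Statements.S17896
import Groth.Agent.FlatMorAdm.LocFreeApps

set_option autoImplicit false
universe u
open CategoryTheory AlgebraicGeometry
open FlatMor
set_option backward.isDefEq.respectTransparency.types false

namespace Groth.Agent.S17896

/-- Let S be a Noetherian scheme, X₁ and X₂ separated S-schemes of finite type and j₁ : U → X₁, j₂ : U →
X₂ open immersions over S with schematically dense images, and let E be an O_U-module extending to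
finite locally free modules E₁ on X₁ and E₂ on X₂ (pullbacks along jᵢ isomorphic to E). Then there
exist a separated S-scheme X of finite type, an open immersion k : U → X over S with schematically
dense image, a finite locally free module E' on X whose pullback along k is isomorphic to E, and for
i = 1, 2 a proper quasi-domination of X over Xᵢ compatible with U: a schematically dense open Wᵢ ⊆ X
through which k factors and a proper S-morphism φᵢ : Wᵢ → Xᵢ restricting to jᵢ on U, whose graph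
morphism Wᵢ → X ×_S Xᵢ has closed image. -/
theorem result {S X₁ X₂ U : Scheme.{u}}
    [IsNoetherian S] (p₁ : X₁ ⟶ S) (p₂ : X₂ ⟶ S)
    [IsSeparated p₁] [QuasiCompact p₁] [LocallyOfFiniteType p₁]
    [IsSeparated p₂] [QuasiCompact p₂] [LocallyOfFiniteType p₂]
    (j₁ : U ⟶ X₁) (j₂ : U ⟶ X₂) [IsOpenImmersion j₁] [IsOpenImmersion j₂]
    [IsSchemeTheoreticallyDominant j₁] [IsSchemeTheoreticallyDominant j₂] (hj : j₁ ≫ p₁ = j₂ ≫ p₂)
    (E : U.Modules) (E₁ : X₁.Modules) (E₂ : X₂.Modules)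
    (hE₁ : FlatMod.IsFinLocFree E₁) (hE₂ : FlatMod.IsFinLocFree E₂)
    (e₁ : (Scheme.Modules.pullback j₁).obj E₁ ≅ E) (e₂ : (Scheme.Modules.pullback j₂).obj E₂ ≅ E) :
    ∃ (X : Scheme.{u}) (p : X ⟶ S) (k : U ⟶ X) (E' : X.Modules),
      IsSeparated p ∧ QuasiCompact p ∧ LocallyOfFiniteType p ∧ IsOpenImmersion k ∧ QuasiCompact k ∧
      IsSchemeTheoreticallyDominant k ∧ k ≫ p = j₁ ≫ p₁ ∧ FlatMod.IsFinLocFree E' ∧
      Nonempty ((Scheme.Modules.pullback k).obj E' ≅ E) ∧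
      (∃ (W₁ : X.Opens) (φ₁ : (↑W₁ : Scheme.{u}) ⟶ X₁) (hφ₁ : W₁.ι ≫ p = φ₁ ≫ p₁) (l₁ : U ⟶ ↑W₁),
        IsSchemeTheoreticallyDominant W₁.ι ∧ IsProper φ₁ ∧ l₁ ≫ W₁.ι = k ∧ l₁ ≫ φ₁ = j₁ ∧
        IsClosed (Set.range (fun w => (Limits.pullback.lift W₁.ι φ₁ hφ₁) w))) ∧
      (∃ (W₂ : X.Opens) (φ₂ : (↑W₂ : Scheme.{u}) ⟶ X₂) (hφ₂ : W₂.ι ≫ p = φ₂ ≫ p₂) (l₂ : U ⟶ ↑W₂),
        IsSchemeTheoreticallyDominant W₂.ι ∧ IsProper φ₂ ∧ l₂ ≫ W₂.ι = k ∧ l₂ ≫ φ₂ = j₂ ∧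
        IsClosed (Set.range (fun w => (Limits.pullback.lift W₂.ι φ₂ hφ₂) w))) := by
  haveI : CompactSpace X₁ := QuasiCompact.compactSpace_of_compactSpace p₁
  haveI : IsLocallyNoetherian X₁ := LocallyOfFiniteType.isLocallyNoetherian p₁
  haveI : AlgebraicGeometry.IsNoetherian X₁ := {}
  haveI : CompactSpace U := isCompact_univ_iff.1 (j₁.isOpenEmbedding.isInducing.isCompact_iff.2
    (TopologicalSpace.NoetherianSpace.isCompact _))
  obtain ⟨X, q, hq, j, hj', hker, hjq, ⟨W₁, l₁, φ₁, hw₁, hl₁, hlp₁, hp₁⟩, ⟨W₂, l₂, φ₂, hw₂, hl₂, hlp₂, hp₂⟩⟩ :=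
    FlatMorAdm.exists_join p₁ p₂ j₁ j₂ hj
  haveI : CompactSpace X := QuasiCompact.compactSpace_of_compactSpace q
  haveI : IsLocallyNoetherian X := LocallyOfFiniteType.isLocallyNoetherian q
  haveI : AlgebraicGeometry.IsNoetherian X := {}
  have hE : FlatMod.IsFinLocFree E := FlatMorAdm.isFinLocFree_of_iso e₁ (FlatMorAdm.isFinLocFree_pullback j₁ hE₁)
  obtain ⟨I, X', b, k, hb, hI, hbp, hk, hkc, hks, hkb, h⟩ :=
    FlatMorAdm.exists_lift_extend_family j (fun _ : PUnit.{1} => E) (fun _ => hE)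
  obtain ⟨E', hE', ⟨eE⟩⟩ := h PUnit.unit
  haveI : CompactSpace X' := QuasiCompact.compactSpace_of_compactSpace b
  haveI : IsLocallyNoetherian X' := LocallyOfFiniteType.isLocallyNoetherian b
  haveI : AlgebraicGeometry.IsNoetherian X' := {}
  have hden : ModPairLib.IsDenseOpen k.opensRange :=
    ModPairLib.IsDenseOpen.of_hom k ((isSchemeTheoreticallyDominant_iff k).1 hks)
  have side : ∀ {Xi : Scheme.{u}} (pi : Xi ⟶ S) (ji : U ⟶ Xi) (W : X.Opens) (l : U ⟶ W) (φ : (W : Scheme.{u}) ⟶ Xi)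
      (_ : W.ι ≫ q = φ ≫ pi) (_ : l ≫ W.ι = j) (_ : l ≫ φ = ji) (_ : IsProper φ),
      ∃ (W' : X'.Opens) (φ' : (W' : Scheme.{u}) ⟶ Xi) (hφ' : W'.ι ≫ b ≫ q = φ' ≫ pi) (l' : U ⟶ ↑W'),
        IsSchemeTheoreticallyDominant W'.ι ∧ IsProper φ' ∧ l' ≫ W'.ι = k ∧ l' ≫ φ' = ji ∧
        IsClosed (Set.range (fun w => (Limits.pullback.lift W'.ι φ' hφ') w)) := by
    intro Xi pi ji W l φ hw hl hlp _
    haveI : IsProper (b ∣_ W) := MorphismProperty.of_isPullback (P := @IsProper.{u})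
      (isPullback_morphismRestrict b W).flip hbp
    have hr : Set.range k ⊆ Set.range (b ⁻¹ᵁ W).ι := by
      rw [Scheme.Opens.range_ι]
      rintro _ ⟨x, rfl⟩
      show b (k x) ∈ W
      rw [← Scheme.Hom.comp_apply, hkb, ← hl]
      exact (l x).2
    let l' := IsOpenImmersion.lift (b ⁻¹ᵁ W).ι k hr
    have hl' : l' ≫ (b ⁻¹ᵁ W).ι = k := IsOpenImmersion.lift_fac _ _ _
    have hlW : l' ≫ (b ∣_ W) = l := by
      rw [← cancel_mono W.ι, Category.assoc, morphismRestrict_ι, reassoc_of% hl', hkb, hl]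
    have hφ' : (b ⁻¹ᵁ W).ι ≫ b ≫ q = ((b ∣_ W) ≫ φ) ≫ pi := by
      rw [Category.assoc, ← hw, morphismRestrict_ι_assoc]
    refine ⟨b ⁻¹ᵁ W, (b ∣_ W) ≫ φ, hφ', l', ?_, inferInstance, hl', by rw [reassoc_of% hlW, hlp],
      FlatMorAdm.isClosed_range_graph (b ≫ q) pi _ _ hφ'⟩
    haveI : CompactSpace ((b ⁻¹ᵁ W : X'.Opens) : Scheme.{u}) :=
      isCompact_iff_compactSpace.1 (TopologicalSpace.NoetherianSpace.isCompact _)
    haveI : QuasiCompact (b ⁻¹ᵁ W).ι := quasiCompact_of_compactSpace _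
    exact (hden.mono (fun y hy => by
      obtain ⟨x, rfl⟩ := hy
      exact (Scheme.Opens.range_ι _).le (hr ⟨x, rfl⟩))).isSTD
  refine ⟨X', b ≫ q, k, E', inferInstance, inferInstance, inferInstance, hk, hkc, hks,
    by rw [reassoc_of% hkb, hjq], hE', ⟨eE⟩, ?_, ?_⟩
  · exact side p₁ j₁ W₁ l₁ φ₁ hw₁ hl₁ hlp₁ hp₁
  · exact side p₂ j₂ W₂ l₂ φ₂ hw₂ hl₂ hlp₂ hp₂

end Groth.Agent.S17896
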