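import Groth.Statements.S17901
import Groth.Agent.PinchSqLib.Flat
import Mathlib.LinearAlgebra.TensorProduct.Prod
-- import your own Groth.Agent.* helpers here

set_option autoImplicit false
universe u
open TensorProduct
open Pinch

namespace Groth.Agent.S17901

/-- Let R be a commutative ring and let B' → B → A, B' → A' → A be a fibre square of R-algebras (B' = B
×_A A') with A' → A surjective, where B, A' and A are flat over R. Then for every commutative
R-algebra R' the square obtained by applying R' ⊗_R − is again a fibre square: R' ⊗_R A' → R' ⊗_R A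
is surjective and every pair of elements of R' ⊗_R B and R' ⊗_R A' with the same image in R' ⊗_R A
is the image of a unique element of R' ⊗_R B'. (The published lemma concludes that the base-changed
square of spectra is co-cartesian in ringed spaces; this row states the ring form, surjective edge
and fibre product, which its proof establishes before translating it to ringed spaces.) -/
theorem result (R B' B A' A : Type u) [CommRing R] [CommRing B'] [CommRing B] [CommRing A'] [CommRing A]
    [Algebra B' B] [Algebra B' A'] [Algebra B A] [Algebra A' A] [Algebra B' A]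
    [IsScalarTower B' B A] [IsScalarTower B' A' A]
    [Algebra R B'] [Algebra R B] [Algebra R A'] [Algebra R A]
    [IsScalarTower R B' B] [IsScalarTower R B' A'] [IsScalarTower R B' A] [IsScalarTower R B A] [IsScalarTower R A' A]
    (hsq : EtMil.IsFibreSquare B' B A' A)
    [Module.Flat R B] [Module.Flat R A'] [Module.Flat R A]
    (R' : Type u) [CommRing R'] [Algebra R R'] :
    Function.Surjective (Algebra.TensorProduct.map (AlgHom.id R R') (IsScalarTower.toAlgHom R A' A)) ∧
    ∀ (x : R' ⊗[R] B) (y : R' ⊗[R] A'),
      Algebra.TensorProduct.map (AlgHom.id R R') (IsScalarTower.toAlgHom R B A) x =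
        Algebra.TensorProduct.map (AlgHom.id R R') (IsScalarTower.toAlgHom R A' A) y →
      ∃! z : R' ⊗[R] B',
        Algebra.TensorProduct.map (AlgHom.id R R') (IsScalarTower.toAlgHom R B' B) z = x ∧
        Algebra.TensorProduct.map (AlgHom.id R R') (IsScalarTower.toAlgHom R B' A') z = y := by
  refine ⟨?_, fun x y h => ?_⟩
  · exact LinearMap.lTensor_surjective R' (g := (IsScalarTower.toAlgHom R A' A).toLinearMap) hsq.1
  have hi := LinearMap.lTensor_injective_of_exact_of_flat (PinchSqLib.diff R B A' A)
    (PinchSqLib.surjective_diff hsq) (PinchSqLib.toProd R B' B A') (PinchSqLib.injective_toProd hsq)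
    (PinchSqLib.exact_toProd_diff hsq) R'
  have hex := lTensor_exact R' (PinchSqLib.exact_toProd_diff (R := R) hsq) (PinchSqLib.surjective_diff hsq)
  let e := TensorProduct.prodRight R R R' B A'
  have key : ∀ t, e ((PinchSqLib.toProd R B' B A').lTensor R' t) =
      ((IsScalarTower.toAlgHom R B' B).toLinearMap.lTensor R' t,
        (IsScalarTower.toAlgHom R B' A').toLinearMap.lTensor R' t) := fun t => by
    induction t with
    | zero => simp <;> rfl
    | tmul r b => simp [e, PinchSqLib.toProd]
    | add a b ha hb => simp [map_add, ha, hb]
  have key2 : ∀ t, (PinchSqLib.diff R B A' A).lTensor R' t =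
      (IsScalarTower.toAlgHom R B A).toLinearMap.lTensor R' (e t).1 -
        (IsScalarTower.toAlgHom R A' A).toLinearMap.lTensor R' (e t).2 := fun t => by
    induction t with
    | zero => simp <;> rfl
    | tmul r b => simp [e, PinchSqLib.diff, TensorProduct.tmul_sub, ← sub_eq_add_neg]
    | add a b ha hb => simp [map_add, ha, hb]; abel
  have h0 : (PinchSqLib.diff R B A' A).lTensor R' (e.symm (x, y)) = 0 := by
    rw [key2, LinearEquiv.apply_symm_apply]
    exact sub_eq_zero.2 h
  obtain ⟨z, hz⟩ := (hex _).1 h0
  have hz' := (congrArg e hz).trans (LinearEquiv.apply_symm_apply e (x, y))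
  rw [key] at hz'
  refine ⟨z, ⟨congrArg Prod.fst hz', congrArg Prod.snd hz'⟩, fun w hw => hi (e.injective ?_)⟩
  rw [key, key]
  exact Prod.ext (hw.1.trans (congrArg Prod.fst hz').symm) (hw.2.trans (congrArg Prod.snd hz').symm)

end Groth.Agent.S17901
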