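import Groth.Statements.S17902
import Mathlib
import Groth.Prelude

set_option linter.all false

set_option autoImplicit false
universe u
open CAlg

open MvPowerSeries Finsupp

set_option backward.isDefEq.respectTransparency.types false

namespace Groth.Agent.S17902

section
variable {A : Type u} [CommRing A] {M : Type u} [AddCommGroup M] [Module A M] {n : ℕ}

noncomputable def phi (s : Fin n → M) : (Fin n → A) →ₗ[A] M := Fintype.linearCombination A s

def LocBasis (s : Fin n → M) (p : Ideal A) : Prop :=
  (∀ x, phi (A := A) s x = 0 → ∃ t ∉ p, ∀ j, t * x j = 0) ∧ (∀ m : M, ∃ t ∉ p, t • m ∈ LinearMap.range (phi (A := A) s))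

theorem basis_of_locBasis (s : Fin n → M) (p : Ideal A) [p.IsPrime] (h : LocBasis s p) :
    LinearIndependent (Localization.AtPrime p) (fun j => LocalizedModule.mkLinearMap p.primeCompl M (s j)) ∧
      Submodule.span (Localization.AtPrime p)
        (Set.range fun j => LocalizedModule.mkLinearMap p.primeCompl M (s j)) = ⊤ := by
  set f := LocalizedModule.mkLinearMap p.primeCompl M
  refine ⟨Fintype.linearIndependent_iff.2 fun c hc j => ?_, eq_top_iff.2 fun z _ => ?_⟩
  · obtain ⟨t, ht⟩ := IsLocalization.exist_integer_multiples_of_finite p.primeCompl c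
    choose a ha using ht
    have h1 : f (phi s a) = 0 := by
      have h2 : ∑ i, ((t : A) • c i) • f (s i) = 0 := by
        rw [← smul_zero (t : A), ← hc, Finset.smul_sum]
        exact Finset.sum_congr rfl fun i _ => smul_assoc _ _ _
      rw [phi, Fintype.linearCombination_apply, map_sum, ← h2]
      exact Finset.sum_congr rfl fun i _ => by rw [← ha, algebraMap_smul, map_smul]
    obtain ⟨u, hu⟩ := (IsLocalizedModule.eq_zero_iff p.primeCompl f).1 h1
    rw [Submonoid.smul_def, ← map_smul] at hu
    obtain ⟨w, hw, hw'⟩ := h.1 _ hu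
    have hz : algebraMap A (Localization.AtPrime p) (a j) = 0 :=
      (IsLocalization.map_eq_zero_iff p.primeCompl _ _).2 ⟨⟨w, hw⟩ * u, by
        simpa [mul_assoc] using hw' j⟩
    rw [ha, Algebra.smul_def] at hz
    exact (IsLocalization.map_units (Localization.AtPrime p) t).mul_right_eq_zero.1 hz
  · induction z using LocalizedModule.induction_on with
    | h m u =>
      obtain ⟨t, ht, x, hx⟩ := h.2 m
      have h1 : f (t • m) ∈ Submodule.span (Localization.AtPrime p) (Set.range fun j => f (s j)) := by
        rw [← hx, phi, Fintype.linearCombination_apply, map_sum]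
        refine Submodule.sum_mem _ fun i _ => ?_
        rw [map_smul, ← algebraMap_smul (Localization.AtPrime p) (x i)]
        exact Submodule.smul_mem _ _ (Submodule.subset_span ⟨i, rfl⟩)
      have e : LocalizedModule.mk m u = Localization.mk 1 (⟨t, ht⟩ * u) • f (t • m) := by
        show _ = _ • LocalizedModule.mk (t • m) 1
        rw [LocalizedModule.mk_smul_mk, one_smul, mul_one, LocalizedModule.mk_eq]
        exact ⟨1, by simp [Submonoid.smul_def, mul_comm, smul_smul]⟩
      rw [e]
      exact Submodule.smul_mem _ _ h1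

theorem locBasis_nhd [Module.Projective A M] [Module.Finite A M] (s : Fin n → M) (p : Ideal A) [p.IsPrime]
    (h : LocBasis s p) : ∃ g ∉ p, ∀ q : Ideal A, g ∉ q → LocBasis s q := by
  obtain ⟨S, hS⟩ := Module.Finite.fg_top (R := A) (M := M)
  choose t ht htm using fun m : M => h.2 m
  set g₁ := ∏ m ∈ S, t m with hg₁
  have hg₁p : g₁ ∉ p := p.primeCompl.prod_mem fun m _ => ht m
  have hr : ∀ m : M, g₁ • m ∈ LinearMap.range (phi (A := A) s) := by
    intro m
    have : (⊤ : Submodule A M) ≤ (LinearMap.range (phi (A := A) s)).comap (g₁ • LinearMap.id) := by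
      rw [← hS, Submodule.span_le]
      intro x hx
      obtain ⟨c, hc⟩ := Finset.dvd_prod_of_mem t hx
      show g₁ • x ∈ LinearMap.range (phi (A := A) s)
      rw [hg₁, hc, mul_comm, mul_smul]
      exact Submodule.smul_mem _ _ (htm x)
    exact this (Submodule.mem_top (x := m))
  obtain ⟨ψ, hψ⟩ := Module.projective_lifting_property (phi (A := A) s).rangeRestrict
    ((g₁ • LinearMap.id : M →ₗ[A] M).codRestrict _ hr) (LinearMap.surjective_rangeRestrict _)
  have hψ' : ∀ m, phi s (ψ m) = g₁ • m := fun m => congrArg Subtype.val (LinearMap.congr_fun hψ m)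
  set π : (Fin n → A) →ₗ[A] (Fin n → A) := g₁ • LinearMap.id - ψ ∘ₗ phi s with hπ
  have hπ0 : ∀ x, phi s (π x) = 0 := fun x => by simp [hπ, hψ']
  choose w hw hwx using fun j : Fin n => h.1 _ (hπ0 (Pi.single j 1))
  set g₂ := ∏ j, w j with hg₂
  have hg₂p : g₂ ∉ p := p.primeCompl.prod_mem fun j _ => hw j
  have hzero : g₂ • π = 0 := by
    refine LinearMap.pi_ext fun j x => ?_
    funext i
    obtain ⟨c, hc⟩ := Finset.dvd_prod_of_mem w (Finset.mem_univ j)
    have : Pi.single j x = x • (Pi.single j 1 : Fin n → A) := by rw [← Pi.single_smul, smul_eq_mul, mul_one]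
    rw [this, map_smul, LinearMap.smul_apply, LinearMap.zero_apply, Pi.smul_apply, Pi.smul_apply, smul_eq_mul,
      smul_eq_mul, hg₂, hc, mul_right_comm (w j), hwx j i]
    simp
  refine ⟨g₁ * g₂, fun h' => (‹p.IsPrime›.mem_or_mem h').elim hg₁p hg₂p, fun q hq => ⟨fun x hx => ⟨g₁ * g₂, hq, fun j => ?_⟩, fun m => ⟨g₁ * g₂, hq, ?_⟩⟩⟩
  · have h0 := congrFun (LinearMap.congr_fun hzero x) j
    simp only [hπ, LinearMap.smul_apply, LinearMap.sub_apply, LinearMap.comp_apply, hx, map_zero, sub_zero, LinearMap.id_apply,
      LinearMap.zero_apply, Pi.smul_apply, Pi.zero_apply, smul_eq_mul] at h0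
    rw [← h0]; ring
  · rw [mul_comm, mul_smul]
    exact Submodule.smul_mem _ _ (hr m)

theorem exists_locBasis (g : A) (b : Module.Basis (Fin n) (Localization.Away g) (LocalizedModule (Submonoid.powers g) M))
    (p : Ideal A) [p.IsPrime] (hg : g ∉ p) : ∃ m : Fin n → M, LocBasis m p := by
  set F := LocalizedModule.mkLinearMap (Submonoid.powers g) M
  have hp : ∀ u : Submonoid.powers g, (u : A) ∉ p := by
    rintro ⟨_, k, rfl⟩ h
    exact hg (‹p.IsPrime›.mem_of_pow_mem k h)
  choose mu hmu using fun j => IsLocalizedModule.surj (Submonoid.powers g) F (b j)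
  refine ⟨fun j => (mu j).1, fun x hx => ?_, fun m => ?_⟩
  · have h1 : ∑ j, (algebraMap A (Localization.Away g) (x j * ((mu j).2 : A))) • b j = 0 := by
      have h2 := congrArg F hx
      rw [phi, Fintype.linearCombination_apply, map_sum, map_zero] at h2
      rw [← h2]
      refine Finset.sum_congr rfl fun j _ => ?_
      rw [algebraMap_smul, map_smul, mul_smul, ← Submonoid.smul_def, hmu]
    choose u hu using fun j => (IsLocalization.map_eq_zero_iff (Submonoid.powers g) _ _).1
      (Fintype.linearIndependent_iff.1 b.linearIndependent _ h1 j)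
    refine ⟨∏ j, ((u j : A) * (mu j).2), p.primeCompl.prod_mem fun j _ =>
      p.primeCompl.mul_mem (hp _) (hp _), fun j => ?_⟩
    obtain ⟨c, hc⟩ := Finset.dvd_prod_of_mem (fun j => (u j : A) * (mu j).2) (Finset.mem_univ j)
    rw [hc]
    linear_combination c * hu j
  · obtain ⟨t, ht⟩ := IsLocalization.exist_integer_multiples_of_finite (Submonoid.powers g) fun j => b.repr (F m) j
    choose a ha using ht
    set U := ∏ j, ((mu j).2 : A) with hU
    have hdiv : ∀ j, ((mu j).2 : A) ∣ U := fun j => Finset.dvd_prod_of_mem _ (Finset.mem_univ j)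
    choose c hc using hdiv
    have h1 : F ((U * t) • m) = F (phi (fun j => (mu j).1) fun j => a j * c j) := by
      rw [phi, Fintype.linearCombination_apply, map_sum, map_smul]
      conv_lhs => rw [← b.sum_repr (F m), Finset.smul_sum]
      refine Finset.sum_congr rfl fun j _ => ?_
      rw [map_smul, ← hmu, Submonoid.smul_def, smul_smul, hc j,
        show a j * c j * ((mu j).2 : A) = (((mu j).2 : A) * c j) * a j by ring,
        mul_smul (((mu j).2 : A) * c j) (t : A), mul_smul (((mu j).2 : A) * c j) (a j),
        ← algebraMap_smul (Localization.Away g) (a j) (b j), ha, smul_assoc]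
    obtain ⟨u, hu⟩ := IsLocalizedModule.exists_of_eq (S := Submonoid.powers g) h1
    rw [Submonoid.smul_def, Submonoid.smul_def, smul_smul] at hu
    refine ⟨(u : A) * (U * t), fun h => ?_, _, (map_smul _ _ _).trans hu.symm⟩
    rcases ‹p.IsPrime›.mem_or_mem h with h | h
    · exact hp u h
    rcases ‹p.IsPrime›.mem_or_mem h with h | h
    · exact (p.primeCompl.prod_mem fun j _ => hp (mu j).2) h
    · exact hp t h

theorem locBasis_of_congr [Module.Finite A M] (m s : Fin n → M) (p : Ideal A) [p.IsPrime] (hm : LocBasis m p)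
    (e : A) (he : e ∉ p) (hs : ∀ j, s j - e • m j ∈ p • (⊤ : Submodule A M)) : LocBasis s p := by
  obtain ⟨hli, hsp⟩ := basis_of_locBasis m p hm
  set f := LocalizedModule.mkLinearMap p.primeCompl M with hf
  let β := Module.Basis.mk hli (le_of_eq hsp.symm)
  set L := Localization.AtPrime p
  have hmax : ∀ z ∈ p • (⊤ : Submodule A M), f z ∈ IsLocalRing.maximalIdeal L • (⊤ : Submodule L (LocalizedModule p.primeCompl M)) := by
    intro z hz
    refine Submodule.smul_induction_on hz (fun a ha x _ => ?_) (fun x y hx hy => by rw [map_add]; exact add_mem hx hy)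
    rw [map_smul, ← algebraMap_smul L a]
    refine Submodule.smul_mem_smul ?_ trivial
    exact (IsLocalization.AtPrime.to_map_mem_maximal_iff L p a).2 ha
  have hspan : Submodule.span L (Set.range fun j => f (s j)) = ⊤ := by
    refine eq_top_iff.2 ?_
    refine Submodule.le_of_le_smul_of_le_jacobson_bot Module.Finite.fg_top (IsLocalRing.jacobson_eq_maximalIdeal ⊥ bot_ne_top).ge ?_
    calc (⊤ : Submodule L (LocalizedModule p.primeCompl M)) = Submodule.span L (Set.range fun j => f (m j)) := hsp.symm
      _ ≤ _ := Submodule.span_le.2 (by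
        rintro _ ⟨j, rfl⟩
        obtain ⟨v, hv⟩ := (IsLocalization.map_units L (⟨e, he⟩ : p.primeCompl)).exists_left_inv
        have hmem : f (e • m j) ∈ Submodule.span L (Set.range fun j => f (s j)) ⊔ IsLocalRing.maximalIdeal L • ⊤ := by
          rw [show e • m j = s j - (s j - e • m j) by abel, map_sub]
          exact sub_mem (Submodule.mem_sup_left (Submodule.subset_span ⟨j, rfl⟩)) (Submodule.mem_sup_right (hmax _ (hs j)))
        have := Submodule.smul_mem _ v hmem
        rw [map_smul, ← algebraMap_smul L e, smul_smul, hv, one_smul] at this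
        exact this)
  have hsurj : Function.Surjective (β.equivFun.toLinearMap ∘ₗ Fintype.linearCombination L fun j => f (s j)) := by
    refine β.equivFun.surjective.comp ?_
    rw [← LinearMap.range_eq_top, Fintype.range_linearCombination, hspan]
  have hinj : Function.Injective (Fintype.linearCombination L fun j => f (s j)) :=
    Function.Injective.of_comp (f := β.equivFun) (OrzechProperty.injective_of_surjective_endomorphism _ hsurj)
  refine ⟨fun x hx => ?_, fun z => ?_⟩
  · have h0 : Fintype.linearCombination L (fun j => f (s j)) (fun j => algebraMap A L (x j)) = 0 := by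
      rw [Fintype.linearCombination_apply]
      have h2 := congrArg f hx
      rw [phi, Fintype.linearCombination_apply, map_sum, map_zero] at h2
      rw [← h2]
      exact Finset.sum_congr rfl fun j _ => by rw [algebraMap_smul, map_smul]
    have hx0 := hinj (h0.trans (map_zero _).symm)
    choose u hu using fun j => (IsLocalization.map_eq_zero_iff p.primeCompl L _).1 (congrFun hx0 j)
    refine ⟨∏ j, (u j : A), p.primeCompl.prod_mem fun j _ => (u j).2, fun j => ?_⟩
    obtain ⟨c, hc⟩ := Finset.dvd_prod_of_mem (fun j => (u j : A)) (Finset.mem_univ j)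
    rw [hc]
    linear_combination c * hu j
  · have hz : f z ∈ Submodule.span L (Set.range fun j => f (s j)) := hspan ▸ Submodule.mem_top
    obtain ⟨c, hc⟩ := Submodule.mem_span_range_iff_exists_fun L |>.1 hz
    obtain ⟨t, ht⟩ := IsLocalization.exist_integer_multiples_of_finite p.primeCompl c
    choose a ha using ht
    have h1 : f ((t : A) • z) = f (phi s a) := by
      rw [map_smul, ← hc, Finset.smul_sum, phi, Fintype.linearCombination_apply, map_sum]
      exact Finset.sum_congr rfl fun j _ => by rw [map_smul, ← algebraMap_smul L (a j), ha, smul_assoc]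
    obtain ⟨u, hu⟩ := IsLocalizedModule.exists_of_eq (S := p.primeCompl) h1
    rw [Submonoid.smul_def, Submonoid.smul_def, smul_smul] at hu
    exact ⟨(u : A) * t, p.primeCompl.mul_mem u.2 t.2, _, (map_smul _ _ _).trans hu.symm⟩

end

/-- Let A be a commutative ring, M a finitely generated projective A-module, n a natural number and P a
finite set of prime ideals of A such that for every p in P there is g outside p with M_g free of
rank n over A_g. Then there exist n elements of M and an open subset U of Spec A containing P such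
that for every prime q in U the images of these elements in M_q form a basis of M_q over A_q. (The
published conclusion is that the associated sheaf is free of rank n on some open neighbourhood of P;
the form given here, with n global elements of M, is what its proof produces.) -/
theorem result (A : Type u) [CommRing A] (M : Type u) [AddCommGroup M] [Module A M]
    [Module.Finite A M] [Module.Projective A M] (n : ℕ) (P : Finset (PrimeSpectrum A))
    (hP : ∀ p ∈ P, ∃ g : A, g ∉ p.asIdeal ∧
      Nonempty (Module.Basis (Fin n) (Localization.Away g) (LocalizedModule (Submonoid.powers g) M))) :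
    ∃ (s : Fin n → M) (U : Set (PrimeSpectrum A)), IsOpen U ∧ (∀ p ∈ P, p ∈ U) ∧
      ∀ q ∈ U,
        LinearIndependent (Localization.AtPrime q.asIdeal)
            (fun j => LocalizedModule.mkLinearMap q.asIdeal.primeCompl M (s j)) ∧
          Submodule.span (Localization.AtPrime q.asIdeal)
            (Set.range fun j => LocalizedModule.mkLinearMap q.asIdeal.primeCompl M (s j)) = ⊤ := by
  classical
  set Q := P.filter fun p => ∀ q ∈ P, p.asIdeal ≤ q.asIdeal → q = p with hQ
  have hmax : ∀ p ∈ P, ∃ q ∈ Q, p.asIdeal ≤ q.asIdeal := by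
    intro p hp
    obtain ⟨q, hpq, hq⟩ := P.exists_le_maximal hp
    refine ⟨q, Finset.mem_filter.2 ⟨hq.prop, fun r hr hqr => ?_⟩, hpq⟩
    exact le_antisymm (hq.le_of_ge hr hqr) hqr
  choose gp hgp hbp using hP
  choose m hm using fun p : Q => exists_locBasis (gp p.1 (Finset.filter_subset _ _ p.2))
    (hbp p.1 (Finset.filter_subset _ _ p.2)).some p.1.asIdeal (hgp p.1 (Finset.filter_subset _ _ p.2))
  have he : ∀ p : Q, ∃ e : A, e ∉ p.1.asIdeal ∧ ∀ q : Q, q ≠ p → e ∈ q.1.asIdeal := by
    intro p
    have hle : ¬ (Finset.univ.erase p).inf (fun q : Q => q.1.asIdeal) ≤ p.1.asIdeal := by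
      intro h
      obtain ⟨q, hq, hqp⟩ := (Ideal.IsPrime.inf_le' p.1.isPrime).1 h
      exact Finset.ne_of_mem_erase hq (Subtype.ext ((Finset.mem_filter.1 q.2).2 p.1 (Finset.filter_subset _ _ p.2) hqp).symm)
    obtain ⟨e, he, hep⟩ := SetLike.not_le_iff_exists.1 hle
    exact ⟨e, hep, fun q hq => Finset.inf_le (f := fun q : Q => q.1.asIdeal) (Finset.mem_erase.2 ⟨hq, Finset.mem_univ _⟩) he⟩
  choose e hep heq using he
  let s : Fin n → M := fun j => ∑ p : Q, e p • m p j
  have hs : ∀ p : Q, LocBasis s p.1.asIdeal := fun p =>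
    locBasis_of_congr (m p) s _ (hm p) (e p) (hep p) fun j => by
      show (∑ q : Q, e q • m q j) - e p • m p j ∈ _
      rw [← Finset.add_sum_erase _ _ (Finset.mem_univ p), add_sub_cancel_left]
      exact Submodule.sum_mem _ fun q hq => Submodule.smul_mem_smul (heq q p (Finset.ne_of_mem_erase hq).symm) trivial
  choose g hg hloc using fun p : Q => locBasis_nhd s p.1.asIdeal (hs p)
  refine ⟨s, ⋃ p : Q, (PrimeSpectrum.basicOpen (g p) : Set (PrimeSpectrum A)), isOpen_iUnion fun p => (PrimeSpectrum.basicOpen _).isOpen,
    fun p hp => ?_, fun q hq => ?_⟩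
  · obtain ⟨q, hq, hpq⟩ := hmax p hp
    exact Set.mem_iUnion.2 ⟨⟨q, hq⟩, fun h => hg ⟨q, hq⟩ (hpq h)⟩
  · obtain ⟨p, hp⟩ := Set.mem_iUnion.1 hq
    exact basis_of_locBasis s q.asIdeal (hloc p q.asIdeal hp)

end Groth.Agent.S17902
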