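import Groth.Statements.S17903
import Groth.Agent.FlatMorPush.RingedSpace

set_option autoImplicit false
universe u
open CategoryTheory AlgebraicGeometry
open Pinch

set_option backward.isDefEq.respectTransparency.types false

namespace Groth.Agent.S17903

/-- Let S be a scheme and Z → X, Z → Z', X → X', Z' → X' a commutative square of S-schemes in which Z →
X and Z' → X' are closed immersions and Z → Z' and X → X' are affine, and which is a pushout square
in the category of ringed spaces. If X, Z and Z' are flat over S then X' is flat over S. -/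
theorem result {S X Z Z' X' : Scheme.{u}}
    (fX : X ⟶ S) (fZ' : Z' ⟶ S) (fX' : X' ⟶ S) (ι : Z ⟶ X) (q : Z ⟶ Z') (π : X ⟶ X') (ι' : Z' ⟶ X')
    [IsClosedImmersion ι] [IsClosedImmersion ι'] [IsAffineHom q] [IsAffineHom π]
    (hq : q ≫ fZ' = ι ≫ fX) (hπ : π ≫ fX' = fX) (hι' : ι' ≫ fX' = fZ')
    (hpo : IsPushout ((Scheme.forgetToLocallyRingedSpace ⋙ LocallyRingedSpace.forgetToSheafedSpace).map ι) ((Scheme.forgetToLocallyRingedSpace ⋙ LocallyRingedSpace.forgetToSheafedSpace).map q)
      ((Scheme.forgetToLocallyRingedSpace ⋙ LocallyRingedSpace.forgetToSheafedSpace).map π) ((Scheme.forgetToLocallyRingedSpace ⋙ LocallyRingedSpace.forgetToSheafedSpace).map ι'))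
    [Flat fX] [Flat (ι ≫ fX)] [Flat fZ'] :
    Flat fX' := by
  have w : ι ≫ π = q ≫ ι' := FlatMorPush.fRS.map_injective (by
    rw [FlatMorPush.fRS.map_comp, FlatMorPush.fRS.map_comp]; exact hpo.w)
  have : FlatMorPush.HasPairs ι q := FlatMorPush.hasPairs_of_square w
  have hP := FlatMorPush.isPushout_of_ringedSpace hpo
  have : Flat (π ≫ fX') := hπ ▸ ‹Flat fX›
  have : Flat (ι' ≫ fX') := hι' ▸ ‹Flat fZ'›
  have : Flat (ι ≫ π ≫ fX') := by rw [hπ]; infer_instance
  exact FlatMorPush.flat_of_isPushout hP fX'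

end Groth.Agent.S17903
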