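import Groth.Statements.S17905
import Groth.Agent.FlatMorPush.RingedBaseChange

set_option autoImplicit false
universe u
open CategoryTheory AlgebraicGeometry
open Pinch

set_option backward.isDefEq.respectTransparency.types false

namespace Groth.Agent.S17905

/-- Let S be a scheme and Z → X, Z → Z', X → X', Z' → X' a commutative square of S-schemes which is a
pushout square in the category of ringed spaces, with Z → X and Z' → X' closed immersions, X → X'
affine, Z → Z' finite, flat and surjective, and X, Z, Z' flat over S. Suppose that for every T → S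
the map O_T → (f_T)_* O_{X_T} induced by the base change f_T : X_T → T of X → S is an isomorphism.
Then for every T → S the map O_T → (f'_T)_* O_{X'_T} induced by the base change of X' → S is an
isomorphism. (The published lemma is stated for the pinching of a finite surjective Z → Z' whose
fibres lie in affine opens of X, with X → S admitting a section; this row assumes X → X' only affine
and drops the affine-fibre and section conditions, which the printed proof does not use.) -/
theorem result {S X Z Z' X' : Scheme.{u}}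
    (fX : X ⟶ S) (fZ' : Z' ⟶ S) (fX' : X' ⟶ S) (ι : Z ⟶ X) (q : Z ⟶ Z') (π : X ⟶ X') (ι' : Z' ⟶ X')
    [IsClosedImmersion ι] [IsClosedImmersion ι'] [IsFinite q] [Flat q] [Surjective q] [IsAffineHom π]
    (hq : q ≫ fZ' = ι ≫ fX) (hπ : π ≫ fX' = fX) (hι' : ι' ≫ fX' = fZ')
    (hpo : IsPushout ((Scheme.forgetToLocallyRingedSpace ⋙ LocallyRingedSpace.forgetToSheafedSpace).map ι) ((Scheme.forgetToLocallyRingedSpace ⋙ LocallyRingedSpace.forgetToSheafedSpace).map q)
      ((Scheme.forgetToLocallyRingedSpace ⋙ LocallyRingedSpace.forgetToSheafedSpace).map π) ((Scheme.forgetToLocallyRingedSpace ⋙ LocallyRingedSpace.forgetToSheafedSpace).map ι'))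
    [Flat fX] [Flat (ι ≫ fX)] [Flat fZ']
    (hX : ∀ (T : Scheme.{u}) (g : T ⟶ S) (U : T.Opens), IsIso ((Limits.pullback.snd fX g).app U))
    (T : Scheme.{u}) (g : T ⟶ S) (U : T.Opens) :
    IsIso ((Limits.pullback.snd fX' g).app U) := by
  have w : ι ≫ π = q ≫ ι' := FlatMorPush.fRS.map_injective (by
    rw [FlatMorPush.fRS.map_comp, FlatMorPush.fRS.map_comp]; exact hpo.w)
  have : FlatMorPush.HasPairs ι q := FlatMorPush.hasPairs_of_square w
  have hP := FlatMorPush.isPushout_of_ringedSpace hpo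
  have h := FlatMorPush.isPushout_over_pullback fX fZ' fX' ι q π ι' hq hπ hι' g hP
  set i₀ := ((Over.pullback g).map (Over.homMk ι rfl : Over.mk (ι ≫ fX) ⟶ Over.mk fX)).left
  set j₀ := ((Over.pullback g).map (Over.homMk q hq : Over.mk (ι ≫ fX) ⟶ Over.mk fZ')).left
  set a₀ := ((Over.pullback g).map (Over.homMk π hπ : Over.mk fX ⟶ Over.mk fX')).left
  set b₀ := ((Over.pullback g).map (Over.homMk ι' hι' : Over.mk fZ' ⟶ Over.mk fX')).left
  have : IsClosedImmersion i₀ :=
    MorphismProperty.of_isPullback (FlatMorPush.isPullback_over_map ι rfl g) ‹IsClosedImmersion ι›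
  have : IsClosedImmersion b₀ :=
    MorphismProperty.of_isPullback (FlatMorPush.isPullback_over_map ι' hι' g) ‹IsClosedImmersion ι'›
  have : IsAffineHom a₀ :=
    MorphismProperty.of_isPullback (FlatMorPush.isPullback_over_map π hπ g) ‹IsAffineHom π›
  have : IsAffineHom j₀ :=
    MorphismProperty.of_isPullback (FlatMorPush.isPullback_over_map q hq g) inferInstance
  have : Flat j₀ :=
    MorphismProperty.of_isPullback (FlatMorPush.isPullback_over_map q hq g) ‹Flat q›
  have : Surjective j₀ :=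
    MorphismProperty.of_isPullback (FlatMorPush.isPullback_over_map q hq g) ‹Surjective q›
  have := FlatMorPush.hasPairs_of_square h.w
  let p := Limits.pullback.snd fX' g
  have ha : a₀ ≫ p = Limits.pullback.snd fX g := Limits.pullback.lift_snd _ _ _
  let W := p ⁻¹ᵁ U
  -- the structure map, seen on `X_T`
  have hiso : IsIso (p.app U ≫ a₀.app W) := by
    have := hX T g U
    rw [← ha, Scheme.Hom.comp_app] at this
    exact this
  let ψ := a₀.app W ≫ inv (p.app U ≫ a₀.app W)
  refine ⟨ψ, ?_, ?_⟩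
  · exact (Category.assoc _ _ _).symm.trans (IsIso.hom_inv_id _)
  have hA : (ψ ≫ p.app U) ≫ a₀.app W = 𝟙 _ ≫ a₀.app W := by
    simp only [ψ, Category.assoc, IsIso.inv_hom_id, Category.comp_id, Category.id_comp]
  refine FlatMorPush.hom_ext_sections h W hA ?_
  have hle : i₀ ⁻¹ᵁ (a₀ ⁻¹ᵁ W) = j₀ ⁻¹ᵁ (b₀ ⁻¹ᵁ W) := by
    rw [← Scheme.Hom.comp_preimage, h.w, Scheme.Hom.comp_preimage]
  have hcomm : a₀.app W ≫ i₀.appLE (a₀ ⁻¹ᵁ W) (j₀ ⁻¹ᵁ (b₀ ⁻¹ᵁ W)) hle.ge =
      b₀.app W ≫ j₀.app (b₀ ⁻¹ᵁ W) := by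
    rw [← Scheme.Hom.appLE_eq_app, ← Scheme.Hom.appLE_eq_app, ← Scheme.Hom.appLE_eq_app,
      Scheme.Hom.appLE_comp_appLE, Scheme.Hom.appLE_comp_appLE]
    congr 1
    exact h.w
  have hj : ∀ {R : CommRingCat.{u}} {φ φ' : R ⟶ Γ(_, b₀ ⁻¹ᵁ W)},
      φ ≫ j₀.app _ = φ' ≫ j₀.app _ → φ = φ' := by
    intro R φ φ' he
    have : Flat (j₀ ∣_ (b₀ ⁻¹ᵁ W)) := IsZariskiLocalAtTarget.restrict ‹Flat j₀› _
    have : Surjective (j₀ ∣_ (b₀ ⁻¹ᵁ W)) := IsZariskiLocalAtTarget.restrict ‹Surjective j₀› _
    have := Flat.epi_of_flat_of_surjective (j₀ ∣_ (b₀ ⁻¹ᵁ W))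
    rw [← cancel_mono (b₀ ⁻¹ᵁ W).topIso.inv]
    refine FlatMorPush.toSpecΓ_comp_injective _ ((cancel_epi (j₀ ∣_ (b₀ ⁻¹ᵁ W))).mp ?_)
    simp only [← Scheme.Hom.resLE_eq_morphismRestrict]
    simp only [← Category.assoc, Scheme.toSpecΓ_naturality]
    simp only [Category.assoc, ← Spec.map_comp]
    congr 2
    simp only [Category.assoc, Scheme.Hom.appTop, Scheme.Hom.resLE_app_top,
      Scheme.Hom.appLE_eq_app, Iso.inv_hom_id_assoc]
    rw [reassoc_of% he]
  refine hj ?_
  exact (Category.assoc _ _ _).trans ((congrArg ((ψ ≫ p.app U) ≫ ·) hcomm.symm).trans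
    ((Category.assoc _ _ _).symm.trans ((congrArg (· ≫ _) hA).trans ((Category.assoc _ _ _).trans
      ((congrArg (𝟙 _ ≫ ·) hcomm).trans (Category.assoc _ _ _).symm)))))

end Groth.Agent.S17905
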