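import Groth.Statements.S17907
import Groth.Agent.PinchSqLib.Glue
-- import your own Groth.Agent.* helpers here

set_option autoImplicit false
set_option backward.isDefEq.respectTransparency.types false
universe u
open CategoryTheory AlgebraicGeometry
open Pinch

namespace Groth.Agent.S17907

/-- Let Z → X be a closed immersion and Z → Z' a finite surjective morphism such that every fibre of Z →
Z' lies in an affine open of X; let X → X', Z' → X' complete a commutative square of schemes which
is a pushout square in the category of ringed spaces, with Z' → X' a closed immersion, X → X' finite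
and an isomorphism over the open complement of the image of Z'. Given locally free modules L_X on X
and L_{Z'} on Z' of the same rank n and an isomorphism σ from the pullback of L_X to Z onto the
pullback of L_{Z'} to Z, there are a locally free module M of rank n on X', an isomorphism e_X from
the pullback of M to X onto L_X and an isomorphism e_{Z'} from the pullback of M to Z' onto L_{Z'},
compatible with σ: the canonical isomorphism between the two iterated pullbacks of M to Z (through X
and through Z') followed by the pullback of e_{Z'} to Z equals the pullback of e_X to Z followed by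
σ. (The published result is an equivalence of categories between locally free modules of rank n on
X' and such triples (L_X, L_{Z'}, σ); stated here is the essential surjectivity of the functor
towards triples, not its full faithfulness. Finiteness of X → X' and the isomorphism away from Z'
are part of the pinching construction and are taken as hypotheses.) -/
theorem result {X Z Z' X' : Scheme.{u}}
    (ι : Z ⟶ X) (q : Z ⟶ Z') (π : X ⟶ X') (ι' : Z' ⟶ X')
    [IsClosedImmersion ι] [IsClosedImmersion ι'] [IsFinite q] [Surjective q] [IsFinite π]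
    (hw : ι ≫ π = q ≫ ι')
    (hpo : IsPushout ((Scheme.forgetToLocallyRingedSpace ⋙ LocallyRingedSpace.forgetToSheafedSpace).map ι) ((Scheme.forgetToLocallyRingedSpace ⋙ LocallyRingedSpace.forgetToSheafedSpace).map q)
      ((Scheme.forgetToLocallyRingedSpace ⋙ LocallyRingedSpace.forgetToSheafedSpace).map π) ((Scheme.forgetToLocallyRingedSpace ⋙ LocallyRingedSpace.forgetToSheafedSpace).map ι'))
    (hAF : ∀ z' : Z', ∃ U : X.Opens, IsAffineOpen U ∧ ∀ z : Z, q.base z = z' → ι.base z ∈ U)
    (U : X'.Opens) (hU : (U : Set X') = (Set.range ι'.base)ᶜ) (hiso : IsIso (π ∣_ U))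
    (n : ℕ) (LX : X.Modules) (LZ' : Z'.Modules)
    (hLX : FlatMod.IsFinLocFreeOfRank n LX) (hLZ' : FlatMod.IsFinLocFreeOfRank n LZ')
    (σ : (Scheme.Modules.pullback ι).obj LX ≅ (Scheme.Modules.pullback q).obj LZ') :
    ∃ (M : X'.Modules) (eX : (Scheme.Modules.pullback π).obj M ≅ LX)
      (eZ' : (Scheme.Modules.pullback ι').obj M ≅ LZ'),
      FlatMod.IsFinLocFreeOfRank n M ∧
      (Scheme.Modules.pullbackComp ι π).app M ≪≫ (Scheme.Modules.pullbackCongr hw).app M ≪≫
          ((Scheme.Modules.pullbackComp q ι').app M).symm ≪≫ (Scheme.Modules.pullback q).mapIso eZ' =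
        (Scheme.Modules.pullback ι).mapIso eX ≪≫ σ := by
  classical
  have hrange : ∀ x z', π.base x = ι'.base z' → ∃ z, ι.base z = x := fun x z' hx => by
    let F := SheafedSpace.forget CommRingCat.{u} ⋙ forget TopCat.{u}
    have hT := hpo.map F
    let u₀ : X → ULift.{u} Prop := fun y => ⟨y ∈ Set.range ι.base⟩
    let v₀ : Z' → ULift.{u} Prop := fun _ => ⟨True⟩
    obtain ⟨m, hm₁, hm₂⟩ : ∃ m : X' → ULift.{u} Prop, (∀ y, m (π.base y) = u₀ y) ∧ ∀ y, m (ι'.base y) = v₀ y := by
      refine ⟨hT.desc (↾u₀) (↾v₀) ?_, fun y => ConcreteCategory.congr_hom (hT.inl_desc (↾u₀) (↾v₀) _) y,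
        fun y => ConcreteCategory.congr_hom (hT.inr_desc (↾u₀) (↾v₀) _) y⟩
      ext z
      exact ⟨fun _ => trivial, fun _ => ⟨z, rfl⟩⟩
    have h := congrArg ULift.down ((hm₁ x).symm.trans ((congrArg m hx).trans (hm₂ z')))
    exact (show (x ∈ Set.range ι.base) = True from h).mpr trivial
  choose W s e hW hs he hag using fun x' =>
    PinchSqLib.Glue.exists_compat_bases hw hrange hAF U hU hiso hLX hLZ' σ x'
  choose m hmX hmZ using fun x' i => PinchSqLib.Glue.exists_of_agree hw σ (W x') (s x' i) (e x' i) (hag x' i)
  have hm : ∀ x', PicLib.IsBasisOn (PinchSqLib.Glue.mdl hw σ) (W x') (m x') := fun x' =>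
    PinchSqLib.Glue.isBasisOn_glue hw σ hpo (by simpa only [hmX] using hs x') (by simpa only [hmZ] using he x')
  haveI : IsIso (PinchSqLib.Glue.toX hw σ) := PinchSqLib.Glue.isIso_of_bases π _ W hW m hm fun x' => by
    have h : (fun i => (PinchSqLib.Glue.toX hw σ).app _ (PicLib.pullSec π (m x' i))) = s x' := funext fun i =>
      (PicLib.homEquiv_symm_app_pullSec π _ _).trans (hmX x' i)
    rw [h]; exact hs x'
  haveI : IsIso (PinchSqLib.Glue.toZ' hw σ) := PinchSqLib.Glue.isIso_of_bases ι' _ W hW m hm fun x' => by
    have h : (fun i => (PinchSqLib.Glue.toZ' hw σ).app _ (PicLib.pullSec ι' (m x' i))) = e x' := funext fun i =>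
      (PicLib.homEquiv_symm_app_pullSec ι' _ _).trans (hmZ x' i)
    rw [h]; exact he x'
  refine ⟨PinchSqLib.Glue.mdl hw σ, asIso (PinchSqLib.Glue.toX hw σ), asIso (PinchSqLib.Glue.toZ' hw σ),
    fun x' => ⟨W x', hW x', PinchSqLib.Glue.nonempty_restrict_iso (hm x')⟩, ?_⟩
  ext1
  simpa using PinchSqLib.Glue.compat hw σ

end Groth.Agent.S17907
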