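import Groth.Statements.S17913
import Groth.Agent.Stk19b.ConjEndo

set_option autoImplicit false
universe u
open CategoryTheory AlgebraicGeometry
open Gerb

set_option backward.isDefEq.respectTransparency.types false
set_option backward.isDefEq.respectTransparency false

namespace Groth.Agent.S17913
open FibCat Groth.Agent.Desc19 Groth.Agent.Stk19


/-- Let S be a scheme, 𝒳 and 𝒴 gerbes over the big fppf site of schemes over S, φ : 𝒳 → 𝒴 and ψ : 𝒴 → 𝒳
functors over Sch_S, and x an object of 𝒳 over S itself such that φ is surjective on automorphism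
groups along x: for every object x' of 𝒳 admitting a morphism to x (every pullback of x), every
automorphism of φ(x') over the identity is φ(α) for some automorphism α of x' over the identity. Let
g : ψ(φ(x)) → x be an isomorphism lying over the identity such that conjugation by g after ψ ∘ φ is
the identity of the automorphism sheaf of x: whenever c : x' → x is a morphism of 𝒳 and g' :
ψ(φ(x')) → x' is the morphism over the identity with ψ(φ(c)) ≫ g = g' ≫ c, every automorphism α of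
x' over the identity satisfies ψ(φ(α)) ≫ g' = g' ≫ α. Then φ ∘ ψ is isomorphic to the identity on
every fibre of 𝒴: there are isomorphisms σ_z : φ(ψ(z)) → z for all objects z of 𝒴, lying over
identities and natural in morphisms lying over identities, so that φ and ψ are mutually
quasi-inverse on every fibre. (The published corollary does not assume that φ is surjective on
automorphism groups; its proof uses that φ is full, and without that hypothesis the conclusion fails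
— take for 𝒳 the base category over itself, for 𝒴 the gerbe of torsors under the group of order two,
for φ the trivial torsor and for ψ the structure functor. The published corollary also concludes
that ψ ∘ φ is isomorphic to the identity on every fibre of 𝒳; that part follows from the hypotheses
on g alone and is stated separately.) -/
theorem result (S : Scheme.{u}) (𝒳 𝒴 : AlgSt.Cat S)
    (h𝒳 : Gerb.IsGerbe (QuotSh.J Scheme.fppfPrecoverage S) 𝒳)
    (h𝒴 : Gerb.IsGerbe (QuotSh.J Scheme.fppfPrecoverage S) 𝒴)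
    (φ : 𝒳 ⥤ᵇ 𝒴) (ψ : 𝒴 ⥤ᵇ 𝒳) (x : 𝒳.obj) (hx : 𝒳.p.obj x = Over.mk (𝟙 S))
    (hφ : ∀ (x' : 𝒳.obj) (c : x' ⟶ x), Function.Surjective (Gerb.autMap φ x'))
    (g : ψ.obj (φ.obj x) ⟶ x) [IsIso g] (hg : 𝒳.p.IsHomLift (𝟙 (𝒳.p.obj x)) g)
    (hconj : ∀ (x' : 𝒳.obj) (c : x' ⟶ x) (g' : ψ.obj (φ.obj x') ⟶ x'), 𝒳.p.IsHomLift (𝟙 (𝒳.p.obj x')) g' →
      ψ.map (φ.map c) ≫ g = g' ≫ c → ∀ α : Gerb.AutO x', ψ.map (φ.map α.hom.1) ≫ g' = g' ≫ α.hom.1) :
    ∃ σ : ∀ z : 𝒴.obj, φ.obj (ψ.obj z) ⟶ z,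
      (∀ z, IsIso (σ z) ∧ 𝒴.p.IsHomLift (𝟙 (𝒴.p.obj z)) (σ z)) ∧
      (∀ (z z' : 𝒴.obj) (f : z ⟶ z'), 𝒴.p.IsHomLift (𝟙 (𝒴.p.obj z)) f →
        φ.map (ψ.map f) ≫ σ z' = σ z ≫ f) := by
  have h := h𝒳.1.1
  have h' := h𝒴.1.1
  have hy : 𝒴.p.obj (φ.obj x) = Over.mk (𝟙 S) := (φ.w_obj x).trans hx
  have uniqX : ∀ {U : Over S} (f f' : U ⟶ 𝒳.p.obj x), f = f' := fun {U} f f' => by
    rw [← cancel_mono (eqToHom hx)]
    exact Over.OverMorphism.ext (by
      have e1 := Over.w (f ≫ eqToHom hx)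
      have e2 := Over.w (f' ≫ eqToHom hx)
      simp only [Over.mk_hom, Category.comp_id] at e1 e2
      exact e1.trans e2.symm)
  have uniqY : ∀ {U : Over S} (f f' : U ⟶ 𝒴.p.obj (φ.obj x)), f = f' := fun {U} f f' => by
    rw [← cancel_mono (eqToHom (φ.w_obj x))]
    exact uniqX _ _
  refine Groth.Agent.Stk19b.exists_natural_iso_id h𝒴 (ψ.comp φ) (φ.obj x)
    (fun U => ⟨Over.homMk U.hom (by simp) ≫ eqToHom hy.symm⟩) uniqY (φ.map g) ?_
  intro y c g' hg' hgc α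
  obtain ⟨x', c₀, ex, hc₀⟩ := fibGrpd_lift h x (𝒴.p.map c ≫ eqToHom (φ.w_obj x))
  have eu : 𝒴.p.obj y = 𝒴.p.obj (φ.obj x') := ((φ.w_obj x').trans ex).symm
  obtain ⟨u, ⟨hu, huc⟩, -⟩ := fibGrpd_fac h' (φ.map c₀) c (eqToHom eu) (uniqY _ _)
  obtain ⟨gx, ⟨hgx, hgxc⟩, -⟩ := fibGrpd_fac h c₀ (ψ.map (φ.map c₀) ≫ g)
    (eqToHom ((ψ.w_obj (φ.obj x')).trans (φ.w_obj x'))) (uniqX _ _)
  have vgx : 𝒳.p.IsHomLift (𝟙 (𝒳.p.obj x')) gx :=
    (vert_iff _ _).2 ⟨(ψ.w_obj (φ.obj x')).trans (φ.w_obj x'), _, hgx⟩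
  have : IsIso (𝒴.p.map u) := by rw [hu]; infer_instance
  have hui : IsIso u := fibGrpd_isIso h' u
  have hα : 𝒴.p.map α.hom.1 = 𝟙 _ := by
    have := α.hom.2
    simpa using IsHomLift.fac' 𝒴.p (𝟙 (𝒴.p.obj y)) α.hom.1
  let β : φ.obj x' ⟶ φ.obj x' := inv u ≫ α.hom.1 ≫ u
  have vβ : 𝒴.p.IsHomLift (𝟙 (𝒴.p.obj (φ.obj x'))) β := (vert_iff _ _).2 ⟨rfl, rfl, by
    simp only [β, 𝒴.p.map_comp, Functor.map_inv, hα, hu]
    simp⟩
  let βf : Gerb.fib (φ.obj x') ⟶ Gerb.fib (φ.obj x') := ⟨β, vβ⟩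
  have : IsIso βf := (fibGrpd_iff.1 h').2 _ |>.all_isIso βf
  obtain ⟨α₀, hα₀⟩ := hφ x' c₀ (asIso βf)
  have eβ : φ.map α₀.hom.1 = inv u ≫ α.hom.1 ≫ u := congrArg (fun a : Gerb.AutO (φ.obj x') => a.hom.1) hα₀
  have key := hconj x' c₀ gx vgx hgxc.symm α₀
  have hg'eq : g' = φ.map (ψ.map u) ≫ φ.map gx ≫ inv u := by
    refine fibGrpd_ext h' c ?_ ?_
    · rw [map_eq_of_vert 𝒴.p (R := 𝒴.p.obj y) g', 𝒴.p.map_comp, 𝒴.p.map_comp, based_map φ, based_map φ,
        based_map ψ, Functor.map_inv, hgx]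
      simp [hu]
    · rw [← hgc]
      change φ.map (ψ.map c) ≫ φ.map g = _
      have e3 : inv u ≫ c = φ.map c₀ := by rw [IsIso.inv_comp_eq, huc]
      simp only [Category.assoc, e3]
      rw [← φ.toFunctor.map_comp, ← φ.toFunctor.map_comp, ← φ.toFunctor.map_comp, hgxc,
        ← ψ.toFunctor.map_comp_assoc, huc]
  change φ.map (ψ.map α.hom.1) ≫ g' = g' ≫ α.hom.1
  have e4 : α.hom.1 ≫ u = u ≫ φ.map α₀.hom.1 := by rw [eβ, IsIso.hom_inv_id_assoc]
  have e5 : φ.map α₀.hom.1 ≫ inv u = inv u ≫ α.hom.1 := by simp [eβ]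
  rw [hg'eq]
  simp only [Category.assoc]
  rw [← φ.toFunctor.map_comp_assoc, ← φ.toFunctor.map_comp_assoc, ← e5, ← φ.toFunctor.map_comp_assoc,
    ← φ.toFunctor.map_comp_assoc, ← ψ.toFunctor.map_comp, e4, ψ.toFunctor.map_comp, Category.assoc, key,
    ← Category.assoc]

end Groth.Agent.S17913
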