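import Groth.Statements.S17916
import Groth.Agent.RefCh22.Defect
import Groth.Agent.S3233

set_option autoImplicit false
universe u
open CategoryTheory CategoryTheory.Limits AlgebraicGeometry
open RefCh

namespace Groth.Agent.S17916

open Groth.Agent.RefCh22

set_option linter.style.haveILetI false


/-- Let k be an algebraically closed field, X an integral normal scheme of dimension s + 2 admitting a
closed immersion into some P^N_k over k, and L_1, …, L_s invertible O_X-modules with inverses M_1,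
…, M_s. For a coherent reflexive rank one O_X-module ℱ (that is, ℱ = O_X(D) for a Weil divisor D)
write q(ℱ) = D^2 · L_1 ⋯ L_s for the limit of 2 χ(c_1(L_1) ⋯ c_1(L_s) · [ℱ^[m]]) / m^2, where ℱ^[m]
is the m-th reflexive power and the Euler characteristic of the product is the alternating sum
FGA.intNum in the M_i; write ℱ ⊗̂ 𝒢 for the reflexive hull of ℱ ⊗ 𝒢 (so O_X(D) ⊗̂ O_X(D') = O_X(D +
D')). Let ℒ_1, ℒ_2, ℒ_3 be coherent reflexive of rank one and suppose the seven limits q(ℒ_1),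
q(ℒ_2), q(ℒ_3), q(ℒ_1 ⊗̂ ℒ_2), q(ℒ_1 ⊗̂ ℒ_3), q(ℒ_2 ⊗̂ ℒ_3), q((ℒ_1 ⊗̂ ℒ_2) ⊗̂ ℒ_3) exist. Then
q((ℒ_1 ⊗̂ ℒ_2) ⊗̂ ℒ_3) - q(ℒ_1 ⊗̂ ℒ_2) - q(ℒ_1 ⊗̂ ℒ_3) - q(ℒ_2 ⊗̂ ℒ_3) + q(ℒ_1) + q(ℒ_2) + q(ℒ_3) =
0: the symmetric pairing D_1 · D_2 · L_1 ⋯ L_s := (q(O_X(D_1 + D_2)) - q(O_X(D_1)) - q(O_X(D_2))) /
2 is additive, hence ℤ-linear, in each Weil divisor. (The published text normalises D^2 · L_1 ⋯ L_s
as twice the limit of χ(c_1(L_1) ⋯ c_1(L_s) · ([O_X] - [O_X(-mD)])) / m^2, which is the negative of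
the number used here: for a line D on the projective plane χ(O) - χ(O(-m)) = -m^2/2 + O(m).
Additivity holds for either sign.) -/
theorem result (k : Type u) [Field k] [IsAlgClosed k] (X : Scheme.{u}) [X.Over (Spec (CommRingCat.of k))]
    [AlgebraicGeometry.IsIntegral X] (hnorm : Pi1.IsNormalScheme X) (s : ℕ) (hdim : topologicalKrullDim X = (s + 2 : ℕ))
    (hproj : ∃ (N : ℕ) (ι : X ⟶ CohB1.ProjSpace N k), IsClosedImmersion ι ∧ ι ≫ CohB1.ProjSpace.toSpec N k = X ↘ Spec (CommRingCat.of k))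
    (L M : Fin s → X.Modules) (hL : ∀ i, PicF.IsInvertible (L i))
    (hLM : ∀ i, Nonempty (CohB1.tensorMod (L i) (M i) ≅ Coh.structureModule X))
    (ℒ₁ ℒ₂ ℒ₃ : X.Modules) (h₁ : RefHull.IsRef1 ℒ₁) (h₂ : RefHull.IsRef1 ℒ₂) (h₃ : RefHull.IsRef1 ℒ₃)
    (q₁ q₂ q₃ q₁₂ q₁₃ q₂₃ q₁₂₃ : ℝ)
    (hq₁ : Filter.Tendsto (fun m : ℕ => (2 : ℝ) * (FGA.intNum k X (s + 2) M (RefPow.refPow ℒ₁ m) : ℝ) / ((m : ℝ) ^ 2)) Filter.atTop (nhds q₁))
    (hq₂ : Filter.Tendsto (fun m : ℕ => (2 : ℝ) * (FGA.intNum k X (s + 2) M (RefPow.refPow ℒ₂ m) : ℝ) / ((m : ℝ) ^ 2)) Filter.atTop (nhds q₂))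
    (hq₃ : Filter.Tendsto (fun m : ℕ => (2 : ℝ) * (FGA.intNum k X (s + 2) M (RefPow.refPow ℒ₃ m) : ℝ) / ((m : ℝ) ^ 2)) Filter.atTop (nhds q₃))
    (hq₁₂ : Filter.Tendsto (fun m : ℕ => (2 : ℝ) * (FGA.intNum k X (s + 2) M (RefPow.refPow (RefPow.refTensor ℒ₁ ℒ₂) m) : ℝ) / ((m : ℝ) ^ 2)) Filter.atTop (nhds q₁₂))
    (hq₁₃ : Filter.Tendsto (fun m : ℕ => (2 : ℝ) * (FGA.intNum k X (s + 2) M (RefPow.refPow (RefPow.refTensor ℒ₁ ℒ₃) m) : ℝ) / ((m : ℝ) ^ 2)) Filter.atTop (nhds q₁₃))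
    (hq₂₃ : Filter.Tendsto (fun m : ℕ => (2 : ℝ) * (FGA.intNum k X (s + 2) M (RefPow.refPow (RefPow.refTensor ℒ₂ ℒ₃) m) : ℝ) / ((m : ℝ) ^ 2)) Filter.atTop (nhds q₂₃))
    (hq₁₂₃ : Filter.Tendsto (fun m : ℕ => (2 : ℝ) * (FGA.intNum k X (s + 2) M (RefPow.refPow (RefPow.refTensor (RefPow.refTensor ℒ₁ ℒ₂) ℒ₃) m) : ℝ) / ((m : ℝ) ^ 2)) Filter.atTop (nhds q₁₂₃)) :
    q₁₂₃ - q₁₂ - q₁₃ - q₂₃ + q₁ + q₂ + q₃ = 0 := by
  obtain ⟨N, ι, hι, hιp⟩ := hproj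
  haveI := hι
  haveI : IsProper (X ↘ Spec (CommRingCat.of k)) := by
    rw [← hιp]
    haveI := Groth.Agent.Coherent.isProper_projSpace_toSpec N k
    infer_instance
  haveI : IsLocallyNoetherian X := LocallyOfFiniteType.isLocallyNoetherian (X ↘ Spec (CommRingCat.of k))
  haveI : CompactSpace X := QuasiCompact.compactSpace_of_compactSpace (X ↘ Spec (CommRingCat.of k))
  let f := X ↘ Spec (CommRingCat.of k)
  let δ : X → ℤ := fun x => (DimLib.ptDim f x : ℤ)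
  have hcompat : Cyc.DeltaCompat f δ (fun _ => 0) := CycLib28.deltaCompat_ptDim_base f
  have hδ : Cyc.IsSetup X δ := CycLib28.PB.isSetup_of_deltaCompat f (CycLib28.isSetup_specField k) hcompat
  let d : ℤ := ((s + 2 : ℕ) : ℤ)
  have hη : δ (genericPoint X) = d := by
    have h1 := CycLib28.InterSheaf.dim_space f hδ hcompat
    rw [hdim] at h1
    have h2 : (δ (genericPoint X)).toNat = s + 2 := by exact_mod_cast h1.symm
    show δ (genericPoint X) = ((s + 2 : ℕ) : ℤ)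
    rw [← h2]; exact (Int.toNat_of_nonneg (Int.natCast_nonneg _)).symm
  have hM : ∀ i, PicF.IsInvertible (M i) := fun i => S3233.isInvertible_of_inverse (hL i) (hLM i).some
  let P := ∏ i, (1 - t δ d (hM i))
  let u : K δ d →+ ℤ := (chi k δ d).comp P.1
  have hu : ∀ x ∈ Fil δ d (d - 2 - 1), u x = 0 := fun x hx => by
    have h := prod_one_sub_mem hδ.2.2 hM Finset.univ (by omega) hx
    rw [Finset.card_univ, Fintype.card_fin, Fil_eq_bot (fun x => Int.natCast_nonneg _) (by omega),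
      AddSubgroup.mem_bot] at h
    show chi k δ d (P.1 x) = 0
    rw [h, map_zero]
  have hq : ∀ {F : X.Modules}, RefHull.IsRef1 F → ∀ {σ : F.presheaf.stalk (genericPoint X)}, σ ≠ 0 →
      ∀ {D : X →₀ ℤ}, (∀ y : X, Order.coheight y = 1 → D y = RefHullLib.sOrd F y σ) → ∀ m : ℕ,
      (FGA.intNum k X (s + 2) M (RefPow.refPow F m) : ℤ) = u (cl δ d (dm ((m : ℤ) • D))) := by
    intro F hF σ hσ D hD m
    obtain ⟨w, hw, ho⟩ := exists_refPow_section hnorm hF hσ m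
    obtain ⟨i⟩ := nonempty_iso_dm (D := (m : ℤ) • D) hnorm (RefPowLib.isRef1_refPow hF m) hw fun y hy => by
      rw [ho y hy, ← hD y hy]; rfl
    rw [intNum_eq k hδ.2.2 hη hdim.le hM (RefPowLib.isRef1_refPow hF m).1, cl_iso i]
    rfl
  obtain ⟨σ₁, hσ₁, -⟩ := RefHullLib.exists_ne_zero_genericPoint h₁.2.2
  obtain ⟨σ₂, hσ₂, -⟩ := RefHullLib.exists_ne_zero_genericPoint h₂.2.2
  obtain ⟨σ₃, hσ₃, -⟩ := RefHullLib.exists_ne_zero_genericPoint h₃.2.2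
  obtain ⟨A, hAs, hA⟩ := exists_div h₁ hσ₁
  obtain ⟨B, -, hB⟩ := exists_div h₂ hσ₂
  obtain ⟨C, hCs, hC⟩ := exists_div h₃ hσ₃
  obtain ⟨h₁₂, σ₁₂, hσ₁₂, o₁₂⟩ := RefHullLib.exists_ddual_mul_section hnorm h₁ h₂ hσ₁ hσ₂
  obtain ⟨h₁₃, σ₁₃, hσ₁₃, o₁₃⟩ := RefHullLib.exists_ddual_mul_section hnorm h₁ h₃ hσ₁ hσ₃
  obtain ⟨h₂₃, σ₂₃, hσ₂₃, o₂₃⟩ := RefHullLib.exists_ddual_mul_section hnorm h₂ h₃ hσ₂ hσ₃
  obtain ⟨h', σ', hσ', o'⟩ := RefHullLib.exists_ddual_mul_section hnorm h₁₂ h₃ hσ₁₂ hσ₃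
  have hAB : ∀ y : X, Order.coheight y = 1 → (A + B) y = RefHullLib.sOrd (RefPow.refTensor ℒ₁ ℒ₂) y σ₁₂ :=
    fun y hy => (congrArg₂ (· + ·) (hA y hy) (hB y hy)).trans (o₁₂ y hy).symm
  have hAC : ∀ y : X, Order.coheight y = 1 → (A + C) y = RefHullLib.sOrd (RefPow.refTensor ℒ₁ ℒ₃) y σ₁₃ :=
    fun y hy => (congrArg₂ (· + ·) (hA y hy) (hC y hy)).trans (o₁₃ y hy).symm
  have hBC : ∀ y : X, Order.coheight y = 1 → (B + C) y = RefHullLib.sOrd (RefPow.refTensor ℒ₂ ℒ₃) y σ₂₃ :=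
    fun y hy => (congrArg₂ (· + ·) (hB y hy) (hC y hy)).trans (o₂₃ y hy).symm
  have hABC : ∀ y : X, Order.coheight y = 1 →
      (A + B + C) y = RefHullLib.sOrd (RefPow.refTensor (RefPow.refTensor ℒ₁ ℒ₂) ℒ₃) y σ' :=
    fun y hy => (congrArg₂ (· + ·) (hAB y hy) (hC y hy)).trans (o' y hy).symm
  obtain ⟨Lb, hLb⟩ := exists_third_bound k u hnorm hδ.2.2 hη hu A B C hAs hCs
  let F : ℕ → ℤ := fun m =>
    u (cl δ d (dm ((m : ℤ) • (A + B + C)))) - u (cl δ d (dm ((m : ℤ) • (A + B)))) -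
      u (cl δ d (dm ((m : ℤ) • (A + C)))) - u (cl δ d (dm ((m : ℤ) • (B + C)))) +
      u (cl δ d (dm ((m : ℤ) • A))) + u (cl δ d (dm ((m : ℤ) • B))) + u (cl δ d (dm ((m : ℤ) • C)))
  have hT : Filter.Tendsto (fun m : ℕ => (2 : ℝ) * (F m : ℝ) / ((m : ℝ) ^ 2)) Filter.atTop
      (nhds (q₁₂₃ - q₁₂ - q₁₃ - q₂₃ + q₁ + q₂ + q₃)) := by
    refine ((((((hq₁₂₃.sub hq₁₂).sub hq₁₃).sub hq₂₃).add hq₁).add hq₂).add hq₃).congr fun m => ?_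
    show _ = (2 : ℝ) * (F m : ℝ) / ((m : ℝ) ^ 2)
    rw [hq h' hσ' hABC m, hq h₁₂ hσ₁₂ hAB m, hq h₁₃ hσ₁₃ hAC m, hq h₂₃ hσ₂₃ hBC m,
      hq h₁ hσ₁ hA m, hq h₂ hσ₂ hB m, hq h₃ hσ₃ hC m]
    simp only [F]
    push_cast
    ring
  have h0 : Filter.Tendsto (fun m : ℕ => (2 : ℝ) * (F m : ℝ) / ((m : ℝ) ^ 2)) Filter.atTop (nhds 0) := by
    refine squeeze_zero_norm' ?_ (tendsto_const_div_atTop_nhds_zero_nat (4 * |(Lb : ℝ)|))
    filter_upwards [Filter.eventually_gt_atTop 0] with m hm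
    have hm1 : (1 : ℝ) ≤ m := by exact_mod_cast hm
    have hb : |(F m : ℝ)| ≤ (Lb : ℝ) * ((m : ℝ) + 1) := by exact_mod_cast hLb m
    have hb' : |(F m : ℝ)| ≤ 2 * |(Lb : ℝ)| * m := by
      have := mul_le_mul_of_nonneg_right (le_abs_self (Lb : ℝ)) (by positivity : (0 : ℝ) ≤ (m : ℝ) + 1)
      nlinarith [abs_nonneg (Lb : ℝ)]
    rw [Real.norm_eq_abs, abs_div, abs_mul, abs_two, abs_of_pos (by positivity : (0 : ℝ) < (m : ℝ) ^ 2),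
      div_le_div_iff₀ (by positivity) (by positivity)]
    nlinarith [abs_nonneg (F m : ℝ)]
  exact tendsto_nhds_unique hT h0

end Groth.Agent.S17916
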