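import Groth.Statements.S17917
import Groth.Agent.RefCh22.Ops
import Groth.Agent.S3233

set_option autoImplicit false
universe u
open CategoryTheory CategoryTheory.Limits AlgebraicGeometry
open RefCh

namespace Groth.Agent.S17917

open Groth.Agent.RefCh22

set_option linter.style.haveILetI false


/-- Let k be an algebraically closed field, X an integral normal scheme of dimension s + 2 admitting a
closed immersion into some P^N_k over k, and L_1, …, L_s invertible O_X-modules with inverses M_1,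
…, M_s. Let ℒ_1 be a coherent reflexive O_X-module of rank one (ℒ_1 = O_X(D_1) for a Weil divisor
D_1, with dual ℒ_1^∨ = O_X(-D_1)) and ℒ_2 an invertible O_X-module (a Cartier divisor D_2) with
inverse 𝓜_2. With q(ℱ) the limit of 2 χ(c_1(L_1) ⋯ c_1(L_s) · [ℱ^[m]]) / m^2 (reflexive powers,
FGA.intNum in the M_i), assumed to exist for ℒ_1, ℒ_2 and the reflexive hull ℒ_1 ⊗̂ ℒ_2 of ℒ_1 ⊗
ℒ_2, one has (q(ℒ_1 ⊗̂ ℒ_2) - q(ℒ_1) - q(ℒ_2)) / 2 = χ(c_1(ℒ_2) c_1(L_1) ⋯ c_1(L_s) · ([O_X] -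
[ℒ_1^∨])), the right side written as the difference of the alternating sums FGA.intNum in (𝓜_2, M_1,
…, M_s) of O_X and of ℒ_1^∨; that is, D_1 · D_2 · L_1 ⋯ L_s equals the usual intersection number of
the Cartier divisor D_2 and the L_i with the cycle of D_1. (The published text normalises D^2 · L_1
⋯ L_s as twice the limit of χ(c_1(L_1) ⋯ c_1(L_s) · ([O_X] - [O_X(-mD)])) / m^2, the negative of the
number used here, and with that sign the identity fails for two lines on the projective plane, where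
it would read -1 = 1.) -/
theorem result (k : Type u) [Field k] [IsAlgClosed k] (X : Scheme.{u}) [X.Over (Spec (CommRingCat.of k))]
    [AlgebraicGeometry.IsIntegral X] (hnorm : Pi1.IsNormalScheme X) (s : ℕ) (hdim : topologicalKrullDim X = (s + 2 : ℕ))
    (hproj : ∃ (N : ℕ) (ι : X ⟶ CohB1.ProjSpace N k), IsClosedImmersion ι ∧ ι ≫ CohB1.ProjSpace.toSpec N k = X ↘ Spec (CommRingCat.of k))
    (L M : Fin s → X.Modules) (hL : ∀ i, PicF.IsInvertible (L i))
    (hLM : ∀ i, Nonempty (CohB1.tensorMod (L i) (M i) ≅ Coh.structureModule X))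
    (ℒ₁ ℒ₂ 𝓜₂ : X.Modules) (h₁ : RefHull.IsRef1 ℒ₁) (h₂ : PicF.IsInvertible ℒ₂)
    (h₂' : Nonempty (CohB1.tensorMod ℒ₂ 𝓜₂ ≅ Coh.structureModule X))
    (q₁ q₂ q₁₂ : ℝ)
    (hq₁ : Filter.Tendsto (fun m : ℕ => (2 : ℝ) * (FGA.intNum k X (s + 2) M (RefPow.refPow ℒ₁ m) : ℝ) / ((m : ℝ) ^ 2)) Filter.atTop (nhds q₁))
    (hq₂ : Filter.Tendsto (fun m : ℕ => (2 : ℝ) * (FGA.intNum k X (s + 2) M (RefPow.refPow ℒ₂ m) : ℝ) / ((m : ℝ) ^ 2)) Filter.atTop (nhds q₂))
    (hq₁₂ : Filter.Tendsto (fun m : ℕ => (2 : ℝ) * (FGA.intNum k X (s + 2) M (RefPow.refPow (RefPow.refTensor ℒ₁ ℒ₂) m) : ℝ) / ((m : ℝ) ^ 2)) Filter.atTop (nhds q₁₂)) :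
    (q₁₂ - q₁ - q₂) / 2 =
      ((FGA.intNum k X (s + 2) (Fin.cons 𝓜₂ M) (Coh.structureModule X) -
        FGA.intNum k X (s + 2) (Fin.cons 𝓜₂ M) (RefHull.dual ℒ₁) : ℤ) : ℝ) := by
  obtain ⟨N, ι, hι, hιp⟩ := hproj
  haveI := hι
  haveI : IsProper (X ↘ Spec (CommRingCat.of k)) := by
    rw [← hιp]
    haveI := Groth.Agent.Coherent.isProper_projSpace_toSpec N k
    infer_instance
  haveI : IsLocallyNoetherian X := LocallyOfFiniteType.isLocallyNoetherian (X ↘ Spec (CommRingCat.of k))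
  let f := X ↘ Spec (CommRingCat.of k)
  let δ : X → ℤ := fun x => (DimLib.ptDim f x : ℤ)
  have hcompat : Cyc.DeltaCompat f δ (fun _ => 0) := CycLib28.deltaCompat_ptDim_base f
  have hδ : Cyc.IsSetup X δ := CycLib28.PB.isSetup_of_deltaCompat f (CycLib28.isSetup_specField k) hcompat
  have hη : δ (genericPoint X) = ((s + 2 : ℕ) : ℤ) := by
    have h1 := CycLib28.InterSheaf.dim_space f hδ hcompat
    rw [hdim] at h1
    have h2 : (δ (genericPoint X)).toNat = s + 2 := by exact_mod_cast h1.symm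
    rw [← h2]; exact (Int.toNat_of_nonneg (Int.natCast_nonneg _)).symm
  have hM : ∀ i, PicF.IsInvertible (M i) := fun i => S3233.isInvertible_of_inverse (hL i) (hLM i).some
  have hN : PicF.IsInvertible 𝓜₂ := S3233.isInvertible_of_inverse h₂ h₂'.some
  have hcons : ∀ i, PicF.IsInvertible ((Fin.cons 𝓜₂ M : Fin (s + 1) → X.Modules) i) :=
    fun i => Fin.cases hN (fun j => hM j) i
  have hL2 : RefHull.IsRef1 ℒ₂ := CAlgH3.InvertibleDivisor.isRef1 h₂
  let d : ℤ := ((s + 2 : ℕ) : ℤ)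
  let P := ∏ i, (1 - t δ d (hM i))
  let U := t δ d h₂
  let V := t δ d hN
  let O := Coh.structureModule X
  have hUV : U * V = 1 := by
    show t δ d h₂ * t δ d hN = 1
    rw [← t_tensor h₂ hN (AmpleLib.isInvertible_tensorMod h₂ hN)]
    exact Subtype.ext ((tau_congr h₂'.some (AmpleLib.isInvertible_tensorMod h₂ hN) AmpleLib.isInvertible_structureModule).trans tau_one)
  let W := U - 1
  let u : T δ d → K δ d → ℤ := fun R x => chi k δ d ((P * R).1 x)
  have hP : ∀ {b : ℤ}, b ≤ d → ∀ {x : K δ d}, x ∈ Fil δ d b → P.1 x ∈ Fil δ d (b - s) := fun {b} hb {x} hx => by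
    have := prod_one_sub_mem hδ.2.2 hM Finset.univ hb hx
    rwa [Finset.card_univ, Fintype.card_fin] at this
  have hW : ∀ {b : ℤ}, b ≤ d → ∀ {x : K δ d}, x ∈ Fil δ d b → W.1 x ∈ Fil δ d (b - 1) := fun {b} hb {x} hx => by
    rw [show W = -(1 - t δ d h₂) from (neg_sub _ _).symm]
    exact neg_mem (one_sub_t_mem hδ.2.2 h₂ hb hx)
  have hz : ∀ {b : ℤ}, b ≤ d → b < s → ∀ {x : K δ d}, x ∈ Fil δ d b → P.1 x = 0 := fun {b} hb hbs {x} hx => by
    have h := hP hb hx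
    rwa [Fil_eq_bot (fun x => Int.natCast_nonneg _) (by omega), AddSubgroup.mem_bot] at h
  have hO : RefHull.IsRef1 O := RefHullLib.isRef1_structureModule
  have htop : ∀ {F : X.Modules}, RefHull.IsRef1 F → cl δ d F ∈ Fil δ d d := fun {F} hF =>
    mem_Fil (cohLe_top hδ.2.2 hη hF.1)
  have hq : ∀ (m : ℕ) {F : X.Modules}, RefHull.IsRef1 F → (FGA.intNum k X (s + 2) M (RefPow.refPow F m) : ℤ) =
      u 1 (cl δ d (RefPow.refPow F m)) := fun m {F} hF => by
    show _ = chi k δ d ((P * 1).1 _)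
    rw [mul_one, intNum_eq k hδ.2.2 hη hdim.le hM (RefPowLib.isRef1_refPow hF m).1]
  -- the binomial expansion
  have hbin : ∀ m : ℕ, ∃ R : T δ d, U ^ m = 1 + (m : ℤ) • W + (m.choose 2 : ℤ) • W ^ 2 + W ^ 3 * R := fun m => by
    induction m with
    | zero => exact ⟨0, by simp⟩
    | succ m ih =>
      obtain ⟨R, hR⟩ := ih
      refine ⟨(m.choose 2 : ℤ) • 1 + (1 + W) * R, ?_⟩
      rw [pow_succ, hR, show U = 1 + W from (add_sub_cancel 1 U).symm, Nat.choose_succ_succ' m 1, Nat.choose_one_right]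
      push_cast
      simp only [zsmul_eq_mul]
      push_cast
      ring
  have hcube : ∀ (R : T δ d) {x : K δ d}, x ∈ Fil δ d d → u (W ^ 3 * R) x = 0 := fun R {x} hx => by
    show chi k δ d ((P * (W ^ 3 * R)).1 x) = 0
    rw [show P * (W ^ 3 * R) = R * (P * W * W * W) by ring]
    show chi k δ d (R.1 (P.1 (W.1 (W.1 (W.1 x))))) = 0
    rw [hz (b := d - 1 - 1 - 1) (by omega) (by omega) (hW (by omega) (hW (by omega) (hW le_rfl hx))),
      map_zero, map_zero]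
  have hexp : ∀ (m : ℕ) {x : K δ d}, x ∈ Fil δ d d → u (U ^ m) x = u 1 x + m * u W x + m.choose 2 * u (W ^ 2) x := by
    intro m x hx
    obtain ⟨R, hR⟩ := hbin m
    have h0 := hcube R hx
    have hadd : ∀ A B : T δ d, u (A + B) x = u A x + u B x := fun A B => by
      show chi k δ d ((P * (A + B)).1 x) = chi k δ d ((P * A).1 x) + chi k δ d ((P * B).1 x)
      rw [mul_add]
      exact map_add (chi k δ d) _ _
    have hsmul : ∀ (n : ℤ) (A : T δ d), u (n • A) x = n * u A x := fun n A => by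
      show chi k δ d ((P * (n • A)).1 x) = n * chi k δ d ((P * A).1 x)
      rw [mul_smul_comm]
      exact (map_zsmul (chi k δ d) n _).trans (smul_eq_mul _ _)
    rw [hR, hadd, hadd, hadd, hsmul, hsmul, h0, add_zero]
  -- the powers
  have hlin : ∀ (m : ℕ) {F : X.Modules}, RefHull.IsRef1 F →
      u W (cl δ d (RefPow.refPow F m)) = u W (cl δ d O) + m * u W (cl δ d F - cl δ d O) ∧
      u (W ^ 2) (cl δ d (RefPow.refPow F m)) = u (W ^ 2) (cl δ d O) := fun m {F} hF => by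
    have h1 := refPow_mem_Fil hnorm hδ.2.2 hη hF m
    have h2 : cl δ d (RefPow.refPow F m) - cl δ d O ∈ Fil δ d (d - 1) :=
      sub_mem_Fil_of_rankOne hδ.2.2 hη (RefPowLib.isRef1_refPow hF m).1 hO.1 (RefPowLib.isRef1_refPow hF m).2.2 hO.2.2
    refine ⟨?_, ?_⟩
    · have e := congrArg (chi k δ d) (hz (b := d - 2 - 1) (by omega) (by omega) (hW (by omega) h1))
      rw [map_zero] at e
      change chi k δ d ((P * W).1 _) = 0 at e
      simp only [map_sub, map_zsmul, smul_eq_mul] at e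
      show chi k δ d ((P * W).1 _) = chi k δ d ((P * W).1 _) + (m : ℤ) * chi k δ d ((P * W).1 _)
      rw [map_sub, map_sub]
      linear_combination e
    · have e := congrArg (chi k δ d) (hz (b := d - 1 - 1 - 1) (by omega) (by omega) (hW (by omega) (hW (by omega) h2)))
      rw [map_zero] at e
      change chi k δ d ((P * (W * W)).1 _) = 0 at e
      rw [← pow_two, map_sub, map_sub, sub_eq_zero] at e
      exact e
  let e₀ := u W (cl δ d O)
  let e₁ := u W (cl δ d ℒ₁ - cl δ d O)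
  let w := u (W ^ 2) (cl δ d O)
  have h12 : ∀ m : ℕ, (2 : ℝ) * (FGA.intNum k X (s + 2) M (RefPow.refPow (RefPow.refTensor ℒ₁ ℒ₂) m) : ℝ) / ((m : ℝ) ^ 2) -
      (2 : ℝ) * (FGA.intNum k X (s + 2) M (RefPow.refPow ℒ₁ m) : ℝ) / ((m : ℝ) ^ 2) -
      (2 : ℝ) * (FGA.intNum k X (s + 2) M (RefPow.refPow ℒ₂ m) : ℝ) / ((m : ℝ) ^ 2) =
      (2 : ℝ) * (((m : ℝ) ^ 2 * (e₁ : ℝ)) - (u 1 (cl δ d O) : ℝ)) / ((m : ℝ) ^ 2) := by
    intro m
    have hA : (FGA.intNum k X (s + 2) M (RefPow.refPow (RefPow.refTensor ℒ₁ ℒ₂) m) : ℤ) =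
        FGA.intNum k X (s + 2) M (RefPow.refPow ℒ₁ m) + m * (e₀ + m * e₁) + m.choose 2 * w := by
      rw [hq m (isRef1_refTensor hnorm h₁ hL2), cl_refPow_refTensor_invertible hnorm hδ.2.2 hη h₁ h₂ m, hq m h₁]
      have hc : u 1 ((t δ d h₂ ^ m).1 (cl δ d (RefPow.refPow ℒ₁ m))) = u (U ^ m) (cl δ d (RefPow.refPow ℒ₁ m)) := by
        show chi k δ d ((P * 1).1 _) = chi k δ d ((P * U ^ m).1 _)
        rw [mul_one]
        rfl
      rw [hc, hexp m (htop (RefPowLib.isRef1_refPow h₁ m)), (hlin m h₁).1, (hlin m h₁).2]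
    have hB : (FGA.intNum k X (s + 2) M (RefPow.refPow ℒ₂ m) : ℤ) = u 1 (cl δ d O) + m * e₀ + m.choose 2 * w := by
      obtain ⟨h, e⟩ := exists_t_refPow (δ := δ) (a := d) h₂ m
      rw [hq m hL2, ← hexp m (htop hO)]
      show chi k δ d ((P * 1).1 _) = chi k δ d ((P * U ^ m).1 _)
      rw [mul_one, ← e, cl_iso (AmpleLib.unitTensorIso (RefPow.refPow ℒ₂ m)).symm,
        ← tau_cl h (cohLe_top hδ.2.2 hη hO.1)]
      rfl
    have hAB : (FGA.intNum k X (s + 2) M (RefPow.refPow (RefPow.refTensor ℒ₁ ℒ₂) m) : ℤ) -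
        FGA.intNum k X (s + 2) M (RefPow.refPow ℒ₁ m) - FGA.intNum k X (s + 2) M (RefPow.refPow ℒ₂ m) =
        (m : ℤ) ^ 2 * e₁ - u 1 (cl δ d O) := by rw [hA, hB]; ring
    have h' : ((FGA.intNum k X (s + 2) M (RefPow.refPow (RefPow.refTensor ℒ₁ ℒ₂) m) : ℤ) : ℝ) -
        (FGA.intNum k X (s + 2) M (RefPow.refPow ℒ₁ m) : ℝ) - (FGA.intNum k X (s + 2) M (RefPow.refPow ℒ₂ m) : ℝ) =
        (m : ℝ) ^ 2 * (e₁ : ℝ) - (u 1 (cl δ d O) : ℝ) := by exact_mod_cast hAB
    rw [← h']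
    ring
  have hlim : Filter.Tendsto (fun m : ℕ => (2 : ℝ) * (((m : ℝ) ^ 2 * (e₁ : ℝ)) - (u 1 (cl δ d O) : ℝ)) / ((m : ℝ) ^ 2))
      Filter.atTop (nhds (2 * (e₁ : ℝ))) := by
    have e1 := (tendsto_const_div_atTop_nhds_zero_nat (2 * (u 1 (cl δ d O) : ℝ))).mul tendsto_one_div_atTop_nhds_zero_nat
    simpa using ((tendsto_const_nhds (x := 2 * (e₁ : ℝ))).sub e1).congr' (by
      filter_upwards [Filter.eventually_gt_atTop 0] with m hm
      have : (m : ℝ) ≠ 0 := by exact_mod_cast hm.ne'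
      field_simp)
  have hq' : q₁₂ - q₁ - q₂ = 2 * (e₁ : ℝ) :=
    tendsto_nhds_unique ((hq₁₂.sub hq₁).sub hq₂) (hlim.congr fun m => (h12 m).symm)
  have hrhs : FGA.intNum k X (s + 2) (Fin.cons 𝓜₂ M) (Coh.structureModule X) -
      FGA.intNum k X (s + 2) (Fin.cons 𝓜₂ M) (RefHull.dual ℒ₁) = e₁ := by
    have hd := isRef1_dual hnorm h₁
    rw [intNum_eq k hδ.2.2 hη hdim.le hcons hO.1, intNum_eq k hδ.2.2 hη hdim.le hcons hd.1, Fin.prod_univ_succ]
    show chi k δ d (((1 - V) * P).1 (cl δ d O)) - chi k δ d (((1 - V) * P).1 (cl δ d (RefHull.dual ℒ₁))) =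
      chi k δ d ((P * W).1 (cl δ d ℒ₁ - cl δ d O))
    obtain ⟨i⟩ := refTensor_dual hnorm h₁
    have h1 := refTensor_mem_Fil hnorm hδ.2.2 hη h₁ hd
    rw [cl_iso i] at h1
    have h2 : cl δ d ℒ₁ - cl δ d O ∈ Fil δ d (d - 1) :=
      sub_mem_Fil_of_rankOne hδ.2.2 hη h₁.1 hO.1 h₁.2.2 hO.2.2
    have hV1 : ∀ {b : ℤ}, b ≤ d → ∀ {x : K δ d}, x ∈ Fil δ d b → (1 - V).1 x ∈ Fil δ d (b - 1) :=
      fun {b} hb {x} hx => one_sub_t_mem hδ.2.2 hN hb hx
    have e1 := congrArg (chi k δ d) (hz (b := d - 2 - 1) (by omega) (by omega) (hV1 (by omega) h1))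
    rw [map_zero] at e1
    change chi k δ d ((P * (1 - V)).1 _) = 0 at e1
    have e2 := congrArg (chi k δ d) (hz (b := d - 1 - 1 - 1) (by omega) (by omega) (hV1 (by omega) (hW (by omega) h2)))
    rw [map_zero] at e2
    change chi k δ d ((P * ((1 - V) * W)).1 _) = 0 at e2
    have hWV : P * W = (1 - V) * P + P * ((1 - V) * W) := by
      show P * (U - 1) = (1 - V) * P + P * ((1 - V) * (U - 1))
      linear_combination P * hUV
    rw [hWV]
    show _ = chi k δ d (((1 - V) * P).1 _ + (P * ((1 - V) * W)).1 _)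
    rw [map_add, e2, add_zero]
    rw [mul_comm P (1 - V)] at e1
    simp only [map_sub, map_add] at e1 ⊢
    linear_combination e1
  rw [hrhs, hq']
  ring

end Groth.Agent.S17917
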