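import Groth.Statements.S17918
import Groth.Agent.RefCh22.IntNum
import Groth.Agent.S3233

set_option autoImplicit false
universe u
open CategoryTheory CategoryTheory.Limits AlgebraicGeometry
open RefCh

namespace Groth.Agent.S17918

open Groth.Agent.RefCh22 Groth.Agent.S3233

set_option linter.style.haveILetI false

/-- Let k be an algebraically closed field, X an integral normal scheme of dimension s + 3 admitting a
closed immersion into some P^N_k over k, L_1, …, L_s, A and B invertible O_X-modules with inverses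
M_1, …, M_s, A' and B' (so that A' ⊗ B' is an inverse of A ⊗ B), and ℒ a coherent reflexive
O_X-module of rank one (ℒ = O_X(D)). Suppose 2 χ(c_1(A) c_1(L_1) ⋯ c_1(L_s) · [ℒ^[m]]) / m^2 → a, 2
χ(c_1(B) c_1(L_1) ⋯ c_1(L_s) · [ℒ^[m]]) / m^2 → b and 2 χ(c_1(A ⊗ B) c_1(L_1) ⋯ c_1(L_s) · [ℒ^[m]])
/ m^2 → c as m → ∞, the Euler characteristics being the alternating sums FGA.intNum in (A', M_1, …,
M_s), (B', M_1, …, M_s) and (A' ⊗ B', M_1, …, M_s) of the reflexive powers ℒ^[m]. Then c = a + b: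
the self-intersection number D^2 · L_0 · L_1 ⋯ L_s is additive in the invertible module L_0. -/
theorem result (k : Type u) [Field k] [IsAlgClosed k] (X : Scheme.{u}) [X.Over (Spec (CommRingCat.of k))]
    [AlgebraicGeometry.IsIntegral X] (hnorm : Pi1.IsNormalScheme X) (s : ℕ) (hdim : topologicalKrullDim X = (s + 3 : ℕ))
    (hproj : ∃ (N : ℕ) (ι : X ⟶ CohB1.ProjSpace N k), IsClosedImmersion ι ∧ ι ≫ CohB1.ProjSpace.toSpec N k = X ↘ Spec (CommRingCat.of k))
    (L M : Fin s → X.Modules) (hL : ∀ i, PicF.IsInvertible (L i))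
    (hLM : ∀ i, Nonempty (CohB1.tensorMod (L i) (M i) ≅ Coh.structureModule X))
    (A A' B B' : X.Modules) (hA : PicF.IsInvertible A) (hB : PicF.IsInvertible B)
    (hAA' : Nonempty (CohB1.tensorMod A A' ≅ Coh.structureModule X))
    (hBB' : Nonempty (CohB1.tensorMod B B' ≅ Coh.structureModule X))
    (ℒ : X.Modules) (hℒ : RefHull.IsRef1 ℒ) (a b c : ℝ)
    (ha : Filter.Tendsto (fun m : ℕ => (2 : ℝ) * (FGA.intNum k X (s + 3) (Fin.cons A' M) (RefPow.refPow ℒ m) : ℝ) / ((m : ℝ) ^ 2)) Filter.atTop (nhds a))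
    (hb : Filter.Tendsto (fun m : ℕ => (2 : ℝ) * (FGA.intNum k X (s + 3) (Fin.cons B' M) (RefPow.refPow ℒ m) : ℝ) / ((m : ℝ) ^ 2)) Filter.atTop (nhds b))
    (hc : Filter.Tendsto (fun m : ℕ => (2 : ℝ) * (FGA.intNum k X (s + 3) (Fin.cons (CohB1.tensorMod A' B') M) (RefPow.refPow ℒ m) : ℝ) / ((m : ℝ) ^ 2)) Filter.atTop (nhds c)) :
    c = a + b := by
  obtain ⟨N, ι, hι, hιp⟩ := hproj
  haveI := hι
  haveI : IsProper (X ↘ Spec (CommRingCat.of k)) := by
    rw [← hιp]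
    haveI := Groth.Agent.Coherent.isProper_projSpace_toSpec N k
    infer_instance
  haveI : IsLocallyNoetherian X := LocallyOfFiniteType.isLocallyNoetherian (X ↘ Spec (CommRingCat.of k))
  let f := X ↘ Spec (CommRingCat.of k)
  let δ : X → ℤ := fun x => (DimLib.ptDim f x : ℤ)
  have hcompat : Cyc.DeltaCompat f δ (fun _ => 0) := CycLib28.deltaCompat_ptDim_base f
  have hδ : Cyc.IsSetup X δ := CycLib28.PB.isSetup_of_deltaCompat f (CycLib28.isSetup_specField k) hcompat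
  have hη : δ (genericPoint X) = ((s + 3 : ℕ) : ℤ) := by
    have h1 := CycLib28.InterSheaf.dim_space f hδ hcompat
    rw [hdim] at h1
    have h2 : (δ (genericPoint X)).toNat = s + 3 := by exact_mod_cast h1.symm
    rw [← h2]; exact (Int.toNat_of_nonneg (Int.natCast_nonneg _)).symm
  have hM : ∀ i, PicF.IsInvertible (M i) := fun i => isInvertible_of_inverse (hL i) (hLM i).some
  have hA' : PicF.IsInvertible A' := isInvertible_of_inverse hA hAA'.some
  have hB' : PicF.IsInvertible B' := isInvertible_of_inverse hB hBB'.some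
  have hC := AmpleLib.isInvertible_tensorMod hA' hB'
  have hcons : ∀ {Z : X.Modules}, PicF.IsInvertible Z → ∀ i, PicF.IsInvertible ((Fin.cons Z M : Fin (s + 1) → X.Modules) i) :=
    fun {Z} hZ i => Fin.cases hZ (fun j => hM j) i
  let P := ∏ i, (1 - t δ ((s + 3 : ℕ) : ℤ) (hM i))
  let Q := (1 - t δ ((s + 3 : ℕ) : ℤ) hA') * ((1 - t δ ((s + 3 : ℕ) : ℤ) hB') * P)
  let O := Coh.structureModule X
  let u := fun F : X.Modules => chi k δ ((s + 3 : ℕ) : ℤ) (Q.1 (cl δ _ F))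
  have key : ∀ {Z : X.Modules} (hZ : PicF.IsInvertible Z) (m : ℕ),
      FGA.intNum k X (s + 3) (Fin.cons Z M) (RefPow.refPow ℒ m) =
        chi k δ ((s + 3 : ℕ) : ℤ) (((1 - t δ ((s + 3 : ℕ) : ℤ) hZ) * P).1 (cl δ _ (RefPow.refPow ℒ m))) :=
    fun {Z} hZ m => by
      rw [intNum_eq k hδ.2.2 hη hdim.le (hcons hZ) (RefPowLib.isRef1_refPow hℒ m).1, Fin.prod_univ_succ]
      rfl
  have hQ : ∀ m : ℕ, u (RefPow.refPow ℒ m) = u O + (m : ℤ) * (u ℒ - u O) := fun m => by
    have h := refPow_mem_Fil hnorm hδ.2.2 hη hℒ m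
    have h' := one_sub_t_mem hδ.2.2 hA' (by push_cast [Finset.card_univ, Fintype.card_fin]; omega)
      (one_sub_t_mem hδ.2.2 hB' (by push_cast [Finset.card_univ, Fintype.card_fin]; omega)
        (prod_one_sub_mem hδ.2.2 hM Finset.univ (by omega) h))
    rw [Fil_eq_bot (fun x => Int.natCast_nonneg _) (by push_cast [Finset.card_univ, Fintype.card_fin]; omega),
      AddSubgroup.mem_bot] at h'
    have h2 : Q.1 (cl δ ((s + 3 : ℕ) : ℤ) (RefPow.refPow ℒ m) - cl δ _ O - (m : ℤ) • (cl δ _ ℒ - cl δ _ O)) = 0 := h'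
    have h3 := congrArg (chi k δ ((s + 3 : ℕ) : ℤ)) h2
    simp only [map_sub, map_zsmul, map_zero, smul_eq_mul] at h3
    show chi k δ ((s + 3 : ℕ) : ℤ) (Q.1 _) = _
    simp only [u]
    linarith
  have hc' : ∀ m : ℕ, (FGA.intNum k X (s + 3) (Fin.cons (CohB1.tensorMod A' B') M) (RefPow.refPow ℒ m) : ℝ) =
      (FGA.intNum k X (s + 3) (Fin.cons A' M) (RefPow.refPow ℒ m) : ℝ) +
        (FGA.intNum k X (s + 3) (Fin.cons B' M) (RefPow.refPow ℒ m) : ℝ) -
          ((u O : ℝ) + (m : ℝ) * ((u ℒ : ℝ) - (u O : ℝ))) := fun m => by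
    have h3 : (1 - t δ ((s + 3 : ℕ) : ℤ) hA' * t δ ((s + 3 : ℕ) : ℤ) hB') * P =
        (1 - t δ ((s + 3 : ℕ) : ℤ) hA') * P + (1 - t δ ((s + 3 : ℕ) : ℤ) hB') * P - Q := by simp only [Q]; ring
    rw [key hC, key hA', key hB', t_tensor hA' hB' hC, h3, AddSubgroupClass.coe_sub, Subring.coe_add]
    have h5 : (u (RefPow.refPow ℒ m) : ℝ) = (u O : ℝ) + (m : ℝ) * ((u ℒ : ℝ) - (u O : ℝ)) := by exact_mod_cast hQ m
    rw [← h5]
    show ((chi k δ ((s + 3 : ℕ) : ℤ) (_ + _ - _) : ℤ) : ℝ) = _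
    rw [map_sub, map_add, Int.cast_sub, Int.cast_add]
    rfl
  have hlim : Filter.Tendsto (fun m : ℕ => (2 : ℝ) * ((u O : ℝ) + (m : ℝ) * ((u ℒ : ℝ) - (u O : ℝ))) / ((m : ℝ) ^ 2))
      Filter.atTop (nhds 0) := by
    have e1 := (tendsto_const_div_atTop_nhds_zero_nat (2 * (u O : ℝ))).mul tendsto_one_div_atTop_nhds_zero_nat
    have e2 := tendsto_const_div_atTop_nhds_zero_nat (2 * ((u ℒ : ℝ) - (u O : ℝ)))
    simpa using (e1.add e2).congr' (by
      filter_upwards [Filter.eventually_gt_atTop 0] with m hm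
      have : (m : ℝ) ≠ 0 := by exact_mod_cast hm.ne'
      field_simp)
  have := tendsto_nhds_unique hc (((ha.add hb).sub hlim).congr fun m => by rw [hc' m]; ring)
  rw [this]; ring

end Groth.Agent.S17918
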