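import Groth.Statements.S17921
import Groth.Agent.RefCh22.FrobPow
import Groth.Agent.S3233

set_option autoImplicit false
universe u
open CategoryTheory CategoryTheory.Limits AlgebraicGeometry
open RefCh

namespace Groth.Agent.S17921

open Groth.Agent.RefCh22 Groth.Agent.Coherent

set_option linter.style.haveILetI false


/-- Let k be an algebraically closed field of characteristic p > 0, X an integral normal scheme of
dimension s + 2 admitting a closed immersion into some P^N_k over k, L_1, …, L_s invertible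
O_X-modules with inverses M_1, …, M_s, and ℒ a coherent reflexive O_X-module of rank one (ℒ =
O_X(D)), with reflexive Frobenius pull-backs G_m = F_X^[m] ℒ (G_0 = ℒ, G_{m+1} ≅ (F_X^* G_m)^**). If
2 χ(c_1(L_1) ⋯ c_1(L_s) · [ℒ^[m]]) / m^2 → a (so a = D^2 · L_1 ⋯ L_s) and χ(c_1(L_1) ⋯ c_1(L_s) ·
[G_m]) / p^{2m} → b (so b = ∫_X ch_2(ℒ) L_1 ⋯ L_s), the Euler characteristics being the alternating
sums FGA.intNum in the M_i, then a = 2 b: the second Chern number ∫_X c_2(ℒ) L_1 ⋯ L_s = a / 2 - b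
of a rank one reflexive module vanishes. -/
theorem result (k : Type u) [Field k] [IsAlgClosed k] (X : Scheme.{u}) [X.Over (Spec (CommRingCat.of k))]
    [AlgebraicGeometry.IsIntegral X] (hnorm : Pi1.IsNormalScheme X) (s : ℕ) (hdim : topologicalKrullDim X = (s + 2 : ℕ))
    (hproj : ∃ (N : ℕ) (ι : X ⟶ CohB1.ProjSpace N k), IsClosedImmersion ι ∧ ι ≫ CohB1.ProjSpace.toSpec N k = X ↘ Spec (CommRingCat.of k))
    (p : ℕ) [Fact p.Prime] [CharP k p] [FrobSch.IsCharP X p]
    (L M : Fin s → X.Modules) (hL : ∀ i, PicF.IsInvertible (L i))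
    (hLM : ∀ i, Nonempty (CohB1.tensorMod (L i) (M i) ≅ Coh.structureModule X))
    (ℒ : X.Modules) (hℒ : RefHull.IsRef1 ℒ)
    (G : ℕ → X.Modules) (hG0 : G 0 = ℒ)
    (hG : ∀ m, Nonempty (G (m + 1) ≅ RefHull.ddual ((Scheme.Modules.pullback (FrobSch.frob X p)).obj (G m)))) (a b : ℝ)
    (ha : Filter.Tendsto (fun m : ℕ => (2 : ℝ) * (FGA.intNum k X (s + 2) M (RefPow.refPow ℒ m) : ℝ) / ((m : ℝ) ^ 2)) Filter.atTop (nhds a))
    (hb : Filter.Tendsto (fun m : ℕ => (FGA.intNum k X (s + 2) M (G m) : ℝ) / ((p : ℝ) ^ (2 * m))) Filter.atTop (nhds b)) :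
    a = 2 * b := by
  obtain ⟨N, ι, hι, hιp⟩ := hproj
  haveI := hι
  haveI : IsProper (X ↘ Spec (CommRingCat.of k)) := by
    rw [← hιp]
    haveI := Groth.Agent.Coherent.isProper_projSpace_toSpec N k
    infer_instance
  haveI : IsLocallyNoetherian X := LocallyOfFiniteType.isLocallyNoetherian (X ↘ Spec (CommRingCat.of k))
  have hp : 1 < p := (Fact.out : p.Prime).one_lt
  have hiso : ∀ m : ℕ, Nonempty (G m ≅ RefPow.refPow ℒ (p ^ m)) := fun m => by
    induction m with
    | zero =>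
      rw [pow_zero, RefPow.refPow_one]
      exact ⟨eqToIso hG0⟩
    | succ m ih =>
      obtain ⟨i⟩ := ih
      obtain ⟨e⟩ := hG m
      have hGm := isRef1_of_iso i.symm (RefPowLib.isRef1_refPow hℒ (p ^ m))
      obtain ⟨j⟩ := ddual_frob_pullback_iso hnorm p hGm
      obtain ⟨c⟩ := refPow_congr hnorm i hGm p
      obtain ⟨l⟩ := refPow_refPow hnorm hℒ (p ^ m) p
      rw [pow_succ]
      exact ⟨e ≪≫ j ≪≫ c ≪≫ l⟩
  let f := X ↘ Spec (CommRingCat.of k)
  let δ : X → ℤ := fun x => (DimLib.ptDim f x : ℤ)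
  have hcompat : Cyc.DeltaCompat f δ (fun _ => 0) := CycLib28.deltaCompat_ptDim_base f
  have hδ : Cyc.IsSetup X δ := CycLib28.PB.isSetup_of_deltaCompat f (CycLib28.isSetup_specField k) hcompat
  have hη : δ (genericPoint X) = ((s + 2 : ℕ) : ℤ) := by
    have h1 := CycLib28.InterSheaf.dim_space f hδ hcompat
    rw [hdim] at h1
    have h2 : (δ (genericPoint X)).toNat = s + 2 := by exact_mod_cast h1.symm
    rw [← h2]; exact (Int.toNat_of_nonneg (Int.natCast_nonneg _)).symm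
  have hM : ∀ i, PicF.IsInvertible (M i) := fun i => S3233.isInvertible_of_inverse (hL i) (hLM i).some
  have hnum : ∀ m : ℕ, FGA.intNum k X (s + 2) M (G m) = FGA.intNum k X (s + 2) M (RefPow.refPow ℒ (p ^ m)) := fun m => by
    obtain ⟨i⟩ := hiso m
    have h1 := RefPowLib.isRef1_refPow hℒ (p ^ m)
    have hGc : Coh.IsCoh (G m) := (isRef1_of_iso i.symm h1).1
    rw [intNum_eq k hδ.2.2 hη hdim.le hM hGc, intNum_eq k hδ.2.2 hη hdim.le hM h1.1, cl_iso i]
  have h2 := (hb.const_mul 2)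
  have h3 := ha.comp (tendsto_pow_atTop_atTop_of_one_lt hp)
  refine tendsto_nhds_unique h3 (h2.congr fun m => ?_)
  show _ = (2 : ℝ) * _ / (((p ^ m : ℕ) : ℝ) ^ 2)
  rw [hnum m, Nat.cast_pow, ← pow_mul, mul_comm m 2, mul_div_assoc]

end Groth.Agent.S17921
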