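import Groth.Statements.S17924
import Groth.Agent.RefCh22.IntNum
import Groth.Agent.S3233

set_option autoImplicit false
universe u
open CategoryTheory CategoryTheory.Limits AlgebraicGeometry
open RefCh

namespace Groth.Agent.S17924

open Groth.Agent.RefCh22 Groth.Agent.S3233

set_option linter.style.haveILetI false

/-- Let k be an algebraically closed field, X an integral normal scheme of dimension n = s + 2 admitting
a closed immersion into some P^N_k over k, δ a dimension function on X (a pair (X, δ) as in the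
setup of Chow homology, Cyc.IsSetup) normalised by δ(generic point) = n, so that δ(x) is the
dimension of the closure of x, and ℒ a coherent reflexive O_X-module of rank one (ℒ = O_X(-D) for a
Weil divisor D). Write K(X) = K_0(Coh(X)) and K_m(X) for the subgroup generated by the classes of
coherent modules whose support has dimension at most m. Then [O_X] - [ℒ] ∈ K_{n-1}(X): the classes
of O_X and ℒ agree in K_0(Coh(X)) / K_{n-1}(X) (Cyc.toK0CohQuot δ n (n - 1)); in the notation [O_D]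
= [O_X] - [O_X(-D)], the class [O_D] lies in K_{n-1}(X). -/
theorem result (k : Type u) [Field k] [IsAlgClosed k] (X : Scheme.{u}) [X.Over (Spec (CommRingCat.of k))]
    [AlgebraicGeometry.IsIntegral X] (hnorm : Pi1.IsNormalScheme X) (s : ℕ) (hdim : topologicalKrullDim X = (s + 2 : ℕ))
    (hproj : ∃ (N : ℕ) (ι : X ⟶ CohB1.ProjSpace N k), IsClosedImmersion ι ∧ ι ≫ CohB1.ProjSpace.toSpec N k = X ↘ Spec (CommRingCat.of k))
    (δ : X → ℤ) (hδ : Cyc.IsSetup X δ) (hδη : δ (genericPoint X) = (s + 2 : ℕ))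
    (ℒ : X.Modules) (hℒ : RefHull.IsRef1 ℒ) :
    Cyc.toK0CohQuot δ (s + 2 : ℕ) (s + 1 : ℕ) (Coh.structureModule X) =
      Cyc.toK0CohQuot δ (s + 2 : ℕ) (s + 1 : ℕ) ℒ := by
  haveI := hδ.1
  obtain ⟨N, ι, hι, hιp⟩ := hproj
  haveI := hι
  haveI : LocallyOfFiniteType (X ↘ Spec (CommRingCat.of k)) := by
    rw [← hιp]
    haveI := Groth.Agent.Coherent.isProper_projSpace_toSpec N k
    infer_instance
  have hO : RefHull.IsRef1 (Coh.structureModule X) := RefHullLib.isRef1_structureModule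
  have htop : ∀ F : X.Modules, Coh.IsCoh F → Cyc.CohLe δ ((s + 2 : ℕ) : ℤ) F := fun F => cohLe_top hδ.2.2 hδη
  have hx : cl δ ((s + 2 : ℕ) : ℤ) (Coh.structureModule X) - cl δ ((s + 2 : ℕ) : ℤ) ℒ ∈
      Fil δ ((s + 2 : ℕ) : ℤ) (((s + 2 : ℕ) : ℤ) - 1) :=
    sub_mem_Fil_of_rankOne hδ.2.2 hδη hO.1 hℒ.1 hO.2.2 hℒ.2.2
  rw [show ((s + 2 : ℕ) : ℤ) - 1 = ((s + 1 : ℕ) : ℤ) by push_cast; ring] at hx
  have h0 := (QuotientAddGroup.eq_zero_iff _).2 hx
  rw [QuotientAddGroup.mk_sub, sub_eq_zero] at h0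
  exact h0

end Groth.Agent.S17924
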