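import Groth.Statements.S17926
import Groth.Agent.RefCh22.K0Filt
import Groth.Agent.S3233

set_option autoImplicit false
universe u
open CategoryTheory CategoryTheory.Limits AlgebraicGeometry
open RefCh

namespace Groth.Agent.S17926

open Groth.Agent.RefCh22 Groth.Agent.S3233

set_option linter.style.haveILetI false

/-- Let k be an algebraically closed field, X an integral normal scheme of dimension n = s + 2 admitting
a closed immersion into some P^N_k over k, δ a dimension function on X (Cyc.IsSetup) with δ(generic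
point) = n, L_1, …, L_{n-1} invertible O_X-modules with inverses M_1, …, M_{n-1}, and ℒ a coherent
reflexive O_X-module of rank one (ℒ = O_X(-D) for a Weil divisor D, [O_D] = [O_X] - [ℒ]). With
c_1(L) · [F] = [F] - [L^{-1} ⊗ F] on K_0(Coh(X)), the class c_1(L_1) ⋯ c_1(L_{n-1}) · [O_D] = Σ_{I ⊆
{1, …, n-1}} (-1)^{|I|} ([M_I ⊗ O_X] - [M_I ⊗ ℒ]), where M_I = ⊗_{i ∈ I} M_i (FGA.tensorList of the
sorted I), lies in K_0(X), the subgroup generated by the classes of coherent modules with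
zero-dimensional support: its image in K_0(Coh(X)) / K_0(X) (Cyc.toK0CohQuot δ n 0) vanishes. -/
theorem result (k : Type u) [Field k] [IsAlgClosed k] (X : Scheme.{u}) [X.Over (Spec (CommRingCat.of k))]
    [AlgebraicGeometry.IsIntegral X] (hnorm : Pi1.IsNormalScheme X) (s : ℕ) (hdim : topologicalKrullDim X = (s + 2 : ℕ))
    (hproj : ∃ (N : ℕ) (ι : X ⟶ CohB1.ProjSpace N k), IsClosedImmersion ι ∧ ι ≫ CohB1.ProjSpace.toSpec N k = X ↘ Spec (CommRingCat.of k))
    (δ : X → ℤ) (hδ : Cyc.IsSetup X δ) (hδη : δ (genericPoint X) = (s + 2 : ℕ))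
    (L M : Fin (s + 1) → X.Modules) (hL : ∀ i, PicF.IsInvertible (L i))
    (hLM : ∀ i, Nonempty (CohB1.tensorMod (L i) (M i) ≅ Coh.structureModule X))
    (ℒ : X.Modules) (hℒ : RefHull.IsRef1 ℒ) :
    (∑ I : Finset (Fin (s + 1)), ((-1 : ℤ) ^ I.card) •
      (Cyc.toK0CohQuot δ (s + 2 : ℕ) 0 (CohB1.tensorMod (FGA.tensorList ((I.sort (· ≤ ·)).map M)) (Coh.structureModule X)) -
        Cyc.toK0CohQuot δ (s + 2 : ℕ) 0 (CohB1.tensorMod (FGA.tensorList ((I.sort (· ≤ ·)).map M)) ℒ))) = 0 := by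
  haveI := hδ.1
  obtain ⟨N, ι, hι, hιp⟩ := hproj
  haveI := hι
  haveI : LocallyOfFiniteType (X ↘ Spec (CommRingCat.of k)) := by
    rw [← hιp]
    haveI := Groth.Agent.Coherent.isProper_projSpace_toSpec N k
    infer_instance
  have hO : RefHull.IsRef1 (Coh.structureModule X) := RefHullLib.isRef1_structureModule
  have htop : ∀ F : X.Modules, Coh.IsCoh F → Cyc.CohLe δ ((s + 2 : ℕ) : ℤ) F := fun F => cohLe_top hδ.2.2 hδη
  have hx : cl δ ((s + 2 : ℕ) : ℤ) (Coh.structureModule X) - cl δ ((s + 2 : ℕ) : ℤ) ℒ ∈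
      Fil δ ((s + 2 : ℕ) : ℤ) (((s + 2 : ℕ) : ℤ) - 1) :=
    sub_mem_Fil_of_rankOne hδ.2.2 hδη hO.1 hℒ.1 hO.2.2 hℒ.2.2
  have hM : ∀ i, PicF.IsInvertible (M i) := fun i => isInvertible_of_inverse (hL i) (hLM i).some
  have h := prod_one_sub_mem hδ.2.2 hM Finset.univ (by omega) hx
  rw [map_sub, ← sum_subsets hM (htop _ hO.1), ← sum_subsets hM (htop _ hℒ.1), ← Finset.sum_sub_distrib,
    Finset.card_univ, Fintype.card_fin,
    show ((s + 2 : ℕ) : ℤ) - 1 - ((s + 1 : ℕ) : ℤ) = 0 by push_cast; ring] at h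
  simp only [← smul_sub] at h
  have h0 := (QuotientAddGroup.eq_zero_iff _).2 h
  refine Eq.trans ?_ h0
  simp only [toK0CohQuot_eq, ← QuotientAddGroup.mk_sub, ← QuotientAddGroup.mk_zsmul]
  exact (map_sum (QuotientAddGroup.mk' (Fil δ ((s + 2 : ℕ) : ℤ) 0)) _ _).symm

end Groth.Agent.S17926
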