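import Groth.Statements.S17929
import Groth.Agent.RefCh22.K0Filt
import Groth.Agent.S3233

set_option autoImplicit false
universe u
open CategoryTheory CategoryTheory.Limits AlgebraicGeometry
open RefCh

namespace Groth.Agent.S17929

open Groth.Agent.RefCh22 Groth.Agent.S3233

set_option linter.style.haveILetI false

/-- Let k be an algebraically closed field, X an integral normal scheme of dimension n = s + 2 admitting
a closed immersion into some P^N_k over k, δ a dimension function on X (Cyc.IsSetup) with δ(generic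
point) = n, L_1, …, L_s, A and B invertible O_X-modules with inverses M_1, …, M_s, A' and B' (so A'
⊗ B' is an inverse of A ⊗ B), and ℒ a coherent reflexive O_X-module of rank one (ℒ = O_X(-D)). For a
family (N_0, …, N_s) of modules put S_N(ℒ) = Σ_{I ⊆ {0, …, s}} (-1)^{|I|} ([N_I ⊗ O_X] - [N_I ⊗ ℒ])
in K(X) = K_0(Coh(X)) (classes KZero.clSub of coherent modules), N_I = ⊗_{i∈I} N_i, so that S_{(A',
M_1, …, M_s)}(O_X(-D)) = c_1(A) c_1(L_1) ⋯ c_1(L_s) · [O_D]. Then S_{(A' ⊗ B', M)}(ℒ) = S_{(A',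
M)}(ℒ) + S_{(B', M)}(ℒ): the K(X)-valued symbol c_1(L_0) c_1(L_1) ⋯ c_1(L_s) · [O_D] is additive,
hence ℤ-linear, in the invertible module L_0. -/
theorem result (k : Type u) [Field k] [IsAlgClosed k] (X : Scheme.{u}) [X.Over (Spec (CommRingCat.of k))]
    [AlgebraicGeometry.IsIntegral X] (hnorm : Pi1.IsNormalScheme X) (s : ℕ) (hdim : topologicalKrullDim X = (s + 2 : ℕ))
    (hproj : ∃ (N : ℕ) (ι : X ⟶ CohB1.ProjSpace N k), IsClosedImmersion ι ∧ ι ≫ CohB1.ProjSpace.toSpec N k = X ↘ Spec (CommRingCat.of k))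
    (δ : X → ℤ) (hδ : Cyc.IsSetup X δ) (hδη : δ (genericPoint X) = (s + 2 : ℕ))
    (L M : Fin s → X.Modules) (hL : ∀ i, PicF.IsInvertible (L i))
    (hLM : ∀ i, Nonempty (CohB1.tensorMod (L i) (M i) ≅ Coh.structureModule X))
    (A A' B B' : X.Modules) (hA : PicF.IsInvertible A) (hB : PicF.IsInvertible B)
    (hAA' : Nonempty (CohB1.tensorMod A A' ≅ Coh.structureModule X))
    (hBB' : Nonempty (CohB1.tensorMod B B' ≅ Coh.structureModule X))
    (ℒ : X.Modules) (hℒ : RefHull.IsRef1 ℒ) :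
    (∑ I : Finset (Fin (s + 1)), ((-1 : ℤ) ^ I.card) •
        (KZero.clSub (Cyc.CohLe δ (s + 2 : ℕ)) (CohB1.tensorMod (FGA.tensorList ((I.sort (· ≤ ·)).map (Fin.cons (CohB1.tensorMod A' B') M))) (Coh.structureModule X)) -
          KZero.clSub (Cyc.CohLe δ (s + 2 : ℕ)) (CohB1.tensorMod (FGA.tensorList ((I.sort (· ≤ ·)).map (Fin.cons (CohB1.tensorMod A' B') M))) ℒ))) =
      (∑ I : Finset (Fin (s + 1)), ((-1 : ℤ) ^ I.card) •
        (KZero.clSub (Cyc.CohLe δ (s + 2 : ℕ)) (CohB1.tensorMod (FGA.tensorList ((I.sort (· ≤ ·)).map (Fin.cons A' M))) (Coh.structureModule X)) -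
          KZero.clSub (Cyc.CohLe δ (s + 2 : ℕ)) (CohB1.tensorMod (FGA.tensorList ((I.sort (· ≤ ·)).map (Fin.cons A' M))) ℒ))) +
      (∑ I : Finset (Fin (s + 1)), ((-1 : ℤ) ^ I.card) •
        (KZero.clSub (Cyc.CohLe δ (s + 2 : ℕ)) (CohB1.tensorMod (FGA.tensorList ((I.sort (· ≤ ·)).map (Fin.cons B' M))) (Coh.structureModule X)) -
          KZero.clSub (Cyc.CohLe δ (s + 2 : ℕ)) (CohB1.tensorMod (FGA.tensorList ((I.sort (· ≤ ·)).map (Fin.cons B' M))) ℒ))) := by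
  haveI := hδ.1
  obtain ⟨N, ι, hι, hιp⟩ := hproj
  haveI := hι
  haveI : LocallyOfFiniteType (X ↘ Spec (CommRingCat.of k)) := by
    rw [← hιp]
    haveI := Groth.Agent.Coherent.isProper_projSpace_toSpec N k
    infer_instance
  have hO : RefHull.IsRef1 (Coh.structureModule X) := RefHullLib.isRef1_structureModule
  have htop : ∀ F : X.Modules, Coh.IsCoh F → Cyc.CohLe δ ((s + 2 : ℕ) : ℤ) F := fun F => cohLe_top hδ.2.2 hδη
  have hx : cl δ ((s + 2 : ℕ) : ℤ) (Coh.structureModule X) - cl δ ((s + 2 : ℕ) : ℤ) ℒ ∈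
      Fil δ ((s + 2 : ℕ) : ℤ) (((s + 2 : ℕ) : ℤ) - 1) :=
    sub_mem_Fil_of_rankOne hδ.2.2 hδη hO.1 hℒ.1 hO.2.2 hℒ.2.2
  have hM : ∀ i, PicF.IsInvertible (M i) := fun i => isInvertible_of_inverse (hL i) (hLM i).some
  have hA' : PicF.IsInvertible A' := isInvertible_of_inverse hA hAA'.some
  have hB' : PicF.IsInvertible B' := isInvertible_of_inverse hB hBB'.some
  have hC := AmpleLib.isInvertible_tensorMod hA' hB'
  have hcons : ∀ {Z : X.Modules}, PicF.IsInvertible Z → ∀ i, PicF.IsInvertible ((Fin.cons Z M : Fin (s + 1) → X.Modules) i) :=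
    fun {Z} hZ i => Fin.cases hZ (fun j => hM j) i
  let P := ∏ i, (1 - t δ ((s + 2 : ℕ) : ℤ) (hM i))
  let x := cl δ ((s + 2 : ℕ) : ℤ) (Coh.structureModule X) - cl δ ((s + 2 : ℕ) : ℤ) ℒ
  have key : ∀ {Z : X.Modules} (hZ : PicF.IsInvertible Z),
      (∑ I : Finset (Fin (s + 1)), ((-1 : ℤ) ^ I.card) •
        (cl δ ((s + 2 : ℕ) : ℤ) (CohB1.tensorMod (FGA.tensorList ((I.sort (· ≤ ·)).map (Fin.cons Z M))) (Coh.structureModule X)) -
          cl δ ((s + 2 : ℕ) : ℤ) (CohB1.tensorMod (FGA.tensorList ((I.sort (· ≤ ·)).map (Fin.cons Z M))) ℒ))) =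
      ((1 - t δ ((s + 2 : ℕ) : ℤ) hZ) * P).1 x := fun {Z} hZ => by
    simp only [smul_sub, Finset.sum_sub_distrib]
    rw [sum_subsets (hcons hZ) (htop _ hO.1), sum_subsets (hcons hZ) (htop _ hℒ.1), ← map_sub, Fin.prod_univ_succ]
    rfl
  have h0 : ∀ y, 0 ≤ δ y := nonneg_of_dim (X ↘ Spec (CommRingCat.of k)) hδ.2.2 hdim hδη
  have hP : P.1 x ∈ Fil δ ((s + 2 : ℕ) : ℤ) 1 := by
    have h := prod_one_sub_mem hδ.2.2 hM Finset.univ (by omega) hx
    rw [Finset.card_univ, Fintype.card_fin] at h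
    convert h using 2
    push_cast
    ring
  have h2 : ((1 - t δ ((s + 2 : ℕ) : ℤ) hA') * ((1 - t δ ((s + 2 : ℕ) : ℤ) hB') * P)).1 x = 0 := by
    have := one_sub_t_mem hδ.2.2 hA' (by omega) (one_sub_t_mem hδ.2.2 hB' (by omega) hP)
    rw [Fil_eq_bot h0 (by norm_num), AddSubgroup.mem_bot] at this
    exact this
  rw [key hC, key hA', key hB', t_tensor hA' hB' hC]
  have h3 : (1 - t δ ((s + 2 : ℕ) : ℤ) hA' * t δ ((s + 2 : ℕ) : ℤ) hB') * P =
      (1 - t δ ((s + 2 : ℕ) : ℤ) hA') * P + (1 - t δ ((s + 2 : ℕ) : ℤ) hB') * P -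
        (1 - t δ ((s + 2 : ℕ) : ℤ) hA') * ((1 - t δ ((s + 2 : ℕ) : ℤ) hB') * P) := by ring
  rw [h3, AddSubgroupClass.coe_sub, Subring.coe_add]
  show _ + _ - ((1 - t δ ((s + 2 : ℕ) : ℤ) hA') * ((1 - t δ ((s + 2 : ℕ) : ℤ) hB') * P)).1 x = _
  rw [h2, sub_zero]
  rfl

end Groth.Agent.S17929
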