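import Groth.Statements.S17933
import Mathlib
import Groth.Agent.MultCrvLib.Basic

set_option autoImplicit false
universe u
open MultCrv

namespace Groth.Agent.S17933

/-- Let R be a discrete valuation ring, n ≥ 1, A = R[X]/(X^n) with z the class of X, and M a finitely
generated A-module. Then M is torsion-free as an R-module if and only if the submodule M^(1) of
elements killed by z is a free R-module. (This is the statement at a closed point of the sheaf
statement: for a primitive multiple curve of multiplicity n the local ring at a closed point is of
the form R[X]/(X^n) with R the local ring of the reduced smooth curve, torsion-freeness is the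
absence of sections with finite support, and local freeness on the reduced curve is freeness of the
stalk; the row is stated for every discrete valuation ring R.) -/
theorem result (R : Type u) [CommRing R] [IsDomain R] [IsDiscreteValuationRing R] (n : ℕ) (hn : 1 ≤ n) (M : Type u) [AddCommGroup M] [Module (MultCrv.Rn R n) M] [Module R M] [IsScalarTower R (MultCrv.Rn R n) M] [Module.Finite (MultCrv.Rn R n) M] : Module.IsTorsionFree R M ↔ Module.Free R ↥(MultCrv.filt2 R n M 1) := by
  open Groth.Agent.MultCrvLib MultCrv in
    haveI : Module.Finite R M := finite_scalar (n := n) (M := M)
    constructor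
    · intro h
      haveI := h
      haveI : Module.Finite R ↥(filt2 R n M 1) := Module.Finite.of_injective
        ((filt2 R n M 1).subtype.restrictScalars R) Subtype.val_injective
      exact free_of_injective ((filt2 R n M 1).subtype.restrictScalars R) Subtype.val_injective
    · intro h
      haveI := h
      refine Module.IsTorsionFree.of_smul_eq_zero fun r m hm => ?_
      by_contra hh
      push Not at hh
      have hex : ∃ k, z R n ^ k • m = 0 := ⟨n, z_pow_smul_eq_zero le_rfl m⟩
      classical
      have hk := Nat.find_spec hex
      obtain ⟨k, hk'⟩ : ∃ k, Nat.find hex = k + 1 := by
        refine Nat.exists_eq_add_one.mpr (Nat.pos_of_ne_zero fun h0 => hh.2 ?_)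
        rw [h0, pow_zero, one_smul] at hk
        exact hk
      have hmem : z R n ^ k • m ∈ filt2 R n M 1 := by
        show z R n ^ 1 • z R n ^ k • m = 0
        rw [smul_smul, ← pow_add, Nat.add_comm, ← hk']
        exact hk
      have h2 : r • (⟨z R n ^ k • m, hmem⟩ : ↥(filt2 R n M 1)) = 0 := by
        ext
        show r • z R n ^ k • m = 0
        rw [smul_comm, hm, smul_zero]
      rcases smul_eq_zero.mp h2 with h3 | h3
      · exact hh.1 h3
      · exact Nat.find_min hex (by omega) (congrArg Subtype.val h3)
end Groth.Agent.S17933
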