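import Groth.Statements.S17940
import Mathlib
import Groth.Agent.MultCrvLib.QFree

set_option autoImplicit false
universe u
open MultCrv

namespace Groth.Agent.S17940

/-- Let R be a discrete valuation ring, n ≥ 1, A = R[X]/(X^n) with z the class of X, and M an A-module
that is quasi-free of type (m_1, …, m_n), i.e. isomorphic to the direct sum of m_i copies of
A/(z^i). Let φ be a surjective A-linear map from a finitely generated free module A^r onto M that is
bijective modulo z (the preimage of zM is zA^r). Then the kernel of φ is quasi-free of type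
(m_{n-1}, m_{n-2}, …, m_1, 0). (Statement at a closed point of the sheaf statement on a primitive
multiple curve of multiplicity n with local rings R[X]/(X^n), for the kernel of a surjection from a
vector bundle onto a quasi locally free sheaf that is an isomorphism on the reduced curve; stated
for every discrete valuation ring R.) -/
theorem result (R : Type u) [CommRing R] [IsDomain R] [IsDiscreteValuationRing R] (n : ℕ) (hn : 1 ≤ n) (m : Fin n → ℕ) (M : Type u) [AddCommGroup M] [Module (MultCrv.Rn R n) M] (hM : MultCrv.IsQuasiFreeOfType R n M m) (r : ℕ) (φ : (Fin r → MultCrv.Rn R n) →ₗ[MultCrv.Rn R n] M) (hφ : Function.Surjective φ) (hφz : ∀ f : Fin r → MultCrv.Rn R n, φ f ∈ MultCrv.filt R n M 1 → f ∈ MultCrv.filt R n (Fin r → MultCrv.Rn R n) 1) : MultCrv.IsQuasiFreeOfType R n ↥(LinearMap.ker φ) (MultCrv.revType n m) := by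
  open Groth.Agent.MultCrvLib MultCrv in
    obtain ⟨e⟩ := hM
    let ψ : ((Σ i : Fin n, Fin (m i)) → Rn R n) →ₗ[Rn R n] QFModel R n m :=
      (QFModel.equivPi R n m).symm.toLinearMap ∘ₗ cover (R := R) m
    let φ1 : (Fin r → Rn R n) →ₗ[Rn R n] QFModel R n m := e.toLinearMap ∘ₗ φ
    have hker : LinearMap.ker φ1 = LinearMap.ker φ := by
      rw [LinearMap.ker_comp, LinearEquiv.ker, Submodule.comap_bot]
    have hkerψ : LinearMap.ker ψ = LinearMap.ker (cover (R := R) m) := by
      rw [LinearMap.ker_comp, LinearEquiv.ker, Submodule.comap_bot]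
    obtain ⟨E⟩ := ker_equiv (R := R) (n := n) (Q := QFModel R n m) φ1 ψ (e.surjective.comp hφ)
      ((QFModel.equivPi R n m).symm.surjective.comp (cover_surjective m))
      (fun f hf => by
        obtain ⟨y, hy⟩ := hf
        refine hφz f ⟨e.symm y, e.injective ?_⟩
        show e (z R n ^ 1 • e.symm y) = e (φ f)
        rw [map_smul, LinearEquiv.apply_symm_apply]
        exact hy)
      (fun f hf => by
        obtain ⟨y, hy⟩ := hf
        exact cover_minimal m f ⟨QFModel.equivPi R n m y, hy⟩)
    exact ⟨(LinearEquiv.ofEq _ _ hker.symm).trans (E.trans ((LinearEquiv.ofEq _ _ (hkerψ.trans (range_kerMap m).symm)).trans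
      ((LinearEquiv.ofInjective _ (kerMap_injective m)).symm.trans (QFModel.equivPi R n (revType n m)).symm)))⟩
end Groth.Agent.S17940
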