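import Groth.Statements.S17945
import Mathlib
import Groth.Agent.MultCrvLib.Basic

set_option autoImplicit false
universe u
open MultCrv

namespace Groth.Agent.S17945

/-- Let R be a discrete valuation ring, n ≥ 1, A = R[X]/(X^n) with z the class of X, and φ : M → N an
A-linear map of finitely generated A-modules. Then φ is surjective if and only if the induced map
M/zM → N/zN is surjective, i.e. every element of N differs from an element of the image of φ by an
element of zN. The induced maps z^i M/z^(i+1) M → z^i N/z^(i+1) N, 1 ≤ i < n, are then surjective as
well; that immediate consequence, which the published statement includes, is not part of this row.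
(Statement at a closed point of the sheaf statement on a primitive multiple curve of multiplicity n
with local rings R[X]/(X^n), where M/zM is the stalk of the restriction to the reduced curve; stated
for every discrete valuation ring R.) -/
theorem result (R : Type u) [CommRing R] [IsDomain R] [IsDiscreteValuationRing R] (n : ℕ) (hn : 1 ≤ n) (M N : Type u) [AddCommGroup M] [Module (MultCrv.Rn R n) M] [Module.Finite (MultCrv.Rn R n) M] [AddCommGroup N] [Module (MultCrv.Rn R n) N] [Module.Finite (MultCrv.Rn R n) N] (φ : M →ₗ[MultCrv.Rn R n] N) : Function.Surjective φ ↔ ∀ v : N, ∃ u : M, v - φ u ∈ MultCrv.filt R n N 1 := by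
  open Groth.Agent.MultCrvLib MultCrv in
    constructor
    · intro h v
      obtain ⟨u, rfl⟩ := h v
      exact ⟨u, by rw [sub_self]; exact zero_mem _⟩
    · intro h
      have key : ∀ (k : ℕ) (v : N), ∃ u w, v = φ u + z R n ^ k • w := by
        intro k
        induction k with
        | zero => exact fun v => ⟨0, v, by rw [map_zero, zero_add, pow_zero, one_smul]⟩
        | succ k ih =>
          intro v
          obtain ⟨u, w, rfl⟩ := ih v
          obtain ⟨u', ⟨w', hw'⟩⟩ := h w
          refine ⟨u + z R n ^ k • u', w', ?_⟩
          simp only [LinearMap.smul_apply, LinearMap.id_apply, pow_one] at hw'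
          rw [map_add, map_smul, pow_succ, ← smul_smul, hw', smul_sub, add_assoc, add_sub_cancel]
      intro v
      obtain ⟨u, w, rfl⟩ := key n v
      exact ⟨u, by rw [z_pow_smul_eq_zero le_rfl w, add_zero]⟩
end Groth.Agent.S17945
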