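import Groth.Statements.S17949
import Groth.Agent.SphLib.Charts

set_option autoImplicit false
set_option linter.all false
set_option backward.isDefEq.respectTransparency.types false
set_option backward.isDefEq.respectTransparency false
universe u
open CategoryTheory AlgebraicGeometry Opposite
open HensSch

namespace Groth.Agent.S17949

/-- Let `X` be a Henselian scheme and let `U = Sph(A, I)`, `V = Sph(B, J)` be affine Henselian opens of
`X` (open immersions `iU`, `iV` of the affine Henselian spectra of Henselian pairs). Then every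
point of `U ∩ V` lies in an open subset of `X` which is at the same time the image of a
distinguished open `D(f) ∩ V(I)` of `U` and the image of a distinguished open `D(g) ∩ V(J)` of `V`. -/
theorem result (X : LocallyRingedSpace.{u}) (hX : HensSch.IsHensScheme X)
    (U V : LocallyRingedSpace.{u}) (iU : U ⟶ X) [LocallyRingedSpace.IsOpenImmersion iU]
    (iV : V ⟶ X) [LocallyRingedSpace.IsOpenImmersion iV]
    (A : Type u) [CommRing A] (I : Ideal A) [HenselianRing A I] (πU : U ⟶ HensSch.specLRS A)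
    (hU : HensSch.IsSph A I U πU)
    (B : Type u) [CommRing B] (J : Ideal B) [HenselianRing B J] (πV : V ⟶ HensSch.specLRS B)
    (hV : HensSch.IsSph B J V πV)
    (x : X) (hxU : x ∈ Set.range iU.base) (hxV : x ∈ Set.range iV.base) :
    ∃ (f : A) (g : B), x ∈ iU.base '' (HensSch.dOpen πU f : Set U) ∧
      iU.base '' (HensSch.dOpen πU f : Set U) = iV.base '' (HensSch.dOpen πV g : Set V) := by
  obtain ⟨u, rfl⟩ := hxU
  obtain ⟨w, hw⟩ := hxV
  let RV := Groth.Agent.SphLib.img iV ⊤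
  obtain ⟨f, huf, hf⟩ := Groth.Agent.SphLib.exists_dOpen_le πU hU.1 ((TopologicalSpace.Opens.map iU.base).obj RV) u
    ⟨w, trivial, hw⟩
  let WU := Groth.Agent.SphLib.img iU (HensSch.dOpen πU f)
  obtain ⟨g, hwg, hg⟩ := Groth.Agent.SphLib.exists_dOpen_le πV hV.1 ((TopologicalSpace.Opens.map iV.base).obj WU) w
    ⟨u, huf, hw.symm⟩
  let eV := RingEquiv.ofBijective _ (Groth.Agent.SphLib.bijective_pullRes iV (P := RV) rfl
    (Groth.Agent.SphLib.preimage_img iV ⊤).ge)
  let G := Groth.Agent.SphLib.pullRes πV ⊤ ⊤ (fun _ _ => trivial) ((Scheme.ΓSpecIso (CommRingCat.of B)).inv g)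
  let t := eV.symm G
  have hG : V.toRingedSpace.basicOpen G = HensSch.dOpen πV g :=
    (Groth.Agent.SphLib.basicOpen_pullRes πV ⊤ ⊤ _ _).trans ((top_inf_eq _).trans
      (congrArg (fun O => (TopologicalSpace.Opens.map πV.base).obj O) (basicOpen_eq_of_affine (R := CommRingCat.of B) g)))
  have ht : ∀ z, iV.base z ∈ X.toRingedSpace.basicOpen t ↔ z ∈ HensSch.dOpen πV g := fun z => by
    rw [← hG, ← eV.apply_symm_apply G]
    exact ⟨fun h => (Groth.Agent.SphLib.basicOpen_pullRes iV RV ⊤ _ t).symm.le ⟨trivial, h⟩,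
      fun h => ((Groth.Agent.SphLib.basicOpen_pullRes iV RV ⊤ _ t).le h).2⟩
  let b := Groth.Agent.SphLib.pullRes iU RV (HensSch.dOpen πU f) hf t
  have hI : ∀ a ∈ I, U.toRingedSpace.basicOpen (HensSch.secMap πU (PrimeSpectrum.basicOpen f) a) = ⊥ := fun a ha => by
    rw [Groth.Agent.SphLib.basicOpen_secMap, eq_bot_iff]
    rintro z ⟨-, hz⟩
    have : πU.base z ∈ PrimeSpectrum.zeroLocus (I : Set A) := hU.2.1 ▸ ⟨z, rfl⟩
    exact (hz (this ha)).elim
  obtain ⟨a, n, hab⟩ := Groth.Agent.SphLib.exists_sub_mem_vanI (hU.2.2 f) hI b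
  have key : ∀ z, z ∈ HensSch.dOpen πU (f * a) ↔
      z ∈ HensSch.dOpen πU f ∧ iU.base z ∈ X.toRingedSpace.basicOpen t := fun z => by
    have hm : z ∈ HensSch.dOpen πU (f * a) ↔ z ∈ HensSch.dOpen πU f ∧ z ∈ HensSch.dOpen πU a := by
      show πU.base z ∈ PrimeSpectrum.basicOpen (f * a) ↔ _
      rw [PrimeSpectrum.basicOpen_mul]
      exact Iff.rfl
    rw [hm]
    refine and_congr_right fun hz => ?_
    have h1 := Groth.Agent.SphLib.isUnit_germ_iff_of_sub_mem hab hz
    rw [map_mul, map_pow, IsUnit.mul_iff] at h1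
    have hu : IsUnit ((U.presheaf.germ (HensSch.dOpen πU f) z hz) (HensSch.secMap πU (PrimeSpectrum.basicOpen f) f) ^ n) :=
      (((hU.2.2 f).1).map _).pow n
    have ha : z ∈ HensSch.dOpen πU a ↔ IsUnit (U.presheaf.germ (HensSch.dOpen πU f) z hz
        (HensSch.secMap πU (PrimeSpectrum.basicOpen f) a)) := by
      rw [← RingedSpace.mem_basicOpen U.toRingedSpace _ z hz]
      exact ⟨fun h => (Groth.Agent.SphLib.basicOpen_secMap πU f a).symm.le ⟨hz, h⟩,
        fun h => ((Groth.Agent.SphLib.basicOpen_secMap πU f a).le h).2⟩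
    rw [ha, ← h1]
    refine Iff.trans ⟨fun h => h.2, fun h => ⟨hu, h⟩⟩ ?_
    rw [← RingedSpace.mem_basicOpen U.toRingedSpace _ z hz]
    exact ⟨fun h => ((Groth.Agent.SphLib.basicOpen_pullRes iU RV _ hf t).le h).2,
      fun h => (Groth.Agent.SphLib.basicOpen_pullRes iU RV _ hf t).symm.le ⟨hz, h⟩⟩
  refine ⟨f * a, g, ⟨u, (key u).2 ⟨huf, hw ▸ (ht w).2 hwg⟩, rfl⟩, Set.Subset.antisymm ?_ ?_⟩
  · rintro _ ⟨z, hz, rfl⟩
    obtain ⟨h1, h2⟩ := (key z).1 hz
    obtain ⟨z', -, hz'⟩ := hf h1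
    exact ⟨z', (ht z').1 (hz'.symm ▸ h2), hz'⟩
  · rintro _ ⟨z', hz', rfl⟩
    obtain ⟨z, hz, he⟩ := hg hz'
    exact ⟨z, (key z).2 ⟨hz, he.symm ▸ (ht z').2 hz'⟩, he⟩

end Groth.Agent.S17949
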