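import Groth.Statements.S17950
import Groth.Agent.SphLib.TildeTop

set_option autoImplicit false
universe u
open CategoryTheory AlgebraicGeometry Opposite
open HensSch

namespace Groth.Agent.S17950

set_option backward.isDefEq.respectTransparency false
set_option backward.isDefEq.respectTransparency.types false
open Groth.Agent.SphLib

/-- For a Henselian pair `(A, I)` with affine Henselian spectrum `(X, π)`, the functor `M ↦ M~` from
`A`-modules to `O_X`-modules (here: `M~` on `Spec A` pulled back along `π`) is fully faithful. -/
theorem result (A : Type u) [CommRing A] (I : Ideal A) [HenselianRing A I]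
    (X : LocallyRingedSpace.{u}) (π : X ⟶ HensSch.specLRS A) (hX : HensSch.IsSph A I X π) :
    (HensSch.sphTildeFunctor π).Full ∧ (HensSch.sphTildeFunctor π).Faithful := by
  let adj := (tilde.adjunction (R := CommRingCat.of A)).comp (HensSch.pullPushAdj π)
  have h : ∀ M, IsIso (adj.unit.app M) := fun M => by
    rw [ConcreteCategory.isIso_iff_bijective]
    have e : ∀ m, (adj.unit.app M).hom m = SphT.eta π M m := fun m => by
      rw [Adjunction.comp_unit_app]
      rfl
    obtain ⟨hi, hs⟩ := SphT.bijective_eta hX M
    exact ⟨fun a b hab => hi ((e a).symm.trans (hab.trans (e b))),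
      fun y => (hs y).elim fun m hm => ⟨m, (e m).trans hm⟩⟩
  have : IsIso adj.unit := NatIso.isIso_of_isIso_app _
  exact ⟨adj.fullyFaithfulLOfIsIsoUnit.full, adj.fullyFaithfulLOfIsIsoUnit.faithful⟩

end Groth.Agent.S17950
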