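import Groth.Statements.S17956
import Groth.Agent.SphLib.TildeSec

set_option autoImplicit false
universe u
open CategoryTheory AlgebraicGeometry Opposite
open HensSch

namespace Groth.Agent.S17956

set_option backward.isDefEq.respectTransparency false
set_option backward.isDefEq.respectTransparency.types false
open Groth.Agent.SphLib
open scoped TensorProduct

/-- Let `(A, I)` be a Henselian pair with affine Henselian spectrum `(X, π)`, `M` an `A`-module and `f :
A`; put `U = π⁻¹ D(f)` (the distinguished open `D(f) ∩ V(I)`), let `S = O_X(U)` with its ring map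
from `A`, and let `θ : M → Γ(U, M~)` be the canonical map (unit of the tilde adjunction on `Spec A`,
then the unit of `π^* ⊣ π_*`, then restriction to `U`), where `M~` on `X` is the pullback along `π`
of `M~` on `Spec A`. Then `Γ(U, M~)` together with `θ` is the base change of `M` along `A → S`: for
every `S`-module `P` and every additive map `ψ : M → P` with `ψ (a • m) = a • ψ m` (with `A` acting
on `P` through `S`) there is exactly one `S`-linear `χ : Γ(U, M~) → P` with `χ ∘ θ = ψ`.
Equivalently `S ⊗_A M → Γ(U, M~)` is bijective, i.e. the sections of `M~` over `D(f) ∩ V(I)` are `M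
⊗_A O_X(D(f) ∩ V(I))`. -/
theorem result (A : Type u) [CommRing A] (I : Ideal A) [HenselianRing A I]
    (X : LocallyRingedSpace.{u}) (π : X ⟶ HensSch.specLRS A) (hX : HensSch.IsSph A I X π)
    (M : ModuleCat.{u} A) (f : A)
    (P : Type u) [AddCommGroup P] [Module ((ModSite.ringSh X.sheaf).obj.obj (op (HensSch.dOpen π f))) P]
    (ψ : M →+ P)
    (hψ : ∀ (a : A) (m : M), ψ (a • m) =
      HSMul.hSMul (α := ((ModSite.ringSh X.sheaf).obj.obj (op (HensSch.dOpen π f)) : Type u))
        (HensSch.secMap π (PrimeSpectrum.basicOpen f) a) (ψ m)) :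
    ∃! χ : ((HensSch.sphTilde π M).val.obj (op (HensSch.dOpen π f))) →ₗ[(ModSite.ringSh X.sheaf).obj.obj (op (HensSch.dOpen π f))] P,
      ∀ m : M, χ (((HensSch.sphTilde π M).val.map ((TopologicalSpace.Opens.map π.base).map (homOfLE (le_top : PrimeSpectrum.basicOpen f ≤ ⊤))).op).hom
          ((((HensSch.pullPushAdj π).unit.app (tilde M)).val.app (op ⊤)).hom
            (((tilde.adjunction (R := CommRingCat.of A)).unit.app M).hom m))) = ψ m := by
  let U : TopologicalSpace.Opens (PrimeSpectrum A) := PrimeSpectrum.basicOpen f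
  let inst : Module ((ModSite.ringSh X.sheaf).obj.obj (op (HensSch.dOpen π f))) P := inferInstance
  let : Module (SphT.Sec π (PrimeSpectrum.basicOpen f)) P := inst
  let : Module A P := Module.compHom P (algebraMap A (SphT.Sec π U))
  have : IsScalarTower A (SphT.Sec π U) P := ⟨fun a r x => by
    show (a • r) • x = algebraMap A (SphT.Sec π U) a • (r • x)
    rw [Algebra.smul_def, mul_smul]⟩
  let ψl : M →ₗ[A] P := { toFun := ψ, map_add' := map_add ψ, map_smul' := hψ }
  let e := LinearEquiv.ofBijective (SphT.theta π M U) (SphT.bijective_theta hX M f)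
  let χ : SphT.NSec π M U →ₗ[SphT.Sec π U] P := (ψl.liftBaseChange (SphT.Sec π U)).comp e.symm.toLinearMap
  have he : ∀ m, e.symm (SphT.resN π M le_top (SphT.eta π M m)) = (1 : SphT.Sec π U) ⊗ₜ[A] (m : M) := fun m => by
    rw [LinearEquiv.symm_apply_eq]
    exact ((SphT.theta_tmul π M U 1 m).trans (one_smul _ _)).symm
  refine ⟨χ, fun m => ?_, fun χ' h => ?_⟩
  · show ψl.liftBaseChange (SphT.Sec π U) (e.symm (SphT.resN π M le_top (SphT.eta π M m))) = ψ m
    rw [he, LinearMap.liftBaseChange_tmul, one_smul]
    rfl
  · let χ'' : SphT.NSec π M U →ₗ[SphT.Sec π U] P := χ'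
    show χ'' = χ
    suffices χ''.comp e.toLinearMap = ψl.liftBaseChange (SphT.Sec π U) from
      LinearMap.ext fun x => by
        have := LinearMap.congr_fun this (e.symm x)
        rw [LinearMap.comp_apply, LinearEquiv.coe_coe, e.apply_symm_apply] at this
        exact this
    refine TensorProduct.AlgebraTensorModule.ext fun r m => ?_
    rw [LinearMap.comp_apply, LinearMap.liftBaseChange_tmul,
      show e.toLinearMap (r ⊗ₜ[A] m) = r • SphT.resN π M le_top (SphT.eta π M m) from SphT.theta_tmul π M U r m,
      map_smul]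
    exact congrArg (fun y => r • y) (h m)

end Groth.Agent.S17956
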