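import Groth.Statements.S17957
import Groth.Agent.SphLib.TildePushMod

set_option autoImplicit false
universe u
open CategoryTheory AlgebraicGeometry Opposite
open HensSch

namespace Groth.Agent.S17957

set_option backward.isDefEq.respectTransparency false
set_option backward.isDefEq.respectTransparency.types false
open Groth.Agent.SphLib

/-- Let `(A, I) → (B, IB)` be a map of Henselian pairs with `B` module-finite over `A`, let `(X, πA)`
and `(Y, πB)` be their affine Henselian spectra and `φ : Y ⟶ X` the morphism lying over `Spec B ⟶
Spec A`. For a `B`-module `N` with underlying `A`-module `N_A`, there is an isomorphism `(N_A)~ ≅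
φ_* (N~)` of `O_X`-modules which, on global sections, sends the canonical image of each `n ∈ N` in
`Γ(X, (N_A)~)` to its canonical image in `Γ(Y, N~) = Γ(X, φ_* N~)` (canonical images: tilde unit
followed by the unit of `π^* ⊣ π_*`). Since maps out of `(N_A)~` are determined by their effect on
these images, this isomorphism is the natural map `(N_A)~ → φ_* (N~)`, and the content is that the
natural map is an isomorphism. -/
theorem result (A B : Type u) [CommRing A] [CommRing B] [Algebra A B]
    [Module.Finite A B] (I : Ideal A) [HenselianRing A I] [HenselianRing B (I.map (algebraMap A B))]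
    (X Y : LocallyRingedSpace.{u}) (πA : X ⟶ HensSch.specLRS A) (hX : HensSch.IsSph A I X πA)
    (πB : Y ⟶ HensSch.specLRS B) (hY : HensSch.IsSph B (I.map (algebraMap A B)) Y πB)
    (φ : Y ⟶ X) (hφ : φ ≫ πA = πB ≫ (Spec.map (CommRingCat.ofHom (algebraMap A B))).toLRSHom)
    (N : ModuleCat.{u} B) :
    ∃ e : HensSch.sphTilde πA ((ModuleCat.restrictScalars (algebraMap A B)).obj N) ≅
        (HensSch.pushMod φ).obj (HensSch.sphTilde πB N),
      ∀ n : N, (e.hom.val.app (op ⊤)).hom
          ((((HensSch.pullPushAdj πA).unit.app (tilde ((ModuleCat.restrictScalars (algebraMap A B)).obj N))).val.app (op ⊤)).hom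
            (((tilde.adjunction (R := CommRingCat.of A)).unit.app ((ModuleCat.restrictScalars (algebraMap A B)).obj N)).hom n))
        = (((HensSch.pullPushAdj πB).unit.app (tilde N)).val.app (op ⊤)).hom
            (((tilde.adjunction (R := CommRingCat.of B)).unit.app N).hom n) := by
  have := SphT.isIso_pushNat (I := I) hφ N hX hY
  exact ⟨asIso (SphT.pushNat hφ N), fun n => SphT.pushNat_eta hφ N n⟩

end Groth.Agent.S17957
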