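import Groth.Statements.S17958
import Groth.Agent.SphLib.TriangleH1
-- import your own Groth.Agent.* helpers here

set_option autoImplicit false
set_option linter.all false
open CategoryTheory AlgebraicGeometry Opposite
open HensSch

namespace Groth.Agent.S17958

open Groth.Agent.SphLib Groth.Agent.SphLib.Triangle TopologicalSpace

section Aux

abbrev PP : Type := MvPolynomial (Fin 2) ℂ

/-- The three lines. -/
noncomputable def lx : PP := MvPolynomial.X 0
noncomputable def ly : PP := MvPolynomial.X 1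
noncomputable def lz : PP := MvPolynomial.X 0 + MvPolynomial.X 1 - 1

/-- Restriction to a line. -/
noncomputable def onLine (a b : Polynomial ℂ) : PP →+* Polynomial ℂ :=
  MvPolynomial.eval₂Hom Polynomial.C ![a, b]

/-- Evaluation at a point. -/
noncomputable def atPt (a b : ℂ) : PP →+* ℂ := MvPolynomial.eval₂Hom (RingHom.id ℂ) ![a, b]

theorem ker_onLine_le (a b : Polynomial ℂ) (c : ℂ) :
    RingHom.ker (onLine a b) ≤ RingHom.ker (atPt (a.eval c) (b.eval c)) := by
  have e : (Polynomial.evalRingHom c).comp (onLine a b) = atPt (a.eval c) (b.eval c) := by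
    refine MvPolynomial.ringHom_ext (fun r => by simp [onLine, atPt]) fun i => ?_
    fin_cases i <;> simp [onLine, atPt]
  intro x hx
  rw [RingHom.mem_ker] at hx ⊢
  rw [← e, RingHom.comp_apply, hx, map_zero]

theorem span_le {S : Type} [CommRing S] (φ : PP →+* S) (h : φ lx * φ ly * φ lz = 0) :
    Ideal.span {lx * ly * lz} ≤ RingHom.ker φ := by
  rw [Ideal.span_le, Set.singleton_subset_iff, SetLike.mem_coe, RingHom.mem_ker, map_mul, map_mul, h]

variable {A : Type} [CommRing A] [Algebra PP A] {K : Type} [Field K] [IsAlgClosed K] [Algebra A K]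
  (hinj : Function.Injective (algebraMap A K))
  (hA : ∀ x : K, IsIntegral A x → x ∈ (algebraMap A K).range)
  {X : LocallyRingedSpace.{0}} {π : X ⟶ HensSch.specLRS A}
  (hX : HensSch.IsSph A ((Ideal.span {lx * ly * lz}).map (algebraMap PP A)) X π)

include hX in
theorem exists_point (q : Ideal A) [q.IsPrime] (h : Ideal.span {lx * ly * lz} ≤ q.comap (algebraMap PP A)) :
    ∃ w : X, (π.base w).asIdeal = q := by
  obtain ⟨w, hw⟩ : (⟨q, inferInstance⟩ : PrimeSpectrum A) ∈ Set.range π.base :=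
    hX.2.1.symm ▸ (PrimeSpectrum.mem_zeroLocus _ _).2 (Ideal.map_le_iff_le_comap.2 h)
  exact ⟨w, congrArg PrimeSpectrum.asIdeal hw⟩

include hX in
theorem mem_of_le (U : Opens X) {v w : X} (hw : w ∈ U) (h : (π.base v).asIdeal ≤ (π.base w).asIdeal) : v ∈ U :=
  (hX.1.isInducing.specializes_iff.1
    ((PrimeSpectrum.le_iff_specializes (π.base v) (π.base w)).1 h)).mem_open U.2 hw

theorem retraction (K : Type) [Field K] [CharZero K] : ∃ r : K →ₗ[ℚ] ℚ, r 1 = 1 := by
  obtain ⟨r, hr⟩ := LinearMap.exists_leftInverse_of_injective (LinearMap.toSpanSingleton ℚ K 1)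
    (LinearMap.ker_eq_bot.2 fun a b h => by
      simpa [LinearMap.toSpanSingleton_apply, Rat.smul_one_eq_cast] using h)
  refine ⟨r, ?_⟩
  have := LinearMap.congr_fun hr 1
  simpa [LinearMap.toSpanSingleton_apply] using this

end Aux


/-- Let `R` be a Henselization of the pair `(ℂ[x, y], (x y (x + y − 1)))` (with `x, y` the two variables
of `MvPolynomial (Fin 2) ℂ`), let `K` be an algebraic closure of the fraction field `ℂ(x, y)` into
which `R` is embedded over `ℂ[x, y]`, let `A` be the integral closure of `R` in `K` and `I = x y (x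
+ y − 1) A`. Then `(A, I)` is a Henselian pair and, for `(X, π)` the affine Henselian spectrum of
`(A, I)`, the first sheaf cohomology group `H¹(X, O_X)` is nonzero (so the vanishing of higher
cohomology of quasi-coherent modules on affine Henselian spectra fails in characteristic zero). -/
theorem result
    (R : Type) [CommRing R] [Algebra (MvPolynomial (Fin 2) ℂ) R]
    (hR : Hens2.IsPairHenselization (MvPolynomial (Fin 2) ℂ)
      (Ideal.span {MvPolynomial.X 0 * MvPolynomial.X 1 * (MvPolynomial.X 0 + MvPolynomial.X 1 - 1)}) R)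
    (K : Type) [Field K] [Algebra (MvPolynomial (Fin 2) ℂ) K]
    [NoZeroSMulDivisors (MvPolynomial (Fin 2) ℂ) K] [IsAlgClosure (MvPolynomial (Fin 2) ℂ) K]
    [Algebra R K] [IsScalarTower (MvPolynomial (Fin 2) ℂ) R K]
    (hinj : Function.Injective (algebraMap R K))
    (X : LocallyRingedSpace.{0}) (π : X ⟶ HensSch.specLRS (integralClosure R K))
    (hX : HensSch.IsSph (integralClosure R K)
      (Ideal.map (algebraMap R (integralClosure R K))
        (Ideal.map (algebraMap (MvPolynomial (Fin 2) ℂ) R)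
          (Ideal.span {MvPolynomial.X 0 * MvPolynomial.X 1 * (MvPolynomial.X 0 + MvPolynomial.X 1 - 1)})))
      X π) :
    HenselianRing (integralClosure R K)
      (Ideal.map (algebraMap R (integralClosure R K))
        (Ideal.map (algebraMap (MvPolynomial (Fin 2) ℂ) R)
          (Ideal.span {MvPolynomial.X 0 * MvPolynomial.X 1 * (MvPolynomial.X 0 + MvPolynomial.X 1 - 1)}))) ∧
    Nontrivial (ModSite.HC X.sheaf (ModSite.unit X.sheaf) 1) := by
  let J : Ideal PP := Ideal.span {lx * ly * lz}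
  have hJA : Ideal.map (algebraMap R (integralClosure R K)) (J.map (algebraMap PP R)) =
      J.map (algebraMap PP (integralClosure R K)) := by
    rw [Ideal.map_map, ← IsScalarTower.algebraMap_eq]
  haveI : HenselianRing R (J.map (algebraMap PP R)) := hR.1
  refine ⟨HenselLib.henselianRing_of_isIntegral (J.map (algebraMap PP R)) (integralClosure R K), ?_⟩
  haveI : IsAlgClosed K := IsAlgClosure.isAlgClosed PP
  have hPK : Function.Injective (algebraMap PP K) := fun a b h => by
    have h' : (a - b) • (1 : K) = 0 := by rw [← Algebra.algebraMap_eq_smul_one, map_sub, h, sub_self]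
    exact sub_eq_zero.1 ((smul_eq_zero.1 h').resolve_right one_ne_zero)
  haveI : FaithfulSMul PP K := (faithfulSMul_iff_algebraMap_injective _ _).2 hPK
  haveI : CharZero K := charZero_of_injective_ringHom hPK
  have hX' : HensSch.IsSph (integralClosure R K) (J.map (algebraMap PP (integralClosure R K))) X π := hJA ▸ hX
  clear hX
  have hA : ∀ x : K, IsIntegral (integralClosure R K) x → x ∈ (algebraMap (integralClosure R K) K).range :=
    fun x hx => ⟨⟨x, isIntegral_trans x hx⟩, rfl⟩
  have hAK : Function.Injective (algebraMap (integralClosure R K) K) := fun a b h => Subtype.ext h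
  by_contra hnt
  rw [not_nontrivial_iff_subsingleton] at hnt
  obtain ⟨ret, hret⟩ := retraction K
  let al := algebraMap PP (integralClosure R K)
  let U₀ : Opens X := HensSch.dOpen π (al lx)
  let U₁ : Opens X := HensSch.dOpen π (al ly)
  let U₂ : Opens X := HensSch.dOpen π (al lz)
  have hmemI : ∀ w : X, J ≤ (π.base w).asIdeal.comap al := fun w => by
    refine Ideal.map_le_iff_le_comap.1 ?_
    exact (PrimeSpectrum.mem_zeroLocus _ _).1 (hX'.2.1 ▸ ⟨w, rfl⟩)
  have hcov : ∀ w : X, w ∈ U₀ ∨ w ∈ U₁ ∨ w ∈ U₂ := fun w => by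
    by_contra h
    push Not at h
    obtain ⟨h0, h1, h2⟩ := h
    have h0' : al lx ∈ (π.base w).asIdeal := not_not.1 h0
    have h1' : al ly ∈ (π.base w).asIdeal := not_not.1 h1
    have h2' : al lz ∈ (π.base w).asIdeal := not_not.1 h2
    have := sub_mem (add_mem h0' h1') h2'
    rw [← map_add, ← map_sub, show lx + ly - lz = 1 from by rw [lx, ly, lz, sub_sub_cancel], map_one] at this
    exact (π.base w).isPrime.ne_top ((Ideal.eq_top_iff_one _).2 this)
  have h3 : U₀ ⊓ U₁ ⊓ U₂ = ⊥ := le_bot_iff.1 fun w hw => by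
    have := hmemI w (Ideal.mem_span_singleton_self (lx * ly * lz))
    rw [Ideal.mem_comap, map_mul, map_mul] at this
    rcases (π.base w).isPrime.mem_or_mem this with h | h
    · rcases (π.base w).isPrime.mem_or_mem h with h | h
      · exact hw.1.1 h
      · exact hw.1.2 h
    · exact hw.2 h
  let F : CohTop.Ab X.toTopCat := ModSite.toAb (ModSite.unit X.sheaf)
  obtain ⟨g₀, g₁, g₂, e01, e02, e12⟩ := exists_cochain F hnt U₀ U₁ U₂ hcov h3
    (show X.presheaf.obj (op (U₀ ⊓ U₁)) from 1)
  let val : ∀ (U : Opens X) (s : X.presheaf.obj (op U)) (w : X), w ∈ U → ℚ := fun U s w hw =>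
    ret (kap K hAK hA hX' w (X.presheaf.germ U w hw s))
  let G₀ := val U₀ g₀
  let G₁ := val U₁ g₁
  let G₂ := val U₂ g₂
  have hg : ∀ {U V : Opens X} (h : V ≤ U) (s : X.presheaf.obj (op U)) (w : X) (hw : w ∈ V),
      X.presheaf.germ V w hw (X.presheaf.map (homOfLE h).op s) = X.presheaf.germ U w (h hw) s :=
    fun h s w hw => TopCat.Presheaf.germ_res_apply _ _ _ hw s
  have r01 : ∀ w (h : w ∈ U₀) (h' : w ∈ U₁), G₀ w h - G₁ w h' = 1 := fun w h h' => by
    have e : X.presheaf.map (homOfLE (inf_le_left : U₀ ⊓ U₁ ≤ U₀)).op g₀ -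
        X.presheaf.map (homOfLE (inf_le_right : U₀ ⊓ U₁ ≤ U₁)).op g₁ = (1 : X.presheaf.obj (op (U₀ ⊓ U₁))) := e01
    have := congrArg (X.presheaf.germ (U₀ ⊓ U₁) w ⟨h, h'⟩) e
    rw [map_sub, map_one] at this
    have this' := (congrArg₂ (fun a b => a - b) (hg inf_le_left g₀ w ⟨h, h'⟩) (hg inf_le_right g₁ w ⟨h, h'⟩)).symm.trans this
    show ret (kap K hAK hA hX' w _) - ret (kap K hAK hA hX' w _) = 1
    rw [← map_sub, ← map_sub, this', map_one, hret]
  have r02 : ∀ w (h : w ∈ U₀) (h' : w ∈ U₂), G₀ w h = G₂ w h' := fun w h h' => by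
    have e : X.presheaf.map (homOfLE (inf_le_left : U₀ ⊓ U₂ ≤ U₀)).op g₀ =
        X.presheaf.map (homOfLE (inf_le_right : U₀ ⊓ U₂ ≤ U₂)).op g₂ := e02
    have := congrArg (X.presheaf.germ (U₀ ⊓ U₂) w ⟨h, h'⟩) e
    exact congrArg (fun t => ret (kap K hAK hA hX' w t))
      ((hg inf_le_left _ w ⟨h, h'⟩).symm.trans (this.trans (hg inf_le_right _ w ⟨h, h'⟩)))
  have r12 : ∀ w (h : w ∈ U₁) (h' : w ∈ U₂), G₁ w h = G₂ w h' := fun w h h' => by
    have e : X.presheaf.map (homOfLE (inf_le_left : U₁ ⊓ U₂ ≤ U₁)).op g₁ =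
        X.presheaf.map (homOfLE (inf_le_right : U₁ ⊓ U₂ ≤ U₂)).op g₂ := e12
    have := congrArg (X.presheaf.germ (U₁ ⊓ U₂) w ⟨h, h'⟩) e
    exact congrArg (fun t => ret (kap K hAK hA hX' w t))
      ((hg inf_le_left _ w ⟨h, h'⟩).symm.trans (this.trans (hg inf_le_right _ w ⟨h, h'⟩)))
  have hconst : ∀ (U : Opens X) (s : X.presheaf.obj (op U)) (v w : X) (hv : v ∈ U) (hw : w ∈ U),
      (π.base v).asIdeal ≤ (π.base w).asIdeal → val U s v hv = val U s w hw := fun U s v w hv hw h => by
    obtain ⟨W, hWU, hwW, hW⟩ := exists_nbhd_kap_eq K hAK hA hX' U s w hw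
    exact congrArg ret (hW v (mem_of_le hX' W hwW h))
  -- finitely many values
  have hfin : Set.Finite (Set.range fun w : {w : X // w ∈ U₀} => G₀ w.1 w.2) := by
    have hcl : Topology.IsClosedEmbedding π.base :=
      ⟨hX'.1, hX'.2.1.symm ▸ PrimeSpectrum.isClosed_zeroLocus _⟩
    have hcpt : IsCompact (U₀ : Set X) :=
      hcl.isCompact_preimage (PrimeSpectrum.isCompact_basicOpen (al lx))
    haveI : CompactSpace {w : X // w ∈ U₀} := isCompact_iff_compactSpace.1 hcpt
    refine IsLocallyConstant.range_finite ?_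
    refine (IsLocallyConstant.iff_exists_open _).2 fun w => ?_
    obtain ⟨W, hWU, hwW, hW⟩ := exists_nbhd_kap_eq K hAK hA hX' U₀ g₀ w.1 w.2
    exact ⟨Subtype.val ⁻¹' (W : Set X), W.2.preimage continuous_subtype_val, hwW,
      fun v hv => congrArg ret (hW v.1 hv)⟩
  -- the primes below
  let px : Ideal PP := RingHom.ker (onLine 0 Polynomial.X)
  let py : Ideal PP := RingHom.ker (onLine Polynomial.X 0)
  let pz : Ideal PP := RingHom.ker (onLine Polynomial.X (1 - Polynomial.X))
  haveI : px.IsPrime := RingHom.ker_isPrime _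
  haveI : py.IsPrime := RingHom.ker_isPrime _
  haveI : pz.IsPrime := RingHom.ker_isPrime _
  let v01 : Ideal PP := RingHom.ker (atPt 0 0)
  let v02 : Ideal PP := RingHom.ker (atPt 0 1)
  let v12 : Ideal PP := RingHom.ker (atPt 1 0)
  haveI : v01.IsPrime := RingHom.ker_isPrime _
  haveI : v02.IsPrime := RingHom.ker_isPrime _
  haveI : v12.IsPrime := RingHom.ker_isPrime _
  have hev : ∀ c : ℂ, (1 - Polynomial.X : Polynomial ℂ).eval c = 1 - c := fun c =>
    (Polynomial.eval_sub (R := ℂ) (p := 1) (q := Polynomial.X) (x := c)).trans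
      (congrArg₂ (fun a b => a - b) Polynomial.eval_one Polynomial.eval_X)
  have hz02 : pz ≤ v02 := fun t ht => by
    have := ker_onLine_le Polynomial.X (1 - Polynomial.X) 0 ht
    rwa [Polynomial.eval_X, hev, sub_zero] at this
  have hx02 : px ≤ v02 := by simpa using ker_onLine_le 0 Polynomial.X 1
  have hx01 : px ≤ v01 := by simpa using ker_onLine_le 0 Polynomial.X 0
  have hy01 : py ≤ v01 := by simpa using ker_onLine_le Polynomial.X 0 0
  have hy12 : py ≤ v12 := by simpa using ker_onLine_le Polynomial.X 0 1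
  have hz12 : pz ≤ v12 := fun t ht => by
    have := ker_onLine_le Polynomial.X (1 - Polynomial.X) 1 ht
    rwa [Polynomial.eval_X, hev, sub_self] at this
  have hpx : J ≤ px := span_le _ (by simp [onLine, lx, ly, lz])
  have hpy : J ≤ py := span_le _ (by simp [onLine, lx, ly, lz])
  have hpz : J ≤ pz := span_le _ (by simp [onLine, lx, ly, lz])
  have nzx : lx ∉ pz := by simp [pz, onLine, lx, Polynomial.X_ne_zero]
  have nzy : ly ∉ pz := by
    intro h
    have := congrArg (Polynomial.eval 0) (show onLine Polynomial.X (1 - Polynomial.X) ly = 0 from h)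
    simp [onLine, ly] at this
  have nxy : ly ∉ px := by simp [px, onLine, ly, Polynomial.X_ne_zero]
  have nxz : lz ∉ px := by
    intro h
    have := congrArg (Polynomial.eval 0) (show onLine 0 Polynomial.X lz = 0 from h)
    simp [onLine, lz] at this
  have nyx : lx ∉ py := by simp [py, onLine, lx, Polynomial.X_ne_zero]
  have nyz : lz ∉ py := by
    intro h
    have := congrArg (Polynomial.eval 0) (show onLine Polynomial.X 0 lz = 0 from h)
    simp [onLine, lz] at this
  have n02 : ly ∉ v02 := by simp [v02, atPt, ly]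
  have n01 : lz ∉ v01 := by simp [v01, atPt, lz]
  have n12 : lx ∉ v12 := by simp [v12, atPt, lx]
  have hmem : ∀ {w : X} {p : Ideal PP} {l : PP}, (π.base w).asIdeal.comap al = p → l ∉ p →
      w ∈ HensSch.dOpen π (al l) := by
    rintro w p l rfl hl
    exact hl
  have up : ∀ (w : X) (p p' : Ideal PP) [p'.IsPrime], (π.base w).asIdeal.comap al = p → p ≤ p' →
      ∃ w' : X, (π.base w).asIdeal ≤ (π.base w').asIdeal ∧ (π.base w').asIdeal.comap al = p' := by
    intro w p p' _ hp hle
    haveI := (π.base w).isPrime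
    obtain ⟨q, hq, hwq, hqp⟩ := exists_le_over J hR (π.base w).asIdeal p' (hmemI w) (hp.trans_le hle)
    obtain ⟨w', hw'⟩ := exists_point hX' q ((hmemI w).trans (Ideal.comap_mono hwq))
    exact ⟨w', hw'.symm ▸ hwq, hw'.symm ▸ hqp⟩
  have down : ∀ (w : X) (p p' : Ideal PP) [p'.IsPrime], (π.base w).asIdeal.comap al = p → J ≤ p' → p' ≤ p →
      ∃ w' : X, (π.base w').asIdeal ≤ (π.base w).asIdeal ∧ (π.base w').asIdeal.comap al = p' := by
    intro w p p' _ hp hJp hle
    haveI := (π.base w).isPrime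
    obtain ⟨q, hq, hwq, hqp⟩ := exists_le_under J hR (π.base w).asIdeal p' hJp (hle.trans_eq hp.symm)
    obtain ⟨w', hw'⟩ := exists_point hX' q (hqp.symm ▸ hJp)
    exact ⟨w', hw'.symm ▸ hwq, hw'.symm ▸ hqp⟩
  -- one turn around the triangle
  have step : ∀ (w : X) (h : (π.base w).asIdeal.comap al = pz),
      ∃ (w' : X) (h' : (π.base w').asIdeal.comap al = pz),
        G₀ w' (hmem h' nzx) = G₀ w (hmem h nzx) - 1 := by
    intro w h
    obtain ⟨m, hwm, hm⟩ := up w pz v02 h hz02
    obtain ⟨a, ham, ha⟩ := down m v02 px hm hpx hx02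
    obtain ⟨n, han, hn⟩ := up a px v01 ha hx01
    obtain ⟨b, hbn, hb⟩ := down n v01 py hn hpy hy01
    obtain ⟨k, hbk, hk⟩ := up b py v12 hb hy12
    obtain ⟨w', hw'k, hw'⟩ := down k v12 pz hk hpz hz12
    refine ⟨w', hw', ?_⟩
    calc G₀ w' (hmem hw' nzx) = G₀ k (hmem hk n12) := hconst U₀ g₀ w' k _ _ hw'k
      _ = G₀ b (hmem hb nyx) := (hconst U₀ g₀ b k _ _ hbk).symm
      _ = G₂ b (hmem hb nyz) := r02 b _ _
      _ = G₂ n (hmem hn n01) := hconst U₂ g₂ b n _ _ hbn
      _ = G₂ a (hmem ha nxz) := (hconst U₂ g₂ a n _ _ han).symm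
      _ = G₁ a (hmem ha nxy) := (r12 a _ _).symm
      _ = G₁ m (hmem hm n02) := hconst U₁ g₁ a m _ _ ham
      _ = G₁ w (hmem h nzy) := (hconst U₁ g₁ w m _ _ hwm).symm
      _ = G₀ w (hmem h nzx) - 1 := by linarith [r01 w (hmem h nzx) (hmem h nzy)]
  obtain ⟨q₀, hq₀, hq₀p⟩ := exists_over J hR hinj pz hpz
  obtain ⟨w₀, hw₀⟩ := exists_point hX' q₀ (hq₀p.symm ▸ hpz)
  have hw₀p : (π.base w₀).asIdeal.comap al = pz := hw₀.symm ▸ hq₀p
  have hall : ∀ n : ℕ, G₀ w₀ (hmem hw₀p nzx) - n ∈ Set.range fun w : {w : X // w ∈ U₀} => G₀ w.1 w.2 := by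
    suffices ∀ n : ℕ, ∃ (w : X) (h : (π.base w).asIdeal.comap al = pz),
        G₀ w (hmem h nzx) = G₀ w₀ (hmem hw₀p nzx) - n from fun n => by
      obtain ⟨w, h, e⟩ := this n
      exact ⟨⟨w, hmem h nzx⟩, e⟩
    intro n
    induction n with
    | zero => exact ⟨w₀, hw₀p, by simp⟩
    | succ n ih =>
      obtain ⟨w, h, e⟩ := ih
      obtain ⟨w', h', e'⟩ := step w h
      exact ⟨w', h', by rw [e', e]; push_cast; ring⟩
  exact Set.infinite_range_of_injective (f := fun n : ℕ => G₀ w₀ (hmem hw₀p nzx) - (n : ℚ))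
    (fun a b hab => by simpa using hab) (hfin.subset (Set.range_subset_iff.2 hall))

end Groth.Agent.S17958
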