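import Groth.Statements.S17962


set_option autoImplicit false
open CategoryTheory CategoryTheory.Limits AlgebraicGeometry
universe u
open Hensel

namespace Groth.Agent.S17962

/-- Let i : X₀ ⟶ X be a closed immersion such that (X, X₀) is a henselian couple, i.e. for every finite
morphism g : Y ⟶ X every open-closed subset of Y ×_X X₀ is the inverse image under the first
projection of exactly one open-closed subset of Y. Then for every finite morphism h : Y ⟶ X the
couple (Y, Y ×_X X₀), with the first projection as closed immersion, is again henselian. -/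
theorem result {X X₀ : Scheme.{u}}
    (i : X₀ ⟶ X) [IsClosedImmersion i]
    (hX : ∀ (Y : Scheme.{u}) (g : Y ⟶ X), IsFinite g →
      ∀ V : Set ↥(pullback g (i)), IsClopen V →
        ∃! U : Set ↥Y, IsClopen U ∧ (pullback.fst g (i)).base ⁻¹' U = V)
    {Y : Scheme.{u}} (h : Y ⟶ X) [IsFinite h] :
    ∀ (Z : Scheme.{u}) (g : Z ⟶ Y), IsFinite g →
      ∀ V : Set ↥(pullback g (pullback.fst h i)), IsClopen V →
        ∃! U : Set ↥Z, IsClopen U ∧ (pullback.fst g (pullback.fst h i)).base ⁻¹' U = V := by
  haveI := ‹IsFinite h›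
  intro Z g hg V hV
  haveI := hg
  let e := pullbackRightPullbackFstIso h i g
  have he : e.hom ≫ pullback.fst (g ≫ h) i = pullback.fst g (pullback.fst h i) :=
    pullbackRightPullbackFstIso_hom_fst _ _ _
  have hinv : ∀ x, e.hom.base (e.inv.base x) = x := fun x =>
    by rw [← Scheme.Hom.comp_apply, e.inv_hom_id]; rfl
  have hinv' : ∀ x, e.inv.base (e.hom.base x) = x := fun x =>
    by rw [← Scheme.Hom.comp_apply, e.hom_inv_id]; rfl
  obtain ⟨U, ⟨hU, hUV⟩, huniq⟩ := hX Z (g ≫ h) inferInstance (e.inv.base ⁻¹' V)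
    (hV.preimage (Scheme.Hom.continuous _))
  have hfst : ∀ x, (pullback.fst g (pullback.fst h i)).base x =
      (pullback.fst (g ≫ h) i).base (e.hom.base x) := fun x => by
    rw [← he]; rfl
  refine ⟨U, ⟨hU, ?_⟩, fun U' ⟨hU', hU'V⟩ => huniq U' ⟨hU', ?_⟩⟩
  · ext x
    have h1 := Set.ext_iff.mp hUV (e.hom.base x)
    simp only [Set.mem_preimage, hfst] at h1 ⊢
    rwa [hinv'] at h1
  · ext x
    have h1 := Set.ext_iff.mp hU'V (e.inv.base x)
    simp only [Set.mem_preimage, hfst] at h1 ⊢
    rwa [hinv] at h1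

end Groth.Agent.S17962
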