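import Groth.Statements.S17963
import Groth.Agent.Et18.ProperClopen.Apps
-- import your own Groth.Agent.* helpers here

set_option autoImplicit false
open CategoryTheory CategoryTheory.Limits AlgebraicGeometry
universe u
open Hensel

namespace Groth.Agent.S17963

/-- Let (A, I) be a henselian pair and f : X ⟶ Spec A a proper morphism of finite presentation, and let
X₀ = X ×_{Spec A} Spec (A/I). Then X is nonempty and connected if and only if X₀ is nonempty and
connected. -/
theorem result
    (A : Type u) [CommRing A] (I : Ideal A) [HenselianRing A I] {X : Scheme.{u}}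
    (f : X ⟶ Spec (CommRingCat.of A)) [IsProper f] [LocallyOfFinitePresentation f] :
    ConnectedSpace ↥X ↔ ConnectedSpace ↥(pullback f (Spec.map (CommRingCat.ofHom (Ideal.Quotient.mk I)))) := by
  let i := pullback.fst f (Spec.map (CommRingCat.ofHom (Ideal.Quotient.mk I)))
  have := Groth.Agent.HenselLib.ProperCouple.isClosedImmersion_mk I
  have : CompactSpace X := QuasiCompact.compactSpace_of_compactSpace f
  have : QuasiSeparatedSpace X := quasiSeparatedSpace_of_quasiSeparated f
  have : CompactSpace ↥(pullback f (Spec.map (CommRingCat.ofHom (Ideal.Quotient.mk I)))) :=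
    QuasiCompact.compactSpace_of_compactSpace i
  have : QuasiSeparatedSpace ↥(pullback f (Spec.map (CommRingCat.ofHom (Ideal.Quotient.mk I)))) :=
    quasiSeparatedSpace_of_quasiSeparated i
  have e := Equiv.ofBijective _ (Groth.Agent.Et18.ProperClopen.bijective_connectedComponentsMap I f i
    i.isClosedEmbedding (Groth.Agent.HenselLib.ProperCouple.range_fst I f))
  have key : ∀ (T : Type u) [TopologicalSpace T], ConnectedSpace T ↔
      (Subsingleton (ConnectedComponents T) ∧ Nonempty (ConnectedComponents T)) := fun T _ => by
    refine ⟨fun h => ⟨inferInstance, inferInstance⟩, fun ⟨h1, h2⟩ => ?_⟩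
    obtain ⟨x, -⟩ := ConnectedComponents.surjective_coe h2.some
    refine connectedSpace_iff_connectedComponent.2 ⟨x, Set.eq_univ_of_forall fun y => ?_⟩
    exact ConnectedComponents.coe_eq_coe'.1 (Subsingleton.elim _ _)
  rw [key, key, e.subsingleton_congr, e.nonempty_congr]

end Groth.Agent.S17963
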