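import Groth.Statements.S17964
import Groth.Agent.HenselLib.ClopenLift
import Groth.Agent.S13207

set_option autoImplicit false
open CategoryTheory CategoryTheory.Limits AlgebraicGeometry
universe u
open Hensel Groth.Agent.HenselLib
open CategoryTheory CategoryTheory.Limits AlgebraicGeometry

namespace Groth.Agent.S17964

/-- Let (X_j) be a family of schemes indexed by a type ι, with closed immersions i_j : X_{j,0} ⟶ X_j,
and consider the induced morphism of disjoint unions ∐ X_{j,0} ⟶ ∐ X_j. Then the couple (∐ X_j, ∐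
X_{j,0}) is henselian (for every finite morphism g : Y ⟶ ∐ X_j, every open-closed subset of the
fibre product of Y with ∐ X_{j,0} is the inverse image under the first projection of exactly one
open-closed subset of Y) if and only if each couple (X_j, X_{j,0}) is henselian. -/
theorem result {ι : Type u} (X X₀ : ι → Scheme.{u})
    (i : ∀ j, X₀ j ⟶ X j) [∀ j, IsClosedImmersion (i j)] :
    (∀ (Y : Scheme.{u}) (g : Y ⟶ ∐ X), IsFinite g →
      ∀ V : Set ↥(pullback g (Limits.Sigma.map i)), IsClopen V →
        ∃! U : Set ↥Y, IsClopen U ∧ (pullback.fst g (Limits.Sigma.map i)).base ⁻¹' U = V) ↔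
    ∀ j : ι, ∀ (Y : Scheme.{u}) (g : Y ⟶ X j), IsFinite g →
      ∀ V : Set ↥(pullback g (i j)), IsClopen V →
        ∃! U : Set ↥Y, IsClopen U ∧ (pullback.fst g (i j)).base ⁻¹' U = V := by
  have hcl : ∀ j, IsClosedImmersion (Sigma.ι X j) := fun j => by
    refine IsClosedImmersion.of_isPreimmersion _ ?_
    have : (Set.range (Sigma.ι X j))ᶜ = ⋃ k ∈ {k | k ≠ j}, Set.range (Sigma.ι X k) := by
      ext y
      constructor
      · intro hy
        obtain ⟨k, w, rfl⟩ := (sigmaOpenCover X).exists_eq y
        exact Set.mem_iUnion₂.mpr ⟨k, fun e => hy (by subst e; exact ⟨w, rfl⟩), w, rfl⟩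
      · rintro hy ⟨a, ha⟩
        obtain ⟨k, hk, b, hb⟩ := Set.mem_iUnion₂.mp hy
        exact hk (congrArg Sigma.fst ((sigmaι_eq_iff _ _ _ _ _).mp (hb.trans ha.symm)))
    rw [← isOpen_compl_iff, this]
    exact isOpen_biUnion fun k _ => (Sigma.ι X k).isOpenEmbedding.isOpen_range
  haveI : IsClosedImmersion (Limits.Sigma.map i) := by
    refine (IsZariskiLocalAtTarget.iff_of_openCover (P := @IsClosedImmersion) (sigmaOpenCover X)).2 fun j => ?_
    have h := Groth.Agent.S13207.isPullback_sigma_map i j
    show IsClosedImmersion (pullback.snd (Limits.Sigma.map i) (Sigma.ι X j))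
    rw [← h.isoPullback_inv_snd]
    infer_instance
  have hrange : ∀ j, Sigma.ι X j ⁻¹' Set.range (Limits.Sigma.map i) = Set.range (i j) := fun j => by
    ext y
    constructor
    · rintro ⟨w, hw⟩
      obtain ⟨p, hp⟩ := Scheme.exists_preimage_of_isPullback (Groth.Agent.S13207.isPullback_sigma_map i j) w y hw
      exact ⟨p, hp.2⟩
    · rintro ⟨w, rfl⟩
      exact ⟨Sigma.ι X₀ j w, by rw [← Scheme.Hom.comp_apply, ← Scheme.Hom.comp_apply, Sigma.ι_map]⟩
  rw [ClopenLift.couple_iff]
  constructor
  · intro h j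
    rw [ClopenLift.couple_iff]
    intro Y g hg
    haveI := hg
    haveI := hcl j
    have := h Y (g ≫ Sigma.ι X j) inferInstance
    rwa [Scheme.Hom.comp_base, TopCat.coe_comp, Set.preimage_comp, hrange j] at this
  · intro h Y g hg
    haveI := hg
    let W : ι → Y.Opens := fun j => g ⁻¹ᵁ (Sigma.ι X j).opensRange
    refine ClopenLift.lifts_of_cover (fun j => (W j : Set Y)) (fun j => (W j).isOpen) (fun y => ?_)
      (fun j k y hj hk => ?_) _ fun j => ?_
    · obtain ⟨k, w, hw⟩ := (sigmaOpenCover X).exists_eq (g y)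
      exact ⟨k, w, hw⟩
    · obtain ⟨a, ha⟩ := hj
      obtain ⟨b, hb⟩ := hk
      exact congrArg Sigma.fst ((sigmaι_eq_iff _ _ _ _ _).mp (ha.trans hb.symm))
    · let gj : (W j).toScheme ⟶ X j := (g ∣_ (Sigma.ι X j).opensRange) ≫ (Sigma.ι X j).isoOpensRange.inv
      have hfin : IsFinite gj := by
        haveI : IsFinite (g ∣_ (Sigma.ι X j).opensRange) := IsZariskiLocalAtTarget.restrict hg _
        infer_instance
      have hgj : gj ≫ Sigma.ι X j = (W j).ι ≫ g := by
        simp only [gj, Category.assoc, Scheme.Hom.isoOpensRange_inv_comp, morphismRestrict_ι]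
        rfl
      have := (ClopenLift.couple_iff (i j)).mp (h j) (W j).toScheme gj hfin
      rw [← hrange j, ← Set.preimage_comp, ← TopCat.coe_comp, ← Scheme.Hom.comp_base, hgj] at this
      exact this

end Groth.Agent.S17964
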