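import Groth.Statements.S17965
import Groth.Agent.HenselLib.CoupleSections
import Groth.Agent.HenselLib.PairHens
import Groth.Agent.HenselLib.HullNoeth

set_option autoImplicit false
open CategoryTheory CategoryTheory.Limits AlgebraicGeometry
universe u
open Hensel

namespace Groth.Agent.S17965

open Groth.Agent.HenselLib

/-- Let A be a Noetherian ring, I an ideal of A, f : X ⟶ Spec A a proper morphism, i : X₀ = X ×_{Spec A}
Spec (A/I) ⟶ X the first projection, and assume that (X, X₀) is a henselian couple (for every finite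
morphism g : Y ⟶ X, every open-closed subset of Y ×_X X₀ is the inverse image under the first
projection of exactly one open-closed subset of Y). Then (X, X₀) is proper over a henselian pair:
there exist a Noetherian ring A' with an ideal I' such that (A', I') is a henselian pair, a proper
morphism f' : X ⟶ Spec A' and a morphism t : X₀ ⟶ Spec (A'/I') such that the square formed by i, t,
f' and Spec (A'/I') ⟶ Spec A' is cartesian. (The published statement asserts only that X is proper
over some henselian pair; this row also asks the ring of that pair to be Noetherian, which holds for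
the henselization of (A, I) that the proof uses.) -/
theorem result
    (A : Type u) [CommRing A] [IsNoetherianRing A] (I : Ideal A) {X : Scheme.{u}}
    (f : X ⟶ Spec (CommRingCat.of A)) [IsProper f]
    (hX : ∀ (Y : Scheme.{u}) (g : Y ⟶ X), IsFinite g →
      ∀ V : Set ↥(pullback g (pullback.fst f (Spec.map (CommRingCat.ofHom (Ideal.Quotient.mk I))))), IsClopen V →
        ∃! U : Set ↥Y, IsClopen U ∧ (pullback.fst g (pullback.fst f (Spec.map (CommRingCat.ofHom (Ideal.Quotient.mk I))))).base ⁻¹' U = V) :
    ∃ (A' : Type u) (_ : CommRing A') (I' : Ideal A') (_ : HenselianRing A' I') (_ : IsNoetherianRing A')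
      (f' : X ⟶ Spec (CommRingCat.of A')) (_ : IsProper f')
      (t : pullback f (Spec.map (CommRingCat.ofHom (Ideal.Quotient.mk I))) ⟶ Spec (CommRingCat.of (A' ⧸ I'))),
      IsPullback (pullback.fst f (Spec.map (CommRingCat.ofHom (Ideal.Quotient.mk I)))) t f' (Spec.map (CommRingCat.ofHom (Ideal.Quotient.mk I'))) := by
  let j := Spec.map (CommRingCat.ofHom (Ideal.Quotient.mk I))
  let i := pullback.fst f j
  have : IsClosedImmersion j := IsClosedImmersion.spec_of_surjective _ Ideal.Quotient.mk_surjective
  have : IsClosedImmersion i := inferInstanceAs (IsClosedImmersion (pullback.fst f j))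
  have : CompactSpace X := QuasiCompact.compactSpace_of_compactSpace f
  have : QuasiSeparatedSpace X := quasiSeparatedSpace_of_quasiSeparated f
  have hJ : HenselianRing (Γ(X, ⊤) : Type u) (RingHom.ker i.appTop.hom) :=
    CoupleSections.henselianRing_sections i hX
  let ψ : A →+* Γ(X, ⊤) := ((Scheme.ΓSpecIso (CommRingCat.of A)).inv ≫ f.appTop).hom
  have hψI : I.map ψ ≤ RingHom.ker i.appTop.hom := by
    rw [Ideal.map_le_iff_le_comap]
    intro a ha
    rw [Ideal.mem_comap, RingHom.mem_ker]
    show ((Scheme.ΓSpecIso (CommRingCat.of A)).inv ≫ f.appTop ≫ i.appTop).hom a = 0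
    rw [← Scheme.Hom.comp_appTop, pullback.condition, Scheme.Hom.comp_appTop, ← Category.assoc,
      show (Scheme.ΓSpecIso (CommRingCat.of A)).inv ≫ j.appTop = CommRingCat.ofHom (Ideal.Quotient.mk I) ≫
        (Scheme.ΓSpecIso (CommRingCat.of (A ⧸ I))).inv from (Scheme.ΓSpecIso_inv_naturality _).symm]
    show _root_.id (((pullback.snd f j).appTop).hom ((Scheme.ΓSpecIso _).inv.hom (Ideal.Quotient.mk I a))) = 0
    rw [Ideal.Quotient.eq_zero_iff_mem.2 ha, map_zero, map_zero]
    rfl
  let A' := PairH A I
  have hA' := isPairHull_pairH A I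
  obtain ⟨k, hk, -⟩ := hA'.2 (Γ(X, ⊤) : Type u) _ ψ hJ hψI
  let f' : X ⟶ Spec (CommRingCat.of A') := X.toSpecΓ ≫ Spec.map (CommRingCat.ofHom k)
  have hf' : f' ≫ Spec.map (CommRingCat.ofHom (algebraMap A A')) = f := by
    rw [Category.assoc, ← Spec.map_comp, ← CommRingCat.ofHom_comp, hk]
    show X.toSpecΓ ≫ Spec.map (_ ≫ f.appTop) = f
    rw [Spec.map_comp, ← Category.assoc, ← Scheme.toSpecΓ_naturality, Category.assoc,
      toSpecΓ_SpecMap_ΓSpecIso_inv]
    exact Category.comp_id f
  have : IsProper (f' ≫ Spec.map (CommRingCat.ofHom (algebraMap A A'))) := by rw [hf']; infer_instance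
  have : IsProper f' := IsProper.of_comp f' (Spec.map (CommRingCat.ofHom (algebraMap A A')))
  let I' : Ideal A' := I.map (algebraMap A A')
  let σ : A ⧸ I →+* A' ⧸ I' := Ideal.quotientMap I' (algebraMap A A') Ideal.le_comap_map
  have hσ : Function.Bijective σ := by
    refine ⟨?_, fun z => ?_⟩
    · rw [injective_iff_map_eq_zero]
      intro x hx
      obtain ⟨a, rfl⟩ := Ideal.Quotient.mk_surjective x
      have h : algebraMap A A' a ∈ RingHom.ker (hullPt A (A ⧸ I)) := by
        rw [ker_hullPt_pair]; exact Ideal.Quotient.eq_zero_iff_mem.1 hx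
      rw [RingHom.mem_ker, AlgHom.commutes] at h
      exact h
    · obtain ⟨y, rfl⟩ := Ideal.Quotient.mk_surjective z
      obtain ⟨r, hr⟩ := exists_sub_algebraMap_mem A I y
      exact ⟨Ideal.Quotient.mk I r, (Ideal.Quotient.mk_eq_mk_iff_sub_mem _ _).2 (by rw [← neg_sub]; exact I'.neg_mem hr)⟩
  let e : A ⧸ I ≃+* A' ⧸ I' := RingEquiv.ofBijective σ hσ
  let j' := Spec.map (CommRingCat.ofHom (Ideal.Quotient.mk I'))
  let s : Spec (CommRingCat.of (A ⧸ I)) ⟶ Spec (CommRingCat.of (A' ⧸ I')) := Spec.map (CommRingCat.ofHom e.symm.toRingHom)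
  let s' : Spec (CommRingCat.of (A' ⧸ I')) ⟶ Spec (CommRingCat.of (A ⧸ I)) := Spec.map (CommRingCat.ofHom σ)
  have hss : s ≫ s' = 𝟙 _ := by
    rw [← Spec.map_comp, ← CommRingCat.ofHom_comp, show e.symm.toRingHom.comp σ = RingHom.id _ from
      RingHom.ext e.symm_apply_apply, CommRingCat.ofHom_id, Spec.map_id]
  have hs's : s' ≫ s = 𝟙 _ := by
    rw [← Spec.map_comp, ← CommRingCat.ofHom_comp, show σ.comp e.symm.toRingHom = RingHom.id _ from
      RingHom.ext e.apply_symm_apply, CommRingCat.ofHom_id, Spec.map_id]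
  have hs'j : s' ≫ j = j' ≫ Spec.map (CommRingCat.ofHom (algebraMap A A')) := by
    rw [← Spec.map_comp, ← Spec.map_comp, ← CommRingCat.ofHom_comp, ← CommRingCat.ofHom_comp]
    rfl
  have hcomm : i ≫ f' = (pullback.snd f j ≫ s) ≫ j' := by
    have hker : I'.map k ≤ RingHom.ker i.appTop.hom := by
      rw [Ideal.map_map, hk]; exact hψI
    let kk : A' ⧸ I' →+* Γ(pullback f j, ⊤) := Ideal.Quotient.lift I' (i.appTop.hom.comp k)
      fun a ha => hker (Ideal.mem_map_of_mem k ha)
    let t₀ : pullback f j ⟶ Spec (CommRingCat.of (A' ⧸ I')) :=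
      (pullback f j).toSpecΓ ≫ Spec.map (CommRingCat.ofHom kk)
    have h1 : t₀ ≫ j' = i ≫ f' := by
      rw [Category.assoc, ← Spec.map_comp, ← CommRingCat.ofHom_comp,
        show kk.comp (Ideal.Quotient.mk I') = i.appTop.hom.comp k from RingHom.ext fun _ => rfl,
        CommRingCat.ofHom_comp, Spec.map_comp, ← Category.assoc, CommRingCat.ofHom_hom,
        ← Scheme.toSpecΓ_naturality, Category.assoc]
    have h2 : t₀ ≫ s' = pullback.snd f j := by
      rw [← cancel_mono j, Category.assoc, hs'j, reassoc_of% h1, hf', pullback.condition]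
    rw [← h1, ← h2, Category.assoc t₀ s', hs's, Category.comp_id]
  have hP : IsPullback (pullback.fst f j) (pullback.snd f j ≫ s) f' j' := by
    refine IsPullback.of_isLimit' ⟨hcomm⟩ (PullbackCone.IsLimit.mk _
      (fun c => pullback.lift c.fst (c.snd ≫ s') (by
        rw [Category.assoc, hs'j, ← hf', ← Category.assoc, c.condition, Category.assoc]))
      (fun c => pullback.lift_fst _ _ _) (fun c => ?_) (fun c m h1 h2 => ?_))
    · show pullback.lift _ _ _ ≫ pullback.snd f j ≫ s = c.snd
      rw [pullback.lift_snd_assoc, Category.assoc, hs's, Category.comp_id]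
    · refine pullback.hom_ext (h1.trans (pullback.lift_fst _ _ _).symm) ?_
      rw [pullback.lift_snd, ← h2]
      show _ = (m ≫ pullback.snd f j ≫ s) ≫ s'
      rw [Category.assoc, Category.assoc, hss, Category.comp_id]
  exact ⟨A', inferInstance, I', hA'.1, isNoetherianRing_pairH I, f', inferInstance, _, hP⟩

end Groth.Agent.S17965
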