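import Groth.Statements.S17966
import Groth.Agent.FEtStein.ProperHensel
import Groth.Agent.HenselLib.CoupleSections

set_option backward.isDefEq.respectTransparency.types false
set_option backward.isDefEq.respectTransparency false
set_option linter.style.haveILetI false
-- import your own Groth.Agent.* helpers here

set_option autoImplicit false
open CategoryTheory CategoryTheory.Limits AlgebraicGeometry
universe u
open Pi1

namespace Groth.Agent.S17966

/-- Let A be a Noetherian ring, I an ideal of A, f : X ⟶ Spec A a proper morphism, i : X₀ = X ×_{Spec A}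
Spec (A/I) ⟶ X the first projection, and assume that (X, X₀) is a henselian couple (for every finite
morphism g : Y ⟶ X, every open-closed subset of Y ×_X X₀ is the inverse image under the first
projection of exactly one open-closed subset of Y). Then for every finite morphism g : X' ⟶ X, base
change of finite etale covers along the first projection X' ×_X X₀ ⟶ X' is an equivalence of
categories. -/
theorem result
    (A : Type u) [CommRing A] [IsNoetherianRing A] (I : Ideal A) {X : Scheme.{u}}
    (f : X ⟶ Spec (CommRingCat.of A)) [IsProper f]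
    (hX : ∀ (Y : Scheme.{u}) (g : Y ⟶ X), IsFinite g →
      ∀ V : Set ↥(pullback g (pullback.fst f (Spec.map (CommRingCat.ofHom (Ideal.Quotient.mk I))))), IsClopen V →
        ∃! U : Set ↥Y, IsClopen U ∧ (pullback.fst g (pullback.fst f (Spec.map (CommRingCat.ofHom (Ideal.Quotient.mk I))))).base ⁻¹' U = V)
    {X' : Scheme.{u}} (g : X' ⟶ X) [IsFinite g] :
    (FEt.restrict (pullback.fst g (pullback.fst f (Spec.map (CommRingCat.ofHom (Ideal.Quotient.mk I)))))).IsEquivalence := by
  let q := Spec.map (CommRingCat.ofHom (Ideal.Quotient.mk I))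
  haveI : IsClosedImmersion q := IsClosedImmersion.spec_of_surjective _ Ideal.Quotient.mk_surjective
  let i := pullback.fst f q
  let i' := pullback.fst g i
  haveI : CompactSpace X := QuasiCompact.compactSpace_of_compactSpace f
  haveI : QuasiSeparatedSpace X := quasiSeparatedSpace_of_quasiSeparated f
  haveI : CompactSpace X' := QuasiCompact.compactSpace_of_compactSpace g
  haveI : QuasiSeparatedSpace X' := quasiSeparatedSpace_of_quasiSeparated g
  haveI : IsClosedImmersion i := MorphismProperty.pullback_fst _ _ ‹_›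
  haveI : IsClosedImmersion i' := MorphismProperty.pullback_fst _ _ ‹_›
  have hX' : ∀ (Y : Scheme.{u}) (h : Y ⟶ X'), IsFinite h → ∀ V : Set ↥(pullback h i'), IsClopen V →
      ∃! U : Set ↥Y, IsClopen U ∧ (pullback.fst h i').base ⁻¹' U = V := by
    intro Y h hh V hV
    let e := pullbackRightPullbackFstIso g i h
    have he : e.hom ≫ pullback.fst (h ≫ g) i = pullback.fst h i' := pullbackRightPullbackFstIso_hom_fst g i h
    obtain ⟨U, ⟨hU, hUV⟩, huniq⟩ := hX Y (h ≫ g) inferInstance (e.inv ⁻¹' V) (hV.preimage e.inv.continuous)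
    have key : ∀ U : Set Y, (pullback.fst (h ≫ g) i).base ⁻¹' U = e.inv ⁻¹' V ↔ (pullback.fst h i').base ⁻¹' U = V := by
      intro U
      refine ⟨fun hU => ?_, fun hU => ?_⟩
      · ext z
        have := Set.ext_iff.mp hU (e.hom z)
        simp only [Set.mem_preimage, ← Scheme.Hom.comp_apply, e.hom_inv_id, he] at this ⊢
        exact this
      · ext z
        have := Set.ext_iff.mp hU (e.inv z)
        have he' : e.inv ≫ pullback.fst h i' = pullback.fst (h ≫ g) i := (Iso.inv_comp_eq e).mpr he.symm
        have hz : (pullback.fst h i') (e.inv z) = (pullback.fst (h ≫ g) i) z := by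
          rw [← Scheme.Hom.comp_apply, he']
        simp only [Set.mem_preimage, hz] at this ⊢
        exact this
    exact ⟨U, ⟨hU, (key U).mp hUV⟩, fun U' h' => huniq U' ⟨h'.1, (key U').mpr h'.2⟩⟩
  obtain ⟨_, _⟩ := Groth.Agent.FEtStein.restrict_full_faithful_of_couple i' hX'
  let J := RingHom.ker i'.appTop.hom
  haveI : HenselianRing (Γ(X', ⊤) : Type u) J := Groth.Agent.HenselLib.CoupleSections.henselianRing_sections i' hX'
  let qJ := Spec.map (CommRingCat.ofHom (Ideal.Quotient.mk J))
  haveI : IsClosedImmersion qJ := IsClosedImmersion.spec_of_surjective _ Ideal.Quotient.mk_surjective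
  let ψ : CommRingCat.of A ⟶ Γ(X', ⊤) := (Scheme.ΓSpecIso (CommRingCat.of A)).inv ≫ (g ≫ f).appTop
  let f' : X' ⟶ Spec (CommRingCat.of Γ(X', ⊤)) := X'.toSpecΓ
  have hf' : f' ≫ Spec.map ψ = g ≫ f := by
    show X'.toSpecΓ ≫ Spec.map ((Scheme.ΓSpecIso (CommRingCat.of A)).inv ≫ (g ≫ f).appTop) = _
    rw [Spec.map_comp, ← Category.assoc, ← Scheme.toSpecΓ_naturality, Category.assoc,
      toSpecΓ_SpecMap_ΓSpecIso_inv, Category.comp_id]
  haveI : IsProper (f' ≫ Spec.map ψ) := by rw [hf']; infer_instance
  haveI : IsProper f' := IsProper.of_comp f' (Spec.map ψ)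
  have hIJ : I ≤ J.comap ψ.hom := fun a ha => by
    show i'.appTop ((g ≫ f).appTop ((Scheme.ΓSpecIso (CommRingCat.of A)).inv a)) = 0
    have h1 : i' ≫ g ≫ f = (pullback.snd g i ≫ pullback.snd f q) ≫ q := by
      rw [pullback.condition_assoc, pullback.condition, Category.assoc]
    rw [← CommRingCat.comp_apply, ← Scheme.Hom.comp_appTop, h1, Scheme.Hom.comp_appTop, ← CommRingCat.comp_apply,
      ← Category.assoc, ← Scheme.ΓSpecIso_inv_naturality, CommRingCat.comp_apply, CommRingCat.comp_apply]
    show _ = (0 : Γ(pullback g i, ⊤))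
    rw [show (CommRingCat.ofHom (Ideal.Quotient.mk I)) a = 0 from Ideal.Quotient.eq_zero_iff_mem.mpr ha, map_zero, map_zero]
  let κ : CommRingCat.of (A ⧸ I) ⟶ CommRingCat.of ((Γ(X', ⊤) : Type u) ⧸ J) :=
    CommRingCat.ofHom (Ideal.quotientMap J ψ.hom hIJ)
  let p' : pullback f' qJ ⟶ pullback g i := pullback.lift (pullback.fst f' qJ)
    (pullback.lift (pullback.fst f' qJ ≫ g) (pullback.snd f' qJ ≫ Spec.map κ) (by
      rw [Category.assoc, Category.assoc, ← hf', pullback.condition_assoc, ← Spec.map_comp, ← Spec.map_comp]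
      rfl)) (pullback.lift_fst _ _ _).symm
  let π : CommRingCat.of ((Γ(X', ⊤) : Type u) ⧸ J) ⟶ Γ(pullback g i, ⊤) :=
    CommRingCat.ofHom (Ideal.Quotient.lift J i'.appTop.hom fun a ha => ha)
  let p : pullback g i ⟶ pullback f' qJ := pullback.lift i' ((pullback g i).toSpecΓ ≫ Spec.map π) (by
    show i' ≫ X'.toSpecΓ = _
    rw [Scheme.toSpecΓ_naturality, Category.assoc, ← Spec.map_comp]
    rfl)
  have hp : p ≫ p' = 𝟙 _ := by
    rw [← cancel_mono i', Category.assoc, Category.id_comp]
    show p ≫ pullback.lift _ _ _ ≫ pullback.fst g i = i'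
    rw [pullback.lift_fst]
    exact pullback.lift_fst _ _ _
  haveI := Groth.Agent.FEtStein.restrict_essSurj_henselian J f'
  haveI : (FEt.restrict i').EssSurj := ⟨fun V₀ =>
    ⟨(FEt.restrict (pullback.fst f' qJ)).objPreimage ((FEt.restrict p').obj V₀),
      ⟨(Groth.Agent.FEtStein.restrictCompIso p (pullback.fst f' qJ) i' (pullback.lift_fst _ _ _)).app _ ≪≫
        (FEt.restrict p).mapIso ((FEt.restrict (pullback.fst f' qJ)).objObjPreimageIso _) ≪≫
        ((Groth.Agent.FEtStein.restrictCompIso p p' _ hp).app V₀).symm ≪≫ Groth.Agent.FEtStein.restrictIdApp V₀⟩⟩⟩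
  exact { }

end Groth.Agent.S17966
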