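import Groth.Statements.S17968
import Groth.Agent.HenselLib.Local

set_option autoImplicit false
universe u
open Hensel

namespace Groth.Agent.S17968

/-- Let A be a commutative ring and I an ideal contained in the Jacobson radical of A. Suppose that for
every natural number m and every monic polynomial p over A whose reduction modulo I is the reduction
of (T^2 - T)^m, every idempotent of B/IB is the image of an idempotent of B, where B = A[T]/(p).
Then (A, I) is a henselian pair. -/
theorem result (A : Type u) [CommRing A]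
    (I : Ideal A) (hI : I ≤ Ideal.jacobson ⊥)
    (h : ∀ (m : ℕ) (p : Polynomial A), p.Monic →
      Polynomial.map (Ideal.Quotient.mk I) p =
        Polynomial.map (Ideal.Quotient.mk I) ((Polynomial.X ^ 2 - Polynomial.X) ^ m) →
      Set.SurjOn (Ideal.Quotient.mk (Ideal.map (algebraMap A (AdjoinRoot p)) I))
        {e : AdjoinRoot p | IsIdempotentElem e} {e | IsIdempotentElem e}) :
    HenselianRing A I := by
  refine HenselLib.henselianRing_of_idempotents I fun B _ _ hB => ?_
  refine ⟨fun e he => IsIdempotentElem.map he _, HenselLib.injOn_idempotents hI B,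
    (HenselLib.idemLift_iff_surjOn _).mp fun b hb => ?_⟩
  obtain ⟨p, d, hp, -, hpb, hpm⟩ := HenselLib.exists_monic_annihilator I b hb
  have hpm' : Polynomial.map (Ideal.Quotient.mk I) p =
      Polynomial.map (Ideal.Quotient.mk I) ((Polynomial.X ^ 2 - Polynomial.X) ^ d) := by
    rw [hpm, ← mul_pow, Polynomial.map_pow, Polynomial.map_sub, Polynomial.map_pow,
      Polynomial.map_X]
    congr 1; ring
  have hlift := (HenselLib.idemLift_iff_surjOn _).mpr (h d p hp hpm')
  set J := Ideal.map (algebraMap A (AdjoinRoot p)) I with hJ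
  set r := AdjoinRoot.root p with hr
  have hnil : (r * r - r) ^ d ∈ J := by
    have h0 : Polynomial.aeval r p = 0 := by
      rw [hr, AdjoinRoot.aeval_eq, AdjoinRoot.mk_self]
    have h1 : ∀ q : Polynomial A, Polynomial.map (Ideal.Quotient.mk I) q = 0 →
        Polynomial.aeval r q ∈ J := by
      intro q hq
      rw [Polynomial.aeval_eq_sum_range]
      refine J.sum_mem fun i _ => ?_
      rw [Algebra.smul_def]
      refine J.mul_mem_right _ (Ideal.mem_map_of_mem _ ?_)
      rw [← Ideal.Quotient.eq_zero_iff_mem, ← Polynomial.coeff_map, hq, Polynomial.coeff_zero]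
    have h2 := h1 ((Polynomial.X ^ 2 - Polynomial.X) ^ d - p) (by
      rw [Polynomial.map_sub, hpm', sub_self])
    simpa [h0, sq] using h2
  let ρ := Ideal.Quotient.mk J
  obtain ⟨e₀, he₀, he₀r⟩ := HenselLib.idemLift_of_nilpotent
    (J := nilradical (AdjoinRoot p ⧸ J)) (fun x hx => hx) (ρ r) ⟨d, by
      rw [← map_mul, ← map_sub, ← map_pow]; exact Ideal.Quotient.eq_zero_iff_mem.mpr hnil⟩
  obtain ⟨b₀, rfl⟩ := Ideal.Quotient.mk_surjective e₀
  obtain ⟨e, he, heb₀⟩ := hlift b₀
    ((Ideal.Quotient.mk_eq_mk_iff_sub_mem _ _).mp (by rw [map_mul]; exact he₀))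
  let φ : AdjoinRoot p →ₐ[A] B := AdjoinRoot.liftAlgHom p (Algebra.ofId A B) b hpb
  let ψ : AdjoinRoot p ⧸ J →+* B ⧸ Ideal.map (algebraMap A B) I :=
    Ideal.quotientMap _ φ.toRingHom (by
      refine Ideal.map_le_iff_le_comap.mpr fun a ha => ?_
      show φ (algebraMap A (AdjoinRoot p) a) ∈ Ideal.map (algebraMap A B) I
      rw [AlgHom.commutes]
      exact Ideal.mem_map_of_mem (algebraMap A B) ha)
  refine ⟨φ e, he.map φ, (Ideal.Quotient.mk_eq_mk_iff_sub_mem _ _).mp ?_⟩
  have hρe : ρ e = ρ b₀ := (Ideal.Quotient.mk_eq_mk_iff_sub_mem _ _).mpr heb₀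
  refine eq_of_isNilpotent_sub_of_isIdempotentElem ((he.map φ).map _) ?_ ?_
  · show _ * _ = _
    rw [← map_mul]; exact (Ideal.Quotient.mk_eq_mk_iff_sub_mem _ _).mpr hb
  · have h3 := (mem_nilradical.mp he₀r).map ψ
    rw [map_sub] at h3
    convert h3 using 2
    · rw [← hρe]; rfl
    · show _ = Ideal.Quotient.mk _ (φ r)
      rw [hr, AdjoinRoot.liftAlgHom_root]

end Groth.Agent.S17968
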