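import Groth.Statements.S17969
import Mathlib.Algebra.Algebra.Rat
import Mathlib.Algebra.MvPolynomial.Funext
import Mathlib.Algebra.Order.Ring.Star
import Mathlib.Algebra.Ring.IsFormallyReal
import Mathlib.Data.Rat.Star
import Mathlib.LinearAlgebra.Charpoly.Basic
import Mathlib.LinearAlgebra.FreeModule.PID
import Mathlib.RingTheory.AdicCompletion.AsTensorProduct
import Mathlib.RingTheory.AdicCompletion.Noetherian
import Mathlib.RingTheory.Adjoin.PowerBasis
import Mathlib.RingTheory.Etale.Field
import Mathlib.RingTheory.Flat.TorsionFree
import Mathlib.RingTheory.Henselian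
import Mathlib.RingTheory.Polynomial.GaussLemma
import Mathlib.RingTheory.PowerSeries.NoZeroDivisors
import Mathlib.RingTheory.RegularLocalRing.Defs
import Mathlib.RingTheory.SimpleRing.Principal
import Mathlib.Tactic

set_option linter.all false

set_option autoImplicit false
universe u
open scoped TensorProduct
open CAlg

open scoped TensorProduct

namespace Groth.Agent.S17969

/-- Let A be an integrally closed domain with fraction field K and B a commutative A-algebra which is
finite and torsion-free as an A-module and generated as an A-algebra by a single element x. Let P be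
the characteristic polynomial of multiplication by 1 ⊗ x on the finite free K-module K ⊗_A B. Then P
has coefficients in A, namely P is the image of a monic polynomial over A, and the kernel of the
A-algebra map A[T] → B sending T to x is generated by that polynomial, so that B is A[T]/(P). -/
theorem result
    (A : Type u) [CommRing A] [IsDomain A] [IsIntegrallyClosed A]
    (B : Type u) [CommRing B] [Algebra A B] [Module.Finite A B] [NoZeroSMulDivisors A B]
    (x : B) (hx : Algebra.adjoin A {x} = ⊤) :
    ∃ P : Polynomial A, P.Monic ∧
      Polynomial.map (algebraMap A (FractionRing A)) P =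
        (LinearMap.mulLeft (FractionRing A) ((1 : FractionRing A) ⊗ₜ[A] x)).charpoly ∧
      RingHom.ker (Polynomial.aeval x).toRingHom = Ideal.span {P} := by
  set K := FractionRing A
  set y : K ⊗[A] B := (1 : K) ⊗ₜ[A] x
  let ι : B →ₐ[A] K ⊗[A] B := Algebra.TensorProduct.includeRight
  have hι : Function.Injective ι := by
    have : Module.IsTorsionFree A B := inferInstance
    exact (IsLocalizedModule.injective_iff_isRegular (nonZeroDivisors A) (TensorProduct.mk A K B 1)).mpr
      fun c => (isRegular_iff_mem_nonZeroDivisors.mpr c.2).isSMulRegular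
  have hyι : ι x = y := rfl
  have hgen : Algebra.adjoin K {y} = ⊤ := by
    rw [eq_top_iff]
    rintro z -
    induction z using TensorProduct.induction_on with
    | zero => exact zero_mem _
    | add p q hp hq => exact add_mem hp hq
    | tmul k b =>
      have hb : b ∈ Algebra.adjoin A {x} := hx ▸ Algebra.mem_top
      obtain ⟨q, rfl⟩ := Algebra.adjoin_singleton_eq_range_aeval A x ▸ hb
      have : k ⊗ₜ[A] (Polynomial.aeval x q) = k • (Polynomial.aeval y (q.map (algebraMap A K))) := by
        rw [Polynomial.aeval_map_algebraMap, ← hyι, Polynomial.aeval_algHom_apply]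
        show k ⊗ₜ[A] _ = k • ((1 : K) ⊗ₜ[A] _)
        rw [TensorProduct.smul_tmul', smul_eq_mul, mul_one]
      show k ⊗ₜ[A] (Polynomial.aeval x q) ∈ _
      rw [this]
      exact Subalgebra.smul_mem _ (Polynomial.aeval_mem_adjoin_singleton K y) _
  have hint : IsIntegral K y := IsIntegral.of_finite K y
  let pb := PowerBasis.ofAdjoinEqTop hint hgen
  set χ := (LinearMap.mulLeft K y).charpoly
  have hdeg : χ.natDegree = (minpoly K y).natDegree := by
    rw [LinearMap.charpoly_natDegree, pb.finrank, PowerBasis.ofAdjoinEqTop_dim]
  have hχy : Polynomial.aeval y χ = 0 := by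
    have h := LinearMap.congr_fun (LinearMap.mulLeft K y).aeval_self_charpoly 1
    rw [show LinearMap.mulLeft K y = Algebra.lmul K _ y from rfl, Polynomial.aeval_algHom_apply] at h
    have hmu : LinearMap.mulLeft K y = (LinearMap.mul K (K ⊗[A] B)) y := rfl
    simp only [χ, hmu]
    simpa using h
  have hχ : χ = minpoly K y :=
    Polynomial.eq_of_monic_of_dvd_of_natDegree_le (minpoly.monic hint) (LinearMap.charpoly_monic _)
      (minpoly.dvd K y hχy) hdeg.le
  obtain ⟨hA, hAm, hA0⟩ := IsIntegral.of_finite A x
  have hdvd : minpoly K y ∣ hA.map (algebraMap A K) := by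
    apply minpoly.dvd
    rw [Polynomial.aeval_map_algebraMap, ← hyι, Polynomial.aeval_algHom_apply,
      show Polynomial.aeval x hA = 0 from hA0, map_zero]
  obtain ⟨P, hP⟩ := IsIntegrallyClosed.eq_map_mul_C_of_dvd K hAm hdvd
  rw [(minpoly.monic hint).leadingCoeff, map_one, mul_one] at hP
  have hPm : P.Monic := Polynomial.monic_of_injective (IsFractionRing.injective A K) (hP.symm ▸ minpoly.monic hint)
  refine ⟨P, hPm, hP.trans hχ.symm, le_antisymm ?_ ?_⟩
  · intro q hq
    rw [Ideal.mem_span_singleton, ← Polynomial.map_dvd_map (algebraMap A K) (IsFractionRing.injective A K) hPm, hP]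
    apply minpoly.dvd
    rw [Polynomial.aeval_map_algebraMap, ← hyι, Polynomial.aeval_algHom_apply,
      show Polynomial.aeval x q = 0 from hq, map_zero]
  · rw [Ideal.span_singleton_le_iff_mem]
    show Polynomial.aeval x P = 0
    apply hι
    rw [map_zero, ← Polynomial.aeval_algHom_apply, hyι, ← Polynomial.aeval_map_algebraMap K, hP, minpoly.aeval]

end Groth.Agent.S17969
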