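import Groth.Statements.S1797
import Groth.Agent.CAlgH.ExcellentNormal
import Groth.Agent.LocCoh.HLV
import Groth.Agent.CAlgH3.PuncturedCoh
import Groth.Agent.LocCoh.CanonicalExist
-- import your own Groth.Agent.* helpers here

set_option autoImplicit false
universe u
open LocCoh

namespace Groth.Agent.S1797

/-- Let A be an excellent normal Noetherian local ring (an integrally closed domain) and I an ideal with
dim V(I) ≥ 1, i.e. dim A/I ≥ 1. Then cd(A, I) < dim A: for every A-module M, H^i_I(M) = 0 whenever i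
≥ dim A. Moreover, if dim A = 2 then the open subscheme Spec A ∖ V(I) is affine. -/
theorem result (A : Type u) [CommRing A] [IsDomain A] [IsLocalRing A] [IsNoetherianRing A] [IsIntegrallyClosed A] (hA : EGA4.IsExcellent A) (I : Ideal A) (hI : (1 : WithBot ℕ∞) ≤ ringKrullDim (A ⧸ I)) : (∀ (M : Type u) [AddCommGroup M] [Module A M] (i : ℕ), ringKrullDim A ≤ (i : WithBot ℕ∞) → Subsingleton (LocCoh.H I i M)) ∧ (ringKrullDim A = 2 → AlgebraicGeometry.IsAffine (↑(LocCoh.puncturedOpen A I) : AlgebraicGeometry.Scheme.{u})) := by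
  haveI hB : IsDomain (AdicCompletion (IsLocalRing.maximalIdeal A) A) :=
    Groth.Agent.CAlgH.ExcellentNormal.isDomain_completion A hA.2.2.1
  obtain ⟨d, hd⟩ := Groth.Agent.LocCoh.exists_dim_eq (R := A)
  have key : ∀ (M : Type u) [AddCommGroup M] [Module A M] (i : ℕ), d ≤ i → Subsingleton (LocCoh.H I i M) := by
    intro M _ _ i hi
    refine Groth.Agent.LocCoh.hartshorne_lichtenbaum I d hd (fun P hP _ => ?_) M i hi
    have hP0 : P = ⊥ := by
      rw [IsDomain.minimalPrimes_eq_singleton_bot] at hP
      exact hP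
    have hne : I ≠ ⊤ := fun h => by
      rw [h, ringKrullDim_eq_bot_of_subsingleton] at hI
      exact absurd hI (by decide)
    rw [hP0, sup_bot_eq, Groth.Agent.CommAlg6.ringKrullDim_quotient_map_eq
      (Groth.Agent.CommAlg6.ringKrullDim_fibre_completion (A := A)) hne]
    exact hI
  refine ⟨fun M _ _ i hi => key M i (by rw [hd] at hi; exact_mod_cast hi), fun h2 => ?_⟩
  refine Groth.Agent.CAlgH3.PuncturedCoh.isAffineOpen_of_cdLE_one (R := CommRingCat.of A) I fun M _ _ i hi => key M i ?_
  rw [hd] at h2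
  have : d = 2 := by exact_mod_cast h2
  omega

end Groth.Agent.S1797
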