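import Groth.Statements.S17971
import Groth.Agent.HenselLib.ClopenLift

set_option autoImplicit false
open CategoryTheory CategoryTheory.Limits AlgebraicGeometry
universe u
open Hensel Groth.Agent.HenselLib
open CategoryTheory CategoryTheory.Limits AlgebraicGeometry

namespace Groth.Agent.S17971

/-- For a commutative ring A and an ideal I, the pair (A, I) is henselian if and only if the couple
(Spec A, Spec (A/I)) is henselian, i.e. if and only if for every finite morphism g : Y ⟶ Spec A
every open-closed subset of Y ×_{Spec A} Spec (A/I) is the inverse image under the first projection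
of exactly one open-closed subset of Y. -/
theorem result (A : Type u) [CommRing A] (I : Ideal A) :
    HenselianRing A I ↔
    ∀ (Y : Scheme.{u}) (g : Y ⟶ Spec (CommRingCat.of A)), IsFinite g →
      ∀ V : Set ↥(pullback g (Spec.map (CommRingCat.ofHom (Ideal.Quotient.mk I)))), IsClopen V →
        ∃! U : Set ↥Y, IsClopen U ∧ (pullback.fst g (Spec.map (CommRingCat.ofHom (Ideal.Quotient.mk I)))).base ⁻¹' U = V := by
  haveI : IsClosedImmersion (Spec.map (CommRingCat.ofHom (Ideal.Quotient.mk I))) :=
    IsClosedImmersion.spec_of_surjective _ Ideal.Quotient.mk_surjective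
  rw [ClopenLift.couple_iff]
  have hrange : Set.range (Spec.map (CommRingCat.ofHom (Ideal.Quotient.mk I))) =
      PrimeSpectrum.zeroLocus (I : Set A) := by
    refine (range_comap_of_surjective _ _ Ideal.Quotient.mk_surjective).trans ?_
    rw [Ideal.mk_ker]
  have key : ∀ (B : CommRingCat.{u}) (ψ : CommRingCat.of A ⟶ B),
      ClopenLift.Lifts ((Spec.map ψ) ⁻¹' Set.range (Spec.map (CommRingCat.ofHom (Ideal.Quotient.mk I))) : Set (Spec B)) ↔
        Set.BijOn (Ideal.Quotient.mk (I.map ψ.hom)) {e : B | IsIdempotentElem e} {e | IsIdempotentElem e} := by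
    intro B ψ
    rw [← ClopenLift.lifts_zeroLocus_iff B (I.map ψ.hom), hrange]
    refine Iff.of_eq (congrArg ClopenLift.Lifts ?_)
    refine (PrimeSpectrum.preimage_comap_zeroLocus ψ.hom (I : Set A)).trans ?_
    rw [Ideal.map, PrimeSpectrum.zeroLocus_span]
  constructor
  · intro hI Y g hg
    haveI := hg
    haveI : IsAffine Y := isAffine_of_isAffineHom g
    obtain ⟨ψ, hψ⟩ := Spec.map_surjective (Y.isoSpec.inv ≫ g)
    have hgψ : g = Y.isoSpec.hom ≫ Spec.map ψ := by rw [hψ, Iso.hom_inv_id_assoc]
    have hfin : ψ.hom.Finite := by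
      rw [← IsFinite.SpecMap_iff, hψ]
      infer_instance
    algebraize [ψ.hom]
    let h : Y ≃ₜ Spec Γ(Y, ⊤) := Scheme.homeoOfIso Y.isoSpec
    rw [← ClopenLift.lifts_image_homeomorph h]
    have : h '' (g ⁻¹' Set.range (Spec.map (CommRingCat.ofHom (Ideal.Quotient.mk I)))) =
        (Spec.map ψ) ⁻¹' Set.range (Spec.map (CommRingCat.ofHom (Ideal.Quotient.mk I))) := by
      rw [hgψ, Scheme.Hom.comp_base, TopCat.coe_comp, Set.preimage_comp]
      exact Set.image_preimage_eq _ h.surjective
    rw [this, key]
    exact bijOn_idempotents I Γ(Y, ⊤)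
  · intro h
    refine henselianRing_of_idempotents I fun B _ _ hB => ?_
    haveI := hB
    have hfin : IsFinite (Spec.map (CommRingCat.ofHom (algebraMap A B))) := by
      rw [IsFinite.SpecMap_iff]
      exact RingHom.finite_algebraMap.mpr hB
    exact (key (CommRingCat.of B) (CommRingCat.ofHom (algebraMap A B))).mp (h _ _ hfin)

end Groth.Agent.S17971
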