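import Groth.Statements.S17974
import Mathlib.RingTheory.Unramified.Basic
import Mathlib.RingTheory.Ideal.IdempotentFG
import Mathlib.RingTheory.Localization.Away.Basic
import Mathlib.RingTheory.Kaehler.Polynomial
import Mathlib.RingTheory.AdjoinRoot

set_option autoImplicit false
universe u
open Unram

namespace Groth.Agent.S17974
open TensorProduct

/-- Let A be a commutative ring, B an unramified A-algebra (formally unramified and of finite type), C
an A-algebra, p a prime ideal of C, and u, v : B → C two A-algebra homomorphisms which agree after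
composition with C → C/p. Then there is an element f of C not in p such that u and v agree after
composition with the localization map C → C[1/f]. -/
theorem result
    (A : Type u) [CommRing A] (B : Type u) [CommRing B] [Algebra A B]
    [Algebra.FormallyUnramified A B] [Algebra.FiniteType A B]
    (C : Type u) [CommRing C] [Algebra A C] (p : Ideal C) [p.IsPrime]
    (u v : B →ₐ[A] C)
    (huv : (Ideal.Quotient.mk p).comp u.toRingHom = (Ideal.Quotient.mk p).comp v.toRingHom) :
    ∃ f : C, f ∉ p ∧
      (algebraMap C (Localization.Away f)).comp u.toRingHom =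
        (algebraMap C (Localization.Away f)).comp v.toRingHom := by
  obtain ⟨e, he, hI⟩ := (Ideal.isIdempotentElem_iff_of_fg _ (KaehlerDifferential.ideal_fg A B)).mp
    ((Ideal.cotangent_subsingleton_iff _).mp (inferInstanceAs <| Subsingleton Ω[B⁄A]))
  let w : B ⊗[A] B →ₐ[A] C := Algebra.TensorProduct.productMap u v
  have hmem : ∀ b : B, b ⊗ₜ[A] (1 : B) - 1 ⊗ₜ b ∈ KaehlerDifferential.ideal A B := fun b => by
    simp [KaehlerDifferential.ideal, RingHom.mem_ker]
  have hle : KaehlerDifferential.ideal A B ≤ p.comap w := by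
    rw [← KaehlerDifferential.span_range_eq_ideal, Ideal.span_le]
    rintro _ ⟨b, rfl⟩
    show w (1 ⊗ₜ b - b ⊗ₜ 1) ∈ p
    simp only [map_sub, w, Algebra.TensorProduct.productMap_apply_tmul, map_one, one_mul, mul_one]
    exact (Ideal.Quotient.mk_eq_mk_iff_sub_mem _ _).mp (DFunLike.congr_fun huv b).symm
  have hep : w e ∈ p := hle (hI ▸ Ideal.mem_span_singleton_self e)
  refine ⟨1 - w e, fun h => p.ne_top_iff_one.mp Ideal.IsPrime.ne_top' (by simpa using p.add_mem h hep), RingHom.ext fun b => ?_⟩
  obtain ⟨d, hd⟩ := Ideal.mem_span_singleton'.mp (hI ▸ hmem b)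
  have h0 : (1 - w e) * (u b - v b) = 0 := by
    have : (1 - e) * (b ⊗ₜ[A] (1 : B) - 1 ⊗ₜ b) = 0 := by
      rw [← hd, sub_mul, one_mul, ← mul_assoc, mul_comm e d, mul_assoc, he.eq, sub_self]
    simpa [w] using congrArg w this
  exact IsLocalization.eq_iff_exists (Submonoid.powers (1 - w e)) _ |>.mpr
    ⟨⟨1 - w e, Submonoid.mem_powers _⟩, sub_eq_zero.mp (by rw [← mul_sub]; exact h0)⟩

end Groth.Agent.S17974
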