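import Groth.Statements.S17975
import Groth.Agent.HenselLib.PolyLocal
import Mathlib.RingTheory.Nakayama

set_option autoImplicit false
universe u
open Hensel

namespace Groth.Agent.S17975

/-- Let A be a local ring with maximal ideal m and residue field k, C a commutative A-algebra which is
finitely generated as an A-module, Q₀ a monic polynomial of degree n over k, e an A-algebra
isomorphism from C/mC to k[T]/(Q₀), and x an element of C whose class is sent by e to the class of
T. Then x generates C as an A-algebra, and x is a root of a monic polynomial Q over A of degree n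
whose reduction modulo m equals Q₀. -/
theorem result
    (A : Type u) [CommRing A] [IsLocalRing A] (C : Type u) [CommRing C] [Algebra A C] [Module.Finite A C]
    (Q₀ : Polynomial (IsLocalRing.ResidueField A)) (hQ₀ : Q₀.Monic)
    (e : (C ⧸ Ideal.map (algebraMap A C) (IsLocalRing.maximalIdeal A)) ≃ₐ[A] AdjoinRoot Q₀)
    (x : C) (hx : e (Ideal.Quotient.mk (Ideal.map (algebraMap A C) (IsLocalRing.maximalIdeal A)) x) = AdjoinRoot.root Q₀) :
    Algebra.adjoin A {x} = ⊤ ∧
      ∃ Q : Polynomial A, Q.Monic ∧ Q.natDegree = Q₀.natDegree ∧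
        Polynomial.map (IsLocalRing.residue A) Q = Q₀ ∧ Polynomial.aeval x Q = 0 := by
  classical
  let m := IsLocalRing.maximalIdeal A
  let mC := m.map (algebraMap A C)
  set n := Q₀.natDegree with hn
  let φ : C →ₐ[A] AdjoinRoot Q₀ := e.toAlgHom.comp (Ideal.Quotient.mkₐ A mC)
  have hker : ∀ c, φ c = 0 → c ∈ mC := fun c hc => Ideal.Quotient.eq_zero_iff_mem.mp (e.injective (hc.trans (map_zero e).symm))
  let N : Submodule A C := Submodule.span A (Set.range fun i : Fin n => x ^ (i : ℕ))
  have hφpoly : ∀ p : Polynomial A, φ (Polynomial.aeval x p) = AdjoinRoot.mk Q₀ (p.map (IsLocalRing.residue A)) := fun p => by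
    rw [← Polynomial.aeval_algHom_apply, show φ x = AdjoinRoot.root Q₀ from hx, ← AdjoinRoot.aeval_eq,
      show IsLocalRing.residue A = algebraMap A (IsLocalRing.ResidueField A) from rfl,
      Polynomial.aeval_map_algebraMap]
  have htop : N = ⊤ := top_le_iff.mp <| by
    refine Submodule.le_of_le_smul_of_le_jacobson_bot Module.Finite.fg_top
      (Groth.Agent.HenselLib.maximalIdeal_le_jacobson A) fun c _ => ?_
    obtain ⟨q, hq⟩ := AdjoinRoot.mk_surjective (φ c)
    obtain ⟨r, hr⟩ := Polynomial.map_surjective _ IsLocalRing.residue_surjective (q %ₘ Q₀)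
    let r' : Polynomial A := ∑ i : Fin n, Polynomial.C (r.coeff i) * Polynomial.X ^ (i : ℕ)
    have hr' : r'.map (IsLocalRing.residue A) = q %ₘ Q₀ := by
      have hco : ∀ k, n ≤ k → (q %ₘ Q₀).coeff k = 0 := fun k hk => by
        nontriviality (IsLocalRing.ResidueField A)
        exact Polynomial.coeff_eq_zero_of_degree_lt
          (lt_of_lt_of_le (Polynomial.degree_modByMonic_lt q hQ₀) (by
            rw [Polynomial.degree_eq_natDegree hQ₀.ne_zero]; exact Nat.cast_le.mpr hk))
      ext k
      simp only [r', Polynomial.coeff_map, Polynomial.finsetSum_coeff, Polynomial.coeff_C_mul,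
        Polynomial.coeff_X_pow, mul_ite, mul_one, mul_zero]
      by_cases hk : k < n
      · rw [Finset.sum_eq_single ⟨k, hk⟩ (fun b _ hb => by
          rw [if_neg]; exact fun h => hb (Fin.ext h.symm)) (by simp), if_pos rfl, ← Polynomial.coeff_map, hr]
      · rw [Finset.sum_eq_zero (fun b _ => by rw [if_neg]; omega), map_zero, hco k (by omega)]
    refine Submodule.mem_sup.mpr ⟨Polynomial.aeval x r', ?_, c - Polynomial.aeval x r', ?_, by ring⟩
    · simp only [r', map_sum, map_mul, Polynomial.aeval_C, Polynomial.aeval_X_pow, ← Algebra.smul_def]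
      exact Submodule.sum_mem _ fun i _ => Submodule.smul_mem _ _ (Submodule.subset_span ⟨i, rfl⟩)
    · rw [Ideal.smul_top_eq_map]
      refine hker _ ?_
      rw [map_sub, hφpoly, hr', ← hq, sub_eq_zero, AdjoinRoot.mk_eq_mk]
      exact ⟨q /ₘ Q₀, by linear_combination -(Polynomial.modByMonic_add_div q Q₀)⟩
  refine ⟨top_le_iff.mp fun c _ => ?_, ?_⟩
  · have hle : N ≤ Subalgebra.toSubmodule (Algebra.adjoin A {x}) :=
      Submodule.span_le.mpr (Set.range_subset_iff.mpr fun i =>
        Subalgebra.pow_mem _ (Algebra.self_mem_adjoin_singleton A x) _)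
    exact hle (htop ▸ Submodule.mem_top)
  · obtain ⟨c, hc⟩ := (Submodule.mem_span_range_iff_exists_fun A).mp
      (htop ▸ Submodule.mem_top : x ^ n ∈ N)
    let L : Polynomial A := ∑ i : Fin n, Polynomial.C (c i) * Polynomial.X ^ (i : ℕ)
    have hL : L.degree < (n : WithBot ℕ) := Polynomial.degree_sum_fin_lt _
    have hQm : (Polynomial.X ^ n - L).Monic := Polynomial.monic_X_pow_sub hL
    have hQn : (Polynomial.X ^ n - L).natDegree = n := Polynomial.natDegree_eq_of_degree_eq_some (by
      rw [Polynomial.degree_sub_eq_left_of_degree_lt (by rwa [Polynomial.degree_X_pow]), Polynomial.degree_X_pow])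
    have hroot : Polynomial.aeval x (Polynomial.X ^ n - L) = 0 := by
      simp only [L, map_sub, map_sum, map_mul, Polynomial.aeval_C, Polynomial.aeval_X_pow, ← Algebra.smul_def]
      rw [hc, sub_self]
    refine ⟨_, hQm, hQn, ?_, hroot⟩
    have h := congrArg φ hroot
    rw [map_zero, hφpoly, AdjoinRoot.mk_eq_zero] at h
    refine Polynomial.eq_of_monic_of_dvd_of_natDegree_le hQ₀ (hQm.map _) h ?_
    rw [hQm.natDegree_map, hQn]

end Groth.Agent.S17975
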