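import Groth.Statements.S17976
import Groth.Agent.HenselLib.EtaleNbhdFinite

set_option autoImplicit false
universe u
open Hensel Groth.Agent.HenselLib
open scoped TensorProduct

namespace Groth.Agent.S17976

/-- Let A be a commutative ring, I an ideal of A and B an A-algebra of finite type such that B/IB is a
finite A-module. Then there exist an etale A-algebra A' such that A → A'/IA' is surjective with
kernel I, and a commutative ring C which is an A'-algebra finite over A' and an etale B-algebra,
with compatible A-algebra structures, such that B → C/IC is surjective with kernel IB. In scheme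
language: an etale affine neighbourhood S' of Spec (A/I) in Spec A and an etale neighbourhood Z =
Spec C of Spec (B/IB) in Spec B, finite over S', forming a commutative square. -/
theorem result
    (A : Type u) [CommRing A] (I : Ideal A) (B : Type u) [CommRing B] [Algebra A B] [Algebra.FiniteType A B]
    (hfin : Module.Finite A (B ⧸ Ideal.map (algebraMap A B) I)) :
    ∃ (A' : Type u) (_ : CommRing A') (_ : Algebra A A') (_ : Algebra.Etale A A')
      (C : Type u) (_ : CommRing C) (_ : Algebra A C) (_ : Algebra A' C) (_ : Algebra B C)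
      (_ : IsScalarTower A A' C) (_ : IsScalarTower A B C),
      Function.Surjective ((Ideal.Quotient.mk (Ideal.map (algebraMap A A') I)).comp (algebraMap A A')) ∧
      RingHom.ker ((Ideal.Quotient.mk (Ideal.map (algebraMap A A') I)).comp (algebraMap A A')) = I ∧
      Algebra.Etale B C ∧ Module.Finite A' C ∧
      Function.Surjective ((Ideal.Quotient.mk (Ideal.map (algebraMap A C) I)).comp (algebraMap B C)) ∧
      RingHom.ker ((Ideal.Quotient.mk (Ideal.map (algebraMap A C) I)).comp (algebraMap B C)) =
        Ideal.map (algebraMap A B) I := by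
  obtain ⟨S, _, _, hS, e, hbij, he, hfinC, hmod, hker⟩ := EtaleNbhdFinite.exists_etale_nbhd I B hfin
  haveI := hS
  let E : Ideal (S ⊗[A] B) := Ideal.span {1 - e}
  letI algBC : Algebra B ((S ⊗[A] B) ⧸ E) := ((Ideal.Quotient.mk E).comp
    (Algebra.TensorProduct.includeRight : B →ₐ[A] S ⊗[A] B).toRingHom).toAlgebra
  have hAB : ∀ a : A, algebraMap A ((S ⊗[A] B) ⧸ E) a = algebraMap B ((S ⊗[A] B) ⧸ E) (algebraMap A B a) := fun a =>
    congrArg (Ideal.Quotient.mk E) ((Algebra.TensorProduct.includeRight : B →ₐ[A] S ⊗[A] B).commutes a).symm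
  have tw := IsScalarTower.of_algebraMap_eq (R := A) (S := B) (A := (S ⊗[A] B) ⧸ E) hAB
  refine ⟨S, inferInstance, inferInstance, hS, (S ⊗[A] B) ⧸ E, inferInstance, inferInstance,
    inferInstance, algBC, inferInstance, tw, ?_, ?_, EtaleNbhdFinite.etale_factor S e he, hfinC, ?_, ?_⟩
  · intro y
    obtain ⟨a, ha⟩ := hbij.2 y
    obtain ⟨a, rfl⟩ := Ideal.Quotient.mk_surjective a
    exact ⟨a, ha⟩
  · refine le_antisymm (fun a ha => ?_) fun a ha => Ideal.Quotient.eq_zero_iff_mem.mpr
      (Ideal.mem_map_of_mem _ ha)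
    exact Ideal.Quotient.eq_zero_iff_mem.mp (hbij.1 (ha.trans (map_zero _).symm))
  · intro y
    obtain ⟨w, rfl⟩ := Ideal.Quotient.mk_surjective y
    obtain ⟨z, rfl⟩ := Ideal.Quotient.mk_surjective w
    obtain ⟨b, hb⟩ := hmod z
    refine ⟨b, (Ideal.Quotient.eq.mpr ?_).symm⟩
    rw [show algebraMap B ((S ⊗[A] B) ⧸ E) b = Ideal.Quotient.mk E ((1 : S) ⊗ₜ[A] b) from rfl, ← map_sub]
    exact mem_map_algHom (Ideal.Quotient.mkₐ A E) I hb
  · refine le_antisymm (fun b hb => hker b ?_) (Ideal.map_le_iff_le_comap.mpr fun a ha => ?_)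
    · have h1 : Ideal.Quotient.mk E ((1 : S) ⊗ₜ[A] b) ∈ I.map (algebraMap A ((S ⊗[A] B) ⧸ E)) :=
        Ideal.Quotient.eq_zero_iff_mem.mp hb
      rw [show algebraMap A ((S ⊗[A] B) ⧸ E) = (Ideal.Quotient.mk E).comp (algebraMap A (S ⊗[A] B)) from rfl,
        ← Ideal.map_map, ← Ideal.mem_comap, Ideal.comap_map_of_surjective _ Ideal.Quotient.mk_surjective,
        ← RingHom.ker_eq_comap_bot, Ideal.mk_ker] at h1
      exact h1
    · rw [Ideal.mem_comap, RingHom.mem_ker, RingHom.comp_apply, ← hAB, Ideal.Quotient.eq_zero_iff_mem]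
      exact Ideal.mem_map_of_mem _ ha

end Groth.Agent.S17976
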