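import Groth.Statements.S19448
import Mathlib
import Groth.Prelude
import Groth.Agent.S0612

set_option linter.all false

set_option autoImplicit false
universe u
open CAlg

open TensorProduct Pointwise

namespace Groth.Agent.S19448

theorem aut_eq_id_of_trivial {A : Type*} [CommRing A] [IsNoetherianRing A] [IsLocalRing A] (φ : A →+* A) (N : ℕ)
    (hN : IsUnit (N : A)) (hφN : ∀ a, φ^[N] a = a)
    (h0 : ∀ a, φ a - a ∈ IsLocalRing.maximalIdeal A)
    (h1 : ∀ a ∈ IsLocalRing.maximalIdeal A, φ a - a ∈ IsLocalRing.maximalIdeal A ^ 2) (a : A) : φ a = a := by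
  let M := IsLocalRing.maximalIdeal A
  -- `φ - 1` raises the filtration
  have hraise : ∀ n, ∀ x ∈ M ^ n, φ x - x ∈ M ^ (n + 1) := by
    intro n
    induction n with
    | zero => intro x _; rw [zero_add, pow_one]; exact h0 x
    | succ n ih =>
      intro x hx
      rw [pow_succ] at hx
      have hM : ∀ y ∈ M, φ y ∈ M := fun y hy => by
        have h := M.add_mem (h0 y) hy
        rwa [sub_add_cancel] at h
      induction hx using Submodule.mul_induction_on' with
      | mem_mul_mem y hy z hz =>
        have e : φ (y * z) - y * z = (φ y - y) * φ z + y * (φ z - z) := by rw [map_mul]; ring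
        rw [e]
        refine add_mem ?_ ?_
        · rw [pow_succ _ (n + 1)]; exact Ideal.mul_mem_mul (ih y hy) (hM z hz)
        · rw [show n + 1 + 1 = n + 2 from rfl, pow_add]; exact Ideal.mul_mem_mul hy (h1 z hz)
      | add y _ z _ hy hz =>
        have e : φ (y + z) - (y + z) = (φ y - y) + (φ z - z) := by rw [map_add]; ring
        rw [e]; exact add_mem hy hz
  have key : ∀ n, φ a - a ∈ M ^ n := by
    intro n
    induction n with
    | zero => simp
    | succ n ih =>
      have hiter : ∀ j : ℕ, φ^[j] a - a - (j : A) * (φ a - a) ∈ M ^ (n + 1) := by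
        intro j
        induction j with
        | zero => simp
        | succ j hj =>
          have h2 : φ (φ^[j] a - a - (j : A) * (φ a - a)) ∈ M ^ (n + 1) := by
            have := add_mem (Ideal.pow_le_pow_right (Nat.le_succ (n+1)) (hraise _ _ hj)) hj
            rwa [sub_add_cancel] at this
          have h3 : φ (φ a - a) - (φ a - a) ∈ M ^ (n + 1) := hraise n _ ih
          rw [map_sub, map_sub, map_mul, map_natCast] at h2
          rw [Function.iterate_succ_apply']
          have := add_mem h2 (Ideal.mul_mem_left _ (j : A) h3)
          push_cast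
          convert this using 1
          ring
      have := hiter N
      rw [hφN, sub_self, zero_sub, Ideal.neg_mem_iff] at this
      exact (Ideal.unit_mul_mem_iff_mem _ hN).1 this
  have : φ a - a ∈ ⨅ n, M ^ n := (Submodule.mem_iInf _).2 key
  rw [Ideal.iInf_pow_eq_bot_of_isLocalRing M (IsLocalRing.maximalIdeal.isMaximal A).ne_top, Ideal.mem_bot, sub_eq_zero] at this
  exact this

/-- Let k be a field, A a Noetherian local k-algebra with maximal ideal M and residue field k, and G a
finite group with |G| ≠ 0 in k acting on A by k-algebra automorphisms. An element of G which acts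
trivially on M/M^2 acts trivially on A; in other words the stabilizer acts faithfully on the
cotangent space whenever it acts faithfully on the local ring. -/
theorem result (k : Type u) [Field k] (A : Type u) [CommRing A]
    [Algebra k A] [IsLocalRing A] [IsNoetherianRing A]
    (hres : Function.Surjective (algebraMap k (IsLocalRing.ResidueField A)))
    (G : Type u) [Group G] [Finite G] [MulSemiringAction G A] [SMulCommClass G k A]
    (hG : (Nat.card G : k) ≠ 0) (g : G)
    (hg : ∀ a ∈ IsLocalRing.maximalIdeal A, g • a - a ∈ IsLocalRing.maximalIdeal A ^ 2) (a : A) :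
    g • a = a := by
  refine aut_eq_id_of_trivial (MulSemiringAction.toRingHom G A g) (Nat.card G) ?_ ?_ ?_ hg a
  · rw [← map_natCast (algebraMap k A)]; exact (Ne.isUnit hG).map _
  · intro b
    rw [show (⇑(MulSemiringAction.toRingHom G A g)) = (g • ·) from rfl, smul_iterate_apply, pow_card_eq_one', one_smul]
  · intro b
    obtain ⟨c, hc⟩ := hres (IsLocalRing.residue A b)
    have hb : b - algebraMap k A c ∈ IsLocalRing.maximalIdeal A := by
      rw [← IsLocalRing.residue_eq_zero_iff, map_sub, ← hc, sub_eq_zero]
      exact IsScalarTower.algebraMap_apply k A _ c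
    have h2 : g • (b - algebraMap k A c) - (b - algebraMap k A c) ∈ IsLocalRing.maximalIdeal A :=
      Ideal.pow_le_self two_ne_zero (hg _ hb)
    rw [smul_sub, smul_algebraMap, sub_sub_sub_cancel_right] at h2
    exact h2

end Groth.Agent.S19448
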