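import Groth.Statements.S17983
import Mathlib
import Groth.Prelude
import Groth.Agent.S19448

set_option linter.all false

set_option autoImplicit false
universe u
open WeilNum

open Polynomial

namespace Groth.Agent.S17983

theorem quad_prod_symm (q : ℂ) (s : Multiset ℂ) :
    let g : Polynomial ℂ := (s.map fun t => X ^ 2 - C t * X + C q).prod
    g.natDegree ≤ 2 * s.card ∧ C (q ^ s.card) * g.reflect (2 * s.card) = g.comp (C q * X) := by
  induction s using Multiset.induction with
  | empty => simp
  | cons t s ih =>
    obtain ⟨hd, hr⟩ := ih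
    simp only [Multiset.map_cons, Multiset.prod_cons, Multiset.card_cons]
    have h2 : (X ^ 2 - C t * X + C q : Polynomial ℂ).natDegree ≤ 2 := by compute_degree
    refine ⟨(natDegree_mul_le).trans (by omega), ?_⟩
    rw [show 2 * (s.card + 1) = 2 + 2 * s.card by ring, reflect_mul _ _ h2 hd, mul_comp, ← hr, pow_succ, C_mul]
    have e : C q * (X ^ 2 - C t * X + C q : Polynomial ℂ).reflect 2 = (X ^ 2 - C t * X + C q : Polynomial ℂ).comp (C q * X) := by
      have : (X ^ 2 - C t * X + C q : Polynomial ℂ) = C 1 * X ^ 2 + C (-t) * X ^ 1 + C q * X ^ 0 := by simp; ring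
      rw [this]
      simp only [reflect_add, reflect_C_mul_X_pow, add_comp, mul_comp, pow_comp, C_comp, X_comp]
      simp [Polynomial.revAt_le]
      ring
    rw [← e]; ring

/-- Let p be a prime number, e ≥ 1 and q = p^e. Let π be an element of a field of characteristic zero
which is integral over ℤ, with minimal polynomial P over ℤ, and assume that every complex root of P
has absolute value √q and that no complex root of P is real (π is a nonreal Weil q-number). Then the
degree of P is even, say 2d, and writing a_j for the coefficient of x^j in P one has a_{d−r} = q^r ·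
a_{d+r} for every 0 ≤ r ≤ d. -/
theorem result (p e : ℕ) [Fact p.Prime] (he : 0 < e)
    (K : Type u) [Field K] [CharZero K] (π : K) (hπ : IsIntegral ℤ π)
    (hweil : ∀ z ∈ (minpoly ℤ π).aroots ℂ, ‖z‖ = Real.sqrt ((p : ℝ) ^ e))
    (hnr : ∀ z ∈ (minpoly ℤ π).aroots ℂ, z.im ≠ 0) :
    Even (minpoly ℤ π).natDegree ∧
      ∀ r ≤ (minpoly ℤ π).natDegree / 2,
        (minpoly ℤ π).coeff ((minpoly ℤ π).natDegree / 2 - r) =
          (p : ℤ) ^ (e * r) * (minpoly ℤ π).coeff ((minpoly ℤ π).natDegree / 2 + r) := by
  classical
  let P := minpoly ℤ π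
  let q : ℂ := (p : ℂ) ^ e
  let Pc : Polynomial ℂ := P.map (algebraMap ℤ ℂ)
  let S := P.aroots ℂ
  have hmon : Pc.Monic := (minpoly.monic hπ).map _
  have hsplit : Pc.Splits := IsAlgClosed.splits Pc
  have hcard : S.card = P.natDegree := by
    show Pc.roots.card = _
    rw [← hsplit.natDegree_eq_card_roots, (minpoly.monic hπ).natDegree_map]
  have hprod : Pc = (S.map fun z => X - C z).prod := hsplit.eq_prod_roots_of_monic hmon
  have hconj : S.map (starRingEnd ℂ) = S := by
    show Pc.roots.map _ = _
    rw [← hsplit.roots_map (starRingEnd ℂ)]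
    show (Polynomial.map (starRingEnd ℂ) (P.map (algebraMap ℤ ℂ))).roots = _
    rw [Polynomial.map_map, show (starRingEnd ℂ).comp (algebraMap ℤ ℂ) = algebraMap ℤ ℂ from RingHom.ext_int _ _]
  let U := S.filter fun z => 0 < z.im
  have hU : S = U + U.map (starRingEnd ℂ) := by
    have hneg : S.filter (fun z => ¬ 0 < z.im) = U.map (starRingEnd ℂ) := by
      show _ = (S.filter fun z => 0 < z.im).map (starRingEnd ℂ)
      conv_lhs => rw [← hconj]
      rw [Multiset.filter_map]
      refine congrArg (Multiset.map _) (Multiset.filter_congr fun z hz => ?_)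
      simp only [Function.comp_apply, Complex.conj_im, not_lt]
      constructor
      · intro h; rcases lt_or_gt_of_ne (hnr z hz) with h' | h' <;> linarith
      · intro h; linarith
    rw [← hneg]
    exact (Multiset.filter_add_not _ S).symm
  have hq : ∀ z ∈ S, z * (starRingEnd ℂ) z = q := fun z hz => by
    rw [Complex.mul_conj, Complex.normSq_eq_norm_sq, hweil z hz, Real.sq_sqrt (by positivity)]
    push_cast
    rfl
  have hPc : Pc = ((U.map fun z => z + (starRingEnd ℂ) z).map fun t => X ^ 2 - C t * X + C q).prod := by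
    rw [hprod, hU, Multiset.map_add, Multiset.prod_add, Multiset.map_map, Multiset.map_map, ← Multiset.prod_map_mul]
    refine congrArg Multiset.prod (Multiset.map_congr rfl fun z hz => ?_)
    simp only [Function.comp_apply, ← hq z (Multiset.filter_subset _ _ hz), C_add, C_mul]
    ring
  have hN : P.natDegree = 2 * U.card := by rw [← hcard, hU, Multiset.card_add, Multiset.card_map]; ring
  obtain ⟨-, hsym⟩ := quad_prod_symm q (U.map fun z => z + (starRingEnd ℂ) z)
  rw [← hPc, Multiset.card_map] at hsym
  refine ⟨⟨U.card, by rw [hN]; ring⟩, fun r hr => ?_⟩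
  rw [hN, Nat.mul_div_cancel_left _ (by norm_num : 0 < 2)] at hr ⊢
  have h := congrArg (fun f => f.coeff (U.card + r)) hsym
  simp only [coeff_C_mul, comp_C_mul_X_coeff, coeff_reflect, revAt_le (show U.card + r ≤ 2 * U.card by omega)] at h
  rw [show 2 * U.card - (U.card + r) = U.card - r by omega, pow_add] at h
  apply (algebraMap ℤ ℂ).injective_int
  have hq0 : q ≠ 0 := pow_ne_zero _ (Nat.cast_ne_zero.2 (Fact.out (p := p.Prime)).ne_zero)
  have h' : Pc.coeff (U.card - r) = q ^ r * Pc.coeff (U.card + r) := by
    apply mul_left_cancel₀ (pow_ne_zero U.card hq0)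
    rw [h]; ring
  simp only [Pc, coeff_map, q, ← pow_mul] at h'
  rw [map_mul, map_pow, map_natCast]
  exact h'

end Groth.Agent.S17983
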