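import Groth.Statements.S17984
import Mathlib
import Groth.Prelude

set_option linter.all false

set_option autoImplicit false
universe u
open MvPolynomial
open WeilNum

open MvPolynomial

namespace Groth.Agent.S17984

namespace S17984aux

/-- coefficient symmetry of a Weil polynomial -/
theorem coeff_symm (P : Polynomial ℤ) (hPm : P.Monic) (D : ℕ) (hdeg : P.natDegree = 2 * D) (q : ℕ) (hq : 0 < q)
    (hroots : ∀ z ∈ P.aroots ℂ, ‖z‖ = Real.sqrt (q : ℝ)) :
    ∃ ε : ℤ, IsUnit ε ∧ ∀ k, k ≤ D → P.coeff (D - k) = ε * (q : ℤ) ^ k * P.coeff (D + k) := by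
  let Pc : Polynomial ℂ := P.map (algebraMap ℤ ℂ)
  have hsplit : Pc.Splits := IsAlgClosed.splits Pc
  have hcard : Pc.roots.card = 2 * D := by
    rw [← hsplit.natDegree_eq_card_roots, hPm.natDegree_map, hdeg]
  have hprod : ∀ x : ℂ, Pc.eval x = (Pc.roots.map fun z => x - z).prod := fun x => by
    conv_lhs => rw [hsplit.eq_prod_roots_of_monic (hPm.map _)]
    rw [Polynomial.eval_multiset_prod, Multiset.map_map]
    simp [Function.comp_def]
  have hconj : ∀ x : ℂ, Pc.eval x = (Pc.roots.map fun z => x - (starRingEnd ℂ) z).prod := fun x => by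
    have h1 : (starRingEnd ℂ) (Pc.eval ((starRingEnd ℂ) x)) = Pc.eval x := by
      rw [Polynomial.eval_map, Polynomial.eval_map, Polynomial.hom_eval₂, Complex.conj_conj]
      congr 1
      exact RingHom.ext_int _ _
    rw [← h1, hprod, map_multiset_prod, Multiset.map_map]
    simp [Function.comp_def]
  let c : ℂ := (Pc.roots.map fun z => -z).prod
  have hc0 : c = (P.coeff 0 : ℂ) := by
    have h2 := hprod 0
    simp only [zero_sub] at h2
    show (Pc.roots.map fun z => -z).prod = _
    rw [← h2, ← Polynomial.coeff_zero_eq_eval_zero, Polynomial.coeff_map]; rfl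
  have hcn : ‖c‖ = (q : ℝ) ^ D := by
    have : ∀ s : Multiset ℂ, (∀ z ∈ s, ‖z‖ = Real.sqrt (q : ℝ)) →
        ‖(s.map fun z => -z).prod‖ = Real.sqrt (q : ℝ) ^ s.card := by
      intro s hs
      induction s using Multiset.induction with
      | empty => simp
      | cons a s ih =>
        rw [Multiset.map_cons, Multiset.prod_cons, norm_mul, norm_neg, Multiset.card_cons, pow_succ',
          hs a (Multiset.mem_cons_self _ _), ih fun z hz => hs z (Multiset.mem_cons_of_mem hz)]
    rw [show c = (Pc.roots.map fun z => -z).prod from rfl, this _ hroots, hcard, pow_mul,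
      Real.sq_sqrt (Nat.cast_nonneg q)]
  have hcoeff0 : (P.coeff 0).natAbs = q ^ D := by
    rw [hc0] at hcn
    have : ((P.coeff 0).natAbs : ℝ) = ((q ^ D : ℕ) : ℝ) := by
      rw [Nat.cast_pow, ← hcn, Nat.cast_natAbs, Complex.norm_intCast]; simp
    exact_mod_cast this
  obtain ⟨ε, hε, hεc⟩ : ∃ ε : ℤ, IsUnit ε ∧ P.coeff 0 = ε * (q : ℤ) ^ D := by
    rcases Int.natAbs_eq (P.coeff 0) with h | h
    · exact ⟨1, isUnit_one, by rw [h, hcoeff0]; push_cast; ring⟩
    · exact ⟨-1, isUnit_one.neg, by rw [h, hcoeff0]; push_cast; ring⟩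
  -- the functional equation
  let L : Polynomial ℤ := ∑ k ∈ Finset.range (2 * D + 1),
    Polynomial.C (P.coeff k * (q : ℤ) ^ k) * Polynomial.X ^ (2 * D - k)
  have hL : L.map (algebraMap ℤ ℂ) = (Polynomial.C (P.coeff 0) * P).map (algebraMap ℤ ℂ) := by
    refine Polynomial.eq_of_infinite_eval_eq _ _ (Set.Infinite.mono (fun x (hx : x ∈ ({0}ᶜ : Set ℂ)) => ?_)
      (Set.finite_singleton (0 : ℂ)).infinite_compl)
    have hx0 : x ≠ 0 := hx
    show _ = _
    rw [Polynomial.map_mul, Polynomial.map_C, Polynomial.eval_mul, Polynomial.eval_C,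
      show Polynomial.eval x (P.map (algebraMap ℤ ℂ)) = Pc.eval x from rfl, hconj,
      show (algebraMap ℤ ℂ) (P.coeff 0) = c from hc0.symm]
    have h1 : (L.map (algebraMap ℤ ℂ)).eval x = x ^ (2 * D) * Pc.eval ((q : ℂ) / x) := by
      rw [Polynomial.eval_map, Polynomial.eval_map]
      simp only [L, Polynomial.eval₂_finsetSum, Polynomial.eval₂_mul, Polynomial.eval₂_C, Polynomial.eval₂_X_pow,
        map_mul, map_pow, map_natCast]
      rw [Polynomial.eval₂_eq_sum_range, hdeg, Finset.mul_sum]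
      refine Finset.sum_congr rfl fun k hk => ?_
      have hk' : k ≤ 2 * D := by simpa [Nat.lt_succ_iff] using Finset.mem_range.mp hk
      rw [pow_sub₀ x hx0 hk', div_pow]
      field_simp
      simp [Polynomial.eval₂_pow]
    rw [h1, hprod, show c = (Pc.roots.map fun z => -z).prod from rfl, ← Multiset.prod_map_mul]
    have h2 : ∀ s : Multiset ℂ, x ^ s.card * (s.map fun z => (q : ℂ) / x - z).prod =
        (s.map fun z => (q : ℂ) - x * z).prod := by
      intro s
      induction s using Multiset.induction with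
      | empty => simp
      | cons a s ih =>
        rw [Multiset.map_cons, Multiset.prod_cons, Multiset.card_cons, Multiset.map_cons, Multiset.prod_cons, ← ih,
          pow_succ']
        field_simp
    rw [← hcard, h2]
    refine congrArg Multiset.prod (Multiset.map_congr rfl fun z hz => ?_)
    have hzz : z * (starRingEnd ℂ) z = (q : ℂ) := by
      rw [Complex.mul_conj, Complex.normSq_eq_norm_sq, hroots z hz, Real.sq_sqrt (Nat.cast_nonneg q)]; simp
    linear_combination -hzz
  have hL' : L = Polynomial.C (P.coeff 0) * P :=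
    Polynomial.map_injective _ (algebraMap ℤ ℂ).injective_int hL
  refine ⟨ε, hε, fun k hk => ?_⟩
  have h3 := congrArg (fun G => G.coeff (D - k)) hL'
  simp only [L, Polynomial.finset_sum_coeff, Polynomial.coeff_C_mul, Polynomial.coeff_X_pow] at h3
  rw [Finset.sum_eq_single (D + k) (fun j hj hne => by
      rw [if_neg (by have := Finset.mem_range.mp hj; omega), mul_zero])
    (fun h => absurd (Finset.mem_range.mpr (by omega)) h), if_pos (by omega), mul_one, hεc, pow_add] at h3
  have hqD : (q : ℤ) ^ D ≠ 0 := pow_ne_zero _ (by omega)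
  have h4 : P.coeff (D + k) * (q : ℤ) ^ k = ε * P.coeff (D - k) :=
    mul_left_cancel₀ hqD (by linear_combination h3)
  rcases Int.isUnit_iff.mp hε with rfl | rfl
  · linear_combination -h4
  · linear_combination h4

variable (q : ℤ)

local notation "F" => (X 0 : MvPolynomial (Fin 2) ℤ)
local notation "V" => (X 1 : MvPolynomial (Fin 2) ℤ)

noncomputable def Irel : Ideal (MvPolynomial (Fin 2) ℤ) := Ideal.span {X 0 * X 1 - C q}

theorem exists_clear (z : MvPolynomial (Fin 2) ℤ) :
    ∃ (N : ℕ) (G : Polynomial ℤ), F ^ N * z - Polynomial.aeval F G ∈ Irel q := by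
  induction z using MvPolynomial.induction_on with
  | C a => exact ⟨0, Polynomial.C a, by simp⟩
  | add x y hx hy =>
    obtain ⟨N, G, hG⟩ := hx
    obtain ⟨N', G', hG'⟩ := hy
    refine ⟨N + N', Polynomial.X ^ N' * G + Polynomial.X ^ N * G', ?_⟩
    convert (Irel q).add_mem ((Irel q).mul_mem_left (F ^ N') hG) ((Irel q).mul_mem_left (F ^ N) hG') using 1
    simp; ring
  | mul_X x i hx =>
    obtain ⟨N, G, hG⟩ := hx
    fin_cases i
    · refine ⟨N, G * Polynomial.X, ?_⟩
      convert (Irel q).mul_mem_right F hG using 1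
      simp; ring
    · refine ⟨N + 1, Polynomial.C q * G, ?_⟩
      have hrel : F * V - C q ∈ Irel q := Ideal.subset_span rfl
      convert (Irel q).add_mem ((Irel q).mul_mem_left (F * V) hG)
        ((Irel q).mul_mem_left (Polynomial.aeval F G) hrel) using 1
      simp; ring

/-- the map to the polynomial ring in `V` modulo `n` -/
noncomputable def rho (n : ℕ) : MvPolynomial (Fin 2) ℤ →ₐ[ℤ] Polynomial (ZMod n) :=
  MvPolynomial.aeval ![0, Polynomial.X]

noncomputable def rho0 : MvPolynomial (Fin 2) ℤ →ₐ[ℤ] Polynomial ℤ :=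
  MvPolynomial.aeval ![0, Polynomial.X]

theorem sub_rho0_mem (z : MvPolynomial (Fin 2) ℤ) :
    z - Polynomial.aeval V (rho0 z) ∈ Ideal.span {F} := by
  induction z using MvPolynomial.induction_on with
  | C a => simp [rho0]
  | add x y hx hy =>
    convert (Ideal.span {F}).add_mem hx hy using 1
    simp; ring
  | mul_X x i hx =>
    fin_cases i
    · simp only [map_mul, rho0, MvPolynomial.aeval_X]
      simpa using (Ideal.span {F}).mul_mem_left x (Ideal.mem_span_singleton_self F)
    · convert (Ideal.span {F}).mul_mem_right V hx using 1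
      simp [rho0]; ring

theorem mem_of_rho_eq_zero (n : ℕ) (z : MvPolynomial (Fin 2) ℤ) (h : rho n z = 0) :
    ∃ y, z - F * y ∈ Irel (n : ℤ) := by
  have h1 : (Polynomial.mapRingHom (Int.castRingHom (ZMod n))).comp (rho0 : MvPolynomial (Fin 2) ℤ →ₐ[ℤ] Polynomial ℤ).toRingHom =
      (rho n).toRingHom := by
    refine MvPolynomial.ringHom_ext (fun a => by simp [rho, rho0]) fun i => ?_
    fin_cases i <;> simp [rho, rho0]
  have h2 : (rho0 z).map (Int.castRingHom (ZMod n)) = 0 := by
    have := RingHom.congr_fun h1 z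
    simpa [h] using this
  obtain ⟨w, hw⟩ : Polynomial.C (n : ℤ) ∣ rho0 z := by
    rw [Polynomial.C_dvd_iff_dvd_coeff]
    intro i
    have := congrArg (fun G => G.coeff i) h2
    simp only [Polynomial.coeff_map, Polynomial.coeff_zero, eq_intCast] at this
    exact (ZMod.intCast_zmod_eq_zero_iff_dvd _ _).mp this
  obtain ⟨a, ha⟩ := Ideal.mem_span_singleton.mp (sub_rho0_mem z)
  refine ⟨a + V * Polynomial.aeval V w, ?_⟩
  refine Ideal.mem_span_singleton.mpr ⟨-Polynomial.aeval V w, ?_⟩
  rw [hw, map_mul, Polynomial.aeval_C, MvPolynomial.algebraMap_eq] at ha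
  linear_combination ha

theorem cancel_F (hq : q ≠ 0) (z : MvPolynomial (Fin 2) ℤ) (N : ℕ) (h : F ^ N * z ∈ Irel q) : z ∈ Irel q := by
  induction N generalizing z with
  | zero => simpa using h
  | succ N ih =>
    rw [pow_succ, mul_assoc] at h
    have h' := ih (F * z) h
    obtain ⟨w, hw⟩ := Ideal.mem_span_singleton.mp h'
    have h0 : rho0 w = 0 := by
      have := congrArg rho0 hw
      simpa [rho0, hq] using this
    obtain ⟨w', hw'⟩ := Ideal.mem_span_singleton.mp (sub_rho0_mem w)
    rw [h0, map_zero, sub_zero] at hw'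
    refine Ideal.mem_span_singleton.mpr ⟨w', ?_⟩
    rw [hw'] at hw
    exact mul_left_cancel₀ (MvPolynomial.X_ne_zero 0) (by linear_combination hw)

theorem eq_zero_of_aeval_mem (hq : q ≠ 0) (G : Polynomial ℤ) (h : Polynomial.aeval F G ∈ Irel q) : G = 0 := by
  let L := FractionRing (Polynomial ℤ)
  let x : L := algebraMap (Polynomial ℤ) L Polynomial.X
  have hx : x ≠ 0 := (map_ne_zero_iff _ (IsFractionRing.injective (Polynomial ℤ) L)).mpr Polynomial.X_ne_zero
  let Φ : MvPolynomial (Fin 2) ℤ →+* L := MvPolynomial.eval₂Hom (Int.castRingHom L) ![x, (q : L) / x]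
  have hker : Irel q ≤ RingHom.ker Φ := by
    rw [Irel, Ideal.span_le, Set.singleton_subset_iff, SetLike.mem_coe, RingHom.mem_ker]
    simp only [Φ, map_sub, map_mul, MvPolynomial.eval₂Hom_X', MvPolynomial.eval₂Hom_C]
    simp [mul_div_cancel₀ _ hx]
  have hcomp : Φ.comp (Polynomial.aeval F : Polynomial ℤ →ₐ[ℤ] MvPolynomial (Fin 2) ℤ).toRingHom = algebraMap (Polynomial ℤ) L := by
    refine Polynomial.ringHom_ext' (RingHom.ext_int _ _) ?_
    simp [Φ, x]
  apply IsFractionRing.injective (Polynomial ℤ) L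
  rw [map_zero, ← hcomp]
  exact hker h

theorem main (p e : ℕ) [Fact p.Prime] (he : 0 < e) (P : Polynomial ℤ) (hPm : P.Monic) (D : ℕ)
    (hdeg : P.natDegree = 2 * D) (hroots : ∀ z ∈ P.aroots ℂ, ‖z‖ = Real.sqrt ((p : ℝ) ^ e))
    (h : MvPolynomial (Fin 2) ℤ) (hh : F ^ D * h - Polynomial.aeval F P ∈ Irel ((p : ℤ) ^ e)) :
    (∀ z, h * z ∈ Irel ((p : ℤ) ^ e) → z ∈ Irel ((p : ℤ) ^ e)) ∧
    ∀ (z : MvPolynomial (Fin 2) ℤ) (N : ℕ) (G : Polynomial ℤ),
      F ^ N * z - Polynomial.aeval F (P * G) ∈ Irel ((p : ℤ) ^ e) → z ∈ Irel ((p : ℤ) ^ e) ⊔ Ideal.span {h} := by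
  have hp1 : 1 < p := (Fact.out : p.Prime).one_lt
  set Q : ℤ := (p : ℤ) ^ e with hQ
  have hQn : Q = ((p ^ e : ℕ) : ℤ) := by simp [Q]
  have hQ0 : Q ≠ 0 := pow_ne_zero _ (by omega)
  set I := Irel Q with hI
  haveI : Fact (1 < p ^ e) := ⟨Nat.one_lt_pow he.ne' hp1⟩
  have hrel : F * V - C Q ∈ I := Ideal.subset_span rfl
  obtain ⟨ε, hε, hco⟩ := coeff_symm P hPm D hdeg (p ^ e) (by positivity)
    (fun z hz => by rw [hroots z hz]; push_cast; rfl)
  let h0 : MvPolynomial (Fin 2) ℤ := (∑ k ∈ Finset.range (D + 1), C (P.coeff (D + k)) * F ^ k) +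
    ∑ k ∈ Finset.range D, C (ε * P.coeff (D + (k + 1))) * V ^ (k + 1)
  -- the normal form of `h`
  have hh0 : F ^ D * h0 - Polynomial.aeval F P ∈ I := by
    rw [← Ideal.Quotient.eq_zero_iff_mem]
    set φ := Ideal.Quotient.mk I
    have hFV : φ F * φ V = φ (C Q) := by
      rw [← map_mul, ← sub_eq_zero, ← map_sub, Ideal.Quotient.eq_zero_iff_mem]; exact hrel
    rw [map_sub, sub_eq_zero, Polynomial.aeval_def, Polynomial.eval₂_eq_sum_range, hdeg,
      show 2 * D + 1 = D + (D + 1) by omega, Finset.sum_range_add]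
    simp only [h0, mul_add, Finset.mul_sum, map_add, map_sum, MvPolynomial.algebraMap_eq]
    rw [add_comm]
    refine congrArg₂ (· + ·) ?_ (Finset.sum_congr rfl fun k _ => ?_)
    · rw [← Finset.sum_range_reflect (fun i => φ (C (P.coeff i) * F ^ i)) D]
      refine Finset.sum_congr rfl fun k hk => ?_
      rw [Finset.mem_range] at hk
      have hc := hco (k + 1) (by omega)
      rw [← hQn] at hc
      rw [show D - 1 - k = D - (k + 1) by omega, hc]
      simp only [map_mul, map_pow]
      obtain ⟨j, hj⟩ := Nat.exists_eq_add_of_le (show k + 1 ≤ D by omega)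
      rw [show D - (k + 1) = j by omega, ← hFV, mul_pow]
      have : φ F ^ D = φ F ^ (k + 1) * φ F ^ j := by rw [← pow_add, ← hj]
      rw [this]; ring
    · simp only [map_mul, map_pow]; rw [pow_add]; ring
  have hhh0 : h - h0 ∈ I := cancel_F Q hQ0 _ D (by
    convert I.sub_mem hh hh0 using 1; ring)
  -- `h` modulo `F`
  have hrhoI : ∀ z ∈ I, rho (p ^ e) z = 0 := by
    intro z hz
    obtain ⟨w, rfl⟩ := Ideal.mem_span_singleton.mp hz
    have h1 : rho (p ^ e) (C Q) = 0 := by
      rw [rho, MvPolynomial.aeval_C, hQn, map_natCast, ← map_natCast (Polynomial.C : ZMod (p ^ e) →+* _), ZMod.natCast_self, map_zero]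
    rw [map_mul, map_sub, map_mul, h1]
    simp [rho]
  have hrhoh : ∃ M : Polynomial (ZMod (p ^ e)), M.Monic ∧ ∃ c, IsUnit c ∧ rho (p ^ e) h = Polynomial.C c * M := by
    have h1 : rho (p ^ e) h = rho (p ^ e) h0 := by
      rw [← sub_eq_zero, ← map_sub]; exact hrhoI _ hhh0
    set G := rho (p ^ e) h0 with hG
    have hGeq : G = Polynomial.C ((P.coeff D : ℤ) : ZMod (p ^ e)) +
        ∑ k ∈ Finset.range D, Polynomial.C ((ε * P.coeff (D + (k + 1)) : ℤ) : ZMod (p ^ e)) * Polynomial.X ^ (k + 1) := by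
      simp only [hG, h0, rho, map_add, map_sum]
      congr 1
      · rw [Finset.sum_eq_single 0 (fun j _ hj => by simp [zero_pow hj]) (fun h => absurd (Finset.mem_range.mpr (by omega)) h)]
        simp
      · simp
    have hcD : IsUnit (G.coeff D) ∧ G.natDegree ≤ D := by
      rw [hGeq]
      refine ⟨?_, ?_⟩
      · simp only [Polynomial.coeff_add, Polynomial.coeff_C, Polynomial.finset_sum_coeff, Polynomial.coeff_C_mul_X_pow]
        rcases Nat.eq_zero_or_pos D with hD0 | hD0
        · subst hD0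
          have : P.coeff 0 = 1 := by
            have := hPm.coeff_natDegree; rwa [hdeg] at this
          simp [this]
        · rw [if_neg (by omega), zero_add, Finset.sum_eq_single (D - 1) (fun j _ hj => if_neg (by omega))
            (fun h => absurd (Finset.mem_range.mpr (by omega)) h), if_pos (by omega)]
          have : P.coeff (D + (D - 1 + 1)) = 1 := by
            rw [show D + (D - 1 + 1) = 2 * D by omega, ← hdeg]; exact hPm.coeff_natDegree
          rw [this, mul_one]
          exact hε.map (Int.castRingHom (ZMod (p ^ e)))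
      · refine (Polynomial.natDegree_add_le _ _).trans (max_le (by simp) ?_)
        refine Polynomial.natDegree_sum_le_of_forall_le _ _ fun k hk => ?_
        exact (Polynomial.natDegree_C_mul_X_pow_le _ _).trans (by have := Finset.mem_range.mp hk; omega)
    obtain ⟨⟨c, hc⟩, hle⟩ := hcD
    refine ⟨Polynomial.C (↑c⁻¹ : ZMod (p ^ e)) * G, ?_, (c : ZMod (p ^ e)), c.isUnit, ?_⟩
    · refine Polynomial.monic_of_natDegree_le_of_coeff_eq_one D ((Polynomial.natDegree_C_mul_le _ _).trans hle) ?_
      rw [Polynomial.coeff_C_mul, ← hc, Units.inv_mul]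
    · rw [h1, ← mul_assoc, ← Polynomial.C_mul, Units.mul_inv, map_one, one_mul]
  obtain ⟨M, hM, c, hcu, hrho⟩ := hrhoh
  have hnzd : ∀ w, rho (p ^ e) (h * w) = 0 → rho (p ^ e) w = 0 := by
    intro w hw
    rw [map_mul, hrho, mul_assoc, (hcu.map Polynomial.C).mul_right_eq_zero] at hw
    exact hM.mul_right_eq_zero_iff.mp hw
  refine ⟨fun z hz => ?_, ?_⟩
  · obtain ⟨N, G, hG⟩ := exists_clear Q z
    have hPG : Polynomial.aeval F (P * G) ∈ I := by
      rw [map_mul]
      have h2 : F ^ D * h * (F ^ N * z) ∈ I := by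
        rw [show F ^ D * h * (F ^ N * z) = F ^ D * F ^ N * (h * z) by ring]; exact I.mul_mem_left _ hz
      convert I.sub_mem (I.sub_mem h2 (I.mul_mem_right (F ^ N * z) hh)) (I.mul_mem_left (Polynomial.aeval F P) hG) using 1
      ring
    have hG0 : G = 0 := by
      have := eq_zero_of_aeval_mem Q hQ0 _ hPG
      exact (mul_eq_zero.mp this).resolve_left hPm.ne_zero
    rw [hG0, map_zero, sub_zero] at hG
    exact cancel_F Q hQ0 z N hG
  · have hdown : ∀ (k : ℕ) (z y : MvPolynomial (Fin 2) ℤ), F ^ k * z - h * y ∈ I → z ∈ I ⊔ Ideal.span {h} := by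
      intro k
      induction k with
      | zero =>
        intro z y hy
        rw [pow_zero, one_mul] at hy
        exact Submodule.mem_sup.mpr ⟨_, hy, h * y, Ideal.mul_mem_right _ _ (Ideal.mem_span_singleton_self h), by ring⟩
      | succ k ih =>
        intro z y hy
        have h2 := hrhoI _ hy
        have hry : rho (p ^ e) y = 0 := hnzd y (by
          have h3 : rho (p ^ e) (F ^ (k + 1) * z) = 0 := by simp [rho]
          rw [map_sub, h3, zero_sub, neg_eq_zero] at h2
          exact h2)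
        obtain ⟨y', hy'⟩ := mem_of_rho_eq_zero (p ^ e) y hry
        rw [← hQn] at hy'
        refine ih z y' ?_
        apply cancel_F Q hQ0 _ 1
        convert I.add_mem hy (I.mul_mem_left h hy') using 1
        ring
    intro z N G hz
    refine hdown N z (F ^ D * Polynomial.aeval F G) ?_
    rw [map_mul] at hz
    convert I.sub_mem hz (I.mul_mem_left (Polynomial.aeval F G) hh) using 1
    ring

end S17984aux

/-- Let p be a prime, e ≥ 1 and q = p^e. Let (π_i) be a finite family of pairwise nonconjugate Weil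
q-numbers: π_i is an element of a field K_i of characteristic zero, integral over ℤ with minimal
polynomial P_i, every complex root of P_i has absolute value √q, and P_i ≠ P_j for i ≠ j. Suppose
the total degree Σ_i deg P_i is even, equal to 2D (equivalently, the family contains either none or
both of the rational Weil q-numbers ±q^{1/2}). Put P_w = ∏_i P_i and let h ∈ ℤ[F, V] (F = X_0, V =
X_1) be any polynomial with F^D · h ≡ P_w(F) modulo FV − q; such an h exists, is unique modulo FV −
q, and the product of the symmetric polynomials h_{π_i} is one. Then the kernel of the ring map ℤ[F,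
V] → ∏_i K_i, F ↦ (π_i), V ↦ (q/π_i), whose image is the minimal central order R_w, is the ideal
generated by FV − q and h, and (FV − q, h) is a regular sequence in ℤ[F, V]: R_w is the complete
intersection ℤ[F, V]/(FV − q, h). -/
theorem result (p e : ℕ) [Fact p.Prime] (he : 0 < e)
    (ι : Type) [Fintype ι] (K : ι → Type u) [∀ i, Field (K i)] [∀ i, CharZero (K i)] (π : ∀ i, K i)
    (hint : ∀ i, IsIntegral ℤ (π i))
    (hweil : ∀ i, ∀ z ∈ (minpoly ℤ (π i)).aroots ℂ, ‖z‖ = Real.sqrt ((p : ℝ) ^ e))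
    (hinj : ∀ i j, minpoly ℤ (π i) = minpoly ℤ (π j) → i = j)
    (D : ℕ) (hD : ∑ i, (minpoly ℤ (π i)).natDegree = 2 * D)
    (h : MvPolynomial (Fin 2) ℤ)
    (hh : X 0 ^ D * h - Polynomial.aeval (X 0 : MvPolynomial (Fin 2) ℤ) (∏ i, minpoly ℤ (π i)) ∈
      Ideal.span ({X 0 * X 1 - C ((p : ℤ) ^ e)} : Set (MvPolynomial (Fin 2) ℤ))) :
    RingHom.ker (MvPolynomial.aeval ![fun i => π i, fun i => ((p : K i) ^ e) / π i] :
        MvPolynomial (Fin 2) ℤ →ₐ[ℤ] ((i : ι) → K i)) =
        Ideal.span {X 0 * X 1 - C ((p : ℤ) ^ e), h} ∧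
      RingTheory.Sequence.IsWeaklyRegular (MvPolynomial (Fin 2) ℤ) [X 0 * X 1 - C ((p : ℤ) ^ e), h] := by
  classical
  set P := ∏ i, minpoly ℤ (π i) with hP
  set Q : ℤ := (p : ℤ) ^ e with hQ
  have hPm : P.Monic := Polynomial.monic_prod_of_monic _ _ fun i _ => minpoly.monic (hint i)
  have hdeg : P.natDegree = 2 * D := by
    rw [hP, Polynomial.natDegree_prod_of_monic _ _ fun i _ => minpoly.monic (hint i), hD]
  have hroots : ∀ z ∈ P.aroots ℂ, ‖z‖ = Real.sqrt ((p : ℝ) ^ e) := by
    intro z hz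
    rw [Polynomial.mem_aroots, hP, map_prod, Finset.prod_eq_zero_iff] at hz
    obtain ⟨i, -, hi⟩ := hz.2
    exact hweil i z (Polynomial.mem_aroots.mpr ⟨(minpoly.monic (hint i)).ne_zero, hi⟩)
  obtain ⟨hnzd, hmain⟩ := S17984aux.main p e he P hPm D hdeg hroots h hh
  set Φ := (MvPolynomial.aeval ![fun i => π i, fun i => ((p : K i) ^ e) / π i] :
        MvPolynomial (Fin 2) ℤ →ₐ[ℤ] ((i : ι) → K i)) with hΦ
  have hp0 : ∀ i, ((p : K i)) ^ e ≠ 0 := fun i => pow_ne_zero _ (Nat.cast_ne_zero.mpr (Fact.out : p.Prime).ne_zero)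
  have hπ0 : ∀ i, π i ≠ 0 := by
    intro i h0
    have hc : (minpoly ℤ (π i)).coeff 0 = 0 := by
      have := minpoly.aeval ℤ (π i)
      rw [h0, Polynomial.aeval_def, Polynomial.eval₂_at_zero] at this
      rw [h0]; simpa using this
    have := hweil i 0 (Polynomial.mem_aroots.mpr ⟨(minpoly.monic (hint i)).ne_zero, by
      rw [Polynomial.aeval_def, Polynomial.eval₂_at_zero, hc, map_zero]⟩)
    rw [norm_zero, eq_comm, Real.sqrt_eq_zero (by positivity)] at this
    exact absurd this (pow_ne_zero _ (Nat.cast_ne_zero.mpr (Fact.out : p.Prime).ne_zero))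
  have hΦrel : Φ (X 0 * X 1 - C Q) = 0 := by
    funext i
    simp [hΦ, mul_div_cancel₀ _ (hπ0 i), hQ]
  have hΦF : ∀ (G : Polynomial ℤ) (i : ι), Φ (Polynomial.aeval (X 0 : MvPolynomial (Fin 2) ℤ) G) i = Polynomial.aeval (π i) G := by
    intro G i
    rw [← Polynomial.aeval_algHom_apply, hΦ, MvPolynomial.aeval_X]
    simp [Polynomial.aeval_pi_apply₂]
  have hIker : S17984aux.Irel Q ≤ RingHom.ker Φ := by
    rw [S17984aux.Irel, Ideal.span_le, Set.singleton_subset_iff]
    exact hΦrel
  have hΦh : Φ h = 0 := by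
    funext i
    have h1 := congrFun (RingHom.mem_ker.mp (hIker hh)) i
    rw [map_sub, map_mul, map_pow] at h1
    simp only [Pi.sub_apply, Pi.mul_apply, Pi.pow_apply, Pi.zero_apply, hΦF] at h1
    have h2 : Polynomial.aeval (π i) P = 0 := by
      rw [hP, map_prod]
      exact Finset.prod_eq_zero (Finset.mem_univ i) (minpoly.aeval ℤ (π i))
    rw [h2, sub_zero] at h1
    refine (mul_eq_zero.mp h1).resolve_left (pow_ne_zero _ ?_)
    simpa [hΦ] using hπ0 i
  refine ⟨le_antisymm ?_ ?_, ?_⟩
  · intro z hz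
    obtain ⟨N, G, hG⟩ := S17984aux.exists_clear Q z
    have hGz : ∀ i, Polynomial.aeval (π i) G = 0 := by
      intro i
      have h0 : Φ (X 0 ^ N * z - Polynomial.aeval (X 0 : MvPolynomial (Fin 2) ℤ) G) = 0 := hIker hG
      have hz0 : Φ z = 0 := hz
      rw [map_sub, map_mul, hz0, mul_zero, zero_sub, neg_eq_zero] at h0
      rw [← hΦF G i, h0]
      rfl
    obtain ⟨G', rfl⟩ : P ∣ G := by
      rw [hP]
      refine Finset.prod_dvd_of_isRelPrime ?_ (fun i _ => minpoly.isIntegrallyClosed_dvd (hint i) (hGz i))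
      intro i _ j _ hij
      refine (minpoly.irreducible (hint i)).isRelPrime_iff_not_dvd.mpr fun hd => hij (hinj i j ?_)
      exact Polynomial.eq_of_monic_of_associated (minpoly.monic (hint i)) (minpoly.monic (hint j))
        ((minpoly.irreducible (hint i)).associated_of_dvd (minpoly.irreducible (hint j)) hd)
    have := hmain z N G' hG
    rw [Ideal.span_insert]
    exact this
  · rw [Ideal.span_le]
    rintro x (rfl | rfl)
    · exact hΦrel
    · exact hΦh
  · rw [RingTheory.Sequence.isWeaklyRegular_cons_iff]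
    refine ⟨?_, ?_⟩
    · exact (isRegular_of_ne_zero (fun h0 => by
        have := congrArg (MvPolynomial.eval (fun _ => (0 : ℤ))) h0
        simp [hQ, (Fact.out : p.Prime).ne_zero] at this)).left
    · rw [RingTheory.Sequence.isWeaklyRegular_cons_iff]
      refine ⟨?_, RingTheory.Sequence.IsWeaklyRegular.nil _ _⟩
      rw [isSMulRegular_iff_right_eq_zero_of_smul]
      intro x hx
      obtain ⟨z, rfl⟩ := Submodule.Quotient.mk_surjective _ x
      rw [← Submodule.Quotient.mk_smul, Submodule.Quotient.mk_eq_zero, smul_eq_mul] at hx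
      rw [Submodule.Quotient.mk_eq_zero]
      rw [← Submodule.ideal_span_singleton_smul, smul_eq_mul, Ideal.mul_top] at hx ⊢
      exact hnzd z hx

end Groth.Agent.S17984
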