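import Groth.Statements.S17985
import Groth.Agent.S17984
import Groth.Agent.DualLib.GorRing
import Groth.Agent.DimLib.Algebra
import Mathlib.RingTheory.KrullDimension.PID
import Mathlib


set_option autoImplicit false
universe u
open MvPolynomial
open WeilNum

namespace Groth.Agent.S17985


namespace S17985aux

open Groth.Agent.S17984.S17984aux (coeff_symm Irel exists_clear)

/-- the symmetric polynomial `h` of a Weil polynomial -/
theorem exists_h (p e : ℕ) [Fact p.Prime] (P : Polynomial ℤ) (hPm : P.Monic) (D : ℕ)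
    (hdeg : P.natDegree = 2 * D) (hroots : ∀ z ∈ P.aroots ℂ, ‖z‖ = Real.sqrt ((p : ℝ) ^ e)) :
    ∃ h : MvPolynomial (Fin 2) ℤ, X 0 ^ D * h - Polynomial.aeval (X 0 : MvPolynomial (Fin 2) ℤ) P ∈
      Irel ((p : ℤ) ^ e) := by
  set F : MvPolynomial (Fin 2) ℤ := X 0
  set V : MvPolynomial (Fin 2) ℤ := X 1
  set Q : ℤ := (p : ℤ) ^ e with hQ
  have hQn : Q = ((p ^ e : ℕ) : ℤ) := by simp [Q]
  obtain ⟨ε, hε, hco⟩ := coeff_symm P hPm D hdeg (p ^ e) (pow_pos (Fact.out : p.Prime).pos _)
    (fun z hz => by rw [hroots z hz]; push_cast; rfl)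
  let h0 : MvPolynomial (Fin 2) ℤ := (∑ k ∈ Finset.range (D + 1), C (P.coeff (D + k)) * F ^ k) +
    ∑ k ∈ Finset.range D, C (ε * P.coeff (D + (k + 1))) * V ^ (k + 1)
  set I := Irel Q with hI
  have hrel : F * V - C Q ∈ I := Ideal.subset_span rfl
  refine ⟨h0, ?_⟩
  rw [← Ideal.Quotient.eq_zero_iff_mem]
  set φ := Ideal.Quotient.mk I
  have hFV : φ F * φ V = φ (C Q) := by
    rw [← map_mul, ← sub_eq_zero, ← map_sub, Ideal.Quotient.eq_zero_iff_mem]; exact hrel
  rw [map_sub, sub_eq_zero, Polynomial.aeval_def, Polynomial.eval₂_eq_sum_range, hdeg,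
    show 2 * D + 1 = D + (D + 1) by omega, Finset.sum_range_add]
  simp only [h0, mul_add, Finset.mul_sum, map_add, map_sum, MvPolynomial.algebraMap_eq]
  rw [add_comm]
  refine congrArg₂ (· + ·) ?_ (Finset.sum_congr rfl fun k _ => ?_)
  · rw [← Finset.sum_range_reflect (fun i => φ (C (P.coeff i) * F ^ i)) D]
    refine Finset.sum_congr rfl fun k hk => ?_
    rw [Finset.mem_range] at hk
    have hc := hco (k + 1) (by omega)
    rw [← hQn] at hc
    rw [show D - 1 - k = D - (k + 1) by omega, hc]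
    simp only [map_mul, map_pow]
    obtain ⟨j, hj⟩ := Nat.exists_eq_add_of_le (show k + 1 ≤ D by omega)
    rw [show D - (k + 1) = j by omega, ← hFV, mul_pow]
    have : φ F ^ D = φ F ^ (k + 1) * φ F ^ j := by rw [← pow_add, ← hj]
    rw [this]; ring
  · simp only [map_mul, map_pow]; rw [pow_add]; ring

/-- `q / π` is an algebraic integer for a Weil number `π`. -/
theorem isIntegral_q_div (K : Type u) [Field K] [CharZero K] (x : K) (hx : IsIntegral ℤ x) (q : ℕ)
    (hq : q ≠ 0) (hweil : ∀ z ∈ (minpoly ℤ x).aroots ℂ, ‖z‖ = Real.sqrt (q : ℝ)) :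
    IsIntegral ℤ ((q : K) / x) := by
  let L := IntermediateField.adjoin ℚ {x}
  haveI : FiniteDimensional ℚ L := IntermediateField.adjoin.finiteDimensional hx.tower_top
  let φ : L →ₐ[ℚ] ℂ := IsAlgClosed.lift
  let g : L := IntermediateField.AdjoinSimple.gen ℚ x
  have hgx : algebraMap L K g = x := IntermediateField.AdjoinSimple.algebraMap_gen ℚ x
  let ι' : L →ₐ[ℤ] K := (IsScalarTower.toAlgHom ℚ L K).restrictScalars ℤ
  have hg : Polynomial.aeval g (minpoly ℤ x) = 0 := by
    apply (algebraMap L K).injective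
    have h1 := Polynomial.aeval_algHom_apply ι' g (minpoly ℤ x)
    rw [show ι' g = x from hgx, minpoly.aeval] at h1
    rw [map_zero]
    exact h1.symm
  have hz : Polynomial.aeval (φ g) (minpoly ℤ x) = 0 := by
    have h1 := Polynomial.aeval_algHom_apply (φ.restrictScalars ℤ) g (minpoly ℤ x)
    rw [hg, map_zero] at h1
    exact h1
  have hzn : ‖φ g‖ = Real.sqrt (q : ℝ) := hweil _ (Polynomial.mem_aroots.mpr ⟨(minpoly.monic hx).ne_zero, hz⟩)
  have hz0 : φ g ≠ 0 := by
    intro h0
    rw [h0, norm_zero, eq_comm, Real.sqrt_eq_zero (by positivity)] at hzn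
    exact hq (by exact_mod_cast hzn)
  have hconj : φ ((q : L) / g) = (starRingEnd ℂ) (φ g) := by
    rw [map_div₀, map_natCast, div_eq_iff hz0, mul_comm, Complex.mul_conj, Complex.normSq_eq_norm_sq, hzn,
      Real.sq_sqrt (Nat.cast_nonneg q)]
    simp
  have hI : IsIntegral ℤ (φ ((q : L) / g)) := by
    rw [hconj]
    exact IsIntegral.map (RingHom.toIntAlgHom (starRingEnd ℂ)) ⟨minpoly ℤ x, minpoly.monic hx, hz⟩
  have hI' : IsIntegral ℤ ((q : L) / g) :=
    (isIntegral_algHom_iff (φ.restrictScalars ℤ) φ.toRingHom.injective).mp hI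
  have hI'' := hI'.map ι'
  rwa [map_div₀, map_natCast, show ι' g = x from hgx] at hI''

/-- Quotients of `ℤ[F, V]` by a regular sequence are Gorenstein, in every universe. -/
theorem gorenstein_of_regular (S : Type u) [CommRing S] (Φ : MvPolynomial (Fin 2) ℤ →+* S)
    (hΦ : Function.Surjective Φ) (rs : List (MvPolynomial (Fin 2) ℤ))
    (hreg : RingTheory.Sequence.IsWeaklyRegular (MvPolynomial (Fin 2) ℤ) rs)
    (hker : RingHom.ker Φ = Ideal.ofList rs) : LocCoh.IsGorensteinRing S := by
  let R' := MvPolynomial (Fin 2) (ULift.{u} ℤ)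
  let e : R' ≃+* MvPolynomial (Fin 2) ℤ := MvPolynomial.mapEquiv (Fin 2) ULift.ringEquiv
  haveI : IsRegularRing R' := IsRegularRing.of_ringEquiv e.symm
  have hG : LocCoh.IsGorensteinRing R' := DualLib.GorRing.gorensteinRing_of_isRegularRing R'
  let rs' := rs.map e.symm
  have hreg' : RingTheory.Sequence.IsWeaklyRegular R' rs' := by
    refine (AddEquiv.isWeaklyRegular_congr (e := e.symm.toAddEquiv) ?_).mp hreg
    exact List.forall₂_map_right_iff.mpr <| List.forall₂_same.mpr fun r _ x => map_mul e.symm r x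
  have hGq : LocCoh.IsGorensteinRing (R' ⧸ Ideal.ofList rs') := by
    refine DualLib.GorRing.gorensteinRing_quotient hG _ fun q _ _ =>
      ⟨rs'.map (algebraMap R' (Localization.AtPrime q)), ?_, (Ideal.map_ofList _ _).symm⟩
    haveI : Module.Flat R' (Localization.AtPrime q) := IsLocalization.flat _ q.primeCompl
    exact (RingTheory.Sequence.isWeaklyRegular_map_algebraMap_iff (Localization.AtPrime q)
      (Localization.AtPrime q) rs').2 (EGA41Lib.isWeaklyRegular_of_flat (A := R') (Localization.AtPrime q) hreg')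
  have hsurj : Function.Surjective (Φ.comp e.toRingHom) := hΦ.comp e.surjective
  have hk : RingHom.ker (Φ.comp e.toRingHom) = Ideal.ofList rs' := by
    rw [← RingHom.comap_ker, hker]
    show Ideal.comap (e : R' →+* MvPolynomial (Fin 2) ℤ) (Ideal.ofList rs) = _
    exact (Ideal.map_symm e).symm.trans (Ideal.map_ofList _ _)
  exact DualLib.GorRing.gorensteinRing_congr
    ((Ideal.quotEquivOfEq hk.symm).trans (RingHom.quotientKerEquivOfSurjective hsurj)) hGq

end S17985aux

/-- Let p be a prime, e ≥ 1 and q = p^e. Let (π_i) be a nonempty finite family of pairwise nonconjugate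
Weil q-numbers: π_i is an element of a field K_i of characteristic zero, integral over ℤ with
minimal polynomial P_i, every complex root of P_i has absolute value √q, and P_i ≠ P_j for i ≠ j.
Suppose the total degree Σ_i deg P_i is even, equal to 2D. Let R_w be the minimal central order, the
image of ℤ[F, V] → ∏_i K_i, F ↦ (π_i), V ↦ (q/π_i). Then R_w is free of rank 2D as a ℤ-module, has
Krull dimension 1, and is a Gorenstein ring (Noetherian, with all localizations at primes of finite
injective dimension over themselves). -/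
theorem result (p e : ℕ) [Fact p.Prime] (he : 0 < e)
    (ι : Type) [Fintype ι] (K : ι → Type u) [∀ i, Field (K i)] [∀ i, CharZero (K i)] (π : ∀ i, K i)
    (hint : ∀ i, IsIntegral ℤ (π i))
    (hweil : ∀ i, ∀ z ∈ (minpoly ℤ (π i)).aroots ℂ, ‖z‖ = Real.sqrt ((p : ℝ) ^ e))
    (hinj : ∀ i j, minpoly ℤ (π i) = minpoly ℤ (π j) → i = j)
    [Nonempty ι] (D : ℕ) (hD : ∑ i, (minpoly ℤ (π i)).natDegree = 2 * D) :
    Module.Free ℤ (MvPolynomial.aeval ![fun i => π i, fun i => ((p : K i) ^ e) / π i] :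
        MvPolynomial (Fin 2) ℤ →ₐ[ℤ] ((i : ι) → K i)).range ∧
      Module.finrank ℤ (MvPolynomial.aeval ![fun i => π i, fun i => ((p : K i) ^ e) / π i] :
        MvPolynomial (Fin 2) ℤ →ₐ[ℤ] ((i : ι) → K i)).range = 2 * D ∧
      ringKrullDim (MvPolynomial.aeval ![fun i => π i, fun i => ((p : K i) ^ e) / π i] :
        MvPolynomial (Fin 2) ℤ →ₐ[ℤ] ((i : ι) → K i)).range = 1 ∧
      LocCoh.IsGorensteinRing (MvPolynomial.aeval ![fun i => π i, fun i => ((p : K i) ^ e) / π i] :
        MvPolynomial (Fin 2) ℤ →ₐ[ℤ] ((i : ι) → K i)).range := by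
  classical
  set P := ∏ i, minpoly ℤ (π i) with hP
  have hPm : P.Monic := Polynomial.monic_prod_of_monic _ _ fun i _ => minpoly.monic (hint i)
  have hdeg : P.natDegree = 2 * D := by
    rw [hP, Polynomial.natDegree_prod_of_monic _ _ fun i _ => minpoly.monic (hint i), hD]
  have hroots : ∀ z ∈ P.aroots ℂ, ‖z‖ = Real.sqrt ((p : ℝ) ^ e) := by
    intro z hz
    rw [Polynomial.mem_aroots, hP, map_prod, Finset.prod_eq_zero_iff] at hz
    obtain ⟨i, -, hi⟩ := hz.2
    exact hweil i z (Polynomial.mem_aroots.mpr ⟨(minpoly.monic (hint i)).ne_zero, hi⟩)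
  obtain ⟨h, hh⟩ := S17985aux.exists_h p e P hPm D hdeg hroots
  obtain ⟨hker, hreg⟩ := Groth.Agent.S17984.result p e he ι K π hint hweil hinj D hD h hh
  set Φ := (MvPolynomial.aeval ![fun i => π i, fun i => ((p : K i) ^ e) / π i] :
        MvPolynomial (Fin 2) ℤ →ₐ[ℤ] ((i : ι) → K i)) with hΦ
  have hΦX0 : Φ (X 0) = fun i => π i := by simp [hΦ]
  have hΦX1 : Φ (X 1) = fun i => ((p : K i) ^ e) / π i := by simp [hΦ]
  -- Gorenstein
  have hGor : LocCoh.IsGorensteinRing Φ.range := by
    refine S17985aux.gorenstein_of_regular Φ.range Φ.rangeRestrict.toRingHom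
      Φ.rangeRestrict_surjective [X 0 * X 1 - C ((p : ℤ) ^ e), h] hreg ?_
    rw [show RingHom.ker Φ.rangeRestrict.toRingHom = RingHom.ker Φ by
      ext z; exact ⟨fun hz => congrArg Subtype.val hz, fun hz => Subtype.ext hz⟩, hker,
      Ideal.ofList_cons, Ideal.ofList_singleton, ← Ideal.span_insert]
  -- module-finite
  have hpi : ∀ x : (i : ι) → K i, (∀ i, IsIntegral ℤ (x i)) → IsIntegral ℤ x := by
    intro x hx
    refine ⟨∏ i, minpoly ℤ (x i), Polynomial.monic_prod_of_monic _ _ fun i _ => minpoly.monic (hx i), ?_⟩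
    show Polynomial.aeval x _ = 0
    funext i
    rw [Polynomial.aeval_pi_apply₂, map_prod]
    exact Finset.prod_eq_zero (Finset.mem_univ i) (minpoly.aeval ℤ (x i))
  have hintX : ∀ j : Fin 2, IsIntegral ℤ (Φ (X j)) := by
    intro j
    fin_cases j
    · show IsIntegral ℤ (Φ (X 0)); rw [hΦX0]; exact hpi _ hint
    · show IsIntegral ℤ (Φ (X 1)); rw [hΦX1]
      refine hpi _ fun i => ?_
      have := S17985aux.isIntegral_q_div (K i) (π i) (hint i) (p ^ e)
        (pow_ne_zero _ (Fact.out : p.Prime).ne_zero) (fun z hz => by rw [hweil i z hz]; push_cast; rfl)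
      simpa using this
  have hrange : Φ.range = Algebra.adjoin ℤ (Set.range fun j : Fin 2 => Φ (X j)) := by
    rw [← Algebra.map_top, ← MvPolynomial.adjoin_range_X, AlgHom.map_adjoin, ← Set.range_comp]
    rfl
  haveI : Module.Finite ℤ Φ.range := by
    refine (Module.Finite.iff_fg (N := Subalgebra.toSubmodule Φ.range)).mpr ?_
    rw [hrange]
    exact fg_adjoin_of_finite (Set.finite_range _) (by rintro _ ⟨j, rfl⟩; exact hintX j)
  haveI : IsAddTorsionFree Φ.range :=
    Function.Injective.isAddTorsionFree Φ.range.val.toAddMonoidHom Subtype.val_injective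
  haveI hfree : Module.Free ℤ Φ.range := inferInstance
  -- rank
  let a : Φ.range := Φ.rangeRestrict (X 0)
  let ψ : Polynomial ℤ →ₐ[ℤ] Φ.range := Polynomial.aeval a
  have hψ : ∀ G : Polynomial ℤ, (ψ G : (i : ι) → K i) = fun i => Polynomial.aeval (π i) G := by
    intro G
    have h1 := Polynomial.aeval_algHom_apply Φ.range.val a G
    funext i
    have h2 : (Φ.range.val a) = fun i => π i := hΦX0
    rw [h2] at h1
    have h3 := congrFun h1.symm i
    rw [Polynomial.aeval_pi_apply₂] at h3
    exact h3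
  have hψ0 : ∀ G, ψ G = 0 ↔ P ∣ G := by
    intro G
    constructor
    · intro hG
      rw [hP]
      refine Finset.prod_dvd_of_isRelPrime ?_ (fun i _ => minpoly.isIntegrallyClosed_dvd (hint i) ?_)
      · intro i _ j _ hij
        refine (minpoly.irreducible (hint i)).isRelPrime_iff_not_dvd.mpr fun hd => hij (hinj i j ?_)
        exact Polynomial.eq_of_monic_of_associated (minpoly.monic (hint i)) (minpoly.monic (hint j))
          ((minpoly.irreducible (hint i)).associated_of_dvd (minpoly.irreducible (hint j)) hd)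
      · have := congrFun ((hψ G).symm.trans (congrArg Subtype.val hG)) i
        simpa using this
    · rintro ⟨G', rfl⟩
      apply Subtype.ext
      rw [hψ]
      funext i
      rw [map_mul, hP, map_prod, Finset.prod_eq_zero (Finset.mem_univ i) (minpoly.aeval ℤ (π i)), zero_mul]
      rfl
  let χ : AdjoinRoot P →ₐ[ℤ] Φ.range :=
    AdjoinRoot.liftAlgHom P (Algebra.ofId ℤ Φ.range) a (by
      have : ψ P = 0 := (hψ0 P).mpr dvd_rfl
      exact this)
  have hχ : ∀ G, χ (AdjoinRoot.mk P G) = ψ G := fun G => by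
    simp [χ, ψ, AdjoinRoot.liftAlgHom, Polynomial.aeval_def]
  have hχinj : Function.Injective χ := by
    rw [injective_iff_map_eq_zero]
    intro y hy
    obtain ⟨G, rfl⟩ := AdjoinRoot.mk_surjective y
    rw [hχ, hψ0] at hy
    exact AdjoinRoot.mk_eq_zero.mpr hy
  have hS : Module.finrank ℤ (AdjoinRoot P) = 2 * D := by
    rw [(AdjoinRoot.powerBasis' hPm).finrank, AdjoinRoot.powerBasis'_dim, hdeg]
  have hc0 : P.coeff 0 ≠ 0 := by
    intro h0
    have := hroots 0 (Polynomial.mem_aroots.mpr ⟨hPm.ne_zero, by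
      rw [Polynomial.aeval_def, Polynomial.eval₂_at_zero, h0, map_zero]⟩)
    rw [norm_zero, eq_comm, Real.sqrt_eq_zero (by positivity)] at this
    exact absurd this (pow_ne_zero _ (Nat.cast_ne_zero.mpr (Fact.out : p.Prime).ne_zero))
  have hunit : ∃ G1 : Polynomial ℤ, a * ψ G1 = (P.coeff 0 : Φ.range) := by
    refine ⟨-(P.divX), ?_⟩
    have h1 : ψ (Polynomial.X * P.divX + Polynomial.C (P.coeff 0)) = 0 := by
      rw [Polynomial.X_mul_divX_add]; exact (hψ0 P).mpr dvd_rfl
    rw [map_add, map_mul] at h1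
    simp only [ψ, Polynomial.aeval_X, Polynomial.aeval_C, algebraMap_int_eq, eq_intCast, map_intCast] at h1
    rw [map_neg]
    linear_combination -h1
  have hrank : Module.finrank ℤ Φ.range = 2 * D := by
    obtain ⟨G1, hG1⟩ := hunit
    let N := LinearMap.range χ.toLinearMap
    have hN : Module.finrank ℤ N = 2 * D := by
      rw [LinearMap.finrank_range_of_inj hχinj, hS]
    have htors : Module.finrank ℤ (Φ.range ⧸ N) = 0 := by
      rw [Module.finrank_eq_zero_iff]
      intro y
      obtain ⟨y, rfl⟩ := Submodule.Quotient.mk_surjective _ y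
      obtain ⟨z, rfl⟩ := Φ.rangeRestrict_surjective y
      obtain ⟨n, G, hG⟩ := Groth.Agent.S17984.S17984aux.exists_clear ((p : ℤ) ^ e) z
      have h0 : Φ.rangeRestrict (X 0 ^ n * z - Polynomial.aeval (X 0) G) = 0 := by
        apply Subtype.ext
        have hle : Groth.Agent.S17984.S17984aux.Irel ((p : ℤ) ^ e) ≤ RingHom.ker Φ := by
          rw [hker]; exact Ideal.span_mono (by simp)
        exact hle hG
      rw [map_sub, map_mul, map_pow, ← Polynomial.aeval_algHom_apply, sub_eq_zero] at h0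
      refine ⟨P.coeff 0 ^ n, pow_ne_zero _ hc0, ?_⟩
      rw [← Submodule.Quotient.mk_smul, Submodule.Quotient.mk_eq_zero]
      refine ⟨AdjoinRoot.mk P (G1 ^ n * G), ?_⟩
      rw [AlgHom.toLinearMap_apply]
      rw [hχ, map_mul, map_pow, show ψ G = a ^ n * Φ.rangeRestrict z from h0.symm, ← mul_assoc, ← mul_pow,
        mul_comm (ψ G1), hG1, zsmul_eq_mul]
      push_cast
      rfl
    have := Submodule.finrank_quotient_add_finrank N
    omega
  refine ⟨hfree, hrank, ?_, hGor⟩
  -- dimension
  haveI : Algebra.IsIntegral ℤ Φ.range := Algebra.IsIntegral.of_finite ℤ _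
  haveI : CharZero Φ.range := by
    haveI : CharZero ((i : ι) → K i) := by
      obtain ⟨i⟩ := ‹Nonempty ι›
      exact ⟨fun m n hmn => Nat.cast_injective (R := K i) (congrFun hmn i)⟩
    exact ⟨fun m n hmn => Nat.cast_injective (R := (i : ι) → K i) (congrArg Subtype.val hmn)⟩
  rw [← DimLib.ringKrullDim_eq_of_isIntegral (R := ℤ) (S := Φ.range) (RingHom.injective_int _)]
  exact IsPrincipalIdealRing.ringKrullDim_eq_one ℤ Int.not_isField

end Groth.Agent.S17985
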