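import Groth.Statements.S17987
import Mathlib
-- import your own Groth.Agent.* helpers here

set_option autoImplicit false
universe u
open scoped Classical
open WeilNum

namespace Groth.Agent.S17987

/-- Let p be a prime, e ≥ 1 and q = p^e, and let (π_i) be a finite family of nonreal Weil q-numbers: π_i
lies in a field K_i of characteristic zero, is integral over ℤ with minimal polynomial P_i, every
complex root of P_i has absolute value √q, and no complex root of P_i is real; in particular deg P_i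
= 2d_i is even. Call π_i ordinary when exactly half of the roots of P_i in an algebraic closure of
ℚ_p, counted with multiplicity, are p-adic units (have absolute value 1). Then all π_i are ordinary
if and only if p does not divide ∏_i a_{d_i}, the product of the middle coefficients of the P_i
(this product is the value at F = V = 0 of the symmetric polynomial h_w of the family). -/
theorem result (p e : ℕ) [Fact p.Prime] (he : 0 < e)
    (ι : Type) [Fintype ι] (K : ι → Type u) [∀ i, Field (K i)] [∀ i, CharZero (K i)] (π : ∀ i, K i)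
    (hint : ∀ i, IsIntegral ℤ (π i))
    (hweil : ∀ i, ∀ z ∈ (minpoly ℤ (π i)).aroots ℂ, ‖z‖ = Real.sqrt ((p : ℝ) ^ e))
    (hnr : ∀ i, ∀ z ∈ (minpoly ℤ (π i)).aroots ℂ, z.im ≠ 0) :
    (∀ i, 2 * Multiset.card (((minpoly ℤ (π i)).aroots (PadicAlgCl p)).filter (fun z => ‖z‖ = 1)) = (minpoly ℤ (π i)).natDegree) ↔
      ¬ ((p : ℤ) ∣ ∏ i, (minpoly ℤ (π i)).coeff ((minpoly ℤ (π i)).natDegree / 2)) := by
  classical
  have hq0 : (0 : ℝ) < (p : ℝ) ^ e := pow_pos (Nat.cast_pos.2 (Fact.out : p.Prime).pos) e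
  suffices H : ∀ i, 2 * Multiset.card (((minpoly ℤ (π i)).aroots (PadicAlgCl p)).filter (fun z => ‖z‖ = 1)) =
      (minpoly ℤ (π i)).natDegree ↔ ¬ ((p : ℤ) ∣ (minpoly ℤ (π i)).coeff ((minpoly ℤ (π i)).natDegree / 2)) by
    rw [(Nat.prime_iff_prime_int.1 (Fact.out : p.Prime)).dvd_finsetProd_iff]
    simp only [H, Finset.mem_univ, true_and, not_exists]
  intro i
  set P := minpoly ℤ (π i) with hP
  have hPm : P.Monic := minpoly.monic (hint i)
  have hirr : Irreducible (P.map (algebraMap ℤ ℚ)) :=
    (Polynomial.Monic.irreducible_iff_irreducible_map_fraction_map hPm).1 (minpoly.irreducible (hint i))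
  set n := P.natDegree with hn
  have hn0 : 0 < n := minpoly.natDegree_pos (hint i)
  set Ω := PadicAlgCl p
  set R : Multiset Ω := P.aroots Ω with hR
  have hPΩ : (P.map (algebraMap ℤ Ω)).Monic := hPm.map _
  have hsplit : (P.map (algebraMap ℤ Ω)).Splits := IsAlgClosed.splits _
  have hcard : Multiset.card R = n := by
    rw [hR, Polynomial.aroots_def, ← hsplit.natDegree_eq_card_roots, hPm.natDegree_map]
  have hsep : (P.map (algebraMap ℤ Ω)).Separable := by
    have := (hirr.separable).map (f := algebraMap ℚ Ω)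
    rwa [Polynomial.map_map, Subsingleton.elim ((algebraMap ℚ Ω).comp (algebraMap ℤ ℚ)) (algebraMap ℤ Ω)] at this
  have hnd : R.Nodup := Polynomial.nodup_roots hsep
  have hroot : ∀ z, z ∈ R ↔ Polynomial.aeval z P = 0 := fun z => by
    rw [hR, Polynomial.mem_aroots]
    exact ⟨fun h => h.2, fun h => ⟨hPm.ne_zero, h⟩⟩
  have hint1 : ∀ a : ℤ, ‖algebraMap ℤ Ω a‖ = ‖(a : ℚ_[p])‖ := fun a => by
    rw [← PadicAlgCl.norm_extends p (a : ℚ_[p])]
    congr 1
  have hle1 : ∀ z ∈ R, ‖z‖ ≤ 1 := by
    intro z hz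
    by_contra hgt
    rw [not_le] at hgt
    have h0 := (hroot z).1 hz
    rw [Polynomial.aeval_eq_sum_range, ← hn, Finset.sum_range_succ,
      show P.coeff n = 1 from hPm.coeff_natDegree, one_smul] at h0
    have hb : ‖∑ j ∈ Finset.range n, P.coeff j • z ^ j‖ ≤ ‖z‖ ^ (n - 1) := by
      refine IsUltrametricDist.norm_sum_le_of_forall_le_of_nonneg (pow_nonneg (norm_nonneg _) _) fun j hj => ?_
      rw [Algebra.smul_def, norm_mul, hint1, norm_pow]
      calc ‖((P.coeff j : ℤ) : ℚ_[p])‖ * ‖z‖ ^ j ≤ 1 * ‖z‖ ^ (n - 1) := by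
            refine mul_le_mul ?_ (pow_le_pow_right₀ hgt.le ?_) (pow_nonneg (norm_nonneg _) _) zero_le_one
            · exact Padic.norm_int_le_one _
            · have := Finset.mem_range.1 hj; omega
        _ = _ := one_mul _
    rw [eq_neg_of_add_eq_zero_left h0, norm_neg, norm_pow] at hb
    exact absurd hb (not_le.2 (pow_lt_pow_right₀ hgt (by omega)))
  -- the symmetry
  have hsym : ∀ z ∈ R, z ≠ 0 ∧ ((p : Ω) ^ e / z) ∈ R := by
    obtain ⟨w, hw⟩ : ∃ w : ℂ, w ∈ P.aroots ℂ := by
      obtain ⟨w, hw⟩ := IsAlgClosed.exists_aeval_eq_zero ℂ P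
        (by rw [Polynomial.degree_eq_natDegree hPm.ne_zero, ← hn]; exact_mod_cast hn0.ne')
      exact ⟨w, Polynomial.mem_aroots.2 ⟨hPm.ne_zero, hw⟩⟩
    have hw0 := (Polynomial.mem_aroots.1 hw).2
    have hwne : w ≠ 0 := by
      intro h
      have := hweil i w hw
      rw [h, norm_zero] at this
      exact (Real.sqrt_pos.2 hq0).ne' this.symm
    let Q : Polynomial ℤ := ∑ j ∈ Finset.range (n + 1), Polynomial.C (P.coeff j * (p : ℤ) ^ (e * j)) * Polynomial.X ^ (n - j)
    have hQ : ∀ {S : Type} [Field S] (z : S), z ≠ 0 →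
        Polynomial.aeval z Q = z ^ n * Polynomial.aeval ((p : S) ^ e / z) P := by
      intro S _ z hz
      simp only [Q, map_sum, map_mul, map_pow, Polynomial.aeval_C, Polynomial.aeval_X, eq_intCast, Int.cast_natCast, Int.cast_pow, map_natCast, Polynomial.C_eq_intCast, map_intCast]
      rw [Polynomial.aeval_eq_sum_range, ← hn, Finset.mul_sum]
      refine Finset.sum_congr rfl fun j hj => ?_
      obtain ⟨c, hc⟩ := Nat.exists_eq_add_of_le (Nat.le_of_lt_succ (Finset.mem_range.1 hj))
      rw [Algebra.smul_def, eq_intCast, div_pow, ← pow_mul, hc, Nat.add_sub_cancel_left, pow_add]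
      field_simp
    have hQw : Polynomial.aeval w Q = 0 := by
      rw [hQ w hwne]
      have hc : ((p : ℂ) ^ e / w) = (starRingEnd ℂ) w := by
        rw [div_eq_iff hwne, mul_comm, Complex.mul_conj, Complex.normSq_eq_norm_sq, hweil i w hw, Real.sq_sqrt hq0.le]
        push_cast; rfl
      rw [hc, show Polynomial.aeval ((starRingEnd ℂ) w) P = (starRingEnd ℂ) (Polynomial.aeval w P) from
        (Polynomial.aeval_algHom_apply ((starRingEnd ℂ).toIntAlgHom) w P), hw0, map_zero, mul_zero]
    have hdvd : P.map (algebraMap ℤ ℚ) ∣ Q.map (algebraMap ℤ ℚ) := by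
      have hmin : P.map (algebraMap ℤ ℚ) = minpoly ℚ w :=
        minpoly.eq_of_irreducible_of_monic (x := w) hirr (by rw [Polynomial.aeval_map_algebraMap (A := ℚ)]; exact hw0) (hPm.map _)
      rw [hmin]
      exact minpoly.dvd ℚ w (by rw [Polynomial.aeval_map_algebraMap (A := ℚ)]; exact hQw)
    intro z hz
    have hz' := (hroot z).1 hz
    have hz0 : z ≠ 0 := by
      intro h
      rw [h, Polynomial.aeval_def, Polynomial.eval₂_at_zero, map_eq_zero_iff _ (RingHom.injective_int _)] at hz'
      have hX : Polynomial.X ∣ P := Polynomial.X_dvd_iff.2 hz'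
      obtain ⟨T, hT⟩ := hX
      have hT' : Polynomial.aeval w T = 0 := by
        rw [hT, map_mul, Polynomial.aeval_X] at hw0
        exact (mul_eq_zero.1 hw0).resolve_left hwne
      have hd : P.map (algebraMap ℤ ℚ) ∣ T.map (algebraMap ℤ ℚ) := by
        rw [minpoly.eq_of_irreducible_of_monic (x := w) hirr (by rw [Polynomial.aeval_map_algebraMap (A := ℚ)]; exact (Polynomial.mem_aroots.1 hw).2) (hPm.map _)]
        exact minpoly.dvd ℚ w (by rw [Polynomial.aeval_map_algebraMap (A := ℚ)]; exact hT')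
      have hTm : T.Monic := Polynomial.Monic.of_mul_monic_left Polynomial.monic_X (hT ▸ hPm)
      have := Polynomial.natDegree_le_of_dvd hd ((hTm.map _).ne_zero)
      rw [hPm.natDegree_map, hTm.natDegree_map, hT, Polynomial.monic_X.natDegree_mul hTm, Polynomial.natDegree_X] at this
      omega
    refine ⟨hz0, (hroot _).2 ?_⟩
    have hQz : Polynomial.aeval z Q = 0 := by
      obtain ⟨T, hT⟩ := hdvd
      have h := congrArg (Polynomial.eval₂ (algebraMap ℚ Ω) z) hT
      rw [Polynomial.eval₂_map, Polynomial.eval₂_mul, Polynomial.eval₂_map,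
        Subsingleton.elim ((algebraMap ℚ Ω).comp (algebraMap ℤ ℚ)) (algebraMap ℤ Ω),
        ← Polynomial.aeval_def, ← Polynomial.aeval_def, hz', zero_mul] at h
      exact h
    have h2 := hQ (S := Ω) z hz0
    simp only [Polynomial.aeval_def] at h2 hQz ⊢
    rw [Subsingleton.elim (algebraMap ℤ Ω) (Int.castRingHom Ω)] at hQz ⊢
    simp only [algebraMap_int_eq] at h2
    rw [hQz, eq_comm] at h2
    exact (mul_eq_zero.1 h2).resolve_left (pow_ne_zero _ hz0)
  -- counting
  let F : Finset Ω := ⟨R, hnd⟩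
  let U : Finset Ω := F.filter (fun z => ‖z‖ = 1)
  have hU : Multiset.card (R.filter (fun z => ‖z‖ = 1)) = U.card := rfl
  have hq1 : ‖((p : Ω) ^ e)‖ < 1 := by
    rw [norm_pow]
    refine pow_lt_one₀ (norm_nonneg _) ?_ he.ne'
    have := hint1 p
    rw [map_natCast] at this
    rw [this, Padic.norm_intCast_lt_one_iff]
  have hUn : 2 * U.card ≤ n := by
    have hsub : U.image (fun z => (p : Ω) ^ e / z) ⊆ F \ U := by
      intro y hy
      obtain ⟨z, hz, rfl⟩ := Finset.mem_image.1 hy
      obtain ⟨hz1, hz2⟩ := Finset.mem_filter.1 hz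
      refine Finset.mem_sdiff.2 ⟨(hsym z hz1).2, fun h => ?_⟩
      have h2 := (Finset.mem_filter.1 h).2
      rw [norm_div, hz2, div_one] at h2
      exact hq1.ne h2
    have h1 := Finset.card_le_card hsub
    have hinj : Set.InjOn (fun z : Ω => (p : Ω) ^ e / z) U := by
      intro a _ b _ hab
      have hpe : ((p : Ω) ^ e) ≠ 0 := pow_ne_zero _ (Nat.cast_ne_zero.2 (Fact.out : p.Prime).ne_zero)
      simp only [div_eq_mul_inv] at hab
      exact inv_injective (mul_left_cancel₀ hpe hab)
    have hFn : F.card = n := hcard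
    rw [Finset.card_image_of_injOn hinj, Finset.card_sdiff_of_subset (show U ⊆ F from Finset.filter_subset _ _), hFn] at h1
    omega
  -- coefficient
  set m := n - n / 2 with hm
  have hFn : F.card = n := hcard
  have hcoef : ‖((P.coeff (n / 2) : ℤ) : ℚ_[p])‖ = ‖∑ t ∈ F.powersetCard m, ∏ z ∈ t, z‖ := by
    have h1 := Multiset.prod_X_sub_C_coeff R (k := n / 2) (by rw [hcard]; omega)
    have h2 : (R.map fun t => Polynomial.X - Polynomial.C t).prod = P.map (algebraMap ℤ Ω) :=
      (hsplit.eq_prod_roots_of_monic hPΩ).symm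
    rw [h2, Polynomial.coeff_map, hcard, ← hm] at h1
    rw [← hint1, h1, norm_mul, norm_pow, norm_neg, norm_one, one_pow, one_mul]
    congr 1
    show (Multiset.map Multiset.prod (Multiset.powersetCard m R)).sum = _
    rw [Finset.sum_eq_multiset_sum]
    have : (F.powersetCard m).1.map Finset.val = R.powersetCard m := Finset.map_val_val_powersetCard F m
    rw [← this, Multiset.map_map]
    congr 1
    exact Multiset.map_congr rfl fun t _ => (Finset.prod_val t).trans rfl
  have hterm : ∀ t ∈ F.powersetCard m, t ≠ U → ‖∏ z ∈ t, z‖ < 1 := by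
    intro t ht htU
    obtain ⟨hts, htc⟩ := Finset.mem_powersetCard.1 ht
    obtain ⟨z, hzt, hzU⟩ : ∃ z ∈ t, z ∉ U := by
      by_contra h
      push Not at h
      exact htU (Finset.eq_of_subset_of_card_le h (by rw [htc]; omega))
    rw [← Finset.mul_prod_erase _ _ hzt, norm_mul]
    have hz1 : ‖z‖ < 1 := lt_of_le_of_ne (hle1 z (hts hzt)) fun h => hzU (Finset.mem_filter.2 ⟨hts hzt, h⟩)
    refine lt_of_le_of_lt (mul_le_of_le_one_right (norm_nonneg _) ?_) hz1
    rw [norm_prod]
    exact Finset.prod_le_one (fun _ _ => norm_nonneg _) fun y hy => hle1 y (hts (Finset.mem_of_mem_erase hy))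
  have hsum : ∀ s : Finset (Finset Ω), (∀ t ∈ s, ‖∏ z ∈ t, z‖ < 1) → ‖∑ t ∈ s, ∏ z ∈ t, z‖ < 1 := by
    intro s hs
    induction s using Finset.induction with
    | empty => simp
    | insert a s ha ih =>
      rw [Finset.sum_insert ha]
      exact lt_of_le_of_lt (IsUltrametricDist.norm_add_le_max _ _)
        (max_lt (hs a (Finset.mem_insert_self _ _)) (ih fun t ht => hs t (Finset.mem_insert_of_mem ht)))
  rw [hU, ← Padic.norm_intCast_lt_one_iff, hcoef]
  constructor
  · intro h2
    have hUm : U.card = m := by omega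
    have hmem : U ∈ F.powersetCard m := Finset.mem_powersetCard.2 ⟨Finset.filter_subset _ _, hUm⟩
    rw [← Finset.add_sum_erase _ _ hmem]
    have h1 : ‖∏ z ∈ U, z‖ = 1 := by
      rw [norm_prod]; exact Finset.prod_eq_one fun z hz => (Finset.mem_filter.1 hz).2
    have h3 := hsum ((F.powersetCard m).erase U) fun t ht => hterm t (Finset.mem_of_mem_erase ht) (Finset.ne_of_mem_erase ht)
    rw [IsUltrametricDist.norm_add_eq_max_of_norm_ne_norm (by rw [h1]; exact h3.ne'), h1, max_eq_left h3.le]
    exact lt_irrefl _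
  · intro h
    by_contra hne
    refine h (hsum _ fun t ht => hterm t ht fun e => hne ?_)
    have := (Finset.mem_powersetCard.1 ht).2
    rw [e] at this
    omega

end Groth.Agent.S17987
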