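import Groth.Statements.S17988
import Mathlib
import Groth.Prelude
import Groth.Agent.LocCoh.GorensteinCriteria

set_option linter.all false

set_option autoImplicit false
universe u
open CAlg

open CategoryTheory nonZeroDivisors

namespace Groth.Agent.S17988

section
variable {S : Type u} [CommRing S]

theorem injDim_two [LocCoh.IsGorensteinRing S] (hdim : ringKrullDim S ≤ 1) :
    HasInjectiveDimensionLT (ModuleCat.of S S) 2 := by
  open Groth.Agent.LocCoh in
  refine Groth.Agent.CAlgH3.hasInjectiveDimensionLT_of_forall_ideal 1 _ fun I => ?_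
  open Groth.Agent.LocCoh in
  refine subsingleton_ext_of_local 2 (S ⧸ I) S fun m _ => ?_
  haveI := LocCoh.IsGorensteinRing.isGorensteinLocalRing_localization (A := S) m
  haveI : Module.Finite (Localization.AtPrime m) (LocalizedModule m.primeCompl (S ⧸ I)) :=
    Module.Finite.of_isLocalizedModule (Rₚ := Localization.AtPrime m) m.primeCompl
      (LocalizedModule.mkLinearMap m.primeCompl (S ⧸ I))
  open Groth.Agent.LocCoh in
  obtain ⟨n, hn⟩ := exists_dim_eq (R := Localization.AtPrime m)
  have hnD : n ≤ 1 := by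
    have h1 := ((IsLocalization.AtPrime.ringKrullDim_eq_height m (Localization.AtPrime m)).trans_le
      (Ideal.height_le_ringKrullDim_of_ne_top (Ideal.IsPrime.ne_top inferInstance))).trans hdim
    rw [hn] at h1
    exact_mod_cast h1
  open Groth.Agent.LocCoh in
  exact subsingleton_ext_of_dim_lt hn 2 (by omega) _

/-- With injective dimension at most one, functionals modulo a regular element lift on submodules of free modules. -/
theorem lift_functional (hid : HasInjectiveDimensionLT (ModuleCat.of S S) 2) {N F : Type u} [AddCommGroup N] [Module S N]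
    [AddCommGroup F] [Module S F] [Module.Projective S F] (e : N →ₗ[S] F) (he : Function.Injective e)
    {t : S} (ht : ∀ y : S, t * y = 0 → y = 0) (φ : N →ₗ[S] S ⧸ Ideal.span {t}) :
    ∃ ψ : N →ₗ[S] S, ∀ x, Ideal.Quotient.mk (Ideal.span {t}) (ψ x) = φ x := by
  let I : ModuleCat.{u} S := Injective.under (ModuleCat.of S S)
  let j : S →ₗ[S] I := (Injective.ι (ModuleCat.of S S)).hom
  have hj : Function.Injective j := (ModuleCat.mono_iff_injective _).1 (inferInstanceAs (Mono (Injective.ι (ModuleCat.of S S))))
  haveI : Module.Injective S I := Module.injective_module_of_injective_object (inj := inferInstanceAs (Injective (Injective.under (ModuleCat.of S S)))) ..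
  let q : I →ₗ[S] (I ⧸ LinearMap.range j) := (LinearMap.range j).mkQ
  have hjq : Function.Exact j q := LinearMap.exact_iff.2 (Submodule.ker_mkQ _)
  let C := ModuleCat.shortComplexOfCompEqZero j q (LinearMap.ext fun x => hjq.apply_apply_eq_zero x)
  have hC : C.ShortExact := ModuleCat.shortComplex_shortExact C hjq hj (Submodule.mkQ_surjective _)
  haveI : Injective C.X₂ := inferInstanceAs (Injective (Injective.under (ModuleCat.of S S)))
  haveI hX₃ : HasInjectiveDimensionLT C.X₃ 1 := (hC.hasInjectiveDimensionLT_X₃_iff 0 inferInstance).2 hid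
  haveI : Injective (ModuleCat.of S (I ⧸ LinearMap.range j)) := injective_iff_hasInjectiveDimensionLT_one.2 hX₃
  haveI : Module.Injective S (I ⧸ LinearMap.range j) := Module.injective_module_of_injective_object ..
  obtain ⟨j', hj'⟩ := Module.Injective.out (LinearMap.lsmul S S t) (fun x y h => sub_eq_zero.1 (ht _ (by
    rw [mul_sub, sub_eq_zero]; exact h))) j
  let α : (S ⧸ Ideal.span {t}) →ₗ[S] (I ⧸ LinearMap.range j) :=
    Submodule.liftQ (Ideal.span {t}) (q.comp j') (by
      intro x hx
      obtain ⟨s, rfl⟩ := Ideal.mem_span_singleton'.1 hx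
      rw [LinearMap.mem_ker, LinearMap.comp_apply, mul_comm, show j' (t * s) = j s from hj' s, hjq.apply_apply_eq_zero])
  obtain ⟨f', hf'⟩ := Module.Injective.out e he (α.comp φ)
  obtain ⟨g, hg⟩ := Module.projective_lifting_property q f' (Submodule.mkQ_surjective _)
  have key : ∀ x, ∃ w : S, j w = t • g (e x) ∧ Ideal.Quotient.mk (Ideal.span {t}) w = φ x := by
    intro x
    obtain ⟨s, hs⟩ := Ideal.Quotient.mk_surjective (φ x)
    have h1 : q (g (e x)) = q (j' s) := by
      rw [← LinearMap.comp_apply, hg, hf', LinearMap.comp_apply, ← hs]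
      rfl
    obtain ⟨u, hu⟩ := (hjq (g (e x) - j' s)).1 (by rw [map_sub, h1, sub_self])
    refine ⟨s + t • u, ?_, ?_⟩
    · rw [map_add, map_smul, hu, smul_sub, ← hj' s, LinearMap.lsmul_apply, map_smul]
      abel
    · rw [← hs, Ideal.Quotient.eq]
      exact Ideal.mem_span_singleton'.2 ⟨u, by rw [smul_eq_mul]; ring⟩
  choose w hw hw' using key
  refine ⟨{ toFun := w, map_add' := fun x y => hj ?_, map_smul' := fun r x => hj ?_ }, hw'⟩
  · rw [hw, map_add, map_add, map_add, smul_add, hw, hw]
  · rw [hw, map_smul, map_smul, RingHom.id_apply, map_smul, hw, smul_comm]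

/-- Nonzero classes modulo a regular element are detected by functionals. -/
theorem separate [IsNoetherianRing S] [IsReduced S] (hdim : ringKrullDim S ≤ 1) (hid : HasInjectiveDimensionLT (ModuleCat.of S S) 2)
    {M : Type u} [AddCommGroup M] [Module S M] {F : Type u} [AddCommGroup F] [Module S F] [Module.Projective S F]
    (e : M →ₗ[S] F) (he : Function.Injective e) {t : S} (ht : ∀ y : S, t * y = 0 → y = 0) (m : M)
    (hm : m ∉ (Ideal.span {t} • ⊤ : Submodule S M)) :
    ∃ χ : M →ₗ[S] S, χ m ∉ Ideal.span {t} := by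
  set J : Ideal S := Ideal.span {t} with hJ
  -- self-injectivity of `S/tS`
  have hbaer : Module.Baer (S ⧸ J) (S ⧸ J) := by
    intro K φ
    let K' : Ideal S := K.comap (Ideal.Quotient.mk J)
    let φ' : K' →ₗ[S] S ⧸ J :=
      { toFun := fun x => φ ⟨Ideal.Quotient.mk J x, x.2⟩
        map_add' := fun x y => by rw [← map_add]; rfl
        map_smul' := fun r x => by
          show φ ⟨Ideal.Quotient.mk J (r * x), _⟩ = r • φ ⟨Ideal.Quotient.mk J x, x.2⟩
          rw [← IsScalarTower.algebraMap_smul (S ⧸ J) r (φ _), ← map_smul]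
          congr 1 }
    obtain ⟨ψ, hψ⟩ := lift_functional hid K'.subtype K'.injective_subtype ht φ'
    have htK : t ∈ K' := by
      show Ideal.Quotient.mk J t ∈ K
      rw [Ideal.Quotient.eq_zero_iff_mem.2 (Ideal.mem_span_singleton_self t)]
      exact K.zero_mem
    obtain ⟨s, hs⟩ : ∃ s, ψ ⟨t, htK⟩ = t * s := by
      have h0 : φ' ⟨t, htK⟩ = 0 := by
        show φ ⟨Ideal.Quotient.mk J t, _⟩ = 0
        rw [← map_zero φ]; congr 1
        exact Subtype.ext (Ideal.Quotient.eq_zero_iff_mem.2 (Ideal.mem_span_singleton_self t))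
      have := hψ ⟨t, htK⟩
      rw [h0, Ideal.Quotient.eq_zero_iff_mem, Ideal.mem_span_singleton'] at this
      obtain ⟨s, hs⟩ := this
      exact ⟨s, by rw [← hs, mul_comm]⟩
    refine ⟨LinearMap.toSpanSingleton _ _ (Ideal.Quotient.mk J s), fun x hx => ?_⟩
    obtain ⟨x, rfl⟩ := Ideal.Quotient.mk_surjective x
    have h1 : t * ψ ⟨x, hx⟩ = t * (x * s) := by
      have h2 : t • (⟨x, hx⟩ : K') = x • (⟨t, htK⟩ : K') := Subtype.ext (mul_comm t x)
      have := congrArg ψ h2
      rw [map_smul, map_smul, smul_eq_mul, smul_eq_mul, hs] at this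
      rw [this]; ring
    have h3 : ψ ⟨x, hx⟩ = x * s := sub_eq_zero.1 (ht _ (by rw [mul_sub, h1, sub_self]))
    rw [LinearMap.toSpanSingleton_apply, smul_eq_mul, ← map_mul, ← h3, hψ ⟨x, hx⟩]
    rfl
  haveI := hbaer.injective
  -- a functional on the cyclic submodule
  have hmne : (Submodule.Quotient.mk m : M ⧸ (J • ⊤ : Submodule S M)) ≠ 0 := by rwa [ne_eq, Submodule.Quotient.mk_eq_zero]
  let A := LinearMap.ker (LinearMap.toSpanSingleton S _ (Submodule.Quotient.mk m : M ⧸ (J • ⊤ : Submodule S M)))
  obtain ⟨P, hP, hAP⟩ := Ideal.exists_le_maximal A (fun htop => hmne (by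
    have h1 : (1 : S) ∈ A := by rw [htop]; trivial
    simpa [A] using h1))
  haveI := hP.isPrime
  have htA : t ∈ A := by
    simp only [A, LinearMap.mem_ker, LinearMap.toSpanSingleton_apply, ← Submodule.Quotient.mk_smul, Submodule.Quotient.mk_eq_zero]
    exact Submodule.smul_mem_smul (Ideal.mem_span_singleton_self t) trivial
  have hPmin : P ∈ (Ideal.span {t}).minimalPrimes := by
    refine ⟨⟨hP.isPrime, (Ideal.span_singleton_le_iff_mem _).2 (hAP htA)⟩, fun Q ⟨hQ, hQt⟩ hQP => ?_⟩
    by_contra hne
    have hlt : Q < P := lt_of_le_not_ge hQP hne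
    have htQ : t ∈ Q := hQt (Ideal.mem_span_singleton_self t)
    obtain ⟨Q₀, hQ₀, hle⟩ := Ideal.exists_minimalPrimes_le (I := (⊥ : Ideal S)) (J := Q) bot_le
    have hne₀ : Q₀ ≠ Q := by
      rintro rfl
      exact Set.disjoint_left.1 (Ideal.disjoint_nonZeroDivisors_of_mem_minimalPrimes hQ₀) htQ
        (mem_nonZeroDivisors_iff_right.2 fun y hy => ht y (by rwa [mul_comm]))
    let l : LTSeries (PrimeSpectrum S) := LTSeries.mk 2 ![⟨Q₀, hQ₀.1.1⟩, ⟨Q, hQ⟩, ⟨P, hP.isPrime⟩] (by
      rw [Fin.strictMono_iff_lt_succ]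
      intro i
      match i with
      | 0 => exact lt_of_le_of_ne hle fun h => hne₀ (congrArg PrimeSpectrum.asIdeal h)
      | 1 => exact hlt)
    have h2 : l.length = 2 := rfl
    have := (Order.LTSeries.length_le_krullDim l).trans hdim
    rw [h2] at this
    exact absurd this (by decide)
  have hass := Module.associatedPrimes.minimalPrimes_annihilator_subset_associatedPrimes S (S ⧸ J)
    (show P ∈ (Module.annihilator S (S ⧸ J)).minimalPrimes by rw [Ideal.annihilator_quotient]; exact hPmin)
  obtain ⟨-, b, hb⟩ := isAssociatedPrime_iff.1 hass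
  have hb' : ∀ r : S, r • b = 0 ↔ r ∈ P := fun r => by rw [hb, Submodule.mem_colon_singleton, Submodule.mem_bot]
  -- extend
  let Mt := M ⧸ (J • ⊤ : Submodule S M)
  let C : Submodule (S ⧸ J) Mt := Submodule.span (S ⧸ J) {Submodule.Quotient.mk m}
  have hC : ∀ x : C, ∃ r : S, (x : Mt) = r • Submodule.Quotient.mk m := fun x => by
    obtain ⟨r, hr⟩ := Submodule.mem_span_singleton.1 x.2
    obtain ⟨r, rfl⟩ := Ideal.Quotient.mk_surjective r
    exact ⟨r, hr.symm⟩
  choose coef hcoef using hC
  have hwd : ∀ r r' : S, r • (Submodule.Quotient.mk m : Mt) = r' • Submodule.Quotient.mk m → r • b = r' • b := by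
    intro r r' h
    have hA : r - r' ∈ A := by
      simp only [A, LinearMap.mem_ker, LinearMap.toSpanSingleton_apply, sub_smul]; rw [sub_eq_zero]; exact h
    have := (hb' _).2 (hAP hA)
    rwa [sub_smul, sub_eq_zero] at this
  let χ₀ : C →ₗ[S ⧸ J] S ⧸ J :=
    { toFun := fun x => coef x • b
      map_add' := fun x y => (hwd _ (coef x + coef y) (by rw [← hcoef, add_smul, ← hcoef, ← hcoef]; rfl)).trans (add_smul _ _ _)
      map_smul' := fun r x => by
        obtain ⟨r, rfl⟩ := Ideal.Quotient.mk_surjective r
        exact (hwd _ (r * coef x) (by rw [← hcoef, mul_smul, ← hcoef]; rfl)).trans (mul_smul _ _ _) }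
  obtain ⟨χ₁, hχ₁⟩ := Module.Injective.out (R := S ⧸ J) (Q := S ⧸ J) C.subtype C.injective_subtype χ₀
  let φ : M →ₗ[S] S ⧸ J := (χ₁.restrictScalars S).comp (J • ⊤ : Submodule S M).mkQ
  have hφm : φ m = b := by
    have h1 : Submodule.Quotient.mk m ∈ C := Submodule.mem_span_singleton_self _
    refine (hχ₁ ⟨_, h1⟩).trans ?_
    have := hwd (coef ⟨_, h1⟩) 1 (by rw [← hcoef, one_smul])
    exact this.trans (one_smul _ _)
  obtain ⟨χ, hχ⟩ := lift_functional hid e he ht φ
  refine ⟨χ, fun hmem => hP.ne_top ((Ideal.eq_top_iff_one _).2 ((hb' 1).1 ?_))⟩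
  rw [one_smul, ← hφm, ← hχ]
  exact Ideal.Quotient.eq_zero_iff_mem.2 hmem

theorem ringKrullDim_le_one {Λ : Type u} [CommRing Λ] [IsDomain Λ] [IsPrincipalIdealRing Λ] [Algebra Λ S] [Module.Finite Λ S] :
    ringKrullDim S ≤ 1 := by
  let f : PrimeSpectrum S → PrimeSpectrum Λ := fun q => ⟨q.asIdeal.comap (algebraMap Λ S), inferInstance⟩
  haveI : Algebra.IsIntegral Λ S := Algebra.IsIntegral.of_finite Λ S
  have hf : StrictMono f := fun q q' h => Ideal.IsIntegral.comap_lt_comap (R := Λ) h
  exact (Order.krullDim_le_of_strictMono f hf).trans (Ring.krullDimLE_iff.1 (inferInstance : Ring.KrullDimLE 1 Λ))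

end

/-- Let Λ be a principal ideal domain and S a commutative Λ-algebra which is finitely generated and free
as a Λ-module and reduced as a ring; let M be a finitely generated S-module. Then M is torsionless
(the canonical map M → M** to the double S-dual is injective) if and only if M is free as a
Λ-module. If in addition S is a Gorenstein ring (it has Krull dimension at most 1, being finite over
Λ), then M is reflexive (M → M** bijective) if and only if M is free as a Λ-module, so that for such
S torsionless and reflexive finitely generated modules coincide. The published statement is the case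
Λ = ℤ, resp. Λ = ℤ_ℓ for a prime ℓ, with S the minimal central order R_w of a finite set of Weil
q-numbers, resp. its ℓ-adic completion R_w ⊗ ℤ_ℓ, under the assumption that R_w is Gorenstein; the
argument given there uses only that S is finite free over Λ, reduced, and (for reflexivity)
Gorenstein of dimension one. -/
theorem result (Λ : Type u) [CommRing Λ] [IsDomain Λ] [IsPrincipalIdealRing Λ]
    (S : Type u) [CommRing S] [Algebra Λ S] [Module.Finite Λ S] [Module.Free Λ S] [IsReduced S]
    (M : Type u) [AddCommGroup M] [Module S M] [Module Λ M] [IsScalarTower Λ S M] [Module.Finite S M] :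
    (Function.Injective (Module.Dual.eval S M) ↔ Module.Free Λ M) ∧
      (LocCoh.IsGorensteinRing S → (Module.IsReflexive S M ↔ Module.Free Λ M)) := by
  classical
  haveI : IsNoetherianRing S := IsNoetherianRing.of_finite Λ S
  haveI : Module.Finite Λ M := Module.Finite.trans S M
  have hnzS : ∀ l : Λ, l ≠ 0 → ∀ y : S, algebraMap Λ S l * y = 0 → y = 0 := fun l hl y hy => by
    rw [← Algebra.smul_def] at hy
    exact (smul_eq_zero.1 hy).resolve_left hl
  have hfree : Function.Injective (Module.Dual.eval S M) → Module.Free Λ M := fun hinj => by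
    haveI : Module.IsTorsionFree Λ M := ⟨fun {l} hl x y hxy => hinj (LinearMap.ext fun ψ => by
      have h1 : algebraMap Λ S l * (ψ x - ψ y) = 0 := by
        rw [← smul_eq_mul, ← map_sub, ← map_smul, IsScalarTower.algebraMap_smul, smul_sub]
        exact (congrArg ψ (sub_eq_zero.2 hxy)).trans (map_zero ψ)
      exact sub_eq_zero.1 (hnzS l hl.ne_zero _ h1))⟩
    exact Module.free_of_finite_type_torsion_free'
  -- splitting up to a nonzero scalar
  have split : Module.Free Λ M → ∃ (k : ℕ) (p : (Fin k → S) →ₗ[S] M) (e : M →ₗ[S] (Fin k → S)) (l : Λ),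
      l ≠ 0 ∧ Function.Injective e ∧ ∀ m, p (e m) = algebraMap Λ S l • m := by
    intro hF
    obtain ⟨k, p, hp⟩ := Module.Finite.exists_fin' S M
    let T : Submonoid S := Algebra.algebraMapSubmonoid S Λ⁰
    let S' := Localization T
    haveI : Module.Finite (Localization Λ⁰) S' :=
      Module.Finite.of_isLocalizedModule (Rₚ := Localization Λ⁰) Λ⁰ (IsScalarTower.toAlgHom Λ S S').toLinearMap
    haveI : IsArtinianRing (Localization Λ⁰) := inferInstanceAs (IsArtinianRing (FractionRing Λ))
    haveI : IsArtinianRing S' := IsArtinianRing.of_finite (Localization Λ⁰) S'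
    haveI : IsSemisimpleRing S' := IsArtinianRing.isSemisimpleRing_of_isReduced _
    haveI : Module.Projective S' (LocalizedModule T M) := Module.projective_of_isSemisimpleRing ..
    let p' := LocalizedModule.map T p
    have hp' : Function.Surjective p' := LocalizedModule.map_surjective T p hp
    obtain ⟨σ, hσ⟩ := Module.projective_lifting_property p' LinearMap.id hp'
    haveI : Module.FinitePresentation S M := Module.finitePresentation_of_finite S M
    obtain ⟨e, ⟨s, hs⟩, he⟩ := Module.FinitePresentation.exists_lift_of_isLocalizedModule T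
      (LocalizedModule.mkLinearMap T (Fin k → S)) ((σ.restrictScalars S).comp (LocalizedModule.mkLinearMap T M))
    obtain ⟨l, hl, rfl⟩ := hs
    have hl0 : l ≠ 0 := nonZeroDivisors.ne_zero hl
    have hinjM : Function.Injective (LocalizedModule.mkLinearMap T M) := by
      rw [injective_iff_map_eq_zero]
      intro m hm
      obtain ⟨⟨c, hc⟩, hcm⟩ := (IsLocalizedModule.eq_zero_iff T (LocalizedModule.mkLinearMap T M)).1 hm
      obtain ⟨c, hc', rfl⟩ := hc
      rw [Submonoid.smul_def, IsScalarTower.algebraMap_smul] at hcm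
      exact (smul_eq_zero.1 hcm).resolve_left (nonZeroDivisors.ne_zero hc')
    have hpe : ∀ m, p (e m) = algebraMap Λ S l • m := fun m => hinjM (by
      have h1 := congrArg p' (LinearMap.congr_fun he m)
      simp only [LinearMap.coe_comp, Function.comp_apply, LinearMap.smul_apply, LinearMap.coe_restrictScalars,
        Submonoid.smul_def, LinearMap.map_smul_of_tower] at h1
      rw [show p' (σ _) = _ from LinearMap.congr_fun hσ _, LinearMap.id_apply] at h1
      rw [map_smul, ← h1]
      exact (LocalizedModule.map_mk T p (e m) 1).symm)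
    refine ⟨k, p, e, l, hl0, fun x y hxy => ?_, hpe⟩
    have := congrArg p hxy
    rw [hpe, hpe, IsScalarTower.algebraMap_smul, IsScalarTower.algebraMap_smul] at this
    exact sub_eq_zero.1 ((smul_eq_zero.1 (by rw [smul_sub, this, sub_self] : l • (x - y) = 0)).resolve_left hl0)
  have hinj : Module.Free Λ M → Function.Injective (Module.Dual.eval S M) := fun hF => by
    obtain ⟨k, p, e, l, hl, he, hpe⟩ := split hF
    intro x y hxy
    exact he (funext fun i => LinearMap.congr_fun hxy ((LinearMap.proj i).comp e))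
  refine ⟨⟨hfree, hinj⟩, fun hG => ⟨fun hR => hfree (Module.bijective_dual_eval S M).1, fun hF => ⟨⟨hinj hF, fun x => ?_⟩⟩⟩⟩
  have hdim : ringKrullDim S ≤ 1 := ringKrullDim_le_one (Λ := Λ)
  have hid := injDim_two hdim
  obtain ⟨k, p, e, l, hl, he, hpe⟩ := split hF
  let t := algebraMap Λ S l
  have ht := hnzS l hl
  let ψ : Fin k → (M →ₗ[S] S) := fun i => (LinearMap.proj i).comp e
  let m : M := p fun i => x (ψ i)
  have hx : ∀ χ : M →ₗ[S] S, χ m = t * x χ := by
    intro χ
    have hlin : ∀ y : Fin k → S, χ (p y) = ∑ i, y i * χ (p (Pi.single i 1)) := fun y => by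
      conv_lhs => rw [pi_eq_sum_univ' y, map_sum, map_sum]
      exact Finset.sum_congr rfl fun i _ => by rw [map_smul, map_smul, smul_eq_mul]
    have h1 : t • χ = ∑ i, χ (p (Pi.single i 1)) • ψ i := LinearMap.ext fun z => by
      rw [LinearMap.smul_apply, ← map_smul, ← hpe, hlin, LinearMap.sum_apply]
      exact Finset.sum_congr rfl fun i _ => by rw [LinearMap.smul_apply, smul_eq_mul, mul_comm]; rfl
    have h2 := congrArg x h1
    rw [map_smul, map_sum, smul_eq_mul] at h2
    rw [h2, hlin]
    exact Finset.sum_congr rfl fun i _ => by rw [map_smul, smul_eq_mul, mul_comm]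
  have hm : m ∈ (Ideal.span {t} • ⊤ : Submodule S M) := by
    by_contra hm
    obtain ⟨χ, hχ⟩ := separate hdim hid e he ht m hm
    exact hχ (Ideal.mem_span_singleton'.2 ⟨x χ, by rw [hx χ, mul_comm]⟩)
  rw [Submodule.ideal_span_singleton_smul, Submodule.mem_smul_pointwise_iff_exists] at hm
  obtain ⟨m', -, hm'⟩ := hm
  refine ⟨m', LinearMap.ext fun χ => sub_eq_zero.1 (ht _ ?_)⟩
  rw [mul_sub, ← hx χ, ← hm', Module.Dual.eval_apply, map_smul, smul_eq_mul, sub_self]

end Groth.Agent.S17988
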