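import Groth.Statements.S17989
import Mathlib
import Groth.Prelude
import Groth.Agent.LocCoh.GorensteinCriteria

set_option linter.all false

set_option autoImplicit false
universe u
open CategoryTheory
open CAlg

open CategoryTheory

namespace Groth.Agent.S17989

section
variable {S : Type u} [CommRing S]

theorem injDim_two [LocCoh.IsGorensteinRing S] (hdim : ringKrullDim S ≤ 1) :
    HasInjectiveDimensionLT (ModuleCat.of S S) 2 := by
  refine Groth.Agent.CAlgH3.hasInjectiveDimensionLT_of_forall_ideal 1 _ fun I => ?_
  refine Groth.Agent.LocCoh.subsingleton_ext_of_local 2 (S ⧸ I) S fun m _ => ?_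
  haveI := LocCoh.IsGorensteinRing.isGorensteinLocalRing_localization (A := S) m
  haveI : Module.Finite (Localization.AtPrime m) (LocalizedModule m.primeCompl (S ⧸ I)) :=
    Module.Finite.of_isLocalizedModule (Rₚ := Localization.AtPrime m) m.primeCompl
      (LocalizedModule.mkLinearMap m.primeCompl (S ⧸ I))
  obtain ⟨n, hn⟩ := Groth.Agent.LocCoh.exists_dim_eq (R := Localization.AtPrime m)
  have hnD : n ≤ 1 := by
    have h1 := ((IsLocalization.AtPrime.ringKrullDim_eq_height m (Localization.AtPrime m)).trans_le
      (Ideal.height_le_ringKrullDim_of_ne_top (Ideal.IsPrime.ne_top inferInstance))).trans hdim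
    rw [hn] at h1
    exact_mod_cast h1
  exact Groth.Agent.LocCoh.subsingleton_ext_of_dim_lt hn 2 (by omega) _

end

/-- Let S be a Gorenstein ring (a Noetherian ring all of whose localizations at prime ideals have finite
injective dimension as modules over themselves) of Krull dimension 1, and let M be a finitely
generated reflexive S-module (the canonical map M → M** is bijective). Then Ext¹_S(M, S) = 0. -/
theorem result (S : Type u) [CommRing S]
    [LocCoh.IsGorensteinRing S] (hdim : ringKrullDim S = 1)
    (M : Type u) [AddCommGroup M] [Module S M] [Module.Finite S M] [Module.IsReflexive S M] :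
    Subsingleton (Abelian.Ext (ModuleCat.of S M) (ModuleCat.of S S) 1) := by
  haveI hid := injDim_two (S := S) hdim.le
  haveI : Module.Finite S (Module.Dual S M) := by
    haveI : IsNoetherian S (M →ₗ[S] S) := inferInstance
    exact inferInstanceAs (Module.Finite S (M →ₗ[S] S))
  obtain ⟨k, π, hπ⟩ := Module.Finite.exists_fin' S (Module.Dual S M)
  let e : M →ₗ[S] Module.Dual S (Fin k → S) := π.dualMap.comp (Module.Dual.eval S M)
  have he : Function.Injective e :=
    (LinearMap.dualMap_injective_of_surjective hπ).comp (Module.bijective_dual_eval S M).1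
  let q : Module.Dual S (Fin k → S) →ₗ[S] (Module.Dual S (Fin k → S) ⧸ LinearMap.range e) := (LinearMap.range e).mkQ
  have hex : Function.Exact e q := LinearMap.exact_iff.2 (Submodule.ker_mkQ _)
  let C := ModuleCat.shortComplexOfCompEqZero e q (LinearMap.ext fun x => hex.apply_apply_eq_zero x)
  have hC : C.ShortExact := ModuleCat.shortComplex_shortExact C hex he (Submodule.mkQ_surjective _)
  haveI : Projective C.X₂ := ModuleCat.projective_of_free (Module.Free.chooseBasis S (Module.Dual S (Fin k → S)))
  refine subsingleton_of_forall_eq 0 fun x => ?_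
  obtain ⟨y, hy⟩ := Abelian.Ext.contravariant_sequence_exact₁ hC (ModuleCat.of S S) x (rfl : 1 + 1 = 2)
    (Abelian.Ext.eq_zero_of_hasInjectiveDimensionLT _ 2 le_rfl)
  rw [← hy, y.eq_zero_of_hasProjectiveDimensionLT 1 le_rfl, Abelian.Ext.comp_zero]

end Groth.Agent.S17989
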