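import Groth.Statements.S17990
import Mathlib
import Groth.Prelude

set_option linter.all false

set_option autoImplicit false
universe u
open CAlg


namespace Groth.Agent.S17990

section
variable {S : Type u} [CommRing S]

theorem exists_kill_minimal [IsNoetherianRing S] [IsReduced S] {P : Ideal S} (hP : P ∈ minimalPrimes S) :
    ∃ c : S, c ∉ P ∧ ∀ y ∈ P, c * y = 0 := by
  classical
  have hfin : (minimalPrimes S).Finite := minimalPrimes.finite_of_isNoetherianRing S
  haveI : P.IsPrime := hP.1.1
  let s := hfin.toFinset.erase P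
  have hnot : ¬ (s.inf id : Ideal S) ≤ P := by
    intro h
    obtain ⟨Q, hQ, hle⟩ := (Ideal.IsPrime.inf_le' inferInstance).1 h
    simp only [s, Finset.mem_erase, Set.Finite.mem_toFinset] at hQ
    exact hQ.1 (le_antisymm hle (hP.2 ⟨hQ.2.1.1, bot_le⟩ hle))
  obtain ⟨c, hc, hcP⟩ := SetLike.not_le_iff_exists.1 hnot
  refine ⟨c, hcP, fun y hy => ?_⟩
  have : c * y ∈ sInf (minimalPrimes S) := by
    rw [Ideal.mem_sInf]
    intro Q hQ
    by_cases hQP : Q = P
    · exact hQP ▸ P.mul_mem_left c hy
    · refine Q.mul_mem_right y ((Finset.inf_le (f := id) (b := Q) ?_) hc)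
      simp [s, hQP, hQ]
  rw [show sInf (minimalPrimes S) = (⊥ : Ideal S).radical from Ideal.sInf_minimalPrimes, Ideal.mem_radical_iff] at this
  obtain ⟨k, hk⟩ := this
  exact IsNilpotent.eq_zero ⟨k, Ideal.mem_bot.1 hk⟩

theorem exists_regular_mem [IsNoetherianRing S] [IsReduced S] {P : Ideal S} [P.IsPrime] (hP : P ∉ minimalPrimes S) :
    ∃ t ∈ P, ∀ y : S, t * y = 0 → y = 0 := by
  classical
  have hfin : (minimalPrimes S).Finite := minimalPrimes.finite_of_isNoetherianRing S
  have hnot : ¬ ((P : Set S) ⊆ ⋃ Q ∈ (hfin.toFinset : Set (Ideal S)), (Q : Set S)) := by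
    intro h
    obtain ⟨Q, hQ, hle⟩ := (Ideal.subset_union_prime P P (fun Q hQ _ _ => (by
      simpa using hQ : Q ∈ minimalPrimes S).1.1)).1 h
    have hQ' : Q ∈ minimalPrimes S := by simpa using hQ
    exact hP (le_antisymm hle (hQ'.2 ⟨‹_›, bot_le⟩ hle) ▸ hQ')
  obtain ⟨t, htP, ht⟩ := Set.not_subset.1 hnot
  refine ⟨t, htP, fun y hy => ?_⟩
  have : y ∈ sInf (minimalPrimes S) := Ideal.mem_sInf.2 fun {Q} hQ =>
    ((hQ.1.1).mem_or_mem (by rw [hy]; exact Q.zero_mem)).resolve_left fun h => ht (Set.mem_biUnion (by simpa using hQ) h)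
  rw [show sInf (minimalPrimes S) = (⊥ : Ideal S).radical from Ideal.sInf_minimalPrimes, Ideal.mem_radical_iff] at this
  obtain ⟨k, hk⟩ := this
  exact IsNilpotent.eq_zero ⟨k, Ideal.mem_bot.1 hk⟩

theorem mem_minimalPrimes_span [IsNoetherianRing S] [IsReduced S] (hdim : ringKrullDim S ≤ 1) {P : Ideal S} [hPp : P.IsPrime]
    {t : S} (htP : t ∈ P) (ht : ∀ y : S, t * y = 0 → y = 0) : P ∈ (Ideal.span {t}).minimalPrimes := by
  refine ⟨⟨hPp, (Ideal.span_singleton_le_iff_mem _).2 htP⟩, fun Q ⟨hQ, hQt⟩ hQP => ?_⟩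
  by_contra hne
  have hlt : Q < P := lt_of_le_not_ge hQP hne
  have htQ : t ∈ Q := hQt (Ideal.mem_span_singleton_self t)
  obtain ⟨Q₀, hQ₀, hle⟩ := Ideal.exists_minimalPrimes_le (I := (⊥ : Ideal S)) (J := Q) bot_le
  have hne₀ : Q₀ ≠ Q := by
    rintro rfl
    exact Set.disjoint_left.1 (Ideal.disjoint_nonZeroDivisors_of_mem_minimalPrimes hQ₀) htQ
      (mem_nonZeroDivisors_iff_right.2 fun y hy => ht y (by rwa [mul_comm]))
  let l : LTSeries (PrimeSpectrum S) := LTSeries.mk 2 ![⟨Q₀, hQ₀.1.1⟩, ⟨Q, hQ⟩, ⟨P, hPp⟩] (by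
    rw [Fin.strictMono_iff_lt_succ]
    intro i
    match i with
    | 0 => exact lt_of_le_of_ne hle fun h => hne₀ (congrArg PrimeSpectrum.asIdeal h)
    | 1 => exact hlt)
  have h2 : l.length = 2 := rfl
  have := (Order.LTSeries.length_le_krullDim l).trans hdim
  rw [h2] at this
  exact absurd this (by decide)

variable {M : Type u} [AddCommGroup M] [Module S M] [Module.Finite S M]

theorem exists_functional_notMem [IsNoetherianRing S] [IsReduced S] (hdim : ringKrullDim S ≤ 1)
    [Module.IsReflexive S M] (hbij : Function.Bijective (algebraMap S (Module.End S M)))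
    (P : Ideal S) [hP : P.IsPrime] : ∃ (ψ : M →ₗ[S] S) (m : M), ψ m ∉ P := by
  have hev := Module.bijective_dual_eval S M
  have hfaith : ∀ c : S, (∀ m : M, c • m = 0) → c = 0 := fun c hc => hbij.1 (by
    rw [map_zero]; exact LinearMap.ext hc)
  have hkillDual : ∀ c : S, (∀ ψ : M →ₗ[S] S, c • ψ = 0) → c = 0 := fun c hc => hfaith c fun m => hev.1 (by
    rw [map_zero]
    exact LinearMap.ext fun ψ => by
      show ψ (c • m) = 0
      rw [map_smul, ← LinearMap.smul_apply, hc ψ]; rfl)
  by_contra hcon
  push Not at hcon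
  by_cases hmin : P ∈ minimalPrimes S
  · obtain ⟨c, hc, hcy⟩ := exists_kill_minimal hmin
    exact hc (by rw [hkillDual c fun ψ => LinearMap.ext fun m => hcy _ (hcon ψ m)]; exact P.zero_mem)
  obtain ⟨t, htP, ht⟩ := exists_regular_mem hmin
  have hass : P ∈ associatedPrimes S (S ⧸ Ideal.span {t}) :=
    Module.associatedPrimes.minimalPrimes_annihilator_subset_associatedPrimes S (S ⧸ Ideal.span {t}) (by
      rw [Ideal.annihilator_quotient]; exact mem_minimalPrimes_span hdim htP ht)
  obtain ⟨-, x, hx⟩ := isAssociatedPrime_iff.1 hass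
  obtain ⟨a, rfl⟩ := Ideal.Quotient.mk_surjective x
  have ha : ∀ y : S, y ∈ P ↔ ∃ z, t * z = a * y := fun y => by
    rw [hx, Submodule.mem_colon_singleton, Submodule.mem_bot, ← Ideal.Quotient.mk_eq_mk]
    show Ideal.Quotient.mk (Ideal.span {t}) (y * a) = 0 ↔ _
    rw [Ideal.Quotient.eq_zero_iff_mem, Ideal.mem_span_singleton', mul_comm y a]
    exact ⟨fun ⟨z, hz⟩ => ⟨z, by rw [mul_comm, hz]⟩, fun ⟨z, hz⟩ => ⟨z, by rw [mul_comm, hz]⟩⟩
  choose! div hdiv using fun y (hy : y ∈ P) => (ha y).1 hy
  have cancel : ∀ y z : S, t * y = t * z → y = z := fun y z h => sub_eq_zero.1 (ht _ (by rw [mul_sub, h, sub_self]))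
  let op : (M →ₗ[S] S) →ₗ[S] (M →ₗ[S] S) :=
    { toFun := fun ψ =>
        { toFun := fun m => div (ψ m)
          map_add' := fun m m' => cancel _ _ (by
            rw [mul_add, hdiv _ (hcon ψ _), hdiv _ (hcon ψ _), hdiv _ (hcon ψ _), map_add, mul_add])
          map_smul' := fun r m => cancel _ _ (by
            simp only [RingHom.id_apply, smul_eq_mul]
            rw [mul_left_comm, hdiv _ (hcon ψ _), hdiv _ (hcon ψ _), map_smul, smul_eq_mul]; ring) }
      map_add' := fun ψ ψ' => LinearMap.ext fun m => cancel _ _ (by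
        show t * div ((ψ + ψ') m) = t * (div (ψ m) + div (ψ' m))
        rw [mul_add, hdiv _ (hcon (ψ + ψ') _), hdiv _ (hcon ψ _), hdiv _ (hcon ψ' _), LinearMap.add_apply, mul_add])
      map_smul' := fun r ψ => LinearMap.ext fun m => cancel _ _ (by
        show t * div ((r • ψ) m) = t * (r * div (ψ m))
        rw [mul_left_comm, hdiv _ (hcon (r • ψ) _), hdiv _ (hcon ψ _), LinearMap.smul_apply, smul_eq_mul]; ring) }
  have hop : ∀ ψ m, t * op ψ m = a * ψ m := fun ψ m => hdiv _ (hcon ψ m)
  by_cases hcase : ∀ y ∈ P, div y ∈ P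
  · let ev := LinearEquiv.ofBijective _ hev
    obtain ⟨s, hs⟩ := hbij.2 (ev.symm.toLinearMap.comp ((LinearMap.dualMap op).comp ev.toLinearMap))
    have has : a = t * s := (sub_eq_zero.1 (hfaith (a - t * s) fun m => hev.1 (by
      rw [map_zero]
      refine LinearMap.ext fun ψ => ?_
      have h1 : ψ (s • m) = op ψ m := by
        have := congrArg (fun z => (ev z) ψ) (LinearMap.congr_fun hs m)
        simp only [LinearMap.coe_comp, Function.comp_apply, LinearEquiv.coe_coe, LinearEquiv.apply_symm_apply,
          Module.algebraMap_end_apply] at this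
        exact this
      show ψ ((a - t * s) • m) = 0
      rw [sub_smul, map_sub, mul_smul, map_smul ψ t, h1, map_smul, smul_eq_mul, smul_eq_mul, hop, sub_self])))
    refine hP.ne_top ((Ideal.eq_top_iff_one _).2 ((ha 1).2 ⟨s, by rw [mul_one, has]⟩))
  · push Not at hcase
    obtain ⟨x, hxP, hxu⟩ := hcase
    have hle : LinearMap.range ((div x) • (LinearMap.id : (M →ₗ[S] S) →ₗ[S] (M →ₗ[S] S))) ≤ P • ⊤ := by
      rintro _ ⟨ψ, rfl⟩
      have : div x • ψ = x • op ψ := LinearMap.ext fun m => cancel _ _ (by
        show t * (div x * ψ m) = t * (x * op ψ m)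
        rw [← mul_assoc, hdiv _ hxP, mul_left_comm t x, hop]; ring)
      show div x • ψ ∈ _
      rw [this]
      exact Submodule.smul_mem_smul hxP Submodule.mem_top
    obtain ⟨p, hmon, -, hcoeff, hp⟩ :=
      LinearMap.exists_monic_and_natDegree_eq_and_coeff_mem_pow_and_aeval_eq_zero S _ P hle
    have hc : p.eval (div x) ∉ P := by
      intro hmem
      rw [Polynomial.eval_eq_sum_range, Finset.sum_range_succ, hmon.coeff_natDegree, one_mul] at hmem
      have h1 : ∑ i ∈ Finset.range p.natDegree, p.coeff i * div x ^ i ∈ P := Ideal.sum_mem _ fun i hi =>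
        P.mul_mem_right _ (Ideal.pow_le_self (by have := Finset.mem_range.1 hi; omega) (hcoeff i))
      exact hxu (hP.mem_of_pow_mem _ ((Submodule.add_mem_iff_right _ h1).1 hmem))
    suffices h0 : ∀ ψ : M →ₗ[S] S, p.eval (div x) • ψ = 0 by exact hc (by rw [hkillDual _ h0]; exact P.zero_mem)
    intro ψ
    have := LinearMap.congr_fun hp ψ
    rw [show (div x) • (LinearMap.id : (M →ₗ[S] S) →ₗ[S] (M →ₗ[S] S)) = algebraMap S (Module.End S (M →ₗ[S] S)) (div x) from rfl,
      Polynomial.aeval_algebraMap_apply] at this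
    rw [← Polynomial.coe_aeval_eq_eval]
    exact this

end

/-- Let S be a reduced Gorenstein ring (Noetherian, all localizations at primes of finite injective
dimension over themselves) whose Krull dimension is ≤ 1; let M be a finitely generated S-module
which is reflexive (M → M** bijective). Then M is locally free of rank 1, i.e. the localization M_P
is isomorphic to S_P as an S_P-module for every prime ideal P of S, if and only if the natural ring
map S → End_S(M), sending s to multiplication by s, is bijective. -/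
theorem result (S : Type u) [CommRing S]
    [IsReduced S] [LocCoh.IsGorensteinRing S] (hdim : ringKrullDim S ≤ 1)
    (M : Type u) [AddCommGroup M] [Module S M] [Module.Finite S M] [Module.IsReflexive S M] :
    (∀ (P : Ideal S) (_ : P.IsPrime),
        Nonempty (LocalizedModule P.primeCompl M ≃ₗ[Localization.AtPrime P] Localization.AtPrime P)) ↔
      Function.Bijective (algebraMap S (Module.End S M)) := by
  classical
  constructor
  · intro h
    constructor
    · rw [injective_iff_map_eq_zero]
      intro c hc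
      by_contra hne
      obtain ⟨P, hP, hle⟩ := Ideal.exists_le_maximal (LinearMap.ker (LinearMap.toSpanSingleton S S c))
        (fun htop => hne (by simpa using htop.ge (Submodule.mem_top (x := (1 : S)))))
      obtain ⟨e⟩ := h P hP.isPrime
      obtain ⟨⟨m, s⟩, hm⟩ : ∃ y : M × P.primeCompl, LocalizedModule.mk y.1 y.2 = e.symm 1 := by
        induction e.symm 1 using LocalizedModule.induction_on with | _ m s => exact ⟨(m, s), rfl⟩
      have h0 : c • e.symm 1 = 0 := by
        rw [← hm, LocalizedModule.smul'_mk, show c • m = 0 from LinearMap.congr_fun hc m, LocalizedModule.zero_mk]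
      have : algebraMap S (Localization.AtPrime P) c = 0 := by
        have := congrArg e h0
        rw [← IsScalarTower.algebraMap_smul (Localization.AtPrime P) c (e.symm 1), map_smul, e.apply_symm_apply, map_zero,
          smul_eq_mul, mul_one] at this
        exact this
      obtain ⟨d, hd⟩ := (IsLocalization.map_eq_zero_iff P.primeCompl _ c).1 this
      exact d.2 (hle (by simpa [LinearMap.toSpanSingleton] using hd))
    · intro φ
      let I : Ideal S :=
        { carrier := {c | ∃ r, ∀ m, c • φ m = r • m}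
          add_mem' := fun {a b} ⟨r, hr⟩ ⟨r', hr'⟩ => ⟨r + r', fun m => by rw [add_smul, add_smul, hr, hr']⟩
          zero_mem' := ⟨0, fun m => by simp⟩
          smul_mem' := fun d a ⟨r, hr⟩ => ⟨d * r, fun m => by rw [smul_eq_mul, mul_smul, mul_smul, hr]⟩ }
      have htop : I = ⊤ := by
        by_contra hne
        obtain ⟨P, hP, hle⟩ := Ideal.exists_le_maximal I hne
        obtain ⟨e⟩ := h P hP.isPrime
        obtain ⟨⟨m₀, s₀⟩, hm₀⟩ : ∃ y : M × P.primeCompl, LocalizedModule.mk y.1 y.2 = e.symm 1 := by
          induction e.symm 1 using LocalizedModule.induction_on with | _ m s => exact ⟨(m, s), rfl⟩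
        have hgen : ∀ m : M, ∃ b : S, ∃ d : P.primeCompl, (d : S) • m = b • m₀ := by
          intro m
          obtain ⟨⟨b, d⟩, hbd⟩ := IsLocalization.surj P.primeCompl (e (LocalizedModule.mk m 1))
          have h1 : (d : S) • LocalizedModule.mk m (1 : P.primeCompl) = b • LocalizedModule.mk m₀ s₀ := by
            rw [hm₀]
            apply e.injective
            rw [LinearMap.map_smul_of_tower e.toLinearMap (d : S) _ |> (show _ → e ((d : S) • LocalizedModule.mk m (1 : P.primeCompl)) = (d : S) • e (LocalizedModule.mk m 1) from id),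
              LinearMap.map_smul_of_tower e.toLinearMap b _ |> (show _ → e (b • e.symm 1) = b • e (e.symm 1) from id),
              e.apply_symm_apply, Algebra.smul_def, Algebra.smul_def, mul_one, mul_comm, hbd]
          rw [LocalizedModule.smul'_mk, LocalizedModule.smul'_mk, LocalizedModule.mk_eq] at h1
          obtain ⟨v, hv⟩ := h1
          refine ⟨v * b, v * s₀ * d, ?_⟩
          simp only [Submonoid.smul_def, OneMemClass.coe_one, one_smul, smul_smul] at hv ⊢
          push_cast
          simpa [mul_assoc, mul_comm, mul_left_comm] using hv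
        obtain ⟨b, d, hbd⟩ := hgen (φ m₀)
        obtain ⟨T, hT⟩ := Module.Finite.fg_top (R := S) (M := M)
        choose bb dd hbb using hgen
        let D : P.primeCompl := ∏ m ∈ T, dd m
        have hD : ∀ m ∈ T, (D : S) • ((d : S) • φ m) = (D : S) • (b • m) := by
          intro m hm
          obtain ⟨E, hE⟩ : ∃ E : S, (D : S) = E * (dd m : S) :=
            ⟨((∏ x ∈ T.erase m, dd x : P.primeCompl) : S), by
              rw [← Submonoid.coe_mul, mul_comm, Finset.mul_prod_erase _ _ hm]⟩
          rw [hE, mul_smul, mul_smul, smul_comm (dd m : S) (d : S), ← map_smul φ, hbb, map_smul, smul_comm (d : S) (bb m), hbd,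
            smul_comm (dd m : S) b, hbb, smul_comm b]
        refine (show (D * d : S) ∉ P from (D * d).2) (hle ⟨D * b, fun m => ?_⟩)
        have hm : m ∈ Submodule.span S (T : Set M) := by rw [hT]; trivial
        induction hm using Submodule.span_induction with
        | mem x hx => rw [mul_smul, mul_smul]; exact hD x hx
        | zero => simp
        | add x y _ _ hx hy => rw [map_add, smul_add, smul_add, hx, hy]
        | smul r x _ hx => rw [map_smul, smul_comm, hx, smul_comm]
      obtain ⟨r, hr⟩ := (htop.symm ▸ Submodule.mem_top : (1 : S) ∈ I)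
      exact ⟨r, LinearMap.ext fun m => by simpa using (hr m).symm⟩
  · intro hbij P hP
    obtain ⟨ψ, m₀, hu⟩ := exists_functional_notMem hdim hbij P
    obtain ⟨s, hs⟩ := hbij.2 (ψ.smulRight m₀)
    have hs' : ∀ x, s • x = ψ x • m₀ := fun x => LinearMap.congr_fun hs x
    have hsP : s ∉ P := by
      intro hmem
      have := congrArg ψ (hs' m₀)
      rw [map_smul, map_smul, smul_eq_mul, smul_eq_mul] at this
      exact (hP.mem_or_mem (show ψ m₀ * ψ m₀ ∈ P from this ▸ P.mul_mem_right _ hmem)).elim hu hu
    let f : Localization.AtPrime P →ₗ[Localization.AtPrime P] LocalizedModule P.primeCompl M :=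
      LinearMap.toSpanSingleton _ _ (LocalizedModule.mk m₀ 1)
    refine ⟨(LinearEquiv.ofBijective f ⟨?_, ?_⟩).symm⟩
    · rw [injective_iff_map_eq_zero]
      intro z hz
      obtain ⟨⟨r, d⟩, rfl⟩ := IsLocalization.mk'_surjective P.primeCompl z
      simp only [f, LinearMap.toSpanSingleton_apply] at hz
      rw [← Localization.mk_eq_mk', LocalizedModule.mk_smul_mk, ← LocalizedModule.zero_mk (1 : P.primeCompl), LocalizedModule.mk_eq] at hz
      obtain ⟨v, hv⟩ := hz
      simp only [smul_zero, Submonoid.smul_def, smul_smul] at hv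
      have := congrArg ψ hv
      rw [map_smul, map_zero, smul_eq_mul] at this
      rw [IsLocalization.mk'_eq_zero_iff]
      refine ⟨⟨(v : S) * ψ m₀, fun h => (hP.mem_or_mem h).elim v.2 hu⟩, ?_⟩
      simpa [mul_assoc, mul_comm, mul_left_comm] using this
    · intro y
      induction y using LocalizedModule.induction_on with
      | _ m d =>
        refine ⟨Localization.mk (ψ m) (⟨s, hsP⟩ * d), ?_⟩
        simp only [f, LinearMap.toSpanSingleton_apply]
        rw [LocalizedModule.mk_smul_mk, LocalizedModule.mk_eq]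
        refine ⟨1, ?_⟩
        simp only [one_smul, Submonoid.smul_def, Submonoid.coe_mul, mul_one]
        rw [← hs', smul_smul, mul_comm]

end Groth.Agent.S17990
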