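import Groth.Statements.S17999
import Groth.Agent.CommAlg4.PicLift
import Mathlib
-- import your own Groth.Agent.* helpers here

set_option autoImplicit false
set_option maxHeartbeats 1000000
set_option synthInstance.maxHeartbeats 100000
set_option backward.isDefEq.respectTransparency false
set_option backward.isDefEq.respectTransparency.types false
universe u
open MvPolynomial
open WeilNum

namespace Groth.Agent.S17999

/-- The case of finite sets of Weil numbers; let p be a prime, e ≥ 1 and q = p^e; let (π_j)_{j ∈ J} be a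
finite family of pairwise nonconjugate Weil q-numbers (π_j in a field K_j of characteristic zero,
integral over ℤ with minimal polynomial P_j, all complex roots of P_j of absolute value √q, P_i ≠
P_j for i ≠ j), and let e : J' → J be an injective map selecting a subfamily. Let I_w, resp. I_v, be
the kernel of ℤ[F, V] → ∏_{j ∈ J} K_j, resp. → ∏_{j' ∈ J'} K_{e(j')}, sending F ↦ (π_j) and V ↦
(q/π_j); then I_w ⊆ I_v and ℤ[F,V]/I_w → ℤ[F,V]/I_v is the natural surjection R_w → R_v of minimal
central orders. Then the induced homomorphism of Picard groups Pic(R_w) → Pic(R_v) is surjective.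
The published statement concerns the Picard groups of the pro-rings attached to arbitrary subsets V
⊆ W of Weil q-number classes; only the case of finite sets is stated here. -/
theorem result (p e : ℕ) [Fact p.Prime] (he : 0 < e)
    (J J' : Type) [Fintype J] [Fintype J'] (emb : J' → J) (hemb : Function.Injective emb)
    (K : J → Type u) [∀ j, Field (K j)] [∀ j, CharZero (K j)] (ϖ : ∀ j, K j)
    (hint : ∀ j, IsIntegral ℤ (ϖ j))
    (hweil : ∀ j, ∀ z ∈ (minpoly ℤ (ϖ j)).aroots ℂ, ‖z‖ = Real.sqrt ((p : ℝ) ^ e))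
    (hinj : ∀ i j, minpoly ℤ (ϖ i) = minpoly ℤ (ϖ j) → i = j)
    (hle : RingHom.ker (MvPolynomial.aeval ![fun j => ϖ j, fun j => ((p : K j) ^ e) / ϖ j] :
          MvPolynomial (Fin 2) ℤ →ₐ[ℤ] ((j : J) → K j)) ≤
        RingHom.ker (MvPolynomial.aeval ![fun j' => ϖ (emb j'), fun j' => ((p : K (emb j')) ^ e) / ϖ (emb j')] :
          MvPolynomial (Fin 2) ℤ →ₐ[ℤ] ((j' : J') → K (emb j')))) :
    Function.Surjective (CommRing.Pic.mapRingHom (Ideal.Quotient.factor hle)) := by
  classical
  have hpi : ∀ x : ((j : J) → K j), (∀ j, IsIntegral ℤ (x j)) → IsIntegral ℤ x := by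
    intro x hx
    refine ⟨∏ j, minpoly ℤ (x j), Polynomial.monic_prod_of_monic _ _ fun j _ => minpoly.monic (hx j), funext fun j => ?_⟩
    show Pi.evalAlgHom ℤ K j _ = 0
    rw [← Polynomial.aeval_def, ← Polynomial.aeval_algHom_apply, map_prod]
    exact Finset.prod_eq_zero (Finset.mem_univ j) (minpoly.aeval ℤ (x j))
  set φ : MvPolynomial (Fin 2) ℤ →ₐ[ℤ] ((j : J) → K j) :=
    MvPolynomial.aeval ![fun j => ϖ j, fun j => ((p : K j) ^ e) / ϖ j] with hφdef
  set φ' : MvPolynomial (Fin 2) ℤ →ₐ[ℤ] ((j' : J') → K (emb j')) :=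
    MvPolynomial.aeval ![fun j' => ϖ (emb j'), fun j' => ((p : K (emb j')) ^ e) / ϖ (emb j')] with hφ'def
  have hconj : ∀ j, IsIntegral ℤ (((p : K j) ^ e) / ϖ j) := by
    intro j
    letI : Algebra ℚ (K j) := DivisionRing.toRatAlgebra
    have hQ : IsIntegral ℚ (ϖ j) := (hint j).tower_top
    let E := IntermediateField.adjoin ℚ {ϖ j}
    haveI : FiniteDimensional ℚ E := IntermediateField.adjoin.finiteDimensional hQ
    let σ : E →ₐ[ℚ] ℂ := IsAlgClosed.lift
    let g : E := IntermediateField.AdjoinSimple.gen ℚ (ϖ j)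
    have hz : σ g ∈ (minpoly ℤ (ϖ j)).aroots ℂ := by
      rw [Polynomial.mem_aroots]
      refine ⟨(minpoly.monic (hint j)).ne_zero, ?_⟩
      have h1 : Polynomial.aeval g (minpoly ℤ (ϖ j)) = 0 :=
        (algebraMap E (K j)).injective (by
          rw [← Polynomial.aeval_algebraMap_apply, map_zero]
          exact minpoly.aeval ℤ (ϖ j))
      exact (Polynomial.aeval_algHom_apply (σ.restrictScalars ℤ) g _).trans (by rw [h1, map_zero])
    have hg : IsIntegral ℤ (σ g) := ⟨_, minpoly.monic (hint j), (Polynomial.mem_aroots.1 hz).2⟩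
    have hp : (p : ℂ) ^ e ≠ 0 := pow_ne_zero _ (Nat.cast_ne_zero.2 (Fact.out : p.Prime).ne_zero)
    have hns : σ g * (starRingEnd ℂ) (σ g) = (p : ℂ) ^ e := by
      rw [Complex.mul_conj, Complex.normSq_eq_norm_sq, hweil j _ hz, Real.sq_sqrt (by positivity)]
      push_cast
      rfl
    have hq : σ ((p : E) ^ e / g) = (starRingEnd ℂ) (σ g) := by
      rw [map_div₀, map_pow, map_natCast, div_eq_iff (fun h => hp (by rw [← hns, h, zero_mul])), ← hns, mul_comm]
    have hi : IsIntegral ℤ ((p : E) ^ e / g) := by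
      rw [← isIntegral_algHom_iff (σ.restrictScalars ℤ) σ.injective]
      show IsIntegral ℤ (σ ((p : E) ^ e / g))
      rw [hq]
      exact hg.map (starRingEnd ℂ).toIntAlgHom
    have h2 := hi.map (E.val.restrictScalars ℤ)
    convert h2 using 1
    show _ = E.val ((p : E) ^ e / g)
    rw [map_div₀, map_pow, map_natCast]
    rfl
  haveI : Module.Finite ℤ (MvPolynomial (Fin 2) ℤ ⧸ RingHom.ker φ) := by
    haveI : Module.Finite ℤ ↥φ.range := by
      rw [show φ.range = _ from (Algebra.adjoin_range_eq_range_aeval ℤ _).symm]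
      refine Module.Finite.iff_fg.2 (fg_adjoin_of_finite (Set.finite_range _) ?_)
      rintro _ ⟨i, rfl⟩
      fin_cases i
      · exact hpi _ fun j => hint j
      · exact hpi _ fun j => hconj j
    exact Module.Finite.equiv (Ideal.quotientKerEquivRange φ).toLinearEquiv.symm
  let ψ : (MvPolynomial (Fin 2) ℤ ⧸ RingHom.ker φ) →+* ((j : J) → K j) := RingHom.kerLift φ.toRingHom
  have hψ : ∀ F, ψ (Ideal.Quotient.mk _ F) = φ F := fun F => rfl
  have hψi : Function.Injective ψ := RingHom.kerLift_injective φ.toRingHom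
  let rest : ((j : J) → K j) →+* ((j : {j : J // j ∉ Set.range emb}) → K j.1) :=
    RingHom.pi fun j => Pi.evalRingHom K j.1
  let π := Ideal.Quotient.factor hle
  let JJ : Ideal (MvPolynomial (Fin 2) ℤ ⧸ RingHom.ker φ) := RingHom.ker (rest.comp ψ)
  have hφ' : ∀ F j', φ' F j' = φ F (emb j') := by
    intro F j'
    have : (Pi.evalAlgHom ℤ (fun j' => K (emb j')) j').comp φ' = (Pi.evalAlgHom ℤ K (emb j')).comp φ := by
      refine MvPolynomial.algHom_ext fun i => ?_
      fin_cases i <;> simp [φ, φ']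
    exact DFunLike.congr_fun this F
  have hinf : RingHom.ker π ⊓ JJ = ⊥ := by
    refine eq_bot_iff.2 fun x hx => hψi (funext fun j => ?_)
    obtain ⟨F, rfl⟩ := Ideal.Quotient.mk_surjective x
    rw [map_zero, Pi.zero_apply, hψ]
    by_cases hj : j ∈ Set.range emb
    · obtain ⟨j', rfl⟩ := hj
      rw [← hφ']
      exact congrFun (RingHom.mem_ker.1 (Ideal.Quotient.eq_zero_iff_mem.1 (RingHom.mem_ker.1 hx.1))) j'
    · exact congrFun (RingHom.mem_ker.1 hx.2) ⟨j, hj⟩
  -- a nonzero integer in the ideal of the intersection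
  obtain ⟨N, hN, hNmem⟩ : ∃ N : ℤ, N ≠ 0 ∧ (N : (MvPolynomial (Fin 2) ℤ ⧸ RingHom.ker φ)) ∈ RingHom.ker π ⊔ JJ := by
    let h : Polynomial ℤ := ∏ j ∈ Finset.univ.filter (fun j => j ∈ Set.range emb), minpoly ℤ (ϖ j)
    let h' : Polynomial ℤ := ∏ j ∈ Finset.univ.filter (fun j => ¬ j ∈ Set.range emb), minpoly ℤ (ϖ j)
    have hcop : IsCoprime (h.map (algebraMap ℤ ℚ)) (h'.map (algebraMap ℤ ℚ)) := by
      rw [Polynomial.map_prod, Polynomial.map_prod]
      refine IsCoprime.prod_left fun i hi => IsCoprime.prod_right fun j hj => ?_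
      have hij : i ≠ j := by
        rintro rfl
        exact (Finset.mem_filter.1 hj).2 (Finset.mem_filter.1 hi).2
      have hirr : ∀ i, Irreducible ((minpoly ℤ (ϖ i)).map (algebraMap ℤ ℚ)) := fun i =>
        (minpoly.monic (hint i)).irreducible_iff_irreducible_map_fraction_map.1 (minpoly.irreducible (hint i))
      refine (hirr i).coprime_iff_not_dvd.2 fun hd => hij (hinj i j ?_)
      have := Polynomial.eq_of_monic_of_associated ((minpoly.monic (hint i)).map (algebraMap ℤ ℚ))
        ((minpoly.monic (hint j)).map (algebraMap ℤ ℚ)) ((hirr i).associated_of_dvd (hirr j) hd)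
      exact Polynomial.map_injective _ (algebraMap ℤ ℚ).injective_int this
    obtain ⟨a, b, hab⟩ := hcop
    obtain ⟨na, hna⟩ := IsLocalization.integerNormalization_map_to_map (nonZeroDivisors ℤ) a
    obtain ⟨nb, hnb⟩ := IsLocalization.integerNormalization_map_to_map (nonZeroDivisors ℤ) b
    have hZ : Polynomial.C ((na : ℤ) * nb) =
        Polynomial.C (nb : ℤ) * (IsLocalization.integerNormalization (nonZeroDivisors ℤ) a) * h +
          Polynomial.C (na : ℤ) * (IsLocalization.integerNormalization (nonZeroDivisors ℤ) b) * h' := by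
      apply Polynomial.map_injective (algebraMap ℤ ℚ) (algebraMap ℤ ℚ).injective_int
      simp only [Polynomial.map_add, Polynomial.map_mul, Polynomial.map_C, hna, hnb, zsmul_eq_mul,
        eq_intCast, Int.cast_mul, map_intCast, map_mul, Polynomial.map_intCast]
      linear_combination -(((na : ℤ) : Polynomial ℚ) * ((nb : ℤ) : Polynomial ℚ)) * hab
    refine ⟨(na : ℤ) * nb, mul_ne_zero (nonZeroDivisors.coe_ne_zero na) (nonZeroDivisors.coe_ne_zero nb), ?_⟩
    let x₀ : (MvPolynomial (Fin 2) ℤ ⧸ RingHom.ker φ) := Ideal.Quotient.mk _ (MvPolynomial.X 0)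
    have hk : Polynomial.aeval x₀ h ∈ RingHom.ker π := by
      rw [RingHom.mem_ker]
      have : π (Polynomial.aeval x₀ h) = Ideal.Quotient.mk _ (Polynomial.aeval (MvPolynomial.X 0 : MvPolynomial (Fin 2) ℤ) h) := by
        rw [show x₀ = (Ideal.Quotient.mkₐ ℤ _) (MvPolynomial.X 0) from rfl, Polynomial.aeval_algHom_apply]; rfl
      rw [this, Ideal.Quotient.eq_zero_iff_mem, RingHom.mem_ker]
      funext j'
      rw [hφ', Pi.zero_apply]
      show Pi.evalAlgHom ℤ K (emb j') (φ _) = 0
      rw [← AlgHom.comp_apply, ← Polynomial.aeval_algHom_apply]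
      simp only [AlgHom.comp_apply, φ, MvPolynomial.aeval_X, Matrix.cons_val_zero, Pi.evalAlgHom_apply]
      rw [map_prod]
      exact Finset.prod_eq_zero (Finset.mem_filter.2 ⟨Finset.mem_univ _, j', rfl⟩) (minpoly.aeval _ _)
    have hk' : Polynomial.aeval x₀ h' ∈ JJ := by
      rw [RingHom.mem_ker, RingHom.comp_apply, show x₀ = (Ideal.Quotient.mkₐ ℤ _) (MvPolynomial.X 0) from rfl,
        Polynomial.aeval_algHom_apply]
      funext j
      show Pi.evalAlgHom ℤ K j.1 (φ _) = 0
      rw [← AlgHom.comp_apply, ← Polynomial.aeval_algHom_apply]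
      simp only [AlgHom.comp_apply, φ, MvPolynomial.aeval_X, Matrix.cons_val_zero, Pi.evalAlgHom_apply]
      rw [map_prod]
      exact Finset.prod_eq_zero (Finset.mem_filter.2 ⟨Finset.mem_univ _, j.2⟩) (minpoly.aeval _ _)
    have hev := congrArg (Polynomial.aeval x₀) hZ
    simp only [Polynomial.aeval_C, eq_intCast, map_add, map_mul, Int.cast_mul, map_intCast] at hev
    rw [Int.cast_mul, hev]
    refine Submodule.add_mem_sup ?_ ?_
    · exact Ideal.mul_mem_left _ _ hk
    · exact Ideal.mul_mem_left _ _ hk'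
  haveI : Finite ((MvPolynomial (Fin 2) ℤ ⧸ RingHom.ker φ') ⧸ JJ.map π) := by
    let q : (MvPolynomial (Fin 2) ℤ ⧸ RingHom.ker φ) →+* ((MvPolynomial (Fin 2) ℤ ⧸ RingHom.ker φ') ⧸ JJ.map π) := (Ideal.Quotient.mk _).comp π
    have hqs : Function.Surjective q := Ideal.Quotient.mk_surjective.comp (Ideal.Quotient.factor_surjective hle)
    haveI : Module.Finite ℤ ((MvPolynomial (Fin 2) ℤ ⧸ RingHom.ker φ') ⧸ JJ.map π) := Module.Finite.of_surjective (q.toAddMonoidHom.toIntLinearMap) hqs
    refine Module.finite_of_fg_torsion _ (fun x => ⟨⟨N, mem_nonZeroDivisors_of_ne_zero hN⟩, ?_⟩)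
    obtain ⟨y, rfl⟩ := hqs x
    refine Eq.trans (map_zsmul q.toAddMonoidHom N y).symm ?_
    show q (N • y) = 0
    rw [zsmul_eq_mul]
    obtain ⟨a, ha, b, hb, hab⟩ := Submodule.mem_sup.1 hNmem
    show Ideal.Quotient.mk _ (π (((N : ℤ) : MvPolynomial (Fin 2) ℤ ⧸ RingHom.ker φ) * y)) = 0
    rw [← hab, Ideal.Quotient.eq_zero_iff_mem, map_mul, map_add, RingHom.mem_ker.1 ha, zero_add]
    exact Ideal.mul_mem_right _ _ (Ideal.mem_map_of_mem π hb)
  haveI : Finite (MaximalSpectrum ((MvPolynomial (Fin 2) ℤ ⧸ RingHom.ker φ') ⧸ JJ.map π)) := by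
    haveI : IsArtinianRing ((MvPolynomial (Fin 2) ℤ ⧸ RingHom.ker φ') ⧸ JJ.map π) := isArtinian_of_finite
    infer_instance
  exact Groth.Agent.CommAlg4.PicLift.surjective_mapRingHom π (Ideal.Quotient.factor_surjective hle) JJ hinf

end Groth.Agent.S17999
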