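import Groth.Statements.S18003
import Mathlib
-- import your own Groth.Agent.* helpers here

set_option autoImplicit false
universe u
open MvPolynomial
open WeilNum

namespace Groth.Agent.S18003

section
variable {ι : Type} [Fintype ι] (K : ι → Type u) [∀ i, Field (K i)] [∀ i, CharZero (K i)] (π : ∀ i, K i)

theorem dvd_of_roots (hint : ∀ i, IsIntegral ℤ (π i))
    (hinj : ∀ i j, minpoly ℤ (π i) = minpoly ℤ (π j) → i = j)
    (H : Polynomial ℤ) (h : ∀ i, Polynomial.aeval (π i) H = 0) : (∏ i, minpoly ℤ (π i)) ∣ H := by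
  refine Finset.prod_dvd_of_isRelPrime (fun i _ j _ hij => ?_) fun i _ => minpoly.isIntegrallyClosed_dvd (hint i) (h i)
  refine (minpoly.irreducible (hint i)).isRelPrime_iff_not_dvd.2 fun hd => hij (hinj i j ?_)
  exact Polynomial.eq_of_monic_of_associated (minpoly.monic (hint i)) (minpoly.monic (hint j))
    ((minpoly.irreducible (hint i)).associated_of_dvd (minpoly.irreducible (hint j)) hd)

/-- Modulo `F V = q`, some power of `F` times any polynomial in `F, V` is a polynomial in `F`. -/
theorem exists_poly (q : ℤ) (G : MvPolynomial (Fin 2) ℤ) :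
    ∃ (N : ℕ) (H : Polynomial ℤ) (R : MvPolynomial (Fin 2) ℤ),
      MvPolynomial.X 0 ^ N * G = Polynomial.aeval (MvPolynomial.X (0 : Fin 2)) H + (MvPolynomial.X 0 * MvPolynomial.X 1 - MvPolynomial.C q) * R := by
  induction G using MvPolynomial.induction_on with
  | C a => exact ⟨0, Polynomial.C a, 0, by simp⟩
  | add p p' hp hp' =>
    obtain ⟨N, H, R, h⟩ := hp
    obtain ⟨N', H', R', h'⟩ := hp'
    refine ⟨N + N', Polynomial.X ^ N' * H + Polynomial.X ^ N * H', MvPolynomial.X 0 ^ N' * R + MvPolynomial.X 0 ^ N * R', ?_⟩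
    simp only [map_add, map_mul, map_pow, Polynomial.aeval_X]
    linear_combination MvPolynomial.X 0 ^ N' * h + MvPolynomial.X 0 ^ N * h'
  | mul_X p i hp =>
    obtain ⟨N, H, R, h⟩ := hp
    fin_cases i <;> simp only [Fin.zero_eta, Fin.mk_one, Fin.reduceFinMk]
    · refine ⟨N, H * Polynomial.X, R * MvPolynomial.X 0, ?_⟩
      simp only [map_mul, Polynomial.aeval_X]
      linear_combination MvPolynomial.X (0 : Fin 2) * h
    · refine ⟨N + 1, H * Polynomial.C q, Polynomial.aeval (MvPolynomial.X (0 : Fin 2)) H + MvPolynomial.X 0 * MvPolynomial.X 1 * R, ?_⟩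
      simp only [map_mul, Polynomial.aeval_C, MvPolynomial.algebraMap_eq]
      linear_combination (MvPolynomial.X (0 : Fin 2) * MvPolynomial.X (1 : Fin 2)) * h

theorem eval_poly {q : ℤ} {G R : MvPolynomial (Fin 2) ℤ} {N : ℕ} {H : Polynomial ℤ}
    (h : MvPolynomial.X 0 ^ N * G = Polynomial.aeval (MvPolynomial.X (0 : Fin 2)) H + (MvPolynomial.X 0 * MvPolynomial.X 1 - MvPolynomial.C q) * R)
    {A : Type*} [CommRing A] (x y : A) (hxy : x * y = (q : A)) :
    x ^ N * MvPolynomial.aeval ![x, y] G = Polynomial.aeval x H := by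
  have := congrArg (MvPolynomial.aeval ![x, y]) h
  simpa [← Polynomial.aeval_algHom_apply, hxy] using this
end


/-- Let p be a prime, e ≥ 1 and q = p^e; let (π_i) be a finite family of pairwise nonconjugate Weil
q-numbers (π_i in a field K_i of characteristic zero, integral over ℤ with minimal polynomial P_i,
all complex roots of P_i of absolute value √q, P_i ≠ P_j for i ≠ j) of even total degree Σ_i deg
P_i, P_w = ∏_i P_i, and R_w ⊆ ∏_i K_i the minimal central order, the image of ℤ[F, V] → ∏_i K_i, F ↦
(π_i), V ↦ (q/π_i). Let T be a finitely generated free ℤ-module and F_T an endomorphism of T. Then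
there exists an R_w-module structure on the additive group T in which the class of F acts as F_T if
and only if P_w(F_T) = 0 (equivalently: F_T is semisimple after tensoring with ℚ, with eigenvalues
among the conjugates of the π_i) and there is an endomorphism V_T of T with F_T ∘ V_T = q. When it
exists the structure is determined by F_T (the class of V acts as V_T = q·F_T⁻¹), and reflexive
R_w-modules are exactly the ℤ-free finitely generated ones, so this identifies the objects of
Refl(R_w) with such pairs (T, F_T); the uniqueness remark is not part of the formal statement. -/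
theorem result (p e : ℕ) [Fact p.Prime] (he : 0 < e)
    (ι : Type) [Fintype ι] (K : ι → Type u) [∀ i, Field (K i)] [∀ i, CharZero (K i)] (π : ∀ i, K i)
    (hint : ∀ i, IsIntegral ℤ (π i))
    (hweil : ∀ i, ∀ z ∈ (minpoly ℤ (π i)).aroots ℂ, ‖z‖ = Real.sqrt ((p : ℝ) ^ e))
    (hinj : ∀ i j, minpoly ℤ (π i) = minpoly ℤ (π j) → i = j)
    (D : ℕ) (hD : ∑ i, (minpoly ℤ (π i)).natDegree = 2 * D)
    (T : Type) [AddCommGroup T] [Module.Finite ℤ T] [Module.Free ℤ T] (FT : T →ₗ[ℤ] T) :
    (∃ _ : Module (MvPolynomial.aeval ![fun i => π i, fun i => ((p : K i) ^ e) / π i] :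
        MvPolynomial (Fin 2) ℤ →ₐ[ℤ] ((i : ι) → K i)).range T,
        ∀ t : T, (⟨(MvPolynomial.aeval ![fun i => π i, fun i => ((p : K i) ^ e) / π i] :
        MvPolynomial (Fin 2) ℤ →ₐ[ℤ] ((i : ι) → K i)) (X 0), AlgHom.mem_range_self _ _⟩ : (MvPolynomial.aeval ![fun i => π i, fun i => ((p : K i) ^ e) / π i] :
        MvPolynomial (Fin 2) ℤ →ₐ[ℤ] ((i : ι) → K i)).range) • t = FT t) ↔
      (Polynomial.aeval FT (∏ i, minpoly ℤ (π i)) = 0 ∧
        ∃ VT : T →ₗ[ℤ] T, FT ∘ₗ VT = ((p : ℤ) ^ e) • LinearMap.id) := by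
  classical
  set θ := (MvPolynomial.aeval ![fun i => π i, fun i => ((p : K i) ^ e) / π i] :
        MvPolynomial (Fin 2) ℤ →ₐ[ℤ] ((i : ι) → K i)) with hθ
  have hπ0 : ∀ i, π i ≠ 0 := by
    intro i hi
    have hc : (minpoly ℤ (π i)).coeff 0 = 0 := by
      have := minpoly.aeval ℤ (π i)
      rw [hi, ← Polynomial.coeff_zero_eq_aeval_zero'] at this
      rw [hi]
      exact (Int.cast_eq_zero (α := K i)).1 (by simpa using this)
    have := hweil i 0 (Polynomial.mem_aroots.2 ⟨minpoly.ne_zero (hint i), by
      rw [← Polynomial.coeff_zero_eq_aeval_zero', hc, map_zero]⟩)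
    rw [norm_zero, eq_comm, Real.sqrt_eq_zero'] at this
    exact absurd this (not_le.2 (pow_pos (Nat.cast_pos.2 (Fact.out : p.Prime).pos) _))
  have hq : (fun i => π i) * (fun i => ((p : K i) ^ e) / π i) = (((p : ℤ) ^ e : ℤ) : (i : ι) → K i) := by
    funext i
    simp [mul_div_cancel₀ _ (hπ0 i)]
  have hproj : ∀ (H : Polynomial ℤ) (i : ι), Polynomial.aeval (fun i => π i) H i = Polynomial.aeval (π i) H := fun H i =>
    (Polynomial.aeval_algHom_apply (Pi.evalAlgHom ℤ K i) (fun i => π i) H).symm
  constructor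
  · rintro ⟨inst, hact⟩
    let act : θ.range →+* AddMonoid.End T := Module.toAddMonoidEnd θ.range T
    let X0 : θ.range := ⟨θ (MvPolynomial.X 0), AlgHom.mem_range_self _ _⟩
    let Y0 : θ.range := ⟨θ (MvPolynomial.X 1), AlgHom.mem_range_self _ _⟩
    refine ⟨?_, (DistribSMul.toAddMonoidHom T Y0).toIntLinearMap, ?_⟩
    · have h0 : Polynomial.aeval X0 (∏ i, minpoly ℤ (π i)) = 0 := by
        refine Subtype.ext ?_
        rw [← Subalgebra.coe_val, ← Polynomial.aeval_algHom_apply]
        show Polynomial.aeval (θ (MvPolynomial.X 0)) _ = (0 : (i : ι) → K i)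
        rw [hθ, MvPolynomial.aeval_X]
        funext i
        show Polynomial.aeval (fun i => π i) _ i = 0
        rw [hproj, map_prod]
        exact Finset.prod_eq_zero (Finset.mem_univ i) (minpoly.aeval _ _)
      let act' : θ.range →+* Module.End ℤ T :=
        { toFun := fun x => (DistribSMul.toAddMonoidHom T x).toIntLinearMap
          map_one' := LinearMap.ext fun t => one_smul θ.range t
          map_mul' := fun a b => LinearMap.ext fun t => mul_smul a b t
          map_zero' := LinearMap.ext fun t => zero_smul θ.range t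
          map_add' := fun a b => LinearMap.ext fun t => add_smul a b t }
      have hF : act'.toIntAlgHom X0 = FT := LinearMap.ext fun t => hact t
      rw [← hF, Polynomial.aeval_algHom_apply, h0, map_zero]
    · refine LinearMap.ext fun t => ?_
      show FT (Y0 • t) = ((p : ℤ) ^ e) • t
      rw [← hact, ← mul_smul, ← Int.cast_smul_eq_zsmul (θ.range) ((p : ℤ) ^ e) t]
      congr 1
      refine Subtype.ext ?_
      show θ (MvPolynomial.X 0) * θ (MvPolynomial.X 1) = _
      rw [hθ, MvPolynomial.aeval_X, MvPolynomial.aeval_X]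
      simpa using hq
  · rintro ⟨hP, VT, hFV⟩
    have hq0 : ((p : ℤ) ^ e) ≠ 0 := pow_ne_zero _ (Int.natCast_ne_zero.2 (Fact.out : p.Prime).ne_zero)
    have hVinj : Function.Injective VT := fun a b h => by
      have := congrArg FT h
      rw [← LinearMap.comp_apply, ← LinearMap.comp_apply, hFV] at this
      exact smul_right_injective T hq0 this
    obtain ⟨hFinj, hVF⟩ : Function.Injective FT ∧ VT ∘ₗ FT = ((p : ℤ) ^ e) • LinearMap.id := by
      have hdet : LinearMap.det FT ≠ 0 := by
        intro h0
        have := congrArg LinearMap.det hFV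
        rw [LinearMap.det_comp, h0, zero_mul, LinearMap.det_smul, LinearMap.det_id, mul_one] at this
        exact pow_ne_zero _ hq0 this.symm
      have hinjF : Function.Injective FT := by
        rw [← LinearMap.ker_eq_bot]
        by_contra hne
        exact hdet (LinearMap.det_eq_zero_iff_ker_ne_bot.2 hne)
      refine ⟨hinjF, LinearMap.ext fun t => hinjF ?_⟩
      have := congrArg (fun f : T →ₗ[ℤ] T => f (FT t)) hFV
      change FT (VT (FT t)) = ((p : ℤ) ^ e) • FT t at this
      show FT (VT (FT t)) = FT (((p : ℤ) ^ e) • t)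
      rw [map_smul, this]
    have hcomm : FT * VT = VT * FT := hFV.trans hVF.symm
    let s : Set (Module.End ℤ T) := {FT, VT}
    letI : CommRing (Algebra.adjoin ℤ s) := Algebra.adjoinCommRingOfComm ℤ (by
      rintro a (rfl | rfl) b (rfl | rfl) <;> first | rfl | exact hcomm | exact hcomm.symm)
    let F' : Algebra.adjoin ℤ s := ⟨FT, Algebra.subset_adjoin (Or.inl rfl)⟩
    let V' : Algebra.adjoin ℤ s := ⟨VT, Algebra.subset_adjoin (Or.inr rfl)⟩
    let ρ : MvPolynomial (Fin 2) ℤ →+* Module.End ℤ T :=
      (Algebra.adjoin ℤ s).val.toRingHom.comp (MvPolynomial.aeval ![F', V']).toRingHom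
    have hker : RingHom.ker θ.rangeRestrict.toRingHom ≤ RingHom.ker ρ := by
      intro G hG
      have hG' : θ G = 0 := congrArg Subtype.val hG
      obtain ⟨N, H, R, hR⟩ := exists_poly ((p : ℤ) ^ e) G
      have e1 : ∀ i, Polynomial.aeval (π i) H = 0 := fun i => by
        have h := congrFun (eval_poly hR (A := (i : ι) → K i) _ _ hq) i
        change (fun i => π i) i ^ N * θ G i = Polynomial.aeval (fun i => π i) H i at h
        rw [hG', hproj] at h
        simpa using h.symm
      obtain ⟨Q, rfl⟩ := dvd_of_roots K π hint hinj H e1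
      have e2 := eval_poly hR F' V' (Subtype.ext (hFV.trans (zsmul_eq_mul _ _ |>.trans (mul_one _))))
      have e3 : Polynomial.aeval F' (∏ i, minpoly ℤ (π i)) = 0 := by
        refine Subtype.ext ?_
        rw [← Subalgebra.coe_val, ← Polynomial.aeval_algHom_apply]
        exact hP
      rw [map_mul, e3, zero_mul] at e2
      have e4 : FT ^ N * ρ G = 0 := congrArg Subtype.val e2
      refine LinearMap.ext fun t => ?_
      have e5 := congrArg (fun f : Module.End ℤ T => f t) e4
      simp only [Module.End.mul_apply, LinearMap.zero_apply] at e5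
      exact (show Function.Injective (FT ^ N) by rw [Module.End.coe_pow]; exact hFinj.iterate N) (e5.trans (map_zero _).symm)
    let σ : θ.range →+* Module.End ℤ T :=
      θ.rangeRestrict.toRingHom.liftOfSurjective θ.rangeRestrict_surjective ⟨ρ, hker⟩
    refine ⟨Module.compHom T σ, fun t => ?_⟩
    show σ _ t = FT t
    rw [show (⟨θ (MvPolynomial.X 0), AlgHom.mem_range_self _ _⟩ : θ.range) = θ.rangeRestrict.toRingHom (MvPolynomial.X 0) from rfl,
      RingHom.liftOfSurjective_comp_apply]
    show ((MvPolynomial.aeval ![F', V'] (MvPolynomial.X 0) : Algebra.adjoin ℤ s) : Module.End ℤ T) t = FT t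
    rw [MvPolynomial.aeval_X]; rfl

end Groth.Agent.S18003
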