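import Groth.Statements.S18008
import Groth.Agent.Stk19b.Theta.SeparatedLine
open Groth.Agent

set_option autoImplicit false
universe u
open ThetaS

set_option backward.isDefEq.respectTransparency.types false
set_option backward.isDefEq.respectTransparency false

namespace Groth.Agent.S18008


open CategoryTheory AlgebraicGeometry in
/-- Let f : X → Y be a functor over (Sch/S) between algebraic stacks (fppf topology) which is
representable by algebraic spaces and separated (its diagonal is representable by algebraic spaces
and proper). Then for every commutative ring R and every Spec R → S, in any 2-commutative square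
whose left side is the point 1 : Spec R → Θ_R = [A¹_R/G_m] and whose right side is f, any two dotted
arrows Θ_R → X are related by exactly one morphism of dotted arrows. (The published statement says
that the evaluation morphism on filtrations is a monomorphism, and assumes moreover that X and Y are
locally of finite presentation over S, have quasi-compact and separated diagonals, and have affine
stabilizers; those hypotheses are not assumed here.) -/
theorem result {S : Scheme.{u}} (𝒳 𝒴 : AlgSt.Cat S)
    (f : 𝒳 ⥤ᵇ 𝒴) (h𝒳 : AlgSt.IsAlgStack Scheme.fppfPrecoverage 𝒳) (h𝒴 : AlgSt.IsAlgStack Scheme.fppfPrecoverage 𝒴)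
    (hrep : AlgSt.RepByAlgSp1 f) (hsep : AlgSt.IsSeparatedMor f)
    (R : Type u) [CommRing R] (h : Spec (CommRingCat.of R) ⟶ S) :
    LiftSq.LiftsUnique (ThetaS.thetaOne Scheme.fppfPrecoverage R h) f := by
  exact Groth.Agent.Stk19b.Theta.liftsUnique_thetaOne h h𝒳.isStack.1 h𝒴.isStack.1 hrep
    (((Groth.Agent.Stk19.with_sep_iff hrep).out 2 1).1 hsep)

end Groth.Agent.S18008
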