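import Groth.Statements.S1801
import Groth.Agent.DualLib.OmegaBC
import Groth.Agent.Dual22Lib.FiniteShriek
import Groth.Agent.DualLib.Self
import Mathlib.RingTheory.SimpleModule.Basic

set_option autoImplicit false
set_option linter.style.haveILetI false
universe u
open CategoryTheory
open scoped TensorProduct
attribute [local instance] HasDerivedCategory.standard
open Dual2

namespace Groth.Agent.S1801

/-- Flat case (part (2) with (1)(a)–(c) and (2)(b)). Let R → A be a ring map between Noetherian rings
which is flat and of finite type, where φ^!(K) is formed from a presentation ψ : R[x_1, …, x_n] → A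
as RHom_P(A, K ⊗^L_R P)[n], assuming the derived base change to P exists and taking for RHom_P(A, −)
a right adjoint of restriction of scalars along ψ; put ω = φ^!(R). Then: (a) ω has finitely many
nonzero cohomology modules, all finite over A; (b) after restriction of scalars to R, ω is
isomorphic to a bounded complex of flat R-modules (finite tor dimension over R); (c) a ↦ a·id is a
bijection A → End(ω) and ω has no self-maps of nonzero degree; (d) for every ring map R → k to a
field, assuming the derived base change D(A) → D(k ⊗_R A) exists, the base change of ω is a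
dualizing complex for k ⊗_R A. -/
theorem result (R A : Type u) [CommRing R] [CommRing A] [IsNoetherianRing R] [IsNoetherianRing A] [Algebra R A] [Module.Flat R A] (n : ℕ) (ψ : MvPolynomial (Fin n) R →ₐ[R] A) (hψ : Function.Surjective ψ) [DRing.HasLBaseChange (algebraMap R (MvPolynomial (Fin n) R))] (Rψ : Dual.D (MvPolynomial (Fin n) R) ⥤ Dual.D A) (adj : DRing.restrictD ψ.toRingHom ⊣ Rψ) : (∃ a b : ℤ, ∀ i : ℤ, (i < a ∨ b < i) → Subsingleton (Dual.HD A (Dual2.shriekVia n Rψ (Dual.inD R R)) i)) ∧ (∀ i : ℤ, Module.Finite A (Dual.HD A (Dual2.shriekVia n Rψ (Dual.inD R R)) i)) ∧ DRing.HasFiniteTorDimCx R ((DRing.restrictD (algebraMap R A)).obj (Dual2.shriekVia n Rψ (Dual.inD R R))) ∧ (Function.Bijective (fun a : A => a • CategoryTheory.CategoryStruct.id (Dual2.shriekVia n Rψ (Dual.inD R R))) ∧ ∀ i : ℤ, i ≠ 0 → Subsingleton (Dual2.shriekVia n Rψ (Dual.inD R R) ⟶ (Dual2.shriekVia n Rψ (Dual.inD R R))⟦i⟧)) ∧ ∀ (k : Type u) [Field k] [Algebra R k] [DRing.HasLBaseChange (Algebra.TensorProduct.includeRight : A →ₐ[R] k ⊗[R] A).toRingHom],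 Dual.IsDualizing (k ⊗[R] A) ((DRing.LBaseChange (Algebra.TensorProduct.includeRight : A →ₐ[R] k ⊗[R] A).toRingHom).obj (Dual2.shriekVia n Rψ (Dual.inD R R))) := by
  haveI : Algebra.FiniteType R A := Algebra.FiniteType.of_surjective ψ hψ
  have hd : ∀ q : PrimeSpectrum A,
      FlatMor.fibreDimAt (AlgebraicGeometry.Spec.map (CommRingCat.ofHom (algebraMap R A))) q ≤ (n : WithBot ℕ∞) :=
    fun q => Groth.Agent.DualLib.Omega.fibreDimAt_le ψ hψ q
  have hamp := Groth.Agent.DualLib.Shriek.hasTorAmplitudeIn_shriekVia ψ hψ adj n hd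
  have hfin := (Groth.Agent.Dual22Lib.bounded_finite_shriekVia ψ hψ adj (Dual.inD R R) 0 (fun i hi =>
    (Groth.Agent.DRingLib.isGE_iff_HD (Dual.inD R R) 0).1 inferInstance i hi)).2 (fun i => by
      rcases eq_or_ne i 0 with rfl | hi
      · exact Groth.Agent.DRingLib.finite_of_iso
          ((DerivedCategory.singleFunctorCompHomologyFunctorIso (ModuleCat.{u} R) 0).app (ModuleCat.of R R)).symm
          (Module.Finite.self R)
      · haveI := Groth.Agent.DualLib.hd_single_subsingleton (A := R) R i hi
        exact inferInstanceAs (Module.Finite R (Dual.HD R (Dual.inD R R) i)))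
  refine ⟨⟨-(n : ℤ), 0, fun i hi => ?_⟩, hfin, ⟨_, _, hamp⟩,
    Groth.Agent.DualLib.Omega.bijective_smul_id_shriekVia ψ hψ adj, fun k _ _ _ => ?_⟩
  · refine subsingleton_of_forall_eq 0 fun x => ?_
    by_contra hx
    obtain ⟨m, hm, hle⟩ := Ideal.exists_le_maximal ((⊥ : Submodule A _).colon {x}) (fun htop => hx (by
      have h1 : (1 : A) ∈ (⊥ : Submodule A _).colon {x} := htop ▸ Submodule.mem_top
      simpa using Submodule.mem_colon_singleton.1 h1))
    haveI : Nontrivial (LocalizedModule m.primeCompl (Dual.HD A (Dual2.shriekVia n Rψ (Dual.inD R R)) i)) := by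
      rw [← not_subsingleton_iff_nontrivial, LocalizedModule.subsingleton_iff]
      intro hall
      obtain ⟨r, hr, hr0⟩ := hall x
      exact hr (hle (Submodule.mem_colon_singleton.2 ((Submodule.mem_bot A).2 hr0)))
    have h1 := Groth.Agent.DualLib.Shriek.neg_le_of_nontrivial ψ hψ adj ⟨m, inferInstance⟩ n (hd _) i this
    have h2 := Groth.Agent.DualLib.Shriek.le_zero_of_nontrivial ψ hψ adj m i this
    omega
  · haveI := Groth.Agent.DCat.hasLBaseChange (algebraMap k (MvPolynomial (Fin n) k))
    haveI : IsNoetherianRing (k ⊗[R] A) := Algebra.FiniteType.isNoetherianRing k _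
    obtain ⟨Rk, ⟨adjk⟩⟩ := Groth.Agent.DualLib.Shriek.exists_rightAdjoint (Groth.Agent.DualLib.Omega.bcAlg (R' := k) ψ).toRingHom
    obtain ⟨e⟩ := Groth.Agent.DualLib.Omega.nonempty_shriekVia_self_baseChange (R' := k) ψ adj adjk hψ
    haveI : Module.Injective k k := Module.injective_of_isSemisimpleRing k k
    haveI : Injective (ModuleCat.of k k) := Module.injective_object_of_injective_module k k
    have hk : Dual.IsDualizing k (Dual.inD k k) := Groth.Agent.DualLib.isDualizing_self 1 inferInstance
    exact Groth.Agent.DualLib.isDualizing_of_iso e.symm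
      (Groth.Agent.Dual22Lib.isDualizing_shriekVia (Groth.Agent.DualLib.Omega.bcAlg (R' := k) ψ)
        (Groth.Agent.DualLib.Shriek.bcPres_surjective ψ hψ) adjk hk)

end Groth.Agent.S1801
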