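import Groth.Statements.S18014
import Groth.Agent.PairColim11.Main
-- import your own Groth.Agent.* helpers here

set_option autoImplicit false
universe u
open CategoryTheory CategoryTheory.Limits
open Lim

namespace Groth.Agent.S18014

open MvPolynomial Groth.Agent.PairColim11

theorem finite_quotient {R : Type u} [CommRing R] {σ : Type u} [Finite σ] (K : Ideal (MvPolynomial σ R))
    (q : σ → Polynomial R) (hq : ∀ v, (q v).Monic) (h : ∀ v, Polynomial.aeval (X v) (q v) ∈ K) :
    Module.Finite R (MvPolynomial σ R ⧸ K) := by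
  haveI : Algebra.FiniteType R (MvPolynomial σ R ⧸ K) :=
    (inferInstance : Algebra.FiniteType R (MvPolynomial σ R)).of_surjective (Ideal.Quotient.mkₐ R K) Ideal.Quotient.mk_surjective
  haveI : Algebra.IsIntegral R (MvPolynomial σ R ⧸ K) := ⟨fun x => by
    obtain ⟨p, rfl⟩ := Ideal.Quotient.mkₐ_surjective R K x
    induction p using MvPolynomial.induction_on with
    | C r => rw [← MvPolynomial.algebraMap_eq, AlgHom.commutes]; exact isIntegral_algebraMap
    | add a b ha hb => rw [map_add]; exact ha.add hb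
    | mul_X a v ha =>
      rw [map_mul]
      refine ha.mul ⟨q v, hq v, ?_⟩
      rw [← Polynomial.aeval_def, Polynomial.aeval_algHom_apply]
      exact Ideal.Quotient.eq_zero_iff_mem.2 (h v)⟩
  exact Algebra.IsIntegral.finite

theorem surjective_quotient {R : Type u} [CommRing R] {σ : Type u} (K : Ideal (MvPolynomial σ R))
    (h : ∀ v, ∃ a, X v - C a ∈ K) : Function.Surjective (algebraMap R (MvPolynomial σ R ⧸ K)) := fun x => by
  obtain ⟨p, rfl⟩ := Ideal.Quotient.mkₐ_surjective R K x
  show Ideal.Quotient.mkₐ R K p ∈ (Algebra.ofId R (MvPolynomial σ R ⧸ K)).range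
  induction p using MvPolynomial.induction_on with
  | C r => rw [← MvPolynomial.algebraMap_eq, AlgHom.commutes]; exact ⟨r, rfl⟩
  | add a b ha hb => rw [map_add]; exact add_mem ha hb
  | mul_X a v ha =>
    rw [map_mul]
    obtain ⟨r, hr⟩ := h v
    exact mul_mem ha ⟨r, ((Ideal.Quotient.mk_eq_mk_iff_sub_mem _ _).2 hr).symm⟩

section

variable {R E : Type u} [CommRing R] [CommRing E] [Algebra R E]

/-- Monic relations for the variables, and linear ones if the structure map is surjective. -/
noncomputable def rel (q : E → Polynomial R) {σ : Type u} (v : σ → E) : Ideal (MvPolynomial σ R) :=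
  open scoped Classical in
  Ideal.span (Set.range fun t => Polynomial.aeval (X t) (q (v t))) ⊔
    if h : Function.Surjective (algebraMap R E) then Ideal.span (Set.range fun t => X t - C (h (v t)).choose) else ⊥

theorem rel_fg (q : E → Polynomial R) {σ : Type u} [Finite σ] (v : σ → E) : (rel q v).FG := by
  unfold rel
  refine Submodule.FG.sup (Submodule.fg_span (Set.finite_range _)) ?_
  split
  · exact Submodule.fg_span (Set.finite_range _)
  · exact Submodule.fg_bot

theorem rel_le (q : E → Polynomial R) (hq : ∀ e, Polynomial.aeval e (q e) = 0) {σ : Type u} (v : σ → E) :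
    rel q v ≤ RingHom.ker (MvPolynomial.aeval v : MvPolynomial σ R →ₐ[R] E).toRingHom := by
  unfold rel
  refine sup_le (Ideal.span_le.2 (Set.range_subset_iff.2 fun t => ?_)) ?_
  · show MvPolynomial.aeval v (Polynomial.aeval (X t) (q (v t))) = 0
    rw [← Polynomial.aeval_algHom_apply, MvPolynomial.aeval_X, hq]
  · split
    · rename_i h
      refine Ideal.span_le.2 (Set.range_subset_iff.2 fun t => ?_)
      show MvPolynomial.aeval v (X t - C (h (v t)).choose) = 0
      rw [map_sub, MvPolynomial.aeval_X, MvPolynomial.aeval_C, (h (v t)).choose_spec, sub_self]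
    · exact bot_le

theorem aeval_mem_rel (q : E → Polynomial R) {σ : Type u} (v : σ → E) (t : σ) :
    Polynomial.aeval (X t) (q (v t)) ∈ rel q v :=
  Ideal.mem_sup_left (Ideal.subset_span ⟨t, rfl⟩)

theorem exists_sub_mem_rel (q : E → Polynomial R) {σ : Type u} (v : σ → E)
    (h : Function.Surjective (algebraMap R E)) (t : σ) : ∃ a, X t - C a ∈ rel q v :=
  ⟨(h (v t)).choose, Ideal.mem_sup_right (by rw [dif_pos h]; exact Ideal.subset_span ⟨t, rfl⟩)⟩

end

/-- Colimits may be computed on a cofinal part of a directed system. -/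
theorem colim_subtype {R A : Type u} [CommRing R] [CommRing A] [Algebra R A] {I : Type u} [Preorder I]
    (P : I → Prop) [Nonempty {j // P j}] [IsDirected {j // P j} (· ≤ ·)] (hP : ∀ j, ∃ j', j ≤ j' ∧ P j')
    (F : I ⥤ Under (CommRingCat.of R))
    (c : F ⟶ (Functor.const I).obj (Under.mk (CommRingCat.ofHom (algebraMap R A))))
    (hc : ∀ a : A, ∃ i, ∃ x : (F.obj i).right, (c.app i).right.hom x = a)
    (hk : ∀ i (x : (F.obj i).right), (c.app i).right.hom x = 0 → ∃ j, ∃ h : i ≤ j, (F.map (homOfLE h)).right.hom x = 0)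
    (c' : (Monotone.functor (f := (Subtype.val : {j // P j} → I)) fun _ _ h => h) ⋙ F ⟶
      (Functor.const _).obj (Under.mk (CommRingCat.ofHom (algebraMap R A))))
    (hc' : ∀ j, c'.app j = c.app j.1) : Nonempty (IsColimit (Cocone.mk _ c')) := by
  refine nonempty_isColimit _ _ (fun a => ?_) fun j x hx => ?_
  · obtain ⟨i, x, hx⟩ := hc a
    obtain ⟨j, hij, hj⟩ := hP i
    refine ⟨⟨j, hj⟩, (F.map (homOfLE hij)).right.hom x, ?_⟩
    rw [hc']
    refine Eq.trans ?_ hx
    exact congrArg (fun q => q.right.hom x) (c.naturality (homOfLE hij))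
  · rw [hc'] at hx
    obtain ⟨i, hi, h0⟩ := hk j.1 x hx
    obtain ⟨j', hij, hj'⟩ := hP i
    refine ⟨⟨j', hj'⟩, hi.trans hij, ?_⟩
    show (F.map (homOfLE (hi.trans hij))).right.hom x = 0
    rw [show homOfLE (hi.trans hij) = homOfLE hi ≫ homOfLE hij from rfl, F.map_comp]
    show (F.map (homOfLE hij)).right.hom ((F.map (homOfLE hi)).right.hom x) = 0
    rw [h0, map_zero]

theorem isNilpotent_of_isNilpotent_ker {R S : Type u} [CommRing R] [CommRing S] (g : R →+* S)
    (h : IsNilpotent (RingHom.ker g)) : ∀ x ∈ RingHom.ker g, IsNilpotent x := fun x hx => by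
  obtain ⟨n, hn⟩ := h
  refine ⟨n, ?_⟩
  have := Ideal.pow_mem_pow hx n
  rw [hn] at this
  simpa using this

/-- Let A be a commutative ring, B an A-algebra and C a B-algebra, with B and C both integral over A.
Then B → C is a filtered colimit, in the category of A-algebras, of maps B_i → C_i between
A-algebras each of which is finite and of finite presentation over A: there are a small filtered
index category, two diagrams of A-algebras over it with a morphism of diagrams, and colimiting
cocones with vertices B and C under which the morphism of diagrams induces B → C. Moreover the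
system can be chosen so that if A → B (resp. B → C, resp. A → C) is surjective then so is every A →
B_i (resp. B_i → C_i, resp. A → C_i), and if A → B (resp. B → C, resp. A → C) is surjective with
nilpotent kernel then so is every A → B_i (resp. B_i → C_i, resp. A → C_i). -/
theorem result {A B C : Type u} [CommRing A] [CommRing B]
    [CommRing C] [Algebra A B] [Algebra A C] [Algebra B C] [IsScalarTower A B C]
    [Algebra.IsIntegral A B] [Algebra.IsIntegral A C] :
    ∃ (ι : Type u) (_ : SmallCategory ι) (_ : IsFiltered ι) (DB DC : ι ⥤ Under (CommRingCat.of A)) (τ : DB ⟶ DC)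
      (cB : DB ⟶ (Functor.const ι).obj (Under.mk (CommRingCat.ofHom (algebraMap A B))))
      (cC : DC ⟶ (Functor.const ι).obj (Under.mk (CommRingCat.ofHom (algebraMap A C)))),
      Nonempty (IsColimit (Cocone.mk _ cB)) ∧ Nonempty (IsColimit (Cocone.mk _ cC)) ∧
      (∀ i, (τ.app i).right ≫ (cC.app i).right = (cB.app i).right ≫ CommRingCat.ofHom (algebraMap B C)) ∧
      (∀ i, (DB.obj i).hom.hom.Finite ∧ (DB.obj i).hom.hom.FinitePresentation ∧
        (DC.obj i).hom.hom.Finite ∧ (DC.obj i).hom.hom.FinitePresentation) ∧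
      (Function.Surjective (algebraMap A B) → ∀ i, Function.Surjective (DB.obj i).hom.hom) ∧
      (Function.Surjective (algebraMap B C) → ∀ i, Function.Surjective (τ.app i).right.hom) ∧
      (Function.Surjective (algebraMap A C) → ∀ i, Function.Surjective (DC.obj i).hom.hom) ∧
      (Function.Surjective (algebraMap A B) → IsNilpotent (RingHom.ker (algebraMap A B)) →
        ∀ i, Function.Surjective (DB.obj i).hom.hom ∧ IsNilpotent (RingHom.ker (DB.obj i).hom.hom)) ∧
      (Function.Surjective (algebraMap B C) → IsNilpotent (RingHom.ker (algebraMap B C)) →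
        ∀ i, Function.Surjective (τ.app i).right.hom ∧ IsNilpotent (RingHom.ker (τ.app i).right.hom)) ∧
      (Function.Surjective (algebraMap A C) → IsNilpotent (RingHom.ker (algebraMap A C)) →
        ∀ i, Function.Surjective (DC.obj i).hom.hom ∧ IsNilpotent (RingHom.ker (DC.obj i).hom.hom)) := by
  classical
  let f : B →ₐ[A] C := IsScalarTower.toAlgHom A B C
  let i : C →ₐ[A] C := AlgHom.id A C
  let s : C → C := id
  have hs : ∀ d, i (s d) = d := fun _ => rfl
  have hnil : ∀ x ∈ RingHom.ker i.toRingHom, IsNilpotent x := fun x hx => ⟨1, by rw [pow_one]; exact hx⟩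
  choose qB hqBm hqB using fun b : B => Algebra.IsIntegral.isIntegral (R := A) b
  choose qC hqCm hqC using fun c : C => Algebra.IsIntegral.isIntegral (R := A) c
  let vB : ∀ S : Finset B, S → B := fun S b => (b : B)
  let vC : ∀ (S : Finset B) (T : Finset C), T ⊕ S → C := fun S T => Sum.elim (fun d => (d : C)) fun b => s (f (b : B))
  let eB : ∀ S : Finset B, Ideal (MvPolynomial S A) := fun S => rel qB (vB S)
  let eD : ∀ (S : Finset B) (T : Finset C), Ideal (MvPolynomial (T ⊕ S) A) := fun S T => rel qC (vC S T)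
  let Good : PairColim11.Idx f i s → Prop := fun j => eB j.S ≤ j.KB ∧ eD j.S j.T ≤ j.K
  have hgood : ∀ j, ∃ j', j ≤ j' ∧ Good j' := fun j => by
    obtain ⟨j', h, h', e₁, e₂, e₃, g₁, g₂⟩ := exists_idx_extra f i s hs hnil j.S j.T j.KB j.K' j.K j.fgB j.fg' j.fgK
      j.leB j.le' j.leK eB (fun S => rel_fg _ _) (fun S => rel_le qB hqB (vB S))
      eD (fun S T => rel_fg _ _) (fun S T => rel_le qC hqC (vC S T))
    exact ⟨j', ⟨h, h', e₁, e₂, e₃⟩, g₁, g₂⟩
  haveI := nonempty_idx f i s hs hnil
  haveI := PairColim11.directed f i s hs hnil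
  haveI : Nonempty {j // Good j} := by
    obtain ⟨j⟩ := (inferInstance : Nonempty (PairColim11.Idx f i s))
    obtain ⟨j', -, hj'⟩ := hgood j
    exact ⟨⟨j', hj'⟩⟩
  haveI : IsDirected {j // Good j} (· ≤ ·) := ⟨fun a b => by
    obtain ⟨j, h1, h2⟩ := directed_of (· ≤ ·) a.1 b.1
    obtain ⟨j', h, hj'⟩ := hgood j
    exact ⟨⟨j', hj'⟩, h1.trans h, h2.trans h⟩⟩
  let ι' : {j // Good j} ⥤ PairColim11.Idx f i s :=
    Monotone.functor (f := (Subtype.val : {j // Good j} → _)) fun _ _ h => h
  have key : ∀ j : {j // Good j},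
      (∀ v, Polynomial.aeval (X v) (qB (vB j.1.S v)) ∈ j.1.KB) ∧
      (∀ v, Polynomial.aeval (X v) (qC (vC j.1.S j.1.T v)) ∈ j.1.K) := fun j =>
    ⟨fun v => j.2.1 (aeval_mem_rel qB _ v), fun v => j.2.2 (aeval_mem_rel qC _ v)⟩
  have hsB : Function.Surjective (algebraMap A B) → ∀ j : {j // Good j}, Function.Surjective (algebraMap A j.1.GB) :=
    fun h j => surjective_quotient _ fun v => (exists_sub_mem_rel qB _ h v).imp fun a ha => j.2.1 ha
  have hsC : Function.Surjective (algebraMap A C) → ∀ j : {j // Good j}, Function.Surjective (algebraMap A j.1.GD) :=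
    fun h j => surjective_quotient _ fun v => (exists_sub_mem_rel qC _ h v).imp fun a ha => j.2.2 ha
  refine ⟨{j // Good j}, inferInstance, inferInstance, ι' ⋙ DB f i s, ι' ⋙ DD f i s,
    Functor.whiskerLeft ι' (phiT f i s), Functor.whiskerLeft ι' (cocB f i s), Functor.whiskerLeft ι' (cocD f i s),
    ?_, ?_, fun j => CommRingCat.hom_ext (RingHom.ext fun x => j.1.cD_phi hs x), fun j => ?_, hsB,
    fun h j => j.1.phi_surjective h, hsC, fun h hn j => ⟨hsB h j, ?_⟩, fun h hn j => ?_, fun h hn j => ⟨hsC h j, ?_⟩⟩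
  · refine colim_subtype Good hgood _ (cocB f i s) (fun b => ?_) (fun j x hx => ?_) _ fun j => rfl
    · obtain ⟨j, h, -⟩ := exists_idx f i s hs hnil {b} ∅ ⊥ ⊥ ⊥ Submodule.fg_bot Submodule.fg_bot Submodule.fg_bot
        (fun x hx => by rw [Ideal.mem_bot.1 hx, map_zero]) (fun x hx => by rw [Ideal.mem_bot.1 hx, map_zero])
        (fun x hx => by rw [Ideal.mem_bot.1 hx, map_zero])
      exact ⟨j, Ideal.Quotient.mk j.KB (X ⟨b, h (Finset.mem_singleton_self b)⟩),
        (show evB (R := A) j.S (X ⟨b, h (Finset.mem_singleton_self b)⟩) = b from MvPolynomial.aeval_X _ _)⟩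
    · obtain ⟨p, rfl⟩ := Ideal.Quotient.mk_surjective (I := j.KB) x
      obtain ⟨j', h, h1, -⟩ := exists_kill f i s hs hnil j p 0 0 hx (map_zero _) (map_zero _)
      exact ⟨j', h, h1⟩
  · refine colim_subtype Good hgood _ (cocD f i s) (fun d => ?_) (fun j x hx => ?_) _ fun j => rfl
    · obtain ⟨j, -, h, -⟩ := exists_idx f i s hs hnil ∅ {d} ⊥ ⊥ ⊥ Submodule.fg_bot Submodule.fg_bot Submodule.fg_bot
        (fun x hx => by rw [Ideal.mem_bot.1 hx, map_zero]) (fun x hx => by rw [Ideal.mem_bot.1 hx, map_zero])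
        (fun x hx => by rw [Ideal.mem_bot.1 hx, map_zero])
      exact ⟨j, Ideal.Quotient.mk j.K (X (Sum.inl ⟨d, h (Finset.mem_singleton_self d)⟩)),
        (show evD f i s j.S j.T (X (Sum.inl ⟨d, h (Finset.mem_singleton_self d)⟩)) = d from MvPolynomial.aeval_X _ _)⟩
    · obtain ⟨p, rfl⟩ := Ideal.Quotient.mk_surjective (I := j.K) x
      obtain ⟨j', h, -, -, h1⟩ := exists_kill f i s hs hnil j 0 0 p (map_zero _) (map_zero _) hx
      exact ⟨j', h, h1⟩
  · haveI := Algebra.FinitePresentation.quotient (R := A) j.1.fgB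
    haveI := Algebra.FinitePresentation.quotient (R := A) j.1.fgK
    haveI := finite_quotient j.1.KB _ (fun v => hqBm (vB j.1.S v)) (key j).1
    haveI := finite_quotient j.1.K _ (fun v => hqCm (vC j.1.S j.1.T v)) (key j).2
    exact ⟨(RingHom.finite_algebraMap (A := A) (B := j.1.GB)).2 inferInstance,
      (RingHom.finitePresentation_algebraMap (A := A) (B := j.1.GB)).2 inferInstance,
      (RingHom.finite_algebraMap (A := A) (B := j.1.GD)).2 inferInstance,
      (RingHom.finitePresentation_algebraMap (A := A) (B := j.1.GD)).2 inferInstance⟩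
  · obtain ⟨n, hn⟩ := hn
    refine ⟨n, le_bot_iff.1 (le_trans (Ideal.pow_right_mono (fun a ha => ?_) n) hn.le)⟩
    show algebraMap A B a = 0
    rw [← j.1.cB.commutes a]
    exact (congrArg j.1.cB (show algebraMap A j.1.GB a = 0 from ha)).trans (map_zero _)
  · refine ⟨j.1.phi_surjective h, ?_⟩
    haveI := Algebra.FinitePresentation.quotient (R := A) j.1.fgB
    haveI := Algebra.FinitePresentation.quotient (R := A) j.1.fgK
    refine (Ideal.FG.isNilpotent_iff_le_nilradical
      (Algebra.FinitePresentation.ker_fG_of_surjective j.1.phi (j.1.phi_surjective h))).2 fun x hx => ?_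
    exact j.1.phi_nil h (isNilpotent_of_isNilpotent_ker f.toRingHom hn) x hx
  · obtain ⟨n, hn⟩ := hn
    refine ⟨n, le_bot_iff.1 (le_trans (Ideal.pow_right_mono (fun a ha => ?_) n) hn.le)⟩
    show algebraMap A C a = 0
    rw [← j.1.cD.commutes a]
    exact (congrArg j.1.cD (show algebraMap A j.1.GD a = 0 from ha)).trans (map_zero _)

end Groth.Agent.S18014
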