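import Groth.Statements.S18015
import Mathlib.RingTheory.Ideal.AssociatedPrime.Finiteness
import Mathlib.RingTheory.Finiteness.Finsupp
import Mathlib.Algebra.Category.ModuleCat.Abelian
import Mathlib.Algebra.Homology.ShortComplex.ModuleCat

set_option autoImplicit false
universe u
open CategoryTheory
open Coh

namespace Groth.Agent.S18015

/-- Let A be a Noetherian commutative ring and F an additive functor from A-modules to A-modules which
is half-exact, i.e. for every short exact sequence 0 → M' → M → M'' → 0 the sequence F(M') → F(M) →
F(M'') is exact at F(M). Then F(M) is a finitely generated A-module for every finitely generated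
A-module M if and only if F(A/p) is a finitely generated A-module for every prime ideal p of A. (The
published statement takes F from quasi-coherent sheaves on Spec A to abelian groups, with A acting
on each F(M) through F; this row allows any additive functor between A-module categories, A-linear
or not, and the same argument applies, since it uses only that each map F(f) is A-linear.) -/
theorem result {A : Type u} [CommRing A] [IsNoetherianRing A]
    (F : ModuleCat.{u} A ⥤ ModuleCat.{u} A) [F.Additive]
    (hF : ∀ S : ShortComplex (ModuleCat.{u} A), S.ShortExact → (S.map F).Exact) :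
    (∀ M : ModuleCat.{u} A, Module.Finite A M → Module.Finite A (F.obj M)) ↔
      ∀ p : PrimeSpectrum A, Module.Finite A (F.obj (ModuleCat.of A (A ⧸ p.asIdeal))) := by
  refine ⟨fun h p => h _ inferInstance, fun h M hM => ?_⟩
  refine IsNoetherianRing.induction_on_isQuotientEquivQuotientPrime (A := A) hM
    (motive := fun N _ _ _ => Module.Finite A (F.obj (ModuleCat.of A N))) ?_ ?_ ?_
  · intro N _ _ _ _
    have : Subsingleton (F.obj (ModuleCat.of A N)) :=
      ModuleCat.subsingleton_of_isZero (F.map_isZero (ModuleCat.isZero_of_subsingleton _))
    exact inferInstance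
  · intro N _ _ _ p e
    haveI := h p
    exact Module.Finite.equiv (F.mapIso e.toModuleIso).toLinearEquiv.symm
  · intro N₁ _ _ _ N₂ _ _ _ N₃ _ _ _ f g hf hg hfg h₁ h₃
    have w : ModuleCat.ofHom f ≫ ModuleCat.ofHom g = 0 :=
      ModuleCat.hom_ext (LinearMap.ext fun x => hfg.apply_apply_eq_zero x)
    have hS : (ShortComplex.mk _ _ w).ShortExact :=
      ModuleCat.shortComplex_shortExact _ hfg hf hg
    have hE := (ShortComplex.ShortExact.moduleCat_exact_iff_function_exact _).1 (hF _ hS)
    haveI := isNoetherian_of_isNoetherianRing_of_finite A (F.obj (ModuleCat.of A N₁))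
    haveI := isNoetherian_of_isNoetherianRing_of_finite A (F.obj (ModuleCat.of A N₃))
    haveI : IsNoetherian A (F.obj (ModuleCat.of A N₂)) :=
      isNoetherian_of_range_eq_ker (M := F.obj (ModuleCat.of A N₁)) (P := F.obj (ModuleCat.of A N₃))
        (F.map (ModuleCat.ofHom f)).hom (F.map (ModuleCat.ofHom g)).hom hE.linearMap_ker_eq.symm
    exact inferInstance

end Groth.Agent.S18015
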