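import Groth.Statements.S18017
import Groth.Agent.FormalVersal.Lift
import Mathlib.AlgebraicGeometry.Morphisms.Etale
import Mathlib.RingTheory.Unramified.LocalRing
import Mathlib.RingTheory.Smooth.Basic

set_option autoImplicit false
universe u
open CategoryTheory AlgebraicGeometry
open Unram

namespace Groth.Agent.S18017
open CategoryTheory AlgebraicGeometry

/-- In the case where the S-groupoid is the base scheme S itself, let g : T → S be a morphism of
schemes, e : U → T an étale morphism and u a point of U with t = e(u). Say that T is formally versal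
over S at t when, for every surjection π : C' → C of local Artinian rings, every morphism a : Spec C
→ T sending the closed point to t and inducing a surjection (hence an isomorphism) of residue fields
κ(t) → κ, and every b : Spec C' → S compatible with a over S, there is c : Spec C' → T restricting
to a and lying over b. If T is formally versal over S at t, then U (over S via e) is formally versal
over S at u. (No Noetherian or finiteness hypotheses; a scheme has all the pushouts of local
Artinian schemes that the general statement asks of the target.) -/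
theorem result {S T U : Scheme.{u}} (g : T ⟶ S) (e : U ⟶ T) [Etale e] (u : U)
    (hT : ∀ (C C' : Type u) [CommRing C] [CommRing C'] [IsLocalRing C] [IsLocalRing C'] [IsArtinianRing C]
        [IsArtinianRing C'] (π : C' →+* C), Function.Surjective π →
        ∀ (a : Spec (CommRingCat.of C) ⟶ T) (b : Spec (CommRingCat.of C') ⟶ S),
          a (IsLocalRing.closedPoint C) = e u →
          Function.Surjective (a.residueFieldMap (IsLocalRing.closedPoint C)).hom →
          Spec.map (CommRingCat.ofHom π) ≫ b = a ≫ g →
          ∃ c : Spec (CommRingCat.of C') ⟶ T, Spec.map (CommRingCat.ofHom π) ≫ c = a ∧ c ≫ g = b) :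
    ∀ (C C' : Type u) [CommRing C] [CommRing C'] [IsLocalRing C] [IsLocalRing C'] [IsArtinianRing C]
        [IsArtinianRing C'] (π : C' →+* C), Function.Surjective π →
        ∀ (a : Spec (CommRingCat.of C) ⟶ U) (b : Spec (CommRingCat.of C') ⟶ S),
          a (IsLocalRing.closedPoint C) = u →
          Function.Surjective (a.residueFieldMap (IsLocalRing.closedPoint C)).hom →
          Spec.map (CommRingCat.ofHom π) ≫ b = a ≫ (e ≫ g) →
          ∃ c : Spec (CommRingCat.of C') ⟶ U, Spec.map (CommRingCat.ofHom π) ≫ c = a ∧ c ≫ (e ≫ g) = b := by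
  intro C C' _ _ _ _ _ _ π hπ a b ha hsurj hsq
  have hfe : (e.residueFieldMap u).hom.Finite := by
    algebraize [(e.stalkMap u).hom]
    haveI : IsLocalHom (algebraMap (T.presheaf.stalk (e u)) (U.presheaf.stalk u)) :=
      inferInstanceAs <| IsLocalHom (e.stalkMap u).hom
    haveI : Algebra.EssFiniteType (T.presheaf.stalk (e u)) (U.presheaf.stalk u) := by
      rw [← RingHom.essFiniteType_algebraMap, RingHom.algebraMap_toAlgebra]
      exact LocallyOfFiniteType.stalkMap e u
    haveI : Algebra.FormallyUnramified (T.presheaf.stalk (e u)) (U.presheaf.stalk u) := by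
      rw [← RingHom.formallyUnramified_algebraMap, RingHom.algebraMap_toAlgebra]
      exact FormallyUnramified.stalkMap e u
    have : Module.Finite (IsLocalRing.ResidueField (T.presheaf.stalk (e u))) (IsLocalRing.ResidueField (U.presheaf.stalk u)) := inferInstance
    have h := RingHom.finite_algebraMap.mpr this
    show (IsLocalRing.ResidueField.map (e.stalkMap u).hom).Finite
    convert h using 1
    refine RingHom.ext fun x => ?_
    obtain ⟨x, rfl⟩ := IsLocalRing.residue_surjective x
    rfl
  subst ha
  obtain ⟨c₀, hc₀, hc₀'⟩ := Groth.Agent.FormalVersal.lift_finite_residue g (e (a (IsLocalRing.closedPoint C))) hT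
    C C' π hπ (a ≫ e) b rfl (by
      rw [Scheme.residueFieldMap_comp]
      exact (RingHom.Finite.of_surjective _ hsurj).comp hfe) (by rw [hsq, Category.assoc])
  obtain ⟨W, hW, htW, -⟩ := exists_isAffineOpen_mem_and_subset (x := e (a (IsLocalRing.closedPoint C))) (U := ⊤) trivial
  obtain ⟨V, hV, huV, hVW : V ≤ e ⁻¹ᵁ W⟩ :=
    exists_isAffineOpen_mem_and_subset (x := a (IsLocalRing.closedPoint C)) (U := e ⁻¹ᵁ W) htW
  obtain ⟨ψ, hψ⟩ := Groth.Agent.FlatLocal.exists_eq_SpecMap_fromSpec hV C a huV
  obtain ⟨χ, hχ⟩ := Groth.Agent.FlatLocal.exists_eq_SpecMap_fromSpec hW C' c₀ (by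
    rw [← Groth.Agent.FlatLocal.closedPoint_SpecMap_of_surjective π hπ, ← Scheme.Hom.comp_apply, hc₀]
    exact htW)
  have hcomp : e.appLE W V hVW ≫ ψ = χ ≫ CommRingCat.ofHom π := by
    rw [← Spec.map_inj, ← cancel_mono hW.fromSpec, Spec.map_comp, Spec.map_comp, Category.assoc,
      Category.assoc, IsAffineOpen.SpecMap_appLE_fromSpec e hW hV hVW, reassoc_of% hψ, hχ, hc₀]
  have he := e.etale_appLE hW hV hVW
  algebraize [(e.appLE W V hVW).hom]
  letI : Algebra Γ(T, W) C' := χ.hom.toAlgebra
  letI : Algebra Γ(T, W) C := (χ ≫ CommRingCat.ofHom π).hom.toAlgebra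
  let ψA : Γ(U, V) →ₐ[Γ(T, W)] C := ⟨ψ.hom, fun r => congr($hcomp r)⟩
  let πA : C' →ₐ[Γ(T, W)] C := ⟨π, fun r => rfl⟩
  have hnil : IsNilpotent (RingHom.ker πA.toRingHom) := by
    obtain ⟨n, hn⟩ := IsArtinianRing.isNilpotent_jacobson_bot (R := C')
    rw [IsLocalRing.jacobson_eq_maximalIdeal ⊥ bot_ne_top] at hn
    exact ⟨n, le_bot_iff.mp (le_trans (Ideal.pow_right_mono (IsLocalRing.le_maximalIdeal (RingHom.ker_ne_top _)) n) (le_of_eq hn))⟩
  let lift := Algebra.FormallySmooth.liftOfSurjective ψA πA hπ hnil
  have h1 := Algebra.FormallySmooth.comp_liftOfSurjective ψA πA hπ hnil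
  refine ⟨Spec.map (CommRingCat.ofHom lift.toRingHom) ≫ hV.fromSpec, ?_, ?_⟩
  · rw [← Spec.map_comp_assoc, show CommRingCat.ofHom lift.toRingHom ≫ CommRingCat.ofHom π = ψ from
      CommRingCat.hom_ext (congrArg AlgHom.toRingHom h1), hψ]
  · rw [Category.assoc, ← IsAffineOpen.SpecMap_appLE_fromSpec_assoc e hW hV hVW, ← Spec.map_comp_assoc,
      show e.appLE W V hVW ≫ CommRingCat.ofHom lift.toRingHom = χ from CommRingCat.hom_ext lift.comp_algebraMap,
      reassoc_of% hχ, hc₀']

end Groth.Agent.S18017
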