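import Groth.Statements.S18019
import Mathlib.Algebra.Polynomial.Div
import Mathlib.Algebra.CharP.Two
import Mathlib.Algebra.Polynomial.RingDivision
import Mathlib.Tactic.LinearCombination

set_option autoImplicit false
universe u
open ClassStk

namespace Groth.Agent.S18019

open Polynomial in
/-- Let R be an integral domain of characteristic 2 and let a be a nonzero element of R, so that x ↦ x +
a defines an R-algebra involution of the polynomial ring R[x] (an action of the group of order two).
A polynomial f is invariant, f(x + a) = f(x), if and only if f belongs to the R-subalgebra generated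
by u = x (x + a); in other words the ring of invariants is the polynomial ring R[u]. -/
theorem result (R : Type u) [CommRing R] [IsDomain R]
    [CharP R 2] (a : R) (ha : a ≠ 0) (f : Polynomial R) :
    f.comp (X + C a) = f ↔ f ∈ Algebra.adjoin R ({X * (X + C a)} : Set (Polynomial R)) := by
  constructor
  · intro h
    induction hn : f.natDegree using Nat.strong_induction_on generalizing f with
    | _ n ih =>
    subst hn
    set g := X * (X + C a) with hgdef
    have hg : g.Monic := monic_X.mul (monic_X_add_C a)
    have key := modByMonic_add_div f g
    have hgc : g.comp (X + C a) = g := by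
      simp [hgdef, mul_comp, add_assoc, CharTwo.add_self_eq_zero]; ring
    have e1 : (f %ₘ g).comp (X + C a) + g * (f /ₘ g).comp (X + C a) = (f %ₘ g) + g * (f /ₘ g) := by
      have := congrArg (fun p => p.comp (X + C a)) key
      simp only [add_comp, mul_comp, hgc] at this
      rw [this, h, key]
    have hgd : g.natDegree = 2 := by
      rw [hgdef, natDegree_mul X_ne_zero (X_add_C_ne_zero a), natDegree_X, natDegree_X_add_C]
    have hg1 : g ≠ 1 := fun hh => by rw [hh, natDegree_one] at hgd; omega
    have hrd := natDegree_modByMonic_lt f hg hg1
    rw [hgd] at hrd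
    obtain ⟨c1, c0, hr⟩ := exists_eq_X_add_C_of_natDegree_le_one (p := f %ₘ g) (by omega)
    rw [hr] at e1 key
    simp only [add_comp, mul_comp, C_comp, X_comp] at e1
    have e2 : g * ((f /ₘ g).comp (X + C a) - f /ₘ g) = - C (c1 * a) := by
      rw [map_mul]; linear_combination e1
    have e3 : (f /ₘ g).comp (X + C a) - f /ₘ g = 0 := by
      by_contra hne
      have := congrArg natDegree e2
      rw [natDegree_mul hg.ne_zero hne, natDegree_neg, natDegree_C, hgd] at this
      omega
    rw [e3, mul_zero, eq_comm, neg_eq_zero, C_eq_zero, mul_eq_zero] at e2
    have hc1 : c1 = 0 := e2.resolve_right ha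
    rw [hc1] at key; simp at key
    have hgmem : g ∈ Algebra.adjoin R ({g} : Set (Polynomial R)) := Algebra.subset_adjoin rfl
    rw [← key]
    refine Subalgebra.add_mem _ (Subalgebra.algebraMap_mem _ c0) (Subalgebra.mul_mem _ hgmem ?_)
    by_cases hq : f /ₘ g = 0
    · rw [hq]; exact zero_mem _
    refine ih _ ?_ _ (sub_eq_zero.mp e3) rfl
    rw [natDegree_divByMonic f hg, hgd]
    have : f.natDegree ≠ 0 := by
      intro h0
      apply hq
      rw [divByMonic_eq_zero_iff hg]
      exact degree_lt_degree (by rw [h0, hgd]; omega)
    omega
  · intro h
    induction h using Algebra.adjoin_induction with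
    | mem x hx => simp at hx; subst hx; simp [mul_comp, add_assoc, CharTwo.add_self_eq_zero]; ring
    | algebraMap r => simp
    | add x y _ _ hx hy => simp [hx, hy]
    | mul x y _ _ hx hy => simp [hx, hy]

end Groth.Agent.S18019
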