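import Groth.Statements.S1802
import Groth.Agent.CAlgH3.PuncturedCoh
import Groth.Agent.LocCoh.NonVanishing
import Groth.Agent.LocCoh.Vanishing
import Mathlib

set_option autoImplicit false
universe u
open AlgebraicGeometry
open LocCoh

namespace Groth.Agent.S1802

/-- For a Noetherian ring. Let I be an ideal of a Noetherian ring A with cd(A, I) = 1, i.e. H^i_I(M) = 0
for all modules M and all i ≥ 2 but H^1_I(M) ≠ 0 for some M. Then the open subscheme Spec A minus
V(I) is nonempty and affine. -/
theorem result (A : Type u) [CommRing A] [IsNoetherianRing A] (I : Ideal A) (h1 : LocCoh.CdLE A I 1) (h0 : ¬ LocCoh.CdLE A I 0) : Nonempty (↑(LocCoh.puncturedOpen A I) : Scheme.{u}) ∧ IsAffine (↑(LocCoh.puncturedOpen A I) : Scheme.{u}) := by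
  have haff : IsAffineOpen (LocCoh.puncturedOpen A I) := by
    exact CAlgH3.PuncturedCoh.isAffineOpen_of_cdLE_one (R := CommRingCat.of A) I h1
  refine ⟨?_, haff⟩
  by_contra hne
  refine h0 fun M _ _ i hi => ?_
  have hrad : I.radical = (Ideal.span ((∅ : Finset A) : Set A)).radical := by
    rw [Finset.coe_empty, Ideal.span_empty]
    refine le_antisymm ?_ (Ideal.radical_mono bot_le)
    refine Ideal.radical_le_radical_iff.2 fun x hx => ?_
    rw [Ideal.radical_eq_sInf, Submodule.mem_sInf]
    rintro p ⟨-, hp⟩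
    by_contra hxp
    exact hne ⟨⟨⟨p, hp⟩, fun h => hxp (h hx)⟩⟩
  obtain ⟨e⟩ := Groth.Agent.LocCoh.nonempty_H_equiv_of_radical hrad i M
  haveI := Groth.Agent.LocCoh.cdLE_span_finset (∅ : Finset A) M i (by simpa using hi)
  exact e.toEquiv.subsingleton

end Groth.Agent.S1802
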