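import Groth.Statements.S18025
import Groth.Agent.Desc19b.InertiaOps

set_option backward.isDefEq.respectTransparency false

set_option autoImplicit false
open W4c5stacksedinertia

namespace Groth.Agent.S18025

open W4c5stacksedinertia in
/-- In the rational vector space K with basis the isomorphism classes of finite groups (the class of a
group standing for its classifying groupoid), the operators `P k := ∑ r, ((-1)^(r+k) / r!) *
Nat.choose r k • inertiaR r` (a finite sum on each vector) are the eigenprojections of the inertia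
operator: `P k v` lies in the `k`-eigenspace of the inertia operator for every `v` and `k`, and `∑
k, P k v = v`. -/
theorem result (v : K) :
    (∀ k : ℕ, (∑ᶠ r : ℕ, (((-1 : ℚ) ^ (r + k)) / (Nat.factorial r : ℚ) * (Nat.choose r k : ℚ)) •
        inertiaR r v) ∈ Module.End.eigenspace inertia (k : ℚ)) ∧
    (∑ᶠ k : ℕ, ∑ᶠ r : ℕ, (((-1 : ℚ) ^ (r + k)) / (Nat.factorial r : ℚ) * (Nat.choose r k : ℚ)) •
        inertiaR r v) = v := by
  classical
  let coef : ℕ → ℕ → ℚ := fun k r => (((-1 : ℚ) ^ (r + k)) / (Nat.factorial r : ℚ) * (Nat.choose r k : ℚ))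
  let P : ℕ → K → K := fun k w => ∑ᶠ r : ℕ, coef k r • inertiaR r w
  have fin : ∀ (k : ℕ) (w : K), Function.HasFiniteSupport (fun r : ℕ => coef k r • inertiaR r w) := by
    intro k w
    obtain ⟨N, hN⟩ := Desc19b.InertiaOps.exists_inertiaR_eq_zero w
    refine (Set.finite_Iio N).subset fun r hr => ?_
    by_contra h
    exact hr (by simp [hN r (not_lt.1 h)])
  have alt : ∀ j k : ℕ, ∑ r ∈ Finset.range (j + 1), coef k r * ((Nat.factorial r * Nat.choose j r : ℕ) : ℚ) =
      if j = k then 1 else 0 := by
    intro j k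
    have e : ∀ r, coef k r * ((Nat.factorial r * Nat.choose j r : ℕ) : ℚ) =
        (-1 : ℚ) ^ (r + k) * ((Nat.choose r k : ℚ) * Nat.choose j r) := by
      intro r
      have := Nat.factorial_ne_zero r
      simp only [coef]
      push_cast
      field_simp
    rw [Finset.sum_congr rfl fun r _ => e r]
    rcases lt_or_ge j k with h | h
    · rw [if_neg h.ne]
      refine Finset.sum_eq_zero fun r hr => ?_
      rw [Nat.choose_eq_zero_of_lt (show r < k by rw [Finset.mem_range] at hr; omega)]
      simp
    · obtain ⟨m, rfl⟩ := Nat.exists_eq_add_of_le h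
      rw [add_assoc, Finset.sum_range_add, Finset.sum_eq_zero (s := Finset.range k) (fun r hr => by
        rw [Nat.choose_eq_zero_of_lt (Finset.mem_range.1 hr)]; simp), zero_add]
      have e2 : ∀ s ∈ Finset.range (m + 1), (-1 : ℚ) ^ (k + s + k) * ((Nat.choose (k + s) k : ℚ) * Nat.choose (k + m) (k + s))
          = (Nat.choose (k + m) k : ℚ) * ((((-1) ^ s * (Nat.choose m s) : ℤ)) : ℚ) := by
        intro s hs
        have h2 := Nat.choose_mul (n := k + m) (k := k + s) (s := k) (Nat.le_add_right k s)
        rw [Nat.add_sub_cancel_left, Nat.add_sub_cancel_left] at h2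
        have h3 : (-1 : ℚ) ^ (k + s + k) = (-1) ^ s := by
          rw [show k + s + k = s + 2 * k by ring, pow_add, pow_mul]; simp
        have h2' : (Nat.choose (k + m) (k + s) : ℚ) * Nat.choose (k + s) k = (Nat.choose (k + m) k : ℚ) * Nat.choose m s := by
          exact_mod_cast h2
        rw [h3]
        push_cast
        linear_combination ((-1 : ℚ) ^ s) * h2'
      rw [Finset.sum_congr rfl e2, ← Finset.mul_sum, ← Int.cast_sum, Int.alternating_sum_range_choose]
      rcases eq_or_ne m 0 with rfl | hm
      · simp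
      · rw [if_neg hm, if_neg (by omega)]
        simp
  have hP : ∀ (j : ℕ) (w : K), w ∈ Module.End.eigenspace inertia (j : ℚ) → ∀ k, P k w = if j = k then w else 0 := by
    intro j w hw k
    have h1 : ∀ r, inertiaR r w = ((Nat.factorial r * Nat.choose j r : ℕ) : ℚ) • w := fun r => by
      rw [Desc19b.InertiaOps.inertiaR_apply_eigen r hw, Desc19b.InertiaOps.eval_descPochhammer_natCast]
    show ∑ᶠ r : ℕ, coef k r • inertiaR r w = _
    rw [finsum_eq_finsetSum_of_support_subset (s := Finset.range (j + 1)) _ fun r hr => by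
      by_contra h
      simp only [Finset.coe_range, Set.mem_Iio, not_lt] at h
      exact hr (by simp [h1, Nat.choose_eq_zero_of_lt (show j < r by omega)])]
    simp only [h1, smul_smul]
    rw [← Finset.sum_smul, alt]
    split <;> simp
  have hadd : ∀ (k : ℕ) (x y : K), P k (x + y) = P k x + P k y := fun k x y => by
    show ∑ᶠ r : ℕ, coef k r • inertiaR r (x + y) = (∑ᶠ r : ℕ, coef k r • inertiaR r x) + ∑ᶠ r : ℕ, coef k r • inertiaR r y
    simp only [map_add, smul_add]
    exact finsum_add_distrib (fin k x) (fin k y)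
  suffices h : (∀ k : ℕ, P k v ∈ Module.End.eigenspace inertia (k : ℚ)) ∧
      Function.HasFiniteSupport (fun k : ℕ => P k v) ∧ (∑ᶠ k : ℕ, P k v) = v from ⟨h.1, h.2.2⟩
  have hv : v ∈ ⨆ n : ℕ, Module.End.eigenspace inertia (n : ℚ) := by
    rw [Desc19b.InertiaOps.iSup_eigenspace_eq_top]; trivial
  refine Submodule.iSup_induction (motive := fun w => (∀ k : ℕ, P k w ∈ Module.End.eigenspace inertia (k : ℚ)) ∧
    Function.HasFiniteSupport (fun k : ℕ => P k w) ∧ (∑ᶠ k : ℕ, P k w) = w) _ hv (fun j w hw => ?_) ?_ ?_
  · refine ⟨fun k => ?_, (Set.finite_singleton j).subset fun k hk => ?_, ?_⟩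
    · rw [hP j w hw]
      split
      · subst_vars; exact hw
      · exact Submodule.zero_mem _
    · by_contra h
      exact hk (by simp [hP j w hw, Ne.symm h])
    · rw [finsum_congr (hP j w hw), finsum_eq_single _ j fun k hk => if_neg hk.symm, if_pos rfl]
  · have h0 : ∀ k, P k 0 = 0 := fun k => by simp [P]
    simp [h0, Function.HasFiniteSupport]
  · intro x y hx hy
    refine ⟨fun k => by rw [hadd]; exact Submodule.add_mem _ (hx.1 k) (hy.1 k), ?_, ?_⟩
    · exact (hx.2.1.union hy.2.1).subset fun k hk => by
        by_contra h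
        simp only [Set.mem_union, Function.mem_support, not_or, not_not] at h
        exact hk (by simp [hadd, h.1, h.2])
    · rw [finsum_congr fun k => hadd k x y, finsum_add_distrib hx.2.1 hy.2.1, hx.2.2, hy.2.2]

end Groth.Agent.S18025
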