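import Groth.Statements.S18026
import Groth.Agent.HenselLib.SchemeFinitePart
import Mathlib.AlgebraicGeometry.Morphisms.Etale
import Mathlib.RingTheory.Unramified.LocalStructure
import Mathlib.AlgebraicGeometry.Morphisms.UniversallyOpen

set_option autoImplicit false
universe u
open Hensel

namespace Groth.Agent.S18026

open AlgebraicGeometry CategoryTheory in
/-- Let `A` be a henselian discrete valuation ring and `f : T ⟶ Spec A` an étale surjective morphism of
schemes. Then some open subscheme `U` of `T` is finite over `Spec A` and still maps onto it; in
particular `U → Spec A` is a finite étale cover sitting inside `T` as an open subscheme (étaleness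
of the restriction is automatic, and surjectivity records that `U` meets the closed fibre). (The
published statement asks for an open component of `T` finite étale over `Spec A`; when `T` is not
separated — two copies of `Spec A` glued along the generic point — no open and closed subset of `T`
is finite over `Spec A`, while the published proof constructs an open subscheme, the spectrum of the
local ring of `T` at a point of the closed fibre; so this row asks only for an open subscheme.) -/
theorem result
    (A : Type u) [CommRing A] [IsDomain A] [IsDiscreteValuationRing A] [HenselianLocalRing A]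
    (T : Scheme.{u}) (f : T ⟶ Spec (CommRingCat.of A)) [Etale f] [Surjective f] :
    ∃ U : T.Opens, IsFinite (U.ι ≫ f) ∧ Surjective (U.ι ≫ f) := by
  haveI : LocallyQuasiFinite f := ⟨fun {U} hU {V} hV e => by
    have h := HasRingHomProperty.appLE @Etale f ‹_› ⟨U, hU⟩ ⟨V, hV⟩ e
    algebraize [(f.appLE U V e).hom]
    exact inferInstanceAs (Algebra.QuasiFinite _ Γ(T, V))⟩
  obtain ⟨x, hx⟩ := f.surjective (IsLocalRing.closedPoint A)
  obtain ⟨U₀, hU₀, hxU₀, -⟩ := exists_isAffineOpen_mem_and_subset (x := x) (U := ⊤) trivial
  obtain ⟨V, -, hxV, hV⟩ := HenselLib.SchemeFinite.exists_finite_open f U₀ hU₀ x hxU₀ hx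
  haveI := hV
  refine ⟨V, hV, ⟨fun y => ?_⟩⟩
  have ho : IsOpen (Set.range (V.ι ≫ f)) := (V.ι ≫ f).isOpenMap.isOpen_range
  exact (IsLocalRing.specializes_closedPoint y).mem_open ho
    ⟨⟨x, hxV⟩, (Scheme.Hom.comp_apply _ _ _).trans hx⟩

end Groth.Agent.S18026
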