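import Groth.Statements.S18040
import Mathlib
import Groth.Prelude
import Groth.Agent.CAlgH3.TorBridge

set_option linter.all false

set_option autoImplicit false
universe u
open AdjLin

universe v

open CategoryTheory

namespace Groth.Agent.S18040

section
theorem exists_annihilator_ne_zero {k : Type u} [Field k] [Infinite k] {ι : Type v} [Fintype ι] [DecidableEq ι] (W : Submodule k (ι → k))
    (hW : ∀ i, Pi.single i (1 : k) ∉ W) : ∃ l : ι → k, (∀ i, l i ≠ 0) ∧ ∀ w ∈ W, ∑ i, l i * w i = 0 := by
  choose f hf using fun i => Submodule.exists_le_ker_of_notMem (hW i)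
  let P : MvPolynomial ι k := ∏ i, ∑ j, MvPolynomial.C (f j (Pi.single i 1)) * MvPolynomial.X j
  have hP : P ≠ 0 := by
    refine Finset.prod_ne_zero_iff.2 fun i _ h0 => (hf i).1 ?_
    have := congrArg (MvPolynomial.eval (Pi.single i (1 : k) : ι → k)) h0
    simpa [Pi.single_apply] using this
  obtain ⟨c, hc⟩ : ∃ c, MvPolynomial.eval c P ≠ 0 := by
    by_contra hall
    push Not at hall
    exact hP (MvPolynomial.funext fun c => by rw [hall, map_zero])
  let F : (ι → k) →ₗ[k] k := ∑ j, c j • f j
  refine ⟨fun i => F (Pi.single i 1), fun i => ?_, fun w hw => ?_⟩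
  · simp only [P, map_prod, Finset.prod_ne_zero_iff] at hc
    have := hc i (Finset.mem_univ i)
    simpa [F, mul_comm] using this
  · have h0 : F w = 0 := by
      simp only [F, LinearMap.sum_apply, LinearMap.smul_apply]
      exact Finset.sum_eq_zero fun j _ => by rw [LinearMap.mem_ker.1 ((hf j).2 hw), smul_zero]
    rw [← h0]
    conv_rhs => rw [pi_eq_sum_univ' w, map_sum]
    simp [mul_comm]

theorem cb_dim {k : Type u} [Field k] [Infinite k] {ι : Type v} [Fintype ι] [DecidableEq ι] (A B W : Submodule k (ι → k))
    (hW : ∀ i, Pi.single i (1 : k) ∉ W) (hAB : ∀ a ∈ A, ∀ b ∈ B, a * b ∈ W) :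
    Module.finrank k A + Module.finrank k B ≤ Fintype.card ι := by
  obtain ⟨l, hl, hlW⟩ := exists_annihilator_ne_zero W hW
  let Ψ : (ι → k) →ₗ[k] Module.Dual k (ι → k) :=
    LinearMap.mk₂ k (fun b a => ∑ i, l i * (a i * b i))
      (fun b b' a => by simp [mul_add, Finset.sum_add_distrib])
      (fun c b a => by simp [Finset.mul_sum]; exact Finset.sum_congr rfl fun i _ => by ring)
      (fun b a a' => by simp [mul_add, add_mul, Finset.sum_add_distrib])
      (fun c b a => by simp [Finset.mul_sum]; exact Finset.sum_congr rfl fun i _ => by ring)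
  have hΨ : Function.Injective Ψ := (injective_iff_map_eq_zero Ψ).2 fun b hb => by
    funext i
    have := LinearMap.congr_fun hb (Pi.single i 1)
    simpa [Ψ, Pi.single_apply, hl i] using this
  have hle : B.map Ψ ≤ A.dualAnnihilator := by
    rintro _ ⟨b, hb, rfl⟩
    rw [Submodule.mem_dualAnnihilator]
    intro a ha
    exact hlW _ (hAB a ha b hb)
  have h1 := Submodule.finrank_mono hle
  rw [← (Submodule.equivMapOfInjective Ψ hΨ B).finrank_eq] at h1
  have h2 := Subspace.finrank_add_finrank_dualAnnihilator_eq A
  rw [Module.finrank_fintype_fun_eq_card] at h2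
  omega
end

/-- Let k be an algebraically closed field of characteristic zero and Z a finite set of points of
projective 3-space over k, realised as points of the projectivization of k⁴, a homogeneous form in
four variables being evaluated at the chosen representative of a point (its vanishing does not
depend on the choice). Suppose Z has the Cayley–Bacharach property in degree n: every form of degree
n vanishing at all points of Z but one vanishes at that point as well. Then for every m ≤ n, either
there is a nonzero form of degree n − m vanishing at every point of Z, or the rank of the evaluation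
map from forms of degree m to functions on Z is at most the number of points of Z minus the
dimension of the space of forms of degree n − m. -/
theorem result (k : Type u) [Field k] [IsAlgClosed k] [CharZero k]
    (Z : Finset (Projectivization k (Fin 4 → k))) (n : ℕ)
    (hCB : (∀ z ∈ Z, ∀ p : MvPolynomial (Fin 4) k, p.IsHomogeneous n →
      (∀ z' ∈ Z, z' ≠ z → MvPolynomial.eval z'.rep p = 0) → MvPolynomial.eval z.rep p = 0))
    (m : ℕ) (hm : m ≤ n) :
    (∃ s : MvPolynomial (Fin 4) k, s.IsHomogeneous (n - m) ∧ s ≠ 0 ∧ ∀ z ∈ Z, MvPolynomial.eval z.rep s = 0) ∨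
      Module.finrank k (LinearMap.range
          ((LinearMap.pi fun z : ↥Z => (MvPolynomial.aeval (R := k) z.1.rep).toLinearMap) ∘ₗ
            (MvPolynomial.homogeneousSubmodule (Fin 4) k m).subtype)) +
        Module.finrank k ↥(MvPolynomial.homogeneousSubmodule (Fin 4) k (n - m)) ≤ Z.card := by
  classical
  refine or_iff_not_imp_left.2 fun hno => ?_
  push Not at hno
  let ev : ∀ d : ℕ, MvPolynomial.homogeneousSubmodule (Fin 4) k d →ₗ[k] (↥Z → k) := fun d =>
    (LinearMap.pi fun z : ↥Z => (MvPolynomial.aeval (R := k) z.1.rep).toLinearMap) ∘ₗ (MvPolynomial.homogeneousSubmodule (Fin 4) k d).subtype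
  have hev : ∀ d p z, ev d p z = MvPolynomial.eval z.1.rep (p : MvPolynomial (Fin 4) k) := fun d p z => by
    show MvPolynomial.aeval (R := k) z.1.rep (p : MvPolynomial (Fin 4) k) = _
    rw [MvPolynomial.aeval_eq_eval]
  have hinj : Function.Injective (ev (n - m)) := (injective_iff_map_eq_zero _).2 fun p hp => by
    by_contra hp0
    obtain ⟨z, hz, hne⟩ := hno p p.2 (fun h => hp0 (Subtype.ext h))
    exact hne ((hev _ p ⟨z, hz⟩).symm.trans (congrFun hp _))
  have hW : ∀ i : ↥Z, Pi.single i (1 : k) ∉ LinearMap.range (ev n) := by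
    rintro i ⟨p, hp⟩
    have h1 : MvPolynomial.eval i.1.rep (p : MvPolynomial (Fin 4) k) = 1 := by
      rw [← hev, hp, Pi.single_eq_same]
    rw [hCB i.1 i.2 p p.2 (fun z' hz' hne => by
      have h2 := (hev n p ⟨z', hz'⟩).symm
      rw [hp, Pi.single_eq_of_ne (fun h => hne (congrArg Subtype.val h))] at h2
      exact h2)] at h1
    exact zero_ne_one h1
  have h := cb_dim (LinearMap.range (ev m)) (LinearMap.range (ev (n - m))) (LinearMap.range (ev n)) hW (by
    rintro _ ⟨a, rfl⟩ _ ⟨b, rfl⟩
    refine ⟨⟨(a : MvPolynomial (Fin 4) k) * b, ?_⟩, funext fun z => ?_⟩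
    · have hh := (a.2 : MvPolynomial.IsHomogeneous _ m).mul (b.2 : MvPolynomial.IsHomogeneous _ (n - m))
      rw [Nat.add_sub_cancel' hm] at hh
      exact hh
    · rw [Pi.mul_apply, hev, hev, hev, map_mul])
  rw [LinearMap.finrank_range_of_inj hinj, Fintype.card_coe] at h
  exact h

end Groth.Agent.S18040
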