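import Groth.Statements.S18043
import Groth.Agent.Mod22.CB.LciMain
import Groth.Agent.Surf15.RRCor
import Groth.Agent.CycLib28.PB.Ops.TensorFree
import Groth.Agent.AbSchLib.SmoothReduced
import Groth.Agent.PicLib.PicMonoid
-- import your own Groth.Agent.* helpers here

set_option autoImplicit false
universe u
open CategoryTheory CategoryTheory.Limits AlgebraicGeometry
open AdjLin
open TopologicalSpace
open Groth.Agent.Coherent Groth.Agent.PicLib Groth.Agent.AmpleLib Groth.Agent.EulerLib
set_option backward.isDefEq.respectTransparency.types false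
set_option linter.style.haveILetI false
set_option maxHeartbeats 1000000

namespace Groth.Agent.S18043

/-- Let k be an algebraically closed field of characteristic zero and X a smooth projective surface over
k (an irreducible proper smooth k-scheme of dimension 2 with an ample invertible O_X-module), ω a
second exterior power of Ω_{X/k}, U and L invertible O_X-modules with U⁻¹ a tensor inverse of U, and
P ⊂ X a zero-dimensional local complete intersection subscheme, given by a quasi-coherent ideal I_P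
with finite support which, on some affine open neighbourhood of every point of X, is generated by
two sections. Then the following are equivalent: (a) there are a locally free O_X-module E of rank 2
and morphisms U → E → L ⊗ I_P forming a short exact sequence 0 → U → E → L ⊗ I_P → 0; (b) for every
quasi-coherent ideal I' covering I_P in the order of ideal sheaves (equivalently, every closed
subscheme P' ⊂ P of colength one) and every global section σ of (L ⊗ U⁻¹) ⊗ ω whose zero scheme
contains P' (the ideal of the zero scheme is ≤ I'), the zero scheme of σ contains P. -/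
theorem result (k : Type u) [Field k] [IsAlgClosed k] [CharZero k]
    (X : Scheme.{u}) [X.Over (Spec (CommRingCat.of k))] [IsProper (X ↘ (Spec (CommRingCat.of k)))]
    [Smooth (X ↘ (Spec (CommRingCat.of k)))] [IrreducibleSpace X] (hdim : topologicalKrullDim X = 2)
    (H : X.Modules) (hH : CohB1.IsAmple H)
    (ω : X.Modules) (hω : ExtPow.IsExtPow 2 (Omega.sheaf (X ↘ (Spec (CommRingCat.of k)))) ω)
    (U Uinv L : X.Modules) (hU : PicF.IsInvertible U) (hUinv : ClSub.IsInverseOf Uinv U)
    (hL : PicF.IsInvertible L)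
    (IP : X.IdealSheafData) (hfin : (IP.support : Set X).Finite)
    (hlci : ∀ x : X, ∃ V : X.affineOpens, x ∈ (V : X.Opens) ∧
      ∃ a b : Γ(X, V), IP.ideal V = Ideal.span {a, b}) :
    (∃ (E : X.Modules) (i : U ⟶ E) (p : E ⟶ CohB1.tensorMod L (ClSub.idealMod IP)) (w : i ≫ p = 0),
        FlatMod.IsFinLocFreeOfRank 2 E ∧ (ShortComplex.mk i p w).ShortExact) ↔
      (∀ I' : X.IdealSheafData, IP ⋖ I' →
        ∀ σ : Coh.structureModule X ⟶ CohB1.tensorMod (CohB1.tensorMod L Uinv) ω,
          PicF2.zeroScheme (CohB1.tensorMod (CohB1.tensorMod L Uinv) ω) σ ≤ I' →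
            PicF2.zeroScheme (CohB1.tensorMod (CohB1.tensorMod L Uinv) ω) σ ≤ IP) := by
  haveI : IsReduced X := AbSchLib.isReduced_of_smooth (X ↘ Spec (CommRingCat.of k))
  haveI : IsIntegral X := isIntegral_of_irreducibleSpace_of_isReduced X
  haveI := isNoetherian_of_proper (X := X) k
  have hX : topologicalKrullDim X = ((2 : ℕ) : WithBot ℕ∞) := hdim
  have hWi : PicF.IsInvertible ω := Surf15.isInvertible_canonical k hX hω
  obtain ⟨eU⟩ := hUinv
  have hUi : PicF.IsInvertible Uinv :=
    PicM.isInvertible_of_tensor hU (glocus_isInvertible_of_iso (tensorComm U Uinv ≪≫ eU).symm isInvertible_structureModule)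
  have hNi : PicF.IsInvertible (CohB1.tensorMod Uinv ω) := isInvertible_tensorMod hUi hWi
  obtain ⟨M, ⟨eM⟩⟩ := VarietyLib.exists_isInverseOf hNi
  have hMi : PicF.IsInvertible M :=
    PicM.isInvertible_of_tensor hNi (glocus_isInvertible_of_iso eM.symm isInvertible_structureModule)
  let A := CohB1.tensorMod (CohB1.tensorMod L Uinv) ω
  have hA : PicF.IsInvertible A := isInvertible_tensorMod (isInvertible_tensorMod hL hUi) hWi
  let I := ClSub.idealMod IP
  obtain ⟨a₀⟩ := EulerLib.exists_assocIso' U hUi hWi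
  let eW : CohB1.tensorMod U (CohB1.tensorMod Uinv ω) ≅ ω :=
    a₀.symm ≪≫ AmpleLib.tensorIso (tensorComm U Uinv ≪≫ eU) (Iso.refl ω) ≪≫ unitTensorIso ω
  obtain ⟨a₁⟩ := EulerLib.exists_assocIso' L hUi hWi
  obtain ⟨a₂⟩ := EulerLib.exists_assocIso' I hL hNi
  let e₁ : CohB1.tensorMod (CohB1.tensorMod L I) (CohB1.tensorMod Uinv ω) ≅ CohB1.tensorMod A I :=
    AmpleLib.tensorIso (tensorComm L I) (Iso.refl _) ≪≫ a₂ ≪≫ AmpleLib.tensorIso (Iso.refl I) a₁.symm ≪≫
      tensorComm I A
  obtain ⟨a₃⟩ := EulerLib.exists_assocIso' U hNi hMi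
  let eU' : CohB1.tensorMod ω M ≅ U :=
    AmpleLib.tensorIso eW.symm (Iso.refl M) ≪≫ a₃ ≪≫ AmpleLib.tensorIso (Iso.refl U) eM ≪≫ tensorComm _ _ ≪≫
      unitTensorIso U
  obtain ⟨a₄⟩ := EulerLib.exists_assocIso' (CohB1.tensorMod L I) hNi hMi
  let e₂ : CohB1.tensorMod (CohB1.tensorMod A I) M ≅ CohB1.tensorMod L I :=
    AmpleLib.tensorIso e₁.symm (Iso.refl M) ≪≫ a₄ ≪≫ AmpleLib.tensorIso (Iso.refl _) eM ≪≫ tensorComm _ _ ≪≫
      unitTensorIso _
  refine Iff.trans ?_ (Mod22.CB.exists_extension_iff_lci k hX hω hWi hA IP hfin hlci)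
  constructor
  · rintro ⟨E, i, p, w, hE, hS⟩
    have h1 := EulerLib.twistSeq_shortExact hNi hS
    let T := EulerLib.twistSeq (ShortComplex.mk i p w) (CohB1.tensorMod Uinv ω)
    refine ⟨CohB1.tensorMod E (CohB1.tensorMod Uinv ω), eW.inv ≫ T.f, T.g ≫ e₁.hom, ?_, ?_, ?_⟩
    · exact (Category.assoc _ _ _).trans ((eW.inv ≫= ((Category.assoc _ _ _).symm.trans
        ((T.zero =≫ e₁.hom).trans zero_comp))).trans comp_zero)
    · exact CycLib28.PB.Ops.isFinLocFreeOfRank_tensor hE (PicLib.isFinLocFreeOfRank_one hNi)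
    · exact ShortComplex.shortExact_of_iso
        (ShortComplex.isoMk (S₁ := T) eW (Iso.refl _) e₁
          (by
            show eW.hom ≫ eW.inv ≫ T.f = T.f ≫ 𝟙 _
            rw [Iso.hom_inv_id_assoc, Category.comp_id])
          (by
            show 𝟙 _ ≫ T.g ≫ e₁.hom = T.g ≫ e₁.hom
            rw [Category.id_comp])) h1
  · rintro ⟨V, u, v, w, hV, hS⟩
    have h1 := EulerLib.twistSeq_shortExact hMi hS
    let T := EulerLib.twistSeq (ShortComplex.mk u v w) M
    refine ⟨CohB1.tensorMod V M, eU'.inv ≫ T.f, T.g ≫ e₂.hom, ?_, ?_, ?_⟩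
    · exact (Category.assoc _ _ _).trans ((eU'.inv ≫= ((Category.assoc _ _ _).symm.trans
        ((T.zero =≫ e₂.hom).trans zero_comp))).trans comp_zero)
    · exact CycLib28.PB.Ops.isFinLocFreeOfRank_tensor hV (PicLib.isFinLocFreeOfRank_one hMi)
    · exact ShortComplex.shortExact_of_iso
        (ShortComplex.isoMk (S₁ := T) eU' (Iso.refl _) e₂
          (by
            show eU'.hom ≫ eU'.inv ≫ T.f = T.f ≫ 𝟙 _
            rw [Iso.hom_inv_id_assoc, Category.comp_id])
          (by
            show 𝟙 _ ≫ T.g ≫ e₂.hom = T.g ≫ e₂.hom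
            rw [Category.id_comp])) h1

end Groth.Agent.S18043
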