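import Groth.Statements.S18046
import Groth.Agent.Mod22.CB.Pairing
import Groth.Agent.SerreDual.ProjDualAll
import Groth.Agent.AbSchLib.SmoothReduced
import Groth.Agent.AmpleLib.Relative
import Groth.Agent.EulerLib.FGABridge
-- import your own Groth.Agent.* helpers here

set_option autoImplicit false
universe u
open CategoryTheory CategoryTheory.Limits AlgebraicGeometry
open AdjLin
open Groth.Agent

namespace Groth.Agent.S18046

/-- Let k be an algebraically closed field of characteristic zero and X ⊂ P³_k a smooth surface of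
degree d, that is, a closed immersion ι : X → P³_k of an irreducible smooth k-scheme of dimension 2
whose hyperplane class H = ι*O(1) has self-intersection (H·H) = d (computed as an alternating sum of
Euler characteristics from two copies of ι*O(−1)); write O_X(j) = ι*O_{P³}(j) and h⁰(F) for the
k-dimension of H⁰(X, F). Let Z ⊂ X be a zero-dimensional local complete intersection subscheme (a
quasi-coherent ideal I_Z with finite support, generated by two sections on an affine neighbourhood
of every point) with the Cayley–Bacharach property for O_X(n): for every quasi-coherent ideal I'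
covering I_Z in the order of ideal sheaves, every global section of O_X(n) whose zero scheme has
ideal ≤ I' has zero scheme with ideal ≤ I_Z. For an integer j put r_Z(j) = h⁰(O_X(j)) − h⁰(O_X(j) ⊗
I_Z), the rank of the evaluation of forms of degree j on Z. Then for every integer m ≤ n, r_Z(m) +
r_Z(n − m) ≤ χ(O_X/I_Z) + h⁰(O_X(d − 4 − m)), where χ(O_X/I_Z), the Euler characteristic of the
structure sheaf of Z pushed to X, is the length of Z. (The published lemma does not assume that Z is
a local complete intersection; its proof constructs a rank-2 vector bundle from Z by the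
Cayley–Bacharach criterion, which needs this, so it is assumed here.) -/
theorem result
    (k : Type u) [Field k] [IsAlgClosed k] [CharZero k]
    (X : Scheme.{u}) [X.Over (Spec (CommRingCat.of k))] [Smooth (X ↘ (Spec (CommRingCat.of k)))]
    [IrreducibleSpace X] (hdim : topologicalKrullDim X = 2)
    (ι : X ⟶ CohB1.ProjSpace 3 k) [IsClosedImmersion ι]
    (hι : ι ≫ CohB1.ProjSpace.toSpec 3 k = X ↘ (Spec (CommRingCat.of k)))
    (d : ℤ) (hd : FGA.intNum k X 2 ![((Scheme.Modules.pullback ι).obj (Twist.twistProjSpace 3 k (-1))), ((Scheme.Modules.pullback ι).obj (Twist.twistProjSpace 3 k (-1)))] (Coh.structureModule X) = d)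
    (IZ : X.IdealSheafData) (hfin : (IZ.support : Set X).Finite)
    (hlci : ∀ x : X, ∃ V : X.affineOpens, x ∈ (V : X.Opens) ∧
      ∃ a b : Γ(X, V), IZ.ideal V = Ideal.span {a, b})
    (n m : ℤ) (hm : m ≤ n)
    (hCB : ∀ I' : X.IdealSheafData, IZ ⋖ I' →
      ∀ σ : Coh.structureModule X ⟶ ((Scheme.Modules.pullback ι).obj (Twist.twistProjSpace 3 k (n))),
        PicF2.zeroScheme ((Scheme.Modules.pullback ι).obj (Twist.twistProjSpace 3 k (n))) σ ≤ I' → PicF2.zeroScheme ((Scheme.Modules.pullback ι).obj (Twist.twistProjSpace 3 k (n))) σ ≤ IZ) :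
    ((Module.finrank k (Coh.HH X ((Scheme.Modules.pullback ι).obj (Twist.twistProjSpace 3 k (m))) 0) : ℤ) - (Module.finrank k (Coh.HH X (CohB1.tensorMod ((Scheme.Modules.pullback ι).obj (Twist.twistProjSpace 3 k (m))) (ClSub.idealMod IZ)) 0) : ℤ)) +
        ((Module.finrank k (Coh.HH X ((Scheme.Modules.pullback ι).obj (Twist.twistProjSpace 3 k (n - m))) 0) : ℤ) - (Module.finrank k (Coh.HH X (CohB1.tensorMod ((Scheme.Modules.pullback ι).obj (Twist.twistProjSpace 3 k (n - m))) (ClSub.idealMod IZ)) 0) : ℤ)) ≤
      FGA.eulerCharLE k X (ClSub.quotMod IZ) 2 + (Module.finrank k (Coh.HH X ((Scheme.Modules.pullback ι).obj (Twist.twistProjSpace 3 k (d - 4 - m))) 0) : ℤ) := by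
  haveI : IsProper (X ↘ Spec (CommRingCat.of k)) := (SerreDual.isProper_and_ample_of_closedImmersion ι hι).1
  haveI : IsReduced X := AbSchLib.isReduced_of_smooth (X ↘ Spec (CommRingCat.of k))
  haveI : IsIntegral X := isIntegral_of_irreducibleSpace_of_isReduced X
  have hinv : ∀ i : ℤ, PicF.IsInvertible ((Scheme.Modules.pullback ι).obj (Twist.twistProjSpace 3 k i)) := fun i =>
    PicLoc.isInvertible_pullback _ (SerreDual.isInvertible_twist 3 k i)
  obtain ⟨e₀⟩ := SerreDual.nonempty_twist_tensor (n := 3) (k := k) (show m + (n - m) = n by ring)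
  obtain ⟨e₁⟩ := AmpleLib.exists_pullTensorIso ι (SerreDual.isInvertible_twist 3 k m)
    (SerreDual.isInvertible_twist 3 k (n - m))
  have key := Mod22.CB.rank_add_rank_le k (by simpa using hdim) IZ hfin hlci (hinv m) (hinv (n - m)) (hinv n)
    (e₁.symm ≪≫ (Scheme.Modules.pullback ι).mapIso e₀) hCB
  haveI := EulerLib.isNoetherian_of_proper (X := X) k
  rw [EulerLib.eulerCharLE_eq k _ (CurveRR24.isCoh_quotMod IZ).1 (d := 2) hdim.le]
  omega

end Groth.Agent.S18046
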