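import Groth.Statements.S18049
import Mathlib.Tactic

set_option autoImplicit false
open STCI

namespace Groth.Agent.S18049

/-- For natural numbers 0 < k < N such that k does not divide N, ⌊N/k⌋ ≤ (N - k)/gcd(k, N); stated here
in the equivalent cleared form ⌊N/k⌋ · gcd(k, N) ≤ N - k. -/
theorem result (k N : ℕ) (hk : 0 < k) (hkN : k < N) (hndvd : ¬ k ∣ N) :
    N / k * Nat.gcd k N ≤ N - k := by
  have hg : 0 < Nat.gcd k N := Nat.gcd_pos_of_pos_left _ hk
  obtain ⟨k', hk'⟩ := Nat.gcd_dvd_left k N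
  obtain ⟨N', hN'⟩ := Nat.gcd_dvd_right k N
  generalize hgd : Nat.gcd k N = g at *
  subst hk' hN'
  have h2 : 2 ≤ k' := by
    rcases Nat.lt_or_ge k' 2 with h | h
    · interval_cases k'
      · simp at hk
      · exact absurd (by simp) hndvd
    · exact h
  have hlt : k' < N' := Nat.lt_of_mul_lt_mul_left hkN
  rw [Nat.mul_div_mul_left _ _ hg, ← Nat.mul_sub, mul_comm]
  refine Nat.mul_le_mul_left g ?_
  have hq : 1 ≤ N' / k' := (Nat.one_le_div_iff (by omega)).2 hlt.le
  have hm : N' % k' ≠ 0 := by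
    intro h
    exact hndvd (Nat.mul_dvd_mul_left g (Nat.dvd_of_mod_eq_zero h))
  have hd := Nat.mod_add_div N' k'
  have : N' / k' + k' ≤ k' * (N' / k') + 1 := by nlinarith
  omega

end Groth.Agent.S18049
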