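import Groth.Statements.S18051
import Groth.Agent.CAlgH3.STCIEuclid
import Mathlib

set_option autoImplicit false
open STCI

namespace Groth.Agent.S18051

open W4c5stcicurvesp3 in
/-- Let k ≤ N/2 be positive integers and let r_i = rem_i(N, k), d_i = div_i(N, k) be the iterated
Euclidean remainders and quotients of (N, k) (r_0 = k, r_1 = N mod k, r_2 = r_0 mod r_1, d_1 =
⌊N/k⌋, d_2 = ⌊r_0/r_1⌋). If the least positive t with r_t = 0 satisfies t ≥ 3, i.e. r_1 ≠ 0 and r_2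
≠ 0, then (r_0 - r_1)/d_1 + (r_1 - r_2)/(d_1 + d_2) + r_2/(d_1 + d_2 + 1) ≤ k²/N (in ℚ). -/
theorem result (k N : ℕ) (hk : 0 < k) (hkN : 2 * k ≤ N)
    (h1 : irem N k 1 ≠ 0) (h2 : irem N k 2 ≠ 0) :
    ((irem N k 0 : ℚ) - irem N k 1) / (idiv N k 1)
      + ((irem N k 1 : ℚ) - irem N k 2) / ((idiv N k 1 : ℚ) + idiv N k 2)
      + (irem N k 2 : ℚ) / ((idiv N k 1 : ℚ) + idiv N k 2 + 1)
      ≤ (k : ℚ) ^ 2 / N := by
  have hN : N = k * (N / k) + irem N k 1 := (Nat.div_add_mod N k).symm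
  have e1 : irem N k 0 = k := by simp [irem]
  have hr : irem N k 1 = N % k := by simp [irem]
  have e2 : irem N k 2 = k % irem N k 1 := by
    rw [hr] at h1
    simp [irem, h1]
  have d1 : idiv N k 1 = N / k := by simp [idiv]
  have d2 : idiv N k 2 = k / irem N k 1 := by
    rw [hr] at h1
    simp [idiv, irem, h1]
  have hk2 : k = irem N k 1 * idiv N k 2 + irem N k 2 := by
    rw [d2, e2]; exact (Nat.div_add_mod _ _).symm
  rw [e1]
  refine Groth.Agent.CAlgH3.STCIEuclid.three_term ?_ ?_ ?_ ?_ ?_ ?_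
  · rw [d1]
    exact_mod_cast (Nat.le_div_iff_mul_le hk).mpr hkN
  · rw [d2]
    exact_mod_cast Nat.div_pos (by rw [hr]; exact (Nat.mod_lt _ hk).le) (Nat.pos_of_ne_zero h1)
  · exact_mod_cast Nat.pos_of_ne_zero h2
  · rw [e2]
    exact_mod_cast Nat.mod_lt _ (Nat.pos_of_ne_zero h1)
  · rw [mul_comm]; exact_mod_cast hk2
  · rw [mul_comm, d1]; exact_mod_cast hN

end Groth.Agent.S18051
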