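import Groth.Statements.S18053
import Groth.Agent.CAlgH3.STCIEuclid
import Mathlib

set_option autoImplicit false
open STCI

namespace Groth.Agent.S18053

/-- Let (p_k)_{k ≥ 1} be a sequence of nonnegative integers and n a nonnegative integer such that (i)
p_1 ≤ 9 - (2/5)n, (ii) p_1 ≥ p_2 ≥ p_3 ≥ ⋯, (iii) Σ_k p_k ≤ 19 - n, and (iv) n/4 + Σ_{k ≥ 1}
p_k/(k(k+1)) ≥ 6. Then n = 0 and (p_k) is one of (9, 8, 2), (9, 9), (9, 9, 1) (followed by zeros).
Here the sequence is indexed from 0 (so p 0 is p_1 and the weight of p k is 1/((k+1)(k+2))), (iii)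
is stated for every partial sum, and the series in (iv) is the real sum Σ' over all k. -/
theorem result (p : ℕ → ℕ) (n : ℕ)
    (h1 : (p 0 : ℝ) ≤ 9 - (2 / 5 : ℝ) * n) (h2 : Antitone p)
    (h3 : ∀ m : ℕ, ((∑ k ∈ Finset.range m, p k : ℕ) : ℝ) ≤ 19 - (n : ℝ))
    (h4 : (6 : ℝ) ≤ (n : ℝ) / 4 + ∑' k : ℕ, (p k : ℝ) / (((k : ℝ) + 1) * ((k : ℝ) + 2))) :
    n = 0 ∧ (p = (fun k => if k = 0 then 9 else if k = 1 then 8 else if k = 2 then 2 else 0)
      ∨ p = (fun k => if k = 0 then 9 else if k = 1 then 9 else 0)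
      ∨ p = (fun k => if k = 0 then 9 else if k = 1 then 9 else if k = 2 then 1 else 0)) := by
  classical
  have hsum : ∀ m, ∑ k ∈ Finset.range m, p k + n ≤ 19 := fun m => by
    have h : ((∑ k ∈ Finset.range m, p k + n : ℕ) : ℝ) ≤ (19 : ℕ) := by
      rw [Nat.cast_add]; push_cast; have := h3 m; push_cast at this; linarith
    exact_mod_cast h
  have hzero : ∀ k, 20 ≤ k → p k = 0 := by
    intro k hk
    by_contra h
    have : ∀ j ∈ Finset.range 20, 1 ≤ p j := fun j hj => by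
      have := h2 (show j ≤ k by rw [Finset.mem_range] at hj; omega)
      omega
    have := Finset.sum_le_sum this
    simp at this
    have := hsum 20
    omega
  let w : ℕ → ℝ := fun k => (p k : ℝ) / (((k : ℝ) + 1) * ((k : ℝ) + 2))
  have ht : ∑' k, w k = ∑ k ∈ Finset.range 20, w k :=
    tsum_eq_sum fun k hk => by
      simp only [Finset.mem_range, not_lt] at hk
      simp [w, hzero k hk]
  have hb : ∀ m, ∑ k ∈ Finset.range m, w (k + 3) ≤ (∑ k ∈ Finset.range m, (p (k + 3) : ℝ)) / 20 := by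
    intro m
    rw [Finset.sum_div]
    refine Finset.sum_le_sum fun k _ => ?_
    simp only [w]
    push_cast
    apply div_le_div_of_nonneg_left (Nat.cast_nonneg _) (by norm_num)
    nlinarith [(Nat.cast_nonneg k : (0 : ℝ) ≤ k)]
  have h4' : (6 : ℝ) ≤ (n : ℝ) / 4 + p 0 / 2 + p 1 / 6 + p 2 / 12 +
      (∑ k ∈ Finset.range 17, (p (k + 3) : ℝ)) / 20 := by
    change (6 : ℝ) ≤ (n : ℝ) / 4 + ∑' k, w k at h4
    rw [ht, Finset.sum_range_succ', Finset.sum_range_succ', Finset.sum_range_succ'] at h4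
    have := hb 17
    simp only [w] at h4 this ⊢
    norm_num at h4 ⊢
    norm_num [add_assoc] at h4 this
    linarith
  have hs := hsum 20
  rw [Finset.sum_range_succ', Finset.sum_range_succ', Finset.sum_range_succ'] at hs
  simp only [Nat.reduceAdd, zero_add, add_assoc] at hs
  set S := ∑ k ∈ Finset.range 17, p (k + 3) with hS
  have hSr : (∑ k ∈ Finset.range 17, (p (k + 3) : ℝ)) = (S : ℝ) := by rw [hS, Nat.cast_sum]
  rw [hSr] at h4'
  have h4n : 360 ≤ 15 * n + 30 * p 0 + 10 * p 1 + 5 * p 2 + 3 * S := by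
    have : (360 : ℝ) ≤ 15 * n + 30 * p 0 + 10 * p 1 + 5 * p 2 + 3 * S := by linarith
    exact_mod_cast this
  have h0 : 5 * p 0 + 2 * n ≤ 45 := by
    have : (5 : ℝ) * p 0 + 2 * n ≤ 45 := by linarith
    exact_mod_cast this
  have h10 : p 1 ≤ p 0 := h2 (by omega)
  have h21 : p 2 ≤ p 1 := h2 (by omega)
  have hS' : S + p 2 + p 1 + p 0 + n ≤ 19 := by omega
  have hn : n = 0 := by omega
  subst hn
  refine ⟨rfl, ?_⟩
  have hp0 : p 0 = 9 := by omega
  have hp1 : p 1 = 8 ∨ p 1 = 9 := by omega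
  have hS0 : S = 0 := by
    rcases Nat.eq_zero_or_pos (p 2) with h | h
    · refine Finset.sum_eq_zero fun k _ => ?_
      have := h2 (show 2 ≤ k + 3 by omega)
      omega
    · omega
  have hp3 : ∀ k, 3 ≤ k → p k = 0 := by
    intro k hk
    have := h2 hk
    have h3z : p 3 = 0 := (Finset.sum_eq_zero_iff.mp hS0) 0 (by simp)
    omega
  have hp2 : (p 1 = 8 ∧ p 2 = 2) ∨ (p 1 = 9 ∧ p 2 = 0) ∨ (p 1 = 9 ∧ p 2 = 1) := by omega
  rcases hp2 with ⟨a, b⟩ | ⟨a, b⟩ | ⟨a, b⟩
  · left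
    funext k
    rcases k with _ | _ | _ | k <;> simp [hp0, a, b, hp3]
  · right; left
    funext k
    rcases k with _ | _ | _ | k <;> simp [hp0, a, b, hp3]
  · right; right
    funext k
    rcases k with _ | _ | _ | k <;> simp [hp0, a, b, hp3]

end Groth.Agent.S18053
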