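import Groth.Statements.S18054
import Mathlib.Tactic

set_option autoImplicit false
open STCI

namespace Groth.Agent.S18054

/-- Let s, t, d, g be integers with t ≥ s ≥ 4, d ≥ 1, g ≥ 0 and d dividing st; put n = st/d and assume n
≥ 2; put r = d[n(s - 4) + t] + (2 - 2g)n and assume r ≤ (s/3)(2s² - 6s + 7) - 1. Then d ≤ g + 3.
(The bound is written cleared of the denominator 3; s(2s² - 6s + 7) is always divisible by 3, so
this is the same condition.) -/
theorem result (s t d g n : ℤ) (hs : 4 ≤ s) (hst : s ≤ t) (hd : 1 ≤ d) (hg : 0 ≤ g)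
    (hn : s * t = d * n) (hn2 : 2 ≤ n)
    (hr : 3 * (d * (n * (s - 4) + t) + (2 - 2 * g) * n) ≤ s * (2 * s ^ 2 - 6 * s + 7) - 3) :
    d ≤ g + 3 := by
  by_contra hc
  rw [not_le] at hc
  have hg' : 10 - 2 * d ≤ 2 - 2 * g := by omega
  have e1 : (10 - 2 * d) * n ≤ (2 - 2 * g) * n := mul_le_mul_of_nonneg_right hg' (by omega)
  have bnd : ∀ c : ℤ, c ^ 2 ≤ 40 * s → c * t ≤ d * t + 10 * n := by
    intro c hcs
    refine le_of_mul_le_mul_left (a := d) ?_ (by omega)
    nlinarith [mul_nonneg (show (0 : ℤ) ≤ t by omega) (sq_nonneg (2 * d - c)), hn,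
      mul_le_mul_of_nonneg_left hcs (show (0 : ℤ) ≤ t by omega)]
  have main : 3 * (s * t * (s - 6) + d * t + 10 * n) ≤ s * (2 * s ^ 2 - 6 * s + 7) - 3 := by
    nlinarith [e1, hr, hn]
  rcases (by omega : s = 4 ∨ s = 5 ∨ s = 6 ∨ 7 ≤ s) with rfl | rfl | rfl | h7
  · have := bnd 12 (by norm_num)
    have ht : t = 4 := by nlinarith
    subst ht
    have hd8 : d ≤ 8 := by nlinarith
    have hn4 : n ≤ 4 := by nlinarith
    interval_cases d <;> interval_cases n <;> omega
  · have := bnd 14 (by norm_num)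
    nlinarith
  · have := bnd 15 (by norm_num)
    nlinarith
  · have := bnd 16 (by omega)
    have h16 : 0 ≤ s * (s - 6) + 16 := by nlinarith
    nlinarith [mul_nonneg h16 (sub_nonneg.2 hst), mul_nonneg (show (0 : ℤ) ≤ s by omega) (sq_nonneg (s - 6))]

end Groth.Agent.S18054
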