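import Groth.Statements.S18055
import Mathlib.Tactic

set_option autoImplicit false
open STCI

namespace Groth.Agent.S18055

/-- Let d ≥ 1, g ≥ 0 and 1 ≤ s ≤ t be integers with d dividing st, put n = st/d and r = d[n(s - 4) + t]
+ (2 - 2g)n, and assume n ≥ 2, r > 0 and (n - 1) divides r. Then s < 2d² and t < 2d⁴. This is the
statement about the degree data (d, g the degree and genus of the curve, s ≤ t the degrees of the
two surfaces) to which the published proof reduces the degree bound: there the divisibility and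
positivity express that r/(n - 1), the common value of the type numbers of the pair, is a positive
integer; the geometric hypotheses themselves are not part of this row. -/
theorem result (d g s t n : ℤ) (hd : 1 ≤ d) (hg : 0 ≤ g) (hs : 1 ≤ s) (hst : s ≤ t)
    (hn : s * t = d * n) (hn2 : 2 ≤ n)
    (hpos : 0 < d * (n * (s - 4) + t) + (2 - 2 * g) * n)
    (hdvd : (n - 1) ∣ d * (n * (s - 4) + t) + (2 - 2 * g) * n) :
    s < 2 * d ^ 2 ∧ t < 2 * d ^ 4 := by
  set K : ℤ := d * s - 4 * d + 2 - 2 * g with hK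
  have hd1 : n - 1 ∣ K + d * t := by
    have e : K + d * t = (d * (n * (s - 4) + t) + (2 - 2 * g) * n) - (n - 1) * K := by
      rw [hK]; ring
    rw [e]
    exact dvd_sub hdvd (dvd_mul_right _ _)
  have hd2 : n - 1 ∣ s * t - d := ⟨d, by rw [hn]; ring⟩
  have hd3 : n - 1 ∣ s * K + d ^ 2 := by
    have e : s * K + d ^ 2 = s * (K + d * t) - d * (s * t - d) := by ring
    rw [e]
    exact dvd_sub (hd1.mul_left _) (hd2.mul_left _)
  have hpos' : 0 < n * K + d * t := by
    have e : d * (n * (s - 4) + t) + (2 - 2 * g) * n = n * K + d * t := by rw [hK]; ring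
    rwa [e] at hpos
  have hF : 0 < K + d * t := by
    have h1 : 0 ≤ (n - 1) * (d * t) := mul_nonneg (by omega) (mul_nonneg (by omega) (by omega))
    have h2 : 0 < n * (K + d * t) := by
      have e : n * (K + d * t) = n * K + d * t + (n - 1) * (d * t) := by ring
      omega
    exact pos_of_mul_pos_right h2 (by omega)
  have hG : 0 < s * K + d ^ 2 := by
    have h1 : 0 < d * (n * K + d * t) := mul_pos (by omega) hpos'
    have h2 : 0 < t * (s * K + d ^ 2) := by
      have e : t * (s * K + d ^ 2) = d * (n * K + d * t) + K * (s * t - d * n) := by ring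
      rw [e, hn, sub_self, mul_zero, add_zero]
      exact h1
    exact pos_of_mul_pos_right h2 (by omega)
  have b1 := Int.le_of_dvd hF hd1
  have b2 := Int.le_of_dvd hG hd3
  have hKle : K ≤ d * s - 4 * d + 2 := by omega
  have key : (s - d ^ 2) * (t - d ^ 2) < d ^ 4 := by
    nlinarith [mul_le_mul_of_nonneg_left b1 (show (0 : ℤ) ≤ d by omega),
      mul_le_mul_of_nonneg_left hKle (show (0 : ℤ) ≤ d by omega), hn]
  have hs2 : s < 2 * d ^ 2 := by
    by_contra h
    have h1 : d ^ 2 ≤ s - d ^ 2 := by omega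
    have h2 : d ^ 2 ≤ t - d ^ 2 := by omega
    nlinarith [mul_le_mul h1 h2 (sq_nonneg d) (by nlinarith)]
  refine ⟨hs2, ?_⟩
  have hdd : 1 ≤ d ^ 2 := by nlinarith
  rcases le_or_gt s (d ^ 2) with hsd | hsd
  · have h3 : s * t ≤ d * (1 + d ^ 2 + s * (d * s - 4 * d + 2)) := by
      nlinarith [mul_le_mul_of_nonneg_left hKle (show (0 : ℤ) ≤ s by omega), hn, b2]
    by_contra h
    rw [not_lt] at h
    have h4 : s * (2 * d ^ 4) ≤ s * t := mul_le_mul_of_nonneg_left h (by omega)
    have h5 : d * (1 + d ^ 2) ≤ s * (d * (1 + d ^ 2)) := le_mul_of_one_le_left (by positivity) hs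
    have h6 : s * (d ^ 2 * s) ≤ s * (d ^ 2 * d ^ 2) :=
      mul_le_mul_of_nonneg_left (mul_le_mul_of_nonneg_left hsd (by positivity)) (by omega)
    have h7 : 0 < d ^ 4 - d ^ 3 + 4 * d ^ 2 - 3 * d := by nlinarith [mul_nonneg (show (0:ℤ) ≤ d ^ 3 by positivity) (sub_nonneg.2 hd)]
    nlinarith [mul_pos (show (0 : ℤ) < s by omega) h7]
  · have h1 : 1 ≤ s - d ^ 2 := by omega
    have h8 : d ^ 2 ≤ d ^ 4 := by nlinarith
    nlinarith [mul_le_mul_of_nonneg_right h1 (show (0 : ℤ) ≤ t - d ^ 2 by omega)]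

end Groth.Agent.S18055
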