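import Groth.Statements.S18057
import Groth.Agent.CAlgH3.SmoothArtinStalk
import Mathlib

set_option autoImplicit false
universe u
open STCI

namespace Groth.Agent.S18057

open AlgebraicGeometry CategoryTheory in
/-- For a morphism f : X' → X between irreducible Noetherian schemes that is flat and formally smooth,
with X defined over a field (rendered: the ring of global sections of X contains a subring that is a
field, which for nonempty X is the same as giving a morphism from X to the spectrum of a field), the
local rings of X' and X at their generic points η', η (Artinian local rings) satisfy length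
O_{X',η'} = length O_{X,η}. Formal smoothness is the infinitesimal lifting property against
square-zero thickenings of affine schemes. -/
theorem result {X' X : Scheme.{u}} (f : X' ⟶ X)
    [IrreducibleSpace ↥X'] [IrreducibleSpace ↥X] [IsNoetherian X'] [IsNoetherian X] [Flat f]
    (hf : MoreMor.IsFormallySmoothHom f) (hK : ∃ K : Subring Γ(X, ⊤), IsField K) :
    Module.length (X'.presheaf.stalk (genericPoint X')) (X'.presheaf.stalk (genericPoint X'))
      = Module.length (X.presheaf.stalk (genericPoint X)) (X.presheaf.stalk (genericPoint X)) := by
  have hfη : f.base (genericPoint X') = genericPoint X := by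
    obtain ⟨x'', h1, h2⟩ := Flat.generalizingMap f
      ((genericPoint_spec X).specializes trivial : genericPoint X ⤳ f.base (genericPoint X'))
    have h3 : x'' = genericPoint X' :=
      (((genericPoint_spec X').specializes trivial : genericPoint X' ⤳ x'').antisymm h1).eq.symm
    rw [← h3]
    exact h2
  haveI hX : IsArtinianRing (X.presheaf.stalk (genericPoint X)) :=
    Groth.Agent.CAlgH3.SmoothArtinStalk.isArtinianRing_stalk_genericPoint X
  haveI hX' : IsArtinianRing (X'.presheaf.stalk (genericPoint X')) :=
    Groth.Agent.CAlgH3.SmoothArtinStalk.isArtinianRing_stalk_genericPoint X'
  exact (Groth.Agent.CAlgH3.SmoothArtinStalk.length_stalk f hf (genericPoint X') _ hfη).symm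

end Groth.Agent.S18057
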