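import Groth.Statements.S18060
import Groth.Agent.AlgGrpLib.SpecializeUnipotent

set_option autoImplicit false
set_option backward.isDefEq.respectTransparency.types false
universe u
open CategoryTheory MonoidalCategory CartesianMonoidalCategory MonObj GrpObj AlgebraicGeometry CategoryTheory.Limits
open AlgGrp

namespace Groth.Agent.S18060

/-- Let S be a scheme and G an S-group scheme of finite presentation. For a point s of S write d_u(s)
for the largest dimension of a smooth connected unipotent closed subgroup of the geometric fibre of
G at s, unipotent meaning, for a smooth connected affine group over an algebraically closed field,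
that it contains no non-trivial subtorus. Then d_u does not decrease under specialization: for every
natural number n, if s specializes to s' (that is, s' lies in the closure of s) and d_u(s) ≥ n, then
d_u(s') ≥ n. (The published statement asserts that d_u is upper semicontinuous on S, i.e. that the
set of points s with d_u(s) ≥ n is closed; the published argument reduces to the spectrum of an
integral local ring and establishes that this set is stable under specialization, which is what is
stated here. Closedness would in addition need the set to be locally constructible, which the
argument does not address.) -/
theorem result (S : Scheme.{u}) (G : Over S) [GrpObj G]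
    [LocallyOfFinitePresentation G.hom] [QuasiCompact G.hom] [QuasiSeparated G.hom] (n : ℕ) :
    StableUnderSpecialization {s : ↥S | ∃ (U : Over (Spec (CommRingCat.of (AlgebraicClosure (S.residueField s))))) (_ : GrpObj U)
      (i : U ⟶ Red.geomFibre s G), IsMonHom i ∧ IsClosedImmersion i.left ∧ Smooth U.hom ∧ IsAffine U.left ∧
      ConnectedSpace ↥U.left ∧ Red.HasNoSubtorus (AlgebraicClosure (S.residueField s)) U ∧
      (n : WithBot ℕ∞) ≤ topologicalKrullDim ↥U.left} := by
  open Groth.Agent Groth.Agent.AlgGrpLib in
  intro s s' h hs
  obtain ⟨H, _, i, hi, hc, hsm, haff, hcon, hnt, hn⟩ := hs
  haveI := hi; haveI := hc; haveI := hsm; haveI := haff; haveI := hcon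
  haveI : LocallyOfFiniteType G.hom := inferInstance
  obtain ⟨H', _, i', hi', hc', hsm', hcon', haff', hd, hnt', -⟩ :=
    SpecializeVal.exists_special_unipotent G h H i hnt
  exact ⟨H', inferInstance, i', hi', hc', hsm', haff', hcon', hnt', hn.trans hd.ge⟩

end Groth.Agent.S18060
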