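import Groth.Statements.S18065
import Groth.Agent.AlgGrpLib.SpecializeAffine
import Groth.Agent.AlgGrpLib.SpecializeField
import Groth.Agent.CohDer1.AntiAffSmooth
import Groth.Agent.AlgGrpLib.AntiAffine
import Groth.Agent.ZeroCyc.FlatDescentNoQC

set_option autoImplicit false
set_option backward.isDefEq.respectTransparency.types false
set_option maxHeartbeats 1000000
universe u
open CategoryTheory MonoidalCategory CartesianMonoidalCategory MonObj GrpObj AlgebraicGeometry CategoryTheory.Limits
open AlgGrp

namespace Groth.Agent.S18065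

theorem exists_factor_fraction (A : Type u) [CommRing A] [IsDomain A] (K : Type u) [Field K] [Algebra A K]
    [IsFractionRing A K] (L : Type u) [Field L] (g : Spec (CommRingCat.of L) ⟶ Spec (CommRingCat.of A))
    (hg : g.base (IsLocalRing.closedPoint L) = genericPoint (Spec (CommRingCat.of A))) :
    ∃ c : Spec (CommRingCat.of L) ⟶ Spec (CommRingCat.of K),
      c ≫ Spec.map (CommRingCat.ofHom (algebraMap A K)) = g := by
  obtain ⟨f, rfl⟩ : ∃ f, Spec.map f = g := ⟨_, Spec.map_preimage g⟩
  have hinj : Function.Injective f.hom := by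
    rw [RingHom.injective_iff_ker_eq_bot]
    have h2 := congrArg PrimeSpectrum.asIdeal hg
    change Ideal.comap f.hom (IsLocalRing.maximalIdeal L) = _ at h2
    rw [IsLocalRing.maximalIdeal_eq_bot, ← RingHom.ker_eq_comap_bot] at h2
    rw [h2, genericPoint_eq_bot_of_affine]
    rfl
  refine ⟨Spec.map (CommRingCat.ofHom (IsFractionRing.lift (K := K) hinj)), ?_⟩
  rw [← Spec.map_comp, ← CommRingCat.ofHom_comp]
  congr 1
  ext a
  exact IsFractionRing.lift_algebraMap hinj a

theorem exists_factor_residue (A : Type u) [CommRing A] [IsLocalRing A] (L : Type u) [Field L]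
    (g : Spec (CommRingCat.of L) ⟶ Spec (CommRingCat.of A))
    (hg : g.base (IsLocalRing.closedPoint L) = IsLocalRing.closedPoint A) :
    ∃ c : Spec (CommRingCat.of L) ⟶ Spec (CommRingCat.of (IsLocalRing.ResidueField A)),
      c ≫ Spec.map (CommRingCat.ofHom (algebraMap A (IsLocalRing.ResidueField A))) = g := by
  obtain ⟨f, rfl⟩ : ∃ f, Spec.map f = g := ⟨_, Spec.map_preimage g⟩
  have hker : ∀ a ∈ IsLocalRing.maximalIdeal A, f.hom a = 0 := by
    intro a ha
    have h2 := congrArg PrimeSpectrum.asIdeal hg
    change Ideal.comap f.hom (IsLocalRing.maximalIdeal L) = IsLocalRing.maximalIdeal A at h2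
    rw [IsLocalRing.maximalIdeal_eq_bot, ← RingHom.ker_eq_comap_bot] at h2
    rw [← h2] at ha
    exact ha
  refine ⟨Spec.map (CommRingCat.ofHom (Ideal.Quotient.lift (IsLocalRing.maximalIdeal A) f.hom hker)), ?_⟩
  rw [← Spec.map_comp, ← CommRingCat.ofHom_comp]
  rfl

/-- Suppose A is a discrete valuation ring, and write K for its field of fractions and k for its residue
field; let G be a flat A-group scheme of finite presentation, not assumed separated. If the generic
fibre G_K is affine, then the special fibre G_k is affine. -/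
theorem result (A : Type u) [CommRing A] [IsDomain A] [IsDiscreteValuationRing A]
    (K : Type u) [Field K] [Algebra A K] [IsFractionRing A K]
    (G : Over (Spec (CommRingCat.of A))) [GrpObj G] [Flat G.hom] [LocallyOfFinitePresentation G.hom] [QuasiCompact G.hom]
    [IsAffine (Red.bc (Spec.map (CommRingCat.ofHom (algebraMap A K))) G).left] :
    IsAffine (Red.bc (Spec.map (CommRingCat.ofHom (algebraMap A (IsLocalRing.ResidueField A)))) G).left := by
  open Groth.Agent Groth.Agent.AlgGrpLib in
  open Groth.Agent.AlgGrpLib.ValClosure (genPt) in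
  let S := Spec (CommRingCat.of A)
  let s : S := genericPoint S
  let s' : S := IsLocalRing.closedPoint A
  let L := AlgebraicClosure (S.residueField s)
  let k' := AlgebraicClosure (S.residueField s')
  let gK : Spec (CommRingCat.of K) ⟶ S := Spec.map (CommRingCat.ofHom (algebraMap A K))
  let gk : Spec (CommRingCat.of (IsLocalRing.ResidueField A)) ⟶ S :=
    Spec.map (CommRingCat.ofHom (algebraMap A (IsLocalRing.ResidueField A)))
  haveI : LocallyOfFiniteType G.hom := inferInstance
  haveI : IsNoetherianRing A := inferInstance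
  haveI : IsLocallyNoetherian S := inferInstance
  haveI : IsLocallyNoetherian G.left := LocallyOfFiniteType.isLocallyNoetherian G.hom
  haveI : QuasiSeparated G.hom := inferInstance
  -- the geometric generic fibre is affine
  obtain ⟨cK, hcK⟩ := exists_factor_fraction A K L (Red.geomPt s) (by
    show (S.fromSpecResidueField s).base _ = s
    exact S.fromSpecResidueField_apply s _)
  let X := Red.geomFibre s G
  let X' := Red.geomFibre s' G
  haveI : IsAffine X.left := by
    let e : Red.bc cK (Red.bc gK G) ≅ X := (SGA3cLib.GrpBC.bcCongr gK cK _ hcK).app G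
    haveI : IsAffineHom (Red.bc gK G).hom := inferInstance
    haveI : IsAffineHom (Red.bc cK (Red.bc gK G)).hom := MorphismProperty.pullback_snd _ _ ‹IsAffineHom (Red.bc gK G).hom›
    haveI : IsAffine (Red.bc cK (Red.bc gK G)).left := isAffine_of_isAffineHom (Red.bc cK (Red.bc gK G)).hom
    exact IsAffine.of_isIso e.inv.left
  haveI : LocallyOfFiniteType X.hom := MorphismProperty.pullback_snd _ _ ‹LocallyOfFiniteType G.hom›
  haveI : QuasiCompact X.hom := MorphismProperty.pullback_snd _ _ ‹QuasiCompact G.hom›
  haveI : QuasiSeparated X.hom := MorphismProperty.pullback_snd _ _ ‹QuasiSeparated G.hom›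
  haveI : LocallyOfFiniteType X'.hom := MorphismProperty.pullback_snd _ _ ‹LocallyOfFiniteType G.hom›
  haveI : QuasiCompact X'.hom := MorphismProperty.pullback_snd _ _ ‹QuasiCompact G.hom›
  haveI : QuasiSeparated X'.hom := MorphismProperty.pullback_snd _ _ ‹QuasiSeparated G.hom›
  haveI : IsClosedImmersion (𝟙 (Red.bc (SpecializeVal.fieldMap L L) X) :
      Red.bc (SpecializeVal.fieldMap L L) X ⟶ Red.bc (SpecializeVal.fieldMap L L) X).left :=
    inferInstanceAs (IsClosedImmersion (𝟙 (Red.bc (SpecializeVal.fieldMap L L) X).left))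
  obtain ⟨H, _, i, hi, hic, hHs, hHc, hHd, -, -⟩ :=
    SpecializeVal.exists_special_field L L X (Red.bc (SpecializeVal.fieldMap L L) X) (𝟙 _)
  haveI := hi; haveI := hic; haveI := hHs; haveI := hHc
  haveI : IsAffine H.left := isAffine_of_isAffineHom i.left
  have hsp : s ⤳ s' := genericPoint_specializes _
  obtain ⟨H', _, i', hi', hc', hs', hcon', haff', hd', -, -⟩ := SpecializeVal.exists_special_affine G hsp H i
  haveI := hi'; haveI := hc'; haveI := hs'; haveI := hcon'; haveI := haff'
  haveI : IrreducibleSpace H'.left := SGA3cLib.irreducibleSpace_of_connected H'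
  haveI : QuasiCompact H'.hom := by rw [← Over.w i']; infer_instance
  have hXd : topologicalKrullDim ↥X.left ≤ topologicalKrullDim ↥(Red.bc (SpecializeVal.fieldMap L L) X).left := by
    have hid : IsIso (SpecializeVal.fieldMap L L) := by
      have : CommRingCat.ofHom (algebraMap L L) = 𝟙 _ := rfl
      rw [SpecializeVal.fieldMap, this, Spec.map_id]; infer_instance
    haveI : IsIso (pullback.fst X.hom (SpecializeVal.fieldMap L L)) := inferInstance
    exact (asIso (pullback.fst X.hom (SpecializeVal.fieldMap L L))).hom.homeomorph.isHomeomorph.topologicalKrullDim_eq.ge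
  have hdim : topologicalKrullDim ↥X'.left ≤ topologicalKrullDim ↥H'.left := by
    obtain ⟨V, _, _, _, _, _, φ, π, hπ, hgen, hπφ⟩ := SpecializeVal.exists_place hsp
    haveI := hπ
    haveI : Flat (Red.bc φ G).hom := MorphismProperty.pullback_snd _ _ ‹Flat G.hom›
    haveI : LocallyOfFiniteType (Red.bc φ G).hom := MorphismProperty.pullback_snd _ _ ‹LocallyOfFiniteType G.hom›
    haveI : QuasiCompact (Red.bc φ G).hom := MorphismProperty.pullback_snd _ _ ‹QuasiCompact G.hom›
    let e : Red.bc (genPt V _) (Red.bc φ G) ≅ X := (SGA3cLib.GrpBC.bcCongr φ _ _ hgen).app G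
    let e' : Red.bc π (Red.bc φ G) ≅ X' := (SGA3cLib.GrpBC.bcCongr φ π _ hπφ).app G
    have h := AffineSpec.dim_special_le L π (C := Red.bc φ G)
    have h1 : topologicalKrullDim ↥(AffineSpec.gen L (Red.bc φ G)).left = topologicalKrullDim ↥X.left :=
      ((Over.forget _).mapIso e).hom.homeomorph.isHomeomorph.topologicalKrullDim_eq
    have h2 : topologicalKrullDim ↥(pullback (Red.bc φ G).hom π) = topologicalKrullDim ↥X'.left :=
      ((Over.forget _).mapIso e').hom.homeomorph.isHomeomorph.topologicalKrullDim_eq
    rw [h1, h2] at h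
    exact h.trans ((hXd.trans hHd).trans hd'.ge)
  -- anti-affine subgroups of the geometric special fibre are trivial
  haveI hX'aff : IsAffine X'.left := by
    refine AffineHull.isAffine_of_antiAffine_trivial X' fun N _ _ _ j _ _ hN => ?_
    haveI : Smooth N.hom := CohDer1.AntiAff.smooth_algClosed N hN
    haveI : ConnectedSpace N.left := AlgGrpLib.connectedSpace_of_bijective hN
    haveI : IrreducibleSpace N.left := SGA3cLib.irreducibleSpace_of_connected N
    haveI : IsReduced N.left := AbSchLib.isReduced_of_smooth N.hom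
    have hrange : Set.range j.left.base ⊆ Set.range i'.left.base := by
      obtain ⟨hsT, hiT⟩ := SpecializeVal.tensor_smooth_irreducible H' N ⟨hs', inferInstance⟩ ⟨inferInstance, inferInstance⟩
      haveI := hiT
      let m : H' ⊗ N ⟶ X' := (fst H' N ≫ i') * (snd H' N ≫ j)
      have hm1 : lift (𝟙 H') 1 ≫ m = i' := by
        rw [MonObj.comp_mul, lift_fst_assoc, lift_snd_assoc, Category.id_comp, MonObj.one_comp, _root_.mul_one]
      have hm2 : lift 1 (𝟙 N) ≫ m = j := by
        rw [MonObj.comp_mul, lift_fst_assoc, lift_snd_assoc, Category.id_comp, MonObj.one_comp, _root_.one_mul]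
      let ζ := genericPoint H'.left
      have hmax : m.left.base (genericPoint (H' ⊗ N).left) = i'.left.base ζ := by
        refine DimLib.eq_of_specializes_of_ptDim_le X'.hom ?_ ?_
        · rw [show i'.left.base ζ = m.left.base ((lift (𝟙 H') 1 : H' ⟶ H' ⊗ N).left.base ζ) by
            rw [← Scheme.Hom.comp_apply, ← Over.comp_left, hm1]]
          exact (genericPoint_specializes _).map m.left.continuous
        · have h1 : DimLib.ptDim H'.hom ζ = DimLib.ptDim X'.hom (i'.left.base ζ) := by
            rw [← Over.w i']
            exact DimLib.ptDim_comp_preimmersion X'.hom i'.left _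
          have h2 := (DimLib.ptDim_le_topologicalKrullDim X'.hom (m.left.base (genericPoint (H' ⊗ N).left))).trans hdim
          rw [DimLib.topologicalKrullDim_eq_ptDim_genericPoint H'.hom] at h2
          rw [← h1]
          exact_mod_cast h2
      rintro _ ⟨x, rfl⟩
      rw [← hm2, Over.comp_left, Scheme.Hom.comp_apply]
      have h := (genericPoint_specializes ((lift 1 (𝟙 N) : N ⟶ H' ⊗ N).left.base x)).map m.left.continuous
      rw [hmax] at h
      exact i'.left.isClosedEmbedding.isClosed_range.stableUnderSpecialization h ⟨ζ, rfl⟩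
    obtain ⟨l, hl⟩ := RedSepLib.exists_lift_of_range_subset j.left i'.left hrange
    let lo : N ⟶ H' := Over.homMk l (by rw [← Over.w i', ← Category.assoc, hl, Over.w j])
    have hlo : lo ≫ i' = j := Over.OverMorphism.ext hl
    haveI : Mono i' := Over.mono_of_mono_left _
    haveI : IsMonHom lo :=
      { one_hom := by rw [← cancel_mono i', Category.assoc, hlo, IsMonHom.one_hom, IsMonHom.one_hom]
        mul_hom := by
          rw [← cancel_mono i', Category.assoc, hlo, Category.assoc, IsMonHom.mul_hom, IsMonHom.mul_hom,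
            MonoidalCategory.tensorHom_comp_tensorHom_assoc, hlo] }
    rw [← hlo, AffineHull.eq_one_of_isAffine hN lo, MonObj.one_comp]
  -- descent
  obtain ⟨ck, hck⟩ := exists_factor_residue A k' (Red.geomPt s') (by
    show (S.fromSpecResidueField s').base _ = s'
    exact S.fromSpecResidueField_apply s' _)
  haveI : Subsingleton ↥(Spec (CommRingCat.of (IsLocalRing.ResidueField A))) :=
    inferInstanceAs (Subsingleton (PrimeSpectrum (IsLocalRing.ResidueField A)))
  haveI : Surjective ck := ⟨fun z => ⟨IsLocalRing.closedPoint k', Subsingleton.elim _ _⟩⟩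
  haveI : Flat ck := inferInstance
  haveI : QuasiCompact (Red.bc gk G).hom := MorphismProperty.pullback_snd _ _ ‹QuasiCompact G.hom›
  haveI : QuasiSeparated (Red.bc gk G).hom := MorphismProperty.pullback_snd _ _ ‹QuasiSeparated G.hom›
  have haff : IsAffineHom (pullback.snd (Red.bc gk G).hom ck) := by
    let e : Red.bc ck (Red.bc gk G) ≅ X' := (SGA3cLib.GrpBC.bcCongr gk ck _ hck).app G
    haveI : IsAffine (Red.bc ck (Red.bc gk G)).left := IsAffine.of_isIso e.hom.left
    exact inferInstanceAs (IsAffineHom (Red.bc ck (Red.bc gk G)).hom)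
  haveI := ZeroCyc.isAffineHom_of_flat_surjective (f := (Red.bc gk G).hom) ck haff
  exact isAffine_of_isAffineHom (Red.bc gk G).hom

end Groth.Agent.S18065
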