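import Groth.Statements.S18068
import Groth.Agent.AlgGrpLib.AntiAffineMul
import Groth.Agent.AlgGrpLib.HomFlatRed
import Groth.Agent.AlgGrpLib.AntiAffineSections
import Groth.Agent.SGA3cLib.DiagPoints
import Groth.Agent.AbSchLib.SmoothReduced
import Groth.Agent.WeilLib.Geom
set_option backward.isDefEq.respectTransparency.types false
set_option maxHeartbeats 800000

set_option autoImplicit false
universe u
open CategoryTheory MonoidalCategory CartesianMonoidalCategory MonObj GrpObj AlgebraicGeometry CategoryTheory.Limits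
open AlgGrp

namespace Groth.Agent.S18068

/-- Let k be a field and f : G → H an isogeny (a surjective homomorphism with finite kernel, i.e.
surjective and finite) of connected commutative algebraic groups over k. Then G is anti-affine (O(G)
= k) if and only if H is anti-affine. -/
theorem result (k : Type u) [Field k]
    (G H : Over (Spec (CommRingCat.of k))) [GrpObj G] [Smooth G.hom] [QuasiCompact G.hom] [ConnectedSpace ↥G.left] [IsCommMonObj G]
    [GrpObj H] [Smooth H.hom] [QuasiCompact H.hom] [ConnectedSpace ↥H.left] [IsCommMonObj H]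
    (f : G ⟶ H) [IsMonHom f] [Surjective f.left] [IsFinite f.left] :
    Function.Bijective ((Scheme.ΓSpecIso (CommRingCat.of k)).inv ≫ G.hom.appTop).hom ↔
      Function.Bijective ((Scheme.ΓSpecIso (CommRingCat.of k)).inv ≫ H.hom.appTop).hom := by
  haveI : IsLocallyNoetherian G.left := LocallyOfFiniteType.isLocallyNoetherian G.hom
  haveI : CompactSpace G.left := QuasiCompact.compactSpace_of_compactSpace G.hom
  haveI : GeometricallyReduced H.hom := Groth.Agent.AbSchLib.geometricallyReduced_of_smooth H.hom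
  haveI : Flat f.left := Groth.Agent.AlgGrpLib.flat_hom_of_surjective f
  haveI : Epi f.left := Flat.epi_of_flat_of_surjective f.left
  haveI : Epi f := Over.epi_of_epi_left _
  have hbij : ∀ {Y : Over (Spec (CommRingCat.of k))}, Function.Bijective Y.hom.appTop →
      Function.Bijective ((Scheme.ΓSpecIso (CommRingCat.of k)).inv ≫ Y.hom.appTop).hom := fun h => by
    rw [CommRingCat.hom_comp, RingHom.coe_comp]
    exact Function.Bijective.comp h (ConcreteCategory.bijective_of_isIso (Scheme.ΓSpecIso (CommRingCat.of k)).inv)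
  constructor
  · intro hG
    have hG' := Groth.Agent.AlgGrpLib.bijective_appTop_of_const hG
    have hinj : Function.Injective f.left.appTop := fun x y exy => by
      obtain ⟨s, hs'⟩ := SGA3cLib.exists_gaFn (S := Spec (CommRingCat.of k)) x
      obtain ⟨t, ht'⟩ := SGA3cLib.exists_gaFn (S := Spec (CommRingCat.of k)) y
      rw [← hs', ← ht']
      exact congrArg Red.gaFn ((cancel_epi f).1 (SGA3cLib.gaFn_injective (by
        rw [SGA3cLib.gaFn_comp, SGA3cLib.gaFn_comp, hs', ht']; exact exy)))
    have h4 : G.hom.appTop = H.hom.appTop ≫ f.left.appTop := by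
      rw [← Scheme.Hom.comp_appTop, Over.w f]
    replace hG' : Function.Bijective (fun c => f.left.appTop (H.hom.appTop c)) := by
      rw [h4] at hG'; exact hG'
    exact hbij ⟨hG'.1.of_comp, fun x => by
      obtain ⟨c, hc⟩ := hG'.2 (f.left.appTop x)
      exact ⟨c, hinj hc⟩⟩
  intro hH
  have hH' := Groth.Agent.AlgGrpLib.bijective_appTop_of_const hH
  haveI : CompactSpace H.left := QuasiCompact.compactSpace_of_compactSpace H.hom
  haveI : IsLocallyNoetherian H.left := LocallyOfFiniteType.isLocallyNoetherian H.hom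
  let N := Limits.pullback f η[H]
  let i : N ⟶ G := Limits.pullback.fst f η[H]
  have hker : AlgGrp.IsKernel i f := by
    have h := IsPullback.of_hasPullback f η[H]
    rw [toUnit_unique (Limits.pullback.snd f η[H]) (toUnit _)] at h
    exact h
  haveI : IsSeparated H.hom := Groth.Agent.SGA3xLib.isSeparated_of_grpObj H
  haveI : IsClosedImmersion η[H].left := by
    haveI : IsClosedImmersion (η[H].left ≫ H.hom) := by
      rw [Over.w η[H]]; exact inferInstanceAs (IsClosedImmersion (𝟙 (Spec (CommRingCat.of k))))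
    exact IsClosedImmersion.of_comp η[H].left H.hom
  haveI : IsClosedImmersion i.left := MorphismProperty.of_isPullback (P := @IsClosedImmersion)
    ((IsPullback.of_hasPullback f η[H]).map (Over.forget _)).flip ‹_›
  obtain ⟨gN, hi⟩ := Groth.Agent.AlgGrpLib.exists_grpObj_kernel f i hker
  have hN := Groth.Agent.AlgGrpLib.ExactSeqBasics.isNormalHom_kernel f hker
  haveI : IsFinite N.hom := by
    have h1 : N.hom = (Limits.pullback.snd f η[H]).left ≫ (𝟙_ (Over (Spec (CommRingCat.of k)))).hom :=
      (Over.w (Limits.pullback.snd f η[H])).symm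
    haveI : IsFinite (Limits.pullback.snd f η[H]).left := MorphismProperty.of_isPullback (P := @IsFinite)
      ((IsPullback.of_hasPullback f η[H]).map (Over.forget _)) ‹IsFinite f.left›
    rw [h1]
    exact MorphismProperty.comp_mem @IsFinite _ _ inferInstance (inferInstanceAs (IsFinite (𝟙 _)))
  haveI : Finite N.left := by
    let pt : ↥(Spec (CommRingCat.of k)) := IsLocalRing.closedPoint k
    have h := N.hom.finite_preimage_singleton pt
    exact Set.finite_univ_iff.1 (h.subset fun x _ =>
      (((inferInstance : Subsingleton (PrimeSpectrum k))).elim _ _ : N.hom x = pt))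
  obtain ⟨gT, hr, N1, gN1, i1, hi1, hci1, hl1, hqc1, hb1, hAl, hrf, hrs, hker1⟩ :=
    Groth.Agent.AlgGrpLib.AffineHull.exists_antiAffine_kernel G
  let T := Groth.Agent.AlgGrpLib.affOf G
  let r : G ⟶ T := Groth.Agent.AlgGrpLib.toAffOf G
  haveI : IsAffine T.left := inferInstanceAs (IsAffine (Spec _))
  haveI : QuasiCompact r.left := by
    haveI : QuasiCompact (r.left ≫ T.hom) := by rw [Over.w]; infer_instance
    exact QuasiCompact.of_comp r.left T.hom
  haveI : LocallyOfFiniteType N.hom := by rw [← Over.w i]; infer_instance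
  haveI : QuasiCompact N.hom := by rw [← Over.w i]; infer_instance
  haveI : IsLocallyNoetherian N.left := LocallyOfFiniteType.isLocallyNoetherian N.hom
  haveI : LocallyOfFinitePresentation N.hom := inferInstance
  obtain ⟨B, gB, ρ, kB, hρ, hkB, hfac, hρs, hρf, -, hmono, hBl, -⟩ :=
    Groth.Agent.GrpQLib.exists_image (i ≫ r) (GrpdLib.flat_to_field _ k (Iso.refl _))
  haveI : QuasiCompact B.hom := by
    haveI : CompactSpace N.left := QuasiCompact.compactSpace_of_compactSpace N.hom
    haveI : CompactSpace B.left := ⟨by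
      rw [← Set.range_eq_univ.2 ρ.left.surjective]; exact isCompact_range ρ.left.continuous⟩
    exact (quasiCompact_iff_compactSpace B.hom).2 inferInstance
  haveI : IsSeparated B.hom := Groth.Agent.SGA3xLib.isSeparated_of_grpObj B
  haveI : QuasiCompact ρ.left := by
    haveI : QuasiCompact (ρ.left ≫ B.hom) := by rw [Over.w]; infer_instance
    exact QuasiCompact.of_comp ρ.left B.hom
  haveI : QuasiCompact kB.left := by
    haveI : QuasiCompact (kB.left ≫ T.hom) := by rw [Over.w]; infer_instance
    exact QuasiCompact.of_comp kB.left T.hom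
  haveI : IsClosedImmersion kB.left := Groth.Agent.SGA3cLib.isClosedImmersion_of_mono kB
  have hnB : AlgGrp.IsNormalHom kB := by
    intro W a b
    obtain ⟨T₁, c₁, g, hc₁s, hc₁f, hc₁q, hg⟩ := Groth.Agent.AlgGrpLib.exists_lift_cover r a
    obtain ⟨T₂, c₂, n, hc₂s, hc₂f, hc₂q, hn⟩ := Groth.Agent.AlgGrpLib.exists_lift_cover ρ (c₁ ≫ b)
    obtain ⟨n', hn'⟩ := hN T₂ (c₂ ≫ g) n
    haveI : Surjective (c₂ ≫ c₁).left := ⟨fun z => by
      obtain ⟨z', hz'⟩ := c₁.left.surjective z
      obtain ⟨w, hw⟩ := c₂.left.surjective z'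
      exact ⟨w, by rw [Over.comp_left, Scheme.Hom.comp_apply, hw, hz']⟩⟩
    haveI : Flat (c₂ ≫ c₁).left := MorphismProperty.comp_mem @Flat _ _ hc₂f hc₁f
    haveI : QuasiCompact (c₂ ≫ c₁).left := MorphismProperty.comp_mem @QuasiCompact _ _ hc₂q hc₁q
    obtain ⟨y, hy⟩ := Groth.Agent.AlgGrpLib.exists_factor_of_cover (c₂ ≫ c₁) kB (a * (b ≫ kB) * a⁻¹) (n' ≫ ρ) (by
      have e := congrArg (· ≫ r) hn'
      simp only [MonObj.mul_comp, GrpObj.inv_comp, Category.assoc, ← hfac, hg] at e
      rw [Category.assoc, MonObj.comp_mul, MonObj.comp_mul, GrpObj.comp_inv, Category.assoc, Category.assoc,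
        ← reassoc_of% hn]
      exact e.symm)
    exact ⟨y, hy.symm⟩
  obtain ⟨Q, gQ, π, hπ, hQaff, -, -, -, hkerπ⟩ := Groth.Agent.S3278.result k T B kB hnB
  obtain ⟨u, hu⟩ := Groth.Agent.AlgGrpLib.ExactSeqBasics.exists_desc f hker (r ≫ π) (by
    rw [← Category.assoc, ← hfac, Category.assoc, Groth.Agent.AlgGrpLib.kernel_comp hkerπ, MonObj.comp_one])
  have hu1 : u = toUnit H ≫ η[H] ≫ u := Groth.Agent.AlgGrpLib.eq_const_of_affine hH' η[H] u
  have hrπ : r ≫ π = 1 := by
    rw [← hu, hu1, ← Category.assoc f, comp_toUnit, ← IsMonHom.one_hom f, Category.assoc, hu,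
      IsMonHom.one_hom (r ≫ π), ← Hom.one_def]
  obtain ⟨b, hb⟩ := Groth.Agent.AlgGrpLib.exists_lift_kernel hkerπ hrπ
  haveI : Finite T.left := by
    refine Finite.of_surjective (fun x : N.left => (i ≫ r).left x) fun t => ?_
    obtain ⟨g, rfl⟩ := r.left.surjective t
    obtain ⟨x, hx⟩ := ρ.left.surjective (b.left g)
    refine ⟨x, ?_⟩
    show (i ≫ r).left x = r.left g
    rw [← hfac, Over.comp_left, Scheme.Hom.comp_apply, hx, ← Scheme.Hom.comp_apply, ← Over.comp_left, hb]
  haveI : JacobsonSpace T.left := LocallyOfFiniteType.jacobsonSpace T.hom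
  haveI : DiscreteTopology T.left := inferInstance
  haveI : PreconnectedSpace T.left := ⟨by
    rw [← Set.range_eq_univ.2 r.left.surjective]; exact isPreconnected_range r.left.continuous⟩
  haveI : Subsingleton T.left := PreconnectedSpace.trivial_of_discrete
  haveI hred : _root_.IsReduced Γ(G.left, ⊤) := by
    haveI : IsReduced G.left := Groth.Agent.WeilLib.isReduced_of_smooth G.hom
    infer_instance
  haveI : Subsingleton (PrimeSpectrum Γ(G.left, ⊤)) := ‹Subsingleton T.left›
  let c := ((Scheme.ΓSpecIso (CommRingCat.of k)).inv ≫ G.hom.appTop).hom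
  let ε : Γ(G.left, ⊤) →+* k := (η[G].left.appTop ≫ (Scheme.ΓSpecIso (CommRingCat.of k)).hom).hom
  have hεc : ∀ x, ε (c x) = x := fun x => by
    have e : ((Scheme.ΓSpecIso (CommRingCat.of k)).inv ≫ G.hom.appTop) ≫ η[G].left.appTop ≫
        (Scheme.ΓSpecIso (CommRingCat.of k)).hom = 𝟙 _ := by
      rw [Category.assoc, ← Category.assoc G.hom.appTop, ← Scheme.Hom.comp_appTop, Over.w η[G]]
      exact (Scheme.ΓSpecIso (CommRingCat.of k)).inv_hom_id
    exact congr($e x)
  have hεinj : Function.Injective ε := by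
    refine (RingHom.injective_iff_ker_eq_bot ε).2 (le_bot_iff.1 fun z hz => ?_)
    have hnil : z ∈ nilradical Γ(G.left, ⊤) := by
      rw [nilradical_eq_sInf, Submodule.mem_sInf]
      intro P hP
      have h : (⟨P, hP⟩ : PrimeSpectrum Γ(G.left, ⊤)) = ⟨RingHom.ker ε, RingHom.ker_isPrime ε⟩ := Subsingleton.elim _ _
      rw [show P = RingHom.ker ε from congrArg PrimeSpectrum.asIdeal h]
      exact hz
    rw [nilradical_eq_zero] at hnil
    exact hnil
  exact ⟨fun x y e => by rw [← hεc x, ← hεc y]; exact congrArg ε e, fun y => ⟨ε y, hεinj (hεc (ε y))⟩⟩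

end Groth.Agent.S18068
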