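import Groth.Statements.S18069
import Groth.Agent.AlgGrpLib.AntiAffineSections

set_option autoImplicit false
universe u
open CategoryTheory MonoidalCategory CartesianMonoidalCategory MonObj GrpObj AlgebraicGeometry CategoryTheory.Limits
open AlgGrp

namespace Groth.Agent.S18069

/-- Let k be a field and G₁, G₂ connected k-group schemes of finite type. Then G₁ × G₂ is anti-affine,
i.e. O(G₁ × G₂) = k, if and only if G₁ and G₂ are both anti-affine. -/
theorem result (k : Type u) [Field k]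
    (G₁ G₂ : Over (Spec (CommRingCat.of k))) [GrpObj G₁] [LocallyOfFiniteType G₁.hom] [QuasiCompact G₁.hom] [ConnectedSpace ↥G₁.left]
    [GrpObj G₂] [LocallyOfFiniteType G₂.hom] [QuasiCompact G₂.hom] [ConnectedSpace ↥G₂.left] :
    Function.Bijective ((Scheme.ΓSpecIso (CommRingCat.of k)).inv ≫ (G₁ ⊗ G₂).hom.appTop).hom ↔
      Function.Bijective ((Scheme.ΓSpecIso (CommRingCat.of k)).inv ≫ G₁.hom.appTop).hom ∧ Function.Bijective ((Scheme.ΓSpecIso (CommRingCat.of k)).inv ≫ G₂.hom.appTop).hom := by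
  haveI : CompactSpace G₁.left := QuasiCompact.compactSpace_of_compactSpace G₁.hom
  haveI : CompactSpace G₂.left := QuasiCompact.compactSpace_of_compactSpace G₂.hom
  haveI : IsLocallyNoetherian G₁.left := LocallyOfFiniteType.isLocallyNoetherian G₁.hom
  haveI : IsLocallyNoetherian G₂.left := LocallyOfFiniteType.isLocallyNoetherian G₂.hom
  let e : 𝟙_ (Over (Spec (CommRingCat.of k))) ⟶ G₁ ⊗ G₂ := lift η[G₁] η[G₂]
  haveI : Nonempty ↥(G₁ ⊗ G₂).left := ⟨e.left (IsLocalRing.closedPoint k)⟩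
  constructor
  · intro h
    have hP := AlgGrpLib.bijective_appTop_of_const h
    haveI : QuasiCompact (G₁ ⊗ G₂).hom := inferInstanceAs (QuasiCompact (pullback.fst G₁.hom G₂.hom ≫ G₁.hom))
    haveI : CompactSpace ↥(G₁ ⊗ G₂).left := QuasiCompact.compactSpace_of_compactSpace (G₁ ⊗ G₂).hom
    haveI : LocallyOfFiniteType (G₁ ⊗ G₂).hom := inferInstanceAs (LocallyOfFiniteType (pullback.fst G₁.hom G₂.hom ≫ G₁.hom))
    haveI : IsLocallyNoetherian (G₁ ⊗ G₂).left := LocallyOfFiniteType.isLocallyNoetherian (G₁ ⊗ G₂).hom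
    constructor
    · haveI : Nonempty G₁.left := ⟨η[G₁].left (IsLocalRing.closedPoint k)⟩
      refine AlgGrpLib.bijective_of_toAffOf (e ≫ fst G₁ G₂ ≫ AlgGrpLib.toAffOf G₁) ?_
      have h1 := congrArg (lift (𝟙 G₁) (toUnit G₁ ≫ η[G₂]) ≫ ·)
        (AlgGrpLib.eq_const_of_affine hP e (fst G₁ G₂ ≫ AlgGrpLib.toAffOf G₁))
      simp only [lift_fst_assoc, Category.id_comp] at h1
      rw [← Category.assoc (lift (𝟙 G₁) _) (toUnit _), comp_toUnit] at h1
      exact h1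
    · haveI : Nonempty G₂.left := ⟨η[G₂].left (IsLocalRing.closedPoint k)⟩
      refine AlgGrpLib.bijective_of_toAffOf (e ≫ snd G₁ G₂ ≫ AlgGrpLib.toAffOf G₂) ?_
      have h1 := congrArg (lift (toUnit G₂ ≫ η[G₁]) (𝟙 G₂) ≫ ·)
        (AlgGrpLib.eq_const_of_affine hP e (snd G₁ G₂ ≫ AlgGrpLib.toAffOf G₂))
      simp only [lift_snd_assoc, Category.id_comp] at h1
      rw [← Category.assoc (lift _ (𝟙 G₂)) (toUnit _), comp_toUnit] at h1
      exact h1
  · rintro ⟨h₁, h₂⟩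
    let g : G₂ ⟶ AlgGrpLib.affOf (G₁ ⊗ G₂) := lift (toUnit G₂ ≫ η[G₁]) (𝟙 G₂) ≫ AlgGrpLib.toAffOf (G₁ ⊗ G₂)
    refine AlgGrpLib.bijective_of_toAffOf (η[G₂] ≫ g) ?_
    rw [AlgGrpLib.eq_snd_of_affine (AlgGrpLib.bijective_appTop_of_const h₁) η[G₁] (AlgGrpLib.toAffOf (G₁ ⊗ G₂))]
    show snd G₁ G₂ ≫ g = _
    conv_lhs => rw [AlgGrpLib.eq_const_of_affine (AlgGrpLib.bijective_appTop_of_const h₂) η[G₂] g]
    rw [← Category.assoc, comp_toUnit]

end Groth.Agent.S18069
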