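import Groth.Statements.S18072
import Groth.Agent.AlgGrpLib.IsogenyBC
import Groth.Agent.S7997
import Groth.Agent.S7999

set_option autoImplicit false
set_option backward.isDefEq.respectTransparency.types false
universe u
open CategoryTheory MonoidalCategory CartesianMonoidalCategory MonObj GrpObj AlgebraicGeometry CategoryTheory.Limits
open AlgGrp

namespace Groth.Agent.S18072

/-- Let F be a field and f : G → H an isogeny between affine smooth connected F-groups (a surjective
homomorphism with finite kernel, i.e. surjective and finite). Then each of the properties unipotent,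
solvable, nilpotent and commutative holds for G exactly when it holds for H; here unipotence is
expressed as: the base change to an algebraic closure contains no non-trivial subtorus, solvable and
nilpotent through the derived and upper central series of the groups of points. -/
theorem result (F : Type u) [Field F]
    (G H : Over (Spec (CommRingCat.of F))) [GrpObj G] [Smooth G.hom] [QuasiCompact G.hom] [IsAffine G.left] [ConnectedSpace ↥G.left]
    [GrpObj H] [Smooth H.hom] [QuasiCompact H.hom] [IsAffine H.left] [ConnectedSpace ↥H.left]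
    (f : G ⟶ H) [IsMonHom f] [Surjective f.left] [IsFinite f.left] :
    (Red.HasNoSubtorus (AlgebraicClosure F) (Red.bc (Spec.map (CommRingCat.ofHom (algebraMap F (AlgebraicClosure F)))) G) ↔ Red.HasNoSubtorus (AlgebraicClosure F) (Red.bc (Spec.map (CommRingCat.ofHom (algebraMap F (AlgebraicClosure F)))) H)) ∧
    (Red.IsSolvableGrp G ↔ Red.IsSolvableGrp H) ∧ (AGF.IsNilpotentGrp G ↔ AGF.IsNilpotentGrp H) ∧
    (IsCommMonObj G ↔ IsCommMonObj H) := by
  let g : Spec (CommRingCat.of (AlgebraicClosure F)) ⟶ Spec (CommRingCat.of F) :=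
    Spec.map (CommRingCat.ofHom (algebraMap F (AlgebraicClosure F)))
  haveI : Flat f.left := Groth.Agent.AlgGrpLib.IsogenyBC.flat_of_isogeny G f
  haveI := Groth.Agent.AlgGrpLib.IsogenyBC.connected_bc g G
  haveI := Groth.Agent.AlgGrpLib.IsogenyBC.connected_bc g H
  haveI := Groth.Agent.AlgGrpLib.IsogenyBC.affine_bc g G
  haveI := Groth.Agent.AlgGrpLib.IsogenyBC.affine_bc g H
  obtain ⟨hm, hfin, hs⟩ := Groth.Agent.AlgGrpLib.IsogenyBC.bc_isogeny g G f
  haveI := hm
  haveI := hfin
  haveI := hs
  haveI : Smooth (Red.bc g G).hom := inferInstanceAs (Smooth (pullback.snd G.hom g))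
  haveI : Smooth (Red.bc g H).hom := inferInstanceAs (Smooth (pullback.snd H.hom g))
  haveI : QuasiCompact (Red.bc g G).hom := inferInstanceAs (QuasiCompact (pullback.snd G.hom g))
  haveI : QuasiCompact (Red.bc g H).hom := inferInstanceAs (QuasiCompact (pullback.snd H.hom g))
  refine ⟨⟨fun h => Groth.Agent.AlgGrpLib.TorusUnip.hasNoSubtorus_of_surjective ((Over.pullback g).map f) h,
    fun h => Groth.Agent.AlgGrpLib.TorusUnip.hasNoSubtorus_of_finite ((Over.pullback g).map f) h⟩,
    ⟨fun h => Groth.Agent.S7997.result F G H f h, fun h => ?_⟩,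
    ⟨fun h => Groth.Agent.S7999.result F G H f h, fun h => ?_⟩, ⟨fun h => ?_, fun h => ?_⟩⟩
  · exact (Groth.Agent.AlgGrpLib.IsogenyBC.solvable_bc_iff g G).1
      (Groth.Agent.AlgGrpLib.IsogenyProps.solvable_of_finite ((Over.pullback g).map f)
        ((Groth.Agent.AlgGrpLib.IsogenyBC.solvable_bc_iff g H).2 h))
  · exact (Groth.Agent.AlgGrpLib.IsogenyBC.nilpotent_bc_iff g G).1
      (Groth.Agent.AlgGrpLib.IsogenyProps.nilpotent_of_finite ((Over.pullback g).map f)
        ((Groth.Agent.AlgGrpLib.IsogenyBC.nilpotent_bc_iff g H).2 h))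
  · exact Groth.Agent.AlgGrpLib.IsogenyBC.comm_of_surjective G f
  · haveI := (Groth.Agent.AlgGrpLib.IsogenyBC.comm_bc_iff g H).2 h
    exact (Groth.Agent.AlgGrpLib.IsogenyBC.comm_bc_iff g G).1
      (Groth.Agent.AlgGrpLib.IsogenyProps.comm_of_finite ((Over.pullback g).map f))

end Groth.Agent.S18072
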