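import Groth.Statements.S18074
import Groth.Agent.AlgGrpLib.AffineCriterion
set_option backward.isDefEq.respectTransparency.types false

set_option autoImplicit false
universe u
open CategoryTheory MonoidalCategory CartesianMonoidalCategory MonObj GrpObj AlgebraicGeometry CategoryTheory.Limits
open AlgGrp

namespace Groth.Agent.S18074

/-- Let k be a field and G a non-trivial k-group scheme of finite type. Then G is non-affine with every
closed subgroup scheme H ≠ G affine if and only if G is anti-affine and every anti-affine closed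
subgroup scheme H ≠ G of G is trivial. -/
theorem result (k : Type u) [Field k]
    (G : Over (Spec (CommRingCat.of k))) [GrpObj G] [LocallyOfFiniteType G.hom] [QuasiCompact G.hom] (hG : ¬ Red.IsTrivialGrp G) :
    (¬ IsAffine G.left ∧ ∀ (H : Over (Spec (CommRingCat.of k))) [GrpObj H] (h : H ⟶ G) [IsMonHom h] [IsClosedImmersion h.left], ¬ IsIso h → IsAffine H.left) ↔
    (Function.Bijective ((Scheme.ΓSpecIso (CommRingCat.of k)).inv ≫ G.hom.appTop).hom ∧ ∀ (H : Over (Spec (CommRingCat.of k))) [GrpObj H] (h : H ⟶ G) [IsMonHom h] [IsClosedImmersion h.left], ¬ IsIso h → Function.Bijective ((Scheme.ΓSpecIso (CommRingCat.of k)).inv ≫ H.hom.appTop).hom → Red.IsTrivialGrp H) := by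
  have hbij : ∀ {Y : Over (Spec (CommRingCat.of k))}, Function.Bijective Y.hom.appTop →
      Function.Bijective ((Scheme.ΓSpecIso (CommRingCat.of k)).inv ≫ Y.hom.appTop).hom := fun h => by
    rw [CommRingCat.hom_comp, RingHom.coe_comp]
    exact Function.Bijective.comp h (ConcreteCategory.bijective_of_isIso (Scheme.ΓSpecIso (CommRingCat.of k)).inv)
  -- an anti-affine group that is affine is trivial
  have htriv : ∀ (H : Over (Spec (CommRingCat.of k))) [GrpObj H] [LocallyOfFiniteType H.hom] [QuasiCompact H.hom]
      [IsAffine H.left], Function.Bijective H.hom.appTop → Red.IsTrivialGrp H := by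
    intro H _ _ _ _ hb
    have e1 := Groth.Agent.AlgGrpLib.AffineHull.eq_one_of_isAffine hb (𝟙 H)
    refine ⟨η[H].left, ?_, Over.w η[H]⟩
    have e2 := congrArg CommaMorphism.left e1
    rw [Hom.one_def] at e2
    exact e2.symm
  have hone : ∀ (H : Over (Spec (CommRingCat.of k))) [GrpObj H] (h : H ⟶ G) [IsMonHom h], Red.IsTrivialGrp H → h = 1 := by
    intro H _ h _ hH
    haveI : IsIso H.hom := hH
    have e1 : 𝟙 H = toUnit H ≫ η[H] := by
      refine Over.OverMorphism.ext ?_
      have hη : H.hom ≫ η[H].left = 𝟙 _ := by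
        rw [← cancel_mono H.hom, Category.assoc, Over.w η[H]]
        exact (Category.comp_id _).trans (Category.id_comp _).symm
      exact hη.symm
    rw [← Category.id_comp h, e1, ← Hom.one_def, MonObj.one_comp]
  constructor
  · rintro ⟨hna, hsub⟩
    obtain ⟨g, hρ, N, gN, i, hi, hci, hl, hqc, hb, -, -, -, hker⟩ := Groth.Agent.AlgGrpLib.AffineHull.exists_antiAffine_kernel G
    haveI : IsAffine (Groth.Agent.AlgGrpLib.affOf G).left := inferInstanceAs (IsAffine (Spec _))
    have hiso : IsIso i := by
      by_contra hni
      haveI := hsub N i hni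
      have hNt := htriv N hb
      have hi1 : i = 1 := hone N i hNt
      refine hna (Groth.Agent.AlgGrpLib.AffineHull.isAffine_of_antiAffine_trivial G fun M _ _ _ m _ _ hM => ?_)
      obtain ⟨a, ha⟩ := Groth.Agent.AlgGrpLib.exists_lift_kernel hker (g := m)
        (Groth.Agent.AlgGrpLib.AffineHull.eq_one_of_isAffine hM (m ≫ Groth.Agent.AlgGrpLib.toAffOf G))
      rw [← ha, hi1, MonObj.comp_one]
    have hGb : Function.Bijective G.hom.appTop := by
      haveI := hiso
      have e : G.hom = (inv i).left ≫ N.hom := (Over.w (inv i)).symm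
      haveI : IsIso (inv i).left := inferInstanceAs (IsIso ((Over.forget _).map (inv i)))
      haveI : IsIso (inv i).left.appTop := inferInstanceAs (IsIso (Scheme.Γ.map (inv i).left.op))
      rw [e, Scheme.Hom.comp_appTop]
      exact (ConcreteCategory.bijective_of_isIso (inv i).left.appTop).comp hb
    refine ⟨hbij hGb, fun H _ h _ _ hni hH => ?_⟩
    haveI : LocallyOfFiniteType H.hom := by rw [← Over.w h]; infer_instance
    haveI : QuasiCompact H.hom := by rw [← Over.w h]; infer_instance
    haveI := hsub H h hni
    exact htriv H (Groth.Agent.AlgGrpLib.bijective_appTop_of_const hH)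
  · rintro ⟨hG', hsub⟩
    refine ⟨fun hA => hG (htriv G (Groth.Agent.AlgGrpLib.bijective_appTop_of_const hG')), fun H _ h _ _ hni => ?_⟩
    haveI : LocallyOfFiniteType H.hom := by rw [← Over.w h]; infer_instance
    haveI : QuasiCompact H.hom := by rw [← Over.w h]; infer_instance
    refine Groth.Agent.AlgGrpLib.AffineHull.isAffine_of_antiAffine_trivial H fun N _ _ _ i _ _ hN => ?_
    haveI : IsClosedImmersion (i ≫ h).left := inferInstanceAs (IsClosedImmersion (i.left ≫ h.left))
    have hni' : ¬ IsIso (i ≫ h) := fun hh => by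
      haveI := hh
      haveI : Mono h := Over.mono_of_mono_left _
      refine hni ⟨inv (i ≫ h) ≫ i, ?_, by rw [Category.assoc, IsIso.inv_hom_id]⟩
      rw [← cancel_mono h, Category.assoc, Category.assoc, IsIso.inv_hom_id, Category.comp_id, Category.id_comp]
    have ht := hsub N (i ≫ h) hni' (hbij hN)
    haveI : Mono h := Over.mono_of_mono_left _
    rw [← cancel_mono h, hone N (i ≫ h) ht, MonObj.one_comp]

end Groth.Agent.S18074
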