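import Groth.Statements.S18075
import Groth.Agent.AlgGrpLib.AntiAffineMinimal

set_option autoImplicit false
set_option backward.isDefEq.respectTransparency.types false
universe u
open CategoryTheory MonoidalCategory CartesianMonoidalCategory MonObj GrpObj AlgebraicGeometry CategoryTheory.Limits
open AlgGrp

namespace Groth.Agent.S18075

/-- Let k be a field and G a non-trivial anti-affine k-group scheme of finite type, and let i : N → G be
a connected affine closed subgroup scheme which is the kernel of a flat surjective homomorphism q :
G → A onto an abelian variety A (for instance N = G_aff and A = G/G_aff, but any such N is allowed).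
Then G has no anti-affine closed subgroup scheme other than G and the trivial group if and only if
the abelian variety A is simple (every smooth connected closed subgroup scheme of A is trivial or
equal to A). -/
theorem result (k : Type u) [Field k]
    (G : Over (Spec (CommRingCat.of k))) [GrpObj G] [LocallyOfFiniteType G.hom] [QuasiCompact G.hom] (hG : ¬ Red.IsTrivialGrp G)
    (hGa : Function.Bijective ((Scheme.ΓSpecIso (CommRingCat.of k)).inv ≫ G.hom.appTop).hom)
    (N A : Over (Spec (CommRingCat.of k))) [GrpObj N] [GrpObj A] (i : N ⟶ G) [IsMonHom i] [IsClosedImmersion i.left]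
    [IsAffine N.left] [ConnectedSpace ↥N.left]
    (q : G ⟶ A) [IsMonHom q] [Surjective q.left] [Flat q.left] [IsProper A.hom] [Smooth A.hom] [ConnectedSpace ↥A.left]
    (hq : AlgGrp.IsKernel i q) :
    (∀ (H : Over (Spec (CommRingCat.of k))) [GrpObj H] (h : H ⟶ G) [IsMonHom h] [IsClosedImmersion h.left], ¬ IsIso h → Function.Bijective ((Scheme.ΓSpecIso (CommRingCat.of k)).inv ≫ H.hom.appTop).hom → Red.IsTrivialGrp H) ↔
    (∀ (B : Over (Spec (CommRingCat.of k))) [GrpObj B] (b : B ⟶ A) [IsMonHom b] [IsClosedImmersion b.left], Smooth B.hom → ConnectedSpace ↥B.left → IsIso b ∨ Red.IsTrivialGrp B) := by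
  constructor
  · intro hGm B _ b _ _ hBs hBc
    haveI := hBs
    haveI := hBc
    exact Groth.Agent.AlgGrpLib.AntiAffineMinimal.simple_of_minimal (G := G) q hGm B b
  · intro hA H _ h _ _ hne hHa
    exact Groth.Agent.AlgGrpLib.AntiAffineMinimal.minimal_of_simple i q hGa hq hA H h hne hHa

end Groth.Agent.S18075
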