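import Groth.Statements.S18078
import Groth.Agent.AlgGrpLib.SpecializeUnipotentField

set_option autoImplicit false
set_option backward.isDefEq.respectTransparency.types false
universe u
open CategoryTheory MonoidalCategory CartesianMonoidalCategory MonObj GrpObj AlgebraicGeometry CategoryTheory.Limits
open AlgGrp

namespace Groth.Agent.S18078

/-- Let k be an algebraically closed field, F an algebraically closed field extension of k, G an
algebraic k-group (a k-group scheme of finite type) and d a natural number. Then G_F contains a
smooth connected unipotent closed subgroup of dimension at least d (unipotent: no non-trivial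
subtorus) if and only if G does; that is, D_u(k, G) = D_u(F, G). -/
theorem result (k : Type u) [Field k] [IsAlgClosed k]
    (F : Type u) [Field F] [IsAlgClosed F] [Algebra k F]
    (G : Over (Spec (CommRingCat.of k))) [GrpObj G] [LocallyOfFiniteType G.hom] [QuasiCompact G.hom] (d : ℕ) :
    (∃ (U : Over (Spec (CommRingCat.of F))) (_ : GrpObj U) (i : U ⟶ Red.bc (Spec.map (CommRingCat.ofHom (algebraMap k F))) G), IsMonHom i ∧ IsClosedImmersion i.left ∧
        Smooth U.hom ∧ IsAffine U.left ∧ ConnectedSpace ↥U.left ∧ Red.HasNoSubtorus F U ∧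
        (d : WithBot ℕ∞) ≤ topologicalKrullDim ↥U.left) ↔
    (∃ (U : Over (Spec (CommRingCat.of k))) (_ : GrpObj U) (i : U ⟶ G), IsMonHom i ∧ IsClosedImmersion i.left ∧
        Smooth U.hom ∧ IsAffine U.left ∧ ConnectedSpace ↥U.left ∧ Red.HasNoSubtorus k U ∧
        (d : WithBot ℕ∞) ≤ topologicalKrullDim ↥U.left) := by
  open Groth.Agent Groth.Agent.AlgGrpLib in
  haveI : QuasiSeparated G.hom := by
    haveI : IsSeparated G.hom := SGA3xLib.isSeparated_of_grpObj G
    infer_instance
  open Groth.Agent Groth.Agent.AlgGrpLib in
  constructor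
  · rintro ⟨U, _, i, hi, hc, hsm, haff, hcon, hnt, hd⟩
    haveI := hi; haveI := hc; haveI := hsm; haveI := haff; haveI := hcon
    obtain ⟨H', hG', i', hi', hc', hsm', hcon', haff', hd', hnt', -⟩ :=
      SpecializeVal.exists_unipotent_special_field k F G U i hnt
    exact ⟨H', hG', i', hi', hc', hsm', haff', hcon', hnt', hd.trans hd'.ge⟩
  · rintro ⟨U, _, i, hi, hc, hsm, haff, hcon, hnt, hd⟩
    haveI := hi; haveI := hc; haveI := hsm; haveI := haff; haveI := hcon
    let f : Spec (CommRingCat.of F) ⟶ Spec (CommRingCat.of k) := Spec.map (CommRingCat.ofHom (algebraMap k F))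
    haveI : IrreducibleSpace U.left := SGA3cLib.irreducibleSpace_of_connected U
    haveI : GeometricallyIrreducible U.hom := FBaseLib.geometricallyIrreducible_of_isAlgClosed U.hom
    haveI : GeometricallyIrreducible (Red.bc f U).hom := inferInstanceAs (GeometricallyIrreducible (Limits.pullback.snd U.hom f))
    haveI : Subsingleton ↥(Spec (CommRingCat.of F)) := inferInstanceAs (Subsingleton (PrimeSpectrum F))
    haveI : IrreducibleSpace (Red.bc f U).left := GeometricallyIrreducible.irreducibleSpace_of_subsingleton (Red.bc f U).hom
    haveI : IsMonHom ((Over.pullback f).map i : Red.bc f U ⟶ Red.bc f G) := Functor.map.instIsMonHom _ _ i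
    haveI : IsAffineHom (Red.bc f U).hom := MorphismProperty.pullback_snd _ _ (inferInstance : IsAffineHom U.hom)
    exact ⟨Red.bc f U, inferInstance, (Over.pullback f).map i, inferInstance,
      MorphismProperty.of_isPullback (P := @IsClosedImmersion) (SGA3UnitSec.isPullback_map_left f i) hc,
      MorphismProperty.pullback_snd _ _ hsm, isAffine_of_isAffineHom (Red.bc f U).hom, inferInstance,
      SpecializeVal.hasNoSubtorus_bc k F hnt, hd.trans (DimLib.topologicalKrullDim_bc U.hom F).ge⟩

end Groth.Agent.S18078
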