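import Groth.Statements.S1808
import Groth.Agent.DualLib.SerreTop

set_option autoImplicit false
universe u
open CategoryTheory CategoryTheory.Limits AlgebraicGeometry
attribute [local instance] HasDerivedCategory.standard
open Dual

namespace Groth.Agent.S1808



/-- Let A be a Noetherian local ring with normalized dualizing complex ω_A^• and ω_A = H^{−dim
A}(ω_A^•); let X be proper over Spec A with Rf_* on D_QCoh assumed to exist and to preserve
quasi-coherence of cohomology, a a right adjoint of it, and W an object of D_QCoh(Spec A) isomorphic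
to the derived tilde of ω_A^• (tilde assumed left exact). Put ω_X = H^{−dim X}(a(W)). Let d be the
dimension of the closed fibre and suppose dim X = d + dim A. Then there is an A-linear map t :
H^d(X, ω_X) → ω_A such that for every coherent O_X-module F and every A-linear ψ : H^d(X, F) → ω_A
there is exactly one φ : F → ω_X with ψ = t ∘ H^d(φ); that is, ω_X represents F ↦ Hom_A(H^d(X, F),
ω_A). -/
theorem result (A : Type u) [CommRing A] [IsLocalRing A] [IsNoetherianRing A] (ω : Dual.D A) (hω : Dual.IsDualizing A ω) (hn : Dual.IsNormalized A ω) (dA : ℕ) (hdA : ringKrullDim A = dA) (X : Scheme.{u}) [X.Over (Spec (CommRingCat.of A))] [IsProper (X ↘ Spec (CommRingCat.of A))] [DCoh.HasRpush (X ↘ Spec (CommRingCat.of A))] (h : ∀ K : DCoh.D X, DCoh.IsQCohD K → DCoh.IsQCohD ((DCoh.Rpush (X ↘ Spec (CommRingCat.of A))).obj K)) (a : DCoh.DQCoh (Spec (CommRingCat.of A)) ⥤ DCoh.DQCoh X) (adj : (ObjectProperty.lift DCoh.IsQCohD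 (ObjectProperty.ι DCoh.IsQCohD ⋙ DCoh.Rpush (X ↘ Spec (CommRingCat.of A))) (fun K => h K.obj K.property)) ⊣ a) [PreservesFiniteLimits (tilde.functor (CommRingCat.of A))] (W : DCoh.DQCoh (Spec (CommRingCat.of A))) (hW : Nonempty (W.obj ≅ (DCoh.tildeD (CommRingCat.of A)).obj ω)) (dX d : ℕ) (hdX : topologicalKrullDim X = dX) (hd : topologicalKrullDim ((X ↘ Spec (CommRingCat.of A)).fiber (IsLocalRing.closedPoint A)) = d) (hdim : dX = d + dA) : ∃ t : Coh.HH X (DCoh.HD (a.obj W).obj (-(dX : ℤ))) d →ₗ[A] Dual.HD A ω (-(dA : ℤ)), ∀ (F : X.Modules), Coh.IsCoh F → ∀ ψ : Coh.HH X F d →ₗ[A] Dual.HD A ω (-(dA : ℤ)), ∃! φ : F ⟶ DCoh.HD (a.obj W).obj (-(dX : ℤ)), ∀ x : Coh.HH X F d, ψ x = t (Sheaf.H.map ((SheafOfModules.toSheaf X.ringCatSheaf).map φ) d x) := by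
  open Pretriangulated Groth.Agent.DualLib in
  open DerivedCategory in
  let f := X ↘ Spec (CommRingCat.of A)
  haveI : IsNoetherianRing (CommRingCat.of A) := ‹IsNoetherianRing A›
  haveI : CompactSpace X := QuasiCompact.compactSpace_of_compactSpace f
  haveI : QuasiSeparatedSpace X := quasiSeparatedSpace_of_quasiSeparated f
  haveI : (DCoh.tildeD (CommRingCat.of A)).CommShift ℤ := inferInstance
  obtain ⟨_, _⟩ := Groth.Agent.DCat.exists_commShift_Rpush f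
  obtain ⟨eW⟩ := hW
  have hA : Groth.Agent.Dual22Lib.RepLib.RepObj f W.obj (a.obj W).obj := ⟨fun {_} =>
    ⟨(a.obj W).property, (adj.counit.app W).hom,
      fun L hL => Groth.Agent.Dual22Lib.SupportAdj.rep_counit f h a adj W L hL⟩⟩
  -- `W` lives in degrees `≥ -dA`
  haveI hωge : ω.IsGE (-(dA : ℤ)) := by
    refine (DerivedCategory.isGE_iff _ _).2 fun j hj => ?_
    haveI := Groth.Agent.DualLib.subsingleton_of_lt hω hn A dA (fun p _ => by
      have := (Order.coheight_le_krullDim p).trans hdA.le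
      exact_mod_cast this) j hj
    obtain ⟨E1⟩ := SerreTop.nonempty_HD_equiv A ω j
    haveI : Subsingleton (SerreTop.g₀ A ⟶ ω⟦j⟧) := ‹Subsingleton (Groth.Agent.DualLib.E ω A j)›
    haveI : Subsingleton (Dual.HD A ω j) := E1.toEquiv.subsingleton
    haveI : Subsingleton ↑((DerivedCategory.homologyFunctor (ModuleCat.{u} A) j).obj ω) := ‹Subsingleton (Dual.HD A ω j)›
    exact ModuleCat.isZero_of_subsingleton _
  haveI hWge : W.obj.IsGE (-(dA : ℤ)) := by
    haveI := SerreTop.isGE_tildeD A ω (-(dA : ℤ))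
    exact DerivedCategory.TStructure.t.isGE_of_iso eW.symm _
  haveI hK : (a.obj W).obj.IsGE (-(dX : ℤ)) := by
    have h' := SerreTop.isGE_rep hd (-(dA : ℤ)) hA
    rwa [show -(dA : ℤ) - (d : ℤ) = -(dX : ℤ) by omega] at h'
  -- the bottom cohomology of `a W`
  let K := (a.obj W).obj
  haveI : (K⟦(-(dX : ℤ))⟧).IsGE 0 := DerivedCategory.TStructure.t.isGE_shift K (-(dX : ℤ)) (-(dX : ℤ)) 0 (by omega)
  obtain ⟨N, ι, hι, hι'⟩ := SerreTop.exists_incl (K⟦(-(dX : ℤ))⟧)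
  haveI := hι
  let eN : DCoh.HD K (-(dX : ℤ)) ≅ N :=
    (((homologyFunctor X.Modules 0).shiftIso (-(dX : ℤ)) 0 (-(dX : ℤ)) (by omega)).app K).symm ≪≫
      (asIso ((homologyFunctor X.Modules 0).map ι)).symm ≪≫ (singleFunctorCompHomologyFunctorIso X.Modules 0).app N
  let κ : (singleFunctor X.Modules 0).obj (DCoh.HD K (-(dX : ℤ))) ⟶ K⟦(-(dX : ℤ))⟧ :=
    (singleFunctor X.Modules 0).map eN.hom ≫ ι
  have hκ : ∀ F : X.Modules, Function.Bijective fun φ : F ⟶ DCoh.HD K (-(dX : ℤ)) =>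
      (singleFunctor X.Modules 0).map φ ≫ κ := fun F => by
    refine ⟨fun φ φ' hφ => ?_, fun g => ?_⟩
    · have h1 := congrArg (homologyFunctor X.Modules 0).map hφ
      simp only [κ, Functor.map_comp, ← Category.assoc, cancel_mono] at h1
      exact (singleFunctor X.Modules 0).map_injective
        ((SerreTop.bijective_H0 _ _).1 h1)
    · obtain ⟨g', hg'⟩ := hι' _ inferInstance g
      obtain ⟨ψ, rfl⟩ := (singleFunctor X.Modules 0).map_surjective g'
      exact ⟨ψ ≫ eN.inv, by simp only [κ, ← Functor.map_comp_assoc, Category.assoc, Iso.inv_hom_id, Category.comp_id, hg']⟩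
  let S' := DCoh.D (Spec (CommRingCat.of A))
  let sh : ∀ F : X.Modules, RingBase.gS A F (d : ℤ) ≅ (RingBase.gS A F (dX : ℤ))⟦(-(dA : ℤ))⟧ := fun F =>
    (DCoh.Rpush f).mapIso ((shiftFunctorAdd' (DCoh.D X) (dX : ℤ) (-(dA : ℤ)) (d : ℤ) (by omega)).app _) ≪≫
      ((DCoh.Rpush f).commShiftIso (-(dA : ℤ))).app _
  let c : (K⟦(-(dX : ℤ))⟧)⟦(dX : ℤ)⟧ ≅ K := (shiftFunctorCompIsoId (DCoh.D X) (-(dX : ℤ)) (dX : ℤ) (by omega)).app K
  let τ : RingBase.gS A (DCoh.HD K (-(dX : ℤ))) (d : ℤ) ⟶ W.obj⟦(-(dA : ℤ))⟧ :=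
    (sh _).hom ≫ ((DCoh.Rpush f).map (κ⟦(dX : ℤ)⟧' ≫ c.hom) ≫ (adj.counit.app W).hom)⟦(-(dA : ℤ))⟧'
  have hΦ : ∀ F : X.Modules, Coh.IsQCoh F → Function.Bijective fun φ : F ⟶ DCoh.HD K (-(dX : ℤ)) =>
      (DCoh.Rpush f).map (((singleFunctor X.Modules 0).map φ)⟦(d : ℤ)⟧') ≫ τ := by
    intro F hF
    haveI := hF
    let b1 : (F ⟶ DCoh.HD K (-(dX : ℤ))) → (((singleFunctor X.Modules 0).obj F)⟦(dX : ℤ)⟧ ⟶ K) :=
      fun φ => ((singleFunctor X.Modules 0).map φ ≫ κ)⟦(dX : ℤ)⟧' ≫ c.hom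
    have hb1 : Function.Bijective b1 :=
      (c.homToEquiv.bijective).comp (((Functor.FullyFaithful.ofFullyFaithful (shiftFunctor (DCoh.D X) (dX : ℤ))).map_bijective _ _).comp (hκ F))
    have hb2 := Groth.Agent.Dual22Lib.SupportAdj.rep_counit f h a adj W _
      (Groth.Agent.DQCoh.isQCohD_shift (Groth.Agent.FlatBC14.isQCohD_inD F) (dX : ℤ))
    have hb3 : Function.Bijective fun g : RingBase.gS A F (dX : ℤ) ⟶ W.obj => (sh F).hom ≫ g⟦(-(dA : ℤ))⟧' :=
      ((sh F).symm.homFromEquiv.bijective).comp ((Functor.FullyFaithful.ofFullyFaithful (shiftFunctor S' (-(dA : ℤ)))).map_bijective _ _)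
    refine (iff_of_eq (congrArg Function.Bijective (funext fun φ => ?_))).1 (hb3.comp (Function.Bijective.comp hb2 hb1))
    have hn1 := (shiftFunctorAdd' (DCoh.D X) (dX : ℤ) (-(dA : ℤ)) (d : ℤ) (by omega)).hom.naturality ((singleFunctor X.Modules 0).map φ)
    have hn2 := ((DCoh.Rpush f).commShiftIso (-(dA : ℤ))).hom.naturality (((singleFunctor X.Modules 0).map φ)⟦(dX : ℤ)⟧')
    simp only [Functor.comp_map] at hn1 hn2
    simp only [Function.comp_apply, b1, τ, sh, Iso.trans_hom, Functor.mapIso_hom, Iso.app_hom, Functor.map_comp,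
      Category.assoc]
    conv_rhs => rw [← Functor.map_comp_assoc, hn1, Functor.map_comp_assoc, reassoc_of% hn2]
  obtain ⟨e, he⟩ := RingBase.exists_eLin (R := A) (X := X)
  obtain ⟨E1⟩ := SerreTop.nonempty_HD_equiv A ω (-(dA : ℤ))
  let eW' : (DCoh.tildeD (CommRingCat.of A)).obj (ω⟦(-(dA : ℤ))⟧) ≅ W.obj⟦(-(dA : ℤ))⟧ :=
    ((DCoh.tildeD (CommRingCat.of A)).commShiftIso (-(dA : ℤ))).app ω ≪≫
      (shiftFunctor S' (-(dA : ℤ))).mapIso eW.symm
  let E2 : Dual.HD A ω (-(dA : ℤ)) ≃ₗ[A] (RingBase.PS A ⟶ W.obj⟦(-(dA : ℤ))⟧) := E1.trans (SerreTop.theta A eW')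
  let t := E2.symm.toLinearMap ∘ₗ Linear.rightComp A (RingBase.PS A) τ ∘ₗ (e (DCoh.HD K (-(dX : ℤ))) d).symm.toLinearMap
  refine ⟨t, fun F hF ψ => ?_⟩
  have hFq := hF.1
  haveI := hFq
  haveI : (W.obj⟦(-(dA : ℤ))⟧).IsGE 0 := DerivedCategory.TStructure.t.isGE_shift W.obj (-(dA : ℤ)) (-(dA : ℤ)) 0 (by omega)
  haveI : (((singleFunctor X.Modules 0).obj F)⟦(d : ℤ)⟧).IsGE (-(d : ℤ)) :=
    DerivedCategory.TStructure.t.isGE_shift _ 0 (d : ℤ) (-(d : ℤ)) (by omega)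
  haveI : (((singleFunctor X.Modules 0).obj F)⟦(d : ℤ)⟧).IsLE (-(d : ℤ)) :=
    DerivedCategory.TStructure.t.isLE_shift _ 0 (d : ℤ) (-(d : ℤ)) (by omega)
  haveI : (RingBase.gS A F (d : ℤ)).IsLE 0 := by
    have h' := Groth.Agent.Dual22Lib.RpushBound.isLE_Rpush_of_modules f d
      (fun M hM i hi => SerreTop.isZero_HD_Rpush_module hd M hM i hi)
      (((singleFunctor X.Modules 0).obj F)⟦(d : ℤ)⟧) (-(d : ℤ)) (-(d : ℤ))
      (Groth.Agent.DQCoh.isQCohD_shift (Groth.Agent.FlatBC14.isQCohD_inD F) _)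
    rwa [show -(d : ℤ) + (d : ℤ) = 0 by omega] at h'
  have hs := SerreTop.bijective_scheme A (RingBase.gS A F (d : ℤ)) (W.obj⟦(-(dA : ℤ))⟧) (RingBase.isQCohD_gS F _)
    (Groth.Agent.DQCoh.isQCohD_shift W.property _)
  let C : ((RingBase.PS A ⟶ RingBase.gS A F (d : ℤ)) →ₗ[A] (RingBase.PS A ⟶ W.obj⟦(-(dA : ℤ))⟧)) ≃
      (Coh.HH X F d →ₗ[A] Dual.HD A ω (-(dA : ℤ))) :=
    (LinearEquiv.arrowCongr (e F d) E2.symm).toEquiv
  have hall := C.bijective.comp (hs.comp (hΦ F hFq))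
  have key : ∀ (φ : F ⟶ DCoh.HD K (-(dX : ℤ))) (x : Coh.HH X F d),
      C (Linear.rightComp A (RingBase.PS A) ((DCoh.Rpush f).map (((singleFunctor X.Modules 0).map φ)⟦(d : ℤ)⟧') ≫ τ)) x =
        t (Sheaf.H.map ((SheafOfModules.toSheaf X.ringCatSheaf).map φ) d x) := by
    intro φ x
    obtain ⟨y, rfl⟩ := (e F d).surjective x
    rw [← he F _ φ d y]
    show E2.symm (((e F d).symm (e F d y)) ≫ _ ≫ τ) = E2.symm (((e _ d).symm (e _ d _)) ≫ τ)
    rw [LinearEquiv.symm_apply_apply, LinearEquiv.symm_apply_apply, Category.assoc]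
  obtain ⟨φ, hφ⟩ := hall.2 ψ
  refine ⟨φ, fun x => ?_, fun φ' hφ' => hall.1 ?_⟩
  · rw [← key, ← hφ]; rfl
  · refine LinearMap.ext fun x => ?_
    exact (key φ' x).trans ((hφ' x).symm.trans (LinearMap.congr_fun hφ x).symm)

end Groth.Agent.S1808
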