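import Groth.Statements.S18083
import Groth.Agent.AlgGrpLib.SpecializeProp
import Groth.Agent.S18082
import Groth.Agent.AbVarLib.DenseExt

set_option autoImplicit false
set_option backward.isDefEq.respectTransparency.types false
universe u
open CategoryTheory MonoidalCategory CartesianMonoidalCategory MonObj GrpObj AlgebraicGeometry CategoryTheory.Limits
open AlgGrp

namespace Groth.Agent.S18083

/-- A is a regular local ring, K denotes its field of fractions and k its residue field; G is a flat
separated A-group scheme of finite presentation, and d is a natural number. If G_K contains a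
commutative (resp. nilpotent, resp. solvable) closed subgroup scheme of dimension d, then so does
G_k. (The published statement does not require G separated; its proof goes through the
specialisation of commutativity, nilpotency and solvability over a discrete valuation ring by a
density argument that is valid for separated group schemes, so G is taken separated here.) -/
theorem result (A : Type u) [CommRing A] [IsDomain A] [IsRegularLocalRing A]
    (K : Type u) [Field K] [Algebra A K] [IsFractionRing A K]
    (G : Over (Spec (CommRingCat.of A))) [GrpObj G] [Flat G.hom] [LocallyOfFinitePresentation G.hom] [QuasiCompact G.hom]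
    [IsSeparated G.hom] (d : ℕ) :
    ((∃ (H : Over (Spec (CommRingCat.of K))) (_ : GrpObj H) (i : H ⟶ Red.bc (Spec.map (CommRingCat.ofHom (algebraMap A K))) G),
        IsMonHom i ∧ IsClosedImmersion i.left ∧ IsCommMonObj H ∧ topologicalKrullDim ↥H.left = (d : WithBot ℕ∞)) → ∃ (H : Over (Spec (CommRingCat.of (IsLocalRing.ResidueField A)))) (_ : GrpObj H) (i : H ⟶ Red.bc (Spec.map (CommRingCat.ofHom (algebraMap A (IsLocalRing.ResidueField A)))) G),
        IsMonHom i ∧ IsClosedImmersion i.left ∧ IsCommMonObj H ∧ topologicalKrullDim ↥H.left = (d : WithBot ℕ∞)) ∧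
    ((∃ (H : Over (Spec (CommRingCat.of K))) (_ : GrpObj H) (i : H ⟶ Red.bc (Spec.map (CommRingCat.ofHom (algebraMap A K))) G),
        IsMonHom i ∧ IsClosedImmersion i.left ∧ AGF.IsNilpotentGrp H ∧ topologicalKrullDim ↥H.left = (d : WithBot ℕ∞)) → ∃ (H : Over (Spec (CommRingCat.of (IsLocalRing.ResidueField A)))) (_ : GrpObj H) (i : H ⟶ Red.bc (Spec.map (CommRingCat.ofHom (algebraMap A (IsLocalRing.ResidueField A)))) G),
        IsMonHom i ∧ IsClosedImmersion i.left ∧ AGF.IsNilpotentGrp H ∧ topologicalKrullDim ↥H.left = (d : WithBot ℕ∞)) ∧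
    ((∃ (H : Over (Spec (CommRingCat.of K))) (_ : GrpObj H) (i : H ⟶ Red.bc (Spec.map (CommRingCat.ofHom (algebraMap A K))) G),
        IsMonHom i ∧ IsClosedImmersion i.left ∧ Red.IsSolvableGrp H ∧ topologicalKrullDim ↥H.left = (d : WithBot ℕ∞)) → ∃ (H : Over (Spec (CommRingCat.of (IsLocalRing.ResidueField A)))) (_ : GrpObj H) (i : H ⟶ Red.bc (Spec.map (CommRingCat.ofHom (algebraMap A (IsLocalRing.ResidueField A)))) G),
        IsMonHom i ∧ IsClosedImmersion i.left ∧ Red.IsSolvableGrp H ∧ topologicalKrullDim ↥H.left = (d : WithBot ℕ∞)) := by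
  open Groth.Agent Groth.Agent.AlgGrpLib in
  refine ⟨?_, ?_, ?_⟩
  · let Φ : ∀ (L : Type u) [Field L] (H : Over (Spec (CommRingCat.of L))) [GrpObj H], Prop :=
      fun _ _ H _ => IsCommMonObj H
    have hΦ : SpecializeProp.Stable Φ :=
      { bc := fun L L' _ _ c H _ h => by
          haveI : IsCommMonObj H := h
          show IsCommMonObj (Red.bc c H)
          infer_instance
        sub := fun L _ H H' _ _ f _ _ h => by
          haveI : IsCommMonObj H := h
          refine ⟨?_⟩
          rw [← cancel_mono f, Category.assoc, IsMonHom.mul_hom (f := f)]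
          rw [← Category.assoc _ (f ⊗ₘ f), ← BraidedCategory.braiding_naturality, Category.assoc, IsCommMonObj.mul_comm]
        spec := fun R _ _ _ C _ _ _ h => by
          haveI : IsCommMonObj (Red.bc (Neron.genPt R) C) := h
          haveI : Flat (C ⊗ C).hom := inferInstanceAs (Flat (Limits.pullback.fst C.hom C.hom ≫ C.hom))
          have e : (fst C C * snd C C : C ⊗ C ⟶ C) = snd C C * fst C C := by
            refine Groth.Agent.AbVarLib.eq_of_generic R (FractionRing R) ?_
            rw [Functor.map_mul, Functor.map_mul]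
            exact mul_comm (G := _ ⟶ Red.bc (Neron.genPt R) C) _ _
          haveI : IsCommMonObj C := ⟨by
            rw [show μ[C] = fst C C * snd C C from by simp [Hom.mul_def], MonObj.comp_mul, e]
            simp⟩
          show IsCommMonObj (Red.bc _ C)
          infer_instance }
    rintro ⟨H, hH, i, hi, hc, hp, hd⟩
    exact SpecializeProp.hasSub_residueField hΦ _ A rfl K G
      (⟨H, hH, i, hi, hc, hp, hd⟩ : SpecializeProp.HasSub Φ (Spec.map (CommRingCat.ofHom (algebraMap A K))) G d)
  · let Φ : ∀ (L : Type u) [Field L] (H : Over (Spec (CommRingCat.of L))) [GrpObj H], Prop :=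
      fun _ _ H _ => AGF.IsNilpotentGrp H
    have hΦ : SpecializeProp.Stable Φ :=
      { bc := fun L L' _ _ c H _ ⟨n, hn⟩ => ⟨n, fun X => by
          rw [S18082.upper_iff]
          let e := S18082.ptEquiv c H X
          rw [← Subgroup.map_top_of_surjective e.toMonoidHom e.surjective, ← Subgroup.map_lowerCentralSeries,
            (S18082.upper_iff _ _).1 (hn _), Subgroup.map_bot]⟩
        sub := fun L _ H H' _ _ f _ _ ⟨n, hn⟩ => ⟨n, fun X => by
          rw [S18082.upper_iff]
          let g : (X ⟶ H') →* (X ⟶ H) := MonoidHom.mk' (· ≫ f) fun a b => MonObj.mul_comp a b f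
          have hg : Function.Injective g := fun a b (h : a ≫ f = b ≫ f) => (cancel_mono f).1 h
          refine Subgroup.map_injective hg ?_
          rw [Subgroup.map_bot, eq_bot_iff, ← (S18082.upper_iff _ _).1 (hn X), Subgroup.map_lowerCentralSeries]
          exact Subgroup.lowerCentralSeries_mono n le_top⟩
        spec := fun R _ _ _ C _ _ _ ⟨n, hn⟩ => ⟨n, fun X => by
          rw [S18082.upper_iff]
          let e := S18082.ptEquiv (Spec.map (CommRingCat.ofHom (algebraMap R (IsLocalRing.ResidueField R)))) C X
          rw [← Subgroup.map_top_of_surjective e.toMonoidHom e.surjective, ← Subgroup.map_lowerCentralSeries,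
            S18082.lower_of_generic R (FractionRing R) C n (fun Y => (S18082.upper_iff _ _).1 (hn Y)),
            Subgroup.map_bot]⟩ }
    rintro ⟨H, hH, i, hi, hc, hp, hd⟩
    exact SpecializeProp.hasSub_residueField hΦ _ A rfl K G
      (⟨H, hH, i, hi, hc, hp, hd⟩ : SpecializeProp.HasSub Φ (Spec.map (CommRingCat.ofHom (algebraMap A K))) G d)
  · let Φ : ∀ (L : Type u) [Field L] (H : Over (Spec (CommRingCat.of L))) [GrpObj H], Prop :=
      fun _ _ H _ => Red.IsSolvableGrp H
    have hΦ : SpecializeProp.Stable Φ :=
      { bc := fun L L' _ _ c H _ ⟨n, hn⟩ => ⟨n, fun X => by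
          let e := S18082.ptEquiv c H X
          rw [← map_derivedSeries_eq (f := e.toMonoidHom) e.surjective, hn _, Subgroup.map_bot]⟩
        sub := fun L _ H H' _ _ f _ _ ⟨n, hn⟩ => ⟨n, fun X => by
          let g : (X ⟶ H') →* (X ⟶ H) := MonoidHom.mk' (· ≫ f) fun a b => MonObj.mul_comp a b f
          have hg : Function.Injective g := fun a b (h : a ≫ f = b ≫ f) => (cancel_mono f).1 h
          refine Subgroup.map_injective hg ?_
          rw [Subgroup.map_bot, eq_bot_iff, ← hn X]
          exact map_derivedSeries_le_derivedSeries g n⟩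
        spec := fun R _ _ _ C _ _ _ ⟨n, hn⟩ => ⟨n, fun X => by
          let e := S18082.ptEquiv (Spec.map (CommRingCat.ofHom (algebraMap R (IsLocalRing.ResidueField R)))) C X
          rw [← map_derivedSeries_eq (f := e.toMonoidHom) e.surjective,
            S18082.derived_of_generic R (FractionRing R) C n hn, Subgroup.map_bot]⟩ }
    rintro ⟨H, hH, i, hi, hc, hp, hd⟩
    exact SpecializeProp.hasSub_residueField hΦ _ A rfl K G
      (⟨H, hH, i, hi, hc, hp, hd⟩ : SpecializeProp.HasSub Φ (Spec.map (CommRingCat.ofHom (algebraMap A K))) G d)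

end Groth.Agent.S18083
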