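import Groth.Statements.S18085
import Groth.Agent.AlgGrpLib.DivisibleAffine
import Groth.Agent.AlgGrpLib.AffineImage
import Groth.Agent.CohDer1.AntiAffSmooth
import Groth.Agent.AlgGrpLib.AntiAffineMinimal
import Groth.Agent.S3293
import Groth.Agent.S18067
import Groth.Agent.S3030

set_option autoImplicit false
set_option backward.isDefEq.respectTransparency.types false
universe u
open CategoryTheory MonoidalCategory CartesianMonoidalCategory MonObj GrpObj AlgebraicGeometry CategoryTheory.Limits
open AlgGrp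

namespace Groth.Agent.S18085

/-- Let k be a field and G a connected k-group scheme of finite type, with G_aff = N (the smallest
normal connected affine closed subgroup scheme with abelian variety quotient), G_ant = M (the
largest anti-affine closed subgroup scheme) and (G_ant)_aff = M' (the smallest connected affine
closed subgroup scheme of M with abelian variety quotient M/M' = B). Then M' is smooth and contained
in N, and (N ∩ M)/M' is finite: the image of N ∩ M in B is a finite set of points. -/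
theorem result (k : Type u) [Field k]
    (G : Over (Spec (CommRingCat.of k))) [GrpObj G] [LocallyOfFiniteType G.hom] [QuasiCompact G.hom] [ConnectedSpace ↥G.left]
    (N : Over (Spec (CommRingCat.of k))) [GrpObj N] (i : N ⟶ G) [IsMonHom i] [IsClosedImmersion i.left]
    [IsAffine N.left] [ConnectedSpace ↥N.left] (hN : AlgGrp.IsNormalHom i)
    (A : Over (Spec (CommRingCat.of k))) [GrpObj A] (q : G ⟶ A) [IsMonHom q] [Surjective q.left] [Flat q.left]
    [IsProper A.hom] [Smooth A.hom] [ConnectedSpace ↥A.left] (hq : AlgGrp.IsKernel i q)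
    (hNmin : ∀ (N₁ : Over (Spec (CommRingCat.of k))) [GrpObj N₁] (i₁ : N₁ ⟶ G) [IsMonHom i₁] [IsClosedImmersion i₁.left]
    [IsAffine N₁.left] [ConnectedSpace ↥N₁.left] (A₁ : Over (Spec (CommRingCat.of k))) [GrpObj A₁] (q₁ : G ⟶ A₁) [IsMonHom q₁]
      [Surjective q₁.left] [Flat q₁.left] [IsProper A₁.hom] [Smooth A₁.hom] [ConnectedSpace ↥A₁.left],
      AlgGrp.IsNormalHom i₁ → AlgGrp.IsKernel i₁ q₁ → ∃ g : N ⟶ N₁, g ≫ i₁ = i)
    (M : Over (Spec (CommRingCat.of k))) [GrpObj M] [LocallyOfFiniteType M.hom] [QuasiCompact M.hom] (j : M ⟶ G) [IsMonHom j] [IsClosedImmersion j.left]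
    (hM : Function.Bijective ((Scheme.ΓSpecIso (CommRingCat.of k)).inv ≫ M.hom.appTop).hom)
    (hMmax : ∀ (M₁ : Over (Spec (CommRingCat.of k))) [GrpObj M₁] [LocallyOfFiniteType M₁.hom] [QuasiCompact M₁.hom] (j₁ : M₁ ⟶ G) [IsMonHom j₁] [IsClosedImmersion j₁.left],
      Function.Bijective ((Scheme.ΓSpecIso (CommRingCat.of k)).inv ≫ M₁.hom.appTop).hom → ∃ g : M₁ ⟶ M, g ≫ j = j₁)
    (M' : Over (Spec (CommRingCat.of k))) [GrpObj M'] (m : M' ⟶ M) [IsMonHom m] [IsClosedImmersion m.left]
    [IsAffine M'.left] [ConnectedSpace ↥M'.left]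
    (B : Over (Spec (CommRingCat.of k))) [GrpObj B] (r : M ⟶ B) [IsMonHom r] [Surjective r.left] [Flat r.left]
    [IsProper B.hom] [Smooth B.hom] [ConnectedSpace ↥B.left] (hr : AlgGrp.IsKernel m r)
    (hM'min : ∀ (M₂ : Over (Spec (CommRingCat.of k))) [GrpObj M₂] (m₂ : M₂ ⟶ M) [IsMonHom m₂] [IsClosedImmersion m₂.left]
    [IsAffine M₂.left] [ConnectedSpace ↥M₂.left] (B₂ : Over (Spec (CommRingCat.of k))) [GrpObj B₂] (r₂ : M ⟶ B₂) [IsMonHom r₂]
      [Surjective r₂.left] [Flat r₂.left] [IsProper B₂.hom] [Smooth B₂.hom] [ConnectedSpace ↥B₂.left],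
      AlgGrp.IsKernel m₂ r₂ → ∃ g : M' ⟶ M₂, g ≫ m₂ = m)
    (P : Over (Spec (CommRingCat.of k))) (p₁ : P ⟶ N) (p₂ : P ⟶ M) (hP : IsPullback p₁ p₂ i j) :
    Smooth M'.hom ∧ (∃ g : M' ⟶ N, g ≫ i = m ≫ j) ∧ (Set.range ⇑(p₂ ≫ r).left.base).Finite := by
  haveI : LocallyOfFiniteType A.hom := inferInstance
  haveI : IsSeparated G.hom := SGA3xLib.isSeparated_of_grpObj G
  haveI : IsSeparated M.hom := SGA3xLib.isSeparated_of_grpObj M
  obtain ⟨hMc, hMcomm⟩ := Groth.Agent.S3293.result k M hM
  haveI := hMc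
  haveI := hMcomm
  haveI : Smooth M.hom := CohDer1.AntiAff.smooth M (AlgGrpLib.AntiAffineMinimal.bijective_appTop_of hM)
  haveI : Mono m := Over.mono_of_mono_left m
  haveI : LocallyOfFiniteType M'.hom := by rw [← Over.w m]; infer_instance
  haveI : QuasiCompact M'.hom := inferInstance
  haveI : IsCommMonObj M' := ⟨by
    rw [← cancel_mono m, Category.assoc, IsMonHom.mul_hom, ← BraidedCategory.braiding_naturality_assoc, IsCommMonObj.mul_comm]⟩
  have hpow : ∀ n : ℕ, 0 < n → Flat ((𝟙 M' : M' ⟶ M') ^ n).left ∧ Surjective ((𝟙 M' : M' ⟶ M') ^ n).left := by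
    intro n hn
    let φ : M ⟶ M := (𝟙 M) ^ n
    haveI : IsMonHom φ := SGA3cLib.BCPoints.isMonHom_of_mul φ fun T x y => by
      simp only [φ, MonObj.comp_pow, Category.comp_id]
      exact Commute.mul_pow (((isCommMonObj_iff_isMulCommutative M).1 inferInstance T).is_comm.comm x y) n
    haveI hφs : Surjective φ.left := by
      have h := (Groth.Agent.S18067.result k M hM n (by exact_mod_cast hn.ne')).1
      rwa [zpow_natCast] at h
    let pw : M' ⟶ M' := (𝟙 M') ^ n
    haveI : IsMonHom pw := SGA3cLib.BCPoints.isMonHom_of_mul pw fun T x y => by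
      simp only [pw, MonObj.comp_pow, Category.comp_id]
      exact Commute.mul_pow (((isCommMonObj_iff_isMulCommutative M').1 inferInstance T).is_comm.comm x y) n
    have hmφ : pw ≫ m = m ≫ φ := by
      simp only [pw, φ, MonObj.pow_comp, MonObj.comp_pow, Category.id_comp, Category.comp_id]
    obtain ⟨M'', gM'', q0, g, Nk, gNk, i0, hq0, hg, hi0, hgc, hM''aff, hM''lft, hq0f, hq0s, hqg, hk', hk⟩ :=
      AlgGrpLib.AffineImage.exists_image (m ≫ φ)
    letI := gM''
    letI := gNk
    haveI := hq0
    haveI := hg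
    haveI := hi0
    haveI := hgc
    haveI := hM''aff
    haveI := hM''lft
    haveI := hq0f
    haveI := hq0s
    haveI : QuasiCompact q0.left := AlgGrpLib.quasiCompact_left q0
    haveI : Epi q0.left := Flat.epi_of_flat_of_surjective _
    haveI : Epi q0 := Over.epi_of_epi_left _
    haveI : Mono g := Over.mono_of_mono_left g
    haveI : ConnectedSpace ↥M''.left := q0.left.surjective.connectedSpace q0.left.continuous
    haveI : Flat M''.hom := CubeLib.flat_of_field _
    haveI : Flat M.hom := CubeLib.flat_of_field _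
    obtain ⟨Q2, gQ2, π, hπ, hπf, hπs, -, hkπ, hQsep, -, hQsm⟩ := Groth.Agent.S3030.result k M'' M g (fun T x y => ⟨y, by
      rw [((isCommMonObj_iff_isMulCommutative M).1 inferInstance T).is_comm.comm x (y ≫ g), mul_inv_cancel_right]⟩)
    letI := gQ2
    haveI := hπ
    haveI := hπf
    haveI := hπs
    haveI := hQsep
    haveI : Smooth Q2.hom := hQsm inferInstance
    haveI : ConnectedSpace ↥Q2.left := π.left.surjective.connectedSpace π.left.continuous
    haveI : IsMonHom (φ ≫ π) := inferInstance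
    haveI : QuasiCompact r.left := AlgGrpLib.quasiCompact_left r
    obtain ⟨h, hh⟩ := AlgGrpLib.ExactSeqBasics.exists_desc r hr (φ ≫ π) (by
      rw [← Category.assoc, ← hqg, Category.assoc, AlgGrpLib.kernel_comp hkπ, MonObj.comp_one])
    haveI : Surjective h.left := by
      haveI : Surjective (r.left ≫ h.left) := by rw [← Over.comp_left, hh, Over.comp_left]; infer_instance
      exact Surjective.of_comp r.left _
    haveI : UniversallyClosed Q2.hom := by
      haveI : UniversallyClosed (h.left ≫ Q2.hom) := by rw [Over.w h]; infer_instance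
      exact UniversallyClosed.of_comp_surjective h.left Q2.hom
    haveI : IsProper Q2.hom := {}
    obtain ⟨g', hg'⟩ := hM'min M'' g Q2 π hkπ
    obtain ⟨f, hf⟩ := AlgGrpLib.ExactSeqBasics.exists_desc q0 hk' pw (by
      rw [← cancel_mono m, Category.assoc, hmφ, AlgGrpLib.kernel_comp hk, MonObj.one_comp])
    have hfm : f ≫ m = g := by rw [← cancel_epi q0, ← Category.assoc, hf, hmφ, hqg]
    haveI : IsIso f := ⟨g', by rw [← cancel_mono g, Category.assoc, hg', hfm, Category.id_comp],
      by rw [← cancel_mono m, Category.assoc, hfm, hg', Category.id_comp]⟩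
    haveI : IsIso f.left := inferInstanceAs (IsIso ((Over.forget _).map f))
    show Flat pw.left ∧ Surjective pw.left
    rw [← hf, Over.comp_left]
    exact ⟨inferInstance, inferInstance⟩
  haveI hsm : Smooth M'.hom := AlgGrpLib.DivisibleAffine.smooth_of_pow_flat M' hpow
  haveI : IsReduced M'.left := AbSchLib.isReduced_of_smooth M'.hom
  obtain ⟨g, hg⟩ := AlgGrpLib.exists_lift_kernel hq (g := m ≫ j) (by
    rw [Category.assoc]
    exact AlgGrpLib.AffineToProper.eq_one_of_affine_to_proper (m ≫ j ≫ q))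
  refine ⟨hsm, ⟨g, hg⟩, ?_⟩
  haveI : Mono i := Over.mono_of_mono_left i
  obtain ⟨gP, h1, h2⟩ := GrpQ26.exists_grpObj_preimage j i
  let P' := Limits.pullback i j
  let e : P ≅ P' := hP.isoPullback
  let s₁ : P' ⟶ N := Limits.pullback.fst i j
  let s₂ : P' ⟶ M := Limits.pullback.snd i j
  letI := gP
  haveI : IsMonHom s₂ := h2
  have sq : IsPullback s₁.left s₂.left i.left j.left := (IsPullback.of_hasPullback i j).map (Over.forget _)
  haveI : IsClosedImmersion s₁.left := MorphismProperty.of_isPullback sq.flip ‹IsClosedImmersion j.left›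
  haveI : IsAffine P'.left := isAffine_of_isAffineHom s₁.left
  haveI : IsClosedImmersion s₂.left := MorphismProperty.of_isPullback sq ‹IsClosedImmersion i.left›
  haveI : LocallyOfFiniteType P'.hom := by rw [← Over.w s₂]; infer_instance
  haveI : LocallyOfFiniteType B.hom := inferInstance
  obtain ⟨Q, gQ, qP, gi, Nk, gNk, i0, hqP, hgi, -, hgic, hQaff, hQlft, -, -, hqgi, -, -⟩ :=
    AlgGrpLib.AffineImage.exists_image (s₂ ≫ r)
  haveI := hgic
  haveI := hQaff
  haveI := hQlft
  haveI : IsProper Q.hom := by rw [← Over.w gi]; infer_instance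
  haveI : IsAffineHom Q.hom := inferInstance
  haveI : IsFinite Q.hom := (IsFinite.iff_isProper_and_isAffineHom).2 ⟨inferInstance, inferInstance⟩
  haveI : Finite ↥Q.left := by
    have h := Q.hom.finite_preimage_singleton (IsLocalRing.closedPoint k)
    exact Set.finite_univ_iff.1 (h.subset fun x _ => Subsingleton.elim (α := PrimeSpectrum k) _ _)
  have hp2 : p₂ ≫ r = (e.hom ≫ qP) ≫ gi := by
    rw [Category.assoc, hqgi, ← Category.assoc]
    congr 1
    exact (hP.isoPullback_hom_snd).symm
  rw [hp2]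
  refine (Set.finite_range gi.left).subset ?_
  rintro _ ⟨x, rfl⟩
  exact ⟨_, rfl⟩

end Groth.Agent.S18085
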