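import Groth.Statements.S18095
import Groth.Agent.AlgGrpLib.IsogenyBC
import Groth.Agent.S7997

set_option autoImplicit false
set_option backward.isDefEq.respectTransparency.types false
universe u
open CategoryTheory MonoidalCategory CartesianMonoidalCategory MonObj GrpObj AlgebraicGeometry CategoryTheory.Limits
open AlgGrp

namespace Groth.Agent.S18095

/-- Let k be a field with algebraic closure k̄ and f : G → H an isogeny of algebraic k-groups (a
surjective homomorphism of k-group schemes of finite type with finite kernel, i.e. surjective and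
finite). Then for every d, G_{k̄} contains a smooth connected solvable closed subgroup of dimension
at least d if and only if H_{k̄} does; that is, d'_s(G) = d'_s(H). -/
theorem result (k : Type u) [Field k]
    (G H : Over (Spec (CommRingCat.of k))) [GrpObj G] [LocallyOfFiniteType G.hom] [QuasiCompact G.hom]
    [GrpObj H] [LocallyOfFiniteType H.hom] [QuasiCompact H.hom]
    (f : G ⟶ H) [IsMonHom f] [Surjective f.left] [IsFinite f.left] (d : ℕ) :
    (∃ (U : Over (Spec (CommRingCat.of (AlgebraicClosure k)))) (_ : GrpObj U) (i : U ⟶ Red.bc (Spec.map (CommRingCat.ofHom (algebraMap k (AlgebraicClosure k)))) G), IsMonHom i ∧ IsClosedImmersion i.left ∧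
        Smooth U.hom ∧ ConnectedSpace ↥U.left ∧ Red.IsSolvableGrp U ∧ (d : WithBot ℕ∞) ≤ topologicalKrullDim ↥U.left) ↔
    (∃ (U : Over (Spec (CommRingCat.of (AlgebraicClosure k)))) (_ : GrpObj U) (i : U ⟶ Red.bc (Spec.map (CommRingCat.ofHom (algebraMap k (AlgebraicClosure k)))) H), IsMonHom i ∧ IsClosedImmersion i.left ∧
        Smooth U.hom ∧ ConnectedSpace ↥U.left ∧ Red.IsSolvableGrp U ∧ (d : WithBot ℕ∞) ≤ topologicalKrullDim ↥U.left) := by
  let g : Spec (CommRingCat.of (AlgebraicClosure k)) ⟶ Spec (CommRingCat.of k) :=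
    Spec.map (CommRingCat.ofHom (algebraMap k (AlgebraicClosure k)))
  obtain ⟨hm, hfin, hs⟩ := Groth.Agent.AlgGrpLib.IsogenyBC.bc_isogeny g G f
  haveI := hm
  haveI := hfin
  haveI := hs
  haveI : LocallyOfFiniteType (Red.bc g G).hom := inferInstanceAs (LocallyOfFiniteType (pullback.snd G.hom g))
  haveI : LocallyOfFiniteType (Red.bc g H).hom := inferInstanceAs (LocallyOfFiniteType (pullback.snd H.hom g))
  haveI : QuasiCompact (Red.bc g G).hom := inferInstanceAs (QuasiCompact (pullback.snd G.hom g))
  haveI : QuasiCompact (Red.bc g H).hom := inferInstanceAs (QuasiCompact (pullback.snd H.hom g))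
  constructor
  · rintro ⟨U, gU, i, hi, hic, hU, hUc, hP, hd⟩
    letI := gU
    haveI := hi
    haveI := hic
    haveI := hU
    haveI := hUc
    obtain ⟨V, gV, j, p, hj, hjc, hV, hVq, hVc, hp, hps, hpf, hpfin, hdim⟩ :=
      Groth.Agent.AlgGrpLib.IsogenySub.exists_image_sub ((Over.pullback g).map f) i
    letI := gV
    haveI := hV
    haveI := hVq
    haveI := hVc
    haveI := hp
    haveI := hps
    haveI := hpf
    haveI : QuasiCompact U.hom := by rw [← Over.w i]; infer_instance
    have hP := Groth.Agent.S7997.result _ U V p hP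
    exact ⟨V, gV, j, hj, hjc, hV, hVc, hP, hdim ▸ hd⟩
  · rintro ⟨V, gV, j, hj, hjc, hV, hUc, hP, hd⟩
    letI := gV
    haveI := hj
    haveI := hjc
    haveI := hV
    haveI := hUc
    obtain ⟨U, gU, i, p, hi, hic, hU', hUq, hUc', hp, hps, hpf, hpfin, hdim⟩ :=
      Groth.Agent.AlgGrpLib.IsogenySub.exists_preimage_sub ((Over.pullback g).map f) j
    letI := gU
    haveI := hU'
    haveI := hUq
    haveI := hUc'
    haveI := hp
    haveI := hps
    haveI := hpfin
    haveI : QuasiCompact V.hom := by rw [← Over.w j]; infer_instance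
    have hP := Groth.Agent.AlgGrpLib.IsogenyProps.solvable_of_finite p hP
    exact ⟨U, gU, i, hi, hic, hU', hUc', hP, hdim.symm ▸ hd⟩

end Groth.Agent.S18095
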