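import Groth.Statements.S18100
import Groth.Agent.AlgGrpLib.DiffSubgroup

set_option autoImplicit false
set_option backward.isDefEq.respectTransparency.types false
universe u
open CategoryTheory MonoidalCategory CartesianMonoidalCategory MonObj GrpObj AlgebraicGeometry CategoryTheory.Limits
open AlgGrp

namespace Groth.Agent.S18100

/-- Let k be a field and G a non-trivial anti-affine k-group scheme of finite type with no anti-affine
closed subgroup scheme other than G and the trivial one. Then G is either an abelian variety (proper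
over k), or every complete subvariety of G has dimension zero: any closed subscheme of G that is
geometrically integral and proper over k has dimension 0. -/
theorem result (k : Type u) [Field k]
    (G : Over (Spec (CommRingCat.of k))) [GrpObj G] [LocallyOfFiniteType G.hom] [QuasiCompact G.hom] (hG : ¬ Red.IsTrivialGrp G)
    (hGa : Function.Bijective ((Scheme.ΓSpecIso (CommRingCat.of k)).inv ≫ G.hom.appTop).hom)
    (hmin : ∀ (H : Over (Spec (CommRingCat.of k))) [GrpObj H] (h : H ⟶ G) [IsMonHom h] [IsClosedImmersion h.left], ¬ IsIso h → Function.Bijective ((Scheme.ΓSpecIso (CommRingCat.of k)).inv ≫ H.hom.appTop).hom → Red.IsTrivialGrp H) :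
    IsProper G.hom ∨
      ∀ (Z : Over (Spec (CommRingCat.of k))) (z : Z ⟶ G) [IsClosedImmersion z.left] [IsProper Z.hom] [GeometricallyIntegral Z.hom],
        topologicalKrullDim ↥Z.left = 0 := by
  by_cases hp : IsProper G.hom
  · exact Or.inl hp
  refine Or.inr fun Z z _ _ _ => ?_
  obtain ⟨H, _, i, d, hi, hci, hprop, -, -, hbij, hd⟩ := AlgGrpLib.DiffSubgroup.exists_diff_subgroup G Z z
  have hni : ¬ IsIso i := fun h => by
    haveI := h
    refine hp ?_
    rw [← Over.w (inv i)]
    haveI : IsIso (inv i).left := inferInstanceAs (IsIso ((Over.forget _).map (inv i)))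
    infer_instance
  have hH : Red.IsTrivialGrp H := hmin H i hni (by
    rw [CommRingCat.hom_comp, RingHom.coe_comp]
    exact Function.Bijective.comp hbij (ConcreteCategory.bijective_of_isIso (Scheme.ΓSpecIso (CommRingCat.of k)).inv))
  haveI : IsIso H.hom := hH
  have hd1 : d = 1 := Over.OverMorphism.ext (by rw [← cancel_mono H.hom, Over.w, Over.w])
  rw [hd1, MonObj.one_comp] at hd
  have hfs : fst Z Z ≫ z = snd Z Z ≫ z := mul_inv_eq_one.1 hd.symm
  haveI : Mono z := Over.mono_of_mono_left z
  rw [cancel_mono] at hfs
  haveI : Subsingleton ↥(Spec (CommRingCat.of k)) := inferInstanceAs (Subsingleton (PrimeSpectrum k))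
  haveI : Subsingleton Z.left := ⟨fun x y => by
    obtain ⟨w, hw1, hw2⟩ := Scheme.Pullback.exists_preimage_pullback (f := Z.hom) (g := Z.hom) x y (Subsingleton.elim _ _)
    rw [← hw1, ← hw2]
    exact congrArg (fun q : Z ⊗ Z ⟶ Z => q.left w) hfs⟩
  haveI : Nonempty Z.left := ⟨(Z.hom.surjective (IsLocalRing.closedPoint k)).choose⟩
  haveI : Subsingleton (TopologicalSpace.IrreducibleCloseds ↥Z.left) := ⟨fun a b =>
    TopologicalSpace.IrreducibleCloseds.ext ((Subsingleton.eq_univ_of_nonempty a.isIrreducible'.1).trans (Subsingleton.eq_univ_of_nonempty b.isIrreducible'.1).symm)⟩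
  haveI : Nonempty (TopologicalSpace.IrreducibleCloseds ↥Z.left) :=
    ⟨⟨Set.univ, (Subsingleton.eq_univ_of_nonempty (Set.singleton_nonempty (Classical.arbitrary ↥Z.left))) ▸ isIrreducible_singleton, isClosed_univ⟩⟩
  exact Order.krullDim_eq_zero

end Groth.Agent.S18100
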