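import Groth.Statements.S18101
import Groth.Agent.AlgGrpLib.RepOfHom
import Groth.Agent.S18096
import Groth.Agent.GrassLib.OverPoints
import Groth.Agent.AbVarLib.GeomIntegralSmooth
import Groth.Agent.SGA3cLib.GeomConn
import Groth.Agent.AlgGrpLib.AntiAffine
import Groth.Agent.AlgGrpLib.AntiAffinePoints

set_option backward.isDefEq.respectTransparency.types false
open Groth.Agent.AlgGrpLib Groth.Agent.AlgGrpLib.GLnPoints Groth.Agent.AlgGrpLib.RepOfHom
open scoped TensorProduct

set_option autoImplicit false
universe u
open CategoryTheory MonoidalCategory CartesianMonoidalCategory MonObj GrpObj AlgebraicGeometry CategoryTheory.Limits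
open AlgGrp

namespace Groth.Agent.S18101

/-- Let k be a field and G a k-group scheme of finite type. Then G is anti-affine, i.e. O(G) = k, if and
only if every action of G on a variety having a fixed point is trivial; the fixed point is taken
k-rational here (the published condition allows any closed fixed point, which gives a formally
stronger necessary condition; the equivalence with a rational fixed point is what the published
argument through linear representations yields). -/
theorem result (k : Type u) [Field k]
    (G : Over (Spec (CommRingCat.of k))) [GrpObj G] [LocallyOfFiniteType G.hom] [QuasiCompact G.hom] :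
    Function.Bijective ((Scheme.ΓSpecIso (CommRingCat.of k)).inv ≫ G.hom.appTop).hom ↔
      ∀ (X : Over (Spec (CommRingCat.of k))) [LocallyOfFiniteType X.hom] [QuasiCompact X.hom] [IsSeparated X.hom] [GeometricallyIntegral X.hom]
        (a : AlgGrp.Action G X) (x : 𝟙_ (Over (Spec (CommRingCat.of k))) ⟶ X), a.IsFixedPt x → a.act = snd G X := by
  haveI : CompactSpace G.left := QuasiCompact.compactSpace_of_compactSpace G.hom
  haveI : IsLocallyNoetherian G.left := LocallyOfFiniteType.isLocallyNoetherian G.hom
  haveI : QuasiSeparatedSpace G.left := inferInstance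
  have hbij : Function.Bijective ((Scheme.ΓSpecIso (CommRingCat.of k)).inv ≫ G.hom.appTop).hom →
      Function.Bijective G.hom.appTop := fun h =>
    (Function.Bijective.of_comp_iff G.hom.appTop
      (ConcreteCategory.bijective_of_isIso (Scheme.ΓSpecIso (CommRingCat.of k)).inv)).1 h
  refine ⟨fun hG X _ _ _ _ a x hx => ?_, fun h => ?_⟩
  · haveI : IsIntegral X.left := GeometricallyIntegral.isIntegral_of_subsingleton X.hom
    haveI : IsLocallyNoetherian X.left := LocallyOfFiniteType.isLocallyNoetherian X.hom
    have key := eq_snd_of_antiAffine (hbij hG) η[G] x a.act (by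
      have e1 : G ◁ x = lift (fst G _) (toUnit (G ⊗ 𝟙_ _) ≫ x) := by
        refine CartesianMonoidalCategory.hom_ext _ _ (by simp) ?_
        rw [whiskerLeft_snd, lift_snd, toUnit_unique (toUnit _) (snd G _)]
      have h2 := hx (𝟙_ _) η[G]
      rw [toUnit_unique (toUnit (𝟙_ _)) (𝟙 _), Category.id_comp] at h2
      rw [e1, hx, h2])
    rw [key]
    have h3 : lift (toUnit X ≫ η[G]) (𝟙 X) = (λ_ X).inv ≫ (η[G] ▷ X) := by ext <;> simp
    rw [h3, Category.assoc, a.one_act, Iso.inv_hom_id, Category.comp_id]
  · rw [Groth.Agent.S18096.result k G]
    intro n ρ hρ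
    obtain ⟨a, o, ho, htriv⟩ := exists_linear_action ρ
    haveI : IsAffine (affSp k n).left := inferInstanceAs (IsAffine (Spec _))
    haveI : IsAffineHom (affSp k n).hom := inferInstanceAs (IsAffineHom (Spec.map _))
    haveI : IsSeparated (affSp k n).hom := inferInstance
    haveI : LocallyOfFiniteType (affSp k n).hom :=
      (HasRingHomProperty.Spec_iff (P := @LocallyOfFiniteType)
        (φ := CommRingCat.ofHom (algebraMap k (MvPolynomial (Fin n) k)))).2
        (RingHom.finiteType_algebraMap.2 inferInstance)
    haveI hI : IsIntegral (affSp k n).left := inferInstanceAs (IsIntegral (Spec (CommRingCat.of (MvPolynomial (Fin n) k))))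
    haveI : Algebra.Smooth k (MvPolynomial (Fin n) k) := ⟨inferInstance, inferInstance⟩
    haveI : Smooth (affSp k n).hom :=
      (HasRingHomProperty.Spec_iff (P := @Smooth) (φ := CommRingCat.ofHom (algebraMap k (MvPolynomial (Fin n) k)))).2
        (RingHom.smooth_algebraMap.2 inferInstance)
    haveI : GeometricallyConnected (affSp k n).hom := by
      have h' := Groth.Agent.SGA3cLib.geometricallyConnected_of_rational_point k (affSp k n).hom (𝟙 _) o.left (Over.w o)
        (by simp)
      rwa [Category.id_comp] at h'
    haveI : GeometricallyIntegral (affSp k n).hom := Groth.Agent.AbVarLib.geometricallyIntegral_of_smooth _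
    exact htriv (h (affSp k n) a o ho)

end Groth.Agent.S18101
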