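import Groth.Statements.S18110
import Groth.Agent.CartierOne9.Local
-- import your own Groth.Agent.* helpers here

set_option autoImplicit false
set_option maxHeartbeats 2000000
universe u
open DeRham

namespace Groth.Agent.S18110

open exteriorPower in
/-- Let p be a prime, A a perfect ring of characteristic p (its Frobenius is bijective), B a smooth
A-algebra, and d a de Rham differential on the exterior powers of Ω_{B/A} (a degreewise family
obeying the de Rham rule with d ∘ d = 0). Then there is exactly one additive map C from the closed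
1-forms (the kernel of d in degree 1) to the 1-forms such that C(f^p ω) = f C(ω) for f in B and ω
closed, C(ω) = 0 if and only if ω is exact, and C(f^{p-1} df) = df for f in B. (The source states
this for all degrees r at once on a smooth scheme over a perfect base, with two further conditions,
C(1) = 1 in degree 0 and multiplicativity for wedge products of closed forms, which involve other
degrees; this row is the degree-one, affine case, where those two conditions are empty.) -/
theorem result
    (p : ℕ) [Fact p.Prime] (A B : Type u) [CommRing A] [CharP A p] [PerfectRing A p]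
    [CommRing B] [Algebra A B] [Algebra.Smooth A B]
    (d : ∀ q : ℕ, ↥(⋀[B]^q (Ω[B⁄A])) →ₗ[A] ↥(⋀[B]^(q + 1) (Ω[B⁄A])))
    (hd : DeRham.IsDiff (KaehlerDifferential.D A B) d) :
    ∃! C : ↥(DeRham.cocycles d 1) →+ ↥(⋀[B]^1 (Ω[B⁄A])),
      (∀ (f : B) (ω ω' : ↥(DeRham.cocycles d 1)),
          (ω' : ↥(⋀[B]^1 (Ω[B⁄A]))) = f ^ p • (ω : ↥(⋀[B]^1 (Ω[B⁄A]))) → C ω' = f • C ω) ∧
      (∀ ω : ↥(DeRham.cocycles d 1), C ω = 0 ↔ (ω : ↥(⋀[B]^1 (Ω[B⁄A]))) ∈ DeRham.coboundaries d 1) ∧
      (∀ (f : B) (ω : ↥(DeRham.cocycles d 1)),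
          (ω : ↥(⋀[B]^1 (Ω[B⁄A]))) = f ^ (p - 1) • d 0 ((exteriorPower.zeroEquiv B (Ω[B⁄A])).symm f) →
            C ω = d 0 ((exteriorPower.zeroEquiv B (Ω[B⁄A])).symm f)) := by
  classical
  have hp : p.Prime := Fact.out
  rcases subsingleton_or_nontrivial B with hsub | hnt
  · haveI : Subsingleton ↥(⋀[B]^1 (Ω[B⁄A])) := Module.subsingleton B _
    exact ⟨0, ⟨fun _ _ _ _ => Subsingleton.elim _ _,
      fun ω => iff_of_true (Subsingleton.elim _ _) (by rw [Subsingleton.elim (ω : ↥(⋀[B]^1 (Ω[B⁄A]))) 0]; exact zero_mem _),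
      fun _ _ _ => Subsingleton.elim _ _⟩,
      fun C' _ => AddMonoidHom.ext fun _ => Subsingleton.elim _ _⟩
  haveI : CharP B p := ringChar.of_eq (CharP.ringChar_of_prime_eq_zero hp
    (by rw [← map_natCast (algebraMap A B), CharP.cast_eq_zero A p, map_zero]))
  let one := exteriorPower.oneEquiv B (Ω[B⁄A])
  let z := fun f : B => (exteriorPower.zeroEquiv B (Ω[B⁄A])).symm f
  let γ := Groth.Agent.CartierOne9.gamma p A B
  let mk := Groth.Agent.CartierOne9.mkN p A B
  have hone : ∀ x : Ω[B⁄A], one.symm x = exteriorPower.ιMulti B 1 (fun _ => x) := fun x =>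
    one.symm_apply_eq.2 (exteriorPower.oneEquiv_ιMulti (R := B) (fun _ : Fin 1 => x)).symm
  have hd0 : ∀ f, d 0 (z f) = one.symm (KaehlerDifferential.D A B f) := fun f => by
    have h1 := hd.1 0 f (fun i => i.elim0)
    have h2 : DeRham.gen (KaehlerDifferential.D A B) 0 f (fun i => i.elim0) = z f := by
      apply (exteriorPower.zeroEquiv B (Ω[B⁄A])).injective
      show exteriorPower.zeroEquiv B (Ω[B⁄A]) (f • exteriorPower.ιMulti B 0 _) = _
      rw [map_smul, exteriorPower.zeroEquiv_ιMulti, smul_eq_mul, mul_one]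
      exact ((exteriorPower.zeroEquiv B (Ω[B⁄A])).apply_symm_apply f).symm
    rw [← h2, h1, hone]
    congr 1
    funext i
    fin_cases i
    rfl
  have hd1 : ∀ c f, d 1 (one.symm (c • KaehlerDifferential.D A B f)) =
      exteriorPower.ιMulti B 2 ![KaehlerDifferential.D A B c, KaehlerDifferential.D A B f] := fun c f => by
    rw [map_smul, hone]
    refine (hd.1 1 c (fun _ => f)).trans ?_
    congr 1
    funext i
    fin_cases i <;> rfl
  have hspan : ∀ x : Ω[B⁄A], x ∈ Submodule.span B (Set.range (KaehlerDifferential.D A B)) := fun x => by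
    rw [KaehlerDifferential.span_range_derivation]; exact Submodule.mem_top
  have hd1p : ∀ (b : B) (x : Ω[B⁄A]), d 1 (one.symm (b ^ p • x)) = b ^ p • d 1 (one.symm x) := by
    intro b x
    suffices H : ∀ c : B, d 1 (one.symm (b ^ p • c • x)) = b ^ p • d 1 (one.symm (c • x)) by
      simpa only [one_smul] using H 1
    induction hspan x using Submodule.span_induction with
    | mem y hy =>
      obtain ⟨f, rfl⟩ := hy
      intro c
      rw [smul_smul, hd1, hd1, Groth.Agent.CartierOne9.D_pow_p_mul, AlternatingMap.map_vecCons_smul]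
    | zero => intro c; simp
    | add u v _ _ hu hv => intro c; simp only [smul_add, map_add, hu c, hv c]
    | smul e u _ hu => intro c; rw [smul_smul c e]; exact hu (c * e)
  have hclosed : ∀ f : B, d 1 (one.symm (f ^ (p - 1) • KaehlerDifferential.D A B f)) = 0 := fun f => by
    rw [hd1, Derivation.leibniz_pow, ← Nat.cast_smul_eq_nsmul B, smul_smul, AlternatingMap.map_vecCons_smul,
      (exteriorPower.ιMulti B 2).map_eq_zero_of_eq _ (i := 0) (j := 1) rfl (by decide), smul_zero]
  have hexact : ∀ ω : ↥(⋀[B]^1 (Ω[B⁄A])), ω ∈ DeRham.coboundaries d 1 ↔ mk (one ω) = 0 := by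
    intro ω
    rw [← map_zero mk, Groth.Agent.CartierOne9.mkN_eq_iff]
    constructor
    · rintro ⟨ξ, rfl⟩
      obtain ⟨f, rfl⟩ := (exteriorPower.zeroEquiv B (Ω[B⁄A])).symm.surjective ξ
      exact ⟨f, by rw [sub_zero, show d 0 ((exteriorPower.zeroEquiv B (Ω[B⁄A])).symm f) = _ from hd0 f,
        LinearEquiv.apply_symm_apply]⟩
    · rintro ⟨f, hf⟩
      exact ⟨z f, by rw [hd0, hf, sub_zero, LinearEquiv.symm_apply_apply]⟩
  have hex : ∀ ω : ↥(DeRham.cocycles d 1), ∃ η, γ η = mk (one ω) := by
    intro ω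
    refine Groth.Agent.CartierOne9.gamma_surj p A B _ fun C _ _ _ _ φ ψ hcomm => ?_
    let μ := KaehlerDifferential.map A A B C
    let lf := (φ.liftKaehlerDifferential.restrictScalars B).comp μ
    let lg := (ψ.liftKaehlerDifferential.restrictScalars B).comp μ
    let Φ : (Ω[B⁄A]) [⋀^Fin 2]→ₗ[B] C :=
      { toMultilinearMap := ((Matrix.detRowAlternating (n := Fin 2) (R := C)).toMultilinearMap.restrictScalars B).compLinearMap
          fun _ => LinearMap.pi ![lf, lg]
        map_eq_zero_of_eq' := fun v i j h hij =>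
          (Matrix.detRowAlternating (n := Fin 2) (R := C)).map_eq_zero_of_eq _ (i := i) (j := j) (by simp [h]) hij }
    let L := exteriorPower.alternatingMapLinearEquiv Φ
    have key : ∀ x : Ω[B⁄A], L (d 1 (one.symm x)) =
        φ (lg x) - ψ (lf x) := by
      intro x
      suffices H : ∀ c : B, L (d 1 (one.symm (c • x))) = φ (lg (c • x)) - ψ (lf (c • x)) by
        simpa only [one_smul] using H 1
      induction hspan x using Submodule.span_induction with
      | mem y hy =>
        obtain ⟨f, rfl⟩ := hy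
        intro c
        rw [hd1, exteriorPower.alternatingMapLinearEquiv_apply_ιMulti]
        show Matrix.det (fun i => LinearMap.pi ![lf, lg] (![KaehlerDifferential.D A B c, KaehlerDifferential.D A B f] i)) = _
        refine (Matrix.det_fin_two _).trans ?_
        rw [lg.map_smul, lf.map_smul]
        simp only [LinearMap.pi_apply, Matrix.cons_val_zero, Matrix.cons_val_one, lf, lg, μ, LinearMap.comp_apply,
          LinearMap.restrictScalars_apply, KaehlerDifferential.map_D, Derivation.liftKaehlerDifferential_comp_D]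
        rw [← algebraMap_smul C c, ← algebraMap_smul C c, smul_eq_mul, smul_eq_mul, Derivation.leibniz, Derivation.leibniz,
          hcomm]
        simp only [smul_eq_mul]
        ring
      | zero => intro c; simp
      | add u v _ _ hu hv => intro c; simp only [smul_add, map_add, hu c, hv c]; ring
      | smul e u _ hu => intro c; rw [smul_smul c e]; exact hu (c * e)
    have h0 := key (one ω)
    rw [LinearEquiv.symm_apply_apply, show d 1 (ω : ↥(⋀[B]^1 (Ω[B⁄A]))) = 0 from ω.2, map_zero] at h0
    exact sub_eq_zero.1 h0.symm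
  choose C₀ hC₀ using hex
  have hinj : Function.Injective γ := Groth.Agent.CartierOne9.gamma_injective p A B
  let C : ↥(DeRham.cocycles d 1) →+ ↥(⋀[B]^1 (Ω[B⁄A])) := AddMonoidHom.mk' (fun ω => one.symm (C₀ ω)) fun ω ω' => by
    rw [← map_add]
    congr 1
    apply hinj
    rw [map_add, hC₀, hC₀, hC₀, Submodule.coe_add, map_add, map_add]
  refine ⟨C, ⟨fun f ω ω' h => ?_, fun ω => ?_, fun f ω h => ?_⟩, fun C' hC' => AddMonoidHom.ext fun ω => ?_⟩
  · show one.symm (C₀ ω') = f • one.symm (C₀ ω)
    rw [← map_smul]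
    congr 1
    apply hinj
    rw [map_smul, hC₀, hC₀, h, map_smul, Groth.Agent.CartierOne9.mkN_smul]
  · rw [hexact, ← hC₀]
    show one.symm (C₀ ω) = 0 ↔ _
    rw [LinearEquiv.map_eq_zero_iff, map_eq_zero_iff _ hinj]
  · show one.symm (C₀ ω) = d 0 (z f)
    rw [hd0]
    congr 1
    apply hinj
    rw [hC₀, h, show d 0 ((exteriorPower.zeroEquiv B (Ω[B⁄A])).symm f) = _ from hd0 f, map_smul,
      LinearEquiv.apply_symm_apply]
    simpa using (Groth.Agent.CartierOne9.gamma_smul_D p A B 1 f).symm
  · have hrep : ∀ η : Ω[B⁄A], ∃ ω' : ↥(DeRham.cocycles d 1), γ η = mk (one ω') ∧ C' ω' = one.symm η := by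
      intro η
      induction hspan η using Submodule.span_induction with
      | mem y hy =>
        obtain ⟨f, rfl⟩ := hy
        refine ⟨⟨one.symm (f ^ (p - 1) • KaehlerDifferential.D A B f), hclosed f⟩, ?_, ?_⟩
        · rw [LinearEquiv.apply_symm_apply]
          simpa using Groth.Agent.CartierOne9.gamma_smul_D p A B 1 f
        · rw [hC'.2.2 f ⟨one.symm (f ^ (p - 1) • KaehlerDifferential.D A B f), hclosed f⟩ (by
            show one.symm (f ^ (p - 1) • KaehlerDifferential.D A B f) = _
            rw [show d 0 ((exteriorPower.zeroEquiv B (Ω[B⁄A])).symm f) = _ from hd0 f, map_smul])]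
          exact hd0 f
      | zero => exact ⟨0, by simp, by simp⟩
      | add u v _ _ hu hv =>
        obtain ⟨u', h1, h2⟩ := hu
        obtain ⟨v', h3, h4⟩ := hv
        exact ⟨u' + v', by rw [map_add, h1, h3, Submodule.coe_add, map_add, map_add],
          by rw [map_add, h2, h4, map_add]⟩
      | smul b u _ hu =>
        obtain ⟨u', h1, h2⟩ := hu
        have hb : b ^ p • (u' : ↥(⋀[B]^1 (Ω[B⁄A]))) ∈ DeRham.cocycles d 1 := by
          show d 1 _ = 0
          rw [← one.symm_apply_apply (b ^ p • (u' : ↥(⋀[B]^1 (Ω[B⁄A])))), map_smul, hd1p,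
            LinearEquiv.symm_apply_apply, show d 1 (u' : ↥(⋀[B]^1 (Ω[B⁄A]))) = 0 from u'.2, smul_zero]
        refine ⟨⟨_, hb⟩, ?_, by rw [hC'.1 b u' ⟨_, hb⟩ rfl, h2, map_smul]⟩
        rw [map_smul, h1, map_smul, Groth.Agent.CartierOne9.mkN_smul]
    obtain ⟨ω', h1, h2⟩ := hrep (C₀ ω)
    have h3 : C' (ω - ω') = 0 := (hC'.2.1 _).2 ((hexact _).2 (by
      rw [Submodule.coe_sub, map_sub, map_sub, ← hC₀, ← h1, sub_self]))
    exact (sub_eq_zero.1 ((C'.map_sub ω ω').symm.trans h3)).trans h2

end Groth.Agent.S18110
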