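import Groth.Statements.S18112
import Groth.Prelude
import Mathlib.Algebra.Group.ForwardDiff
import Mathlib.LinearAlgebra.Lagrange
-- import your own Groth.Agent.* helpers here

set_option autoImplicit false
set_option linter.style.haveILetI false
set_option backward.isDefEq.respectTransparency.types false
universe u
open CategoryTheory CategoryTheory.Limits MonoidalCategory CartesianMonoidalCategory MonObj GrpObj AlgebraicGeometry
open AbVar

namespace Groth.Agent.S18112

open CategoryTheory CategoryTheory.Limits MonObj AlgebraicGeometry in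
open Groth.Agent in
/-- Let k be an algebraically closed field of characteristic zero, A an abelian variety over k (a proper
smooth k-group scheme with geometrically connected fibres) of dimension g, (A^t, φ) a given dual
abelian variety of A for the fppf topology with A^t itself an abelian variety, and P an invertible
module on A ×_k A^t whose class is a Poincaré class; for a k-point α of A^t write P_α for the
restriction of P to A × {α}. Let L be an ample invertible O_A-module with an inverse L' (L ⊗ L' ≅
O_A), negative powers of L meaning powers of L'. For a coherent O_A-module G write h^i_gen(G) for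
the generic value of h^i(A, G ⊗ P_α), rendered as the minimum over all k-points α of A^t (the
generic value by semicontinuity), and for b ≥ 1 let b_A : A → A be multiplication by b. Let F be a
coherent O_A-module and i ≥ 0, and consider the i-th cohomological rank function of F with respect
to L, the function on the rationals x = a/b (b ≥ 1) with value b^{-2g} · h^i_gen(b_A^* F ⊗ L^{ab}).
Suppose that on an open interval (u, v), u < v rational, this function agrees with a polynomial Q
with rational coefficients of degree at most g. Then every coefficient of Q lies in (1/g!)ℤ, i.e. g!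
· Q has integer coefficients. (Stated for a coherent module; the source allows any object of the
bounded derived category of coherent modules. The degree bound on Q, which the source takes from the
local polynomiality of rank functions, is made a hypothesis here.) -/
theorem result (k : Type u) [Field k] [IsAlgClosed k] [CharZero k]
    (A At : Over (Spec (CommRingCat.of k))) [GrpObj A] [IsProper A.hom] [Smooth A.hom] [GeometricallyConnected A.hom]
    [GrpObj At] [IsProper At.hom] [Smooth At.hom] [GeometricallyConnected At.hom]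
    (φ : ∀ T : Over (Spec (CommRingCat.of k)), PicF.Cl (PicF.XT A.hom T) → (T ⟶ At))
    (hφ : AbDual.IsDualAV Scheme.fppfPrecoverage A At φ)
    (P : (pullback A.hom At.hom).Modules) (hP : PicF.IsInvertible P)
    (hPξ : AbDual.IsPoincareCl A At φ (PicF.cl P))
    (g : ℕ) (hg : topologicalKrullDim ↥A.left = g)
    (L L' : A.left.Modules) (hL : CohB1.IsAmple L) (hLL' : Nonempty (CohB1.tensorMod L L' ≅ Coh.structureModule A.left))
    (F : A.left.Modules) (hF : Coh.IsCoh F) (i : ℕ) (u v : ℚ) (huv : u < v)
    (Q : Polynomial ℚ) (hQ : Q.natDegree ≤ g)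
    (hpoly : ∀ (a : ℤ) (b : ℕ), 0 < b → u < (a : ℚ) / (b : ℚ) → (a : ℚ) / (b : ℚ) < v →
      ((W4c5cohrankabvar.hgen k P (W4c5cohrankabvar.twist A F L L' b (a * b)) i : ℕ) : ℚ) / (b : ℚ) ^ (2 * g) =
        Q.eval ((a : ℚ) / (b : ℚ)))
    (j : ℕ) : ∃ z : ℤ, (Nat.factorial g : ℚ) * Q.coeff j = (z : ℚ) := by
  classical
  -- values at the rationals of the interval
  have hval : ∀ (b : ℕ), 0 < b → ∀ a : ℤ, u < (a : ℚ) / (b : ℚ) → (a : ℚ) / (b : ℚ) < v →
      ∃ z : ℤ, ((b : ℚ) ^ (2 * g)) * Q.eval ((a : ℚ) / (b : ℚ)) = (z : ℚ) := by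
    intro b hb a h1 h2
    refine ⟨((W4c5cohrankabvar.hgen k P (W4c5cohrankabvar.twist A F L L' b (a * b)) i : ℕ) : ℤ), ?_⟩
    rw [← hpoly a b hb h1 h2]
    have : (b : ℚ) ≠ 0 := by exact_mod_cast hb.ne'
    push_cast
    field_simp
  clear hpoly hF hL hLL' hPξ hφ hP hg
  -- integrality from `g + 1` consecutive integer values
  have hint : ∀ (T : Polynomial ℚ), T.natDegree ≤ g → (∀ n : ℕ, n ≤ g → ∃ z : ℤ, T.eval (n : ℚ) = (z : ℚ)) →
      ∃ W : Polynomial ℤ, (Nat.factorial g : ℚ) • T = W.map (Int.castRingHom ℚ) := by
    intro T hT hz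
    choose z hz using hz
    let f : ℕ → ℤ := fun n => if h : n ≤ g then z n h else 0
    let d : ℕ → ℤ := fun l => (fwdDiff 1)^[l] f 0
    let W : Polynomial ℤ := ∑ l ∈ Finset.range (g + 1),
      ((d l) * ((g.factorial / l.factorial : ℕ) : ℤ)) • descPochhammer ℤ l
    refine ⟨W, ?_⟩
    apply Polynomial.eq_of_degrees_lt_of_eval_finset_eq
      ((Finset.range (g + 1)).image (fun n : ℕ => (n : ℚ)))
    · rw [Finset.card_image_of_injective _ Nat.cast_injective, Finset.card_range]
      refine lt_of_le_of_lt (Polynomial.degree_smul_le _ _) ?_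
      refine lt_of_le_of_lt Polynomial.degree_le_natDegree ?_
      exact_mod_cast Nat.lt_succ_of_le hT
    · rw [Finset.card_image_of_injective _ Nat.cast_injective, Finset.card_range]
      refine lt_of_le_of_lt Polynomial.degree_le_natDegree ?_
      have : (W.map (Int.castRingHom ℚ)).natDegree ≤ g := by
        refine le_trans Polynomial.natDegree_map_le ?_
        refine Polynomial.natDegree_sum_le_of_forall_le _ _ (fun l hl => ?_)
        refine le_trans (Polynomial.natDegree_smul_le _ _) ?_
        rw [descPochhammer_natDegree]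
        exact Nat.le_of_lt_succ (Finset.mem_range.1 hl)
      exact_mod_cast Nat.lt_succ_of_le this
    · intro x hx
      obtain ⟨n, hn, rfl⟩ := Finset.mem_image.1 hx
      rw [Finset.mem_range] at hn
      have hfn : f n = z n (Nat.le_of_lt_succ hn) := dif_pos _
      rw [Polynomial.eval_smul, hz n (Nat.le_of_lt_succ hn), ← hfn]
      have hs := shift_eq_sum_fwdDiff_iter (1 : ℕ) f n 0
      simp only [Nat.smul_one_eq_cast, smul_eq_mul, _root_.mul_one, zero_add, Nat.cast_id] at hs
      rw [hs]
      have hW : Polynomial.eval (n : ℚ) (W.map (Int.castRingHom ℚ)) =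
          ∑ l ∈ Finset.range (g + 1),
            ((d l : ℚ) * ((g.factorial / l.factorial : ℕ) : ℚ)) * (n.descFactorial l : ℚ) := by
        simp only [W, Polynomial.map_sum, Polynomial.eval_finsetSum, Polynomial.map_smul,
          descPochhammer_map, Polynomial.eval_smul, descPochhammer_eval_eq_descFactorial,
          smul_eq_mul]
        refine Finset.sum_congr rfl (fun l _ => ?_)
        rw [eq_intCast, Int.cast_mul, Int.cast_natCast]
      rw [hW]
      simp only [smul_eq_mul]
      push_cast
      rw [Finset.mul_sum]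
      symm
      rw [← Finset.sum_subset (Finset.range_mono hn)]
      · refine Finset.sum_congr rfl (fun l hl => ?_)
        have hl' : l ≤ g := le_trans (Nat.le_of_lt_succ (Finset.mem_range.1 hl)) (Nat.le_of_lt_succ hn)
        have hdvd : l.factorial ∣ g.factorial := Nat.factorial_dvd_factorial hl'
        rw [Nat.descFactorial_eq_factorial_mul_choose, Nat.cast_div hdvd (by exact_mod_cast l.factorial_ne_zero)]
        push_cast
        field_simp
        simp [d, _root_.mul_comm]
      · intro l _ hl
        rw [Finset.mem_range, not_lt] at hl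
        rw [Nat.descFactorial_eq_zero_iff_lt.2 (by omega)]
        simp
  -- enough room for large denominators
  obtain ⟨B, hB⟩ : ∃ B : ℕ, ((g : ℚ) + 2) / (v - u) < (B : ℚ) := exists_nat_gt _
  have hstep : ∀ b : ℕ, B < b → j ≤ g →
      ∃ z : ℤ, (Nat.factorial g : ℚ) * Q.coeff j * (b : ℚ) ^ (2 * g - j) = (z : ℚ) := by
    intro b hb hjg
    have hb0 : 0 < b := lt_of_le_of_lt (Nat.zero_le _) hb
    have hbq : (0 : ℚ) < b := by exact_mod_cast hb0
    have hroom : (g : ℚ) + 2 < (v - u) * b := by
      rw [div_lt_iff₀ (by linarith)] at hB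
      have : (B : ℚ) < b := by exact_mod_cast hb
      nlinarith
    let a₀ : ℤ := ⌊u * b⌋ + 1
    let R : Polynomial ℚ :=
      Polynomial.C ((b : ℚ) ^ (2 * g)) * Q.comp (Polynomial.C ((b : ℚ)⁻¹) * Polynomial.X)
    have hRdeg : R.natDegree ≤ g := by
      refine le_trans (Polynomial.natDegree_C_mul_le _ _) ?_
      refine le_trans Polynomial.natDegree_comp_le ?_
      refine le_trans (Nat.mul_le_mul hQ (le_trans (Polynomial.natDegree_C_mul_le _ _) Polynomial.natDegree_X_le)) ?_
      simp
    let T : Polynomial ℚ := R.comp (Polynomial.X + Polynomial.C (a₀ : ℚ))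
    have hTdeg : T.natDegree ≤ g := by
      refine le_trans Polynomial.natDegree_comp_le ?_
      refine le_trans (Nat.mul_le_mul hRdeg (le_of_eq (Polynomial.natDegree_X_add_C _))) ?_
      simp
    obtain ⟨W, hW⟩ := hint T hTdeg (by
      intro n hn
      obtain ⟨z, hz⟩ := hval b hb0 (a₀ + n) (by
          rw [lt_div_iff₀ hbq]
          have := Int.lt_floor_add_one (u * (b : ℚ))
          simp only [a₀]
          push_cast
          have : (0 : ℚ) ≤ n := Nat.cast_nonneg n
          linarith) (by
          rw [div_lt_iff₀ hbq]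
          have := Int.floor_le (u * (b : ℚ))
          simp only [a₀]
          push_cast
          have : (n : ℚ) ≤ g := by exact_mod_cast hn
          linarith)
      refine ⟨z, ?_⟩
      rw [← hz]
      simp only [T, R, Polynomial.eval_comp, Polynomial.eval_mul, Polynomial.eval_C,
        Polynomial.eval_add, Polynomial.eval_X]
      congr 2
      push_cast
      ring)
    refine ⟨(W.comp (Polynomial.X - Polynomial.C a₀)).coeff j, ?_⟩
    have hR : R = T.comp (Polynomial.X - Polynomial.C (a₀ : ℚ)) := by
      simp [T, Polynomial.comp_assoc]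
    have h2 : (Nat.factorial g : ℚ) • R =
        (W.comp (Polynomial.X - Polynomial.C a₀)).map (Int.castRingHom ℚ) := by
      rw [hR, ← Polynomial.smul_comp, hW]
      simp [Polynomial.map_comp]
    have h3 := congrArg (fun p : Polynomial ℚ => p.coeff j) h2
    simp only [Polynomial.coeff_smul, Polynomial.coeff_map, smul_eq_mul, eq_intCast, R,
      Polynomial.coeff_C_mul, Polynomial.comp_C_mul_X_coeff] at h3
    refine Eq.trans ?_ h3
    have hsplit : (b : ℚ) ^ (2 * g) = (b : ℚ) ^ (2 * g - j) * (b : ℚ) ^ j := by
      rw [← pow_add]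
      congr 1
      omega
    rw [hsplit, inv_pow]
    field_simp
  rcases Nat.lt_or_ge g j with hj | hj
  · exact ⟨0, by rw [Polynomial.coeff_eq_zero_of_natDegree_lt (lt_of_le_of_lt hQ hj)]; simp⟩
  obtain ⟨z₁, h1⟩ := hstep (B + 1) (by omega) hj
  obtain ⟨z₂, h2⟩ := hstep (B + 2) (by omega) hj
  have hco : IsCoprime (((B + 1 : ℕ) : ℤ) ^ (2 * g - j)) (((B + 2 : ℕ) : ℤ) ^ (2 * g - j)) :=
    IsCoprime.pow ⟨-1, 1, by push_cast; ring⟩
  obtain ⟨s, t, hst⟩ := hco
  refine ⟨s * z₁ + t * z₂, ?_⟩
  have hst' : (s : ℚ) * ((B + 1 : ℕ) : ℚ) ^ (2 * g - j) + (t : ℚ) * ((B + 2 : ℕ) : ℚ) ^ (2 * g - j) = 1 := by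
    exact_mod_cast hst
  push_cast
  rw [← h1, ← h2]
  calc (Nat.factorial g : ℚ) * Q.coeff j
      = (Nat.factorial g : ℚ) * Q.coeff j *
          ((s : ℚ) * ((B + 1 : ℕ) : ℚ) ^ (2 * g - j) + (t : ℚ) * ((B + 2 : ℕ) : ℚ) ^ (2 * g - j)) := by
        rw [hst', _root_.mul_one]
    _ = _ := by ring

end Groth.Agent.S18112
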