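import Groth.Statements.S18121
import Mathlib.Tactic.LinearCombination
-- import your own Groth.Agent.* helpers here

set_option autoImplicit false
universe u
open Pinch

namespace Groth.Agent.S18121

section
open Polynomial

variable {B : Type u} [CommRing B] (b : B)

lemma root_sq : AdjoinRoot.root (X ^ 2 - C b) ^ 2 = algebraMap B (AdjoinRoot (X ^ 2 - C b)) b := by
  have h : AdjoinRoot.mk (X ^ 2 - C b) (X ^ 2 - C b) = 0 := AdjoinRoot.mk_self
  rw [map_sub, map_pow, AdjoinRoot.mk_X, AdjoinRoot.mk_C] at h
  exact sub_eq_zero.1 h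

lemma exists_repr (e : AdjoinRoot (X ^ 2 - C b)) : ∃ a c : B,
    e = algebraMap B _ a + algebraMap B _ c * AdjoinRoot.root (X ^ 2 - C b) := by
  induction e using AdjoinRoot.induction_on with
  | ih p =>
    induction p using Polynomial.induction_on with
    | C a => exact ⟨a, 0, by simp [AdjoinRoot.mk_C]⟩
    | add p q hp hq =>
      obtain ⟨a, c, h⟩ := hp
      obtain ⟨a', c', h'⟩ := hq
      exact ⟨a + a', c + c', by rw [map_add, h, h']; simp only [map_add]; ring⟩
    | monomial n r hn =>
      obtain ⟨a, c, h⟩ := hn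
      refine ⟨c * b, a, ?_⟩
      rw [show C r * X ^ (n + 1) = C r * X ^ n * X by ring, map_mul, h, AdjoinRoot.mk_X, map_mul]
      linear_combination algebraMap B (AdjoinRoot (X ^ 2 - C b)) c * root_sq b

lemma repr_eq_zero {a c : B}
    (h : algebraMap B (AdjoinRoot (X ^ 2 - C b)) a + algebraMap B _ c * AdjoinRoot.root (X ^ 2 - C b) = 0) :
    a = 0 ∧ c = 0 := by
  nontriviality B
  have h' : AdjoinRoot.mk (X ^ 2 - C b) (C c * X + C a) = 0 := by
    rw [map_add, map_mul, AdjoinRoot.mk_C, AdjoinRoot.mk_C, AdjoinRoot.mk_X, add_comm]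
    exact h
  have hd := AdjoinRoot.mk_eq_zero.1 h'
  have hm : (X ^ 2 - C b).Monic := monic_X_pow_sub_C b two_ne_zero
  have hz : C c * X + C a = 0 := by
    by_contra hne
    refine hm.not_dvd_of_natDegree_lt hne ?_ hd
    rw [natDegree_X_pow_sub_C]
    exact (natDegree_linear_le.trans_lt one_lt_two)
  constructor
  · simpa using congrArg (fun q => q.coeff 0) hz
  · simpa using congrArg (fun q => q.coeff 1) hz

/-- The map `u ↦ z t`, `v ↦ t`. -/
noncomputable abbrev psi : MvPolynomial (Fin 2) B →ₐ[B] (AdjoinRoot (X ^ 2 - C b))[X] :=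
  MvPolynomial.aeval ![C (AdjoinRoot.root (X ^ 2 - C b)) * X, X]

lemma psi_aeval_X1 (P : B[X]) : psi b (aeval (MvPolynomial.X 1) P) = P.map (algebraMap B _) := by
  induction P using Polynomial.induction_on' with
  | add p q hp hq => rw [map_add, map_add, hp, hq, Polynomial.map_add]
  | monomial n a => simp [aeval_monomial, map_monomial, C_mul_X_pow_eq_monomial]

lemma exists_decomp (G : MvPolynomial (Fin 2) B) : ∃ P Q : B[X],
    G - (aeval (MvPolynomial.X 1) P + MvPolynomial.X 0 * aeval (MvPolynomial.X 1) Q) ∈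
      Ideal.span {MvPolynomial.X 0 ^ 2 - MvPolynomial.C b * MvPolynomial.X 1 ^ 2} := by
  induction G using MvPolynomial.induction_on with
  | C a => exact ⟨C a, 0, by simp⟩
  | add p q hp hq =>
    obtain ⟨P, Q, h⟩ := hp
    obtain ⟨P', Q', h'⟩ := hq
    refine ⟨P + P', Q + Q', ?_⟩
    convert add_mem h h' using 1
    simp only [map_add]
    ring
  | mul_X p i hp =>
    obtain ⟨P, Q, h⟩ := hp
    obtain ⟨d, hd⟩ := Ideal.mem_span_singleton'.1 h
    match i with
    | 0 =>
      refine ⟨C b * X ^ 2 * Q, P, Ideal.mem_span_singleton'.2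
        ⟨d * MvPolynomial.X 0 + aeval (MvPolynomial.X 1) Q, ?_⟩⟩
      simp only [map_mul, map_pow, aeval_C, aeval_X, MvPolynomial.algebraMap_eq]
      linear_combination (MvPolynomial.X 0) * hd
    | 1 =>
      refine ⟨X * P, X * Q, Ideal.mem_span_singleton'.2 ⟨d * MvPolynomial.X 1, ?_⟩⟩
      simp only [map_mul, aeval_X]
      linear_combination (MvPolynomial.X 1) * hd

end

/-- Let B be a commutative ring, b an element of B, B' := B[z]/(z^2 - b) the rank-two B-algebra with z^2
= b, and Ψ : B[u, v] → B'[t] the B-algebra homomorphism with u ↦ z t and v ↦ t. Then the kernel of Ψ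
is the principal ideal generated by u^2 - b v^2, and a polynomial of B'[t] lies in the image of Ψ as
soon as its constant coefficient lies in B. Equivalently, B[u, v]/(u^2 - b v^2) is the fibre product
of B'[t] and B over B' (for t ↦ 0 and the inclusion of B): the pinching of Spec B' × 𝔸¹ along Spec
B' × {0} by the double cover Spec B' → Spec B is the hypersurface u^2 = b v^2 over B; for B = K[w]
and b = w this is the pinch point u^2 = v^2 w. -/
theorem result (B : Type u) [CommRing B] (b : B) :
    letI Ψ : MvPolynomial (Fin 2) B →ₐ[B] Polynomial (AdjoinRoot (Polynomial.X ^ 2 - Polynomial.C b)) :=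
      MvPolynomial.aeval
        ![Polynomial.C (AdjoinRoot.root (Polynomial.X ^ 2 - Polynomial.C b)) * Polynomial.X, Polynomial.X]
    RingHom.ker Ψ.toRingHom =
        Ideal.span {MvPolynomial.X 0 ^ 2 - MvPolynomial.C b * MvPolynomial.X 1 ^ 2} ∧
      ∀ G : Polynomial (AdjoinRoot (Polynomial.X ^ 2 - Polynomial.C b)),
        (∃ c : B, G.coeff 0 = algebraMap B (AdjoinRoot (Polynomial.X ^ 2 - Polynomial.C b)) c) →
          G ∈ Ψ.range := by
  constructor
  · refine le_antisymm (fun G hG => ?_) ?_
    · obtain ⟨P, Q, h⟩ := exists_decomp b G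
      obtain ⟨d, hd⟩ := Ideal.mem_span_singleton'.1 h
      have hG' : psi b G = 0 := hG
      have h0 := congrArg (psi b) hd
      simp only [map_mul, map_sub, hG', map_add, psi_aeval_X1] at h0
      simp only [map_pow, map_mul, MvPolynomial.aeval_X, MvPolynomial.aeval_C, Matrix.cons_val_zero,
        Matrix.cons_val_one, Polynomial.algebraMap_apply, mul_pow, ← Polynomial.C_pow, root_sq,
        sub_self, mul_zero, zero_sub, zero_eq_neg] at h0
      have hc : ∀ n, P.coeff n = 0 ∧ (n = 0 ∨ Q.coeff (n - 1) = 0) := fun n => by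
        have hn := congrArg (fun q => q.coeff n) h0
        rcases n with _ | n
        · simp at hn
          exact ⟨(repr_eq_zero b (c := 0) (by simpa using hn)).1, Or.inl rfl⟩
        · simp [mul_assoc] at hn
          obtain ⟨h1, h2⟩ := repr_eq_zero b (c := Q.coeff n)
            ((congrArg _ (mul_comm _ _)).trans hn)
          exact ⟨h1, Or.inr h2⟩
      have hP : P = 0 := Polynomial.ext fun n => by simpa using (hc n).1
      have hQ : Q = 0 := Polynomial.ext fun n => by simpa using (hc (n + 1)).2.resolve_left (by omega)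
      simpa [hP, hQ] using h
    · rw [Ideal.span_le, Set.singleton_subset_iff, SetLike.mem_coe, RingHom.mem_ker]
      show psi b _ = 0
      simp [mul_pow, ← Polynomial.C_pow, root_sq]
  · intro G hG
    obtain ⟨c, hc⟩ := hG
    have hX : ∀ H : Polynomial (AdjoinRoot (Polynomial.X ^ 2 - Polynomial.C b)),
        Polynomial.X * H ∈ (psi b).range := fun H => by
      induction H using Polynomial.induction_on' with
      | add p q hp hq => rw [mul_add]; exact add_mem hp hq
      | monomial n e =>
        obtain ⟨a, c, rfl⟩ := exists_repr b e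
        refine (AlgHom.mem_range _).2 ⟨MvPolynomial.C a * MvPolynomial.X 1 ^ (n + 1) +
          MvPolynomial.C c * MvPolynomial.X 0 * MvPolynomial.X 1 ^ n, ?_⟩
        simp only [map_add, map_mul, map_pow, MvPolynomial.aeval_X, MvPolynomial.aeval_C,
          Matrix.cons_val_zero, Matrix.cons_val_one, Polynomial.algebraMap_apply,
          ← Polynomial.C_mul_X_pow_eq_monomial]
        ring
    rw [← Polynomial.X_mul_divX_add G, hc]
    exact add_mem (hX _) ((AlgHom.mem_range _).2 ⟨MvPolynomial.C c, by simp⟩)

end Groth.Agent.S18121
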