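import Groth.Statements.S18122
import Mathlib.Algebra.MvPolynomial.Division
import Mathlib.Algebra.MvPolynomial.Derivation
import Mathlib.RingTheory.Derivation.Basic
import Mathlib.Tactic.LinearCombination
-- import your own Groth.Agent.* helpers here

set_option autoImplicit false
universe u
open Pinch

namespace Groth.Agent.S18122

/-- Let K be a field in which 2 ≠ 0, S = K[x, y], and R ⊆ S the K-subalgebra generated by x^2, x y and
y; R is the coordinate ring of the pinch point u^2 = v^2 w (u = x y, v = y, w = x^2) and S is its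
normalization. Then restriction along R ⊆ S is a bijection from the K-derivations S → S onto the
K-derivations R → S: every K-derivation R → S extends uniquely to S. In sheaf terms, the natural
injective map from the tangent sheaf of the normalization to the dual of the pulled-back sheaf of
differentials of the pinch point is an isomorphism. (The text works over an algebraically closed
field of characteristic different from 2 and for every semi-smooth variety; only this model case is
stated, and the computation uses only 2 ≠ 0.) -/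
theorem result
    (K : Type u) [Field K] [NeZero (2 : K)] :
    letI R : Subalgebra K (MvPolynomial (Fin 2) K) :=
      Algebra.adjoin K {MvPolynomial.X 0 ^ 2, MvPolynomial.X 0 * MvPolynomial.X 1, MvPolynomial.X 1}
    ∀ δ : Derivation K R (MvPolynomial (Fin 2) K),
      ∃! D : Derivation K (MvPolynomial (Fin 2) K) (MvPolynomial (Fin 2) K),
        ∀ r : R, D (r : MvPolynomial (Fin 2) K) = δ r := by
  let R : Subalgebra K (MvPolynomial (Fin 2) K) :=
    Algebra.adjoin K {MvPolynomial.X 0 ^ 2, MvPolynomial.X 0 * MvPolynomial.X 1, MvPolynomial.X 1}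
  set x : MvPolynomial (Fin 2) K := MvPolynomial.X 0 with hx
  set y : MvPolynomial (Fin 2) K := MvPolynomial.X 1 with hy
  intro δ
  let a : R := ⟨x ^ 2, Algebra.subset_adjoin (by simp [hx])⟩
  let b : R := ⟨x * y, Algebra.subset_adjoin (by simp [hx, hy])⟩
  let c : R := ⟨y, Algebra.subset_adjoin (by simp [hy])⟩
  have hy0 : y ≠ 0 := MvPolynomial.X_ne_zero _
  have hx0 : x ≠ 0 := MvPolynomial.X_ne_zero _
  have two : (2 : MvPolynomial (Fin 2) K) * MvPolynomial.C ((2 : K)⁻¹) = 1 := by
    rw [← map_ofNat (MvPolynomial.C (σ := Fin 2) (R := K)) 2, ← map_mul,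
      mul_inv_cancel₀ (NeZero.ne (2 : K)), map_one]
  have hrel : 2 * x * δ b = y * δ a + 2 * x ^ 2 * δ c := by
    have h : b * b = a * (c * c) := Subtype.ext (by show (x * y) * (x * y) = x ^ 2 * (y * y); ring)
    have h' := congrArg δ h
    simp only [δ.leibniz, Subalgebra.smul_def, smul_eq_mul, MulMemClass.coe_mul, a, b, c] at h'
    refine mul_left_cancel₀ hy0 ?_
    linear_combination h'
  obtain ⟨g, hg⟩ : x ∣ δ a := by
    refine (MvPolynomial.X_prime.dvd_mul.1 (show x ∣ y * δ a from
      ⟨2 * δ b - 2 * x * δ c, by linear_combination -hrel⟩)).resolve_left fun h => ?_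
    exact absurd (MvPolynomial.X_dvd_X.1 h) (by decide)
  let D := MvPolynomial.mkDerivation K ![MvPolynomial.C ((2 : K)⁻¹) * g, δ c]
  have hDx : D x = MvPolynomial.C ((2 : K)⁻¹) * g := by
    simp [D, hx, MvPolynomial.mkDerivation_X]
  have hDy : D y = δ c := by simp [D, hy, MvPolynomial.mkDerivation_X]
  have hxx : D (x ^ 2) = δ a := by
    rw [D.leibniz_pow, hDx, hg]
    simp only [smul_eq_mul, nsmul_eq_mul, Nat.cast_ofNat, Nat.add_one_sub_one, pow_one]
    linear_combination (x * g) * two
  have hD : ∀ r : R, D (r : MvPolynomial (Fin 2) K) = δ r := by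
    rintro ⟨r, hr⟩
    induction hr using Algebra.adjoin_induction with
    | mem z hz =>
      rcases hz with rfl | rfl | rfl
      · exact hxx
      · show D (x * y) = δ b
        refine mul_left_cancel₀ (mul_ne_zero (left_ne_zero_of_mul_eq_one two) hx0 : 2 * x ≠ 0) ?_
        rw [D.leibniz, smul_eq_mul, smul_eq_mul, hDy, hDx]
        linear_combination (x * y * g) * two - hrel - y * hg
      · exact hDy
    | algebraMap k =>
      rw [show (⟨algebraMap K _ k, Subalgebra.algebraMap_mem _ k⟩ : R) = algebraMap K R k from rfl,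
        δ.map_algebraMap]
      exact D.map_algebraMap k
    | add z w hz hw ihz ihw =>
      rw [show (⟨z + w, add_mem hz hw⟩ : R) = ⟨z, hz⟩ + ⟨w, hw⟩ from rfl, map_add δ, ← ihz, ← ihw]
      exact map_add D z w
    | mul z w hz hw ihz ihw =>
      rw [show (⟨z * w, mul_mem hz hw⟩ : R) = ⟨z, hz⟩ * ⟨w, hw⟩ from rfl, δ.leibniz, ← ihz, ← ihw]
      exact D.leibniz z w
  refine ⟨D, hD, fun D' hD' => MvPolynomial.derivation_ext fun i => ?_⟩
  fin_cases i
  · refine mul_left_cancel₀ (mul_ne_zero (left_ne_zero_of_mul_eq_one two) hx0 : 2 * x ≠ 0) ?_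
    have h1 := (hD' a).trans (hD a).symm
    simp only [a, pow_two, Derivation.leibniz, smul_eq_mul] at h1
    show 2 * x * D' x = 2 * x * D x
    linear_combination h1
  · exact (hD' c).trans (hD c).symm

end Groth.Agent.S18122
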