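import Groth.Statements.S18123
import Mathlib.Algebra.Polynomial.Expand
import Mathlib.Algebra.Polynomial.Inductions
import Mathlib.RingTheory.Derivation.Basic
import Mathlib.RingTheory.Adjoin.Polynomial.Basic
import Mathlib.Tactic.LinearCombination
-- import your own Groth.Agent.* helpers here

set_option autoImplicit false
universe u
open Pinch

namespace Groth.Agent.S18123

section
open MvPolynomial

variable {K : Type u} [Field K]

/-- Restriction to the line `y = 0`. -/
noncomputable abbrev line : MvPolynomial (Fin 2) K →ₐ[K] Polynomial K :=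
  MvPolynomial.aeval ![Polynomial.X, 0]

lemma exists_line_decomp (f : MvPolynomial (Fin 2) K) :
    ∃ s, f = X 1 * s + Polynomial.aeval (X 0) (line f) := by
  induction f using MvPolynomial.induction_on with
  | C a => exact ⟨0, by simp⟩
  | add p q hp hq =>
    obtain ⟨s, hs⟩ := hp
    obtain ⟨t, ht⟩ := hq
    refine ⟨s + t, ?_⟩
    rw [map_add, map_add]
    linear_combination hs + ht
  | mul_X p i hp =>
    obtain ⟨s, hs⟩ := hp
    match i with
    | 0 =>
      refine ⟨s * X 0, ?_⟩
      simp only [map_mul, line, aeval_X, Matrix.cons_val_zero, Polynomial.aeval_X]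
      linear_combination (X 0 : MvPolynomial (Fin 2) K) * hs
    | 1 => exact ⟨p, by simp [mul_comm]⟩

lemma y_mul_mem (s : MvPolynomial (Fin 2) K) :
    X 1 * s ∈ Algebra.adjoin K ({X 0 ^ 2, X 0 * X 1, X 1} : Set (MvPolynomial (Fin 2) K)) := by
  suffices H : X 1 * s ∈ Algebra.adjoin K ({X 0 ^ 2, X 0 * X 1, X 1} : Set (MvPolynomial (Fin 2) K)) ∧
      X 0 * X 1 * s ∈ Algebra.adjoin K ({X 0 ^ 2, X 0 * X 1, X 1} : Set (MvPolynomial (Fin 2) K)) from H.1
  induction s using MvPolynomial.induction_on with
  | C a =>
    constructor <;>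
      exact mul_mem (Algebra.subset_adjoin (by simp)) (Subalgebra.algebraMap_mem _ a)
  | add p q hp hq =>
    rw [mul_add, mul_add]
    exact ⟨add_mem hp.1 hq.1, add_mem hp.2 hq.2⟩
  | mul_X p i hp =>
    match i with
    | 0 =>
      refine ⟨by convert hp.2 using 1; ring, ?_⟩
      convert mul_mem (Algebra.subset_adjoin (show X 0 ^ 2 ∈
        ({X 0 ^ 2, X 0 * X 1, X 1} : Set (MvPolynomial (Fin 2) K)) by simp)) hp.1 using 1
      ring
    | 1 =>
      constructor
      · convert mul_mem (Algebra.subset_adjoin (show X 1 ∈
          ({X 0 ^ 2, X 0 * X 1, X 1} : Set (MvPolynomial (Fin 2) K)) by simp)) hp.1 using 1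
        ring
      · convert mul_mem (Algebra.subset_adjoin (show X 1 ∈
          ({X 0 ^ 2, X 0 * X 1, X 1} : Set (MvPolynomial (Fin 2) K)) by simp)) hp.2 using 1
        ring

lemma mem_iff (f : MvPolynomial (Fin 2) K) :
    f ∈ Algebra.adjoin K ({X 0 ^ 2, X 0 * X 1, X 1} : Set (MvPolynomial (Fin 2) K)) ↔
      ∃ q : Polynomial K, line f = Polynomial.expand K 2 q := by
  constructor
  · intro hf
    have hle : Algebra.adjoin K ({X 0 ^ 2, X 0 * X 1, X 1} : Set (MvPolynomial (Fin 2) K)) ≤
        (Polynomial.expand K 2).range.comap line := Algebra.adjoin_le fun z hz => by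
      rcases hz with rfl | rfl | rfl
      · exact ⟨Polynomial.X, by simp [line]⟩
      · exact ⟨0, by simp⟩
      · exact ⟨0, by simp⟩
    obtain ⟨q, hq⟩ := hle hf
    exact ⟨q, hq.symm⟩
  · rintro ⟨q, hq⟩
    obtain ⟨s, hs⟩ := exists_line_decomp f
    rw [hs, hq, Polynomial.expand_aeval]
    refine add_mem (y_mul_mem s) ?_
    exact Algebra.adjoin_mono (by simp) (Polynomial.aeval_mem_adjoin_singleton K _)

lemma line_aeval_sq (p : Polynomial K) :
    line (Polynomial.aeval ((X 0 : MvPolynomial (Fin 2) K) ^ 2) p) = Polynomial.expand K 2 p := by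
  rw [← Polynomial.aeval_algHom_apply, map_pow, aeval_X, Matrix.cons_val_zero,
    ← Polynomial.expand_aeval, Polynomial.aeval_X_left_apply]

lemma expand_eq_X_mul {p q : Polynomial K}
    (h : Polynomial.X * Polynomial.expand K 2 p = Polynomial.expand K 2 q) : p = 0 := by
  ext n
  have h' := congrArg (fun r => r.coeff (2 * n + 1)) h
  simp only [Polynomial.coeff_X_mul] at h'
  rw [Polynomial.coeff_expand two_pos, Polynomial.coeff_expand two_pos,
    if_pos (dvd_mul_right 2 n), if_neg (by omega), Nat.mul_div_cancel_left n two_pos] at h'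
  simpa using h'

end

/-- Let K be a field in which 2 ≠ 0, S = K[x, y], and R ⊆ S the K-subalgebra generated by x^2, x y, y,
the coordinate ring of the pinch point with normalization S, obtained by gluing the plane along the
line y = 0 via x ↦ -x. A K-derivation D of S maps R into R if and only if D(y) is a multiple of y
and D(x) = y s + x p(x^2) for some s in S and some polynomial p in one variable. Every K-derivation
R → S extends uniquely to S, and under this identification the derivations mapping R into R form the
image of the tangent sheaf of the pinch point in that of its normalization; so this image contains y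
times all derivations of S, and modulo those it is spanned by the odd multiples x^(2k+1) ∂/∂x, the
part of the tangent sheaf of the line y = 0 invariant under x ↦ -x. (The text works over an
algebraically closed field of characteristic different from 2; the computation uses only 2 ≠ 0.) -/
theorem result
    (K : Type u) [Field K] [NeZero (2 : K)]
    (D : Derivation K (MvPolynomial (Fin 2) K) (MvPolynomial (Fin 2) K)) :
    letI x : MvPolynomial (Fin 2) K := MvPolynomial.X 0
    letI y : MvPolynomial (Fin 2) K := MvPolynomial.X 1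
    letI R : Subalgebra K (MvPolynomial (Fin 2) K) := Algebra.adjoin K {x ^ 2, x * y, y}
    (∀ r ∈ R, D r ∈ R) ↔
      (D y ∈ Ideal.span {y} ∧
        ∃ (s : MvPolynomial (Fin 2) K) (p : Polynomial K), D x = y * s + x * Polynomial.aeval (x ^ 2) p) := by
  open MvPolynomial in
  constructor
  · intro h
    have gen : ∀ z ∈ ({X 0 ^ 2, X 0 * X 1, X 1} : Set (MvPolynomial (Fin 2) K)),
        ∃ q, line (D z) = Polynomial.expand K 2 q := fun z hz =>
      (mem_iff _).1 (h z (Algebra.subset_adjoin hz))
    obtain ⟨p, hp⟩ := gen (X 1) (by simp)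
    obtain ⟨q, hq⟩ := gen (X 0 * X 1) (by simp)
    obtain ⟨r, hr⟩ := gen (X 0 ^ 2) (by simp)
    simp [D.leibniz] at hq
    rw [hp] at hq
    have hp0 := expand_eq_X_mul hq
    constructor
    · obtain ⟨t, ht⟩ := exists_line_decomp (D (X 1))
      rw [hp, hp0, map_zero, map_zero, add_zero] at ht
      exact Ideal.mem_span_singleton'.2 ⟨t, by rw [ht, mul_comm]⟩
    · simp [D.leibniz_pow] at hr
      obtain ⟨s, hs⟩ := exists_line_decomp (D (X 0))
      have hr0 : r.coeff 0 = 0 := by
        have := congrArg (fun t => t.coeff 0) hr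
        simp [Polynomial.coeff_expand two_pos] at this
        exact this.symm
      refine ⟨s, Polynomial.C (2⁻¹ : K) * r.divX, hs.trans (congrArg (X 1 * s + ·) ?_)⟩
      have hline : line (D (X 0)) = Polynomial.X * Polynomial.expand K 2 (Polynomial.C (2⁻¹ : K) * r.divX) := by
        have e : r = Polynomial.X * r.divX := by
          conv_lhs => rw [← Polynomial.X_mul_divX_add r, hr0, map_zero, add_zero]
        rw [e, map_mul, Polynomial.expand_X] at hr
        have h2 : (2 : Polynomial K) * Polynomial.C (2⁻¹ : K) = 1 := by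
          rw [← map_ofNat (Polynomial.C (R := K)) 2, ← map_mul, mul_inv_cancel₀ (NeZero.ne (2 : K)), map_one]
        refine mul_left_cancel₀ Polynomial.X_ne_zero ?_
        rw [map_mul, Polynomial.expand_C]
        linear_combination (Polynomial.C (2⁻¹ : K)) * hr -
          (Polynomial.X * line (D (X 0))) * h2
      rw [hline, map_mul, Polynomial.aeval_X, Polynomial.expand_aeval]
  · rintro ⟨hy, s, p, hx⟩ r hr
    obtain ⟨t, ht⟩ := Ideal.mem_span_singleton'.1 hy
    induction hr using Algebra.adjoin_induction with
    | mem z hz =>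
      refine (mem_iff _).2 ?_
      rcases hz with rfl | rfl | rfl
      · refine ⟨2 * (Polynomial.X * p), ?_⟩
        simp only [D.leibniz_pow, hx, smul_eq_mul, nsmul_eq_mul, Nat.cast_ofNat, Nat.add_one_sub_one,
          pow_one, map_mul, map_add, map_ofNat, line_aeval_sq, Polynomial.expand_X]
        simp only [line, aeval_X, Matrix.cons_val_zero, Matrix.cons_val_one]
        ring
      · exact ⟨0, by simp [D.leibniz, ← ht]⟩
      · exact ⟨0, by simp [← ht]⟩
    | algebraMap k => rw [D.map_algebraMap]; exact zero_mem _
    | add z w hz hw ihz ihw => rw [map_add D]; exact add_mem ihz ihw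
    | mul z w hz hw ihz ihw =>
      rw [D.leibniz]
      exact add_mem (mul_mem hz ihw) (mul_mem hw ihz)

end Groth.Agent.S18123
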