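import Groth.Statements.S18125
import Mathlib.Algebra.MvPolynomial.Division
import Mathlib.RingTheory.Ideal.Colon
import Mathlib.Tactic.LinearCombination
-- import your own Groth.Agent.* helpers here

set_option autoImplicit false
universe u
open Pinch

namespace Groth.Agent.S18125

/-- Let K be a field in which 2 ≠ 0, n ≥ 0, S = K[u, v, w, t_1, …, t_n] (u, v, w the first three
variables), h = u^2 - v^2 w the equation of the pinch-point model, and Jac the ideal generated by h
and its three partial derivatives 2u, -2vw, -v^2, which cuts out the scheme-theoretic singular locus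
of {h = 0}. Then the ideal (u, v) of the double locus is Jac + (v), and the colon ideal of Jac by
(v) is (u, v, w). Consequently (u, v)/Jac, the ideal of the double locus restricted to the singular
locus, is an invertible sheaf on the pinch locus u = v = w = 0: it is free of rank one over K[t_1,
…, t_n] on the class of v. (The text states this for every semi-smooth variety and reduces to this
model; K algebraically closed is not needed for the model computation.) -/
theorem result
    (K : Type u) [Field K] [NeZero (2 : K)] (n : ℕ) :
    letI u : MvPolynomial (Fin (n + 3)) K := MvPolynomial.X 0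
    letI v : MvPolynomial (Fin (n + 3)) K := MvPolynomial.X 1
    letI w : MvPolynomial (Fin (n + 3)) K := MvPolynomial.X 2
    letI Jac : Ideal (MvPolynomial (Fin (n + 3)) K) :=
      Ideal.span {u ^ 2 - v ^ 2 * w, 2 * u, -(2 * v * w), -(v ^ 2)}
    Ideal.span {u, v} = Jac ⊔ Ideal.span {v} ∧ Jac.colon (Ideal.span {v}) = Ideal.span {u, v, w} := by
  set u : MvPolynomial (Fin (n + 3)) K := MvPolynomial.X 0 with hu
  set v : MvPolynomial (Fin (n + 3)) K := MvPolynomial.X 1 with hv
  set w : MvPolynomial (Fin (n + 3)) K := MvPolynomial.X 2
  set J := Ideal.span {u ^ 2 - v ^ 2 * w, 2 * u, -(2 * v * w), -(v ^ 2)}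
  have two : (MvPolynomial.C ((2 : K)⁻¹) : MvPolynomial (Fin (n + 3)) K) * 2 = 1 := by
    rw [← map_ofNat (MvPolynomial.C (σ := Fin (n + 3)) (R := K)) 2, ← map_mul,
      inv_mul_cancel₀ (NeZero.ne (2 : K)), map_one]
  have hJ : J = Ideal.span {u, v * w, v ^ 2} := by
    refine le_antisymm (Ideal.span_le.2 ?_) (Ideal.span_le.2 ?_)
    · rintro z (rfl | rfl | rfl | rfl)
      · exact sub_mem (Ideal.pow_mem_of_mem _ (Ideal.subset_span (by simp)) 2 two_pos)
          (Ideal.mul_mem_right _ _ (Ideal.subset_span (by simp)))
      · exact Ideal.mul_mem_left _ _ (Ideal.subset_span (by simp))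
      · rw [mul_assoc]
        exact neg_mem (Ideal.mul_mem_left _ _ (Ideal.subset_span (by simp)))
      · exact neg_mem (Ideal.subset_span (by simp))
    · rintro z (rfl | rfl | rfl)
      · rw [show u = MvPolynomial.C ((2 : K)⁻¹) * (2 * u) by linear_combination -u * two]
        exact Ideal.mul_mem_left _ _ (Ideal.subset_span (by simp))
      · rw [show v * w = MvPolynomial.C ((2 : K)⁻¹) * -(-(2 * v * w)) by linear_combination -(v * w) * two]
        exact Ideal.mul_mem_left _ _ (neg_mem (Ideal.subset_span (by simp)))
      · rw [show v ^ 2 = -(-(v ^ 2)) by ring]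
        exact neg_mem (Ideal.subset_span (by simp))
  rw [hJ]
  constructor
  · refine le_antisymm (Ideal.span_le.2 ?_) (sup_le (Ideal.span_le.2 ?_) (Ideal.span_mono (by simp)))
    · rintro z (rfl | rfl)
      · exact Ideal.mem_sup_left (Ideal.subset_span (by simp))
      · exact Ideal.mem_sup_right (Ideal.subset_span (by simp))
    · rintro z (rfl | rfl | rfl)
      · exact Ideal.subset_span (by simp)
      · exact Ideal.mul_mem_right _ _ (Ideal.subset_span (by simp))
      · rw [pow_two]; exact Ideal.mul_mem_left _ _ (Ideal.subset_span (by simp))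
  · ext f
    rw [Submodule.mem_colon]
    constructor
    · intro h
      have h' : f * v ∈ Ideal.span {u, v * w, v ^ 2} := h v (Ideal.subset_span (by simp))
      obtain ⟨a, z, hz, hz'⟩ := Ideal.mem_span_insert.1 h'
      obtain ⟨b, c, hbc⟩ := Ideal.mem_span_pair.1 hz
      have hd : u ∣ v * (f - b * w - c * v) := ⟨a, by linear_combination hz' - hbc⟩
      obtain ⟨e, he⟩ := (MvPolynomial.X_prime.dvd_mul.1 hd).resolve_left fun h => by
        have h01 : ((0 : Fin (n + 3)) : ℕ) = (1 : Fin (n + 3)) := congrArg Fin.val (MvPolynomial.X_dvd_X.1 h)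
        simp at h01
      rw [show f = e * u + (b * w + c * v) by linear_combination he]
      refine add_mem (Ideal.mul_mem_left _ _ (Ideal.subset_span (by simp))) (add_mem ?_ ?_) <;>
        exact Ideal.mul_mem_left _ _ (Ideal.subset_span (by simp))
    · intro hf z hz
      obtain ⟨t, rfl⟩ := Ideal.mem_span_singleton'.1 hz
      rw [smul_eq_mul, mul_left_comm]
      refine Ideal.mul_mem_left _ _ ?_
      have hle : Ideal.span {u, v, w} ≤ Submodule.comap
          (LinearMap.mulRight (MvPolynomial (Fin (n + 3)) K) v) (Ideal.span {u, v * w, v ^ 2}) := Ideal.span_le.2 (by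
        rintro y (rfl | rfl | rfl)
        · exact Ideal.mul_mem_right _ _ (Ideal.subset_span (by simp))
        · show v * v ∈ Ideal.span {u, v * w, v ^ 2}
          rw [← pow_two]; exact Ideal.subset_span (by simp)
        · show w * v ∈ Ideal.span {u, v * w, v ^ 2}
          rw [mul_comm]; exact Ideal.subset_span (by simp))
      exact hle hf

end Groth.Agent.S18125
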