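import Groth.Statements.S18127

set_option autoImplicit false
universe u
open LocAlg

namespace Groth.Agent.S18127

open Matrix IsLocalRing in
theorem det_mem_pow_of_rows_mem {R : Type u} [CommRing R] {n : ℕ} (I : Ideal R)
    (v : Fin n → Fin n → R) (S : Finset (Fin n)) (hS : ∀ i ∈ S, ∀ j, v i j ∈ I) :
    Matrix.det (Matrix.of v) ∈ I ^ S.card := by
  classical
  rw [← Matrix.det_transpose, Matrix.det_apply]
  refine Submodule.sum_mem _ fun σ _ => ?_
  rw [Units.smul_def, zsmul_eq_mul]
  refine Ideal.mul_mem_left _ _ ?_
  rw [← Finset.prod_mul_prod_compl S]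
  refine Ideal.mul_mem_right _ _ ?_
  have h := Ideal.prod_mem_prod (s := S) (I := fun _ => I)
    (x := fun i => (Matrix.of v).transpose (σ i) i) (fun i hi => hS i hi _)
  simpa [Finset.prod_const] using h


/-- Let R be a local ring with maximal ideal m and algebraically closed residue field, and M an n × n
matrix over R whose reduction modulo m has rank at most r. Then the determinant of M lies in m^(n −
r). (The published setting is the local ring of germs of holomorphic functions at a point of a
complex manifold, where this says that the determinant vanishes to order at least n − r at a point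
where the matrix has rank at most r.) -/
theorem result
    {R : Type u} [CommRing R] [IsLocalRing R] [IsAlgClosed (IsLocalRing.ResidueField R)]
    {n : ℕ} (M : Matrix (Fin n) (Fin n) R) (r : ℕ)
    (hr : (M.map (IsLocalRing.residue R)).rank ≤ r) :
    M.det ∈ IsLocalRing.maximalIdeal R ^ (n - r) := by
  classical
  set k := IsLocalRing.ResidueField R
  set π := IsLocalRing.residue R
  let A : Matrix (Fin n) (Fin n) k := M.map π
  set V : Submodule k (Fin n → k) := Submodule.span k (Set.range A.row) with hV
  have hd : Module.finrank k V ≤ r := by rw [hV, ← Matrix.rank_eq_finrank_span_row]; exact hr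
  set d := Module.finrank k V
  let b := Module.finBasis k V
  have hmem : ∀ i, A.row i ∈ V := fun i => Submodule.subset_span ⟨i, rfl⟩
  choose W hW using fun (j : Fin d) (l : Fin n) => IsLocalRing.residue_surjective ((b j : Fin n → k) l)
  choose c hc using fun (i : Fin n) (j : Fin d) => IsLocalRing.residue_surjective (b.repr ⟨A.row i, hmem i⟩ j)
  let g : Fin n → Fin d ⊕ Unit → (Fin n → R) := fun i =>
    Sum.elim (fun j => c i j • W j) (fun _ => M i - ∑ j, c i j • W j)
  have hM : M = Matrix.of (fun i => ∑ a, g i a) := by
    ext i l; simp [g, Fintype.sum_sum_type]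
  have hg : ∀ i l, g i (Sum.inr ()) l ∈ IsLocalRing.maximalIdeal R := by
    intro i l
    rw [← IsLocalRing.residue_eq_zero_iff]
    have := congrFun (congrArg Subtype.val (b.sum_repr ⟨A.row i, hmem i⟩)) l
    simp only [g, Sum.elim_inr, Pi.sub_apply, Finset.sum_apply, Pi.smul_apply, smul_eq_mul, map_sub, map_sum, map_mul, hW, hc]
    rw [show (b.repr ⟨A.row i, hmem i⟩) = b.repr ⟨A.row i, hmem i⟩ from rfl] at this
    simp only [Submodule.coe_sum, Submodule.coe_smul, Finset.sum_apply, Pi.smul_apply, smul_eq_mul] at this
    rw [this]; exact sub_self _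
  have hdet : M.det = ∑ f : Fin n → Fin d ⊕ Unit, Matrix.det (Matrix.of (fun i => g i (f i))) := by
    conv_lhs => rw [hM]
    exact (Matrix.detRowAlternating (n := Fin n) (R := R)).toMultilinearMap.map_sum g
  rw [hdet]
  refine Submodule.sum_mem _ fun f _ => ?_
  set S := Finset.univ.filter (fun i => f i = Sum.inr ()) with hS
  by_cases hcard : n - r ≤ S.card
  · refine Ideal.pow_le_pow_right hcard ?_
    refine det_mem_pow_of_rows_mem _ _ S (fun i hi l => ?_)
    rw [(Finset.mem_filter.1 hi).2]; exact hg i l
  · have hlt : d < Sᶜ.card := by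
      rw [Finset.card_compl, Fintype.card_fin]; omega
    obtain ⟨i, hi, i', hi', hne, heq⟩ : ∃ i ∈ Sᶜ, ∃ i' ∈ Sᶜ, i ≠ i' ∧ f i = f i' := by
      apply Finset.exists_ne_map_eq_of_card_lt_of_maps_to (t := (Finset.univ : Finset (Fin d)).image Sum.inl)
      · refine lt_of_le_of_lt Finset.card_image_le ?_
        simpa using hlt
      · intro i hi
        rw [Finset.mem_coe, Finset.mem_compl, hS, Finset.mem_filter] at hi
        cases hfi : f i with
        | inl j => simp [hfi]
        | inr u => exact absurd ⟨Finset.mem_univ _, hfi⟩ hi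
    let cc : Fin n → R := fun i => Sum.elim (fun j => c i j) (fun _ => 1) (f i)
    let w : Fin n → Fin n → R := fun i => Sum.elim (fun j => W j) (fun _ => M i - ∑ j, c i j • W j) (f i)
    have hgw : (fun i => g i (f i)) = fun i => cc i • w i := by
      funext i
      cases hfi : f i <;> simp [g, cc, w, hfi]
    rw [hgw]
    have h0 : Matrix.det (Matrix.of w) = 0 := by
      refine Matrix.det_zero_of_row_eq hne ?_
      cases hfi : f i with
      | inl j => funext l; simp [w, hfi, ← heq]
      | inr u =>
        rw [Finset.mem_compl, hS, Finset.mem_filter] at hi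
        exact absurd ⟨Finset.mem_univ _, hfi⟩ hi
    have hsm : Matrix.det (Matrix.of fun i => cc i • w i) = (∏ i, cc i) • Matrix.det (Matrix.of w) :=
      (Matrix.detRowAlternating (n := Fin n) (R := R)).toMultilinearMap.map_smul_univ cc w
    rw [hsm, h0, smul_zero]
    exact Ideal.zero_mem _

end Groth.Agent.S18127
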