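import Groth.Statements.S18128
import Groth.Agent.CommAlg6.DepthAcyclic
import Groth.Agent.CommAlg4.MatrixLocal
-- import your own Groth.Agent.* helpers here

set_option autoImplicit false
universe u
open CAlg

namespace Groth.Agent.S18128

/-- Local step of Buchsbaum–Eisenbud: let R be a Noetherian local ring with maximal ideal m, and 0 →
R^(n_e) → ⋯ → R^(n_1) → R^(n_0) a complex of finite free modules, the map R^(n_(i+1)) → R^(n_i)
being given by the matrix A i, with 1 ≤ e and e at most the depth of R (there is an R-regular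
sequence of length e inside m). If for every prime ideal p ≠ m the complex of matrices over R_p
obtained by localization is exact at R_p^(n_e), …, R_p^(n_1), then the complex is exact at R^(n_e),
…, R^(n_1). -/
theorem result
    {R : Type u} [CommRing R] [IsLocalRing R] [IsNoetherianRing R]
    (e : ℕ) (he : 1 ≤ e) (n : ℕ → ℕ) (A : (i : ℕ) → Matrix (Fin (n i)) (Fin (n (i + 1))) R)
    (hA : ∀ i, i + 2 ≤ e → A i * A (i + 1) = 0)
    (rs : List R) (hlen : rs.length = e) (hmem : ∀ x ∈ rs, x ∈ IsLocalRing.maximalIdeal R)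
    (hreg : RingTheory.Sequence.IsRegular R rs)
    (hloc : ∀ (p : Ideal R) [p.IsPrime], p ≠ IsLocalRing.maximalIdeal R →
      LinearMap.ker ((A (e - 1)).map (algebraMap R (Localization.AtPrime p))).mulVecLin = ⊥ ∧
        ∀ i, i + 2 ≤ e →
          LinearMap.ker ((A i).map (algebraMap R (Localization.AtPrime p))).mulVecLin =
            LinearMap.range ((A (i + 1)).map (algebraMap R (Localization.AtPrime p))).mulVecLin) :
    LinearMap.ker (A (e - 1)).mulVecLin = ⊥ ∧
      ∀ i, i + 2 ≤ e → LinearMap.ker (A i).mulVecLin = LinearMap.range (A (i + 1)).mulVecLin := by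
  classical
  have hreg' : ∀ j, Groth.Agent.CAlgH3.BEAux.Reg rs (⊥ : Submodule R (Fin (n j) → R)) := fun j =>
    Groth.Agent.CAlgH3.BEAux.reg_fun rs
      ((Groth.Agent.CAlgH3.BEAux.reg_bot_iff rs).2 hreg.toIsWeaklyRegular)
  let d : ∀ i, (Fin (n (i + 1)) → R) →ₗ[R] (Fin (n i) → R) := fun i => (A i).mulVecLin
  have key := Groth.Agent.CAlgH3.BEAux.acyclic (R := R) rs (fun j => Fin (n j) → R) d (fun _ => ⊥) e
    hlen.ge (fun i _ => by rw [Submodule.map_bot]) (fun i hi z => by
      rw [Submodule.mem_bot]
      show (A i).mulVec ((A (i + 1)).mulVec z) = 0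
      rw [Matrix.mulVec_mulVec, hA i hi, Matrix.zero_mulVec]) (fun j _ => hreg' j) ?_
  · constructor
    · rw [LinearMap.ker_eq_bot']
      intro z hz
      have := key (e - 1) (by omega) z ((Submodule.mem_bot R).2 hz)
      rw [Groth.Agent.CAlgH3.BEAux.Bd, if_neg (by omega), bot_sup_eq] at this
      exact (Submodule.mem_bot R).1 this
    · intro i hi
      refine le_antisymm (fun z hz => ?_) ?_
      · have := key i (by omega) z ((Submodule.mem_bot R).2 hz)
        rw [Groth.Agent.CAlgH3.BEAux.Bd, if_pos hi, sup_bot_eq] at this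
        exact this
      · rintro _ ⟨w, rfl⟩
        rw [LinearMap.mem_ker, Matrix.mulVecLin_apply, Matrix.mulVecLin_apply, Matrix.mulVec_mulVec,
          hA i hi, Matrix.zero_mulVec]
  · intro x hx i hi z hz
    rw [Submodule.mem_bot] at hz
    obtain ⟨N, hN⟩ := Groth.Agent.CommAlg6.DepthAcyclic.pow_mem_of_killed
      (Groth.Agent.CAlgH3.BEAux.Bd (M := fun j => Fin (n j) → R) d (fun _ => ⊥) e i) z (by
      intro Q hQ hne
      obtain ⟨hker, hex⟩ := hloc Q hne
      have hz' : (fun j => algebraMap R (Localization.AtPrime Q) (z j)) ∈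
          LinearMap.ker ((A i).map (algebraMap R (Localization.AtPrime Q))).mulVecLin := by
        rw [LinearMap.mem_ker, Matrix.mulVecLin_apply]
        funext j
        have h1 := congrArg (algebraMap R (Localization.AtPrime Q)) (congrFun hz j)
        simpa [d, Matrix.mulVec, dotProduct, map_sum] using h1
      by_cases h2 : i + 2 ≤ e
      · rw [hex i h2] at hz'
        obtain ⟨s, hs, hsz⟩ := Groth.Agent.CommAlg4.exists_smul_mem_range_of_map_mem_range Q.primeCompl
          (Localization.AtPrime Q) (A (i + 1)) z hz'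
        refine ⟨s, hs, ?_⟩
        rw [Groth.Agent.CAlgH3.BEAux.Bd, if_pos h2]
        exact Submodule.mem_sup_left hsz
      · obtain rfl : i = e - 1 := by omega
        rw [hker, Submodule.mem_bot] at hz'
        obtain ⟨s, hs, hsz⟩ := Groth.Agent.CommAlg4.exists_smul_eq_of_map_eq Q.primeCompl
          (Localization.AtPrime Q) z 0 (fun j => by simpa using congrFun hz' j)
        exact ⟨s, hs, by rw [hsz, smul_zero]; exact Submodule.zero_mem _⟩)
    exact ⟨N, hN _ (Ideal.pow_mem_pow (hmem x hx) N)⟩

end Groth.Agent.S18128
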