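import Groth.Statements.S18130
import Groth.Agent.Surf15.LMBN
-- import your own Groth.Agent.* helpers here

set_option autoImplicit false
universe u
open CategoryTheory CategoryTheory.Limits AlgebraicGeometry
open Surf

open TopologicalSpace
open Groth.Agent.Coherent Groth.Agent.PicLib Groth.Agent.AmpleLib Groth.Agent.EulerLib Groth.Agent.CurveRR24 Groth.Agent.DimLib Groth.Agent.Surf15
set_option linter.style.haveILetI false
set_option backward.isDefEq.respectTransparency.types false

namespace Groth.Agent.S18130

/-- Let X be a K3 surface over an algebraically closed field k of characteristic zero — an integral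
scheme, smooth and proper over k, of dimension two, carrying an ample invertible module, whose
structure sheaf is a second exterior power of its sheaf of differentials (trivial canonical sheaf)
and with H^1(X, O_X) = 0. Let i : C → X be a closed immersion over k with C integral, smooth over k
and of dimension one, whose ideal sheaf I_C is invertible and such that the Picard group of X is
infinite cyclic, generated by the class of I_C (equivalently of O_X(C)). Then for every invertible
O_C-module A the Brill–Noether number is non-negative: h^0(C, A) · h^1(C, A) ≤ g(C), where g(C) =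
dim_k H^1(C, O_C). -/
theorem result (k : Type u) [Field k] [IsAlgClosed k] [CharZero k]
    (X : Scheme.{u}) [X.Over (Spec (CommRingCat.of k))] [IsIntegral X]
    [Smooth (X ↘ Spec (CommRingCat.of k))] (hdim : topologicalKrullDim X = 2)
    [IsProper (X ↘ Spec (CommRingCat.of k))]
    (H : X.Modules) (hHa : CohB1.IsAmple H)
    (hK : Canon.IsTopDiff (X ↘ Spec (CommRingCat.of k)) 2 (Coh.structureModule X))
    (hq : Module.finrank k (Coh.HH X (Coh.structureModule X) 1) = 0)
    [PicGrp.Law X]
    (C : Scheme.{u}) [C.Over (Spec (CommRingCat.of k))] [IsIntegral C]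
    [Smooth (C ↘ Spec (CommRingCat.of k))] (hC : topologicalKrullDim C = 1)
    (i : C ⟶ X) [IsClosedImmersion i] (hi : i ≫ (X ↘ Spec (CommRingCat.of k)) = C ↘ Spec (CommRingCat.of k))
    (hI : PicF.IsInvertible (ClSub.idealMod i.ker))
    (hgen : ∀ c : PicLoc.PicSet X, ∃ n : ℤ, c = PicGrp.cls (ClSub.idealMod i.ker) hI ^ n)
    (hfree : ∀ n : ℤ, PicGrp.cls (ClSub.idealMod i.ker) hI ^ n = 1 → n = 0)
    (A : C.Modules) (hA : PicF.IsInvertible A) :
    Module.finrank k (Coh.HH C A 0) * Module.finrank k (Coh.HH C A 1) ≤ Curv2.genus k C := by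
  have hX : topologicalKrullDim X = ((2 : ℕ) : WithBot ℕ∞) := hdim
  haveI := Surf15.isProper_curve k hX hC i hi
  haveI := isNoetherian_of_proper (X := X) k
  haveI := isSeparated_of_proper (X := X) k
  haveI := isNoetherian_of_proper (X := C) k
  haveI : IsGrothendieckAbelian.{u} X.Modules := DCat.schemeModules_isGrothendieckAbelian X
  rcases Nat.eq_zero_or_pos (Module.finrank k (Coh.HH C A 0)) with h0 | h0
  · rw [h0, Nat.zero_mul]; exact Nat.zero_le _
  obtain ⟨A', p, hA', hp, he, h1, hspan⟩ := Surf15.exists_generated_part k hC hA h0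
  haveI := hp
  obtain ⟨lam, hlepi, hlam⟩ := Surf15.exists_lam k i hi hA' p (Surf15.finrank_h0_structure k) he hspan
  haveI := hlepi
  have hend := Surf15.euler_end_lm k hX hC i hi hA' lam hK hq
  have hF := Surf15.isFinLocFree_lm k hX hC i hi hA' lam
  have hFr := Surf15.rank_lm k hX hC i hi hA' lam
  have hnz : ¬ IsZero (kernel lam) := VB5.not_isZero_of_grk hFr h0
  haveI := Surf15.finite_end k hF
  have hhom : Module.finrank k (kernel lam ⟶ kernel lam) = 1 :=
    finrank_eq_one (𝟙 (kernel lam)) (fun h => hnz ((IsZero.iff_id_eq_zero _).2 h)) fun φ => by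
      obtain ⟨c, hc⟩ := Surf15.exists_eq_smul_id k hX hC i hi hK hq hI hgen hA' lam hlam φ
      exact ⟨c, hc.symm⟩
  have hE := CohBC.isFinLocFree_internalHom hF hF
  have hh0 : Module.finrank k (Coh.HH X (internalHom (kernel lam) (kernel lam)) 0) = 1 := by
    rw [← hhom]
    exact ((SerreDual.extLocFreeEquiv k hF (kernel lam) 0).symm.trans CategoryTheory.Abelian.Ext.linearEquiv₀).finrank_eq
  have hh2 : Module.finrank k (Coh.HH X (internalHom (kernel lam) (kernel lam)) 2) = 1 := by
    obtain ⟨eE⟩ := Surf15.nonempty_end_dual hF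
    rw [← (HHCongr k eE 2).finrank_eq,
      Surf15.finrank_dual k hX hK isInvertible_structureModule hE (i := 2) (j := 0) rfl, hh0]
  rw [Surf15.euler_three k hX.le (CohBC.isCoh_of_isFinLocFree hE).1, hh0, hh2] at hend
  have hA2 := euler_eq_h0_sub_h1 k hC.le A' (isQCoh_of_isInvertible hA')
  have hO := euler_eq_h0_sub_h1 k hC.le (Coh.structureModule C)
    (isQCoh_of_isInvertible isInvertible_structureModule)
  rw [h0_structure k] at hO
  rw [hA2, hO, he] at hend
  push_cast at hend
  have hle : Module.finrank k (Coh.HH C A 0) * Module.finrank k (Coh.HH C A' 1) ≤ Curv2.genus k C := by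
    have hg : (Curv2.genus k C : ℤ) = (Module.finrank k (Coh.HH C (Coh.structureModule C) 1) : ℤ) := rfl
    have h' : ((Module.finrank k (Coh.HH C A 0) * Module.finrank k (Coh.HH C A' 1) : ℕ) : ℤ) ≤ (Curv2.genus k C : ℤ) := by
      push_cast
      nlinarith [Int.natCast_nonneg (Module.finrank k (Coh.HH X (internalHom (kernel lam) (kernel lam)) 1))]
    exact_mod_cast h'
  exact (Nat.mul_le_mul le_rfl h1).trans hle

end Groth.Agent.S18130
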