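import Groth.Statements.S18136
import Mathlib
-- import your own Groth.Agent.* helpers here

set_option autoImplicit false
universe u v
open IsLocalRing
open CAlg

namespace Groth.Agent.S18136

open IsLocalRing in
theorem li_of_map {R A : Type u} [CommRing R] [IsLocalRing R] [CommRing A] [IsLocalRing A] (φ : R →+* A) [IsLocalHom φ]
    {σ : Type*} [Fintype σ] (F : σ → maximalIdeal R) (f : σ → maximalIdeal A) (h : ∀ s, φ (F s) = f s)
    (hli : LinearIndependent (ResidueField A) (⇑(maximalIdeal A).toCotangent ∘ f)) :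
    LinearIndependent (ResidueField R) (⇑(maximalIdeal R).toCotangent ∘ F) := by
  rw [Fintype.linearIndependent_iff] at hli ⊢
  intro c hc
  choose c' hc' using fun s => residue_surjective (c s)
  have hsum : (maximalIdeal R).toCotangent (∑ s, c' s • F s) = 0 := by
    rw [map_sum, ← hc]
    refine Finset.sum_congr rfl fun s _ => ?_
    rw [map_smul, ← hc' s]; rfl
  rw [Ideal.toCotangent_eq_zero, AddSubmonoidClass.coe_finsetSum] at hsum
  have hsum' : (maximalIdeal A).toCotangent (∑ s, φ (c' s) • f s) = 0 := by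
    rw [Ideal.toCotangent_eq_zero, AddSubmonoidClass.coe_finsetSum]
    have h2 := Ideal.mem_map_of_mem φ hsum
    have hle : (maximalIdeal R ^ 2).map φ ≤ maximalIdeal A ^ 2 := by
      rw [Ideal.map_pow]
      exact Ideal.pow_right_mono (((local_hom_TFAE φ).out 0 2).1 (inferInstance : IsLocalHom φ)) 2
    have h3 := hle h2
    rw [map_sum] at h3
    convert h3 using 1
    exact Finset.sum_congr rfl fun s _ => by simp [h]
  intro s
  have := hli (fun s => residue A (φ (c' s))) (by
    rw [← hsum', map_sum]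
    exact Finset.sum_congr rfl fun s _ => by rw [map_smul]; rfl) s
  rw [← hc' s, residue_eq_zero_iff]
  have h4 : φ (c' s) ∈ maximalIdeal A := (residue_eq_zero_iff _).1 this
  exact fun hu => h4 (hu.map φ)


/-- Let A be a regular local ring with maximal ideal m and residue field k, written as a directed
colimit of regular local rings A_j with local transition maps (compatible maps ψ_j : A_j → A that
are jointly surjective, an element dying in A dying at some later stage). Let f_1, …, f_c, g_1, …,
g_d ∈ m have linearly independent classes in m/m^2 over k, and put I = (f_1, …, f_c) ⊆ I' = (f_1, …,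
f_c, g_1, …, g_d) (so I is generated by part of a regular system of parameters of A and I'/I by part
of a regular system of parameters of A/I; for a regular local ring the condition on I ⊆ I' is stated
through such a joint family). Then there are an index j_0 and ideals I_j ⊆ I'_j ⊆ A_j for j ≥ j_0
such that: each I_j is generated by c elements and I'_j by these together with d further elements of
the maximal ideal m_j, the c + d classes in m_j/m_j^2 being linearly independent over the residue
field of A_j; the transition maps carry I_i, I'_i onto generators of I_j, I'_j for j_0 ≤ i ≤ j; and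
I_j, I'_j generate I, I' in A. -/
theorem result
    {A : Type u} [CommRing A] [IsRegularLocalRing A]
    {ι : Type v} [Preorder ι] [Nonempty ι] [IsDirected ι (· ≤ ·)]
    (B : ι → Type u) [∀ j, CommRing (B j)] [∀ j, IsRegularLocalRing (B j)]
    (φ : ∀ i j, i ≤ j → (B i →+* B j)) (hφloc : ∀ i j (h : i ≤ j), IsLocalHom (φ i j h))
    (hφ : ∀ i j l (hij : i ≤ j) (hjl : j ≤ l), (φ j l hjl).comp (φ i j hij) = φ i l (hij.trans hjl))
    (ψ : ∀ j, B j →+* A) (hψ : ∀ i j (h : i ≤ j), (ψ j).comp (φ i j h) = ψ i)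
    (hsurj : ∀ a : A, ∃ j, ∃ x : B j, ψ j x = a)
    (hker : ∀ j (x : B j), ψ j x = 0 → ∃ l, ∃ h : j ≤ l, φ j l h x = 0)
    (c d : ℕ) (f : Fin c → maximalIdeal A) (g : Fin d → maximalIdeal A)
    (hind : LinearIndependent (ResidueField A) (⇑(maximalIdeal A).toCotangent ∘ Sum.elim f g)) :
    ∃ j₀ : ι, ∃ (P : ∀ j, j₀ ≤ j → Ideal (B j)) (Q : ∀ j, j₀ ≤ j → Ideal (B j)),
      (∀ j (hj : j₀ ≤ j), ∃ (F : Fin c → maximalIdeal (B j)) (E : Fin d → maximalIdeal (B j)),
        LinearIndependent (ResidueField (B j)) (⇑(maximalIdeal (B j)).toCotangent ∘ Sum.elim F E) ∧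
        P j hj = Ideal.span (Set.range (fun s => (F s : B j))) ∧
        Q j hj = P j hj ⊔ Ideal.span (Set.range (fun t => (E t : B j)))) ∧
      (∀ i j (hi : j₀ ≤ i) (hij : i ≤ j),
        (P i hi).map (φ i j hij) = P j (le_trans hi hij) ∧ (Q i hi).map (φ i j hij) = Q j (le_trans hi hij)) ∧
      (∀ j (hj : j₀ ≤ j),
        (P j hj).map (ψ j) = Ideal.span (Set.range (fun s => (f s : A))) ∧
        (Q j hj).map (ψ j) = Ideal.span (Set.range (fun s => (f s : A))) ⊔ Ideal.span (Set.range (fun t => (g t : A)))) := by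
  classical
  -- lift all elements to one stage
  choose jf xf hxf using fun s : Fin c ⊕ Fin d => hsurj ((Sum.elim f g s : maximalIdeal A) : A)
  obtain ⟨j₀, hj₀⟩ := Finite.exists_le jf
  have hψφ : ∀ i j (h : i ≤ j) (x : B i), ψ j (φ i j h x) = ψ i x := fun i j h x => by rw [← RingHom.comp_apply, hψ]
  have hψloc : ∀ j, IsLocalHom (ψ j) := by
    intro j
    constructor
    intro x hx
    obtain ⟨i, y, hy⟩ := hsurj ↑hx.unit⁻¹
    obtain ⟨l₁, hl₁, hl₂⟩ := exists_ge_ge j i
    obtain ⟨l, hl, hl0⟩ := hker l₁ (φ j l₁ hl₁ x * φ i l₁ hl₂ y - 1) (by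
      rw [map_sub, map_mul, hψφ, hψφ, hy, map_one, IsUnit.mul_val_inv, sub_self])
    rw [map_sub, map_mul, map_one, sub_eq_zero, ← RingHom.comp_apply, hφ] at hl0
    haveI := hφloc j l (hl₁.trans hl)
    exact isUnit_of_map_unit (φ j l (hl₁.trans hl)) x (IsUnit.of_mul_eq_one _ hl0)
  have hmem : ∀ s j (hj : j₀ ≤ j), φ (jf s) j ((hj₀ s).trans hj) (xf s) ∈ maximalIdeal (B j) := fun s j hj hu => by
    have := hu.map (ψ j)
    rw [hψφ, hxf] at this
    exact (Sum.elim f g s).2 this
  let G : ∀ j, j₀ ≤ j → Fin c ⊕ Fin d → maximalIdeal (B j) := fun j hj s => ⟨_, hmem s j hj⟩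
  refine ⟨j₀, fun j hj => Ideal.span (Set.range fun s => (G j hj (Sum.inl s) : B j)),
    fun j hj => Ideal.span (Set.range fun s => (G j hj (Sum.inl s) : B j)) ⊔ Ideal.span (Set.range fun s => (G j hj (Sum.inr s) : B j)),
    fun j hj => ⟨fun s => G j hj (Sum.inl s), fun s => G j hj (Sum.inr s), ?_, rfl, rfl⟩, fun i j hi hij => ?_, fun j hj => ?_⟩
  · haveI := hψloc j
    refine li_of_map (ψ j) _ (Sum.elim f g) (fun s => ?_) hind
    cases s <;> exact (hψφ _ _ _ _).trans (hxf _)
  · have e : ∀ s, φ i j hij (G i hi s : B i) = G j (hi.trans hij) s := fun s => by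
      show φ i j hij (φ (jf s) i _ (xf s)) = φ (jf s) j _ (xf s)
      rw [← RingHom.comp_apply, hφ]
    refine ⟨?_, ?_⟩ <;> simp only [Ideal.map_sup, Ideal.map_span, ← Set.range_comp, Function.comp_def, e]
  · have e : ∀ s, ψ j (G j hj s : B j) = (Sum.elim f g s : maximalIdeal A) := fun s => (hψφ _ _ _ _).trans (hxf s)
    refine ⟨?_, ?_⟩ <;> simp only [Ideal.map_sup, Ideal.map_span, ← Set.range_comp, Function.comp_def, e, Sum.elim_inl, Sum.elim_inr]

end Groth.Agent.S18136
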