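import Groth.Statements.S1815
import Groth.Agent.CAlgH3.RGam.CechRlim
-- import your own Groth.Agent.* helpers here

set_option autoImplicit false
universe u
open CategoryTheory CategoryTheory.Limits
attribute [local instance] HasDerivedCategory.standard
open LocCoh

namespace Groth.Agent.S1815

/-- Let I and J be ideals of a Noetherian ring A and M a finite A-module; assume RΓ_J exists as a total
right derived functor, derived I-completion exists, and D(A) has countable products. Then the
derived I-completion of RΓ_J(M) is a derived limit of the inverse system n ↦ RΓ_J(M/I^nM)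
(transition maps induced by the quotient maps), and its cohomology vanishes in negative degrees. -/
theorem result (A : Type u) [CommRing A] [IsNoetherianRing A] (I J : Ideal A) [DRing.HasRgammaI J] [DRing.HasDerivedCompletion I] [∀ K : ℕ → Dual.D A, HasProduct K] (M : Type u) [AddCommGroup M] [Module A M] [Module.Finite A M] : DCoh.IsRlim (fun n : ℕ => (DRing.RgammaI J).obj (Dual.inD A (M ⧸ (I ^ n • ⊤ : Submodule A M)))) (fun n : ℕ => (DRing.RgammaI J).map ((DerivedCategory.singleFunctor (ModuleCat.{u} A) 0).map (ModuleCat.ofHom (Submodule.mapQ (I ^ (n + 1) • ⊤ : Submodule A M) (I ^ n • ⊤ : Submodule A M) LinearMap.id (Submodule.smul_mono (Ideal.pow_le_pow_right (Nat.le_succ n)) le_rfl))))) ((DRing.derivedCompletion I).obj ((DRing.RgammaI J).obj (Dual.inD A M))).obj ∧ ∀ i : ℤ, i < 0 → Subsingleton (Dual.HD A ((DRing.derivedCompletion I).obj ((DRing.RgammaI J).obj (Dual.inD A M))).obj i) := by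
  open Groth.Agent.CAlgH3.RGam in
  open Groth.Agent.CAlgH3.RGam.CechF in
  open Groth.Agent.CAlgH3.RGam.Lam in
  open Groth.Agent.DCat.DC in
    obtain ⟨s, hs⟩ := exists_list J
    let MM := ModuleCat.of A M
    let ν := (SingleFunctors.evaluation _ _ 0).mapIso (DerivedCategory.singleFunctorsPostcompQIso (ModuleCat.{u} A))
    let νM : Dual.inD A M ≅ DerivedCategory.Q.obj (single0 MM) := ν.app MM
    have hM : FinAlg MM := finAlg_of_finite M
    obtain ⟨e, -⟩ := exists_compare J hs MM
    let e' := e ≪≫ (DRing.RgammaI J).mapIso νM.symm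
    have hr : IsCompl I (e'.inv ≫ DerivedCategory.Q.map ((cN (ofN I) s).app MM)) :=
      ⟨(isCompl_cN s MM hM).1, (cIso_of_isIso e'.inv).comp (isCompl_cN s MM hM).2⟩
    obtain ⟨w, -⟩ := (isCompl_toDerivedCompletion I ((DRing.RgammaI J).obj (Dual.inD A M))).exists_iso hr
    refine ⟨?_, fun i hi => ?_⟩
    · obtain ⟨a, c, hT⟩ := isRlim_C (I := I) J hs MM
        (fun n : ℕ => (DRing.RgammaI J).obj (Dual.inD A (M ⧸ (I ^ n • ⊤ : Submodule A M))))
        (fun n : ℕ => (DRing.RgammaI J).map ((DerivedCategory.singleFunctor (ModuleCat.{u} A) 0).map (ModuleCat.ofHom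
          (Submodule.mapQ (I ^ (n + 1) • ⊤ : Submodule A M) (I ^ n • ⊤ : Submodule A M) LinearMap.id
            (Submodule.smul_mono (Ideal.pow_le_pow_right (Nat.le_succ n)) le_rfl)))))
        (fun n => (DRing.RgammaIε J).app _ ≫ (ν.app ((Qn I n).obj MM)).hom)
        (fun n => ⟨(DRing.RgammaI J).mapIso (ν.app ((Qn I n).obj MM)),
          ((DRing.RgammaIε J).naturality (ν.app ((Qn I n).obj MM)).hom)⟩)
        (fun n => (((Category.assoc _ _ _).symm.trans (congrArg (· ≫ (ν.app ((Qn I n).obj MM)).hom)
          ((DRing.RgammaIε J).naturality _))).trans ((Category.assoc _ _ _).trans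
            (congrArg ((DRing.RgammaIε J).app _ ≫ ·) (ν.hom.naturality ((tr I n).app MM))))).trans
              (Category.assoc _ _ _).symm)
      refine ⟨w.hom ≫ a, c ≫ w.inv⟦(1 : ℤ)⟧', ?_⟩
      exact Pretriangulated.isomorphic_distinguished _ hT _
        (Pretriangulated.Triangle.isoMk _ _ w (Iso.refl _) (Iso.refl _) (Category.comp_id _)
          ((Category.comp_id _).trans (Category.id_comp _).symm)
          (((Category.assoc _ _ _).trans (congrArg (c ≫ ·) (((shiftFunctor (Dual.D A) (1 : ℤ)).map_comp _ _).symm.trans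
            ((congrArg _ w.inv_hom_id).trans ((shiftFunctor (Dual.D A) (1 : ℤ)).map_id _))))).trans
              ((Category.comp_id c).trans (Category.id_comp c).symm)))
    · haveI : Subsingleton (((C s (Lam I)).obj MM).homology i) := by
        refine ⟨fun x y => ?_⟩
        obtain ⟨a, rfl⟩ := cl_surjective _ i x
        obtain ⟨b, rfl⟩ := cl_surjective _ i y
        exact congrArg _ (Subtype.ext ((subsingleton_X (Lam I) s MM i hi).elim _ _))
      exact ((((DerivedCategory.homologyFunctor (ModuleCat.{u} A) i).mapIso w).toLinearEquiv).trans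
        (hdQ ((C s (Lam I)).obj MM) i)).toEquiv.subsingleton

end Groth.Agent.S1815
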