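import Groth.Agent.Frob15.FSplitCoh
import Groth.Agent.AmpleLib.Ample
import Groth.Agent.PicLib.FormalGen
import Groth.Statements.S18151
-- import your own Groth.Agent.* helpers here

set_option autoImplicit false
set_option backward.isDefEq.respectTransparency.types false
set_option linter.style.haveILetI false
universe u
open CategoryTheory AlgebraicGeometry Opposite TopologicalSpace
open FrobSch

namespace Groth.Agent.S18151

open Groth.Agent.Coherent Groth.Agent.PicLib Groth.Agent.AmpleLib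

/-- An injective semilinear map does not increase dimension. -/
theorem finrank_le_of_semilinear {k V W : Type*} [Field k] (p : ℕ) [Fact p.Prime] [CharP k p] [PerfectRing k p]
    [AddCommGroup V] [Module k V] [Module.Finite k V] [AddCommGroup W] [Module k W] [Module.Finite k W]
    (F : V →+ W) (hF : ∀ (c : k) (x : V), F (c • x) = c ^ p • F x) (hinj : Function.Injective F) :
    Module.finrank k V ≤ Module.finrank k W := by
  haveI : ExpChar k p := ExpChar.prime Fact.out
  let b := Module.finBasis k V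
  have hroot : ∀ c : k, ((frobeniusEquiv k p).symm c) ^ p = c := fun c => frobeniusEquiv_symm_pow_p k p c
  have hli : LinearIndependent k fun i => F (b i) := by
    rw [Fintype.linearIndependent_iff]
    intro g hg i
    have key : ∑ i, g i • F (b i) = F (∑ i, (frobeniusEquiv k p).symm (g i) • b i) := by
      simp only [map_sum, hF, hroot]
    rw [key, ← map_zero F] at hg
    have h2 := Fintype.linearIndependent_iff.1 b.linearIndependent _ (hinj hg) i
    rw [← hroot (g i), h2, zero_pow (Fact.out : p.Prime).ne_zero]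
  simpa using hli.fintype_card_le_finrank

variable {X : Scheme.{u}}

/-- The value of an additive endomorphism of the structure sheaf. -/
noncomputable def σ (s : Coh.toAb (Coh.structureModule X) ⟶ Coh.toAb (Coh.structureModule X)) (U : X.Opens) :
    Γ(X, U) →+ Γ(X, U) :=
  AddMonoidHom.mk' (fun b => s.hom.app (op U) b) fun a b => (s.hom.app (op U)).hom.map_add a b

theorem σ_res (s : Coh.toAb (Coh.structureModule X) ⟶ Coh.toAb (Coh.structureModule X)) {U V : X.Opens} (h : V ≤ U)
    (b : Γ(X, U)) : res h (σ s U b) = σ s V (res h b) :=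
  (ConcreteCategory.congr_hom (s.hom.naturality (homOfLE h).op) b).symm

/-- Characterisation of the descended section. -/
def IsS (s : Coh.toAb (Coh.structureModule X) ⟶ Coh.toAb (Coh.structureModule X)) (L : X.Modules) (p : ℕ)
    {V : X.Opens} (w : Γ(CohB1.tensorPow L p, V)) (t : Γ(L, V)) : Prop :=
  ∀ (W : X.Opens) (h : W ≤ V) (g : Γ(L, W)), IsGen L W g → ∀ b : Γ(X, W),
    resM (CohB1.tensorPow L p) h w = b • powSec g p → resM L h t = σ s W b • g

variable {s : Coh.toAb (Coh.structureModule X) ⟶ Coh.toAb (Coh.structureModule X)} {L : X.Modules} {p : ℕ}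
  (hlin : ∀ (U : X.Opens) (a b : Γ(X, U)), σ s U (a ^ p * b) = a * σ s U b)
include hlin

theorem key {V W₁ W₂ W : X.Opens} (w : Γ(CohB1.tensorPow L p, V)) (h₁ : W₁ ≤ V) (h₂ : W₂ ≤ V) (e₁ : W ≤ W₁) (e₂ : W ≤ W₂)
    {g₁ : Γ(L, W₁)} (hg₁ : IsGen L W₁ g₁) {g₂ : Γ(L, W₂)} (b₁ : Γ(X, W₁)) (b₂ : Γ(X, W₂))
    (hb₁ : resM (CohB1.tensorPow L p) h₁ w = b₁ • powSec g₁ p)
    (hb₂ : resM (CohB1.tensorPow L p) h₂ w = b₂ • powSec g₂ p) :
    resM L e₁ (σ s W₁ b₁ • g₁) = resM L e₂ (σ s W₂ b₂ • g₂) := by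
  obtain ⟨c, hc⟩ := (hg₁ W e₁).2 (resM L e₂ g₂)
  simp only at hc
  have hb : res e₁ b₁ = c ^ p * res e₂ b₂ := by
    refine ((isGen_powSec hg₁ p) W e₁).1 ?_
    show res e₁ b₁ • resM _ e₁ (powSec g₁ p) = (c ^ p * res e₂ b₂) • resM _ e₁ (powSec g₁ p)
    rw [mul_comm, mul_smul, resM_powSec e₁ g₁ p, ← powSec_smul, hc, ← resM_powSec e₁ g₁ p, ← resM_powSec e₂ g₂ p,
      ← resM_smul, ← resM_smul, ← hb₁, ← hb₂, resM_resM, resM_resM]
  rw [resM_smul, resM_smul, σ_res, σ_res, hb, hlin, mul_comm, mul_smul, hc]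

theorem existsUnique_isS (hL : PicF.IsInvertible L) {V : X.Opens} (w : Γ(CohB1.tensorPow L p, V)) :
    ∃! t : Γ(L, V), IsS s L p w t := by
  choose U hyU g hg using fun y : V => exists_isGen hL y.1
  let W : V → X.Opens := fun y => V ⊓ U y
  have hW : ∀ y, W y ≤ V := fun y => inf_le_left
  let g' : ∀ y, Γ(L, W y) := fun y => resM L inf_le_right (g y)
  have hg' : ∀ y, IsGen L (W y) (g' y) := fun y => (hg y).restrict inf_le_right
  choose b hb using fun y => (isGen_powSec (hg' y) p (W y) le_rfl).2 (resM (CohB1.tensorPow L p) (hW y) w)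
  simp only [resM_self] at hb
  let F : TopCat.Sheaf Ab X := ⟨L.presheaf, L.isSheaf⟩
  have hcov : V ≤ ⨆ y, W y := fun z hz => Opens.mem_iSup.2 ⟨⟨z, hz⟩, hz, hyU ⟨z, hz⟩⟩
  obtain ⟨t, ht, -⟩ := F.existsUnique_gluing' W V (fun y => homOfLE (hW y)) hcov (fun y => σ s (W y) (b y) • g' y)
    (fun y y' => key hlin w (hW y) (hW y') inf_le_left inf_le_right (hg' y) (b y) (b y') (hb y).symm (hb y').symm)
  have ht' : ∀ y, resM L (hW y) t = σ s (W y) (b y) • g' y := ht
  refine ⟨t, fun W' h g₀ hg₀ b₀ hb₀ => ?_, fun t' ht₁ => ?_⟩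
  · refine sec_ext L _ _ fun z hz => ?_
    refine ⟨W' ⊓ W ⟨z, h hz⟩, inf_le_left, ⟨hz, h hz, hyU ⟨z, h hz⟩⟩, ?_⟩
    rw [resM_resM, ← resM_resM L (hW ⟨z, h hz⟩) inf_le_right t, ht']
    exact key hlin w (hW ⟨z, h hz⟩) h inf_le_right inf_le_left (hg' _) _ _ (hb _).symm hb₀
  · refine sec_ext L _ _ fun z hz => ⟨W ⟨z, hz⟩, hW _, ⟨hz, hyU ⟨z, hz⟩⟩, ?_⟩
    rw [ht', ht₁ (W ⟨z, hz⟩) (hW _) _ (hg' _) _ (hb _).symm]

omit hlin

/-- Let p be a prime, k a perfect field of characteristic p, and X a proper k-scheme. Let φ be the p-th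
power map on the sheaf of additive groups underlying O_X and suppose X is Frobenius split: φ admits
a retraction s, an additive endomorphism of O_X with s ∘ φ the identity and s(a^p·b) = a·s(b) on
every open. Then for every invertible module L and every i the dimension of H^i(X, L) over k is at
most that of H^i(X, L^{⊗p}). (The source shows, for any k-scheme X, that the Frobenius pull-back
H^i(X, L) → H^i(X, L^{⊗p}) is injective, with a left inverse coming from the splitting; that map is
not named here, so the statement records its consequence on dimensions, for X proper so that both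
are finite.) -/
theorem result (p : ℕ) [Fact p.Prime]
    (k : Type u) [Field k] [CharP k p] [PerfectRing k p]
    (X : Scheme.{u}) [X.Over (Spec (CommRingCat.of k))] [IsProper (X ↘ Spec (CommRingCat.of k))]
    (φ : Coh.toAb (Coh.structureModule X) ⟶ Coh.toAb (Coh.structureModule X))
    (hφ : ∀ (U : X.Opens) (t : Γ(X, U)), φ.hom.app (op U) t = t ^ p)
    (s : Coh.toAb (Coh.structureModule X) ⟶ Coh.toAb (Coh.structureModule X))
    (hs : φ ≫ s = 𝟙 _)
    (hlin : ∀ (U : X.Opens) (a b : Γ(X, U)),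
      s.hom.app (op U) (a ^ p * b) = a * @id Γ(X, U) (s.hom.app (op U) b))
    (L : X.Modules) (hL : PicF.IsInvertible L) (i : ℕ) :
    Module.finrank k (Coh.HH X L i) ≤ Module.finrank k (Coh.HH X (CohB1.tensorPow L p) i) := by
  classical
  have hlin' : ∀ (U : X.Opens) (a b : Γ(X, U)), σ s U (a ^ p * b) = a * σ s U b := hlin
  let P := CohB1.tensorPow L p
  have hphi : ∀ (U : X.Opens) (a b : Γ(X, U)), (a + b) ^ p = a ^ p + b ^ p := fun U a b =>
    (hφ U (a + b)).symm.trans (((φ.hom.app (op U)).hom.map_add a b).trans (congrArg₂ (· + ·) (hφ U a) (hφ U b)))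
  have hsφ : ∀ (U : X.Opens) (a : Γ(X, U)), σ s U (a ^ p) = a := fun U a => by
    show s.hom.app (op U) (a ^ p) = a
    rw [← hφ]
    exact congrArg (fun ψ : Coh.toAb (Coh.structureModule X) ⟶ Coh.toAb (Coh.structureModule X) => ψ.hom.app (op U) a) hs
  have hadd : ∀ (V : X.Opens) (a b : Γ(L, V)), powSec (a + b) p = powSec a p + powSec b p := by
    intro V a b
    refine sec_ext P _ _ fun z hz => ?_
    obtain ⟨U, hzU, g, hg⟩ := exists_isGen hL z
    refine ⟨V ⊓ U, inf_le_left, ⟨hz, hzU⟩, ?_⟩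
    obtain ⟨x, hx⟩ := (hg (V ⊓ U) inf_le_right).2 (resM L inf_le_left a)
    obtain ⟨y, hy⟩ := (hg (V ⊓ U) inf_le_right).2 (resM L inf_le_left b)
    simp only at hx hy
    rw [map_add, resM_powSec, resM_powSec, resM_powSec, map_add, ← hx, ← hy, ← add_smul, powSec_smul, powSec_smul,
      powSec_smul, hphi, add_smul]
  let Φ : Coh.toAb L ⟶ Coh.toAb P :=
    ⟨{ app := fun V => AddCommGrpCat.ofHom
        (AddMonoidHom.mk' (fun a : Γ(L, V.unop) => powSec a p) (hadd V.unop))
       naturality := fun V V' f => by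
        ext a
        exact (resM_powSec f.unop.le (show Γ(L, V.unop) from a) p).symm }⟩
  choose T hT hT' using fun (V : X.Opens) (w : Γ(P, V)) => existsUnique_isS hlin' hL w
  have Tadd : ∀ (V : X.Opens) (w w' : Γ(P, V)), T V (w + w') = T V w + T V w' := by
    intro V w w'
    refine (hT' V (w + w') _ ?_).symm
    intro W h g hg b hb
    obtain ⟨b₁, hb₁⟩ := (isGen_powSec hg p W le_rfl).2 (resM P h w)
    obtain ⟨b₂, hb₂⟩ := (isGen_powSec hg p W le_rfl).2 (resM P h w')
    simp only [resM_self] at hb₁ hb₂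
    have hb' : b = b₁ + b₂ := (isGen_powSec hg p W le_rfl).1 (by
      simp only [resM_self]
      rw [← hb, add_smul, hb₁, hb₂, map_add])
    rw [map_add, hT V w W h g hg b₁ hb₁.symm, hT V w' W h g hg b₂ hb₂.symm, hb', map_add, add_smul]
  have Tres : ∀ (V V' : X.Opens) (h : V' ≤ V) (w : Γ(P, V)), T V' (resM P h w) = resM L h (T V w) := by
    intro V V' h w
    refine (hT' V' _ _ ?_).symm
    intro W e g hg b hb
    rw [resM_resM] at hb ⊢
    exact hT V w W (e.trans h) g hg b hb
  let S : Coh.toAb P ⟶ Coh.toAb L :=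
    ⟨{ app := fun V => AddCommGrpCat.ofHom (AddMonoidHom.mk' (T V.unop) (Tadd V.unop))
       naturality := fun V V' f => by
        ext w
        exact Tres V.unop V'.unop f.unop.le w }⟩
  have hΦS : Φ ≫ S = 𝟙 _ := by
    ext V a
    show T V.unop (powSec (show Γ(L, V.unop) from a) p) = a
    refine (hT' V.unop _ _ ?_).symm
    intro W h g hg b hb
    obtain ⟨x, hx⟩ := (hg W le_rfl).2 (resM L h (show Γ(L, V.unop) from a))
    simp only [resM_self] at hx
    have hb' : x ^ p = b := (isGen_powSec hg p W le_rfl).1 (by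
      simp only [resM_self]
      rw [← hb, resM_powSec, ← hx, powSec_smul])
    rw [← hb', hsφ, hx]
  haveI : IsLocallyNoetherian X := CurveRR24.isLocallyNoetherian_of_proper k
  haveI := CurveRR24.finite_HH_of_isCoh k (PicLib.isCoh_of_isInvertible hL) i
  haveI := CurveRR24.finite_HH_of_isCoh k (PicLib.isCoh_of_isInvertible (isInvertible_tensorPow hL p)) i
  refine finrank_le_of_semilinear p (Sheaf.H.map Φ i) (fun c x => ?_)
    (Function.LeftInverse.injective (g := Sheaf.H.map S i) fun x => by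
      rw [← Sheaf.H.map_comp_apply, hΦS, Sheaf.H.map_id_apply])
  show Sheaf.H.map Φ i (Sheaf.H.map (Coh.smulAb _ (Coh.toGlobal _ c)) i x) =
    Sheaf.H.map (Coh.smulAb _ (Coh.toGlobal _ (c ^ p))) i (Sheaf.H.map Φ i x)
  rw [← Sheaf.H.map_comp_apply, ← Sheaf.H.map_comp_apply]
  refine congrArg (fun ψ => Sheaf.H.map ψ i x) ?_
  ext U m
  show powSec ((show Γ(X, U.unop) from Coh.resTop X U (Coh.toGlobal _ c)) • (show Γ(L, U.unop) from m)) p =
    (show Γ(X, U.unop) from Coh.resTop X U (Coh.toGlobal _ (c ^ p))) • powSec (show Γ(L, U.unop) from m) p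
  rw [powSec_smul, map_pow, map_pow]
  rfl

end Groth.Agent.S18151
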