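import Groth.Statements.S18150
import Groth.Agent.S18151
import Groth.Agent.S2330
import Groth.Agent.AbCubeLib.ProjEmbedding
import Groth.Agent.PnCanon5.Duality
import Groth.Agent.SerreDual.CMVanishing
import Groth.Agent.EulerLib.InvClass
import Groth.Agent.Lef23.Neg
-- import your own Groth.Agent.* helpers here

set_option autoImplicit false
set_option backward.isDefEq.respectTransparency.types false
set_option linter.style.haveILetI false
universe u
open CategoryTheory AlgebraicGeometry Opposite TopologicalSpace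
open FrobSch

namespace Groth.Agent.S18150

/-- Let p be a prime, k a perfect field of characteristic p, and X an irreducible smooth proper k-scheme
of dimension n. Let φ be the p-th power map on the sheaf of additive groups underlying O_X and
suppose X is Frobenius split: φ admits a retraction s, an additive endomorphism of O_X with s ∘ φ
the identity and s(a^p·b) = a·s(b) on every open. Then Kodaira vanishing holds on X: for every ample
invertible module L with tensor inverse L⁻¹ and every i < n, the cohomology group H^i(X, L⁻¹)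
vanishes. (The source allows X Gorenstein projective; X is taken smooth, proper with an ample
invertible module, and irreducible so that n is the dimension of every component.) -/
theorem result (p : ℕ) [Fact p.Prime]
    (k : Type u) [Field k] [CharP k p] [PerfectRing k p]
    (X : Scheme.{u}) [X.Over (Spec (CommRingCat.of k))] [IsProper (X ↘ Spec (CommRingCat.of k))]
    [Smooth (X ↘ Spec (CommRingCat.of k))] [IrreducibleSpace X] (n : ℕ) (hn : topologicalKrullDim X = n)
    (φ : Coh.toAb (Coh.structureModule X) ⟶ Coh.toAb (Coh.structureModule X))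
    (hφ : ∀ (U : X.Opens) (t : Γ(X, U)), φ.hom.app (op U) t = t ^ p)
    (s : Coh.toAb (Coh.structureModule X) ⟶ Coh.toAb (Coh.structureModule X))
    (hs : φ ≫ s = 𝟙 _)
    (hlin : ∀ (U : X.Opens) (a b : Γ(X, U)),
      s.hom.app (op U) (a ^ p * b) = a * @id Γ(X, U) (s.hom.app (op U) b))
    (L Linv : X.Modules) (hL : CohB1.IsAmple L) (hLinv : ClSub.IsInverseOf Linv L)
    (i : ℕ) (hi : i < n) :
    Subsingleton (Coh.HH X Linv i) := by
  classical
  let q := X ↘ Spec (CommRingCat.of k)
  haveI : ConnectedSpace X := inferInstance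
  haveI : IsIntegral X := PnCanon5.isIntegral_of_smooth_connected q
  haveI := EulerLib.isNoetherian_of_proper (k := k) (X := X)
  haveI : IsLocallyNoetherian X := inferInstance
  have hLi : PicF.IsInvertible L := hL.1
  obtain ⟨u⟩ := hLinv
  have hMi : PicF.IsInvertible Linv :=
    Lef23.isInvertible_inverse hLi ⟨AmpleLib.tensorComm L Linv ≪≫ u⟩
  have hαβ : EulerLib.InvCl.mk L hLi * EulerLib.InvCl.mk Linv hMi = 1 :=
    EulerLib.InvCl.mk_eq (AmpleLib.isInvertible_tensorMod hLi hMi) AmpleLib.isInvertible_structureModule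
      (AmpleLib.tensorComm L Linv ≪≫ u)
  -- a projective embedding by a power of `L`
  obtain ⟨r, hr, hva⟩ := (S2330.result q L hLi).1.1 hL
  obtain ⟨N, ι, hιc, hι, ⟨e1⟩⟩ :=
    AbCubeLib.exists_isClosedImmersion_projSpace q (AmpleLib.isInvertible_tensorPow hLi r) hva
  haveI := hιc
  have hcomp : ∀ Z ∈ irreducibleComponents ↥X, topologicalKrullDim ↥Z = (n : WithBot ℕ∞) := fun Z hZ => by
    rw [DimLib.components_eq_univ (X := X) hZ, IsHomeomorph.topologicalKrullDim_eq _ (Homeomorph.Set.univ _).isHomeomorph, hn]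
  have hCM : ∀ x : X, IsClosed ({x} : Set X) →
      LocCoh.IsCohenMacaulayLocalRing (X.presheaf.stalk x) ∧ ringKrullDim (X.presheaf.stalk x) = n :=
    fun x hx => ⟨haveI := VarietyLib.isRegularLocalRing_stalk_of_smooth k X q x
      CAlgH3.isCohenMacaulayLocalRing_of_regular _, by
      obtain ⟨-, hc⟩ := FlatMor12.coheight_add_ptDim q n
        (fun η hη => by exact_mod_cast (DimLib.forall_components_iff q (fun s => s = (n : WithBot ℕ∞))).1 hcomp η hη) x
      rw [ringKrullDim_stalk_eq_coheight, hc, (DimLib.ptDim_eq_zero_iff q x).2 hx, Nat.sub_zero]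
      rfl⟩
  choose q₀ hq₀ using fun s : ℕ => SerreDual.vanishing_neg_of_cm (k := k) ι hn.le hCM
    (SerreDual.isFinLocFree_of_invertible (AmpleLib.isInvertible_tensorPow hMi s))
  let Q := (Finset.range r).sup q₀
  have hvan : ∀ m : ℕ, r * (Q + 1) ≤ m → Subsingleton (Coh.HH X (CohB1.tensorPow Linv m) i) := by
    intro m hm
    have hsr : m % r < r := Nat.mod_lt _ hr
    have hqQ : q₀ (m % r) ≤ m / r :=
      ((Finset.le_sup (f := q₀) (Finset.mem_range.2 hsr)).trans (Nat.le_succ Q)).trans
        ((Nat.le_div_iff_mul_le hr).2 (by rw [mul_comm]; exact hm))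
    haveI := hq₀ (m % r) (m / r) hqQ i hi
    let B := (Scheme.Modules.pullback ι).obj (Twist.twistProjSpace N k (-((m / r : ℕ) : ℤ)))
    have hBi : PicF.IsInvertible B := PicLoc.isInvertible_pullback ι (SerreDual.isInvertible_twist N k _)
    obtain ⟨a⟩ := SerreDual.nonempty_pull_twist_inv ι ((m / r : ℕ) : ℤ)
    obtain ⟨b⟩ := SerreDual.nonempty_pull_twist_pow ι (m / r)
    have hAi := PicLoc.isInvertible_pullback ι (SerreDual.isInvertible_twist N k ((m / r : ℕ) : ℤ))
    have hLr := AmpleLib.isInvertible_tensorPow hLi r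
    have h1i := PicLoc.isInvertible_pullback ι (SerreDual.isInvertible_twist N k 1)
    have hA : EulerLib.InvCl.mk _ hAi = EulerLib.InvCl.mk L hLi ^ (r * (m / r)) := by
      rw [EulerLib.InvCl.mk_eq hAi (AmpleLib.isInvertible_tensorPow h1i _) b, EulerLib.InvCl.mk_tensorPow h1i,
        EulerLib.InvCl.mk_eq h1i hLr e1, EulerLib.InvCl.mk_tensorPow hLi, ← pow_mul]
    have hAB : EulerLib.InvCl.mk _ hAi * EulerLib.InvCl.mk B hBi = 1 :=
      EulerLib.InvCl.mk_eq (AmpleLib.isInvertible_tensorMod hAi hBi) AmpleLib.isInvertible_structureModule a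
    have hB : EulerLib.InvCl.mk B hBi = EulerLib.InvCl.mk Linv hMi ^ (r * (m / r)) :=
      (left_inv_eq_right_inv (b := EulerLib.InvCl.mk Linv hMi ^ (r * (m / r))) (a := EulerLib.InvCl.mk _ hAi)
        (by rw [hA, mul_comm, ← mul_pow, hαβ, one_pow]) hAB).symm
    have hs := AmpleLib.isInvertible_tensorPow hMi (m % r)
    have hm' := AmpleLib.isInvertible_tensorPow hMi m
    have hcl : EulerLib.InvCl.mk _ hm' = EulerLib.InvCl.mk _ (AmpleLib.isInvertible_tensorMod hs hBi) := by
      refine Eq.trans ?_ (EulerLib.InvCl.mk_mul hs hBi)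
      rw [hB, EulerLib.InvCl.mk_tensorPow hMi, EulerLib.InvCl.mk_tensorPow hMi, ← pow_add,
        Nat.mod_add_div]
    obtain ⟨θ⟩ := Quotient.exact hcl
    exact Lef23.subsingleton_HH_iso θ.symm i this
  -- descend along the Frobenius
  have hstep : ∀ m : ℕ, Subsingleton (Coh.HH X (CohB1.tensorPow Linv (m * p)) i) →
      Subsingleton (Coh.HH X (CohB1.tensorPow Linv m) i) := by
    intro m hm
    have hMm := AmpleLib.isInvertible_tensorPow hMi m
    have h := S18151.result p k X φ hφ s hs hlin _ hMm i
    obtain ⟨θ, -⟩ := AmpleLib.exists_powPowIso hMi m p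
    haveI : Subsingleton (Coh.HH X (CohB1.tensorPow (CohB1.tensorPow Linv m) p) i) :=
      Lef23.subsingleton_HH_iso θ.symm i hm
    haveI := CurveRR24.finite_HH_of_isCoh k (PicLib.isCoh_of_isInvertible hMm) i
    rw [Module.finrank_zero_of_subsingleton (M := Coh.HH X (CohB1.tensorPow (CohB1.tensorPow Linv m) p) i)] at h
    exact Module.finrank_zero_iff.1 (Nat.le_zero.1 h)
  have hdown : ∀ e m : ℕ, Subsingleton (Coh.HH X (CohB1.tensorPow Linv (m * p ^ e)) i) →
      Subsingleton (Coh.HH X (CohB1.tensorPow Linv m) i) := by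
    intro e
    induction e with
    | zero => intro m h; rwa [pow_zero, mul_one] at h
    | succ e ih => intro m h; exact ih m (hstep _ (by rwa [mul_assoc, ← pow_succ]))
  have h1 := hdown (r * (Q + 1)) 1 (hvan _ (by
    rw [one_mul]; exact (Nat.lt_pow_self (Fact.out : p.Prime).one_lt).le))
  obtain ⟨θ⟩ : Nonempty (CohB1.tensorPow Linv 1 ≅ Linv) :=
    Quotient.exact (show EulerLib.InvCl.mk _ (AmpleLib.isInvertible_tensorPow hMi 1) = EulerLib.InvCl.mk Linv hMi by
      rw [EulerLib.InvCl.mk_tensorPow hMi, pow_one])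
  exact Lef23.subsingleton_HH_iso θ i h1

end Groth.Agent.S18150
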