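import Groth.Statements.S18155
import Groth.Agent.HenselLib.EtaleLift
import Groth.Agent.W2Lift.Basic
import Mathlib.RingTheory.Smooth.Basic
import Mathlib.RingTheory.Etale.Basic
import Mathlib.RingTheory.Smooth.Flat

set_option autoImplicit false
universe u v
open FrobAlg

open Groth.Agent
namespace Groth.Agent.S18155

/-- lifting along nilpotent surjections, in terms of ring maps -/
theorem exists_lift {R D E C : Type v} [CommRing R] [CommRing D] [CommRing E] [CommRing C] [Algebra R D]
    [Algebra.FormallySmooth R D] (b : R →+* E) (g : E →+* C) (hg : Function.Surjective g)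
    (hn : IsNilpotent (RingHom.ker g)) (f : D →+* C) (h : f.comp (algebraMap R D) = g.comp b) :
    ∃ l : D →+* E, l.comp (algebraMap R D) = b ∧ g.comp l = f := by
  letI := b.toAlgebra
  letI := (g.comp b).toAlgebra
  let g' : E →ₐ[R] C := { g with commutes' := fun _ => rfl }
  let f' : D →ₐ[R] C := { f with commutes' := fun r => RingHom.congr_fun h r }
  let l := Algebra.FormallySmooth.liftOfSurjective f' g' hg hn
  refine ⟨l.toRingHom, l.comp_algebraMap, RingHom.ext fun d => ?_⟩
  exact AlgHom.congr_fun (Algebra.FormallySmooth.comp_liftOfSurjective f' g' hg hn) d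

/-- Let k be an algebraically closed field of characteristic p, A a commutative k-algebra and C an étale
A-algebra. If A admits a flat lifting over W_2(k) together with a lift of Frobenius, then so does C.
(The source states this for an étale cover Y → X of smooth varieties over k; its argument uses only
that Y is étale over X, and the affine case is stated here with no smoothness or finiteness
hypothesis on A over k.) -/
theorem result
    (p : ℕ) [Fact p.Prime] (k : Type u) [Field k] [IsAlgClosed k] [CharP k p]
    (A C : Type v) [CommRing A] [CommRing C] [Algebra k A] [Algebra k C]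
    [Algebra A C] [IsScalarTower k A C] [Algebra.Etale A C]
    (hA : FrobAlg.IsFLiftable p k A) : FrobAlg.IsFLiftable p k C := by
  obtain ⟨B, _, ι, π, Φ, hL⟩ := hA
  let e : B ⧸ RingHom.ker π ≃+* A := RingHom.quotientKerEquivOfSurjective hL.surj
  letI : Algebra (B ⧸ RingHom.ker π) A := e.toRingHom.toAlgebra
  letI : Algebra (B ⧸ RingHom.ker π) C := ((algebraMap A C).comp e.toRingHom).toAlgebra
  have : IsScalarTower (B ⧸ RingHom.ker π) A C := IsScalarTower.of_algebraMap_eq fun _ => rfl
  have : Algebra.Etale (B ⧸ RingHom.ker π) A :=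
    Algebra.Etale.of_equiv (AlgEquiv.ofBijective (Algebra.ofId (B ⧸ RingHom.ker π) A) e.bijective)
  have : Algebra.Etale (B ⧸ RingHom.ker π) C := Algebra.Etale.comp _ A _
  obtain ⟨D, _, _, _, θ, hθ, hker, hcomp⟩ := HenselLib.exists_etale_lift B (RingHom.ker π) C
  have hcomp' : ∀ b, θ (algebraMap B D b) = algebraMap A C (π b) := fun b => hcomp b
  have hsq : ∀ x y, x ∈ RingHom.ker θ → y ∈ RingHom.ker θ → x * y = 0 := by
    have h1 : RingHom.ker θ ≤ Ideal.span {(algebraMap B D) (ι p)} := by
      rw [hker, hL.ker_eq, Ideal.map_map]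
      refine Ideal.map_le_iff_le_comap.2 fun w hw => ?_
      obtain ⟨c, rfl⟩ := (W2Lift.res_eq_zero_iff_dvd w).1 hw
      rw [Ideal.mem_comap, map_mul]
      exact Ideal.mul_mem_right _ _ (Ideal.mem_span_singleton_self _)
    intro x y hx hy
    obtain ⟨a, rfl⟩ := Ideal.mem_span_singleton'.1 (h1 hx)
    obtain ⟨b, rfl⟩ := Ideal.mem_span_singleton'.1 (h1 hy)
    rw [mul_mul_mul_comm, ← map_mul, ← map_mul, W2Lift.p_mul_p, map_zero, map_zero, mul_zero]
  have hn : IsNilpotent (RingHom.ker θ) := ⟨2, by
    rw [pow_two]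
    exact eq_bot_iff.2 (Ideal.mul_le.2 fun x hx y hy => hsq x y hx hy)⟩
  have : CharP C p ∨ Subsingleton C := by
    rcases subsingleton_or_nontrivial C with h | h
    · exact Or.inr h
    · exact Or.inl (charP_of_injective_algebraMap ((algebraMap k C).injective) p)
  obtain ⟨frobC, hfrobC⟩ : ∃ F : C →+* C, ∀ c, F c = c ^ p := by
    rcases this with h | h
    · exact ⟨frobenius C p, fun c => rfl⟩
    · exact ⟨RingHom.id C, fun c => Subsingleton.elim _ _⟩
  obtain ⟨G, hG1, hG2⟩ := exists_lift ((algebraMap B D).comp Φ) θ hθ hn (frobC.comp θ) (by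
    refine RingHom.ext fun b => ?_
    simp only [RingHom.comp_apply, hfrobC, hcomp', hL.red, map_pow])
  refine ⟨D, inferInstance, (algebraMap B D).comp ι, θ, G, ⟨⟨?_, hθ, ?_, ?_⟩, ?_, fun d => ?_⟩⟩
  · exact hL.flat.comp (RingHom.flat_algebraMap_iff.2 inferInstance)
  · rw [hker, hL.ker_eq, Ideal.map_map]
  · refine RingHom.ext fun w => ?_
    show θ (algebraMap B D (ι w)) = algebraMap k C (FrobAlg.res p k w)
    rw [hcomp', show π (ι w) = algebraMap k A (FrobAlg.res p k w) from RingHom.congr_fun hL.comm w,
      ← IsScalarTower.algebraMap_apply]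
  · rw [← RingHom.comp_assoc, hG1, RingHom.comp_assoc, hL.semi, RingHom.comp_assoc]
  · exact (RingHom.congr_fun hG2 d).trans (hfrobC _)

end Groth.Agent.S18155
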