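import Groth.Statements.S18156
import Mathlib
import Groth.Prelude

set_option linter.all false

set_option autoImplicit false
universe u v
open CAlg


namespace Groth.Agent.S18156

theorem derivation_mem_pow {k : Type*} {A : Type*} [CommRing k] [CommRing A] [Algebra k A] (D : Derivation k A A) (I : Ideal A) :
    ∀ (n : ℕ), ∀ a ∈ I ^ (n + 1), D a ∈ I ^ n := by
  intro n
  induction n with
  | zero => intro a _; simp
  | succ n ih =>
    intro a ha
    rw [pow_succ] at ha
    induction ha using Submodule.mul_induction_on' with
    | mem_mul_mem y hy z hz =>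
      rw [D.leibniz, smul_eq_mul, smul_eq_mul]
      exact Ideal.add_mem _ (Ideal.mul_mem_right _ _ hy) (by rw [pow_succ, mul_comm z]; exact Ideal.mul_mem_mul (ih y hy) hz)
    | add y _ z _ hy hz => rw [map_add]; exact add_mem hy hz

theorem exists_derivation_completion {k : Type u} [CommRing k] {A : Type v} [CommRing A] [Algebra k A]
    (I : Ideal A) (D : Derivation k A A) :
    ∃ Dhat : Derivation k (AdicCompletion I A) (AdicCompletion I A),
      ∀ a : A, Dhat (algebraMap A (AdicCompletion I A) a) = algebraMap A (AdicCompletion I A) (D a) := by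
  classical
  choose rep hrep using AdicCompletion.mk_surjective I A
  have hD := derivation_mem_pow D I
  have hseq : ∀ x, ∀ {m n : ℕ}, m ≤ n → D ((rep x).1 (m + 1)) ≡ D ((rep x).1 (n + 1)) [SMOD (I ^ m • ⊤ : Submodule A A)] := by
    intro x m n h
    rw [SModEq.sub_mem, smul_eq_mul, Ideal.mul_top, ← map_sub]
    refine hD m _ ?_
    have := SModEq.sub_mem.1 ((rep x).2 (Nat.succ_le_succ h))
    simpa using this
  let g : AdicCompletion I A → AdicCompletion I A := fun x => AdicCompletion.mk I A ⟨fun n => D ((rep x).1 (n + 1)), hseq x⟩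
  have hev : ∀ (x : AdicCompletion I A) (n : ℕ), AdicCompletion.evalₐ I n x = Ideal.Quotient.mk _ ((rep x).1 n) := fun x n => by
    conv_lhs => rw [← hrep x]
    exact AdicCompletion.evalₐ_mk I n _
  have key : ∀ (x : AdicCompletion I A) (n : ℕ) (b : A), AdicCompletion.evalₐ I (n + 1) x = Ideal.Quotient.mk _ b →
      AdicCompletion.evalₐ I n (g x) = Ideal.Quotient.mk _ (D b) := by
    intro x n b hb
    rw [hev] at hb
    refine (AdicCompletion.evalₐ_mk I n _).trans ?_
    rw [Ideal.Quotient.eq, ← map_sub]
    exact hD n _ (Ideal.Quotient.eq.1 hb)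
  have hb : ∀ (x : AdicCompletion I A) (n : ℕ), ∃ b, AdicCompletion.evalₐ I (n + 1) x = Ideal.Quotient.mk _ b ∧
      AdicCompletion.evalₐ I n x = Ideal.Quotient.mk _ b := fun x n => by
    refine ⟨(rep x).1 (n + 1), hev x (n + 1), ?_⟩
    rw [hev, Ideal.Quotient.eq]
    have := SModEq.sub_mem.1 ((rep x).2 (Nat.le_succ n))
    simpa using this
  let L : AdicCompletion I A →ₗ[k] AdicCompletion I A :=
    { toFun := g
      map_add' := fun x y => AdicCompletion.ext_evalₐ fun n => by
        obtain ⟨a, ha, -⟩ := hb x n
        obtain ⟨b, hb, -⟩ := hb y n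
        rw [map_add, key x n a ha, key y n b hb, key (x + y) n (a + b) (by rw [map_add, ha, hb, map_add]), map_add, map_add]
      map_smul' := fun c x => AdicCompletion.ext_evalₐ fun n => by
        obtain ⟨a, ha, -⟩ := hb x n
        rw [RingHom.id_apply, ← algebraMap_smul A c x, ← algebraMap_smul A c (g x), map_smul, key x n a ha,
          key _ n (algebraMap k A c • a) (by rw [map_smul, ha]; rfl), algebraMap_smul, D.map_smul, ← algebraMap_smul A c (D a)]
        rfl }
  refine ⟨Derivation.mk' L fun x y => AdicCompletion.ext_evalₐ fun n => ?_, fun a => AdicCompletion.ext_evalₐ fun n => ?_⟩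
  · obtain ⟨a, ha, ha'⟩ := hb x n
    obtain ⟨b, hb, hb'⟩ := hb y n
    show AdicCompletion.evalₐ I n (g (x * y)) = AdicCompletion.evalₐ I n (x • g y + y • g x)
    simp only [smul_eq_mul, map_add, map_mul]
    rw [key _ n (a * b) (by rw [map_mul, ha, hb, map_mul]), key x n a ha, key y n b hb, ha', hb', D.leibniz, smul_eq_mul, smul_eq_mul,
      map_add, map_mul, map_mul]
  · show AdicCompletion.evalₐ I n (g _) = _
    rw [key _ n a (by rw [AlgHom.commutes]; rfl), AlgHom.commutes]
    rfl

/-- Let k be a field and A a regular local ring that is a k-algebra, with maximal ideal m and m-adic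
completion Â. Then every k-derivation D of A into itself extends to a k-derivation D̂ of Â into
itself along the canonical map ρ : A → Â, in the sense that D̂(ρ(a)) = ρ(D(a)) for every a ∈ A. (The
source works throughout over an algebraically closed field of characteristic p; neither assumption
enters this statement.) -/
theorem result
    (k : Type u) [Field k] (A : Type v) [CommRing A] [Algebra k A] [IsRegularLocalRing A]
    (D : Derivation k A A) :
    ∃ Dhat : Derivation k (AdicCompletion (IsLocalRing.maximalIdeal A) A)
        (AdicCompletion (IsLocalRing.maximalIdeal A) A),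
      ∀ a : A, Dhat (algebraMap A (AdicCompletion (IsLocalRing.maximalIdeal A) A) a) =
        algebraMap A (AdicCompletion (IsLocalRing.maximalIdeal A) A) (D a) := by
  exact exists_derivation_completion _ D

end Groth.Agent.S18156
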