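import Groth.Statements.S18157
import Groth.Agent.Lift15.NegCanonical
import Groth.Agent.Lift15.SectionOfHom
import Groth.Agent.GenSmoothLib.OmegaFree
-- import your own Groth.Agent.* helpers here

set_option autoImplicit false
universe u
open CategoryTheory CategoryTheory.Limits AlgebraicGeometry TopologicalSpace
open Lift

namespace Groth.Agent.S18157

/-- Fix an algebraically closed field k whose characteristic is p, and consider an integral k-scheme X
that is smooth and proper of dimension d, with canonical module ω taken to be a d-th exterior power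
of Ω_{X/k}. Assume we have a scheme X~ that is flat over Spec W_2(k), a morphism i : X → X~
exhibiting X as the base change of X~ along Spec k → Spec W_2(k) (coming from the residue map), and
an endomorphism F~ of X~ satisfying i ∘ F_X = F~ ∘ i, with F_X denoting the absolute Frobenius; in
other words, a W_2-lifting of the Frobenius of X. Then, for any n ≥ 1 and any O_X-module N which is
a tensor inverse of ω^{⊗(p^n − 1)}, the global sections H^0(X, N) form a nonzero group. (In the
publication the claim is that no such lifting exists for a proper smooth variety whose Kodaira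
dimension is at least 1; what is formalized here is the non-vanishing of global sections that yields
this.) -/
theorem result
    (p : ℕ) [Fact p.Prime] (k : Type u) [Field k] [IsAlgClosed k] [CharP k p]
    (X : Scheme.{u}) (f : X ⟶ Spec (CommRingCat.of k)) [IsProper f] [Smooth f]
    [AlgebraicGeometry.IsIntegral X] [FrobSch.IsCharP X p]
    (d : ℕ) (hd : topologicalKrullDim X = d)
    (W : X.Modules) (hW : ExtPow.IsExtPow d (Omega.sheaf f) W)
    (Xl : Scheme.{u}) (g : Xl ⟶ Spec (CommRingCat.of (FrobAlg.W2 p k))) [Flat g]
    (i : X ⟶ Xl) (hsq : IsPullback i f g (Spec.map (CommRingCat.ofHom (FrobAlg.res p k))))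
    (Fl : Xl ⟶ Xl) (hF : i ≫ Fl = FrobSch.frob X p ≫ i)
    (n : ℕ) (hn : 0 < n) (N : X.Modules) (hN : ClSub.IsInverseOf N (CohB1.tensorPow W (p ^ n - 1))) :
    Nontrivial (Coh.HH X N 0) := by
  haveI : SmoothOfRelativeDimension d f := Groth.Agent.GenSmoothLib.smoothOfRelativeDimension_toField f hd
  obtain ⟨φ, hφ⟩ := hW
  obtain ⟨s, hs⟩ := Groth.Agent.Lift15.exists_hom f φ hφ hsq hF n
  obtain ⟨ε⟩ := hN
  have hN' : PicF.IsInvertible N := Groth.Agent.MorProj.isInvertible_of_tensor_iso ε
  have hP : PicF.IsInvertible (CohB1.tensorPow W (p ^ n - 1)) :=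
    Groth.Agent.PicLib.isInvertible_of_gens fun x => by
      obtain ⟨U, e, hxU, he, -⟩ := hs x
      exact ⟨U, hxU, _, Groth.Agent.AmpleLib.isGen_powSec he _⟩
  exact Groth.Agent.Lift15.nontrivial_hh_zero (n := p ^ n - 1) s ε hN' fun x => by
    obtain ⟨U, e, hxU, he, h, -, hne, hh⟩ := hs x
    exact ⟨U, e, hxU, he, _, hne inferInstance ⟨⟨x, hxU⟩⟩ _, hh⟩

end Groth.Agent.S18157
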