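import Groth.Statements.S18158
import Groth.Agent.Et18.Thickening
import Groth.Agent.W2Lift.Basic

set_option autoImplicit false
universe u
open CategoryTheory CategoryTheory.Limits AlgebraicGeometry
open Lift

open Groth.Agent
namespace Groth.Agent.S18158

/-- Let k be an algebraically closed field of characteristic p and q : Y → X an étale morphism to a
smooth k-scheme X. Suppose X has a W_2-lifting of its Frobenius: a scheme X~ flat over Spec W_2(k),
a morphism i : X → X~ making X the base change of X~ along Spec k → Spec W_2(k) (the residue map),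
and an endomorphism F~ of X~ with i ∘ F_X = F~ ∘ i, F_X the absolute Frobenius. Then Y has one as
well: there are a scheme Y~ flat over Spec W_2(k), a morphism j : Y → Y~ making Y the base change of
Y~ along the same map, and an endomorphism G~ of Y~ with j ∘ F_Y = G~ ∘ j. (The source speaks of an
étale cover Y → X of smooth varieties; its argument uses only that Y is étale over X and that X
lifts, so X is taken smooth over k and Y étale over X, with no integrality, separatedness or
quasi-compactness assumed.) -/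
theorem result
    (p : ℕ) [Fact p.Prime] (k : Type u) [Field k] [IsAlgClosed k] [CharP k p]
    (X Y : Scheme.{u}) (f : X ⟶ Spec (CommRingCat.of k)) [Smooth f]
    (q : Y ⟶ X) [AlgebraicGeometry.Etale q]
    [FrobSch.IsCharP X p] [FrobSch.IsCharP Y p]
    (Xl : Scheme.{u}) (g : Xl ⟶ Spec (CommRingCat.of (FrobAlg.W2 p k))) [Flat g]
    (i : X ⟶ Xl) (hsq : IsPullback i f g (Spec.map (CommRingCat.ofHom (FrobAlg.res p k))))
    (Fl : Xl ⟶ Xl) (hF : i ≫ Fl = FrobSch.frob X p ≫ i) :
    ∃ (Yl : Scheme.{u}) (gY : Yl ⟶ Spec (CommRingCat.of (FrobAlg.W2 p k))) (j : Y ⟶ Yl) (Gl : Yl ⟶ Yl),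
      Flat gY ∧ IsPullback j (q ≫ f) gY (Spec.map (CommRingCat.ofHom (FrobAlg.res p k))) ∧
        j ≫ Gl = FrobSch.frob Y p ≫ j := by
  have hsurj : Function.Surjective (FrobAlg.res p k) := fun a =>
    ⟨WittVector.truncate 2 (WittVector.teichmuller p a), by
      rw [FrobAlg.res_truncate, WittVector.teichmuller_coeff_zero]⟩
  have hnil : RingHom.ker (FrobAlg.res p k) ≤ nilradical (FrobAlg.W2 p k) := fun x hx => by
    obtain ⟨c, rfl⟩ := (W2Lift.res_eq_zero_iff_dvd x).1 hx
    exact mem_nilradical.2 ⟨2, by rw [mul_pow, pow_two, W2Lift.p_mul_p, zero_mul]⟩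
  have hc : IsClosedImmersion (Spec.map (CommRingCat.ofHom (FrobAlg.res p k))) :=
    IsClosedImmersion.spec_of_surjective _ hsurj
  have hs : AlgebraicGeometry.Surjective (Spec.map (CommRingCat.ofHom (FrobAlg.res p k))) := by
    refine ⟨fun q => ?_⟩
    have hq : q ∈ PrimeSpectrum.zeroLocus (RingHom.ker (FrobAlg.res p k) : Set (FrobAlg.W2 p k)) :=
      fun x hx => q.2.radical_le_iff.2 bot_le (hnil hx)
    rw [← range_comap_of_surjective _ _ hsurj] at hq
    exact hq
  have : IsClosedImmersion i := MorphismProperty.of_isPullback (P := @IsClosedImmersion) hsq.flip hc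
  have : AlgebraicGeometry.Surjective i := MorphismProperty.of_isPullback (P := @AlgebraicGeometry.Surjective) hsq.flip hs
  have := Et18.bc_isEquivalence_of_thickening i
  let Y₀ : X.Etale := Scheme.Etale.mk q
  let V := (EtCoh.bc i).objPreimage Y₀
  let e : (EtCoh.bc i).obj V ≅ Y₀ := (EtCoh.bc i).objObjPreimageIso Y₀
  let el : pullback V.hom i ≅ Y := (MorphismProperty.Over.forget _ _ X ⋙ Over.forget X).mapIso e
  have hel : el.hom ≫ q = pullback.snd V.hom i := MorphismProperty.Over.w e.hom
  let j : Y ⟶ V.left := el.inv ≫ pullback.fst V.hom i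
  have sq : IsPullback j q V.hom i :=
    (IsPullback.of_hasPullback V.hom i).of_iso el (Iso.refl _) (Iso.refl _) (Iso.refl _)
      (by simp [j]) (by simpa using hel.symm) (by simp) (by simp)
  have : AlgebraicGeometry.Etale V.hom := V.prop
  let W : Xl.Etale := @Scheme.Etale.mk _ _ (pullback.snd V.hom Fl) (MorphismProperty.pullback_snd _ _ V.prop)
  let a : pullback V.hom i ⟶ V.left := el.hom ≫ FrobSch.frob Y p ≫ j
  have ha : a ≫ V.hom = (pullback.snd V.hom i ≫ i) ≫ Fl := by
    simp only [a, Category.assoc, sq.w, hF]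
    rw [reassoc_of% (FrobSch.frob_comp p q), reassoc_of% hel]
  let m : (EtCoh.bc i).obj V ⟶ (EtCoh.bc i).obj W :=
    MorphismProperty.Over.homMk
      (pullback.lift (pullback.lift a (pullback.snd V.hom i ≫ i) ha : pullback V.hom i ⟶ pullback V.hom Fl)
        (pullback.snd V.hom i) (pullback.lift_snd _ _ _))
      (pullback.lift_snd _ _ _)
  let M : V ⟶ W := (EtCoh.bc i).preimage m
  have hM : ((EtCoh.bc i).map M).left = m.left := by rw [Functor.map_preimage]
  have hMfst : pullback.fst V.hom i ≫ M.left = m.left ≫ pullback.fst W.hom i := by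
    rw [← hM]
    exact (pullback.lift_fst _ _ _).symm
  refine ⟨V.left, V.hom ≫ g, j, M.left ≫ pullback.fst V.hom Fl, inferInstance, sq.paste_vert hsq, ?_⟩
  show j ≫ M.left ≫ pullback.fst V.hom Fl = _
  simp only [j, Category.assoc]
  rw [reassoc_of% hMfst]
  show el.inv ≫ pullback.lift (pullback.lift a _ _) (pullback.snd V.hom i) _ ≫ pullback.fst W.hom i ≫
      pullback.fst V.hom Fl = _
  erw [pullback.lift_fst_assoc, pullback.lift_fst]
  simp [a, j]

end Groth.Agent.S18158
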