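import Groth.Statements.S18159
import Groth.Agent.Lift15.RationalCurve
import Groth.Agent.Lift15.P1Generic
import Groth.Agent.GenSmoothLib.OmegaFree
-- import your own Groth.Agent.* helpers here

set_option autoImplicit false
universe u
open CategoryTheory CategoryTheory.Limits AlgebraicGeometry TopologicalSpace
open Lift

namespace Groth.Agent.S18159

/-- Let k be an algebraically closed field of characteristic p and X a smooth, proper, integral k-scheme
of dimension d whose canonical module ω, a d-th exterior power of Ω_{X/k}, is torsion: ω^{⊗m} ≅ O_X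
for some m ≥ 1. Suppose given a scheme X~ flat over Spec W_2(k), a morphism i : X → X~ making X the
base change of X~ along Spec k → Spec W_2(k) (the residue map), and an endomorphism F~ of X~ with i
∘ F_X = F~ ∘ i, F_X the absolute Frobenius. Then X contains no rational curves: every k-morphism
from the projective line over k to X factors through a k-rational point of X. (In the source X is a
surface; its argument is independent of the dimension, which is left free here. The source's
companion assertions — that the map F_X^*Ω_{X/k} → Ω_{X/k} attached to the lifting is an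
isomorphism, and that Ω_{X/k} becomes trivial on a finite étale cover — are not stated here.) -/
theorem result
    (p : ℕ) [Fact p.Prime] (k : Type u) [Field k] [IsAlgClosed k] [CharP k p]
    (X : Scheme.{u}) (f : X ⟶ Spec (CommRingCat.of k)) [IsProper f] [Smooth f]
    [AlgebraicGeometry.IsIntegral X] [FrobSch.IsCharP X p]
    (d : ℕ) (hd : topologicalKrullDim X = d)
    (W : X.Modules) (hW : ExtPow.IsExtPow d (Omega.sheaf f) W)
    (m : ℕ) (hm : 0 < m) (htors : Nonempty (CohB1.tensorPow W m ≅ Coh.structureModule X))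
    (Xl : Scheme.{u}) (g : Xl ⟶ Spec (CommRingCat.of (FrobAlg.W2 p k))) [Flat g]
    (i : X ⟶ Xl) (hsq : IsPullback i f g (Spec.map (CommRingCat.ofHom (FrobAlg.res p k))))
    (Fl : Xl ⟶ Xl) (hF : i ≫ Fl = FrobSch.frob X p ≫ i)
    (u : CohB1.ProjSpace 1 k ⟶ X) (hu : u ≫ f = CohB1.ProjSpace.toSpec 1 k) :
    ∃ x : Spec (CommRingCat.of k) ⟶ X, x ≫ f = 𝟙 _ ∧ u = CohB1.ProjSpace.toSpec 1 k ≫ x := by
  classical
  obtain ⟨φ, hφ⟩ := hW
  obtain ⟨τ⟩ := htors
  haveI : SmoothOfRelativeDimension d f := Groth.Agent.GenSmoothLib.smoothOfRelativeDimension_toField f hd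
  haveI : CharP (RatFunc k) p := charP_of_injective_ringHom (RatFunc.C (K := k)).injective p
  have hunit := Groth.Agent.Lift15.isUnit_det φ hφ hsq hF hm τ
  obtain ⟨η, hη, hηs⟩ := Groth.Agent.Lift15.exists_dominant_ratFunc k
  obtain ⟨c₀, hc₀⟩ := Groth.Agent.Lift15.exists_chart f hsq hF (d := d) ((η ≫ u) (IsLocalRing.closedPoint (RatFunc k)))
  obtain ⟨ψ, hψ⟩ := Groth.Agent.Lift15.exists_factor (η ≫ u) c₀.hU hc₀
  have hstr : ∀ a, ψ (Groth.Agent.Frob15.strMap f (i ⁻¹ᵁ c₀.Wl) a) = RatFunc.C a := by
    have h : Spec.map (CommRingCat.ofHom ψ) ≫ c₀.hU.fromSpec ≫ f = Spec.map (CommRingCat.ofHom (RatFunc.C (K := k))) := by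
      rw [← Category.assoc, ← hψ, Category.assoc, hu, hηs]
    rw [Groth.Agent.Lift15.fromSpec_comp c₀.hU, ← Spec.map_comp] at h
    exact fun a => ConcreteCategory.congr_hom (Spec.map_injective h) a
  have hconst : ∀ a, ∃ c, ψ a = RatFunc.C c := fun a => by
    refine Groth.Agent.Lift15.RatDescent.exists_eq_C fun m => ⟨p ^ (m + 1), ?_, ?_⟩
    · exact (Nat.lt_succ_self m).trans (Nat.lt_pow_self (Fact.out : p.Prime).one_lt)
    · exact Groth.Agent.Lift15.exists_pow_eq_of_chart hsq hF hunit c₀ (m + 1) ψ (fun b => ⟨b, hstr b⟩) a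
  choose χ hχ using hconst
  let χ' : Γ(X, i ⁻¹ᵁ c₀.Wl) →+* k :=
    { toFun := χ
      map_one' := (RatFunc.C (K := k)).injective (by rw [← hχ, map_one, map_one])
      map_mul' := fun a b => (RatFunc.C (K := k)).injective (by rw [← hχ, map_mul, map_mul, hχ, hχ])
      map_zero' := (RatFunc.C (K := k)).injective (by rw [← hχ, map_zero, map_zero])
      map_add' := fun a b => (RatFunc.C (K := k)).injective (by rw [← hχ, map_add, map_add, hχ, hχ]) }
  have hx : (Spec.map (CommRingCat.ofHom χ') ≫ c₀.hU.fromSpec) ≫ f = 𝟙 _ := by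
    rw [Category.assoc, Groth.Agent.Lift15.fromSpec_comp c₀.hU, ← Spec.map_comp, ← Spec.map_id]
    congr 1
    ext a
    exact (RatFunc.C (K := k)).injective ((hχ _).symm.trans (hstr a))
  refine ⟨_, hx, ?_⟩
  haveI := Groth.Agent.CurveLib.isIntegral_projSpace k 1
  refine ext_of_isDominant_of_isSeparated f ?_ η ?_
  · rw [hu, Category.assoc, hx, Category.comp_id]
  · rw [hψ, ← Category.assoc η, hηs, ← Category.assoc (Spec.map _), ← Spec.map_comp]
    congr 2
    ext a
    exact hχ a

end Groth.Agent.S18159
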