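import Groth.Statements.S18161
import Mathlib
import Groth.Agent.Et18.StrataFinite
import Groth.Agent.Et18.FiniteEtaleCard
import Groth.Agent.Et18.ShriekSheaf
-- import your own Groth.Agent.* helpers here

set_option autoImplicit false
universe u
open BSB

namespace Groth.Agent.S18161

open AlgebraicGeometry CategoryTheory in
set_option linter.unusedVariables false
set_option backward.isDefEq.respectTransparency.types false
set_option backward.isDefEq.respectTransparency false

open AlgebraicGeometry CategoryTheory Limits Groth.Agent.Et18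

/-- Lifts of a geometric point along an etale qcqs universally closed morphism. -/
theorem card_lifts {T S : Scheme.{u}} (f : T ⟶ S)
    [Etale f] [QuasiCompact f] [UniversallyClosed f] (d : ℕ)
    (hd : ∀ s : S, Module.finrank (S.residueField s) Γ(f.fiber s, ⊤) = d)
    {Ω : Type u} [Field Ω] [IsSepClosed Ω] (ξ : Spec (CommRingCat.of Ω) ⟶ S) :
    Finite (PointLift f ξ) ∧ Nat.card (PointLift f ξ) = d := by
  let s := ξ (IsLocalRing.closedPoint Ω)
  let π := f.fiberToSpecResidueField s
  haveI : Etale π := MorphismProperty.pullback_snd _ _ inferInstance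
  haveI : UniversallyClosed π := MorphismProperty.pullback_snd _ _ inferInstance
  haveI : QuasiCompact π := MorphismProperty.pullback_snd _ _ inferInstance
  haveI : IsArtinianScheme (f.fiber s) := inferInstance
  haveI : IsAffine (f.fiber s) := inferInstance
  haveI : IsSeparated π := inferInstance
  haveI : IsProper π := {}
  haveI : IsFinite π := IsFinite.of_isProper_of_locallyQuasiFinite π
  haveI : Flat π := inferInstance
  -- factor the geometric point through the residue field
  let η : Spec (CommRingCat.of Ω) ⟶ Spec (S.residueField s) :=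
    Spec.map (Scheme.descResidueField (Scheme.stalkClosedPointTo ξ))
  have hη : η ≫ S.fromSpecResidueField s = ξ :=
    Scheme.descResidueField_stalkClosedPointTo_fromSpecResidueField Ω S ξ
  let e : PointLift π η ≃ PointLift f ξ :=
    { toFun := fun v => ⟨v.1 ≫ f.fiberι s, by
        rw [Category.assoc, show f.fiberι s ≫ f = π ≫ S.fromSpecResidueField s from pullback.condition,
          ← Category.assoc, v.2, hη]⟩
      invFun := fun u => ⟨pullback.lift u.1 η (u.2.trans hη.symm), pullback.lift_snd _ _ _⟩
      left_inv := fun v => Subtype.ext (pullback.hom_ext (pullback.lift_fst _ _ _)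
        ((pullback.lift_snd _ _ _).trans v.2.symm))
      right_inv := fun u => Subtype.ext (pullback.lift_fst _ _ _) }
  obtain ⟨hf, hc, -⟩ := card_pointLift π η
  refine ⟨Finite.of_equiv _ e, ?_⟩
  rw [← Nat.card_congr e, hc, ← hd s]
  -- rank of the finite morphism
  let φ : S.residueField s ⟶ Γ(f.fiber s, ⊤) :=
    (Scheme.ΓSpecIso (S.residueField s)).inv ≫ π.appTop
  have hg : (f.fiber s).isoSpec.hom ≫ Spec.map φ = π := by
    rw [Spec.map_comp, Scheme.isoSpec_hom_naturality_assoc, Scheme.isoSpec_Spec_hom, ← Spec.map_comp,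
      Iso.inv_hom_id, Spec.map_id, Category.comp_id]
  have hS : Spec.map φ = (f.fiber s).isoSpec.inv ≫ π := by rw [← hg, Iso.inv_hom_id_assoc]
  haveI : IsFinite (Spec.map φ) := hS ▸ inferInstance
  haveI : Flat (Spec.map φ) := hS ▸ inferInstance
  rw [← hg, Scheme.Hom.finrank_comp_left_of_isIso]
  have hm : φ = CommRingCat.ofHom (algebraMap (S.residueField s) Γ(f.fiber s, ⊤)) := rfl
  have hsub : η default = (default : Spec (S.residueField s)) := Subsingleton.elim _ _
  haveI : Module.Finite (S.residueField s) Γ(f.fiber s, ⊤) :=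
    (IsFinite.SpecMap_iff φ).1 inferInstance
  haveI : Module.Free (S.residueField s) Γ(f.fiber s, ⊤) := Module.Free.of_divisionRing _ _
  refine (Scheme.Hom.finrank_SpecMap_algebraMap (S.residueField s) Γ(f.fiber s, ⊤) _).trans ?_
  rw [Module.rankAtStalk_eq_finrank_of_free]
  rfl

theorem isSeparated_of_const {T S : Scheme.{u}} (f : T ⟶ S)
    [Etale f] [QuasiCompact f] [UniversallyClosed f] (d : ℕ)
    (hd : ∀ s : S, Module.finrank (S.residueField s) Γ(f.fiber s, ⊤) = d) :
    IsSeparated f := by
  classical
  have key : ∀ x : S, ∃ (W : Scheme.{u}) (q : W ⟶ S), Etale q ∧ x ∈ Set.range q ∧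
      IsSeparated (pullback.snd f q) := by
    intro x
    let ξ := sepPoint S x
    obtain ⟨hF, hC⟩ := card_lifts f d hd ξ
    let e : Fin d ≃ PointLift f ξ := (Finite.equivFinOfCardEq hC).symm
    obtain ⟨N, hN⟩ := IsCofiltered.inf_objs_exists
      (Finset.univ.image fun i => (Scheme.pointSmallEtale ξ).fiber.elementsMk (Scheme.Etale.mk f)
        (Over.homMk (e i).1 (e i).2))
    let g : ∀ i, N ⟶ (Scheme.pointSmallEtale ξ).fiber.elementsMk (Scheme.Etale.mk f)
        (Over.homMk (e i).1 (e i).2) := fun i =>
      (hN (Finset.mem_image_of_mem _ (Finset.mem_univ i))).some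
    let w₁ : Spec (CommRingCat.of _) ⟶ N.1.left := N.2.left
    have hw₁' : w₁ ≫ N.1.hom = ξ := Over.w N.2
    let s₁ : Fin d → (N.1.left ⟶ T) := fun i => (g i).val.left
    have hs₁ : ∀ i, s₁ i ≫ f = N.1.hom := fun i => MorphismProperty.Over.w (g i).val
    have hw₁ : ∀ i, w₁ ≫ s₁ i = (e i).1 := fun i => congrArg CommaMorphism.left (g i).property
    haveI : Etale N.1.hom := N.1.prop
    let π := pullback.snd f N.1.hom
    let σ : Fin d → (N.1.left ⟶ pullback f N.1.hom) := fun i =>
      pullback.lift (s₁ i) (𝟙 _) ((hs₁ i).trans (Category.id_comp _).symm)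
    have hσ : ∀ i, σ i ≫ π = 𝟙 _ := fun i => pullback.lift_snd _ _ _
    haveI hσo : ∀ i, IsOpenImmersion (σ i) := fun i => by
      haveI : Mono (σ i) := mono_of_mono_fac (hσ i)
      haveI : Etale (σ i ≫ π) := by rw [hσ i]; infer_instance
      haveI : Etale (σ i) := Etale.of_comp (σ i) π
      exact IsOpenImmersion.of_flat_of_mono (σ i)
    let C : Set ↥(pullback f N.1.hom) := (⋃ i, Set.range (σ i))ᶜ
    have hC' : IsClosed C := (isOpen_iUnion fun i => (σ i).isOpenEmbedding.isOpen_range).isClosed_compl
    let O : N.1.left.Opens := ⟨(π '' C)ᶜ, (π.isClosedMap _ hC').isOpen_compl⟩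
    have hwO : w₁ default ∈ O := by
      rintro ⟨z, hz, hzw⟩
      obtain ⟨v, hv, hvd⟩ := Scheme.exists_fac_of_etale_of_isSepClosed π w₁ z hzw
      obtain ⟨i, hi⟩ := e.surjective ⟨v ≫ pullback.fst f N.1.hom, by
        rw [Category.assoc, pullback.condition, ← Category.assoc, hv, hw₁']⟩
      refine hz (Set.mem_iUnion.mpr ⟨i, w₁ default, ?_⟩)
      have : w₁ ≫ σ i = v := pullback.hom_ext
        (by rw [Category.assoc, pullback.lift_fst, hw₁, hi])
        (by rw [Category.assoc, hσ, Category.comp_id, hv])
      rw [← hvd, ← this]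
      rfl
    let q : O.toScheme ⟶ S := O.ι ≫ N.1.hom
    haveI : Etale q := inferInstance
    refine ⟨O.toScheme, q, inferInstance, ⟨⟨_, hwO⟩, ?_⟩, ?_⟩
    · exact (congrArg (fun t : Spec (CommRingCat.of _) ⟶ S => t default) hw₁').trans
        (sepPoint_default S x)
    let π' := pullback.snd f q
    let τ : Fin d → (O.toScheme ⟶ pullback f q) := fun i =>
      pullback.lift (O.ι ≫ s₁ i) (𝟙 _) (by rw [Category.assoc, hs₁, Category.id_comp])
    have hτ : ∀ i, τ i ≫ π' = 𝟙 _ := fun i => pullback.lift_snd _ _ _
    haveI hτo : ∀ i, IsOpenImmersion (τ i) := fun i => by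
      haveI : Mono (τ i) := mono_of_mono_fac (hτ i)
      haveI : Etale (τ i ≫ π') := by rw [hτ i]; infer_instance
      haveI : Etale (τ i) := Etale.of_comp (τ i) π'
      exact IsOpenImmersion.of_flat_of_mono (τ i)
    have hall : ∀ (Ω : Type u) [Field Ω] [IsSepClosed Ω]
        (η : Spec (CommRingCat.of Ω) ⟶ O.toScheme),
        Function.Bijective fun i => (⟨η ≫ τ i, by rw [Category.assoc, hτ, Category.comp_id]⟩ :
          PointLift π' η) := by
      intro Ω _ _ η
      obtain ⟨hf, hc⟩ := card_lifts f d hd (η ≫ q)
      let E : PointLift π' η ≃ PointLift f (η ≫ q) :=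
        { toFun := fun v => ⟨v.1 ≫ pullback.fst f q, by
            rw [Category.assoc, pullback.condition, ← Category.assoc, v.2]⟩
          invFun := fun u => ⟨pullback.lift u.1 η u.2, pullback.lift_snd _ _ _⟩
          left_inv := fun v => Subtype.ext (pullback.hom_ext (pullback.lift_fst _ _ _)
            ((pullback.lift_snd _ _ _).trans v.2.symm))
          right_inv := fun u => Subtype.ext (pullback.lift_fst _ _ _) }
      haveI : Finite (PointLift π' η) := Finite.of_equiv _ E.symm
      refine (Nat.bijective_iff_surjective_and_card _).mpr ⟨fun v => ?_, ?_⟩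
      · let v' : Spec (CommRingCat.of Ω) ⟶ pullback f N.1.hom :=
          pullback.lift (v.1 ≫ pullback.fst f q) (η ≫ O.ι)
            (by exact (E v).2.trans (Category.assoc _ _ _).symm)
        have hv' : v' ≫ π = η ≫ O.ι := pullback.lift_snd _ _ _
        have hmem : v' default ∉ C := fun hm => (η default).2 ⟨_, hm, by
          exact congrArg (fun t : Spec (CommRingCat.of Ω) ⟶ N.1.left => t default) hv'⟩
        obtain ⟨i, hi⟩ := Set.mem_iUnion.mp (not_not.mp hmem)
        obtain ⟨r, hr⟩ := exists_lift_of_mem v' (σ i) hi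
        have hr' : r = η ≫ O.ι := by
          rw [← hv', ← hr, Category.assoc, hσ, Category.comp_id]
        refine ⟨i, E.injective (Subtype.ext ?_)⟩
        show (η ≫ τ i) ≫ pullback.fst f q = v.1 ≫ pullback.fst f q
        have h1 : v' ≫ pullback.fst f N.1.hom = v.1 ≫ pullback.fst f q := pullback.lift_fst _ _ _
        rw [← h1, ← hr, hr', Category.assoc, Category.assoc, Category.assoc, pullback.lift_fst,
          pullback.lift_fst]
      · rw [Nat.card_congr E, hc, Nat.card_fin]
    have hcov : ∀ p : ↥(pullback f q), ∃ i, p ∈ (τ i).opensRange := fun p => by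
      let η := sepPoint O.toScheme (π' p)
      obtain ⟨v, hv, hvd⟩ := Scheme.exists_fac_of_etale_of_isSepClosed π' η p
        (sepPoint_default _ _).symm
      obtain ⟨i, hi⟩ := (hall _ η).2 ⟨v, hv⟩
      exact ⟨i, η default,
        (congrArg (fun t : Spec (CommRingCat.of _) ⟶ pullback f q => t default)
          (congrArg Subtype.val hi)).trans hvd⟩
    have hdis : ∀ i j, ∀ p : ↥(pullback f q), p ∈ (τ i).opensRange → p ∈ (τ j).opensRange → i = j := by
      rintro i j p hpi ⟨b, rfl⟩
      let η := sepPoint O.toScheme b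
      have hmem : (η ≫ τ j) default ∈ Set.range (τ i) := by
        show τ j (η default) ∈ _
        rw [sepPoint_default]
        exact hpi
      obtain ⟨r, hr⟩ := exists_lift_of_mem (η ≫ τ j) (τ i) hmem
      have hr' : r = η := by
        have := congrArg (fun t => t ≫ π') hr
        simpa only [Category.assoc, hτ, Category.comp_id] using this
      subst hr'
      exact (hall _ _).1 (Subtype.ext hr)
    refine isSeparated_of_clopen_cover π' (fun i => (τ i).opensRange) (fun i => ?_) hcov (fun i => ?_)
    · have : ((τ i).opensRange : Set ↥(pullback f q))ᶜ =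
          ⋃ j : {j // j ≠ i}, ((τ j.1).opensRange : Set ↥(pullback f q)) := by
        ext p
        simp only [Set.mem_compl_iff, Set.mem_iUnion, SetLike.mem_coe]
        constructor
        · intro hp
          obtain ⟨j, hj⟩ := hcov p
          exact ⟨⟨j, fun h => hp (h ▸ hj)⟩, hj⟩
        · rintro ⟨⟨j, hj⟩, hpj⟩ hpi
          exact hj (hdis j i p hpj hpi)
      rw [← isOpen_compl_iff, this]
      exact isOpen_iUnion fun j : {j // j ≠ i} => (τ j.1).opensRange.2
    · have h : (τ i).isoOpensRange.hom ≫ (τ i).opensRange.ι ≫ π' = 𝟙 _ := by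
        rw [← Category.assoc, Scheme.Hom.isoOpensRange_hom_ι, hτ]
      have h2 : (τ i).opensRange.ι ≫ π' = (τ i).isoOpensRange.inv := by
        rw [← cancel_epi (τ i).isoOpensRange.hom, h, Iso.hom_inv_id]
      show IsSeparated ((τ i).opensRange.ι ≫ π')
      rw [h2]
      infer_instance
  choose W q hq hx hsep using key
  haveI := hq
  exact isSeparated_of_etale_cover f W q (fun v => ⟨v, hx v⟩) hsep

/-- Let f : T ⟶ S be an étale, quasi-compact, quasi-separated and universally closed morphism of
schemes, and suppose that for some natural number d the global functions of every scheme-theoretic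
fibre of f form a d-dimensional vector space over the residue field of the corresponding point of S.
Then f is finite. (Separatedness of f is not assumed.) -/
theorem result {T S : Scheme.{u}} (f : T ⟶ S)
    [Etale f] [QuasiCompact f] [QuasiSeparated f] [UniversallyClosed f] (d : ℕ)
    (hd : ∀ s : S, Module.finrank (S.residueField s) Γ(f.fiber s, ⊤) = d) :
    IsFinite f := by
  haveI : IsSeparated f := isSeparated_of_const f d hd
  haveI : IsProper f := {}
  exact IsFinite.of_isProper_of_locallyQuasiFinite f

end Groth.Agent.S18161
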