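import Groth.Statements.S18163
import Groth.Agent.PicLib.FlatTriv
import Groth.Agent.PicLib.PicGroup
import Groth.Agent.PicLib.FormalGen
import Groth.Agent.PicLib.PullbackGen
import Groth.Agent.AmpleLib.Generated
import Groth.Agent.AmpleLib.Detect
import Groth.Agent.AlgGrpLib.ProperDescent
import Groth.Agent.Desc19b.GGFpqc

set_option autoImplicit false
universe u
open BSB

namespace Groth.Agent.S18163

open CategoryTheory CategoryTheory.Limits AlgebraicGeometry Opposite TopologicalSpace
open Groth.Agent.Coherent Groth.Agent.PicLib Groth.Agent.AmpleLib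

/-- A globally generated invertible module, a positive power of which comes from the target of a contraction,
comes from it itself. -/
theorem exists_descend {X Y : Scheme.{u}} (f : X ⟶ Y) [UniversallyClosed f] [QuasiCompact f] [QuasiSeparated f]
    (hf : ∀ U : Y.Opens, IsIso (f.app U)) {P : X.Modules} (hP : PicF.IsInvertible P)
    (hgg : Curv2.IsGloballyGenerated P) {N : Y.Modules} (hN : PicF.IsInvertible N) (j : ℕ)
    (e : (Scheme.Modules.pullback f).obj N ≅ CohB1.tensorPow P (j + 1)) :
    ∃ a : PicM Y, PicM.pull f a = PicM.of hP := by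
  have hb : ∀ U : Y.Opens, Function.Bijective (f.app U) := fun U =>
    haveI := hf U; ConcreteCategory.bijective_of_isIso (f.app U)
  have hpt : ∀ y : Y, ∃ (W : Y.Opens) (a : Γ(P, ⊤)), y ∈ W ∧ f ⁻¹ᵁ W = glocus P a := by
    intro y
    obtain ⟨x, rfl⟩ := AlgGrpLib.ProperDescent.surjective_of_isIso_app f hf y
    obtain ⟨I, p, hp⟩ := hgg
    haveI : Epi (show freeMod X I ⟶ P from p) := hp
    obtain ⟨i, hi⟩ := exists_mem_glocus_of_epi_free hP (𝟙 P) (by obtain ⟨U, hxU, g, hg⟩ := exists_isGen hP x; exact ⟨U, g, hxU, hg⟩) (show freeMod X I ⟶ P from p) (x := x)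
    obtain ⟨a, ha⟩ : ∃ a : Γ(P, ⊤), x ∈ glocus P a := ⟨_, hi⟩
    obtain ⟨b, hb'⟩ := (bijective_pullSec f hb hN ⊤).2 (e.inv.app ⊤ (powSec a (j + 1)))
    have h1 : glocus ((Scheme.Modules.pullback f).obj N) (pullSec f b) = glocus P a := by
      refine (congrArg (glocus ((Scheme.Modules.pullback f).obj N)) hb').trans ?_
      exact (glocus_map_iso e.symm _).trans (glocus_powSec hP a j)
    rw [glocus_pullSec f hN] at h1
    exact ⟨glocus N b, a, (show x ∈ f ⁻¹ᵁ glocus N b from h1 ▸ ha), h1⟩
  choose W a hyW hW using hpt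
  obtain ⟨h1, h2⟩ := exists_descend_of_flat_cover f hb hP (fun y => (W y).toScheme) (fun y => (W y).ι)
    (fun y => ⟨y, ⟨⟨y, hyW y⟩, rfl⟩⟩)
    (fun Z hZ => by
      refine isOpen_iff_forall_mem_open.2 fun z hz => ⟨(W z).ι '' ((W z).ι ⁻¹' Z), Set.image_preimage_subset _ _,
        (W z).ι.isOpenEmbedding.isOpenMap _ (hZ z), ⟨⟨z, hyW z⟩, hz, rfl⟩⟩)
    (fun _ => 1) fun y => by
      rw [map_one]
      refine pull_eq_one_of_isGen _ hP (isGen_glocus (a y)) ?_
      rw [← hW y]
      refine top_le_iff.1 fun z _ => ?_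
      show f (pullback.fst f (W y).ι z) ∈ W y
      have : f (pullback.fst f (W y).ι z) = (W y).ι (pullback.snd f (W y).ι z) := congr($(pullback.condition (f := f) (g := (W y).ι)) z)
      rw [this]
      exact (pullback.snd f (W y).ι z).2
  refine ⟨PicM.of h1, ?_⟩
  rw [PicM.pull_of, PicM.of_eq_iff]
  exact ⟨@asIso _ _ _ _ _ h2⟩

/-- Let X and X' be proper over a field k, π : X ⟶ X' a k-morphism such that O_{X'} ⟶ π_* O_X is an
isomorphism, L an invertible O_X-module, M an ample invertible module on X' whose pullback along π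
is isomorphic to L^m for some m > 0, and d > 0 such that for all large n the power L^n is globally
generated exactly when d ∣ n (d is the exponent of the semiample module L, and X' with π is the
contraction L determines). Then for e > 0 the power L^e is isomorphic to the pullback of an
invertible module on X' if and only if d ∣ e. -/
theorem result (k : Type u) [Field k] (X X' : Scheme.{u})
    [X.Over (Spec (CommRingCat.of k))] [X'.Over (Spec (CommRingCat.of k))]
    [IsProper (X ↘ Spec (CommRingCat.of k))] [IsProper (X' ↘ Spec (CommRingCat.of k))]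
    (π : X ⟶ X') (hover : π ≫ (X' ↘ Spec (CommRingCat.of k)) = X ↘ Spec (CommRingCat.of k))
    (hπ : ∀ U : X'.Opens, IsIso (π.app U))
    (L : X.Modules) (hL : PicF.IsInvertible L) (M : X'.Modules) (hM : PicF.IsInvertible M) (hMa : CohB1.IsAmple M)
    (m : ℕ) (hm : 0 < m) (e0 : Nonempty ((Scheme.Modules.pullback π).obj M ≅ CohB1.tensorPow L m))
    (d : ℕ) (hd : 0 < d)
    (hexp : ∃ m0 : ℕ, ∀ n : ℕ, m0 ≤ n → (Curv2.IsGloballyGenerated (CohB1.tensorPow L n) ↔ d ∣ n)) :
    ∀ e : ℕ, 0 < e →
      ((∃ L' : X'.Modules, PicF.IsInvertible L' ∧ Nonempty ((Scheme.Modules.pullback π).obj L' ≅ CohB1.tensorPow L e)) ↔ d ∣ e) := by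
  haveI : IsLocallyNoetherian X' := LocallyOfFiniteType.isLocallyNoetherian (X' ↘ Spec (CommRingCat.of k))
  haveI : IsProper (π ≫ (X' ↘ Spec (CommRingCat.of k))) := hover ▸ inferInstance
  haveI : IsProper π := IsProper.of_comp π (X' ↘ Spec (CommRingCat.of k))
  obtain ⟨m0, hexp⟩ := hexp
  obtain ⟨j, rfl⟩ : ∃ j, m = j + 1 := ⟨m - 1, by omega⟩
  set l := PicM.of hL with hl
  have hμ : PicM.pull π (PicM.of hM) = l ^ (j + 1) := by
    rw [PicM.pull_of, hl, ← PicM.of_tensorPow, PicM.of_eq_iff]
    exact e0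
  intro e he
  constructor
  · rintro ⟨L', hL', ⟨eL⟩⟩
    obtain ⟨N, hN⟩ := eventually_globallyGenerated hMa L' (PicLib.isCoh_of_isInvertible hL')
    have key : ∀ n, N ≤ n → m0 ≤ n → d ∣ e + (j + 1) * n := by
      intro n hn hn'
      refine (hexp _ (by nlinarith)).1 ?_
      obtain ⟨iso⟩ : Nonempty ((Scheme.Modules.pullback π).obj (CohB1.tensorMod L' (CohB1.tensorPow M n)) ≅
          CohB1.tensorPow L (e + (j + 1) * n)) := by
        refine (PicM.of_eq_iff (PicLoc.isInvertible_pullback π
          (isInvertible_tensorMod hL' (isInvertible_tensorPow hM n))) (isInvertible_tensorPow hL _)).1 ?_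
        rw [← PicM.pull_of π (isInvertible_tensorMod hL' (isInvertible_tensorPow hM n)),
          ← PicM.of_mul hL' (isInvertible_tensorPow hM n), map_mul, PicM.of_tensorPow hM,
          map_pow, hμ, PicM.of_tensorPow hL, ← hl, pow_add l e, pow_mul]
        congr 1
        rw [hl, ← PicM.of_tensorPow, PicM.pull_of, PicM.of_eq_iff]
        exact ⟨eL⟩
      obtain ⟨I, p, hp⟩ := Desc19b.isGloballyGenerated_pullback (π := π) (hN n hn)
      haveI := hp
      exact ⟨I, p ≫ iso.hom, ⟨fun g h w => (cancel_epi iso.hom).1 ((cancel_epi p).1 ((Category.assoc p iso.hom g).symm.trans (w.trans (Category.assoc p iso.hom h))))⟩⟩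
    have h1 := key (N + m0) (by omega) (by omega)
    have h2 := key (N + m0 + 1) (by omega) (by omega)
    rw [show e + (j + 1) * (N + m0 + 1) = (e + (j + 1) * (N + m0)) + (j + 1) by ring] at h2
    have h3 := (Nat.dvd_add_right h1).1 h2
    exact (Nat.dvd_add_left (h3.mul_right _)).1 h1
  · rintro ⟨c, rfl⟩
    have key : ∀ N, m0 ≤ N → ∃ a : PicM X', PicM.pull π a = l ^ (d * N) := by
      intro N hN
      have hgg := (hexp (d * N) (hN.trans (Nat.le_mul_of_pos_left N hd))).2 ⟨N, rfl⟩
      obtain ⟨e'⟩ : Nonempty ((Scheme.Modules.pullback π).obj (CohB1.tensorPow M (d * N)) ≅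
          CohB1.tensorPow (CohB1.tensorPow L (d * N)) (j + 1)) := by
        refine (PicM.of_eq_iff (PicLoc.isInvertible_pullback π (isInvertible_tensorPow hM _))
          (isInvertible_tensorPow (isInvertible_tensorPow hL _) _)).1 ?_
        rw [← PicM.pull_of π (isInvertible_tensorPow hM _), PicM.of_tensorPow hM, map_pow, hμ, PicM.of_tensorPow (isInvertible_tensorPow hL _),
          PicM.of_tensorPow hL, ← pow_mul, ← pow_mul, mul_comm]
      obtain ⟨a, ha⟩ := exists_descend π hπ (isInvertible_tensorPow hL _) hgg (isInvertible_tensorPow hM _) j e'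
      exact ⟨a, ha.trans (PicM.of_tensorPow hL _)⟩
    obtain ⟨a, ha⟩ := key m0 le_rfl
    obtain ⟨b, hb⟩ := key (m0 + 1) (by omega)
    obtain ⟨a', ha'⟩ := PicM.exists_mul_eq_one a
    have h1 : PicM.pull π ((b * a') ^ c) = l ^ (d * c) := by
      have : PicM.pull π b = l ^ d * PicM.pull π a := by rw [hb, ha, ← pow_add]; congr 1; ring
      rw [map_pow, map_mul, this, mul_assoc, ← map_mul, ha', map_one, mul_one, ← pow_mul]
    obtain ⟨L', hL', hL'e⟩ := PicM.exists_eq_of ((b * a') ^ c)
    rw [hL'e, PicM.pull_of, hl, ← PicM.of_tensorPow, PicM.of_eq_iff] at h1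
    exact ⟨L', hL', h1⟩

end Groth.Agent.S18163
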