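import Groth.Statements.S18165
import Groth.Agent.CommAlg4.EquivSection
-- import your own Groth.Agent.* helpers here

set_option autoImplicit false
universe u
open BSB

namespace Groth.Agent.S18165

open AlgebraicGeometry CategoryTheory in
open AlgebraicGeometry CategoryTheory in
theorem exists_stable_affine {X : Scheme.{u}} {G : Type u} [Group G] [Finite G] (σ : G → (X ⟶ X))
    (hσ1 : σ 1 = 𝟙 X) (hσmul : ∀ g h : G, σ (g * h) = σ g ≫ σ h) (p : X) (hp : ∀ g, (σ g).base p = p) :
    ∃ U : X.Opens, IsAffineOpen U ∧ p ∈ U ∧ ∀ g, U ≤ σ g ⁻¹ᵁ U := by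
  classical
  haveI : Fintype G := Fintype.ofFinite G
  obtain ⟨U₀, hU₀, hpU₀, -⟩ := exists_isAffineOpen_mem_and_subset (X := X) (x := p) (U := ⊤) trivial
  let V : X.Opens := Finset.univ.inf fun g : G => σ g ⁻¹ᵁ U₀
  have hmemV : ∀ x, x ∈ V ↔ ∀ g : G, (σ g).base x ∈ U₀ := fun x => by
    simp only [V, ← SetLike.mem_coe, TopologicalSpace.Opens.coe_finset_inf]
    simp
  have hpV : p ∈ V := (hmemV p).2 fun g => by rw [hp]; exact hpU₀
  have hVU : V ≤ U₀ := fun x hx => by
    have := (hmemV x).1 hx 1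
    rw [hσ1] at this
    simpa using this
  have hVs : ∀ g, V ≤ σ g ⁻¹ᵁ V := fun g x hx => (hmemV _).2 fun h => by
    have := (hmemV x).1 hx (g * h)
    rw [hσmul] at this
    simpa using this
  obtain ⟨f, hfV, hpf⟩ := hU₀.exists_basicOpen_le (V := V) ⟨p, hpV⟩ hpU₀
  let D := X.basicOpen f
  have hDV : D ≤ V := hfV
  let f' : Γ(X, V) := X.presheaf.map (homOfLE hVU).op f
  let F : Γ(X, V) := ∏ g : G, (σ g).appLE V V (hVs g) f'
  let F' : Γ(X, D) := X.presheaf.map (homOfLE hDV).op F
  have hmem : ∀ x : X, x ∈ X.basicOpen F' ↔ x ∈ V ∧ ∀ g : G, (σ g).base x ∈ D := by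
    intro x
    have h1 : ∀ g : G, X.basicOpen ((σ g).appLE V V (hVs g) f') = V ⊓ σ g ⁻¹ᵁ D := by
      intro g
      rw [Scheme.Hom.appLE, CommRingCat.comp_apply, Scheme.basicOpen_res, ← Scheme.Hom.preimage_basicOpen]
      simp only [f', Scheme.basicOpen_res]
      rw [inf_eq_right.2 hDV]
    have h2 : ∀ (hx : x ∈ V), x ∈ X.basicOpen F ↔ ∀ g : G, (σ g).base x ∈ D := by
      intro hx
      rw [Scheme.mem_basicOpen _ _ _ hx]
      simp only [F, map_prod, IsUnit.prod_iff, Finset.mem_univ, forall_true_left]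
      refine forall_congr' fun g => ?_
      rw [← Scheme.mem_basicOpen _ _ _ hx, h1]
      exact ⟨fun h => h.2, fun h => ⟨hx, h⟩⟩
    rw [show X.basicOpen F' = D ⊓ X.basicOpen F from Scheme.basicOpen_res _ _ _]
    refine ⟨fun h => ⟨hDV h.1, (h2 (hDV h.1)).1 h.2⟩, fun h => ⟨?_, (h2 h.1).2 h.2⟩⟩
    have := h.2 1
    rw [hσ1] at this
    simpa using this
  refine ⟨X.basicOpen F', (hU₀.basicOpen f).basicOpen F', (hmem p).2 ⟨hpV, fun g => by rw [hp]; exact hpf⟩, fun g x hx => ?_⟩
  obtain ⟨hx1, hx2⟩ := (hmem x).1 hx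
  refine (hmem _).2 ⟨hVs g hx1, fun h => ?_⟩
  have := hx2 (g * h)
  rw [hσmul] at this
  simpa using this

open AlgebraicGeometry CategoryTheory in
/-- Let A be a Henselian local ring with residue field κ and f : X ⟶ Spec A a smooth morphism. Let a
finite group G, of order invertible in κ, act on A by ring automorphisms inducing the identity on κ,
and on X by morphisms σ_g with σ_1 = 𝟙 and σ_{gh} = σ_g ≫ σ_h, compatibly with f (σ_g ≫ f = f ≫ Spec
of the action of g on A). If x is a κ-point of X over the closed point that is fixed by every σ_g,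
then f has a section a : Spec A ⟶ X through x which is equivariant: Spec of the action of g,
followed by a, equals a followed by σ_g. -/
theorem result (A : Type u) [CommRing A] [HenselianLocalRing A]
    (X : Scheme.{u}) (f : X ⟶ Spec (CommRingCat.of A)) [Smooth f]
    (G : Type u) [Group G] [Finite G] [MulSemiringAction G A]
    (hG : IsUnit ((Nat.card G : ℕ) : IsLocalRing.ResidueField A))
    (htriv : ∀ (g : G) (a : A), g • a - a ∈ IsLocalRing.maximalIdeal A)
    (σ : G → (X ⟶ X)) (hσ1 : σ 1 = 𝟙 X) (hσmul : ∀ g h : G, σ (g * h) = σ g ≫ σ h)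
    (hσf : ∀ g : G, σ g ≫ f = f ≫ Spec.map (CommRingCat.ofHom (MulSemiringAction.toRingHom G A g)))
    (x : Spec (CommRingCat.of (IsLocalRing.ResidueField A)) ⟶ X)
    (hx : x ≫ f = Spec.map (CommRingCat.ofHom (IsLocalRing.residue A)))
    (hfix : ∀ g : G, x ≫ σ g = x) :
    ∃ a : Spec (CommRingCat.of A) ⟶ X, a ≫ f = 𝟙 _ ∧
      Spec.map (CommRingCat.ofHom (IsLocalRing.residue A)) ≫ a = x ∧
      ∀ g : G, Spec.map (CommRingCat.ofHom (MulSemiringAction.toRingHom G A g)) ≫ a = a ≫ σ g := by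
  classical
  haveI : HenselianRing A (IsLocalRing.maximalIdeal A) := Groth.Agent.HenselLib.henselianRing_maximalIdeal A
  obtain ⟨U, hU, hxU, hUs⟩ := exists_stable_affine σ hσ1 hσmul (x default) (fun g => by
    rw [← Scheme.Hom.comp_apply, hfix])
  obtain ⟨φ, hφ⟩ := Spec.map_surjective (hU.fromSpec ≫ f)
  have hsm : φ.hom.Smooth := (HasRingHomProperty.Spec_iff (P := @Smooth)).mp (hφ ▸ inferInstance)
  letI := φ.hom.toAlgebra
  haveI : Algebra.Smooth A Γ(X, U) := hsm
  have hr : Set.range x ⊆ Set.range hU.fromSpec := by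
    rintro _ ⟨y, rfl⟩
    rw [hU.range_fromSpec, Subsingleton.elim y default]
    exact hxU
  obtain ⟨q, hq⟩ := Spec.map_surjective (IsOpenImmersion.lift hU.fromSpec x hr)
  let act : G → (Γ(X, U) ⟶ Γ(X, U)) := fun g => (σ g).appLE U U (hUs g)
  have hact : ∀ g, Spec.map (act g) ≫ hU.fromSpec = hU.fromSpec ≫ σ g := fun g =>
    hU.SpecMap_appLE_fromSpec (σ g) hU (hUs g)
  have hqx : Spec.map q ≫ hU.fromSpec = x := by rw [hq, IsOpenImmersion.lift_fac]
  have inj : ∀ {R : CommRingCat.{u}} (a b : Γ(X, U) ⟶ R),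
      Spec.map a ≫ hU.fromSpec = Spec.map b ≫ hU.fromSpec → a = b := fun a b h =>
    Spec.map_injective ((cancel_mono _).1 h)
  have h1 : act 1 = 𝟙 _ := inj _ _ (by rw [hact, hσ1, Spec.map_id, Category.comp_id, Category.id_comp])
  have hmul : ∀ g h : G, act (g * h) = act h ≫ act g := fun g h => inj _ _ (by
    rw [hact, hσmul, Spec.map_comp, Category.assoc, hact, ← Category.assoc, ← hact, Category.assoc])
  have halg : ∀ g : G, φ ≫ act g = CommRingCat.ofHom (MulSemiringAction.toRingHom G A g) ≫ φ := fun g => by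
    apply Spec.map_injective
    rw [Spec.map_comp, Spec.map_comp, hφ, ← Category.assoc, hact, Category.assoc, hσf, Category.assoc]
  have hqfix : ∀ g : G, act g ≫ q = q := fun g => inj _ _ (by
    rw [Spec.map_comp, Category.assoc, hact, ← Category.assoc, hqx, hfix])
  have hqalg : φ ≫ q = CommRingCat.ofHom (IsLocalRing.residue A) := by
    apply Spec.map_injective
    rw [Spec.map_comp, hφ, ← Category.assoc, hqx, hx]
  obtain ⟨s, hs, hseq⟩ := Groth.Agent.CommAlg4.EquivSection.exists_equivariant_section hG htriv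
    (fun g => (act g).hom) (fun b => congr($(congrArg CommRingCat.Hom.hom h1) b))
    (fun g h b => congr($(congrArg CommRingCat.Hom.hom (hmul g h)) b))
    (fun g a => congr($(congrArg CommRingCat.Hom.hom (halg g)) a))
    q.hom (fun a => congr($(congrArg CommRingCat.Hom.hom hqalg) a))
    (fun g b => congr($(congrArg CommRingCat.Hom.hom (hqfix g)) b))
  refine ⟨Spec.map (CommRingCat.ofHom s.toRingHom) ≫ hU.fromSpec, ?_, ?_, fun g => ?_⟩
  · rw [Category.assoc, ← hφ, ← Spec.map_comp,
      show φ ≫ CommRingCat.ofHom s.toRingHom = 𝟙 (CommRingCat.of A) from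
        CommRingCat.hom_ext (RingHom.ext s.commutes), Spec.map_id]
  · rw [← Category.assoc, ← Spec.map_comp,
      show CommRingCat.ofHom s.toRingHom ≫ CommRingCat.ofHom (IsLocalRing.residue A) = q from
        CommRingCat.hom_ext (RingHom.ext hs), hqx]
  · rw [Category.assoc, ← hact, ← Category.assoc, ← Spec.map_comp, ← Category.assoc, ← Spec.map_comp,
      show act g ≫ CommRingCat.ofHom s.toRingHom =
        CommRingCat.ofHom s.toRingHom ≫ CommRingCat.ofHom (MulSemiringAction.toRingHom G A g) from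
        CommRingCat.hom_ext (RingHom.ext (hseq g))]

end Groth.Agent.S18165
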