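import Groth.Statements.S18168
import Groth.Agent.CohExch.TwistBase
import Groth.Agent.DQCoh.ProperSuppFlat17
import Groth.Agent.Resolve13.ContractPic
import Groth.Agent.Clifford24.SmoothFamily
import Groth.Agent.EGA43.FibDepth.Unit

set_option autoImplicit false
set_option backward.isDefEq.respectTransparency.types false
set_option linter.style.haveILetI false
set_option maxHeartbeats 1000000
universe u
open BSB

namespace Groth.Agent.S18168

open AlgebraicGeometry CategoryTheory CategoryTheory.Limits in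
/-- Let S be a Noetherian scheme, φ : X ⟶ S proper and flat, L an invertible O_X-module, q : X' ⟶ S
proper and ψ : X ⟶ X' an S-morphism with O_{X'} ⟶ ψ_* O_X an isomorphism, and N an invertible module
on X', ample relative to q, with ψ^* N ≅ L^m for some m > 0 (L is then relatively semiample and ψ is
the contraction it determines). If for some n > 0 the higher direct images R^i φ_* (L^(jn)) vanish
for all i > 0 and j ≥ 1, then X' is flat over S. (The published statement also asserts that the
direct images φ_* (L^(jn)) are finite locally free and that their formation commutes with base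
change; those clauses are not restated. The instance argument recording injective resolutions of
O_X-modules is true but not yet in Mathlib.) -/
theorem result {X X' S : Scheme.{u}} [IsNoetherian S]
    (φ : X ⟶ S) [IsProper φ] [Flat φ] [HasInjectiveResolutions X.Modules]
    (L : X.Modules) (hLi : PicF.IsInvertible L)
    (q : X' ⟶ S) [IsProper q] (ψ : X ⟶ X') (hψ : ψ ≫ q = φ) (hψO : ∀ U : X'.Opens, IsIso (ψ.app U))
    (N : X'.Modules) (hNi : PicF.IsInvertible N) (hN : RelAmple.IsRelAmple q N)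
    (m : ℕ) (hm : 0 < m) (eN : Nonempty ((Scheme.Modules.pullback ψ).obj N ≅ CohB1.tensorPow L m))
    (n : ℕ) (hn : 0 < n)
    (hvan : ∀ (i j : ℕ), 0 < i → 1 ≤ j → IsZero ((Coh.Rpush φ i).obj (CohB1.tensorPow L (j * n)))) :
    Flat q := by
  obtain ⟨e⟩ := eN
  obtain ⟨hqc, hA⟩ := hN
  haveI : IsLocallyNoetherian X' := LocallyOfFiniteType.isLocallyNoetherian q
  haveI : LocallyOfFinitePresentation φ := Groth.Agent.Coherent.CohBC.locallyOfFinitePresentation_of_isLocallyNoetherian φ
  let O' := Coh.structureModule X'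
  have hO : FlatMod.IsFinLocFree O' := Groth.Agent.Coherent.CohBC.isFinLocFree_structureModule X'
  have hpush : ∀ k, 1 ≤ k → FlatMod.IsFinLocFree ((Scheme.Modules.pushforward q).obj
      (CohB1.tensorMod O' (CohB1.tensorPow (CohB1.tensorPow N n) k))) := fun k hk => by
    let M := CohB1.tensorPow (CohB1.tensorPow N n) k
    have hM : PicF.IsInvertible M :=
      Groth.Agent.AmpleLib.isInvertible_tensorPow (Groth.Agent.AmpleLib.isInvertible_tensorPow hNi n) k
    let F := CohB1.tensorPow L (m * k * n)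
    have hF : FlatMod.IsFinLocFree F := fun x =>
      let ⟨U, hx, a⟩ := Groth.Agent.PicLib.isFinLocFreeOfRank_one (Groth.Agent.AmpleLib.isInvertible_tensorPow hLi (m * k * n)) x
      ⟨U, 1, hx, a⟩
    haveI : Coh.IsQCoh F := (Groth.Agent.Coherent.CohBC.isCoh_of_isFinLocFree hF).1
    have hloc : FlatMod.IsFinLocFree ((Scheme.Modules.pushforward φ).obj F) := fun y => by
      obtain ⟨C, hC, h0⟩ := Groth.Agent.DQCoh.ProperSuppFlat17.exists_flat_zero φ F
        (Groth.Agent.Props12.isFP_of_isFinLocFree _ hF) (Groth.Agent.Coherent.CohBC.isFlatOver_of_isFinLocFree φ hF)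
        (fun i hi => hvan i (m * k) hi (Nat.mul_pos hm hk)) y
      exact C.exists_trivial_nhd0 h0 hC
    obtain ⟨a⟩ := Groth.Agent.Clifford24.nonempty_pullback_tensorPow ψ N (n * k)
    obtain ⟨b, -⟩ := Groth.Agent.AmpleLib.exists_powPowIso hNi n k
    obtain ⟨c, -⟩ := Groth.Agent.AmpleLib.exists_powPowIso hLi m (n * k)
    let d : (Scheme.Modules.pullback ψ).obj M ≅ F :=
      (Scheme.Modules.pullback ψ).mapIso b ≪≫ a ≪≫ Groth.Agent.AmpleLib.powIsoOfIso e (n * k) ≪≫ c ≪≫
        eqToIso (congrArg (CohB1.tensorPow L) (by ring))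
    obtain ⟨η⟩ := Groth.Agent.Resolve13.nonempty_iso_push_pull hψO hM
    let i₀ : (Scheme.Modules.pushforward q).obj (CohB1.tensorMod O' M) ≅ (Scheme.Modules.pushforward φ).obj F :=
      (Scheme.Modules.pushforward q).mapIso (Groth.Agent.AmpleLib.unitTensorIso M ≪≫ η) ≪≫
        (Scheme.Modules.pushforwardComp ψ q).app _ ≪≫ (Scheme.Modules.pushforwardCongr hψ).app _ ≪≫
        (Scheme.Modules.pushforward φ).mapIso d
    exact Groth.Agent.DQCoh.ProperSuppFlat17.isFinLocFree_of_iso i₀.symm hloc
  rw [Flat.iff_flat_stalkMap]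
  intro x
  refine (Groth.Agent.EGA43.FibDepth.isFlatOverAt_structureModule q x).1 ?_
  obtain ⟨V, hV, hxV, -⟩ := exists_isAffineOpen_mem_and_subset (x := q x) (U := (⊤ : S.Opens)) trivial
  refine Groth.Agent.CohExch.isFlatOverAt_of_twists q (Groth.Agent.AmpleLib.isInvertible_tensorPow hNi n)
    (Groth.Agent.Coherent.CohBC.isCoh_of_isFinLocFree hO) hV ?_ 1 hpush hxV
  obtain ⟨r, -⟩ := Groth.Agent.AmpleLib.exists_pullPowIso (q ⁻¹ᵁ V).ι hNi n
  let r' : CohB1.tensorPow (N.restrict (q ⁻¹ᵁ V).ι) n ≅ (CohB1.tensorPow N n).restrict (q ⁻¹ᵁ V).ι :=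
    Groth.Agent.AmpleLib.powIsoOfIso (Groth.Agent.AmpleLib.restrictIsoPullback (q ⁻¹ᵁ V).ι N) n ≪≫ r.symm ≪≫
      (Groth.Agent.AmpleLib.restrictIsoPullback (q ⁻¹ᵁ V).ι _).symm
  exact Groth.Agent.AmpleLib.isAmple_of_iso r' ((Groth.Agent.AmpleLib.isAmple_pow_iff (hA ⟨V, hV⟩).1 n hn).2 (hA ⟨V, hV⟩))

end Groth.Agent.S18168
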