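import Groth.Statements.S18177
import Groth.Agent.FF.TwoPoint

set_option autoImplicit false
open FunFld

namespace Groth.Agent.S18177

open Groth.Agent.FF

/-- Let `k` be an algebraically closed field of characteristic zero and `K/k` a function field of one
variable (the function field of a smooth projective curve over `k`). A `g^r_d` is a divisor `D` of
degree `d` with a subspace `V ⊆ L(D)` of dimension `r + 1`; for a place `P` and `n ≥ 0`, `V(-nP) = V
∩ L(D - nP)` is the space of members vanishing to order at least `n` at `P`, so `dim V(-nP)` counts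
the vanishing orders `m_0 < ⋯ < m_r` of `V` at `P` that are at least `n`, and the weight of `V` at
`P` is `∑_{n=1}^{d} dim V(-nP) - r(r+1)/2`. Let `(D, V)` be a `g^r_d` with `r ≥ 1` and `P ≠ Q`
places at which the weights are large: `w(V, P) + w(V, Q) ≥ (r+1)(d-r) - (r-1)`, that is `(r+1)d + 1
≤ ∑_{n=1}^{d} dim V(-nP) + ∑_{n=1}^{d} dim V(-nQ) + r`. Then `V` contains members with divisors `m_i
Q + (d - m_i) P` for two different indices `i`, and hence `m(Q - P)` is a principal divisor for some
`1 ≤ m ≤ d`. (In the source `K` is an elliptic tail of a degenerate curve, `P` its node and `Q` the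
limit of the moving ramification point, the weight hypothesis coming from `ρ ≤ 0`; it concludes that
only finitely many `Q` are possible. The torsion assertion holds in any genus and is what is stated
here.) (The source states this for curves over the complex numbers.) -/
theorem result
    (k : Type*) [Field k] [IsAlgClosed k] [CharZero k]
    (K : Type*) [Field K] [Algebra k K] (hK : FunFld.IsFunctionField k K)
    (d r : ℕ) (hr : 1 ≤ r) (D : FunFld.Divisor k K) (hD : D.deg = d)
    (V : Submodule k K) (hV : V ≤ FunFld.L D) (hVr : Module.finrank k ↥V = r + 1)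
    (P Q : FunFld.Place k K) (hPQ : P ≠ Q)
    (hw : (r + 1) * d + 1 ≤
      (∑ n ∈ Finset.range d, Module.finrank k ↥(V ⊓ FunFld.L (D - Finsupp.single P ((n : ℤ) + 1)))) +
        (∑ n ∈ Finset.range d, Module.finrank k ↥(V ⊓ FunFld.L (D - Finsupp.single Q ((n : ℤ) + 1)))) + r) :
    ∃ m : ℕ, 1 ≤ m ∧ m ≤ d ∧ ∃ h : K, h ≠ 0 ∧
      FunFld.div k h = Finsupp.single Q (m : ℤ) - Finsupp.single P (m : ℤ) := by
  have h : IsSeries k V D d r := ⟨hK, hD, hV, hVr⟩
  have hcard := card_exact_ge h hPQ
  have hw' : (r + 1) * d + 1 ≤ wsum V D d P + wsum V D d Q + r := hw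
  have h2 : 1 < ((Finset.range (d + 1)).filter fun m : ℕ =>
      r + 2 ≤ fdim V D P m + fdim V D Q ((d : ℤ) - m)).card := by omega
  obtain ⟨m₁, hm₁, m₂, hm₂, hne⟩ := Finset.one_lt_card.mp h2
  simp only [Finset.mem_filter, Finset.mem_range] at hm₁ hm₂
  obtain ⟨a, b, hab, hbd, hA, hB⟩ : ∃ a b : ℕ, b < a ∧ a ≤ d ∧
      r + 2 ≤ fdim V D P (a : ℤ) + fdim V D Q ((d : ℤ) - a) ∧
      r + 2 ≤ fdim V D P (b : ℤ) + fdim V D Q ((d : ℤ) - b) := by
    rcases Nat.lt_or_gt_of_ne hne with hlt | hlt
    · exact ⟨m₂, m₁, hlt, by omega, hm₂.2, hm₁.2⟩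
    · exact ⟨m₁, m₂, hlt, by omega, hm₁.2, hm₂.2⟩
  obtain ⟨s, hs0, -, hs⟩ := exists_exact_member h hPQ (by ring) hA
  obtain ⟨t, ht0, -, ht⟩ := exists_exact_member h hPQ (by ring) hB
  refine ⟨a - b, by omega, by omega, t / s, div_ne_zero ht0 hs0, ?_⟩
  have hd : FunFld.div k (t / s) = (D + FunFld.div k t) - (D + FunFld.div k s) := by
    rw [div_eq_mul_inv, div_mul hK ht0 (inv_ne_zero hs0), div_inv hK]; abel
  rw [hd, hs, ht]
  simp only [Nat.cast_sub hab.le, Finsupp.single_sub]
  abel

end Groth.Agent.S18177
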