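import Groth.Statements.S1818
import Groth.Agent.DualLib.TorsComplete
import Groth.Agent.DualLib.RHomComplete
import Groth.Agent.DualLib.LocCohOmega
import Groth.Agent.DualLib.GammaHDI
import Groth.Agent.DualLib.Trunc

set_option autoImplicit false
universe u
open CategoryTheory
attribute [local instance] HasDerivedCategory.standard
open Dual

namespace Groth.Agent.S1818

/-- Let A be a Noetherian local ring with maximal ideal m, ω a normalized dualizing complex and κ → E an
injective hull of the residue field. Let K be a complex of A-modules and G a complex representing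
RΓ_m(K); assume the derived functors RHom(K, −), RHom(G, −), RΓ_m and derived m-completion exist.
Then the derived m-completion of RHom_A(K, ω) is isomorphic in D(A) to RHom_A(G, E[0]) =
RHom_A(RΓ_m(K), E[0]). -/
theorem result (A : Type u) [CommRing A] [IsLocalRing A] [IsNoetherianRing A] (ω : Dual.D A) (hω : Dual.IsDualizing A ω) (hn : Dual.IsNormalized A ω) (E : Type u) [AddCommGroup E] [Module A E] (f : IsLocalRing.ResidueField A →ₗ[A] E) (hf : InjHull.IsInjectiveHull f) [DRing.HasRgammaI (IsLocalRing.maximalIdeal A)] [DRing.HasDerivedCompletion (IsLocalRing.maximalIdeal A)] (K : DRing.Cx A) [DRing.HasRHomCx K] (G : DRing.Cx A) [DRing.HasRHomCx G] (hG : Nonempty (DRing.toD G ≅ (DRing.RgammaI (IsLocalRing.maximalIdeal A)).obj (DRing.toD K))) : Nonempty (((DRing.derivedCompletion (IsLocalRing.maximalIdeal A)).obj ((DRing.RHomCx K).obj ω)).obj ≅ (DRing.RHomCx G).obj (Dual.inD A E)) := by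
  open Groth.Agent Groth.Agent.DualLib Groth.Agent.CAlgH3.RGam CategoryTheory.Limits in
  haveI := DCat.hasLTen A
  haveI := DCat.hasRHom (A := A)
  obtain ⟨eG⟩ := hG
  obtain ⟨e1⟩ := RHC.nonempty_RHomCx_RHomR K ω
  obtain ⟨e2⟩ := RHC.nonempty_RHomCx_RHomR G (Dual.inD A E)
  let I := IsLocalRing.maximalIdeal A
  have hd : ∀ i, Nonempty (Dual2.HDI A I ω i ≃ₗ[A] Dual.HD A ((DRing.RgammaI I).obj ω) i) := fun i =>
    GammaHDI.nonempty_HDI_RgammaI I ω i
  have hne : ∀ i ≠ 0, IsZero ((DerivedCategory.homologyFunctor (ModuleCat.{u} A) i).obj ((DRing.RgammaI I).obj ω)) :=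
    fun i hi => by
      haveI := subsingleton_HDI_of_ne hn i hi
      haveI : Subsingleton (Dual.HD A ((DRing.RgammaI I).obj ω) i) := (hd i).some.symm.injective.subsingleton
      exact ModuleCat.isZero_of_subsingleton _
  haveI : ((DRing.RgammaI I).obj ω).IsGE 0 := (DerivedCategory.isGE_iff _ 0).2 fun i hi => hne i (ne_of_lt hi)
  haveI : ((DRing.RgammaI I).obj ω).IsLE 0 := (DerivedCategory.isLE_iff _ 0).2 fun i hi => hne i (ne_of_gt hi)
  obtain ⟨e3⟩ := DualLib.exists_single_iso ((DRing.RgammaI I).obj ω) 0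
  obtain ⟨d0⟩ := hd 0
  obtain ⟨d1⟩ := nonempty_HDI_zero hω hn hf
  let e4 : (DRing.RgammaI I).obj ω ≅ Dual.inD A E := e3.symm ≪≫
    (DerivedCategory.singleFunctor (ModuleCat.{u} A) 0).mapIso ((d0.symm.trans d1).toModuleIso)
  let W := (DRing.RgammaI I).obj (DerivedCategory.Q.obj K)
  have hW : Tors I W := tors_RgammaI I _
  haveI := TC.isIso_RHomR_map_ε hW ω
  have hK := TC.isCompl_RHom ω (DerivedCategory.Q.obj K) (I := I)
  obtain ⟨e5, -⟩ := (DCat.DC.isCompl_toDerivedCompletion I ((DTen.RHomR A (DerivedCategory.Q.obj K)).obj ω)).exists_iso hK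
  exact ⟨(Functor.mapIso (DRing.derivedCompletion I ⋙ ObjectProperty.ι _) e1) ≪≫ e5 ≪≫
    (asIso ((DTen.RHomR A W).map ((DRing.RgammaIε I).app ω))).symm ≪≫
    (DTen.RHomR A W).mapIso e4 ≪≫ ((DTen.RHom A).mapIso eG.op).app _ ≪≫ e2.symm⟩

end Groth.Agent.S1818
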