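import Groth.Statements.S18182
import Groth.Agent.FF.WeierstrassPts
import Groth.Agent.FF.LinSys
import Groth.Agent.FF.Expansion

set_option autoImplicit false
open FunFld

namespace Groth.Agent.S18182
open FunFld WithZero Module Groth.Agent.FF LocRes in
open scoped Classical in
theorem finite_torsion {k K : Type*} [Field k] [IsAlgClosed k] [CharZero k] [Field K] [Algebra k K]
    (hK : IsFunctionField k K) (hg1 : genus k K = 1) (P : Place k K) (n : ℕ) (hn : 1 ≤ n) :
    {Q : Place k K | Q ≠ P ∧ ∃ z : K, z ≠ 0 ∧ z ∈ L (Finsupp.single P (n : ℤ)) ∧ (n : ℤ) ≤ Q.ord z}.Finite := by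
  obtain ⟨m, rfl⟩ : ∃ m, n = m + 1 := ⟨n - 1, by omega⟩
  have := finiteDimensional_L hK (Finsupp.single P ((m + 1 : ℕ) : ℤ))
  have hdim : finrank k (L (Finsupp.single P ((m + 1 : ℕ) : ℤ))) = m + 1 := by
    have h := ell_eq_of_deg_large hK (D := Finsupp.single P ((m + 1 : ℕ) : ℤ))
      (by rw [deg_single, deg_eq_one hK, hg1]; push_cast; omega)
    rw [deg_single, deg_eq_one hK, hg1] at h
    simp only [ell] at h
    push_cast at h ⊢
    omega
  let B := Module.finBasisOfFinrankEq k _ hdim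
  let φ : Fin (m + 1) → K := fun i => (B i : K)
  have hφ : LinearIndependent k φ := B.linearIndependent.map' (Submodule.subtype _) (Submodule.ker_subtype _)
  have hspan : Submodule.span k (Set.range φ) = L (Finsupp.single P ((m + 1 : ℕ) : ℤ)) := by
    rw [show φ = (Submodule.subtype _) ∘ B from rfl, Set.range_comp, ← Submodule.map_span, B.span_eq,
      Submodule.map_top, Submodule.range_subtype]
  have h1 : (1 : K) ∈ Submodule.span k (Set.range φ) := by
    rw [hspan]
    intro Q
    rw [map_one, ← exp_zero, exp_le_exp, Finsupp.single_apply]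
    split_ifs <;> omega
  obtain ⟨s, -, hs⟩ := exists_uniformizer P
  obtain ⟨H, hH⟩ := exists_hasse_uniformizer hK P hs
  obtain ⟨J, hJ, -⟩ := exists_orders hK hφ (AlgHom.id k K) hH
  have hΦex : ∀ Q : Place k K, ∃ F : K →ₐ[k] LaurentSeries k, IsExpansionAt Q.1 F := fun Q => by
    obtain ⟨t, -, ht⟩ := exists_uniformizer Q
    obtain ⟨F, hF, -⟩ := exists_expansion hK Q ht
    exact ⟨F, hF⟩
  choose Φ hΦ using hΦex
  refine (wDiv (AlgHom.id k K) H Φ s φ J).support.finite_toSet.subset ?_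
  rintro Q ⟨hQP, z, hz0, hz, hord⟩
  have hnorm : ∀ i, Q.1 (φ i) ≤ 1 := fun i => by
    have := (B i).2 Q
    rwa [Finsupp.single_eq_of_ne hQP, exp_zero] at this
  obtain ⟨t, -, ht⟩ := exists_uniformizer Q
  obtain ⟨Ht, hHt⟩ := exists_hasse_uniformizer hK Q ht
  obtain ⟨J', hJ'⟩ := exists_ordersAt hK Q ht hHt hnorm hφ h1
  have hinv := wDiv_invariant hK (AlgHom.id k K) hφ hH hHt hJ 1 (by simp) (one_ne_zero (α := K)) (φ' := φ)
    (fun i => by simp [Matrix.one_apply]) hΦ
  have hstd : ∀ l, J l ≤ (l : ℕ) + 1 := fun l => by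
    have hpos := (exists_adapted hK Q ht hHt hnorm hφ h1 hJ').1
    have h := ((val_wrMat_le_and_iff hK (AlgHom.id k K) Q (fun z hz => hz) ht hHt hφ h1 hnorm hJ'
      (fun l : Fin m => (l : ℕ) + 1)).2 (Or.inl fun _ => Nat.succ_pos _)).mpr
      (binomMat_standard_det_ne_zero hJ'.1 1 le_rfl (fun _ => hpos) (Or.inl ringChar.eq_zero))
    exact orders_le hinv.1 (fun a b hab => Nat.succ_lt_succ hab)
      ((det_ne_zero_iff _ _ φ _).mp (det_wrMat_ne_zero_of_val Q h)) l
  have hle := fun l => orders_id_le hK Q hφ h1 hnorm ht hHt hJ' hinv.1 l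
  obtain ⟨j, hj, hjv⟩ : ∃ j : ℕ, m + 1 ≤ j ∧ Q.1 z = exp (-(j : ℤ)) := by
    refine ⟨(Q.ord z).toNat, by omega, ?_⟩
    rw [val_eq_exp_neg_ord Q hz0, Int.toNat_of_nonneg (by omega)]
  obtain ⟨l, hl⟩ := (((exists_adapted hK Q ht hHt hnorm hφ h1 hJ').2.2 j).mpr
    ⟨z, hspan.symm ▸ hz, hjv⟩).resolve_left (by omega)
  have hsum : 0 < ∑ l, ((J' l : ℤ) - J l) := by
    refine Finset.sum_pos' (fun l _ => by have := hle l; omega) ⟨l, Finset.mem_univ l, ?_⟩
    have := hstd l
    have := l.2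
    omega
  have hw := (sum_le_wDiv hK Q hφ h1 hnorm ht hHt hJ' (fun z hz => hz) hinv.1 hΦ).1
  rw [hinv.2] at hw
  rw [Finset.mem_coe, Finsupp.mem_support_iff]
  omega


/-- Let `k` be an algebraically closed field of characteristic zero and `K/k` a function field of one
variable (the function field of a smooth projective curve over `k`). A `g^r_d` is a divisor `D` of
degree `d` with a subspace `V ⊆ L(D)` of dimension `r + 1`; for a place `P` and `n ≥ 0`, `V(-nP) = V
∩ L(D - nP)` is the space of members vanishing to order at least `n` at `P`, so `dim V(-nP)` counts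
the vanishing orders `m_0 < ⋯ < m_r` of `V` at `P` that are at least `n`, and the weight of `V` at
`P` is `∑_{n=1}^{d} dim V(-nP) - r(r+1)/2`. Assume `K` has genus one, fix a place `P` and natural
numbers `d` and `r ≥ 1`. Then only finitely many places `Q ≠ P` admit a `g^r_d` `(D, V)` whose
weights at `P` and `Q` are large in the sense `w(V, P) + w(V, Q) ≥ (r+1)(d-r) - (r-1)`, that is
`(r+1)d + 1 ≤ ∑_{n=1}^{d} dim V(-nP) + ∑_{n=1}^{d} dim V(-nQ) + r`. (In the source `K` is an
elliptic tail of a flag curve degenerating a general curve of genus `g`, `P` its node, `Q` the limit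
of a moving ramification point, and the weight hypothesis is what `ρ ≤ 0` gives; the finiteness of
torsion points of bounded order on an elliptic curve is used.) (The source states this for curves
over the complex numbers.) -/
theorem result
    (k : Type*) [Field k] [IsAlgClosed k] [CharZero k]
    (K : Type*) [Field K] [Algebra k K] (hK : FunFld.IsFunctionField k K) (hg1 : FunFld.genus k K = 1)
    (P : FunFld.Place k K) (d r : ℕ) (hr : 1 ≤ r) :
    Set.Finite {Q : FunFld.Place k K | Q ≠ P ∧ ∃ (D : FunFld.Divisor k K) (V : Submodule k K),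
      D.deg = d ∧ V ≤ FunFld.L D ∧ Module.finrank k ↥V = r + 1 ∧
      (r + 1) * d + 1 ≤
        (∑ n ∈ Finset.range d, Module.finrank k ↥(V ⊓ FunFld.L (D - Finsupp.single P ((n : ℤ) + 1)))) +
          (∑ n ∈ Finset.range d, Module.finrank k ↥(V ⊓ FunFld.L (D - Finsupp.single Q ((n : ℤ) + 1)))) + r} := by
  classical
  refine ((Finset.range d).finite_toSet.biUnion fun n _ =>
    finite_torsion hK hg1 P (n + 1) (Nat.succ_pos n)).subset ?_
  rintro Q ⟨hQP, D, V, hD, hV, hdim, hw⟩
  have hs : Groth.Agent.FF.IsSeries k V D d r := ⟨hK, hD, hV, hdim⟩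
  have hfd : FiniteDimensional k V := Module.finite_of_finrank_pos (by rw [hdim]; omega)
  let g : ℕ → ℕ := fun m => Groth.Agent.FF.fdim V D P m + Groth.Agent.FF.fdim V D Q ((d - m : ℕ) : ℤ)
  let G : ℕ → FunFld.Divisor k K := fun m => D - Finsupp.single P (m : ℤ) - Finsupp.single Q ((d - m : ℕ) : ℤ)
  have hdegG : ∀ m, m ≤ d → (G m).deg = 0 := fun m hm => by
    simp only [G, Groth.Agent.FF.deg_sub, Groth.Agent.FF.deg_single, Groth.Agent.FF.deg_eq_one hK, hD]
    push_cast [Nat.cast_sub hm]; ring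
  have hkey : ∀ m, m ≤ d → g m ≤ r + 2 ∧ (r + 1 < g m → ∃ s, s ≠ 0 ∧ s ∈ FunFld.L (G m) ) := fun m hm => by
    have hle : (V ⊓ FunFld.L (D - Finsupp.single P (m : ℤ))) ⊓ (V ⊓ FunFld.L (D - Finsupp.single Q ((d - m : ℕ) : ℤ)))
        ≤ FunFld.L (G m) := by
      rintro x ⟨⟨-, h1⟩, -, h2⟩ R
      rcases eq_or_ne R Q with rfl | hRQ
      · simpa [G, Finsupp.single_eq_of_ne hQP] using h2 R
      · simpa [G, Finsupp.single_eq_of_ne hRQ] using h1 R
    have := Groth.Agent.FF.finiteDimensional_L hK (G m)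
    have hl1 : FunFld.ell (G m) ≤ 1 := by
      by_contra hc
      push Not at hc
      obtain ⟨x, hx0, hx⟩ := Groth.Agent.FF.exists_of_ell_pos (D := G m) (by omega)
      have h2 := Groth.Agent.FF.ell_add_div hK (G m) hx0
      have h3 : G m + FunFld.div k x = 0 := by
        refine (Groth.Agent.FF.eq_of_le_of_deg_le hK (D := 0) (E := G m + FunFld.div k x)
          ((Groth.Agent.FF.mem_L_iff hK hx0).mp hx) ?_).symm
        rw [Groth.Agent.FF.deg_add, hdegG m hm, Groth.Agent.FF.deg_div_eq_zero hK, Groth.Agent.FF.deg_zero]; norm_num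
      rw [h3] at h2
      have h4 := (Groth.Agent.FF.finrank_L_zero hK).2
      simp only [FunFld.ell] at h2 hc h4
      omega
    have h1 := Submodule.finrank_sup_add_finrank_inf_eq (V ⊓ FunFld.L (D - Finsupp.single P (m : ℤ)))
      (V ⊓ FunFld.L (D - Finsupp.single Q ((d - m : ℕ) : ℤ)))
    have h2 := (Submodule.finrank_mono (sup_le inf_le_left inf_le_left :
      (V ⊓ FunFld.L (D - Finsupp.single P (m : ℤ))) ⊔ (V ⊓ FunFld.L (D - Finsupp.single Q ((d - m : ℕ) : ℤ))) ≤ V))
    have h3 := Submodule.finrank_mono hle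
    rw [hdim] at h2
    simp only [g, Groth.Agent.FF.fdim]
    simp only [FunFld.ell] at hl1
    refine ⟨by omega, fun hgm => Groth.Agent.FF.exists_of_ell_pos ?_⟩
    simp only [FunFld.ell]
    omega
  have hsum : (r + 1) * (d + 1) + 2 ≤ ∑ m ∈ Finset.range (d + 1), g m := by
    have hP : ∑ m ∈ Finset.range (d + 1), Groth.Agent.FF.fdim V D P m =
        (r + 1) + ∑ n ∈ Finset.range d, Groth.Agent.FF.fdim V D P ((n : ℤ) + 1) := by
      rw [Finset.sum_range_succ']
      push_cast
      rw [Groth.Agent.FF.fdim_zero hs, add_comm]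
    have hQ : ∑ m ∈ Finset.range (d + 1), Groth.Agent.FF.fdim V D Q ((d - m : ℕ) : ℤ) =
        (r + 1) + ∑ n ∈ Finset.range d, Groth.Agent.FF.fdim V D Q ((n : ℤ) + 1) := by
      rw [← Finset.sum_range_reflect (fun j : ℕ => Groth.Agent.FF.fdim V D Q ((d - j : ℕ) : ℤ))]
      rw [Finset.sum_congr rfl (g := fun j : ℕ => Groth.Agent.FF.fdim V D Q (j : ℤ)) fun j hj => by
        rw [Finset.mem_range] at hj
        congr 2
        omega]
      rw [Finset.sum_range_succ']
      push_cast
      rw [Groth.Agent.FF.fdim_zero hs, add_comm]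
    simp only [g, Finset.sum_add_distrib, hP, hQ]
    simp only [Groth.Agent.FF.fdim]
    nlinarith [hw]
  obtain ⟨a, ha, b, hb, hab⟩ : ∃ a ∈ (Finset.range (d + 1)).filter (fun m => r + 1 < g m),
      ∃ b ∈ (Finset.range (d + 1)).filter (fun m => r + 1 < g m), a < b := by
    have hb1 : ∀ m ∈ Finset.range (d + 1), g m ≤ (r + 1) + (if r + 1 < g m then 1 else 0) := fun m hm => by
      have := (hkey m (Nat.lt_succ_iff.mp (Finset.mem_range.mp hm))).1
      split_ifs <;> omega
    have h2 := hsum.trans (Finset.sum_le_sum hb1)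
    rw [Finset.sum_add_distrib, Finset.sum_const, Finset.card_range, smul_eq_mul, Finset.sum_boole] at h2
    simp only [Nat.cast_id] at h2
    have hcard : 1 < ((Finset.range (d + 1)).filter (fun m => r + 1 < g m)).card := by nlinarith
    obtain ⟨a, ha, b, hb, hne⟩ := Finset.one_lt_card.mp hcard
    rcases lt_or_gt_of_ne hne with h | h
    · exact ⟨a, ha, b, hb, h⟩
    · exact ⟨b, hb, a, ha, h⟩
  rw [Finset.mem_filter, Finset.mem_range] at ha hb
  have hdiv : ∀ m, m ≤ d → r + 1 < g m → ∃ s, s ≠ 0 ∧ ∀ R : FunFld.Place k K, R.ord s = -(G m) R := fun m hm hgm => by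
    obtain ⟨x, hx0, hx⟩ := (hkey m hm).2 hgm
    have h3 : G m + FunFld.div k x = 0 := by
      refine (Groth.Agent.FF.eq_of_le_of_deg_le hK (D := 0) (E := G m + FunFld.div k x)
        ((Groth.Agent.FF.mem_L_iff hK hx0).mp hx) ?_).symm
      rw [Groth.Agent.FF.deg_add, hdegG m hm, Groth.Agent.FF.deg_div_eq_zero hK, Groth.Agent.FF.deg_zero]; norm_num
    refine ⟨x, hx0, fun R => ?_⟩
    have h4 := DFunLike.congr_fun h3 R
    rw [Finsupp.add_apply, Groth.Agent.FF.div_apply hK, Finsupp.coe_zero, Pi.zero_apply] at h4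
    omega
  obtain ⟨sa, hsa0, hsa⟩ := hdiv a (by omega) ha.2
  obtain ⟨sb, hsb0, hsb⟩ := hdiv b (by omega) hb.2
  have hord : ∀ R : FunFld.Place k K, R.ord (sa / sb) = (G b) R - (G a) R := fun R => by
    have h1 := Groth.Agent.FF.ord_mul R (div_ne_zero hsa0 hsb0) hsb0
    rw [div_mul_cancel₀ _ hsb0, hsa, hsb] at h1
    omega
  refine Set.mem_biUnion (x := b - a - 1) (Finset.mem_coe.mpr (Finset.mem_range.mpr (by omega))) ?_
  refine ⟨hQP, sa / sb, div_ne_zero hsa0 hsb0, fun R => ?_, ?_⟩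
  · rw [Groth.Agent.FF.val_eq_exp_neg_ord R (div_ne_zero hsa0 hsb0), WithZero.exp_le_exp, hord]
    rcases eq_or_ne R P with rfl | hRP
    · simp [G, Finsupp.single_eq_of_ne hQP.symm]
      omega
    · rcases eq_or_ne R Q with rfl | hRQ
      · simp [G, Finsupp.single_eq_of_ne hQP]
        omega
      · simp [G, Finsupp.single_eq_of_ne hRP, Finsupp.single_eq_of_ne hRQ]
  · rw [hord]
    simp [G, Finsupp.single_eq_of_ne hQP]
    omega

end Groth.Agent.S18182
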