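import Groth.Statements.S18189
import Mathlib
import Groth.Prelude

set_option linter.all false

set_option autoImplicit false
open OrbRR

universe u

open Polynomial

namespace Groth.Agent.S18189

section
variable (K : Type u) [Field K]

noncomputable def G (ζ : K) (N j : ℕ) : K := ∑ i ∈ Finset.Ioo 0 N, ζ ^ (i * j) / (2 - ζ ^ i - (ζ ^ i)⁻¹)

variable {K}

theorem geom_zero {N : ℕ} {ζ : K} (hζ : IsPrimitiveRoot ζ N) {l : ℕ} (hl : ¬ N ∣ l) :
    ∑ i ∈ Finset.range N, ζ ^ (l * i) = 0 := by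
  have hz : ζ ^ l ≠ 1 := fun h => hl ((hζ.pow_eq_one_iff_dvd l).1 h)
  simp only [pow_mul]
  rw [geom_sum_eq hz, ← pow_mul, mul_comm, pow_mul, hζ.pow_eq_one, one_pow, sub_self, zero_div]

theorem den_eq {z : K} (hz : z ≠ 0) : 2 - z - z⁻¹ = -((1 - z) * (1 - z)) / z := by field_simp; ring

theorem G_step {N : ℕ} {ζ : K} (hζ : IsPrimitiveRoot ζ N) {j : ℕ} (hj : j + 1 < N) :
    G K ζ N (j + 2) + G K ζ N j - 2 * G K ζ N (j + 1) = 1 := by
  have hN : 0 < N := by omega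
  have h0 : ζ ≠ 0 := hζ.ne_zero (by omega)
  have hterm : ∀ i ∈ Finset.Ioo 0 N, ζ ^ (i * (j + 2)) / (2 - ζ ^ i - (ζ ^ i)⁻¹) + ζ ^ (i * j) / (2 - ζ ^ i - (ζ ^ i)⁻¹) -
      2 * (ζ ^ (i * (j + 1)) / (2 - ζ ^ i - (ζ ^ i)⁻¹)) = -ζ ^ ((j + 1) * i) := by
    intro i hi
    rw [Finset.mem_Ioo] at hi
    have hz0 : ζ ^ i ≠ 0 := pow_ne_zero _ h0
    have hz1 : ζ ^ i ≠ 1 := hζ.pow_ne_one_of_pos_of_lt (by omega) hi.2
    rw [pow_mul, pow_mul, pow_mul, mul_comm (j + 1), pow_mul, den_eq hz0]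
    have : (1 - ζ ^ i) ≠ 0 := sub_ne_zero.2 hz1.symm
    field_simp
    ring
  simp only [G, Finset.mul_sum]
  rw [← Finset.sum_add_distrib, ← Finset.sum_sub_distrib, Finset.sum_congr rfl hterm, Finset.sum_neg_distrib]
  have := geom_zero hζ (l := j + 1) (fun h => absurd (Nat.le_of_dvd (by omega) h) (by omega))
  rw [Finset.range_eq_Ico, Finset.sum_eq_sum_Ico_succ_bot hN] at this
  rw [show Finset.Ioo 0 N = Finset.Ico (0 + 1) N from rfl]
  simp only [mul_zero, pow_zero] at this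
  linear_combination -this

theorem G_sym {N : ℕ} {ζ : K} (hζ : IsPrimitiveRoot ζ N) (hN : 0 < N) :
    2 * G K ζ N 1 - 2 * G K ζ N 0 = -((N : K) - 1) := by
  have h0 : ζ ≠ 0 := hζ.ne_zero (by omega)
  have hflip : G K ζ N 1 = ∑ i ∈ Finset.Ioo 0 N, (ζ ^ i)⁻¹ / (2 - ζ ^ i - (ζ ^ i)⁻¹) := by
    refine Finset.sum_nbij' (fun i => N - i) (fun i => N - i) (fun i hi => ?_) (fun i hi => ?_) (fun i hi => ?_) (fun i hi => ?_) (fun i hi => ?_)
    all_goals simp only [Finset.mem_Ioo, Finset.mem_coe] at hi ⊢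
    all_goals first | omega | skip
    have e : ζ ^ (N - i) = (ζ ^ i)⁻¹ := by
      refine eq_inv_of_mul_eq_one_left ?_
      rw [← pow_add, Nat.sub_add_cancel hi.2.le, hζ.pow_eq_one]
    rw [mul_one, e, inv_inv, sub_right_comm]
  have hterm : ∀ i ∈ Finset.Ioo 0 N, ζ ^ (i * 1) / (2 - ζ ^ i - (ζ ^ i)⁻¹) + (ζ ^ i)⁻¹ / (2 - ζ ^ i - (ζ ^ i)⁻¹) -
      2 * (ζ ^ (i * 0) / (2 - ζ ^ i - (ζ ^ i)⁻¹)) = -1 := by
    intro i hi
    rw [Finset.mem_Ioo] at hi
    have hz0 : ζ ^ i ≠ 0 := pow_ne_zero _ h0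
    have hz1 : ζ ^ i ≠ 1 := hζ.pow_ne_one_of_pos_of_lt (by omega) hi.2
    have : (1 - ζ ^ i) ≠ 0 := sub_ne_zero.2 hz1.symm
    rw [mul_one, mul_zero, pow_zero, den_eq hz0]
    field_simp
    ring
  rw [two_mul (G K ζ N 1)]
  conv_lhs => arg 1; arg 2; rw [hflip]
  simp only [G, Finset.mul_sum]
  rw [← Finset.sum_add_distrib, ← Finset.sum_sub_distrib, Finset.sum_congr rfl hterm, Finset.sum_const, Nat.card_Ioo,
    nsmul_eq_mul, Nat.sub_zero, Nat.cast_sub hN]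
  simp

theorem G_closed {N : ℕ} {ζ : K} (hζ : IsPrimitiveRoot ζ N) (h6 : (6 : K) ≠ 0) (hN : 0 < N) :
    ∀ j, j < N → G K ζ N j = (j : K) * ((j : K) - (N : K)) / 2 + ((N : K) ^ 2 - 1) / 12 := by
  have h2 : (2 : K) ≠ 0 := fun h => h6 (by linear_combination (3 : K) * h)
  have h3 : (3 : K) ≠ 0 := fun h => h6 (by linear_combination (2 : K) * h)
  have hrec : ∀ j, j ≤ N → 2 * G K ζ N j = 2 * G K ζ N 0 + (j : K) * ((j : K) - N) := by
    intro j
    induction j using Nat.strong_induction_on with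
    | _ j ih =>
      intro hj
      rcases j with _ | _ | j
      · simp
      · have := G_sym hζ hN
        push_cast; linear_combination this
      · have e := G_step hζ (j := j) (by omega)
        have e1 := ih j (by omega) (by omega)
        have e2 := ih (j + 1) (by omega) (by omega)
        push_cast at e1 e2 ⊢
        linear_combination 2 * e - e1 + 2 * e2
  haveI : NeZero N := ⟨hN.ne'⟩
  have hNK : (N : K) ≠ 0 := (hζ.neZero').out
  have hsum : ∑ j ∈ Finset.range N, G K ζ N j = 0 := by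
    simp only [G]
    rw [Finset.sum_comm]
    refine Finset.sum_eq_zero fun i hi => ?_
    rw [Finset.mem_Ioo] at hi
    rw [← Finset.sum_div, geom_zero hζ (fun h => absurd (Nat.le_of_dvd hi.1 h) (by omega)), zero_div]
  have hpoly : ∀ M : ℕ, (6 : K) * ∑ j ∈ Finset.range M, (j : K) * ((j : K) - N) =
      ((M : K) - 1) * M * (2 * M - 1) - 3 * N * (((M : K) - 1) * M) := by
    intro M
    induction M with
    | zero => simp
    | succ M ihM => rw [Finset.sum_range_succ, mul_add, ihM]; push_cast; ring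
  have hG0 : (12 : K) * G K ζ N 0 = (N : K) ^ 2 - 1 := by
    have h := congrArg (fun z => (12 : K) * z) hsum
    simp only [mul_zero] at h
    rw [show (12 : K) * ∑ j ∈ Finset.range N, G K ζ N j = ∑ j ∈ Finset.range N, 6 * (2 * G K ζ N 0 + (j : K) * ((j : K) - N)) by
      rw [Finset.mul_sum]
      refine Finset.sum_congr rfl fun j hj => ?_
      rw [← hrec j (Finset.mem_range.1 hj).le]; ring] at h
    rw [← Finset.mul_sum, Finset.sum_add_distrib, mul_add, hpoly, Finset.sum_const, Finset.card_range, nsmul_eq_mul] at h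
    apply mul_left_cancel₀ hNK
    linear_combination h
  intro j hj
  have h12 : (12 : K) ≠ 0 := by rw [show (12 : K) = 2 * 2 * 3 by norm_num]; positivity
  field_simp
  linear_combination 12 * hrec j hj.le + 2 * hG0

end

/-- Let N ≥ 1 be a natural number, let ζ ∈ ℂ be a primitive N-th root of unity, and put f(i) = i(i −
N)/2 + (N² − 1)/12 for 0 ≤ i < N. For every natural number m the complex number ε_m = (1/N)
∑_{i=0}^{N−1} f(i) ζ^{mi}, an eigenvalue of the symmetric circulant N × N matrix with (i, j) entry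
f(j − i)/N, is real and nonnegative. -/
theorem result (N : ℕ) (hN : 0 < N) (ζ : ℂ)
    (hζ : IsPrimitiveRoot ζ N) (m : ℕ) :
    (∑ i ∈ Finset.range N,
        ((i : ℂ) * ((i : ℂ) - (N : ℂ)) / 2 + ((N : ℂ) ^ 2 - 1) / 12) / (N : ℂ) * ζ ^ (m * i)).im = 0 ∧
    0 ≤ (∑ i ∈ Finset.range N,
        ((i : ℂ) * ((i : ℂ) - (N : ℂ)) / 2 + ((N : ℂ) ^ 2 - 1) / 12) / (N : ℂ) * ζ ^ (m * i)).re := by
  have hNC : (N : ℂ) ≠ 0 := Nat.cast_ne_zero.2 hN.ne'
  rw [Finset.sum_congr rfl fun (i : ℕ) hi => show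
    ((i : ℂ) * ((i : ℂ) - (N : ℂ)) / 2 + ((N : ℂ) ^ 2 - 1) / 12) / (N : ℂ) * ζ ^ (m * i) =
      ∑ l ∈ Finset.Ioo 0 N, (N : ℂ)⁻¹ * ((2 - ζ ^ l - (ζ ^ l)⁻¹)⁻¹) * ζ ^ ((l + m) * i) by
    rw [← G_closed hζ (by norm_num) hN i (Finset.mem_range.1 hi), G, Finset.sum_div, Finset.sum_mul]
    refine Finset.sum_congr rfl fun l _ => ?_
    rw [add_mul, pow_add]; ring]
  rw [Finset.sum_comm]
  simp only [← Finset.mul_sum]
  have hterm : ∀ l ∈ Finset.Ioo 0 N, ∃ r : ℝ, 0 ≤ r ∧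
      (N : ℂ)⁻¹ * (2 - ζ ^ l - (ζ ^ l)⁻¹)⁻¹ * ∑ i ∈ Finset.range N, ζ ^ ((l + m) * i) = (r : ℂ) := by
    intro l _
    by_cases h : N ∣ l + m
    · refine ⟨(Complex.normSq (1 - ζ ^ l))⁻¹, inv_nonneg.2 (Complex.normSq_nonneg _), ?_⟩
      rw [Finset.sum_congr rfl fun i _ => show ζ ^ ((l + m) * i) = 1 by rw [pow_mul, (hζ.pow_eq_one_iff_dvd _).2 h, one_pow],
        Finset.sum_const, Finset.card_range, nsmul_eq_mul, mul_one]
      have hnorm : ‖ζ ^ l‖ = 1 := by rw [norm_pow, hζ.norm'_eq_one hN.ne', one_pow]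
      have hconj : (starRingEnd ℂ) (ζ ^ l) = (ζ ^ l)⁻¹ := by
        rw [Complex.inv_def, ← Complex.sq_norm, hnorm]; simp
      have hne : ζ ^ l ≠ 0 := pow_ne_zero _ (hζ.ne_zero hN.ne')
      rw [Complex.ofReal_inv, Complex.normSq_eq_conj_mul_self, map_sub, map_one, hconj,
        show ((1 : ℂ) - (ζ ^ l)⁻¹) * (1 - ζ ^ l) = 2 - ζ ^ l - (ζ ^ l)⁻¹ by field_simp; ring]
      field_simp
    · exact ⟨0, le_rfl, by rw [geom_zero hζ h]; simp⟩
  choose r hr0 hr using hterm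
  rw [← Finset.sum_attach, Finset.sum_congr rfl fun l _ => hr l.1 l.2, ← Complex.ofReal_sum]
  exact ⟨Complex.ofReal_im _, by rw [Complex.ofReal_re]; exact Finset.sum_nonneg fun l _ => hr0 _ _⟩

end Groth.Agent.S18189
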