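import Groth.Statements.S1819
import Groth.Agent.CAlgH3.DualUnbounded
import Groth.Agent.CAlgH3.RGam.RHomBridge
-- import your own Groth.Agent.* helpers here

set_option autoImplicit false
universe u
open CategoryTheory
attribute [local instance] HasDerivedCategory.standard
open Dual

namespace Groth.Agent.S1819

/-- Let A be a Noetherian ring with a dualizing complex ω and K a complex of A-modules all of whose
cohomology modules are finite; assume RHom(K, −) exists. Then every cohomology module of RHom_A(K,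
ω) is finite, and for every complex E representing RHom_A(K, ω) (with RHom(E, −) existing) there is
an isomorphism RHom_A(E, ω) ≅ K in D(A). -/
theorem result (A : Type u) [CommRing A] [IsNoetherianRing A] (ω : Dual.D A) (hω : Dual.IsDualizing A ω) (K : DRing.Cx A) [DRing.HasRHomCx K] (hK : ∀ i : ℤ, Module.Finite A (Dual.HD A (DRing.toD K) i)) : (∀ i : ℤ, Module.Finite A (Dual.HD A ((DRing.RHomCx K).obj ω) i)) ∧ ∀ (E : DRing.Cx A) [DRing.HasRHomCx E], Nonempty (DRing.toD E ≅ (DRing.RHomCx K).obj ω) → Nonempty ((DRing.RHomCx E).obj ω ≅ DRing.toD K) := by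
  haveI := Groth.Agent.DCat.hasLTen A
  haveI := Groth.Agent.DCat.hasLTen₃ A
  haveI := Groth.Agent.DCat.hasRHom (A := A)
  haveI := Groth.Agent.DualLib.isSymMonoidal (A := A)
  obtain ⟨θ⟩ := Groth.Agent.CAlgH3.RGam.nonempty_RHomCx_iso_RHomR K
  have hf : ∀ i : ℤ, Module.Finite A (Dual.HD A ((DRing.RHomCx K).obj ω) i) := fun i => by
    haveI := Groth.Agent.CAlgH3.DualUnbounded.finite_dual hω (DerivedCategory.Q.obj K) hK i
    exact Module.Finite.equiv (((DerivedCategory.homologyFunctor (ModuleCat.{u} A) i).mapIso (θ.app ω)).symm.toLinearEquiv)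
  refine ⟨hf, fun E _ ⟨eE⟩ => ?_⟩
  obtain ⟨θ'⟩ := Groth.Agent.CAlgH3.RGam.nonempty_RHomCx_iso_RHomR E
  obtain ⟨b⟩ := Groth.Agent.CAlgH3.DualUnbounded.nonempty_biduality hω (DerivedCategory.Q.obj K) hK
  exact ⟨θ'.app ω ≪≫ (Groth.Agent.DualLib.rhomCongr (eE ≪≫ θ.app ω) ω).symm ≪≫ b⟩


end Groth.Agent.S1819
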