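import Groth.Statements.S18190
import Mathlib.Analysis.Matrix.Order
import Mathlib.Data.ZMod.Basic
import Mathlib.Tactic

set_option autoImplicit false
open OrbRR

namespace Groth.Agent.S18190

open Matrix

/-- the periodic quadratic -/
noncomputable def F (N : ℕ) (v : ℝ) : ℝ := v * (v - N) / 2 + ((N : ℝ) ^ 2 - 1) / 12

theorem F_add_one (N : ℕ) [NeZero N] (d : ZMod N) : F N ((d + 1).val : ℝ) = F N ((d.val : ℝ) + 1) := by
  have hlt := d.val_lt
  rcases Nat.lt_or_ge (d.val + 1) N with h | h
  · rw [show (d + 1).val = d.val + 1 by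
      have h1 : 1 < N := by omega
      haveI : Fact (1 < N) := ⟨h1⟩
      rw [ZMod.val_add_of_lt (by rwa [ZMod.val_one]), ZMod.val_one]]
    push_cast; rfl
  · have he : d.val + 1 = N := by omega
    have h0 : d + 1 = 0 := by
      have : ((d.val + 1 : ℕ) : ZMod N) = 0 := by rw [he, ZMod.natCast_self]
      simpa using this
    have heR : (d.val : ℝ) + 1 = N := by exact_mod_cast he
    rw [h0, ZMod.val_zero, heR, F, F]
    push_cast; ring

theorem laplace (N : ℕ) [NeZero N] (d : ZMod N) :
    2 * F N (d.val : ℝ) - F N ((d - 1).val : ℝ) - F N ((d + 1).val : ℝ) = (if d = 0 then (N : ℝ) else 0) - 1 := by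
  rw [F_add_one]
  split_ifs with h
  · subst h
    have h1 : ((((0 : ZMod N) - 1).val : ℕ) : ℝ) + 1 = N := by
      have hN : 0 < N := NeZero.pos N
      obtain ⟨n, rfl⟩ : ∃ n, N = n + 1 := ⟨N - 1, by omega⟩
      rw [zero_sub, ZMod.val_neg_one]
      push_cast; ring
    rw [ZMod.val_zero, F, F, F, show ((((0 : ZMod N) - 1).val : ℕ) : ℝ) = (N : ℝ) - 1 by linarith]
    push_cast; ring
  · have hpos : 1 ≤ d.val := Nat.one_le_iff_ne_zero.mpr fun h0 => h ((ZMod.val_eq_zero d).mp h0)
    have h1 : (d - 1).val = d.val - 1 := by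
      have hN1 : 1 < N := lt_of_le_of_lt hpos d.val_lt
      haveI : Fact (1 < N) := ⟨hN1⟩
      rw [ZMod.val_sub (by rwa [ZMod.val_one]), ZMod.val_one]
    rw [h1, Nat.cast_sub hpos, F, F, F]
    push_cast; ring

theorem sum_range_F (N : ℕ) : ∀ n : ℕ, ∑ v ∈ Finset.range n, F N (v : ℝ) =
    ((n : ℝ) - 1) * n * (2 * n - 1) / 12 - (N : ℝ) * ((n : ℝ) - 1) * n / 4 + n * ((N : ℝ) ^ 2 - 1) / 12 := by
  intro n
  induction n with
  | zero => simp
  | succ n ih => rw [Finset.sum_range_succ, ih, F]; push_cast; ring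

theorem sum_F (N : ℕ) [NeZero N] : ∑ d : ZMod N, F N (d.val : ℝ) = 0 := by
  have h : ∑ d : ZMod N, F N (d.val : ℝ) = ∑ v ∈ Finset.range N, F N (v : ℝ) := by
    refine Finset.sum_bij (fun d _ => d.val) (fun d _ => Finset.mem_range.mpr d.val_lt)
      (fun a _ b _ h => ZMod.val_injective N h) (fun v hv => ⟨(v : ZMod N), Finset.mem_univ _,
        ZMod.val_natCast_of_lt (Finset.mem_range.mp hv)⟩) (fun _ _ => rfl)
  rw [h, sum_range_F]
  ring

/-- Let N ≥ 1 and let f : ℤ/Nℤ → ℚ be f(x) = x(x − N)/2 + (N² − 1)/12, where x is read as its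
representative with 0 ≤ x < N. The real N × N matrix indexed by ℤ/Nℤ whose (i, j) entry is f(j −
i)/N, a symmetric circulant matrix, is positive semidefinite. -/
theorem result (N : ℕ) [NeZero N] :
    (Matrix.of fun i j : ZMod N =>
        ((((j - i).val : ℝ) * (((j - i).val : ℝ) - (N : ℝ))) / 2 + ((N : ℝ) ^ 2 - 1) / 12) / (N : ℝ)).PosSemidef := by
  have hsym : ∀ d : ZMod N, F N ((-d).val : ℝ) = F N (d.val : ℝ) := by
    intro d
    rw [ZMod.neg_val]
    split_ifs with h
    · simp [h]
    · rw [Nat.cast_sub d.val_lt.le, F, F]; ring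
  let c : ZMod N → ℝ := fun d => F N (d.val : ℝ) / N
  have hN : (0 : ℝ) < N := by exact_mod_cast NeZero.pos N
  show (Matrix.of fun i j : ZMod N => c (j - i)).PosSemidef
  refine Matrix.PosSemidef.of_dotProduct_mulVec_nonneg ?_ fun x => ?_
  · ext i j
    simp only [Matrix.conjTranspose_apply, Matrix.of_apply, star_trivial, c]
    rw [← hsym (j - i), neg_sub]
  · simp only [star_trivial]
    let y : ZMod N → ℝ := fun i => ∑ j, c (j - i) * x j
    show 0 ≤ ∑ i, x i * y i
    have hlap : ∀ i, 2 * y i - y (i + 1) - y (i - 1) = x i - (∑ j, x j) / N := by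
      intro i
      simp only [y, Finset.mul_sum, ← Finset.sum_sub_distrib, Finset.sum_div]
      rw [← Finset.sum_ite_eq' Finset.univ i x |>.trans (if_pos (Finset.mem_univ i)), ← Finset.sum_sub_distrib]
      refine Finset.sum_congr rfl fun j _ => ?_
      have := laplace N (j - i)
      simp only [sub_eq_zero] at this
      rw [show j - (i + 1) = j - i - 1 by ring, show j - (i - 1) = j - i + 1 by ring]
      simp only [c]
      field_simp
      split_ifs at this ⊢ with h
      · subst h; linear_combination x j * this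
      · linear_combination x j * this
    have hsum : ∑ i, y i = 0 := by
      simp only [y]
      rw [Finset.sum_comm]
      refine Finset.sum_eq_zero fun j _ => ?_
      rw [← Finset.sum_mul]
      show (∑ i, c ((Equiv.subLeft j) i)) * x j = 0
      rw [Equiv.sum_comp (Equiv.subLeft j) c]
      simp only [c, ← Finset.sum_div, sum_F, zero_div, zero_mul]
    have key : ∑ i, x i * y i = ∑ i, (y (i + 1) - y i) ^ 2 := by
      have h1 : ∑ i, x i * y i = ∑ i, (2 * y i - y (i + 1) - y (i - 1)) * y i := by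
        simp only [hlap, sub_mul, Finset.sum_sub_distrib, ← Finset.mul_sum, hsum, mul_zero, sub_zero]
      have h2 : ∑ i, y (i - 1) * y i = ∑ i, y i * y (i + 1) := by
        refine Eq.trans ?_ (Equiv.sum_comp (Equiv.subRight (1 : ZMod N)) fun i => y i * y (i + 1))
        simp
      have h3 : ∑ i, y (i + 1) ^ 2 = ∑ i, y i ^ 2 := Equiv.sum_comp (Equiv.addRight (1 : ZMod N)) fun i => y i ^ 2
      rw [h1]
      simp only [sub_mul, sub_sq, Finset.sum_sub_distrib, Finset.sum_add_distrib, h2, h3]
      simp only [← pow_two, mul_assoc, ← Finset.mul_sum]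
      rw [show ∑ i, y (i + 1) * y i = ∑ i, y i * y (i + 1) from Finset.sum_congr rfl fun i _ => mul_comm _ _]
      ring
    rw [key]
    exact Finset.sum_nonneg fun i _ => sq_nonneg _

end Groth.Agent.S18190
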