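import Groth.Statements.S18198
import Groth.Agent.S18191
import Groth.Agent.FlatMorAdm.Nagata
import Groth.Agent.LocImm12.Nbhd
import Groth.Agent.LocImm12.Glue

set_option autoImplicit false
universe u
open LocImm
set_option backward.isDefEq.respectTransparency.types false

namespace Groth.Agent.S18198

open CategoryTheory AlgebraicGeometry in
/-- Let `f : X ⟶ S` be a separated morphism of Noetherian schemes that is essentially of finite type.
Then `f` factors as a localizing immersion `k : X ⟶ Y` (localizing and injective on points) into a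
Noetherian scheme followed by a proper morphism `p : Y ⟶ S`. -/
theorem result {X S : Scheme.{u}} [IsNoetherian X] [IsNoetherian S] (f : X ⟶ S) [IsSeparated f] [EssFT.EssFiniteType f] :
    ∃ (Y : Scheme.{u}) (k : X ⟶ Y) (p : Y ⟶ S), IsNoetherian Y ∧ LocImm.IsLocImmersion k ∧ IsProper p ∧ k ≫ p = f := by
  obtain ⟨Y, k, p, hY, hk, hs, hl, hq, hkp⟩ := Groth.Agent.S18191.result f
  obtain ⟨Yb, j, pb, hj, -, hpb, hjp⟩ := FlatMorAdm.compactifiable p
  exact ⟨Yb, k ≫ j, pb, LocImm12.isNoetherian_of_lft pb,
    ⟨LocImm12.isLocalizing_comp_right hk.1 j, by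
      rw [Scheme.Hom.comp_base]
      exact (j.isOpenEmbedding.injective).comp hk.2⟩, hpb, by rw [Category.assoc, hjp, hkp]⟩

end Groth.Agent.S18198
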