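import Groth.Statements.S18200
import Groth.Agent.LocImm12.Factor
import Groth.Agent.LocImm12.ZMT

set_option autoImplicit false
universe u
open LocImm

namespace Groth.Agent.S18200

open CategoryTheory AlgebraicGeometry in
/-- Let `f : X ⟶ Y` be a separated morphism of Noetherian schemes that is essentially quasi-finite:
essentially of finite type with every fibre the spectrum of a finite algebra over the residue field
(equivalently, `f` locally quasi-finite in the fibrewise sense, which carries no finite-type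
condition). Then `f` factors as a localizing immersion `i : X ⟶ Z` (localizing and injective on
points, `Z` Noetherian) followed by a finite morphism `h : Z ⟶ Y`. -/
theorem result {X Y : Scheme.{u}} [IsNoetherian X] [IsNoetherian Y] (f : X ⟶ Y) [IsSeparated f] [EssFT.EssFiniteType f] [LocallyQuasiFinite f] :
    ∃ (Z : Scheme.{u}) (i : X ⟶ Z) (h : Z ⟶ Y), IsNoetherian Z ∧ LocImm.IsLocImmersion i ∧ IsFinite h ∧ i ≫ h = f := by
  obtain ⟨Y', k, p, hY, hk, hs, hft, hqc, rfl⟩ := Groth.Agent.LocImm12.exists_factor f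
  have hle : ∀ x, k x ∈ p.quasiFiniteLocus := fun x => by
    have hf := (k ≫ p).quasiFiniteAt x
    rw [Scheme.Hom.mem_quasiFiniteLocus]
    rw [Scheme.Hom.QuasiFiniteAt, Scheme.Hom.stalkMap_comp] at hf
    have := Groth.Agent.LocImm12.isIso_stalkMap hk.1 x
    have h2 := (RingHom.QuasiFinite.of_finite (RingHom.Finite.of_surjective (inv (k.stalkMap x)).hom
      (ConcreteCategory.bijective_of_isIso (inv (k.stalkMap x))).2)).comp hf
    have e : (p.stalkMap (k x) ≫ k.stalkMap x) ≫ inv (k.stalkMap x) = p.stalkMap (k x) := by simp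
    show (p.stalkMap (k x)).hom.QuasiFinite
    rw [← e]
    exact h2
  have := Groth.Agent.LocImm12.isNoetherian_opens p.quasiFiniteLocus
  have := Groth.Agent.LocImm12.quasiCompact_of_isNoetherian (p.quasiFiniteLocus.ι ≫ p)
  obtain ⟨T, j, π, hj, -, hπ, e⟩ :=
    Groth.Agent.LocImm12.exists_openImmersion_finite (p.quasiFiniteLocus.ι ≫ p)
  let i := IsOpenImmersion.lift p.quasiFiniteLocus.ι k (by
    rw [Scheme.Opens.range_ι]; rintro _ ⟨x, rfl⟩; exact hle x)
  have hi : i ≫ p.quasiFiniteLocus.ι = k := IsOpenImmersion.lift_fac _ _ _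
  refine ⟨T, i ≫ j, π, Groth.Agent.LocImm12.isNoetherian_of_lft π,
    ⟨Groth.Agent.LocImm12.isLocalizing_comp_right
      (Groth.Agent.LocImm12.isLocalizing_of_comp_right p.quasiFiniteLocus.ι (hi.symm ▸ hk.1)) j,
      fun a b h => hk.2 ?_⟩, hπ, by rw [Category.assoc, e, reassoc_of% hi]⟩
  rw [← hi]
  exact congrArg p.quasiFiniteLocus.ι (j.isOpenEmbedding.injective h)

end Groth.Agent.S18200
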