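import Groth.Statements.S18206
import Groth.Agent.LocImm12.Basic
import Groth.Agent.ProjLib.IdealComap

set_option autoImplicit false
universe u
open LocImm

namespace Groth.Agent.S18206

open CategoryTheory AlgebraicGeometry in
/-- Let `f : X ⟶ Y` be a localizing immersion (localizing and injective on points) of Noetherian
schemes. Then every quasi-coherent ideal sheaf `I` on `X` is the inverse image ideal `J·O_X` of some
quasi-coherent ideal sheaf `J` on `Y` (all such ideals are coherent, the schemes being Noetherian). -/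
theorem result {X Y : Scheme.{u}} [IsNoetherian X] [IsNoetherian Y]
    (f : X ⟶ Y) (hf : LocImm.IsLocImmersion f) (I : X.IdealSheafData) : ∃ J : Y.IdealSheafData, J.comap f = I := by
  refine ⟨I.map f, ?_⟩
  choose V hxV hV hV' h using fun x => Groth.Agent.LocImm12.exists_affine_nhd hf x
  refine Scheme.IdealSheafData.ext_of_iSup_eq_top
    (fun x : X => (⟨f ⁻¹ᵁ V x, hV' x⟩ : X.affineOpens)) ?_ fun x => ?_
  · exact top_le_iff.1 fun x _ => TopologicalSpace.Opens.mem_iSup.2 ⟨x, hxV x⟩
  rw [Groth.Agent.ProjLib.comap_ideal_eq (I.map f) f ⟨V x, hV x⟩ ⟨f ⁻¹ᵁ V x, hV' x⟩ le_rfl,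
    Scheme.IdealSheafData.ideal_map I f ⟨V x, hV x⟩ (hV' x), ← f.app_eq_appLE]
  let _ := (f.app (V x)).hom.toAlgebra
  obtain ⟨S, hS⟩ := h x
  exact IsLocalization.map_under S Γ(X, f ⁻¹ᵁ V x) (I.ideal ⟨f ⁻¹ᵁ V x, hV' x⟩)

end Groth.Agent.S18206
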