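import Groth.Statements.S18207
import Groth.Agent.LocImm12.Basic

set_option autoImplicit false
universe u
open LocImm

namespace Groth.Agent.S18207

open CategoryTheory AlgebraicGeometry in
/-- A morphism of Noetherian schemes is a localizing immersion (localizing and injective on points) if
and only if it is a localizing monomorphism in the category of schemes. -/
theorem result {X Y : Scheme.{u}} [IsNoetherian X] [IsNoetherian Y] (f : X ⟶ Y) :
    LocImm.IsLocImmersion f ↔ (LocImm.IsLocalizing f ∧ Mono f) := by
  refine ⟨fun hf => ⟨hf.1, ?_⟩, fun ⟨h, hm⟩ => ⟨h, f.injective⟩⟩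
  have := Groth.Agent.LocImm12.isPreimmersion hf
  infer_instance

end Groth.Agent.S18207
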