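import Groth.Statements.S18209
import Groth.Agent.LocImm12.BlowUpExtend

set_option autoImplicit false
universe u
open LocImm

namespace Groth.Agent.S18209

open CategoryTheory AlgebraicGeometry Limits in
/-- Let `f : X ⟶ Y` and `g : Y ⟶ Z` be separated morphisms of Noetherian schemes, essentially of finite
type, such that `f` and `f ≫ g` are localizing immersions (localizing and injective on points). Then
there are blow-ups `b : Ỹ ⟶ Y` and `c : Z̃ ⟶ Z` in quasi-coherent (hence coherent) ideals whose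
closed subschemes are disjoint from the image of `X`, and a localizing immersion `g' : Ỹ ⟶ Z̃`
lifting `g`, i.e. `g' ≫ c = b ≫ g`. -/
theorem result {X Y Z : Scheme.{u}} [IsNoetherian X] [IsNoetherian Y] [IsNoetherian Z]
    (f : X ⟶ Y) (g : Y ⟶ Z) [IsSeparated f] [IsSeparated g] [EssFT.EssFiniteType f] [EssFT.EssFiniteType g]
    (hf : LocImm.IsLocImmersion f) (hfg : LocImm.IsLocImmersion (f ≫ g)) :
    ∃ (𝓘 : Y.IdealSheafData) (𝓙 : Z.IdealSheafData) (Yt Zt : Scheme.{u}) (b : Yt ⟶ Y) (c : Zt ⟶ Z) (g' : Yt ⟶ Zt),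
      BlowUp.IsBlowUp b 𝓘 ∧ Disjoint (𝓘.support : Set Y) (Set.range (fun x => f x)) ∧
      BlowUp.IsBlowUp c 𝓙 ∧ Disjoint (𝓙.support : Set Z) (Set.range (fun x => g (f x))) ∧
      LocImm.IsLocImmersion g' ∧ g' ≫ c = b ≫ g := by
  obtain ⟨Y₁, k, g₁, hY₁, hk, hs, hft, -, hkg⟩ := Groth.Agent.LocImm12.exists_factor g
  have := hY₁
  have ht := Groth.Agent.LocImm12.isLocImmersion_comp hf hk
  have htp : (f ≫ k) ≫ g₁ = f ≫ g := by rw [Category.assoc, hkg]
  obtain ⟨L, K, Γ, Zt, β, c, jb, d, hβ, hL, hc, hK, hjb, hcomm, hiso, hd, hβp, hcp, hΓ, -⟩ :=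
    Groth.Agent.LocImm12.exists_openImmersion_after_blowUp g₁ (f ≫ k) ht (htp.symm ▸ hfg)
  have := Groth.Agent.LocImm12.flat_of_isLocalizing hk.1
  rw [htp] at hK
  refine ⟨L.comap k, K, pullback k β, Zt, pullback.fst k β, c, pullback.snd k β ≫ jb,
    Groth.Agent.SDiv28.isBlowUp_flat_baseChange hβ k, ?_, hc, ?_, ?_, ?_⟩
  · rw [Set.disjoint_right]
    rintro _ ⟨x, rfl⟩ hx
    rw [Scheme.IdealSheafData.support_comap] at hx
    exact Set.disjoint_left.1 hL hx ⟨x, rfl⟩
  · convert hK using 2 <;> (funext x; rfl)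
  · exact Groth.Agent.LocImm12.isLocImmersion_comp_openImmersion
      (Groth.Agent.S18202.result k β hk) jb
  · rw [Category.assoc, hcomm, ← pullback.condition_assoc, hkg]

end Groth.Agent.S18209
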