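import Groth.Statements.S1821
import Groth.Agent.Dual6Lib.RD.Comp

set_option autoImplicit false
universe u
open CategoryTheory
open scoped TensorProduct
attribute [local instance] HasDerivedCategory.standard
open Dual2

namespace Groth.Agent.S1821

/-- Let R → A and A → B be flat ring maps of finite presentation, K a relative dualizing complex for R →
A and L a complex of B-modules whose class is a relative dualizing complex for A → B (relative
dualizing in the sense: R-perfect with RHom_{S⊗S}(S, − ⊗^L (S ⊗ S)) ≅ S, the base change and RHom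
functors being the assumed ones). Assuming the derived base change D(A) → D(B) and − ⊗^L_B L exist,
(K ⊗^L_A B) ⊗^L_B L is a relative dualizing complex for R → B. -/
theorem result (R A B : Type u) [CommRing R] [CommRing A] [CommRing B] [Algebra R A] [Algebra A B] [Algebra R B] [IsScalarTower R A B] [Module.Flat R A] [Algebra.FinitePresentation R A] [Module.Flat A B] [Algebra.FinitePresentation A B] [DRing.HasLBaseChange (Algebra.TensorProduct.includeLeftRingHom : A →+* TensorProduct R A A)] (RμA : Dual.D (TensorProduct R A A) ⥤ Dual.D A) (adjA : DRing.restrictD (Algebra.TensorProduct.lmul' R (S := A)).toRingHom ⊣ RμA) [DRing.HasLBaseChange (Algebra.TensorProduct.includeLeftRingHom : B →+* TensorProduct A B B)] (RμBA : Dual.D (TensorProduct A B B) ⥤ Dual.D B) (adjBA : DRing.restrictD (Algebra.TensorProduct.lmul' A (S := B)).toRingHom ⊣ RμBA) [DRing.HasLBaseChange (Algebra.TensorProduct.includeLeftRingHom : B →+*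 TensorProduct R B B)] (RμB : Dual.D (TensorProduct R B B) ⥤ Dual.D B) (adjB : DRing.restrictD (Algebra.TensorProduct.lmul' R (S := B)).toRingHom ⊣ RμB) (K : Dual.D A) (hK : Dual2.IsRelDualizing R A RμA K) (L : DRing.Cx B) (hL : Dual2.IsRelDualizing A B RμBA (DRing.toD L)) [DRing.HasLBaseChange (algebraMap A B)] [DRing.HasLTensorCx B L] : Dual2.IsRelDualizing R B RμB ((DRing.LTensorCx B L).obj ((DRing.LBaseChange (algebraMap A B)).obj K)) := by
  obtain ⟨n, ψ, F, π, h⟩ := Dual6Lib.RD.exists_res_flat R A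
  obtain ⟨m, χ, G, ρ, hχ⟩ := Dual6Lib.RD.exists_res_flat A B
  obtain ⟨Rψ, ⟨adj⟩⟩ := DualLib.Shriek.exists_rightAdjoint ψ.toRingHom
  obtain ⟨Rχ, ⟨adjχ⟩⟩ := DualLib.Shriek.exists_rightAdjoint χ.toRingHom
  haveI := DCat.hasLTen B
  haveI : Module.Flat R B := Module.Flat.trans R A B
  obtain ⟨eK⟩ := Dual6Lib.RD.nonempty_iso_om' h adj adjA hK
  obtain ⟨eL⟩ := Dual6Lib.RD.nonempty_iso_om' hχ adjχ adjBA hL
  obtain ⟨Φ, H, σ, RΦ, hH, ⟨adjΦ⟩, ⟨c⟩⟩ := Dual6Lib.RD.exists_comp h adj hχ adjχ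
  obtain ⟨hp, ⟨r⟩⟩ := Dual6Lib.RD.isRelDualizing_om_shift hH adjΦ RμB adjB
  let LB := DRing.LBaseChange (algebraMap A B)
  let X := LB.obj (DualLib.Omega.om Rψ)
  let T := DTen.LTen₂ B
  let V := DerivedCategory.Q.objPreimage (DualLib.Omega.om Rχ)
  let eV : DerivedCategory.Q.obj V ≅ DualLib.Omega.om Rχ := DerivedCategory.Q.objObjPreimageIso _
  let W := DerivedCategory.Q.objPreimage X
  let eW : DerivedCategory.Q.obj W ≅ X := DerivedCategory.Q.objObjPreimageIso _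
  obtain ⟨s₁⟩ := DualLib.ShriekT.nonempty_LTen_shift V (X⟦(n : ℤ)⟧) (m : ℤ)
  obtain ⟨s₂⟩ := DualLib.ShriekT.nonempty_LTen_shift W (DualLib.Omega.om Rχ) (n : ℤ)
  haveI : ∀ a b : Dual.D B, IsIso ((DTen.symm B).app (a, b)) := fun a b => DCat.isIso_symm_app' a b
  haveI := DualLib.SurjT.isIso_toLTensorCx (P := B) L
  let eX : LB.obj K ≅ X⟦(n : ℤ)⟧ :=
    LB.mapIso eK ≪≫ (DualLib.LBC.shiftIso (algebraMap A B) (n : ℤ)).app (DualLib.Omega.om Rψ)
  let sym : ∀ a b : Dual.D B, T.obj (a, b) ≅ T.obj (b, a) := fun a b => asIso ((DTen.symm B).app (b, a))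
  let z : (DRing.LTensorCx B L).obj (LB.obj K) ≅ (DualLib.Omega.om RΦ)⟦((n + m : ℕ) : ℤ)⟧ :=
    ((asIso (DTen.toLTensorCx B L)).app (LB.obj K)).symm ≪≫ sym _ _ ≪≫
    T.mapIso (Iso.prod (eL ≪≫ (shiftFunctor _ (m : ℤ)).mapIso eV.symm) eX) ≪≫ s₁.symm ≪≫
    (shiftFunctor _ (m : ℤ)).mapIso (sym _ _ ≪≫
      T.mapIso (Iso.prod ((shiftFunctor _ (n : ℤ)).mapIso eW.symm) eV) ≪≫ s₂.symm ≪≫
      (shiftFunctor _ (n : ℤ)).mapIso (T.mapIso (Iso.prod eW (Iso.refl _)) ≪≫ sym _ _ ≪≫ c.symm)) ≪≫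
    ((shiftFunctorAdd' (Dual.D B) (n : ℤ) (m : ℤ) ((n + m : ℕ) : ℤ) (by push_cast; rfl)).app _).symm
  refine ⟨⟨?_, ?_⟩, ⟨RμB.mapIso ((DRing.LBaseChange _).mapIso z) ≪≫ r⟩⟩
  · obtain ⟨E, b, hb, hE, ⟨eE⟩⟩ := hp.1
    exact ⟨E, b, hb, hE, ⟨eE ≪≫ z.symm⟩⟩
  · exact DualLib.TorAmpOps.finTor_iso ((DRing.restrictD (algebraMap R B)).mapIso z.symm) hp.2

end Groth.Agent.S1821
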