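import Groth.Statements.S18210
import Groth.Agent.LocImm12.CommonTarget

set_option autoImplicit false
universe u
open LocImm

namespace Groth.Agent.S18210

open CategoryTheory AlgebraicGeometry Limits in
/-- Let `S` be a Noetherian scheme, `U` and `Y_1, …, Y_n` Noetherian schemes separated and essentially
of finite type over `S`, and `f_i : U ⟶ Y_i` localizing immersions over `S` (localizing and
injective on points). Then there are blow-ups `b_i : Ỹ_i ⟶ Y_i` in quasi-coherent ideals whose
closed subschemes miss `f_i(U)`, a separated `S`-scheme `Z` of finite type, lifts `u_i : U ⟶ Ỹ_i` of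
the `f_i`, and localizing immersions `g_i : Ỹ_i ⟶ Z` over `S` with dense image such that all
composites `u_i ≫ g_i` coincide. (The published statement does not require the `Y_i` to be separated
over `S`; its proof factors each `Y_i ⟶ S` through the main factorization result, which needs it,
and without it the line with a doubled point over a field, with `U` the complement of the doubled
point, is a counterexample, since a scheme admitting a localizing immersion into a separated
`S`-scheme is separated over `S`.) -/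
theorem result {S U : Scheme.{u}} [IsNoetherian S] [IsNoetherian U] {n : ℕ}
    (gU : U ⟶ S) (Y : Fin n → Scheme.{u}) [∀ i, IsNoetherian (Y i)] (q : ∀ i, Y i ⟶ S)
    [∀ i, IsSeparated (q i)] [∀ i, EssFT.EssFiniteType (q i)]
    (f : ∀ i, U ⟶ Y i) (hf : ∀ i, LocImm.IsLocImmersion (f i)) (hfq : ∀ i, f i ≫ q i = gU) :
    ∃ (Z : Scheme.{u}) (r : Z ⟶ S) (_ : IsSeparated r) (_ : LocallyOfFiniteType r) (_ : QuasiCompact r)
      (𝓘 : ∀ i, (Y i).IdealSheafData) (Yt : Fin n → Scheme.{u}) (b : ∀ i, Yt i ⟶ Y i) (u : ∀ i, U ⟶ Yt i) (g : ∀ i, Yt i ⟶ Z),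
      (∀ i, BlowUp.IsBlowUp (b i) (𝓘 i) ∧ Disjoint ((𝓘 i).support : Set (Y i)) (Set.range (fun x => f i x)) ∧
        u i ≫ b i = f i ∧ LocImm.IsLocImmersion (g i) ∧ Dense (Set.range (fun x => g i x)) ∧ g i ≫ r = b i ≫ q i) ∧
      (∀ i i', u i ≫ g i = u i' ≫ g i') := by
  cases n with
  | zero =>
    exact ⟨S, 𝟙 S, inferInstance, inferInstance, inferInstance, fun i => i.elim0, fun i => i.elim0, fun i => i.elim0,
      fun i => i.elim0, fun i => i.elim0, fun i => i.elim0, fun i => i.elim0⟩
  | succ n =>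
  choose Y₁ k q₁ hY₁ hk hs hft hqc hkq using fun i => Groth.Agent.LocImm12.exists_factor (q i)
  have := hY₁
  have := hs
  have := hft
  have := hqc
  let t₀ := fun i => f i ≫ k i
  have ht₀ : ∀ i, LocImm.IsLocImmersion (t₀ i) := fun i => Groth.Agent.LocImm12.isLocImmersion_comp (hf i) (hk i)
  have ht₀q : ∀ i, t₀ i ≫ q₁ i = gU := fun i => by simp only [t₀, Category.assoc, hkq, hfq]
  obtain ⟨Γ₀, π₀, s₀, p₀, hπs₀, hπf₀, hπq₀, hs₀, hp₀, hsp₀⟩ :=
    Groth.Agent.LocImm12.exists_common_open n Y₁ q₁ hs hft hqc t₀ ht₀ gU ht₀q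
  -- a schematically dominant model
  have : IsNoetherian Γ₀ := Groth.Agent.LocImm12.isNoetherian_of_ft π₀
  obtain ⟨hN, hs'⟩ := Groth.Agent.LocImm12.isLocImmersion_toImage s₀ (𝟙 Γ₀) (by rwa [Category.comp_id])
  have := hN
  have : QuasiCompact s₀ := Groth.Agent.LocImm12.quasiCompact_of_isNoetherian _
  have : QuasiCompact s₀.toImage := Groth.Agent.LocImm12.quasiCompact_of_isNoetherian _
  have : IsSchemeTheoreticallyDominant s₀.toImage := ⟨Groth.Agent.ModPairLib.ker_toImage s₀⟩
  let p := fun i => s₀.imageι ≫ p₀ i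
  have hsp : ∀ i, s₀.toImage ≫ p i = t₀ i := fun i => by
    simp only [p, Scheme.Hom.toImage_imageι_assoc, hsp₀]
  have hsep : ∀ i, IsSeparated (p i) := fun i => by
    have : IsSeparated (p i ≫ q₁ i) := by simp only [p, Category.assoc, hp₀]; infer_instance
    exact IsSeparated.of_comp (p i) (q₁ i)
  have hlft : ∀ i, LocallyOfFiniteType (p i) := fun i => by
    have : LocallyOfFiniteType (p i ≫ q₁ i) := by simp only [p, Category.assoc, hp₀]; infer_instance
    exact locallyOfFiniteType_of_comp (p i) (q₁ i)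
  have := Groth.Agent.LocImm12.isPreimmersion hs'
  have := fun i => Groth.Agent.LocImm12.isPreimmersion (ht₀ i)
  -- a common open neighbourhood of `U`
  have hnhd : ∀ i, ∃ O : s₀.image.Opens, Set.range s₀.toImage ⊆ (O : Set s₀.image) ∧ IsOpenImmersion (O.ι ≫ p i) := by
    intro i
    have := hsep i
    have := hlft i
    have : QuasiCompact (p i) := Groth.Agent.LocImm12.quasiCompact_of_isNoetherian _
    have := Groth.Agent.LocImm12.essFiniteType_of_locallyOfFiniteType (p i)
    obtain ⟨O, hO, hO'⟩ := S18194.result s₀.toImage (t₀ i) (p i) hs' (ht₀ i) (hsp i)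
    have := Groth.Agent.LocImm12.isNoetherian_opens O
    exact ⟨O, hO, S18204.result _ hO'⟩
  choose O hO hOo using hnhd
  let W : s₀.image.Opens := Finset.univ.inf O
  have hWle : ∀ i, W ≤ O i := fun i => Finset.inf_le (Finset.mem_univ i)
  have hWs : Set.range s₀.toImage ⊆ (W : Set s₀.image) := by
    simp only [W, TopologicalSpace.Opens.coe_finset_inf, Finset.inf_set_eq_iInter, Function.comp_apply]
    exact Set.subset_iInter₂ fun i _ => hO i
  have : IsNoetherian (W : Scheme.{u}) := Groth.Agent.LocImm12.isNoetherian_opens W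
  let sW := IsOpenImmersion.lift W.ι s₀.toImage (by rw [Scheme.Opens.range_ι]; exact hWs)
  have hsW : sW ≫ W.ι = s₀.toImage := IsOpenImmersion.lift_fac _ _ _
  have hWd : Dense (Set.range sW) := by
    have hd : DenseRange s₀.toImage := s₀.toImage.denseRange
    intro x
    rw [Topology.IsInducing.closure_eq_preimage_closure_image W.ι.isOpenEmbedding.isInducing]
    show W.ι x ∈ closure _
    rw [← Set.range_comp, ← TopCat.coe_comp, ← Scheme.Hom.comp_base, hsW]
    exact hd _
  let j₀ := fun i => W.ι ≫ p i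
  have hj₀ : ∀ i, IsOpenImmersion (j₀ i) := fun i => by
    have := hOo i
    simp only [j₀, ← s₀.image.homOfLE_ι (hWle i), Category.assoc]
    infer_instance
  have hNY := fun i => Groth.Agent.LocImm12.exists_densify (j₀ i)
  choose J X c v hc hJ hv hvo hvd using hNY
  have hcp : ∀ i, IsProper (c i) := fun i => Groth.Agent.BlowUpLib.isProper_of_isBlowUp (hc i) (hJ i).1
  have := hcp
  let gW := W.ι ≫ s₀.imageι ≫ π₀
  have hgW : ∀ i, v i ≫ c i ≫ q₁ i = gW := fun i => by
    rw [reassoc_of% hv i]
    simp only [j₀, p, gW, Category.assoc, hp₀]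
  obtain ⟨Z, r, w, hrs, hrf, hrq, hwo, hwr, hwd, hall⟩ :=
    Groth.Agent.LocImm12.exists_common_family n X (fun i => c i ≫ q₁ i) (fun i => inferInstance)
      (fun i => inferInstance) (fun i => inferInstance) v hvo hvd gW hgW
  choose I X' b v' o R hR hb ha hv' ho hor hvo' using hall
  have hX : ∀ i, IsNoetherian (X i) := fun i => Groth.Agent.LocImm12.isNoetherian_of_ft (c i)
  have hcomp : ∀ i, ∃ K : (Y₁ i).IdealSheafData, BlowUp.IsBlowUp (b i ≫ c i) K ∧
      BlowUp.IsAdmissibleFor (j₀ i).opensRange K := fun i => by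
    refine Groth.Agent.FlatMorAdm.exists_isBlowUp_comp _ (hJ i) (hc i) ⟨(ha i).1, ?_⟩ (hb i)
    refine (ha i).2.mono_right fun x hx => ?_
    rw [hR i]
    obtain ⟨z, hz, -, hzr⟩ := Groth.Agent.LocImm12.exists_lift_of_admissible (hc i) (j₀ i) (hJ i)
    obtain ⟨y, -, hu⟩ := (hc i).2 _ (j₀ i) (by
      rw [Groth.Agent.ProjLib.comap_eq_top_of_disjoint (J i) (j₀ i) (hJ i).2.symm]
      exact Groth.Agent.ProjLib.isEffCartierIdeal_top)
    rw [(hu _ (hv i)).trans (hu z hz).symm, hzr]
    exact hx
  choose K hK hKa using hcomp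
  have hbp : ∀ i, IsProper (b i) := fun i => Groth.Agent.BlowUpLib.isProper_of_isBlowUp (hb i) (ha i).1
  have := hbp
  have := fun i => Groth.Agent.LocImm12.flat_of_isLocalizing (hk i).1
  have := ho
  have hlift : ∀ i, f i ≫ k i = (sW ≫ v' i) ≫ b i ≫ c i := fun i => by
    rw [Category.assoc, reassoc_of% hv' i, hv i]
    simp only [j₀]
    rw [reassoc_of% hsW, hsp]
  refine ⟨Z, r, hrs, hrf, hrq, fun i => (K i).comap (k i), fun i => pullback (k i) (b i ≫ c i),
    fun i => pullback.fst (k i) (b i ≫ c i), fun i => pullback.lift (f i) (sW ≫ v' i) (hlift i),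
    fun i => pullback.snd (k i) (b i ≫ c i) ≫ o i, fun i => ⟨?_, ?_, ?_, ?_, ?_, ?_⟩, fun i i' => ?_⟩
  · exact Groth.Agent.SDiv28.isBlowUp_flat_baseChange (hK i) (k i)
  · rw [Set.disjoint_right]
    rintro _ ⟨x, rfl⟩ hx
    rw [Scheme.IdealSheafData.support_comap] at hx
    refine Set.disjoint_left.1 (hKa i).2 hx ⟨sW x, ?_⟩
    rw [← Scheme.Hom.comp_apply, ← Scheme.Hom.comp_apply]
    simp only [j₀]
    rw [reassoc_of% hsW, hsp]
  · exact pullback.lift_fst _ _ _
  · have : IsNoetherian (X' i) := Groth.Agent.LocImm12.isNoetherian_of_ft (b i ≫ c i)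
    exact Groth.Agent.LocImm12.isLocImmersion_comp_openImmersion (S18202.result _ _ (hk i)) (o i)
  · have hd : Dense (Set.range ((pullback.lift (f i) (sW ≫ v' i) (hlift i) ≫ pullback.snd (k i) (b i ≫ c i) ≫ o i))) := by
      rw [pullback.lift_snd_assoc, Category.assoc, hvo' i, Scheme.Hom.comp_base, TopCat.coe_comp]
      exact DenseRange.comp (show DenseRange w from hwd) (show DenseRange sW from hWd) w.continuous
    exact hd.mono (by rw [Scheme.Hom.comp_base, TopCat.coe_comp]; exact Set.range_comp_subset_range _ _)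
  · show (pullback.snd (k i) (b i ≫ c i) ≫ o i) ≫ r = pullback.fst (k i) (b i ≫ c i) ≫ q i
    rw [Category.assoc, hor i, ← hkq i, pullback.condition_assoc, Category.assoc]
  · simp only [pullback.lift_snd_assoc, Category.assoc, hvo']

end Groth.Agent.S18210
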