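import Groth.Statements.S18211
import Groth.Agent.S18210
import Groth.Agent.FlatMorAdm.ExtendLocFree
import Groth.Agent.FlatMorAdm.BlowUpProj
import Groth.Agent.LocImm12.Nbhd

set_option autoImplicit false
universe u
open LocImm
set_option backward.isDefEq.respectTransparency.types false

namespace Groth.Agent.S18211

open CategoryTheory AlgebraicGeometry Limits in
/-- Let `π : Y ⟶ S` be a separated morphism of Noetherian schemes, essentially of finite type, and `f :
U ⟶ Y` a localizing immersion (localizing and injective on points) with dense image such that `U ⟶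
S` is essentially quasi-projective: it factors as a localizing immersion `j : U ⟶ P` followed by a
projective morphism `P ⟶ S` (in the sense of the relative homogeneous spectrum of a quasi-coherent
graded algebra generated in degree one with degree-one part of finite type). Then there is a blow-up
`Ỹ ⟶ Y` in a quasi-coherent ideal whose closed subscheme misses `f(U)` such that `Ỹ ⟶ S` is
essentially quasi-projective in the same sense. -/
theorem result {U Y S P : Scheme.{u}} [IsNoetherian U] [IsNoetherian Y] [IsNoetherian S] [IsNoetherian P]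
    (π : Y ⟶ S) [IsSeparated π] [EssFT.EssFiniteType π] (f : U ⟶ Y) (hf : LocImm.IsLocImmersion f)
    (hfd : Dense (Set.range (fun x => f x))) (j : U ⟶ P) (p : P ⟶ S) (hj : LocImm.IsLocImmersion j)
    (hp : RelProj.IsProjective p) (hc : j ≫ p = f ≫ π) :
    ∃ (𝓘 : Y.IdealSheafData) (Yt P' : Scheme.{u}) (b : Yt ⟶ Y) (j' : Yt ⟶ P') (p' : P' ⟶ S),
      BlowUp.IsBlowUp b 𝓘 ∧ Disjoint (𝓘.support : Set Y) (Set.range (fun x => f x)) ∧
      LocImm.IsLocImmersion j' ∧ RelProj.IsProjective p' ∧ j' ≫ p' = b ≫ π := by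
  haveI : IsProper p := RelVALib.isProper_of_isProjective hp
  let Yf : Fin 2 → Scheme.{u} := ![Y, P]
  haveI : ∀ i, IsNoetherian (Yf i) := Fin.forall_fin_two.2 ⟨‹IsNoetherian Y›, ‹IsNoetherian P›⟩
  let q : ∀ i, Yf i ⟶ S := Fin.cons (α := fun i => Yf i ⟶ S) π (Fin.cons (α := fun i => Yf i.succ ⟶ S) p finZeroElim)
  haveI : ∀ i, IsSeparated (q i) := Fin.forall_fin_two.2 ⟨‹IsSeparated π›, (inferInstance : IsSeparated p)⟩
  haveI : ∀ i, EssFT.EssFiniteType (q i) :=
    Fin.forall_fin_two.2 ⟨‹EssFT.EssFiniteType π›, LocImm12.essFiniteType_of_locallyOfFiniteType p⟩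
  let fs : ∀ i, U ⟶ Yf i := Fin.cons (α := fun i => U ⟶ Yf i) f (Fin.cons (α := fun i => U ⟶ Yf i.succ) j finZeroElim)
  obtain ⟨Z, r, hr, hlft, hqc, I, Yt, b, u, g, h, hug⟩ :=
    Groth.Agent.S18210.result (f ≫ π) Yf q fs (Fin.forall_fin_two.2 ⟨hf, hj⟩) (Fin.forall_fin_two.2 ⟨rfl, hc⟩)
  haveI := hr; haveI := hlft; haveI := hqc
  obtain ⟨hb0, hd0, hu0, hg0, hden0, hr0⟩ := h 0
  obtain ⟨hb1, hd1, hu1, hg1, hden1, hr1⟩ := h 1
  haveI : CompactSpace S := inferInstance
  haveI : IsLocallyNoetherian Z := LocallyOfFiniteType.isLocallyNoetherian r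
  haveI : CompactSpace Z := QuasiCompact.compactSpace_of_compactSpace r
  haveI : IsNoetherian Z := {}
  have hI1 : BlowUp.IsFiniteTypeIdeal (I 1) := FlatMorAdm.isFiniteTypeIdeal_of_noetherian _
  haveI : IsProper (b 1) := BlowUpLib.isProper_of_isBlowUp hb1 hI1
  have hproj : RelProj.IsProjective (b 1 ≫ q 1) :=
    FlatMorAdm.isProjective_comp (b 1) (q 1) (FlatMorAdm.isProjective_blowUp hI1 hb1) hp
  haveI : IsProper (b 1 ≫ q 1) := RelVALib.isProper_of_isProjective hproj
  haveI : IsLocallyNoetherian (Yt 1) := LocallyOfFiniteType.isLocallyNoetherian (b 1 ≫ q 1)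
  haveI : CompactSpace (Yt 1) := QuasiCompact.compactSpace_of_compactSpace (b 1 ≫ q 1)
  haveI : IsNoetherian (Yt 1) := {}
  haveI : IsProper (g 1 ≫ r) := by rw [hr1]; infer_instance
  haveI : IsProper (g 1) := IsProper.of_comp (g 1) r
  have huniv : Set.range (g 1) = Set.univ := by
    rw [← (g 1).isClosedMap.isClosed_range.closure_eq]
    exact hden1.closure_eq
  haveI : IsOpenImmersion (g 1) := LocImm12.isOpenImmersion_of_isOpen_range hg1 (by rw [huniv]; exact isOpen_univ)
  haveI : Surjective (g 1) := ⟨Set.range_eq_univ.1 huniv⟩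
  haveI : IsIso (g 1) := (isIso_iff_isOpenImmersion_and_surjective _).2 ⟨inferInstance, inferInstance⟩
  refine ⟨I 0, Yt 0, Yt 1, b 0, g 0 ≫ inv (g 1), b 1 ≫ q 1, hb0, hd0, ?_, hproj, ?_⟩
  · exact ⟨LocImm12.isLocalizing_comp_right hg0.1 (inv (g 1)), by
      rw [Scheme.Hom.comp_base]
      exact ((inv (g 1)).isOpenEmbedding.injective).comp hg0.2⟩
  · rw [Category.assoc, ← hr1, IsIso.inv_hom_id_assoc, hr0]
    rfl

end Groth.Agent.S18211
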