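import Groth.Statements.S18212
import Groth.Agent.LocImm12.BlowUpExtend

set_option autoImplicit false
universe u
open LocImm

namespace Groth.Agent.S18212

open CategoryTheory AlgebraicGeometry Limits in
/-- Let `S` be a Noetherian scheme, `a : X ⟶ S` and `b : Y ⟶ S` separated morphisms essentially of
finite type with `X, Y` Noetherian, `Z` a Noetherian scheme, `j : Z ⟶ X` a localizing immersion
(localizing and injective on points) and `f : Z ⟶ Y` a morphism over `S`. Then there are a blow-up
`c : X̃ ⟶ X` in a quasi-coherent ideal whose closed subscheme misses `j(Z)`, a localizing immersion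
`j' : Z' ⟶ X̃` and a morphism `e : Z ⟶ Z'` with `e ≫ j' ≫ c = j` (so `j'` extends the lift of `j` to
`X̃`), and a morphism `f' : Z' ⟶ Y` over `S` extending `f` (`e ≫ f' = f`), such that the morphism
`Z' ⟶ X̃ ×_S Y` induced by `j'` and `f'` is a closed immersion. -/
theorem result {S X Y Z : Scheme.{u}} [IsNoetherian S] [IsNoetherian X] [IsNoetherian Y] [IsNoetherian Z]
    (a : X ⟶ S) (b : Y ⟶ S) [IsSeparated a] [IsSeparated b] [EssFT.EssFiniteType a] [EssFT.EssFiniteType b]
    (j : Z ⟶ X) (hj : LocImm.IsLocImmersion j) (f : Z ⟶ Y) (hjf : j ≫ a = f ≫ b) :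
    ∃ (𝓘 : X.IdealSheafData) (Xt Z' : Scheme.{u}) (c : Xt ⟶ X) (j' : Z' ⟶ Xt) (e : Z ⟶ Z') (f' : Z' ⟶ Y)
      (h : j' ≫ (c ≫ a) = f' ≫ b),
      BlowUp.IsBlowUp c 𝓘 ∧ Disjoint (𝓘.support : Set X) (Set.range (fun x => j x)) ∧
      LocImm.IsLocImmersion j' ∧ e ≫ j' ≫ c = j ∧ e ≫ f' = f ∧
      IsClosedImmersion (pullback.lift j' f' h) := by
  obtain ⟨Y₁, k, b₁, hY₁, hk, hs, hft, hqc, hkb⟩ := Groth.Agent.LocImm12.exists_factor b
  have := hY₁
  have := hs
  have := hft
  have := hqc
  have w : j ≫ a = (f ≫ k) ≫ b₁ := by rw [Category.assoc, hkb, hjf]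
  haveI : IsLocallyNoetherian (pullback a b₁ : Scheme.{u}) := LocallyOfFiniteType.isLocallyNoetherian (pullback.fst a b₁)
  haveI : CompactSpace (pullback a b₁ : Scheme.{u}) := QuasiCompact.compactSpace_of_compactSpace (pullback.fst a b₁)
  haveI : IsNoetherian (pullback a b₁ : Scheme.{u}) := {}
  let g := pullback.lift j (f ≫ k) w
  have hg : g ≫ pullback.fst a b₁ = j := pullback.lift_fst _ _ _
  obtain ⟨hN, ht⟩ := Groth.Agent.LocImm12.isLocImmersion_toImage g (pullback.fst a b₁) (hg.symm ▸ hj)
  have := hN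
  have htp : g.toImage ≫ g.imageι ≫ pullback.fst a b₁ = j := by rw [Scheme.Hom.toImage_imageι_assoc, hg]
  obtain ⟨L, K, Γ, Xt, β, c, jb, d, hβ, hL, hc, hK, hjb, hcomm, -, hd, hβp, hcp, hΓ, -⟩ :=
    Groth.Agent.LocImm12.exists_openImmersion_after_blowUp (g.imageι ≫ pullback.fst a b₁) g.toImage ht
      (htp.symm ▸ hj)
  rw [htp] at hK
  let q := β ≫ g.imageι ≫ pullback.snd a b₁
  have hq : jb ≫ c ≫ a = q ≫ b₁ := by
    rw [reassoc_of% hcomm]
    simp only [q, Category.assoc, pullback.condition]
  -- the strict transform is closed in the product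
  let l := pullback.lift jb q hq
  haveI : IsClosedImmersion l := by
    let μ := pullback.map (c ≫ a) b₁ a b₁ c (𝟙 _) (𝟙 S) (Category.comp_id _) (by simp)
    have hμ : l ≫ μ = β ≫ g.imageι := by
      apply pullback.hom_ext
      · simp only [l, μ, Category.assoc, pullback.lift_fst, pullback.lift_fst_assoc, hcomm]
      · simp only [l, μ, q, Category.assoc, pullback.lift_snd, pullback.lift_snd_assoc, Category.comp_id]
    haveI : IsSeparated (μ ≫ pullback.fst a b₁ ≫ a) := by
      have : μ ≫ pullback.fst a b₁ ≫ a = pullback.fst (c ≫ a) b₁ ≫ c ≫ a := by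
        rw [pullback.lift_fst_assoc, Category.assoc]
      rw [this]
      infer_instance
    haveI : IsSeparated μ := IsSeparated.of_comp μ (pullback.fst a b₁ ≫ a)
    haveI : IsProper (l ≫ μ) := by rw [hμ]; infer_instance
    haveI : Mono (l ≫ pullback.fst (c ≫ a) b₁) := by rw [pullback.lift_fst]; infer_instance
    haveI : Mono l := mono_of_mono l (pullback.fst (c ≫ a) b₁)
    exact (IsClosedImmersion.iff_isProper_and_mono l).2 ⟨IsProper.of_comp l μ, inferInstance⟩
  have hj' : LocImm.IsLocImmersion (pullback.fst q k ≫ jb) := by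
    refine Groth.Agent.LocImm12.isLocImmersion_comp_openImmersion ?_ jb
    rw [← pullbackSymmetry_hom_comp_snd]
    have h1 := Groth.Agent.S18202.result k q hk
    refine ⟨Groth.Agent.LocImm12.isLocalizing_comp_openImmersion_left _ h1.1, fun x y e => ?_⟩
    exact (pullbackSymmetry q k).hom.isOpenEmbedding.injective (h1.2 e)
  have hed : d ≫ q = f ≫ k := by
    simp only [q]
    rw [reassoc_of% hd, Scheme.Hom.toImage_imageι_assoc]
    exact pullback.lift_snd _ _ _
  have h : (pullback.fst q k ≫ jb) ≫ c ≫ a = pullback.snd q k ≫ b := by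
    rw [Category.assoc, hq, pullback.condition_assoc, hkb]
  refine ⟨K, Xt, pullback q k, c, pullback.fst q k ≫ jb, pullback.lift d f hed, pullback.snd q k, h,
    hc, hK, hj', ?_, pullback.lift_snd _ _ _, ?_⟩
  · rw [Category.assoc, pullback.lift_fst_assoc, hcomm, reassoc_of% hd, htp]
  · let R := pullback.map (c ≫ a) b (c ≫ a) b₁ (𝟙 _) k (𝟙 S) (by simp) (by rw [Category.comp_id, hkb])
    have hright : IsPullback (pullback.snd (c ≫ a) b) R k (pullback.snd (c ≫ a) b₁) := by
      refine (IsPullback.of_right (h₁₂ := pullback.fst (c ≫ a) b₁) (h₂₂ := b₁) (v₁₃ := c ≫ a) ?_ ?_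
        (IsPullback.of_hasPullback (c ≫ a) b₁)).flip
      · rw [pullback.lift_fst, Category.comp_id, hkb]
        exact (IsPullback.of_hasPullback (c ≫ a) b)
      · rw [pullback.lift_snd]
    have hwhole : IsPullback (pullback.lift (pullback.fst q k ≫ jb) (pullback.snd q k) h ≫ pullback.snd (c ≫ a) b)
        (pullback.fst q k) k (l ≫ pullback.snd (c ≫ a) b₁) := by
      rw [pullback.lift_snd, pullback.lift_snd]
      exact (IsPullback.of_hasPullback q k).flip
    refine MorphismProperty.of_isPullback (P := @IsClosedImmersion.{u})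
      (IsPullback.of_right hwhole ?_ hright).flip ‹_›
    apply pullback.hom_ext
    · rw [Category.assoc, Category.assoc, pullback.lift_fst, Category.comp_id, pullback.lift_fst,
        pullback.lift_fst]
    · rw [Category.assoc, Category.assoc, pullback.lift_snd, pullback.lift_snd_assoc, pullback.lift_snd,
        ← pullback.condition]

end Groth.Agent.S18212
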