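import Groth.Statements.S18215
import Groth.Agent.LocImm12.BlowUpExtend

set_option autoImplicit false
universe u
open LocImm

namespace Groth.Agent.S18215

open CategoryTheory AlgebraicGeometry Limits in
/-- Let `S` be a Noetherian scheme, `a : X ⟶ S` separated and essentially of finite type, `b : Y ⟶ S`
proper, with `X, Y` Noetherian, `Z` a Noetherian scheme with a localizing immersion `j : Z ⟶ X`
(localizing and injective on points) whose image is dense, and `f : Z ⟶ Y` a morphism over `S`. Then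
there are a blow-up `c : X̃ ⟶ X` in a quasi-coherent ideal whose closed subscheme misses `j(Z)`, the
lift `e : Z ⟶ X̃` of `j` (`e ≫ c = j`) and a morphism `f' : X̃ ⟶ Y` over `S` extending `f` (`e ≫ f'
= f`): after an admissible blow-up the rational map `f` is defined everywhere. -/
theorem result {S X Y Z : Scheme.{u}} [IsNoetherian S] [IsNoetherian X] [IsNoetherian Y] [IsNoetherian Z]
    (a : X ⟶ S) (b : Y ⟶ S) [IsSeparated a] [EssFT.EssFiniteType a] [IsProper b]
    (j : Z ⟶ X) (hj : LocImm.IsLocImmersion j) (hjd : Dense (Set.range (fun x => j x))) (f : Z ⟶ Y) (hjf : j ≫ a = f ≫ b) :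
    ∃ (𝓘 : X.IdealSheafData) (Xt : Scheme.{u}) (c : Xt ⟶ X) (e : Z ⟶ Xt) (f' : Xt ⟶ Y),
      BlowUp.IsBlowUp c 𝓘 ∧ Disjoint (𝓘.support : Set X) (Set.range (fun x => j x)) ∧
      e ≫ c = j ∧ e ≫ f' = f ∧ c ≫ a = f' ≫ b := by
  haveI : IsLocallyNoetherian (pullback a b : Scheme.{u}) := LocallyOfFiniteType.isLocallyNoetherian (pullback.fst a b)
  haveI : CompactSpace (pullback a b : Scheme.{u}) := QuasiCompact.compactSpace_of_compactSpace (pullback.fst a b)
  haveI : IsNoetherian (pullback a b : Scheme.{u}) := {}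
  let g := pullback.lift j f hjf
  have hg : g ≫ pullback.fst a b = j := pullback.lift_fst _ _ _
  obtain ⟨hN, ht⟩ := Groth.Agent.LocImm12.isLocImmersion_toImage g (pullback.fst a b) (hg.symm ▸ hj)
  have := hN
  have htp : g.toImage ≫ g.imageι ≫ pullback.fst a b = j := by rw [Scheme.Hom.toImage_imageι_assoc, hg]
  obtain ⟨L, K, Γ'', Xt, β, c, jb, d, hβ, hL, hc, hK, hjb, hcomm, hiso, hd, -, -, -, -⟩ :=
    Groth.Agent.LocImm12.exists_openImmersion_after_blowUp (g.imageι ≫ pullback.fst a b) g.toImage ht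
      (htp.symm ▸ hj)
  have := hiso inferInstance
  rw [htp] at hK
  refine ⟨K, Xt, c, d ≫ jb, inv jb ≫ β ≫ g.imageι ≫ pullback.snd a b, hc, hK, ?_, ?_, ?_⟩
  · rw [Category.assoc, hcomm, reassoc_of% hd, htp]
  · rw [Category.assoc, IsIso.hom_inv_id_assoc, reassoc_of% hd, Scheme.Hom.toImage_imageι_assoc]
    exact pullback.lift_snd _ _ _
  · simp only [Category.assoc]
    rw [← pullback.condition, ← cancel_epi jb, IsIso.hom_inv_id_assoc, reassoc_of% hcomm]

end Groth.Agent.S18215
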