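import Groth.Statements.S1822
import Groth.Agent.DQCoh.RHomTilde
import Groth.Agent.DQCoh.RHomInjQCoh
import Groth.Agent.InjMod14.Tilde
import Groth.Agent.AlgzLib.TildeSys
import Groth.Agent.CAlgH3.RGam.RHomBridge
import Groth.Agent.DualLib.ResidueHom
import Groth.Agent.DCat.DTenHom

set_option autoImplicit false
universe u
open CategoryTheory CategoryTheory.Limits AlgebraicGeometry
attribute [local instance] HasDerivedCategory.standard
open Dual

namespace Groth.Agent.S1822

open Groth.Agent.DCat Groth.Agent.DQCoh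

/-- Let A be a Noetherian ring, K a complex of A-modules with finite cohomology modules and L an object
of D(A) of finite injective dimension. Work on Spec A with the derived tilde functor (tilde assumed
left exact), a complex E of modules on Spec A representing the image of K, and the assumed derived
functors − ⊗^L E with its right adjoint RSheafHom(E, −), and RHom_A(K, −). Then RSheafHom(E, L~) is
isomorphic in D(O_{Spec A}) to the derived tilde of RHom_A(K, L). -/
theorem result (A : Type u) [CommRing A] [IsNoetherianRing A] [PreservesFiniteLimits (tilde.functor (CommRingCat.of A))] (K : DRing.Cx A) (hK : ∀ i : ℤ, Module.Finite A (Dual.HD A (DRing.toD K) i)) [DRing.HasRHomCx K] (L : Dual.D A) (hL : DRing.HasFiniteInjDim A L) (E : CochainComplex (Spec (CommRingCat.of A)).Modules ℤ) (hE : Nonempty (DCoh.toD (Spec (CommRingCat.of A)) E ≅ (DCoh.tildeD (CommRingCat.of A)).obj (DRing.toD K))) [DCoh.HasLTensorCx E] [DCoh.HasRSheafHom E] : Nonempty ((DCoh.RSheafHom E).obj ((DCoh.tildeD (CommRingCat.of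 A)).obj L) ≅ (DCoh.tildeD (CommRingCat.of A)).obj ((DRing.RHomCx K).obj L)) := by
  haveI := hasLTen A
  haveI := hasRHom (A := A)
  haveI : (tilde.functor (CommRingCat.of A)).Additive := RHomTilde.additive_tilde_functor (R := CommRingCat.of A)
  haveI : IsLocallyNoetherian (Spec (CommRingCat.of A)) := inferInstance
  obtain ⟨eE⟩ := hE
  obtain ⟨P, s, hP, -, hs, -⟩ := exists_kflat K
  haveI := hs
  haveI : IsIso (DerivedCategory.Q.map s) :=
    (DerivedCategory.isIso_Q_map_iff_quasiIso _ s).2 hs
  let T := DCoh.tildeD (CommRingCat.of A)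
  let E' := ((tilde.functor (CommRingCat.of A)).mapHomologicalComplex (ComplexShape.up ℤ)).obj P
  haveI := LTensorSheaf.hasLTensorCx E'
  haveI := RHomExist.hasRSheafHom E'
  haveI : PreservesFiniteColimits (tilde.functor (CommRingCat.of A)) :=
    haveI := (tilde.adjunction (R := CommRingCat.of A)).leftAdjoint_preservesColimits
    inferInstance
  let eT : DerivedCategory.Q.obj E' ≅ T.obj (DRing.toD K) :=
    ((tilde.functor (CommRingCat.of A)).mapDerivedCategoryFactors.app P).symm ≪≫
      T.mapIso (asIso (DerivedCategory.Q.map s))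
  obtain ⟨c⟩ := TensorCongr.nonempty_congr_rhom (E := E') (E' := E) (eT ≪≫ eE.symm)
  obtain ⟨n⟩ := RHomTilde.nonempty_tilde_tensor (R := CommRingCat.of A) P hP
  obtain ⟨hF, hFF, hQ⟩ := tildeD_main (CommRingCat.of A)
  let h := DCat.enoughKInj_of_isGrothendieckAbelian (A := (Spec (CommRingCat.of A)).Modules)
  haveI : (moduleSpecΓFunctor (R := CommRingCat.of A)).Additive := Adjunction.right_adjoint_additive tilde.adjunction
  haveI := DCat.hasRightDerivedFunctor_of_enoughKInj h
    ((moduleSpecΓFunctor (R := CommRingCat.of A)).mapHomotopyCategory (ComplexShape.up ℤ) ⋙ DerivedCategory.Qh)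
  obtain ⟨RG, ⟨adj⟩⟩ : ∃ RG, Nonempty ((tilde.functor (CommRingCat.of A)).mapDerivedCategory ⊣ RG) :=
    ⟨_, (DCat.derived_localization h (tilde.adjunction (R := CommRingCat.of A))).1⟩
  let φ := (((DTen.rhomAdj A (DerivedCategory.Q.obj P)).comp adj).ofNatIsoLeft n).rightAdjointUniq
    (adj.comp (DCoh.RSheafHomAdj E'))
  haveI : ∀ Y, IsIso (adj.unit.app Y) := fun Y => inferInstance
  -- quasi-coherence
  have hK' : DCoh.IsCohD (DerivedCategory.Q.obj E') := fun i => by
    obtain ⟨η⟩ := nonempty_homology_natIso (tilde.functor (CommRingCat.of A)) i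
    haveI := hK i
    exact Coherent.isCoh_iso (((DerivedCategory.homologyFunctor _ i).mapIso eT) ≪≫ η.app (DRing.toD K)).symm
      (AlgzLib.isCoh_tilde (A := A) ((DerivedCategory.homologyFunctor (ModuleCat.{u} A) i).obj (DRing.toD K)))
  obtain ⟨a, b, I, hI, hinj, ⟨eI⟩⟩ := hL
  let J := ((tilde.functor (CommRingCat.of A)).mapHomologicalComplex (ComplexShape.up ℤ)).obj I
  have hJ : ∀ i, Injective (J.X i) := fun i => by
    haveI := hinj i
    exact InjMod14.injective_tilde (R := CommRingCat.of A) (I.X i)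
  let eJ : DerivedCategory.Q.obj J ≅ T.obj L :=
    ((tilde.functor (CommRingCat.of A)).mapDerivedCategoryFactors.app I).symm ≪≫ T.mapIso eI
  have hqc := isQCohD_RHom_inj E' hK' J hJ a b
    (fun i hi => (tilde.functor (CommRingCat.of A)).map_isZero (hI i (Or.inl hi)))
    (fun i hi => (tilde.functor (CommRingCat.of A)).map_isZero (hI i (Or.inr hi))) (T.obj L) eJ
    (isQCohD_tildeD (CommRingCat.of A) L)
  obtain ⟨M, ⟨eM⟩⟩ := (hQ _).1 hqc
  obtain ⟨θ⟩ := CAlgH3.RGam.nonempty_RHomCx_iso_RHomR K
  refine ⟨(c.app (T.obj L)).symm ≪≫ eM.symm ≪≫ T.mapIso ?_⟩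
  exact asIso (adj.unit.app M) ≪≫ RG.mapIso eM ≪≫ (φ.app (T.obj L)).symm ≪≫
    (DTen.RHomR A (DerivedCategory.Q.obj P)).mapIso (asIso (adj.unit.app L)).symm ≪≫
    (DualLib.rhomCongr (asIso (DerivedCategory.Q.map s)) L).symm ≪≫ (θ.app L).symm

end Groth.Agent.S1822
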