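import Groth.Statements.S18223
import Groth.Agent.CohDer1.KerMulSurj
-- import your own Groth.Agent.* helpers here

set_option autoImplicit false
universe u
open CategoryTheory CategoryTheory.Limits AlgebraicGeometry
open Coh

namespace Groth.Agent.S18223

/-- Let k be an algebraically closed field, X a proper k-scheme and L an invertible O_X-module which is
globally generated, its evaluation map H^0(X, L) ⊗ O_X → L given as an epimorphism ev from a free
module inducing a bijection on global sections; let M_L = ker ev be the kernel bundle. Let i ≥ 0 and
h ≥ 1 and suppose H^1(X, M_L^{⊗(i+1)} ⊗ L^{⊗h}) = 0. Then the multiplication map on global sections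
H^0(X, L) ⊗ H^0(X, M_L^{⊗i} ⊗ L^{⊗h}) → H^0(X, L ⊗ (M_L^{⊗i} ⊗ L^{⊗h})), written as the map from the
global sections of the sectionwise tensor product presheaf to the global sections of its
sheafification, is surjective (its target is H^0(X, M_L^{⊗i} ⊗ L^{⊗(h+1)}) up to the canonical
isomorphism; the published statement writes both sides as the iterated kernels K(L^h, L, …, L) of
multiplication maps, which its first part identifies with these section spaces). The published
statement is for a projective variety; this row allows any proper k-scheme. -/
theorem result (k : Type u) [Field k] [IsAlgClosed k]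
    (X : Scheme.{u}) [X.Over (Spec (CommRingCat.of k))] [IsProper (X ↘ Spec (CommRingCat.of k))]
    (L : X.Modules) (hL : PicF.IsInvertible L)
    (J : Type u) (ev : (SheafOfModules.free J : X.Modules) ⟶ L) [Epi ev]
    (hev : Function.Bijective (Sheaf.H.map ((SheafOfModules.toSheaf X.ringCatSheaf).map ev) 0))
    (i h : ℕ) (hh : 1 ≤ h)
    (hvan : Subsingleton (Coh.HH X (CohB1.tensorMod (CohB1.tensorPow (kernel ev) (i + 1)) (CohB1.tensorPow L h)) 1)) :
    Function.Surjective ((toSheafify (Opens.grothendieckTopology ↥X)
      (CohB1.tensorPre L (CohB1.tensorMod (CohB1.tensorPow (kernel ev) i) (CohB1.tensorPow L h))).presheaf).app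
        (Opposite.op ⊤)) := by
  exact @Groth.Agent.CohDer1.KerMulSurj.surjective_mul_pow X k _ _ _ L hL J ev ‹Epi ev› hev _ _ hvan

end Groth.Agent.S18223
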