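import Groth.Statements.S18229
import Groth.Agent.AbCubeLib.Subvariety
import Groth.Agent.AbCubeLib.AmpleOfFiniteKL
import Groth.Agent.AbCohLib.Setup
import Groth.Agent.CubeLib.SeeSawProper
-- import your own Groth.Agent.* helpers here

set_option autoImplicit false
set_option linter.style.haveILetI false
set_option backward.isDefEq.respectTransparency.types false
universe u
open CategoryTheory CategoryTheory.Limits MonoidalCategory CartesianMonoidalCategory MonObj GrpObj AlgebraicGeometry
open AbVar

namespace Groth.Agent.S18229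

open CategoryTheory CategoryTheory.Limits MonObj AlgebraicGeometry in
open Groth.Agent in
/-- Let k be an algebraically closed field (any characteristic) and X a simple abelian variety over k: a
proper smooth k-group scheme with geometrically connected fibres whose only geometrically integral
closed k-subgroup schemes are the trivial subgroup and X itself. Let G be an invertible O_X-module
which is effective and non-trivial: H^0(X, G) ≠ 0 and G is not isomorphic to O_X. Then G is ample.
(In other words, when the abelian variety is simple, any line bundle that is effective and not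
trivial must be ample.) -/
theorem result (k : Type u) [Field k] [IsAlgClosed k]
    (X : Over (Spec (CommRingCat.of k))) [GrpObj X] [IsProper X.hom] [Smooth X.hom] [GeometricallyConnected X.hom]
    (hsimple : ∀ (B : Over (Spec (CommRingCat.of k))) [GrpObj B] [GeometricallyIntegral B.hom] (i : B ⟶ X) [IsMonHom i]
      [IsClosedImmersion i.left], Subsingleton ↥B.left ∨ IsIso i)
    (G : X.left.Modules) (hG : PicF.IsInvertible G)
    (hsec : Nontrivial (Coh.HH X.left G 0)) (hne : ¬ Nonempty (G ≅ Coh.structureModule X.left)) :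
    CohB1.IsAmple G := by
  classical
  haveI : GeometricallyIntegral X.hom := Groth.Agent.AbVarLib.geometricallyIntegral_of_smooth X.hom
  haveI : IsCommMonObj X := isCommMonObj_of_isProper_of_geometricallyIntegral X
  haveI : IsIntegral X.left := GeometricallyIntegral.isIntegral_of_subsingleton X.hom
  letI : X.left.Over (Spec (CommRingCat.of k)) := ⟨X.hom⟩
  have hne1 : PicLib.PicM.of hG ≠ 1 := fun h => hne ((PicLib.PicM.of_eq_one_iff hG).1 h)
  let H : Subgroup (𝟙_ (Over (Spec (CommRingCat.of k))) ⟶ X) :=
    { carrier := {x | AbCubeLib.pb (𝟙 X * (toUnit X ≫ x)) (PicLib.PicM.of hG) = PicLib.PicM.of hG}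
      one_mem' := by
        show AbCubeLib.pb _ _ = _
        rw [show 𝟙 X * (toUnit X ≫ (1 : 𝟙_ _ ⟶ X)) = 𝟙 X by rw [MonObj.comp_one, _root_.mul_one], AbCubeLib.pb_id]
      mul_mem' := fun {a b} ha hb => by
        show AbCubeLib.pb _ _ = _
        rw [← AbCubeLib.translate_comp_translate, ← AbCubeLib.pb_pb, hb, ha]
      inv_mem' := fun {a} ha => by
        show AbCubeLib.pb _ _ = _
        have h2 : AbCubeLib.pb (𝟙 X * (toUnit X ≫ a⁻¹)) (AbCubeLib.pb (𝟙 X * (toUnit X ≫ a)) (PicLib.PicM.of hG)) =
            PicLib.PicM.of hG := by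
          rw [AbCubeLib.pb_pb, AbCubeLib.translate_comp_translate, inv_mul_cancel, MonObj.comp_one, _root_.mul_one,
            AbCubeLib.pb_id]
        rwa [ha] at h2 }
  obtain ⟨Z, hZ, hZx⟩ := AbCubeLib.exists_closed_fixing (PicLib.PicM.of hG)
  obtain ⟨B, _, i, H₁, hiM, hiC, hBg, hBp, hle, hidx, hrg⟩ := AbCubeLib.exists_subvariety_of_subgroup H
  rcases hsimple B i with hsub | hiso
  · obtain ⟨s, hs⟩ : ∃ s : Γ(G, ⊤), s ≠ 0 := by
      by_contra h
      push Not at h
      haveI : Subsingleton Γ(G, ⊤) := ⟨fun a b => by rw [h a, h b]⟩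
      haveI : Subsingleton (Coherent.GA (Coherent.baseHom k X.left) G) := ‹Subsingleton Γ(G, ⊤)›
      exact not_subsingleton_iff_nontrivial.2 hsec
        ((Coherent.HHA (A := k) G 0).trans (Coherent.secA (Coherent.baseHom k X.left) G)).toEquiv.subsingleton
    refine AbCubeLib.isAmple_of_finite_fixing hG s ⟨_, CubeLib.genericPoint_mem_glocus hG hs⟩ ?_
    have h1 : ∀ a ∈ H₁, a = 1 := fun a ha => AbCubeLib.point_ext (by
      obtain ⟨p, hp⟩ : AbCubeLib.ptOf a ∈ Set.range i.left := hrg ▸ subset_closure ⟨a, ha, rfl⟩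
      obtain ⟨q, hq⟩ : AbCubeLib.ptOf (1 : 𝟙_ _ ⟶ X) ∈ Set.range i.left := hrg ▸ subset_closure ⟨1, one_mem _, rfl⟩
      show AbCubeLib.ptOf a = AbCubeLib.ptOf (1 : 𝟙_ _ ⟶ X)
      rw [← hp, ← hq, hsub.elim p q])
    have hbot : H₁ = ⊥ := (Subgroup.eq_bot_iff_forall _).2 h1
    rw [hbot, Subgroup.bot_subgroupOf, Subgroup.index_bot] at hidx
    haveI : Finite H := Nat.finite_of_card_ne_zero hidx
    exact (H : Set (𝟙_ (Over (Spec (CommRingCat.of k))) ⟶ X)).toFinite
  · haveI := hiso
    haveI : IsIso i.left := inferInstanceAs (IsIso ((Over.forget _).map i))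
    have hall : Z = Set.univ := by
      refine Set.eq_univ_of_univ_subset ?_
      rw [← (Set.range_eq_univ.2 i.left.surjective), hrg, hZ.closure_subset_iff]
      rintro _ ⟨a, ha, rfl⟩
      exact (hZx a).2 (hle ha)
    exact absurd hsec (not_nontrivial_iff_subsingleton.2
      (AbCohLib.subsingleton_HH_of_invariant hG (fun a => (hZx a).1 (hall ▸ trivial)) hne1 0))

end Groth.Agent.S18229
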