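import Groth.Statements.S18232
import Groth.Agent.Misc15.MagnetPointsS
import Groth.Agent.FlatMorGeom.FormallySmoothHom
-- import your own Groth.Agent.* helpers here

set_option autoImplicit false
universe u
open CategoryTheory MonoidalCategory CartesianMonoidalCategory AlgebraicGeometry Opposite
open Magnet

namespace Groth.Agent.S18232

/-- Let S be a scheme, M a finitely generated abelian group, N a submonoid of M, and let X, Y be
S-schemes with actions of the diagonalizable group scheme D(M)_S and f : X → Y an equivariant,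
formally unramified S-morphism. Then the induced map f^N : X^N → Y^N, viewed as a transformation of
functors on S-schemes, is again formally unramified: for every ring A, ideal I of A with I² = 0 and
structure morphism Spec A → S, writing T = Spec (A/I) ⊂ T' = Spec A, two elements of X^N(T') with
the same restriction to T and the same image in Y^N(T') are equal. (Stated for schemes; the
published statement is for algebraic spaces over S.) -/
theorem result (S : Scheme.{u}) (M : Type) [AddCommGroup M]
    [AddGroup.FG M] (N : AddSubmonoid M) {X Y : Over S} (aX : Magnet.MonAct (Magnet.AMonS S M) X)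
    (aY : Magnet.MonAct (Magnet.AMonS S M) Y) (f : X ⟶ Y) (hf : Magnet.MonAct.IsEquivariant aX aY f)
    [FormallyUnramified f.left] (A : Type u) [CommRing A] (I : Ideal A) (hI : I ^ 2 = ⊥)
    (str : Spec (CommRingCat.of A) ⟶ S) (l₁ l₂ : (Magnet.attr aX N).obj (op (Over.mk str)))
    (htop : (Magnet.attr aX N).map (Over.homMk (Spec.map (CommRingCat.ofHom (Ideal.Quotient.mk I))) rfl :
        Over.mk (Spec.map (CommRingCat.ofHom (Ideal.Quotient.mk I)) ≫ str) ⟶ Over.mk str).op l₁ =
      (Magnet.attr aX N).map (Over.homMk (Spec.map (CommRingCat.ofHom (Ideal.Quotient.mk I))) rfl :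
        Over.mk (Spec.map (CommRingCat.ofHom (Ideal.Quotient.mk I)) ≫ str) ⟶ Over.mk str).op l₂)
    (hbot : (Magnet.MonAct.eqvHom.postcomp (Magnet.subAct S M N) f hf).app _ l₁ =
      (Magnet.MonAct.eqvHom.postcomp (Magnet.subAct S M N) f hf).app _ l₂) :
    l₁ = l₂ := by
  let T' : Over S := Over.mk str
  let i : Over.mk (Spec.map (CommRingCat.ofHom (Ideal.Quotient.mk I)) ≫ str) ⟶ T' :=
    Over.homMk (Spec.map (CommRingCat.ofHom (Ideal.Quotient.mk I))) rfl
  have ht : (_ ◁ i) ≫ l₁.1 = (_ ◁ i) ≫ l₂.1 := congrArg Subtype.val htop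
  have hb : l₁.1 ≫ f = l₂.1 ≫ f := congrArg Subtype.val hbot
  apply Subtype.ext
  apply Groth.Agent.Misc15.MagnetPointsS.hom_ext_univPoint
  intro R _ s j
  let B := Groth.Agent.Misc15.MagnetPointsS.MA R N
  let φ : A →+* R := (Spec.preimage j.left).hom
  let ψ : A →+* B := (algebraMap R B).comp φ
  let J : Ideal B := I.map ψ
  have hJ : J ^ 2 = ⊥ := by rw [← Ideal.map_pow, hI, Ideal.map_bot]
  let q : B →+* B ⧸ J := Ideal.Quotient.mk J
  let ψ' : A ⧸ I →+* B ⧸ J := Ideal.quotientMap J ψ Ideal.le_comap_map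
  set u := Groth.Agent.Misc15.MagnetPointsS.univPoint N R s j
  let t : Over.mk (Spec.map (CommRingCat.ofHom q) ≫ Groth.Agent.Misc15.MagnetPointsS.univBase N R s) ⟶
      Over.mk (Groth.Agent.Misc15.MagnetPointsS.univBase N R s) := Over.homMk (Spec.map (CommRingCat.ofHom q)) rfl
  have hψ : Spec.map (CommRingCat.ofHom q) ≫ Spec.map (CommRingCat.ofHom (algebraMap R B)) ≫ j.left =
      Spec.map (CommRingCat.ofHom ψ') ≫ Spec.map (CommRingCat.ofHom (Ideal.Quotient.mk I)) := by
    rw [show j.left = Spec.map (CommRingCat.ofHom φ) from (Spec.map_preimage _).symm, ← Spec.map_comp, ← Spec.map_comp,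
      ← Spec.map_comp]
    rfl
  let j' : Over.mk (Spec.map (CommRingCat.ofHom q) ≫ Groth.Agent.Misc15.MagnetPointsS.univBase N R s) ⟶
      Over.mk (Spec.map (CommRingCat.ofHom (Ideal.Quotient.mk I)) ≫ str) :=
    Over.homMk (Spec.map (CommRingCat.ofHom ψ')) (by
      show Spec.map _ ≫ Spec.map _ ≫ str = Spec.map _ ≫ Spec.map _ ≫ s
      rw [← reassoc_of% hψ]
      exact congrArg (fun w => Spec.map (CommRingCat.ofHom q) ≫ Spec.map (CommRingCat.ofHom (algebraMap R B)) ≫ w) (Over.w j))
  have hj' : t ≫ Groth.Agent.Misc15.MagnetPointsS.univProj N R s ≫ j = j' ≫ i := by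
    ext1
    exact hψ
  have key : t ≫ u ≫ l₁.1 = t ≫ u ≫ l₂.1 := by
    have e : t ≫ u = lift (t ≫ Groth.Agent.Misc15.MagnetPointsS.P
        (Groth.Agent.Misc15.MagnetPointsS.univBase N R s) (MonoidAlgebra.of R (Multiplicative N))) j' ≫ (_ ◁ i) := by
      rw [lift_whiskerLeft, ← hj']
      exact comp_lift _ _ _
    rw [reassoc_of% e, reassoc_of% e, ht]
  haveI : IsClosedImmersion (Spec.map (CommRingCat.ofHom q)) :=
    IsClosedImmersion.spec_of_surjective _ Ideal.Quotient.mk_surjective
  ext1
  refine FormallyUnramified.hom_ext (Spec.map (CommRingCat.ofHom q))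
    ⟨2, by rw [pow_two]; exact Groth.Agent.FlatMorGeom.ker_SpecMap_sq q (Groth.Agent.FlatMorGeom.sq_ker_mk hJ)⟩
    f.left (congrArg Over.Hom.left key) ?_
  rw [← Over.comp_left, ← Over.comp_left, Category.assoc, Category.assoc, hb]

end Groth.Agent.S18232
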