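import Groth.Statements.S18235
import Groth.Agent.Misc15.StableOpen
-- import your own Groth.Agent.* helpers here

set_option autoImplicit false
universe u
open CategoryTheory MonoidalCategory CartesianMonoidalCategory AlgebraicGeometry Opposite
open Magnet
open Groth.Agent

namespace Groth.Agent.S18235

/-- Let S be a scheme, M a finitely generated abelian group, N a submonoid of M, X and Y schemes locally
of finite presentation over S with actions of the diagonalizable group scheme D(M)_S, and f : X → Y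
an equivariant S-morphism which is an open immersion. If the attractors X^N and Y^N are represented
by S-schemes Z_X and Z_Y, and j : Z_X → Z_Y is the S-morphism that corresponds to f^N under the two
representing bijections, then j is an open immersion. (Stated for schemes; the published statement
is for algebraic spaces over S.) -/
theorem result (S : Scheme.{u}) (M : Type) [AddCommGroup M]
    [AddGroup.FG M] (N : AddSubmonoid M) {X Y : Over S} [LocallyOfFinitePresentation X.hom]
    [LocallyOfFinitePresentation Y.hom] (aX : Magnet.MonAct (Magnet.AMonS S M) X)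
    (aY : Magnet.MonAct (Magnet.AMonS S M) Y) (f : X ⟶ Y) (hf : Magnet.MonAct.IsEquivariant aX aY f)
    [IsOpenImmersion f.left] {ZX ZY : Over S} (eX : (Magnet.attr aX N).RepresentableBy ZX) (eY : (Magnet.attr aY N).RepresentableBy ZY)
    (j : ZX ⟶ ZY) (hj : ∀ (T : Over S) (z : T ⟶ ZX),
      eY.homEquiv (z ≫ j) = (Magnet.MonAct.eqvHom.postcomp (Magnet.subAct S M N) f hf).app (op T) (eX.homEquiv z)) :
    IsOpenImmersion j.left := by
  classical
  have hmf : Mono f := by
    have : Mono f.left := inferInstance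
    exact (Over.forget _).mono_of_mono_map this
  have hrange : ∀ (P V W : Over S) (f : V ⟶ W) (z : (P ⊗ W).left),
      (CartesianMonoidalCategory.snd P W).left z ∈ Set.range f.left → z ∈ Set.range (P ◁ f).left := by
    intro P V W f z hz
    rw [show (P ◁ f).left = Limits.pullback.map _ _ _ _ (𝟙 _) f.left (𝟙 _) (by simp) (by simp) from rfl]
    erw [Scheme.Pullback.range_map]
    exact ⟨⟨(Limits.pullback.fst P.hom W.hom) z, by simp⟩, hz⟩
  have hstab : ∀ (T : Over S) (φ : AMonS S N ⊗ T ⟶ Y),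
      Magnet.MonAct.IsEquivariant ((subAct S M N).prod (Magnet.MonAct.trivial (AMonS S M) T)) aY φ →
      (CartesianMonoidalCategory.snd (AMonS S M) (AMonS S N ⊗ T)).left ⁻¹ᵁ (φ.left ⁻¹ᵁ f.left.opensRange) ≤
        ((subAct S M N).prod (Magnet.MonAct.trivial (AMonS S M) T)).act.left ⁻¹ᵁ (φ.left ⁻¹ᵁ f.left.opensRange) := by
    intro T φ hφ z hz
    have hz1 : (CartesianMonoidalCategory.snd (AMonS S M) Y).left ((AMonS S M ◁ φ).left z) ∈ Set.range f.left := by
      rw [← Scheme.Hom.comp_apply, ← Over.comp_left, whiskerLeft_snd, Over.comp_left, Scheme.Hom.comp_apply]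
      exact hz
    obtain ⟨w, hw⟩ := hrange (AMonS S M) X Y f _ hz1
    show φ.left (((subAct S M N).prod (Magnet.MonAct.trivial (AMonS S M) T)).act.left z) ∈ Set.range f.left
    rw [← Scheme.Hom.comp_apply, ← Over.comp_left, hφ, Over.comp_left, Scheme.Hom.comp_apply, ← hw,
      ← Scheme.Hom.comp_apply, ← Over.comp_left, ← hf, Over.comp_left, Scheme.Hom.comp_apply]
    exact ⟨_, rfl⟩
  let φu := eY.homEquiv (𝟙 ZY)
  have hY : ∀ {T : Over S} (z : T ⟶ ZY), (eY.homEquiv z).1 = (AMonS S N ◁ z) ≫ φu.1 := by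
    intro T z
    conv_lhs => rw [← Category.comp_id z, eY.homEquiv_comp]
    rfl
  have hXY : ∀ {T : Over S} (z : T ⟶ ZX), (eX.homEquiv z).1 ≫ f = (AMonS S N ◁ (z ≫ j)) ≫ φu.1 := by
    intro T z
    rw [← hY, hj]
    rfl
  let σ : ∀ T : Over S, T ⟶ AMonS S N ⊗ T := fun T => lift (Misc15.StableOpen.sec N) (𝟙 T)
  have hσ : ∀ {T T' : Over S} (t : T ⟶ T'), σ T ≫ (AMonS S N ◁ t) = t ≫ σ T' := by
    intro T T' t
    simp only [σ, lift_whiskerLeft, comp_lift, Category.id_comp, Category.comp_id, Misc15.StableOpen.comp_sec]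
  let U : ZY.left.Opens := (σ ZY ≫ φu.1).left ⁻¹ᵁ f.left.opensRange
  let r : Over.mk (U.ι ≫ ZY.hom) ⟶ ZY := Over.homMk U.ι rfl
  have hmr : Mono r := by
    have : Mono r.left := inferInstanceAs (Mono U.ι)
    exact (Over.forget _).mono_of_mono_map this
  let φr := (AMonS S N ◁ r) ≫ φu.1
  have hφr := ((Magnet.attr aY N).map r.op φu).2
  have hW := Misc15.StableOpen.eq_top N (φr.left ⁻¹ᵁ f.left.opensRange) (hstab _ φr hφr) (by
    refine top_le_iff.1 fun p _ => ?_
    show φr.left ((σ (Over.mk (U.ι ≫ ZY.hom))).left p) ∈ Set.range f.left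
    rw [← Scheme.Hom.comp_apply, ← Over.comp_left]
    simp only [φr, ← Category.assoc, hσ]
    rw [Category.assoc, Over.comp_left, Scheme.Hom.comp_apply]
    exact (p : U).2)
  have hsub : Set.range φr.left ⊆ Set.range f.left := by
    rintro _ ⟨z, rfl⟩
    exact (hW ▸ trivial : z ∈ φr.left ⁻¹ᵁ f.left.opensRange)
  let ψ : AMonS S N ⊗ Over.mk (U.ι ≫ ZY.hom) ⟶ X := Over.homMk (IsOpenImmersion.lift f.left φr.left hsub) (by
    rw [← Over.w f, IsOpenImmersion.lift_fac_assoc, Over.w φr])
  have hψ : ψ ≫ f = φr := by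
    ext1
    exact IsOpenImmersion.lift_fac _ _ _
  have hψe : Magnet.MonAct.IsEquivariant ((subAct S M N).prod (Magnet.MonAct.trivial (AMonS S M) _)) aX ψ := by
    unfold Magnet.MonAct.IsEquivariant at hf ⊢
    rw [← cancel_mono f, Category.assoc, Category.assoc, hψ, hf, ← whiskerLeft_comp_assoc, hψ]
    exact hφr
  let g := eX.homEquiv.symm ⟨ψ, hψe⟩
  have hg : g ≫ j = r := by
    refine eY.homEquiv.injective (Subtype.ext ?_)
    rw [hY r, hY (g ≫ j), ← hXY g, show eX.homEquiv g = ⟨ψ, hψe⟩ from Equiv.apply_symm_apply _ _]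
    exact hψ
  have hjU : Set.range j.left ⊆ Set.range U.ι := by
    rintro _ ⟨z, rfl⟩
    rw [Scheme.Opens.range_ι]
    show (σ ZY ≫ φu.1).left (j.left z) ∈ Set.range f.left
    rw [← Scheme.Hom.comp_apply, ← Over.comp_left, ← reassoc_of% (hσ j),
      show (AMonS S N ◁ j) ≫ φu.1 = (eX.homEquiv (𝟙 ZX)).1 ≫ f by rw [hXY, Category.id_comp],
      ← Category.assoc, Over.comp_left, Scheme.Hom.comp_apply]
    exact ⟨_, rfl⟩
  let h : ZX ⟶ Over.mk (U.ι ≫ ZY.hom) := Over.homMk (IsOpenImmersion.lift U.ι j.left hjU) (by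
    show _ ≫ U.ι ≫ ZY.hom = _
    rw [IsOpenImmersion.lift_fac_assoc, Over.w j])
  have hh : h ≫ r = j := by
    ext1
    exact IsOpenImmersion.lift_fac _ _ _
  have hhg : h ≫ g = 𝟙 ZX := by
    refine eX.homEquiv.injective (Subtype.ext ?_)
    rw [← cancel_mono f, hXY, hXY, Category.assoc, hg, hh, Category.id_comp]
  have hgh : g ≫ h = 𝟙 _ := by
    rw [← cancel_mono r, Category.assoc, hh, hg, Category.id_comp]
  have : IsIso h.left := ⟨g.left, by rw [← Over.comp_left, hhg]; rfl, by rw [← Over.comp_left, hgh]; rfl⟩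
  rw [← hh, Over.comp_left]
  exact (inferInstanceAs (IsOpenImmersion (h.left ≫ U.ι)))

end Groth.Agent.S18235
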