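import Groth.Statements.S18236
import Groth.Agent.Misc15.AttrClosedGen
-- import your own Groth.Agent.* helpers here

set_option autoImplicit false
universe u
open CategoryTheory MonoidalCategory CartesianMonoidalCategory AlgebraicGeometry Opposite
open Magnet
open Groth.Agent

namespace Groth.Agent.S18236

/-- Let S be a scheme, M a finitely generated abelian group, N a submonoid of M and Z = N* its subgroup
of invertible elements; let X and Y be schemes locally of finite presentation over S with actions of
the diagonalizable group scheme D(M)_S, and f : X → Y an equivariant S-morphism which is a closed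
immersion. Assume that Y admits an N*-FPR atlas: an equivariant, étale and surjective g : U → Y
where U is a disjoint union of D(M)_S-stable open subschemes each affine over S, such that for the
actions restricted along D(M/Z)_S → D(M)_S the square of fixed-point subfunctors U^{D(M/Z)} →
Y^{D(M/Z)} over U → Y is cartesian; assume also that N is finitely generated or X is separated over
S. Then the commutative square with top f^N : X^N → Y^N, sides the evaluation maps X^N → X and Y^N →
Y at the unit section, and bottom f is cartesian, i.e. X^N = Y^N ×_Y X as functors on S-schemes (so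
that f^N is a closed immersion whenever X^N and Y^N are representable). (Stated for schemes; the
published statement is for algebraic spaces over S.) -/
theorem result (S : Scheme.{u}) (M : Type)
    [AddCommGroup M] [AddGroup.FG M] (N : AddSubmonoid M) (Z : AddSubgroup M)
    (hZ : ∀ m : M, m ∈ Z ↔ (m ∈ N ∧ -m ∈ N)) {X Y : Over S} [LocallyOfFinitePresentation X.hom]
    [LocallyOfFinitePresentation Y.hom] (aX : Magnet.MonAct (Magnet.AMonS S M) X)
    (aY : Magnet.MonAct (Magnet.AMonS S M) Y) (f : X ⟶ Y) (hf : Magnet.MonAct.IsEquivariant aX aY f)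
    [IsClosedImmersion f.left] (U : Over S) (aU : Magnet.MonAct (Magnet.AMonS S M) U) (g : U ⟶ Y)
    (hg : Magnet.MonAct.IsEquivariant aU aY g) [Etale g.left] [Surjective g.left]
    (ι : Type u) (V : ι → U.left.Opens) (hVd : ∀ i i', i ≠ i' → Disjoint (V i) (V i'))
    (hVc : ⨆ i, V i = ⊤) (hVa : ∀ i, IsAffineHom ((V i).ι ≫ U.hom))
    (hVs : ∀ i, (CartesianMonoidalCategory.snd (Magnet.AMonS S M) U).left ⁻¹ᵁ (V i) ≤ aU.act.left ⁻¹ᵁ (V i))
    (hgZ : Magnet.MonAct.IsEquivariant (aU.restrict (Magnet.AMonS.map S (QuotientAddGroup.mk' Z))) (aY.restrict (Magnet.AMonS.map S (QuotientAddGroup.mk' Z))) g)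
    (hfpr : IsPullback (Magnet.MonAct.fixedPsh.map g hgZ)
      (Magnet.MonAct.fixedPshι (aU.restrict (Magnet.AMonS.map S (QuotientAddGroup.mk' Z))))
      (Magnet.MonAct.fixedPshι (aY.restrict (Magnet.AMonS.map S (QuotientAddGroup.mk' Z)))) (yoneda.map g))
    (hc : N.FG ∨ IsSeparated X.hom) :
    IsPullback (Magnet.MonAct.eqvHom.postcomp (Magnet.subAct S M N) f hf) (Magnet.attrToX aX N)
      (Magnet.attrToX aY N) (yoneda.map f) := by
  classical
  have hm : Mono f := Misc15.DominantWhisker.mono_of_closedImmersion f
  refine IsPullback.of_forall_isPullback_app fun T => ?_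
  rw [CategoryTheory.Limits.Types.isPullback_iff]
  have hev : ∀ φ : (Magnet.attr aX N).obj T,
      (Magnet.attrToX aY N).app T ((Magnet.MonAct.eqvHom.postcomp (Magnet.subAct S M N) f hf).app T φ) =
        (Magnet.attrToX aX N).app T φ ≫ f := by
    intro φ
    show lift (toUnit (unop T) ≫ (MonObj.one (X := Magnet.AMonS S N))) (𝟙 (unop T)) ≫ φ.1 ≫ f =
      (lift (toUnit (unop T) ≫ (MonObj.one (X := Magnet.AMonS S N))) (𝟙 (unop T)) ≫ φ.1) ≫ f
    rw [Category.assoc]
  refine ⟨ConcreteCategory.hom_ext _ _ hev, ?_, ?_⟩
  · rintro φ φ' ⟨h, -⟩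
    exact Subtype.ext ((cancel_mono f).1 (congrArg Subtype.val h))
  · intro φ x h
    obtain ⟨ψ, hψ⟩ := Misc15.AttrClosedGen.exists_lift N aX aY f hf φ x h
    refine ⟨ψ, Subtype.ext hψ, (cancel_mono f).1 ?_⟩
    rw [← hev ψ, show (Magnet.MonAct.eqvHom.postcomp (Magnet.subAct S M N) f hf).app T ψ = φ from Subtype.ext hψ]
    exact h

end Groth.Agent.S18236
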