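import Groth.Statements.S18237
import Groth.Agent.Misc15.FprTransfer
-- import your own Groth.Agent.* helpers here

set_option autoImplicit false
universe u
open CategoryTheory MonoidalCategory CartesianMonoidalCategory AlgebraicGeometry Opposite
open Magnet
open Groth.Agent

namespace Groth.Agent.S18237

/-- Let S be a quasi-compact scheme, M a finitely generated abelian group, X a scheme which is
quasi-compact, separated and locally of finite presentation over S with an action of the
diagonalizable group scheme D(M)_S, and N a submonoid of M with subgroup of invertible elements Z =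
N*. Assume X admits an S-affine N*-FPR atlas: an equivariant, étale and surjective g : U → X with U
affine over S such that, for the actions restricted along D(M/Z)_S → D(M)_S, the square of
fixed-point subfunctors U^{D(M/Z)} → X^{D(M/Z)} over U → X is cartesian. Then there is a finitely
generated submonoid N_c of N with the same invertible elements as N such that the canonical map of
attractors X^{N_c} → X^N is an isomorphism of functors. (Stated for schemes, the published statement
being for algebraic spaces. The published statement assumes only M finitely generated and X → S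
quasi-compact and separated; it fails without X locally of finite presentation over S or without S
quasi-compact, so this row assumes both, and it assumes an S-affine N*-FPR atlas, which the
published argument obtains from a general existence result.) -/
theorem result (S : Scheme.{u}) [CompactSpace S] (M : Type)
    [AddCommGroup M] [AddGroup.FG M] {X : Over S} [QuasiCompact X.hom] [IsSeparated X.hom]
    [LocallyOfFinitePresentation X.hom] (a : Magnet.MonAct (Magnet.AMonS S M) X) (N : AddSubmonoid M)
    (Z : AddSubgroup M) (hZ : ∀ m : M, m ∈ Z ↔ (m ∈ N ∧ -m ∈ N)) (U : Over S) [IsAffineHom U.hom]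
    (aU : Magnet.MonAct (Magnet.AMonS S M) U) (g : U ⟶ X) (hg : Magnet.MonAct.IsEquivariant aU a g)
    [Etale g.left] [Surjective g.left]
    (hgZ : Magnet.MonAct.IsEquivariant (aU.restrict (Magnet.AMonS.map S (QuotientAddGroup.mk' Z))) (a.restrict (Magnet.AMonS.map S (QuotientAddGroup.mk' Z))) g)
    (hfpr : IsPullback (Magnet.MonAct.fixedPsh.map g hgZ)
      (Magnet.MonAct.fixedPshι (aU.restrict (Magnet.AMonS.map S (QuotientAddGroup.mk' Z))))
      (Magnet.MonAct.fixedPshι (a.restrict (Magnet.AMonS.map S (QuotientAddGroup.mk' Z)))) (yoneda.map g)) :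
    ∃ (Nc : AddSubmonoid M) (h : Nc ≤ N), Nc.FG ∧ (∀ m : M, (m ∈ Nc ∧ -m ∈ Nc) ↔ (m ∈ N ∧ -m ∈ N)) ∧
      IsIso (Magnet.attrMap a h) := by
  classical
  have hlU : LocallyOfFinitePresentation U.hom := by rw [← Over.w g]; infer_instance
  have : LocallyOfFiniteType U.hom := inferInstance
  have hsU : IsSeparated U.hom := inferInstance
  obtain ⟨t, ht⟩ := isCompact_univ.elim_finite_subcover (fun V : S.affineOpens => (V.1 : Set S))
    (fun V => V.1.isOpen) (fun s _ => by
      have : s ∈ (⨆ V : S.affineOpens, (V : S.Opens)) := by rw [iSup_affineOpens_eq_top]; trivial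
      obtain ⟨V, hV⟩ := TopologicalSpace.Opens.mem_iSup.1 this
      exact Set.mem_iUnion.2 ⟨V, hV⟩)
  have hcov : (⨆ V : t, V.1.1) = (⊤ : S.Opens) := by
    refine eq_top_iff.2 fun s _ => ?_
    obtain ⟨V, hV⟩ := Set.mem_iUnion.1 (ht (Set.mem_univ s))
    obtain ⟨hVt, hs⟩ := Set.mem_iUnion.1 hV
    exact TopologicalSpace.Opens.mem_iSup.2 ⟨⟨V, hVt⟩, hs⟩
  choose E hE using fun V : t => Misc15.AttrRep.exists_finset_degrees aU V.1.2
  have : Module.Finite ℤ M := Module.Finite.iff_addGroup_fg.2 inferInstance
  obtain ⟨G, hG⟩ : Z.FG := (Submodule.fg_iff_addSubgroup_fg Z.toIntSubmodule).1 (IsNoetherian.noetherian _)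
  let s : Finset M := (t.attach.biUnion E).filter (· ∈ N) ∪ G ∪ G.image (fun m => -m)
  let Nc := AddSubmonoid.closure (s : Set M)
  have hGN : ∀ m ∈ G, m ∈ N ∧ -m ∈ N := fun m hm => (hZ m).1 (hG ▸ AddSubgroup.subset_closure hm)
  have hle : Nc ≤ N := AddSubmonoid.closure_le.2 fun m hm => by
    rcases Finset.mem_union.1 hm with hm | hm
    · rcases Finset.mem_union.1 hm with hm | hm
      · exact (Finset.mem_filter.1 hm).2
      · exact (hGN m hm).1
    · obtain ⟨m, hm', rfl⟩ := Finset.mem_image.1 hm
      exact (hGN m hm').2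
  have hZc : ∀ m ∈ Z, m ∈ Nc := by
    intro m hm
    rw [← hG] at hm
    have h2 : m ∈ Nc ∧ -m ∈ Nc := by
      induction hm using AddSubgroup.closure_induction with
      | mem x hx =>
        exact ⟨AddSubmonoid.subset_closure (Finset.mem_union.2 (Or.inl (Finset.mem_union.2 (Or.inr hx)))),
          AddSubmonoid.subset_closure (Finset.mem_union.2 (Or.inr (Finset.mem_image.2 ⟨x, hx, rfl⟩)))⟩
      | zero => exact ⟨Nc.zero_mem, by rw [neg_zero]; exact Nc.zero_mem⟩
      | add x y _ _ hx hy => exact ⟨Nc.add_mem hx.1 hy.1, by rw [neg_add]; exact Nc.add_mem hx.2 hy.2⟩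
      | neg x _ hx => exact ⟨hx.2, by rw [neg_neg]; exact hx.1⟩
    exact h2.1
  refine ⟨Nc, hle, ⟨s, rfl⟩, fun m => ⟨fun h => ⟨hle h.1, hle h.2⟩, fun h =>
    ⟨hZc m ((hZ m).2 h), hZc (-m) ((hZ (-m)).2 ⟨h.2, by rw [neg_neg]; exact h.1⟩)⟩⟩, ?_⟩
  have hbij : ∀ T : (Over S)ᵒᵖ, IsIso ((Magnet.attrMap a hle).app T) := by
    intro T
    rw [CategoryTheory.isIso_iff_bijective]
    refine ⟨Groth.Agent.S18284.result S M X a hle (unop T), fun φ => ?_⟩
    obtain ⟨ψ, hψ⟩ := Misc15.FprTransfer.inImage_transfer a aU g hg N Nc Z hZ hgZ hfpr (Or.inr inferInstance)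
      (fun T' y hy => Misc15.AttrRep.inImage_of_affine_cover aU Nc y (fun V : t => V.1.1) hcov
        fun K _ sK b V hs => hE V N Nc (fun m hm hmN => AddSubmonoid.subset_closure
          (Finset.mem_union.2 (Or.inl (Finset.mem_union.2 (Or.inl (Finset.mem_filter.2
            ⟨Finset.mem_biUnion.2 ⟨V, Finset.mem_attach _ _, hm⟩, hmN⟩)))))) K sK hs _
          (Misc15.AttrRep.InImage.comp N aU b hy))
      ((Magnet.attrToX a N).app T φ) ⟨φ, rfl⟩
    refine ⟨ψ, Groth.Agent.S18285.result S M X a N (unop T) ?_⟩
    exact (Misc15.AttrRep.attrMap_eval a hle ψ).trans hψ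
  exact NatIso.isIso_of_isIso_app _

end Groth.Agent.S18237
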