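import Groth.Statements.S18238
import Groth.Agent.CommAlg4.SharpGradedSmooth
-- import your own Groth.Agent.* helpers here

set_option autoImplicit false
universe u
open DiagMon

namespace Groth.Agent.S18238

/-- Let R be a commutative ring and N a fine and sharp commutative monoid (finitely generated,
cancellative, and 0 its only invertible element). If the diagonalizable monoid scheme A(N)_R = Spec
R[N] is smooth over Spec R, then it is a vector bundle over Spec R: the monoid algebra R[N] is
isomorphic as an R-algebra to the symmetric algebra of a finitely generated projective R-module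
(existence of such a module and isomorphism). (Affine base; the published statement is over an
arbitrary base scheme S.) -/
theorem result (R : Type u) [CommRing R] (N : Type)
    [AddCommMonoid N] [AddMonoid.FG N] [IsCancelAdd N] (hsharp : ∀ n : N, IsAddUnit n → n = 0)
    [Algebra.Smooth R (AddMonoidAlgebra R N)] :
    ∃ (P : Type u) (_ : AddCommGroup P) (_ : Module R P), Module.Finite R P ∧ Module.Projective R P ∧
      Nonempty (AddMonoidAlgebra R N ≃ₐ[R] SymmetricAlgebra R P) := by
  classical
  let aug : Multiplicative N →* R :=
    { toFun := fun n => if n.toAdd = 0 then 1 else 0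
      map_one' := by simp
      map_mul' := fun a b => by
        by_cases ha : a.toAdd = 0
        · simp [ha]
        · rw [if_neg ha, zero_mul, if_neg]
          intro h
          exact ha (hsharp _ (AddUnits.mkOfAddEqZero _ b.toAdd h).isAddUnit) }
  exact Groth.Agent.CommAlg4.SharpGraded.symmetricAlgebra_equiv (AddMonoidAlgebra.grade R)
    (AddMonoidAlgebra.lift R R N aug)
    (fun b => by rw [AddMonoidAlgebra.mem_grade_iff']; exact ⟨b, by simp⟩)
    (fun n hn a ha => by
      obtain ⟨r, rfl⟩ := (AddMonoidAlgebra.mem_grade_iff' R n a).mp ha
      simp [aug, hn])
    (fun a ha => by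
      obtain ⟨r, rfl⟩ := (AddMonoidAlgebra.mem_grade_iff' R 0 a).mp ha
      simp [aug])
    hsharp

end Groth.Agent.S18238
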