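import Groth.Statements.S18239
import Groth.Agent.CommAlg4.SharpGradedSmooth
-- import your own Groth.Agent.* helpers here

set_option autoImplicit false
universe u
open DiagMon

namespace Groth.Agent.S18239

/-- Let R be a commutative ring, N a fine and sharp commutative monoid (finitely generated,
cancellative, and 0 its only invertible element) and A a commutative R-algebra graded by N which is
smooth over R. Then A is isomorphic, as an algebra over its degree-zero part A_0, to the symmetric
algebra of a finitely generated projective A_0-module; that is, Spec A → Spec A_0 is a vector bundle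
whose zero section is the closed subscheme Spec A_0 cut out by the elements of non-zero degree.
(This is the affine, graded form of the statement that for a smooth S-scheme X with a
Zariski-locally linearizable action of a diagonalizable group D(M)_S and a finitely generated
submonoid N of M the map from the attractor X^N to X^{N*} is a vector bundle: here the base is
affine, N* = 0, and X = Spec A equals its own attractor X^N, an N-grading of A being an action of
the monoid scheme of N; the fixed-point scheme X^0 is Spec A_0.) -/
theorem result (R : Type u) [CommRing R] (A : Type u)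
    [CommRing A] [Algebra R A] (N : Type) [AddCommMonoid N] [DecidableEq N] [AddMonoid.FG N] [IsCancelAdd N]
    (hsharp : ∀ n : N, IsAddUnit n → n = 0) (𝒜 : N → Submodule R A) [GradedAlgebra 𝒜]
    [Algebra.Smooth R A] :
    ∃ (P : Type u) (_ : AddCommGroup P) (_ : Module (𝒜 0) P), Module.Finite (𝒜 0) P ∧
      Module.Projective (𝒜 0) P ∧ Nonempty (A ≃ₐ[𝒜 0] SymmetricAlgebra (𝒜 0) P) := by
  let ε : A →ₐ[(𝒜 0)] (𝒜 0) :=
    { toFun := fun a => DirectSum.decompose 𝒜 a 0
      map_one' := Subtype.ext (DirectSum.decompose_of_mem_same 𝒜 (SetLike.one_mem_graded 𝒜))
      map_mul' := fun a b => by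
        induction a using DirectSum.Decomposition.inductionOn 𝒜 with
        | zero => simp
        | @homogeneous p a =>
          induction b using DirectSum.Decomposition.inductionOn 𝒜 with
          | zero => simp
          | @homogeneous q b =>
            apply Subtype.ext
            change (DirectSum.decompose 𝒜 ((a : A) * b) 0 : A) =
              (DirectSum.decompose 𝒜 (a : A) 0 : A) * (DirectSum.decompose 𝒜 (b : A) 0 : A)
            rcases eq_or_ne p 0 with rfl | hp
            · rcases eq_or_ne q 0 with rfl | hq
              · rw [DirectSum.decompose_of_mem_same 𝒜 a.2, DirectSum.decompose_of_mem_same 𝒜 b.2,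
                  DirectSum.decompose_of_mem_same 𝒜]
                simpa using SetLike.mul_mem_graded a.2 b.2
              · rw [DirectSum.decompose_of_mem_ne 𝒜 b.2 hq, mul_zero,
                  DirectSum.decompose_of_mem_ne 𝒜 (SetLike.mul_mem_graded a.2 b.2) (by simpa using hq)]
            · rw [DirectSum.decompose_of_mem_ne 𝒜 a.2 hp, zero_mul,
                DirectSum.decompose_of_mem_ne 𝒜 (SetLike.mul_mem_graded a.2 b.2)]
              intro h
              exact hp (hsharp p (AddUnits.mkOfAddEqZero p q h).isAddUnit)
          | add x y hx hy => simp only [mul_add, DirectSum.decompose_add, DirectSum.add_apply, hx, hy]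
        | add x y hx hy => simp only [add_mul, DirectSum.decompose_add, DirectSum.add_apply, hx, hy]
      map_zero' := by simp
      map_add' := fun a b => by simp
      commutes' := fun b => Subtype.ext (DirectSum.decompose_of_mem_same 𝒜 b.2) }
  haveI : IsScalarTower R (𝒜 0) A := IsScalarTower.of_algebraMap_eq fun r => rfl
  exact Groth.Agent.CommAlg4.SharpGraded.symmetricAlgebra_equiv 𝒜 ε (fun b => b.2)
    (fun n hn a ha => Subtype.ext (DirectSum.decompose_of_mem_ne 𝒜 ha hn))
    (fun a ha => DirectSum.decompose_of_mem_same 𝒜 ha) hsharp

end Groth.Agent.S18239
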