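import Groth.Statements.S18243
import Groth.Agent.Misc15.SqStable
-- import your own Groth.Agent.* helpers here

set_option autoImplicit false
universe u
open CategoryTheory MonoidalCategory CartesianMonoidalCategory AlgebraicGeometry Opposite
open Magnet
open Groth.Agent.Misc15 Groth.Agent.Misc15.MagnetPointsS Groth.Agent.Misc15.AMonCover
open Groth.Agent

namespace Groth.Agent.S18243

/-- Let T be an affine scheme and T̄ → T a first-order thickening, M a finitely generated abelian group,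
N a submonoid of M and F a face of N. Consider the span A(F)_T ← A(F)_T ×_T T̄ → A(N)_T ×_T T̄
formed by the first projection and by the face closed immersion A(F) → A(N) times T̄, everything
with its action of the diagonalizable group scheme D(M)_T (acting trivially on T̄). Then there are a
T-scheme P, affine, with morphisms ν₁ : A(F)_T → P and ν₂ : A(N)_T ×_T T̄ → P forming a push-out
square in T-schemes, and an action of D(M)_T on P for which ν₁ and ν₂ are equivariant, such that P
is also a push-out for equivariant morphisms: for every T-scheme X with an action of D(M)_T and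
equivariant f₁ : A(F)_T → X, f₂ : A(N)_T ×_T T̄ → X agreeing on A(F)_T ×_T T̄, the induced morphism
P → X is equivariant. (Stated for schemes over T; the published statement is in algebraic spaces
over T.) -/
theorem result (T : Scheme.{u}) [IsAffine T] (M : Type) [AddCommGroup M]
    [AddGroup.FG M] {N F : AddSubmonoid M} (hF : Magnet.IsFace N F) (Tb : Over T)
    (hTb : MoreMor.IsFirstOrderThickening Tb.hom) :
    ∃ (P : Over T) (ν₁ : Magnet.AMonS T F ⟶ P) (ν₂ : Magnet.AMonS T N ⊗ Tb ⟶ P)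
      (hP : IsPushout (CartesianMonoidalCategory.fst (Magnet.AMonS T F) Tb) (Magnet.AMonS.faceMap T hF ▷ Tb) ν₁ ν₂)
      (aP : Magnet.MonAct (Magnet.AMonS T M) P),
      IsAffine P.left ∧ Magnet.MonAct.IsEquivariant (Magnet.subAct T M F) aP ν₁ ∧
      Magnet.MonAct.IsEquivariant ((Magnet.subAct T M N).prod (Magnet.MonAct.trivial (Magnet.AMonS T M) Tb)) aP ν₂ ∧
      ∀ (X : Over T) (aX : Magnet.MonAct (Magnet.AMonS T M) X) (f₁ : Magnet.AMonS T F ⟶ X)
        (f₂ : Magnet.AMonS T N ⊗ Tb ⟶ X)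
        (w : CartesianMonoidalCategory.fst (Magnet.AMonS T F) Tb ≫ f₁ = (Magnet.AMonS.faceMap T hF ▷ Tb) ≫ f₂),
        Magnet.MonAct.IsEquivariant (Magnet.subAct T M F) aX f₁ →
        Magnet.MonAct.IsEquivariant ((Magnet.subAct T M N).prod (Magnet.MonAct.trivial (Magnet.AMonS T M) Tb)) aX f₂ →
        Magnet.MonAct.IsEquivariant aP aX (hP.desc f₁ f₂ w) := by
  classical
  obtain ⟨⟨hci, hsur⟩, -⟩ := hTb
  have : IsAffine Tb.left := isAffine_of_isAffineHom Tb.hom
  let K : Type u := Γ(T, ⊤)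
  let Kb : Type u := Γ(Tb.left, ⊤)
  let φ : K →+* Kb := Tb.hom.appTop.hom
  have hφ : Function.Surjective φ :=
    (IsClosedImmersion.isAffine_surjective_of_isAffine (f := Tb.hom)).2
  let sK : Spec (CommRingCat.of K) ⟶ T := T.isoSpec.inv
  let sKb : Spec (CommRingCat.of Kb) ⟶ T := Spec.map (CommRingCat.ofHom φ) ≫ sK
  have hsKb : Tb.left.isoSpec.inv ≫ Tb.hom = sKb := (Scheme.isoSpec_inv_naturality Tb.hom).symm
  let j : Over.mk sKb ≅ Tb := Over.isoMk Tb.left.isoSpec.symm hsKb
  let q : MA K F →+* MA Kb F := MonoidAlgebra.mapRingHom _ φ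
  let p : MA Kb N →+* MA Kb F := FacePushout.faceHom Kb hF
  have hp : Function.Surjective p := fun b => by
    induction b using MonoidAlgebra.induction_linear with
    | zero => exact ⟨0, map_zero _⟩
    | add a b ha hb =>
      obtain ⟨x, rfl⟩ := ha
      obtain ⟨y, rfl⟩ := hb
      exact ⟨x + y, map_add _ _ _⟩
    | single x r =>
      exact ⟨MonoidAlgebra.single (Multiplicative.ofAdd (AddSubmonoid.inclusion hF.le x.toAdd)) r,
        faceAlgHom_single_of_mem Kb hF (AddSubmonoid.inclusion hF.le x.toAdd) x.toAdd.2 r⟩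
  let s := SqStable.fibSq q p hp
  have hcond : q.comp (algebraMap K (MA K F)) = p.comp ((algebraMap Kb (MA Kb N)).comp φ) := by
    rw [← RingHom.comp_assoc, FacePushout.faceHom_algebraMap]
    exact SqStable.mapHom_algebraMap _ φ
  let κ : K →+* SqStable.FibRing q p := s.lift (algebraMap K (MA K F)) ((algebraMap Kb (MA Kb N)).comp φ) hcond
  let sC : Spec (CommRingCat.of (SqStable.FibRing q p)) ⟶ T := KerEval.sp κ ≫ sK
  have hA : KerEval.sp s.f ≫ sC = univBase F K sK := by
    rw [← Category.assoc, ← KerEval.sp_comp, s.f_comp_lift]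
  have hB : KerEval.sp s.g ≫ sC = univBase N Kb sKb := by
    rw [← Category.assoc, ← KerEval.sp_comp, s.g_comp_lift, KerEval.sp_comp, Category.assoc]
  have hD : KerEval.sp s.q ≫ KerEval.sp s.f ≫ sC = univBase F Kb sKb := by
    rw [hA]
    show KerEval.sp q ≫ KerEval.sp (algebraMap K (MA K F)) ≫ sK =
      KerEval.sp (algebraMap Kb (MA Kb F)) ≫ KerEval.sp φ ≫ sK
    rw [← Category.assoc, ← Category.assoc, ← KerEval.sp_comp, ← KerEval.sp_comp]
    exact congrArg (fun w => KerEval.sp w ≫ sK) (SqStable.mapHom_algebraMap _ φ)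
  let kA : Over.mk (KerEval.sp s.f ≫ sC) ≅ Over.mk (univBase F K sK) := Over.isoMk (Iso.refl _) (by simp [hA])
  let kB : Over.mk (KerEval.sp s.g ≫ sC) ≅ Over.mk (univBase N Kb sKb) := Over.isoMk (Iso.refl _) (by simp [hB])
  let kD : Over.mk (KerEval.sp s.q ≫ KerEval.sp s.f ≫ sC) ≅ Over.mk (univBase F Kb sKb) :=
    Over.isoMk (Iso.refl _) (by simp [hD])
  have := isIso_univPoint (N := F) K sK
  have := isIso_univPoint (N := N) Kb sKb
  have := isIso_univPoint (N := F) Kb sKb
  have hfstI : IsIso (fst (AMonS T F) (Over.mk sK)) := by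
    refine ⟨lift (𝟙 _) (Over.homMk ((AMonS T F).hom ≫ T.isoSpec.hom) (by simp [sK])), ?_, by simp⟩
    refine CartesianMonoidalCategory.hom_ext _ _ (by simp) ?_
    apply Over.OverMorphism.ext
    rw [← cancel_mono sK]
    exact (Over.w _).trans (Over.w _).symm
  let eA : Over.mk (KerEval.sp s.f ≫ sC) ≅ AMonS T F := kA ≪≫ asIso (univPoint F K sK (𝟙 _) ≫ fst _ _)
  let eB : Over.mk (KerEval.sp s.g ≫ sC) ≅ AMonS T N ⊗ Tb :=
    kB ≪≫ asIso (univPoint N Kb sKb (𝟙 _)) ≪≫ whiskerLeftIso _ j
  let eD : Over.mk (KerEval.sp s.q ≫ KerEval.sp s.f ≫ sC) ≅ AMonS T F ⊗ Tb :=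
    kD ≪≫ asIso (univPoint F Kb sKb (𝟙 _)) ≪≫ whiskerLeftIso _ j
  have heD : eD.hom = kD.hom ≫ univPoint F Kb sKb j.hom := by
    simp [eD, univPoint]
  have heB : eB.hom = kB.hom ≫ univPoint N Kb sKb j.hom := by
    simp [eB, univPoint]
  have hq : SqStable.qA s sC ≫ eA.hom = eD.hom ≫ fst _ _ := by
    simp only [eA, Iso.trans_hom, asIso_hom, heD, univPoint, Category.assoc, lift_fst]
    refine (Category.assoc _ _ _).symm.trans ?_
    rw [comp_P _ _ q (SqStable.qA s sC ≫ kA.hom) (Category.comp_id _),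
      comp_P _ _ (RingHom.id _) kD.hom (by simp [kD, CommRingCat.ofHom_id, Spec.map_id])]
    congr 1
    refine MonoidHom.ext fun n => ?_
    simp [q, MonoidAlgebra.of_apply]
  have hpB : SqStable.pB s sC ≫ eB.hom = eD.hom ≫ (AMonS.faceMap T hF ▷ Tb) := by
    have e2 : SqStable.pB s sC ≫ kB.hom =
        kD.hom ≫ FacePushout.specHom sKb (FacePushout.faceHom Kb hF) (FacePushout.faceHom_algebraMap Kb hF) :=
      Over.OverMorphism.ext ((Category.comp_id (KerEval.sp s.p)).trans (Category.id_comp (KerEval.sp p)).symm)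
    rw [heB, heD, Category.assoc, ← FacePushout.spec_face_univPoint sKb hF j.hom]
    exact (reassoc_of% e2) (univPoint N Kb sKb j.hom)
  let ν₁ := eA.inv ≫ SqStable.fA s sC
  let ν₂ := eB.inv ≫ SqStable.gB s sC
  have hP : IsPushout (fst (AMonS T F) Tb) (AMonS.faceMap T hF ▷ Tb) ν₁ ν₂ :=
    (SqStable.isPushout₀ s sC).of_iso eD eA eB (Iso.refl _) hq hpB (by simp [ν₁]) (by simp [ν₂])
  let actD := (subAct T M F).prod (MonAct.trivial (AMonS T M) Tb)
  let actN := (subAct T M N).prod (MonAct.trivial (AMonS T M) Tb)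
  have hq' : MonAct.IsEquivariant actD (subAct T M F) (fst _ _) := by
    rw [MonAct.isEquivariant_iff]
    intro T' g x
    rw [← lift_comp_fst_snd x, MonAct.lift_prod_act_assoc, lift_fst, lift_fst]
  have hp' : MonAct.IsEquivariant actD actN (AMonS.faceMap T hF ▷ Tb) := by
    have h := Magnet.isEquivariant_faceMapS (S := T) (M := M) hF
    rw [MonAct.isEquivariant_iff] at h ⊢
    intro T' g x
    rw [← lift_comp_fst_snd x, MonAct.lift_prod_act_assoc, lift_whiskerRight, lift_whiskerRight,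
      MonAct.lift_prod_act, MonAct.lift_trivial_act, Category.assoc, h]
  obtain ⟨aP, h₁, h₂⟩ := SqStable.exists_action s sC (SqStable.conjAct (subAct T M F) eA) (SqStable.conjAct actN eB)
    (SqStable.conjAct actD eD) (SqStable.conjAct_equivariant_of _ _ _ _ _ _ hq hq')
    (SqStable.conjAct_equivariant_of _ _ _ _ _ _ hpB hp')
  refine ⟨Over.mk sC, ν₁, ν₂, hP, aP, inferInstanceAs (IsAffine (Spec _)),
    (SqStable.equivariant_conjAct_inv _ eA).comp h₁, (SqStable.equivariant_conjAct_inv _ eB).comp h₂, ?_⟩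
  intro X aX f₁ f₂ w hf₁ hf₂
  refine SqStable.isEquivariant_of s sC aP aX h₁ h₂ _ ?_ ?_
  · have e : SqStable.fA s sC = eA.hom ≫ ν₁ := (Iso.hom_inv_id_assoc _ _).symm
    rw [e, Category.assoc, hP.inl_desc]
    exact (SqStable.conjAct_isEquivariant _ eA).comp hf₁
  · have e : SqStable.gB s sC = eB.hom ≫ ν₂ := (Iso.hom_inv_id_assoc _ _).symm
    rw [e, Category.assoc, hP.inr_desc]
    exact (SqStable.conjAct_isEquivariant _ eB).comp hf₂

end Groth.Agent.S18243
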