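import Groth.Statements.S18244
import Groth.Agent.Misc15.TPoints
import Groth.Agent.Misc15.FaceHeight
-- import your own Groth.Agent.* helpers here

set_option autoImplicit false
universe u
open CategoryTheory MonoidalCategory CartesianMonoidalCategory AlgebraicGeometry Opposite
open scoped MonObj
open Magnet
open Groth.Agent.Misc15

namespace Groth.Agent.S18244

/-- Let S be a scheme, M a finitely generated abelian group, X a scheme locally of finite presentation
over S with an action of the diagonalizable group scheme D(M)_S, N a finitely generated submonoid of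
M and F a face of N; let ι : X^F → X^N be the canonical section and r : X^N → X^F the face
projection. Then (ι, r) is a strong deformation retract: there is a morphism δ : X^N ×_S 𝔸¹_S → X^N
of functors on S-schemes — here a family of maps X^N(T) × Γ(T, O_T) → X^N(T) natural in T — such
that δ(x, 0) = ι(r(x)), δ(x, 1) = x, and δ(ι(y), c) = ι(y) for all x in X^N(T), y in X^F(T) and
functions c on T. (Stated for schemes; the published statement is for algebraic spaces over S.) -/
theorem result (S : Scheme.{u}) (M : Type) [AddCommGroup M] [AddGroup.FG M]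
    {X : Over S} [LocallyOfFinitePresentation X.hom] (a : Magnet.MonAct (Magnet.AMonS S M) X)
    {N F : AddSubmonoid M} (hN : N.FG) (hF : Magnet.IsFace N F) :
    ∃ δ : ∀ T : Over S, (Magnet.attr a N).obj (op T) → Γ(T.left, ⊤) → (Magnet.attr a N).obj (op T),
      (∀ (T T' : Over S) (t : T' ⟶ T) (x : (Magnet.attr a N).obj (op T)) (c : Γ(T.left, ⊤)),
          δ T' ((Magnet.attr a N).map t.op x) (t.left.appTop c) = (Magnet.attr a N).map t.op (δ T x c)) ∧
      (∀ (T : Over S) (x : (Magnet.attr a N).obj (op T)),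
          δ T x 0 = (Magnet.attrMap a hF.le).app (op T) ((Magnet.attrFace a hF).app (op T) x)) ∧
      (∀ (T : Over S) (x : (Magnet.attr a N).obj (op T)), δ T x 1 = x) ∧
      (∀ (T : Over S) (y : (Magnet.attr a F).obj (op T)) (c : Γ(T.left, ⊤)),
          δ T ((Magnet.attrMap a hF.le).app (op T) y) c = (Magnet.attrMap a hF.le).app (op T) y) := by
  classical
  obtain ⟨h, hh⟩ := FaceHeight.exists_height hN hF
  let w : ∀ T : Over S, Γ(T.left, ⊤) → (Multiplicative N →* Γ(T.left, ⊤)) := fun T c =>
    { toFun := fun n => c ^ h n.toAdd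
      map_one' := by simp
      map_mul' := fun n m => by rw [toAdd_mul, map_add, pow_add] }
  let endo : ∀ T : Over S, Γ(T.left, ⊤) → (Magnet.AMonS S N ⊗ T ⟶ Magnet.AMonS S N ⊗ T) := fun T c =>
    CartesianMonoidalCategory.lift (CartesianMonoidalCategory.fst (Magnet.AMonS S N) T *
      (CartesianMonoidalCategory.snd (Magnet.AMonS S N) T ≫ TPoints.Pt (w T c))) (CartesianMonoidalCategory.snd (Magnet.AMonS S N) T)
  have hendo : ∀ (T : Over S) (c : Γ(T.left, ⊤)) {T' : Over S} (b : T' ⟶ Magnet.AMonS S N) (t : T' ⟶ T),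
      lift b t ≫ endo T c = lift (b * (t ≫ TPoints.Pt (w T c))) t := by
    intro T c T' b t
    simp [endo, MonObj.comp_mul]
  have heq : ∀ (T : Over S) (c : Γ(T.left, ⊤)) (x : (Magnet.attr a N).obj (op T)),
      Magnet.MonAct.IsEquivariant ((Magnet.subAct S M N).prod (Magnet.MonAct.trivial (Magnet.AMonS S M) T)) a
        (endo T c ≫ x.1) := by
    intro T c x
    rw [Magnet.MonAct.mem_eqvHom_iff]
    intro T' g b t
    have h1 := (Magnet.MonAct.mem_eqvHom_iff x.1).1 x.2 T' g (b * (t ≫ TPoints.Pt (w T c))) t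
    simp only [← Category.assoc, hendo]
    refine Eq.trans ?_ h1
    unfold Magnet.subAct
    rw [Magnet.MonAct.lift_restrict_act, Magnet.MonAct.lift_regular_act, Magnet.MonAct.lift_restrict_act,
      Magnet.MonAct.lift_regular_act, _root_.mul_assoc]
  refine ⟨fun T x c => ⟨endo T c ≫ x.1, heq T c x⟩, fun T T' t x c => ?_, fun T x => ?_, fun T x => ?_,
    fun T y c => ?_⟩
  · apply Subtype.ext
    show endo T' (t.left.appTop c) ≫ (Magnet.AMonS S N ◁ t) ≫ x.1 = (Magnet.AMonS S N ◁ t) ≫ endo T c ≫ x.1
    rw [← Category.assoc, ← Category.assoc]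
    congr 1
    apply hom_ext_lift₂
    intro T'' b s
    rw [← Category.assoc, hendo, lift_whiskerLeft, lift_whiskerLeft_assoc, hendo, Category.assoc,
      TPoints.comp_Pt' t]
    congr 4
    refine MonoidHom.ext fun n => ?_
    exact (map_pow t.left.appTop.hom c _).symm
  · apply Subtype.ext
    show endo T 0 ≫ x.1 =
      (Magnet.AMonS.map S (AddSubmonoid.inclusion hF.le) ▷ T) ≫ (Magnet.AMonS.faceMap S hF ▷ T) ≫ x.1
    rw [← comp_whiskerRight_assoc]
    congr 1
    apply hom_ext_lift₂
    intro T' b t
    rw [hendo, lift_whiskerRight]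
    congr 1
    refine AMonCover.hom_ext_affine _ _ fun K _ sK r => ?_
    letI := MagnetPoints.algZ K
    obtain ⟨χ, hχ⟩ := MagnetPointsS.P_surjective sK (r ≫ b)
    rw [MonObj.comp_mul, ← Category.assoc r t, TPoints.comp_Pt, ← Category.assoc r b, ← hχ, ← Category.assoc,
      MagnetPointsS.P_comp_map, TPoints.P_comp_faceMap, MagnetPointsS.P_mul]
    congr 1
    refine MonoidHom.ext fun n => ?_
    obtain ⟨n, rfl⟩ : ∃ m, Multiplicative.ofAdd m = n := ⟨n.toAdd, rfl⟩
    show χ _ * (Scheme.ΓSpecIso (CommRingCat.of K)).hom.hom ((r ≫ t).left.appTop.hom ((0 : Γ(T.left, ⊤)) ^ h n)) = _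
    by_cases hn : (n : M) ∈ F
    · rw [(hh n).2 hn, pow_zero, map_one, map_one, _root_.mul_one]
      simp [MagnetPoints.charEquiv, Magnet.faceAlgHom_single_of_mem _ hF n hn]
      erw [Algebra.smul_def, map_one, _root_.one_mul]; rfl
    · rw [zero_pow (mt (hh n).1 hn), map_zero, map_zero, mul_zero]
      simp [MagnetPoints.charEquiv, Magnet.faceAlgHom_single_of_not_mem _ hF n hn]
  · apply Subtype.ext
    show endo T 1 ≫ x.1 = x.1
    have : endo T 1 = 𝟙 _ := by
      apply hom_ext_lift₂
      intro T' b t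
      have e : w T 1 = 1 := MonoidHom.ext fun n => one_pow _
      rw [hendo, e, TPoints.Pt_one, MonObj.comp_one, _root_.mul_one, Category.comp_id]
    rw [this, Category.id_comp]
  · apply Subtype.ext
    show endo T c ≫ (Magnet.AMonS.map S (AddSubmonoid.inclusion hF.le) ▷ T) ≫ y.1 =
      (Magnet.AMonS.map S (AddSubmonoid.inclusion hF.le) ▷ T) ≫ y.1
    rw [← Category.assoc]
    congr 1
    apply hom_ext_lift₂
    intro T' b t
    have e : (w T c).comp (AddMonoidHom.toMultiplicative (AddSubmonoid.inclusion hF.le)) = 1 := MonoidHom.ext fun n => by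
      show c ^ h (AddSubmonoid.inclusion hF.le n.toAdd) = 1
      rw [(hh _).2 n.toAdd.2, pow_zero]
    rw [← Category.assoc, hendo, lift_whiskerRight, lift_whiskerRight, MonObj.mul_comp, Category.assoc,
      TPoints.Pt_comp_map, e, TPoints.Pt_one, MonObj.comp_one, _root_.mul_one]

end Groth.Agent.S18244
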