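import Groth.Statements.S18248
import Groth.Agent.Clifford24.UTangent

set_option autoImplicit false
universe u
open W4c5m1nsnscurves
open Curves

open Groth.Agent.Clifford24.UTangent
namespace Groth.Agent.S18248

/-- Let m ≥ 2, so that n = m + 3 ≥ 5 points are marked. For every field k, the Zariski cotangent space
of U_n over k at the origin, that is I/I² for the ideal I of the coordinate ring of U_n over k
generated by the classes of all the generators a, c, c̄, c_i, c̄_i, c_{ij}, has dimension (n − 1)(n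
− 2)/2 = (m + 2)(m + 1)/2 over k; and the weight-one classes a, c_i, c̄_i (all indices i) and c_{ij}
(i < j) generate the coordinate ring of U_n over ℤ as a ℤ-algebra (so they form a minimal generating
set). -/
theorem result (m : ℕ) (hm : 2 ≤ m) :
    (∀ (k : Type u) [Field k], Module.finrank k (uorigin k m).Cotangent = (m + 2) * (m + 1) / 2) ∧
    Algebra.adjoin ℤ ({ugen ℤ m .a} ∪ Set.range (fun i : Fin m => ugen ℤ m (.ci i)) ∪
        Set.range (fun i : Fin m => ugen ℤ m (.cbi i)) ∪
        Set.range (fun q : {q : Fin m × Fin m // q.1 < q.2} => ugen ℤ m (.cij q.1.1 q.1.2 (ne_of_lt q.2)))) = ⊤ := by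
  refine ⟨fun k _ => by rw [finrank_cotangent k hm, card_W], ?_⟩
  set A := Algebra.adjoin ℤ ({ugen ℤ m .a} ∪ Set.range (fun i : Fin m => ugen ℤ m (.ci i)) ∪
        Set.range (fun i : Fin m => ugen ℤ m (.cbi i)) ∪
        Set.range (fun q : {q : Fin m × Fin m // q.1 < q.2} => ugen ℤ m (.cij q.1.1 q.1.2 (ne_of_lt q.2)))) with hA
  have ha : ugen ℤ m .a ∈ A := Algebra.subset_adjoin (Or.inl (Or.inl (Or.inl rfl)))
  have hc : ∀ i, ugen ℤ m (.ci i) ∈ A := fun i => Algebra.subset_adjoin (Or.inl (Or.inl (Or.inr ⟨i, rfl⟩)))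
  have hb : ∀ i, ugen ℤ m (.cbi i) ∈ A := fun i => Algebra.subset_adjoin (Or.inl (Or.inr ⟨i, rfl⟩))
  have hij : ∀ i j h, ugen ℤ m (.cij i j h) ∈ A := by
    intro i j h
    rcases lt_or_gt_of_ne h with hl | hl
    · exact Algebra.subset_adjoin (Or.inr ⟨⟨(i, j), hl⟩, rfl⟩)
    · have h' : ugen ℤ m (.cij j i h.symm) ∈ A := Algebra.subset_adjoin (Or.inr ⟨⟨(j, i), hl⟩, rfl⟩)
      rw [eq_sub_of_add_eq (relLin ℤ m i j h)]
      exact sub_mem (add_mem (add_mem (add_mem (add_mem ha (hc i)) (hb i)) (hc j)) (hb j)) h'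
  have hne : (⟨0, by omega⟩ : Fin m) ≠ ⟨1, by omega⟩ := by simp
  rw [eq_top_iff]
  intro x _
  obtain ⟨p, rfl⟩ := Ideal.Quotient.mk_surjective x
  induction p using MvPolynomial.induction_on with
  | C r => exact Subalgebra.algebraMap_mem A r
  | add p q hp hq => rw [map_add]; exact add_mem (hp trivial) (hq trivial)
  | mul_X p g hp =>
    rw [map_mul]
    refine mul_mem (hp trivial) ?_
    show ugen ℤ m g ∈ A
    cases g with
    | a => exact ha
    | c =>
      rw [relC ℤ m _ _ hne]
      exact sub_mem (add_mem (mul_mem (hij _ _ _) (hc _)) (mul_mem (hij _ _ _) (hc _))) (mul_mem (hc _) (hc _))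
    | cb =>
      rw [relCb ℤ m _ _ hne]
      exact sub_mem (add_mem (mul_mem (hij _ _ _) (hb _)) (mul_mem (hij _ _ _) (hb _))) (mul_mem (hb _) (hb _))
    | ci i => exact hc i
    | cbi i => exact hb i
    | cij i j h => exact hij i j h

end Groth.Agent.S18248
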