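import Groth.Statements.S18253
import Groth.Agent.RegStrict13.Main

set_option autoImplicit false
universe u
open BlowUp

namespace Groth.Agent.S18253

open AlgebraicGeometry CategoryTheory in
/-- Let Z be a locally Noetherian scheme and W, Y ⊆ Z closed subschemes with quasi-coherent ideals I_W
and I_Y such that the four closed immersions W → Z, Y → Z, W ∩ Y → Y and W ∩ Y → W are regular (each
ideal is generated, on some affine open around every point of the subscheme, by a regular sequence).
Let b : Z' → Z be a blowing up of Z in I_W, let b' : Y' → Y be a blowing up of Y in the inverse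
image ideal I_W·O_Y (the blowing up of Y along W ∩ Y), and let k : Y' → Z' be the morphism with k ≫
b = b' ≫ (Y → Z); its image is the strict transform of Y. Then k is a regular immersion: an
immersion whose ideal is generated, on some affine open of Z' around every point of Y', by a regular
sequence. (The published statement is for schemes of finite type over a field; this row assumes only
that Z is locally Noetherian.) -/
theorem result
    {Z Z' Y' : Scheme.{u}} [IsLocallyNoetherian Z] (𝓘W 𝓘Y : Z.IdealSheafData)
    (hW : RegImm.IsRegularIdeal RegImm.Kind.regular 𝓘W)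
    (hY : RegImm.IsRegularIdeal RegImm.Kind.regular 𝓘Y)
    (hXY : RegImm.IsRegularIdeal RegImm.Kind.regular (𝓘W.comap 𝓘Y.subschemeι))
    (hXW : RegImm.IsRegularIdeal RegImm.Kind.regular (𝓘Y.comap 𝓘W.subschemeι))
    (b : Z' ⟶ Z) (hb : BlowUp.IsBlowUp b 𝓘W)
    (b' : Y' ⟶ 𝓘Y.subscheme) (hb' : BlowUp.IsBlowUp b' (𝓘W.comap 𝓘Y.subschemeι))
    (k : Y' ⟶ Z') (hk : k ≫ b = b' ≫ 𝓘Y.subschemeι) :
    RegImm.IsRegularImmersion RegImm.Kind.regular k := by
  exact Groth.Agent.RegStrict13.isRegularImmersion 𝓘W 𝓘Y hW hY hXY hXW b hb b' hb' k hk

end Groth.Agent.S18253
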