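import Groth.Statements.S18256
import Groth.Agent.ArtFunLib.Basic
import Mathlib.RingTheory.Flat.Basic
import Mathlib.RingTheory.LocalRing.Module
-- import your own Groth.Agent.* helpers here

set_option autoImplicit false
universe u
open ArtFun

namespace Groth.Agent.S18256

open Groth.Agent.ArtFunLib IsLocalRing in
theorem aux (R : Type u) [CommRing R] [IsArtinianRing R] [IsLocalRing R]
    (k : Type u) [Field k] [Algebra R k] (hk : Function.Surjective (algebraMap R k))
    (M : Type u) [AddCommGroup M] [Module R M] [Module.Finite R M]
    (h : ∀ (A' A : ArtFun.Art R k) (p : A' ⟶ A), ArtFun.Art.IsSmallExt p →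
      Function.Injective
        (LinearMap.lTensor M (((RingHom.ker p.toAlgHom).restrictScalars R).subtype))) :
    Module.Free R M := by
  classical
  let C : ArtFun.Art R k := { carrier := R, res := Algebra.ofId R k, res_surjective := hk }
  have key : ∀ I : Ideal R, I ≤ maximalIdeal R → Function.Injective (LinearMap.lTensor M I.subtype) := by
    intro I hI
    obtain ⟨J, ⟨hJI, hJ⟩, hmax⟩ :=
      WellFounded.has_min (r := ((· > ·) : Ideal R → Ideal R → Prop)) wellFounded_gt
        {J | J ≤ I ∧ Function.Injective (LinearMap.lTensor M J.subtype)}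
        ⟨⊥, bot_le, fun a b _ => Subsingleton.elim a b⟩
    obtain rfl | hne := eq_or_ne J I
    · exact hJ
    exfalso
    obtain ⟨x, hxI, hxJ, hx⟩ := exists_socle (A := C) hJI hne
    have hJm : J ≤ maximalIdeal C := hJI.trans hI
    let L : Ideal R := J ⊔ Ideal.span {x}
    have hLI : L ≤ I := sup_le hJI ((Ideal.span_singleton_le_iff_mem _).2 hxI)
    have hLm : L ≤ maximalIdeal C := hLI.trans hI
    have hJL : J ≤ RingHom.ker (ArtFun.Art.quotMk C L hLm).toAlgHom := fun a ha =>
      Ideal.Quotient.eq_zero_iff_mem.2 (Ideal.mem_sup_left ha)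
    have hsm := isSmallExt_quot_step (C := C) hJm hxJ hx hLm hJL
    set q := ArtFun.Art.quotFactor hJm (ArtFun.Art.quotMk C L hLm) hJL with hq
    let T := (RingHom.ker q.toAlgHom).restrictScalars R
    let ρ : ↥L →ₗ[R] ↥T :=
      LinearMap.codRestrict T ((Ideal.Quotient.mkₐ R J).toLinearMap.comp L.subtype) fun a =>
        RingHom.mem_ker.2 (Ideal.Quotient.eq_zero_iff_mem.2 a.2)
    have hρ : Function.Surjective ρ := by
      rintro ⟨z, hz⟩
      obtain ⟨a, rfl⟩ := Ideal.Quotient.mk_surjective z
      exact ⟨⟨a, Ideal.Quotient.eq_zero_iff_mem.1 (RingHom.mem_ker.1 hz)⟩, rfl⟩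
    let incl : ↥J →ₗ[R] ↥L := Submodule.inclusion le_sup_left
    have hex : Function.Exact incl ρ := by
      intro a
      constructor
      · intro ha
        exact ⟨⟨a, Ideal.Quotient.eq_zero_iff_mem.1 (congrArg Subtype.val ha)⟩, Subtype.ext rfl⟩
      · rintro ⟨b, rfl⟩
        exact Subtype.ext (Ideal.Quotient.eq_zero_iff_mem.2 b.2)
    have hL : Function.Injective (LinearMap.lTensor M L.subtype) := by
      refine (injective_iff_map_eq_zero _).2 fun z hz => ?_
      have h1 : LinearMap.lTensor M T.subtype (LinearMap.lTensor M ρ z) = 0 := by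
        have e : T.subtype.comp ρ = (Ideal.Quotient.mkₐ R J).toLinearMap.comp L.subtype :=
          LinearMap.ext fun _ => rfl
        exact (LinearMap.lTensor_comp_apply M T.subtype ρ z).symm.trans
          ((congrArg (fun f => LinearMap.lTensor M f z) e).trans
            ((LinearMap.lTensor_comp_apply M (Ideal.Quotient.mkₐ R J).toLinearMap L.subtype z).trans
              ((congrArg _ hz).trans (map_zero _))))
      have h2 : LinearMap.lTensor M ρ z = 0 := h _ _ q hsm (h1.trans (map_zero _).symm)
      obtain ⟨w, rfl⟩ := (lTensor_exact M hex hρ z).1 h2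
      have h3 : LinearMap.lTensor M J.subtype w = 0 := by
        rw [← hz, ← LinearMap.comp_apply, ← LinearMap.lTensor_comp]
        rfl
      rw [(injective_iff_map_eq_zero _).1 hJ w h3, map_zero]
    exact hmax L ⟨hLI, hL⟩ (lt_of_le_of_ne le_sup_left fun e => hxJ
      (e ▸ Ideal.mem_sup_right (Ideal.mem_span_singleton_self x)))
  have : Module.Flat R M := Module.Flat.iff_lTensor_injective'.2 fun I => by
    rcases eq_or_ne I ⊤ with rfl | hI
    · exact (LinearEquiv.lTensor M (Submodule.topEquiv (R := R) (M := R))).injective
    · exact key I (IsLocalRing.le_maximalIdeal hI)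
  exact Module.free_of_flat_of_isLocalRing

open CategoryTheory TensorProduct in
/-- Let R be an Artinian local ring with residue field k and M a finitely generated R-module. Suppose
that for every small extension p : A' → A of local Artinian R-algebras with residue field k (p
surjective, its kernel I a nonzero principal ideal killed by the maximal ideal of A'), the map M ⊗_R
I → M ⊗_R A' induced by the inclusion I ⊆ A' is injective (equivalently, the sequence 0 → M ⊗_R I →
M ⊗_R A' → M ⊗_R A → 0 is exact). Then M is a free R-module. (The printed conclusion reads free over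
the residue field; the proof establishes freeness over R, which is what is stated here.) -/
theorem result
    (R : Type u) [CommRing R] [IsArtinianRing R] [IsLocalRing R]
    (k : Type u) [Field k] [Algebra R k] (hk : Function.Surjective (algebraMap R k))
    (M : Type u) [AddCommGroup M] [Module R M] [Module.Finite R M]
    (h : ∀ (A' A : ArtFun.Art R k) (p : A' ⟶ A), ArtFun.Art.IsSmallExt p →
      Function.Injective
        (LinearMap.lTensor M (((RingHom.ker p.toAlgHom).restrictScalars R).subtype))) :
    Module.Free R M := by
  exact aux R k hk M h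

end Groth.Agent.S18256
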