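import Groth.Statements.S18258
import Groth.Agent.Units14.Split

set_option autoImplicit false
universe u
open UnitsSh

namespace Groth.Agent.S18258

open CategoryTheory CategoryTheory.Limits AlgebraicGeometry in
/-- In the case of the multiplicative group, for schemes and with Zariski cohomology of the sheaf of
units. Let k be a field, X₀ a k-scheme, X' = X₀ ×_k Spec k[ε] (k[ε] the dual numbers) and i : X ⟶ X'
the closed subscheme ε = 0 (base change of X' along k[ε] → k, a copy of X₀). Then for every q the
kernel of the map H^q(X', O_{X'}^×) → H^q(X', i_* O_X^×) induced by the units map of i — the tangent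
space at the origin of the functor A ↦ H^q(X₀ ⊗_k A, O^×) on local Artinian k-algebras — is
isomorphic, as an additive group, to H^q(X, O_X). (Existence of an isomorphism only. The published
statement covers any smooth commutative group scheme in place of the multiplicative group, with the
Lie algebra of its closed fibre in place of the structure sheaf, and uses étale cohomology.) -/
theorem result
    (k : Type u) [Field k] (X₀ : Scheme.{u}) [X₀.Over (Spec (CommRingCat.of k))] (q : ℕ) :
    Nonempty ((Sheaf.H.map (UnitsSh.comap (pullback.fst (pullback.snd (X₀ ↘ Spec (CommRingCat.of k)) (Spec.map (CommRingCat.ofHom (algebraMap k (DualNumber k))))) (Spec.map (CommRingCat.ofHom (TrivSqZeroExt.fstHom k k k).toRingHom)))) q).ker ≃+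
      Coh.HH (pullback (pullback.snd (X₀ ↘ Spec (CommRingCat.of k)) (Spec.map (CommRingCat.ofHom (algebraMap k (DualNumber k))))) (Spec.map (CommRingCat.ofHom (TrivSqZeroExt.fstHom k k k).toRingHom))) (Coh.structureModule (pullback (pullback.snd (X₀ ↘ Spec (CommRingCat.of k)) (Spec.map (CommRingCat.ofHom (algebraMap k (DualNumber k))))) (Spec.map (CommRingCat.ofHom (TrivSqZeroExt.fstHom k k k).toRingHom)))) q) := by
  let φ : DualNumber k →+* k := (TrivSqZeroExt.fstHom k k k).toRingHom
  let p := pullback.snd (X₀ ↘ Spec (CommRingCat.of k))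
    (Spec.map (CommRingCat.ofHom (algebraMap k (DualNumber k))))
  let i := Groth.Agent.Units14.imm p φ
  have hφ : Function.Surjective φ := fun x => ⟨TrivSqZeroExt.inl x, TrivSqZeroExt.fst_inl k x⟩
  have hker : ∀ x : DualNumber k, x ∈ RingHom.ker φ ↔ x.fst = 0 := fun x => Iff.rfl
  have heps : (DualNumber.eps : DualNumber k) ∈ RingHom.ker φ := (hker _).2 DualNumber.fst_eps
  have hgen : RingHom.ker φ ≤ Ideal.span {(DualNumber.eps : DualNumber k)} := fun x hx =>
    Ideal.mem_span_singleton.2 ⟨TrivSqZeroExt.inl x.snd, by
      ext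
      · rw [TrivSqZeroExt.fst_mul, DualNumber.fst_eps, zero_mul, (hker x).1 hx]
      · rw [TrivSqZeroExt.snd_mul, DualNumber.fst_eps, DualNumber.snd_eps, TrivSqZeroExt.fst_inl,
          TrivSqZeroExt.snd_inl]
        simp⟩
  have hcol : ∀ a : DualNumber k, a * DualNumber.eps = 0 ↔ a ∈ RingHom.ker φ := fun a => by
    rw [hker]
    have h2 : (a * DualNumber.eps : DualNumber k).snd = a.fst := by
      rw [TrivSqZeroExt.snd_mul, DualNumber.fst_eps, DualNumber.snd_eps]; simp
    refine ⟨fun h => by rw [← h2, h]; rfl, fun h => ?_⟩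
    ext
    · rw [TrivSqZeroExt.fst_mul, DualNumber.fst_eps, mul_zero]; rfl
    · rw [h2, h]; rfl
  have hn : RingHom.ker φ ≤ nilradical (DualNumber k) := hgen.trans (by
    rw [Ideal.span_le, Set.singleton_subset_iff]
    exact mem_nilradical.2 ⟨2, by rw [pow_two, DualNumber.eps_mul_eps]⟩)
  have : Flat (X₀ ↘ Spec (CommRingCat.of k)) := inferInstance
  have : Flat p := MorphismProperty.pullback_snd _ _ inferInstance
  obtain ⟨e⟩ := Groth.Agent.Units14.nonempty_H_PU p hφ hφ DualNumber.eps heps hgen DualNumber.eps_mul_eps hcol q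
  have hcomp : Spec.map (CommRingCat.ofHom φ) ≫
      Spec.map (CommRingCat.ofHom (algebraMap k (DualNumber k))) = 𝟙 _ := by
    rw [← Spec.map_comp, ← CommRingCat.ofHom_comp,
      show φ.comp (algebraMap k (DualNumber k)) = RingHom.id k from RingHom.ext fun x =>
        TrivSqZeroExt.fst_inl k x]
    exact Spec.map_id _
  have hsq := (IsPullback.of_hasPullback p (Spec.map (CommRingCat.ofHom φ))).paste_horiz
    (IsPullback.of_hasPullback (X₀ ↘ Spec (CommRingCat.of k))
      (Spec.map (CommRingCat.ofHom (algebraMap k (DualNumber k)))))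
  rw [hcomp] at hsq
  have : IsIso (i ≫ pullback.fst _ _) := hsq.isIso_fst_of_isIso
  obtain ⟨σ, hσ⟩ := Groth.Agent.Units14.exists_section_comap i
    (pullback.fst _ _ ≫ inv (i ≫ pullback.fst _ _)) (by rw [← Category.assoc, IsIso.hom_inv_id]) (by
      intro x
      have hx : x ∈ Set.range i := by
        rw [Scheme.Pullback.range_fst, Set.mem_preimage]
        refine (range_comap_of_surjective _ φ hφ).ge ?_
        intro y hy
        exact (nilradical_le_prime (p x).asIdeal) (hn hy)
      exact hx)
  obtain ⟨e'⟩ := Groth.Agent.Units14.nonempty_ker_equiv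
    (Groth.Agent.Units14.shortExact_comap p hφ hn) σ hσ q
  exact ⟨e'.symm.trans e⟩

end Groth.Agent.S18258
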