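import Groth.Statements.S18263
import Groth.Agent.CommAlg4.FormCriteria
-- import your own Groth.Agent.* helpers here

set_option autoImplicit false
universe u
open InvQ

namespace Groth.Agent.S18263

/-- Let k be an algebraically closed field in which m! is non-zero, n ≥ 1 and m ≤ n natural numbers, and
p_1, …, p_m non-zero vectors of k^(n+1), an ordered configuration of m points of projective n-space,
encoded by the product π = ∏_i (Σ_j p_i,j x_j) of its linear forms, on which the special linear
group SL(n+1) acts by substitution; let a be the point of the affine space of degree-m forms in n +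
1 variables whose form is π. Then a is not stable for SL(n+1): a configuration of at most n points
of projective n-space is never stable. (The case n = 0 is excluded: there the group is trivial and
the empty configuration is stable. The published statement allows any characteristic; this row
assumes m! non-zero in k, as the space of forms used here requires.) -/
theorem result (k : Type u) [Field k] [IsAlgClosed k] (n m : ℕ) (hn : 1 ≤ n) (hmn : m ≤ n)
    (hm : (Nat.factorial m : k) ≠ 0) (p : Fin m → Fin (n + 1) → k) (hp : ∀ i, p i ≠ 0)
    (a : CoordGrp.FormIdx (n + 1) m → k)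
    (ha : CoordGrp.formPoly a = ∏ i, ∑ j, MvPolynomial.C (p i j) * MvPolynomial.X j) :
    ¬ @GLin.IsStableVec k _ (CoordGrp.SLn (n + 1) k) _ _ (CoordGrp.FormIdx (n + 1) m)
      (GLin.comodAlong ((CoordGrp.SLn.mkHom (n + 1) k).comp (CoordGrp.Mat.toGLn (n + 1) k)) (CoordGrp.formsCoact k (n + 1) m))
      (GLin.isCoactAlg_comodAlong ((CoordGrp.SLn.mkHom (n + 1) k).comp (CoordGrp.Mat.toGLn (n + 1) k)) (CoordGrp.formsCoact k (n + 1) m) (CoordGrp.formsCoact_isCoactAlg k (n + 1) m)) a := by
  classical
  rcases Nat.eq_zero_or_pos m with rfl | hm0
  · intro hst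
    let r : Fin (n + 1) → ℤ := fun i => if i = 0 then -(n : ℤ) else 1
    refine Groth.Agent.CommAlg4.FormAct.not_isStableVec_of_weights hm a 1 (by simp) r ?_
      (fun h => by have := congrFun h 0; simp [r] at this; omega) (fun e he => ?_) hst
    · simp [r, Finset.sum_ite, Finset.filter_eq', Finset.filter_ne', Finset.card_erase_of_mem]
    · rw [Groth.Agent.CommAlg4.FormAct.subst_one, MvPolynomial.mem_support_iff] at he
      have hd : e.degree = 0 := by
        by_contra h
        exact he ((Groth.Agent.CommAlg4.FormAct.isHomogeneous_formPoly a).coeff_eq_zero h)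
      rw [(Finsupp.degree_eq_zero_iff e).1 hd]
      simp
  · let W : Submodule k (Fin (n + 1) → k) := Submodule.span k (Set.range p)
    have hrk : Module.finrank k W ≤ m := (finrank_range_le_card p).trans (Fintype.card_fin m).le
    refine Groth.Agent.CommAlg4.FormAct.not_isStableVec_config hm p a ha W ?_ ?_ ?_
    · intro h
      apply hp ⟨0, hm0⟩
      have h1 : p ⟨0, hm0⟩ ∈ W := Submodule.subset_span ⟨_, rfl⟩
      rwa [h, Submodule.mem_bot] at h1
    · intro h
      rw [h, finrank_top, Module.finrank_fin_fun] at hrk
      omega
    · rw [Nat.card_congr (Equiv.subtypeUnivEquiv (p := fun i => p i ∈ W) fun i => Submodule.subset_span ⟨i, rfl⟩), Nat.card_fin]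
      exact Nat.mul_le_mul_left m (by omega)

end Groth.Agent.S18263
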