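import Groth.Statements.S18265
import Mathlib.RingTheory.IntegralClosure.IntegrallyClosed
import Mathlib.RingTheory.Polynomial.UniqueFactorization
import Mathlib.RingTheory.Polynomial.RationalRoot
import Mathlib.RingTheory.Localization.FractionRing
-- import your own Groth.Agent.* helpers here

set_option autoImplicit false
universe u
open InvQ

namespace Groth.Agent.S18265

/-- Let k be an algebraically closed field and n, m natural numbers, and let R be the ring of polynomial
functions of m vectors of k^(n+1) invariant under the special linear group SL(n+1, k) acting on all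
the vectors at once and under the rescalings of the individual vectors by units with product 1
(equivalently: invariant and homogeneous of one and the same degree in each vector) — the graded
ring of invariant sections whose Proj is the quotient variety of ordered m-point sets in projective
n-space. Then R is integrally closed in its field of fractions; hence that quotient variety is
normal. (Only the normality assertion of the source's statement is given here; its dimension,
rationality and singular-locus assertions are not.) -/
theorem result (k : Type u) [Field k] [IsAlgClosed k] (n m : ℕ) :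
    IsIntegrallyClosed (W4c5pointsetsdelpezzo.invRing k n m) := by
  classical
  set S := W4c5pointsetsdelpezzo.TupleRing k n m
  set C := W4c5pointsetsdelpezzo.invRing k n m with hCdef
  have hmem : ∀ f : S, f ∈ C ↔
      (∀ g, W4c5pointsetsdelpezzo.slSubst k n m g f = f) ∧
        ∀ s : {s : Fin m → kˣ // ∏ i, s i = 1}, W4c5pointsetsdelpezzo.colScale k n m s.1 f = f := fun f => by
    simp [hCdef, W4c5pointsetsdelpezzo.invRing, Algebra.mem_inf, Algebra.mem_iInf, AlgHom.mem_equalizer]
    rfl
  have hcancel : ∀ g ∈ C, g ≠ 0 → ∀ h : S, g * h ∈ C → h ∈ C := by
    intro g hg hg0 h hgh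
    rw [hmem] at hg hgh ⊢
    refine ⟨fun σ => ?_, fun s => ?_⟩
    · have := hgh.1 σ
      rw [map_mul, hg.1 σ] at this
      exact mul_left_cancel₀ hg0 this
    · have := hgh.2 s
      rw [map_mul, hg.2 s] at this
      exact mul_left_cancel₀ hg0 this
  rw [isIntegrallyClosed_iff (FractionRing C)]
  intro x hx
  obtain ⟨f, g, hg, rfl⟩ := IsFractionRing.div_surjective (A := C) x
  let e : C →+* FractionRing S := (algebraMap S (FractionRing S)).comp C.val.toRingHom
  have he : Function.Injective e := (IsFractionRing.injective S (FractionRing S)).comp Subtype.val_injective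
  let ι : FractionRing C →+* FractionRing S := IsFractionRing.lift he
  have hι : ∀ c : C, ι (algebraMap C (FractionRing C) c) = algebraMap S (FractionRing S) (c : S) :=
    fun c => IsFractionRing.lift_algebraMap he c
  have hint : IsIntegral S (ι (algebraMap C (FractionRing C) f / algebraMap C (FractionRing C) g)) := by
    obtain ⟨p, hp, hp'⟩ := hx
    refine ⟨p.map C.val.toRingHom, hp.map _, ?_⟩
    rw [Polynomial.eval₂_map, show (algebraMap S (FractionRing S)).comp C.val.toRingHom =
      ι.comp (algebraMap C (FractionRing C)) from RingHom.ext fun c => (hι c).symm, ← Polynomial.hom_eval₂, hp',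
      map_zero]
  obtain ⟨h, hh⟩ := IsIntegrallyClosed.isIntegral_iff.1 hint
  have hg0 : g ≠ 0 := nonZeroDivisors.ne_zero hg
  have hgS : (g : S) ≠ 0 := fun e0 => hg0 (Subtype.ext e0)
  have hgne : algebraMap S (FractionRing S) (g : S) ≠ 0 :=
    fun e0 => hgS (IsFractionRing.injective S (FractionRing S) (e0.trans (map_zero _).symm))
  rw [map_div₀, hι, hι, eq_div_iff hgne, ← map_mul] at hh
  have hfg : (g : S) * h = f := by rw [mul_comm]; exact IsFractionRing.injective S (FractionRing S) hh
  have hh' : h ∈ C := hcancel g g.2 hgS h (hfg ▸ f.2)
  refine ⟨⟨h, hh'⟩, ι.injective ?_⟩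
  rw [map_div₀, hι, hι, hι, eq_div_iff hgne, ← map_mul, mul_comm]
  exact congrArg _ hfg
end Groth.Agent.S18265
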