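import Groth.Statements.S18266
import Groth.Agent.Desc19b.FlatClosure

set_option autoImplicit false
universe u
open CategoryTheory AlgebraicGeometry
open FDesc

set_option backward.isDefEq.respectTransparency.types false
set_option backward.isDefEq.respectTransparency false

namespace Groth.Agent.S18266


/-- Let A be a discrete valuation ring, η the generic point of Spec A, and f : X → Spec A a morphism
from an arbitrary scheme X. The scheme-theoretic closure of the generic fibre X_η in X (the flat
completion) is flat over Spec A, and it is the largest closed subscheme of X flat over Spec A: for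
every closed immersion i : Z → X with Z flat over Spec A, the ideal sheaf of the flat completion is
contained in the ideal sheaf of i. -/
theorem result (A : Type u) [CommRing A] [IsDomain A]
    [IsDiscreteValuationRing A] {X : Scheme.{u}} (f : X ⟶ Spec (CommRingCat.of A))
    (η : ↥(Spec (CommRingCat.of A))) (hη : η.asIdeal = ⊥) :
    Flat ((f.fiberι η).imageι ≫ f) ∧
      ∀ (Z : Scheme.{u}) (i : Z ⟶ X), IsClosedImmersion i → Flat (i ≫ f) → (f.fiberι η).ker ≤ i.ker := by
  haveI : IsIntegral (Spec (CommRingCat.of A)) := inferInstance
  have hη' : genericPoint (Spec (CommRingCat.of A)) = η := by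
    refine (genericPoint_specializes η).antisymm ?_ |>.eq
    show η ⤳ _
    rw [← PrimeSpectrum.le_iff_specializes]
    show η.asIdeal ≤ _
    rw [hη]
    exact bot_le
  subst hη'
  have hP : ∀ y : ↥(Spec (CommRingCat.of A)), IsPrincipalIdealRing ((Spec (CommRingCat.of A)).presheaf.stalk y) := fun y => by
    show IsPrincipalIdealRing ((Spec.structureSheaf A).presheaf.stalk y)
    let φ := algebraMap A ((Spec.structureSheaf A).presheaf.stalk y)
    refine ⟨fun J => ⟨φ (Submodule.IsPrincipal.generator (J.under A)), ?_⟩⟩
    conv_lhs => rw [← IsLocalization.map_comap y.asIdeal.primeCompl _ J,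
      ← Ideal.span_singleton_generator (J.under A), Ideal.map_span, Set.image_singleton]
  haveI := Desc19b.quasiCompact_fiberι f
  haveI : Flat (f.fiberι (genericPoint (Spec (CommRingCat.of A))) ≫ f) := by
    simpa using Desc19b.flat_comp_fiberι f (𝟙 _)
  refine ⟨Desc19b.flat_imageι hP _ f, fun Z i hi hfl => ?_⟩
  rw [Desc19b.ker_eq_of_flat f i (IsPullback.of_hasPullback i (f.fiberι (genericPoint (Spec (CommRingCat.of A)))))]
  exact Scheme.Hom.le_ker_comp _ _

end Groth.Agent.S18266
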