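import Groth.Statements.S18267
import Groth.Agent.RelVALib.ChowPn
import Groth.Agent.FlatMorLocalStr.SmoothFibres
import Groth.Agent.CurvesLib24.Basic

set_option autoImplicit false
open CategoryTheory CategoryTheory.Limits AlgebraicGeometry
open ZCorr

namespace Groth.Agent.S18267

/-- Over the complex numbers, suppose C is a quasi-projective curve that is smooth and irreducible and X
is a projective variety that is smooth and irreducible; take Z to be an integral closed subscheme of
C × X of dimension one whose projection to C is surjective (a non-vertical irreducible component of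
a correspondence from C to X). Then the projection Z → C is finite and flat. -/
theorem result
    (C X : Scheme.{0}) [C.Over (Spec (CommRingCat.of ℂ))] [X.Over (Spec (CommRingCat.of ℂ))]
    [AlgebraicGeometry.IsIntegral C] [Smooth (C ↘ Spec (CommRingCat.of ℂ))] (hC : RelProj.IsHQuasiProjective (C ↘ Spec (CommRingCat.of ℂ)))
    (hdimC : topologicalKrullDim C = 1)
    [AlgebraicGeometry.IsIntegral X] [Smooth (X ↘ Spec (CommRingCat.of ℂ))] (hX : RelProj.IsHProjective (X ↘ Spec (CommRingCat.of ℂ)))
    {Z : Scheme.{0}} (i : Z ⟶ pullback (C ↘ Spec (CommRingCat.of ℂ)) (X ↘ Spec (CommRingCat.of ℂ))) [IsClosedImmersion i]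
    [AlgebraicGeometry.IsIntegral Z] (hdimZ : topologicalKrullDim Z = 1)
    (hsurj : Function.Surjective ⇑(i ≫ pullback.fst (C ↘ Spec (CommRingCat.of ℂ)) (X ↘ Spec (CommRingCat.of ℂ)))) :
    IsFinite (i ≫ pullback.fst (C ↘ Spec (CommRingCat.of ℂ)) (X ↘ Spec (CommRingCat.of ℂ))) ∧
      Flat (i ≫ pullback.fst (C ↘ Spec (CommRingCat.of ℂ)) (X ↘ Spec (CommRingCat.of ℂ))) := by
  let c := C ↘ Spec (CommRingCat.of ℂ)
  let xx := X ↘ Spec (CommRingCat.of ℂ)
  let f := i ≫ pullback.fst c xx
  haveI : IsProper xx := by
    obtain ⟨n, j, hj, hjc⟩ := hX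
    haveI := hj
    haveI : IsProper (CohB1.ProjSpaceOver.toBase n (Spec (CommRingCat.of ℂ))) :=
      Groth.Agent.RelVALib.isProper_toBase n _
    show IsProper (X ↘ Spec (CommRingCat.of ℂ))
    rw [← hjc]; infer_instance
  haveI : IsProper f := inferInstanceAs (IsProper (i ≫ pullback.fst c xx))
  haveI : IsLocallyNoetherian C := LocallyOfFiniteType.isLocallyNoetherian c
  haveI : IsLocallyNoetherian Z := LocallyOfFiniteType.isLocallyNoetherian f
  have hsurj' : Surjective f := ⟨hsurj⟩
  haveI := hsurj'
  -- points of a curve
  have key : ∀ (W : Scheme.{0}) [AlgebraicGeometry.IsIntegral W], topologicalKrullDim W = 1 →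
      (¬ IsClosed ({genericPoint W} : Set W)) ∧
        ∀ y : W, y ≠ genericPoint W → IsClosed ({y} : Set W) := by
    intro W _ hd
    constructor
    · intro h
      have : Subsingleton W := ⟨fun a b => by
        have ha : ∀ a : W, a = genericPoint W := fun a => by
          have := (genericPoint_spec W).def ▸ (Set.mem_univ a)
          rwa [h.closure_eq] at this
        rw [ha a, ha b]⟩
      haveI : Subsingleton (TopologicalSpace.IrreducibleCloseds W) := ⟨fun P Q =>
        SetLike.coe_injective (Set.ext fun a => ⟨fun _ => by
          obtain ⟨b, hb⟩ := Q.isIrreducible.nonempty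
          exact (Subsingleton.elim b a) ▸ hb, fun _ => by
          obtain ⟨b, hb⟩ := P.isIrreducible.nonempty
          exact (Subsingleton.elim b a) ▸ hb⟩)⟩
      have h0 : topologicalKrullDim W ≤ 0 := Order.krullDim_nonpos_of_subsingleton
      rw [hd] at h0
      exact absurd h0 (by norm_num)
    · intro y hy
      rw [← closure_subset_iff_isClosed]
      intro z hz
      by_contra hzy
      let P : LTSeries W := RelSeries.fromListIsChain [z, y, genericPoint W] (by simp) (by
        have h1 : z < y := lt_of_le_not_ge (specializes_iff_mem_closure.2 hz)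
          fun h => hzy (Specializes.antisymm (specializes_iff_mem_closure.2 hz) h).eq.symm
        have h2 : y < genericPoint W := lt_of_le_not_ge (genericPoint_specializes y)
          fun h => hy (Specializes.antisymm h (genericPoint_specializes y)).eq
        simp [h1, h2])
      have h3 : (P.length : WithBot ℕ∞) ≤ topologicalKrullDim W :=
        (Order.LTSeries.length_le_krullDim P).trans (Order.krullDim_eq_of_orderIso irreducibleSetEquivPoints).symm.le
      rw [hd] at h3
      have : P.length = 2 := rfl
      rw [this] at h3
      norm_num at h3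
  obtain ⟨hCgen, hCcl⟩ := key C hdimC
  obtain ⟨hZgen, hZcl⟩ := key Z hdimZ
  have hgen : f (genericPoint Z) = genericPoint C := by
    obtain ⟨z, hz⟩ := hsurj (genericPoint C)
    have h1 : f (genericPoint Z) ⤳ genericPoint C := hz ▸ (genericPoint_specializes z).map f.continuous
    exact (h1.antisymm (genericPoint_specializes _)).eq
  haveI : CompactSpace X := QuasiCompact.compactSpace_of_compactSpace xx
  obtain ⟨n, j, hj, hjq, hjc⟩ := hC
  haveI : CompactSpace C := by
    haveI := hjq
    haveI : IsProper (CohB1.ProjSpaceOver.toBase n (Spec (CommRingCat.of ℂ))) :=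
      Groth.Agent.RelVALib.isProper_toBase n _
    haveI : QuasiCompact c := by
      show QuasiCompact (C ↘ Spec (CommRingCat.of ℂ))
      rw [← hjc]; infer_instance
    exact QuasiCompact.compactSpace_of_compactSpace c
  haveI : CompactSpace Z := QuasiCompact.compactSpace_of_compactSpace f
  haveI : IsNoetherian Z := { }
  have hfib : ∀ y : C, (f ⁻¹' {y}).Finite := by
    intro y
    by_cases hy : y = genericPoint C
    · refine (Set.finite_singleton (genericPoint Z)).subset fun z hz => ?_
      by_contra hne
      apply hCgen
      rw [← hy, ← (show f z = y from hz)]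
      simpa using f.isClosedMap _ (hZcl z hne)
    · have hcl : IsClosed (f ⁻¹' {y}) := (hCcl y hy).preimage f.continuous
      obtain ⟨S, hS, hSc, hSi, hSU⟩ := TopologicalSpace.NoetherianSpace.exists_finite_set_isClosed_irreducible hcl
      rw [hSU]
      refine hS.sUnion fun t ht => ?_
      obtain ⟨z, hz⟩ := QuasiSober.sober (hSi t ht) (hSc t ht)
      have hzy : f z = y := by
        have : z ∈ f ⁻¹' {y} := hSU ▸ ⟨t, ht, hz.mem⟩
        exact this
      have hne : z ≠ genericPoint Z := fun h => hy (by rw [← hzy, h, hgen])
      rw [← hz.def, (hZcl z hne).closure_eq]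
      exact Set.finite_singleton z
  haveI : LocallyQuasiFinite f := LocallyQuasiFinite.of_finite_preimage_singleton f hfib
  refine ⟨(IsFinite.iff_isProper_and_locallyQuasiFinite f).2 ⟨inferInstance, inferInstance⟩, ?_⟩
  refine (Flat.iff_flat_stalkMap f).2 fun x => ?_
  have hn := Groth.Agent.FlatMorLocalStr.isNormalScheme_of_smooth_field c (f x)
  haveI := Groth.Agent.CurvesLib24.isPrincipalIdealRing_stalk hdimC.le (f x) hn.2
  let _ : Algebra (C.presheaf.stalk (f x)) (Z.presheaf.stalk x) := (f.stalkMap x).hom.toAlgebra
  haveI : Module.IsTorsionFree (C.presheaf.stalk (f x)) (Z.presheaf.stalk x) :=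
    Module.isTorsionFree_iff_algebraMap_injective.2 (Groth.Agent.CurvesLib24.stalkMap_injective f x)
  exact RingHom.flat_algebraMap_iff.2 inferInstance

end Groth.Agent.S18267
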