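import Groth.Statements.S18268
import Groth.Agent.CycLib28.SecOrd
import Groth.Agent.RelVALib.ChowPn
-- import your own Groth.Agent.* helpers here

set_option autoImplicit false
open CategoryTheory CategoryTheory.Limits AlgebraicGeometry
open ZCorr

namespace Groth.Agent.S18268

set_option backward.isDefEq.respectTransparency false

universe u

/-- A point of a finite closed subset of a Jacobson space is closed. -/
lemma isClosed_of_finite {P : Type*} [TopologicalSpace P] [JacobsonSpace P] {F : Set P} (hF : IsClosed F)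
    (hf : F.Finite) {y : P} (hy : y ∈ F) : IsClosed ({y} : Set P) := by
  have h1 : IsClosed (F ∩ closedPoints P) := by
    rw [← Set.biUnion_of_singleton (F ∩ closedPoints P)]
    exact (hf.inter_of_left _).isClosed_biUnion fun x hx => hx.2
  have h2 := JacobsonSpace.closure_inter_closedPoints_eq_closure (X := P) (S := F) hF.isLocallyClosed
  rw [hF.closure_eq, h1.closure_eq] at h2
  exact (h2.symm ▸ hy : y ∈ F ∩ closedPoints P).2

/-- Specializations inside a finite closed piece of one fibre are trivial. -/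
lemma eq_of_finite_fibre {P W : Scheme.{u}} (g : P ⟶ W) [LocallyOfFiniteType g] {G : Set P} (hG : IsClosed G)
    {a b : P} (w : W) (hf : (G ∩ g ⁻¹' {w}).Finite) (ha : a ∈ G) (hga : g a = w) (hgb : g b = w) (h : a ⤳ b) :
    a = b := by
  haveI : LocallyOfFiniteType (g.fiberToSpecResidueField w) :=
    MorphismProperty.pullback_snd (P := @LocallyOfFiniteType) _ _ inferInstance
  haveI : JacobsonSpace (g.fiber w) := LocallyOfFiniteType.jacobsonSpace (g.fiberToSpecResidueField w)
  obtain ⟨a', rfl⟩ : a ∈ Set.range (g.fiberι w) := by rw [g.range_fiberι w]; exact hga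
  obtain ⟨b', rfl⟩ : b ∈ Set.range (g.fiberι w) := by rw [g.range_fiberι w]; exact hgb
  have hi : Topology.IsEmbedding (g.fiberι w) := (g.fiberι w).isEmbedding
  have hfin : ((g.fiberι w) ⁻¹' G).Finite := by
    refine (hf.preimage hi.injective.injOn).subset fun x hx => ⟨hx, ?_⟩
    have : g.fiberι w x ∈ Set.range (g.fiberι w) := ⟨x, rfl⟩
    rwa [g.range_fiberι w] at this
  have hc := isClosed_of_finite (hG.preimage (g.fiberι w).continuous) hfin ha
  have hs : a' ⤳ b' := hi.isInducing.specializes_iff.1 h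
  have : b' ∈ ({a'} : Set _) := hs.mem_closed hc rfl
  rw [Set.mem_singleton_iff] at this
  rw [this]

/-- The fibre multiplicity is positive at an isolated point of the fibre. -/
lemma fibreMult_pos {P C : Scheme.{u}} [IsLocallyNoetherian P] (g : P ⟶ C) (v w : P) (h : w ⤳ v)
    (hiso : ∀ y : P, w ⤳ y → y ⤳ v → g y = g v → y = v) : 0 < AlgEqCyc.fibreMult g v w h := by
  let O := P.presheaf.stalk v
  let p : Ideal O := RingHom.ker (Cyc.specMap v w h)
  let mC : Ideal (C.presheaf.stalk (g v)) := IsLocalRing.maximalIdeal _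
  let J : Ideal O := p ⊔ mC.map (g.stalkMap v).hom
  have hJ : J ≤ IsLocalRing.maximalIdeal O := by
    refine sup_le (IsLocalRing.le_maximalIdeal (RingHom.ker_ne_top _)) ?_
    rw [Ideal.map_le_iff_le_comap, IsLocalRing.maximalIdeal_comap]
  have hprime : ∀ q : Ideal O, q.IsPrime → J ≤ q → q = IsLocalRing.maximalIdeal O := by
    intro q hq hJq
    let Q : PrimeSpectrum O := ⟨q, hq⟩
    let y := P.fromSpecStalk v Q
    have hyv : y ⤳ v := by
      have := (IsLocalRing.specializes_closedPoint Q).map (P.fromSpecStalk v).continuous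
      rwa [Scheme.fromSpecStalk_closedPoint] at this
    obtain ⟨Qw, hQw⟩ : w ∈ Set.range (P.fromSpecStalk v) := by rw [Scheme.range_fromSpecStalk]; exact h
    have hp : p = Qw.asIdeal := by
      subst hQw
      exact Groth.Agent.CycLib28.ker_specMap Qw h
    have hwy : w ⤳ y := by
      have hle : Qw.asIdeal ≤ q := hp ▸ (le_sup_left.trans hJq)
      have := ((PrimeSpectrum.le_iff_specializes Qw Q).1 hle).map (P.fromSpecStalk v).continuous
      rwa [hQw] at this
    have hgy : g y = g v := by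
      have e : (g.stalkMap v).hom '' ∅ = ∅ := Set.image_empty _
      have hc : Spec.map (g.stalkMap v) Q = IsLocalRing.closedPoint (C.presheaf.stalk (g v)) := by
        apply PrimeSpectrum.ext
        refine ((IsLocalRing.maximalIdeal.isMaximal (C.presheaf.stalk (g v))).eq_of_le
          (Ideal.comap_ne_top _ hq.ne_top) ?_).symm
        exact Ideal.map_le_iff_le_comap.1 (le_sup_right.trans hJq)
      show g (P.fromSpecStalk v Q) = g v
      rw [← Scheme.Hom.comp_apply, ← Scheme.SpecMap_stalkMap_fromSpecStalk, Scheme.Hom.comp_apply, hc,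
        Scheme.fromSpecStalk_closedPoint]
    have hQ : Q = IsLocalRing.closedPoint O := by
      apply (P.fromSpecStalk v).isEmbedding.injective
      rw [Scheme.fromSpecStalk_closedPoint]
      exact hiso y hwy hyv hgy
    exact congrArg PrimeSpectrum.asIdeal hQ
  haveI : Ring.KrullDimLE 0 (O ⧸ J) := Ring.KrullDimLE.mk₀ fun q hq => by
    have h1 := hprime _ (hq.comap (Ideal.Quotient.mk J))
      ((Ideal.mk_ker (I := J)).symm.le.trans (Ideal.comap_mono bot_le))
    haveI : (q.comap (Ideal.Quotient.mk J)).IsMaximal := h1 ▸ IsLocalRing.maximalIdeal.isMaximal O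
    rw [← Ideal.map_comap_of_surjective _ Ideal.Quotient.mk_surjective q]
    exact (Ideal.map_eq_top_or_isMaximal_of_surjective _ Ideal.Quotient.mk_surjective this).resolve_left
      (by rw [Ideal.map_comap_of_surjective _ Ideal.Quotient.mk_surjective q]; exact hq.ne_top)
  haveI : IsArtinianRing (O ⧸ J) := isArtinianRing_iff_krullDimLE_zero.2 inferInstance
  haveI : Nontrivial (O ⧸ J) := Ideal.Quotient.nontrivial_iff.2 fun hh =>
    (IsLocalRing.maximalIdeal.isMaximal O).ne_top (top_le_iff.1 (hh ▸ hJ))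
  have hlen : AlgEqCyc.fibreMult g v w h = (Module.length O (O ⧸ J)).toNat := by
    rw [AlgEqCyc.fibreMult, ← Ideal.map_map]
    exact congrArg ENat.toNat
      (DoubleQuot.quotQuotEquivQuotSupₐ O p (mC.map (g.stalkMap v).hom)).toLinearEquiv.length_eq
  rw [hlen]
  have hfin : Module.length O (O ⧸ J) ≠ ⊤ := by
    rw [Module.length_eq_of_surjective (S := O) (R := O ⧸ J) (M := O ⧸ J) Ideal.Quotient.mk_surjective]
    exact Module.length_ne_top
  exact Nat.pos_of_ne_zero fun h0 => (ENat.toNat_eq_zero.1 h0).elim Module.length_pos.ne' hfin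

lemma mem_range_slice {k : Type u} [Field k] {X C : Scheme.{u}} (p : X ⟶ Spec (CommRingCat.of k))
    (q : C ⟶ Spec (CommRingCat.of k)) (t : Spec (CommRingCat.of k) ⟶ C) (ht : t ≫ q = 𝟙 _) (v : ↥(pullback p q))
    (hv : pullback.snd p q v = t (IsLocalRing.closedPoint k)) : v ∈ Set.range (AlgEqCyc.slice p q t ht) := by
  have sq : IsPullback (AlgEqCyc.slice p q t ht) p (pullback.snd p q) t := by
    refine IsPullback.of_right ?_ (pullback.lift_snd _ _ _) (IsPullback.of_hasPullback p q)
    rw [ht, AlgEqCyc.slice, pullback.lift_fst]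
    exact IsPullback.of_horiz_isIso ⟨by simp⟩
  obtain ⟨z, hz, -⟩ := Scheme.Pullback.exists_preimage_pullback (f := pullback.snd p q) (g := t) v (IsLocalRing.closedPoint k) hv
  refine ⟨sq.isoPullback.inv z, ?_⟩
  rw [← Scheme.Hom.comp_apply, sq.isoPullback_inv_fst]
  exact hz

/-- Over the complex numbers let W be a smooth irreducible quasi-projective variety of dimension n, X a
smooth irreducible projective variety and Γ an n-cycle on X × W, viewed as a correspondence from W
to X, with no vertical component (every point of the support of Γ maps to the generic point of W).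
If there is a nonempty open U ⊂ W over whose points the closures of the support points of Γ have
finite fibres, and such that for every complex point u of U the fibre cycle Γ_u on X vanishes, then
Γ = 0. Here Γ_u is the sum, over the support points ξ of Γ with coefficient Γ(ξ), of the fundamental
cycles of the scheme-theoretic fibres over u of the closures of ξ, read on X (the cycle-level fibre
of the family at u; it agrees with the refined intersection of Γ with X × {u} where the components
are flat over u and has the same support wherever they are finite over u). -/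
theorem result
    (W X : Scheme.{0}) [W.Over (Spec (CommRingCat.of ℂ))] [X.Over (Spec (CommRingCat.of ℂ))]
    [AlgebraicGeometry.IsIntegral W] [Smooth (W ↘ Spec (CommRingCat.of ℂ))] (hW : RelProj.IsHQuasiProjective (W ↘ Spec (CommRingCat.of ℂ)))
    (n : ℕ) (hdimW : topologicalKrullDim W = n)
    [AlgebraicGeometry.IsIntegral X] [Smooth (X ↘ Spec (CommRingCat.of ℂ))] (hX : RelProj.IsHProjective (X ↘ Spec (CommRingCat.of ℂ)))
    (δ : ↥(pullback (X ↘ Spec (CommRingCat.of ℂ)) (W ↘ Spec (CommRingCat.of ℂ))) → ℤ)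
    (hδ : Cyc.DeltaCompat (pullback.fst (X ↘ Spec (CommRingCat.of ℂ)) (W ↘ Spec (CommRingCat.of ℂ)) ≫ (X ↘ Spec (CommRingCat.of ℂ))) δ (fun _ => 0))
    (Γ : AlgebraicCycle (pullback (X ↘ Spec (CommRingCat.of ℂ)) (W ↘ Spec (CommRingCat.of ℂ))) ℤ)
    (hΓ : Γ ∈ Cyc.Zk (pullback (X ↘ Spec (CommRingCat.of ℂ)) (W ↘ Spec (CommRingCat.of ℂ))) δ n)
    (hvert : ∀ ξ, Γ ξ ≠ 0 → pullback.snd (X ↘ Spec (CommRingCat.of ℂ)) (W ↘ Spec (CommRingCat.of ℂ)) ξ = genericPoint W)
    (U : W.Opens) (hU : (U : Set W).Nonempty)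
    (hfin : ∀ ξ, Γ ξ ≠ 0 → ∀ w ∈ U,
      (closure {ξ} ∩ pullback.snd (X ↘ Spec (CommRingCat.of ℂ)) (W ↘ Spec (CommRingCat.of ℂ)) ⁻¹' {w}).Finite)
    (hzero : ∀ (u : Spec (CommRingCat.of ℂ) ⟶ W) (hu : u ≫ (W ↘ Spec (CommRingCat.of ℂ)) = 𝟙 _),
      u (IsLocalRing.closedPoint ℂ) ∈ U →
        ∀ x : X, AlgEqCyc.fibreFun (X ↘ Spec (CommRingCat.of ℂ)) (W ↘ Spec (CommRingCat.of ℂ)) Γ u hu x = 0) :
    Γ = 0 := by
  classical
  let pX := X ↘ Spec (CommRingCat.of ℂ)
  let pW := W ↘ Spec (CommRingCat.of ℂ)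
  let π := pullback.snd pX pW
  haveI hpX : IsProper pX := by
    obtain ⟨n', i, hi, hi'⟩ := hX
    haveI := hi
    haveI : IsProper (CohB1.ProjSpaceOver.toBase n' (Spec (CommRingCat.of ℂ))) := Groth.Agent.RelVALib.isProper_toBase n' _
    exact (show pX = i ≫ CohB1.ProjSpaceOver.toBase n' (Spec (CommRingCat.of ℂ)) from hi'.symm) ▸ inferInstance
  haveI : IsProper π := MorphismProperty.pullback_snd (P := @IsProper) _ _ hpX
  haveI : QuasiCompact pW := by
    obtain ⟨n', i, hi, hiq, hi'⟩ := hW
    haveI := hiq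
    haveI : IsProper (CohB1.ProjSpaceOver.toBase n' (Spec (CommRingCat.of ℂ))) := Groth.Agent.RelVALib.isProper_toBase n' _
    exact (show pW = i ≫ CohB1.ProjSpaceOver.toBase n' (Spec (CommRingCat.of ℂ)) from hi'.symm) ▸ inferInstance
  haveI : CompactSpace W := QuasiCompact.compactSpace_of_compactSpace pW
  haveI : CompactSpace ↥(pullback pX pW) := QuasiCompact.compactSpace_of_compactSpace π
  haveI : JacobsonSpace W := LocallyOfFiniteType.jacobsonSpace pW
  haveI : JacobsonSpace ↥(pullback pX pW) := LocallyOfFiniteType.jacobsonSpace π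
  haveI : IsLocallyNoetherian W := LocallyOfFiniteType.isLocallyNoetherian pW
  haveI : IsLocallyNoetherian (pullback pX pW) := LocallyOfFiniteType.isLocallyNoetherian π
  by_contra hne
  obtain ⟨ξ₀, hξ₀⟩ : ∃ ξ, Γ ξ ≠ 0 := by
    by_contra hall
    push_neg at hall
    exact hne (Function.locallyFinsuppWithin.ext fun a => hall a)
  have hfs : (Function.support (Γ : ↥(pullback pX pW) → ℤ)).Finite :=
    by
      have hloc := fun z => Γ.supportLocallyFiniteWithinDomain' z (Set.mem_univ z)
      choose t ht htf using hloc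
      obtain ⟨S, -, hS⟩ := isCompact_univ.elim_nhds_subcover t fun z _ => ht z
      refine (S.finite_toSet.biUnion fun z _ => htf z).subset fun z hz => ?_
      obtain ⟨a, ha, hza⟩ := Set.mem_iUnion₂.1 (hS (Set.mem_univ z))
      exact Set.mem_biUnion ha ⟨hza, hz⟩
  let η := genericPoint W
  have hηU : η ∈ U := by
    obtain ⟨a, ha⟩ := hU
    exact (genericPoint_specializes a).mem_open U.isOpen ha
  let Bad : Set W := ⋃ ξ ∈ {ξ | Γ ξ ≠ 0 ∧ ξ ≠ ξ₀}, π '' (closure {ξ₀} ∩ closure {ξ})
  have hfin' : {ξ | Γ ξ ≠ 0 ∧ ξ ≠ ξ₀}.Finite := hfs.subset fun ξ hξ => hξ.1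
  have hBc : IsClosed Bad :=
    hfin'.isClosed_biUnion fun ξ _ => π.isClosedMap _ (isClosed_closure.inter isClosed_closure)
  have hηB : η ∉ Bad := by
    intro hh
    simp only [Bad, Set.mem_iUnion, Set.mem_image] at hh
    obtain ⟨ξ, ⟨hξ, hξne⟩, y, ⟨hy0, hyξ⟩, hyη⟩ := hh
    have h0 := eq_of_finite_fibre π isClosed_closure η (hfin ξ₀ hξ₀ η hηU)
      (subset_closure rfl) (hvert ξ₀ hξ₀) hyη (specializes_iff_mem_closure.2 hy0)
    have h1 := eq_of_finite_fibre π isClosed_closure η (hfin ξ hξ η hηU)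
      (subset_closure rfl) (hvert ξ hξ) hyη (specializes_iff_mem_closure.2 hyξ)
    exact hξne (h1.trans h0.symm)
  obtain ⟨w, ⟨hwU, hwB⟩, hwc⟩ : ((U : Set W) ∩ Badᶜ ∩ closedPoints W).Nonempty := by
    rw [Set.nonempty_iff_ne_empty]
    intro he
    have h2 := JacobsonSpace.closure_inter_closedPoints_eq_closure (X := W)
      (S := (U : Set W) ∩ Badᶜ) (U.isOpen.inter hBc.isOpen_compl).isLocallyClosed
    rw [he, closure_empty] at h2
    have : η ∈ closure ((U : Set W) ∩ Badᶜ) := subset_closure ⟨hηU, hηB⟩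
    rw [← h2] at this
    exact this
  obtain ⟨v, hv0, hvw⟩ : w ∈ π '' closure {ξ₀} := by
    have hcl : IsClosed (π '' closure {ξ₀}) := π.isClosedMap _ isClosed_closure
    have : η ∈ π '' closure {ξ₀} := ⟨ξ₀, subset_closure rfl, hvert ξ₀ hξ₀⟩
    exact (genericPoint_specializes w).mem_closed hcl this
  let u := pointOfClosedPoint pW w hwc
  have hu : u ≫ pW = 𝟙 _ := pointOfClosedPoint_comp _ _ _
  have huw : u (IsLocalRing.closedPoint ℂ) = w := pointOfClosedPoint_apply _ _ _ _
  obtain ⟨x, hx⟩ : v ∈ Set.range (AlgEqCyc.slice pX pW u hu) :=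
    mem_range_slice pX pW u hu v (hvw.trans huw.symm)
  subst hx
  have hz := hzero u hu (by rw [huw]; exact hwU) x
  have hs : ξ₀ ⤳ AlgEqCyc.slice pX pW u hu x := specializes_iff_mem_closure.2 hv0
  rw [AlgEqCyc.fibreFun, finsum_eq_single _
    (⟨ξ₀, hξ₀, hs⟩ : {a : ↥(pullback pX pW) // Γ a ≠ 0 ∧ a ⤳ AlgEqCyc.slice pX pW u hu x})
    (fun a ha => ?_)] at hz
  · have hm : 0 < AlgEqCyc.fibreMult π (AlgEqCyc.slice pX pW u hu x) ξ₀ hs := by
      refine fibreMult_pos π _ _ hs fun y h1 h2 h3 => ?_
      exact eq_of_finite_fibre π isClosed_closure w (hfin ξ₀ hξ₀ w hwU)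
        (specializes_iff_mem_closure.1 h1) (h3.trans hvw) hvw h2
    rcases mul_eq_zero.1 hz with h | h
    · exact hξ₀ h
    · exact hm.ne' (by exact_mod_cast h)
  · refine absurd ?_ hwB
    simp only [Bad, Set.mem_iUnion, Set.mem_image]
    refine ⟨a.1, ⟨a.2.1, fun he => ha (Subtype.ext he)⟩, _, ⟨hv0, specializes_iff_mem_closure.1 a.2.2⟩, hvw⟩

end Groth.Agent.S18268
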