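import Groth.Statements.S18272
import Groth.Agent.AbCubeLib.Subvariety
import Groth.Agent.DimLib.Points
-- import your own Groth.Agent.* helpers here

set_option autoImplicit false
open CategoryTheory MonoidalCategory CartesianMonoidalCategory MonObj GrpObj AlgebraicGeometry
open AbVar

namespace Groth.Agent.S18272

/-- Let A be an abelian variety over the complex numbers (a proper integral group scheme over Spec of
the complex numbers), G an abstract group and f : A(ℂ) → G a homomorphism from the group of complex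
points. If V ⊂ A is an irreducible closed subset containing the neutral element and every complex
point lying in V is in the kernel of f, then there is an abelian subvariety A' ⊂ A (an integral
closed subgroup scheme) containing V and with all its complex points in the kernel of f. -/
theorem result
    (A : Over (Spec (CommRingCat.of ℂ))) [GrpObj A] [IsProper A.hom] [AlgebraicGeometry.IsIntegral A.left]
    (G : Type) [Group G] (f : (𝟙_ (Over (Spec (CommRingCat.of ℂ))) ⟶ A) →* G)
    (V : Set ↥A.left) (hVcl : IsClosed V) (hVirr : IsIrreducible V)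
    (hV1 : Set.range ⇑(η[A]).left ⊆ V)
    (hVker : ∀ a : 𝟙_ (Over (Spec (CommRingCat.of ℂ))) ⟶ A, Set.range ⇑a.left ⊆ V → f a = 1) :
    ∃ (B : Over (Spec (CommRingCat.of ℂ))) (_ : GrpObj B) (incl : B ⟶ A), IsMonHom incl ∧ IsClosedImmersion incl.left ∧
      AlgebraicGeometry.IsIntegral B.left ∧ V ⊆ Set.range ⇑incl.left ∧
      ∀ b : 𝟙_ (Over (Spec (CommRingCat.of ℂ))) ⟶ B, f (b ≫ incl) = 1 := by
  classical
  haveI : GeometricallyIntegral A.hom := Groth.Agent.AbVarLib.geometricallyIntegral_of_isAlgClosed A.hom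
  haveI : IsCommMonObj A := isCommMonObj_of_isProper_of_geometricallyIntegral A
  haveI : LocallyOfFiniteType A.hom := inferInstance
  have hpt : ∀ a : 𝟙_ (Over (Spec (CommRingCat.of ℂ))) ⟶ A, Set.range ⇑a.left = {Groth.Agent.AbCubeLib.ptOf a} := by
    intro a
    refine Set.ext fun z => ⟨?_, fun h => ⟨_, h.symm⟩⟩
    rintro ⟨p, rfl⟩
    exact congrArg a.left (Subsingleton.elim (α := PrimeSpectrum ℂ) p _)
  have h1 : Groth.Agent.AbCubeLib.ptOf (1 : 𝟙_ (Over (Spec (CommRingCat.of ℂ))) ⟶ A) ∈ V := by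
    refine hV1 ?_
    have e : (1 : 𝟙_ (Over (Spec (CommRingCat.of ℂ))) ⟶ A) = η[A] := by
      rw [Hom.one_def, toUnit_unique (toUnit (𝟙_ (Over (Spec (CommRingCat.of ℂ))))) (𝟙 _), Category.id_comp]
    rw [e]
    exact ⟨_, rfl⟩
  let F : A.left → Prop := fun w => V ⊆ closure {w} ∧
    ∀ a : 𝟙_ (Over (Spec (CommRingCat.of ℂ))) ⟶ A, Groth.Agent.AbCubeLib.ptOf a ∈ closure {w} → f a = 1
  have hF0 : F hVirr.genericPoint := by
    have e : closure {hVirr.genericPoint} = V := hVirr.closure_genericPoint hVcl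
    refine ⟨e.ge, fun a ha => hVker a ?_⟩
    rw [hpt, Set.singleton_subset_iff]
    exact e ▸ ha
  obtain ⟨D, hD⟩ : ∃ D : ℕ, ∀ w : A.left, Groth.Agent.DimLib.ptDim A.hom w ≤ D :=
    ⟨Groth.Agent.DimLib.ptDim A.hom (genericPoint A.left), fun w => by
      rcases eq_or_ne (genericPoint A.left) w with h | h
      · rw [← h]
      · exact (Groth.Agent.DimLib.ptDim_lt_of_specializes A.hom (genericPoint_specializes w) h).le⟩
  have hex : ∃ n : ℕ, ∃ w, F w ∧ D - Groth.Agent.DimLib.ptDim A.hom w = n := ⟨_, _, hF0, rfl⟩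
  obtain ⟨w, ⟨hVw, hker⟩, hw⟩ := Nat.find_spec hex
  have hmax : ∀ w', F w' → closure {w} ⊆ closure {w'} → w' = w := by
    intro w' hw' hsub
    by_contra hne
    have h2 := Nat.find_min' hex ⟨w', hw', rfl⟩
    have h3 := Groth.Agent.DimLib.ptDim_lt_of_specializes A.hom
      (specializes_iff_mem_closure.2 (hsub (subset_closure rfl))) hne
    have := hD w'
    omega
  -- the reduced subscheme on `closure {w}`
  let Z : TopologicalSpace.Closeds A.left := ⟨closure {w}, isClosed_closure⟩
  let I := Scheme.IdealSheafData.vanishingIdeal Z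
  let W : Over (Spec (CommRingCat.of ℂ)) := Over.mk (I.subschemeι ≫ A.hom)
  let i : W ⟶ A := Over.homMk I.subschemeι rfl
  haveI : IsClosedImmersion i.left := inferInstanceAs (IsClosedImmersion I.subschemeι)
  have hrg : Set.range i.left = closure {w} := by
    show Set.range I.subschemeι = _
    rw [Scheme.IdealSheafData.range_subschemeι]
    rfl
  haveI : IsReduced W.left := Groth.Agent.Props12.isReduced_subscheme_vanishingIdeal Z
  haveI : IrreducibleSpace W.left := by
    have hi : IsIrreducible (Set.range i.left) := by rw [hrg]; exact isIrreducible_singleton.closure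
    exact i.left.isClosedEmbedding.isEmbedding.toHomeomorph.irreducibleSpace_iff.2 (Subtype.irreducibleSpace hi)
  haveI : IsIntegral W.left := isIntegral_of_irreducibleSpace_of_isReduced W.left
  haveI : IsProper W.hom := inferInstanceAs (IsProper (I.subschemeι ≫ A.hom))
  haveI : GeometricallyIntegral W.hom := Groth.Agent.AbVarLib.geometricallyIntegral_of_isAlgClosed W.hom
  haveI : Flat W.hom := Groth.Agent.CubeLib.flat_of_field _
  haveI : LocallyOfFinitePresentation W.hom :=
    Groth.Agent.Coherent.CohBC.locallyOfFinitePresentation_of_isLocallyNoetherian W.hom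
  haveI : UniversallyOpen W.hom := inferInstance
  haveI : IsLocallyNoetherian W.left := LocallyOfFiniteType.isLocallyNoetherian W.hom
  haveI : IsIntegral (W ⊗ W).left := inferInstanceAs (IsIntegral (Limits.pullback W.hom W.hom))
  haveI : IsProper (W ⊗ W).hom := inferInstanceAs (IsProper (Limits.pullback.fst W.hom W.hom ≫ W.hom))
  let m : W ⊗ W ⟶ A := (fst W W ≫ i) * (snd W W ≫ i)⁻¹
  haveI : IsProper m.left := by
    haveI : IsProper (m.left ≫ A.hom) := by rw [Over.w m]; infer_instance
    exact MorphismProperty.of_postcomp (W := @IsProper) (W' := @IsSeparated) m.left A.hom inferInstance this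
  let w' := m.left (genericPoint (W ⊗ W).left)
  have him : Set.range m.left = closure {w'} := by
    refine Set.Subset.antisymm ?_ (closure_minimal (Set.singleton_subset_iff.2 ⟨_, rfl⟩) m.left.isClosedMap.isClosed_range)
    rintro _ ⟨z, rfl⟩
    exact specializes_iff_mem_closure.1 ((genericPoint_specializes z).map m.left.continuous)
  have hlift : ∀ a : 𝟙_ (Over (Spec (CommRingCat.of ℂ))) ⟶ A, Groth.Agent.AbCubeLib.ptOf a ∈ closure {w} →
      ∃ c : 𝟙_ (Over (Spec (CommRingCat.of ℂ))) ⟶ W, c ≫ i = a := by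
    intro a ha
    obtain ⟨b, hb⟩ : a.left (IsLocalRing.closedPoint ℂ) ∈ Set.range i.left := by rw [hrg]; exact ha
    have hbc : IsClosed ({b} : Set W.left) := by
      have e : ({b} : Set W.left) = i.left ⁻¹' {a.left (IsLocalRing.closedPoint ℂ)} :=
        Set.ext fun z => ⟨fun h => by rw [Set.mem_preimage, h]; exact hb,
          fun h => i.left.isClosedEmbedding.injective (h.trans hb.symm)⟩
      rw [e]
      exact (Groth.Agent.AbCubeLib.isClosed_point a).preimage i.left.continuous
    obtain ⟨c, hc⟩ := Groth.Agent.AbCubeLib.exists_ptOf hbc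
    exact ⟨c, Groth.Agent.AbCubeLib.point_ext (by
      show i.left (Groth.Agent.AbCubeLib.ptOf c) = _
      rw [hc, hb])⟩
  have hm : ∀ a b, Groth.Agent.AbCubeLib.ptOf a ∈ closure {w} → Groth.Agent.AbCubeLib.ptOf b ∈ closure {w} →
      Groth.Agent.AbCubeLib.ptOf (a * b⁻¹) ∈ closure {w'} := by
    intro a b ha hb
    obtain ⟨c, rfl⟩ := hlift a ha
    obtain ⟨d, rfl⟩ := hlift b hb
    have e : lift c d ≫ m = (c ≫ i) * (d ≫ i)⁻¹ := by
      show _ ≫ ((fst W W ≫ i) * (snd W W ≫ i)⁻¹) = _
      rw [MonObj.comp_mul, GrpObj.comp_inv, lift_fst_assoc, lift_snd_assoc]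
    rw [← e, ← him]
    exact ⟨_, rfl⟩
  have hsub : closure {w} ⊆ closure {w'} := by
    haveI : JacobsonSpace A.left := LocallyOfFiniteType.jacobsonSpace A.hom
    refine (JacobsonSpace.closure_inter_closedPoints (Z := closure {w}) isClosed_closure).ge.trans
      (closure_minimal ?_ isClosed_closure)
    rintro x ⟨hx, hxc⟩
    obtain ⟨a, rfl⟩ := Groth.Agent.AbCubeLib.exists_ptOf (A := A) hxc
    simpa using hm a 1 hx (hVw h1)
  have hF' : F w' := by
    refine ⟨hVw.trans hsub, fun a ha => ?_⟩
    haveI : LocallyOfFiniteType (W ⊗ W).hom := inferInstance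
    haveI : JacobsonSpace (W ⊗ W).left := LocallyOfFiniteType.jacobsonSpace (W ⊗ W).hom
    obtain ⟨z, hz, hzc⟩ := nonempty_inter_closedPoints (Z := m.left ⁻¹' {Groth.Agent.AbCubeLib.ptOf a})
      (by
        obtain ⟨z, hz⟩ : Groth.Agent.AbCubeLib.ptOf a ∈ Set.range m.left := by rw [him]; exact ha
        exact ⟨z, hz⟩)
      ((Groth.Agent.AbCubeLib.isClosed_point a).preimage m.left.continuous).isLocallyClosed
    obtain ⟨p, rfl⟩ := Groth.Agent.AbCubeLib.exists_ptOf (A := W ⊗ W) hzc
    have e : a = (p ≫ fst W W ≫ i) * (p ≫ snd W W ≫ i)⁻¹ := by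
      refine (Groth.Agent.AbCubeLib.point_ext ?_).symm
      rw [← GrpObj.comp_inv, ← MonObj.comp_mul]
      exact hz
    have hin : ∀ q : 𝟙_ (Over (Spec (CommRingCat.of ℂ))) ⟶ W, f (q ≫ i) = 1 := fun q => hker _ (by
      rw [← hrg]
      exact ⟨_, rfl⟩)
    rw [e, map_mul, map_inv, ← Category.assoc, ← Category.assoc, hin, hin, inv_one, _root_.mul_one]
  have heq : w' = w := hmax w' hF' hsub
  obtain ⟨B, hBG, incl, h2, h3, h4, h5, h6⟩ := Groth.Agent.AbCubeLib.exists_subvariety (A := A)
    isClosed_closure isIrreducible_singleton.closure (hVw h1) (fun a b ha hb => heq ▸ hm a b ha hb)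
  refine ⟨B, hBG, incl, h2, h3, GeometricallyIntegral.isIntegral_of_subsingleton B.hom, h6 ▸ hVw, fun b => hker _ ?_⟩
  rw [← h6]
  exact ⟨_, rfl⟩


end Groth.Agent.S18272
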