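import Groth.Statements.S18275
import Groth.Agent.Move29.MovePoint
import Groth.Agent.CycLim28.Main
import Groth.Agent.Coherent.ProjSpaceFinite

set_option autoImplicit false
set_option backward.isDefEq.respectTransparency false
open CategoryTheory CategoryTheory.Limits AlgebraicGeometry
open ZCorr

namespace Groth.Agent.S18275

/-- Over the complex numbers let W be a smooth irreducible projective variety, U ⊂ W a nonempty open
subset and z a 0-cycle on W (dimension function induced from the base). Then z is rationally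
equivalent to a 0-cycle supported in U. -/
theorem result
    (W : Scheme.{0}) [W.Over (Spec (CommRingCat.of ℂ))]
    [AlgebraicGeometry.IsIntegral W] [Smooth (W ↘ Spec (CommRingCat.of ℂ))] (hW : RelProj.IsHProjective (W ↘ Spec (CommRingCat.of ℂ)))
    (δ : W → ℤ) (hδ : Cyc.DeltaCompat (W ↘ Spec (CommRingCat.of ℂ)) δ (fun _ => 0))
    (U : W.Opens) (hU : (U : Set W).Nonempty)
    (z : AlgebraicCycle W ℤ) (hz : z ∈ Cyc.Zk W δ 0) :
    ∃ z' : AlgebraicCycle W ℤ, z' ∈ Cyc.Zk W δ 0 ∧ (∀ w, z' w ≠ 0 → w ∈ U) ∧ Cyc.RatEquiv δ 0 z z' := by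
  classical
  let f := W ↘ Spec (CommRingCat.of ℂ)
  have hproj := hW
  obtain ⟨n, i, hi, hif⟩ := hW
  haveI := hi
  haveI : IsProper (CohB1.ProjSpace.toSpec n (ULift.{0} ℤ)) := Coherent.isProper_projSpace_toSpec n _
  haveI : QuasiCompact (CohB1.ProjSpaceOver.toBase n (Spec (CommRingCat.of ℂ))) :=
    MorphismProperty.pullback_snd _ _ (inferInstance : QuasiCompact (CohB1.ProjSpace.toSpec n (ULift.{0} ℤ)))
  haveI : QuasiCompact f := by
    show QuasiCompact (W ↘ Spec (CommRingCat.of ℂ))
    rw [← hif]; infer_instance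
  haveI : CompactSpace W := QuasiCompact.compactSpace_of_compactSpace f
  haveI : IsLocallyNoetherian W := LocallyOfFiniteType.isLocallyNoetherian f
  have hD : Cyc.IsDimFun W δ := (CycLib28.OverField.isSetup_of_smooth f hδ).2.2
  have hfin : (Function.support (fun w => z w)).Finite := CycLim28.finite_support z
  let ι : Type := {x : W // z x ≠ 0 ∧ x ∉ U}
  haveI : Finite ι := (hfin.subset (fun x hx => hx.1) : {x : W | z x ≠ 0 ∧ x ∉ U}.Finite).to_subtype
  haveI : Fintype ι := Fintype.ofFinite ι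
  have hι : ∀ j : ι, δ j.1 = 0 := fun j => by
    by_contra h
    exact j.2.1 (hz j.1 h)
  choose ξ φ hξ hφ hx hy using fun j : ι => Move29.exists_move f hproj hδ U hU (hι j) j.2.2
  let g : (j : ι) → W.residueField (ξ j) := fun j => φ j ^ (z j.1)
  have hg : ∀ j, g j ≠ 0 := fun j => zpow_ne_zero _ (hφ j)
  have hloc : ∀ x : W, ∃ V : Set W, IsOpen V ∧ x ∈ V ∧ {j | (closure {ξ j} ∩ V).Nonempty}.Finite :=
    fun x => ⟨Set.univ, isOpen_univ, trivial, Set.toFinite _⟩
  obtain ⟨D, hDval⟩ := CycLib28.exists_cycle_sum hD ξ g hg hloc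
  have hDzero : ∀ x, δ x ≠ 0 → D x = 0 := by
    intro x hx0
    rw [hDval]
    exact finsum_eq_zero_of_forall_eq_zero fun j =>
      CycLib28.divFun_eq_zero_of_delta _ (by rw [hξ j]; omega)
  have hgdiv : ∀ j x, Cyc.divFun δ (ξ j) (g j) x = z j.1 * Cyc.divFun δ (ξ j) (φ j) x := by
    intro j x
    simp only [Cyc.divFun, g]
    split_ifs with h
    · exact CycLib28.ordAt_zpow hD h.1 h.2 (hφ j) _
    · rw [mul_zero]
  refine ⟨z - D, fun x hx0 => ?_, fun w hw => ?_, ι, ξ, g, fun j => by rw [hξ j]; rfl, hg, hloc, fun x => ?_⟩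
  · simp [Function.locallyFinsuppWithin.coe_sub, hz x hx0, hDzero x hx0]
  · by_contra hwU
    apply hw
    simp only [Function.locallyFinsuppWithin.coe_sub, Pi.sub_apply]
    rw [hDval, finsum_eq_sum_of_fintype, sub_eq_zero]
    by_cases hzw : z w = 0
    · rw [hzw]
      refine (Finset.sum_eq_zero fun j _ => ?_).symm
      rw [hgdiv, hy j w hwU (fun e => j.2.1 (e ▸ hzw)), mul_zero]
    · rw [Finset.sum_eq_single (⟨w, hzw, hwU⟩ : ι)]
      · rw [hgdiv, hx, mul_one]
      · intro j _ hj
        rw [hgdiv, hy j w hwU (fun e => hj (Subtype.ext e.symm)), mul_zero]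
      · intro h; exact absurd (Finset.mem_univ _) h
  · simp only [Function.locallyFinsuppWithin.coe_sub, Pi.sub_apply, sub_sub_cancel]
    exact hDval x

end Groth.Agent.S18275
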