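import Groth.Statements.S18283
import Mathlib
import Groth.Prelude

set_option linter.all false

set_option autoImplicit false
universe u v
open CAlgX

open TensorProduct Polynomial

namespace Groth.Agent.S18283

/-- Let A be a commutative ring, ι a finite index type, H a finite set of indices (the head indices) and
c : ι → ι → A a table of coefficients; for j ∈ H put f_j = e_j − Σ_{i ∉ H} c_{ji} e_i in the free
module A^ι, so that each f_j has head e_j with coefficient 1 and tail supported outside H. If a
submodule M of A^ι contains every f_j with j ∈ H, then M is the A-span of these f_j if and only if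
every wedge product of |H|+1 elements of M vanishes in the (|H|+1)-st exterior power of A^ι
(equivalently, every (|H|+1)-minor of every matrix whose rows lie in M vanishes). The published
statement is the case where A is a Noetherian algebra over a field of characteristic zero, A^ι is
the degree-(m+1) part of the polynomial ring over A with its basis of terms, H is the set of
degree-(m+1) terms of a strongly stable monomial ideal generated in degree m, and M is the
degree-(m+1) part of an ideal generated by a marked set on that monomial ideal; this row allows any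
commutative ring and any submodule containing the marked polynomials. -/
theorem result
    {A : Type u} [CommRing A] {ι : Type v} [Fintype ι] [DecidableEq ι]
    (H : Finset ι) (c : ι → ι → A) (M : Submodule A (ι → A))
    (hf : ∀ j ∈ H, (Pi.single j (1 : A) - ∑ i ∈ Hᶜ, c j i • Pi.single i (1 : A)) ∈ M) :
    M = Submodule.span A ((fun j => Pi.single j (1 : A) - ∑ i ∈ Hᶜ, c j i • Pi.single i (1 : A)) '' ↑H)
      ↔ ∀ v : Fin (H.card + 1) → ι → A, (∀ k, v k ∈ M) →
          exteriorPower.ιMulti A (H.card + 1) v = 0 := by
  classical
  let f : ι → (ι → A) := fun j => Pi.single j (1 : A) - ∑ i ∈ Hᶜ, c j i • Pi.single i (1 : A)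
  let e : Fin H.card ≃ H := H.equivFin.symm
  have hfc : ∀ j l, f j l = (if l = j then 1 else 0) - (if l ∈ H then 0 else c j l) := fun j l => by
    simp only [f, Pi.sub_apply, Finset.sum_apply, Pi.smul_apply, Pi.single_apply, smul_eq_mul, mul_ite, mul_one, mul_zero,
      Finset.sum_ite_eq, Finset.mem_compl, ite_not]
  constructor
  · intro hM v hv
    let L : (Fin H.card → A) →ₗ[A] (ι → A) := Fintype.linearCombination A fun t => f (e t)
    have hw : ∀ k, ∃ w, L w = v k := fun k => by
      have h1 := hM ▸ hv k
      rw [show (fun j => Pi.single j (1 : A) - ∑ i ∈ Hᶜ, c j i • Pi.single i (1 : A)) '' ↑H = Set.range fun t => f (e t) by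
        ext z; constructor
        · rintro ⟨j, hj, rfl⟩; exact ⟨e.symm ⟨j, hj⟩, by simp [f]⟩
        · rintro ⟨t, rfl⟩; exact ⟨e t, (e t).2, rfl⟩, ← Fintype.range_linearCombination] at h1
      exact h1
    choose w hw using hw
    rw [show v = L ∘ w from funext fun k => (hw k).symm, ← exteriorPower.map_apply_ιMulti]
    have hsub : Subsingleton (⋀[A]^(H.card + 1) (Fin H.card → A)) := by
      rcases subsingleton_or_nontrivial A with hA | hA
      · exact Module.subsingleton A _
      let b := (Pi.basisFun A (Fin H.card)).exteriorPower (n := H.card + 1)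
      haveI : IsEmpty (Set.powersetCard (Fin H.card) (H.card + 1)) := ⟨fun s => by
        have := s.1.card_le_univ; have h2 : s.1.card = H.card + 1 := s.2; simp [h2] at this⟩
      exact b.repr.toEquiv.subsingleton
    rw [Subsingleton.elim (exteriorPower.ιMulti A (H.card + 1) w) 0, map_zero]
  · intro h
    refine le_antisymm (fun x hx => ?_) (Submodule.span_le.2 (by rintro _ ⟨j, hj, rfl⟩; exact hf j hj))
    let x' := x - ∑ j ∈ H, x j • f j
    have hxM : x' ∈ M := M.sub_mem hx (M.sum_mem fun j hj => M.smul_mem _ (hf j hj))
    have hxH : ∀ l ∈ H, x' l = 0 := fun l hl => by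
      simp [x', Finset.sum_apply, hfc, hl]
    have hx0 : x' = 0 := by
      funext i
      by_cases hi : i ∈ H
      · exact hxH i hi
      let v : Fin (H.card + 1) → ι → A := Fin.snoc (fun t => f (e t)) x'
      have hv : ∀ k, v k ∈ M := fun k => by
        refine Fin.lastCases ?_ (fun t => ?_) k
        · simpa [v] using hxM
        · simpa [v] using hf _ (e t).2
      let L : (ι → A) →ₗ[A] (Fin (H.card + 1) → A) := LinearMap.pi (Fin.snoc (fun t => LinearMap.proj (e t : ι)) (LinearMap.proj i))
      have h2 := congrArg (exteriorPower.alternatingMapLinearEquiv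
        ((Matrix.detRowAlternating : (Fin (H.card + 1) → A) [⋀^Fin (H.card + 1)]→ₗ[A] A).compLinearMap L)) (h v hv)
      rw [exteriorPower.alternatingMapLinearEquiv_apply_ιMulti, map_zero, AlternatingMap.compLinearMap_apply] at h2
      change Matrix.det (Matrix.of fun k => L (v k)) = 0 at h2
      rw [Matrix.det_of_upperTriangular, Fin.prod_univ_castSucc] at h2
      · simpa [L, v, hfc, hi] using h2
      · intro r s hsr
        obtain ⟨s, rfl⟩ : ∃ s', Fin.castSucc s' = s := Fin.exists_castSucc_eq.2 (ne_of_lt (lt_of_lt_of_le hsr (Fin.le_last r)))
        refine Fin.lastCases ?_ (fun r => ?_) r hsr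
        · intro _; simp [L, v, hxH]
        · intro h3
          have hne : (e s : ι) ≠ (e r : ι) := fun h4 => by
            rw [e.injective (Subtype.ext h4)] at h3; exact lt_irrefl _ h3
          simp [L, v, hfc, hne]
    have : x = ∑ j ∈ H, x j • f j := sub_eq_zero.1 hx0
    rw [this]
    exact Submodule.sum_mem _ fun j hj => Submodule.smul_mem _ _ (Submodule.subset_span ⟨j, hj, rfl⟩)

end Groth.Agent.S18283
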