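import Groth.Statements.S18286
import Groth.Agent.Misc15.AttrClosedSub
-- import your own Groth.Agent.* helpers here

set_option autoImplicit false
universe u
open CategoryTheory MonoidalCategory CartesianMonoidalCategory MonObj AlgebraicGeometry Opposite
open Magnet
open Groth.Agent.Misc15

namespace Groth.Agent.S18286

/-- Let Y be an S-scheme affine over S with an action of the diagonalizable monoid scheme A(M)_S of a
commutative monoid M, let f : Z → Y be an equivariant closed immersion (for an action of A(M)_S on
Z), and let N ⊆ M be a submonoid (magnet). Then Z^N = Z ×_Y Y^N: the square of functors on S-schemes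
formed by f^N : Z^N → Y^N, the canonical maps Z^N → Z and Y^N → Y (evaluation at the unit section)
and f is cartesian. -/
theorem result (S : Scheme.{u}) (M : Type) [AddCommMonoid M]
    (N : AddSubmonoid M) (Y Z : Over S) [IsAffineHom Y.hom] (aY : Magnet.MonAct (Magnet.AMonS S M) Y)
    (aZ : Magnet.MonAct (Magnet.AMonS S M) Z) (f : Z ⟶ Y) [IsClosedImmersion f.left]
    (hf : Magnet.MonAct.IsEquivariant aZ aY f) :
    IsPullback (Magnet.MonAct.eqvHom.postcomp (Magnet.subAct S M N) f hf) (Magnet.attrToX aZ N)
      (Magnet.attrToX aY N) (yoneda.map f) := by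
  classical
  have hsY : IsSeparated Y.hom := inferInstance
  have : IsAffineHom Z.hom := by rw [← Over.w f]; infer_instance
  have hsZ : IsSeparated Z.hom := inferInstance
  refine IsPullback.of_forall_isPullback_app fun T => ?_
  rw [CategoryTheory.Limits.Types.isPullback_iff]
  refine ⟨?_, ?_, ?_⟩
  · ext φ
    exact AttrRep.postcomp_eval N aY aZ f hf φ
  · rintro φ φ' ⟨-, h⟩
    exact Groth.Agent.S18285.result S M Z aZ N (unop T) h
  · intro φ z h
    obtain ⟨φ', hφ'⟩ := AttrRep.inImage_closed N aY aZ f hf z ⟨φ, h⟩
    refine ⟨φ', Groth.Agent.S18285.result S M Y aY N (unop T) ?_, hφ'⟩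
    exact (AttrRep.postcomp_eval N aY aZ f hf φ').trans (((congrArg (· ≫ f) hφ').trans h.symm))

end Groth.Agent.S18286
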