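import Groth.Statements.S18287
import Groth.Agent.Misc15.AttrComapAffine
-- import your own Groth.Agent.* helpers here

set_option autoImplicit false
universe u
open CategoryTheory MonoidalCategory CartesianMonoidalCategory MonObj AlgebraicGeometry Opposite
open Magnet
open Groth.Agent.Misc15

namespace Groth.Agent.S18287

/-- Let f : M → Z be a homomorphism of commutative monoids, Y a submonoid of Z and N its preimage in M,
and let X be an S-scheme affine over S with an action of the diagonalizable monoid scheme A(M)_S.
Regard X as an A(Z)_S-scheme through A(Z)_S → A(M)_S. Then the canonical map of attractors X^{N ⊂ M}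
→ X^{Y ⊂ Z} (precomposition with A(Y)_S → A(N)_S) is an isomorphism. -/
theorem result (S : Scheme.{u}) (M Z : Type) [AddCommMonoid M] [AddCommMonoid Z]
    (f : M →+ Z) (Y : AddSubmonoid Z) (X : Over S) [IsAffineHom X.hom] (a : Magnet.MonAct (Magnet.AMonS S M) X) :
    IsIso (Magnet.attrComap a f Y) := by
  classical
  have hsep : IsSeparated X.hom := inferInstance
  suffices h : ∀ T, Function.Bijective (fun φ => (Magnet.attrComap a f Y).app T φ) by
    have : ∀ T, IsIso ((Magnet.attrComap a f Y).app T) := fun T => (isIso_iff_bijective _).2 (h T)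
    exact NatIso.isIso_of_isIso_app _
  intro T
  have hinj := Groth.Agent.S18285.result S Z X (a.restrict (AMonS.map S f)) Y (unop T)
  have hinj' := Groth.Agent.S18285.result S M X a (Y.comap f) (unop T)
  refine ⟨fun φ φ' h => hinj' ?_, fun ψ => ?_⟩
  · exact (AttrRep.attrComap_eval f a Y φ).symm.trans
      ((congrArg (fun w => (attrToX (a.restrict (AMonS.map S f)) Y).app T w) h).trans (AttrRep.attrComap_eval f a Y φ'))
  · obtain ⟨φ, hφ⟩ := AttrRep.inImage_of_affine (Y.comap f) a
      ((attrToX (a.restrict (AMonS.map S f)) Y).app T ψ) (fun K _ sK t U hU hs =>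
        AttrRep.inImage_comap_affine f a Y K sK hU hs _ (AttrRep.InImage.comp Y _ t ⟨ψ, rfl⟩))
    exact ⟨φ, hinj ((AttrRep.attrComap_eval f a Y φ).trans hφ)⟩

end Groth.Agent.S18287
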