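import Groth.Statements.S18288
import Groth.Agent.Misc15.MagnetPointsS
-- import your own Groth.Agent.* helpers here

set_option autoImplicit false
universe u
open CategoryTheory MonoidalCategory CartesianMonoidalCategory MonObj AlgebraicGeometry Opposite
open Magnet

namespace Groth.Agent.S18288

/-- Let M be a commutative monoid with an injective homomorphism f : M → Z into a commutative group Z
(so M is cancellative; the published statement takes Z to be the group completion of M, and the same
argument applies to any such Z), let Y be a submonoid of Z contained in the image of M, and let X be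
an S-scheme separated over S with an action of the diagonalizable monoid scheme A(M)_S. Regard X as
a D(Z)_S-scheme through D(Z)_S → A(M)_S. Then the canonical map of attractors X^{f⁻¹Y ⊂ M} → X^{Y ⊂
Z} is an isomorphism: a D(Z)_S-equivariant family out of A(Y)_S is automatically A(M)_S-equivariant.
(The published statement allows X to be an algebraic space; here X is a scheme.) -/
theorem result (S : Scheme.{u}) (M Z : Type) [AddCommMonoid M]
    [AddCommGroup Z] (f : M →+ Z) (hf : Function.Injective f) (Y : AddSubmonoid Z)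
    (hY : Y ≤ AddMonoidHom.mrange f) (X : Over S) [IsSeparated X.hom]
    (a : Magnet.MonAct (Magnet.AMonS S M) X) :
    IsIso (Magnet.attrComap a f Y) := by
  classical
  let N := Y.comap f
  let c : N →+ Y := (f.comp N.subtype).codRestrict Y (fun x => x.2)
  have hc : Function.Bijective c := by
    refine ⟨fun x y h => Subtype.ext (hf (congrArg Subtype.val h)), fun y => ?_⟩
    obtain ⟨m, hm⟩ := hY y.2
    exact ⟨⟨m, by show f m ∈ Y; rw [hm]; exact y.2⟩, Subtype.ext hm⟩
  let d : Y →+ N := (AddEquiv.ofBijective c hc).symm.toAddMonoidHom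
  have hcd : c.comp d = AddMonoidHom.id Y := AddMonoidHom.ext (AddEquiv.ofBijective c hc).apply_symm_apply
  have hdc : d.comp c = AddMonoidHom.id N := AddMonoidHom.ext (AddEquiv.ofBijective c hc).symm_apply_apply
  have hid : ∀ (P : Type) [AddCommMonoid P], Magnet.AMonS.map S (AddMonoidHom.id P) = 𝟙 (Magnet.AMonS S P) := by
    intro P _
    have : Magnet.AMon.map (ULift.{u} ℤ) (AddMonoidHom.id P) = 𝟙 _ := by
      rw [Magnet.AMon.map_eq_pt, ← CoactBr.pt_id]
      congr 1
      exact MonoidAlgebra.algHom_ext (fun m => by simp) (Subsingleton.elim _ _)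
    rw [Magnet.AMonS.map, this]
    exact CategoryTheory.Functor.map_id _ _
  have hinv1 : Magnet.AMonS.map S c ≫ Magnet.AMonS.map S d = 𝟙 _ := by rw [← Magnet.AMonS.map_comp, hcd, hid]
  have hinv2 : Magnet.AMonS.map S d ≫ Magnet.AMonS.map S c = 𝟙 _ := by rw [← Magnet.AMonS.map_comp, hdc, hid]
  suffices h : ∀ T, Function.Bijective (fun φ => (Magnet.attrComap a f Y).app T φ) by
    have : ∀ T, IsIso ((Magnet.attrComap a f Y).app T) := fun T => (isIso_iff_bijective _).2 (h T)
    exact NatIso.isIso_of_isIso_app _
  intro T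
  refine ⟨fun φ φ' h => Subtype.ext ?_, fun ψ => ?_⟩
  · have h' : (Magnet.AMonS.map S c ▷ unop T) ≫ φ.1 = (Magnet.AMonS.map S c ▷ unop T) ≫ φ'.1 := congrArg Subtype.val h
    have := congrArg ((Magnet.AMonS.map S d ▷ unop T) ≫ ·) h'
    simpa only [← comp_whiskerRight_assoc, hinv2, id_whiskerRight, Category.id_comp] using this
  · refine ⟨⟨(Magnet.AMonS.map S d ▷ unop T) ≫ ψ.1, ?_⟩, Subtype.ext ?_⟩
    · unfold Magnet.MonAct.IsEquivariant
      apply Groth.Agent.Misc15.MagnetPointsS.cancel_map f hf
      apply Magnet.hom_ext_lift₂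
      intro T' g z
      rw [← lift_comp_fst_snd z]
      simp only [lift_whiskerRight_assoc, Magnet.MonAct.lift_prod_act_assoc, Magnet.MonAct.lift_trivial_act,
        lift_whiskerLeft_assoc]
      generalize z ≫ fst _ _ = b
      generalize z ≫ snd _ _ = t
      have hψ := (Magnet.MonAct.mem_eqvHom_iff ψ.1).1 ψ.2 T' g (b ≫ Magnet.AMonS.map S d) t
      unfold Magnet.subAct at hψ ⊢
      rw [Magnet.MonAct.lift_restrict_act, Magnet.MonAct.lift_regular_act, Magnet.MonAct.lift_restrict_act] at hψ
      rw [Magnet.MonAct.lift_restrict_act, Magnet.MonAct.lift_regular_act, MonObj.mul_comp, Category.assoc,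
        Category.assoc, ← Magnet.AMonS.map_comp, ← Magnet.AMonS.map_comp,
        show f.comp (N.subtype.comp d) = Y.subtype from AddMonoidHom.ext fun y => congrArg Subtype.val (DFunLike.congr_fun hcd y), hψ]
    · show (Magnet.AMonS.map S c ▷ unop T) ≫ (Magnet.AMonS.map S d ▷ unop T) ≫ ψ.1 = ψ.1
      rw [← comp_whiskerRight_assoc, hinv1, id_whiskerRight, Category.id_comp]

end Groth.Agent.S18288
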