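import Groth.Statements.S18291
-- import your own Groth.Agent.* helpers here

set_option autoImplicit false
universe v₁ u₁
open CategoryTheory MonoidalCategory CartesianMonoidalCategory MonObj Opposite
open Magnet Magnet.MonAct

namespace Groth.Agent.S18291

/-- Let A be a monoid object of a cartesian monoidal category acting on X (in the source A is the
diagonalizable monoid scheme A(M)_S acting on an S-space X). Then X = X^M: the natural
transformation sending a T-point x of X to its orbit map (g, t) ↦ g • x(t), from the functor of
points of X to the functor T ↦ (maps A × T → X equivariant for A acting on the first factor by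
multiplication), and evaluation at the unit of A in the other direction, are inverse to each other. -/
theorem result {C : Type u₁} [Category.{v₁} C] [CartesianMonoidalCategory C]
    (A X : C) [MonObj A] (a : Magnet.MonAct A X) :
    Magnet.MonAct.eqvHom.ofPoint a ≫ Magnet.MonAct.eqvHom.evalAt (Magnet.MonAct.regular A) a η[A] = 𝟙 _ ∧
      Magnet.MonAct.eqvHom.evalAt (Magnet.MonAct.regular A) a η[A] ≫ Magnet.MonAct.eqvHom.ofPoint a = 𝟙 _ := by
  constructor
  · apply NatTrans.ext
    funext T
    refine ConcreteCategory.hom_ext _ _ fun x => ?_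
    show (Magnet.MonAct.eqvHom.evalAt (Magnet.MonAct.regular A) a η[A]).app T ((Magnet.MonAct.eqvHom.ofPoint a).app T x) = x
    rw [Magnet.MonAct.eqvHom.evalAt_app, Magnet.MonAct.eqvHom.ofPoint_app_coe, lift_whiskerLeft_assoc,
      Category.id_comp, ← toUnit_unique (toUnit (unop T)) (toUnit _), ← Hom.one_def, Magnet.MonAct.lift_one_act]
  · apply NatTrans.ext
    funext T
    refine ConcreteCategory.hom_ext _ _ fun φ => ?_
    show (Magnet.MonAct.eqvHom.ofPoint a).app T ((Magnet.MonAct.eqvHom.evalAt (Magnet.MonAct.regular A) a η[A]).app T φ) = φ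
    apply Subtype.ext
    rw [Magnet.MonAct.eqvHom.ofPoint_app_coe, Magnet.MonAct.eqvHom.evalAt_app]
    apply Magnet.hom_ext_lift₂
    intro T' g t
    have h := (Magnet.MonAct.mem_eqvHom_iff φ.1).1 φ.2 T' g 1 t
    rw [Magnet.MonAct.lift_regular_act, _root_.mul_one] at h
    rw [lift_whiskerLeft_assoc, comp_lift_assoc, h, Category.comp_id, ← Category.assoc,
      toUnit_unique (t ≫ toUnit (unop T)) (toUnit T'), ← Hom.one_def]

end Groth.Agent.S18291
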