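import Groth.Statements.S18300
-- import your own Groth.Agent.* helpers here

set_option autoImplicit false
universe u
open CategoryTheory MonoidalCategory CartesianMonoidalCategory MonObj AlgebraicGeometry Opposite
open Magnet

namespace Groth.Agent.S18300

/-- the double base change of an action is the single one, along `bcCompIso` -/
theorem bc_bc_act {S : Scheme.{u}} {A X : Over S} [MonObj A] (a : Magnet.MonAct A X) (T : Over S) (T'' : Over T.left) :
    ((a.bc T.hom).bc T''.hom).act ≫ (ActBC.bcCompIso T''.hom T.hom X rfl).hom =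
      ((ActBC.bcCompIso T''.hom T.hom A rfl).hom ⊗ₘ (ActBC.bcCompIso T''.hom T.hom X rfl).hom) ≫
        (a.bc (T''.hom ≫ T.hom)).act := by
  apply Magnet.hom_ext_lift₂
  intro T' g' x'
  obtain ⟨g'', rfl⟩ := ((Over.mapPullbackAdj T''.hom).homEquiv T' _).surjective g'
  obtain ⟨x'', rfl⟩ := ((Over.mapPullbackAdj T''.hom).homEquiv T' _).surjective x'
  obtain ⟨g, rfl⟩ := ((Over.mapPullbackAdj T.hom).homEquiv _ A).surjective g''
  obtain ⟨x, rfl⟩ := ((Over.mapPullbackAdj T.hom).homEquiv _ X).surjective x''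
  have key : ∀ (Y : Over S) (y : (Over.map T.hom).obj ((Over.map T''.hom).obj T') ⟶ Y),
      (Over.mapPullbackAdj T''.hom).homEquiv T' _ ((Over.mapPullbackAdj T.hom).homEquiv _ Y y) ≫
        (ActBC.bcCompIso T''.hom T.hom Y rfl).hom =
      (Over.mapPullbackAdj (T''.hom ≫ T.hom)).homEquiv T' Y ((Over.mapComp T''.hom T.hom).hom.app T' ≫ y) := by
    intro Y y
    have hfst : ∀ {S₁ S₂ : Scheme.{u}} (f : S₁ ⟶ S₂) (W : Over S₁) (V : Over S₂) (z : (Over.map f).obj W ⟶ V),
        ((Over.mapPullbackAdj f).homEquiv W V z).left ≫ Limits.pullback.fst V.hom f = z.left := by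
      intro S₁ S₂ f W V z
      have h := congrArg Over.Hom.left (((Over.mapPullbackAdj f).homEquiv W V).symm_apply_apply z)
      rw [Adjunction.homEquiv_counit, Over.comp_left] at h
      refine Eq.trans ?_ h
      simp
    ext
    apply Limits.pullback.hom_ext
    · rw [Over.comp_left, Category.assoc, ActBC.bcCompIso_hom_left_fst, ← Category.assoc]
      refine (congrArg (· ≫ Limits.pullback.fst Y.hom T.hom) (hfst T''.hom T' _ _)).trans ?_
      refine (hfst T.hom _ Y y).trans ((hfst _ T' Y _).trans ?_).symm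
      simp
    · exact (Over.w (((Over.mapPullbackAdj T''.hom).homEquiv T' _ ((Over.mapPullbackAdj T.hom).homEquiv _ Y y)) ≫
        (ActBC.bcCompIso T''.hom T.hom Y rfl).hom)).trans (Over.w _).symm
  rw [Magnet.MonAct.lift_homEquiv_bc_act_assoc, Magnet.MonAct.lift_homEquiv_bc_act, key,
    lift_map_assoc, key, key, Magnet.MonAct.lift_homEquiv_bc_act, comp_lift_assoc]

/-- Let X be an S-scheme with an action of the diagonalizable monoid scheme A(M)_S of a commutative
monoid M, N a submonoid of M, and T an S-scheme; X_T = X ×_S T carries the base-changed action of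
A(M)_T. Then X^N ×_S T = (X_T)^N objectwise: for every scheme T'' over T, the value of the attractor
X^N at T'' (regarded over S) is in bijection with the value at T'' of the attractor of X_T, namely
the maps A(N)_T ×_T T'' → X_T equivariant for the base-changed actions; the bijection is pinned by
requiring that, under the identifications of both sides with equivariant morphisms between base
changes to T'', it is conjugation by the canonical isomorphisms (Y ×_S T) ×_T T'' ≅ Y ×_S T'' for Y
= A(N)_S and Y = X. (Naturality in T'' is not part of this statement; X may be an algebraic space in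
the source, here it is a scheme.) -/
theorem result (S : Scheme.{u}) (M : Type) [AddCommMonoid M] (N : AddSubmonoid M)
    (X : Over S) (a : Magnet.MonAct (Magnet.AMonS S M) X) (T : Over S) (T'' : Over T.left) :
    ∃ Φ : (Magnet.attr a N).obj (op ((Over.map T.hom).obj T'')) ≃
        (Magnet.MonAct.eqvHom ((Magnet.subAct S M N).bc T.hom) (a.bc T.hom)).obj (op T''),
      ∀ φ, (Magnet.eqvHomEquivBc T'' ((Magnet.subAct S M N).bc T.hom) (a.bc T.hom) (Φ φ)).1 ≫
          (ActBC.bcCompIso T''.hom T.hom X rfl).hom =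
        (ActBC.bcCompIso T''.hom T.hom (Magnet.AMonS S N) rfl).hom ≫
          (Magnet.eqvHomEquivBc ((Over.map T.hom).obj T'') (Magnet.subAct S M N) a φ).1 := by
  let e₁ := Magnet.eqvHomEquivBc ((Over.map T.hom).obj T'') (Magnet.subAct S M N) a
  let e₂ := Magnet.eqvHomEquivBc T'' ((Magnet.subAct S M N).bc T.hom) (a.bc T.hom)
  let cB := ActBC.bcCompIso T''.hom T.hom (Magnet.AMonS S N) rfl
  let cX := ActBC.bcCompIso T''.hom T.hom X rfl
  let cA := ActBC.bcCompIso T''.hom T.hom (Magnet.AMonS S M) rfl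
  have hB := bc_bc_act (Magnet.subAct S M N) T T''
  have hX := bc_bc_act a T T''
  have hiff : ∀ ψ : Red.bc T''.hom (Red.bc T.hom (Magnet.AMonS S N)) ⟶ Red.bc T''.hom (Red.bc T.hom X),
      Magnet.MonAct.IsEquivariant (((Magnet.subAct S M N).bc T.hom).bc T''.hom) ((a.bc T.hom).bc T''.hom) ψ ↔
      Magnet.MonAct.IsEquivariant ((Magnet.subAct S M N).bc (T''.hom ≫ T.hom)) (a.bc (T''.hom ≫ T.hom))
        (cB.inv ≫ ψ ≫ cX.hom) := by
    intro ψ
    unfold Magnet.MonAct.IsEquivariant
    have e1 : ((Magnet.subAct S M N).bc (T''.hom ≫ T.hom)).act =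
        (cA.inv ⊗ₘ cB.inv) ≫ (((Magnet.subAct S M N).bc T.hom).bc T''.hom).act ≫ cB.hom := by
      rw [hB, tensorHom_comp_tensorHom_assoc, cA.inv_hom_id, cB.inv_hom_id, id_tensorHom_id, Category.id_comp]
    have e2 : (cA.inv ▷ Red.bc (T''.hom ≫ T.hom) (Magnet.AMonS S N)) ≫ (_ ◁ cB.inv) = cA.inv ⊗ₘ cB.inv := by
      rw [tensorHom_def]
    have e3 : (Red.bc (T''.hom ≫ T.hom) (Magnet.AMonS S M) ◁ (cB.inv ≫ ψ ≫ cX.hom)) ≫ (a.bc (T''.hom ≫ T.hom)).act =
        (cA.inv ⊗ₘ cB.inv) ≫ ((_ ◁ ψ) ≫ ((a.bc T.hom).bc T''.hom).act) ≫ cX.hom := by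
      rw [Category.assoc, hX, ← id_tensorHom, ← id_tensorHom, tensorHom_comp_tensorHom_assoc, tensorHom_comp_tensorHom_assoc]
      simp
      rfl
    rw [e1, e3, Category.assoc, Category.assoc, Iso.hom_inv_id_assoc, cancel_epi, ← Category.assoc _ ψ, cancel_mono]
  let c := (Iso.homCongr cB cX).subtypeEquiv hiff
  refine ⟨(e₁.trans c.symm).trans e₂.symm, fun φ => ?_⟩
  show (e₂ (e₂.symm (c.symm (e₁ φ)))).1 ≫ cX.hom = cB.hom ≫ (e₁ φ).1
  rw [Equiv.apply_symm_apply]
  show ((Iso.homCongr cB cX).symm (e₁ φ).1) ≫ cX.hom = _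
  simp [Iso.homCongr]

end Groth.Agent.S18300
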