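import Groth.Statements.S18305
import Groth.Agent.Misc15.FacePushout
-- import your own Groth.Agent.* helpers here

set_option autoImplicit false
universe u
open CategoryTheory MonoidalCategory CartesianMonoidalCategory MonObj AlgebraicGeometry Opposite
open Magnet
open Groth.Agent.Misc15

namespace Groth.Agent.S18305

/-- Let M be a commutative monoid and N ≤ L ≤ L' submonoids of M with L a face of L'; let N' be the
submonoid L' minus (L minus N), of which N is a face. Then for every scheme S the diagonalizable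
monoid scheme A(N')_S is the push-out of A(L')_S ← A(L)_S → A(N)_S in schemes over S: the square
formed by the face morphism A(L)_S → A(L')_S, the morphism A(L)_S → A(N)_S dual to N ⊆ L, the
morphism A(L')_S → A(N')_S dual to N' ⊆ L' and the face morphism A(N)_S → A(N')_S is cocartesian.
(That N' is a submonoid with face N is assumed here as data; it is a separate elementary statement.) -/
theorem result (S : Scheme.{u}) (M : Type) [AddCommMonoid M]
    (N N' L L' : AddSubmonoid M) (hNL : N ≤ L) (hN'L' : N' ≤ L') (hL : Magnet.IsFace L' L)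
    (hN : Magnet.IsFace N' N) (hdiff : (N' : Set M) = (L' : Set M) \ ((L : Set M) \ (N : Set M))) :
    IsPushout (Magnet.AMonS.faceMap S hL) (Magnet.AMonS.map S (AddSubmonoid.inclusion hNL))
      (Magnet.AMonS.map S (AddSubmonoid.inclusion hN'L')) (Magnet.AMonS.faceMap S hN) := by
  classical
  have hw : Magnet.AMonS.faceMap S hL ≫ Magnet.AMonS.map S (AddSubmonoid.inclusion hN'L') =
      Magnet.AMonS.map S (AddSubmonoid.inclusion hNL) ≫ Magnet.AMonS.faceMap S hN := by
    refine AMonCover.hom_ext_affine _ _ fun K _ sK r => ?_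
    letI := MagnetPoints.algZ K
    obtain ⟨χ, rfl⟩ := MagnetPointsS.P_surjective sK r
    rw [← Category.assoc, ← Category.assoc, TPoints.P_comp_faceMap, MagnetPointsS.P_comp_map,
      MagnetPointsS.P_comp_map, TPoints.P_comp_faceMap]
    congr 1
    refine MonoidHom.ext fun n => ?_
    obtain ⟨n, rfl⟩ : ∃ m, Multiplicative.ofAdd m = n := ⟨n.toAdd, rfl⟩
    have h1 := FacePushout.mem_iff hdiff (n : M)
    show (MagnetPoints.charEquiv K L χ) (Magnet.faceAlgHom _ hL
        (MonoidAlgebra.single (Multiplicative.ofAdd (AddSubmonoid.inclusion hN'L' n)) 1)) =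
      (MagnetPoints.charEquiv K N (χ.comp (AddMonoidHom.toMultiplicative (AddSubmonoid.inclusion hNL))))
        (Magnet.faceAlgHom _ hN (MonoidAlgebra.single (Multiplicative.ofAdd n) 1))
    by_cases hn : (n : M) ∈ N
    · rw [Magnet.faceAlgHom_single_of_mem _ hL (AddSubmonoid.inclusion hN'L' n) (hNL hn),
        Magnet.faceAlgHom_single_of_mem _ hN n hn, MagnetPoints.charEquiv, MagnetPoints.charEquiv,
        MonoidAlgebra.lift_single, MonoidAlgebra.lift_single]
      rfl
    · rw [Magnet.faceAlgHom_single_of_not_mem _ hL (AddSubmonoid.inclusion hN'L' n) (fun h => hn ((h1.1 n.2).2 h)),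
        Magnet.faceAlgHom_single_of_not_mem _ hN n hn, map_zero, map_zero]
  refine ⟨⟨hw⟩, ⟨Limits.PushoutCocone.IsColimit.mk hw
    (fun s => (ρ_ _).inv ≫ (FacePushout.exists_hom (T := 𝟙_ (Over S)) hNL hN'L' hL hN hdiff
      ((ρ_ _).hom ≫ s.inl) ((ρ_ _).hom ≫ s.inr) ?_).choose) (fun s => ?_) (fun s => ?_) (fun s m h₁ h₂ => ?_)⟩⟩
  · rw [rightUnitor_naturality_assoc, rightUnitor_naturality_assoc, s.condition]
  · have h := (FacePushout.exists_hom (T := 𝟙_ (Over S)) hNL hN'L' hL hN hdiff ((ρ_ _).hom ≫ s.inl)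
      ((ρ_ _).hom ≫ s.inr) (by rw [rightUnitor_naturality_assoc, rightUnitor_naturality_assoc, s.condition])).choose_spec
    rw [rightUnitor_inv_naturality_assoc, h.1, Iso.inv_hom_id_assoc]
  · have h := (FacePushout.exists_hom (T := 𝟙_ (Over S)) hNL hN'L' hL hN hdiff ((ρ_ _).hom ≫ s.inl)
      ((ρ_ _).hom ≫ s.inr) (by rw [rightUnitor_naturality_assoc, rightUnitor_naturality_assoc, s.condition])).choose_spec
    rw [rightUnitor_inv_naturality_assoc, h.2, Iso.inv_hom_id_assoc]
  · have h := (FacePushout.exists_hom (T := 𝟙_ (Over S)) hNL hN'L' hL hN hdiff ((ρ_ _).hom ≫ s.inl)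
      ((ρ_ _).hom ≫ s.inr) (by rw [rightUnitor_naturality_assoc, rightUnitor_naturality_assoc, s.condition])).choose_spec
    rw [← cancel_epi (ρ_ _).hom, Iso.hom_inv_id_assoc]
    apply FacePushout.hom_ext (T := 𝟙_ (Over S)) hNL hN'L' hL hN hdiff
    · rw [rightUnitor_naturality_assoc, h₁, h.1]
    · rw [rightUnitor_naturality_assoc, h₂, h.2]

end Groth.Agent.S18305
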