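import Groth.Statements.S18303
import Groth.Agent.S18305
import Groth.Agent.Misc15.FacePushout
import Mathlib.CategoryTheory.Limits.Types.Pullbacks
-- import your own Groth.Agent.* helpers here

set_option autoImplicit false
universe u
open CategoryTheory MonoidalCategory CartesianMonoidalCategory MonObj AlgebraicGeometry Opposite
open Magnet
open Groth.Agent.Misc15

namespace Groth.Agent.S18303

/-- Let M be a commutative group, X an S-scheme with an action of the diagonalizable group scheme
D(M)_S, and N, N', L, L' submonoids (magnets) of M with N ≤ L ≤ L', N' ≤ L', L a face of L', N a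
face of N', N = L ∩ N', L' = L + N' and N' = L' minus (L minus N). Then the square formed by the
inclusion maps of attractors X^{N'} → X^{L'}, X^N → X^L and the face projections X^{N'} → X^N,
X^{L'} → X^L is cartesian as a square of functors on S-schemes. (The published statement assumes the
four attractors representable by schemes and concludes that the square of schemes is cartesian; its
argument is on T-valued points and gives the square of functors, which is what is stated.) -/
theorem result (S : Scheme.{u}) (M : Type) [AddCommGroup M] (X : Over S)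
    (a : AlgGrp.Action (Red.DS S M) X) (N N' L L' : AddSubmonoid M) (hNL : N ≤ L) (hN'L' : N' ≤ L')
    (hL : Magnet.IsFace L' L) (hN : Magnet.IsFace N' N) (hmeet : N = L ⊓ N') (hjoin : L' = L ⊔ N')
    (hdiff : (N' : Set M) = (L' : Set M) \ ((L : Set M) \ (N : Set M))) :
    IsPullback (Magnet.attrMap (Magnet.MonAct.ofAction a) hN'L') (Magnet.attrFace (Magnet.MonAct.ofAction a) hN)
      (Magnet.attrFace (Magnet.MonAct.ofAction a) hL) (Magnet.attrMap (Magnet.MonAct.ofAction a) hNL) := by
  classical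
  let b := Magnet.MonAct.ofAction a
  refine IsPullback.of_forall_isPullback_app fun T => ?_
  rw [CategoryTheory.Limits.Types.isPullback_iff]
  have hsq : Magnet.AMonS.faceMap S hL ≫ Magnet.AMonS.map S (AddSubmonoid.inclusion hN'L') =
      Magnet.AMonS.map S (AddSubmonoid.inclusion hNL) ≫ Magnet.AMonS.faceMap S hN :=
    (Groth.Agent.S18305.result S M N N' L L' hNL hN'L' hL hN hdiff).w
  refine ⟨?_, fun φ φ' h => ?_, fun φ ψ h => ?_⟩
  · refine ConcreteCategory.hom_ext _ _ fun φ => Subtype.ext ?_
    show (Magnet.AMonS.faceMap S hL ▷ unop T) ≫ (Magnet.AMonS.map S (AddSubmonoid.inclusion hN'L') ▷ unop T) ≫ φ.1 =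
      (Magnet.AMonS.map S (AddSubmonoid.inclusion hNL) ▷ unop T) ≫ (Magnet.AMonS.faceMap S hN ▷ unop T) ≫ φ.1
    rw [← comp_whiskerRight_assoc, ← comp_whiskerRight_assoc, hsq]
  · exact Subtype.ext (FacePushout.hom_ext hNL hN'L' hL hN hdiff _ _ (congrArg Subtype.val h.1)
      (congrArg Subtype.val h.2))
  · obtain ⟨χ, hχ₁, hχ₂⟩ := FacePushout.exists_hom hNL hN'L' hL hN hdiff φ.1 ψ.1 (congrArg Subtype.val h)
    refine ⟨⟨χ, ?_⟩, Subtype.ext hχ₁, Subtype.ext hχ₂⟩
    let D := Magnet.AMonS S M
    let σ : Magnet.AMonS S N' ⊗ (D ⊗ unop T) ⟶ D ⊗ (Magnet.AMonS S N' ⊗ unop T) :=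
      CartesianMonoidalCategory.lift (snd _ _ ≫ fst _ _) (CartesianMonoidalCategory.lift (fst _ _) (snd _ _ ≫ snd _ _))
    let σ' : D ⊗ (Magnet.AMonS S N' ⊗ unop T) ⟶ Magnet.AMonS S N' ⊗ (D ⊗ unop T) :=
      CartesianMonoidalCategory.lift (snd _ _ ≫ fst _ _) (CartesianMonoidalCategory.lift (fst _ _) (snd _ _ ≫ snd _ _))
    have hσ : σ' ≫ σ = 𝟙 _ := by
      apply CartesianMonoidalCategory.hom_ext
      · simp [σ, σ']
      · apply CartesianMonoidalCategory.hom_ext <;> simp [σ, σ']
    suffices h2 : σ ≫ ((Magnet.subAct S M N').prod (Magnet.MonAct.trivial D (unop T))).act ≫ χ =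
        σ ≫ (D ◁ χ) ≫ b.act by
      have := congrArg (σ' ≫ ·) h2
      simp only [reassoc_of% hσ] at this
      exact this
    have hpt : ∀ {T' : Over S} (W : AddSubmonoid M) (f : Magnet.AMonS S W ⟶ Magnet.AMonS S N')
        (hf : Magnet.MonAct.IsEquivariant (Magnet.subAct S M W) (Magnet.subAct S M N') f)
        (x : (Magnet.attr b W).obj T) (hx : (f ▷ unop T) ≫ χ = x.1)
        (c : T' ⟶ Magnet.AMonS S W) (g : T' ⟶ D) (t : T' ⟶ unop T),
        lift c (lift g t) ≫ (f ▷ (D ⊗ unop T)) ≫ σ ≫
            ((Magnet.subAct S M N').prod (Magnet.MonAct.trivial D (unop T))).act ≫ χ =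
          lift c (lift g t) ≫ (f ▷ (D ⊗ unop T)) ≫ σ ≫ (D ◁ χ) ≫ b.act := by
      intro T' W f hf x hx c g t
      have e : lift c (lift g t) ≫ (f ▷ (D ⊗ unop T)) ≫ σ = lift g (lift (c ≫ f) t) := by
        simp [σ, comp_lift_assoc, comp_lift]
      rw [reassoc_of% e, reassoc_of% e, lift_whiskerLeft_assoc, Magnet.MonAct.lift_prod_act_assoc,
        Magnet.MonAct.lift_trivial_act, ← lift_whiskerRight_assoc c t f, hx,
        ← (Magnet.MonAct.isEquivariant_iff _ _ f).1 hf T' g c, ← lift_whiskerRight_assoc, comp_whiskerRight_assoc, hx, lift_whiskerRight_assoc]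
      exact (Magnet.MonAct.mem_eqvHom_iff x.1).1 x.2 T' g c t
    apply FacePushout.hom_ext hNL hN'L' hL hN hdiff
    · apply Magnet.hom_ext_lift₂
      intro T' c p
      rw [← lift_comp_fst_snd p]
      exact hpt L' _ (Magnet.MonAct.isEquivariant_restrict_regular _ _ _ (by rw [← Magnet.AMonS.map_comp]; rfl)) φ hχ₁ c _ _
    · apply Magnet.hom_ext_lift₂
      intro T' c p
      rw [← lift_comp_fst_snd p]
      exact hpt N _ (Magnet.isEquivariant_faceMapS S hN) ψ hχ₂ c _ _

end Groth.Agent.S18303
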