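import Groth.Statements.S18312
import Groth.Agent.Desc19b.HensSp.Lift
open Groth.Agent.AlgSpLib Groth.Agent.Desc19b.HensSp IsLocalRing AlgSp
set_option backward.isDefEq.respectTransparency.types false

set_option autoImplicit false
universe u
open CategoryTheory CategoryTheory.Limits AlgebraicGeometry
open AlgSp

set_option backward.isDefEq.respectTransparency.types false
set_option backward.isDefEq.respectTransparency false

namespace Groth.Agent.S18312


/-- Let S be a scheme, X an algebraic space over S, and R a Henselian local ring with residue field k =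
R/m and a structure morphism Spec R → S, and suppose that the set of k-points h_{Spec k} → X over S
is finite. Then there are an affine scheme Z over S and a representable étale morphism p : h_Z → X
such that, for every ideal a of R, every point h_{Spec (R/a)} → X over S is h_g followed by p for
some S-morphism g : Spec (R/a) → Z. The source states this for algebraic stacks whose diagonal has a
separated S-fibre over the image of the closed point, with Z smooth over the stack in general, Z
étale over it when the stack is an algebraic space (a clause of the same statement; no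
quasi-separatedness assumed), finitely many isomorphism classes over k, and essential surjectivity;
only the algebraic-space case is stated here. -/
theorem result {S : Scheme.{u}} (X : AlgSp.Space S)
    (R : Type u) [CommRing R] [HenselianLocalRing R] (str : Spec (CommRingCat.of R) ⟶ S)
    (hfin : Finite ((AlgSp.yon S).obj (Over.mk (Spec.map (CommRingCat.ofHom (IsLocalRing.residue R)) ≫ str)) ⟶ X.obj)) :
    ∃ (Z : Over S) (p : (AlgSp.yon S).obj Z ⟶ X.obj), IsAffine Z.left ∧ AlgSp.RepWith @Etale p ∧
      ∀ (a : Ideal R) (x : (AlgSp.yon S).obj (Over.mk (Spec.map (CommRingCat.ofHom (Ideal.Quotient.mk a)) ≫ str)) ⟶ X.obj),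
        ∃ g : Over.mk (Spec.map (CommRingCat.ofHom (Ideal.Quotient.mk a)) ≫ str) ⟶ Z, (AlgSp.yon S).map g ≫ p = x := by
  classical
  obtain ⟨ι, V, f, hV, hf, hlift⟩ := exists_rat_charts X.property
  obtain ⟨n, ⟨en⟩⟩ := Finite.exists_equiv_fin ((AlgSp.yon S).obj (Over.mk (Spec.map (CommRingCat.ofHom (IsLocalRing.residue R)) ≫ str)) ⟶ X.obj)
  choose c v hv using fun j : ULift.{u} (Fin n) => hlift _ _ (en.symm j.down)
  obtain ⟨p, hp, -⟩ := existsUnique_desc_sigma (fun j => V (c j)) (fun j => f (c j))
  refine ⟨sigmaOver (fun j => V (c j)), p, ?_, repWith_etale_desc X.property _ _ (fun j => hf (c j)) p hp, fun a x => ?_⟩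
  · haveI : ∀ j, IsAffine (V (c j)).left := fun j => hV (c j)
    exact inferInstanceAs (IsAffine (∐ fun j => (V (c j)).left))
  rcases eq_or_ne a ⊤ with rfl | ha
  · have : Subsingleton (R ⧸ (⊤ : Ideal R)) := Ideal.Quotient.subsingleton_iff.2 rfl
    have : IsEmpty ↥(Over.mk (Spec.map (CommRingCat.ofHom (Ideal.Quotient.mk (⊤ : Ideal R))) ≫ str)).left :=
      inferInstanceAs (IsEmpty (PrimeSpectrum (R ⧸ (⊤ : Ideal R))))
    refine ⟨Over.homMk (isInitialOfIsEmpty.to _) (isInitialOfIsEmpty.hom_ext _ _), ?_⟩
    exact (subsingleton_hom_of_isEmpty _ X.obj).elim _ _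
  · have := henselianLocalRing_quotient a ha
    haveI : IsLocalHom (Ideal.Quotient.mk a) := IsLocalHom.of_surjective _ Ideal.Quotient.mk_surjective
    let ρ := IsLocalRing.ResidueField.map (Ideal.Quotient.mk a)
    have hρ : Function.Bijective ρ := by
      refine ⟨ρ.injective, fun z => ?_⟩
      obtain ⟨w, rfl⟩ := IsLocalRing.residue_surjective z
      obtain ⟨r, rfl⟩ := Ideal.Quotient.mk_surjective w
      exact ⟨IsLocalRing.residue R r, rfl⟩
    let ε := RingEquiv.ofBijective ρ hρ
    let e : Over.mk (Spec.map (CommRingCat.ofHom (IsLocalRing.residue R)) ≫ str) ≅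
        Over.mk (Spec.map (CommRingCat.ofHom (IsLocalRing.residue (R ⧸ a))) ≫
          Spec.map (CommRingCat.ofHom (Ideal.Quotient.mk a)) ≫ str) :=
      Over.isoMk (Scheme.Spec.mapIso ε.symm.toCommRingCatIso.op.symm |>.symm) (by
        show Spec.map _ ≫ Spec.map (CommRingCat.ofHom (IsLocalRing.residue (R ⧸ a))) ≫ _ ≫ str = Spec.map _ ≫ str
        simp only [← Spec.map_comp_assoc]
        congr 2
        ext r
        exact ε.symm_apply_eq.2 rfl)
    let y := (yon S).map e.hom ≫ (yon S).map (clIncl _) ≫ x
    obtain ⟨g, -, hg⟩ := exists_chart_lift (f (c ⟨en y⟩)) (hf _) x (e.inv ≫ v ⟨en y⟩) (by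
      rw [Functor.map_comp, Category.assoc, hv]
      simp only [Equiv.symm_apply_apply, y, ← Functor.map_comp_assoc, Iso.inv_hom_id_assoc])
    exact ⟨g ≫ sigmaOverι (fun j => V (c j)) ⟨en y⟩, by rw [Functor.map_comp, Category.assoc, hp, hg]⟩

end Groth.Agent.S18312
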