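import Groth.Statements.S18317
import Groth.Agent.NonAb.Infinitesimal

set_option autoImplicit false
universe u
open CategoryTheory AlgebraicGeometry
open NonAbH1

namespace Groth.Agent.S18317

/-- Let K be a field and G a finite connected K-group scheme (G → Spec K finite, G connected as a
topological space). Then every G-torsor X over Spec K for the étale topology (a K-scheme with an
action of G whose shear map G ×_K X → X ×_K X is an isomorphism and which acquires a section over
the members of some étale covering of Spec K) is trivial: X has a K-point. -/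
theorem result (K : Type u) [Field K]
    (G X : Over (Spec (CommRingCat.of K))) [GrpObj G] [IsFinite G.hom] [ConnectedSpace G.left]
    (a : AlgGrp.Action G X) (h : NonAbH1.IsTorsorFor Scheme.etalePrecoverage a) :
    NonAbH1.HasSectionOver X (𝟙 (Spec (CommRingCat.of K))) := by
  obtain ⟨hps, R, hR, hsec⟩ := h
  have hle : Scheme.etalePrecoverage.{u} ≤ Scheme.fppfPrecoverage :=
    Scheme.precoverage_mono fun _ _ _ (_ : Etale _) => ⟨inferInstance, inferInstance⟩
  have hfpqc : NonAbH1.IsTorsorFor Scheme.fpqcPrecoverage a :=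
    ⟨hps, R, Scheme.fppfPrecoverage_le_fpqcPrecoverage _ (hle _ hR), hsec⟩
  obtain ⟨E, _, φ, x, hx, ⟨hpi, hfin, -⟩, hfac⟩ := NonAbLib.exists_point hfpqc
  obtain ⟨𝒰, h𝒰⟩ := NonAbLib.exists_cover hR
  obtain ⟨hsurj, het⟩ :=
    (Scheme.presieve₀_mem_precoverage_iff (P := @Etale) 𝒰.toPreZeroHypercover).1 𝒰.mem₀
  obtain ⟨i, t, -⟩ := hsurj default
  have : Etale (𝒰.f i) := het i
  obtain ⟨σ, hσ⟩ := hsec _ (h𝒰 i)
  obtain ⟨ψ, hψ⟩ := hfac _ σ t
  letI := φ.toAlgebra
  let χ : CommRingCat.of K ⟶ (𝒰.X i).residueField t := CommRingCat.ofHom φ ≫ ψ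
  have hχ : Spec.map χ = (𝒰.X i).fromSpecResidueField t ≫ 𝒰.f i := by
    rw [← hσ, ← Category.assoc, hψ, Category.assoc, hx, ← Spec.map_comp]
  have hsep := NonAbLib.isSeparable_residueField_of_etale (𝒰.f i) t χ hχ
  letI := χ.hom.toAlgebra
  refine NonAbLib.hasSectionOver_of_separable hx hpi ?_
  exact Algebra.IsSeparable.of_algHom K _ { ψ.hom with commutes' := fun r => rfl }

end Groth.Agent.S18317
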