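import Groth.Statements.S18318
import Groth.Agent.NonAb.Infinitesimal

set_option autoImplicit false
universe u
open CategoryTheory AlgebraicGeometry
open NonAbH1

namespace Groth.Agent.S18318

/-- Let K be a field of exponential characteristic p and G a finite connected K-group scheme. Then there
is an integer n ≥ 0 such that every G-torsor X over Spec K for the fppf topology (simply transitive
action, a section over the members of some fppf covering) becomes trivial over the purely
inseparable extension K^{1/p^n} of K: equivalently, X admits a K-morphism from Spec K regarded as a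
K-scheme through the n-th iterate x ↦ x^(p^n) of the Frobenius endomorphism of K. The source
moreover bounds n by p^n ≤ (#G)!; only the existence of a uniform n is stated here. In particular (p
= 1, characteristic zero) every such torsor is trivial. -/
theorem result (K : Type u) [Field K]
    (p : ℕ) [ExpChar K p] (G : Over (Spec (CommRingCat.of K))) [GrpObj G] [IsFinite G.hom] [ConnectedSpace G.left] :
    ∃ n : ℕ, ∀ (X : Over (Spec (CommRingCat.of K))) (a : AlgGrp.Action G X), NonAbH1.IsTorsorFor Scheme.fppfPrecoverage a →
      NonAbH1.HasSectionOver X (Spec.map (CommRingCat.ofHom (iterateFrobenius K p n))) := by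
  refine ⟨G.hom.finrank default, fun X a h => ?_⟩
  obtain ⟨E, _, φ, x, hx, ⟨hpi, hfin, hrank⟩, -⟩ :=
    NonAbLib.exists_point (NonAbLib.fppf_isTorsorFor_fpqc h)
  letI := φ.toAlgebra
  set n := G.hom.finrank default
  have hE : ExpChar E p := expChar_of_injective_ringHom φ.injective p
  have key : ∀ e : E, ∃ k : K, φ k = e ^ p ^ n := by
    intro e
    obtain ⟨m, y, hmy⟩ := IsPurelyInseparable.minpoly_eq_X_pow_sub_C K p e
    have hm : p ^ m ≤ n := by
      have h1 := minpoly.natDegree_le (A := K) e
      rw [hmy, Polynomial.natDegree_X_pow_sub_C] at h1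
      exact h1.trans hrank
    have hey : φ y = e ^ p ^ m := by
      have h2 := minpoly.aeval K e
      rw [hmy, map_sub, map_pow, Polynomial.aeval_X, Polynomial.aeval_C, sub_eq_zero] at h2
      exact h2.symm
    rcases Nat.lt_or_ge 1 p with hp | hp
    · have hmn : m ≤ n := (Nat.lt_pow_self hp).le.trans hm
      refine ⟨y ^ p ^ (n - m), ?_⟩
      rw [map_pow, hey, ← pow_mul, ← pow_add, Nat.add_sub_cancel' hmn]
    · have hp1 : p = 1 := le_antisymm hp (expChar_pos K p)
      refine ⟨y, ?_⟩
      rw [hey, hp1, one_pow, one_pow]
  choose θ hθ using key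
  let θh : E →+* K :=
    { toFun := θ
      map_one' := φ.injective (by rw [hθ, map_one, one_pow])
      map_mul' := fun a b => φ.injective (by rw [map_mul, hθ, hθ, hθ, mul_pow])
      map_zero' := φ.injective (by rw [hθ, map_zero, zero_pow (pow_ne_zero _ (expChar_pos K p).ne')])
      map_add' := fun a b => φ.injective (by rw [map_add, hθ, hθ, hθ, add_pow_expChar_pow]) }
  refine NonAbLib.hasSectionOver_of_ringHom hx θh (RingHom.ext fun k => φ.injective ?_)
  show φ (θ (φ k)) = φ (iterateFrobenius K p n k)
  rw [hθ, iterateFrobenius_def, map_pow]

end Groth.Agent.S18318
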