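import Groth.Statements.S18320
import Groth.Agent.Frob25.Quotient

set_option autoImplicit false
set_option backward.isDefEq.respectTransparency.types false
universe u
open CategoryTheory AlgebraicGeometry
open AlgGrp

namespace Groth.Agent.S18320



/-- Let K be a field and G a K-group scheme whose structure morphism is locally of finite type. Then G
is an extension of a smooth K-group scheme by a finite connected one: there are a K-group scheme H
with H → Spec K finite and H connected, a K-group scheme Q with Q → Spec K smooth, and homomorphisms
i : H → G and v : G → Q with i a closed immersion, such that 1 → H → G → Q → 1 is exact for the fppf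
topology (i followed by v is trivial, G with H acting through i is a pseudo-torsor over Q, and v
acquires sections over the members of some fppf covering of Q). -/
theorem result (K : Type u) [Field K]
    (G : Over (Spec (CommRingCat.of K))) [GrpObj G] [LocallyOfFiniteType G.hom] :
    ∃ (H Q : Over (Spec (CommRingCat.of K))) (_ : GrpObj H) (_ : GrpObj Q) (i : H ⟶ G) (v : G ⟶ Q),
      IsFinite H.hom ∧ ConnectedSpace H.left ∧ Smooth Q.hom ∧ IsClosedImmersion i.left ∧
        NonAbH1.IsExactSeq Scheme.fppfPrecoverage i v := by
  exact Groth.Agent.Frob25.exists_extension G

end Groth.Agent.S18320
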