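import Groth.Statements.S18329
import Groth.Agent.CommAlg4.SepElemTensor
-- import your own Groth.Agent.* helpers here

set_option autoImplicit false
universe u
open TensorProduct
open SGA3

namespace Groth.Agent.S18329

/-- Let k be an algebraically closed field of prime characteristic p and A a commutative Hopf algebra
over k, the coordinate ring of an affine k-group G, quotient groups of G being read as
sub-Hopf-algebras of A (subalgebras stable under comultiplication and antipode). Let B₀ be the
subalgebra of elements of A that are separable over k (its spectrum is the group of connected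
components π₀(G)) and let C be the largest cocommutative sub-Hopf-algebra of A (its spectrum is the
largest commutative quotient group G_ab). Then B₀ ⊓ C, whose spectrum is π₀(G_ab), is the largest
cocommutative sub-Hopf-algebra of A contained in B₀, whose spectrum is the largest commutative
quotient of π₀(G): the canonical homomorphism from π₀(G_ab) to (π₀(G))_ab is an isomorphism. (The
abelianization is rendered through its universal property among affine quotient groups, as the
largest cocommutative sub-Hopf-algebra, rather than as the quotient by the derived subgroup.) -/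
theorem result (k A : Type u) [Field k] [IsAlgClosed k]
    (p : ℕ) [Fact p.Prime] [CharP k p] [CommRing A] [HopfAlgebra k A]
    (B₀ : Subalgebra k A) (hB₀ : ∀ a : A, a ∈ B₀ ↔ IsSeparable k a)
    (C : Subalgebra k A) (hC : SGA3.IsHopfSubalgebra k A C)
    (hCc : ∀ c ∈ C, TensorProduct.comm k A A (Coalgebra.comul c) = Coalgebra.comul c)
    (hCmax : ∀ D : Subalgebra k A, SGA3.IsHopfSubalgebra k A D →
      (∀ d ∈ D, TensorProduct.comm k A A (Coalgebra.comul d) = Coalgebra.comul d) → D ≤ C) :
    IsGreatest {D : Subalgebra k A | SGA3.IsHopfSubalgebra k A D ∧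
      (∀ d ∈ D, TensorProduct.comm k A A (Coalgebra.comul d) = Coalgebra.comul d) ∧ D ≤ B₀}
      (B₀ ⊓ C) := by
  classical
  have hmap : ∀ {B B' : Type u} [CommRing B] [CommRing B'] [Algebra k B] [Algebra k B'] (φ : B →ₐ[k] B') (b : B),
      IsSeparable k b → IsSeparable k (φ b) := fun φ b hb =>
    Polynomial.Separable.of_dvd hb (minpoly.dvd k _ (by
      rw [Polynomial.aeval_algHom_apply, minpoly.aeval, map_zero]))
  refine ⟨⟨⟨fun b hb => ?_, fun b hb => ?_⟩, fun d hd => hCc d hd.2, inf_le_left⟩,
    fun D hD => le_inf hD.2.2 (hCmax D hD.1 hD.2.1)⟩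
  · obtain ⟨u, hu⟩ := hC.1 b hb.2
    let j : TensorProduct k C C →ₐ[k] TensorProduct k A A := Algebra.TensorProduct.map C.val C.val
    have hj : Function.Injective j :=
      TensorProduct.map_injective_of_flat_flat C.val.toLinearMap C.val.toLinearMap
        Subtype.val_injective Subtype.val_injective
    have huj : j u = CoalgebraStruct.comul (R := k) b := hu
    have husep : IsSeparable k u := by
      have h := hmap (Bialgebra.comulAlgHom k A) b ((hB₀ b).1 hb.1)
      rw [IsSeparable, ← minpoly.algHom_eq j hj, huj]
      exact h
    let S : Submodule k C := (Subalgebra.toSubmodule B₀).comap C.val.toLinearMap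
    obtain ⟨w, hw⟩ := Groth.Agent.CommAlg4.mem_range_map_of_isSeparable p S
      (fun c hc => (hB₀ _).2 (hmap C.val c hc)) husep
    let g : S →ₗ[k] ↥(B₀ ⊓ C) :=
      { toFun := fun c => ⟨(c : C), c.2, (c : C).2⟩
        map_add' := fun _ _ => rfl
        map_smul' := fun _ _ => rfl }
    refine ⟨TensorProduct.map g g w, ?_⟩
    rw [← huj, ← hw]
    clear hw
    induction w with
    | zero => simp
    | tmul a c => rfl
    | add a c ha hc => simp only [map_add, ha, hc]
  · exact ⟨(hB₀ _).2 (hmap (HopfAlgebra.antipodeAlgHom k A) b ((hB₀ b).1 hb.1)), hC.2 b hb.2⟩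

end Groth.Agent.S18329
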