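import Groth.Statements.S18330
import Groth.Agent.LatticeW15.Basic
-- import your own Groth.Agent.* helpers here

set_option autoImplicit false
open CAlg

namespace Groth.Agent.S18330

/-- Let r ≥ 1, let δ ≥ 0 and g be integers with δ dividing 2(g - 1), and let d be a vector of ℤ^r whose
coordinates have non-negative gcd D (its divisibility). For a symmetric bilinear form b on ℤ^r the
map x ↦ b(d, x) + (1 - g) b(x, x) taken modulo δ is additive (because δ divides 2(g - 1)); let H be
the subgroup of Hom(ℤ^r, ℤ/δℤ) generated by all such maps. Then the quotient of Hom(ℤ^r, ℤ/δℤ) by H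
is isomorphic to ℤ/gcd(δ, D + 1 - g) × (ℤ/gcd(δ, g - 1, D))^(r-1) (existence of an isomorphism of
abelian groups; for δ = 0 read ℤ/0ℤ = ℤ). (The published corollary is a statement about the cokernel
of the weight homomorphism on the Picard group of the rigidified stack of T-bundles of degree d on a
family of curves of genus g with invariant δ; this row is the lattice computation that its printed
proof carries out, the divisibility δ ∣ 2g - 2 being the standing property of that invariant.) -/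
theorem result
    (r : ℕ) (hr : 0 < r) (δ : ℕ) (g : ℤ) (hδ : (δ : ℤ) ∣ 2 * (g - 1))
    (d : Fin r → ℤ) :
    Nonempty ((((Fin r → ℤ) →+ ZMod δ) ⧸ AddSubgroup.closure
      {φ : (Fin r → ℤ) →+ ZMod δ | ∃ b : LinearMap.BilinForm ℤ (Fin r → ℤ), b.IsSymm ∧
      ∀ x, φ x = ((b d x + (1 - g) * b x x : ℤ) : ZMod δ)}) ≃+
      (ZMod (Int.gcd δ (Finset.univ.gcd d + 1 - g)) ×
        (Fin (r - 1) → ZMod (Int.gcd δ (Int.gcd (g - 1) (Finset.univ.gcd d)))))) := by
  obtain ⟨Ψ, hΨ⟩ := LatticeW15.weight_group r hr δ g hδ d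
  set g1 := Int.gcd δ (Finset.univ.gcd d + 1 - g)
  set g2 := Int.gcd δ (Int.gcd (g - 1) (Finset.univ.gcd d))
  have h1 : g1 ∣ δ := Int.natCast_dvd_natCast.1 (Int.gcd_dvd_left _ _)
  have h2 : g2 ∣ δ := Int.natCast_dvd_natCast.1 (Int.gcd_dvd_left _ _)
  let c1 : ZMod δ →+* ZMod g1 := ZMod.castHom h1 _
  let c2 : ZMod δ →+* ZMod g2 := ZMod.castHom h2 _
  let Φ : ((Fin r → ℤ) →+ ZMod δ) →+ ZMod g1 × (Fin (r - 1) → ZMod g2) :=
    (c1.toAddMonoidHom.prodMap (c2.toAddMonoidHom.compLeft _)).comp Ψ.toAddMonoidHom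
  have hsurj : Function.Surjective Φ := by
    rintro ⟨a, f⟩
    obtain ⟨x, rfl⟩ := ZMod.castHom_surjective h1 a
    choose y hy using fun j => ZMod.castHom_surjective h2 (f j)
    exact ⟨Ψ.symm (x, y), Prod.ext (by simp [Φ, c1]) (funext fun j => by simpa [Φ, c2] using hy j)⟩
  have hk : ∀ (G : ℕ) (hG : G ∣ δ) (a : ZMod δ), ZMod.castHom hG (ZMod G) a = 0 ↔ ∃ n : ℤ, a = (n * (G : ℤ) : ℤ) := by
    intro G hG a
    constructor
    · intro h
      obtain ⟨x, rfl⟩ := ZMod.intCast_surjective a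
      rw [map_intCast, ZMod.intCast_zmod_eq_zero_iff_dvd] at h
      obtain ⟨n, rfl⟩ := h
      exact ⟨n, by rw [mul_comm]⟩
    · rintro ⟨n, rfl⟩
      rw [map_intCast, ZMod.intCast_zmod_eq_zero_iff_dvd]
      exact dvd_mul_left _ _
  refine ⟨(QuotientAddGroup.quotientAddEquivOfEq (AddSubgroup.ext fun φ => (hΨ φ).trans ?_)).trans
    (QuotientAddGroup.quotientKerEquivOfSurjective Φ hsurj)⟩
  rw [AddMonoidHom.mem_ker, Prod.ext_iff, funext_iff]
  refine and_congr (hk g1 h1 _).symm ?_
  exact forall_congr' fun j => (hk g2 h2 _).symm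

end Groth.Agent.S18330
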