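import Groth.Statements.S1834
import Groth.Agent.CycTameLib.Factor

set_option autoImplicit false
universe u
open CycAlg

namespace Groth.Agent.S1834

/-- Let R be a Noetherian local ring of dimension 1 and a, b nonzerodivisors. There is a finite
extension ring R ⊆ R' with R'/R killed by a power of the maximal ideal, and nonzerodivisors t, a',
b' of R' with a = t a', b = t b' and (a', b') the unit ideal of R'. -/
theorem result (R : Type u) [CommRing R] [IsNoetherianRing R] [IsLocalRing R] (hR : ringKrullDim R = 1) (a b : R) (ha : a ∈ nonZeroDivisors R) (hb : b ∈ nonZeroDivisors R) : ∃ (R' : Type u) (_ : CommRing R') (_ : Algebra R R'), CycAlg.IsFinExt R R' (IsLocalRing.maximalIdeal R) ∧ ∃ t a' b' : R', t ∈ nonZeroDivisors R' ∧ a' ∈ nonZeroDivisors R' ∧ b' ∈ nonZeroDivisors R' ∧ algebraMap R R' a = t * a' ∧ algebraMap R R' b = t * b' ∧ Ideal.span {a', b'} = ⊤ := by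
  classical
  obtain ⟨B, _, _, κ, _, π, u, e, hinj, hfin, hN, hπ, hcop, hfac⟩ :=
    CycTameLib.exists_factorization hR ![a, b] (by intro i; fin_cases i <;> assumption)
  let t : B := ∏ j, π j ^ min (e 0 j) (e 1 j)
  let a' : B := (u 0 : B) * ∏ j, π j ^ (e 0 j - min (e 0 j) (e 1 j))
  let b' : B := (u 1 : B) * ∏ j, π j ^ (e 1 j - min (e 0 j) (e 1 j))
  have hp : ∀ f : κ → ℕ, ∏ j, π j ^ f j ∈ nonZeroDivisors B := fun f ↦ prod_mem fun j _ ↦ pow_mem (hπ j) _
  refine ⟨B, inferInstance, inferInstance, ⟨hinj, hfin, hN⟩, t, a', b', hp _, mul_mem (u 0).isUnit.mem_nonZeroDivisors (hp _),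
    mul_mem (u 1).isUnit.mem_nonZeroDivisors (hp _), ?_, ?_, ?_⟩
  · refine (hfac 0).trans ?_
    simp only [t, a']
    rw [mul_left_comm, ← Finset.prod_mul_distrib]
    congr 1
    exact Finset.prod_congr rfl fun j _ ↦ by rw [← pow_add]; congr 1; omega
  · refine (hfac 1).trans ?_
    simp only [t, b']
    rw [mul_left_comm, ← Finset.prod_mul_distrib]
    congr 1
    exact Finset.prod_congr rfl fun j _ ↦ by rw [← pow_add]; congr 1; omega
  · by_contra h
    obtain ⟨q, hq, hle⟩ := Ideal.exists_le_maximal _ h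
    have key : ∀ (i : Fin 2) (f : κ → ℕ), (u i : B) * ∏ j, π j ^ f j ∈ q → ∃ j, f j ≠ 0 ∧ π j ∈ q := by
      intro i f hm
      rcases hq.isPrime.mem_or_mem hm with h1 | h1
      · exact absurd (q.eq_top_of_isUnit_mem h1 (u i).isUnit) hq.ne_top
      · obtain ⟨j, -, hj⟩ := (Ideal.IsPrime.prod_mem_iff (hp := hq.isPrime)).mp h1
        refine ⟨j, fun h0 ↦ ?_, hq.isPrime.mem_of_pow_mem _ hj⟩
        rw [h0, pow_zero] at hj
        exact hq.ne_top ((Ideal.eq_top_iff_one q).mpr hj)
    obtain ⟨j, hj, hjq⟩ := key 0 _ (hle (Ideal.subset_span (Set.mem_insert _ _)))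
    obtain ⟨k, hk, hkq⟩ := key 1 _ (hle (Ideal.subset_span (Set.mem_insert_of_mem _ rfl)))
    by_cases hjk : j = k
    · subst hjk; omega
    · obtain ⟨c, d, hcd⟩ := hcop j k hjk
      exact hq.ne_top ((Ideal.eq_top_iff_one q).mpr (hcd ▸ add_mem (q.mul_mem_left c hjq) (q.mul_mem_left d hkq)))
end Groth.Agent.S1834
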