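import Groth.Statements.S18340
import Groth.Agent.CAlgH.Approximation

set_option autoImplicit false
universe u
open ArtinApx

namespace Groth.Agent.S18340

open CategoryTheory in
/-- Let k be an algebraically closed field, A a finitely generated k-algebra with a maximal ideal m (a
k-point of Spec A), F a functor from commutative A-algebras to sets which preserves filtered
colimits, and ξ an element of F(Â), Â the m-adic completion of A. Then for every natural number N
there are an étale A-algebra A′, a surjective A-algebra homomorphism ψ : A′ → A/m^(N+1) and an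
element ξ′ of F(A′) whose image under F(ψ) is the image of ξ under F of the canonical map Â →
A/m^(N+1). (Affine form of the statement for limit-preserving functors on schemes over a finite-type
k-scheme S with a k-point s: Spec A′ is the étale neighbourhood of s, the kernel of ψ is the
(N+1)-st power of the maximal ideal of the point above s, and the equation says that ξ′ and ξ agree
to order N.) -/
theorem result (k : Type u) [Field k] [IsAlgClosed k]
    (A : Type u) [CommRing A] [Algebra k A] [Algebra.FiniteType k A] (m : Ideal A) [m.IsMaximal]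
    (F : CommAlgCat.{u} A ⥤ Type u) [Limits.PreservesFilteredColimits F]
    (ξ : F.obj (CommAlgCat.of A (AdicCompletion m A))) (N : ℕ) :
    ∃ (A' : Type u) (_ : CommRing A') (_ : Algebra A A') (_ : Algebra.Etale A A')
      (ψ : A' →ₐ[A] (A ⧸ m ^ (N + 1))) (_ : Function.Surjective ψ) (ξ' : F.obj (CommAlgCat.of A A')),
      F.map (CommAlgCat.ofHom ψ) ξ' =
        F.map (CommAlgCat.ofHom (AdicCompletion.evalₐ m (N + 1))) ξ := by
  let e := commAlgCatEquivUnder (CommRingCat.of A)
  let G : Under (CommRingCat.of A) ⥤ Type u := e.inverse ⋙ F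
  have hG : ∀ (J : Type u) [SmallCategory J] [IsFiltered J], Limits.PreservesColimitsOfShape J G :=
    fun J _ _ => inferInstance
  haveI : IsNoetherianRing A := Algebra.FiniteType.isNoetherianRing k A
  haveI : IsNoetherianRing (AdicCompletion m A) := _root_.Groth.Agent.Matlis6.isNoetherianRing_adicCompletion _
  obtain ⟨hloc, hcomp, heq, hdense⟩ := _root_.Groth.Agent.CAlgH.Approximation.exists_local_data m
  haveI := hloc
  haveI := hcomp
  have hA : CAlg.IsGRing A := _root_.Groth.Agent.CAlgH.isGRing_of_finiteType k
    (_root_.Groth.Agent.CAlgH.Approximation.isGRing_field k) A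
  let u := e.unitIso.app (CommAlgCat.of A (AdicCompletion m A))
  obtain ⟨A', _, _, hA', ψ, ξ', hξ⟩ := _root_.Groth.Agent.CAlgH.Approximation.exists_etale_element G hG
    (_root_.Groth.Agent.CAlgH.isRegularHom_adicCompletion_of_isGRing A hA m)
    (IsUnit.submonoid A) (fun s hs => (hs : IsUnit s).map _) hdense
    (AdicCompletion.evalₐ m (N + 1)) (N + 1)
    (fun y hy => _root_.Groth.Agent.CAlgH.Approximation.evalₐ_eq_zero (by rwa [Ideal.map_pow, ← heq]))
    (F.map u.hom ξ)
  refine ⟨A', inferInstance, inferInstance, hA', ψ, fun x => ?_,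
    F.map (e.unitIso.app (CommAlgCat.of A A')).inv ξ', ?_⟩
  · obtain ⟨r, rfl⟩ := Ideal.Quotient.mk_surjective x
    exact ⟨algebraMap A A' r, ψ.commutes r⟩
  · have h1 : (e.unitIso.app (CommAlgCat.of A A')).inv ≫ CommAlgCat.ofHom ψ =
        e.inverse.map (_root_.Groth.Agent.CAlgH.Approximation.underHom ψ) ≫
          (e.unitIso.app (CommAlgCat.of A (A ⧸ m ^ (N + 1)))).inv := rfl
    have h2 : CommAlgCat.ofHom (AdicCompletion.evalₐ m (N + 1)) =
        u.hom ≫ e.inverse.map (_root_.Groth.Agent.CAlgH.Approximation.underHom (AdicCompletion.evalₐ m (N + 1))) ≫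
          (e.unitIso.app (CommAlgCat.of A (A ⧸ m ^ (N + 1)))).inv := rfl
    refine (Functor.map_comp_apply F _ _ ξ').symm.trans ?_
    refine ((congrArg (fun f => F.map f ξ') h1).trans (Functor.map_comp_apply F _ _ ξ')).trans ?_
    refine Eq.trans ?_ ((congrArg (fun f => F.map f ξ) h2).trans
      ((Functor.map_comp_apply F _ _ ξ).trans (Functor.map_comp_apply F _ _ _))).symm
    exact congrArg (fun z => F.map (e.unitIso.app (CommAlgCat.of A (A ⧸ m ^ (N + 1)))).inv z) hξ

end Groth.Agent.S18340
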