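import Groth.Statements.S18343
import Groth.Agent.FSchLib.IdealSheaf
import Groth.Agent.CycLib28.StalkIdeal

set_option autoImplicit false
set_option linter.style.haveILetI false
universe u
open CategoryTheory CategoryTheory.Limits AlgebraicGeometry
open MultCurve

namespace Groth.Agent.S18343

private theorem surjective_of_sq_zero {A B C : Type*} [CommRing A] [CommRing B] [CommRing C]
    (φ : A →+* B) (q : B →+* C) (hsq : ∀ x ∈ RingHom.ker q, ∀ y ∈ RingHom.ker q, x * y = 0)
    (hker : RingHom.ker q ≤ (RingHom.ker (q.comp φ)).map φ)
    (h : Function.Surjective (q.comp φ)) : Function.Surjective φ := by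
  intro b
  obtain ⟨a, ha⟩ := h (q b)
  have hmem : b - φ a ∈ RingHom.ker q := by
    rw [RingHom.mem_ker, map_sub, sub_eq_zero]
    exact ha.symm
  have key : ∀ x ∈ (RingHom.ker (q.comp φ)).map φ, x ∈ φ.range := by
    intro x hx
    induction hx using Submodule.span_induction with
    | mem x hx => obtain ⟨j, -, rfl⟩ := hx; exact ⟨j, rfl⟩
    | zero => exact zero_mem _
    | add x y _ _ hx hy => exact add_mem hx hy
    | smul c x hx' hx =>
      obtain ⟨j, rfl⟩ := hx
      obtain ⟨c', hc'⟩ := h (q c)
      refine ⟨c' * j, ?_⟩
      have h1 : (c - φ c') * φ j = 0 := by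
        refine hsq _ ?_ _ ?_
        · rw [RingHom.mem_ker, map_sub, sub_eq_zero]; exact hc'.symm
        · have hle : (RingHom.ker (q.comp φ)).map φ ≤ RingHom.ker q :=
            Ideal.map_le_iff_le_comap.mpr fun z hz => hz
          exact hle hx'
      rw [map_mul, smul_eq_mul]
      linear_combination -h1
  obtain ⟨a', ha'⟩ := key _ (hker hmem)
  exact ⟨a + a', by rw [map_add, ha']; abel⟩



/-- Suppose C is a ribbon on the reduced scheme D via the closed immersion i : D ⟶ C (meaning the ideal
of D squares to zero and is locally generated by a single section z whose annihilator lies in (z)),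
and consider an arbitrary morphism of schemes f : C ⟶ X. The morphism f is a closed immersion
exactly when two things hold: the composite i ≫ f, i.e. f restricted to D, is a closed immersion,
and pulling back along f the ideal of the scheme-theoretic image of D in X yields the entire ideal
of D in C. This second requirement amounts to surjectivity of the map α_f that sends the pullback of
the conormal sheaf of the image of D in X onto the conormal bundle of D in C. (The statement is
given for arbitrary schemes and any morphism f; the published version assumes all schemes are of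
finite type over a field and D is connected, but the proof relies on neither assumption.) -/
theorem result (D C X : Scheme.{u}) (i : D ⟶ C)
    (hR : MultCurve.IsRibbon i) (f : C ⟶ X) :
    IsClosedImmersion f ↔ (IsClosedImmersion (i ≫ f) ∧ (i ≫ f).ker.comap f = i.ker) := by
  obtain ⟨⟨hci, hsq, -⟩, -⟩ := hR
  haveI := hci
  constructor
  · intro hf
    haveI := hf
    refine ⟨inferInstance, ?_⟩
    refine Scheme.IdealSheafData.ext_of_iSup_eq_top
      (fun V : X.affineOpens => ⟨f ⁻¹ᵁ V.1, V.2.preimage f⟩) ?_ (fun V => ?_)
    · rw [← Scheme.Hom.preimage_iSup, iSup_affineOpens_eq_top, Scheme.Hom.preimage_top]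
    · rw [Groth.Agent.FSchLib.ideal_comap_eq_map f _ ⟨f ⁻¹ᵁ V.1, V.2.preimage f⟩ V le_rfl,
        Scheme.Hom.ker_apply, Scheme.Hom.ker_apply, Scheme.Hom.appLE_eq_app,
        Scheme.Hom.comp_app]
      exact Ideal.map_comap_of_surjective (f.app V.1).hom (f.app_surjective V.1 V.2)
        (RingHom.ker (i.app (f ⁻¹ᵁ V.1)).hom)
  · rintro ⟨hif, hcomap⟩
    haveI := hif
    have hsupp : ∀ x : C, x ∈ i.ker.support := by
      intro x
      obtain ⟨U, hU, hxU, -⟩ :=
        exists_isAffineOpen_mem_and_subset (x := x) (U := ⊤) (Set.mem_univ _)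
      have hmem : x ∈ C.zeroLocus (U := U) (i.ker.ideal ⟨U, hU⟩ : Set Γ(C, U)) ∩ U := by
        refine ⟨?_, hxU⟩
        rw [Scheme.mem_zeroLocus_iff]
        intro z hz hmem
        have h2 : z * z = 0 := by
          have h3 : z * z ∈ i.ker.ideal ⟨U, hU⟩ ^ 2 := by rw [pow_two]; exact Ideal.mul_mem_mul hz hz
          have h4 := congrArg (fun J : C.IdealSheafData => J.ideal ⟨U, hU⟩) hsq
          simp only [Scheme.IdealSheafData.ideal_pow, Pi.pow_apply] at h4
          rw [h4] at h3
          simpa using h3
        rw [Scheme.mem_basicOpen _ _ _ hxU] at hmem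
        exact (IsNilpotent.map (⟨2, by rw [pow_two]; exact h2⟩ : IsNilpotent z)
          (C.presheaf.germ U x hxU).hom).not_isUnit hmem
      rw [← Scheme.IdealSheafData.coe_support_inter] at hmem
      exact hmem.1
    have hsurj : Function.Surjective i := fun x => by
      have h1 : (i.ker.support : Set C) = closure (Set.range i) := i.support_ker
      have h2 : x ∈ closure (Set.range i) := h1 ▸ hsupp x
      rwa [i.isClosedEmbedding.isClosed_range.closure_eq] at h2
    have hclosed : Topology.IsClosedEmbedding f := by
      let e : D ≃ₜ C := i.isClosedEmbedding.isEmbedding.toHomeomorphOfSurjective hsurj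
      have he : (f : C → X) = (i ≫ f : D ⟶ X) ∘ e.symm := by
        funext x
        obtain ⟨d, rfl⟩ := e.surjective x
        simp only [Function.comp_apply, Homeomorph.symm_apply_apply, Scheme.Hom.comp_apply]
        rfl
      rw [he]
      exact (i ≫ f).isClosedEmbedding.comp e.symm.isClosedEmbedding
    haveI : SurjectiveOnStalks f := by
      refine ⟨fun x => ?_⟩
      obtain ⟨d, rfl⟩ := hsurj x
      refine surjective_of_sq_zero _ (i.stalkMap d).hom ?_ ?_ ?_
      · intro a ha b hb
        obtain ⟨U, hU, hxU, -⟩ :=
          exists_isAffineOpen_mem_and_subset (x := i d) (U := ⊤) (Set.mem_univ _)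
        rw [Groth.Agent.HilbertBurch29.ker_stalkMap_eq i d ⟨U, hU⟩ hxU] at ha hb
        have h1 := Ideal.mul_mem_mul ha hb
        have h4 := congrArg (fun J : C.IdealSheafData => J.ideal ⟨U, hU⟩) hsq
        simp only [pow_two, Scheme.IdealSheafData.ideal_mul, Pi.mul_apply] at h4
        rw [← Ideal.map_mul, h4] at h1
        simpa using h1
      · have h6 := Groth.Agent.CycLib28.stalkIdeal_comap _ f (x := i d)
          ((i ≫ f).range_subset_ker_support ⟨d, rfl⟩)
        rw [hcomap, Groth.Agent.CycLib28.stalkIdeal_ker i d] at h6
        rw [h6, ← CommRingCat.hom_comp, ← Scheme.Hom.stalkMap_comp]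
        exact Ideal.map_mono (Groth.Agent.CycLib28.stalkIdeal_ker (i ≫ f) d).le
      · rw [← CommRingCat.hom_comp, ← Scheme.Hom.stalkMap_comp]
        exact (i ≫ f).stalkMap_surjective d
    exact ⟨hclosed⟩

end Groth.Agent.S18343
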