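import Groth.Statements.S18344
import Groth.Agent.MorProj.OmegaAffine
import Groth.Agent.Flatn12.PullbackSections
import Groth.Agent.Props12.FinLocFree
import Groth.Agent.PicLib.FiniteSetTriv
-- import your own Groth.Agent.* helpers here

set_option autoImplicit false
universe u
open CategoryTheory CategoryTheory.Limits AlgebraicGeometry
open MultCurve

set_option backward.isDefEq.respectTransparency false
set_option backward.isDefEq.respectTransparency.types false
open scoped TensorProduct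

namespace Groth.Agent.S18344

theorem bijective_mk_one {A B N : Type u} [CommRing A] [CommRing B] [Algebra A B] [AddCommGroup N] [Module A N]
    (hs : Function.Surjective (algebraMap A B)) (hK : ∀ k ∈ RingHom.ker (algebraMap A B), ∀ n : N, k • n = 0) :
    Function.Bijective (TensorProduct.mk A B N 1) := by
  constructor
  · let g : B → A := Function.surjInv hs
    have hg : ∀ b, algebraMap A B (g b) = b := Function.surjInv_eq hs
    have key : ∀ a a' : A, algebraMap A B a = algebraMap A B a' → ∀ n : N, a • n = a' • n := fun a a' h n => by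
      have := hK (a - a') (by rw [RingHom.mem_ker, map_sub, h, sub_self]) n
      rwa [sub_smul, sub_eq_zero] at this
    let r : B →ₗ[A] N →ₗ[A] N :=
      { toFun := fun b => g b • LinearMap.id
        map_add' := fun b b' => LinearMap.ext fun n => by
          simp only [LinearMap.smul_apply, LinearMap.id_apply, LinearMap.add_apply, ← add_smul]
          exact key _ _ (by rw [map_add, hg, hg, hg]) n
        map_smul' := fun a b => LinearMap.ext fun n => by
          simp only [LinearMap.smul_apply, LinearMap.id_apply, RingHom.id_apply, smul_smul]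
          exact key _ _ (by rw [map_mul, hg, hg, Algebra.smul_def]) n }
    intro m m' h
    have h2 := congrArg (TensorProduct.lift r) h
    simp only [TensorProduct.mk_apply, TensorProduct.lift.tmul] at h2
    have hone : ∀ n : N, r 1 n = n := fun n => by
      show g 1 • n = n
      rw [key (g 1) 1 (by rw [hg, map_one]) n, one_smul]
    rwa [hone, hone] at h2
  · intro t
    induction t using TensorProduct.induction_on with
    | zero => exact ⟨0, map_zero _⟩
    | tmul b n =>
      obtain ⟨a, rfl⟩ := hs b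
      exact ⟨a • n, by rw [TensorProduct.mk_apply, TensorProduct.tmul_smul, Algebra.algebraMap_eq_smul_one, TensorProduct.smul_tmul']⟩
    | add x y hx hy =>
      obtain ⟨m, rfl⟩ := hx
      obtain ⟨m', rfl⟩ := hy
      exact ⟨m + m', map_add _ _ _⟩

theorem exists_sections (C : Scheme.{u}) (I : C.IdealSheafData) (hI : I ^ 2 = ⊥) (U : C.affineOpens) :
    ∃ Φ : I.ideal U → Γ(Omega.conormal I.subschemeι, I.subschemeι ⁻¹ᵁ U.1), Function.Bijective Φ ∧ Φ 0 = 0 ∧
      ∀ (a : Γ(C, U.1)) (z : I.ideal U), Φ (a • z) = I.subschemeι.app U.1 a • Φ z := by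
  let ι := I.subschemeι
  haveI := MorProj.isQCoh_idealMod ι.ker
  let J := ι.ker
  have hker : RingHom.ker (ι.app U.1).hom = I.ideal U := I.ker_subschemeι_app U
  letI := (ι.appLE U.1 (ι ⁻¹ᵁ U.1) le_rfl).hom.toAlgebra
  have halg : ∀ a : Γ(C, U.1), algebraMap Γ(C, U.1) Γ(I.subscheme, ι ⁻¹ᵁ U.1) a = ι.app U.1 a := fun a => by
    show ι.appLE U.1 (ι ⁻¹ᵁ U.1) le_rfl a = _
    rw [Scheme.Hom.appLE_eq_app]
  -- sections of the ideal module
  let ψ : Γ(ClSub.idealMod J, U.1) →ₗ[Γ(C, U.1)] Γ(C, U.1) := Coherent.appLin (ClSub.idealModι J) U.1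
  have hψ : Function.Injective ψ := Coherent.app_injective_of_mono (kernel.ι (ClSub.toSubscheme J)) U.1
  have hJ : J = I := I.ker_subschemeι
  have hr : ∀ a, a ∈ LinearMap.range ψ ↔ a ∈ I.ideal U := fun a => by
    rw [← hJ, ← J.ker_subschemeι_app U]
    constructor
    · rintro ⟨k, rfl⟩
      exact Coherent.kernel_ι_app_zero (ClSub.toSubscheme J) U.1 k
    · intro ha
      exact Coherent.kernel_sections_exact (ClSub.toSubscheme J) a ha
  let e : Γ(ClSub.idealMod J, U.1) ≃ₗ[Γ(C, U.1)] I.ideal U :=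
    (LinearEquiv.ofInjective ψ hψ).trans (LinearEquiv.ofEq _ _ (SetLike.ext hr))
  obtain ⟨E⟩ := Flatn12.nonempty_pullback_sections_equiv ι (ClSub.idealMod J) U.2 (U.2.preimage ι)
    (le_refl (ι ⁻¹ᵁ U.1))
  have hsurj : Function.Surjective (algebraMap Γ(C, U.1) Γ(I.subscheme, ι ⁻¹ᵁ U.1)) := fun b => by
    obtain ⟨a, ha⟩ := ι.app_surjective U.1 U.2 b
    exact ⟨a, (halg a).trans ha⟩
  have hK : ∀ k ∈ RingHom.ker (algebraMap Γ(C, U.1) Γ(I.subscheme, ι ⁻¹ᵁ U.1)),
      ∀ n : I.ideal U, k • n = 0 := fun k hk n => by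
    rw [RingHom.mem_ker, halg] at hk
    have hk' : k ∈ I.ideal U := by rw [← hker]; exact hk
    have h3 : k * n.1 ∈ I.ideal U ^ 2 := by rw [pow_two]; exact Ideal.mul_mem_mul hk' n.2
    have h4 := congrArg (fun J : C.IdealSheafData => J.ideal U) hI
    simp only [Scheme.IdealSheafData.ideal_pow, Pi.pow_apply] at h4
    rw [h4] at h3
    exact Subtype.ext (by simpa using h3)
  refine ⟨fun z => E ((TensorProduct.mk _ _ _ 1) (e.symm z)), ?_, ((congrArg E ((congrArg (TensorProduct.mk _ _ _ 1) (map_zero e.symm)).trans (map_zero _))).trans (map_zero E)), fun a z => ?_⟩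
  · exact (E.bijective.comp ((bijective_mk_one hsurj fun k hk n => by
      apply e.injective; rw [map_smul, hK k hk, map_zero]).comp e.symm.bijective))
  · have key : ∀ (a : Γ(C, U.1)) (m : Γ(ClSub.idealMod J, U.1)), E (TensorProduct.mk _ Γ(I.subscheme, ι ⁻¹ᵁ U.1) _ 1 (a • m)) =
        ι.app U.1 a • E (TensorProduct.mk _ Γ(I.subscheme, ι ⁻¹ᵁ U.1) _ 1 m) := fun a m => by
      rw [map_smul, ← algebraMap_smul Γ(I.subscheme, ι ⁻¹ᵁ U.1) a, map_smul, halg]
    exact (congrArg E (congrArg (TensorProduct.mk _ _ _ 1) (map_smul e.symm a z))).trans (key a _)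

theorem range_eq_univ (C : Scheme.{u}) (I : C.IdealSheafData) (hI : I ^ 2 = ⊥) (x : C) :
    ∃ y : I.subscheme, I.subschemeι y = x := by
  show x ∈ Set.range I.subschemeι
  rw [I.range_subschemeι]
  obtain ⟨U, hU, hxU, -⟩ :=
    exists_isAffineOpen_mem_and_subset (x := x) (U := ⊤) (Set.mem_univ _)
  have hmem : x ∈ C.zeroLocus (U := U) (I.ideal ⟨U, hU⟩ : Set Γ(C, U)) ∩ U := by
    refine ⟨?_, hxU⟩
    rw [Scheme.mem_zeroLocus_iff]
    intro z hz hmem
    have h2 : z * z = 0 := by
      have h3 : z * z ∈ I.ideal ⟨U, hU⟩ ^ 2 := by rw [pow_two]; exact Ideal.mul_mem_mul hz hz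
      have h4 := congrArg (fun J : C.IdealSheafData => J.ideal ⟨U, hU⟩) hI
      simp only [Scheme.IdealSheafData.ideal_pow, Pi.pow_apply] at h4
      rw [h4] at h3
      simpa using h3
    rw [Scheme.mem_basicOpen _ _ _ hxU] at hmem
    exact (IsNilpotent.map (⟨2, by rw [pow_two]; exact h2⟩ : IsNilpotent z)
      (C.presheaf.germ U x hxU).hom).not_isUnit hmem
  rw [← Scheme.IdealSheafData.coe_support_inter] at hmem
  exact hmem.1


/-- Let C be a scheme and I ⊂ O_C a quasi-coherent ideal with I² = 0, and let D ⊂ C be the closed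
subscheme it defines. Then the following are equivalent: (a) every point of C has an affine open
neighbourhood U on which I(U) is generated by one section z such that every a with a z = 0 lies in
I(U); (b) the conormal sheaf of D in C (the ideal I regarded as an O_D-module, which makes sense
because I² = 0) is an invertible O_D-module. This identifies the line-bundle clause in the
definition of a ribbon with the section-level principal-of-order-two condition. -/
theorem result (C : Scheme.{u}) (I : C.IdealSheafData)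
    (hI : I ^ 2 = ⊥) :
    MultCurve.IsPrincipalOfOrder I 2 ↔ PicF.IsInvertible (Omega.conormal I.subschemeι) := by
  let ι := I.subschemeι
  haveI := MorProj.isQCoh_idealMod ι.ker
  haveI hq : Coh.IsQCoh (Omega.conormal ι) := EGA43.InjFibre.isQCoh_pullback ι (ClSub.idealMod ι.ker)
  constructor
  · intro h y
    obtain ⟨U, hxU, z, hz, hann⟩ := h (ι y)
    obtain ⟨Φ, hΦ, hΦ0, hΦs⟩ := exists_sections C I hI U
    let z' : I.ideal U := ⟨z, hz.ge (Ideal.mem_span_singleton_self z)⟩
    let φ := LinearMap.toSpanSingleton Γ(I.subscheme, ι ⁻¹ᵁ U.1) Γ(Omega.conormal ι, ι ⁻¹ᵁ U.1) (Φ z')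
    have hφ : Function.Bijective φ := by
      constructor
      · refine (injective_iff_map_eq_zero φ).2 fun r hr => ?_
        obtain ⟨a, rfl⟩ := ι.app_surjective U.1 U.2 r
        have h1 : Φ (a • z') = Φ 0 := by rw [hΦs, hΦ0]; exact hr
        have h2 : a * z ^ (2 - 1) = 0 := by simpa using congrArg Subtype.val (hΦ.1 h1)
        exact (RingHom.mem_ker (f := (ι.app U.1).hom)).1 ((I.ker_subschemeι_app U).ge (hann a h2))
      · intro m
        obtain ⟨w, rfl⟩ := hΦ.2 m
        obtain ⟨a, ha⟩ := Ideal.mem_span_singleton'.1 (hz.le w.2)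
        exact ⟨ι.app U.1 a, by rw [LinearMap.toSpanSingleton_apply, ← hΦs]; exact congrArg Φ (Subtype.ext ha)⟩
    let b : Module.Basis (Fin 1) Γ(I.subscheme, ι ⁻¹ᵁ U.1) Γ(Omega.conormal ι, ι ⁻¹ᵁ U.1) :=
      (Module.Basis.singleton (Fin 1) _).map (LinearEquiv.ofBijective φ hφ)
    obtain ⟨b'⟩ := Props12.exists_basis_restrict_top _ _ b
    have : IsAffine (ι ⁻¹ᵁ U.1).toScheme := U.2.preimage ι
    obtain ⟨i⟩ := Props12.exists_iso_freeMod_of_basis _ b'
    exact ⟨ι ⁻¹ᵁ U.1, hxU, ⟨i ≪≫ PicLib.freeModOneIso _⟩⟩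
  · intro h x
    obtain ⟨y, rfl⟩ := range_eq_univ C I hI x
    obtain ⟨W, hyW, ⟨i⟩⟩ := h y
    obtain ⟨W₀, hW₀, hWeq⟩ := ι.isClosedEmbedding.isInducing.isOpen_iff.1 W.2
    obtain ⟨U, hU, hxU, hUW⟩ := TopologicalSpace.Opens.isBasis_iff_nbhd.mp C.isBasis_affineOpens
      (U := ⟨W₀, hW₀⟩) (x := ι y) (by
        show y ∈ ι ⁻¹' W₀
        rw [hWeq]; exact hyW)
    have hle : ι ⁻¹ᵁ U ≤ W := fun v hv => hWeq.le (hUW hv)
    obtain ⟨b⟩ := Props12.exists_basis_sections (n := 1) (i ≪≫ (PicLib.freeModOneIso _).symm) hle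
    obtain ⟨Φ, hΦ, hΦ0, hΦs⟩ := exists_sections C I hI ⟨U, hU⟩
    obtain ⟨z, hz⟩ := hΦ.2 (b 0)
    refine ⟨⟨U, hU⟩, hxU, z.1, le_antisymm (fun w hw => ?_) ?_, fun a ha => ?_⟩
    · have hrep := b.sum_repr (Φ ⟨w, hw⟩)
      rw [Fin.sum_univ_one] at hrep
      obtain ⟨a, ha⟩ := ι.app_surjective U hU (b.repr (Φ ⟨w, hw⟩) 0)
      rw [← ha, ← hz, ← hΦs] at hrep
      exact Ideal.mem_span_singleton'.2 ⟨a, congrArg Subtype.val (hΦ.1 hrep)⟩
    · exact (Ideal.span_singleton_le_iff_mem _).2 z.2
    · have h1 : a • z = 0 := Subtype.ext (by simpa using ha)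
      have h2 := hΦs a z
      rw [h1, hΦ0, hz] at h2
      have h3 := congrArg (fun m => b.repr m 0) h2
      simp at h3
      exact (I.ker_subschemeι_app ⟨U, hU⟩).le h3.symm

end Groth.Agent.S18344
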