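import Groth.Statements.S18345
import Groth.Agent.Ribbon18.Main
import Groth.Agent.Coherent.DimShift

set_option backward.isDefEq.respectTransparency false
set_option backward.isDefEq.respectTransparency.types false
set_option linter.style.haveILetI false

set_option autoImplicit false
universe w u
open CategoryTheory CategoryTheory.Limits AlgebraicGeometry
open MultCurve

namespace Groth.Agent.S18345

/-- Let k be a field and C a ribbon, locally of finite type over k, on the reduced connected scheme D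
along i : D ⟶ C, with its restricted cotangent sequence 0 → L → Ω_C|_D → Ω_D → 0 presented by a
universal k-derivation d₁ : O_C → Ω₁, a universal k-derivation d₂ : O_D → Ω₂, the map φ from the
conormal bundle L of D in C to i^*Ω₁ induced by d₁ and the map c : i^*Ω₁ → Ω₂ compatible with d₁ and
d₂, assumed short exact, that is, with φ injective; let e_C ∈ Ext¹(Ω_D, L) be the class of that
sequence. Then the ribbon is split — i admits a retraction C ⟶ D that is a morphism over k — if and
only if e_C = 0. (The published text treats the restricted cotangent sequence as short exact for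
every ribbon and puts the retractions in bijection with the splittings of e_C. Short exactness holds
over a perfect field but not in general: for k of characteristic p and a ∈ k not a p-th power, the
ribbon Spec k[x]/((x^p − a)²) on D = Spec k(a^{1/p}) has φ = 0 and admits no retraction, although
Ext¹(Ω_D, L) = 0 there. So short exactness is assumed here, and this row states the existence part
of the bijection.) -/
theorem result (k : Type u) [Field k] (D C : Scheme.{u}) (i : D ⟶ C)
    (pC : C ⟶ Spec (CommRingCat.of k)) [LocallyOfFiniteType pC] [ConnectedSpace D] (hR : MultCurve.IsRibbon i)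
    (Ω₁ : C.Modules) (d₁ : OmegaSh.Der pC Ω₁) (hd₁ : OmegaSh.IsUniversal d₁)
    (Ω₂ : D.Modules) (d₂ : OmegaSh.Der (i ≫ pC) Ω₂) (hd₂ : OmegaSh.IsUniversal d₂)
    (φ : Omega.conormal i ⟶ (Scheme.Modules.pullback i).obj Ω₁) (hφ : OmegaSh.IsConormalDiff i d₁ φ)
    (c : (Scheme.Modules.pullback i).obj Ω₁ ⟶ Ω₂) (hc : OmegaSh.IsDiffCompat i d₁ d₂ c)
    (hw : φ ≫ c = 0) (hS : (ShortComplex.mk φ c hw).ShortExact) [HasExt.{w} D.Modules] :
    (∃ r : C ⟶ D, i ≫ r = 𝟙 D ∧ r ≫ i ≫ pC = pC) ↔ hS.extClass = 0 := by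
  haveI : IsClosedImmersion i := hR.1.1
  let j : (Scheme.Modules.pullback (𝟙 D)).obj Ω₂ ≅ Ω₂ := (Scheme.Modules.pullbackId D).app Ω₂
  have hdf : OmegaSh.IsDiffCompat (𝟙 D) d₂ d₂ j.hom := fun U x => by
    rw [← Groth.Agent.OmegaLib.pullbackId_inv_app]
    exact congr(($(j.inv_hom_id)).app U (d₂.app U x))
  have key : hS.extClass = 0 ↔ ∃ σ : Ω₂ ⟶ (Scheme.Modules.pullback i).obj Ω₁, σ ≫ c = 𝟙 Ω₂ := by
    have h1 : (Abelian.Ext.mk₀ (𝟙 Ω₂)).comp hS.extClass (zero_add 1) = hS.extClass :=
      Abelian.Ext.mk₀_id_comp _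
    have h2 := Groth.Agent.Coherent.comp_extClass_eq_zero_iff hS (Abelian.Ext.mk₀ (𝟙 Ω₂))
    constructor
    · intro h
      obtain ⟨y, hy⟩ := h2.1 (h1.trans h)
      obtain ⟨σ, rfl⟩ := (Abelian.Ext.mk₀_bijective _ _).2 y
      rw [Abelian.Ext.mk₀_comp_mk₀] at hy
      exact ⟨σ, (Abelian.Ext.mk₀_bijective _ _).1 hy⟩
    · rintro ⟨σ, hσ⟩
      refine h1.symm.trans (h2.2 ⟨Abelian.Ext.mk₀ σ, ?_⟩)
      rw [Abelian.Ext.mk₀_comp_mk₀]
      exact congrArg Abelian.Ext.mk₀ hσ
  constructor
  · rintro ⟨r, hr, hrS⟩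
    obtain ⟨s, hs⟩ := Groth.Agent.Ribbon18.exists_splitting_of_hom hc hd₂ hdf r hr hrS
    refine key.2 ⟨j.inv ≫ s, ?_⟩
    rw [Category.assoc, hs]
    exact j.inv_hom_id
  · intro h
    obtain ⟨σ, hσ⟩ := key.1 h
    obtain ⟨r, hr, hrS, -⟩ := Groth.Agent.Ribbon18.exists_hom_of_splitting (f := 𝟙 D) hR.1.2.1 hφ hc hw hS
      (Category.id_comp _) hdf (j.hom ≫ σ) (by rw [Category.assoc, hσ, Category.comp_id])
    exact ⟨r, hr, hrS⟩

end Groth.Agent.S18345
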