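import Groth.Statements.S18348
import Groth.Agent.Ribbon18.Class

set_option backward.isDefEq.respectTransparency false
set_option backward.isDefEq.respectTransparency.types false
set_option linter.style.haveILetI false

set_option autoImplicit false
universe w u
open CategoryTheory CategoryTheory.Limits AlgebraicGeometry
open MultCurve

namespace Groth.Agent.S18348

/-- Let k be a field and D a reduced connected scheme locally of finite type over k, with structure
morphism pD and a universal k-derivation d₂ : O_D → Ω₂. Let C and C′ be ribbons on D over k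
(k-schemes locally of finite type with closed immersions i, i′ of D over k making them ribbons),
each with its restricted cotangent sequence 0 → L → Ω_C|_D → Ω_D → 0 presented by a universal
k-derivation d₁ : O_C → Ω₁, the fixed universal k-derivation d₂ of D, the map φ from the conormal
bundle L of D in C to i^*Ω₁ induced by d₁ and the map c : i^*Ω₁ → Ω₂ compatible with d₁ and d₂,
assumed short exact, that is, with φ and φ′ injective, with classes e ∈ Ext¹(Ω₂, L) and e′ ∈
Ext¹(Ω₂, L′). Then C and C′ are isomorphic over D (by an isomorphism under D that is a k-morphism)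
if and only if there is an isomorphism of O_D-modules α : L ≅ L′ carrying e to e′. In particular a
ribbon with short exact restricted cotangent sequence is determined up to isomorphism over D by its
conormal bundle together with its class. (The published statement asserts the uniqueness for all
ribbons, treating the restricted cotangent sequence as short exact for every ribbon; it is so over a
perfect field but not in general: for k of characteristic p and a ∈ k not a p-th power, D = Spec
k(a^{1/p}) has Ext¹(Ω_D, L) = 0 for every L, yet the split ribbon with conormal bundle O_D and Spec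
k[x]/((x^p − a)²) are ribbons on D with conormal bundle O_D that are not isomorphic over D, the
second having φ = 0; so short exactness is assumed here for both ribbons. The published statement
also, for D proper over k, phrases the criterion as e = a·e′ with a a nonzero scalar, identifying
the automorphisms of the line bundle L with the nonzero constants; that identification needs Γ(D,
O_D) = k and fails, for example, for the projective line over a quadratic extension of k regarded as
a k-scheme, so the criterion is stated here with an arbitrary automorphism of the conormal bundle,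
in which form it holds for every reduced connected D.) -/
theorem result (k : Type u) [Field k] (D : Scheme.{u})
    (pD : D ⟶ Spec (CommRingCat.of k)) [LocallyOfFiniteType pD] [ConnectedSpace D]
    (Ω₂ : D.Modules) (d₂ : OmegaSh.Der pD Ω₂) (hd₂ : OmegaSh.IsUniversal d₂) [HasExt.{w} D.Modules]
    (C : Scheme.{u}) (i : D ⟶ C) (pC : C ⟶ Spec (CommRingCat.of k)) [LocallyOfFiniteType pC]
    (hp : i ≫ pC = pD) (hR : MultCurve.IsRibbon i)
    (Ω₁ : C.Modules) (d₁ : OmegaSh.Der pC Ω₁) (hd₁ : OmegaSh.IsUniversal d₁)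
    (φ : Omega.conormal i ⟶ (Scheme.Modules.pullback i).obj Ω₁) (hφ : OmegaSh.IsConormalDiff i d₁ φ)
    (c : (Scheme.Modules.pullback i).obj Ω₁ ⟶ Ω₂) (hc : OmegaSh.IsDiffCompat i d₁ d₂ c)
    (hw : φ ≫ c = 0) (hS : (ShortComplex.mk φ c hw).ShortExact)
    (C' : Scheme.{u}) (i' : D ⟶ C') (pC' : C' ⟶ Spec (CommRingCat.of k)) [LocallyOfFiniteType pC']
    (hp' : i' ≫ pC' = pD) (hR' : MultCurve.IsRibbon i')
    (Ω₁' : C'.Modules) (d₁' : OmegaSh.Der pC' Ω₁') (hd₁' : OmegaSh.IsUniversal d₁')
    (φ' : Omega.conormal i' ⟶ (Scheme.Modules.pullback i').obj Ω₁') (hφ' : OmegaSh.IsConormalDiff i' d₁' φ')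
    (c' : (Scheme.Modules.pullback i').obj Ω₁' ⟶ Ω₂) (hc' : OmegaSh.IsDiffCompat i' d₁' d₂ c')
    (hw' : φ' ≫ c' = 0) (hS' : (ShortComplex.mk φ' c' hw').ShortExact) :
    (∃ ψ : C ≅ C', i ≫ ψ.hom = i' ∧ ψ.hom ≫ pC' = pC) ↔
      ∃ α : Omega.conormal i ≅ Omega.conormal i',
        hS.extClass.comp (Abelian.Ext.mk₀ α.hom) (add_zero 1) = hS'.extClass := by
  haveI : IsClosedImmersion i := hR.1.1
  haveI : IsClosedImmersion i' := hR'.1.1
  have hI := hR.1.2.1
  have hI' := hR'.1.2.1
  constructor
  · rintro ⟨ψ, hψ, hψk⟩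
    have hψ' : i' ≫ ψ.inv = i := by rw [← hψ, Category.assoc, ψ.hom_inv_id, Category.comp_id]
    have hψk' : ψ.inv ≫ pC = pC' := by rw [← hψk, ψ.inv_hom_id_assoc]
    obtain ⟨β, hβ, hβc⟩ := Groth.Agent.Ribbon18.exists_isPdMap (f := i') hc hd₁' hc' ψ.hom hψ hψk
    obtain ⟨β', hβ', hβc'⟩ := Groth.Agent.Ribbon18.exists_isPdMap (f := i) hc' hd₁ hc ψ.inv hψ' hψk'
    have e1 : β' ≫ β = 𝟙 _ := by
      have h1 := hβ.comp hψ hβ' hψ'
      rw [ψ.hom_inv_id] at h1
      exact Groth.Agent.Ribbon18.isPdMap_eq hd₁ (Category.comp_id _) h1 Groth.Agent.Ribbon18.isPdMap_id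
    have e2 : β ≫ β' = 𝟙 _ := by
      have h1 := hβ'.comp hψ' hβ hψ
      rw [ψ.inv_hom_id] at h1
      exact Groth.Agent.Ribbon18.isPdMap_eq hd₁' (Category.comp_id _) h1 Groth.Agent.Ribbon18.isPdMap_id
    haveI := hS.mono_f
    haveI := hS'.mono_f
    haveI : Mono φ := hS.mono_f
    haveI : Mono φ' := hS'.mono_f
    have hz' : (φ ≫ β') ≫ c' = 0 := by rw [Category.assoc, hβc', hw]
    have hz : (φ' ≫ β) ≫ c = 0 := by rw [Category.assoc, hβc, hw']
    let a : Omega.conormal i ⟶ Omega.conormal i' := hS'.exact.lift (φ ≫ β') hz'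
    let a' : Omega.conormal i' ⟶ Omega.conormal i := hS.exact.lift (φ' ≫ β) hz
    have ha : a ≫ φ' = φ ≫ β' := hS'.exact.lift_f _ hz'
    have ha' : a' ≫ φ = φ' ≫ β := hS.exact.lift_f _ hz
    refine ⟨⟨a, a', ?_, ?_⟩, Groth.Agent.Ribbon18.extClass_comp_eq hS hS' a β' ha.symm hβc'⟩
    · rw [← cancel_mono φ, Category.assoc, ha', reassoc_of% ha, e1, Category.comp_id, Category.id_comp]
    · rw [← cancel_mono φ', Category.assoc, ha, reassoc_of% ha', e2, Category.comp_id, Category.id_comp]
  · rintro ⟨α, hα⟩
    obtain ⟨β, hβ₁, hβ₂⟩ := Groth.Agent.Ribbon18.exists_hom_of_extClass_eq hS hS' α.hom hα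
    haveI := Groth.Agent.Ribbon18.isIso_mid hS hS' α.hom β hβ₁ hβ₂
    obtain ⟨g, hg, hgk, hgp⟩ := Groth.Agent.Ribbon18.exists_hom_of_splitting (f := i) hI' hφ' hc' hw' hS'
      (hp.trans hp'.symm) hc β hβ₂
    obtain ⟨g', hg', hgk', hgp'⟩ := Groth.Agent.Ribbon18.exists_hom_of_splitting (f := i') hI hφ hc hw hS
      (hp'.trans hp.symm) hc' (inv β) (by rw [IsIso.inv_comp_eq, hβ₂])
    have e1 : g' ≫ g = 𝟙 C := by
      have h1 := hgp'.comp hg' hgp hg
      rw [IsIso.hom_inv_id] at h1
      exact Groth.Agent.Ribbon18.hom_ext_of_isPdMap (f := i) hI hφ hw hS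
        (by rw [← Category.assoc, hg', hg]) (Category.comp_id _) h1 Groth.Agent.Ribbon18.isPdMap_id
    have e2 : g ≫ g' = 𝟙 C' := by
      have h1 := hgp.comp hg hgp' hg'
      rw [IsIso.inv_hom_id] at h1
      exact Groth.Agent.Ribbon18.hom_ext_of_isPdMap (f := i') hI' hφ' hw' hS'
        (by rw [← Category.assoc, hg, hg']) (Category.comp_id _) h1 Groth.Agent.Ribbon18.isPdMap_id
    exact ⟨⟨g', g, e1, e2⟩, hg', hgk'⟩

end Groth.Agent.S18348
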