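import Groth.Statements.S1835
import Mathlib

set_option autoImplicit false
universe u
open CycAlg

namespace Groth.Agent.S1835

/-- Let R be a Noetherian local ring of dimension 1, a a nonzerodivisor in the maximal ideal and b a
nonzerodivisor. There is an integer n such that whenever b = a^m c in some finite extension ring R ⊆
R', one has m ≤ n. -/
theorem result (R : Type u) [CommRing R] [IsNoetherianRing R] [IsLocalRing R] (hR : ringKrullDim R = 1) (a b : R) (ha : a ∈ nonZeroDivisors R) (ham : a ∈ IsLocalRing.maximalIdeal R) (hb : b ∈ nonZeroDivisors R) : ∃ n : ℕ, ∀ (R' : Type u) [CommRing R'] [Algebra R R'], Function.Injective (algebraMap R R') → Module.Finite R R' → ∀ (m : ℕ) (c : R'), algebraMap R R' b = algebraMap R R' a ^ m * c → m ≤ n := by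
  classical
  obtain ⟨k, e, hk⟩ : ∃ (k : ℕ) (e : R), a ^ k = b * e := by
    have hI : a ∈ (Ideal.span {b}).radical := by
      rw [Ideal.radical_eq_sInf, Ideal.mem_sInf]
      rintro P ⟨hbP, hP⟩
      haveI := hP
      have hbm : b ∈ P := hbP (Ideal.subset_span rfl)
      by_cases hmax : P = IsLocalRing.maximalIdeal R
      · exact hmax ▸ ham
      exfalso
      have hmin : P ∈ minimalPrimes R := by
        haveI : Ring.KrullDimLE 1 R := (Ring.krullDimLE_iff (R := R) (n := 1)).mpr (le_of_eq hR)
        rcases Ring.krullDimLE_one_iff.mp (inferInstance : Ring.KrullDimLE 1 R) P hP with h | h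
        · exact h
        · exact absurd (IsLocalRing.eq_maximalIdeal h) hmax
      exact (Ideal.disjoint_nonZeroDivisors_of_mem_minimalPrimes hmin).le_bot ⟨hbm, hb⟩
    obtain ⟨k, hk⟩ := hI
    obtain ⟨e, he⟩ := Ideal.mem_span_singleton'.mp hk
    exact ⟨k, e, by rw [← he, mul_comm]⟩
  refine ⟨k, fun R' _ _ hinj hfin m c hbc => ?_⟩
  by_contra hmk
  push Not at hmk
  haveI := hfin
  obtain ⟨p, hp⟩ := Ideal.nonempty_minimalPrimes (R := R) (I := (⊥ : Ideal R)) (bot_ne_top)
  haveI : p.IsPrime := hp.1.1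
  have hap : a ∉ p := fun h => (Ideal.disjoint_nonZeroDivisors_of_mem_minimalPrimes hp).le_bot ⟨h, ha⟩
  obtain ⟨P, -, hP, hPp⟩ := Ideal.exists_ideal_over_prime_of_isIntegral p (⊥ : Ideal R') (fun x hx => by
    rw [Ideal.mem_comap, Ideal.mem_bot, ← map_zero (algebraMap R R')] at hx
    rw [hinj hx]; exact zero_mem _)
  haveI := hP
  obtain ⟨M, hPM, hM, hMm⟩ := Ideal.exists_ideal_over_prime_of_isIntegral (IsLocalRing.maximalIdeal R) P (by
    rw [hPp]; exact IsLocalRing.le_maximalIdeal hp.1.1.ne_top)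
  haveI := hM
  have haM : algebraMap R R' a ∈ M := by
    rw [← Ideal.mem_comap, hMm]; exact ham
  have haP : algebraMap R R' a ∉ P := fun h => hap (by rw [← hPp]; exact h)
  obtain ⟨j, hj, rfl⟩ : ∃ j, 0 < j ∧ m = k + j := ⟨m - k, by omega, by omega⟩
  have h0 : algebraMap R R' a ^ k * (1 - algebraMap R R' a ^ j * (c * algebraMap R R' e)) = 0 := by
    have := congrArg (algebraMap R R') hk
    rw [map_pow, map_mul, hbc] at this
    rw [pow_add] at this
    linear_combination this
  have h1 : 1 - algebraMap R R' a ^ j * (c * algebraMap R R' e) ∈ P :=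
    (hP.mem_or_mem (h0 ▸ zero_mem P)).resolve_left fun h => haP (hP.mem_of_pow_mem _ h)
  refine hM.ne_top (M.eq_top_iff_one.mpr ?_)
  have := M.add_mem (hPM h1) (M.mul_mem_right (c * algebraMap R R' e) (M.pow_mem_of_mem haM j hj))
  rwa [sub_add_cancel] at this
end Groth.Agent.S1835
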