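import Groth.Statements.S18350
import Groth.Agent.DualMod3.Apps
import Groth.Agent.SerreDual.HomLinear
import Groth.Agent.TFPush7.MonoTwist
import Groth.Agent.RefHullLib.Coh
import Groth.Agent.InjMod14.Opens
import Groth.Agent.SDiv28.BidualGen
import Groth.Agent.VarietyLib.Dual
-- import your own Groth.Agent.* helpers here

set_option autoImplicit false
universe u
open CategoryTheory CategoryTheory.Limits AlgebraicGeometry
attribute [local instance] HasDerivedCategory.standard
open MultCurve

namespace Groth.Agent.S18350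

open Groth.Agent.Coherent Groth.Agent.AmpleLib Groth.Agent.SerreDual Groth.Agent.CurveRR24 Groth.Agent.EulerLib

set_option linter.style.haveILetI false
set_option linter.unusedSectionVars false
set_option backward.isDefEq.respectTransparency.types false

variable (k : Type u) [Field k] {X : Scheme.{u}} [X.Over (Spec (CommRingCat.of k))]

theorem stalkMapₗ_smul (c : k) {A B : X.Modules} (φ : A ⟶ B) (x : X) (v : A.presheaf.stalk x) :
    RefHull.stalkMapₗ (c • φ) x v =
      X.presheaf.germ ⊤ x trivial (Coh.toGlobal (X ↘ Spec (CommRingCat.of k)) c) • RefHull.stalkMapₗ φ x v := by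
  obtain ⟨U, hU, m, rfl⟩ := A.presheaf.exists_germ_eq v
  rw [RefHull.stalkMapₗ_germ, RefHull.stalkMapₗ_germ, KLin.smul_app_apply, QCohLoc.germ_smul']
  congr 1
  exact TopCat.Presheaf.germ_res_apply X.presheaf _ _ _ _

/-- Homomorphisms are the global sections of the sheaf Hom. -/
noncomputable def homGlobalEquiv (A B : X.Modules) : (A ⟶ B) ≃ₗ[k] Coh.HH X (RefHull.homSh A B) 0 :=
  (LinearEquiv.ofBijective
    ({ toFun := fun φ => ⟨fun x => RefHull.stalkMapₗ φ x.1, fun V i m x =>
          ⟨V, x.2, 𝟙 V, φ.app V m, fun y => RefHull.stalkMapₗ_germ φ y.1 y.2 m⟩⟩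
       map_add' := fun φ ψ => Subtype.ext (funext fun x => LinearMap.ext fun v => by
         obtain ⟨U, hU, m, rfl⟩ := A.presheaf.exists_germ_eq v
         show RefHull.stalkMapₗ (φ + ψ) x.1 (A.presheaf.germ U x.1 hU m) =
           RefHull.stalkMapₗ φ x.1 (A.presheaf.germ U x.1 hU m) + RefHull.stalkMapₗ ψ x.1 (A.presheaf.germ U x.1 hU m)
         rw [RefHull.stalkMapₗ_germ, RefHull.stalkMapₗ_germ, RefHull.stalkMapₗ_germ, Scheme.Modules.Hom.add_app]
         exact map_add _ _ _)
       map_smul' := fun c φ => Subtype.ext (funext fun x => LinearMap.ext fun v => by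
         refine (stalkMapₗ_smul k c φ x.1 v).trans ?_
         rfl) } : (A ⟶ B) →ₗ[k] GA (baseHom k X) (RefHull.homSh A B))
    ⟨fun φ ψ h => InjMod14.hom_ext_stalks fun x => ModuleCat.hom_ext
        (LinearMap.ext fun v => LinearMap.congr_fun (congrFun (congrArg Subtype.val h) ⟨x, trivial⟩) v),
      fun g => by
        obtain ⟨φ, hφ⟩ := TFPush7.exists_hom_of_section g
        exact ⟨φ, Subtype.ext (funext fun x => LinearMap.ext fun v => hφ x.1 v)⟩⟩).trans
    (hhZero k (RefHull.homSh A B)).symm

theorem finrank_hh_congr {A B : X.Modules} (e : A ≅ B) (q : ℕ) :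
    Module.finrank k (Coh.HH X A q) = Module.finrank k (Coh.HH X B q) :=
  (LinearEquiv.ofLinear (hmap k e.hom q) (hmap k e.inv q)
    (LinearMap.ext fun x => by
      show hmap k e.hom q (hmap k e.inv q x) = x
      rw [← LinearMap.comp_apply, ← hmap_comp, e.inv_hom_id, hmap_id, LinearMap.id_apply])
    (LinearMap.ext fun x => by
      show hmap k e.inv q (hmap k e.hom q x) = x
      rw [← LinearMap.comp_apply, ← hmap_comp, e.hom_inv_id, hmap_id, LinearMap.id_apply])).finrank_eq


/-- `Hom(F, B) = F^∨ ⊗ B` for invertible `B`. -/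
theorem nonempty_dual_tensor_iso (F : X.Modules) {B : X.Modules} (hB : PicF.IsInvertible B) :
    Nonempty (CohB1.tensorMod (RefHull.dual F) B ≅ RefHull.homSh F B) := by
  let φ := (TFPush7.evalBilin F B).desc
  have hloc : ∀ (U : X.Opens) (g : Γ(B, U)), PicLib.IsGen B U g → ∀ V ≤ U, Function.Bijective (φ.app V) := by
    intro U g hg V hV
    have ht := bijective_tmul_gen (M := RefHull.dual F) hg V hV
    refine (Function.Bijective.of_comp_iff _ ht).1 ?_
    let b : ∀ y : V, X.presheaf.stalk y.1 ≃ₗ[X.presheaf.stalk y.1] B.presheaf.stalk y.1 := fun y =>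
      LinearEquiv.ofBijective (LinearMap.toSpanSingleton _ _ (B.presheaf.germ U y.1 (hV y.2) g))
        (TFPush7.bijective_smul_germ hg (hV y.2))
    have hb : ∀ (θ : Γ(RefHull.dual F, V)) (y : V) (v : F.presheaf.stalk y.1),
        (φ.app V (tmul θ (resM B hV g))).1 y v = b y (TFPush7.ringVal y.1 (θ.1 y v)) := fun θ y v => by
      rw [Bilin.desc_tmul]
      show TFPush7.ringVal y.1 (θ.1 y v) • B.presheaf.germ V y.1 y.2 (resM B hV g) = _
      exact congrArg _ (TopCat.Presheaf.germ_res_apply B.presheaf _ _ _ _)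
    constructor
    · intro θ θ' h
      refine Subtype.ext (funext fun y => LinearMap.ext fun v => ?_)
      have h1 := LinearMap.congr_fun (congrFun (congrArg Subtype.val h) y) v
      exact (TFPush7.ringVal y.1).injective ((b y).injective ((hb θ y v).symm.trans (h1.trans (hb θ' y v))))
    · intro σ
      refine ⟨⟨fun y => (SDiv28.unitStalkEquiv y.1).toLinearMap ∘ₗ (b y).symm.toLinearMap ∘ₗ σ.1 y, ?_⟩, ?_⟩
      · intro W i m x
        obtain ⟨W', hW', j, n, w⟩ := RefHull.isLocSect_of_mem σ W i m x
        refine ⟨W', hW', j, hg.coef ((j ≫ i).le.trans hV) n, fun y => ?_⟩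
        let r : Γ(X, W') := hg.coef ((j ≫ i).le.trans hV) n
        have hy := w y
        have hn : B.presheaf.germ W' y.1 y.2 n = X.presheaf.germ W' y.1 y.2 r •
            B.presheaf.germ U y.1 ((j ≫ i).le.trans hV y.2) g := by
          conv_lhs => rw [← hg.coef_spec ((j ≫ i).le.trans hV) n]
          rw [QCohLoc.germ_smul']
          exact congrArg _ (TopCat.Presheaf.germ_res_apply B.presheaf _ _ _ _)
        show SDiv28.unitStalkEquiv y.1 ((b ⟨y.1, (j ≫ i).le y.2⟩).symm
          (σ.1 ⟨y.1, (j ≫ i).le y.2⟩ _)) = _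
        refine Eq.trans (congrArg (SDiv28.unitStalkEquiv y.1) ?_)
          (AssSch12.germ_eq_smul_unitOne y.1 y.2 r).symm
        apply (b ⟨y.1, (j ≫ i).le y.2⟩).injective
        rw [LinearEquiv.apply_symm_apply]
        exact hy.trans hn
      · refine Subtype.ext (funext fun y => LinearMap.ext fun v => ?_)
        refine (hb _ y v).trans ?_
        show b y ((SDiv28.unitStalkEquiv y.1).symm (SDiv28.unitStalkEquiv y.1 ((b y).symm (σ.1 y v)))) = _
        rw [LinearEquiv.symm_apply_apply, LinearEquiv.apply_symm_apply]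
  have hall : ∀ W : X.Opens, Function.Bijective (φ.app W) := fun W =>
    SDiv28.BidualGen.bijective_app_of_cover φ W fun x _ => by
      obtain ⟨U, hU, g, hg⟩ := PicLib.exists_isGen hB x
      exact ⟨U, hU, hloc U g hg⟩
  haveI : IsIso φ := Scheme.Modules.Hom.isIso_iff_isIso_app.2 fun W =>
    (ConcreteCategory.isIso_iff_bijective _).2 (hall W)
  exact ⟨asIso φ⟩

/-- Let k be a field and X a projective primitive multiple curve of multiplicity n ≥ 1 over k: a proper
k-scheme with a closed immersion i : C ⟶ X of a smooth integral curve C whose ideal I satisfies Iⁿ =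
0 and is locally generated by one section z with the annihilator of z^(n-1) contained in (z). Let
ω_X be the dualizing module of X over k (the cohomology sheaf in degree -1 of f^! O for the
structure morphism f, with the existence of Rf_* on D_QCoh and of its right adjoint carried as
hypotheses), assumed invertible, and let F be a coherent reflexive O_X-module (the canonical map
from F to its double dual is an isomorphism). Then dim_k H⁰(X, F) = dim_k H¹(X, F^∨ ⊗ ω_X) and dim_k
H¹(X, F) = dim_k H⁰(X, F^∨ ⊗ ω_X), where F^∨ = Hom(F, O_X) is the dual sheaf. (The published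
statement gives functorial isomorphisms H^i(X, F) ≅ H^(1-i)(X, F^∨ ⊗ ω_X)^* for i = 0, 1; this row
records the equality of dimensions. Invertibility of ω_X, asserted in the published text because X
is a local complete intersection, is carried as a hypothesis. Stated over an arbitrary field; the
published setting is the complex numbers.) -/
theorem result (k : Type u) [Field k] (C X : Scheme.{u})
    [X.Over (Spec (CommRingCat.of k))] [IsProper (X ↘ (Spec (CommRingCat.of k)))] (i : C ⟶ X)
    (n : ℕ) (hn : 1 ≤ n) (h : MultCurve.IsPrimitive k i (X ↘ (Spec (CommRingCat.of k))) n)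
    [DCoh.HasRpush (X ↘ (Spec (CommRingCat.of k)))] (hq : DCoh.RpushPreservesQCoh (X ↘ (Spec (CommRingCat.of k))))
    [DCoh.HasShriek (X ↘ (Spec (CommRingCat.of k))) hq]
    (OY : DCoh.DQCoh (Spec (CommRingCat.of k)))
    (hOY : Nonempty (OY.obj ≅ DCoh.inD (Spec (CommRingCat.of k)) (Coh.structureModule (Spec (CommRingCat.of k)))))
    (hω : PicF.IsInvertible (DCoh.dualizingMod (X ↘ (Spec (CommRingCat.of k))) hq OY 1))
    (F : X.Modules) (hF : Coh.IsCoh F) (hFr : RefHull.IsReflexive F) :
    Module.finrank k (Coh.HH X F 0) =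
        Module.finrank k (Coh.HH X (CohB1.tensorMod (RefHull.dual F) (DCoh.dualizingMod (X ↘ (Spec (CommRingCat.of k))) hq OY 1)) 1) ∧
      Module.finrank k (Coh.HH X F 1) =
        Module.finrank k (Coh.HH X (CohB1.tensorMod (RefHull.dual F) (DCoh.dualizingMod (X ↘ (Spec (CommRingCat.of k))) hq OY 1)) 0) := by
  obtain ⟨⟨hcl, hker, -⟩, -, -, hdimC⟩ := h
  haveI := hcl
  haveI : IsNoetherian X := EulerLib.isNoetherian_of_proper (k := k) (X := X)
  have hrange : Set.range i = Set.univ := by
    have h1 : (i.ker ^ n).support = i.ker.support := Scheme.IdealSheafData.support_pow i.ker n (by omega)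
    rw [hker, Scheme.IdealSheafData.support_bot] at h1
    have h2 := congrArg (fun Z : TopologicalSpace.Closeds X => (Z : Set X)) h1
    simp only [Scheme.Hom.support_ker, TopologicalSpace.Closeds.coe_top, TopologicalSpace.Closeds.coe_mk,
      i.isClosedEmbedding.isClosed_range.closure_eq] at h2
    exact h2.symm
  have hsurj : Function.Surjective i := fun x => by
    have : x ∈ Set.range i := hrange ▸ Set.mem_univ x
    exact this
  have hdim : topologicalKrullDim X ≤ (1 : ℕ) := by
    rw [← (i.isClosedEmbedding.isEmbedding.toHomeomorphOfSurjective hsurj).isHomeomorph.topologicalKrullDim_eq, hdimC]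
    rfl
  set ω := DCoh.dualizingMod (X ↘ (Spec (CommRingCat.of k))) hq OY 1 with hωdef
  obtain ⟨t, ht⟩ := DualMod3.exists_rep k X hq OY hOY hdim
  have hO := Coherent.isCoh_structureModule X
  have hdual : Coh.IsCoh (RefHull.dual F) := RefHullLib.isCoh_dual hF hO
  have hT : Coh.IsCoh (CohB1.tensorMod (RefHull.dual F) ω) := by
    haveI : Coh.IsQCoh (RefHull.dual F) := hdual.1
    have hωc := CurveRR24.isCoh_of_isInvertible k hω
    haveI : Coh.IsQCoh ω := hωc.1
    exact ⟨isQCoh_tensorMod _ _, isFT_tensorMod _ _ hdual.2 hωc.2⟩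
  haveI : IsIso (RefHull.bidualMap F) := hFr
  -- Serre duality
  have d1 : ∀ {G : X.Modules}, Coh.IsCoh G → Module.finrank k (Coh.HH X G 1) = Module.finrank k (G ⟶ ω) :=
    fun {G} hG => ((dualEquiv t (ht G hG.1)).finrank_eq.trans Subspace.dual_finrank_eq).symm
  obtain ⟨e⟩ := VarietyLib.isInverseOf_dual hω
  have hN : PicF.IsInvertible (RefHull.dual ω) := PicLib.isInvertible_of_gens fun x => by
    obtain ⟨U, hU, g, hg⟩ := PicLib.exists_isGen hω x
    exact ⟨U, hU, _, VarietyLib.isGen_coordSec hg⟩
  set N := RefHull.dual ω with hNdef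
  obtain ⟨a⟩ := exists_assocIso' (RefHull.dual F) hω hN
  let back : CohB1.tensorMod (CohB1.tensorMod (RefHull.dual F) ω) N ≅ RefHull.dual F :=
    a ≪≫ AmpleLib.tensorIso (Iso.refl _) e ≪≫ tensorComm _ _ ≪≫ unitTensorIso _
  let fwd : (RefHull.dual F ⟶ Coh.structureModule X) →ₗ[k] (CohB1.tensorMod (RefHull.dual F) ω ⟶ ω) :=
    (Linear.homCongr k (Iso.refl _) (unitTensorIso ω)).toLinearMap ∘ₗ tensorRightHom k _ _ ω
  let bwd : (CohB1.tensorMod (RefHull.dual F) ω ⟶ ω) →ₗ[k] (RefHull.dual F ⟶ Coh.structureModule X) :=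
    (Linear.homCongr k back e).toLinearMap ∘ₗ tensorRightHom k _ _ N
  have hf : Function.Injective fwd :=
    (Linear.homCongr k (Iso.refl _) (unitTensorIso ω)).injective.comp (tensorRightHom_injective k _ _ hω)
  have hb : Function.Injective bwd := (Linear.homCongr k back e).injective.comp (tensorRightHom_injective k _ _ hN)
  haveI : Module.Finite k (Coh.HH X (CohB1.tensorMod (RefHull.dual F) ω) 1) := finite_HH_of_isCoh k hT 1
  haveI : Module.Finite k (CohB1.tensorMod (RefHull.dual F) ω ⟶ ω) :=
    Module.Finite.equiv (dualEquiv t (ht _ hT.1)).symm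
  haveI : Module.Finite k (RefHull.dual F ⟶ Coh.structureModule X) := Module.Finite.of_injective fwd hf
  refine ⟨?_, ?_⟩
  · rw [d1 hT, le_antisymm (LinearMap.finrank_le_finrank_of_injective hb) (LinearMap.finrank_le_finrank_of_injective hf),
      (homGlobalEquiv k (RefHull.dual F) (Coh.structureModule X)).finrank_eq]
    exact finrank_hh_congr k (asIso (RefHull.bidualMap F)) 0
  · rw [d1 hF, (homGlobalEquiv k F ω).finrank_eq]
    exact finrank_hh_congr k (nonempty_dual_tensor_iso F hω).some.symm 0

end Groth.Agent.S18350
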