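import Groth.Statements.S18353
import Groth.Agent.S18352
import Groth.Agent.Coherent.BirationalFibre
import Groth.Agent.EGA43.GeomIntegral.Dvr

-- import your own Groth.Agent.* helpers here

set_option autoImplicit false
universe u
open Curv2

set_option backward.isDefEq.respectTransparency.types false
namespace Groth.Agent.S18353

open CategoryTheory AlgebraicGeometry

theorem isIntegral_family {S C : Scheme.{u}} [IsIntegral S] [IsNoetherian S] (hS : Pi1.IsNormalScheme S) (f : C ⟶ S)
    [Flat f] [IsProper f] [LocallyOfFinitePresentation f] [GeometricallyReduced f] [GeometricallyConnected f]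
    (hdim : ∀ s : ↥S, topologicalKrullDim ↥(f.fiber s) = 1)
    (hsm : Smooth (f.fiberToSpecResidueField (genericPoint ↥S))) : IsIntegral C := by
  haveI : IsLocallyNoetherian C := LocallyOfFiniteType.isLocallyNoetherian f
  have hN := Groth.Agent.S18352.result S C hS f hdim hsm
  have hfib : ∀ t : S, _root_.IsConnected (f.base ⁻¹' {t}) := fun t => by
    haveI : ConnectedSpace ↥(f.fiber t) := inferInstance
    have h := isConnected_range (f.fiberι t).continuous
    rwa [Scheme.Hom.range_fiberι] at h
  have hsurj : Function.Surjective f.base := fun t => (hfib t).nonempty.imp fun x hx => hx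
  haveI : ConnectedSpace C := by
    have hq : Topology.IsQuotientMap f.base := f.isClosedMap.isQuotientMap f.continuous hsurj
    refine connectedSpace_iff_univ.mpr ?_
    obtain ⟨t⟩ := (inferInstance : Nonempty S)
    have := preimage_connectedComponent_connected (f := f.base) hfib hq.isCoinducing t
    rwa [PreconnectedSpace.connectedComponent_eq_univ, Set.preimage_univ] at this
  exact Groth.Agent.EGA43.GeomIntegral.isIntegral_of_isDomain_stalk fun x => (hN x).1

open CategoryTheory AlgebraicGeometry in
/-- Let S be an integral Noetherian scheme all of whose local rings are integrally closed domains, and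
let f₁ : C₁ → S and f₂ : C₂ → S be flat, proper, locally finitely presented morphisms of schemes
whose fibres are geometrically reduced and geometrically connected, all of Krull dimension one, and
whose fibres over the generic point of S are smooth. Let φ : C₁ → C₂ be a morphism over S which is
birational, in the sense that it restricts to an isomorphism over some dense open subset of C₂. Then
the canonical map O_{C₂} → φ_* O_{C₁} is an isomorphism: for every open V of C₂ the pull-back map
from sections over V to sections over φ⁻¹(V) is an isomorphism of rings. The total spaces are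
schemes here; the source also allows algebraic spaces. -/
theorem result (S C₁ C₂ : Scheme.{u}) [IsIntegral S]
    [IsNoetherian S] (hS : Pi1.IsNormalScheme S) (f₁ : C₁ ⟶ S) (f₂ : C₂ ⟶ S)
    [Flat f₁] [IsProper f₁] [LocallyOfFinitePresentation f₁] [GeometricallyReduced f₁] [GeometricallyConnected f₁]
    [Flat f₂] [IsProper f₂] [LocallyOfFinitePresentation f₂] [GeometricallyReduced f₂] [GeometricallyConnected f₂]
    (hdim₁ : ∀ s : ↥S, topologicalKrullDim ↥(f₁.fiber s) = 1) (hdim₂ : ∀ s : ↥S, topologicalKrullDim ↥(f₂.fiber s) = 1)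
    (hsm₁ : Smooth (f₁.fiberToSpecResidueField (genericPoint ↥S)))
    (hsm₂ : Smooth (f₂.fiberToSpecResidueField (genericPoint ↥S)))
    (φ : C₁ ⟶ C₂) (hφ : φ ≫ f₂ = f₁) (hbir : ∃ U : C₂.Opens, Dense (U : Set ↥C₂) ∧ IsIso (φ ∣_ U)) :
    ∀ V : C₂.Opens, IsIso (φ.app V) := by
  haveI h1 : AlgebraicGeometry.IsIntegral C₁ := isIntegral_family hS f₁ hdim₁ hsm₁
  haveI h2 : AlgebraicGeometry.IsIntegral C₂ := isIntegral_family hS f₂ hdim₂ hsm₂
  haveI : IsLocallyNoetherian C₂ := LocallyOfFiniteType.isLocallyNoetherian f₂
  haveI : IsProper (φ ≫ f₂) := hφ ▸ inferInstance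
  haveI : IsProper φ := IsProper.of_comp φ f₂
  obtain ⟨U, hU, hI⟩ := hbir
  have hne : Nonempty ↥(φ ⁻¹ᵁ U).toScheme := by
    obtain ⟨y, hy⟩ := hU.nonempty
    exact ⟨(inv (φ ∣_ U)).base ⟨y, hy⟩⟩
  obtain ⟨x₀⟩ := hne
  let η := genericPoint C₁
  have hη : η ∈ φ ⁻¹ᵁ U :=
    (genericPoint_spec C₁).mem_open_set_iff (φ ⁻¹ᵁ U).2 |>.2 ⟨x₀.1, trivial, x₀.2⟩
  have hiso : IsIso (φ.stalkMap η) := by
    haveI : IsIso ((φ ∣_ U).stalkMap ⟨η, hη⟩) := inferInstance
    exact ((MorphismProperty.isomorphisms CommRingCat).arrow_mk_iso_iff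
      (morphismRestrictStalkMap φ U ⟨η, hη⟩)).1 inferInstance
  have hgen : φ η = genericPoint C₂ := by
    have hd : DenseRange φ.base := by
      intro y
      have hsub : (U : Set C₂) ⊆ Set.range φ.base := fun z hz => by
        refine ⟨((inv (φ ∣_ U)).base ⟨z, hz⟩).1, ?_⟩
        have e := congrArg Subtype.val (Scheme.Hom.comp_apply (inv (φ ∣_ U)) (φ ∣_ U) ⟨z, hz⟩)
        rw [IsIso.inv_hom_id] at e
        simpa using e.symm
      exact closure_mono hsub (hU y)
    exact ((genericPoint_spec C₁).image φ.continuous).eq (by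
      rw [Set.image_univ, hd.closure_range]
      exact genericPoint_spec C₂)
  exact fun V => Groth.Agent.Coherent.isIso_app_of_birational φ
    (Groth.Agent.S18352.result S C₂ hS f₂ hdim₂ hsm₂) hgen hiso V

end Groth.Agent.S18353
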