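import Groth.Statements.S18354
import Groth.Agent.TFPush7.BigBundle

set_option linter.style.haveILetI false
set_option backward.isDefEq.respectTransparency false
set_option backward.isDefEq.respectTransparency.types false
set_option maxHeartbeats 1000000

set_option autoImplicit false
universe u
open Curves

namespace Groth.Agent.S18354

open CategoryTheory CategoryTheory.Limits AlgebraicGeometry in
/-- For all natural numbers g and e there is a natural number D with the following property. For every
algebraically closed field k and every reduced, connected scheme X proper over k, of Krull dimension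
one, with finitely many and at most e irreducible components and with dim_k H^1(X, O_X) = g, there
is an invertible O_X-module L of degree at most D with H^1(X, L) = 0, together with a closed
immersion i of X into some projective space P^m_k over k with i^* O(1) ≅ L. The source phrases the
conclusion as the existence of an embedding of degree at most D and reduces it to this form at the
start of its proof; its genus is the arithmetic genus 1 − χ(O_X), which equals dim_k H^1(X, O_X) for
X reduced, connected and proper over an algebraically closed field. -/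
theorem result (g e : ℕ) :
    ∃ D : ℕ, ∀ (k : Type u) [Field k] [IsAlgClosed k] (X : Scheme.{u}) [X.Over (Spec (CommRingCat.of k))]
      [IsProper (X ↘ Spec (CommRingCat.of k))] [IsReduced X] [ConnectedSpace ↥X],
      topologicalKrullDim ↥X = 1 → (irreducibleComponents (↥X : Type u)).Finite →
      (irreducibleComponents (↥X : Type u)).ncard ≤ e → Curv2.genus k X = g →
      ∃ L : X.Modules, PicF.IsInvertible L ∧ Curv2.deg k X L 1 ≤ (D : ℤ) ∧ Subsingleton (Coh.HH X L 1) ∧
        ∃ (m : ℕ) (i : X ⟶ CohB1.ProjSpace m k), IsClosedImmersion i ∧
          i ≫ CohB1.ProjSpace.toSpec m k = X ↘ Spec (CommRingCat.of k) ∧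
          Nonempty ((Scheme.Modules.pullback i).obj (Twist.twistProjSpace m k 1) ≅ L) := by
  refine ⟨e * (2 * g + 1), fun k _ _ X _ _ _ _ hdim hfin hcard hg => ?_⟩
  haveI := Groth.Agent.EulerLib.isNoetherian_of_proper k (X := X)
  have hfin' : {C : TopologicalSpace.Closeds X | (C : Set X) ∈ irreducibleComponents (X : Type u)}.Finite :=
    hfin.preimage (SetLike.coe_injective.injOn)
  obtain ⟨L, hL, hdeg, hJ⟩ := Groth.Agent.TFPush7.BigBundle.exists_bundle k hdim (2 * g + 1) hfin'.toFinset
    fun C hC => hfin'.mem_toFinset.1 hC
  have hbig : ∀ J : X.IdealSheafData, IsReduced J.subscheme → ConnectedSpace J.subscheme →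
      topologicalKrullDim J.subscheme = 1 →
      2 * (@Curv2.genus k _ J.subscheme ⟨J.subschemeι ≫ (X ↘ Spec (CommRingCat.of k))⟩ : ℤ) + 1 ≤
        @Curv2.deg k _ J.subscheme ⟨J.subschemeι ≫ (X ↘ Spec (CommRingCat.of k))⟩
          ((Scheme.Modules.pullback J.subschemeι).obj L) 1 := fun J hJr hJc hJd => by
    have hgJ := Groth.Agent.TFPush7.PointedSemi.genus_le k X hdim.le J
    obtain ⟨C, hC, hCJ⟩ : ∃ C ∈ hfin'.toFinset, (C : Set X) ⊆ J.support := by
      obtain ⟨x⟩ := (inferInstance : Nonempty J.subscheme)
      have hconn : _root_.IsPreconnected (J.support : Set X) :=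
        J.range_subschemeι ▸ isPreconnected_range J.subschemeι.continuous
      have hT : topologicalKrullDim (J.support : Set X) = 1 := by
        rw [← hJd, ← J.range_subschemeι]
        exact (J.subschemeι.isEmbedding.toHomeomorph.isHomeomorph.topologicalKrullDim_eq _).symm
      have hx : J.subschemeι x ∈ (J.support : Set X) := J.range_subschemeι.le ⟨x, rfl⟩
      obtain ⟨C, η, hC, hη, -, hηJ⟩ := Groth.Agent.DualMod3.exists_component_subset J.support
        (Groth.Agent.DualMod3.subset_closure_interior hdim.le J.support hconn hT hx)
      exact ⟨C, hfin'.mem_toFinset.2 hC,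
        hη.def ▸ closure_minimal (Set.singleton_subset_iff.2 hηJ) J.support.isClosed⟩
    have h := (hJ J hJr hJc hJd).2 ⟨C, hC, hCJ⟩
    push_cast at h
    omega
  obtain ⟨m, i, hi, hiq, hiso⟩ := Groth.Agent.TFPush7.PointVA.exists_closedImmersion_of_deg k hdim hL hbig
  refine ⟨L, hL, hdeg.trans ?_, Groth.Agent.TFPush7.BigBundle.subsingleton_h1 k hdim hL fun J a b c => ?_,
    m, i, hi, hiq, hiso⟩
  · have hle : hfin'.toFinset.card ≤ e := by
      refine le_trans ?_ hcard
      rw [← Set.ncard_eq_toFinset_card _ hfin']
      exact Set.ncard_le_ncard_of_injOn (fun C : TopologicalSpace.Closeds X => (C : Set X)) (fun C hC => hC)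
        SetLike.coe_injective.injOn hfin
    exact_mod_cast Nat.mul_le_mul_right _ hle
  · have := hbig J a b c
    omega

end Groth.Agent.S18354
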