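import Groth.Statements.S18359
import Groth.Agent.CommAlg4.SmoothLiftScheme
-- import your own Groth.Agent.* helpers here

set_option autoImplicit false
open CategoryTheory AlgebraicGeometry
universe u
open BlochOgus

namespace Groth.Agent.S18359

section Helpers

open Groth.Agent.CommAlg4.SmoothLiftScheme

variable {X : Scheme.{u}}

/-- Maximally specialised points of a finite set. -/
theorem exists_special (T : Set X) (hT : T.Finite) :
    ∃ T₀ : Finset X, (↑T₀ ⊆ T) ∧ (∀ t ∈ T, ∃ t₀ ∈ T₀, t ⤳ t₀) ∧ ∀ s ∈ T₀, ∀ t ∈ T₀, s ⤳ t → s = t := by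
  classical
  let S := hT.toFinset
  let T₀ := S.filter fun t => ∀ s ∈ S, t ⤳ s → s = t
  refine ⟨T₀, fun t ht => hT.mem_toFinset.1 (Finset.mem_filter.1 ht).1, fun t ht => ?_,
    fun s hs t ht hst => ((Finset.mem_filter.1 hs).2 t (Finset.mem_filter.1 ht).1 hst).symm⟩
  let cnt : X → ℕ := fun s => (S.filter fun r => s ⤳ r).card
  obtain ⟨t₀, ht₀, hmin⟩ := Finset.exists_min_image (S.filter fun s => t ⤳ s) cnt
    ⟨t, Finset.mem_filter.2 ⟨hT.mem_toFinset.2 ht, specializes_refl t⟩⟩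
  refine ⟨t₀, Finset.mem_filter.2 ⟨(Finset.mem_filter.1 ht₀).1, fun s hs hts => ?_⟩, (Finset.mem_filter.1 ht₀).2⟩
  by_contra hne
  have hlt : cnt s < cnt t₀ := by
    refine Finset.card_lt_card ⟨fun r hr => ?_, fun h => ?_⟩
    · exact Finset.mem_filter.2 ⟨(Finset.mem_filter.1 hr).1, hts.trans (Finset.mem_filter.1 hr).2⟩
    · exact hne ((Finset.mem_filter.1 (h (Finset.mem_filter.2
        ⟨(Finset.mem_filter.1 ht₀).1, specializes_refl t₀⟩))).2.antisymm hts).eq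
  exact absurd (hmin s (Finset.mem_filter.2 ⟨hs, (Finset.mem_filter.1 ht₀).2.trans hts⟩)) (not_le.2 hlt)

/-- Separating functions on an affine open. -/
theorem exists_separating {V : X.Opens} (hV : IsAffineOpen V) (T₀ : Finset X) (hTV : ∀ t ∈ T₀, t ∈ V)
    (hinc : ∀ s ∈ T₀, ∀ t ∈ T₀, s ⤳ t → s = t) (t : X) (ht : t ∈ T₀) :
    ∃ a : Γ(X, V), a ∉ ptIdeal V t (hTV t ht) ∧ ∀ s (hs : s ∈ T₀), s ≠ t → a ∈ ptIdeal V s (hTV s hs) := by
  classical
  have hex : ∀ s, ∃ b : Γ(X, V), t ∈ X.basicOpen b ∧ (s ∈ T₀ → s ≠ t → s ∉ X.basicOpen b) := by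
    intro s
    by_cases hs : s ∈ T₀ ∧ s ≠ t
    · by_contra h
      push Not at h
      refine hs.2 (hinc s hs.1 t ht ?_)
      rw [specializes_iff_forall_open]
      intro W hW htW
      obtain ⟨b, hb, htb⟩ := hV.exists_basicOpen_le (V := ⟨W, hW⟩) ⟨t, htW⟩ (hTV t ht)
      exact hb (h b htb).2.2
    · exact ⟨1, by rw [Scheme.basicOpen_of_isUnit _ isUnit_one]; exact hTV t ht, fun h1 h2 => absurd ⟨h1, h2⟩ hs⟩
  choose b hb1 hb2 using hex
  refine ⟨∏ s ∈ T₀, b s, ?_, fun s hs hne => ?_⟩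
  · intro h
    obtain ⟨s, -, h⟩ := Ideal.IsPrime.prod_mem_iff.1 h
    exact (mem_ptIdeal V t _ _).1 h (hb1 s)
  · exact Ideal.prod_mem _ hs ((mem_ptIdeal V s _ _).2 (hb2 s hs hne))

theorem exists_nonvanishing {Z : Scheme.{u}} (i : Z ⟶ X) [IsClosedImmersion i] {V : X.Opens} (hV : IsAffineOpen V)
    (t : X) (htV : t ∈ V) (ht : t ∉ Set.range i.base) : ∃ y ∈ i.ker.ideal ⟨V, hV⟩, y ∉ ptIdeal V t htV := by
  have h1 : t ∉ i.ker.support := fun h => ht (by
    rw [← SetLike.mem_coe, Scheme.Hom.support_ker, i.isClosedEmbedding.isClosed_range.closure_eq] at h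
    exact h)
  rw [Scheme.IdealSheafData.mem_support_iff_of_mem (U := ⟨V, hV⟩) htV, Scheme.mem_zeroLocus_iff] at h1
  push Not at h1
  obtain ⟨y, hy, hty⟩ := h1
  exact ⟨y, hy, fun h => (mem_ptIdeal V t htV y).1 h hty⟩

end Helpers

set_option maxHeartbeats 1000000 in
/-- Let i₁ : Z₁ → X₁ and i₂ : Z₂ → X₂ be closed immersions, f : X₂ → X₁ smooth of relative dimension n
and g : Z₂ → Z₁ smooth of relative dimension e with i₂ ≫ f = g ≫ i₁, and let T be a finite set of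
points of X₂ contained in one affine open of X₂; assume that e < n or that T lies in the image of
i₂. Then there are an open U ⊇ T of X₂ and a closed subscheme W of U through which Z₂ ∩ U factors,
such that W → X₁ is smooth and Z₂ ∩ U is the fibre product of W and Z₁ over X₁. (The published
statement concerns schemes separated and of finite type over a field or an excellent Dedekind
domain; this row assumes no base. The published statement also lets the finite set lie anywhere in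
X₂ and asks only that f and g be smooth; both relaxations fail over the family xy = t on the plane
with the origin removed, whose fibre over t = 0 is two disjoint punctured lines: with Z₂ one of
these lines and T one point on each line (so e = n = 1 and T leaves Z₂), or with Z₂ one line
together with a single point of the other line and T those two points (so g has relative dimension 1
on one part of Z₂ and 0 on the other), any such W would have to be the whole irreducible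
neighbourhood U. The relative dimensions are therefore taken constant, and the finite set is taken
inside Z₂ unless e < n, in which case the first local equation cutting out W can also be chosen
non-vanishing at the points of T off Z₂.) -/
theorem result
    (X₁ X₂ Z₁ Z₂ : Scheme.{u}) (i₁ : Z₁ ⟶ X₁) (i₂ : Z₂ ⟶ X₂)
    [IsClosedImmersion i₁] [IsClosedImmersion i₂]
    (f : X₂ ⟶ X₁) (g : Z₂ ⟶ Z₁) (n e : ℕ)
    [SmoothOfRelativeDimension n f] [SmoothOfRelativeDimension e g]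
    (hsq : i₂ ≫ f = g ≫ i₁)
    (T : Set X₂) (hT : T.Finite) (hcase : e < n ∨ T ⊆ Set.range i₂.base)
    (V : X₂.Opens) (hV : IsAffineOpen V) (hTV : T ⊆ (V : Set X₂)) :
    ∃ U : X₂.Opens, T ⊆ (U : Set X₂) ∧
      ∃ (W : Scheme.{u}) (k : W ⟶ (U : Scheme.{u}))
        (m : ((i₂ ⁻¹ᵁ U : Z₂.Opens) : Scheme.{u}) ⟶ W),
        IsClosedImmersion k ∧ m ≫ k = i₂ ∣_ U ∧ AlgebraicGeometry.Smooth (k ≫ U.ι ≫ f) ∧
          IsPullback m ((i₂ ⁻¹ᵁ U).ι ≫ g) (k ≫ U.ι ≫ f) i₁ := by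
  classical
  obtain ⟨T₀, hT₀T, hT₀, hinc⟩ := exists_special T hT
  have hT₀V : ∀ t ∈ T₀, t ∈ V := fun t ht => hTV (hT₀T ht)
  choose a ha1 ha2 using fun t : T₀ => exists_separating hV T₀ hT₀V hinc t.1 t.2
  open Groth.Agent.CommAlg4.SmoothLiftScheme in
  have hx : ∀ t : T₀, ∃ x : Fin (n - e) → Γ(X₂, V), (∀ j, x j ∈ i₂.ker.ideal ⟨V, hV⟩) ∧
      ∀ F : Fin (n - e) → Γ(X₂, V), (∀ j, F j ∈ i₂.ker.ideal ⟨V, hV⟩) →
        (∀ j, F j - a t * x j ∈ ptIdeal V t.1 (hT₀V _ t.2) * i₂.ker.ideal ⟨V, hV⟩) →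
        ∃ O : X₂.Opens, t.1 ∈ O ∧ O ≤ V ∧ IsAffineOpen O ∧ ((∃ j, O = X₂.basicOpen (F j)) ∨
          ∃ (U₁ : X₁.affineOpens) (D : X₂.affineOpens) (hDV : D.1 ≤ V) (hDU : D.1 ≤ f ⁻¹ᵁ U₁.1), O = D.1 ∧
          i₂.ker.ideal D ≤ (i₁.ker.ideal U₁).map (f.appLE U₁.1 D.1 hDU).hom ⊔
            Ideal.span (Set.range fun j => X₂.presheaf.map (homOfLE hDV).op (F j)) ∧
          ((Ideal.Quotient.mk (Ideal.span (Set.range fun j => X₂.presheaf.map (homOfLE hDV).op (F j)))).comp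
            (f.appLE U₁.1 D.1 hDU).hom).Smooth) := by
    rintro ⟨t, ht⟩
    by_cases htZ : t ∈ Set.range i₂.base
    · obtain ⟨z, rfl⟩ := htZ
      obtain ⟨x, hxI, hx⟩ := exists_local_equations (i₁ := i₁) (i₂ := i₂) n e hsq V hV z (hT₀V _ ht)
      refine ⟨x, hxI, fun F _ hF => ?_⟩
      obtain ⟨U₁, D, hDV, hDU, hzD, hle, hsm⟩ := hx _ (ha1 ⟨_, ht⟩) F hF
      exact ⟨D.1, hzD, hDV, D.2, Or.inr ⟨U₁, D, hDV, hDU, rfl, hle, hsm⟩⟩
    · have hen : e < n := hcase.resolve_right fun h => htZ (h (hT₀T ht))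
      obtain ⟨y, hyI, hy⟩ := exists_nonvanishing i₂ hV t (hT₀V _ ht) htZ
      refine ⟨fun _ => y, fun _ => hyI, fun F _ hF => ?_⟩
      let j₀ : Fin (n - e) := ⟨0, by omega⟩
      have hFy : F j₀ ∉ ptIdeal V t (hT₀V _ ht) := fun h => by
        have h2 := sub_mem h (Ideal.mul_le_left (hF j₀))
        rw [sub_sub_cancel] at h2
        exact (Ideal.IsPrime.mem_or_mem inferInstance h2).elim (ha1 ⟨t, ht⟩) hy
      exact ⟨X₂.basicOpen (F j₀), not_not.1 fun h => hFy ((mem_ptIdeal V t _ _).2 h), X₂.basicOpen_le _,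
        hV.basicOpen _, Or.inl ⟨j₀, rfl⟩⟩
  choose x hxI hx using hx
  let F : Fin (n - e) → Γ(X₂, V) := fun j => ∑ t : T₀, a t * x t j
  have hFI : ∀ j, F j ∈ i₂.ker.ideal ⟨V, hV⟩ := fun j => Ideal.sum_mem _ fun t _ => Ideal.mul_mem_left _ _ (hxI t j)
  have hO := fun t : T₀ => hx t F hFI fun j => by
    rw [show F j = a t * x t j + ∑ s ∈ Finset.univ.erase t, a s * x s j from
      (Finset.add_sum_erase _ _ (Finset.mem_univ t)).symm, add_sub_cancel_left]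
    refine Ideal.sum_mem _ fun s hs => Ideal.mul_mem_mul ?_ (hxI s j)
    exact ha2 s t.1 t.2 fun h => (Finset.mem_erase.1 hs).1 (Subtype.ext h).symm
  choose O htO hOV hOaff hO using hO
  let U : X₂.Opens := ⨆ t : T₀, O t
  have hUV : U ≤ V := iSup_le hOV
  have hUV' : ∀ D : U.toScheme.Opens, D ≤ U.ι ⁻¹ᵁ V := fun D y _ => hUV y.2
  -- the ideal of the lift
  let rV : ∀ D : U.toScheme.Opens, Γ(X₂, V) →+* Γ(U.toScheme, D) := fun D => (U.ι.appLE V D (hUV' D)).hom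
  let 𝒦 : U.toScheme.IdealSheafData :=
    { ideal := fun D => Ideal.span (Set.range fun j => rV D.1 (F j))
      map_ideal_basicOpen := fun D r => by
        rw [Ideal.map_span, ← Set.range_comp]
        congr 1
        refine congrArg Set.range (funext fun j => ?_)
        show (U.ι.appLE V D.1 _ ≫ U.toScheme.presheaf.map _) (F j) = _
        rw [Scheme.Hom.appLE_map]
        rfl }
  have hvan : ∀ (D : U.toScheme.affineOpens) (j : Fin (n - e)), (i₂ ∣_ U).app D.1 (rV D.1 (F j)) = 0 := by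
    intro D j
    show (U.ι.appLE V D.1 (hUV' _) ≫ (i₂ ∣_ U).app D.1) (F j) = 0
    rw [Scheme.Hom.app_eq_appLE (f := i₂ ∣_ U), Scheme.Hom.appLE_comp_appLE]
    simp only [morphismRestrict_ι]
    rw [← Scheme.Hom.appLE_comp_appLE _ _ V (i₂ ⁻¹ᵁ V) _ le_rfl (fun (y : ((i₂ ⁻¹ᵁ U : Z₂.Opens) : Scheme.{u})) _ => show i₂.base ((i₂ ⁻¹ᵁ U).ι y) ∈ V from hUV y.2), CommRingCat.comp_apply,
      ← Scheme.Hom.app_eq_appLE, (Groth.Agent.CommAlg4.SmoothLiftScheme.mem_ker_app (i₂ := i₂) _ hV).1 (hFI j), map_zero]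
  let j₂ := i₂ ∣_ U
  have h𝒦le : 𝒦 ≤ j₂.ker := fun D => by
    refine Ideal.span_le.2 ?_
    rintro _ ⟨j, rfl⟩
    rw [Scheme.Hom.ker_apply]
    exact hvan D j
  let k := 𝒦.subschemeι
  let m := IsClosedImmersion.lift k j₂ (by rw [Scheme.IdealSheafData.ker_subschemeι]; exact h𝒦le)
  have hm : m ≫ k = j₂ := IsClosedImmersion.lift_fac _ _ _
  -- charts
  have hchart : ∀ (D : X₂.affineOpens), D.1 ≤ U → ∀ hDV : D.1 ≤ V,
      ∃ (DU : U.toScheme.affineOpens), DU.1 = U.ι ⁻¹ᵁ D.1 ∧ Function.Bijective (U.ι.appLE D.1 (U.ι ⁻¹ᵁ D.1) le_rfl) ∧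
        ∀ hle : DU.1 ≤ U.ι ⁻¹ᵁ D.1, 𝒦.ideal DU = (Ideal.span (Set.range fun j => X₂.presheaf.map (homOfLE hDV).op (F j))).map
          (U.ι.appLE D.1 DU.1 hle).hom := by
    intro D hDU hDV
    have haff : IsAffineOpen (U.ι ⁻¹ᵁ D.1) := D.2.preimage_of_isOpenImmersion U.ι (by rw [Scheme.Opens.opensRange_ι]; exact hDU)
    refine ⟨⟨_, haff⟩, rfl, ?_, fun hle => ?_⟩
    · rw [← Scheme.Hom.app_eq_appLE]
      haveI := U.ι.isIso_app D.1 (by rw [Scheme.Opens.opensRange_ι]; exact hDU)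
      exact ConcreteCategory.bijective_of_isIso (U.ι.app D.1)
    · show Ideal.span _ = _
      rw [Ideal.map_span, ← Set.range_comp]
      refine congrArg Ideal.span (congrArg Set.range (funext fun j => ?_))
      show _ = (X₂.presheaf.map (homOfLE hDV).op ≫ U.ι.appLE D.1 _ hle) (F j)
      rw [Scheme.Hom.map_appLE]
  have hsmooth : AlgebraicGeometry.Smooth (k ≫ U.ι ≫ f) := by
    rw [HasRingHomProperty.iff_exists_appLE (P := @AlgebraicGeometry.Smooth)
      (RingHom.Smooth.stableUnderComposition.stableUnderCompositionWithLocalizationAway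
        RingHom.Smooth.holdsForLocalizationAway).left]
    intro w
    obtain ⟨t, ht⟩ := TopologicalSpace.Opens.mem_iSup.1 (k.base w).2
    have hw : k.base w ∈ 𝒦.support := by
      rw [← SetLike.mem_coe, ← Scheme.IdealSheafData.range_subschemeι]; exact ⟨w, rfl⟩
    rcases hO t with ⟨j, hj⟩ | ⟨U₁, D, hDV, hDU, hOD, -, hsm⟩
    · exfalso
      obtain ⟨DU, hDUeq, -, hid⟩ := hchart ⟨O t, hOaff t⟩ (le_iSup O t) (hOV t)
      have hwD : k.base w ∈ DU.1 := by rw [hDUeq]; exact ht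
      rw [Scheme.IdealSheafData.mem_support_iff_of_mem hwD, Scheme.mem_zeroLocus_iff] at hw
      refine hw (rV DU.1 (F j)) (Ideal.subset_span ⟨j, rfl⟩) ?_
      show k.base w ∈ U.toScheme.basicOpen (U.ι.appLE V DU.1 _ (F j))
      rw [Scheme.Hom.appLE, CommRingCat.comp_apply, Scheme.basicOpen_res, ← Scheme.Hom.preimage_basicOpen, ← hj]
      exact ⟨hwD, ht⟩
    · obtain ⟨DU, hDUeq, hbij, hid⟩ := hchart D (hOD ▸ le_iSup O t) hDV
      obtain ⟨DU, hDUaff⟩ := DU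
      obtain rfl : DU = U.ι ⁻¹ᵁ D.1 := hDUeq
      have hwD : k.base w ∈ U.ι ⁻¹ᵁ D.1 := hOD ▸ ht
      have hle' : k ⁻¹ᵁ (U.ι ⁻¹ᵁ D.1) ≤ (k ≫ U.ι ≫ f) ⁻¹ᵁ U₁.1 := fun y hy => hDU hy
      refine ⟨U₁, ⟨_, hDUaff.preimage k⟩, hwD, hle', ?_⟩
      let K₀ := Ideal.span (Set.range fun j => X₂.presheaf.map (homOfLE hDV).op (F j))
      let φ : Γ(X₂, D.1) →+* Γ(𝒦.subscheme, k ⁻¹ᵁ (U.ι ⁻¹ᵁ D.1)) :=
        (k.app (U.ι ⁻¹ᵁ D.1)).hom.comp (U.ι.appLE D.1 (U.ι ⁻¹ᵁ D.1) le_rfl).hom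
      have hker : RingHom.ker φ = K₀ := by
        rw [← RingHom.comap_ker, show RingHom.ker (k.app (U.ι ⁻¹ᵁ D.1)).hom = 𝒦.ideal ⟨_, hDUaff⟩ from
          𝒦.ker_subschemeι_app ⟨_, hDUaff⟩, hid le_rfl]
        exact Ideal.comap_map_of_bijective _ hbij
      have hφ : Function.Surjective φ := (k.app_surjective (U.ι ⁻¹ᵁ D.1) hDUaff).comp hbij.2
      have hcomp : ((k ≫ U.ι ≫ f).appLE U₁.1 (k ⁻¹ᵁ (U.ι ⁻¹ᵁ D.1)) hle').hom = φ.comp (f.appLE U₁.1 D.1 hDU).hom := by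
        rw [show φ.comp (f.appLE U₁.1 D.1 hDU).hom =
          (f.appLE U₁.1 D.1 hDU ≫ U.ι.appLE D.1 (U.ι ⁻¹ᵁ D.1) le_rfl ≫ k.app (U.ι ⁻¹ᵁ D.1)).hom from rfl]
        rw [Scheme.Hom.app_eq_appLE, Scheme.Hom.appLE_comp_appLE, Scheme.Hom.appLE_comp_appLE]
        simp only [Category.assoc]
      show ((k ≫ U.ι ≫ f).appLE U₁.1 (k ⁻¹ᵁ (U.ι ⁻¹ᵁ D.1)) hle').hom.Smooth
      rw [hcomp, show φ.comp (f.appLE U₁.1 D.1 hDU).hom =
        (((RingHom.quotientKerEquivOfSurjective hφ).toRingHom.comp (Ideal.quotEquivOfEq hker.symm).toRingHom).comp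
          ((Ideal.Quotient.mk K₀).comp (f.appLE U₁.1 D.1 hDU).hom)) from RingHom.ext fun _ => rfl]
      exact RingHom.Smooth.comp hsm (RingHom.Smooth.of_bijective
        ((RingHom.quotientKerEquivOfSurjective hφ).bijective.comp (Ideal.quotEquivOfEq hker.symm).bijective))
  haveI := hsmooth
  refine ⟨U, fun t ht => ?_, 𝒦.subscheme, k, m, inferInstance, hm, hsmooth, ?_⟩
  · obtain ⟨t₀, ht₀, hsp⟩ := hT₀ t ht
    exact hsp.mem_open U.isOpen (TopologicalSpace.Opens.mem_iSup.2 ⟨⟨t₀, ht₀⟩, htO ⟨t₀, ht₀⟩⟩)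
  -- the square is cartesian
  have hw : m ≫ (k ≫ U.ι ≫ f) = ((i₂ ⁻¹ᵁ U).ι ≫ g) ≫ i₁ := by
    rw [← Category.assoc, hm, Category.assoc, ← hsq, ← Category.assoc, ← Category.assoc]
    congr 1
    exact morphismRestrict_ι i₂ U
  let q := Limits.pullback.fst (k ≫ U.ι ≫ f) i₁ ≫ k
  have hq : q ≫ U.ι ≫ f = Limits.pullback.snd (k ≫ U.ι ≫ f) i₁ ≫ i₁ := by
    rw [← Limits.pullback.condition, Category.assoc]
  have hker : j₂.ker ≤ q.ker := by
    let DUs : T₀ → U.toScheme.affineOpens := fun t => ⟨U.ι ⁻¹ᵁ O t, (hOaff t).preimage_of_isOpenImmersion U.ι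
      (by rw [Scheme.Opens.opensRange_ι]; exact le_iSup O t)⟩
    refine Scheme.IdealSheafData.le_of_iSup_eq_top DUs ?_ fun t => ?_
    · refine top_le_iff.1 fun y _ => ?_
      obtain ⟨t, ht⟩ := TopologicalSpace.Opens.mem_iSup.1 y.2
      exact TopologicalSpace.Opens.mem_iSup.2 ⟨t, ht⟩
    · rw [Scheme.Hom.ker_apply, Scheme.Hom.ker_apply]
      intro r hr
      rw [RingHom.mem_ker] at hr ⊢
      have hqk : ∀ (DU : U.toScheme.affineOpens) (r : Γ(U.toScheme, DU.1)), r ∈ 𝒦.ideal DU → q.app DU.1 r = 0 := by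
        intro DU r hr
        rw [← 𝒦.ker_subschemeι_app DU, RingHom.mem_ker] at hr
        show (Limits.pullback.fst (k ≫ U.ι ≫ f) i₁).app _ (k.app DU.1 r) = 0
        rw [hr, map_zero]
      rcases hO t with ⟨j, hj⟩ | ⟨U₁, D, hDV, hDU, hOD, hle, -⟩
      · -- the piece misses the lift
        refine hqk (DUs t) r ?_
        have hu : IsUnit (rV (DUs t).1 (F j)) := by
          refine RingedSpace.isUnit_of_isUnit_germ _ _ _ fun y hy => ?_
          rw [← Scheme.mem_basicOpen]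
          show y ∈ U.toScheme.basicOpen (U.ι.appLE V (DUs t).1 _ (F j))
          rw [Scheme.Hom.appLE, CommRingCat.comp_apply, Scheme.basicOpen_res, ← Scheme.Hom.preimage_basicOpen, ← hj]
          exact ⟨hy, hy⟩
        rw [Ideal.eq_top_of_isUnit_mem _ (show rV (DUs t).1 (F j) ∈ 𝒦.ideal (DUs t) from Ideal.subset_span ⟨j, rfl⟩) hu]
        trivial
      · obtain ⟨DU, hDUeq, hbij, hid⟩ := hchart D (hOD ▸ le_iSup O t) hDV
        have heq : DUs t = DU := Subtype.ext (by rw [hDUeq, ← hOD])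
        revert r
        rw [heq]
        obtain ⟨DU, hDUaff⟩ := DU
        obtain rfl : DU = U.ι ⁻¹ᵁ D.1 := hDUeq
        intro r hr
        obtain ⟨a₀, rfl⟩ := hbij.2 r
        let ι' := (i₂ ⁻¹ᵁ U).ι
        have hpeq : j₂ ⁻¹ᵁ (U.ι ⁻¹ᵁ D.1) = ι' ⁻¹ᵁ (i₂ ⁻¹ᵁ D.1) := by
          simp only [j₂, ι', ← Scheme.Hom.comp_preimage, morphismRestrict_ι]
        have hsq₂ : U.ι.appLE D.1 (U.ι ⁻¹ᵁ D.1) le_rfl ≫ j₂.app (U.ι ⁻¹ᵁ D.1) = i₂.app D.1 ≫ ι'.appLE (i₂ ⁻¹ᵁ D.1)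
            (j₂ ⁻¹ᵁ (U.ι ⁻¹ᵁ D.1)) hpeq.le := by
          rw [Scheme.Hom.app_eq_appLE, Scheme.Hom.app_eq_appLE, Scheme.Hom.appLE_comp_appLE, Scheme.Hom.appLE_comp_appLE]
          simp only [j₂, ι', morphismRestrict_ι]
        have hinj : ∀ (W : ((i₂ ⁻¹ᵁ U : Z₂.Opens) : Scheme.{u}).Opens) (hW : W = ι' ⁻¹ᵁ (i₂ ⁻¹ᵁ D.1)) (hle : W ≤ ι' ⁻¹ᵁ (i₂ ⁻¹ᵁ D.1)),
            Function.Injective (ι'.appLE (i₂ ⁻¹ᵁ D.1) W hle) := by
          rintro _ rfl _
          rw [← Scheme.Hom.app_eq_appLE]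
          haveI := ι'.isIso_app (i₂ ⁻¹ᵁ D.1) (by
            rw [Scheme.Opens.opensRange_ι]; exact fun y hy => (hOD ▸ le_iSup O t : D.1 ≤ U) hy)
          exact (ConcreteCategory.bijective_of_isIso _).1
        have ha₀ : a₀ ∈ i₂.ker.ideal D := by
          refine (Groth.Agent.CommAlg4.SmoothLiftScheme.mem_ker_app (i₂ := i₂) a₀ D.2).2 ?_
          refine hinj _ hpeq hpeq.le ?_
          rw [map_zero, ← CommRingCat.comp_apply, ← hsq₂, CommRingCat.comp_apply]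
          exact hr
        refine (hle.trans (sup_le ?_ ?_) : _ ≤ (RingHom.ker (q.app (U.ι ⁻¹ᵁ D.1)).hom).comap
          (U.ι.appLE D.1 (U.ι ⁻¹ᵁ D.1) le_rfl).hom) ha₀
        · rw [Ideal.map_le_iff_le_comap]
          intro b hb
          show (f.appLE U₁.1 D.1 hDU ≫ U.ι.appLE D.1 (U.ι ⁻¹ᵁ D.1) le_rfl ≫ q.app (U.ι ⁻¹ᵁ D.1)) b = 0
          rw [Scheme.Hom.app_eq_appLE, Scheme.Hom.appLE_comp_appLE, Scheme.Hom.appLE_comp_appLE]
          simp only [Category.assoc, hq, Scheme.Hom.comp_appLE, CommRingCat.comp_apply]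
          rw [(Groth.Agent.CommAlg4.SmoothLiftScheme.mem_ker_app (i₂ := i₁) b U₁.2).1 hb, map_zero]
        · rw [← Ideal.map_le_iff_le_comap, ← hid le_rfl]
          intro r hr
          exact RingHom.mem_ker.2 (hqk ⟨U.ι ⁻¹ᵁ D.1, hDUaff⟩ r hr)
  let l := IsClosedImmersion.lift j₂ q hker
  have hl : l ≫ j₂ = q := IsClosedImmersion.lift_fac _ _ _
  refine IsPullback.of_iso_pullback ⟨hw⟩
    { hom := Limits.pullback.lift m ((i₂ ⁻¹ᵁ U).ι ≫ g) hw
      inv := l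
      hom_inv_id := by
        rw [← cancel_mono j₂, Category.assoc, hl, Category.id_comp, Limits.pullback.lift_fst_assoc, hm]
      inv_hom_id := by
        apply Limits.pullback.hom_ext
        · rw [Category.assoc, Limits.pullback.lift_fst, Category.id_comp, ← cancel_mono k, Category.assoc, hm, hl]
        · rw [Category.assoc, Limits.pullback.lift_snd, Category.id_comp, ← cancel_mono i₁, ← hq, ← hl]
          simp only [Category.assoc, j₂, ← hsq]
          rw [morphismRestrict_ι_assoc] }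
    (Limits.pullback.lift_fst _ _ _) (Limits.pullback.lift_snd _ _ _)

end Groth.Agent.S18359
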