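import Groth.Statements.S18360
import Groth.Agent.CommAlg4.FiniteCoverLift
-- import your own Groth.Agent.* helpers here

set_option autoImplicit false
universe u
open CategoryTheory CategoryTheory.Limits AlgebraicGeometry
open Alter

namespace Groth.Agent.S18360

/-- Let Y be a Noetherian scheme, i : F ⟶ Y a closed immersion and s : F' ⟶ F a finite surjective
morphism. Then there are a scheme Y' and a finite surjective morphism g : Y' ⟶ Y such that every
irreducible component of F ×_Y Y', with its reduced closed-subscheme structure, is the source of an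
F-morphism to F': for every reduced scheme G and every closed immersion ι : G ⟶ F ×_Y Y' whose image
is an irreducible component, there is φ : G ⟶ F' with φ ≫ s = ι ≫ pr₁. -/
theorem result {Y F F' : Scheme.{u}} [IsNoetherian Y]
    (i : F ⟶ Y) [IsClosedImmersion i] (s : F' ⟶ F) [IsFinite s] [Surjective s] :
    ∃ (Y' : Scheme.{u}) (g : Y' ⟶ Y), IsFinite g ∧ Surjective g ∧
      ∀ (G : Scheme.{u}) (ι : G ⟶ pullback i g) [IsClosedImmersion ι] [AlgebraicGeometry.IsReduced G],
        Set.range ι.base ∈ irreducibleComponents ↥(pullback i g) →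
          ∃ φ : G ⟶ F', φ ≫ s = ι ≫ pullback.fst i g := by
  obtain ⟨Y', g, hg, hg', hlift⟩ := Groth.Agent.CommAlg4.FiniteCoverLift.exists_lift i s
  haveI := hg
  refine ⟨Y', g, hg, hg', fun G ι _ _ hG => ?_⟩
  haveI : IrreducibleSpace G := by
    have hirr : IsIrreducible (Set.range ι.base) := hG.1
    have he := ι.isClosedEmbedding.isEmbedding
    obtain ⟨⟨_, x, -⟩, hpre⟩ := hirr
    haveI : Nonempty G := ⟨x⟩
    haveI : PreirreducibleSpace G := by
      refine ⟨fun u v hu hv => ?_⟩
      obtain ⟨u', hu', rfl⟩ := he.isInducing.isOpen_iff.1 hu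
      obtain ⟨v', hv', rfl⟩ := he.isInducing.isOpen_iff.1 hv
      rintro ⟨y, -, hy⟩ ⟨z, -, hz⟩
      obtain ⟨_, ⟨q, rfl⟩, hq1, hq2⟩ := hpre u' v' hu' hv' ⟨_, ⟨y, rfl⟩, hy⟩ ⟨_, ⟨z, rfl⟩, hz⟩
      exact ⟨q, trivial, hq1, hq2⟩
    constructor; infer_instance
  haveI : AlgebraicGeometry.IsIntegral G := isIntegral_of_irreducibleSpace_of_isReduced _
  exact hlift G (ι ≫ pullback.snd i g) (ι ≫ pullback.fst i g) inferInstance
    (by rw [Category.assoc]; infer_instance) (by simp only [Category.assoc, pullback.condition])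

end Groth.Agent.S18360
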