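import Groth.Statements.S18363
import Mathlib.Algebra.Category.ModuleCat.Ext.HasExt
import Mathlib.Algebra.Homology.ShortComplex.ModuleCat
import Mathlib.Algebra.Module.StablyFree.Basic
import Mathlib.LinearAlgebra.Dual.Lemmas
import Mathlib.LinearAlgebra.FreeModule.PID
import Mathlib.Order.CompletePartialOrder
import Mathlib.RingTheory.Flat.TorsionFree
import Mathlib.RingTheory.Ideal.MinimalPrime.Noetherian
import Mathlib.RingTheory.Ideal.Quotient.Noetherian
import Mathlib.RingTheory.SimpleRing.Principal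
import Mathlib.Tactic

set_option linter.all false

set_option autoImplicit false
universe u
open CategoryTheory
open CAlg

open CategoryTheory
open scoped TensorProduct

namespace Groth.Agent.S18363

/-- Let R be a Noetherian local ring with maximal ideal m, and P, Q ideals of R such that P + Q contains
a power of m while R/P and R/Q are both reduced of Krull dimension one. Let I and J be nonzero
finitely generated R-modules with P·I = 0 and Q·J = 0, such that every element of R whose class in
R/P is a non-zero-divisor acts injectively on I, and every element whose class in R/Q is a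
non-zero-divisor acts injectively on J. Then the group Ext¹_R(I, J) is nonzero. (This is the stalk
statement behind the existence of a non-split extension of a torsion-free rank-one sheaf on a
subcurve Y by one on a subcurve Z of a reduced projective curve, at a point where Y and Z meet
without sharing a component; in that situation the modules moreover have rank one at the generic
points of their supports and P ∩ Q = 0, two assumptions the argument does not use.) -/
theorem result
    (R : Type u) [CommRing R] [IsNoetherianRing R] [IsLocalRing R]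
    (P Q : Ideal R) (hPQ : ∃ n : ℕ, IsLocalRing.maximalIdeal R ^ n ≤ P ⊔ Q)
    [IsReduced (R ⧸ P)] [IsReduced (R ⧸ Q)]
    (hPdim : ringKrullDim (R ⧸ P) = 1) (hQdim : ringKrullDim (R ⧸ Q) = 1)
    (I J : Type u) [AddCommGroup I] [Module R I] [Module.Finite R I] [Nontrivial I]
    [AddCommGroup J] [Module R J] [Module.Finite R J] [Nontrivial J]
    (hPI : ∀ p ∈ P, ∀ x : I, p • x = 0) (hQJ : ∀ q ∈ Q, ∀ y : J, q • y = 0)
    (hItf : ∀ r : R, Ideal.Quotient.mk P r ∈ nonZeroDivisors (R ⧸ P) → ∀ x : I, r • x = 0 → x = 0)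
    (hJtf : ∀ r : R, Ideal.Quotient.mk Q r ∈ nonZeroDivisors (R ⧸ Q) → ∀ y : J, r • y = 0 → y = 0) :
    Nontrivial (Abelian.Ext (ModuleCat.of R I) (ModuleCat.of R J) 1) := by
  classical
  haveI : Nontrivial (R ⧸ Q) := by
    by_contra h
    rw [not_nontrivial_iff_subsingleton] at h
    rw [ringKrullDim_eq_bot_of_subsingleton] at hQdim
    exact absurd hQdim (by simp)
  obtain ⟨t, htm, htnzd, k, hk⟩ : ∃ t ∈ IsLocalRing.maximalIdeal R, Ideal.Quotient.mk Q t ∈ nonZeroDivisors (R ⧸ Q) ∧
      ∃ k : ℕ, IsLocalRing.maximalIdeal R ^ k ≤ Q ⊔ Ideal.span {t} := by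
    haveI : IsLocalRing (R ⧸ Q) := IsLocalRing.of_surjective' (Ideal.Quotient.mk Q) Ideal.Quotient.mk_surjective
    have hfin := minimalPrimes.finite_of_isNoetherianRing (R ⧸ Q)
    obtain ⟨x, hx, hx'⟩ : ∃ x ∈ IsLocalRing.maximalIdeal (R ⧸ Q), ∀ p ∈ minimalPrimes (R ⧸ Q), x ∉ p := by
      by_contra! h
      have hsub : (IsLocalRing.maximalIdeal (R ⧸ Q) : Set (R ⧸ Q)) ⊆ ⋃ p ∈ (hfin.toFinset : Set (Ideal (R ⧸ Q))), (p : Set (R ⧸ Q)) := fun x hx => by
        obtain ⟨p, hp, hxp⟩ := h x hx
        exact Set.mem_biUnion (hfin.mem_toFinset.mpr hp) hxp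
      obtain ⟨p, hp, hle⟩ := (Ideal.subset_union_prime ⊥ ⊥ (fun p hp _ _ => (hfin.mem_toFinset.mp hp).1.1)).mp hsub
      have hpmin := hfin.mem_toFinset.mp hp
      haveI : p.IsPrime := hpmin.1.1
      have hpm : p = IsLocalRing.maximalIdeal (R ⧸ Q) := le_antisymm (IsLocalRing.le_maximalIdeal hpmin.1.1.ne_top) hle
      haveI : Ring.KrullDimLE 0 (R ⧸ Q) := Ring.KrullDimLE.mk₀ fun q hq => by
        have hqp : q ≤ p := hpm ▸ IsLocalRing.le_maximalIdeal hq.ne_top
        have := hpmin.2 ⟨hq, bot_le⟩ hqp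
        rw [le_antisymm hqp this, hpm]
        exact IsLocalRing.maximalIdeal.isMaximal _
      have h0 : ringKrullDim (R ⧸ Q) ≤ ((0 : ℕ) : WithBot ℕ∞) := Ring.krullDimLE_iff.mp inferInstance
      rw [hQdim] at h0
      exact absurd h0 (by norm_num)
    obtain ⟨t, rfl⟩ := Ideal.Quotient.mk_surjective x
    refine ⟨t, ?_, mem_nonZeroDivisors_iff_right.mpr fun y hy => ?_, ?_⟩
    · by_contra htm
      rw [IsLocalRing.mem_maximalIdeal, mem_nonunits_iff, not_not] at htm
      exact (IsLocalRing.mem_maximalIdeal _).mp hx (htm.map _)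
    · refine isNilpotent_iff_eq_zero.mp ?_
      rw [nilpotent_iff_mem_prime]
      intro q hq
      obtain ⟨p, hp, hpq⟩ := Ideal.exists_minimalPrimes_le (bot_le : ⊥ ≤ q)
      exact hpq ((hp.1.1.mem_or_mem (show y * Ideal.Quotient.mk Q t ∈ p by rw [hy]; exact p.zero_mem)).resolve_right (hx' p hp))
    · have hrad : IsLocalRing.maximalIdeal R ≤ (Q ⊔ Ideal.span {t}).radical := by
        rw [Ideal.radical_eq_sInf]
        refine le_sInf fun q hq => ?_
        haveI : q.IsPrime := hq.2
        have hQq : Q ≤ q := le_sup_left.trans hq.1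
        have htq : t ∈ q := hq.1 (Submodule.mem_sup_right (Ideal.mem_span_singleton_self t))
        have hc : (q.map (Ideal.Quotient.mk Q)).comap (Ideal.Quotient.mk Q) = q := by
          rw [Ideal.comap_map_of_surjective _ Ideal.Quotient.mk_surjective, ← RingHom.ker_eq_comap_bot, Ideal.mk_ker]
          exact sup_eq_left.mpr hQq
        haveI hqb : (q.map (Ideal.Quotient.mk Q)).IsPrime :=
          Ideal.map_isPrime_of_surjective Ideal.Quotient.mk_surjective (by rw [Ideal.mk_ker]; exact hQq)
        haveI : Ring.KrullDimLE 1 (R ⧸ Q) := Ring.krullDimLE_iff.mpr (by rw [hQdim]; simp)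
        rcases Ring.krullDimLE_one_iff.mp ‹_› (q.map (Ideal.Quotient.mk Q)) hqb with h | h
        · exact absurd (Ideal.mem_map_of_mem _ htq) (hx' _ h)
        · haveI := h
          haveI : q.IsMaximal := hc ▸ Ideal.comap_isMaximal_of_surjective _ Ideal.Quotient.mk_surjective
          exact (IsLocalRing.eq_maximalIdeal inferInstance).ge
      obtain ⟨k, hk⟩ := Ideal.exists_radical_pow_le_of_fg (Q ⊔ Ideal.span {t}) (IsNoetherian.noetherian _)
      exact ⟨k, (Ideal.pow_right_mono hrad k).trans hk⟩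
  have ht0 : ∀ y : J, t • y = 0 → y = 0 := hJtf t htnzd
  obtain ⟨n, hn⟩ := hPQ
  have hHom : ∀ φ : I →ₗ[R] J, φ = 0 := fun φ => by
    ext x
    obtain ⟨a, ha, c, hc, hac⟩ := Submodule.mem_sup.mp (hn (Ideal.pow_mem_pow htm n))
    have h : t ^ n • φ x = 0 := by rw [← hac, add_smul, ← map_smul, hPI a ha, map_zero, hQJ c hc, add_zero]
    have hk : ∀ k (y : J), t ^ k • y = 0 → y = 0 := by
      intro k; induction k with
      | zero => intro y hy; simpa using hy
      | succ k ih => intro y hy; exact ht0 y (ih _ (by rw [← mul_smul, ← pow_succ]; exact hy))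
    exact hk n _ h
  let mt : J →ₗ[R] J := t • LinearMap.id
  let C := J ⧸ LinearMap.range mt
  let S : ShortComplex (ModuleCat.{u} R) :=
    ShortComplex.moduleCatMk mt (LinearMap.range mt).mkQ (by ext x; simp)
  have hS : S.ShortExact :=
    { exact := (ShortComplex.moduleCat_exact_iff_range_eq_ker _).mpr (Submodule.ker_mkQ (LinearMap.range mt)).symm
      mono_f := (ModuleCat.mono_iff_injective _).mpr (by
        show Function.Injective mt
        rw [injective_iff_map_eq_zero]
        exact fun y hy => ht0 y (by simpa [mt] using hy))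
      epi_g := (ModuleCat.epi_iff_surjective _).mpr (Submodule.mkQ_surjective _) }
  -- a nonzero map from I to J / tJ
  obtain ⟨ψ, hψ⟩ : ∃ ψ : I →ₗ[R] C, ψ ≠ 0 := by
    let κ := IsLocalRing.ResidueField R
    haveI : Nontrivial C := Submodule.Quotient.nontrivial_iff.mpr fun h => by
      have hle : (⊤ : Submodule R J) ≤ Ideal.span {t} • ⊤ := by
        intro z hz
        rw [← h] at hz
        obtain ⟨y, rfl⟩ := hz
        show t • y ∈ _
        exact Submodule.smul_mem_smul (Ideal.mem_span_singleton_self t) (Submodule.mem_top (x := y))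
      have := Submodule.eq_bot_of_le_smul_of_le_jacobson_bot _ ⊤ Module.Finite.fg_top hle (by
        rw [IsLocalRing.jacobson_eq_maximalIdeal ⊥ bot_ne_top, Ideal.span_singleton_le_iff_mem]; exact htm)
      exact bot_ne_top this.symm
    have hC : ∀ a ∈ IsLocalRing.maximalIdeal R ^ k, ∀ z : C, a • z = 0 := by
      intro a ha z
      obtain ⟨y, rfl⟩ := Submodule.mkQ_surjective _ z
      obtain ⟨c, hc, b, hb, rfl⟩ := Submodule.mem_sup.mp (hk ha)
      obtain ⟨r, rfl⟩ := Ideal.mem_span_singleton'.mp hb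
      rw [add_smul, ← map_smul, hQJ c hc, map_zero, zero_add, mul_comm, mul_smul, ← map_smul, ← map_smul]
      exact (Submodule.Quotient.mk_eq_zero _).mpr ⟨r • y, by simp [mt, smul_comm r t]⟩
    obtain ⟨z, hz, hzm⟩ : ∃ z : C, z ≠ 0 ∧ ∀ a ∈ IsLocalRing.maximalIdeal R, a • z = 0 := by
      let p : ℕ → Prop := fun j => ∀ a ∈ IsLocalRing.maximalIdeal R ^ j, ∀ z : C, a • z = 0
      have hex : ∃ j, p j := ⟨k, hC⟩
      rcases hj : Nat.find hex with _ | j
      · obtain ⟨z₀, hz₀⟩ := exists_ne (0 : C)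
        have := Nat.find_spec hex
        rw [hj] at this
        exact absurd (by simpa using this 1 (by simp [Ideal.one_eq_top]) z₀) hz₀
      · have hnot := Nat.find_min hex (show j < Nat.find hex by omega)
        simp only [p, not_forall] at hnot
        obtain ⟨a, ha, z₀, hz₀⟩ := hnot
        refine ⟨a • z₀, hz₀, fun c hc => ?_⟩
        rw [← mul_smul]
        have := Nat.find_spec hex
        rw [hj] at this
        exact this _ (by rw [pow_succ']; exact Ideal.mul_mem_mul hc ha) z₀
    obtain ⟨x₀, hx₀⟩ : ∃ x₀ : I, x₀ ∉ (IsLocalRing.maximalIdeal R • ⊤ : Submodule R I) := by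
      by_contra! h
      have := Submodule.eq_bot_of_le_smul_of_le_jacobson_bot _ ⊤ Module.Finite.fg_top (fun x _ => h x)
        (IsLocalRing.jacobson_eq_maximalIdeal ⊥ bot_ne_top).ge
      exact bot_ne_top this.symm
    let V := κ ⊗[R] I
    have hx₀' : (1 : κ) ⊗ₜ[R] x₀ ≠ 0 := fun h => hx₀ (by
      have h' : x₀ ∈ LinearMap.ker (TensorProduct.mk R (R ⧸ IsLocalRing.maximalIdeal R) I 1) := h
      rwa [LinearMap.ker_tensorProductMk] at h')
    obtain ⟨l, hl⟩ : ∃ l : V →ₗ[κ] κ, l ((1 : κ) ⊗ₜ[R] x₀) ≠ 0 := by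
      by_contra! h
      exact hx₀' ((Module.forall_dual_apply_eq_zero_iff κ _).mp h)
    let σ : κ →ₗ[R] C := Submodule.liftQ _ (LinearMap.toSpanSingleton R C z) (fun a ha => hzm a ha)
    have hσ : ∀ c, σ c = 0 → c = 0 := fun c hc => by
      obtain ⟨c, rfl⟩ := IsLocalRing.residue_surjective c
      by_contra h
      rw [IsLocalRing.residue_eq_zero_iff, IsLocalRing.mem_maximalIdeal, mem_nonunits_iff, not_not] at h
      have hc' : c • z = 0 := hc
      exact hz ((h.smul_eq_zero).mp hc')
    refine ⟨σ ∘ₗ (l.restrictScalars R) ∘ₗ TensorProduct.mk R κ I 1, fun h => hl (hσ _ ?_)⟩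
    exact LinearMap.congr_fun h x₀
  let e := Abelian.Ext.mk₀ (ModuleCat.ofHom ψ : ModuleCat.of R I ⟶ S.X₃)
  refine ⟨⟨e.comp hS.extClass (show 0 + 1 = 1 from rfl), 0, fun h => ?_⟩⟩
  obtain ⟨x₂, hx₂⟩ := Abelian.Ext.covariant_sequence_exact₃ (ModuleCat.of R I) hS e rfl h
  obtain ⟨φ, rfl⟩ := (Abelian.Ext.mk₀_bijective _ _).2 x₂
  rw [Abelian.Ext.mk₀_comp_mk₀] at hx₂
  have h2 := (Abelian.Ext.mk₀_bijective _ _).1 hx₂
  apply hψ
  ext x
  have h3 := congrArg (fun f => f.hom x) h2
  have h4 : φ.hom = 0 := hHom φ.hom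
  have h5 : (LinearMap.range mt).mkQ (φ.hom x) = ψ x := h3
  rw [← h5, h4]
  exact map_zero _

end Groth.Agent.S18363
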