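import Groth.Statements.S18364
import Mathlib
import Groth.Prelude

set_option linter.all false

set_option autoImplicit false
universe u
open CAlg

universe v


namespace Groth.Agent.S18364

theorem mem_vanish {A : Type u} [CommRing A] {ι : Type} {V : Type v} [AddCommGroup V] [Module A V] (𝔓 : ι → Ideal A) [∀ i, (𝔓 i).IsPrime] (T : Set ι) (x : V) :
    x ∈ (⨅ i ∈ T, LinearMap.ker (LocalizedModule.mkLinearMap (𝔓 i).primeCompl V)) ↔
      ∀ i ∈ T, ∃ s : A, s ∉ 𝔓 i ∧ s • x = 0 := by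
  simp only [Submodule.mem_iInf, LinearMap.mem_ker]
  refine forall_congr' fun i => imp_congr_right fun _ => ?_
  rw [IsLocalizedModule.eq_zero_iff (S := (𝔓 i).primeCompl) (LocalizedModule.mkLinearMap (𝔓 i).primeCompl V)]
  exact ⟨fun ⟨s, hs⟩ => ⟨s.1, s.2, hs⟩, fun ⟨s, hs, h⟩ => ⟨⟨s, hs⟩, h⟩⟩

/-- Let A be a Noetherian ring, π an element of A, and (𝔓_i)_{i ∈ ι} an injective finite family listing
exactly the minimal prime ideals over (π). Let M be a finitely generated A-module and M̄ = M/πM. For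
a subset T of ι let K(T) ⊆ M̄ be the submodule of elements whose image in the localisation of M̄ at
𝔓_i is zero for every i ∈ T, and N(T) ⊆ M its preimage in M. Assume K(ι) = 0, i.e. no nonzero
element of M̄ vanishes at all the minimal primes (every associated prime of M̄ is one of the 𝔓_i).
Then for every subset Y of ι with complement Z one has N(Y) ∩ N(Z) = πM, and the same construction
applied to the module N(Y) instead of M — the preimage in N(Y) of the elements of N(Y)/πN(Y)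
vanishing at every 𝔓_i with i ∈ Z — is, as a submodule of M, equal to N(Y) ∩ N(Z). (Geometric
meaning: A is the local ring of a flat family of curves over a discrete valuation ring with
uniformizer π at a point of the reduced special fibre, M the stalk of a torsion-free rank-one sheaf
I, Y a set of components of the special fibre through the point, and N(Y) the stalk of the kernel
I^Y of I → I(s)_Y; the statement is (I^Y)^Z = I^Y ∩ I^Z = πI. Reducedness of A/πA, flatness and rank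
one are not used.) -/
theorem result
    (A : Type u) [CommRing A] [IsNoetherianRing A] (π : A)
    (ι : Type) [Finite ι] (𝔓 : ι → Ideal A) [∀ i, (𝔓 i).IsPrime]
    (h𝔓 : ∀ i, 𝔓 i ∈ (Ideal.span {π}).minimalPrimes) (h𝔓inj : Function.Injective 𝔓)
    (h𝔓surj : ∀ 𝔔 ∈ (Ideal.span {π}).minimalPrimes, ∃ i, 𝔓 i = 𝔔)
    (M : Type u) [AddCommGroup M] [Module A M] [Module.Finite A M]
    (K : Set ι → Submodule A (M ⧸ Ideal.span {π} • (⊤ : Submodule A M)))
    (hK : ∀ T : Set ι, K T = ⨅ i ∈ T, LinearMap.ker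
      (LocalizedModule.mkLinearMap (𝔓 i).primeCompl (M ⧸ Ideal.span {π} • (⊤ : Submodule A M))))
    (htf : K Set.univ = ⊥)
    (N : Set ι → Submodule A M)
    (hN : ∀ T : Set ι, N T = (K T).comap (Submodule.mkQ (Ideal.span {π} • (⊤ : Submodule A M))))
    (Y : Set ι) :
    N Y ⊓ N Yᶜ = Ideal.span {π} • (⊤ : Submodule A M) ∧
    Submodule.map (N Y).subtype
      ((⨅ i ∈ Yᶜ, LinearMap.ker (LocalizedModule.mkLinearMap (𝔓 i).primeCompl
          (↥(N Y) ⧸ Ideal.span {π} • (⊤ : Submodule A ↥(N Y))))).comap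
        (Submodule.mkQ (Ideal.span {π} • (⊤ : Submodule A ↥(N Y)))))
      = N Y ⊓ N Yᶜ := by
  classical
  let P := Ideal.span {π} • (⊤ : Submodule A M)
  have memN : ∀ (T : Set ι) (x : M), x ∈ N T ↔ ∀ i ∈ T, ∃ s, s ∉ 𝔓 i ∧ s • x ∈ P := by
    intro T x
    rw [hN, Submodule.mem_comap, hK, mem_vanish]
    simp only [Submodule.mkQ_apply, ← Submodule.Quotient.mk_smul, Submodule.Quotient.mk_eq_zero]
    rfl
  have h1 : N Y ⊓ N Yᶜ = P := by
    rw [hN, hN, ← Submodule.comap_inf]
    have : K Y ⊓ K Yᶜ = K Set.univ := by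
      rw [hK, hK, hK, ← iInf_union, Set.union_compl_self]
    rw [this, htf, Submodule.comap_bot, Submodule.ker_mkQ]
  refine ⟨h1, le_antisymm ?_ ?_⟩
  · rintro _ ⟨x, hx, rfl⟩
    refine ⟨x.2, (memN _ _).2 fun i hi => ?_⟩
    obtain ⟨s, hs, h⟩ := (mem_vanish 𝔓 Yᶜ _).1 hx i hi
    rw [Submodule.mkQ_apply, ← Submodule.Quotient.mk_smul, Submodule.Quotient.mk_eq_zero, Submodule.ideal_span_singleton_smul] at h
    obtain ⟨n, -, hn⟩ := h
    refine ⟨s, hs, ?_⟩
    have : s • (x : M) = π • (n : M) := congrArg Subtype.val hn.symm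
    show s • (x : M) ∈ P
    rw [this]; exact Submodule.smul_mem_smul (Ideal.mem_span_singleton_self π) trivial
  · intro x hx
    refine ⟨⟨x, hx.1⟩, (mem_vanish 𝔓 Yᶜ _).2 fun i hi => ?_, rfl⟩
    rw [h1] at hx
    rw [show (P : Submodule A M) = Ideal.span {π} • ⊤ from rfl, Submodule.ideal_span_singleton_smul] at hx
    obtain ⟨m, -, rfl⟩ := hx
    have hj : ∀ j, ∃ a : A, (a ∉ 𝔓 i ∨ j = i) ∧ ∃ u, u ∉ 𝔓 j ∧ (j = i ∨ u * a ∈ Ideal.span {π}) := by
      intro j
      rcases eq_or_ne j i with rfl | hne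
      · exact ⟨1, Or.inr rfl, 1, (‹∀ i, (𝔓 i).IsPrime› j).one_notMem, Or.inl rfl⟩
      have hnle : ¬ 𝔓 j ≤ 𝔓 i := fun hle =>
        hne (h𝔓inj (le_antisymm hle ((h𝔓 i).2 (h𝔓 j).1 hle)))
      obtain ⟨s, hsj, hsi⟩ := SetLike.not_le_iff_exists.1 hnle
      by_contra hcon
      have hdis : Disjoint (Ideal.span {π} : Set A) ↑((𝔓 j).primeCompl ⊔ Submonoid.powers s) := by
        rw [Set.disjoint_left]
        intro z hz hz'
        obtain ⟨u, hu, w, ⟨n, rfl⟩, rfl⟩ := Submonoid.mem_sup.1 hz'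
        exact hcon ⟨s ^ n, Or.inl fun h => hsi ((‹∀ i, (𝔓 i).IsPrime› i).mem_of_pow_mem n h), u, hu, Or.inr hz⟩
      obtain ⟨q, hq, hle, hqd⟩ := Ideal.exists_le_prime_disjoint _ _ hdis
      have hqj : q ≤ 𝔓 j := fun z hz => by_contra fun hzj =>
        Set.disjoint_left.1 hqd hz (Submonoid.mem_sup_left (S := (𝔓 j).primeCompl) hzj)
      exact Set.disjoint_left.1 hqd ((h𝔓 j).2 ⟨hq, hle⟩ hqj hsj) (Submonoid.mem_sup_right (Submonoid.mem_powers s))
    choose a ha u hu hua using hj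
    cases nonempty_fintype ι
    refine ⟨∏ j ∈ Finset.univ.erase i, a j, fun h => ?_, ?_⟩
    · obtain ⟨j, hj, hj'⟩ := ((‹∀ i, (𝔓 i).IsPrime› i).prod_mem_iff).1 h
      exact ((ha j).resolve_right (Finset.ne_of_mem_erase hj)) hj'
    · set c := ∏ j ∈ Finset.univ.erase i, a j
      have hcm : c • m ∈ N Y := (memN _ _).2 fun j hjY => by
        have hne : j ≠ i := fun h => hi (h ▸ hjY)
        refine ⟨u j, hu j, ?_⟩
        rw [smul_smul]
        refine Submodule.smul_mem_smul ?_ trivial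
        exact Ideal.mem_of_dvd _ (mul_dvd_mul_left _ (Finset.dvd_prod_of_mem a (Finset.mem_erase.2 ⟨hne, Finset.mem_univ j⟩))) ((hua j).resolve_left hne)
      rw [Submodule.mkQ_apply, ← Submodule.Quotient.mk_smul, Submodule.Quotient.mk_eq_zero]
      have : c • (⟨π • m, hx.1⟩ : N Y) = π • (⟨c • m, hcm⟩ : N Y) := Subtype.ext (smul_comm c π m)
      erw [this]
      exact Submodule.smul_mem_smul (Ideal.mem_span_singleton_self π) trivial

end Groth.Agent.S18364
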