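import Groth.Statements.S18365
import Mathlib
import Groth.Prelude

set_option linter.all false

set_option autoImplicit false
universe u
open CAlg

universe v


namespace Groth.Agent.S18365

theorem mem_vanish {A : Type u} [CommRing A] {ι : Type} {V : Type v} [AddCommGroup V] [Module A V] (𝔓 : ι → Ideal A) [∀ i, (𝔓 i).IsPrime] (T : Set ι) (x : V) :
    x ∈ (⨅ i ∈ T, LinearMap.ker (LocalizedModule.mkLinearMap (𝔓 i).primeCompl V)) ↔
      ∀ i ∈ T, ∃ s : A, s ∉ 𝔓 i ∧ s • x = 0 := by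
  simp only [Submodule.mem_iInf, LinearMap.mem_ker]
  refine forall_congr' fun i => imp_congr_right fun _ => ?_
  rw [IsLocalizedModule.eq_zero_iff (S := (𝔓 i).primeCompl) (LocalizedModule.mkLinearMap (𝔓 i).primeCompl V)]
  exact ⟨fun ⟨s, hs⟩ => ⟨s.1, s.2, hs⟩, fun ⟨s, hs, h⟩ => ⟨⟨s, hs⟩, h⟩⟩

/-- Let A be a Noetherian ring, π an element of A, (𝔓_i)_{i ∈ ι} an injective finite family listing
exactly the minimal prime ideals over (π), and M a finitely generated A-module on which π acts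
injectively; put M̄ = M/πM. For T ⊆ ι let K(T) ⊆ M̄ be the submodule of elements whose image in the
localisation of M̄ at 𝔓_i vanishes for every i ∈ T, and N(T) ⊆ M its preimage; assume K(ι) = 0.
Suppose that M̄ decomposes at Y, i.e. K(Y) + K(Yᶜ) = M̄, and that for a subset Z the module
N(Y)/πN(Y) decomposes at Z, i.e. its submodule of elements vanishing at every 𝔓_i (i ∈ Z) and its
submodule of elements vanishing at every 𝔓_i (i ∉ Z) together span it. Then M̄ decomposes at Z: K(Z)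
+ K(Zᶜ) = M̄. (Geometric meaning: for a flat family of curves over a discrete valuation ring with
uniformizer π, I a torsion-free rank-one sheaf flat over the base, Y a subcurve of the special fibre
X(s) at which I(s) decomposes and I^Y = ker(I → I(s)_Y): if I^Y(s) decomposes at a subcurve Z then
so does I(s); decomposition of a sheaf at Z is the surjectivity of I(s) → I(s)_Z ⊕ I(s)_{Z^c},
checked on stalks. Reducedness of the special fibre and rank one are not used.) -/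
theorem result
    (A : Type u) [CommRing A] [IsNoetherianRing A] (π : A)
    (ι : Type) [Finite ι] (𝔓 : ι → Ideal A) [∀ i, (𝔓 i).IsPrime]
    (h𝔓 : ∀ i, 𝔓 i ∈ (Ideal.span {π}).minimalPrimes) (h𝔓inj : Function.Injective 𝔓)
    (h𝔓surj : ∀ 𝔔 ∈ (Ideal.span {π}).minimalPrimes, ∃ i, 𝔓 i = 𝔔)
    (M : Type u) [AddCommGroup M] [Module A M] [Module.Finite A M]
    (hπ : ∀ m : M, π • m = 0 → m = 0)
    (K : Set ι → Submodule A (M ⧸ Ideal.span {π} • (⊤ : Submodule A M)))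
    (hK : ∀ T : Set ι, K T = ⨅ i ∈ T, LinearMap.ker
      (LocalizedModule.mkLinearMap (𝔓 i).primeCompl (M ⧸ Ideal.span {π} • (⊤ : Submodule A M))))
    (htf : K Set.univ = ⊥)
    (N : Set ι → Submodule A M)
    (hN : ∀ T : Set ι, N T = (K T).comap (Submodule.mkQ (Ideal.span {π} • (⊤ : Submodule A M))))
    (Y Z : Set ι) (hY : K Y ⊔ K Yᶜ = ⊤)
    (K' : Set ι → Submodule A (↥(N Y) ⧸ Ideal.span {π} • (⊤ : Submodule A ↥(N Y))))
    (hK' : ∀ T : Set ι, K' T = ⨅ i ∈ T, LinearMap.ker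
      (LocalizedModule.mkLinearMap (𝔓 i).primeCompl (↥(N Y) ⧸ Ideal.span {π} • (⊤ : Submodule A ↥(N Y)))))
    (hZ : K' Z ⊔ K' Zᶜ = ⊤) :
    K Z ⊔ K Zᶜ = ⊤ := by
  classical
  let P := Ideal.span {π} • (⊤ : Submodule A M)
  let q := Submodule.mkQ P
  have memK : ∀ (T : Set ι) (x : M), q x ∈ K T ↔ ∀ i ∈ T, ∃ s, s ∉ 𝔓 i ∧ s • x ∈ P := by
    intro T x
    rw [hK, mem_vanish]
    simp only [q, Submodule.mkQ_apply, ← Submodule.Quotient.mk_smul, Submodule.Quotient.mk_eq_zero]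
  have hsplit : ∀ x : ↥(N Y), ∃ c d : ↥(N Y), x = c + d ∧
      (∀ i ∈ Z, ∃ s, s ∉ 𝔓 i ∧ ∃ n : ↥(N Y), s • (c : M) = π • (n : M)) ∧
      (∀ i ∈ Zᶜ, ∃ s, s ∉ 𝔓 i ∧ ∃ n : ↥(N Y), s • (d : M) = π • (n : M)) := by
    intro x
    obtain ⟨c', hc', d', hd', hcd⟩ := Submodule.mem_sup.1 (hZ ▸ Submodule.mem_top : Submodule.mkQ _ x ∈ K' Z ⊔ K' Zᶜ)
    obtain ⟨c, rfl⟩ := Submodule.mkQ_surjective _ c'
    have hd : d' = Submodule.mkQ _ (x - c) := by rw [map_sub, eq_sub_iff_add_eq, add_comm, hcd]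
    subst hd
    have key : ∀ (T : Set ι) (y : ↥(N Y)), Submodule.mkQ _ y ∈ K' T → ∀ i ∈ T, ∃ s, s ∉ 𝔓 i ∧ ∃ n : ↥(N Y), s • (y : M) = π • (n : M) := by
      intro T y hy i hi
      rw [hK', mem_vanish] at hy
      obtain ⟨s, hs, h⟩ := hy i hi
      rw [Submodule.mkQ_apply, ← Submodule.Quotient.mk_smul, Submodule.Quotient.mk_eq_zero, Submodule.ideal_span_singleton_smul] at h
      obtain ⟨n, -, hn⟩ := h
      exact ⟨s, hs, n, congrArg Subtype.val hn.symm⟩
    exact ⟨c, x - c, (add_sub_cancel c x).symm, key _ _ hc', key _ _ hd'⟩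
  have hPmem : ∀ m : M, π • m ∈ P := fun m => Submodule.smul_mem_smul (Ideal.mem_span_singleton_self π) trivial
  have hNmem : ∀ (T : Set ι) (x : M), x ∈ N T ↔ q x ∈ K T := fun T x => by rw [hN]; rfl
  rw [eq_top_iff]
  rintro z -
  obtain ⟨a', ha', b', hb', rfl⟩ := Submodule.mem_sup.1 (hY ▸ Submodule.mem_top : z ∈ K Y ⊔ K Yᶜ)
  refine Submodule.add_mem _ ?_ ?_
  · obtain ⟨a, rfl⟩ := Submodule.mkQ_surjective P a'
    obtain ⟨c, d, hcd, hc, hd⟩ := hsplit ⟨a, (hNmem Y a).2 ha'⟩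
    have : a = (c : M) + d := congrArg Subtype.val hcd
    rw [this, map_add]
    exact Submodule.add_mem_sup ((memK Z _).2 fun i hi => (hc i hi).imp fun s h => ⟨h.1, by obtain ⟨n, hn⟩ := h.2; rw [hn]; exact hPmem _⟩)
      ((memK Zᶜ _).2 fun i hi => (hd i hi).imp fun s h => ⟨h.1, by obtain ⟨n, hn⟩ := h.2; rw [hn]; exact hPmem _⟩)
  · obtain ⟨b, rfl⟩ := Submodule.mkQ_surjective P b'
    have hqP : ∀ x ∈ P, q x = 0 := fun x hx => (Submodule.Quotient.mk_eq_zero P).2 hx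
    have hπb : π • b ∈ N Y := (hNmem Y _).2 (by rw [hqP _ (hPmem b)]; exact Submodule.zero_mem _)
    obtain ⟨c, d, hcd, hc, hd⟩ := hsplit ⟨π • b, hπb⟩
    have hcd' : π • b = (c : M) + d := congrArg Subtype.val hcd
    have hc0 : q (c : M) = 0 := by
      have h1 : q (c : M) = - q (d : M) := by
        rw [eq_neg_iff_add_eq_zero, ← map_add, ← hcd', hqP _ (hPmem b)]
      have : q (c : M) ∈ K Set.univ := by
        rw [memK]
        intro i _
        by_cases hi : i ∈ Z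
        · obtain ⟨s, hs, n, hn⟩ := hc i hi; exact ⟨s, hs, hn ▸ hPmem _⟩
        · obtain ⟨s, hs, n, hn⟩ := hd i hi
          refine ⟨s, hs, (Submodule.Quotient.mk_eq_zero P).1 ?_⟩
          show q (s • (c : M)) = 0
          rw [map_smul, h1, smul_neg, ← map_smul, hqP _ (hn ▸ hPmem _), neg_zero]
      rwa [htf] at this
    have hcP : (c : M) ∈ P := (Submodule.Quotient.mk_eq_zero P).1 hc0
    rw [show (P : Submodule A M) = Ideal.span {π} • ⊤ from rfl, Submodule.ideal_span_singleton_smul] at hcP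
    obtain ⟨c₁, -, hc₁⟩ := hcP
    have hc₁' : π • c₁ = (c : M) := hc₁
    have hd₁ : π • (b - c₁) = (d : M) := by rw [smul_sub, hc₁', hcd']; abel
    have cancel : ∀ (s : A) (x y : M), s • (π • x) = π • y → s • x = y := fun s x y h =>
      sub_eq_zero.1 (hπ _ (by rw [smul_sub, smul_comm, h, sub_self]))
    have hu : ∀ (W : Set ι) (y : M), (∀ i ∈ W, ∃ s, s ∉ 𝔓 i ∧ s • y ∈ N Y) →
        ∀ i ∈ W, i ∈ Y → ∃ t, t ∉ 𝔓 i ∧ t • y ∈ P := by
      intro W y h i hi hiY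
      obtain ⟨s, hs, hsy⟩ := h i hi
      obtain ⟨t, ht, hty⟩ := (memK Y _).1 ((hNmem Y _).1 hsy) i hiY
      exact ⟨t * s, fun hh => (((‹∀ i, (𝔓 i).IsPrime› i).mem_or_mem hh)).elim ht hs, by rwa [mul_smul]⟩
    have hc₂ := hu Z c₁ fun i hi => by
      obtain ⟨s, hs, n, hn⟩ := hc i hi
      exact ⟨s, hs, (cancel s c₁ n (by rw [hc₁', hn])).symm ▸ n.2⟩
    have hd₂ := hu Zᶜ (b - c₁) fun i hi => by
      obtain ⟨s, hs, n, hn⟩ := hd i hi
      exact ⟨s, hs, (cancel s _ n (by rw [hd₁, hn])).symm ▸ n.2⟩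
    have split2 : ∀ (W : Set ι) (y : M), (∀ i ∈ W, i ∈ Y → ∃ t, t ∉ 𝔓 i ∧ t • y ∈ P) →
        ∃ v : M, q v ∈ K Yᶜ ∧ q v ∈ K W ∧ q (y - v) ∈ K Y := by
      intro W y h
      obtain ⟨u', hu', v', hv', huv⟩ := Submodule.mem_sup.1 (hY ▸ Submodule.mem_top : q y ∈ K Y ⊔ K Yᶜ)
      obtain ⟨v, rfl⟩ := Submodule.mkQ_surjective P v'
      have huv' : u' = q (y - v) := by rw [map_sub, eq_sub_iff_add_eq]; exact huv
      subst huv'
      refine ⟨v, hv', (memK W v).2 fun i hi => ?_, hu'⟩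
      by_cases hiY : i ∈ Y
      · obtain ⟨t, ht, hty⟩ := h i hi hiY
        obtain ⟨t', ht', hty'⟩ := (memK Y _).1 hu' i hiY
        refine ⟨t * t', fun hh => (((‹∀ i, (𝔓 i).IsPrime› i).mem_or_mem hh)).elim ht ht', ?_⟩
        have : (t * t') • v = t' • (t • y) - t • (t' • (y - v)) := by
          simp only [smul_smul, smul_sub, mul_comm t' t]; abel
        rw [this]; exact P.sub_mem (P.smul_mem _ hty) (P.smul_mem _ hty')
      · exact (memK Yᶜ v).1 hv' i hiY
    obtain ⟨v, hv, hvZ, hcv⟩ := split2 Z c₁ hc₂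
    obtain ⟨v', hv₂, hvZ', hdv⟩ := split2 Zᶜ (b - c₁) hd₂
    have hz : q (b - v - v') ∈ K Set.univ := by
      rw [memK]
      intro i _
      by_cases hi : i ∈ Y
      · have : q (b - v - v') ∈ K Y := by
          have e : b - v - v' = (c₁ - v) + ((b - c₁) - v') := by abel
          rw [e, map_add]; exact Submodule.add_mem _ hcv hdv
        exact (memK Y _).1 this i hi
      · have : q (b - v - v') ∈ K Yᶜ := by
          rw [map_sub, map_sub]; exact Submodule.sub_mem _ (Submodule.sub_mem _ hb' hv) hv₂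
        exact (memK Yᶜ _).1 this i hi
    rw [htf, Submodule.mem_bot, map_sub, map_sub, sub_sub, sub_eq_zero] at hz
    show q b ∈ _
    rw [hz]
    exact Submodule.add_mem_sup hvZ hvZ'

end Groth.Agent.S18365
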