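import Groth.Statements.S18366
import Groth.Agent.AlgGrpLib.PointsDense

set_option autoImplicit false
universe u
open CategoryTheory CategoryTheory.Limits AlgebraicGeometry
open Variety
open Groth.Agent
set_option backward.isDefEq.respectTransparency.types false

namespace Groth.Agent.S18366

/-- Let k be a separably closed field and X a non-empty k-scheme of finite type which is geometrically
reduced. Then X has a k-rational point, i.e. the structure morphism admits a section. (Non-emptiness
is part of the hypotheses: the empty scheme is geometrically reduced of finite type and has no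
point. The published statement does not assume X non-empty; this row does, since the empty scheme
has no rational point.) -/
theorem result (k : Type u) [Field k] [IsSepClosed k]
    {X : Scheme.{u}} (f : X ⟶ Spec (CommRingCat.of k)) [LocallyOfFiniteType f] [QuasiCompact f] [GeometricallyReduced f]
    [Nonempty X] :
    ∃ s : Spec (CommRingCat.of k) ⟶ X, s ≫ f = 𝟙 (Spec (CommRingCat.of k)) := by
  obtain ⟨x⟩ := ‹Nonempty X›
  obtain ⟨_, ⟨W, hW, rfl⟩, hxW, -⟩ :=
    X.isBasis_affineOpens.exists_subset_of_mem_open (Set.mem_univ x) isOpen_univ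
  haveI : Nonempty W := ⟨⟨x, hxW⟩⟩
  let A := Γ(X, W)
  let φ : k →+* A := ((Scheme.ΓSpecIso (CommRingCat.of k)).inv ≫ f.appLE ⊤ W le_top).hom
  letI algkA : Algebra k A := φ.toAlgebra
  haveI hft : Algebra.FiniteType k A := by
    rw [← RingHom.finiteType_algebraMap]
    exact RingHom.finiteType_respectsIso.2 (f.appLE ⊤ W le_top).hom
      (Scheme.ΓSpecIso (CommRingCat.of k)).commRingCatIsoToRingEquiv.symm
      (HasRingHomProperty.appLE @LocallyOfFiniteType f ‹_› ⟨⊤, isAffineOpen_top _⟩ ⟨W, hW⟩ le_top)
  have e2 : hW.fromSpec ≫ f = Spec.map (CommRingCat.ofHom φ) := by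
    rw [show CommRingCat.ofHom φ = (Scheme.ΓSpecIso (CommRingCat.of k)).inv ≫ f.appLE ⊤ W le_top from rfl,
      Spec.map_comp, ← IsAffineOpen.SpecMap_appLE_fromSpec f (isAffineOpen_top _) hW le_top,
      IsAffineOpen.fromSpec_top, Scheme.isoSpec_Spec_inv]
  haveI := AlgGrpLib.PointsDense.isGeometricallyReduced_of_open k f A hW.fromSpec e2
  haveI : Nontrivial A := Scheme.component_nontrivial X W
  obtain ⟨ψ, -⟩ := NeronLib.SepPoints.exists_algHom_ne_zero k k A 1 one_ne_zero
  refine ⟨Spec.map (CommRingCat.ofHom ψ.toRingHom) ≫ hW.fromSpec, ?_⟩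
  rw [Category.assoc, e2, ← Spec.map_comp, ← Spec.map_id]
  congr 1
  ext c
  exact ψ.commutes c

end Groth.Agent.S18366
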