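import Groth.Statements.S18367
import Groth.Agent.CommAlg6.DepthAcyclic
import Groth.Agent.CommAlg6.NITComplex

set_option autoImplicit false
universe u
open CategoryTheory CategoryTheory.Limits
open LocAlg

namespace Groth.Agent.S18367

/-- Let R be a Cohen–Macaulay local ring of Krull dimension g and K = (K^0 → K^1 → ⋯) a bounded cochain
complex of finitely generated free R-modules (K^i = 0 for i > N) such that every cohomology module
H^i(K) has finite length. Then H^i(K) = 0 for all i < g. -/
theorem result (R : Type u) [CommRing R]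
    [LocCoh.IsCohenMacaulayLocalRing R] (g : ℕ) (hg : ringKrullDim R = g) (K : CochainComplex (ModuleCat.{u} R) ℕ)
    (N : ℕ) (hbd : ∀ i, N < i → IsZero (K.X i)) (hfree : ∀ i, Module.Free R (K.X i) ∧ Module.Finite R (K.X i))
    (hfl : ∀ i, IsFiniteLength R (K.homology i)) (i : ℕ) (hi : i < g) :
    IsZero (K.homology i) := by
  classical
  open CommAlg6 in
  haveI := fun i => (hfree i).1
  haveI := fun i => (hfree i).2
  -- reindex homologically: position `j` is degree `g - j`, and zero above `g`
  let S : ∀ j, Submodule R (K.X (g - j)) := fun j => if j ≤ g then ⊤ else ⊥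
  have hS : ∀ j, j ≤ g → S j = ⊤ := fun j h => if_pos h
  have hS' : ∀ j, g < j → S j = ⊥ := fun j h => if_neg (by omega)
  haveI : ∀ j, Module.Free R (S j) ∧ Module.Finite R (S j) := fun j => by
    by_cases h : j ≤ g
    · exact ⟨Module.Free.of_equiv (LinearEquiv.ofTop _ (hS j h)).symm, Module.Finite.equiv (LinearEquiv.ofTop _ (hS j h)).symm⟩
    · haveI : Subsingleton (S j) := Submodule.subsingleton_iff_eq_bot.2 (hS' j (by omega))
      exact ⟨Module.Free.of_subsingleton R _, inferInstance⟩
  haveI := fun j => (this j).1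
  haveI : ∀ j, Module.Finite R (S j) := fun j => by
    by_cases h : j ≤ g
    · exact Module.Finite.equiv (LinearEquiv.ofTop _ (hS j h)).symm
    · haveI : Subsingleton (S j) := Submodule.subsingleton_iff_eq_bot.2 (hS' j (by omega))
      infer_instance
  obtain ⟨n, D, e, hn, hD⟩ := NIT.exists_matrices (fun j : ℕ => ↥(S j)) fun j =>
    ((K.d (g - (j + 1)) (g - j)).hom.comp (S (j + 1)).subtype).codRestrict (S j) fun z => by
      by_cases h : j ≤ g
      · rw [hS j h]; exact Submodule.mem_top
      · rw [LinearMap.comp_apply, Submodule.subtype_apply,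
          (Submodule.mem_bot R).1 ((hS' (j + 1) (by omega)).le z.2), map_zero]
        exact zero_mem _
  have hdepth : (g : ℕ∞) ≤ LocCoh.depth R R := by
    have h := LocCoh.IsCohenMacaulayLocalRing.supportDim_eq_depth (R := R)
    rw [Module.supportDim_self_eq_ringKrullDim, hg] at h
    exact (WithBot.coe_inj.1 h).le
  have hDD : ∀ j, D j * D (j + 1) = 0 := fun j => Matrix.ext_iff_mulVec.2 fun w => by
    obtain ⟨w, rfl⟩ := (e (j + 1 + 1)).surjective w
    rw [← Matrix.mulVec_mulVec, hD, hD, Matrix.zero_mulVec, LinearEquiv.map_eq_zero_iff]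
    exact Subtype.ext (LinearMap.congr_fun (congrArg ModuleCat.Hom.hom (K.d_comp_d _ _ _)) w.1)
  have hz : ∀ j, g < j → n j = 0 := fun j hj => by
    haveI : Subsingleton (S j) := Submodule.subsingleton_iff_eq_bot.2 (hS' j hj)
    rw [hn]; exact Module.finrank_zero_of_subsingleton
  -- position `j + 1`: boundaries
  have hrange : ∀ j, j + 1 ≤ g → ∀ (y : S (j + 1)),
      e (j + 1) y ∈ LinearMap.range (D (j + 1)).mulVecLin ↔
        (y : K.X (g - (j + 1))) ∈ LinearMap.range (K.d (g - (j + 1) - 1) (g - (j + 1))).hom := by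
    intro j hj y
    rcases le_or_gt (j + 1 + 1) g with h2 | h2
    · constructor
      · rintro ⟨w, hw⟩
        obtain ⟨w, rfl⟩ := (e (j + 1 + 1)).surjective w
        have h3 := congrArg Subtype.val ((e (j + 1)).injective ((hD (j + 1) w).symm.trans hw))
        rw [show g - (j + 1) - 1 = g - (j + 1 + 1) by omega]
        exact ⟨w.1, h3⟩
      · rw [show g - (j + 1) - 1 = g - (j + 1 + 1) by omega]
        rintro ⟨v, hv⟩
        refine ⟨e (j + 1 + 1) ⟨v, by rw [hS _ h2]; exact Submodule.mem_top⟩, (hD _ _).trans (congrArg _ ?_)⟩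
        exact Subtype.ext hv
    · haveI : IsEmpty (Fin (n (j + 1 + 1))) := by rw [hz _ (by omega)]; infer_instance
      rw [show K.d (g - (j + 1) - 1) (g - (j + 1)) = 0 from K.shape _ _ (by simp; omega), ModuleCat.hom_zero,
        LinearMap.range_zero, Submodule.mem_bot]
      constructor
      · rintro ⟨w, hw⟩
        rw [Subsingleton.elim w 0, map_zero, eq_comm, LinearEquiv.map_eq_zero_iff] at hw
        rw [hw]; rfl
      · intro h
        rw [show y = 0 from Subtype.ext h, map_zero]
        exact zero_mem _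
  have hprev : ∀ m : ℕ, (ComplexShape.up ℕ).prev m = m - 1 := fun m => by
    rcases m with - | m <;> simp
  have hnext : ∀ j, j + 1 ≤ g → (ComplexShape.up ℕ).next (g - (j + 1)) = g - j := fun j hj => by
    rw [CochainComplex.next]; omega
  have hsc : ∀ j, j + 1 ≤ g → IsFiniteLength R (K.sc' (g - (j + 1) - 1) (g - (j + 1)) (g - j)).homology := fun j hj => by
    exact (hfl (g - (j + 1))).of_surjective
      (f := (ShortComplex.homologyMapIso (K.isoSc' (g - (j + 1) - 1) (g - (j + 1)) (g - j) (hprev _) (hnext j hj))).toLinearEquiv.toLinearMap)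
      (LinearEquiv.surjective _)
  have hex := CommAlg6.DepthAcyclic.exact_of_killed hdepth hz hDD (fun Q hQ hne j y hy => by
    by_cases hj : j + 1 ≤ g
    · obtain ⟨y, rfl⟩ := (e (j + 1)).surjective y
      rw [hD, LinearEquiv.map_eq_zero_iff] at hy
      obtain ⟨s, hs, hx⟩ := CommAlg6.NIT.moduleCat_exists_smul_mem_range _ (hsc j hj) Q hQ hne y.1 (congrArg Subtype.val hy)
      exact ⟨s, hs, by rw [← map_smul, hrange j hj]; exact hx⟩
    · haveI : IsEmpty (Fin (n (j + 1))) := by rw [hz _ (by omega)]; infer_instance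
      exact ⟨1, fun h => hQ.ne_top ((Ideal.eq_top_iff_one Q).2 h), by rw [Subsingleton.elim ((1 : R) • y) 0]; exact zero_mem _⟩)
  obtain ⟨b, hb⟩ : ∃ b, i = g - (b + 1) ∧ b + 1 ≤ g := ⟨g - i - 1, by omega, by omega⟩
  obtain ⟨rfl, hb⟩ := hb
  rw [← HomologicalComplex.exactAt_iff_isZero_homology,
    K.exactAt_iff' (g - (b + 1) - 1) (g - (b + 1)) (g - b)
      (hprev _) (hnext b hb),
    ShortComplex.moduleCat_exact_iff]
  intro z hzc
  let y : S (b + 1) := ⟨z, by rw [hS _ hb]; exact Submodule.mem_top⟩
  have hy : Matrix.mulVec (D b) (e (b + 1) y) = 0 := by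
    rw [hD, LinearEquiv.map_eq_zero_iff]
    exact Subtype.ext hzc
  exact (hrange b hb y).1 (hex b _ hy)

end Groth.Agent.S18367
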