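import Groth.Statements.S18368
import Groth.Agent.AbSchLib.RigidityOver
import Groth.Agent.AbSchLib.Rigidity
open Groth.Agent.AbSchLib

set_option autoImplicit false
universe u
open CategoryTheory CategoryTheory.Limits MonoidalCategory CartesianMonoidalCategory AlgebraicGeometry
open AbVar

namespace Groth.Agent.S18368

/-- Let k be a field, X and Y geometrically integral k-schemes of finite type with X proper, Z a
separated k-scheme and f : X ×_k Y → Z a k-morphism (products in the cartesian monoidal category of
k-schemes). If for some algebraically closed field K over k there are points y₀ : Spec K → Y and z₀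
: Spec K → Z over k such that f restricted to X ×_k Spec K along y₀ is the constant map z₀, then f
factors uniquely through the second projection: there is exactly one g : Y → Z over k with f = pr₂ ≫
g. (The target Z is not assumed to be of finite type over k.) -/
theorem result (k : Type u) [Field k]
    (X Y Z : Over (Spec (CommRingCat.of k)))
    [IsProper X.hom] [GeometricallyIntegral X.hom]
    [LocallyOfFiniteType Y.hom] [QuasiCompact Y.hom] [GeometricallyIntegral Y.hom]
    [IsSeparated Z.hom] (f : X ⊗ Y ⟶ Z)
    (K : Type u) [Field K] [Algebra k K] [IsAlgClosed K]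
    (y₀ : (Over.mk (Spec.map (CommRingCat.ofHom (algebraMap k K))) : Over (Spec (CommRingCat.of k))) ⟶ Y)
    (z₀ : (Over.mk (Spec.map (CommRingCat.ofHom (algebraMap k K))) : Over (Spec (CommRingCat.of k))) ⟶ Z)
    (h : (X ◁ y₀) ≫ f = snd X _ ≫ z₀) :
    ∃! g : Y ⟶ Z, f = snd X Y ≫ g := by
  have := geometricallyConnected_of_irreducible X.hom
  have := geometricallyConnected_of_irreducible Y.hom
  let g : (X ⊗ Y).left ⟶ Y.left := pullback.snd X.hom Y.hom
  have : IsLocallyNoetherian Y.left := LocallyOfFiniteType.isLocallyNoetherian Y.hom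
  have : IsLocallyNoetherian (X ⊗ Y).left := LocallyOfFiniteType.isLocallyNoetherian g
  have hw : f.left ≫ Z.hom = g ≫ Y.hom := by
    rw [Over.w f]
    exact pullback.condition
  obtain ⟨W, hW, hcl, kW, hk⟩ := exists_factor_of_local Y.hom Z.hom g f.left hw fun t ht =>
    exists_opens_eq_comp_section (pullback.snd g g) (pullback.diagonal g) (pullback.diagonal_snd g) _ t ht
  let pt : ↥(Spec (CommRingCat.of K)) := IsLocalRing.closedPoint K
  have hy : y₀.left pt ∈ collapsedLocus g f.left := by
    refine mem_collapsedLocus_of_forall _ _ _ (z₀.left pt) fun w hw' => ?_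
    obtain ⟨v, hv1, hv2⟩ := Scheme.Pullback.exists_preimage_pullback (f := g) (g := y₀.left) w pt hw'
    let P : Over (Spec (CommRingCat.of k)) := Over.mk (pullback.fst g y₀.left ≫ (X ⊗ Y).hom)
    let i : P ⟶ X ⊗ Y := Over.homMk (pullback.fst g y₀.left)
    have hg : g ≫ Y.hom = (X ⊗ Y).hom := Over.w (snd X Y)
    let sK : P ⟶ Over.mk (Spec.map (CommRingCat.ofHom (algebraMap k K))) :=
      Over.homMk (pullback.snd g y₀.left) (by
        show pullback.snd g y₀.left ≫ Spec.map _ = _
        refine (congrArg (pullback.snd g y₀.left ≫ ·) (Over.w y₀).symm).trans ?_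
        show _ = pullback.fst g y₀.left ≫ (X ⊗ Y).hom
        rw [← hg, pullback.condition_assoc])
    have hi : lift (i ≫ fst X Y) sK ≫ (X ◁ y₀) = i := by
      apply CartesianMonoidalCategory.hom_ext
      · simp
      · rw [Category.assoc, whiskerLeft_snd, lift_snd_assoc]
        ext
        exact pullback.condition.symm
    have h1 : i ≫ f = sK ≫ z₀ := by rw [← hi, Category.assoc, h, lift_snd_assoc]
    have h2 := congrArg (fun φ : P ⟶ Z => φ.left v) h1
    simp only [Over.comp_left, Scheme.Hom.comp_apply, i, sK, Over.homMk_left] at h2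
    rw [hv1, hv2] at h2
    exact h2
  have : Nonempty Y.left := ⟨y₀.left pt⟩
  have : ConnectedSpace Y.left := GeometricallyConnected.connectedSpace_of_subsingleton Y.hom
  have htop : W = ⊤ := TopologicalSpace.Opens.ext (IsClopen.eq_univ ⟨hcl, W.isOpen⟩ ⟨_, hW.ge hy⟩)
  subst htop
  have hfac : f.left = g ≫ Y.left.topIso.inv ≫ kW := by
    have h3 : (g ∣_ (⊤ : Y.left.Opens)) = (X ⊗ Y).left.topIso.hom ≫ g ≫ Y.left.topIso.inv := by
      refine Eq.trans ?_ (Category.assoc _ _ _)
      exact (Iso.eq_comp_inv _).2 (morphismRestrict_ι g ⊤)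
    rw [← cancel_epi (X ⊗ Y).left.topIso.hom]
    refine hk.trans ?_
    rw [h3]
    exact (Category.assoc _ _ _).trans (congrArg _ (Category.assoc _ _ _))
  refine ⟨Over.homMk (Y.left.topIso.inv ≫ kW) ?_, ?_, fun g' hg' => ?_⟩
  · rw [← cancel_epi g, ← Category.assoc, ← hfac, hw]
  · ext
    exact hfac
  · ext
    rw [← cancel_epi g]
    refine Eq.trans ?_ hfac
    rw [hg']
    rfl

end Groth.Agent.S18368
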