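import Groth.Statements.S4381
import Groth.Agent.AmpleLib.Local

set_option autoImplicit false
universe u
open CategoryTheory CategoryTheory.Limits AlgebraicGeometry
open EGA2

open Groth.Agent.AmpleLib Groth.Agent.PicLib Groth.Agent.Coherent

namespace Groth.Agent.S4381

/-- Let Y be an affine scheme, f : X → Y a quasi-compact morphism and L an O_X-module. Then L is ample
relative to f if and only if L is an ample O_X-module. -/
theorem result {X Y : Scheme.{u}} [IsAffine Y] (f : X ⟶ Y) [QuasiCompact f] (L : X.Modules) :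
    RelAmple.IsRelAmple f L ↔ CohB1.IsAmple L := by
  have hid : ∀ h : CohB1.IsAmple L, ∀ V : Y.affineOpens,
      CohB1.IsAmple ((Scheme.Modules.pullback (f ⁻¹ᵁ V.1).ι).obj L) := fun h V ↦ by
    have : CompactSpace (f ⁻¹ᵁ V.1 : Scheme.{u}) :=
      isCompact_iff_compactSpace.1 (QuasiCompact.isCompact_preimage _ V.1.2 V.2.isCompact)
    exact isAmple_pullback_of_isOpenImmersion _ h
  rw [isRelAmple_iff]
  refine ⟨fun h ↦ ?_, fun h ↦ ⟨inferInstance, hid h⟩⟩
  have h1 := h.2 ⟨⊤, isAffineOpen_top Y⟩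
  let ι := (f ⁻¹ᵁ (⊤ : Y.Opens)).ι
  have : IsIso ι := X.topIso.isIso_hom
  have h2 := (isAmple_pullback_comp_iff (inv ι) ι).1 (isAmple_pullback_of_isAffineHom (inv ι) h1)
  exact isAmple_of_iso ((Scheme.Modules.pullbackId X).app L) (isAmple_pullback_congr (IsIso.inv_hom_id ι) h2)

end Groth.Agent.S4381
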