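import Groth.Statements.S18369
import Groth.Agent.AbCubeLib.MulBy
import Groth.Agent.AmpleLib.Generated
import Groth.Agent.AbVarLib.GeomIntegralSmooth
import Groth.Agent.CubeLib.FourPoint
import Groth.Agent.S3577
import Groth.Agent.S4381
-- import your own Groth.Agent.* helpers here

set_option autoImplicit false
universe u
open CategoryTheory CategoryTheory.Limits MonoidalCategory CartesianMonoidalCategory MonObj GrpObj AlgebraicGeometry
open AbVar

namespace Groth.Agent.S18369

/-- Let k be a field, A an abelian variety over k (a proper smooth k-group scheme with geometrically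
connected fibres) with group law m : A × A → A and projections p₁, p₂, L an ample invertible
O_A-module, and N an invertible O_A-module whose class lies in the dual abelian variety, expressed
as m^*N ≅ p₁^*N ⊗ p₂^*N. Then L ⊗ N is again ample; so ampleness of an invertible module on A
depends only on its class modulo Pic⁰. -/
theorem result (k : Type u) [Field k]
    (A : Over (Spec (CommRingCat.of k))) [GrpObj A] [IsProper A.hom] [Smooth A.hom] [GeometricallyConnected A.hom]
    (L N : A.left.Modules) (hL : CohB1.IsAmple L) (hN : PicF.IsInvertible N)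
    (hN0 : Nonempty ((Scheme.Modules.pullback μ[A].left).obj N ≅
      CohB1.tensorMod ((Scheme.Modules.pullback (fst A A).left).obj N) ((Scheme.Modules.pullback (snd A A).left).obj N))) :
    CohB1.IsAmple (CohB1.tensorMod L N) := by
  haveI : GeometricallyIntegral A.hom := Groth.Agent.AbVarLib.geometricallyIntegral_of_smooth A.hom
  have : CompactSpace A.left := QuasiCompact.compactSpace_of_compactSpace A.hom
  have : IsLocallyNoetherian A.left := LocallyOfFiniteType.isLocallyNoetherian A.hom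
  have : IsNoetherian A.left := { }
  have : IsIntegral A.left := GeometricallyIntegral.isIntegral_of_subsingleton A.hom
  have hinvt := hL.1
  obtain ⟨m₀, hm₀, hm⟩ := Groth.Agent.AmpleLib.eventually_ample_and_generated hL hN
  let a := Groth.Agent.PicLib.PicM.of hinvt
  let b := Groth.Agent.PicLib.PicM.of hN
  have hμ : μ[A] = fst A A * snd A A := by rw [Hom.mul_def, lift_fst_snd, Category.id_comp]
  have hadd : ∀ {V : Over (Spec (CommRingCat.of k))} (f g : V ⟶ A), Groth.Agent.AbCubeLib.pb (f * g) b =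
      Groth.Agent.AbCubeLib.pb f b * Groth.Agent.AbCubeLib.pb g b := by
    intro V f g
    have h1 : Groth.Agent.AbCubeLib.pb (fst A A * snd A A) b =
        Groth.Agent.AbCubeLib.pb (fst A A) b * Groth.Agent.AbCubeLib.pb (snd A A) b := by
      rw [← hμ]
      show Groth.Agent.PicLib.PicM.pull μ[A].left _ =
        Groth.Agent.PicLib.PicM.pull (fst A A).left _ * Groth.Agent.PicLib.PicM.pull (snd A A).left _
      rw [Groth.Agent.PicLib.PicM.pull_of, Groth.Agent.PicLib.PicM.pull_of, Groth.Agent.PicLib.PicM.pull_of,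
        Groth.Agent.PicLib.PicM.of_mul, Groth.Agent.PicLib.PicM.of_eq_iff]
      exact hN0
    have h2 := congrArg (Groth.Agent.AbCubeLib.pb (lift f g)) h1
    rw [Groth.Agent.AbCubeLib.pb_pb, comp_mul, lift_fst, lift_snd] at h2
    rw [h2]
    show Groth.Agent.PicLib.PicM.pull _ (_ * _) = _
    rw [map_mul]
    show Groth.Agent.AbCubeLib.pb (lift f g) (Groth.Agent.AbCubeLib.pb _ b) *
      Groth.Agent.AbCubeLib.pb (lift f g) (Groth.Agent.AbCubeLib.pb _ b) = _
    rw [Groth.Agent.AbCubeLib.pb_pb, Groth.Agent.AbCubeLib.pb_pb, lift_fst, lift_snd]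
  have hpowN : ∀ n : ℕ, Groth.Agent.AbCubeLib.pb (𝟙 A ^ n) b = b ^ n := by
    intro n
    induction n with
    | zero => rw [pow_zero, pow_zero, Groth.Agent.AbCubeLib.pb_one]
    | succ n ih => rw [pow_succ, pow_succ, hadd, ih, Groth.Agent.AbCubeLib.pb_id]
  let n := 2 * m₀ + 1
  let g := (𝟙 A ^ n).left
  have hn : 0 < n := Nat.succ_pos _
  have : IsFinite g := Groth.Agent.AbCubeLib.isFinite_pow hn
  have : Surjective g := Groth.Agent.AbCubeLib.surjective_pow hn
  have hLN := Groth.Agent.AmpleLib.isInvertible_tensorMod hinvt hN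
  rw [← Groth.Agent.S4381.result A.hom (CohB1.tensorMod L N)]
  refine (Groth.Agent.S3577.result A.hom g (fun x => Or.inl ⟨inferInstance, ?_⟩) _ hLN).2 ?_
  · haveI := Groth.Agent.CubeLib.ufd_of_smooth (X := A) x
    infer_instance
  rw [Groth.Agent.S4381.result (g ≫ A.hom)]
  have : IsIso ((𝟙 A)⁻¹).left := inferInstanceAs (IsIso ((Over.forget _).map (ι[A])))
  have hinv := Groth.Agent.AmpleLib.isAmple_pullback_of_isEmbedding ((𝟙 A)⁻¹).left
    ((𝟙 A)⁻¹).left.homeomorph.isEmbedding hL
  have h1 := hm (m₀ + 1) (Nat.le_succ _)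
  have h2 := (Groth.Agent.AmpleLib.isAmple_pow_iff h1.1.1 n hn).2 h1.1
  have hbpos : 0 < n.choose 2 := Nat.choose_pos (by show 2 ≤ 2 * m₀ + 1; omega)
  have h3 := (Groth.Agent.AmpleLib.isAmple_pow_iff hinv.1 (n.choose 2) hbpos).2 hinv
  have h4 := Groth.Agent.AmpleLib.isAmple_tensorMod h2 h3
  obtain ⟨e⟩ := (Groth.Agent.PicLib.PicM.of_eq_iff h4.1 (PicLoc.isInvertible_pullback g hLN)).1 (by
    rw [← Groth.Agent.PicLib.PicM.pull_of g hLN, ← Groth.Agent.PicLib.PicM.of_mul hinvt hN, map_mul,
      ← Groth.Agent.PicLib.PicM.of_mul h2.1 h3.1, Groth.Agent.PicLib.PicM.of_tensorPow h1.1.1,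
      Groth.Agent.PicLib.PicM.of_tensorPow hinv.1,
      ← Groth.Agent.PicLib.PicM.of_mul (Groth.Agent.AmpleLib.isInvertible_tensorPow hinvt (m₀ + 1)) hN,
      Groth.Agent.PicLib.PicM.of_tensorPow hinvt, ← Groth.Agent.PicLib.PicM.pull_of _ hinvt]
    show ((a ^ (m₀ + 1)) * b) ^ n * (Groth.Agent.AbCubeLib.pb (𝟙 A)⁻¹ a) ^ n.choose 2 =
      Groth.Agent.AbCubeLib.pb (𝟙 A ^ n) a * Groth.Agent.AbCubeLib.pb (𝟙 A ^ n) b
    rw [Groth.Agent.AbCubeLib.pb_pow, Groth.Agent.AbCubeLib.pb_id, hpowN, mul_pow, ← pow_mul,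
      show (n + 1).choose 2 = (m₀ + 1) * n by
        rw [Nat.choose_two_right, Nat.add_sub_cancel, show n + 1 = 2 * (m₀ + 1) by show 2 * m₀ + 1 + 1 = _; omega,
          _root_.mul_assoc, Nat.mul_div_cancel_left _ two_pos]]
    exact _root_.mul_right_comm _ _ _)
  exact Groth.Agent.AmpleLib.isAmple_of_iso e h4

end Groth.Agent.S18369
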