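import Groth.Statements.S1837
import Groth.Agent.GlueMax28.Main

set_option autoImplicit false
universe u
open TensorProduct
open CycAlg

namespace Groth.Agent.S1837

/-- Let A be Noetherian with pairwise distinct maximal ideals 𝔪₁, …, 𝔪_r, and for each i a ring map φ_i
from A_{𝔪_i} to B_i whose kernel and cokernel are killed by a power of 𝔪_i. Then there is an
A-algebra B whose base change to each A_{𝔪_i} is isomorphic to B_i and whose structure map has
kernel and cokernel killed by a power of 𝔪₁ ∩ … ∩ 𝔪_r; if every φ_i is finite (resp. injective,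
resp. surjective) B can be taken with the same property. -/
theorem result (A : Type u) [CommRing A] [IsNoetherianRing A] (r : ℕ) (m : Fin r → Ideal A) (hm : ∀ i, (m i).IsMaximal) (hinj : Function.Injective m) (B : Fin r → Type u) [∀ i, CommRing (B i)] [∀ i, Algebra (Localization.AtPrime (m i)) (B i)] (hker : ∀ i, ∃ n : ℕ, ∀ x ∈ RingHom.ker (algebraMap (Localization.AtPrime (m i)) (B i)), ∀ y ∈ Ideal.map (algebraMap A (Localization.AtPrime (m i))) (m i) ^ n, y * x = 0) (hcoker : ∀ i, ∃ n : ℕ, ∀ y ∈ Ideal.map (algebraMap A (Localization.AtPrime (m i))) (m i) ^ n, ∀ b : B i, y • b ∈ (algebraMap (Localization.AtPrime (m i)) (B i)).range) : ∃ (C : Type u) (_ : CommRing C) (_ : Algebra A C), (∀ i, Nonempty ((Localization.AtPrime (m i)) ⊗[A] C ≃ₐ[Localization.AtPrime (m i)] B i)) ∧ (∃ n : ℕ, (∀ x ∈ RingHom.ker (algebraMap A C), ∀ y ∈ (⨅ i, m i) ^ n, y * x = 0) ∧ (∀ y ∈ (⨅ i, m i) ^ n, ∀ c : C, y • c ∈ (algebraMap A C).range)) ∧ ((∀ i, (algebraMap (Localization.AtPrime (m i)) (B i)).Finite) → (algebraMap A C).Finite)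 ∧ ((∀ i, Function.Injective (algebraMap (Localization.AtPrime (m i)) (B i))) → Function.Injective (algebraMap A C)) ∧ ((∀ i, Function.Surjective (algebraMap (Localization.AtPrime (m i)) (B i))) → Function.Surjective (algebraMap A C)) := by
  classical
  haveI := hm
  letI : ∀ i, Algebra A (B i) := fun i =>
    ((algebraMap (Localization.AtPrime (m i)) (B i)).comp (algebraMap A (Localization.AtPrime (m i)))).toAlgebra
  haveI : ∀ i, IsScalarTower A (Localization.AtPrime (m i)) (B i) := fun i => IsScalarTower.of_algebraMap_eq fun _ => rfl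
  obtain ⟨k, f, hf⟩ := Submodule.fg_iff_exists_fin_generating_family.1
    (IsNoetherian.noetherian (⨅ i, m i : Ideal A))
  replace hf : Ideal.span (Set.range f) = ⨅ i, m i := hf
  choose nk hnk using hker
  choose nc hnc using hcoker
  let n : ℕ := Finset.univ.sup nk + Finset.univ.sup nc
  have hle : ∀ (i : Fin r) (k : ℕ), k ≤ n → ∀ y ∈ Ideal.span (Set.range f) ^ n,
      algebraMap A (Localization.AtPrime (m i)) y ∈ Ideal.map (algebraMap A (Localization.AtPrime (m i))) (m i) ^ k :=
    fun i k hk y hy => by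
      rw [← Ideal.map_pow]
      exact Ideal.mem_map_of_mem _ (Ideal.pow_le_pow_right hk
        (Ideal.pow_right_mono (hf.trans_le (iInf_le _ i)) n hy))
  have hK : ∀ i, ∀ y ∈ Ideal.span (Set.range f) ^ n, ∀ x : Localization.AtPrime (m i),
      algebraMap (Localization.AtPrime (m i)) (B i) x = 0 → y • x = 0 := fun i y hy x hx => by
    rw [Algebra.smul_def]
    exact hnk i x hx _ (hle i _ ((Finset.le_sup (Finset.mem_univ i)).trans (Nat.le_add_right _ _)) y hy)
  have hC : ∀ i, ∀ y ∈ Ideal.span (Set.range f) ^ n, ∀ b : B i,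
      ∃ x : Localization.AtPrime (m i), algebraMap (Localization.AtPrime (m i)) (B i) x = y • b := fun i y hy b => by
    obtain ⟨x, hx⟩ := hnc i _ (hle i _ ((Finset.le_sup (Finset.mem_univ i)).trans (Nat.le_add_left _ _)) y hy) b
    exact ⟨x, hx.trans (algebraMap_smul _ y b)⟩
  refine ⟨GlueMax28.glued A f B, inferInstance, inferInstance,
    GlueMax28.nonempty_equiv n hK hC hinj hf, ⟨n, fun x hx y hy => ?_, fun y hy c => ?_⟩, fun h => ?_,
    GlueMax28.injective_algebraMap hinj hf, fun h x => ?_⟩
  · exact GlueMax28.ker_killed n hK hinj hf hx (hf ▸ hy)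
  · exact GlueMax28.smul_mem_range n hK hC hinj hf c (hf ▸ hy)
  · exact RingHom.finite_algebraMap.2
      (GlueMax28.finite_glued n hK hinj hf fun i => GlueMax28.finite_coker (RingHom.finite_algebraMap.1 (h i)) (hnc i))
  · exact GlueMax28.exists_eq_algebraMap n hK hinj hf x fun i => h i _

end Groth.Agent.S1837
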