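import Groth.Statements.S18370
import Groth.Agent.AlgGrpLib.SubgroupCalc

set_option autoImplicit false
universe u
open CategoryTheory CategoryTheory.Limits MonoidalCategory CartesianMonoidalCategory MonObj GrpObj AlgebraicGeometry
open GrpSch

namespace Groth.Agent.S18370

/-- Let S be a scheme and G a commutative S-group scheme which is killed by a natural number n, i.e. the
n-th power map of G is the trivial homomorphism, and let n = a·b with a and b coprime. If i_a : G_a
→ G and i_b : G_b → G are scheme-theoretic kernels of the a-th and b-th power maps of G, then the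
morphism G_a ×_S G_b → G sending (x, y) to i_a(x)·i_b(y) is an isomorphism of S-schemes. (The
published statement assumes n ≠ 0; the case n = 0, where {a, b} = {0, 1} and one kernel is all of G
while the other is trivial, is included here.) -/
theorem result {S : Scheme.{u}} (G Ga Gb : Over S)
    [GrpObj G] [IsCommMonObj G] (n a b : ℕ) (hn : n = a * b) (hab : Nat.Coprime a b)
    (hG : (𝟙 G) ^ n = 1)
    (ia : Ga ⟶ G) (hia : AlgGrp.IsKernel ia ((𝟙 G) ^ a))
    (ib : Gb ⟶ G) (hib : AlgGrp.IsKernel ib ((𝟙 G) ^ b)) :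
    IsIso ((fst Ga Gb ≫ ia) * (snd Ga Gb ≫ ib)) := by
  have hone : ∀ {N Q : Over S} [GrpObj Q] (i : N ⟶ G) (q : G ⟶ Q), AlgGrp.IsKernel i q → i ≫ q = 1 :=
    fun i q h => Groth.Agent.AlgGrpLib.kernel_comp h
  haveI : Mono ia := Groth.Agent.AlgGrpLib.kernel_mono hia
  haveI : Mono ib := Groth.Agent.AlgGrpLib.kernel_mono hib
  obtain ⟨u, v, huv⟩ : ∃ u v : ℤ, u * a + v * b = 1 :=
    ⟨Nat.gcdA a b, Nat.gcdB a b, by
      have h := Nat.gcd_eq_gcd_ab a b
      rw [hab.gcd_eq_one, Nat.cast_one] at h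
      linarith⟩
  have hxn : ∀ {T : Over S} (g : T ⟶ G), g ^ n = 1 := fun g => by
    rw [← Category.comp_id g, ← MonObj.comp_pow, hG, MonObj.comp_one]
  have hpa : ∀ {T : Over S} (x : T ⟶ Ga), (x ≫ ia) ^ (a : ℤ) = 1 := fun x => by
    rw [zpow_natCast, ← Category.comp_id (x ≫ ia), ← MonObj.comp_pow, Category.assoc, hone ia _ hia, MonObj.comp_one]
  have hpb : ∀ {T : Over S} (x : T ⟶ Gb), (x ≫ ib) ^ (b : ℤ) = 1 := fun x => by
    rw [zpow_natCast, ← Category.comp_id (x ≫ ib), ← MonObj.comp_pow, Category.assoc, hone ib _ hib, MonObj.comp_one]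
  obtain ⟨sa, hsa⟩ := Groth.Agent.AlgGrpLib.exists_lift_kernel hia (g := (𝟙 G) ^ (v * (b : ℤ))) (by
    rw [MonObj.comp_pow, Category.comp_id, ← zpow_natCast, ← zpow_mul,
      show v * (b : ℤ) * (a : ℤ) = (n : ℤ) * v by rw [hn]; push_cast; ring, zpow_mul, zpow_natCast, hxn, one_zpow])
  obtain ⟨sb, hsb⟩ := Groth.Agent.AlgGrpLib.exists_lift_kernel hib (g := (𝟙 G) ^ (u * (a : ℤ))) (by
    rw [MonObj.comp_pow, Category.comp_id, ← zpow_natCast, ← zpow_mul,
      show u * (a : ℤ) * (b : ℤ) = (n : ℤ) * u by rw [hn]; push_cast; ring, zpow_mul, zpow_natCast, hxn, one_zpow])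
  refine ⟨lift sa sb, ?_, ?_⟩
  · refine CartesianMonoidalCategory.hom_ext _ _ ?_ ?_
    · rw [← cancel_mono ia, Category.assoc, Category.assoc, lift_fst_assoc, hsa, GrpObj.comp_zpow, Category.comp_id,
        Category.id_comp, mul_zpow,
        show (snd Ga Gb ≫ ib) ^ (v * (b : ℤ)) = 1 by rw [mul_comm v, zpow_mul, hpb, one_zpow], _root_.mul_one]
      have h1 : (fst Ga Gb ≫ ia) ^ (v * (b : ℤ)) = (fst Ga Gb ≫ ia) ^ (u * (a : ℤ) + v * b) := by
        rw [zpow_add, show (fst Ga Gb ≫ ia) ^ (u * (a : ℤ)) = 1 by rw [mul_comm u, zpow_mul, hpa, one_zpow], _root_.one_mul]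
      rw [h1, huv, zpow_one]
    · rw [← cancel_mono ib, Category.assoc, Category.assoc, lift_snd_assoc, hsb, GrpObj.comp_zpow, Category.comp_id,
        Category.id_comp, mul_zpow,
        show (fst Ga Gb ≫ ia) ^ (u * (a : ℤ)) = 1 by rw [mul_comm u, zpow_mul, hpa, one_zpow], _root_.one_mul]
      have h1 : (snd Ga Gb ≫ ib) ^ (u * (a : ℤ)) = (snd Ga Gb ≫ ib) ^ (u * (a : ℤ) + v * b) := by
        rw [zpow_add, show (snd Ga Gb ≫ ib) ^ (v * (b : ℤ)) = 1 by rw [mul_comm v, zpow_mul, hpb, one_zpow], _root_.mul_one]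
      rw [h1, huv, zpow_one]
  · rw [MonObj.comp_mul, lift_fst_assoc, lift_snd_assoc, hsa, hsb, ← zpow_add, add_comm, huv, zpow_one]

end Groth.Agent.S18370
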