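import Groth.Statements.S18372
-- import your own Groth.Agent.* helpers here

set_option autoImplicit false
universe u
open CategoryTheory CategoryTheory.Limits MonoidalCategory CartesianMonoidalCategory MonObj GrpObj AlgebraicGeometry
open AbVar

namespace Groth.Agent.S18372

/-- Let k be an algebraically closed field, A an abelian variety over k (a proper smooth k-group scheme
with geometrically connected fibres), U an affine open subset of A containing the unit point and D =
A ∖ U. Then only finitely many k-rational points x of A have a translation t_x : z ↦ z + x (the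
product of the identity and the constant map x in the group Hom(A, A)) with t_x⁻¹(D) = D as sets. -/
theorem result (k : Type u) [Field k] [IsAlgClosed k]
    (A : Over (Spec (CommRingCat.of k))) [GrpObj A] [IsProper A.hom] [Smooth A.hom] [GeometricallyConnected A.hom]
    (U : A.left.Opens) (hU : IsAffineOpen U) (he : Set.range η[A].left.base ⊆ (U : Set A.left)) :
    Set.Finite {x : 𝟙_ (Over (Spec (CommRingCat.of k))) ⟶ A |
      (𝟙 A * (toUnit A ≫ x)).left.base ⁻¹' ((U : Set A.left)ᶜ) = (U : Set A.left)ᶜ} := by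
  have := LocallyOfFiniteType.jacobsonSpace A.hom
  let pt : (𝟙_ (Over (Spec (CommRingCat.of k))) ⟶ A) → A.left := fun x => x.left.base (IsLocalRing.closedPoint k)
  let D : Set A.left := (U : Set A.left)ᶜ
  have hD : IsClosed D := U.isOpen.isClosed_compl
  let C : Set A.left := ⋂ (d : 𝟙_ (Over (Spec (CommRingCat.of k))) ⟶ A) (_ : pt d ∈ D),
    ((toUnit A ≫ d) * 𝟙 A).left.base ⁻¹' D ∩ ((toUnit A ≫ d) * (𝟙 A)⁻¹).left.base ⁻¹' D
  have hC : IsClosed C := isClosed_iInter fun d => isClosed_iInter fun _ =>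
    (hD.preimage (Scheme.Hom.continuous _)).inter (hD.preimage (Scheme.Hom.continuous _))
  have hpt : ∀ (x : 𝟙_ (Over (Spec (CommRingCat.of k))) ⟶ A) (g : A ⟶ A), g.left.base (pt x) = pt (x ≫ g) :=
    fun x g => rfl
  have hcomp : ∀ (x d : 𝟙_ (Over (Spec (CommRingCat.of k))) ⟶ A) (g : A ⟶ A),
      x ≫ ((toUnit A ≫ d) * g) = d * (x ≫ g) := fun x d g => by
    rw [MonObj.comp_mul, ← Category.assoc, toUnit_unique (x ≫ toUnit A) (𝟙 _), Category.id_comp]
  have h1 : pt (1 : 𝟙_ (Over (Spec (CommRingCat.of k))) ⟶ A) ∉ D := by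
    intro h
    refine h (he ⟨IsLocalRing.closedPoint k, ?_⟩)
    show _ = (1 : 𝟙_ (Over (Spec (CommRingCat.of k))) ⟶ A).left.base (IsLocalRing.closedPoint k)
    rw [Hom.one_def, show toUnit (𝟙_ (Over (Spec (CommRingCat.of k)))) = 𝟙 _ from toUnit_unique _ _, Category.id_comp]
  have hsub : {x : 𝟙_ (Over (Spec (CommRingCat.of k))) ⟶ A |
      (𝟙 A * (toUnit A ≫ x)).left.base ⁻¹' D = D} ⊆ pt ⁻¹' C := by
    intro x hx
    have hx' : ∀ d : 𝟙_ (Over (Spec (CommRingCat.of k))) ⟶ A, pt (d * x) ∈ D ↔ pt d ∈ D := fun d => by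
      have e : d * x = d ≫ (𝟙 A * (toUnit A ≫ x)) := by
        rw [MonObj.comp_mul, ← Category.assoc, toUnit_unique (d ≫ toUnit A) (𝟙 _), Category.id_comp, Category.comp_id]
      rw [e, ← hpt]
      exact Set.ext_iff.1 hx (pt d)
    refine Set.mem_iInter₂.2 fun d hd => ⟨?_, ?_⟩
    · show ((toUnit A ≫ d) * 𝟙 A).left.base (pt x) ∈ D
      rw [hpt, hcomp, Category.comp_id]
      exact (hx' d).2 hd
    · show ((toUnit A ≫ d) * (𝟙 A)⁻¹).left.base (pt x) ∈ D
      rw [hpt, hcomp, GrpObj.comp_inv, Category.comp_id, ← hx' (d * x⁻¹), _root_.mul_assoc, inv_mul_cancel,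
        _root_.mul_one]
      exact hd
  have hCU : C ⊆ (U : Set A.left) := by
    intro a ha
    by_contra hn
    obtain ⟨c, ⟨hcC, hcD⟩, hcc⟩ := nonempty_inter_closedPoints (Z := C ∩ D) ⟨a, ha, hn⟩
      (hC.inter hD).isLocallyClosed
    let p := (pointEquivClosedPoint A.hom).symm ⟨c, hcc⟩
    let x : 𝟙_ (Over (Spec (CommRingCat.of k))) ⟶ A := Over.homMk p.1 p.2
    have hx : pt x = c := congrArg Subtype.val ((pointEquivClosedPoint A.hom).apply_symm_apply ⟨c, hcc⟩)
    have h2 := (Set.mem_iInter₂.1 hcC x (hx ▸ hcD)).2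
    rw [← hx] at h2
    refine h1 ?_
    rw [← mul_inv_cancel x]
    have h3 := hcomp x x (𝟙 A)⁻¹
    rw [GrpObj.comp_inv, Category.comp_id] at h3
    rw [← h3, ← hpt]
    exact h2
  have hfin : C.Finite := by
    let I := Scheme.IdealSheafData.vanishingIdeal ⟨C, hC⟩
    have hr : Set.range I.subschemeι.base = C := by
      rw [Scheme.IdealSheafData.range_subschemeι, Scheme.IdealSheafData.coe_support_vanishingIdeal]
      rfl
    let j : I.subscheme ⟶ U.toScheme := IsOpenImmersion.lift U.ι I.subschemeι (by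
      rw [Scheme.Opens.range_ι, hr]; exact hCU)
    have hj : j ≫ U.ι = I.subschemeι := IsOpenImmersion.lift_fac _ _ _
    have : IsClosedImmersion (j ≫ U.ι) := by rw [hj]; infer_instance
    have : IsClosedImmersion j := IsClosedImmersion.of_comp j U.ι
    have : IsAffine U.toScheme := hU
    have : IsAffine I.subscheme := isAffine_of_isAffineHom j
    have : IsFinite (I.subschemeι ≫ A.hom) := IsFinite.iff_isProper_and_isAffineHom.2 ⟨inferInstance, inferInstance⟩
    have : Finite I.subscheme := by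
      have h := (I.subschemeι ≫ A.hom).finite_preimage_singleton (IsLocalRing.closedPoint k)
      exact Set.finite_univ_iff.1 (h.subset fun z _ => Subsingleton.elim (α := PrimeSpectrum k) _ _)
    rw [← hr]
    exact Set.finite_range _
  refine (hfin.preimage ?_).subset hsub
  intro x _ y _ h
  exact Over.OverMorphism.ext (ext_of_apply_closedPoint_eq A.hom (Over.w x) (Over.w y) h)

end Groth.Agent.S18372
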