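import Groth.Statements.S18373
import Groth.Agent.AbVarLib.CurveDisjointDivisor
-- import your own Groth.Agent.* helpers here

set_option autoImplicit false
universe u
open CategoryTheory CategoryTheory.Limits MonoidalCategory CartesianMonoidalCategory MonObj GrpObj AlgebraicGeometry
open AbVar

namespace Groth.Agent.S18373

/-- Let k be an algebraically closed field and A an abelian variety over k (a proper smooth k-group
scheme with geometrically connected fibres). Let Δ ⊆ A be an irreducible closed subset of
codimension one, with generic point ξ whose local ring O_{A,ξ} has Krull dimension 1 (an irreducible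
effective divisor), and let C ⊆ A be an irreducible closed subset of dimension one (a curve)
disjoint from Δ. Then for all k-rational points x, y of A lying on C, translation by x − y (the map
z ↦ z + x − y, written with the group Hom(A, A)) carries Δ onto itself: t_{x−y}⁻¹(Δ) = Δ. -/
theorem result (k : Type u) [Field k] [IsAlgClosed k]
    (A : Over (Spec (CommRingCat.of k))) [GrpObj A] [IsProper A.hom] [Smooth A.hom] [GeometricallyConnected A.hom]
    (Δ : Set A.left) (hΔ : IsClosed Δ) (ξ : A.left) (hξ : closure {ξ} = Δ)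
    (hcodim : ringKrullDim (A.left.presheaf.stalk ξ) = 1)
    (C : Set A.left) (hC : IsClosed C) (hCirr : IsIrreducible C) (hCdim : topologicalKrullDim C = 1)
    (hdisj : Disjoint C Δ)
    (x y : 𝟙_ (Over (Spec (CommRingCat.of k))) ⟶ A)
    (hx : Set.range x.left.base ⊆ C) (hy : Set.range y.left.base ⊆ C) :
    (𝟙 A * (toUnit A ≫ (x * y⁻¹))).left.base ⁻¹' Δ = Δ := by
  haveI := Groth.Agent.AbVarLib.geometricallyIntegral_of_smooth A.hom
  haveI : IsCommMonObj A := isCommMonObj_of_isProper_of_geometricallyIntegral A
  subst hξ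
  have hxy := Groth.Agent.AbVarLib.translate_eq_of_disjoint ξ hcodim C hC hCirr hdisj x y
    (hx ⟨_, rfl⟩) (hy ⟨_, rfl⟩)
  have hfix : ∀ b : 𝟙_ (Over (Spec (CommRingCat.of k))) ⟶ A,
      b = y⁻¹ * x ∨ b = x * y⁻¹ → (Groth.Agent.AbVarLib.rightTransl b).left.base ξ = ξ := by
    intro b hb
    have hb' : b = y⁻¹ * x := hb.elim id fun h => h.trans (mul_comm _ _)
    rw [hb', ← Groth.Agent.AbVarLib.rightTransl_comp]
    show (Groth.Agent.AbVarLib.rightTransl x).left.base ((Groth.Agent.AbVarLib.rightTransl y⁻¹).left.base ξ) = ξ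
    rw [← hxy, Groth.Agent.AbVarLib.rightTransl_cancel]
  ext z
  show (Groth.Agent.AbVarLib.rightTransl (x * y⁻¹)).left.base z ∈ closure {ξ} ↔ z ∈ closure {ξ}
  simp only [← specializes_iff_mem_closure]
  constructor
  · intro h
    have h' := h.map (Groth.Agent.AbVarLib.rightTransl (x * y⁻¹)⁻¹).left.continuous
    have e1 := Groth.Agent.AbVarLib.rightTransl_cancel ((x * y⁻¹)⁻¹) z
    rw [_root_.inv_inv] at e1
    have e2 : (Groth.Agent.AbVarLib.rightTransl (x * y⁻¹)⁻¹).left.base ξ = ξ := by
      conv_lhs => rw [← hfix _ (Or.inr rfl)]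
      have := Groth.Agent.AbVarLib.rightTransl_cancel ((x * y⁻¹)⁻¹) ξ
      rwa [_root_.inv_inv] at this
    rw [e2] at h'
    exact e1 ▸ h'
  · intro h
    have h' := h.map (Groth.Agent.AbVarLib.rightTransl (x * y⁻¹)).left.continuous
    rwa [hfix _ (Or.inr rfl)] at h' 

end Groth.Agent.S18373
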