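import Groth.Statements.S18376
import Groth.Agent.PhiStab5.Stab

set_option autoImplicit false
universe u
open PhiStab

namespace Groth.Agent.S18376

open PhiStab in
/-- Let (V, E, ends) be a connected finite multigraph, b an integer, and φ₁, φ₂ real weightings of the
vertices with Σ_v φ₁ v = Σ_v φ₂ v = b, φ₁ nondegenerate. Then every φ₁-stable sheaf datum (m, N) of
total degree b is φ₂-semistable if and only if φ₂ lies in the closed stability polytope of φ₁, that
is, for every elementary vertex set S and every integer d with d - Σ_{v ∈ S} φ₁ v + cut S / 2 > 0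
one has d - Σ_{v ∈ S} φ₂ v + cut S / 2 ≥ 0. Membership in the closure of the polytope is expressed
by this half-space condition, the form in which the source's proof uses it; the sheaves of degree g
- 1 = b on stable pointed curves with this dual graph enter through their combinatorial data. -/
theorem result {V E : Type u} [Fintype V] [Fintype E] [DecidableEq V] [DecidableEq E]
    (ends : E → V × V)
    (hconn : LabGraph.Connected ends) (b : ℤ) (φ₁ φ₂ : V → ℝ) (h₁ : (∑ v : V, φ₁ v) = (b : ℝ))
    (h₂ : (∑ v : V, φ₂ v) = (b : ℝ)) (hnd : Nondegenerate ends φ₁) :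
    (∀ (m : V → ℤ) (N : Finset E), totDeg m N = b → IsStable ends φ₁ m N → IsSemistable ends φ₂ m N) ↔
      InClosedPolytope ends φ₁ φ₂ := by
  classical
  constructor
  · intro h S hS d hd
    obtain ⟨⟨s, hs⟩, hSu⟩ := PhiStab5.elementary_proper hS
    obtain ⟨w, hw⟩ : ∃ w, w ∉ S := by
      by_contra hc
      push Not at hc
      exact hSu (Finset.eq_univ_iff_forall.2 hc)
    -- an edge leaving `S`
    obtain ⟨e, he⟩ : ∃ e, e ∈ PhiStab5.cutSet ends S := by
      have hp := hconn.2 w s
      induction hp using Relation.ReflTransGen.head_induction_on with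
      | refl => exact absurd hs hw
      | @head x y hxy _ ih =>
        by_cases hy : y ∈ S
        · obtain ⟨e, he⟩ := hxy
          refine ⟨e, ?_⟩
          rcases he with he | he <;> simp [PhiStab5.cutSet, he, hw, hy]
        · exact ih hy
    let T₀ : Finset E := insert e (PhiStab.inner ends S ∪ PhiStab.inner ends Sᶜ)
    have hc1 := ((PhiStab5.connOn_iff S).1 hS.1).2
    have hc2 := ((PhiStab5.connOn_iff Sᶜ).1 hS.2).2
    have hm : ∀ {A : Finset E} (_ : A ⊆ T₀) {x y : V},
        Relation.ReflTransGen (Groth.Agent.GraphLib.AdjT ends A) x y →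
        Relation.ReflTransGen (Groth.Agent.GraphLib.AdjT ends T₀) x y :=
      fun hA _ _ hxy => Groth.Agent.GraphLib.rtg_mono hA hxy
    obtain ⟨x, y, hxy, hx, hy⟩ : ∃ x y, Groth.Agent.GraphLib.AdjT ends T₀ x y ∧ x ∈ Sᶜ ∧ y ∈ S := by
      simp only [PhiStab5.cutSet, Finset.mem_filter, Finset.mem_univ, true_and] at he
      rcases he with ⟨h1, h2⟩ | ⟨h1, h2⟩
      · exact ⟨_, _, ⟨e, Finset.mem_insert_self _ _, Or.inr rfl⟩, Finset.mem_compl.2 h2, h1⟩
      · exact ⟨_, _, ⟨e, Finset.mem_insert_self _ _, Or.inl rfl⟩, Finset.mem_compl.2 h1, h2⟩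
    have hsp : Groth.Agent.GraphLib.Spans ends T₀ {s} := by
      intro v
      refine ⟨s, Finset.mem_singleton_self s, ?_⟩
      have hS' : ∀ u ∈ S, Relation.ReflTransGen (Groth.Agent.GraphLib.AdjT ends T₀) u s := fun u hu =>
        hm (Finset.subset_union_left.trans (Finset.subset_insert _ _)) (hc1 u hu s hs)
      by_cases hv : v ∈ S
      · exact hS' v hv
      · exact ((hm (Finset.subset_union_right.trans (Finset.subset_insert _ _))
          (hc2 v (Finset.mem_compl.2 hv) x hx)).tail hxy).trans (hS' y hy)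
    obtain ⟨T, hTT₀, hT⟩ := hsp.exists_good
    obtain ⟨m, ⟨hm1, hm2⟩, -⟩ := PhiStab5.existsUnique_stable hT b φ₁ h₁ hnd
    have hsemi := (PhiStab5.semi_iff φ₂ m Tᶜ S).1 (h m Tᶜ hm1 hm2 S ⟨s, hs⟩ hSu)
    have hpos := (PhiStab5.strict_iff φ₁ m Tᶜ Sᶜ).1 (hm2 Sᶜ ⟨w, Finset.mem_compl.2 hw⟩
      (fun h' => Finset.mem_compl.1 (h'.symm ▸ Finset.mem_univ s : s ∈ Sᶜ) hs))
    have hadd := PhiStab5.slack_add_compl (ends := ends) φ₁ m Tᶜ (by rw [hm1, h₁]) S
    have hcard : ((PhiStab5.cutSet ends S \ Tᶜ).card : ℝ) ≤ 1 := by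
      have : PhiStab5.cutSet ends S \ Tᶜ ⊆ {e} := by
        intro z hz
        simp only [Finset.mem_sdiff, Finset.mem_compl, not_not] at hz
        have h3 := hTT₀ hz.2
        have h4 := hz.1
        simp only [T₀, Finset.mem_insert, Finset.mem_union, PhiStab.inner, Finset.mem_filter, Finset.mem_univ,
          true_and, Finset.mem_compl] at h3
        simp only [PhiStab5.cutSet, Finset.mem_filter, Finset.mem_univ, true_and] at h4
        rw [Finset.mem_singleton]
        tauto
      exact_mod_cast (Finset.card_le_card this)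
    unfold PhiStab5.slack at hadd hpos hsemi
    unfold PhiStab.ell at hd ⊢
    have hlt : ((PhiStab.degOn ends m Tᶜ S : ℤ) : ℝ) < ((d + 1 : ℤ) : ℝ) := by push_cast; linarith
    have hle : (PhiStab.degOn ends m Tᶜ S : ℝ) ≤ (d : ℝ) := by exact_mod_cast Int.lt_add_one_iff.1 (Int.cast_lt.1 hlt)
    linarith
  · intro h m N hm hst S hS hSu
    refine (PhiStab5.semi_iff φ₂ m N S).2 (PhiStab5.forall_of_elementary hconn φ₂ m N (by rw [hm, h₂])
      (fun x => 0 ≤ x) (fun _ _ => add_nonneg) (fun T hT => ?_) S hS hSu)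
    have h1 := (PhiStab5.strict_iff φ₁ m N T).1 (hst T (PhiStab5.elementary_proper hT).1 (PhiStab5.elementary_proper hT).2)
    exact h T hT (PhiStab.degOn ends m N T) h1

end Groth.Agent.S18376
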