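import Groth.Statements.S18379
import Groth.Agent.VerlindeLib.Apps

set_option autoImplicit false
open VerlindeComb

namespace Groth.Agent.S18379

/-- Let r, k ≥ 1 be integers. Summing over all integer vectors v with r + k > v_1 > v_2 > ⋯ > v_{r-1} >
v_r = 0, one has Σ_v ∏_{i<j} (2 sin(π (v_i - v_j) / (r + k)))² = r (r + k)^{r-1}; that is, the
genus-zero Verlinde number of rank r and level k with no parabolic points, defined as (r (r +
k)^{r-1})⁻¹ times this sum, equals 1. Indices are 0-based below: v i stands for v_{i+1}. -/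
theorem result (r k : ℕ) (hr : 1 ≤ r) (hk : 1 ≤ k) :
    (∑ v ∈ (Finset.univ : Finset (Fin r → Fin (r + k))).filter
        (fun v : Fin r → Fin (r + k) => StrictAnti v ∧ ∀ i : Fin r, (i : ℕ) = r - 1 → (v i : ℕ) = 0),
      ∏ p ∈ (Finset.univ : Finset (Fin r × Fin r)).filter (fun p => p.1 < p.2),
        ((2 : ℝ) * Real.sin (Real.pi * ((v p.1 : ℕ) - (v p.2 : ℕ) : ℝ) / ((r : ℝ) + k))) ^ 2) =
      (r : ℝ) * ((r : ℝ) + k) ^ (r - 1) := by
  have h := VerlindeLib.sum_sinProd (r := r) (n := r + k) hr (by omega) (by omega)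
  rw [VerlindeLib.tuples0_eq] at h
  apply Complex.ofReal_injective
  rw [Complex.ofReal_sum]
  refine Eq.trans ?_ (h.trans ?_)
  · refine Finset.sum_congr (by ext; simp) fun v _ => ?_
    simp [VerlindeLib.sinProd]
  · push_cast; ring

end Groth.Agent.S18379
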