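import Groth.Statements.S18380
import Groth.Agent.S8914
import Groth.Agent.Coherent.CohBC.HomUnit
import Groth.Agent.CurveRR24.AlgClosed
import Groth.Agent.AbSchLib.GlobalSections
import Groth.Agent.WeilLib.Cycles
import Groth.Agent.Lef23.ProZeroX
import Mathlib
-- import your own Groth.Agent.* helpers here

set_option autoImplicit false
set_option backward.isDefEq.respectTransparency false
set_option backward.isDefEq.respectTransparency.types false
universe u
open Divisors

namespace Groth.Agent.S18380

open CategoryTheory CategoryTheory.Limits AlgebraicGeometry Opposite TopologicalSpace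
open Groth.Agent Groth.Agent.Coherent Groth.Agent.Coherent.CohBC Groth.Agent.PicLib Groth.Agent.CurveRR24

variable {X : Scheme.{u}}

/-- A global function as an endomorphism. -/
noncomputable def θ (L : X.Modules) (a : Γ(X, ⊤)) : L ⟶ L :=
  homOfSec ((Coherent.curry (scalarBilin L)).app ⊤ (show Γ(Coh.structureModule X, ⊤) from a))

theorem θ_app (L : X.Modules) (a : Γ(X, ⊤)) (W : X.Opens) (x : Γ(L, W)) :
    (θ L a).app W x = (X.presheaf.map (homOfLE (le_top : W ≤ ⊤)).op a) • x := by
  rw [θ, homOfSec_app, Coherent.ev_curry]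
  rfl

theorem θ_mul (L : X.Modules) (a b : Γ(X, ⊤)) : θ L (a * b) = θ L b ≫ θ L a :=
  Scheme.Modules.hom_ext _ _ fun W => ConcreteCategory.hom_ext _ _ fun x => by
    show (θ L (a * b)).app W x = (θ L a).app W ((θ L b).app W x)
    rw [θ_app, θ_app, θ_app, map_mul, mul_smul]

theorem θ_one (L : X.Modules) : θ L 1 = 𝟙 L :=
  Scheme.Modules.hom_ext _ _ fun W => ConcreteCategory.hom_ext _ _ fun x => by
    show (θ L 1).app W x = x
    rw [θ_app, map_one, one_smul]

theorem secOfHom_homOfSec {L : X.Modules} (s : Γ(internalHom L L, ⊤)) : secOfHom (homOfSec s) = s :=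
  locHom_ext fun W hW x => rfl

theorem θ_bijective {L : X.Modules} (hL : PicF.IsInvertible L) : Function.Bijective (θ L) := by
  have hi := isIso_scalar hL
  have hb : Function.Bijective ((Coherent.curry (scalarBilin L)).app ⊤) := by
    have : IsIso ((Coherent.curry (scalarBilin L)).app ⊤) := inferInstance
    exact ConcreteCategory.bijective_of_isIso _
  refine ⟨fun a b h => ?_, fun φ => ?_⟩
  · have := congrArg secOfHom h
    rw [θ, θ, secOfHom_homOfSec, secOfHom_homOfSec] at this
    exact hb.1 this
  · obtain ⟨a, ha⟩ := hb.2 (secOfHom φ)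
    exact ⟨a, by rw [θ]; exact (congrArg homOfSec ha).trans (homOfSec_secOfHom φ)⟩

/-- On a proper scheme over a field a monic endomorphism of an invertible module is invertible. -/
theorem isIso_of_mono_end (k : Type u) [Field k] [X.Over (Spec (CommRingCat.of k))]
    [IsProper (X ↘ (Spec (CommRingCat.of k)))] {L : X.Modules} (hL : PicF.IsInvertible L) (ψ : L ⟶ L) [Mono ψ] :
    IsIso ψ := by
  letI : Algebra k Γ(X, ⊤) := ((X ↘ (Spec (CommRingCat.of k))).appTop.hom.comp
      (Scheme.ΓSpecIso (CommRingCat.of k)).inv.hom).toAlgebra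
  haveI := CurveRR24.isLocallyNoetherian_of_proper k (X := X)
  haveI := finite_HH_of_isCoh k (isCoh_structureModule X) 0
  haveI hfin' : Module.Finite k (GA (baseHom k X) (Coh.structureModule X)) :=
    Module.Finite.equiv (hhZero k (Coh.structureModule X))
  let e : GA (baseHom k X) (Coh.structureModule X) ≃ₗ[k] Γ(X, ⊤) :=
    { toFun := fun y => (show Γ(X, ⊤) from y)
      invFun := fun y => (show Γ(Coh.structureModule X, ⊤) from y)
      map_add' := fun _ _ => rfl
      map_smul' := fun _ _ => rfl
      left_inv := fun _ => rfl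
      right_inv := fun _ => rfl }
  haveI hfin : Module.Finite k Γ(X, ⊤) := Module.Finite.equiv e
  haveI : IsArtinianRing Γ(X, ⊤) := IsArtinianRing.of_finite k Γ(X, ⊤)
  obtain ⟨a, rfl⟩ := (θ_bijective hL).2 ψ
  have ha : a ∈ nonZeroDivisors Γ(X, ⊤) := mem_nonZeroDivisors_iff_right.2 fun b hb => by
    refine (θ_bijective hL).1 ?_
    rw [← cancel_mono (θ L a), ← θ_mul, ← θ_mul, mul_comm a b, hb, mul_zero]
  obtain ⟨i, hi⟩ := isUnit_iff_exists_inv.1 (IsArtinianRing.isUnit_of_mem_nonZeroDivisors ha)
  exact ⟨θ L i, by rw [← θ_mul, mul_comm, hi, θ_one], by rw [← θ_mul, hi, θ_one]⟩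


open CategoryTheory AlgebraicGeometry in
/-- Let k be an algebraically closed field of characteristic 0 and M a scheme, smooth and projective
over k. Let D₁ and D₂ be effective Cartier divisors on M, given by invertible ideal sheaves with
I_{D₂} ⊆ I_{D₁} (so D₁ is a closed subscheme of D₂). If I_{D₁} and I_{D₂} are isomorphic as
O_M-modules, that is D₁ and D₂ are linearly equivalent, then D₁ = D₂. The published statement is an
equivalence, for effective divisors on a smooth proper Deligne–Mumford stack with equal divisor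
classes; its proof reduces to a smooth projective scheme, the case stated here, and the other
direction is immediate. -/
theorem result (k : Type u) [Field k] [IsAlgClosed k] [CharZero k]
    (M : Scheme.{u}) (f : M ⟶ Spec (CommRingCat.of k)) [Smooth f]
    (hproj : Neron.IsProjectiveOver k (Over.mk f))
    (D₁ D₂ : M.IdealSheafData) (h₁ : BlowUp.IsEffCartierIdeal D₁) (h₂ : BlowUp.IsEffCartierIdeal D₂)
    (hle : D₂ ≤ D₁) (hiso : Nonempty (ClSub.idealMod D₁ ≅ ClSub.idealMod D₂)) :
    D₁ = D₂ := by
  letI : M.Over (Spec (CommRingCat.of k)) := ⟨f⟩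
  obtain ⟨n, i, hi, hif⟩ := hproj
  have : IsProper (M ↘ Spec (CommRingCat.of k)) := by
    show IsProper f
    have e : i ≫ CohB1.ProjSpaceOver.toBase n (Spec (CommRingCat.of k)) = f := hif
    have : IsProper i := inferInstance
    have := WeilLib.isProper_toBase n (Spec (CommRingCat.of k))
    rw [← e]
    exact MorphismProperty.comp_mem @IsProper _ _ ‹_› ‹_›
  obtain ⟨φ⟩ := hiso
  have := AmpleLib.mono_idealModι D₂
  have hinc : Mono (Lef23.idealIncl hle) := mono_of_mono_fac (Lef23.idealIncl_ι hle)
  have : Mono (φ.hom ≫ Lef23.idealIncl hle) := mono_comp _ _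
  have hiso' := isIso_of_mono_end k ((S8914.result D₁).2 h₁) (φ.hom ≫ Lef23.idealIncl hle)
  refine le_antisymm (fun U x hx => ?_) hle
  obtain ⟨U, hU⟩ := U
  rw [← Scheme.IdealSheafData.ker_subschemeι_app] at hx ⊢
  obtain ⟨m, hm⟩ := (AmpleLib.mem_range_idealModι D₁ U x).2 (RingHom.mem_ker.1 hx)
  refine RingHom.mem_ker.2 ((AmpleLib.mem_range_idealModι D₂ U x).1
    ⟨φ.hom.app U ((inv (φ.hom ≫ Lef23.idealIncl hle)).app U m), ?_⟩)
  rw [← hm, ← Lef23.idealIncl_ι hle]
  show ((inv (φ.hom ≫ Lef23.idealIncl hle) ≫ (φ.hom ≫ Lef23.idealIncl hle)) ≫ ClSub.idealModι D₁).app U m = _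
  rw [IsIso.inv_hom_id, Category.id_comp]

end Groth.Agent.S18380
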