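import Groth.Statements.S18383
open CategoryTheory CategoryTheory.Limits AlgebraicGeometry MonoidalCategory CartesianMonoidalCategory

set_option autoImplicit false
universe u
open CategoryTheory CategoryTheory.Limits MonoidalCategory CartesianMonoidalCategory MonObj GrpObj AlgebraicGeometry
open GrpSch

namespace Groth.Agent.S18383

/-- Let S be a scheme, H an S-group scheme and i : G → H a homomorphism of S-group schemes which is a
closed immersion (G a closed subgroup scheme of H). Then the left-translation action of G on H is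
strictly free: the S-morphism G ×_S H → H ×_S H, (g, h) ↦ (i(g)·h, h), is a closed immersion. -/
theorem result {S : Scheme.{u}} (G H : Over S)
    [GrpObj G] [GrpObj H] (i : G ⟶ H) [IsMonHom i] [IsClosedImmersion i.left] :
    IsClosedImmersion (CartesianMonoidalCategory.lift ((i ▷ H) ≫ μ[H]) (snd G H)).left := by
  let sh : H ⊗ H ⟶ H ⊗ H := lift μ[H] (snd H H)
  let shi : H ⊗ H ⟶ H ⊗ H := lift (fst H H * (snd H H)⁻¹) (snd H H)
  have hμ : μ[H] = fst H H * snd H H := by
    show μ[H] = lift (fst H H) (snd H H) ≫ μ[H]
    rw [lift_fst_snd, Category.id_comp]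
  have h1 : sh ≫ shi = 𝟙 _ := by
    refine CartesianMonoidalCategory.hom_ext _ _ ?_ ?_
    · simp only [sh, shi, Category.assoc, lift_fst, Category.id_comp, MonObj.comp_mul, GrpObj.comp_inv, lift_snd, hμ]
      exact mul_inv_cancel_right _ _
    · simp [sh, shi]
  have h2 : shi ≫ sh = 𝟙 _ := by
    refine CartesianMonoidalCategory.hom_ext _ _ ?_ ?_
    · simp only [sh, shi, Category.assoc, lift_fst, Category.id_comp, hμ, MonObj.comp_mul, lift_snd]
      exact inv_mul_cancel_right _ _
    · simp [sh, shi]
  have : IsIso sh := ⟨shi, h1, h2⟩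
  have hfac : lift ((i ▷ H) ≫ μ[H]) (snd G H) = (i ▷ H) ≫ sh := by
    refine CartesianMonoidalCategory.hom_ext _ _ ?_ ?_
    · simp [sh]
    · simp [sh]
  rw [hfac]
  have : IsIso sh.left := (Over.forget S).map_isIso sh
  have e1 : (i ▷ H).left ≫ pullback.fst H.hom H.hom = pullback.fst G.hom H.hom ≫ i.left :=
    Over.whiskerRight_left_fst i
  have e2 : (i ▷ H).left ≫ pullback.snd H.hom H.hom = pullback.snd G.hom H.hom :=
    Over.whiskerRight_left_snd i
  have hbig : IsPullback (pullback.fst G.hom H.hom) ((i ▷ H).left ≫ pullback.snd H.hom H.hom) (i.left ≫ H.hom) H.hom := by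
    rw [e2, Over.w i]
    exact IsPullback.of_hasPullback G.hom H.hom
  have hsq := IsPullback.of_bot hbig e1.symm (IsPullback.of_hasPullback H.hom H.hom)
  have : IsClosedImmersion (i ▷ H).left :=
    (IsClosedImmersion.isStableUnderBaseChange).of_isPullback hsq inferInstance
  show IsClosedImmersion ((i ▷ H).left ≫ sh.left)
  infer_instance

end Groth.Agent.S18383
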