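import Groth.Statements.S18384
import Mathlib.RingTheory.Filtration
import Mathlib.AlgebraicGeometry.Noetherian

set_option autoImplicit false
universe u
open CategoryTheory CategoryTheory.Limits AlgebraicGeometry
open Coherent


theorem exists_open_killed {X S : Scheme.{u}}
    [IsLocallyNoetherian X] (p : X ⟶ S) (t : S) (I : X.IdealSheafData)
    (h : ∀ n : ℕ, ∃ g : pullback p (Spec.map (CommRingCat.ofHom (Ideal.Quotient.mk
        (IsLocalRing.maximalIdeal ↑(S.presheaf.stalk t) ^ (n + 1)))) ≫ S.fromSpecStalk t) ⟶ I.subscheme,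
        g ≫ I.subschemeι = pullback.fst p _)
    (x : X) (hx : p x = t) : ∃ D : X.Opens, x ∈ D ∧ I ≤ D.ι.ker := by
  subst hx
  obtain ⟨V, hV, hxV, -⟩ := exists_isAffineOpen_mem_and_subset (x := x) (U := (⊤ : X.Opens)) trivial
  let A := S.presheaf.stalk (p x)
  let B := X.presheaf.stalk x
  haveI : IsNoetherianRing Γ(X, V) := IsLocallyNoetherian.component_noetherian ⟨V, hV⟩
  haveI : IsNoetherianRing B := inferInstance
  let M : Ideal B := (IsLocalRing.maximalIdeal A).map (p.stalkMap x).hom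
  have hM : M ≤ IsLocalRing.maximalIdeal B := by
    have h2 := (IsLocalRing.local_hom_TFAE (p.stalkMap x).hom).out 0 2
    exact h2.1 inferInstance
  have key : ∀ b ∈ I.ideal ⟨V, hV⟩, X.presheaf.germ V x hxV b = 0 := by
    intro b hb
    have hmem : ∀ n : ℕ, X.presheaf.germ V x hxV b ∈ M ^ (n + 1) := by
      intro n
      let q : B ⟶ CommRingCat.of (B ⧸ M ^ (n + 1)) := CommRingCat.ofHom (Ideal.Quotient.mk (M ^ (n + 1)))
      let r : A ⟶ CommRingCat.of (A ⧸ IsLocalRing.maximalIdeal A ^ (n + 1)) :=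
        CommRingCat.ofHom (Ideal.Quotient.mk (IsLocalRing.maximalIdeal A ^ (n + 1)))
      let w : CommRingCat.of (A ⧸ IsLocalRing.maximalIdeal A ^ (n + 1)) ⟶ CommRingCat.of (B ⧸ M ^ (n + 1)) :=
        CommRingCat.ofHom (Ideal.quotientMap (M ^ (n + 1)) (p.stalkMap x).hom
          (Ideal.map_le_iff_le_comap.1 (le_of_eq (Ideal.map_pow _ _ _))))
      have hrw : r ≫ w = p.stalkMap x ≫ q := by ext a; rfl
      let c : Spec (CommRingCat.of (B ⧸ M ^ (n + 1))) ⟶ X := Spec.map q ≫ X.fromSpecStalk x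
      obtain ⟨g, hg⟩ := h n
      have hw : c ≫ p = Spec.map w ≫ Spec.map r ≫ S.fromSpecStalk (p x) := by
        rw [← Category.assoc (Spec.map w), ← Spec.map_comp, hrw, Spec.map_comp]
        simp only [c, Category.assoc, Scheme.SpecMap_stalkMap_fromSpecStalk]
      let l : Spec (CommRingCat.of (B ⧸ M ^ (n + 1))) ⟶ pullback p (Spec.map (CommRingCat.ofHom (Ideal.Quotient.mk
          (IsLocalRing.maximalIdeal ↑(S.presheaf.stalk (p x)) ^ (n + 1)))) ≫ S.fromSpecStalk (p x)) :=
        pullback.lift c (Spec.map w) hw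
      have hc : c = (l ≫ g) ≫ I.subschemeι := by
        exact ((Category.assoc _ _ _).trans ((congrArg (l ≫ ·) hg).trans (pullback.lift_fst _ _ _))).symm
      have hle : I ≤ c.ker := by
        rw [hc]
        exact le_of_eq_of_le I.ker_subschemeι.symm (Scheme.Hom.le_ker_comp _ _)
      have h0 : c.app V b = 0 := (Scheme.Hom.ideal_ker_le c ⟨V, hV⟩) (hle ⟨V, hV⟩ hb)
      have htop : ((X.fromSpecStalk x) ⁻¹ᵁ V) = ⊤ := by
        refine eq_top_iff.2 fun y _ => ?_
        have : X.fromSpecStalk x y ⤳ x := by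
          have hy : X.fromSpecStalk x y ∈ Set.range (X.fromSpecStalk x) := ⟨y, rfl⟩
          rwa [Scheme.range_fromSpecStalk] at hy
        exact this.mem_open V.2 hxV
      let e : Opposite.op (⊤ : (Spec B).Opens) ⟶ Opposite.op (X.fromSpecStalk x ⁻¹ᵁ V) := (homOfLE le_top).op
      haveI : IsIso e := ⟨(homOfLE (le_of_eq htop.symm)).op, Subsingleton.elim _ _, Subsingleton.elim _ _⟩
      let e' : Opposite.op (⊤ : (Spec (CommRingCat.of (B ⧸ M ^ (n + 1)))).Opens) ⟶
          Opposite.op (Spec.map q ⁻¹ᵁ (X.fromSpecStalk x ⁻¹ᵁ V)) := (homOfLE le_top).op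
      haveI : IsIso e' := ⟨(homOfLE (le_of_eq (by rw [htop]; rfl))).op, Subsingleton.elim _ _, Subsingleton.elim _ _⟩
      have hfac : c.app V = X.presheaf.germ V x hxV ≫ q ≫ (Scheme.ΓSpecIso _).inv ≫
          (Spec (CommRingCat.of (B ⧸ M ^ (n + 1)))).presheaf.map e' := by
        rw [Scheme.Hom.comp_app, Scheme.fromSpecStalk_app hxV, Category.assoc, Category.assoc,
          Scheme.Hom.naturality]
        erw [← Scheme.ΓSpecIso_inv_naturality_assoc]
        rfl
      rw [hfac] at h0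
      have hinj : Function.Injective ((Scheme.ΓSpecIso _).inv ≫
          (Spec (CommRingCat.of (B ⧸ M ^ (n + 1)))).presheaf.map e').hom :=
        ((ConcreteCategory.isIso_iff_bijective _).1 inferInstance).1
      have : q (X.presheaf.germ V x hxV b) = 0 := hinj (h0.trans (map_zero _).symm)
      exact Ideal.Quotient.eq_zero_iff_mem.1 this
    have hbot : X.presheaf.germ V x hxV b ∈ (⨅ i : ℕ, IsLocalRing.maximalIdeal B ^ i) := by
      rw [Submodule.mem_iInf]
      intro i
      exact Ideal.pow_le_pow_right (Nat.le_succ i) (Ideal.pow_right_mono hM _ (hmem i))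
    rwa [Ideal.iInf_pow_eq_bot_of_isLocalRing _ (IsLocalRing.maximalIdeal.isMaximal _).ne_top, Submodule.mem_bot] at hbot
  -- spread out
  obtain ⟨s, hs⟩ := (IsNoetherian.noetherian (I.ideal ⟨V, hV⟩) : (I.ideal ⟨V, hV⟩).FG)
  have hloc : ∀ b ∈ s, ∃ D : X.Opens, x ∈ D ∧ ∃ hD : D ≤ V, X.presheaf.map (homOfLE hD).op b = 0 := by
    intro b hb
    obtain ⟨W, hxW, i₁, i₂, hW⟩ := X.presheaf.germ_eq x hxV hxV b 0
      (by rw [key b (hs ▸ Ideal.subset_span hb), map_zero])
    exact ⟨W, hxW, i₁.le, hW.trans (map_zero _)⟩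
  choose! D hxD hDV hD using hloc
  let W₀ : X.Opens := ⟨(V : Set X) ∩ ⋂ b ∈ s, (D b : Set X), V.2.inter (isOpen_biInter_finset fun b _ => (D b).2)⟩
  obtain ⟨a, haW, hxa⟩ := hV.exists_basicOpen_le (V := W₀) ⟨x, ⟨hxV, Set.mem_iInter₂.2 hxD⟩⟩ hxV
  refine ⟨X.basicOpen a, hxa, ?_⟩
  have hres : ∀ b ∈ I.ideal ⟨V, hV⟩, X.presheaf.map (homOfLE (X.basicOpen_le a)).op b = 0 := by
    rw [← hs]
    intro b hb
    refine Submodule.span_induction ?_ (map_zero _) (fun y z _ _ hy hz => by rw [map_add, hy, hz, add_zero])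
      (fun r y _ hy => by rw [smul_eq_mul, map_mul, hy, mul_zero]) hb
    intro b hb
    have hle : X.basicOpen a ≤ D b := fun y hy => Set.mem_iInter₂.1 (haW hy).2 b hb
    rw [show (homOfLE (X.basicOpen_le a)).op = (homOfLE (hDV b hb)).op ≫ (homOfLE hle).op from rfl,
      Functor.map_comp, CommRingCat.comp_apply, hD b hb, map_zero]
  have hbot : I.ideal (X.affineBasicOpen (U := ⟨V, hV⟩) a) = ⊥ := by
    rw [← I.map_ideal_basicOpen ⟨V, hV⟩ a]
    refine le_bot_iff.1 (Ideal.map_le_iff_le_comap.2 ?_)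
    intro b hb
    exact hres b hb
  rw [Scheme.Hom.ker, Scheme.IdealSheafData.le_ofIdeals_iff]
  intro W b hb
  rw [RingHom.mem_ker]
  refine TopCat.Presheaf.section_ext (X.basicOpen a).toScheme.sheaf _ _ _ fun z hz => ?_
  have hyW : (X.basicOpen a).ι z ∈ W.1 := hz
  obtain ⟨a', ha'le, hya'⟩ := W.2.exists_basicOpen_le (V := W.1 ⊓ X.basicOpen a)
    ⟨(X.basicOpen a).ι z, ⟨hyW, z.2⟩⟩ hyW
  have hWa : X.affineBasicOpen a' ≤ X.affineBasicOpen (U := ⟨V, hV⟩) a := fun w hw => (ha'le hw).2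
  have h1 : X.presheaf.map (homOfLE (show (X.affineBasicOpen a').1 ≤ W.1 from X.basicOpen_le a')).op b = 0 := by
    have hm : X.presheaf.map (homOfLE (show (X.affineBasicOpen a').1 ≤ W.1 from X.basicOpen_le a')).op b ∈
        I.ideal (X.affineBasicOpen a') := by
      rw [← I.map_ideal (show X.affineBasicOpen a' ≤ W from X.basicOpen_le a')]
      exact Ideal.mem_map_of_mem _ hb
    rw [← I.map_ideal hWa, hbot, Ideal.map_bot] at hm
    exact hm
  have h2 := congrArg (X.presheaf.germ (X.affineBasicOpen a').1 ((X.basicOpen a).ι z) hya') h1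
  rw [map_zero] at h2
  erw [TopCat.Presheaf.germ_res_apply] at h2
  have h3 := Scheme.Hom.germ_stalkMap_apply (X.basicOpen a).ι W.1 z hz b
  exact (h3.symm.trans ((congrArg _ h2).trans (map_zero _))).trans (map_zero _).symm

namespace Groth.Agent.S18384

/-- Let p : X → S be a morphism of locally Noetherian schemes, t a point of S, m the maximal ideal of
the local ring O_{S,t}, and Z the closed subscheme of X defined by a quasi-coherent ideal I. Suppose
that for every n ≥ 1 the projection X ×_S Spec(O_{S,t}/m^n) → X factors through Z. Then there is an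
open subscheme U of X containing every point of the fibre p⁻¹(t) such that the inclusion U → X
factors through Z. -/
theorem result {X S : Scheme.{u}}
    [IsLocallyNoetherian X] [IsLocallyNoetherian S] (p : X ⟶ S) (t : S) (I : X.IdealSheafData)
    (h : ∀ n : ℕ, ∃ g : pullback p (Spec.map (CommRingCat.ofHom (Ideal.Quotient.mk
        (IsLocalRing.maximalIdeal ↑(S.presheaf.stalk t) ^ (n + 1)))) ≫ S.fromSpecStalk t) ⟶ I.subscheme,
        g ≫ I.subschemeι = pullback.fst p _) :
    ∃ U : X.Opens, (∀ x : X, p.base x = t → x ∈ U) ∧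
      ∃ g : (U : Scheme.{u}) ⟶ I.subscheme, g ≫ I.subschemeι = U.ι := by
  choose D hxD hD using fun x : { x : X // p.base x = t } => exists_open_killed p t I h x.1 x.2
  let U : X.Opens := ⨆ x, D x
  refine ⟨U, fun x hx => TopologicalSpace.Opens.mem_iSup.2 ⟨⟨x, hx⟩, hxD ⟨x, hx⟩⟩, ?_⟩
  have hU : I.subschemeι.ker ≤ U.ι.ker := by
    rw [I.ker_subschemeι, Scheme.Hom.ker, Scheme.IdealSheafData.le_ofIdeals_iff]
    intro W b hb
    rw [RingHom.mem_ker]
    refine TopCat.Presheaf.section_ext U.toScheme.sheaf _ _ _ fun z hz => ?_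
    obtain ⟨i, hi⟩ := TopologicalSpace.Opens.mem_iSup.1 z.2
    have h0 : (D i).ι.app W.1 b = 0 := (Scheme.Hom.ideal_ker_le (D i).ι W) (hD i W hb)
    have h2 := congrArg ((D i).toScheme.presheaf.germ _ ⟨U.ι z, hi⟩ hz) h0
    rw [map_zero] at h2
    replace h2 := (Scheme.Hom.germ_stalkMap_apply (D i).ι W.1 ⟨U.ι z, hi⟩ hz b).trans h2
    rw [← Scheme.Opens.stalkIso_inv] at h2
    have h3 := ((D i).stalkIso ⟨U.ι z, hi⟩).symm.commRingCatIsoToRingEquiv.injective
      (h2.trans (map_zero _).symm)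
    exact ((Scheme.Hom.germ_stalkMap_apply U.ι W.1 z hz b).symm.trans
      ((congrArg _ h3).trans (map_zero _))).trans (map_zero _).symm
  exact ⟨IsClosedImmersion.lift I.subschemeι U.ι hU, IsClosedImmersion.lift_fac _ _ _⟩

end Groth.Agent.S18384
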