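import Groth.Statements.S18386
import Mathlib
import Groth.Prelude

set_option linter.all false

set_option autoImplicit false
universe u
open LVCorr

open CategoryTheory AlgebraicGeometry

namespace Groth.Agent.S18386

open AlgebraicGeometry in
/-- Let X be a connected Noetherian scheme and I a quasi-coherent sheaf of ideals on X, different from
the structure sheaf, such that I^k = I^(k+1) for some natural number k. Then I^k = 0. -/
theorem result (X : Scheme.{u}) [AlgebraicGeometry.IsNoetherian X]
    [ConnectedSpace X] (I : X.IdealSheafData) (hI : I ≠ ⊤) (k : ℕ)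
    (h : I ^ k = I ^ (k + 1)) : I ^ k = ⊥ := by
  have hk : k ≠ 0 := by
    rintro rfl
    apply hI
    refine Scheme.IdealSheafData.ext ?_
    have := congrArg Scheme.IdealSheafData.ideal h
    rw [Scheme.IdealSheafData.ideal_pow, Scheme.IdealSheafData.ideal_pow, pow_zero, pow_one] at this
    rw [← this, Scheme.IdealSheafData.ideal_top]; funext U; exact Ideal.one_eq_top
  set K := I ^ k with hK
  have hidem : ∀ U : X.affineOpens, IsIdempotentElem (K.ideal U) := by
    intro U
    have h1 : (I.ideal U) ^ k = (I.ideal U) ^ (k + 1) := congrFun (congrArg Scheme.IdealSheafData.ideal h) U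
    have h2 : ∀ m, (I.ideal U) ^ (k + m) = (I.ideal U) ^ k := fun m => by
      induction m with
      | zero => rfl
      | succ m ih => rw [← add_assoc, pow_succ, ih, ← pow_succ, ← h1]
    show (I.ideal U) ^ k * (I.ideal U) ^ k = (I.ideal U) ^ k
    rw [← pow_add, h2]
  have hgen : ∀ U : X.affineOpens, ∃ e : Γ(X, U.1), IsIdempotentElem e ∧ K.ideal U = Ideal.span {e} := fun U => by
    haveI := IsLocallyNoetherian.component_noetherian (X := X) U
    exact (Ideal.isIdempotentElem_iff_of_fg _ (IsNoetherian.noetherian _)).1 (hidem U)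
  choose e he hKe using hgen
  have hmem : ∀ (U : X.affineOpens) (x : X), x ∈ U.1 → (x ∈ K.support ↔ x ∉ X.basicOpen (e U)) := by
    intro U x hx
    rw [Scheme.IdealSheafData.mem_support_iff_of_mem hx, hKe, Scheme.zeroLocus_span, Scheme.mem_zeroLocus_iff]
    simp
  have hopen : IsOpen (K.support : Set X) := by
    refine isOpen_iff_forall_mem_open.2 fun x hx => ?_
    obtain ⟨_, ⟨U, hU, rfl⟩, hxU, -⟩ := X.isBasis_affineOpens.exists_subset_of_mem_open (Set.mem_univ x) isOpen_univ
    set ee := e ⟨U, hU⟩
    refine ⟨(X.basicOpen (1 - ee) : Set X), fun y hy => ?_, (X.basicOpen _).isOpen, ?_⟩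
    · have hyU : y ∈ U := X.basicOpen_le _ hy
      refine (hmem ⟨U, hU⟩ y hyU).2 fun hy' => ?_
      have : y ∈ X.basicOpen ((1 - ee) * ee) := by rw [Scheme.basicOpen_mul]; exact ⟨hy, hy'⟩
      rw [sub_mul, one_mul, (he ⟨U, hU⟩).eq, sub_self, Scheme.basicOpen_zero] at this
      exact this
    · show x ∈ X.basicOpen _
      have hx' := (hmem ⟨U, hU⟩ x hxU).1 hx
      rw [Scheme.mem_basicOpen _ _ _ hxU] at hx' ⊢
      rw [map_sub, map_one]
      exact (IsLocalRing.isUnit_or_isUnit_one_sub_self _).resolve_left hx'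
  rcases isClopen_iff.1 (⟨K.support.isClosed, hopen⟩ : IsClopen (K.support : Set X)) with h0 | h0
  · exfalso
    apply hI
    rw [← Scheme.IdealSheafData.support_eq_bot_iff, ← Scheme.IdealSheafData.support_pow I k hk]
    exact TopologicalSpace.Closeds.ext h0
  · refine Scheme.IdealSheafData.ext (funext fun U => ?_)
    rw [hKe, Scheme.IdealSheafData.ideal_bot, Pi.bot_apply, Ideal.span_singleton_eq_bot]
    have hb : X.basicOpen (e U) = ⊥ := by
      refine eq_bot_iff.2 fun y hy => ?_
      exact absurd hy ((hmem U y (X.basicOpen_le _ hy)).1 (show y ∈ (K.support : Set X) from h0 ▸ trivial))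
    exact IsIdempotentElem.eq_zero_of_isNilpotent (he U) ((Scheme.isNilpotent_iff_basicOpen_eq_bot_of_isCompact U.2.isCompact _).2 hb)

end Groth.Agent.S18386
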