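import Groth.Statements.S18387
import Mathlib.Tactic
import Mathlib.Algebra.Module.StablyFree.Basic
import Mathlib.Algebra.Order.Ring.Star
import Mathlib.Data.Rat.Star
import Mathlib.RingTheory.Flat.TorsionFree
import Mathlib.RingTheory.Henselian
import Mathlib.RingTheory.PicardGroup
import Mathlib.RingTheory.RegularLocalRing.Defs
import Mathlib.RingTheory.SimpleRing.Principal


set_option autoImplicit false
universe u
open LVCorr

namespace Groth.Agent.S18387

/-- In the affine form which its proof establishes. Let A be a commutative algebra over a field F which
is finite-dimensional of dimension d over F. Then the d-th power of the nilradical of A vanishes.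
(Applied to the fibre algebra A = B/mB of a quasi-finite morphism over a closed point with maximal
ideal m, this says that the d-th power of the radical of mB lies in mB, i.e. the ramification of the
morphism at that point is at most the degree d of the fibre.) -/
theorem result (F A : Type u) [Field F] [CommRing A] [Algebra F A]
    [FiniteDimensional F A] : nilradical A ^ Module.finrank F A = ⊥ := by
  obtain ⟨m, hm⟩ : IsNilpotent (nilradical A) := by
    haveI : IsArtinianRing A := IsArtinianRing.of_finite F A
    exact IsArtinianRing.isNilpotent_nilradical
  set N := nilradical A
  let g : ℕ → ℕ := fun k => Module.finrank F ↥((N ^ k).restrictScalars F)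
  have step : ∀ k, N ^ k ≠ ⊥ → g (k + 1) < g k := by
    intro k hk
    apply Submodule.finrank_lt_finrank_of_lt
    refine lt_of_le_of_ne ?_ ?_
    · exact fun x hx => Ideal.pow_le_pow_right (Nat.le_succ k) hx
    · intro h
      apply hk
      have h' : N ^ (k + 1) = N ^ k := Submodule.restrictScalars_injective F _ _ h
      have : ∀ j, N ^ (k + j) = N ^ k := by
        intro j
        induction j with
        | zero => rfl
        | succ j ih => rw [← add_assoc, pow_succ, ih, ← pow_succ, h']
      rw [← this m, pow_add, hm]; simp
  have key : ∀ k, N ^ k = ⊥ ∨ g k + k ≤ Module.finrank F A := by
    intro k
    induction k with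
    | zero => right; simpa [g] using Submodule.finrank_le _
    | succ k ih =>
      by_cases hk : N ^ k = ⊥
      · left; rw [pow_succ, hk]; simp
      · right
        have := step k hk
        rcases ih with h | h
        · exact absurd h hk
        · omega
  rcases key (Module.finrank F A) with h | h
  · exact h
  · have hz : g (Module.finrank F A) = 0 := by omega
    have := Submodule.finrank_eq_zero.1 hz
    exact (Submodule.restrictScalars_eq_bot_iff F A A).1 this

end Groth.Agent.S18387
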