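import Groth.Statements.S18388
import Groth.Agent.FlatMorAdm.Nagata
-- import your own Groth.Agent.* helpers here

set_option autoImplicit false
universe u
open LVCorr

namespace Groth.Agent.S18388

open CategoryTheory.Limits
open AlgebraicGeometry CategoryTheory in
/-- A correspondence admits a compactification compatible with any given compactifications of its
targets. Over a quasi-compact quasi-separated base scheme S, let C → S be separated and of finite
type, let c₁ : C → X₁ and c₂ : C → X₂ be morphisms over S, and let jᵢ : Xᵢ → X̄ᵢ (i = 1, 2) be open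
immersions over S with X̄ᵢ proper over S. Then there are a scheme C̄ proper over S, an open
immersion j : C → C̄ over S with dense image, and morphisms c̄ᵢ : C̄ → X̄ᵢ over S such that j
followed by c̄ᵢ equals cᵢ followed by jᵢ. (The source works over an algebraically closed field; the
base here is any quasi-compact quasi-separated scheme, over which compactifications of separated
schemes of finite type exist.) -/
theorem result {S C X₁ X₂ Xb₁ Xb₂ : Scheme.{u}}
    [CompactSpace S] [QuasiSeparatedSpace S]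
    (pC : C ⟶ S) [IsSeparated pC] [QuasiCompact pC] [LocallyOfFiniteType pC]
    (pX₁ : X₁ ⟶ S) (pX₂ : X₂ ⟶ S) (pXb₁ : Xb₁ ⟶ S) (pXb₂ : Xb₂ ⟶ S) [IsProper pXb₁] [IsProper pXb₂]
    (c₁ : C ⟶ X₁) (c₂ : C ⟶ X₂) (hc₁ : c₁ ≫ pX₁ = pC) (hc₂ : c₂ ≫ pX₂ = pC)
    (j₁ : X₁ ⟶ Xb₁) (j₂ : X₂ ⟶ Xb₂) [IsOpenImmersion j₁] [IsOpenImmersion j₂]
    (hj₁ : j₁ ≫ pXb₁ = pX₁) (hj₂ : j₂ ≫ pXb₂ = pX₂) :
    ∃ (Cb : Scheme.{u}) (pCb : Cb ⟶ S) (j : C ⟶ Cb) (cb₁ : Cb ⟶ Xb₁) (cb₂ : Cb ⟶ Xb₂),
      IsProper pCb ∧ IsOpenImmersion j ∧ DenseRange j.base ∧ j ≫ pCb = pC ∧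
      cb₁ ≫ pXb₁ = pCb ∧ cb₂ ≫ pXb₂ = pCb ∧ j ≫ cb₁ = c₁ ≫ j₁ ∧ j ≫ cb₂ = c₂ ≫ j₂ := by
  let P := pullback pXb₁ pXb₂
  let q : P ⟶ S := pullback.fst pXb₁ pXb₂ ≫ pXb₁
  haveI : IsProper q := by show IsProper (pullback.fst pXb₁ pXb₂ ≫ pXb₁); infer_instance
  haveI : CompactSpace P := QuasiCompact.compactSpace_of_compactSpace q
  haveI : QuasiSeparatedSpace P := quasiSeparatedSpace_of_quasiSeparated q
  let i : C ⟶ P := pullback.lift (c₁ ≫ j₁) (c₂ ≫ j₂)
    (by simp only [Category.assoc, hj₁, hj₂, hc₁, hc₂])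
  have hiq : i ≫ q = pC := by
    show pullback.lift _ _ _ ≫ pullback.fst pXb₁ pXb₂ ≫ pXb₁ = pC
    rw [pullback.lift_fst_assoc, Category.assoc, hj₁, hc₁]
  haveI : IsSeparated i := by
    haveI : IsSeparated (i ≫ q) := by rw [hiq]; infer_instance
    exact IsSeparated.of_comp i q
  haveI : LocallyOfFiniteType i := by
    haveI : LocallyOfFiniteType (i ≫ q) := by rw [hiq]; infer_instance
    exact locallyOfFiniteType_of_comp i q
  haveI : QuasiCompact i := by
    haveI : QuasiCompact (i ≫ q) := by rw [hiq]; infer_instance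
    exact MorphismProperty.of_postcomp (W := @QuasiCompact.{u}) (W' := @QuasiSeparated.{u}) i q
      inferInstance inferInstance
  obtain ⟨Y, j, p, hj, hjc, hp, hjp⟩ := Groth.Agent.FlatMorAdm.compactifiable i
  refine ⟨j.image, j.imageι ≫ p ≫ q, j.toImage, j.imageι ≫ p ≫ pullback.fst pXb₁ pXb₂,
    j.imageι ≫ p ≫ pullback.snd pXb₁ pXb₂, inferInstance, inferInstance, j.toImage.denseRange,
    ?_, ?_, ?_, ?_, ?_⟩
  · rw [Scheme.Hom.toImage_imageι_assoc, ← Category.assoc, hjp, hiq]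
  · simp only [q, Category.assoc]
  · simp only [q, Category.assoc, pullback.condition]
  · rw [Scheme.Hom.toImage_imageι_assoc, ← Category.assoc, hjp]; exact pullback.lift_fst _ _ _
  · rw [Scheme.Hom.toImage_imageι_assoc, ← Category.assoc, hjp]; exact pullback.lift_snd _ _ _

end Groth.Agent.S18388
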