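import Groth.Statements.S18389
import Mathlib
import Groth.Prelude
import Groth.Agent.CAlgMisc2.Normal

set_option linter.all false

set_option autoImplicit false
universe u
open LVCorr

open AlgebraicGeometry CategoryTheory DirectSum

namespace Groth.Agent.S18389

open AlgebraicGeometry CategoryTheory in
/-- Let j : C → C̄ be an open immersion with dense image and jX : X → X̄ an open immersion, and let c₁ :
C → X and c̄₁ : C̄ → X̄ satisfy j followed by c̄₁ equals c₁ followed by jX, with c̄₁ separated. Let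
U be an open subset of X such that c₁⁻¹(U) is dense in C and the restriction c₁⁻¹(U) → U of c₁ is
proper. Then c̄₁⁻¹(jX(U)) = j(c₁⁻¹(U)) as open subsets of C̄. (In the source all schemes are
separated of finite type over a field, C̄ and X̄ are compactifications of a correspondence and of X,
so that c̄₁ is automatically separated.) -/
theorem result {C Cb X Xb : Scheme.{u}}
    (j : C ⟶ Cb) [IsOpenImmersion j] (hj : DenseRange j.base)
    (jX : X ⟶ Xb) [IsOpenImmersion jX] (c₁ : C ⟶ X) (cb₁ : Cb ⟶ Xb) [IsSeparated cb₁]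
    (h : j ≫ cb₁ = c₁ ≫ jX) (U : X.Opens) (hU : Dense ((c₁ ⁻¹ᵁ U : C.Opens) : Set C))
    [IsProper (c₁ ∣_ U)] :
    cb₁ ⁻¹ᵁ (jX ''ᵁ U) = j ''ᵁ (c₁ ⁻¹ᵁ U) := by
  let W := cb₁ ⁻¹ᵁ (jX ''ᵁ U)
  let V := c₁ ⁻¹ᵁ U
  have hsub : Set.range (V.ι ≫ j).base ⊆ (W : Set Cb) := by
    rintro _ ⟨v, rfl⟩
    refine ⟨c₁.base v.1, v.2, ?_⟩
    show (c₁ ≫ jX).base v.1 = (j ≫ cb₁).base v.1
    rw [h]
  let g : V.toScheme ⟶ W.toScheme := IsOpenImmersion.lift W.ι (V.ι ≫ j) (by simpa using hsub)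
  have hg : g ≫ W.ι = V.ι ≫ j := IsOpenImmersion.lift_fac _ _ _
  have hcomp : g ≫ (cb₁ ∣_ (jX ''ᵁ U)) = (c₁ ∣_ U) ≫ (jX.isoImage U).hom := by
    rw [← cancel_mono (jX ''ᵁ U).ι, Category.assoc, Category.assoc, morphismRestrict_ι, Scheme.Hom.isoImage_hom_ι,
      reassoc_of% hg, h, morphismRestrict_ι_assoc]
  haveI : IsSeparated (cb₁ ∣_ (jX ''ᵁ U)) := inferInstance
  haveI : IsProper (g ≫ (cb₁ ∣_ (jX ''ᵁ U))) := by rw [hcomp]; infer_instance
  haveI : IsProper g := IsProper.of_comp g (cb₁ ∣_ (jX ''ᵁ U))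
  have hclosed : IsClosed (Set.range g.base) := g.isClosedMap.isClosed_range
  have hrange : W.ι.base '' Set.range g.base = j.base '' (V : Set C) := by
    rw [← Set.range_comp]
    ext y
    constructor
    · rintro ⟨v, rfl⟩
      refine ⟨v.1, v.2, ?_⟩
      show _ = (g ≫ W.ι).base v
      rw [hg]; rfl
    · rintro ⟨c, hc, rfl⟩
      exact ⟨⟨c, hc⟩, show (g ≫ W.ι).base _ = _ by rw [hg]; rfl⟩
  have hdense : Dense (j.base '' (V : Set C)) := hj.dense_image j.continuous hU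
  ext y
  constructor
  · intro hy
    obtain ⟨O, hO, hgO⟩ := W.ι.isOpenEmbedding.isInducing.isOpen_iff.1 hclosed.isOpen_compl
    by_contra hny
    have hyO : y ∈ O := by
      have h1 : (⟨y, hy⟩ : W.toScheme) ∉ Set.range g.base := fun hr => hny (hrange.le ⟨_, hr, rfl⟩)
      exact hgO.ge h1
    obtain ⟨z, ⟨hzO, hzW⟩, hzV⟩ := mem_closure_iff.1 (hdense y) (O ∩ (W : Set Cb)) (hO.inter W.2) ⟨hyO, hy⟩
    rw [← hrange] at hzV
    obtain ⟨w, hw, rfl⟩ := hzV
    have h2 : w ∈ W.ι.base ⁻¹' O := hzO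
    rw [hgO] at h2
    exact h2 hw
  · rintro ⟨c, hc, rfl⟩
    exact hsub ⟨⟨c, hc⟩, rfl⟩

end Groth.Agent.S18389
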