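import Groth.Statements.S18390
import Mathlib

set_option linter.all false

set_option autoImplicit false
universe u
open LVCorr

open TensorProduct

namespace Groth.Agent.S18390

/-- In the affine, ring-theoretic form which its proof establishes. Let φ : A' → A be a ring
homomorphism, I' a finitely generated ideal of A' and I an ideal of A containing the image of I'.
Then some power I'^k is mapped into I^(k+1) if and only if for every n ≥ 1 and every a ∈ I'^n there
is a k with φ(a)^k ∈ I^(nk+1). (Geometrically, for a morphism f : (X, Z) → (X', Z') of pairs with Z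
a closed subscheme of the preimage of Z', the normal cone of Z in X is the spectrum of the
associated graded algebra of I, and the second condition says that the induced map of normal cones
sends the normal cone of Z set-theoretically into the zero section Z'; the source states the
equivalence in that language.) -/
theorem result (A' A : Type u) [CommRing A'] [CommRing A]
    (φ : A' →+* A) (I' : Ideal A') (hI' : I'.FG) (I : Ideal A) (hle : I'.map φ ≤ I) :
    (∃ k : ℕ, (I' ^ k).map φ ≤ I ^ (k + 1)) ↔
      ∀ n : ℕ, 1 ≤ n → ∀ a ∈ I' ^ n, ∃ k : ℕ, 1 ≤ k ∧ φ a ^ k ∈ I ^ (n * k + 1) := by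
  constructor
  · rintro ⟨k, hk⟩ n hn a ha
    refine ⟨k + 1, by omega, ?_⟩
    have h1 : (I' ^ (k + 1)).map φ ≤ I ^ (k + 2) := by
      rw [pow_succ, Ideal.map_mul, pow_succ]; exact Ideal.mul_mono hk hle
    have h2 : φ a ^ (k + 1) ∈ ((I' ^ (k + 1)).map φ) ^ n := by
      rw [← Ideal.map_pow, ← pow_mul, mul_comm, pow_mul, ← map_pow]
      exact Ideal.mem_map_of_mem φ (Ideal.pow_mem_pow ha _)
    have h3 := Ideal.pow_right_mono h1 n h2
    rw [← pow_mul] at h3
    exact Ideal.pow_le_pow_right (by nlinarith) h3
  · intro h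
    classical
    obtain ⟨s, hs⟩ := hI'
    suffices ∀ t : Finset A', (t : Set A') ⊆ I' → ∃ k : ℕ, ((Ideal.span (t : Set A')).map φ) ^ k ≤ I ^ (k + 1) by
      obtain ⟨k, hk⟩ := this s (hs ▸ Ideal.subset_span)
      exact ⟨k, by rw [Ideal.map_pow, ← hs]; exact hk⟩
    intro t
    induction t using Finset.induction_on with
    | empty => exact fun _ => ⟨1, by simp⟩
    | insert a t _ ih =>
      intro hsub
      rw [Finset.coe_insert, Set.insert_subset_iff] at hsub
      obtain ⟨k, hk⟩ := ih hsub.2
      obtain ⟨l, hl, hal⟩ := h 1 le_rfl a (by rw [pow_one]; exact hsub.1)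
      rw [one_mul] at hal
      refine ⟨k + l, ?_⟩
      rw [Finset.coe_insert, Ideal.span_insert, Ideal.map_sup, Ideal.map_span, Set.image_singleton, ← Ideal.add_eq_sup, add_pow]
      set P := Ideal.span {φ a}
      set Q := (Ideal.span (t : Set A')).map φ
      have hP : P ≤ I := Ideal.span_le.2 (Set.singleton_subset_iff.2 (hle (Ideal.mem_map_of_mem φ hsub.1)))
      have hQ : Q ≤ I := le_trans (Ideal.map_mono (Ideal.span_le.2 hsub.2)) hle
      have hPl : P ^ l ≤ I ^ (l + 1) := by
        rw [Ideal.span_singleton_pow, Ideal.span_le, Set.singleton_subset_iff]; exact hal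
      refine Finset.sum_induction _ (fun J : Ideal A => J ≤ I ^ (k + l + 1)) (fun J K hJ hK => sup_le hJ hK) (by simp) fun i hi => ?_
      rw [Finset.mem_range] at hi
      refine le_trans Ideal.mul_le_left ?_
      by_cases hli : l ≤ i
      · calc P ^ i * Q ^ (k + l - i) = P ^ l * (P ^ (i - l) * Q ^ (k + l - i)) := by
              rw [← mul_assoc, ← pow_add, Nat.add_sub_cancel' hli]
          _ ≤ I ^ (l + 1) * (I ^ (i - l) * I ^ (k + l - i)) :=
              Ideal.mul_mono hPl (Ideal.mul_mono (Ideal.pow_right_mono hP _) (Ideal.pow_right_mono hQ _))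
          _ ≤ _ := by rw [← pow_add, ← pow_add]; exact Ideal.pow_le_pow_right (by omega)
      · calc P ^ i * Q ^ (k + l - i) = P ^ i * Q ^ (l - i) * Q ^ k := by
              rw [mul_assoc, ← pow_add]; congr 2; omega
          _ ≤ I ^ i * I ^ (l - i) * I ^ (k + 1) :=
              Ideal.mul_mono (Ideal.mul_mono (Ideal.pow_right_mono hP _) (Ideal.pow_right_mono hQ _)) hk
          _ ≤ _ := by rw [← pow_add, ← pow_add]; exact Ideal.pow_le_pow_right (by omega)

end Groth.Agent.S18390
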