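import Groth.Statements.S18391
import Mathlib.RingTheory.DiscreteValuationRing.TFAE
import Mathlib.RingTheory.Ideal.KrullsHeightTheorem
import Mathlib.RingTheory.Localization.Away.Basic

set_option autoImplicit false
universe u
open LVCorr

namespace Groth.Agent.S18391

theorem exists_smul_mem {A B : Type*} [CommRing A] [CommRing B] [Algebra A B] (M : Submonoid A) [IsLocalization M B]
    (I J : Ideal A) (hI : I.FG) (h : I.map (algebraMap A B) ≤ J.map (algebraMap A B)) :
    ∃ m ∈ M, ∀ x ∈ I, m * x ∈ J := by
  classical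
  obtain ⟨s, rfl⟩ := hI
  have h1 : ∀ g ∈ s, ∃ m ∈ M, m * g ∈ J := fun g hg =>
    (IsLocalization.algebraMap_mem_map_algebraMap_iff M B J g).mp (h (Ideal.mem_map_of_mem _ (Ideal.subset_span hg)))
  choose m hm hmg using h1
  refine ⟨∏ g ∈ s.attach, m g g.2, Submonoid.prod_mem M fun g _ => hm g g.2, fun x hx => ?_⟩
  induction hx using Submodule.span_induction with
  | mem g hg =>
    rw [← Finset.mul_prod_erase _ _ (Finset.mem_attach s ⟨g, hg⟩), mul_comm (m g hg), mul_assoc]
    exact J.mul_mem_left _ (hmg g hg)
  | zero => simp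
  | add x y _ _ hx hy => rw [mul_add]; exact J.add_mem hx hy
  | smul a x _ hx => rw [smul_eq_mul, mul_left_comm]; exact J.mul_mem_left a hx

theorem map_eq_map_of_mul_mem {A C : Type*} [CommRing A] [CommRing C] (f : A →+* C) (w : A) (hw : IsUnit (f w))
    (I J : Ideal A) (h : ∀ x ∈ I, w * x ∈ J) : I.map f ≤ J.map f := by
  rw [Ideal.map_le_iff_le_comap]
  intro x hx
  have h1 := Ideal.mem_map_of_mem f (h x hx)
  rw [map_mul] at h1
  exact ((J.map f).unit_mul_mem_iff_mem hw).mp h1


/-- Let A be a normal (integrally closed) Noetherian domain and z an element of A such that the radical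
of the principal ideal (z) is prime. Then there exist elements w, t of A and a natural number r,
with w not in the radical of (z), such that in the localization A[1/w] the ideal generated by z
equals the ideal generated by t^r and the ideal generated by t is prime. (The condition on w is the
one the printed proof produces and the later use of the lemma needs.) -/
theorem result (A : Type u) [CommRing A] [IsDomain A]
    [IsNoetherianRing A] [IsIntegrallyClosed A] (z : A) (hz : (Ideal.span {z}).radical.IsPrime) :
    ∃ (w t : A) (r : ℕ), w ∉ (Ideal.span {z}).radical ∧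
      Ideal.span {algebraMap A (Localization.Away w) z} =
        Ideal.span {algebraMap A (Localization.Away w) t ^ r} ∧
      (Ideal.span {algebraMap A (Localization.Away w) t}).IsPrime := by
  set P := (Ideal.span {z}).radical with hPdef
  have hzP : z ∈ P := Ideal.le_radical (Ideal.mem_span_singleton_self z)
  rcases eq_or_ne z 0 with rfl | hz0
  · have hP : P = ⊥ := by
      rw [hPdef, Ideal.span_singleton_eq_bot.mpr rfl]
      exact Ideal.isPrime_bot.radical
    refine ⟨1, 0, 1, by rw [hP]; exact fun h => one_ne_zero (Ideal.mem_bot.mp h), by rw [pow_one], ?_⟩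
    rw [map_zero, Ideal.span_singleton_eq_bot.mpr rfl, ← Ideal.map_bot (f := algebraMap A (Localization.Away (1 : A)))]
    exact IsLocalization.isPrime_of_isPrime_disjoint (Submonoid.powers (1 : A)) _ ⊥ Ideal.isPrime_bot
      (Set.disjoint_left.mpr fun x ⟨k, hk⟩ hx => by simp [← hk] at hx)
  let B := Localization.AtPrime P
  have hinj : Function.Injective (algebraMap A B) :=
    IsLocalization.injective B P.primeCompl_le_nonZeroDivisors
  have : IsDomain B := IsLocalization.isDomain_localization P.primeCompl_le_nonZeroDivisors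
  have : IsIntegrallyClosed B := isIntegrallyClosed_of_isLocalization B P.primeCompl P.primeCompl_le_nonZeroDivisors
  have : IsNoetherianRing B := IsLocalization.isNoetherianRing P.primeCompl B inferInstance
  have hmin : P ∈ (Ideal.span {z}).minimalPrimes :=
    ⟨⟨hz, Ideal.le_radical⟩, fun q hq _ => hq.1.radical_le_iff.mpr hq.2⟩
  have hht : P.height ≤ 1 := Ideal.height_le_one_of_isPrincipal_of_mem_minimalPrimes _ _ hmin
  have huniq : ∀ Q : Ideal B, Q ≠ ⊥ → Q.IsPrime → Q = IsLocalRing.maximalIdeal B := by
    intro Q hQ hQp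
    have hQP : Q.comap (algebraMap A B) ≤ P := by
      conv_rhs => rw [← IsLocalization.AtPrime.comap_maximalIdeal B P]
      exact Ideal.comap_mono (IsLocalRing.le_maximalIdeal hQp.ne_top)
    have hne : Q.comap (algebraMap A B) ≠ ⊥ := fun h => hQ (by
      rw [← IsLocalization.map_comap P.primeCompl B Q]; change Ideal.map _ (Q.comap (algebraMap A B)) = _; rw [h, Ideal.map_bot])
    rcases hQP.eq_or_lt with h | h
    · rw [← IsLocalization.map_comap P.primeCompl B Q]
      change Ideal.map _ (Q.comap (algebraMap A B)) = _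
      rw [h]
      exact Localization.AtPrime.map_eq_maximalIdeal
    · exfalso
      have hq := Ideal.comap_isPrime (algebraMap A B) Q
      have h1 : (⊥ : Ideal A).height < (Q.comap (algebraMap A B)).height :=
        Ideal.height_strict_mono_of_isPrime_of_isPrime (bot_lt_iff_ne_bot.mpr hne)
      have h2 := Ideal.height_strict_mono_of_isPrime_of_isPrime h
      exact (not_lt.mpr hht) ((Order.one_le_iff_pos.mpr (bot_le.trans_lt h1)).trans_lt h2)
  have hT := tfae_of_isNoetherianRing_of_isLocalRing_of_isDomain B
  have h34 : (IsIntegrallyClosed B ∧ ∀ Q : Ideal B, Q ≠ ⊥ → Q.IsPrime → Q = IsLocalRing.maximalIdeal B) ↔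
      (IsLocalRing.maximalIdeal B).IsPrincipal := hT.out 3 4
  have hprinc := h34.mp ⟨inferInstance, huniq⟩
  have hpow : ∀ I : Ideal B, I ≠ ⊥ → ∃ n : ℕ, I = IsLocalRing.maximalIdeal B ^ n := by
    have h46 : (IsLocalRing.maximalIdeal B).IsPrincipal ↔ _ := hT.out 4 6
    exact h46.mp hprinc
  obtain ⟨β, hβ⟩ := hprinc
  obtain ⟨⟨t, s⟩, hs⟩ := IsLocalization.surj P.primeCompl β
  have ht : IsLocalRing.maximalIdeal B = Ideal.span {algebraMap A B t} := by
    rw [hβ, Ideal.submodule_span_eq, ← Ideal.span_singleton_mul_right_unit (IsLocalization.map_units B s) β]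
    exact congrArg (fun x => Ideal.span {x}) hs
  obtain ⟨r, hr⟩ := hpow (Ideal.span {algebraMap A B z}) fun h =>
    hz0 (hinj (by rw [map_zero]; exact Ideal.span_singleton_eq_bot.mp h))
  rw [ht, Ideal.span_singleton_pow, ← map_pow] at hr
  have htP : t ∈ P := by
    rw [← IsLocalization.AtPrime.comap_maximalIdeal B P, Ideal.mem_comap, ht]
    exact Ideal.mem_span_singleton_self _
  have hPB : P.map (algebraMap A B) ≤ (Ideal.span {t}).map (algebraMap A B) := by
    rw [Ideal.map_span, Set.image_singleton, ← ht]
    exact le_of_eq Localization.AtPrime.map_eq_maximalIdeal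
  have hm1 : ∀ x y : A, Ideal.span {algebraMap A B x} = Ideal.span {algebraMap A B y} →
      ∃ m ∈ P.primeCompl, ∀ v ∈ Ideal.span {x}, m * v ∈ Ideal.span {y} := fun x y h =>
    exists_smul_mem (B := B) P.primeCompl _ _ ⟨{x}, by simp⟩
      (by rw [Ideal.map_span, Ideal.map_span, Set.image_singleton, Set.image_singleton, h])
  obtain ⟨m₁, hm₁, hm₁'⟩ := hm1 z (t ^ r) hr
  obtain ⟨m₂, hm₂, hm₂'⟩ := hm1 (t ^ r) z hr.symm
  obtain ⟨m₃, hm₃, hm₃'⟩ := exists_smul_mem (B := B) P.primeCompl P (Ideal.span {t}) (IsNoetherian.noetherian P) hPB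
  have hw : m₁ * m₂ * m₃ ∈ P.primeCompl := mul_mem (mul_mem hm₁ hm₂) hm₃
  set w := m₁ * m₂ * m₃ with hwdef
  have hu : IsUnit (algebraMap A (Localization.Away w) w) :=
    IsLocalization.Away.algebraMap_isUnit w
  rw [hwdef, map_mul, map_mul, IsUnit.mul_iff, IsUnit.mul_iff] at hu
  refine ⟨w, t, r, hw, le_antisymm ?_ ?_, ?_⟩
  · have := map_eq_map_of_mul_mem _ m₁ hu.1.1 _ _ hm₁'
    rwa [Ideal.map_span, Ideal.map_span, Set.image_singleton, Set.image_singleton, map_pow] at this
  · have := map_eq_map_of_mul_mem _ m₂ hu.1.2 _ _ hm₂'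
    rwa [Ideal.map_span, Ideal.map_span, Set.image_singleton, Set.image_singleton, map_pow] at this
  · have he : Ideal.span {algebraMap A (Localization.Away w) t} = P.map (algebraMap A (Localization.Away w)) := by
      refine le_antisymm ?_ ?_
      · rw [Ideal.span_singleton_le_iff_mem]
        exact Ideal.mem_map_of_mem _ htP
      · have := map_eq_map_of_mul_mem _ m₃ hu.2 _ _ hm₃'
        rwa [Ideal.map_span, Set.image_singleton] at this
    rw [he]
    exact IsLocalization.isPrime_of_isPrime_disjoint (Submonoid.powers w) _ P hz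
      (Set.disjoint_left.mpr fun x ⟨k, hk⟩ hx => hw (hz.mem_of_pow_mem k (by subst hk; exact hx)))

end Groth.Agent.S18391
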