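import Groth.Statements.S18392
import Mathlib
import Groth.Prelude

set_option linter.all false

set_option autoImplicit false
universe u
open LVCorr

open scoped BigOperators

namespace Groth.Agent.S18392

/-- Let A be a normal (integrally closed) Noetherian domain and z an element of A such that the radical
of (z) is prime. Then for every non-empty open subset V of Spec A contained in the basic open set
D(z) (that is, every non-empty open subset of Spec A[1/z]) there is an element x of A, not in the
radical of (z), such that the basic open set D(xz) = Spec A[1/xz] is contained in V. -/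
theorem result (A : Type u) [CommRing A]
    [IsDomain A] [IsNoetherianRing A] [IsIntegrallyClosed A] (z : A)
    (hz : (Ideal.span {z}).radical.IsPrime) (V : Set (PrimeSpectrum A)) (hV : IsOpen V)
    (hVz : V ⊆ (PrimeSpectrum.basicOpen z : Set (PrimeSpectrum A))) (hne : V.Nonempty) :
    ∃ x : A, x ∉ (Ideal.span {z}).radical ∧
      ((PrimeSpectrum.basicOpen (x * z) : TopologicalSpace.Opens (PrimeSpectrum A)) :
        Set (PrimeSpectrum A)) ⊆ V := by
  classical
  obtain ⟨q, hq⟩ := hne
  obtain ⟨_, ⟨f, rfl⟩, hqf, hfV⟩ := PrimeSpectrum.isTopologicalBasis_basic_opens.exists_subset_of_mem_open hq hV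
  have hf0 : f ≠ 0 := fun h => hqf (h ▸ q.asIdeal.zero_mem)
  set P := (Ideal.span {z}).radical with hP
  haveI := hz
  have hPmin : P ∈ (Ideal.span {z}).minimalPrimes := by
    rw [← Ideal.radical_minimalPrimes, ← hP, Ideal.minimalPrimes_eq_subsingleton_self]; rfl
  have hht := Ideal.height_le_one_of_isPrincipal_of_mem_minimalPrimes (Ideal.span {z}) P hPmin
  have hfin := Ideal.finite_minimalPrimes_of_isNoetherianRing A (Ideal.span {f})
  set S := hfin.toFinset.erase P with hS
  have hle : ¬ S.inf id ≤ P := by
    intro h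
    obtain ⟨Q, hQS, hQP⟩ := (Ideal.IsPrime.inf_le' hz).1 h
    simp only [hS, Finset.mem_erase, Set.Finite.mem_toFinset] at hQS
    haveI : Q.IsPrime := hQS.2.1.1
    have hlt : Q < P := lt_of_le_of_ne hQP hQS.1
    have h0 : (⊥ : Ideal A) < Q := bot_lt_iff_ne_bot.2 fun h0 => hf0 (by
      have := hQS.2.1.2 (Ideal.mem_span_singleton_self f)
      rwa [h0, Ideal.mem_bot] at this)
    have h1 := Ideal.height_strict_mono_of_isPrime h0
    have h2 := Ideal.height_strict_mono_of_isPrime hlt
    have h3 : Q.height < 1 := h2.trans_le hht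
    exact absurd (h1.trans_le (ENat.lt_one_iff_eq_zero.1 h3).le) not_lt_zero
  obtain ⟨x, hx, hxP⟩ := SetLike.not_le_iff_exists.1 hle
  refine ⟨x, hxP, fun p hp => hfV ?_⟩
  show f ∉ p.asIdeal
  intro hfp
  apply hp
  obtain ⟨Q, hQ, hQp⟩ := Ideal.exists_minimalPrimes_le ((Ideal.span_singleton_le_iff_mem _).2 hfp)
  by_cases hQP : Q = P
  · exact p.asIdeal.mul_mem_left x (hQp (hQP ▸ Ideal.le_radical (Ideal.mem_span_singleton_self z)))
  · have hQS : Q ∈ S := by simp [hS, hQP, hQ]
    have hle' : S.inf id ≤ Q := Finset.inf_le (f := id) hQS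
    exact p.asIdeal.mul_mem_right z (hQp (hle' hx))

end Groth.Agent.S18392
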