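import Groth.Statements.S18393
import Mathlib
import Groth.Prelude
import Groth.Agent.CAlgMisc2.Normal

set_option linter.all false

set_option autoImplicit false
universe u v
open LVCorr

open AlgebraicGeometry CategoryTheory DirectSum

namespace Groth.Agent.S18393

/-- Stated for the underlying continuous maps. Let c₁, c₂ : C → X be continuous maps with C a Noetherian
topological space, let Z be a closed subset of X and B the closure in C of c₂⁻¹(Z) ∖ c₁⁻¹(Z). Call Z
locally invariant when every point x of Z has an open neighbourhood U such that every y in C with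
c₂(y) ∈ Z ∩ U and c₁(y) ∈ U satisfies c₁(y) ∈ Z. Then Z is locally invariant if and only if for
every irreducible subset T of B the closures of c₁(T) and of c₂(T) in X are disjoint. (The source
states this for a correspondence c = (c₁, c₂) : C → X × X of separated schemes of finite type over
an algebraically closed field and for the irreducible components of B; the condition for all
irreducible subsets of B is the same condition.) -/
theorem result {C : Type u} {X : Type v}
    [TopologicalSpace C] [TopologicalSpace X] [TopologicalSpace.NoetherianSpace C]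
    (c₁ c₂ : C → X) (hc₁ : Continuous c₁) (hc₂ : Continuous c₂) (Z : Set X) (hZ : IsClosed Z) :
    (∀ x ∈ Z, ∃ U : Set X, IsOpen U ∧ x ∈ U ∧
        ∀ y : C, c₂ y ∈ Z → c₂ y ∈ U → c₁ y ∈ U → c₁ y ∈ Z) ↔
      ∀ T : Set C, T ⊆ closure (c₂ ⁻¹' Z \ c₁ ⁻¹' Z) → IsIrreducible T →
        closure (c₁ '' T) ∩ closure (c₂ '' T) = ∅ := by
  classical
  let F := c₂ ⁻¹' Z \ c₁ ⁻¹' Z
  have hF : closure F ⊆ c₂ ⁻¹' Z := closure_minimal Set.sdiff_subset (hZ.preimage hc₂)
  constructor
  · intro h T hT hirr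
    rw [Set.eq_empty_iff_forall_notMem]
    rintro x ⟨h1, h2⟩
    have hxZ : x ∈ Z := closure_minimal (Set.image_subset_iff.2 (hT.trans hF)) hZ h2
    obtain ⟨U, hU, hxU, hloc⟩ := h x hxZ
    obtain ⟨_, hy1, y1, hy1T, rfl⟩ := mem_closure_iff.1 h1 U hU hxU
    obtain ⟨_, hy2, y2, hy2T, rfl⟩ := mem_closure_iff.1 h2 U hU hxU
    obtain ⟨y, hyT, hya, hyb⟩ := hirr.2 _ _ (hU.preimage hc₁) (hU.preimage hc₂) ⟨y1, hy1T, hy1⟩ ⟨y2, hy2T, hy2⟩
    obtain ⟨z, ⟨hz1, hz2⟩, hzF⟩ := mem_closure_iff.1 (hT hyT) _ ((hU.preimage hc₁).inter (hU.preimage hc₂)) ⟨hya, hyb⟩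
    exact hzF.2 (hloc z hzF.1 hz2 hz1)
  · intro h x hx
    obtain ⟨S, hSf, hS, hirr, hun⟩ := TopologicalSpace.NoetherianSpace.exists_finite_set_isClosed_irreducible (isClosed_closure (s := F))
    have hex : ∀ T ∈ S, ∃ U : Set X, IsOpen U ∧ x ∈ U ∧ ∀ y ∈ T, c₁ y ∈ U → c₂ y ∉ U := by
      intro T hT
      have hsub : T ⊆ closure F := hun ▸ Set.subset_sUnion_of_mem hT
      have hdisj := h T hsub (hirr T hT)
      by_cases h1 : x ∈ closure (c₁ '' T)
      · have h2 : x ∉ closure (c₂ '' T) := fun h2 => by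
          have : x ∈ (∅ : Set X) := hdisj ▸ ⟨h1, h2⟩
          exact this
        exact ⟨_, isClosed_closure.isOpen_compl, h2, fun y hy _ hb => hb (subset_closure ⟨y, hy, rfl⟩)⟩
      · exact ⟨_, isClosed_closure.isOpen_compl, h1, fun y hy ha _ => ha (subset_closure ⟨y, hy, rfl⟩)⟩
    choose U hUo hxU hU using hex
    haveI := hSf.to_subtype
    refine ⟨⋂ T : S, U T.1 T.2, isOpen_iInter_of_finite fun T => hUo _ _, Set.mem_iInter.2 fun T => hxU _ _,
      fun y hyZ hy2 hy1 => ?_⟩
    by_contra hy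
    have hyF : y ∈ ⋃₀ S := hun ▸ subset_closure (show y ∈ F from ⟨hyZ, hy⟩)
    obtain ⟨T, hT, hyT⟩ := hyF
    exact hU T hT y hyT (Set.mem_iInter.1 hy1 ⟨T, hT⟩) (Set.mem_iInter.1 hy2 ⟨T, hT⟩)

end Groth.Agent.S18393
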