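import Groth.Statements.S18394
import Groth.Agent.CommAlg4.CompactDisjoint
-- import your own Groth.Agent.* helpers here

set_option autoImplicit false
universe u v
open LVCorr

namespace Groth.Agent.S18394

open AlgebraicGeometry CategoryTheory in
/-- Let X be a scheme separated and of finite type over a field k, and let (C₁ᵢ, C₂ᵢ), i ranging over a
finite set, be pairs of closed subsets of X with C₁ᵢ and C₂ᵢ disjoint for every i. Then X admits a
compactification in which each pair stays disjoint: there are a scheme X̄ proper over k and an open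
immersion j : X → X̄ over k with dense image such that for every i the closures of j(C₁ᵢ) and of
j(C₂ᵢ) in X̄ do not meet. (The source has k algebraically closed.) -/
theorem result {X : Scheme.{u}} (k : Type u) [Field k]
    (pX : X ⟶ Spec (CommRingCat.of k)) [IsSeparated pX] [QuasiCompact pX] [LocallyOfFiniteType pX]
    {ι : Type v} [Finite ι] (C₁ C₂ : ι → Set X) (h₁ : ∀ i, IsClosed (C₁ i)) (h₂ : ∀ i, IsClosed (C₂ i))
    (hd : ∀ i, C₁ i ∩ C₂ i = ∅) :
    ∃ (Xb : Scheme.{u}) (j : X ⟶ Xb) (p : Xb ⟶ Spec (CommRingCat.of k)),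
      IsProper p ∧ IsOpenImmersion j ∧ DenseRange j.base ∧ j ≫ p = pX ∧
      ∀ i, closure (j.base '' C₁ i) ∩ closure (j.base '' C₂ i) = ∅ := by
  obtain ⟨Y, j, p, hj, -, hp, hjp⟩ := Groth.Agent.FlatMorAdm.compactifiable pX
  obtain ⟨Y', c, j', hc, hj', hden, hjc, hdis⟩ :=
    Groth.Agent.CommAlg4.exists_refine_disjoint j p C₁ C₂ h₁ h₂ hd
  exact ⟨Y', j', c ≫ p, inferInstance, hj', hden, by rw [← Category.assoc, hjc, hjp], hdis⟩

end Groth.Agent.S18394
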