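import Groth.Statements.S18395
import Groth.Agent.CommAlg4.CompactDisjoint
import Groth.Agent.S18388
import Groth.Agent.S18393
-- import your own Groth.Agent.* helpers here

set_option autoImplicit false
set_option maxHeartbeats 1600000
universe u
open LVCorr

namespace Groth.Agent.S18395

open CategoryTheory.Limits
open AlgebraicGeometry CategoryTheory in
/-- Let X and C be schemes separated and of finite type over a field k, let c₁, c₂ : C → X be morphisms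
over k (a correspondence C → X × X), and fix an open U ⊆ X whose preimage c₁⁻¹(U) forms a dense
subset of C, such that the restriction c₁⁻¹(U) → U of c₁ is proper, and the closed subset Z = X ∖ U
is locally invariant: every point x of Z has an open neighbourhood U' such that every y in C with
c₂(y) ∈ Z ∩ U' and c₁(y) ∈ U' satisfies c₁(y) ∈ Z. Then the correspondence has a compactification
for which the complement of U is again locally invariant: there are schemes C̄ and X̄ proper over k,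
open immersions j : C → C̄ and jX : X → X̄ over k with dense images, and morphisms c̄₁, c̄₂ : C̄ →
X̄ over k with j followed by c̄ᵢ equal to cᵢ followed by jX, such that X̄ ∖ jX(U) is locally
invariant for (c̄₁, c̄₂) in the same sense. (The source has k algebraically closed.) -/
theorem result {C X : Scheme.{u}} (k : Type u) [Field k]
    (pC : C ⟶ Spec (CommRingCat.of k)) [IsSeparated pC] [QuasiCompact pC] [LocallyOfFiniteType pC]
    (pX : X ⟶ Spec (CommRingCat.of k)) [IsSeparated pX] [QuasiCompact pX] [LocallyOfFiniteType pX]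
    (c₁ c₂ : C ⟶ X) (hc₁ : c₁ ≫ pX = pC) (hc₂ : c₂ ≫ pX = pC) (U : X.Opens)
    (hU : Dense ((c₁ ⁻¹ᵁ U : C.Opens) : Set C)) [IsProper (c₁ ∣_ U)]
    (hZ : ∀ x ∈ ((U : Set X)ᶜ), ∃ U' : Set X, IsOpen U' ∧ x ∈ U' ∧
        ∀ y, c₂.base y ∈ ((U : Set X)ᶜ) → c₂.base y ∈ U' → c₁.base y ∈ U' → c₁.base y ∈ ((U : Set X)ᶜ)) :
    ∃ (Cb Xb : Scheme.{u}) (pCb : Cb ⟶ Spec (CommRingCat.of k)) (pXb : Xb ⟶ Spec (CommRingCat.of k))
      (j : C ⟶ Cb) (jX : X ⟶ Xb) (cb₁ cb₂ : Cb ⟶ Xb),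
      IsProper pCb ∧ IsProper pXb ∧ IsOpenImmersion j ∧ IsOpenImmersion jX ∧
      DenseRange j.base ∧ DenseRange jX.base ∧ j ≫ pCb = pC ∧ jX ≫ pXb = pX ∧
      cb₁ ≫ pXb = pCb ∧ cb₂ ≫ pXb = pCb ∧ j ≫ cb₁ = c₁ ≫ jX ∧ j ≫ cb₂ = c₂ ≫ jX ∧
      ∀ x ∈ ((jX.base '' (U : Set X))ᶜ), ∃ U' : Set Xb, IsOpen U' ∧ x ∈ U' ∧
        ∀ y, cb₂.base y ∈ ((jX.base '' (U : Set X))ᶜ) → cb₂.base y ∈ U' → cb₁.base y ∈ U' → cb₁.base y ∈ ((jX.base '' (U : Set X))ᶜ) := by
  classical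
  haveI : CompactSpace C := QuasiCompact.compactSpace_of_compactSpace pC
  haveI : IsLocallyNoetherian C := LocallyOfFiniteType.isLocallyNoetherian pC
  haveI : AlgebraicGeometry.IsNoetherian C := {}
  set Z : Set X := (U : Set X)ᶜ with hZdef
  have hZc : IsClosed Z := U.isOpen.isClosed_compl
  have hinv := (Groth.Agent.S18393.result c₁.base c₂.base c₁.continuous c₂.continuous Z hZc).1 hZ
  obtain ⟨T₀, hT₀f, hT₀c, hT₀i, hT₀u⟩ :=
    TopologicalSpace.NoetherianSpace.exists_finite_set_isClosed_irreducible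
      (isClosed_closure (s := c₂.base ⁻¹' Z \ c₁.base ⁻¹' Z))
  haveI := hT₀f.to_subtype
  have hpairs : ∀ T : T₀, closure (c₁.base '' T.1) ∩ closure (c₂.base '' T.1) = ∅ := fun T =>
    hinv T.1 (hT₀u ▸ Set.subset_sUnion_of_mem T.2) (hT₀i _ T.2)
  obtain ⟨Y, j₀, p₀, hj₀, -, hp₀, hjp₀⟩ := Groth.Agent.FlatMorAdm.compactifiable pX
  obtain ⟨Xb, cY, jX, hcY, hjX, hXden, hjc, hdis⟩ := Groth.Agent.CommAlg4.exists_refine_disjoint j₀ p₀
    (fun T : T₀ => closure (c₁.base '' T.1)) (fun T : T₀ => closure (c₂.base '' T.1))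
    (fun _ => isClosed_closure) (fun _ => isClosed_closure) hpairs
  have hjXp : jX ≫ cY ≫ p₀ = pX := by rw [← Category.assoc, hjc, hjp₀]
  obtain ⟨Cb, pCb, j, cb₁, cb₂, hpCb, hj, hCden, hjp, hcb₁, hcb₂, he₁, he₂⟩ :=
    Groth.Agent.S18388.result pC pX pX (cY ≫ p₀) (cY ≫ p₀) c₁ c₂ hc₁ hc₂ jX jX hjXp hjXp
  refine ⟨Cb, Xb, pCb, cY ≫ p₀, j, jX, cb₁, cb₂, hpCb, inferInstance, hj, hjX, hCden, hXden, hjp,
    hjXp, hcb₁, hcb₂, he₁, he₂, ?_⟩
  set V : Xb.Opens := jX ''ᵁ U with hV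
  have hVset : (V : Set Xb) = jX.base '' (U : Set X) := rfl
  have e₁ : ∀ y, cb₁ (j y) = jX (c₁ y) := fun y => by
    rw [← Scheme.Hom.comp_apply, ← Scheme.Hom.comp_apply, he₁]
  have e₂ : ∀ y, cb₂ (j y) = jX (c₂ y) := fun y => by
    rw [← Scheme.Hom.comp_apply, ← Scheme.Hom.comp_apply, he₂]
  -- over `U` the correspondence is already proper
  haveI : IsSeparated cb₁ := by
    haveI : IsSeparated (cb₁ ≫ cY ≫ p₀) := by rw [hcb₁]; infer_instance
    exact IsSeparated.of_comp cb₁ (cY ≫ p₀)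
  let A : C.Opens := c₁ ⁻¹ᵁ U
  have hAW : Set.range (A.ι ≫ j) ⊆ Set.range (cb₁ ⁻¹ᵁ V).ι := by
    rw [Scheme.Opens.range_ι]
    rintro _ ⟨a, rfl⟩
    refine ⟨c₁ (A.ι a), a.2, ?_⟩
    rw [Scheme.Hom.comp_apply]
    exact (e₁ _).symm
  let la := IsOpenImmersion.lift (cb₁ ⁻¹ᵁ V).ι (A.ι ≫ j) hAW
  have hla : la ≫ (cb₁ ⁻¹ᵁ V).ι = A.ι ≫ j := IsOpenImmersion.lift_fac _ _ _
  have hfac : la ≫ (cb₁ ∣_ V) = (c₁ ∣_ U) ≫ (jX.isoImage U).hom := by
    rw [← cancel_mono V.ι, Category.assoc, morphismRestrict_ι, ← Category.assoc, hla, Category.assoc,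
      he₁, Category.assoc]
    rw [show (jX.isoImage U).hom ≫ V.ι = U.ι ≫ jX from Scheme.Hom.isoImage_hom_ι jX U,
      morphismRestrict_ι_assoc]
  haveI : IsProper (la ≫ (cb₁ ∣_ V)) := by rw [hfac]; infer_instance
  haveI : IsProper la := IsProper.of_comp la (cb₁ ∣_ V)
  have hla' : ∀ a : (A : Scheme.{u}), (cb₁ ⁻¹ᵁ V).ι (la a) = j (A.ι a) := fun a => by
    rw [← Scheme.Hom.comp_apply, hla, Scheme.Hom.comp_apply]
  have hpre : ∀ y, cb₁ y ∈ V → ∃ a ∈ A, j a = y := by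
    intro y hy
    have hd : Dense (j.base '' (A : Set C)) := hCden.dense_image j.continuous hU
    have hrl : IsClosed (Set.range la) := la.isClosedMap.isClosed_range
    have hsub : j.base '' (A : Set C) ⊆ (cb₁ ⁻¹ᵁ V).ι '' Set.range la := by
      rintro _ ⟨a, ha, rfl⟩
      exact ⟨la (⟨a, ha⟩ : (A : Scheme.{u})), ⟨_, rfl⟩, hla' _⟩
    let y' : (cb₁ ⁻¹ᵁ V : Cb.Opens) := ⟨y, hy⟩
    have hy' : y' ∈ Set.range la := by
      rw [← hrl.closure_eq]
      refine closure_subtype.2 ?_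
      exact closure_mono hsub (hd y)
    obtain ⟨a, ha⟩ := hy'
    refine ⟨A.ι a, a.2, ?_⟩
    rw [← hla' a, ha]
    rfl
  rw [← hVset]
  haveI : CompactSpace Cb := QuasiCompact.compactSpace_of_compactSpace pCb
  haveI : IsLocallyNoetherian Cb := LocallyOfFiniteType.isLocallyNoetherian pCb
  haveI : AlgebraicGeometry.IsNoetherian Cb := {}
  refine (Groth.Agent.S18393.result (C := Cb) (X := Xb) cb₁.base cb₂.base cb₁.continuous cb₂.continuous
    (V : Set Xb)ᶜ V.isOpen.isClosed_compl).2 ?_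
  intro T hT hTi
  have hF : cb₂.base ⁻¹' (V : Set Xb)ᶜ \ cb₁.base ⁻¹' (V : Set Xb)ᶜ ⊆
      j.base '' (c₂.base ⁻¹' Z \ c₁.base ⁻¹' Z) := by
    rintro y ⟨hy₂, hy₁⟩
    obtain ⟨a, ha, rfl⟩ := hpre y (not_not.1 hy₁)
    refine ⟨a, ⟨fun h => hy₂ ⟨c₂ a, h, (e₂ a).symm⟩, fun h => h ha⟩, rfl⟩
  have hT' : T ⊆ ⋃ S : T₀, closure (j.base '' S.1) := by
    refine hT.trans ?_
    refine closure_minimal ?_ (isClosed_iUnion_of_finite fun _ => isClosed_closure)
    intro y hy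
    obtain ⟨a, ha, rfl⟩ := hF hy
    obtain ⟨S, hS, haS⟩ : ∃ S ∈ T₀, a ∈ S := by
      have := subset_closure ha
      rw [hT₀u] at this
      exact this
    exact Set.mem_iUnion.2 ⟨⟨S, hS⟩, subset_closure ⟨a, haS, rfl⟩⟩
  obtain ⟨S, hS⟩ : ∃ S : T₀, T ⊆ closure (j.base '' S.1) := by
    haveI := Fintype.ofFinite T₀
    have := (isIrreducible_iff_sUnion_isClosed.1 hTi)
      (Finset.univ.image fun S : T₀ => closure (j.base '' S.1)) (by
        intro z hz
        obtain ⟨S, -, rfl⟩ := Finset.mem_image.1 hz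
        exact isClosed_closure)
      (by
        intro y hy
        obtain ⟨S, hS⟩ := Set.mem_iUnion.1 (hT' hy)
        exact ⟨_, Finset.mem_image.2 ⟨S, Finset.mem_univ _, rfl⟩, hS⟩)
    obtain ⟨z, hz, hTz⟩ := this
    obtain ⟨S, -, rfl⟩ := Finset.mem_image.1 hz
    exact ⟨S, hTz⟩
  have hm : ∀ (cb : Cb ⟶ Xb) (c : C ⟶ X), (∀ y, cb (j y) = jX (c y)) →
      closure (cb.base '' T) ⊆ closure (jX.base '' closure (c.base '' S.1)) := by
    intro cb c he
    refine closure_minimal ?_ isClosed_closure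
    refine (Set.image_mono hS).trans ((image_closure_subset_closure_image cb.continuous).trans ?_)
    refine closure_mono ?_
    rintro _ ⟨_, ⟨a, ha, rfl⟩, rfl⟩
    exact ⟨c a, subset_closure ⟨a, ha, rfl⟩, (he a).symm⟩
  refine Set.eq_empty_of_subset_empty fun z hz => ?_
  exact (hdis S).le ⟨hm cb₁ c₁ e₁ hz.1, hm cb₂ c₂ e₂ hz.2⟩

end Groth.Agent.S18395
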