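import Groth.Statements.S18399
import Mathlib
import Groth.Prelude
import Groth.Agent.S19448

set_option linter.all false

set_option autoImplicit false
universe u
open CAlg

open Polynomial

namespace Groth.Agent.S18399

/-- Let k be a field and A a regular local k-algebra with residue field k (the structure map from k onto
the residue field of A is surjective), let σ be a k-algebra endomorphism of A of finite order n with
n invertible in k, and let I_σ be the ideal of A generated by the elements f - σ f. Then I_σ is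
generated by finitely many elements of the maximal ideal whose classes in the cotangent space m/m^2
are linearly independent over the residue field. (Such elements are part of a regular system of
parameters of A, hence part of a regular sequence, which is the printed conclusion; the generators
with independent classes are what the argument produces.) -/
theorem result {k : Type u} [Field k] {A : Type u} [CommRing A] [Algebra k A] [IsRegularLocalRing A] (hres : Function.Surjective ⇑(algebraMap k (IsLocalRing.ResidueField A))) (σ : A →ₐ[k] A) (n : ℕ) (hσ : ∀ a : A, (⇑σ)^[n] a = a) (hn : (n : k) ≠ 0) : ∃ (m : ℕ) (f : Fin m → ↥(IsLocalRing.maximalIdeal A)), Ideal.span (Set.range fun i : Fin m => (f i : A)) = Ideal.span (Set.range fun a : A => a - σ a) ∧ LinearIndependent (IsLocalRing.ResidueField A) (fun i : Fin m => (IsLocalRing.maximalIdeal A).toCotangent (f i)) := by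
  classical
  let M := IsLocalRing.maximalIdeal A
  have hn0 : n ≠ 0 := fun h => hn (by simp [h])
  obtain ⟨n', rfl⟩ : ∃ n', n = n' + 1 := ⟨n - 1, by omega⟩
  let s : Module.End k A := σ.toLinearMap
  have hspow : ∀ (j : ℕ) (a : A), (s ^ j) a = (⇑σ)^[j] a := fun j => by
    induction j with
    | zero => intro a; rfl
    | succ j ih => intro a; rw [pow_succ', Function.iterate_succ_apply', ← ih]; rfl
  have hs : s ^ (n' + 1) = 1 := LinearMap.ext fun a => by rw [hspow, hσ]; rfl
  have hmem : ∀ a, a - σ a ∈ M := fun a => by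
    have hσM : ∀ b ∈ M, σ b ∈ M := fun b hb => by
      by_contra hu
      have hu' := (IsLocalRing.notMem_maximalIdeal.1 hu)
      have : IsUnit ((⇑σ)^[n' + 1] b) := by
        rw [Function.iterate_succ_apply]
        generalize n' = j
        induction j with
        | zero => exact hu'
        | succ j ih => rw [Function.iterate_succ_apply']; exact ih.map σ
      rw [hσ] at this
      exact (IsLocalRing.notMem_maximalIdeal.2 this) hb
    obtain ⟨c, hc⟩ := hres (IsLocalRing.residue A a)
    have hb : a - algebraMap k A c ∈ M := by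
      rw [← IsLocalRing.residue_eq_zero_iff, map_sub, ← hc, sub_eq_zero]
      exact IsScalarTower.algebraMap_apply k A _ c
    have := M.sub_mem hb (hσM _ hb)
    rwa [map_sub, AlgHom.commutes, sub_sub_sub_cancel_right] at this
  let W : Submodule k A := LinearMap.range (1 - s)
  have hWM : ∀ w ∈ W, w ∈ M := by rintro _ ⟨a, rfl⟩; exact hmem a
  let q : M.restrictScalars k →ₗ[k] M.Cotangent :=
    { toFun := fun x => M.toCotangent ⟨x.1, x.2⟩
      map_add' := fun x y => map_add M.toCotangent ⟨x.1, x.2⟩ ⟨y.1, y.2⟩
      map_smul' := fun c x => by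
        rw [RingHom.id_apply, ← algebraMap_smul A c (M.toCotangent _), ← map_smul]
        refine congrArg M.toCotangent (Subtype.ext ?_)
        show c • x.1 = algebraMap k A c • x.1
        rw [algebraMap_smul] }
  let π : W →ₗ[k] M.Cotangent := q ∘ₗ Submodule.inclusion (fun w hw => hWM w hw : W ≤ M.restrictScalars k)
  have hπ0 : ∀ w : W, π w = 0 ↔ w.1 ∈ M ^ 2 := fun w => M.toCotangent_eq_zero _
  have hsW : ∀ w ∈ W, s w ∈ W := by
    rintro _ ⟨a, rfl⟩
    exact ⟨s a, by simp [map_sub]⟩
  let sW : Module.End k W := s.restrict hsW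
  have hker : ∀ w, π w = 0 → π (sW w) = 0 := fun w hw => by
    rw [hπ0] at hw ⊢
    have : (M ^ 2).map σ ≤ M ^ 2 := by
      rw [Ideal.map_pow]
      refine Ideal.pow_right_mono (Ideal.map_le_iff_le_comap.2 fun b hb => ?_) 2
      have := M.sub_mem hb (hmem b)
      rwa [sub_sub_cancel] at this
    exact this (Ideal.mem_map_of_mem σ hw)
  obtain ⟨s0, hs0⟩ := (π.rangeRestrict).exists_rightInverse_of_surjective π.range_rangeRestrict
  let V := LinearMap.range π
  let sV : Module.End k V := π.rangeRestrict ∘ₗ sW ∘ₗ s0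
  have hsπ : ∀ w, π.rangeRestrict (sW w) = sV (π.rangeRestrict w) := fun w => by
    have h1 : π (w - s0 (π.rangeRestrict w)) = 0 := by
      rw [map_sub, sub_eq_zero]
      exact (congrArg Subtype.val (LinearMap.congr_fun hs0 (π.rangeRestrict w))).symm
    have h2 := hker _ h1
    rw [map_sub, map_sub, sub_eq_zero] at h2
    exact Subtype.ext h2
  have hpowπ : ∀ (j : ℕ) w, π.rangeRestrict ((sW ^ j) w) = (sV ^ j) (π.rangeRestrict w) := fun j => by
    induction j with
    | zero => intro w; rfl
    | succ j ih => intro w; rw [pow_succ', Module.End.mul_apply, hsπ, ih, ← Module.End.mul_apply, ← pow_succ']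
  have hsW1 : sW ^ (n' + 1) = 1 := LinearMap.ext fun w => Subtype.ext (by
    show ((sW ^ (n' + 1)) w).1 = w.1
    rw [Module.End.pow_restrict]
    show (s ^ (n' + 1)) w.1 = w.1
    rw [hs]; rfl)
  have hsV1 : sV ^ (n' + 1) = 1 := LinearMap.ext fun v => by
    obtain ⟨w, rfl⟩ := LinearMap.surjective_rangeRestrict π v
    rw [← hpowπ, hsW1]; rfl
  -- averaged section
  let t : V →ₗ[k] W := ((n' + 1 : ℕ) : k)⁻¹ • ∑ j ∈ Finset.range (n' + 1), (sW ^ j) ∘ₗ s0 ∘ₗ (sV ^ (n' + 1 - j))
  have ht : ∀ v, π.rangeRestrict (t v) = v := fun v => by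
    simp only [t, LinearMap.smul_apply, LinearMap.sum_apply, LinearMap.comp_apply, map_smul, map_sum]
    have : ∀ j ∈ Finset.range (n' + 1), π.rangeRestrict ((sW ^ j) (s0 ((sV ^ (n' + 1 - j)) v))) = v := fun j hj => by
      rw [hpowπ, show π.rangeRestrict (s0 ((sV ^ (n' + 1 - j)) v)) = (sV ^ (n' + 1 - j)) v from LinearMap.congr_fun hs0 _,
        ← Module.End.mul_apply, ← pow_add, Nat.add_sub_cancel' (Finset.mem_range.1 hj).le, hsV1]
      rfl
    rw [Finset.sum_congr rfl this, Finset.sum_const, Finset.card_range, ← Nat.cast_smul_eq_nsmul k, smul_smul, inv_mul_cancel₀ hn, one_smul]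
  have hequiv : ∀ v, sW (t v) = t (sV v) := fun v => by
    simp only [t, LinearMap.smul_apply, LinearMap.sum_apply, LinearMap.comp_apply, map_smul, map_sum]
    congr 1
    have e1 : ∀ j ∈ Finset.range (n' + 1), sW ((sW ^ j) (s0 ((sV ^ (n' + 1 - j)) v))) = (sW ^ (j + 1)) (s0 ((sV ^ (n' + 1 - (j + 1))) (sV v))) := fun j hj => by
      have := Finset.mem_range.1 hj
      rw [pow_succ' sW, Module.End.mul_apply, ← Module.End.mul_apply (sV ^ _) sV, ← pow_succ, show n' + 1 - (j + 1) + 1 = n' + 1 - j by omega]
    rw [Finset.sum_congr rfl e1]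
    let F : ℕ → W := fun j => (sW ^ j) (s0 ((sV ^ (n' + 1 - j)) (sV v)))
    show ∑ j ∈ Finset.range (n' + 1), F (j + 1) = ∑ j ∈ Finset.range (n' + 1), F j
    rw [Finset.sum_range_succ, Finset.sum_range_succ' F]
    congr 1
    show (sW ^ (n' + 1)) (s0 ((sV ^ (n' + 1 - (n' + 1))) (sV v))) = (sW ^ 0) (s0 ((sV ^ (n' + 1 - 0)) (sV v)))
    rw [hsW1, Nat.sub_zero, hsV1, Nat.sub_self]
    rfl
  haveI : Module.Finite k (IsLocalRing.ResidueField A) := Module.Finite.of_surjective (Algebra.linearMap k _) hres
  haveI : IsScalarTower k (IsLocalRing.ResidueField A) M.Cotangent := IsScalarTower.of_algebraMap_smul fun c x => by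
    rw [IsScalarTower.algebraMap_apply k A (IsLocalRing.ResidueField A), algebraMap_smul, algebraMap_smul]
  haveI : Module.Finite k M.Cotangent := Module.Finite.trans (IsLocalRing.ResidueField A) M.Cotangent
  let b := Module.finBasis k V
  refine ⟨Module.finrank k V, fun i => ⟨(t (b i)).1, hWM _ (t (b i)).2⟩, ?_, ?_⟩
  · apply le_antisymm
    · rw [Ideal.span_le]
      rintro _ ⟨i, rfl⟩
      obtain ⟨a, ha⟩ := (t (b i)).2
      exact Ideal.subset_span ⟨a, ha⟩
    · let I' := Ideal.span (Set.range fun i => (t (b i)).1)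
      show _ ≤ I'
      have hI'V : ∀ v, (t v).1 ∈ I' := fun v => by
        rw [← b.sum_repr v, map_sum, Submodule.coe_sum]
        refine I'.sum_mem fun i _ => ?_
        rw [map_smul, Submodule.coe_smul, ← algebraMap_smul A (b.repr v i), smul_eq_mul]
        exact Ideal.mul_mem_left _ _ (Ideal.subset_span ⟨i, rfl⟩)
      have hstab : I' ≤ I'.comap σ := by
        rw [Ideal.span_le]
        rintro _ ⟨i, rfl⟩
        show σ (t (b i)).1 ∈ I'
        have e1 : σ (t (b i)).1 = (sW (t (b i))).1 := rfl
        rw [e1, hequiv]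
        exact hI'V _
      have hI'M : I' ≤ M := Ideal.span_le.2 (by rintro _ ⟨i, rfl⟩; exact hWM _ (t (b i)).2)
      haveI : Nontrivial (A ⧸ I') := Ideal.Quotient.nontrivial_iff.2 fun h => (IsLocalRing.maximalIdeal.isMaximal A).ne_top (eq_top_iff.2 (h ▸ hI'M))
      haveI : IsLocalRing (A ⧸ I') := IsLocalRing.of_surjective' (Ideal.Quotient.mk I') Ideal.Quotient.mk_surjective
      let φ : (A ⧸ I') →+* A ⧸ I' := Ideal.Quotient.lift I' ((Ideal.Quotient.mk I').comp σ.toRingHom) fun a ha =>
        Ideal.Quotient.eq_zero_iff_mem.2 (hstab ha)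
      have hφ : ∀ a, φ (Ideal.Quotient.mk I' a) = Ideal.Quotient.mk I' (σ a) := fun a => rfl
      have hM' : IsLocalRing.maximalIdeal (A ⧸ I') = M.map (Ideal.Quotient.mk I') :=
        (IsLocalRing.map_maximalIdeal_of_surjective _ Ideal.Quotient.mk_surjective).symm
      have hid : ∀ x, φ x = x := by
        refine fun x => Groth.Agent.S19448.aut_eq_id_of_trivial φ (n' + 1) ?_ ?_ ?_ ?_ x
        · rw [← map_natCast ((Ideal.Quotient.mk I').comp (algebraMap k A))]
          exact (Ne.isUnit hn).map _
        · intro y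
          obtain ⟨a, rfl⟩ := Ideal.Quotient.mk_surjective y
          rw [← Function.Semiconj.iterate_right (f := Ideal.Quotient.mk I') (fun a => (hφ a).symm) (n' + 1) a, hσ]
        · intro y
          obtain ⟨a, rfl⟩ := Ideal.Quotient.mk_surjective y
          rw [hφ, ← map_sub, hM', ← neg_sub, map_neg]
          exact neg_mem (Ideal.mem_map_of_mem _ (hmem a))
        · intro y hy
          obtain ⟨a, rfl⟩ := Ideal.Quotient.mk_surjective y
          rw [hφ, ← map_sub, hM', ← Ideal.map_pow, ← neg_sub, map_neg, neg_mem_iff]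
          let w : W := ⟨a - σ a, a, rfl⟩
          have hw : (w - t (π.rangeRestrict w)).1 ∈ M ^ 2 := (hπ0 _).1 (by
            rw [map_sub, sub_eq_zero]
            exact (congrArg Subtype.val (ht (π.rangeRestrict w))).symm)
          have hz : Ideal.Quotient.mk I' (t (π.rangeRestrict w)).1 = 0 := Ideal.Quotient.eq_zero_iff_mem.2 (hI'V _)
          have := Ideal.mem_map_of_mem (Ideal.Quotient.mk I') hw
          rwa [Submodule.coe_sub, map_sub, hz, sub_zero] at this
      rw [Ideal.span_le]
      rintro _ ⟨a, rfl⟩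
      refine Ideal.Quotient.eq_zero_iff_mem.1 ?_
      rw [map_sub, ← hφ, hid, sub_self]
  · have hk : LinearIndependent k (fun i => ((b i : V) : M.Cotangent)) := b.linearIndependent.map' V.subtype V.ker_subtype
    have e1 : (fun i => ((b i : V) : M.Cotangent)) = fun i => M.toCotangent ⟨(t (b i)).1, hWM _ (t (b i)).2⟩ :=
      funext fun i => (congrArg Subtype.val (ht (b i))).symm
    rw [← e1]
    rw [linearIndependent_iff'] at hk ⊢
    intro F g hg i hi
    choose c hc using fun j => hres (g j)
    have := hk F c (by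
      rw [← hg]; refine Finset.sum_congr rfl fun j _ => ?_
      rw [← hc, algebraMap_smul]) i hi
    rw [← hc, this, map_zero]

end Groth.Agent.S18399
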