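import Groth.Statements.S18400
import Groth.Agent.Thom28.CorankOne

set_option autoImplicit false
set_option linter.style.haveILetI false
set_option backward.isDefEq.respectTransparency false
universe u
open CategoryTheory AlgebraicGeometry
open Cyc

namespace Groth.Agent.S18400

/-- Let X be a scheme and F ⊂ E an inclusion of vector bundles over X whose quotient E/F is the trivial
line bundle; then the proper pushforward i_* : CH_k(F) → CH_k(E) along the inclusion of total spaces
is the zero map. In terms of modules: let 0 → O_X → ℰ → ℱ → 0 be a short exact sequence of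
O_X-modules with ℰ, ℱ quasi-coherent and finite locally free, E = Spec(Sym ℰ) and F = Spec(Sym ℱ)
the associated vector bundles (given through the relative-spectrum layer: quasi-coherent algebras
A_E, A_F with maps from ℰ, ℱ having the universal property of the symmetric algebra,
RelSpec.IsSymAlg), and i : F → E the morphism of relative spectra induced by the algebra map A_E →
A_F extending ℰ → ℱ (a closed immersion; its quasi-compactness is carried as an instance hypothesis
so that the pushforward of cycles is defined). Then for every k-cycle α on F, i_*α is rationally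
equivalent to zero as a k-cycle on E. Here a pair (X, δ) with Cyc.IsSetup plays the role of a scheme
locally of finite type over a base with a dimension function (the source has X of finite type over a
field; the statement is given for any such pair), Cyc.DeltaCompat records that the dimension
functions on E and F are the induced ones, and i_* is Mathlib's pushforward of cycles. -/
theorem result (X : Scheme.{u}) (δ : X → ℤ) (hX : Cyc.IsSetup X δ) (S : ShortComplex X.Modules) (hS : S.ShortExact) (e : S.X₁ ≅ Coh.structureModule X) (hqE : Coh.IsQCoh S.X₂) (hE : FlatMod.IsFinLocFree S.X₂) (hqF : Coh.IsQCoh S.X₃) (hF : FlatMod.IsFinLocFree S.X₃) (AE : RelSpec.QCAlg X) (jE : S.X₂ ⟶ AE.toModule) (hAE : RelSpec.IsSymAlg S.X₂ AE jE) (AF : RelSpec.QCAlg X) (jF : S.X₃ ⟶ AF.toModule) (hAF : RelSpec.IsSymAlg S.X₃ AF jF) (φ : AE ⟶ AF) (hφ : jE ≫ RelSpec.QCAlg.Hom.toModuleMap φ = S.g ≫ jF) [QuasiCompact (RelSpec.QCAlg.specMap φ)] (δE : ↥AE.spec → ℤ) (hEs : Cyc.IsSetup AE.spec δE) (hδE : Cyc.DeltaCompat AE.π δE δ) (δF : ↥AF.spec → ℤ) (hFs : Cyc.IsSetup AF.spec δF) (hδF : Cyc.DeltaCompat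 AF.π δF δ) (k : ℤ) (α : AlgebraicCycle AF.spec ℤ) (hα : α ∈ Cyc.Zk AF.spec δF k) : Cyc.RatEquivZero δE k (AlgebraicCycle.map (RelSpec.QCAlg.specMap φ) δF δE α) := by
  haveI := hqE
  haveI := hqF
  haveI : Coh.IsQCoh (Coh.structureModule X) := Groth.Agent.Coherent.isQCoh_structureModule
  haveI : Coh.IsQCoh S.X₁ := Groth.Agent.Coherent.isQCoh_of_iso e.symm
  exact Groth.Agent.Thom28.ratEquivZero_corankOne hX hS e hF hAE hAF φ hφ hEs hδE hFs hδF α hα

end Groth.Agent.S18400
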