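import Groth.Statements.S18402
import Mathlib.AlgebraicGeometry.Geometrically.Irreducible
import Mathlib.AlgebraicGeometry.Morphisms.Flat
import Mathlib.AlgebraicGeometry.Morphisms.QuasiFinite
-- import your own Groth.Agent.* helpers here

set_option autoImplicit false
universe u
open Pi1

set_option backward.isDefEq.respectTransparency.types false
set_option backward.isDefEq.respectTransparency false
set_option linter.style.haveILetI false

namespace Groth.Agent.S18402

open AlgebraicGeometry CategoryTheory CategoryTheory.Limits in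
/-- Let X be an irreducible scheme and π : W ⟶ X a flat morphism whose fibre over every field-valued
point of X is irreducible (so every fibre is geometrically irreducible and π is surjective). Then
for every finite étale cover Z of X with Z connected, the base change of Z along π is connected.
Ranging over all finite étale covers of X, this says that the monodromy group of each cover (the
image of the fundamental group in the permutations of a geometric fibre) is unchanged by pullback
along π. The published statement asserts that equality of monodromy groups, for generically finite,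
generically étale covers between irreducible algebraic stacks. -/
theorem result {X W : Scheme.{u}}
    [IrreducibleSpace X] (π : W ⟶ X) [Flat π] [GeometricallyIrreducible π]
    (Z : FEt.Cat X) [ConnectedSpace Z.left] :
    ConnectedSpace ↥(pullback Z.hom π) := by
  haveI : IsFinite Z.hom := Z.prop.1
  haveI : Etale Z.hom := Z.prop.2
  let p := pullback.fst Z.hom π
  haveI : Flat p := inferInstance
  haveI : GeometricallyIrreducible p := inferInstance
  obtain ⟨z₀⟩ := (inferInstance : Nonempty Z.left)
  obtain ⟨w₀, -⟩ := p.surjective z₀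
  haveI : Nonempty ↥(pullback Z.hom π) := ⟨w₀⟩
  suffices h : PreconnectedSpace ↥(pullback Z.hom π) from ⟨inferInstance⟩
  rw [preconnectedSpace_iff_clopen]
  intro U hU
  have hfib : ∀ z : Z.left, _root_.IsPreconnected (p ⁻¹' {z}) := fun z => by
    rw [← p.range_fiberι]
    exact isPreconnected_range (p.fiberι z).continuous
  have hsat : ∀ w w', p w = p w' → w ∈ U → w' ∈ U := fun w w' e hw =>
    (hfib (p w)).subset_isClopen hU ⟨w, rfl, hw⟩ e.symm
  have hgen : ∀ (V : Set ↥(pullback Z.hom π)), IsClopen V → (∀ w w', p w = p w' → w ∈ V → w' ∈ V) →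
      ∀ z z', z' ⤳ z → z ∈ p '' V → z' ∈ p '' V := by
    rintro V hV hVs z z' hs ⟨w, hw, rfl⟩
    obtain ⟨w', hw', hp⟩ := Flat.generalizingMap p hs
    exact ⟨w', hw'.mem_open hV.isOpen hw, hp⟩
  let A := p '' U
  have hAc : Aᶜ = p '' Uᶜ := by
    ext z
    constructor
    · intro hz
      obtain ⟨w, rfl⟩ := p.surjective z
      exact ⟨w, fun hw => hz ⟨w, hw, rfl⟩, rfl⟩
    · rintro ⟨w, hw, rfl⟩ ⟨w', hw', e⟩
      exact hw (hsat w' w e hw')
  let η := genericPoint X
  have hfin : (Z.hom ⁻¹' {η}).Finite := Z.hom.finite_preimage_singleton η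
  have hclosed : ∀ B : Set Z.left, (∀ z z', z' ⤳ z → z ∈ B → z' ∈ B) → (∀ z z', z' ⤳ z → z ∈ Bᶜ → z' ∈ Bᶜ) →
      IsClosed B := by
    intro B h1 h2
    have : B = ⋃ ζ ∈ Z.hom ⁻¹' {η} ∩ B, closure {ζ} := by
      ext z
      simp only [Set.mem_iUnion, exists_prop, ← specializes_iff_mem_closure]
      constructor
      · intro hz
        obtain ⟨ζ, hζ, hζη⟩ := Flat.generalizingMap Z.hom (show η ⤳ Z.hom z from genericPoint_specializes (α := ↥X) _)
        exact ⟨ζ, ⟨hζη, h1 z ζ hζ hz⟩, hζ⟩
      · rintro ⟨ζ, ⟨-, hζ⟩, hs⟩
        by_contra hz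
        exact h2 z ζ hs hz hζ
    rw [this]
    exact (hfin.inter_of_left B).isClosed_biUnion fun _ _ => isClosed_closure
  have hAg : ∀ z z', z' ⤳ z → z ∈ A → z' ∈ A := hgen U hU hsat
  have hAcg : ∀ z z', z' ⤳ z → z ∈ Aᶜ → z' ∈ Aᶜ := by
    rw [hAc]
    exact hgen Uᶜ hU.compl fun w w' e hw hw' => hw (hsat w' w e.symm hw')
  have hA : IsClopen A := ⟨hclosed A hAg hAcg, isClosed_compl_iff.mp (hclosed Aᶜ hAcg (by rw [compl_compl]; exact hAg))⟩
  rcases (@isClopen_iff Z.left _ (inferInstanceAs (PreconnectedSpace ↥Z.left)) A).mp hA with h | h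
  · exact Or.inl (Set.image_eq_empty.mp h)
  · refine Or.inr (Set.eq_univ_of_forall fun w => ?_)
    obtain ⟨w', hw', e⟩ := h.ge (Set.mem_univ (p w))
    exact hsat w' w e hw'

end Groth.Agent.S18402
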