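import Groth.Statements.S18404
import Groth.Agent.PlaneCubic.Aut

set_option autoImplicit false
universe u
open Cubic

namespace Groth.Agent.S18404

open MvPolynomial in
/-- Let k ∈ ℂ with k³ ≠ 1 and let h = X₀³ + X₁³ + X₂³ − 3k·X₀X₁X₂ be the Hesse cubic. For a nonzero
vector v with h(v) = 0, the corresponding point is a flex of the plane curve of h — some line
through it meets the curve there with multiplicity three, i.e. there is a vector w linearly
independent from v with h(v + t·w) = t³·h(w) for every t — exactly when v is a scalar multiple of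
one of the nine vectors (0, 1, −γ), (−γ, 0, 1), (1, −γ, 0) with γ³ = 1. -/
theorem result (k : ℂ) (hk : k ^ 3 ≠ 1) (v : Fin 3 → ℂ) (hv : v ≠ 0)
    (hCv : eval v (HesseCubic.form k) = 0) :
    (∃ w : Fin 3 → ℂ, LinearIndependent ℂ ![v, w] ∧
        ∀ t : ℂ, eval (v + t • w) (HesseCubic.form k) = t ^ 3 * eval w (HesseCubic.form k)) ↔
      ∃ γ c : ℂ, γ ^ 3 = 1 ∧ (v = c • ![0, 1, -γ] ∨ v = c • ![-γ, 0, 1] ∨ v = c • ![1, -γ, 0]) := by
    constructor
    · intro h
      have h3 := (Groth.Agent.PlaneCubic.eflex_form_iff hk hv hCv).1 ⟨hv, hCv, h⟩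
      have hval := hCv
      rw [Groth.Agent.PlaneCubic.eval_form] at hval
      rcases mul_eq_zero.1 h3 with h12 | h2
      · rcases mul_eq_zero.1 h12 with h0 | h1
        · obtain ⟨γ, c, hγ, -, hc⟩ := Groth.Agent.PlaneCubic.eq_flexPoint hv h0 hval
          exact ⟨γ, c, hγ, .inl hc⟩
        · obtain ⟨γ, c, hγ, -, hc⟩ := Groth.Agent.PlaneCubic.eq_flexPoint (k := k) (v := ![v 1, v 2, v 0])
            (fun e => hv (by
              have e0 := congrFun e 0; have e1 := congrFun e 1; have e2 := congrFun e 2
              simp at e0 e1 e2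
              funext i; fin_cases i <;> assumption)) (by simpa using h1)
            (by simp [Groth.Agent.PlaneCubic.hval] at hval ⊢; linear_combination hval)
          refine ⟨γ, c, hγ, .inr (.inl ?_)⟩
          have e0 := congrFun hc 0; have e1 := congrFun hc 1; have e2 := congrFun hc 2
          simp at e0 e1 e2
          funext i; fin_cases i <;> simp [e0, e1, e2]
      · obtain ⟨γ, c, hγ, -, hc⟩ := Groth.Agent.PlaneCubic.eq_flexPoint (k := k) (v := ![v 2, v 0, v 1])
          (fun e => hv (by
            have e0 := congrFun e 0; have e1 := congrFun e 1; have e2 := congrFun e 2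
            simp at e0 e1 e2
            funext i; fin_cases i <;> assumption)) (by simpa using h2)
          (by simp [Groth.Agent.PlaneCubic.hval] at hval ⊢; linear_combination hval)
        refine ⟨γ, c, hγ, .inr (.inr ?_)⟩
        have e0 := congrFun hc 0; have e1 := congrFun hc 1; have e2 := congrFun hc 2
        simp at e0 e1 e2
        funext i; fin_cases i <;> simp [e0, e1, e2]
    · rintro ⟨γ, c, -, h⟩
      refine ((Groth.Agent.PlaneCubic.eflex_form_iff hk hv hCv).2 ?_).2.2
      rcases h with rfl | rfl | rfl <;> simp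

end Groth.Agent.S18404
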