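import Groth.Statements.S18405
import Groth.Agent.PlaneCubic.Aut
import Mathlib.Analysis.Complex.Polynomial.Basic

set_option autoImplicit false
universe u
open Cubic

namespace Groth.Agent.S18405

open MvPolynomial in
/-- Let f be a nonzero homogeneous cubic in three variables over ℂ whose plane curve is smooth (at every
nonzero zero of f some partial derivative is nonzero), and let A be an invertible matrix whose
linear substitution X_i ↦ Σ_j A_ij X_j multiplies f by a constant, so that v ↦ A·v is a projective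
automorphism of the curve. If A·v is proportional to v for every flex v of the curve (every nonzero
zero v of f through which some line meets the curve with multiplicity three: there is w linearly
independent from v with f(v + t·w) = t³·f(w) for all t), then A is a scalar matrix: the projective
automorphisms of a smooth plane cubic act faithfully on its flexes. -/
theorem result (f : MvPolynomial (Fin 3) ℂ) (hf : f.IsHomogeneous 3)
    (hf0 : f ≠ 0) (hsm : ∀ v : Fin 3 → ℂ, v ≠ 0 → eval v f = 0 → ∃ i : Fin 3, eval v (pderiv i f) ≠ 0)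
    (A : Matrix (Fin 3) (Fin 3) ℂ) (hA : IsUnit A.det)
    (hAf : ∃ c : ℂ, aeval (fun i : Fin 3 => ∑ j : Fin 3, C (A i j) * X j) f = C c * f)
    (hfix : ∀ v : Fin 3 → ℂ, v ≠ 0 → eval v f = 0 →
      (∃ w : Fin 3 → ℂ, LinearIndependent ℂ ![v, w] ∧ ∀ t : ℂ, eval (v + t • w) f = t ^ 3 * eval w f) →
      ∃ d : ℂ, A.mulVec v = d • v) :
    ∃ c : ℂ, A = c • (1 : Matrix (Fin 3) (Fin 3) ℂ) := by
    have hS := Groth.Agent.PlaneCubic.smooth_of hf hsm
    obtain ⟨v₁, hv₁⟩ := Groth.Agent.PlaneCubic.exists_flex hf hS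
    obtain ⟨Φ, k, hk, hΦ, -⟩ := Groth.Agent.PlaneCubic.exists_hesse_one hf hS hv₁
    let B : (Fin 3 → ℂ) →ₗ[ℂ] (Fin 3 → ℂ) := Φ.toLinearMap.comp ((Matrix.toLin' A).comp Φ.symm.toLinearMap)
    have hpull : ∀ P, Groth.Agent.PlaneCubic.EFlex (HesseCubic.form k) P → ∃ d : ℂ, B P = d • P := by
      intro P hP
      obtain ⟨h0, h1, h2⟩ := Groth.Agent.PlaneCubic.EFlex.map (g := f) Φ.symm.toLinearMap Φ.symm.injective (l := 1) one_ne_zero
        (fun x => by rw [hΦ, one_mul, Groth.Agent.PlaneCubic.eval_form]; simp) hP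
      obtain ⟨d, hd⟩ := hfix _ h0 h1 h2
      refine ⟨d, ?_⟩
      have hd' : A.mulVec (Φ.symm P) = d • Φ.symm P := hd
      simp [B, Matrix.toLin'_apply, hd']
    obtain ⟨ω, hω⟩ := (IsAlgClosed.exists_root (k := ℂ) (Polynomial.X ^ 2 + Polynomial.X + 1) (by
      rw [show (Polynomial.X ^ 2 + Polynomial.X + 1 : Polynomial ℂ) =
        Polynomial.C 1 * Polynomial.X ^ 2 + Polynomial.C 1 * Polynomial.X + Polynomial.C 1 by simp,
        Polynomial.degree_quadratic one_ne_zero]
      decide))
    simp only [Polynomial.IsRoot.def, Polynomial.eval_add, Polynomial.eval_pow, Polynomial.eval_X, Polynomial.eval_one] at hω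
    -- a linear map fixing three points on a line is scalar on it
    have key : ∀ (e e' : Fin 3 → ℂ) (i i' j : Fin 3), e i = 1 → e i' = 0 → e j = 0 → e' i' = 1 → e' i = 0 → e' j = 0 →
        (∀ γ : ℂ, γ ^ 3 = 1 → ∃ d : ℂ, B (e - γ • e') = d • (e - γ • e')) →
        B e i' = 0 ∧ B e' i = 0 ∧ B e i = B e' i' ∧ B e j = 0 ∧ B e' j = 0 := by
      intro e e' i i' j h1 h2 h3 h4 h5 h6 h
      have hc : ∀ γ : ℂ, γ ^ 3 = 1 → B e i' - γ * B e' i' = -γ * (B e i - γ * B e' i) ∧ B e j - γ * B e' j = 0 := by
        intro γ hγ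
        obtain ⟨d, hd⟩ := h γ hγ
        have e1 := congrFun hd i
        have e2 := congrFun hd i'
        have e3 := congrFun hd j
        simp [h1, h2, h3, h4, h5, h6] at e1 e2 e3
        exact ⟨by rw [e2, e1]; ring, e3⟩
      obtain ⟨a1, b1⟩ := hc 1 (by norm_num)
      obtain ⟨a2, b2⟩ := hc ω (by linear_combination (ω - 1) * hω)
      obtain ⟨a3, -⟩ := hc (ω ^ 2) (by linear_combination (ω ^ 4 + ω ^ 3 - ω - 1 - ω ^ 3 * 0) * 0 + (ω - 1) * (ω ^ 3 + 1) * hω)
      have hω1 : ω - 1 ≠ 0 := fun h => by
        rw [sub_eq_zero] at h; subst h; norm_num at hω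
      have c1 : B e i' = 0 := by linear_combination (a1 + a2 + a3) / 3 - (B e i - B e' i') / 3 * hω + (B e' i) / 3 * (ω ^ 2 - ω + 1) * hω
      have d1 : B e' j = 0 := by
        have : (ω - 1) * B e' j = 0 := by linear_combination b1 - b2
        exact (mul_eq_zero.1 this).resolve_left hω1
      have p : B e i - B e' i' - B e' i = 0 := by linear_combination a1 - c1
      have p' : ω * (B e i - B e' i') - ω ^ 2 * B e' i = 0 := by linear_combination a2 - c1
      have c2 : B e' i = 0 := by
        have : (ω - 1) * (ω * B e' i) = 0 := by linear_combination ω * p - p'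
        rcases mul_eq_zero.1 this with h | h
        · exact absurd h hω1
        · rcases mul_eq_zero.1 h with h | h
          · subst h; norm_num at hω
          · exact h
      exact ⟨c1, c2, by linear_combination p + c2, by linear_combination b1 + d1, d1⟩
    let E : Fin 3 → Fin 3 → ℂ := fun i => Pi.single i 1
    obtain ⟨k1, k2, k3, k4, k5⟩ := key (E 1) (E 2) 1 2 0 (by simp [E]) (by simp [E]) (by simp [E]) (by simp [E]) (by simp [E]) (by simp [E])
      fun γ hγ => by
        rw [show E 1 - γ • E 2 = ![0, 1, -γ] from funext fun i => by fin_cases i <;> simp [E]]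
        exact hpull _ (Groth.Agent.PlaneCubic.flexPoint_eflex hk hγ).1
    obtain ⟨l1, l2, l3, l4, l5⟩ := key (E 2) (E 0) 2 0 1 (by simp [E]) (by simp [E]) (by simp [E]) (by simp [E]) (by simp [E]) (by simp [E])
      fun γ hγ => by
        rw [show E 2 - γ • E 0 = ![-γ, 0, 1] from funext fun i => by fin_cases i <;> simp [E]]
        exact hpull _ (Groth.Agent.PlaneCubic.flexPoint_eflex hk hγ).2
    refine ⟨B (E 1) 1, ?_⟩
    have hB : B = B (E 1) 1 • (LinearMap.id : (Fin 3 → ℂ) →ₗ[ℂ] (Fin 3 → ℂ)) := by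
      refine (Pi.basisFun ℂ (Fin 3)).ext fun i => funext fun j => ?_
      rw [Pi.basisFun_apply]
      simp only [LinearMap.smul_apply, LinearMap.id_apply, Pi.smul_apply, smul_eq_mul]
      change B (E i) j = _ * E i j
      fin_cases i <;> fin_cases j <;> simp [E] at k1 k2 k3 k4 k5 l1 l2 l3 l4 l5 ⊢ <;>
        first
          | assumption
          | linear_combination -l3 - k3
          | linear_combination -k3
    refine Matrix.ext_iff_mulVec.2 fun x => ?_
    have hx := LinearMap.congr_fun hB (Φ x)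
    simp only [B, LinearMap.comp_apply, LinearEquiv.coe_coe, LinearEquiv.symm_apply_apply, Matrix.toLin'_apply,
      LinearMap.smul_apply, LinearMap.id_apply, ← map_smul] at hx
    rw [Φ.injective hx, Matrix.smul_mulVec, Matrix.one_mulVec]
    rfl

end Groth.Agent.S18405
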