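import Groth.Statements.S18406
import Groth.Agent.PlaneCubic.Aut
import Mathlib.Analysis.Complex.Polynomial.Basic

set_option autoImplicit false
universe u
open Cubic

namespace Groth.Agent.S18406

open MvPolynomial in
/-- Let f be a nonzero homogeneous cubic in three variables over ℂ whose plane curve is smooth (at every
nonzero zero of f some partial derivative is nonzero), and let v and v′ be flexes of the curve, that
is nonzero zeros of f through each of which some line meets the curve with multiplicity three (there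
is a vector w linearly independent from the point with f(point + t·w) = t³·f(w) for every t). Then a
projective automorphism of the curve carries the point of v to the point of v′: there are an
invertible matrix A whose substitution X_i ↦ Σ_j A_ij X_j multiplies f by a constant c, and a
constant d with A·v = d·v′. (The published statement gives more: a subgroup of the projective
automorphism group isomorphic to C₃ × C₃ acts simply transitively on the nine flexes; only
transitivity is stated here.) -/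
theorem result (f : MvPolynomial (Fin 3) ℂ) (hf : f.IsHomogeneous 3)
    (hf0 : f ≠ 0) (hsm : ∀ v : Fin 3 → ℂ, v ≠ 0 → eval v f = 0 → ∃ i : Fin 3, eval v (pderiv i f) ≠ 0)
    (v v' : Fin 3 → ℂ) (hv : v ≠ 0) (hv' : v' ≠ 0) (hfv : eval v f = 0) (hfv' : eval v' f = 0)
    (hflex : (∃ w : Fin 3 → ℂ, LinearIndependent ℂ ![v, w] ∧ ∀ t : ℂ, eval (v + t • w) f = t ^ 3 * eval w f))
    (hflex' : (∃ w : Fin 3 → ℂ, LinearIndependent ℂ ![v', w] ∧ ∀ t : ℂ, eval (v' + t • w) f = t ^ 3 * eval w f)) :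
    ∃ (A : Matrix (Fin 3) (Fin 3) ℂ) (c d : ℂ), IsUnit A.det ∧
      aeval (fun i : Fin 3 => ∑ j : Fin 3, C (A i j) * X j) f = C c * f ∧ A.mulVec v = d • v' := by
    have hS := Groth.Agent.PlaneCubic.smooth_of hf hsm
    by_cases hvv : ∃ r : ℂ, v' = r • v
    · obtain ⟨r, rfl⟩ := hvv
      have hr : r ≠ 0 := fun h => hv' (by rw [h, zero_smul])
      refine ⟨1, 1, r⁻¹, by simp, ?_, by rw [Matrix.one_mulVec, smul_smul, inv_mul_cancel₀ hr, one_smul]⟩
      rw [Groth.Agent.PlaneCubic.subst_eq_iff]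
      intro x; simp
    push Not at hvv
    obtain ⟨Φ, k, hk, hΦ, h1, h2⟩ := Groth.Agent.PlaneCubic.exists_hesse_two hf hS
      ((Groth.Agent.PlaneCubic.flex_iff hf v).2 ⟨hv, hfv, hflex⟩)
      ((Groth.Agent.PlaneCubic.flex_iff hf v').2 ⟨hv', hfv', hflex'⟩) hvv
    obtain ⟨γ, c₁, hγ, hc₁, e1⟩ := Groth.Agent.PlaneCubic.eq_flexPoint (k := k) (v := Φ v)
      (fun h => hv (Φ.map_eq_zero_iff.1 h)) h1 (by rw [← hΦ, hfv])
    obtain ⟨γ', c₂, hγ', hc₂, e2⟩ := Groth.Agent.PlaneCubic.eq_flexPoint (k := k) (v := Φ v')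
      (fun h => hv' (Φ.map_eq_zero_iff.1 h)) h2 (by rw [← hΦ, hfv'])
    have hγ0 : γ ≠ 0 := fun h => by rw [h] at hγ; norm_num at hγ
    set δ := γ' / γ with hδ
    have hδ3 : δ ^ 3 = 1 := by rw [hδ, div_pow, hγ, hγ', div_one]
    have hδ0 : δ ≠ 0 := fun h => by rw [h] at hδ3; norm_num at hδ3
    let D : (Fin 3 → ℂ) →ₗ[ℂ] (Fin 3 → ℂ) := Matrix.toLin' (Matrix.diagonal ![1, δ, δ ^ 2])
    have hD : ∀ z, D z = ![z 0, δ * z 1, δ ^ 2 * z 2] := fun z => by
      funext i; fin_cases i <;> simp [D, Matrix.toLin'_apply, Matrix.mulVec_diagonal]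
    refine ⟨LinearMap.toMatrix' (Φ.symm.toLinearMap.comp (D.comp Φ.toLinearMap)), 1, c₁ * δ / c₂, ?_, ?_, ?_⟩
    · rw [LinearMap.det_toMatrix', show Φ.symm.toLinearMap.comp (D.comp Φ.toLinearMap) =
        (Φ.symm : (Fin 3 → ℂ) →ₗ[ℂ] (Fin 3 → ℂ)).comp (D.comp (Φ.symm.symm : (Fin 3 → ℂ) →ₗ[ℂ] (Fin 3 → ℂ))) from rfl,
        LinearMap.det_conj, LinearMap.det_toLin', Matrix.det_diagonal]
      simp [Fin.prod_univ_three, hδ0]
    · rw [Groth.Agent.PlaneCubic.subst_eq_iff]
      intro x
      rw [LinearMap.toMatrix'_mulVec, hΦ, map_one, one_mul, hΦ]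
      simp only [LinearMap.comp_apply, LinearEquiv.coe_coe, LinearEquiv.apply_symm_apply, hD,
        Groth.Agent.PlaneCubic.hval, Matrix.cons_val]
      linear_combination ((Φ x 1) ^ 3 + (δ ^ 3 + 1) * (Φ x 2) ^ 3 - 3 * k * (Φ x 0 * Φ x 1 * Φ x 2)) * hδ3
    · apply Φ.injective
      rw [LinearMap.toMatrix'_mulVec, map_smul, e2]
      simp only [LinearMap.comp_apply, LinearEquiv.coe_coe, LinearEquiv.apply_symm_apply, hD, e1]
      funext i
      fin_cases i
      · simp
      · simp; field_simp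
      · simp [hδ]; field_simp

end Groth.Agent.S18406
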