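import Mathlib.AlgebraicGeometry.Group.Smooth
import Mathlib.AlgebraicGeometry.Group.Abelian
import Mathlib.AlgebraicGeometry.Morphisms.Separated
import Mathlib.AlgebraicGeometry.Morphisms.Proper
import Mathlib.CategoryTheory.Monoidal.Cartesian.Over
import Mathlib.CategoryTheory.Monoidal.Cartesian.Grp
import Groth.Prelude.Def_CohB1
import Mathlib.AlgebraicGeometry.Morphisms.FiniteType
import Groth.Agent.CohDer1.QP.Final

set_option autoImplicit false
universe u v
namespace CategoryTheory
end CategoryTheory
namespace MonoidalCategory
end MonoidalCategory
namespace CartesianMonoidalCategory
end CartesianMonoidalCategory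
namespace MonObj
end MonObj
namespace GrpObj
end GrpObj
namespace AlgebraicGeometry
end AlgebraicGeometry
open CategoryTheory MonoidalCategory CartesianMonoidalCategory MonObj GrpObj AlgebraicGeometry
namespace GrpSch
end GrpSch
open GrpSch

namespace Groth.Agent.S1841

/-- A group scheme of finite type over a field is quasi-projective over the field; stated as the
existence of an ample invertible module on the underlying scheme (for schemes of finite type over a
field this is the same thing). -/
theorem result (K : Type u) [Field K] (G : Over (Spec (CommRingCat.of K))) [GrpObj G] [LocallyOfFiniteType G.hom] [QuasiCompact G.hom] : ∃ L : G.left.Modules, CohB1.IsAmple L := by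
  exact Groth.Agent.CohDer1.QP.exists_ample G

end Groth.Agent.S1841
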