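import Groth.Statements.S18412
import Groth.Agent.PlaneCubic.Generic
import Mathlib.RingTheory.RootsOfUnity.Complex
import Mathlib.Data.Fintype.Perm
import Mathlib.Algebra.Polynomial.Roots
import Mathlib.LinearAlgebra.Matrix.Permutation

set_option autoImplicit false
universe u
open Cubic

namespace Groth.Agent.S18412

open MvPolynomial in
/-- For all k ∈ ℂ outside a finite set, the Hesse cubic h_k = X₀³ + X₁³ + X₂³ − 3k·X₀X₁X₂ has exactly 18
projective automorphisms; spelled without quotients as: the matrices A of determinant 1 whose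
substitution X_i ↦ Σ_j A_ij X_j carries h_k to a constant multiple of h_k are exactly 54 in number
(every projective class has three lifts of determinant one, so 54 = 3 · 18). As every smooth plane
cubic over ℂ is projectively equivalent to some h_k, this is the statement that the general smooth
plane cubic has a projective automorphism group of order 18. -/
theorem result :
    ∃ T : Finset ℂ, ∀ k : ℂ, k ∉ T →
      Nat.card {A : Matrix (Fin 3) (Fin 3) ℂ // A.det = 1 ∧
        ∃ c : ℂ, aeval (fun i : Fin 3 => ∑ j : Fin 3, C (A i j) * X j) (HesseCubic.form k) =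
          C c * HesseCubic.form k} = 54 := by
    classical
    let P : Polynomial ℂ := Polynomial.X * (1 - Polynomial.X ^ 3) * (8 + Polynomial.X ^ 3) *
      (8 + 20 * Polynomial.X ^ 3 - Polynomial.X ^ 6)
    have hP : P ≠ 0 := fun h => by
      have := congrArg (Polynomial.eval 2) h
      simp [P] at this
      norm_num at this
    refine ⟨P.roots.toFinset, fun k hk => ?_⟩
    have hk' : P.eval k ≠ 0 := fun h => hk (Multiset.mem_toFinset.2 (Polynomial.mem_roots'.2 ⟨hP, h⟩))
    have hg : Groth.Agent.PlaneCubic.Generic k := by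
      refine ⟨?_, ?_, ?_, ?_⟩ <;> intro h <;> apply hk'
      · simp [P, h]
      · simp [P, h]
      · simp [P, h]
      · simp [P, h]
    obtain ⟨ω, hω⟩ : ∃ ω : ℂ, IsPrimitiveRoot ω 3 := ⟨_, Complex.isPrimitiveRoot_exp 3 (by norm_num)⟩
    have hω0 : ω ≠ 0 := hω.ne_zero (by norm_num)
    let s : Equiv.Perm (Fin 3) → ℂ := fun π => ((Equiv.Perm.sign π : ℤ) : ℂ)
    have hs : ∀ π, s π * s π = 1 := fun π => by
      rcases Int.units_eq_one_or (Equiv.Perm.sign π) with h | h <;> simp [s, h]
    have hs0 : ∀ π, s π ≠ 0 := fun π h => by simpa [h] using hs π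
    let u : Equiv.Perm (Fin 3) → Fin 3 → Fin 3 → Fin 3 → ℂ := fun π a b r =>
      s π * ![ω ^ (a : ℕ), ω ^ (b : ℕ), ω ^ (2 * ((a : ℕ) + b))] r
    have hu3 : ∀ π a b r, u π a b r ^ 3 = s π := fun π a b r => by
      have h3 : ∀ n : ℕ, (ω ^ n) ^ 3 = 1 := fun n => by rw [← pow_mul, mul_comm, pow_mul, hω.pow_eq_one, one_pow]
      simp only [u, mul_pow]
      rw [show s π ^ 3 = s π * s π * s π by ring, hs, one_mul]
      fin_cases r <;> simp [h3]
    have huprod : ∀ π a b, u π a b 0 * u π a b 1 * u π a b 2 = s π := fun π a b => by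
      have h : ω ^ (a : ℕ) * ω ^ (b : ℕ) * ω ^ (2 * ((a : ℕ) + b)) = 1 := by
        rw [← pow_add, ← pow_add, show (a : ℕ) + b + 2 * ((a : ℕ) + b) = 3 * ((a : ℕ) + b) by ring, pow_mul,
          hω.pow_eq_one, one_pow]
      simp only [u, Matrix.cons_val]
      linear_combination (s π ^ 3) * h + s π * hs π
    let M : Equiv.Perm (Fin 3) × Fin 3 × Fin 3 → Matrix (Fin 3) (Fin 3) ℂ := fun j =>
      Matrix.diagonal (u j.1 j.2.1 j.2.2) * (j.1).permMatrix ℂ
    have hMv : ∀ j x r, (M j).mulVec x r = u j.1 j.2.1 j.2.2 r * x (j.1 r) := fun j x r => by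
      simp only [M, ← Matrix.mulVec_mulVec, Matrix.mulVec_diagonal, Matrix.permMatrix_mulVec, Function.comp_apply]
    have hpair : ∀ (π : Equiv.Perm (Fin 3)) (x : Fin 3 → ℂ),
        (∑ r, x (π r) ^ 3 = ∑ r, x r ^ 3) ∧ ∏ r, x (π r) = ∏ r, x r :=
      fun π x => ⟨Equiv.sum_comp π (fun r => x r ^ 3), Equiv.prod_comp π x⟩
    suffices hset : {A : Matrix (Fin 3) (Fin 3) ℂ | A.det = 1 ∧ ∃ c : ℂ,
        aeval (fun i : Fin 3 => ∑ j : Fin 3, C (A i j) * X j) (HesseCubic.form k) = C c * HesseCubic.form k} = Set.range M by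
      have hinj : Function.Injective M := fun j j' h => by
        obtain ⟨π, a, b⟩ := j
        obtain ⟨π', a', b'⟩ := j'
        have hu0 : ∀ π a b r, u π a b r ≠ 0 := fun π a b r h0 => hs0 π (by rw [← hu3 π a b r, h0, zero_pow three_ne_zero])
        have hππ : π = π' := Equiv.ext fun r => by
          by_contra hne
          have e := congrArg (fun A : Matrix (Fin 3) (Fin 3) ℂ => A.mulVec (Pi.single (π r) 1) r) h
          simp only [hMv, Pi.single_eq_same, mul_one, Pi.single_eq_of_ne (Ne.symm hne), mul_zero] at e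
          exact hu0 _ _ _ _ e
        subst hππ
        have e := fun r => congrArg (fun A : Matrix (Fin 3) (Fin 3) ℂ => A.mulVec (Pi.single (π r) 1) r) h
        simp only [hMv, Pi.single_eq_same, mul_one] at e
        have e0 : ω ^ (a : ℕ) = ω ^ (a' : ℕ) := mul_left_cancel₀ (hs0 π) (e 0)
        have e1 : ω ^ (b : ℕ) = ω ^ (b' : ℕ) := mul_left_cancel₀ (hs0 π) (e 1)
        rw [Fin.ext (hω.pow_inj a.2 a'.2 e0), Fin.ext (hω.pow_inj b.2 b'.2 e1)]
      have hc := congrArg (fun S : Set (Matrix (Fin 3) (Fin 3) ℂ) => Nat.card S) hset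
      refine hc.trans ?_
      rw [Nat.card_range_of_injective hinj]
      simp [Fintype.card_perm, Nat.factorial]
    apply Set.Subset.antisymm
    · rintro A ⟨hdet, c, hc⟩
      rw [Groth.Agent.PlaneCubic.subst_eq_iff] at hc
      have hA : ∀ x, Groth.Agent.PlaneCubic.hval k (A.mulVec x) = c * Groth.Agent.PlaneCubic.hval k x := fun x => by
        simp only [← Groth.Agent.PlaneCubic.eval_form]
        rw [hc x, map_mul, eval_C]
      obtain ⟨π, w, hw⟩ := Groth.Agent.PlaneCubic.monomial_of_aut hg A (by rw [hdet]; exact one_ne_zero) hA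
      have hw3 : ∀ r, w r ^ 3 = c := fun r => by
        have := hA (Pi.single (π r) 1)
        simp only [Groth.Agent.PlaneCubic.hval, hw] at this
        have hone : Groth.Agent.PlaneCubic.hval k (Pi.single (π r) 1) = 1 := by
          generalize π r = q
          fin_cases q <;> simp [Groth.Agent.PlaneCubic.hval, Pi.single_apply]
        have hz : ∀ r', (Pi.single (π r) (1 : ℂ) : Fin 3 → ℂ) (π r') = if r' = r then 1 else 0 := fun r' => by
          simp [Pi.single_apply, π.injective.eq_iff]
        have h := hA (Pi.single (π r) 1)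
        rw [hone, mul_one] at h
        simp only [Groth.Agent.PlaneCubic.hval, hw, hz] at h
        rw [← h]
        fin_cases r <;> simp
      have hwp : w 0 * w 1 * w 2 = c := by
        have := hA (fun _ => 1)
        simp only [Groth.Agent.PlaneCubic.hval, hw, mul_one, one_pow] at this
        have h3k : (3 * k) ≠ 0 := mul_ne_zero three_ne_zero hg.1
        exact mul_left_cancel₀ h3k (by linear_combination -this + hw3 0 + hw3 1 + hw3 2)
      have hAeq : A = Matrix.diagonal w * π.permMatrix ℂ := Matrix.ext_iff_mulVec.2 fun x => funext fun r => by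
        rw [hw, ← Matrix.mulVec_mulVec, Matrix.mulVec_diagonal, Matrix.permMatrix_mulVec, Function.comp_apply]
      have hcs : c = s π := by
        rw [hAeq, Matrix.det_mul, Matrix.det_diagonal, Matrix.det_permutation, Fin.prod_univ_three, hwp] at hdet
        linear_combination s π * hdet - c * hs π
      subst hcs
      have hroot : ∀ r, ∃ n : Fin 3, w r = s π * ω ^ (n : ℕ) := fun r => by
        obtain ⟨n, hn, hn'⟩ := hω.eq_pow_of_pow_eq_one (ξ := s π * w r) (by
          rw [mul_pow, hw3]; linear_combination (s π ^ 2 + 1) * hs π)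
        exact ⟨⟨n, hn⟩, by rw [hn', ← mul_assoc, hs, one_mul]⟩
      obtain ⟨a, ha⟩ := hroot 0
      obtain ⟨b, hb⟩ := hroot 1
      refine ⟨(π, a, b), ?_⟩
      rw [hAeq]
      simp only [M]
      congr 2
      funext r
      have hp := huprod π a b
      have h0 : u π a b 0 = w 0 := by simp [u, ha]
      have h1 : u π a b 1 = w 1 := by simp [u, hb]
      fin_cases r
      · exact h0
      · exact h1
      · refine mul_left_cancel₀ (mul_ne_zero (a := w 0) (b := w 1) ?_ ?_) ?_
        · rw [ha]; exact mul_ne_zero (hs0 π) (pow_ne_zero _ hω0)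
        · rw [hb]; exact mul_ne_zero (hs0 π) (pow_ne_zero _ hω0)
        · rw [h0, h1] at hp
          exact hp.trans hwp.symm
    · rintro _ ⟨⟨π, a, b⟩, rfl⟩
      refine ⟨?_, s π, ?_⟩
      · simp only [M]
        rw [Matrix.det_mul, Matrix.det_diagonal, Matrix.det_permutation, Fin.prod_univ_three, huprod]
        exact hs π
      · rw [Groth.Agent.PlaneCubic.subst_eq_iff]
        intro x
        rw [map_mul, eval_C, Groth.Agent.PlaneCubic.eval_form, Groth.Agent.PlaneCubic.eval_form]
        obtain ⟨p1, p2⟩ := hpair π x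
        simp only [Fin.sum_univ_three, Fin.prod_univ_three] at p1 p2
        simp only [Groth.Agent.PlaneCubic.hval, hMv]
        linear_combination (hu3 π a b 0) * x (π 0) ^ 3 + (hu3 π a b 1) * x (π 1) ^ 3 + (hu3 π a b 2) * x (π 2) ^ 3 -
          3 * k * (huprod π a b) * (x (π 0) * x (π 1) * x (π 2)) + s π * p1 - 3 * k * s π * p2

end Groth.Agent.S18412
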