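import Groth.Statements.S18413
import Groth.Agent.FlatCx12.ChartSemi
import Groth.Agent.Coherent.ConnectedFibre
import Groth.Agent.CurveRR24.AlgClosed
import Groth.Agent.CurveRR24.Ample
import Groth.Agent.PnCanon5.Duality
import Groth.Agent.Clifford24.SmoothFamilyO
import Groth.Agent.FlatMorDim.Semicont
import Groth.Agent.DimLib.Components
-- import your own Groth.Agent.* helpers here

set_option autoImplicit false
universe u
open CategoryTheory AlgebraicGeometry
open Curves

set_option backward.isDefEq.respectTransparency.types false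
namespace Groth.Agent.S18413

/-- Let k be an algebraically closed field, X a k-scheme that is smooth of relative dimension 2 and
proper over k (a smooth proper surface), S an irreducible k-scheme smooth of relative dimension 1 (a
smooth curve), and π : X → S a proper flat k-morphism with O_S → π_* O_X bijective on every open
subset of S. For a closed point s of S whose scheme-theoretic fibre X_s is reduced: (a) H^0(X_s,
O_{X_s}) is one-dimensional over κ(s), and (b) the arithmetic genus dim H^1(X_s, O_{X_s}) equals
that of the generic fibre X_η over κ(η). -/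
theorem result
    {k : Type u} [Field k] [IsAlgClosed k] {X S : Scheme.{u}}
    (π : X ⟶ S) (g : S ⟶ Spec (CommRingCat.of k))
    [SmoothOfRelativeDimension 1 g] [IrreducibleSpace S]
    [SmoothOfRelativeDimension 2 (π ≫ g)] [IsProper (π ≫ g)]
    [IsProper π] [Flat π]
    (hO : ∀ U : S.Opens, Function.Bijective (π.app U))
    (s : S) (hs : IsClosed ({s} : Set S)) [AlgebraicGeometry.IsReduced (π.fiber s)] :
    PerfAux.betti π (Coh.structureModule X) s 0 = 1 ∧
      PerfAux.betti π (Coh.structureModule X) s 1 =
        PerfAux.betti π (Coh.structureModule X) (genericPoint S) 1 := by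
  haveI : Smooth g := SmoothOfRelativeDimension.smooth 1 g
  haveI : Smooth (π ≫ g) := SmoothOfRelativeDimension.smooth 2 (π ≫ g)
  haveI : IsLocallyNoetherian S := LocallyOfFiniteType.isLocallyNoetherian g
  haveI : LocallyOfFiniteType π := locallyOfFiniteType_of_comp π g
  haveI : IsLocallyNoetherian X := LocallyOfFiniteType.isLocallyNoetherian π
  haveI hqc := Groth.Agent.Coherent.isQCoh_structureModule (X := X)
  have hiso : ∀ V : S.Opens, IsIso (π.app V) := fun V => (ConcreteCategory.isIso_iff_bijective (π.app V)).2 (hO V)
  haveI hconn := Groth.Agent.Coherent.connectedSpace_fiber_of_isIso_app π hiso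
  have hηs : genericPoint S ≠ s := by
    intro h
    have h1 : (Set.univ : Set S) ⊆ {s} := by
      rw [← genericPoint_spec S, h]; exact hs.closure_eq.le
    haveI : Subsingleton S := ⟨fun a b => (h1 (Set.mem_univ a)).trans (h1 (Set.mem_univ b)).symm⟩
    have h2 := Groth.Agent.PnCanon5.dim_eq_of_smooth g 1
    have h0 : topologicalKrullDim S ≤ 0 := topologicalKrullDim_zero_of_discreteTopology S
    rw [h2] at h0
    exact absurd h0 (by norm_num)
  have hdimX : ∀ z : X, Groth.Agent.DimLib.ptDim (π ≫ g) z ≤ 2 := fun z => by
    haveI : Nonempty X := ⟨z⟩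
    have h := (le_iSup (fun z : X => (Groth.Agent.DimLib.ptDim (π ≫ g) z : WithBot ℕ∞)) z).trans
      (Groth.Agent.DimLib.topologicalKrullDim_eq_iSup (π ≫ g)).ge
    rw [Groth.Agent.PnCanon5.dim_eq_of_smooth (π ≫ g) 2] at h
    exact_mod_cast h
  have hds : topologicalKrullDim ↥(π.fiber s) ≤ 1 := by
    rw [IsHomeomorph.topologicalKrullDim_eq _ (π.fiberHomeo s).isHomeomorph,
      Groth.Agent.DimLib.topologicalKrullDim_closed_eq_iSup (π ≫ g) (hs.preimage π.continuous)]
    refine iSup_le fun z => ?_
    obtain ⟨w, hwz, hw⟩ := Flat.generalizingMap π (show genericPoint S ⤳ π z.1 from genericPoint_specializes _)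
    have hne : w ≠ z.1 := fun e => hηs (hw.symm.trans ((congrArg π e).trans z.2))
    have := Groth.Agent.DimLib.ptDim_lt_of_specializes (f := π ≫ g) hwz hne
    have := hdimX w
    exact_mod_cast (show Groth.Agent.DimLib.ptDim (π ≫ g) z.1 ≤ 1 by omega)
  let η := genericPoint S
  have hgen : ∀ U : Set S, IsOpen U → s ∈ U → η ∈ U := fun U hU hsU => (genericPoint_specializes s).mem_open hU hsU
  have hdη : topologicalKrullDim ↥(π.fiber η) ≤ 1 := hgen _ (Groth.Agent.FlatMorDim.isOpen_fiber_dim_le π 1) hds
  have hfp : CohB1.IsFP (Coh.structureModule X) := Groth.Agent.Clifford24.isFP_structure (X := X)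
  have hfl : FlatMod.IsFlatOver π (Coh.structureModule X) := Groth.Agent.Clifford24.isFlatOver_structure π
  have hb : ∀ (y : S), topologicalKrullDim ↥(π.fiber y) ≤ 1 → ∀ i : ℕ, 2 ≤ i →
      PerfAux.betti π (Coh.structureModule X) y i = 0 := fun y hy i hi => by
    haveI := Groth.Agent.CohExch.subsingleton_fiberH_of_dim hfp 1 y (by exact_mod_cast hy) i (show 1 < i by omega)
    exact Module.finrank_zero_of_subsingleton
  have hχ : ∀ (y : S), topologicalKrullDim ↥(π.fiber y) ≤ 1 → PerfAux.eulerChar π (Coh.structureModule X) y =
      (PerfAux.betti π (Coh.structureModule X) y 0 : ℤ) - PerfAux.betti π (Coh.structureModule X) y 1 := fun y hy => by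
    rw [PerfAux.eulerChar, finsum_eq_sum_of_support_subset _ (s := Finset.range 2) (fun i hi => by
      simp only [Finset.coe_range, Set.mem_Iio]
      by_contra h
      exact hi (by simp [hb y hy i (by omega)]))]
    simp [Finset.sum_range_succ]
    ring
  have hH0 : ∀ y : S, letI := Groth.Agent.Clifford24.fibreOver π y
      PerfAux.betti π (Coh.structureModule X) y 0 =
        Module.finrank (S.residueField y) (Coh.HH (π.fiber y) (Coh.structureModule (π.fiber y)) 0) := fun y => by
    letI := Groth.Agent.Clifford24.fibreOver π y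
    exact Groth.Agent.Coherent.CohBC.finrank_HH_congr (S.residueField y)
      (_root_.PicLoc.pullbackStructureIso (π.fiberι y)) 0
  have h0s : PerfAux.betti π (Coh.structureModule X) s 0 = 1 := by
    rw [hH0]
    letI := Groth.Agent.Clifford24.fibreOver π s
    haveI : IsAlgClosed (S.residueField s) :=
      IsAlgClosed.of_ringEquiv k _ (residueFieldIsoBase g s hs).symm.commRingCatIsoToRingEquiv
    haveI : IsProper (π.fiber s ↘ Spec (CommRingCat.of (S.residueField s))) :=
      MorphismProperty.pullback_snd (P := @IsProper) _ _ ‹IsProper π›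
    haveI := hconn s
    exact Groth.Agent.CurveRR24.h0_structure (S.residueField s)
  refine ⟨h0s, ?_⟩
  have h0η : PerfAux.betti π (Coh.structureModule X) η 0 = 1 := by
    have hlt := hgen _ (Groth.Agent.FlatCx12.ChartSemi.isOpen_betti_lt π hfp hfl 0 2)
      (show PerfAux.betti π (Coh.structureModule X) s 0 < 2 by omega)
    have hpos : 0 < PerfAux.betti π (Coh.structureModule X) η 0 := by
      rw [hH0]
      letI := Groth.Agent.Clifford24.fibreOver π η
      haveI : IsProper (π.fiber η ↘ Spec (CommRingCat.of (S.residueField η))) :=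
        MorphismProperty.pullback_snd (P := @IsProper) _ _ ‹IsProper π›
      haveI := hconn η
      haveI : IsLocallyNoetherian (π.fiber η) :=
        LocallyOfFiniteType.isLocallyNoetherian (π.fiberToSpecResidueField η)
      haveI : Nontrivial (Groth.Agent.Coherent.GA (Groth.Agent.Coherent.baseHom (S.residueField η) (π.fiber η))
          (Coh.structureModule (π.fiber η))) := by
        haveI : Nonempty (⊤ : (π.fiber η).Opens) := ⟨⟨(inferInstance : Nonempty ↥(π.fiber η)).some, trivial⟩⟩
        exact inferInstanceAs (Nontrivial Γ(π.fiber η, ⊤))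
      haveI := Groth.Agent.CurveRR24.finite_HH_of_isCoh (S.residueField η) (Groth.Agent.Coherent.isCoh_structureModule (π.fiber η)) 0
      rw [(Groth.Agent.CurveRR24.hhZero (S.residueField η) (Coh.structureModule (π.fiber η))).finrank_eq]
      haveI := Module.Finite.equiv (Groth.Agent.CurveRR24.hhZero (S.residueField η) (Coh.structureModule (π.fiber η)))
      exact Module.finrank_pos
    have : PerfAux.betti π (Coh.structureModule X) η 0 < 2 := hlt
    omega
  have hE := (Groth.Agent.FlatCx12.ChartSemi.isLocallyConstant_eulerChar π hfp hfl).apply_eq_of_isPreconnected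
    isPreconnected_univ (Set.mem_univ s) (Set.mem_univ η)
  rw [hχ s hds, hχ η hdη, h0s, h0η] at hE
  show _ = PerfAux.betti π (Coh.structureModule X) η 1
  omega

end Groth.Agent.S18413
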