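import Groth.Statements.S18415
import Groth.Agent.HenselLib.KummerSheaf
-- import your own Groth.Agent.* helpers here

set_option autoImplicit false
set_option backward.isDefEq.respectTransparency.types false
set_option backward.isDefEq.respectTransparency false
universe u
open scoped Polynomial
open CategoryTheory AlgebraicGeometry
open EtCoh

set_option maxHeartbeats 1000000

namespace Groth.Agent.S18415

/-- Let p be a prime and X a scheme with p = 0 in Γ(X, O_X). Then the Artin–Schreier endomorphism x ↦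
x^p − x of the additive group sheaf G_a on the small étale site of X is an epimorphism of abelian
étale sheaves (the right-hand exactness of 0 → Z/p → G_a → G_a → 0 on X_et). (The published example
takes X a variety over a field of characteristic p; this row assumes only that p = 0 in Γ(X, O_X).) -/
theorem result
    (p : ℕ) (hp : p.Prime) {X : Scheme.{u}} (h0 : (p : Γ(X, ⊤)) = 0) :
    Epi (W4c5etcohweilstudent.artinSchreierEndo X p hp h0) := by
  rw [← Sheaf.isLocallySurjective_iff_epi']
  refine ⟨fun {U} t => HenselLib.Kummer.mem_of_points U _ fun x => ?_⟩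
  let v : Γ(U.left, ⊤) := (show ULift.{u+1} Γ(U.left, ⊤) from t).down
  have hv : ULift.up v = t := rfl
  haveI : AlgebraicGeometry.Etale U.hom := U.prop
  obtain ⟨O, hO, hxO, -⟩ := exists_isAffineOpen_mem_and_subset (X := U.left) (x := x) (U := ⊤) trivial
  haveI : IsAffine (O : Scheme.{u}) := hO
  let W : Scheme.{u} := O
  let k := AlgebraicClosure (W.residueField ⟨x, hxO⟩)
  let q : Spec (CommRingCat.of k) ⟶ W :=
    Spec.map (CommRingCat.ofHom (algebraMap (W.residueField ⟨x, hxO⟩) k)) ≫ W.fromSpecResidueField ⟨x, hxO⟩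
  let ev : Γ(W, ⊤) ⟶ CommRingCat.of k := q.appTop ≫ (Scheme.ΓSpecIso (CommRingCat.of k)).hom
  let a : Γ(W, ⊤) := O.ι.appTop.hom v
  have hpW : (p : Γ(W, ⊤)) = 0 := by
    have h := congrArg O.ι.appTop.hom (W4c5etcohweilstudent.natCast_eq_zero_etale p h0 U)
    rwa [map_natCast, map_zero] at h
  have hdeg : (Polynomial.X : k[X]).degree < ((p : ℕ) : WithBot ℕ) := by
    rw [Polynomial.degree_X]; exact_mod_cast hp.one_lt
  obtain ⟨r, hr⟩ := IsAlgClosed.exists_root (Polynomial.X ^ p - (Polynomial.X + Polynomial.C (ev.hom a)) : k[X]) (by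
    rw [Polynomial.degree_sub_eq_left_of_degree_lt, Polynomial.degree_X_pow]
    · exact_mod_cast hp.ne_zero
    · rw [Polynomial.degree_X_add_C, Polynomial.degree_X_pow]; exact_mod_cast hp.one_lt)
  rw [Polynomial.IsRoot, Polynomial.eval_sub, Polynomial.eval_pow, Polynomial.eval_X, Polynomial.eval_add,
    Polynomial.eval_X, Polynomial.eval_C] at hr
  have hmon : (Polynomial.X ^ p - (Polynomial.X + Polynomial.C a) : Γ(W, ⊤)[X]).Monic := by
    refine Polynomial.monic_X_pow_sub ?_
    refine lt_of_le_of_lt ((Polynomial.degree_add_le _ _).trans (max_le Polynomial.degree_X_le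
      (Polynomial.degree_C_le.trans (by exact_mod_cast Nat.zero_le 1)))) ?_
    exact_mod_cast hp.one_lt
  have hder : Polynomial.derivative (Polynomial.X ^ p - (Polynomial.X + Polynomial.C a) : Γ(W, ⊤)[X]) = -1 := by
    simp [Polynomial.derivative_X_pow, hpW]
  let P : StandardEtalePair Γ(W, ⊤) := ⟨_, hmon, 1, -1, 0, 1, by rw [hder]; ring⟩
  letI : Algebra Γ(W, ⊤) k := ev.hom.toAlgebra
  have hP : P.HasMap (S := k) r := by
    refine ⟨?_, by simp [P]⟩
    show Polynomial.aeval r (Polynomial.X ^ p - (Polynomial.X + Polynomial.C a) : Γ(W, ⊤)[X]) = 0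
    rw [map_sub, map_add, Polynomial.aeval_X_pow, Polynomial.aeval_X, Polynomial.aeval_C]
    exact hr
  let B := CommRingCat.of P.Ring
  let α : Γ(W, ⊤) ⟶ B := CommRingCat.ofHom (algebraMap Γ(W, ⊤) P.Ring)
  let χ : B ⟶ CommRingCat.of k := CommRingCat.ofHom (P.lift r hP).toRingHom
  have hχ : α ≫ χ = ev := by ext c; exact (P.lift r hP).commutes c
  haveI : AlgebraicGeometry.Etale (Spec.map α) :=
    (HasRingHomProperty.Spec_iff (P := @AlgebraicGeometry.Etale)).mpr (RingHom.etale_algebraMap.mpr inferInstance)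
  let f : Spec B ⟶ W := Spec.map α ≫ W.isoSpec.inv
  haveI : AlgebraicGeometry.Etale f := by
    haveI : AlgebraicGeometry.Etale (Spec.map α ≫ W.isoSpec.inv) := inferInstance
    assumption
  haveI : AlgebraicGeometry.Etale (O.ι ≫ U.hom) :=
    MorphismProperty.comp_mem @AlgebraicGeometry.Etale O.ι U.hom inferInstance inferInstance
  haveI : AlgebraicGeometry.Etale (f ≫ O.ι ≫ U.hom) :=
    MorphismProperty.comp_mem @AlgebraicGeometry.Etale f _ inferInstance inferInstance
  let V : X.Etale := Scheme.Etale.mk (f ≫ O.ι ≫ U.hom)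
  let g : V ⟶ U := MorphismProperty.Over.homMk (f ≫ O.ι) (Category.assoc _ _ _) trivial
  have hinv : W.isoSpec.inv.appTop = (Scheme.ΓSpecIso Γ(W, ⊤)).inv := by
    have h : W.isoSpec.inv.appTop ≫ W.isoSpec.hom.appTop = 𝟙 _ := by
      rw [← Scheme.Hom.comp_appTop, Iso.hom_inv_id, Scheme.Hom.id_appTop]
    rw [show W.isoSpec.hom = W.toSpecΓ from rfl, Scheme.toSpecΓ_appTop] at h
    exact (Iso.comp_hom_eq_id (Scheme.ΓSpecIso Γ(W, ⊤))).mp h
  have hf : f.appTop = α ≫ (Scheme.ΓSpecIso B).inv := by
    rw [Scheme.Hom.comp_appTop, hinv]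
    exact (Scheme.ΓSpecIso_inv_naturality α).symm
  have hq : Spec.map χ ≫ f = q := by
    refine ext_of_isAffine ?_
    rw [Scheme.Hom.comp_appTop, hf, Category.assoc, ← Scheme.ΓSpecIso_inv_naturality χ,
      ← Category.assoc, hχ]
    simp [ev]
  refine ⟨V, g, Spec.map χ (IsLocalRing.closedPoint k), ?_, ?_⟩
  · let y : Γ(V.left, ⊤) := (Scheme.ΓSpecIso B).inv.hom P.X
    refine ⟨ULift.up y, ?_⟩
    show ULift.up (y ^ p - y) = ULift.up (g.left.appTop.hom v)
    congr 1
    have h1 : P.X ^ p - P.X = algebraMap Γ(W, ⊤) P.Ring a := by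
      have h := P.hasMap_X.1
      rw [show P.f = Polynomial.X ^ p - (Polynomial.X + Polynomial.C a) from rfl, map_sub, map_add,
        Polynomial.aeval_X_pow, Polynomial.aeval_X, Polynomial.aeval_C] at h
      linear_combination h
    show ((Scheme.ΓSpecIso B).inv.hom P.X) ^ p - (Scheme.ΓSpecIso B).inv.hom P.X = (f ≫ O.ι).appTop.hom v
    rw [← map_pow, ← map_sub, h1, Scheme.Hom.comp_appTop, hf]
    rfl
  · show (Spec.map χ ≫ f ≫ O.ι) _ = x
    rw [← Category.assoc, hq]
    simp only [q, Scheme.Hom.comp_apply]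
    erw [Scheme.fromSpecResidueField_apply]
    rfl

end Groth.Agent.S18415
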