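import Groth.Statements.S18416
import Mathlib
-- import your own Groth.Agent.* helpers here

set_option autoImplicit false
universe u v w
open CAlg

namespace Groth.Agent.S18416

section
open Algebra KaehlerDifferential
open scoped TensorProduct

theorem etale_quotient_of_basis {C : Type v} {B' : Type w} [CommRing C] [CommRing B'] [Algebra C B']
    [Algebra.Smooth C B'] {κ : Type w} [Finite κ] (g : κ → B')
    (b : Module.Basis κ B' (Ω[B'⁄C])) (hb : ∀ i, b i = D C B' (g i)) :
    Algebra.Etale C (B' ⧸ Ideal.span (Set.range g)) := by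
  set I := Ideal.span (Set.range g) with hI
  let A' := B' ⧸ I
  have hf : Function.Surjective (algebraMap B' A') := Ideal.Quotient.mk_surjective
  have hker : RingHom.ker (algebraMap B' A') = I := Ideal.mk_ker
  have hgI : ∀ i, g i ∈ RingHom.ker (algebraMap B' A') := fun i => by
    rw [hker]; exact Ideal.subset_span ⟨i, rfl⟩
  let bA : Module.Basis κ A' (A' ⊗[B'] Ω[B'⁄C]) := b.baseChange A'
  have hbA : ∀ i, bA i = kerCotangentToTensor C B' A' ((RingHom.ker (algebraMap B' A')).toCotangent ⟨g i, hgI i⟩) := by
    intro i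
    rw [kerCotangentToTensor_toCotangent]
    simp [bA, hb]
  have hspan : Submodule.span B' (Set.range fun i => (⟨g i, hgI i⟩ : RingHom.ker (algebraMap B' A'))) = ⊤ := by
    apply Submodule.map_injective_of_injective (RingHom.ker (algebraMap B' A')).injective_subtype
    rw [Submodule.map_span, Submodule.map_subtype_top, ← Set.range_comp]
    exact hI.symm.trans hker.symm
  haveI hfs : Algebra.FormallySmooth C A' := by
    rw [Algebra.FormallySmooth.iff_split_injection hf]
    let u := b.constr B' fun i => (RingHom.ker (algebraMap B' A')).toCotangent ⟨g i, hgI i⟩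
    have hu : I • (⊤ : Submodule B' Ω[B'⁄C]) ≤ LinearMap.ker u := by
      refine Submodule.smul_le.mpr fun r hr m _ => ?_
      rw [LinearMap.mem_ker, map_smul]
      obtain ⟨y, hy⟩ := Ideal.toCotangent_surjective _ (u m)
      rw [← hy, ← map_smul, Ideal.toCotangent_eq_zero, pow_two]
      exact Ideal.mul_mem_mul (hker.symm ▸ hr) y.2
    let l := ((I • (⊤ : Submodule B' Ω[B'⁄C])).liftQ u hu) ∘ₗ (TensorProduct.quotTensorEquivQuotSMul Ω[B'⁄C] I).toLinearMap
    refine ⟨l, ?_⟩
    apply LinearMap.ext
    intro x
    obtain ⟨x, rfl⟩ := Ideal.toCotangent_surjective _ x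
    have hx : x ∈ Submodule.span B' (Set.range fun i => (⟨g i, hgI i⟩ : RingHom.ker (algebraMap B' A'))) := by
      rw [hspan]; trivial
    refine LinearMap.eqOn_span (f := (l ∘ₗ kerCotangentToTensor C B' A') ∘ₗ (RingHom.ker (algebraMap B' A')).toCotangent)
      (g := (RingHom.ker (algebraMap B' A')).toCotangent) ?_ hx
    rintro _ ⟨i, rfl⟩
    simp only [LinearMap.comp_apply, kerCotangentToTensor_toCotangent, l]
    have h1 : (TensorProduct.quotTensorEquivQuotSMul Ω[B'⁄C] I) ((1 : A') ⊗ₜ[B'] b i) = Submodule.Quotient.mk (b i) := by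
      rw [show (1 : A') = Ideal.Quotient.mk I 1 from rfl, TensorProduct.quotTensorEquivQuotSMul_mk_tmul, one_smul]
    rw [LinearEquiv.coe_coe, ← hb, h1, Submodule.liftQ_apply]
    simp [u]
  haveI : Algebra.FormallyUnramified C A' := by
    rw [Algebra.formallyUnramified_iff]
    refine subsingleton_of_forall_eq 0 fun z => ?_
    obtain ⟨y, rfl⟩ := mapBaseChange_surjective C B' A' hf z
    have h0 : ∀ i, mapBaseChange C B' A' (bA i) = 0 := fun i => by
      rw [hbA]
      exact (exact_kerCotangentToTensor_mapBaseChange C B' A' hf).apply_apply_eq_zero _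
    have : mapBaseChange C B' A' = 0 := bA.ext fun i => by simpa using h0 i
    rw [this]; rfl
  haveI : Algebra.FinitePresentation C A' :=
    Algebra.FinitePresentation.quotient ⟨(Set.finite_range g).toFinset, by rw [Set.Finite.coe_toFinset]⟩
  haveI : Algebra.FormallyEtale C A' := Algebra.FormallyEtale.of_formallyUnramified_and_formallySmooth
  exact ⟨inferInstance, inferInstance⟩

end

/-- Let R → C and C → B be smooth ring homomorphisms, J an ideal of B and K the preimage of J in C, and
suppose that C surjects onto A = B/J (so that C/K = B/J = A). Then for every prime x of A there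
exist f ∈ B whose image in A does not lie in x and an ideal J₀ of B_f contained in J B_f such that
the composite C → B_f → B_f/J₀ is étale. -/
theorem result (R : Type u) (C : Type v) (B : Type w)
    [CommRing R] [CommRing C] [CommRing B] [Algebra R C] [Algebra C B] [Algebra R B] [IsScalarTower R C B]
    [Algebra.Smooth R C] [Algebra.Smooth C B] (J : Ideal B)
    (hsurj : Function.Surjective ((Ideal.Quotient.mk J).comp (algebraMap C B)))
    (x : PrimeSpectrum (B ⧸ J)) :
    ∃ f : B, Ideal.Quotient.mk J f ∉ x.asIdeal ∧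
      ∃ J₀ : Ideal (Localization.Away f), J₀ ≤ J.map (algebraMap B (Localization.Away f)) ∧
        ((Ideal.Quotient.mk J₀).comp ((algebraMap B (Localization.Away f)).comp (algebraMap C B))).Etale := by
  classical
  let p : Ideal B := x.asIdeal.comap (Ideal.Quotient.mk J)
  haveI : p.IsPrime := Ideal.comap_isPrime _ _
  let l₂ : Ω[B⁄C] →ₗ[B] Ω[Localization.AtPrime p⁄C] := KaehlerDifferential.map C C B (Localization.AtPrime p)
  let v : J → Ω[Localization.AtPrime p⁄C] := fun j => l₂ (KaehlerDifferential.D C B (j : B))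
  have hv : Submodule.span (Localization.AtPrime p) (Set.range v) = ⊤ := by
    rw [eq_top_iff, ← KaehlerDifferential.span_range_map_derivation_of_isLocalization C _ (Localization.AtPrime p) p.primeCompl]
    refine Submodule.span_mono ?_
    rintro _ ⟨y, rfl⟩
    obtain ⟨c, hc⟩ := hsurj (Ideal.Quotient.mk J y)
    refine ⟨⟨y - algebraMap C B c, Ideal.Quotient.eq.mp hc.symm⟩, ?_⟩
    simp [v, l₂, (IsScalarTower.algebraMap_apply C B (Localization.AtPrime p) c).symm]
  obtain ⟨κ, a, b, hb⟩ := Module.exists_basis_of_span_of_flat v hv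
  let e : (κ →₀ B) →ₗ[B] Ω[B⁄C] := Finsupp.linearCombination B fun i : κ => KaehlerDifferential.D C B (a i : B)
  let l₁ : (κ →₀ B) →ₗ[B] (κ →₀ Localization.AtPrime p) :=
    Finsupp.mapRange.linearMap (Algebra.linearMap B (Localization.AtPrime p))
  let eₚ : (κ →₀ Localization.AtPrime p) →ₗ[Localization.AtPrime p] Ω[Localization.AtPrime p⁄C] :=
    IsLocalizedModule.mapExtendScalars p.primeCompl l₁ l₂ (Localization.AtPrime p) e
  have : eₚ = b.repr.symm := by
    ext i
    trans IsLocalizedModule.map p.primeCompl l₁ l₂ e <| l₁ <| Finsupp.single i 1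
    · simp [eₚ, -IsLocalizedModule.map_apply, l₁]
    · simp [l₂, e, hb, v]
  have heₚ : Function.Bijective eₚ := this ▸ b.repr.symm.bijective
  have : Finite κ := Module.Finite.finite_basis b
  obtain ⟨g, hg, h⟩ := Module.FinitePresentation.exists_notMem_bijective e p l₁ l₂ heₚ
  let l₁ₜ : (κ →₀ B) →ₗ[B] (κ →₀ Localization.Away g) := Finsupp.mapRange.linearMap (Algebra.linearMap B _)
  let l₂ₜ : Ω[B⁄C] →ₗ[B] Ω[Localization.Away g⁄C] := KaehlerDifferential.map C C B (Localization.Away g)
  rw [← IsLocalizedModule.map_bijective_iff_localizedModuleMap_bijective l₁ₜ l₂ₜ] at h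
  let eₜ' : (κ →₀ Localization.Away g) →ₗ[Localization.Away g] Ω[Localization.Away g⁄C] :=
    IsLocalizedModule.mapExtendScalars (Submonoid.powers g) l₁ₜ l₂ₜ (Localization.Away g) e
  let bg : Module.Basis κ (Localization.Away g) Ω[Localization.Away g⁄C] := .ofRepr (LinearEquiv.ofBijective eₜ' h).symm
  let gs : κ → Localization.Away g := fun i => algebraMap B _ (a i : B)
  have hbg : ∀ i, bg i = KaehlerDifferential.D C (Localization.Away g) (gs i) := fun i => by
    have key : eₜ' (l₁ₜ (Finsupp.single i 1)) = l₂ₜ (e (Finsupp.single i 1)) :=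
      IsLocalizedModule.map_apply (Submonoid.powers g) l₁ₜ l₂ₜ e _
    simp [l₁ₜ, l₂ₜ, e] at key
    simp only [bg, gs, Module.Basis.coe_ofRepr, LinearEquiv.symm_symm]
    exact key
  haveI : Algebra.Smooth B (Localization.Away g) := Algebra.Smooth.of_isLocalization_Away g
  haveI : Algebra.Smooth C (Localization.Away g) := Algebra.Smooth.comp C B _
  refine ⟨g, hg, Ideal.span (Set.range gs), ?_, ?_⟩
  · rw [Ideal.span_le]
    rintro _ ⟨i, rfl⟩
    exact Ideal.mem_map_of_mem _ (a i).2
  · have := etale_quotient_of_basis gs bg hbg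
    rw [← RingHom.etale_algebraMap] at this
    rw [← IsScalarTower.algebraMap_eq C B (Localization.Away g)]
    exact this

end Groth.Agent.S18416
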