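import Groth.Statements.S18417
import Groth.Agent.QReg6.Regular
import Groth.Agent.S5802
-- import your own Groth.Agent.* helpers here

set_option autoImplicit false
universe u v
open CAlg

namespace Groth.Agent.S18417

/-- Let R → A be a ring homomorphism and x_1, …, x_d a weakly regular sequence in A generating an ideal
J such that B = A/J is formally smooth over R. Then for every N ≥ 1 there is an isomorphism of
R-algebras e : A/J^N ≅ B[T_1, …, T_d]/(T_1, …, T_d)^N which sends the class of x_i to the class of
T_i and which is compatible with the projections to B: for every a ∈ A, e(a mod J^N) is congruent to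
the constant a mod J modulo the ideal generated by the variables. (The source also assumes R → A
smooth, which its argument does not use, and a regular sequence; weak regularity is what the
argument uses.) -/
theorem result
    (R : Type u) (A : Type v) [CommRing R] [CommRing A] [Algebra R A] (d : ℕ) (x : Fin d → A)
    (hreg : RingTheory.Sequence.IsWeaklyRegular A (List.ofFn x))
    [Algebra.FormallySmooth R (A ⧸ Ideal.span (Set.range x))] (N : ℕ) (hN : 1 ≤ N) :
    ∃ e : (A ⧸ Ideal.span (Set.range x) ^ N) ≃ₐ[R]
        (MvPolynomial (Fin d) (A ⧸ Ideal.span (Set.range x)) ⧸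
          Ideal.span (Set.range (MvPolynomial.X : Fin d → MvPolynomial (Fin d) (A ⧸ Ideal.span (Set.range x)))) ^ N),
      (∀ i : Fin d, e (Ideal.Quotient.mk _ (x i)) = Ideal.Quotient.mk _ (MvPolynomial.X i)) ∧
      ∀ a : A, e (Ideal.Quotient.mk _ a) - Ideal.Quotient.mk _ (MvPolynomial.C (Ideal.Quotient.mk _ a)) ∈
        (Ideal.span (Set.range (MvPolynomial.X : Fin d → MvPolynomial (Fin d) (A ⧸ Ideal.span (Set.range x))))).map
          (Ideal.Quotient.mk _) := by
  classical
  set I : Ideal A := Ideal.span (Set.range x) with hI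
  let B := A ⧸ I
  let AN := A ⧸ I ^ N
  let mkN : A →+* AN := Ideal.Quotient.mk (I ^ N)
  have hqr : CAlgX.IsQuasiRegular x := Groth.Agent.S5802.result A d x hreg
  have hIN : I ^ N ≤ I := Ideal.pow_le_self (by omega)
  let g : AN →ₐ[R] B := Ideal.Quotient.factorₐ R hIN
  have hgs : Function.Surjective g := Ideal.Quotient.factor_surjective hIN
  have hgk : ∀ z : AN, g z = 0 → z ∈ I.map mkN := by
    intro z hz
    obtain ⟨a, rfl⟩ := Ideal.Quotient.mk_surjective z
    exact Ideal.mem_map_of_mem _ (Ideal.Quotient.eq_zero_iff_mem.mp hz)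
  have hnil : IsNilpotent (RingHom.ker g) := by
    refine ⟨N, ?_⟩
    have h1 : RingHom.ker g ≤ I.map mkN := fun z hz => hgk z hz
    refine le_bot_iff.mp ((Ideal.pow_right_mono h1 N).trans (le_of_eq ?_))
    rw [← Ideal.map_pow]
    exact Ideal.map_quotient_self _
  let σ : B →ₐ[R] AN := Algebra.FormallySmooth.liftOfSurjective (AlgHom.id R B) g hgs hnil
  have hσ : ∀ b, g (σ b) = b := fun b => Algebra.FormallySmooth.liftOfSurjective_apply _ g hgs hnil b
  let ψ : MvPolynomial (Fin d) B →ₐ[R] AN :=
    { MvPolynomial.eval₂Hom σ.toRingHom (fun i => mkN (x i)) with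
      commutes' := fun r => by
        simp [MvPolynomial.algebraMap_apply] }
  have hψC : ∀ b, ψ (MvPolynomial.C b) = σ b := fun b => MvPolynomial.eval₂_C _ _ b
  have hψX : ∀ i, ψ (MvPolynomial.X i) = mkN (x i) := fun i => MvPolynomial.eval₂_X _ _ i
  have hψmap : (MvPolynomial.idealOfVars (Fin d) B).map (ψ : MvPolynomial (Fin d) B →+* AN) = I.map mkN := by
    show _ = Ideal.map mkN (Ideal.span (Set.range x))
    rw [Ideal.map_span, Ideal.map_span, ← Set.range_comp, ← Set.range_comp]
    congr 2
    funext i
    exact hψX i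
  have hψpow : ∀ {k : ℕ} {F}, F ∈ MvPolynomial.idealOfVars (Fin d) B ^ k → ψ F ∈ (I ^ k).map mkN := by
    intro k F hF
    rw [Ideal.map_pow, ← hψmap, ← Ideal.map_pow]
    exact Ideal.mem_map_of_mem (ψ : MvPolynomial (Fin d) B →+* AN) hF
  have hker : ∀ F, ψ F = 0 → F ∈ MvPolynomial.idealOfVars (Fin d) B ^ N := by
    intro F hF
    suffices ∀ r, r ≤ N → F ∈ MvPolynomial.idealOfVars (Fin d) B ^ r from this N le_rfl
    intro r
    induction r with
    | zero => intro _; simp
    | succ r ih =>
      intro hr
      have hF' := ih (by omega)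
      rw [MvPolynomial.mem_pow_idealOfVars_iff'] at hF' ⊢
      let Fr := MvPolynomial.homogeneousComponent r F
      have hdiff : F - Fr ∈ MvPolynomial.idealOfVars (Fin d) B ^ (r + 1) := by
        rw [MvPolynomial.mem_pow_idealOfVars_iff']
        intro e he
        simp only [MvPolynomial.coeff_sub, Fr, MvPolynomial.coeff_homogeneousComponent]
        split_ifs with h
        · simp
        · rw [sub_zero]; exact hF' e (by omega)
      have hFr : ψ Fr ∈ (I ^ (r + 1)).map mkN := by
        have h1 := hψpow hdiff
        rw [map_sub, hF, zero_sub] at h1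
        exact neg_mem_iff.mp h1
      choose s hs using fun b => Ideal.Quotient.mk_surjective (σ b)
      let G : MvPolynomial (Fin d) A := ∑ e ∈ Fr.support, MvPolynomial.monomial e (s (Fr.coeff e))
      have hG : G.IsHomogeneous r := MvPolynomial.IsHomogeneous.sum _ _ _ fun e he => by
        refine MvPolynomial.isHomogeneous_monomial _ ?_
        by_contra hne
        exact (MvPolynomial.mem_support_iff.mp he) ((MvPolynomial.homogeneousComponent_isHomogeneous r F).coeff_eq_zero hne)
      have hGe : mkN (MvPolynomial.eval x G) = ψ Fr := by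
        conv_rhs => rw [MvPolynomial.as_sum Fr]
        simp only [G, map_sum, MvPolynomial.eval_monomial, map_mul]
        refine Finset.sum_congr rfl fun e _ => ?_
        show _ = MvPolynomial.eval₂ σ.toRingHom (fun i => mkN (x i)) _
        rw [MvPolynomial.eval₂_monomial, map_finsuppProd]
        simp only [map_pow]
        exact congrArg₂ (· * ·) (hs _) rfl
      have hmem : MvPolynomial.eval x G ∈ I ^ (r + 1) := by
        rw [← hGe, Ideal.mem_map_iff_of_surjective _ Ideal.Quotient.mk_surjective] at hFr
        obtain ⟨y, hy, hy'⟩ := hFr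
        have := Ideal.Quotient.eq.mp hy'
        exact (sub_sub_cancel y (MvPolynomial.eval x G)) ▸ sub_mem hy (Ideal.pow_le_pow_right hr this)
      intro e he
      rcases Nat.lt_succ_iff_lt_or_eq.mp he with h | h
      · exact hF' e h
      · by_contra hne
        have hc : Fr.coeff e = F.coeff e := by simp [Fr, MvPolynomial.coeff_homogeneousComponent, h]
        have hes : e ∈ Fr.support := by rw [MvPolynomial.mem_support_iff, hc]; exact hne
        have hGc : G.coeff e = s (Fr.coeff e) := by
          simp [G, MvPolynomial.coeff_sum, MvPolynomial.coeff_monomial, hes]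
        have := hqr r G hG hmem e
        rw [hGc] at this
        apply hne
        rw [← hc, ← hσ (Fr.coeff e), ← hs]
        exact Ideal.Quotient.eq_zero_iff_mem.mpr this
  have hψs : Function.Surjective ψ := by
    suffices ∀ k z, ∃ F, z - ψ F ∈ (I ^ k).map mkN by
      intro z
      obtain ⟨F, hF⟩ := this N z
      rw [show (I ^ N).map mkN = ⊥ from Ideal.map_quotient_self _, Ideal.mem_bot, sub_eq_zero] at hF
      exact ⟨F, hF.symm⟩
    intro k
    induction k with
    | zero => intro z; exact ⟨0, by simp [Ideal.map_top]⟩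
    | succ k ih =>
      intro z
      obtain ⟨F, hF⟩ := ih z
      obtain ⟨y, hy, hy'⟩ := (Ideal.mem_map_iff_of_surjective _ Ideal.Quotient.mk_surjective).mp hF
      obtain ⟨P, hP, rfl⟩ := QReg6.exists_homogeneous_eval x hy
      let Q : MvPolynomial (Fin d) B := MvPolynomial.map (Ideal.Quotient.mk I) P
      refine ⟨F + Q, ?_⟩
      rw [map_add, ← sub_sub, ← hy']
      have key : mkN (MvPolynomial.eval x P) - ψ Q ∈ (I ^ (k + 1)).map mkN := by
        have e1 : mkN (MvPolynomial.eval x P) - ψ Q = ∑ e ∈ P.support,
            (mkN (MvPolynomial.eval x (MvPolynomial.monomial e (P.coeff e))) -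
              ψ (MvPolynomial.map (Ideal.Quotient.mk I) (MvPolynomial.monomial e (P.coeff e)))) := by
          rw [Finset.sum_sub_distrib, ← map_sum, ← map_sum, ← map_sum, ← map_sum, ← MvPolynomial.as_sum]
        rw [e1]
        refine Ideal.sum_mem _ fun e he => ?_
        rw [MvPolynomial.eval_monomial, MvPolynomial.map_monomial, map_mul]
        show _ - MvPolynomial.eval₂ σ.toRingHom (fun i => mkN (x i)) _ ∈ _
        rw [MvPolynomial.eval₂_monomial, map_finsuppProd]
        simp only [map_pow]
        rw [← sub_mul, pow_succ', Ideal.map_mul]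
        refine Ideal.mul_mem_mul (hgk _ ?_) ?_
        · rw [map_sub]
          show g (mkN _) - g (σ _) = 0
          rw [hσ]
          exact sub_self _
        · have := QReg6.eval_mem_pow x (n := k) (P := MvPolynomial.monomial e (1 : A))
            (MvPolynomial.isHomogeneous_monomial _ (by
              have := hP (MvPolynomial.mem_support_iff.mp he)
              rw [Finsupp.degree_eq_weight_one]; exact this))
          have := Ideal.mem_map_of_mem mkN this
          simpa [MvPolynomial.eval_monomial, map_finsuppProd, hI] using this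
      exact key
  have hkereq : RingHom.ker ψ = MvPolynomial.idealOfVars (Fin d) B ^ N := by
    refine le_antisymm (fun F hF => hker F hF) fun F hF => ?_
    have := hψpow hF
    rwa [show (I ^ N).map mkN = ⊥ from Ideal.map_quotient_self _, Ideal.mem_bot] at this
  let e₀ := (Ideal.quotientKerAlgEquivOfSurjective hψs).symm.trans (Ideal.quotientEquivAlgOfEq R hkereq)
  have he₀ : ∀ F, e₀ (ψ F) = Ideal.Quotient.mk _ F := fun F => by
    simp only [e₀, AlgEquiv.trans_apply]
    rw [show ψ F = Ideal.quotientKerAlgEquivOfSurjective hψs (Ideal.Quotient.mk _ F) from rfl,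
      AlgEquiv.symm_apply_apply]
    rfl
  refine ⟨e₀, fun i => ?_, fun a => ?_⟩
  · rw [← he₀, hψX]
  · rw [← he₀, hψC, ← map_sub]
    have h1 : mkN a - σ (Ideal.Quotient.mk I a) ∈ I.map mkN := hgk _ (by
      rw [map_sub, hσ]; exact sub_self _)
    rw [← hψmap] at h1
    obtain ⟨F, hF, hF'⟩ := (Ideal.mem_map_iff_of_surjective (ψ : MvPolynomial (Fin d) B →+* AN) hψs).mp h1
    rw [show mkN a - σ (Ideal.Quotient.mk I a) = ψ F from hF'.symm, he₀]
    exact Ideal.mem_map_of_mem _ hF

end Groth.Agent.S18417
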