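import Groth.Statements.S18418
import Groth.Agent.CommAlg4.PureSplit
-- import your own Groth.Agent.* helpers here

set_option autoImplicit false
universe u v
open FonLaf

namespace Groth.Agent.S18418

/-- anchor -/
theorem anchor18418 : 0 + 0 = 0 := rfl

section Helpers

open scoped Pointwise

theorem exists_pow_smul_eq_zero {R M : Type*} [CommRing R] [IsLocalRing R] [AddCommGroup M] [Module R M]
    [IsArtinian R M] [IsNoetherian R M] {π : R} (hπ : π ∈ IsLocalRing.maximalIdeal R) :
    ∃ n : ℕ, ∀ x : M, π ^ n • x = 0 := by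
  obtain ⟨n, hn⟩ := IsArtinian.monotone_stabilizes (R := R) (M := M)
    ⟨fun j => OrderDual.toDual (LinearMap.range (LinearMap.lsmul R M (π ^ j))), fun i j hij => by
      rintro _ ⟨x, rfl⟩
      exact ⟨π ^ (j - i) • x, by simp [← mul_smul, ← pow_add, Nat.add_sub_cancel' hij, Nat.sub_add_cancel hij]⟩⟩
  have heq : LinearMap.range (LinearMap.lsmul R M (π ^ n)) = LinearMap.range (LinearMap.lsmul R M (π ^ (n + 1))) :=
    hn (n + 1) (Nat.le_succ n)
  have hbot : LinearMap.range (LinearMap.lsmul R M (π ^ n)) = ⊥ := by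
    refine Submodule.eq_bot_of_le_smul_of_le_jacobson_bot (IsLocalRing.maximalIdeal R) _ (IsNoetherian.noetherian _) ?_
      (IsLocalRing.maximalIdeal_le_jacobson ⊥)
    intro v hv
    rw [heq] at hv
    obtain ⟨x, rfl⟩ := hv
    rw [LinearMap.lsmul_apply, pow_succ', mul_smul]
    exact Submodule.smul_mem_smul hπ ⟨x, rfl⟩
  exact ⟨n, fun x => (Submodule.mem_bot R).1 (hbot ▸ ⟨x, rfl⟩)⟩

end Helpers

open scoped Pointwise in
set_option maxHeartbeats 1000000 in
/-- Let k be a perfect field of characteristic p and W = W(k) its ring of Witt vectors with Frobenius σ.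
Fix r and W-modules of finite length N_0 = M, N_1, N_2, … with W-linear maps α_i : N_{i+1} → N_i and
σ-semilinear maps φ_i : N_i → M such that φ_i ∘ α_i = p φ_{i+1} for all i < r. Let ι be the map
sending (x_1, …, x_r) ∈ N_1 ⊕ ⋯ ⊕ N_r to (α_0 x_1, α_1 x_2 − p x_1, …, α_{r−1} x_r − p x_{r−1}, −p
x_r) ∈ N_0 ⊕ ⋯ ⊕ N_r, and Φ the map N_0 ⊕ ⋯ ⊕ N_r → M, (y_i) ↦ Σ_i φ_i(y_i). Suppose that Φ is
surjective and that its kernel is contained in the image of ι (with the displayed relation this says
that Φ induces a σ-semilinear bijection from the cokernel of ι onto M). Then for every i < r the map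
α_i is injective and its image is a direct summand of N_i (so the N_i form a filtration of M by
direct summands, the data of a Fontaine–Laffaille module). Families are indexed by all natural
numbers; only the indices ≤ r enter. -/
theorem result (p : ℕ) [Fact p.Prime]
    (k : Type u) [Field k] [CharP k p] [PerfectRing k p] (r : ℕ)
    (N : ℕ → Type v) [∀ i, AddCommGroup (N i)] [∀ i, Module (WittVector p k) (N i)]
    (hfl : ∀ i, IsFiniteLength (WittVector p k) (N i))
    (α : ∀ i, N (i + 1) →ₗ[WittVector p k] N i)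
    (φ : ∀ i, N i →ₛₗ[(WittVector.frobenius : WittVector p k →+* WittVector p k)] N 0)
    (hφ : ∀ i, i < r → ∀ y : N (i + 1), φ i (α i y) = (p : WittVector p k) • φ (i + 1) y)
    (hsurj : ∀ m : N 0, ∃ y : (i : ℕ) → N i, (∀ i, r < i → y i = 0) ∧
      (Finset.range (r + 1)).sum (fun i => φ i (y i)) = m)
    (hker : ∀ y : (i : ℕ) → N i, (∀ i, r < i → y i = 0) →
      (Finset.range (r + 1)).sum (fun i => φ i (y i)) = 0 →
        ∃ z : (i : ℕ) → N (i + 1), (∀ i, r ≤ i → z i = 0) ∧
          y 0 = α 0 (z 0) ∧ ∀ i, y (i + 1) = α (i + 1) (z (i + 1)) - (p : WittVector p k) • z i)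
    (i : ℕ) (hi : i < r) :
    Function.Injective (α i) ∧
      ∃ Q : Submodule (WittVector p k) (N i), IsCompl (LinearMap.range (α i)) Q := by
  classical
  open Groth.Agent.CommAlg4.PureSplit in
  let W := WittVector p k
  haveI hN : ∀ j, IsNoetherian (WittVector p k) (N j) ∧ IsArtinian (WittVector p k) (N j) := fun j =>
    isFiniteLength_iff_isNoetherian_isArtinian.1 (hfl j)
  haveI := fun j => (hN j).1
  haveI := fun j => (hN j).2
  haveI : RingHomSurjective (WittVector.frobenius : WittVector p k →+* WittVector p k) :=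
    ⟨(WittVector.frobenius_bijective p k).surjective⟩
  let σ : WittVector p k →+* WittVector p k := WittVector.frobenius
  let X := (j : Fin r) → N (j.val + 1)
  let Y := N 0 × X
  have hr : 0 < r := by omega
  -- the two maps
  let A : X →ₗ[WittVector p k] Y :=
    ((α 0).comp (LinearMap.proj (⟨0, hr⟩ : Fin r))).prod (LinearMap.pi fun j : Fin r =>
      if h : j.val + 1 < r then (α (j.val + 1)).comp (LinearMap.proj (⟨j.val + 1, h⟩ : Fin r)) else 0)
  let ι : X →ₗ[WittVector p k] Y := A - (p : WittVector p k) • LinearMap.inr (WittVector p k) (N 0) X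
  let Φ : Y →ₛₗ[σ] N 0 :=
    { toFun := fun y => φ 0 y.1 + ∑ j : Fin r, φ (j.val + 1) (y.2 j)
      map_add' := fun a b => by
        show φ 0 (a.1 + b.1) + ∑ j : Fin r, φ (j.val + 1) (a.2 j + b.2 j) = (φ 0 a.1 + ∑ j : Fin r, φ (j.val + 1) (a.2 j)) + (φ 0 b.1 + ∑ j : Fin r, φ (j.val + 1) (b.2 j))
        simp only [map_add, Finset.sum_add_distrib]
        abel
      map_smul' := fun c a => by
        show φ 0 (c • a.1) + ∑ j : Fin r, φ (j.val + 1) (c • a.2 j) = σ c • (φ 0 a.1 + ∑ j : Fin r, φ (j.val + 1) (a.2 j))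
        rw [smul_add, Finset.smul_sum]
        simp only [map_smulₛₗ]
        rfl }
  let toY : ((j : ℕ) → N j) → Y := fun y => (y 0, fun j => y (j.val + 1))
  let ofY : Y → (j : ℕ) → N j := fun y j => match j with
    | 0 => y.1
    | j + 1 => if h : j < r then y.2 ⟨j, h⟩ else 0
  have hof : ∀ y, (Finset.range (r + 1)).sum (fun j => φ j (ofY y j)) = Φ y := fun y => by
    rw [Finset.sum_range_succ', add_comm, Finset.sum_range]
    show _ = φ 0 y.1 + _
    congr 1
    refine Finset.sum_congr rfl fun j _ => ?_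
    show φ (j.val + 1) (dite _ _ _) = _
    rw [dif_pos j.2]
  have hofz : ∀ y j, r < j → ofY y j = 0 := fun y j hj => by
    match j with
    | 0 => omega
    | j + 1 => exact dif_neg (by omega)
  have hΦ : Function.Surjective Φ := fun m => by
    obtain ⟨y, -, hy⟩ := hsurj m
    refine ⟨toY y, ?_⟩
    rw [← hy, Finset.sum_range_succ', add_comm, Finset.sum_range]
    rfl
  have hιapp : ∀ x (j : Fin r), (ι x).2 j =
      (if h : j.val + 1 < r then α (j.val + 1) (x ⟨j.val + 1, h⟩) else 0) - (p : WittVector p k) • x j := fun x j => by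
    show (_ : N (j.val + 1)) - _ = _
    congr 1
    show (dite _ _ _ : X →ₗ[WittVector p k] N (j.val + 1)) x = _
    split <;> rfl
  have hι1 : ∀ x, (ι x).1 = α 0 (x ⟨0, hr⟩) := fun x => by
    show α 0 (x ⟨0, hr⟩) - (p : WittVector p k) • (0 : N 0) = _
    rw [smul_zero, sub_zero]
  have hσp : σ (p : WittVector p k) = p := map_natCast σ p
  have hΦι : ∀ x, Φ (ι x) = 0 := fun x => by
    let G : ℕ → N 0 := fun j => if h : j < r then (p : WittVector p k) • φ (j + 1) (x ⟨j, h⟩) else 0
    show φ 0 (ι x).1 + ∑ j : Fin r, φ (j.val + 1) ((ι x).2 j) = 0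
    have hG : ∀ j (h : j < r), G j = (p : WittVector p k) • φ (j + 1) (x ⟨j, h⟩) := fun j h => dif_pos h
    rw [hι1, hφ 0 hr, ← hG 0 hr]
    have h1 : ∀ j : Fin r, φ (j.val + 1) ((ι x).2 j) = G (j.val + 1) - G j.val := fun j => by
      rw [hιapp, map_sub, map_smulₛₗ, show σ (p : WittVector p k) = p from hσp]
      simp only [G, dif_pos j.2]
      split
      · next h => rw [hφ _ h]
      · rw [map_zero]
    rw [Finset.sum_congr rfl (fun j _ => h1 j), ← Finset.sum_range (fun j => G (j + 1) - G j), Finset.sum_range_sub]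
    simp [G]
  have hexact : ∀ y, Φ y = 0 → y ∈ LinearMap.range ι := fun y hy => by
    obtain ⟨z, hz, hz0, hzs⟩ := hker (ofY y) (hofz y) ((hof y).trans hy)
    refine ⟨fun j => z j.val, Prod.ext ((hι1 _).trans hz0.symm) (funext fun j => ?_)⟩
    rw [hιapp, show y.2 j = ofY y (j.val + 1) by show _ = dite _ _ _; rw [dif_pos j.2], hzs j.val]
    congr 1
    split
    · rfl
    · next h => rw [hz _ (not_lt.1 h), map_zero]
  have hrange : LinearMap.range ι = Submodule.comap Φ ⊥ := le_antisymm
    (by rintro _ ⟨x, rfl⟩; exact (Submodule.mem_bot (WittVector p k)).2 (hΦι x))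
    (fun y hy => hexact y ((Submodule.mem_bot (WittVector p k)).1 hy))
  -- counting
  have hq : ∀ T : Submodule (WittVector p k) (N 0), len (T.comap Φ) + len (⊤ : Submodule (WittVector p k) (N 0)) = len (⊤ : Submodule (WittVector p k) Y) + len T := fun T => by
    have h1 := len_quotient_add (T.comap Φ)
    have h2 := len_quotient_add T
    rw [length_quotient_comap Φ hΦ T] at h1
    omega
  have hYX : len (⊤ : Submodule (WittVector p k) Y) = len (⊤ : Submodule (WittVector p k) (N 0)) + len (⊤ : Submodule (WittVector p k) X) := by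
    simp only [len, Module.length_top, Y, Module.length_prod, ENat.toNat_add Module.length_ne_top Module.length_ne_top]
  have hlenι : len (LinearMap.range ι) = len (⊤ : Submodule (WittVector p k) X) := by
    have h := hq ⊥
    rw [← hrange, show len (⊥ : Submodule (WittVector p k) (N 0)) = 0 by rw [len, Module.length_bot]; rfl] at h
    omega
  have hinj : Function.Injective ι := by
    rw [← LinearMap.ker_eq_bot]
    have h := len_quotient_add (LinearMap.ker ι)
    rw [ι.quotKerEquivRange.length_eq] at h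
    refine (len_mono bot_le ?_).symm
    rw [show len (⊥ : Submodule (WittVector p k) X) = 0 by rw [len, Module.length_bot]; rfl]
    change len (LinearMap.ker ι) + len (LinearMap.range ι) = _ at h
    omega
  have hpirr : Irreducible (p : WittVector p k) := WittVector.irreducible p
  have hpure : ∀ (e : ℕ) (y : Y), (p : WittVector p k) ^ e • y ∈ LinearMap.range ι →
      ∃ x, (p : WittVector p k) ^ e • y = (p : WittVector p k) ^ e • ι x := by
    intro e y hy
    set c := (p : WittVector p k) ^ e with hc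
    have hσc : σ c = c := by rw [hc, map_pow, hσp]
    let cY : Submodule (WittVector p k) Y := LinearMap.range (LinearMap.lsmul (WittVector p k) Y c)
    let cN : Submodule (WittVector p k) (N 0) := LinearMap.range (LinearMap.lsmul (WittVector p k) (N 0) c)
    let cX : Submodule (WittVector p k) X := LinearMap.range (LinearMap.lsmul (WittVector p k) X c)
    have hcom : cN.comap Φ = LinearMap.range ι ⊔ cY := by
      apply le_antisymm
      · intro v hv
        obtain ⟨n, hn⟩ := hv
        obtain ⟨w, rfl⟩ := hΦ n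
        have h0 : Φ (v - c • w) = 0 := by
          rw [map_sub, map_smulₛₗ, hσc, sub_eq_zero]
          exact hn.symm
        rw [show v = (v - c • w) + c • w by abel]
        exact Submodule.add_mem_sup (hexact _ h0) ⟨w, rfl⟩
      · refine sup_le ?_ ?_
        · rintro _ ⟨x, rfl⟩
          show Φ (ι x) ∈ cN
          rw [hΦι]; exact zero_mem _
        · rintro _ ⟨w, rfl⟩
          show Φ (c • w) ∈ cN
          rw [map_smulₛₗ, hσc]
          exact ⟨Φ w, rfl⟩
    have hcY : len cY = len cN + len cX := by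
      have he : cY = cN.prod cX := by
        ext v
        constructor
        · rintro ⟨w, rfl⟩; exact ⟨⟨w.1, rfl⟩, ⟨w.2, rfl⟩⟩
        · rintro ⟨⟨a, ha⟩, ⟨b, hb⟩⟩; exact ⟨(a, b), Prod.ext ha hb⟩
      rw [he]
      let E : (cN.prod cX : Submodule (WittVector p k) Y) ≃ₗ[WittVector p k] cN × cX :=
        { toFun := fun v => (⟨v.1.1, v.2.1⟩, ⟨v.1.2, v.2.2⟩)
          invFun := fun v => ⟨(v.1.1, v.2.1), v.1.2, v.2.2⟩
          left_inv := fun v => rfl
          right_inv := fun v => rfl
          map_add' := fun a b => rfl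
          map_smul' := fun a b => rfl }
      show ENat.toNat _ = ENat.toNat _ + ENat.toNat _
      rw [E.length_eq, Module.length_prod, ENat.toNat_add Module.length_ne_top Module.length_ne_top]
    have hint : cX.map ι = LinearMap.range ι ⊓ cY := by
      refine len_mono (le_inf LinearMap.map_le_range ?_) ?_
      · rintro _ ⟨_, ⟨x, rfl⟩, rfl⟩
        exact ⟨ι x, (map_smul ι c x).symm⟩
      · rw [len_map ι hinj]
        have h1 := len_sup_add_len_inf (LinearMap.range ι) cY
        have h2 := hq cN
        rw [hcom] at h2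
        omega
    obtain ⟨_, ⟨x, rfl⟩, hx⟩ := hint.ge ⟨hy, ⟨y, rfl⟩⟩
    exact ⟨x, hx.symm.trans (map_smul ι c x)⟩
  obtain ⟨n, hn⟩ := exists_pow_smul_eq_zero (R := WittVector p k) (M := X) (π := (p : WittVector p k)) hpirr.not_isUnit
  obtain ⟨m, hm⟩ := exists_pow_smul_eq_zero (R := WittVector p k) (M := Y ⧸ LinearMap.range ι) (π := (p : WittVector p k)) hpirr.not_isUnit
  have htors : Module.IsTorsion (WittVector p k) (Y ⧸ LinearMap.range ι) := fun {q} =>
    ⟨⟨(p : WittVector p k) ^ m, mem_nonZeroDivisors_of_ne_zero (pow_ne_zero _ hpirr.ne_zero)⟩, hm q⟩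
  obtain ⟨s, hs⟩ := exists_retraction_of_pure ι hinj htors fun q hq e y hy => by
    obtain ⟨u, hu⟩ := IsDiscreteValuationRing.associated_of_irreducible (WittVector p k) hpirr hq
    rw [← hu, mul_pow, mul_comm, mul_smul] at hy ⊢
    obtain ⟨x, hx⟩ := hpure e y ((Submodule.smul_mem_iff_of_isUnit _ (u.isUnit.pow e)).1 hy)
    exact ⟨x, by rw [hx, mul_smul]⟩
  -- a retraction of the block map
  let D : Module.End (WittVector p k) X := (p : WittVector p k) • s.comp (LinearMap.inr (WittVector p k) (N 0) X)
  have hsA : ∀ x, s (A x) = x + D x := fun x => by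
    have h : A x = ι x + (p : WittVector p k) • LinearMap.inr (WittVector p k) (N 0) X x := (sub_add_cancel _ _).symm
    rw [h, map_add, hs, map_smul]
    rfl
  have hDn : IsNilpotent D := by
    refine ⟨n, LinearMap.ext fun x => ?_⟩
    rw [smul_pow, LinearMap.smul_apply]
    exact hn _
  obtain ⟨v, hv⟩ := hDn.isUnit_one_add
  let t : Y →ₗ[WittVector p k] X := ((v⁻¹ : (Module.End (WittVector p k) X)ˣ) : Module.End (WittVector p k) X).comp s
  have ht : ∀ x, t (A x) = x := fun x => by
    show ((v⁻¹ : (Module.End (WittVector p k) X)ˣ) : Module.End (WittVector p k) X) (s (A x)) = x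
    rw [hsA, show x + D x = (v : Module.End (WittVector p k) X) x by rw [hv]; rfl, ← Module.End.mul_apply, Units.inv_mul]
    rfl
  have hsplit : ∃ ρ : N i →ₗ[WittVector p k] N (i + 1), ∀ x, ρ (α i x) = x := by
    obtain ⟨emb, hemb⟩ : ∃ emb : N i →ₗ[WittVector p k] Y, ∀ x, A (Pi.single (⟨i, hi⟩ : Fin r) x) = emb (α i x) := by
      rcases i with _ | i
      · refine ⟨LinearMap.inl (WittVector p k) (N 0) X, fun x => Prod.ext ?_ (funext fun j => ?_)⟩
        · show α 0 (Pi.single (M := fun j : Fin r => N (j.val + 1)) ⟨0, hi⟩ x ⟨0, hr⟩) = _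
          rw [Pi.single_eq_same]; rfl
        · show (dite _ _ _ : X →ₗ[WittVector p k] N (j.val + 1)) _ = 0
          split
          · next h =>
            show α _ (Pi.single (M := fun j : Fin r => N (j.val + 1)) ⟨0, hi⟩ x ⟨j.val + 1, h⟩) = 0
            rw [Pi.single_eq_of_ne (Fin.ne_of_val_ne (by simp)), map_zero]
          · rfl
      · refine ⟨(LinearMap.inr (WittVector p k) (N 0) X).comp
          (LinearMap.single (WittVector p k) (fun j : Fin r => N (j.val + 1)) ⟨i, by omega⟩), fun x => Prod.ext ?_ (funext fun j => ?_)⟩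
        · show α 0 (Pi.single (M := fun j : Fin r => N (j.val + 1)) ⟨i + 1, hi⟩ x ⟨0, hr⟩) = 0
          rw [Pi.single_eq_of_ne (Fin.ne_of_val_ne (by simp)), map_zero]
        · show (dite _ _ _ : X →ₗ[WittVector p k] N (j.val + 1)) _ = Pi.single (M := fun j : Fin r => N (j.val + 1)) ⟨i, _⟩ _ j
          by_cases hj : j = ⟨i, by omega⟩
          · subst hj
            rw [Pi.single_eq_same, dif_pos hi]
            show α (i + 1) (Pi.single (M := fun j : Fin r => N (j.val + 1)) ⟨i + 1, hi⟩ x ⟨i + 1, hi⟩) = _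
            rw [Pi.single_eq_same]
          · rw [Pi.single_eq_of_ne hj]
            split
            · next h =>
              show α _ (Pi.single (M := fun j : Fin r => N (j.val + 1)) ⟨i + 1, hi⟩ x ⟨j.val + 1, h⟩) = 0
              rw [Pi.single_eq_of_ne (fun he => hj (Fin.ext (by simpa using congrArg Fin.val he))), map_zero]
            · rfl
    refine ⟨(LinearMap.proj (⟨i, hi⟩ : Fin r)).comp (t.comp emb), fun x => ?_⟩
    show t (emb (α i x)) ⟨i, hi⟩ = x
    rw [← hemb, ht, Pi.single_eq_same]
  obtain ⟨ρ, hρ⟩ := hsplit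
  refine ⟨Function.LeftInverse.injective hρ, LinearMap.ker ρ, ?_⟩
  constructor
  · rw [Submodule.disjoint_def]
    rintro _ ⟨x, rfl⟩ h
    rw [← hρ x, LinearMap.mem_ker.1 h, map_zero]
  · rw [codisjoint_iff, eq_top_iff]
    intro y _
    rw [show y = α i (ρ y) + (y - α i (ρ y)) by abel]
    exact Submodule.add_mem_sup ⟨_, rfl⟩ (LinearMap.mem_ker.2 (by rw [map_sub, hρ, sub_self]))

end Groth.Agent.S18418
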