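import Groth.Statements.S18421
import Mathlib
import Groth.Agent.CommAlg4.DPGen
import Groth.Agent.CommAlg4.DPPoly

set_option linter.all false

set_option autoImplicit false
universe u v w
open DPow

open Groth.Agent.CommAlg4

namespace Groth.Agent.S18421

/-- Let (R, I, γ) be a divided power ring, Λ a set and P = R⟨X_λ : λ ∈ Λ⟩ the divided power polynomial
algebra, presented concretely as an R-algebra P with elements x l n = X_λ^[n] such that X_λ^[0] = 1,
X_λ^[n] · X_λ^[m] = C(n+m, n) X_λ^[n+m], and the monomials ∏_λ X_λ^[e_λ] form an R-basis of P; let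
P_+ be the ideal generated by the X_λ^[n] with n ≥ 1 and δ_+ a divided power structure on P_+ with
δ_+,n(X_λ^[1]) = X_λ^[n]. Put J = IP + P_+. Then there is exactly one divided power structure δ on J
which is compatible with γ (the structure map R → P is a divided power morphism from (I, γ) to (J,
δ)) and with δ_+ (δ_n(y) = δ_+,n(y) for all y ∈ P_+ and all n). -/
theorem result (R : Type u) [CommRing R] {I : Ideal R}
    (γ : DividedPowers I) (Λ : Type w)
    (P : Type v) [CommRing P] [Algebra R P] (x : Λ → ℕ → P)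
    (hx0 : ∀ l, x l 0 = 1)
    (hxmul : ∀ l n m, x l n * x l m = ((n + m).choose n : P) * x l (n + m))
    (b : Module.Basis (Λ →₀ ℕ) R P) (hb : ∀ e : Λ →₀ ℕ, b e = e.prod (fun l k => x l k))
    (δplus : DividedPowers (Ideal.span {y : P | ∃ (l : Λ) (n : ℕ), 1 ≤ n ∧ y = x l n}))
    (hδplus : ∀ (l : Λ) (n : ℕ), δplus.dpow n (x l 1) = x l n) :
    ∃! δ : DividedPowers (I.map (algebraMap R P) ⊔ Ideal.span {y : P | ∃ (l : Λ) (n : ℕ), 1 ≤ n ∧ y = x l n}),
      γ.IsDPMorphism δ (algebraMap R P) ∧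
        ∀ (n : ℕ) (y : P), y ∈ Ideal.span {y : P | ∃ (l : Λ) (n : ℕ), 1 ≤ n ∧ y = x l n} →
          δ.dpow n y = δplus.dpow n y := by
  classical
  haveI : Module.Free R P := Module.Free.of_basis b
  obtain ⟨δI, hδI⟩ := DP.exists_extension_flat (B := P) γ
  have hagree : ∀ (n : ℕ) (y : P),
      y ∈ I.map (algebraMap R P) ⊓ Ideal.span {y : P | ∃ (l : Λ) (n : ℕ), 1 ≤ n ∧ y = x l n} →
      δI.dpow n y = δplus.dpow n y := by
    rintro n y ⟨hy1, hy2⟩
    refine DividedPowers.coincide_on_smul δI δplus ?_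
    have hcoef : ∀ e, b.repr y e ∈ I := by
      intro e
      suffices h : ∀ p : P, b.repr (p * y) e ∈ I by simpa using h 1
      change y ∈ I.map (algebraMap R P) at hy1
      refine Submodule.span_induction (p := fun y _ => ∀ p : P, b.repr (p * y) e ∈ I) ?_ ?_ ?_ ?_ hy1
      · rintro _ ⟨a, ha, rfl⟩ p
        rw [mul_comm, ← Algebra.smul_def, map_smul, Finsupp.smul_apply, smul_eq_mul]
        exact I.mul_mem_right _ ha
      · intro p; simp
      · intro u v _ _ hu hv p; rw [mul_add, map_add]; exact I.add_mem (hu p) (hv p)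
      · intro a u _ hu p; rw [smul_eq_mul, ← mul_assoc]; exact hu _
    rw [← b.linearCombination_repr y, Finsupp.linearCombination_apply, Finsupp.sum]
    refine Submodule.sum_mem _ fun e he => ?_
    have he0 : e ≠ 0 := fun h => Finsupp.mem_support_iff.mp he
      (h ▸ DP.repr_zero_of_mem x hx0 hxmul b hb hy2)
    change b.repr y e • b e ∈ I.map (algebraMap R P) * Ideal.span {y : P | ∃ (l : Λ) (n : ℕ), 1 ≤ n ∧ y = x l n}
    rw [Algebra.smul_def]
    refine Ideal.mul_mem_mul (Ideal.mem_map_of_mem _ (hcoef e)) ?_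
    rw [hb]; exact DP.mon_mem_span x hx0 he0
  obtain ⟨ε, ⟨hε1, hε2⟩, huniq⟩ := DP.exists_sup δI δplus hagree
  refine ⟨ε, ⟨⟨le_sup_left, fun {n} a ha => ?_⟩, hε2⟩, ?_⟩
  · rw [hε1 _ _ (Ideal.mem_map_of_mem _ ha)]; exact hδI.dpow_comp a ha
  · rintro ε' ⟨h1, h2⟩
    refine DividedPowers.dpow_eq_from_gens
      (S := algebraMap R P '' I ∪ {y : P | ∃ (l : Λ) (n : ℕ), 1 ≤ n ∧ y = x l n}) ε ε' ?_ ?_
    · rw [Ideal.span_union]; rfl
    · intro n y hy
      rcases hy with ⟨a, ha, rfl⟩ | hy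
      · rw [hε1 _ _ (Ideal.mem_map_of_mem _ ha), hδI.dpow_comp a ha, h1.dpow_comp a ha]
      · rw [hε2 _ _ (Ideal.subset_span hy), h2 _ _ (Ideal.subset_span hy)]

end Groth.Agent.S18421
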