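import Groth.Statements.S18423
import Groth.Agent.PurityFlat.Algebra
import Mathlib.RingTheory.Etale.Locus
import Mathlib.AlgebraicGeometry.Morphisms.Etale
import Mathlib.AlgebraicGeometry.Morphisms.Finite
import Mathlib.AlgebraicGeometry.Noetherian

set_option autoImplicit false
universe u v
open Pi1

namespace Groth.Agent.S18423
open CategoryTheory AlgebraicGeometry

/-- Let A be a Noetherian local ring of Krull dimension at least 2 and B a finite flat commutative
A-algebra. If B is etale over A at every prime of B lying over a non-maximal prime of A (that is,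
Spec B is etale over the punctured spectrum of A), then B is etale over A. -/
theorem result (A : Type u) (B : Type v) [CommRing A] [CommRing B]
    [Algebra A B] [IsNoetherianRing A] [IsLocalRing A] (hdim : (2 : WithBot ℕ∞) ≤ ringKrullDim A)
    [Module.Finite A B] [Module.Flat A B]
    (h : ∀ q : PrimeSpectrum B, q.asIdeal.comap (algebraMap A B) ≠ IsLocalRing.maximalIdeal A →
      Algebra.IsEtaleAt A q.asIdeal) :
    Algebra.Etale A B := by
  refine Groth.Agent.PurityFlat.etale_of_purity {P | P.asIdeal ≠ IsLocalRing.maximalIdeal A} ?_ ?_
  · intro P hP
    obtain ⟨a, ham, haP⟩ := SetLike.not_le_iff_exists.mp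
      fun hle => hP (le_antisymm (IsLocalRing.le_maximalIdeal P.isPrime.ne_top) hle)
    haveI : Algebra.FormallyUnramified A (Localization.Away (algebraMap A B a)) := by
      refine Algebra.basicOpen_subset_unramifiedLocus_iff.mp fun q hq => ?_
      haveI := h q fun he => hq (he.ge ham)
      show Algebra.IsUnramifiedAt A q.asIdeal
      exact inferInstance
    exact Groth.Agent.PurityFlat.geomRed_of_away a haP
  · intro P hP
    rw [Set.mem_ofPred_eq, not_not] at hP
    rw [hP, ← WithBot.coe_le_coe, IsLocalRing.maximalIdeal_height_eq_ringKrullDim]
    exact hdim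

end Groth.Agent.S18423
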