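import Groth.Statements.S18425
import Groth.Agent.GaloisCat.ForgetAut

set_option autoImplicit false
universe u
open Pi1

namespace Groth.Agent.S18425
open CategoryTheory Limits PreGaloisCategory
open Groth.Agent.GaloisCat
set_option backward.isDefEq.respectTransparency.types false

open CategoryTheory in
/-- In the case of a discrete group G, let F be the forgetful functor from the category of finite G-sets
to finite sets. Then the canonical homomorphism from G to Aut(F), letting g act on every finite
G-set, extends to an isomorphism of topological groups from the profinite completion of G (the limit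
of the finite quotients G/U over normal subgroups U of finite index) onto Aut(F) with its profinite
topology. (The published statement is for an arbitrary topological group G, with finite G-sets
carrying a continuous action and the completion taken over open normal subgroups of finite index;
this row is the case of a discrete group.) -/
theorem result (G : Type u) [Group G] :
    ∃ φ : (ProfiniteGrp.ProfiniteCompletion.completion (GrpCat.of G)) ≃ₜ* Aut (Action.forget FintypeCat.{u} G),
      ∀ (g : G) (X : Action FintypeCat.{u} G) (x : X.V),
        (φ (ProfiniteGrp.ProfiniteCompletion.etaFn (GrpCat.of G) g)).hom.app X x = (X.ρ g).hom x := by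
  have heta : ∀ g : G, toCompletion G (ofElement G g) = ProfiniteGrp.ProfiniteCompletion.etaFn (GrpCat.of G) g :=
    fun g => Subtype.ext (funext fun N => congrArg (fun z : G => (z : G ⧸ N.toSubgroup)) (mul_one g))
  have hsurj : Function.Surjective (toCompletion G) := by
    intro z
    have hc : IsClosed (Set.range (toCompletion G)) := (isCompact_range (continuous_toCompletion G)).isClosed
    exact hc.closure_subset_iff.mpr (by rintro _ ⟨g, rfl⟩; exact ⟨_, heta g⟩)
      ((ProfiniteGrp.ProfiniteCompletion.denseRange (GrpCat.of G)).closure_range ▸ Set.mem_univ z)
  let e : Aut (Action.forget FintypeCat.{u} G) ≃* (ProfiniteGrp.ProfiniteCompletion.completion (GrpCat.of G)) :=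
    MulEquiv.ofBijective (MonoidHom.mk' (toCompletion G) (toCompletion_mul G)) ⟨toCompletion_injective G, hsurj⟩
  let h : Aut (Action.forget FintypeCat.{u} G) ≃ₜ (ProfiniteGrp.ProfiniteCompletion.completion (GrpCat.of G)) :=
    (continuous_toCompletion G).homeoOfEquivCompactToT2 (f := e.toEquiv)
  refine ⟨{ e.symm with continuous_toFun := h.continuous_invFun, continuous_invFun := h.continuous_toFun }, fun g X x => ?_⟩
  have he : e.symm (ProfiniteGrp.ProfiniteCompletion.etaFn (GrpCat.of G) g) = ofElement G g :=
    e.symm_apply_eq.mpr (heta g).symm
  show (e.symm _).hom.app X x = _
  rw [he]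
  rfl

end Groth.Agent.S18425
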