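import Groth.Statements.S18426
import Groth.Agent.NormalizationLib.Finite
import Groth.Agent.NormalExtLib.Basic
import Mathlib.RingTheory.DedekindDomain.IntegralClosure
-- import your own Groth.Agent.* helpers here

set_option autoImplicit false
universe u
open Pi1

set_option backward.isDefEq.respectTransparency.types false
set_option linter.style.haveILetI false

namespace Groth.Agent.S18426

open AlgebraicGeometry CategoryTheory CategoryTheory.Limits in
/-- Suppose X is an integral scheme that is Noetherian and normal, write K for its function field, and
take L to be a finite separable extension of K. Then the normalization of X in L, namely the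
relative normalization of the morphism Spec L → Spec K → X, is finite over X. (That this
normalization is a normal integral scheme with function field L is not restated.) -/
theorem result {X : Scheme.{u}} [IsIntegral X] [IsNoetherian X]
    (hX : Pi1.IsNormalScheme X) (L : Type u) [Field L] [Algebra X.functionField L] [FiniteDimensional X.functionField L]
    [Algebra.IsSeparable X.functionField L]
    [QuasiCompact (Spec.map (CommRingCat.ofHom (algebraMap X.functionField L)) ≫ X.fromSpecStalk (genericPoint X))]
    [QuasiSeparated (Spec.map (CommRingCat.ofHom (algebraMap X.functionField L)) ≫ X.fromSpecStalk (genericPoint X))] :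
    IsFinite (Spec.map (CommRingCat.ofHom (algebraMap X.functionField L)) ≫ X.fromSpecStalk (genericPoint X)).fromNormalization := by
  let g := Spec.map (CommRingCat.ofHom (algebraMap X.functionField L)) ≫ X.fromSpecStalk (genericPoint X)
  show IsFinite g.fromNormalization
  refine { finite_app := fun U hU ↦ ?_ }
  rcases isEmpty_or_nonempty U with hemp | hne
  · have hbot : g.fromNormalization ⁻¹ᵁ U = ⊥ := by
      ext x
      exact ⟨fun hx ↦ (hemp.false ⟨_, hx⟩).elim, fun hx ↦ hx.elim⟩
    have : Subsingleton Γ(g.normalization, g.fromNormalization ⁻¹ᵁ U) := by
      rw [hbot]; infer_instance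
    exact RingHom.Finite.of_surjective _ fun y ↦ ⟨0, Subsingleton.elim _ _⟩
  haveI : IsIntegrallyClosed Γ(X, U) := Groth.Agent.NormalExtLib.isIntegrallyClosed_sections hX U hU
  haveI : IsNoetherianRing Γ(X, U) := IsLocallyNoetherian.component_noetherian ⟨U, hU⟩
  let := (NormalizationLib.toK (algebraMap X.functionField L) U).toAlgebra
  haveI : IsScalarTower Γ(X, U) X.functionField L := IsScalarTower.of_algebraMap_eq fun _ ↦ rfl
  haveI := functionField_isFractionRing_of_isAffineOpen X U hU
  haveI hfin : Module.Finite Γ(X, U) (integralClosure Γ(X, U) L) :=
    IsIntegralClosure.finite Γ(X, U) X.functionField L _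
  let := (g.fromNormalization.app U).hom.toAlgebra
  let θ : Γ(g.normalization, g.fromNormalization ⁻¹ᵁ U) →ₐ[Γ(X, U)] integralClosure Γ(X, U) L :=
    { (NormalizationLib.normToK (algebraMap X.functionField L) g rfl U hU).hom.codRestrict (integralClosure Γ(X, U) L).toSubring
        fun v ↦ (NormalizationLib.mem_range_normToK (algebraMap X.functionField L) g rfl U hU _).mp ⟨v, rfl⟩ with
      commutes' := fun a ↦ Subtype.ext (NormalizationLib.normToK_fromNormalization (algebraMap X.functionField L) g rfl U hU a) }
  have hθ : Function.Bijective θ := ⟨fun a b h ↦ NormalizationLib.injective_normToK (algebraMap X.functionField L) g rfl U hU (congrArg Subtype.val h),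
    fun y ↦ by
      obtain ⟨v, hv⟩ := (NormalizationLib.mem_range_normToK (algebraMap X.functionField L) g rfl U hU _).mpr y.2
      exact ⟨v, Subtype.ext hv⟩⟩
  exact RingHom.finite_algebraMap.mpr (Module.Finite.equiv (AlgEquiv.ofBijective θ hθ).toLinearEquiv.symm)

end Groth.Agent.S18426
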