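import Groth.Statements.S18427
import Groth.Agent.EGA43.ProperDvr.FlatConnected
import Mathlib.AlgebraicGeometry.Geometrically.Connected
-- import your own Groth.Agent.* helpers here

set_option autoImplicit false
set_option backward.isDefEq.respectTransparency false
universe u
open Models

namespace Groth.Agent.S18427

open CategoryTheory AlgebraicGeometry in
/-- Let R be a discrete valuation ring with fraction field K, C a smooth proper geometrically connected
curve over K, and X a regular proper model of C over R (flat and proper over R, regular, with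
generic fibre C). Then the structure morphism X → Spec R has geometrically connected fibres; in
particular the special fibre of X is geometrically connected over the residue field of R. -/
theorem result (R : Type u) [CommRing R] [IsDomain R]
    [IsDiscreteValuationRing R] (C X : Scheme.{u})
    (f : C ⟶ Spec (CommRingCat.of (FractionRing R))) (p : X ⟶ Spec (CommRingCat.of R))
    (hC : Curve.IsSmoothProperCurve (FractionRing R) C f) [GeometricallyConnected f]
    (hX : Models.IsRegularProperModel R X p C f) :
    GeometricallyConnected p := by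
  obtain ⟨⟨hflat, hlft, hqc, g, hg⟩, hprop, -⟩ := hX
  haveI := hflat
  haveI := hprop
  haveI : IsNoetherianRing R := inferInstance
  rw [GeometricallyConnected.iff_geometricallyConnected_fiber]
  have hgen : ∀ η : Spec (CommRingCat.of R), (∀ η' : Spec (CommRingCat.of R), η' ⤳ η → η' = η) →
      GeometricallyConnected (p.fiberToSpecResidueField η) := by
    intro η hη
    refine ⟨fun L _ b Z fst snd sq => ?_⟩
    obtain ⟨φ, hφ⟩ := Spec.map_surjective (b ≫ (Spec (CommRingCat.of R)).fromSpecResidueField η)
    have hbot : η = (⟨⊥, Ideal.isPrime_bot⟩ : PrimeSpectrum R) :=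
      (hη _ ((PrimeSpectrum.le_iff_specializes _ _).1 bot_le)).symm
    have hinj : Function.Injective φ.hom := by
      have h1 : Spec.map φ (IsLocalRing.closedPoint L) = η := by
        rw [hφ, Scheme.Hom.comp_apply]
        exact Scheme.fromSpecResidueField_apply η _
      rw [RingHom.injective_iff_ker_eq_bot, RingHom.ker_eq_comap_bot]
      have := congrArg PrimeSpectrum.asIdeal (h1.trans hbot)
      refine Eq.trans ?_ this
      show Ideal.comap φ.hom ⊥ = Ideal.comap φ.hom (IsLocalRing.maximalIdeal L)
      rw [show IsLocalRing.maximalIdeal L = ⊥ from IsLocalRing.maximalIdeal_eq_bot]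
    let ψ : FractionRing R →+* L := IsFractionRing.lift hinj
    have hψ : CommRingCat.ofHom (algebraMap R (FractionRing R)) ≫ CommRingCat.ofHom ψ = φ := by
      ext r
      exact IsFractionRing.lift_algebraMap hinj r
    let P := sq.paste_horiz (IsPullback.of_hasPullback p ((Spec (CommRingCat.of R)).fromSpecResidueField η))
    have hb : b ≫ (Spec (CommRingCat.of R)).fromSpecResidueField η =
        Spec.map (CommRingCat.ofHom ψ) ≫ Spec.map (CommRingCat.ofHom (algebraMap R (FractionRing R))) := by
      rw [← Spec.map_comp, hψ, hφ]
    have P' : IsPullback (fst ≫ Limits.pullback.fst p _) snd p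
        (Spec.map (CommRingCat.ofHom ψ) ≫ Spec.map (CommRingCat.ofHom (algebraMap R (FractionRing R)))) := hb ▸ P
    have Q : IsPullback (hg.lift (fst ≫ Limits.pullback.fst p _) (snd ≫ Spec.map (CommRingCat.ofHom ψ))
        (by rw [Category.assoc snd, P'.w])) snd f (Spec.map (CommRingCat.ofHom ψ)) := by
      refine IsPullback.of_right ?_ (hg.lift_snd _ _ _) hg
      rw [hg.lift_fst]
      exact P'
    exact GeometricallyConnected.geometrically_connectedSpace (f := f) _ _ _ Q
  intro s
  haveI : Nonempty ↥(p.fiber s) := by
    haveI := hC.2.2.1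
    have hC' : IsClosed (Set.range p) := p.isClosedMap.isClosed_range
    have hsp : ∀ t : PrimeSpectrum R, (⟨⊥, Ideal.isPrime_bot⟩ : PrimeSpectrum R) ⤳ t := fun t =>
      (PrimeSpectrum.le_iff_specializes _ _).1 bot_le
    have hb : p (g (genericPoint C)) = (⟨⊥, Ideal.isPrime_bot⟩ : PrimeSpectrum R) := by
      rw [← Scheme.Hom.comp_apply, hg.w, Scheme.Hom.comp_apply,
        Subsingleton.elim (f (genericPoint C)) (⟨⊥, Ideal.isPrime_bot⟩ : PrimeSpectrum (FractionRing R))]
      exact PrimeSpectrum.ext (Ideal.comap_bot_of_injective _ (IsFractionRing.injective R (FractionRing R)))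
    obtain ⟨x, hx⟩ := (hsp s).mem_closed hC' ⟨g (genericPoint C), hb⟩
    obtain ⟨z, -⟩ := (p.range_fiberι s).ge (show x ∈ p ⁻¹' {s} from hx)
    exact ⟨z⟩
  exact Groth.Agent.EGA43.ProperDvr.geometricallyConnected_fibre_of_flat p hgen s
    (MorphismProperty.of_isPullback (P := @IsProper) (IsPullback.of_hasPullback p ((Spec (CommRingCat.of R)).fromSpecResidueField s)) hprop)

end Groth.Agent.S18427
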