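import Groth.Statements.S18429
import Mathlib.Tactic

set_option autoImplicit false
universe u
open SpinCurv

namespace Groth.Agent.S18429

/-- Let n ≥ 1 and r ≥ 2 be integers and let e_0, …, e_{nr} be integers with e_0 = e_{nr} = 0 (the
coefficients of a chain of nr - 1 exceptional curves joining two non-exceptional components with
coefficient zero) such that at every interior index 1 ≤ j ≤ nr - 1 the second difference e_{j-1} - 2
e_j + e_{j+1} (the degree of the divisor Σ e_i E_i on the j-th curve of the chain) is divisible by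
r. Then there are integers e'_0, …, e'_{nr}, with e'_j ≡ e_j modulo r for every interior j, with
e'_0 = e'_{nr} = 0 and every e'_j ≤ 0, whose second differences at the interior indices are each 0
or r, and are nonzero at no two distinct interior indices. -/
theorem result (n r : ℕ) (hn : 1 ≤ n) (hr : 2 ≤ r)
    (e : ℕ → ℤ) (he0 : e 0 = 0) (henr : e (n * r) = 0)
    (hdiv : ∀ j : ℕ, 1 ≤ j → j < n * r → (r : ℤ) ∣ e (j - 1) - 2 * e j + e (j + 1)) :
    ∃ e' : ℕ → ℤ, e' 0 = 0 ∧ e' (n * r) = 0 ∧
      (∀ j : ℕ, 1 ≤ j → j < n * r → (r : ℤ) ∣ e' j - e j) ∧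
      (∀ j : ℕ, j ≤ n * r → e' j ≤ 0) ∧
      (∀ j : ℕ, 1 ≤ j → j < n * r →
        (e' (j - 1) - 2 * e' j + e' (j + 1) = 0 ∨ e' (j - 1) - 2 * e' j + e' (j + 1) = r)) ∧
      (∀ j j' : ℕ, 1 ≤ j → j < n * r → 1 ≤ j' → j' < n * r →
        e' (j - 1) - 2 * e' j + e' (j + 1) ≠ 0 → e' (j' - 1) - 2 * e' j' + e' (j' + 1) ≠ 0 → j = j') := by
  have h : ∀ j, j < n * r → (r : ℤ) ∣ e (j + 1) - e j - e 1 := by
    intro j
    induction j with
    | zero => intro _; simp [he0]
    | succ j ih =>
      intro hj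
      have := (ih (by omega)).add (hdiv (j + 1) (by omega) hj)
      rw [Nat.add_sub_cancel] at this
      rwa [show e (j + 1 + 1) - e (j + 1) - e 1 =
        e (j + 1) - e j - e 1 + (e j - 2 * e (j + 1) + e (j + 1 + 1)) by ring]
  have h2 : ∀ j, j ≤ n * r → (r : ℤ) ∣ e j - j * e 1 := by
    intro j
    induction j with
    | zero => intro _; simp [he0]
    | succ j ih =>
      intro hj
      have := (ih (by omega)).add (h j (by omega))
      rwa [show e (j + 1) - ((j + 1 : ℕ) : ℤ) * e 1 = e j - j * e 1 + (e (j + 1) - e j - e 1) by push_cast; ring]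
  obtain ⟨c, hc⟩ : ∃ c : ℕ, (c : ℤ) = e 1 % r := ⟨(e 1 % r).toNat, Int.toNat_of_nonneg (Int.emod_nonneg _ (by omega))⟩
  have hcr : (c : ℤ) < r := hc ▸ Int.emod_lt_of_pos _ (by omega)
  have hce : (r : ℤ) ∣ c - e 1 := hc ▸ Int.dvd_sub_self_of_emod_eq rfl |>.trans dvd_rfl
  refine ⟨fun j => c * j - r * min (j : ℤ) (n * c : ℕ),
    (by simp only [Nat.cast_zero, mul_zero]; rw [min_eq_left (by positivity)]; ring), ?_, fun j _ hj => ?_, fun j hj => ?_,
    fun j hj1 hj => ?_, fun j j' hj1 hj hj1' hj' hne hne' => ?_⟩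
  · have : n * c ≤ n * r := Nat.mul_le_mul_left n (by omega)
    simp only
    rw [min_eq_right (by exact_mod_cast this)]
    push_cast; ring
  · rw [show (c : ℤ) * j - r * min (j : ℤ) (n * c : ℕ) - e j = j * ((c : ℤ) - e 1) - (e j - j * e 1) - r * min (j : ℤ) (n * c : ℕ) by ring]
    exact ((hce.mul_left _).sub (h2 j hj.le)).sub (dvd_mul_right _ _)
  · rcases Nat.lt_or_ge j (n * c) with h' | h'
    · simp only
      rw [min_eq_left (by exact_mod_cast h'.le), ← sub_mul]
      exact mul_nonpos_of_nonpos_of_nonneg (by linarith) (by positivity)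
    · simp only
      rw [min_eq_right (by exact_mod_cast h')]
      have : (j : ℤ) ≤ n * r := by exact_mod_cast hj
      push_cast
      nlinarith
  · rcases Nat.lt_trichotomy j (n * c) with h' | h' | h'
    · left
      simp only
      rw [min_eq_left, min_eq_left, min_eq_left] <;> [skip; exact_mod_cast h'; exact_mod_cast h'.le; exact_mod_cast (show j - 1 ≤ n * c by omega)]
      push_cast [Nat.cast_sub hj1]; ring
    · right
      simp only
      rw [min_eq_left, min_eq_left, min_eq_right] <;> [skip; exact_mod_cast (show n * c ≤ j + 1 by omega); exact_mod_cast h'.le; exact_mod_cast (show j - 1 ≤ n * c by omega)]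
      rw [← h']
      push_cast [Nat.cast_sub hj1]; ring
    · left
      simp only
      rw [min_eq_right, min_eq_right, min_eq_right] <;> [skip; exact_mod_cast (show n * c ≤ j + 1 by omega); exact_mod_cast h'.le; exact_mod_cast (show n * c ≤ j - 1 by omega)]
      push_cast [Nat.cast_sub hj1]; ring
  · have key : ∀ i : ℕ, 1 ≤ i → i ≠ n * c →
        (c : ℤ) * ((i - 1 : ℕ) : ℤ) - r * min ((i - 1 : ℕ) : ℤ) (n * c : ℕ) - 2 * ((c : ℤ) * i - r * min (i : ℤ) (n * c : ℕ)) +
          ((c : ℤ) * ((i + 1 : ℕ) : ℤ) - r * min ((i + 1 : ℕ) : ℤ) (n * c : ℕ)) = 0 := by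
      intro i hi hne
      rcases Nat.lt_or_ge i (n * c) with h' | h'
      · rw [min_eq_left, min_eq_left, min_eq_left] <;> [skip; exact_mod_cast h'; exact_mod_cast h'.le; exact_mod_cast (show i - 1 ≤ n * c by omega)]
        push_cast [Nat.cast_sub hi]; ring
      · rw [min_eq_right, min_eq_right, min_eq_right] <;> [skip; exact_mod_cast (show n * c ≤ i + 1 by omega); exact_mod_cast h'; exact_mod_cast (show n * c ≤ i - 1 by omega)]
        push_cast [Nat.cast_sub hi]; ring
    by_contra hjj
    rcases eq_or_ne j (n * c) with h' | h'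
    · exact hne' (key j' hj1' (fun h'' => hjj (h'.trans h''.symm)))
    · exact hne (key j hj1 h')

end Groth.Agent.S18429
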