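import Groth.Statements.S1843
import Groth.Agent.AbCubeLib.PRankBound
import Groth.Agent.AbCubeLib.PointsBC
import Groth.Agent.DimLib.BaseChange

set_option autoImplicit false
universe u v
open CategoryTheory MonoidalCategory CartesianMonoidalCategory MonObj GrpObj AlgebraicGeometry
open GrpSch

namespace Groth.Agent.S1843
open CategoryTheory.Limits Groth.Agent.AbCubeLib

/-- Let A be an abelian variety of dimension g over a field of characteristic p > 0. The set of points
of A mapped to the identity point by multiplication by p has at most p^g elements. -/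
theorem result (K : Type u) [Field K] (p : ℕ) [Fact p.Prime] [CharP K p] (A : Over (Spec (CommRingCat.of K))) [GrpObj A] [IsProper A.hom] [GeometricallyIntegral A.hom] (g : ℕ) (hg : topologicalKrullDim A.left = g) : Set.encard {a : A.left | (𝟙 A ^ p).left a = η[A].left (IsLocalRing.closedPoint K)} ≤ (p ^ g : ℕ) := by
  classical
  have hp0 : 0 < p := (Fact.out : p.Prime).pos
  haveI := isFinite_pow (A := A) hp0
  let K' := AlgebraicClosure K
  let j : Spec (CommRingCat.of K') ⟶ Spec (CommRingCat.of K) := Spec.map (CommRingCat.ofHom (algebraMap K K'))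
  let A' := (Over.pullback j).obj A
  letI : GrpObj A' := Functor.grpObjObj
  haveI : IsProper A'.hom := inferInstanceAs (IsProper (pullback.snd A.hom j))
  haveI : GeometricallyIntegral A'.hom := inferInstanceAs (GeometricallyIntegral (pullback.snd A.hom j))
  haveI : CharP K' p := charP_of_injective_algebraMap (algebraMap K K').injective p
  have hdim : topologicalKrullDim A'.left = g := (Groth.Agent.DimLib.topologicalKrullDim_bc A.hom K').trans hg
  have hcard := natCard_ker_pow_char_le (A := A') p hdim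
  haveI := isFinite_pow (A := A') hp0
  haveI := finite_ker (𝟙 A' ^ p)
  have hmap : (Over.pullback j).map (𝟙 A ^ p) = 𝟙 A' ^ p := by
    show (Over.pullback j).homMonoidHom (𝟙 A ^ p) = _
    rw [map_pow]
    exact congrArg (· ^ p) ((Over.pullback j).map_id A)
  let eqv : {b : Over.mk j ⟶ A // b ≫ (𝟙 A ^ p) = 1} ≃
      {b : 𝟙_ (Over (Spec (CommRingCat.of K'))) ⟶ A' // b ≫ (𝟙 A' ^ p) = 1} :=
    Equiv.subtypeEquiv (Equiv.ofBijective _ (bcPts_bijective j A)) fun b => by
      show _ ↔ bcPts j A b ≫ _ = 1
      rw [← hmap, ← bcPts_comp, map_eq_one_iff _ (bcPts_bijective j A).1]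
  haveI : Finite {b : Over.mk j ⟶ A // b ≫ (𝟙 A ^ p) = 1} := Finite.of_equiv _ eqv.symm
  have h1 : η[A] = (1 : 𝟙_ (Over (Spec (CommRingCat.of K))) ⟶ A) := (MonObj.one_eq_one A)
  have hsub : {a : A.left | (𝟙 A ^ p).left a = η[A].left (IsLocalRing.closedPoint K)} ⊆
      Set.range fun b : {b : Over.mk j ⟶ A // b ≫ (𝟙 A ^ p) = 1} => b.1.left (IsLocalRing.closedPoint K') := by
    intro a ha
    rw [h1] at ha
    obtain ⟨z, hz1, -⟩ := Scheme.Pullback.exists_preimage_pullback
      (f := (𝟙 A ^ p).left) (g := (1 : 𝟙_ (Over (Spec (CommRingCat.of K))) ⟶ A).left) a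
      (IsLocalRing.closedPoint K) ha
    obtain ⟨F, _, _, _, e, he⟩ := exists_algebra
      (pullback.snd (𝟙 A ^ p).left (1 : 𝟙_ (Over (Spec (CommRingCat.of K))) ⟶ A).left)
    let M : PrimeSpectrum F := e.inv z
    haveI : IsArtinianRing F := IsArtinianRing.of_finite K F
    haveI : M.asIdeal.IsMaximal := inferInstance
    letI := Ideal.Quotient.field M.asIdeal
    let σ : F →ₐ[K] K' := (IsAlgClosed.lift : (F ⧸ M.asIdeal) →ₐ[K] K').comp (Ideal.Quotient.mkₐ K M.asIdeal)
    let s := algHomEquivPts e he σ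
    let b := (kerPtsEquiv (𝟙 A ^ p) (Over.mk j)).symm ⟨s.1, s.2⟩
    refine ⟨b, ?_⟩
    refine (Scheme.Hom.comp_apply _ _ _).trans (Eq.trans (congrArg _ ?_) hz1)
    refine (Scheme.Hom.comp_apply _ _ _).trans ?_
    rw [show (Spec.map (CommRingCat.ofHom σ.toRingHom)) (IsLocalRing.closedPoint K') = M from
      PrimeSpectrum.ext (by
        show Ideal.comap σ.toRingHom (IsLocalRing.maximalIdeal K') = M.asIdeal
        rw [IsLocalRing.maximalIdeal_eq_bot, ← RingHom.ker_eq_comap_bot]
        exact (RingHom.ker_comp_of_injective _ (RingHom.injective _)).trans Ideal.mk_ker)]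
    show (e.inv ≫ e.hom) z = z
    rw [Iso.inv_hom_id]
    rfl
  refine (Set.encard_le_encard hsub).trans ?_
  rw [← Set.image_univ]
  refine (Set.encard_image_le _ _).trans ?_
  rw [Set.encard_univ, ENat.card_eq_coe_natCard]
  exact_mod_cast (Nat.card_congr eqv).trans_le hcard

end Groth.Agent.S1843
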