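import Groth.Statements.S18431
import Mathlib.RingTheory.LocalRing.ResidueField.Basic
import Mathlib.Tactic

set_option autoImplicit false
universe u
open SpinCurv

namespace Groth.Agent.S18431

/-- Let R be a Noetherian local ring in which the natural number r is invertible and let ξ, ζ ∈ R
satisfy ξ^r = 1 and ζ^r = 1. Then either ξ = ζ, or ξ - ζ is a unit of R. (Consequently an element of
R annihilated by ξ - ζ is zero unless ξ = ζ. In the published setting R is moreover complete; the
step does not use completeness.) -/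
theorem result (R : Type u) [CommRing R] [IsNoetherianRing R] [IsLocalRing R]
    (r : ℕ) (hr : IsUnit (r : R)) (ξ ζ : R) (hξ : ξ ^ r = 1) (hζ : ζ ^ r = 1) :
    ξ = ζ ∨ IsUnit (ξ - ζ) := by
  by_cases hu : IsUnit (ξ - ζ)
  · exact Or.inr hu
  left
  have h : (∑ i ∈ Finset.range r, ξ ^ i * ζ ^ (r - 1 - i)) * (ξ - ζ) = 0 := by
    rw [geom_sum₂_mul, hξ, hζ, sub_self]
  have hsum : IsUnit (∑ i ∈ Finset.range r, ξ ^ i * ζ ^ (r - 1 - i)) := by
    rw [← IsLocalRing.residue_ne_zero_iff_isUnit, map_sum]
    have he : IsLocalRing.residue R ξ = IsLocalRing.residue R ζ := by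
      rw [← sub_eq_zero, ← map_sub]
      exact not_not.1 fun h' => hu ((IsLocalRing.residue_ne_zero_iff_isUnit _).1 h')
    have hterm : ∀ i ∈ Finset.range r, IsLocalRing.residue R (ξ ^ i * ζ ^ (r - 1 - i)) = IsLocalRing.residue R (ζ ^ (r - 1)) := by
      intro i hi
      rw [map_mul, map_pow, map_pow, map_pow, he, ← pow_add]
      congr 1
      have := Finset.mem_range.1 hi
      omega
    rw [Finset.sum_congr rfl hterm, Finset.sum_const, Finset.card_range, nsmul_eq_mul, ← map_natCast (IsLocalRing.residue R), ← map_mul]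
    rcases Nat.eq_zero_or_pos r with rfl | h0
    · simp at hr
    exact (IsLocalRing.residue_ne_zero_iff_isUnit _).2 (hr.mul ((IsUnit.of_pow_eq_one hζ h0.ne').pow _))
  exact sub_eq_zero.1 ((hsum.mul_right_eq_zero).1 h)

end Groth.Agent.S18431
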