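import Groth.Statements.S18434
import Groth.Agent.NodeAlg29.Series

set_option autoImplicit false
universe u
open SpinCurv

namespace Groth.Agent.S18434

/-- Let k be a field, u, v ≥ 1 integers and w ∈ k nonzero. In the ring A = k[[x, y]]/(xy), the quotient
A/(x^u, w y^v) has dimension u + v - 1 over k (a basis is 1, x, …, x^{u-1}, y, …, y^{v-1}); this is
the length of the cokernel at the node of a map whose image is generated by x^u and w y^v. -/
theorem result (k : Type u) [Field k] (u v : ℕ) (hu : 1 ≤ u) (hv : 1 ≤ v)
    (w : k) (hw : w ≠ 0) :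
    Module.finrank k (SpinCurv.NodeRing k 0 ⧸
      Ideal.span {SpinCurv.NodeRing.x k 0 ^ u, algebraMap k (SpinCurv.NodeRing k 0) w * SpinCurv.NodeRing.y k 0 ^ v}) =
      u + v - 1 := by
  exact Groth.Agent.NodeAlg29.finrank_quot u v hu w hw hv

end Groth.Agent.S18434
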