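import Groth.Statements.S18438
import Groth.Agent.Surf15.RRCor
import Groth.Agent.Surf15.IntPush
-- import your own Groth.Agent.* helpers here

set_option autoImplicit false
universe u
open CategoryTheory CategoryTheory.Limits AlgebraicGeometry TopologicalSpace
open Surf

open TopologicalSpace
open Groth.Agent.Coherent Groth.Agent.PicLib Groth.Agent.AmpleLib Groth.Agent.EulerLib Groth.Agent.CurveRR24 Groth.Agent.DimLib Groth.Agent.Surf15
set_option linter.style.haveILetI false
set_option backward.isDefEq.respectTransparency.types false

namespace Groth.Agent.S18438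

/-- Let k be an algebraically closed field and X a smooth projective surface over k whose anticanonical
module is ample: X is an integral scheme, proper and smooth over k of dimension 2, W is a canonical
module (a second exterior power of Ω_{X/k}) and D a tensor inverse of W which is ample. Intersection
numbers of invertible modules are (L·M) = χ(O_X) − χ(L) − χ(M) + χ(L ⊗ M), so that for a closed
subscheme C with ideal I_C one has C·C = (I_C·I_C) and K·C = −(I_C·W). If C ⊆ X is an integral
closed one-dimensional subscheme with C·C < 0, then C is an exceptional curve of the first kind: C·C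
= −1, K·C = −1 and H¹(C, O_C) = 0. (The published statement concerns del Pezzo surfaces of degree d
embedded in projective d-space; its argument uses only the ampleness of the anticanonical module,
which is the hypothesis taken here.) -/
theorem result (k : Type u) [Field k] [IsAlgClosed k] (X : Scheme.{u})
    [X.Over (Spec (CommRingCat.of k))] [IsIntegral X] [IsProper (X ↘ (Spec (CommRingCat.of k)))] [Smooth (X ↘ (Spec (CommRingCat.of k)))]
    (hdim : topologicalKrullDim X = 2)
    (W : X.Modules) (hW : ExtPow.IsExtPow 2 (Omega.sheaf (X ↘ (Spec (CommRingCat.of k)))) W)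
    (D : X.Modules) (hD : ClSub.IsInverseOf D W) (hample : CohB1.IsAmple D)
    (C : X.IdealSheafData) (hC : IsIntegral C.subscheme) (hC1 : topologicalKrullDim (C.support : Set X) = 1)
    (hneg : FGA.intNum k X 2 ![ClSub.idealMod C, ClSub.idealMod C] (Coh.structureModule X) < 0) :
    FGA.intNum k X 2 ![ClSub.idealMod C, ClSub.idealMod C] (Coh.structureModule X) = -1 ∧
      FGA.intNum k X 2 ![ClSub.idealMod C, W] (Coh.structureModule X) = 1 ∧
      Subsingleton (Coh.HH C.subscheme (Coh.structureModule C.subscheme) 1) := by
  have hX : topologicalKrullDim X = ((2 : ℕ) : WithBot ℕ∞) := by exact_mod_cast hdim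
  have hC1' : topologicalKrullDim (C.support : Set X) = ((1 : ℕ) : WithBot ℕ∞) := by exact_mod_cast hC1
  have hE := isEffCartier_of_curve k hX hC hC1'
  have hWi := isInvertible_canonical k hX hW
  have h := two_euler_quotMod k hX hW hWi hE
  obtain ⟨hg, hiff⟩ := euler_quotMod_curve k hX hC hC1'
  have hI := Groth.Agent.FlatMor12.IdealModGen.isInvertible_idealMod C hE
  have hDi : PicF.IsInvertible D := (isAmple_iff_affGlocus.1 hample).1
  -- the anticanonical degree of the curve
  have hneg' := B_curve_ample_neg k C hC1' hE hample
  have hDW : InvCl.mk D hDi * InvCl.mk W hWi = 1 := by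
    obtain ⟨e⟩ := hD
    exact InvCl.mk_eq _ _ e
  have hpos : 0 < FGA.intNum k X 2 ![ClSub.idealMod C, W] (Coh.structureModule X) := by
    rw [intNum_eq_B k hX.le hI hWi, B_inv_right k hX.le hDW]
    change B k (InvCl.mk (ClSub.idealMod C) hI) (InvCl.mk D hDi) < 0 at hneg'
    linarith
  rw [hg] at h
  letI : C.subscheme.Over (Spec (CommRingCat.of k)) := ⟨C.subschemeι ≫ (X ↘ Spec (CommRingCat.of k))⟩
  have hg0 : Curv2.genus k C.subscheme = 0 := by omega
  refine ⟨by omega, by omega, hiff.1 hg0⟩

end Groth.Agent.S18438
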