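import Groth.Statements.S1844
import Groth.Agent.AbCubeLib.MulBy

set_option autoImplicit false
universe u v
open CategoryTheory MonoidalCategory CartesianMonoidalCategory MonObj GrpObj AlgebraicGeometry
open GrpSch

namespace Groth.Agent.S1844

/-- Let A be an abelian variety over a field, L an invertible O_A-module and n ≥ 1. Then [n]^*L is
isomorphic to L^{⊗ n(n+1)/2} ⊗ ([-1]^*L)^{⊗ n(n-1)/2}, where [n] is multiplication by n and [-1] the
inversion of A. -/
theorem result (K : Type u) [Field K] (A : Over (Spec (CommRingCat.of K))) [GrpObj A] [IsProper A.hom] [GeometricallyIntegral A.hom] (L : A.left.Modules) (hL : PicF.IsInvertible L) (n : ℕ) (hn : 1 ≤ n) : Nonempty ((Scheme.Modules.pullback (𝟙 A ^ n).left).obj L ≅ CohB1.tensorMod (CohB1.tensorPow L (n * (n + 1) / 2)) (CohB1.tensorPow ((Scheme.Modules.pullback ((𝟙 A)⁻¹).left).obj L) (n * (n - 1) / 2))) := by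
  have : IsIso ((𝟙 A)⁻¹).left := inferInstanceAs (IsIso ((CategoryTheory.Over.forget _).map (ι[A])))
  have h := Groth.Agent.AbCubeLib.pb_pow (Groth.Agent.PicLib.PicM.of hL) (𝟙 A) n
  rw [Groth.Agent.AbCubeLib.pb_id, Nat.choose_two_right, Nat.choose_two_right, Nat.add_sub_cancel,
    Nat.mul_comm (n + 1) n] at h
  have hL' := PicLoc.isInvertible_pullback ((𝟙 A)⁻¹).left hL
  exact (Groth.Agent.PicLib.PicM.of_eq_iff _ (Groth.Agent.AmpleLib.isInvertible_tensorMod
    (Groth.Agent.AmpleLib.isInvertible_tensorPow hL (n * (n + 1) / 2))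
    (Groth.Agent.AmpleLib.isInvertible_tensorPow hL' (n * (n - 1) / 2)))).1
    ((Groth.Agent.PicLib.PicM.pull_of (𝟙 A ^ n).left hL).symm.trans (h.trans
      ((congrArg₂ (· * ·) (Groth.Agent.PicLib.PicM.of_tensorPow hL _).symm
        (Groth.Agent.PicLib.PicM.of_tensorPow hL' _).symm).trans (Groth.Agent.PicLib.PicM.of_mul _ _))))

end Groth.Agent.S1844
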