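import Groth.Statements.S18440
import Groth.Agent.Surf15.K3
import Groth.Agent.Surf15.Adjunction
import Groth.Agent.Surf15.SerreApps
import Groth.Agent.Surf15.RRCor
import Groth.Agent.EulerLib.SupportVanishing
import Groth.Agent.AbVarLib.AlgClosedIntegral
-- import your own Groth.Agent.* helpers here

set_option autoImplicit false
universe u
open CategoryTheory CategoryTheory.Limits AlgebraicGeometry TopologicalSpace
open Surf

open TopologicalSpace
open Groth.Agent.Coherent Groth.Agent.PicLib Groth.Agent.AmpleLib Groth.Agent.EulerLib Groth.Agent.CurveRR24 Groth.Agent.DimLib Groth.Agent.Surf15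
set_option linter.style.haveILetI false
set_option backward.isDefEq.respectTransparency.types false

namespace Groth.Agent.S18440

/-- Let k be an algebraically closed field and X a smooth projective surface over k (an integral scheme,
proper and smooth over k of dimension 2) with H¹(X, O_X) = 0, and W a canonical module of X (a
second exterior power of Ω_{X/k}). Let C ⊆ X be an integral closed one-dimensional subscheme, smooth
over k, of arithmetic genus one, written χ(O_C) = 0 with the Euler characteristic of O_C computed on
X through the closed immersion (k being algebraically closed and C integral, H⁰(C, O_C) = k, so this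
says dim_k H¹(C, O_C) = 1), whose module O_X(C) — a tensor inverse N of the ideal I_C — is ample.
Then W ≅ I_C, that is ω_X ≅ O_X(−C) (existence of an isomorphism of invertible modules). (The
published statement is that a smooth del Pezzo surface of degree d embedded in projective d-space
has canonical module O_X(−1); its argument takes C a general hyperplane section and uses about the
embedding only that C is a smooth curve of genus one and that H¹(X, O_X) vanishes, facts it draws
from results quoted without proof; those two properties are the hypotheses here.) -/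
theorem result (k : Type u) [Field k] [IsAlgClosed k] (X : Scheme.{u})
    [X.Over (Spec (CommRingCat.of k))] [IsIntegral X] [IsProper (X ↘ (Spec (CommRingCat.of k)))] [Smooth (X ↘ (Spec (CommRingCat.of k)))]
    (hdim : topologicalKrullDim X = 2)
    (W : X.Modules) (hW : ExtPow.IsExtPow 2 (Omega.sheaf (X ↘ (Spec (CommRingCat.of k)))) W)
    (hq : Subsingleton (Coh.HH X (Coh.structureModule X) 1))
    (C : X.IdealSheafData) (hC : IsIntegral C.subscheme) (hC1 : topologicalKrullDim (C.support : Set X) = 1)
    (hCs : Smooth (C.subschemeι ≫ (X ↘ (Spec (CommRingCat.of k)))))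
    (hg : Curv2.euler k X (ClSub.quotMod C) = 0)
    (N : X.Modules) (hN : ClSub.IsInverseOf N (ClSub.idealMod C)) (hNample : CohB1.IsAmple N) :
    Nonempty (W ≅ ClSub.idealMod C) := by
  have hX : topologicalKrullDim X = ((2 : ℕ) : WithBot ℕ∞) := by exact_mod_cast hdim
  haveI := isNoetherian_of_proper (X := X) k
  haveI := isSeparated_of_proper (X := X) k
  have hWi := isInvertible_canonical k hX hW
  have hCd : topologicalKrullDim (C.support : Set X) = ((1 : ℕ) : WithBot ℕ∞) := by exact_mod_cast hC1
  have hE := isEffCartier_of_curve k hX hC hCd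
  have hI := Groth.Agent.FlatMor12.IdealModGen.isInvertible_idealMod C hE
  have hNi := hNample.1
  obtain ⟨e⟩ := hN
  have hinv : InvCl.mk N hNi * clI' C hE = 1 := InvCl.mk_eq _ _ e
  haveI := hC
  -- the second cohomology of the ideal
  have hS := shortExact_ideal C
  have h0I := subsingleton_h0_idealMod k hX hNample hE (IsCrv.ne_top ⟨hC, hCd⟩)
  have hq2 : Subsingleton (Coh.HH X (ClSub.quotMod C) 2) :=
    subsingleton_HH_of_support C.support _ (isCoh_quotMod C).1 (support_quotMod_subset C) 2
      (by rw [hCd]; norm_num)
  have hh0 : 1 ≤ Module.finrank k (Coh.HH X (ClSub.quotMod C) 0) := by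
    have h := (h0_le k hS (isCoh_idealMod' C) (isCoh_structureModule X) (isCoh_quotMod C)).2
    change Module.finrank k (Coh.HH X (Coh.structureModule X) 0) ≤
      Module.finrank k (Coh.HH X (ClSub.idealMod C) 0) + Module.finrank k (Coh.HH X (ClSub.quotMod C) 0) at h
    rwa [finrank_h0_structure k, Module.finrank_zero_of_subsingleton (M := Coh.HH X (ClSub.idealMod C) 0),
      zero_add] at h
  have hh1 : ¬ Subsingleton (Coh.HH X (ClSub.quotMod C) 1) := fun h1 => by
    rw [euler_three k hX.le (isCoh_quotMod C).1,
      Module.finrank_zero_of_subsingleton (M := Coh.HH X (ClSub.quotMod C) 1),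
      Module.finrank_zero_of_subsingleton (M := Coh.HH X (ClSub.quotMod C) 2)] at hg
    omega
  have h2 : ¬ Subsingleton (Coh.HH X (ClSub.idealMod C) 2) := fun h2 => by
    haveI := hq
    haveI := h2
    exact hh1 (Groth.Agent.SerreDual.hdelta_injective (k := k) hS 1).subsingleton
  haveI := finite_HH_of_isCoh k (isCoh_idealMod' C) 2
  have hWN : Nontrivial (Coh.HH X (CohB1.tensorMod W N) 0) := by
    obtain ⟨eIN⟩ : Nonempty (CohB1.tensorMod (ClSub.idealMod C) N ≅ Coh.structureModule X) :=
      ⟨tensorComm _ _ ≪≫ e⟩
    refine Module.nontrivial_of_finrank_pos (R := k) ?_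
    rw [← (serre_duality k hX hW hWi hI hNi eIN).1]
    exact Nat.pos_of_ne_zero fun h => h2 ((Module.finrank_zero_iff (R := k)).1 h)
  -- adjunction
  haveI : LocallyOfFiniteType (C.subschemeι ≫ (X ↘ Spec (CommRingCat.of k))) := inferInstance
  have hadj := two_euler_curve k hX hW hWi hE (by
      rw [IsHomeomorph.topologicalKrullDim_eq _ C.subschemeι.isClosedEmbedding.isEmbedding.toHomeomorph.isHomeomorph,
        C.range_subschemeι]
      exact hC1) hCs (Groth.Agent.AbVarLib.geometricallyIntegral_of_isAlgClosed _)
  rw [hg, mul_zero] at hadj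
  have hB : B k (InvCl.mk (CohB1.tensorMod W N) (isInvertible_tensorMod hWi hNi)) (InvCl.mk N hNample.1) = 0 := by
    have hinv' : clI' C hE * InvCl.mk N hNi = 1 := by rw [mul_comm]; exact hinv
    rw [← InvCl.mk_mul hWi hNi, B_mul_left k hX.le, B_inv_inv k hX.le hinv' hinv',
      B_inv_right k hX.le hinv', B_comm k (InvCl.mk W hWi)]
    linarith
  obtain ⟨u⟩ := nonempty_iso_unit_of_orth k hX hNample (isInvertible_tensorMod hWi hNi) hB hWN
  refine Quotient.exact (?_ : InvCl.mk W hWi = InvCl.mk (ClSub.idealMod C) hI)
  calc InvCl.mk W hWi = InvCl.mk W hWi * (InvCl.mk N hNi * clI' C hE) := by rw [hinv, mul_one]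
    _ = InvCl.mk (ClSub.idealMod C) hI := by
      rw [← mul_assoc, InvCl.mk_mul hWi hNi, InvCl.mk_eq _ isInvertible_structureModule u,
        show InvCl.mk (Coh.structureModule X) isInvertible_structureModule = 1 from rfl, one_mul]
      rfl

end Groth.Agent.S18440
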