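import Groth.Statements.S18442
import Groth.Agent.EulerPn5.ConormalCI
import Groth.Agent.Omega15.CanonComp15
import Groth.Agent.SmoothImmH2.Regular
import Groth.Agent.PnCanon5.Main
import Groth.Agent.AVExt16.RelDim
import Groth.Agent.KvbLam28.Basic
-- import your own Groth.Agent.* helpers here

set_option autoImplicit false
set_option backward.isDefEq.respectTransparency.types false
set_option backward.isDefEq.respectTransparency false
set_option maxHeartbeats 1000000
universe u
open CategoryTheory CategoryTheory.Limits AlgebraicGeometry TopologicalSpace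
open Surf

namespace Groth.Agent.S18442

/-- Let k be an algebraically closed field and X ⊆ P⁴_k a smooth surface which is the complete
intersection of two quadrics: X is an integral scheme, smooth over k of dimension 2, with a closed
immersion ι : X → P⁴_k over k whose kernel ideal sheaf is the ideal sheaf generated by two quadratic
forms G_0, G_1. Then a canonical module W of X (a second exterior power of Ω_{X/k}) is isomorphic to
ι^*O(−1) (existence of an isomorphism), so its tensor inverse ι^*O(1) is ample and X is a del Pezzo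
surface. -/
theorem result (k : Type u) [Field k] [IsAlgClosed k] (X : Scheme.{u})
    [X.Over (Spec (CommRingCat.of k))] [IsIntegral X] [Smooth (X ↘ (Spec (CommRingCat.of k)))] (hdim : topologicalKrullDim X = 2)
    (ι : X ⟶ CohB1.ProjSpace 4 k) [IsClosedImmersion ι] (hι : ι ≫ CohB1.ProjSpace.toSpec 4 k = X ↘ (Spec (CommRingCat.of k)))
    (G : Fin 2 → LefPen.Form 4 k 2) (hker : ι.ker = LefPen.ciIdeal G)
    (W : X.Modules) (hW : ExtPow.IsExtPow 2 (Omega.sheaf (X ↘ (Spec (CommRingCat.of k)))) W) :
    Nonempty (W ≅ (Scheme.Modules.pullback ι).obj (Twist.twistProjSpace 4 k (-1))) := by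
  classical
  let P := CohB1.ProjSpace 4 k
  let g : P ⟶ Spec (CommRingCat.of k) := CohB1.ProjSpace.toSpec 4 k
  let f := X ↘ (Spec (CommRingCat.of k))
  haveI : SmoothOfRelativeDimension 4 g := PnCanon5.smoothOfRelativeDimension_toSpec 4 k
  haveI : SmoothOfRelativeDimension 2 f := AVExt16.smoothOfRelativeDimension_of_dim f 2 (by rw [hdim]; rfl)
  haveI : QuasiSeparated g := by
    haveI : IsProper g := Coherent.isProper_projSpace_toSpec 4 k
    infer_instance
  haveI : QuasiSeparated f := by
    show QuasiSeparated (X ↘ (Spec (CommRingCat.of k)))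
    rw [← hι]
    haveI : IsProper g := Coherent.isProper_projSpace_toSpec 4 k
    infer_instance
  let J := LefPen.ciIdeal G
  have hk : J.subschemeι.ker = ι.ker := by rw [Scheme.IdealSheafData.ker_subschemeι, hker]
  let e : X ⟶ J.subscheme := IsClosedImmersion.lift J.subschemeι ι hk.le
  have he : e ≫ J.subschemeι = ι := IsClosedImmersion.lift_fac _ _ _
  haveI : IsIso e := IsClosedImmersion.isIso_of_ker_eq ι J.subschemeι e he hk.symm
  have hJdim : topologicalKrullDim ↥J.subscheme = ((4 - 2 : ℕ) : WithBot ℕ∞) := by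
    rw [← IsHomeomorph.topologicalKrullDim_eq e (show IsHomeomorph e from (Scheme.homeoOfIso (asIso e)).isHomeomorph), hdim]
    rfl
  have hG : CI14.IsProperCI G := CI14.isProperCI_of_dim G (by norm_num) hJdim
  obtain ⟨c⟩ := EulerPn5.nonempty_conormal_ci G hG
  have sq : IsPullback ι e (𝟙 P) J.subschemeι :=
    IsPullback.of_vert_isIso ⟨by rw [Category.comp_id, he]⟩
  obtain ⟨θ, hθ⟩ := Omega15.exists_conormalMap (i := ι) (i' := J.subschemeι) (g := 𝟙 P) (gZ := e) sq.w.symm
  haveI : IsIso θ := (S9372.result ι J.subschemeι (𝟙 P) e sq θ hθ).2 inferInstance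
  let O : ℤ → X.Modules := fun i => (Scheme.Modules.pullback ι).obj (Twist.twistProjSpace 4 k i)
  have hO : ∀ i, PicF.IsInvertible (O i) := fun i =>
    PicLoc.isInvertible_pullback ι (Coherent.isInvertible_twistProjSpaceZ 4 i k)
  haveI : (Scheme.Modules.pullback e).IsLeftAdjoint :=
    (Scheme.Modules.pullbackPushforwardAdjunction e).isLeftAdjoint
  let L : Fin 2 → J.subscheme.Modules := fun l =>
    (Scheme.Modules.pullback J.subschemeι).obj (Twist.twistProjSpace 4 k (-(((2 : ℕ)) : ℤ)))
  let A : Fin 2 → X.Modules := fun l => (Scheme.Modules.pullback e).obj (L l)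
  let u : ∀ l, A l ≅ O (-2) := fun l =>
    (Scheme.Modules.pullbackComp e J.subschemeι).app _ ≪≫ (Scheme.Modules.pullbackCongr he).app _
  let q : (∐ A) ≅ O (-2) ⊞ O (-2) :=
    { hom := Sigma.desc fun l => if l = 0 then (u l).hom ≫ biprod.inl else (u l).hom ≫ biprod.inr
      inv := biprod.desc ((u 0).inv ≫ Sigma.ι A 0) ((u 1).inv ≫ Sigma.ι A 1)
      hom_inv_id := Sigma.hom_ext _ _ fun l => by
        fin_cases l <;> simp
      inv_hom_id := by
        refine biprod.hom_ext' _ _ ?_ ?_ <;> simp }
  let N : Omega.conormal ι ≅ O (-2) ⊞ O (-2) :=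
    (asIso θ).symm ≪≫ (Scheme.Modules.pullback e).mapIso c ≪≫
      PreservesCoproduct.iso (Scheme.Modules.pullback e) L ≪≫ q
  -- determinant of the conormal sheaf
  let S : ShortComplex X.Modules :=
    ShortComplex.mk (biprod.inl : O (-2) ⟶ O (-2) ⊞ O (-2)) biprod.snd biprod.inl_snd
  have hS : S.ShortExact :=
    (ShortComplex.Splitting.ofHasBinaryBiproduct (O (-2)) (O (-2))).shortExact
  have r1 : FlatMod.IsFinLocFreeOfRank 1 (O (-2)) := PicLib.isFinLocFreeOfRank_one (hO (-2))
  obtain ⟨hrN, DC, pC, iC⟩ := Omega15.exists_det_middle hS (Iso.refl _) N.symm (Iso.refl _) r1 r1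
  have hC := Omega15.invCl_det_ses hS (Iso.refl _) N.symm (Iso.refl _) r1 r1 (KvbLam28.isExtPow_one _) pC
    (KvbLam28.isExtPow_one _) (hO (-2)) iC (hO (-2))
  -- the cotangent sequence
  obtain ⟨-, -, a, b, w, hses⟩ := SmoothImmH2.regular_of_smooth ι g f hι 4 2
  have hΩX := FundLocal.isFinLocFreeOfRank_omega_qs f 2
  have hΩP := FundLocal.isFinLocFreeOfRank_omega_qs g 4
  obtain ⟨DP, -, hDP⟩ := ExtPowEx28.exists_isExtPow (LocFreeLib.isFinLocFree_of_rank hΩP) 4
  obtain ⟨eP⟩ := PnCanon5.nonempty_topDiff_twist (n := 4) (k := k) hDP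
  have pP := ExtPowEx28.isExtPow_pullback_vb ι (LocFreeLib.isFinLocFree_of_rank hΩP) hDP
  have iP := Canon15.isInvertible_of_isExtPow (VarietyLib.isFinLocFreeOfRank_pullback ι hΩP) pP
  have iW := Canon15.isInvertible_of_isExtPow hΩX hW
  have hD := Omega15.invCl_det_ses hses (Iso.refl _) (Iso.refl _) (Iso.refl _) hrN hΩX pC pP hW iC iP iW
  have twist : ∀ i j l : ℤ, i + j = l →
      EulerLib.InvCl.mk (O i) (hO i) * EulerLib.InvCl.mk (O j) (hO j) = EulerLib.InvCl.mk (O l) (hO l) := fun i j l h => by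
    obtain ⟨t⟩ := CI14.nonempty_twist_tensor (n := 4) (k := k) i j l h
    exact (EulerLib.InvCl.mk_mul _ _).trans (EulerLib.InvCl.mk_eq _ _
      ((DCat.PullTensor.pullTensorIso ι _ _).symm ≪≫ (Scheme.Modules.pullback ι).mapIso t))
  have hP : EulerLib.InvCl.mk _ iP = EulerLib.InvCl.mk (O (-5)) (hO (-5)) :=
    EulerLib.InvCl.mk_eq _ _ ((Scheme.Modules.pullback ι).mapIso eP)
  rw [← hC, hP, twist (-2) (-2) (-4) (by norm_num), ← twist (-4) (-1) (-5) (by norm_num)] at hD
  exact Omega15.iso_of_invCl ((KDet28.isUnit_mk (hO (-4))).mul_left_cancel hD)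

end Groth.Agent.S18442
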