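import Groth.Statements.S18447
import Groth.Agent.LciCurve29.AffineOpen
import Groth.Agent.LciCurve29.Glue
-- import your own Groth.Agent.* helpers here

set_option autoImplicit false
universe u
open CategoryTheory CategoryTheory.Limits AlgebraicGeometry
open Deform

namespace Groth.Agent.S18447

open CategoryTheory CategoryTheory.Limits AlgebraicGeometry TopologicalSpace in
/-- The complement of a dense open of a Noetherian scheme of dimension at most one consists of finitely many closed points. -/
theorem finite_compl_of_dense {X : Scheme.{u}} [IsNoetherian X] (hdim : topologicalKrullDim X ≤ 1) (U : X.Opens)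
    (hU : Dense (U : Set X)) : ((U : Set X)ᶜ).Finite ∧ ∀ z ∉ U, IsClosed ({z} : Set X) := by
  have hcl : ∀ z : X, z ∉ U → IsClosed ({z} : Set X) := by
    intro z hz
    by_contra hne
    obtain ⟨y, hy, hyz⟩ : ∃ y ∈ closure ({z} : Set X), y ≠ z := by
      by_contra h
      push_neg at h
      exact hne (closure_eq_iff_isClosed.1 (Set.Subset.antisymm (fun y hy => h y hy) subset_closure))
    let C := irreducibleComponent z
    obtain ⟨η, hη⟩ := QuasiSober.sober (isIrreducible_irreducibleComponent (x := z)) isClosed_irreducibleComponent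
    have hηU : η ∈ U := by
      let N : Set X := (⋃₀ (irreducibleComponents X \ {C}))ᶜ
      have hN : IsOpen N := by
        rw [isOpen_compl_iff, Set.sUnion_eq_biUnion]
        exact TopologicalSpace.NoetherianSpace.finite_irreducibleComponents.sdiff.isClosed_biUnion
          fun W hW => isClosed_of_mem_irreducibleComponents W hW.1
      have hηN : η ∈ N := fun h => by
        obtain ⟨W, ⟨hW, hWC⟩, hηW⟩ := h
        exact hWC (subset_antisymm (irreducibleComponent_mem_irreducibleComponents z |>.2 hW.1
          (hη.mem_closed_set_iff (isClosed_of_mem_irreducibleComponents W hW) |>.1 hηW))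
          (hη.mem_closed_set_iff (isClosed_of_mem_irreducibleComponents W hW) |>.1 hηW))
      obtain ⟨w, hwN, hwU⟩ := hU.inter_open_nonempty N hN ⟨η, hηN⟩
      have hwC : w ∈ C := by
        by_contra hwC
        refine hwN ⟨irreducibleComponent w, ⟨irreducibleComponent_mem_irreducibleComponents w, fun h => hwC ?_⟩,
          mem_irreducibleComponent⟩
        exact h ▸ mem_irreducibleComponent
      exact (hη.specializes hwC).mem_open U.isOpen hwU
    let I : X → IrreducibleCloseds X := fun p => ⟨closure {p}, isIrreducible_singleton.closure, isClosed_closure⟩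
    have hlt : ∀ {p q : X}, p ∈ closure ({q} : Set X) → p ≠ q → I p < I q := fun {p q} h hpq => by
      refine lt_of_le_of_ne (closure_minimal (Set.singleton_subset_iff.2 h) isClosed_closure) fun he => hpq ?_
      have he' : closure ({p} : Set X) = closure {q} := congrArg IrreducibleCloseds.carrier he
      exact (inseparable_iff_closure_eq.2 he').eq
    have hzη : z ∈ closure ({η} : Set X) := hη.ge mem_irreducibleComponent
    let s : LTSeries (IrreducibleCloseds X) :=
      { length := 2
        toFun := ![I y, I z, I η]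
        step := fun i => by
          fin_cases i
          · exact hlt hy hyz
          · exact hlt hzη fun h => hz (h ▸ hηU) }
    have h3 := ((Order.LTSeries.length_le_krullDim s).trans hdim : ((2 : ℕ) : WithBot ℕ∞) ≤ 1)
    exact absurd (WithBot.coe_le_coe.1 h3 : ((2 : ℕ) : ℕ∞) ≤ 1) (by decide)
  refine ⟨?_, hcl⟩
  obtain ⟨S, hS, hSc, hSi, hSU⟩ := TopologicalSpace.NoetherianSpace.exists_finite_set_isClosed_irreducible U.isOpen.isClosed_compl
  refine (hS.biUnion fun W hW => ?_).subset (hSU.le.trans Set.sUnion_eq_biUnion.le)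
  obtain ⟨w, hw⟩ := QuasiSober.sober (hSi W hW) (hSc W hW)
  have hwU : w ∉ U := hSU.symm.le ⟨W, hW, hw.mem⟩
  exact (Set.finite_singleton w).subset (hw.ge.trans (hcl w hwU).closure_eq.le)

/-- Generically smooth local complete intersection curves are unobstructed. Let k be a field and X a
scheme of finite type over k, of dimension at most one, such that X → Spec k is a local complete
intersection morphism (syntomic at every point of X) and X is smooth over k on some dense open
subset. Then the functor Def_X of isomorphism classes of deformations of X over local Artinian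
k-algebras with residue field k is smooth: for every surjection B → A every deformation over A lifts
to B. The published statement is for a local complete intersection curve over k that is
geometrically reduced at its generic points; this row assumes instead that X is smooth over k on a
dense open subset (the same condition for schemes of finite type over a field), does not assume
properness, and allows dimension zero. -/
theorem result
    {k : Type u} [Field k] (X : Scheme.{u}) (x : X ⟶ Spec (CommRingCat.of k))
    [LocallyOfFiniteType x] [QuasiCompact x]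
    (hdim : topologicalKrullDim X ≤ 1)
    (hlci : ∀ p : X, Synt.IsSyntomicAt x p)
    (hsm : ∃ U : X.Opens, Dense (U : Set X) ∧ Smooth (U.ι ≫ x)) :
    ArtFun.IsSmoothFunctor (ArtFun.defFunctor (Λ := k) X x) := by
  open AlgebraicGeometry CategoryTheory CategoryTheory.Limits ArtFun ArtFun.Art Groth.Agent.LciCurve29 in
  classical
  intro B A μ hμ q
  induction q using Quotient.inductionOn with
  | h ξ =>
    obtain ⟨Us, hUd, hUs⟩ := hsm
    haveI : IsLocallyNoetherian X := LocallyOfFiniteType.isLocallyNoetherian x
    haveI : CompactSpace X := QuasiCompact.compactSpace_of_compactSpace x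
    haveI : IsNoetherian X := {}
    obtain ⟨hfin, hcl⟩ := finite_compl_of_dense hdim Us hUd
    let κ := specMap μ
    haveI : IsClosedImmersion κ := IsClosedImmersion.spec_of_surjective _ hμ
    haveI : Surjective κ := ⟨fun z => ⟨IsLocalRing.closedPoint A, @Subsingleton.elim (PrimeSpectrum B) _ _ _⟩⟩
    haveI : IsClosedImmersion (specRes A) := IsClosedImmersion.spec_of_surjective _ A.res_surjective
    haveI : Surjective (specRes A) :=
      ⟨fun z => ⟨IsLocalRing.closedPoint k, @Subsingleton.elim (PrimeSpectrum A) _ _ _⟩⟩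
    haveI : IsClosedImmersion ξ.i :=
      MorphismProperty.of_isPullback (P := @IsClosedImmersion) ξ.isPullback.flip inferInstance
    haveI : Surjective ξ.i := MorphismProperty.of_isPullback (P := @Surjective) ξ.isPullback.flip inferInstance
    let up : X.Opens → ξ.total.Opens := fun O =>
      ⟨(ξ.i '' (O : Set X)ᶜ)ᶜ, (ξ.i.isClosedMap _ O.isOpen.isClosed_compl).isOpen_compl⟩
    have hup : ∀ O, ξ.i ⁻¹ᵁ up O = O := fun O => by
      ext z
      show ξ.i z ∈ (ξ.i '' (O : Set X)ᶜ)ᶜ ↔ z ∈ (O : Set X)
      simp [ξ.i.isClosedEmbedding.injective.mem_set_image]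
    have hupm : ∀ O z, ξ.i z ∈ up O ↔ z ∈ O := fun O z => SetLike.ext_iff.1 (hup O) z
    have hupa : ∀ {O : X.Opens}, IsAffineOpen O → IsAffineOpen (up O) := fun {O} hO => by
      haveI : IsAffine (ξ.i ⁻¹ᵁ up O).toScheme := by rw [hup]; exact hO
      haveI : IsClosedImmersion (ξ.i ∣_ up O) := IsZariskiLocalAtTarget.restrict (P := @IsClosedImmersion) inferInstance _
      haveI : Surjective (ξ.i ∣_ up O) := IsZariskiLocalAtTarget.restrict (P := @Surjective) inferInstance _
      exact VarietyLib.isAffine_of_surjective_closedImmersion (ξ.i ∣_ up O) (ξ.i ∣_ up O).surjective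
    have hpb : ∀ O, IsPullback (ξ.i ∣_ up O) ((ξ.i ⁻¹ᵁ up O).ι ≫ x) ((up O).ι ≫ ξ.f) (specRes A) := fun O =>
      ((isPullback_morphismRestrict ξ.i (up O)).paste_vert ξ.isPullback)
    have hloc : ∀ p : X, ∃ U : X.Opens, p ∈ U ∧ IsAffineOpen U ∧ (∀ z ∈ U, z ∉ Us → z = p) ∧
        Lifts κ ((up U).ι ≫ ξ.f) := by
      intro p
      let O : X.Opens := ⟨((Us : Set X)ᶜ \ {p})ᶜ, by
        rw [isOpen_compl_iff, ← Set.biUnion_of_singleton ((Us : Set X)ᶜ \ {p})]
        exact hfin.sdiff.isClosed_biUnion fun z hz => hcl z hz.1⟩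
      obtain ⟨U, hU, n, c, F, hpU, hUO, hF, e, he⟩ := exists_relGCI_nhd_le (hlci p) (O := O) (fun h => h.2 rfl)
      refine ⟨U, hpU, hU, fun z hz hzs => by_contra fun hne => hUO hz ⟨hzs, hne⟩, ?_⟩
      let K := Γ(Spec (CommRingCat.of k), ⊤)
      letI : Field K := ((Scheme.ΓSpecIso (CommRingCat.of k)).commRingCatIsoToRingEquiv.toMulEquiv.isField
        (Field.toIsField k)).toField
      let res : (A : Type u) →+* K := ((Scheme.ΓSpecIso (CommRingCat.of k)).inv.hom).comp A.res.toRingHom
      have hres : Function.Surjective res :=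
        (ConcreteCategory.bijective_of_isIso (Scheme.ΓSpecIso (CommRingCat.of k)).inv).2.comp A.res_surjective
      have hker : RingHom.ker res = IsLocalRing.maximalIdeal A := by
        refine Ideal.ext fun a => ?_
        rw [Art.mem_maximalIdeal_iff, RingHom.mem_ker]
        exact map_eq_zero_iff _ (ConcreteCategory.bijective_of_isIso (Scheme.ΓSpecIso (CommRingCat.of k)).inv).1
      haveI : IsAffine (up U).toScheme := hupa hU
      let j := e.hom ≫ (X.isoOfEq (hup U)).inv ≫ ξ.i ∣_ up U
      refine lifts_of_isAffine μ.toAlgHom.toRingHom hμ res hres hker ((up U).ι ≫ ξ.f) F hF j ?_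
      refine (hpb U).of_iso (X.isoOfEq (hup U) ≪≫ e.symm) (Iso.refl _) (Spec (CommRingCat.of k)).isoSpec (Iso.refl _)
        ?_ ?_ (by simp) ?_
      · simp [j]
      · rw [Iso.trans_hom, Iso.symm_hom, ← he, Category.assoc, Category.assoc, e.inv_hom_id_assoc,
          Scheme.isoOfEq_hom_ι_assoc]
      · rw [Iso.refl_hom, Category.comp_id, Scheme.isoSpec_Spec_hom, ← Spec.map_comp]
        refine congrArg Spec.map (CommRingCat.hom_ext (RingHom.ext fun a => ?_))
        exact ((Scheme.ΓSpecIso (CommRingCat.of k)).commRingCatIsoToRingEquiv.apply_symm_apply (A.res a)).symm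
    choose U hpU hUa hUS hUL using hloc
    obtain ⟨t, ht⟩ := CompactSpace.isCompact_univ.elim_finite_subcover (fun p => (U p : Set X)) (fun p => (U p).isOpen)
      fun p _ => Set.mem_iUnion.2 ⟨p, hpU p⟩
    have key : ∀ s : Finset X, Lifts κ ((up (s.sup U)).ι ≫ ξ.f) := by
      intro s
      induction s using Finset.induction_on with
      | empty =>
        haveI : IsEmpty (up ((∅ : Finset X).sup U)).toScheme := ⟨fun z => by
          obtain ⟨y, hy⟩ := ξ.i.surjective z.1
          exact Set.notMem_empty y (show y ∈ ((⊥ : X.Opens) : Set X) from (hupm _ y).1 (hy ▸ z.2))⟩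
        haveI : IsEmpty ↥(∅ : Scheme.{u}) := inferInstance
        let g := Scheme.emptyTo (spec B)
        refine ⟨∅, g, (asIso (Scheme.emptyTo (up ((∅ : Finset X).sup U)).toScheme)).inv, inferInstance, inferInstance, ?_⟩
        haveI : IsEmpty ↥(pullback g κ) := Function.isEmpty (pullback.fst g κ)
        exact IsPullback.of_iso_pullback ⟨isInitialOfIsEmpty.hom_ext _ _⟩
          (isInitialOfIsEmpty.uniqueUpToIso isInitialOfIsEmpty) (isInitialOfIsEmpty.hom_ext _ _)
          (isInitialOfIsEmpty.hom_ext _ _)
      | insert a s ha ih =>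
        rw [Finset.sup_insert, sup_comm]
        have hsup : up (s.sup U ⊔ U a) = up (s.sup U) ⊔ up (U a) := by
          ext z
          obtain ⟨y, rfl⟩ := ξ.i.surjective z
          show ξ.i y ∈ up _ ↔ ξ.i y ∈ up _ ∨ ξ.i y ∈ up _
          rw [hupm, hupm, hupm]
          rfl
        have hinf : up (s.sup U) ⊓ up (U a) = up (s.sup U ⊓ U a) := by
          ext z
          obtain ⟨y, rfl⟩ := ξ.i.surjective z
          show (ξ.i y ∈ up _ ∧ ξ.i y ∈ up _) ↔ ξ.i y ∈ up _
          rw [hupm, hupm, hupm]
          rfl
        rw [hsup]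
        have hO : IsAffineOpen (s.sup U ⊓ U a) := isAffineOpen_of_le hdim (hUa a) inf_le_right
        refine lifts_sup κ ξ.f _ _ ih (hUL a) (hinf ▸ hupa hO) ?_
        rw [hinf]
        -- smoothness on the overlap
        have hle : s.sup U ⊓ U a ≤ Us := fun z hz => by
          by_contra hzs
          obtain ⟨b, hb, hzb⟩ : ∃ b ∈ s, z ∈ U b := by
            by_contra h
            push_neg at h
            have hsub : s.sup U ≤ (⟨(({z} : Set X))ᶜ, (hcl z hzs).isOpen_compl⟩ : X.Opens) :=
              Finset.sup_le fun b hb y hy hyz => h b hb (hyz ▸ hy)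
            exact hsub hz.1 rfl
          exact ha ((hUS a z hz.2 hzs).symm.trans (hUS b z hzb hzs) ▸ hb)
        let O := s.sup U ⊓ U a
        haveI : Smooth ((ξ.i ⁻¹ᵁ up O).ι ≫ x) := by
          rw [← X.homOfLE_ι (show ξ.i ⁻¹ᵁ up O ≤ Us from (hup O).le.trans hle), Category.assoc]
          infer_instance
        haveI : LocallyOfFinitePresentation ((up O).ι ≫ ξ.f) := by
          obtain ⟨W, g, j, -, hg, hp⟩ := hUL a
          haveI : LocallyOfFinitePresentation ((up (U a)).ι ≫ ξ.f) := MorphismProperty.of_isPullback hp hg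
          rw [← ξ.total.homOfLE_ι (show up O ≤ up (U a) from fun z hz => by
            obtain ⟨y, rfl⟩ := ξ.i.surjective z
            exact (hupm _ y).2 ((hupm _ y).1 hz).2), Category.assoc]
          infer_instance
        exact smooth_of_lift (specRes A) ((ξ.i ⁻¹ᵁ up O).ι ≫ x) _ _ (hpb O)
    have htop : up (t.sup U) = ⊤ := by
      ext z
      refine iff_of_true ?_ trivial
      obtain ⟨y, rfl⟩ := ξ.i.surjective z
      obtain ⟨p, hp, hyp⟩ := Set.mem_iUnion₂.1 (ht (Set.mem_univ y))
      exact (hupm _ y).2 ((Finset.le_sup hp : U p ≤ t.sup U) hyp)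
    obtain ⟨W, g, j, hg, -, hj⟩ := key t
    haveI : IsIso (up (t.sup U)).ι := by rw [htop]; exact inferInstanceAs (IsIso ξ.total.topIso.hom)
    have hj' : IsPullback (inv (up (t.sup U)).ι ≫ j) ξ.f g κ :=
      hj.of_iso (asIso (up (t.sup U)).ι) (Iso.refl _) (Iso.refl _) (Iso.refl _) (by simp) (by simp) (by simp) (by simp)
    let ξ' : DefSch X x B := ⟨W, g, hg, ξ.i ≫ inv (up (t.sup U)).ι ≫ j, by
      have h := ξ.isPullback.paste_horiz hj'
      rwa [show specRes A ≫ κ = specRes B from specRes_comp μ] at h⟩
    refine ⟨ξ'.cl, Quotient.sound ⟨⟨hj'.isoPullback.symm, ?_, ?_⟩⟩⟩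
    · exact hj'.isoPullback_inv_snd
    · rw [Iso.symm_hom, Iso.comp_inv_eq]
      apply pullback.hom_ext
      · rw [DefSch.baseChange_i_fst, Category.assoc, hj'.isoPullback_hom_fst]
      · rw [Category.assoc, hj'.isoPullback_hom_snd]
        exact (ξ'.baseChange_i_f μ).trans ξ.i_f.symm

end Groth.Agent.S18447
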