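import Groth.Statements.S18451
import Groth.Agent.Surf15.Config
import Groth.Agent.VarietyLib.SmoothStalk
-- import your own Groth.Agent.* helpers here

set_option autoImplicit false
universe u
open CategoryTheory CategoryTheory.Limits AlgebraicGeometry TopologicalSpace
open Surf

namespace Groth.Agent.S18451

/-- Let k be an algebraically closed field of characteristic zero and X a smooth projective surface over
k (integral, proper and smooth over k, of dimension 2, carrying an ample invertible module). Let
C_1, …, C_r be pairwise distinct integral curves on X (integral closed one-dimensional subschemes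
with ideal sheaves I_1, …, I_r) and write G_{ij} = (I_i·I_j) = χ(O_X) − χ(I_i) − χ(I_j) + χ(I_i ⊗
I_j) for their intersection matrix. Suppose the classes of the C_i span a negative definite
sublattice modulo numerical equivalence: for every integer vector a such that Σ_i a_i [C_i] is
numerically nontrivial, meaning that Σ_i a_i (I_i·M) ≠ 0 for some invertible O_X-module M, one has
Σ_{i,j} a_i a_j G_{ij} < 0. Then the classes are linearly independent, i.e. G itself is negative
definite: Σ_{i,j} a_i a_j G_{ij} < 0 for every nonzero integer vector a. -/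
theorem result (k : Type u) [Field k] [IsAlgClosed k] [CharZero k]
    (X : Scheme.{u}) [X.Over (Spec (CommRingCat.of k))] [IsProper (X ↘ (Spec (CommRingCat.of k)))]
    [Smooth (X ↘ (Spec (CommRingCat.of k)))] [IsIntegral X] (hdim : topologicalKrullDim X = 2)
    (hproj : ∃ H : X.Modules, CohB1.IsAmple H)
    (r : ℕ) (C : Fin r → X.IdealSheafData) (hC : Function.Injective C)
    (hCi : ∀ i, IsIntegral (C i).subscheme) (hCd : ∀ i, topologicalKrullDim ((C i).support : Set X) = 1)
    (hneg : ∀ a : Fin r → ℤ,
      (∃ M : X.Modules, PicF.IsInvertible M ∧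
        ∑ i, a i * FGA.intNum k X 2 ![(ClSub.idealMod (C i)), M] (Coh.structureModule X) ≠ 0) →
      ∑ i, ∑ j, a i * a j * FGA.intNum k X 2 ![(ClSub.idealMod (C i)), (ClSub.idealMod (C j))] (Coh.structureModule X) < 0) :
    ∀ a : Fin r → ℤ, a ≠ 0 →
      ∑ i, ∑ j, a i * a j * FGA.intNum k X 2 ![(ClSub.idealMod (C i)), (ClSub.idealMod (C j))] (Coh.structureModule X) < 0 := by
  classical
  have hX : topologicalKrullDim X = ((2 : ℕ) : WithBot ℕ∞) := by rw [hdim]; rfl
  obtain ⟨H, hH⟩ := hproj
  have hCd' : ∀ i, topologicalKrullDim ((C i).support : Set X) = ((1 : ℕ) : WithBot ℕ∞) := hCd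
  have hreg : ∀ x : X, IsRegularLocalRing (X.presheaf.stalk x) := fun x =>
    Groth.Agent.VarietyLib.isRegularLocalRing_stalk_of_smooth k X (X ↘ Spec (CommRingCat.of k)) x
  have hCe : ∀ i, BlowUp.IsEffCartierIdeal (C i) := fun i =>
    haveI := hCi i
    Groth.Agent.Surf15.isEffCartier_curve k hX hreg (C i) (hCd' i)
  let c := fun i => Groth.Agent.Surf15.clI' (C i) (hCe i)
  have hG : ∀ i j, FGA.intNum k X 2 ![(ClSub.idealMod (C i)), (ClSub.idealMod (C j))]
      (Coh.structureModule X) = Groth.Agent.Surf15.B k (c i) (c j) := fun i j =>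
    Groth.Agent.Surf15.intNum_eq_B k hX.le _ _
  simp only [hG] at hneg ⊢
  intro a ha
  by_cases hnum : ∃ M : X.Modules, PicF.IsInvertible M ∧
      ∑ i, a i * FGA.intNum k X 2 ![(ClSub.idealMod (C i)), M] (Coh.structureModule X) ≠ 0
  · exact hneg a hnum
  exfalso
  push Not at hnum
  have hzero : ∀ d, ∑ i, a i * Groth.Agent.Surf15.B k (c i) d = 0 := fun d => by
    obtain ⟨M, hM, rfl⟩ := Groth.Agent.EulerLib.InvCl.exists_rep d
    rw [← hnum M hM]
    exact Finset.sum_congr rfl fun i _ => by rw [Groth.Agent.Surf15.intNum_eq_B k hX.le _ hM]; rfl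
  -- the positive and negative parts meet nonnegatively but have nonpositive squares
  let P : Fin r → ℤ := fun i => max (a i) 0
  let N : Fin r → ℤ := fun i => max (-a i) 0
  have hPN : ∀ d, ∑ i, P i * Groth.Agent.Surf15.B k (c i) d = ∑ i, N i * Groth.Agent.Surf15.B k (c i) d := by
    intro d
    rw [← sub_eq_zero, ← Finset.sum_sub_distrib, ← hzero d]
    exact Finset.sum_congr rfl fun i _ => by
      have : P i - N i = a i := by show max (a i) 0 - max (-a i) 0 = a i; omega
      linear_combination (Groth.Agent.Surf15.B k (c i) d) * this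
  have hcross := Groth.Agent.Surf15.sum_pos_neg_nonneg k hX.le C hC hCi hCd' hCe a
  have hsq : ∑ i, ∑ j, P i * P j * Groth.Agent.Surf15.B k (c i) (c j) =
      ∑ i, ∑ j, P i * N j * Groth.Agent.Surf15.B k (c i) (c j) := by
    refine Finset.sum_congr rfl fun i _ => ?_
    simp only [mul_assoc, ← Finset.mul_sum]
    congr 1
    have := hPN (c i)
    simpa only [Groth.Agent.Surf15.B_comm k (c _) (c i)] using this
  have hkey : ∀ M : X.Modules, PicF.IsInvertible M →
      ∑ i, P i * FGA.intNum k X 2 ![(ClSub.idealMod (C i)), M] (Coh.structureModule X) = 0 := by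
    by_contra hcon
    push Not at hcon
    have h := hneg P hcon
    rw [hsq] at h
    exact absurd hcross (not_le.2 h)
  have hP0 := hkey H hH.1
  have hN0 : ∑ i, N i * Groth.Agent.Surf15.B k (c i) (Groth.Agent.EulerLib.InvCl.mk H hH.1) = 0 := by
    rw [← hPN, ← hP0]
    exact Finset.sum_congr rfl fun i _ => by rw [Groth.Agent.Surf15.intNum_eq_B k hX.le _ hH.1]; rfl
  have hneg' : ∀ i, Groth.Agent.Surf15.B k (c i) (Groth.Agent.EulerLib.InvCl.mk H hH.1) < 0 := fun i =>
    haveI := hCi i
    Groth.Agent.Surf15.B_curve_ample_neg k (C i) (hCd' i) (hCe i) hH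
  refine ha (funext fun i => ?_)
  have z1 : P i * Groth.Agent.Surf15.B k (c i) (Groth.Agent.EulerLib.InvCl.mk H hH.1) = 0 :=
    (Finset.sum_eq_zero_iff_of_nonpos fun j _ =>
      mul_nonpos_of_nonneg_of_nonpos (le_max_right _ _) (hneg' j).le).1 (by rw [hPN, hN0]) i (Finset.mem_univ i)
  have z2 : N i * Groth.Agent.Surf15.B k (c i) (Groth.Agent.EulerLib.InvCl.mk H hH.1) = 0 :=
    (Finset.sum_eq_zero_iff_of_nonpos fun j _ =>
      mul_nonpos_of_nonneg_of_nonpos (le_max_right _ _) (hneg' j).le).1 hN0 i (Finset.mem_univ i)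
  have h1 : max (a i) 0 = 0 := (mul_eq_zero.1 z1).resolve_right (hneg' i).ne
  have h2 : max (-a i) 0 = 0 := (mul_eq_zero.1 z2).resolve_right (hneg' i).ne
  show a i = 0
  omega

end Groth.Agent.S18451
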