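import Groth.Statements.S18455
import Groth.Agent.PointBlow14.Basic
import Groth.Agent.CurveRR24.AlgClosed
import Groth.Agent.Surf15.RRCor
import Groth.Agent.Inters29.PullIdeal
-- import your own Groth.Agent.* helpers here

set_option autoImplicit false
universe u
open CategoryTheory CategoryTheory.Limits AlgebraicGeometry TopologicalSpace
open Surf

open Groth.Agent.EulerLib Groth.Agent.Coherent

namespace Groth.Agent.S18455

/-- Let k be an algebraically closed field of characteristic zero and X a smooth projective surface over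
k (integral, proper and smooth over k, of dimension 2) with canonical module W, a second exterior
power of Ω_{X/k}. Let x be a closed point of X and π : X' → X a blowing up of X in the ideal of x
(characterised by its universal property), with X' again an integral scheme of dimension 2, proper
and smooth over k through π, W' a canonical module of X' and I_E the exceptional ideal (the inverse
image of the ideal of x). Let C be an integral curve on X with ideal I_C and C' an integral curve on
X' with ideal I_{C'}, such that the inverse image ideal of C on X' equals I_{C'} · I_E^m for some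
natural number m; thus C' is the proper transform of C and m the multiplicity of C at x. Writing
(A·B) = χ(O) − χ(A) − χ(B) + χ(A ⊗ B) for intersection numbers on X and on X', one has
(I_{C'}·I_{C'}) − (I_{C'}·W') = (I_C·I_C) − (I_C·W) − m(m − 1); in terms of arithmetic genera
2p_a(C') − 2 = K'·C' + C'² = K·C + C² − m(m−1) = 2p_a(C) − 2 − m(m−1), so p_a drops by m(m−1)/2. -/
theorem result (k : Type u) [Field k] [IsAlgClosed k] [CharZero k]
    (X : Scheme.{u}) [X.Over (Spec (CommRingCat.of k))] [IsProper (X ↘ (Spec (CommRingCat.of k)))]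
    [Smooth (X ↘ (Spec (CommRingCat.of k)))] [IsIntegral X] (hdim : topologicalKrullDim X = 2)
    (W : X.Modules) (hW : ExtPow.IsExtPow 2 (Omega.sheaf (X ↘ (Spec (CommRingCat.of k)))) W)
    (x : X) (hx : IsClosed ({x} : Set X))
    (X' : Scheme.{u}) (π : X' ⟶ X) (hπ : BlowUp.IsBlowUp π (Scheme.IdealSheafData.vanishingIdeal ⟨{x}, hx⟩))
    [IsIntegral X'] (hdim' : topologicalKrullDim X' = 2)
    [IsProper (π ≫ (X ↘ (Spec (CommRingCat.of k))))] [Smooth (π ≫ (X ↘ (Spec (CommRingCat.of k))))]
    (W' : X'.Modules) (hW' : ExtPow.IsExtPow 2 (Omega.sheaf (π ≫ (X ↘ (Spec (CommRingCat.of k))))) W')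
    (C : X.IdealSheafData) (hCi : IsIntegral C.subscheme) (hCd : topologicalKrullDim (C.support : Set X) = 1)
    (C' : X'.IdealSheafData) (hC'i : IsIntegral C'.subscheme) (hC'd : topologicalKrullDim (C'.support : Set X') = 1)
    (m : ℕ) (hm : C.comap π = C' * (BlowUp.exceptional π (Scheme.IdealSheafData.vanishingIdeal ⟨{x}, hx⟩)) ^ m) :
    letI : X'.Over (Spec (CommRingCat.of k)) := ⟨π ≫ (X ↘ (Spec (CommRingCat.of k)))⟩
    FGA.intNum k X' 2 ![(ClSub.idealMod C'), (ClSub.idealMod C')] (Coh.structureModule X') -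
        FGA.intNum k X' 2 ![(ClSub.idealMod C'), W'] (Coh.structureModule X') =
      FGA.intNum k X 2 ![(ClSub.idealMod C), (ClSub.idealMod C)] (Coh.structureModule X) -
        FGA.intNum k X 2 ![(ClSub.idealMod C), W] (Coh.structureModule X) - (m : ℤ) * ((m : ℤ) - 1) := by
  letI : X'.Over (Spec (CommRingCat.of k)) := ⟨π ≫ (X ↘ (Spec (CommRingCat.of k)))⟩
  haveI : IsProper (X' ↘ (Spec (CommRingCat.of k))) := ‹IsProper (π ≫ (X ↘ (Spec (CommRingCat.of k))))›
  haveI : Smooth (X' ↘ (Spec (CommRingCat.of k))) := ‹Smooth (π ≫ (X ↘ (Spec (CommRingCat.of k))))›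
  haveI := isNoetherian_of_proper k (X := X)
  haveI := isNoetherian_of_proper k (X := X')
  have hX : topologicalKrullDim X = ((2 : ℕ) : WithBot ℕ∞) := by rw [hdim]; rfl
  have hX' : topologicalKrullDim X' = ((2 : ℕ) : WithBot ℕ∞) := by rw [hdim']; rfl
  haveI := VarietyLib.isRegularLocalRing_stalk_of_smooth k X (X ↘ (Spec (CommRingCat.of k))) x
  obtain ⟨hd, -⟩ := PointBlow14.dim_stalk k (fun Z hZ => by
    rw [DimLib.components_eq_univ hZ, (Homeomorph.Set.univ X).isHomeomorph.topologicalKrullDim_eq]; exact hdim) x hx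
  set I := Scheme.IdealSheafData.vanishingIdeal (⟨{x}, hx⟩ : Closeds X) with hI
  have hE : BlowUp.IsEffCartierIdeal (I.comap π) := hπ.1
  obtain ⟨htop, hEe⟩ := PointBlow14.euler_rules (X' := X') k rfl hX.le x hx hd hπ
  rw [CurveRR24.finrank_resField k hx] at hEe
  have hWi := Surf15.isInvertible_canonical k hX hW
  have hWi' := Surf15.isInvertible_canonical k hX' hW'
  have hCe : BlowUp.IsEffCartierIdeal C := Surf15.isEffCartier_of_curve k hX hCi (by rw [hCd]; rfl)
  have hC'e : BlowUp.IsEffCartierIdeal C' := Surf15.isEffCartier_of_curve k hX' hC'i (by rw [hC'd]; rfl)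
  have a1 := Surf15.two_euler_quotMod k hX hW hWi hCe
  have a2 := Surf15.two_euler_quotMod k hX' hW' hWi' hC'e
  have hCl : ∀ n : ℕ, ∃ h : BlowUp.IsEffCartierIdeal ((I.comap π) ^ (n + 1)),
      Surf15.clI' _ h = Surf15.clI' (I.comap π) hE ^ (n + 1) := by
    intro n
    induction n with
    | zero => simp only [zero_add, pow_one]; exact ⟨hE, trivial⟩
    | succ n ih =>
      obtain ⟨h, he⟩ := ih
      rw [pow_succ (I.comap π) (n + 1)]
      exact ⟨ModPairLib.isEffCartier_mul h hE, by rw [Surf15.clI'_mul _ _ h hE, he, ← pow_succ]⟩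
  obtain ⟨hcm, hcl⟩ : ∃ h : BlowUp.IsEffCartierIdeal (C.comap π),
      Surf15.clI' _ h = Surf15.clI' C' hC'e * Surf15.clI' (I.comap π) hE ^ m := by
    rw [hm]
    cases m with
    | zero => simp only [pow_zero, mul_one]; exact ⟨hC'e, trivial⟩
    | succ m =>
      obtain ⟨h, he⟩ := hCl m
      exact ⟨ModPairLib.isEffCartier_mul hC'e h, by rw [Surf15.clI'_mul _ _ hC'e h, he]⟩
  have hCI := FlatMor12.IdealModGen.isInvertible_idealMod C hCe
  have hpC := PicLoc.isInvertible_pullback π hCI
  have hp : InvCl.mk _ hpC = Surf15.clI' C' hC'e * Surf15.clI' (I.comap π) hE ^ m := by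
    rw [← hcl]
    obtain ⟨e⟩ := Inters29.nonempty_pullback_idealMod_iso π C hCe hcm
    exact InvCl.mk_eq _ _ e
  obtain ⟨-, r2, r3⟩ := PointBlow14.intNum_rules (X' := X') k rfl hX.le x hx hd hπ hCI hCI
  rw [CurveRR24.finrank_resField k hx] at r3
  rw [Surf15.intNum_eq_B k hX'.le hpC (FlatMor12.IdealModGen.isInvertible_idealMod _ hE), hp,
    Surf15.B_mul_left k hX'.le, Surf15.B_pow_left k hX'.le] at r2
  rw [Surf15.intNum_eq_B k hX'.le (FlatMor12.IdealModGen.isInvertible_idealMod _ hE)
    (FlatMor12.IdealModGen.isInvertible_idealMod _ hE)] at r3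
  change Surf15.B k (Surf15.clI' (I.comap π) hE) (Surf15.clI' (I.comap π) hE) = _ at r3
  change Surf15.B k (Surf15.clI' C' hC'e) (Surf15.clI' (I.comap π) hE) +
    (m : ℤ) * Surf15.B k (Surf15.clI' (I.comap π) hE) (Surf15.clI' (I.comap π) hE) = 0 at r2
  have c1 : chiCl k (Coh.structureModule X') (Surf15.clI' C' hC'e * Surf15.clI' (I.comap π) hE ^ m) =
      chiCl k (Coh.structureModule X) (Surf15.clI' C hCe) := by
    rw [← hp, ← Surf15.euler_eq_chiCl k hX'.le hpC, htop hCI, Surf15.euler_eq_chiCl k hX.le hCI]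
    rfl
  have c2 := Surf15.chi_pow k hX'.le (Surf15.clI' (I.comap π) hE) m
  have c3 : chiCl k (Coh.structureModule X') (Surf15.clI' (I.comap π) hE) =
      chiCl k (Coh.structureModule X') 1 - 1 := by
    unfold Surf15.clI'
    rw [← Surf15.euler_eq_chiCl k hX'.le, hEe, chiCl_one]
    rfl
  have c4 := Surf15.B_pow_right k hX'.le (Surf15.clI' (I.comap π) hE) (Surf15.clI' C' hC'e) m
  rw [Surf15.B] at c4
  obtain ⟨eO⟩ := AmpleLib.exists_pullStructureIso (X := X) π
  have c5 : chiCl k (Coh.structureModule X') 1 = chiCl k (Coh.structureModule X) 1 := by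
    rw [chiCl_one, chiCl_one, ← htop AmpleLib.isInvertible_structureModule]
    exact euler_congr k X' eO.symm
  have d1 := Surf15.chiCl_clI' k hCe
  have d2 := Surf15.chiCl_clI' k hC'e
  rw [r3] at c2 r2
  push_cast at *
  linear_combination a2 - a1 + 2 * d1 - 2 * d2 + 2 * c1 - c2 - 2 * (m : ℤ) * c3 - 2 * (m : ℤ) * r2 - 2 * c4 - 2 * c5

end Groth.Agent.S18455
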