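import Groth.Statements.S18456
import Groth.Agent.Surf15.CycleInduct
import Groth.Agent.VarietyLib.SmoothStalk
-- import your own Groth.Agent.* helpers here

set_option autoImplicit false
universe u
open CategoryTheory CategoryTheory.Limits AlgebraicGeometry TopologicalSpace
open Surf

namespace Groth.Agent.S18456

/-- Let k be an algebraically closed field of characteristic zero and X a smooth projective surface over
k (integral, proper and smooth over k, of dimension 2). Let C_1, …, C_r be pairwise distinct
integral curves on X with ideal sheaves I_i, each with H¹(C_i, O_{C_i}) = 0 (so C_i ≅ P¹) and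
self-intersection (I_i·I_i) = −2, and with negative definite intersection matrix: Σ_{i,j} a_i a_j
(I_i·I_j) < 0 for every nonzero integer vector a, where (A·B) = χ(O_X) − χ(A) − χ(B) + χ(A ⊗ B).
Then H¹(Z, O_Z) = 0 for every nonzero effective Cartier divisor Z on X supported on ⋃ C_i,
cohomology computed on X through the direct image of O_Z. The published statement concludes that the
singularity obtained by contracting the configuration over the complex numbers is rational; the
vanishing for all supported nonzero effective divisors is the form of rationality the printed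
argument establishes, and this row states that form. -/
theorem result (k : Type u) [Field k] [IsAlgClosed k] [CharZero k]
    (X : Scheme.{u}) [X.Over (Spec (CommRingCat.of k))] [IsProper (X ↘ (Spec (CommRingCat.of k)))]
    [Smooth (X ↘ (Spec (CommRingCat.of k)))] [IsIntegral X] (hdim : topologicalKrullDim X = 2)
    (r : ℕ) (C : Fin r → X.IdealSheafData) (hC : Function.Injective C)
    (hCi : ∀ i, IsIntegral (C i).subscheme) (hCd : ∀ i, topologicalKrullDim ((C i).support : Set X) = 1)
    (hCrat : ∀ i, Subsingleton (Coh.HH X (ClSub.quotMod (C i)) 1))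
    (hC2 : ∀ i, FGA.intNum k X 2 ![(ClSub.idealMod (C i)), (ClSub.idealMod (C i))] (Coh.structureModule X) = -2)
    (hneg : ∀ a : Fin r → ℤ, a ≠ 0 →
      ∑ i, ∑ j, a i * a j * FGA.intNum k X 2 ![(ClSub.idealMod (C i)), (ClSub.idealMod (C j))] (Coh.structureModule X) < 0)
    (Z : X.IdealSheafData) (hZ : FGA.IsEffCartier Z) (hZ0 : Z ≠ ⊤)
    (hZs : (Z.support : Set X) ⊆ ⋃ i, ((C i).support : Set X)) :
    Subsingleton (Coh.HH X (ClSub.quotMod Z) 1) := by
  have hX : topologicalKrullDim X = ((2 : ℕ) : WithBot ℕ∞) := by exact_mod_cast hdim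
  have hreg := fun x : X => Groth.Agent.VarietyLib.isRegularLocalRing_stalk_of_smooth k X (X ↘ Spec (CommRingCat.of k)) x
  have hcrv : ∀ i, Surf15.IsCrv (C i) := fun i => ⟨hCi i, by rw [hCd i]; rfl⟩
  have hE := fun i => (hcrv i).isEffCartier k hX hreg
  let c := fun i => Surf15.clI' (C i) (hE i)
  have hint : ∀ i j, FGA.intNum k X 2 ![(ClSub.idealMod (C i)), (ClSub.idealMod (C j))] (Coh.structureModule X)
      = Surf15.B k (c i) (c j) := fun i j =>
    Surf15.intNum_eq_B k hX.le (FlatMor12.IdealModGen.isInvertible_idealMod _ (hE i))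
      (FlatMor12.IdealModGen.isInvertible_idealMod _ (hE j))
  refine Surf15.h1_vanish_of_euler k hX hreg (Surf15.blowUp_of_fga hZ) hZ0 fun A J hA hJ hA0 e => ?_
  have hle : Z ≤ A := e ▸ Surf15.mul_le_fst A J
  have hAs : (A.support : Set X) ⊆ ⋃ i, ((C i).support : Set X) :=
    fun x hx => hZs (Scheme.IdealSheafData.support_antitone hle hx)
  have hphi : 2 * Curv2.euler k X (ClSub.quotMod A) + Surf15.B k (Surf15.clI' A hA) (Surf15.clI' A hA) = 0 := by
    refine Surf15.cycle_rec k hX hreg (P := fun A hA =>
      2 * Curv2.euler k X (ClSub.quotMod A) + Surf15.B k (Surf15.clI' A hA) (Surf15.clI' A hA) = 0)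
      (fun W D hW hD _ _ h1 h2 => ?_) hA hA0 fun D hD hDc hDle => ?_
    · rw [Surf15.euler_mul k hW hD, Surf15.clI'_mul W D hW hD, Surf15.B_mul_left k hX.le,
        Surf15.B_mul_right k hX.le, Surf15.B_mul_right k hX.le,
        Surf15.B_comm k (Surf15.clI' D hD) (Surf15.clI' W hW)]
      linarith
    · obtain ⟨i, rfl⟩ := Surf15.exists_eq_of_crv k C hcrv hDc hDle hAs
      haveI := hCi i
      haveI := hCrat i
      have h := (Surf15.curve_facts k (C i) (hcrv i).2 (AmpleLib.isInvertible_structureModule (X := X))).2.1
      rw [Module.finrank_zero_of_subsingleton (M := Coh.HH X (ClSub.quotMod (C i)) 1), Nat.cast_zero] at h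
      have h2 := hC2 i
      rw [hint] at h2
      rw [h]
      show (2 : ℤ) * (1 - 0) + Surf15.B k (c i) (c i) = 0
      omega
  obtain ⟨a, ha, hcl⟩ := Surf15.exists_class_eq_prod k hX hreg c hA hA0 fun D hD hDc hDle => by
    obtain ⟨i, rfl⟩ := Surf15.exists_eq_of_crv k C hcrv hDc hDle hAs
    exact ⟨i, rfl⟩
  have hn := hneg (fun i => (a i : ℤ)) fun h => ha (funext fun i => by
    have := congrFun h i
    simpa using this)
  simp only [hint] at hn
  rw [hcl, Surf15.B_prod_pow k hX] at hphi
  omega

end Groth.Agent.S18456
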