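import Groth.Statements.S18457
import Mathlib.Tactic.Linarith
import Mathlib.Tactic.LinearCombination
import Mathlib.Algebra.Order.Chebyshev
import Mathlib.Tactic.IntervalCases
-- import your own Groth.Agent.* helpers here

set_option autoImplicit false
open Finset
open Surf

namespace Groth.Agent.S18457

/-- In the Picard lattice of the plane blown up at n ≤ 8 points, with basis h, e_1, …, e_n, form h² = 1,
e_i² = −1, all other products 0, and anticanonical class D = 3h − Σ e_i, let d·h − Σ a_i e_i be a
class with all a_i ≥ 0 (the class of the strict transform of a degree-d plane curve having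
multiplicity a_i at the i-th point) which is a (−2)-class orthogonal to D, that is d² − Σ a_i² = −2
and 3d = Σ a_i. Then one of the following holds: d = 1 and every a_i is 0 or 1 with exactly three
equal to 1; d = 2 and every a_i is 0 or 1 with exactly six equal to 1; d = 3, n = 8, and one a_i
equals 2 while the remaining seven equal 1. The published statement is geometric: under the
general-position hypotheses on the points, no smooth rational curve on the blown-up plane is
orthogonal to D; this row is the lattice enumeration its proof carries out (a line through three of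
the points, a conic through six, a cubic through all eight and singular at one). -/
theorem result (n : ℕ) (hn : n ≤ 8)
    (d : ℤ) (a : Fin n → ℤ) (ha : ∀ i, 0 ≤ a i)
    (hsq : d ^ 2 - ∑ i, (a i) ^ 2 = -2) (hK : 3 * d = ∑ i, a i) :
    (d = 1 ∧ (∀ i, a i = 0 ∨ a i = 1) ∧ (Finset.univ.filter (fun i => a i = 1)).card = 3) ∨
      (d = 2 ∧ (∀ i, a i = 0 ∨ a i = 1) ∧ (Finset.univ.filter (fun i => a i = 1)).card = 6) ∨
      (d = 3 ∧ n = 8 ∧ ∃ j, a j = 2 ∧ ∀ i, i ≠ j → a i = 1) := by
  have hd0 : 0 ≤ d := by
    have : (0 : ℤ) ≤ ∑ i, a i := Finset.sum_nonneg fun i _ => ha i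
    linarith
  have hq : ∑ i, a i ^ 2 = d ^ 2 + 2 := by linarith
  have hcs := sq_sum_le_card_mul_sum_sq (s := (Finset.univ : Finset (Fin n))) (f := a)
  simp only [Finset.card_univ, Fintype.card_fin] at hcs
  rw [← hK, hq] at hcs
  have hn' : (n : ℤ) ≤ 8 := by exact_mod_cast hn
  have hd4 : d ≤ 4 := by nlinarith [mul_le_mul_of_nonneg_right hn' (show (0 : ℤ) ≤ d ^ 2 + 2 by positivity)]
  have hsum : ∑ i, (a i ^ 2 - a i) = d ^ 2 + 2 - 3 * d := by rw [Finset.sum_sub_distrib, hq, hK]
  have hz : ∀ i, 0 ≤ a i ^ 2 - a i := fun i => by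
    rcases le_or_gt 1 (a i) with h | h
    · nlinarith
    · rw [show a i = 0 by have := ha i; omega]; norm_num
  have hval : (∀ i, a i ^ 2 - a i = 0) → (∀ i, a i = 0 ∨ a i = 1) ∧ ((Finset.univ.filter fun i => a i = 1).card : ℤ) = 3 * d := by
    intro h
    have h01 : ∀ i, a i = 0 ∨ a i = 1 := fun i => by
      rcases mul_eq_zero.1 (show a i * (a i - 1) = 0 by linear_combination h i) with h | h
      · exact Or.inl h
      · exact Or.inr (by linarith)
    refine ⟨h01, ?_⟩
    rw [hK, Finset.card_filter, Nat.cast_sum]
    refine Finset.sum_congr rfl fun i _ => ?_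
    rcases h01 i with h | h <;> simp [h]
  interval_cases d
  · simp only [mul_zero] at hK
    have h0 := (Finset.sum_eq_zero_iff_of_nonneg fun i _ => ha i).1 hK.symm
    rw [Finset.sum_eq_zero fun i hi => by rw [h0 i hi]; norm_num] at hq
    norm_num at hq
  · norm_num at hsum
    obtain ⟨h1, h2⟩ := hval fun i => (Finset.sum_eq_zero_iff_of_nonneg fun i _ => hz i).1 (by simpa using hsum) i (Finset.mem_univ i)
    exact Or.inl ⟨rfl, h1, by exact_mod_cast h2⟩
  · norm_num at hsum
    obtain ⟨h1, h2⟩ := hval fun i => (Finset.sum_eq_zero_iff_of_nonneg fun i _ => hz i).1 (by simpa using hsum) i (Finset.mem_univ i)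
    exact Or.inr (Or.inl ⟨rfl, h1, by exact_mod_cast h2⟩)
  · refine Or.inr (Or.inr ⟨rfl, ?_⟩)
    norm_num at hsum hK hq
    have hsum2 : ∑ i, (a i ^ 2 - a i) = 2 := by rw [Finset.sum_sub_distrib]; exact hsum
    obtain ⟨j, -, hj⟩ := Finset.exists_ne_zero_of_sum_ne_zero (by rw [hsum2]; norm_num :
      ∑ i, (a i ^ 2 - a i) ≠ 0)
    have hle : ∀ i, a i ^ 2 - a i ≤ 2 := fun i => by
      have := Finset.single_le_sum (fun k _ => hz k) (Finset.mem_univ i)
      linarith
    have hj2 : a j = 2 := by
      have h1 := hle j
      have h2 : a j ≤ 2 := by nlinarith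
      have := ha j
      interval_cases hv : a j <;> simp_all
    have hrest : ∀ i, i ≠ j → a i = 0 ∨ a i = 1 := by
      intro i hi
      have h2 := Finset.add_le_sum (fun k _ => hz k) (Finset.mem_univ i) (Finset.mem_univ j) hi
      rw [hj2] at h2
      have h3 : a i ^ 2 - a i = 0 := le_antisymm (by linarith) (hz i)
      rcases mul_eq_zero.1 (show a i * (a i - 1) = 0 by linear_combination h3) with h | h
      · exact Or.inl h
      · exact Or.inr (by linarith)
    have hs : ∑ i ∈ Finset.univ.erase j, a i = 7 := by
      have := Finset.add_sum_erase Finset.univ a (Finset.mem_univ j)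
      linarith
    have hle1 : ∑ i ∈ Finset.univ.erase j, a i ≤ ∑ _i ∈ Finset.univ.erase j, (1 : ℤ) :=
      Finset.sum_le_sum fun i hi => by rcases hrest i (Finset.ne_of_mem_erase hi) with h | h <;> simp [h]
    have hcard : (Finset.univ.erase j).card = n - 1 := by simp
    simp only [Finset.sum_const, hcard, nsmul_eq_mul, mul_one] at hle1
    have hn8 : n = 8 := by omega
    refine ⟨hn8, j, hj2, fun i hi => (hrest i hi).resolve_left fun h0 => ?_⟩
    have hle2 : ∑ k ∈ (Finset.univ.erase j).erase i, a k ≤ ∑ _k ∈ (Finset.univ.erase j).erase i, (1 : ℤ) :=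
      Finset.sum_le_sum fun k hk => by
        rcases hrest k (Finset.ne_of_mem_erase (Finset.mem_of_mem_erase hk)) with h | h <;> simp [h]
    have := Finset.add_sum_erase (Finset.univ.erase j) a (Finset.mem_erase.2 ⟨hi, Finset.mem_univ i⟩)
    simp [Finset.card_erase_of_mem, hi] at hle2
    omega
  · norm_num at hsum hK hq
    have hp : ∀ i, 0 ≤ a i ^ 2 - 3 * a i + 2 := fun i => by
      rcases le_or_gt (a i) 1 with h | h <;> nlinarith
    have := Finset.sum_nonneg (s := Finset.univ) fun i _ => hp i
    simp only [Finset.sum_add_distrib, Finset.sum_sub_distrib, ← Finset.mul_sum, Finset.sum_const, Finset.card_univ,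
      Fintype.card_fin, nsmul_eq_mul] at this
    linarith

end Groth.Agent.S18457
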