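import Groth.Statements.S18458
import Groth.Agent.Surf15.Positivity
import Groth.Agent.VarietyLib.SmoothStalk
-- import your own Groth.Agent.* helpers here

set_option autoImplicit false
universe u
open CategoryTheory CategoryTheory.Limits AlgebraicGeometry TopologicalSpace
open Surf

namespace Groth.Agent.S18458

/-- Let k be an algebraically closed field of characteristic zero and X a smooth projective surface over
k (integral, proper and smooth over k, of dimension 2, carrying an ample invertible module). Let
C_1, …, C_r be pairwise distinct integral curves on X with ideal sheaves I_i whose intersection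
matrix is negative definite: Σ_{i,j} a_i a_j (I_i·I_j) < 0 for every nonzero integer vector a, where
(A·B) = χ(O_X) − χ(A) − χ(B) + χ(A ⊗ B). Then there is an invertible O_X-module L (the sheaf of a
divisor H) which is nef and big and is orthogonal to exactly the curves C_i: writing (L·C) = χ(O_C ⊗
L) − χ(O_C) for the degree of L on an integral curve C, one has (L·C) ≥ 0 for every integral curve
C, (L·L) > 0, and (L·C) = 0 if and only if C is one of the C_i. -/
theorem result (k : Type u) [Field k] [IsAlgClosed k] [CharZero k]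
    (X : Scheme.{u}) [X.Over (Spec (CommRingCat.of k))] [IsProper (X ↘ (Spec (CommRingCat.of k)))]
    [Smooth (X ↘ (Spec (CommRingCat.of k)))] [IsIntegral X] (hdim : topologicalKrullDim X = 2)
    (hproj : ∃ H : X.Modules, CohB1.IsAmple H)
    (r : ℕ) (C : Fin r → X.IdealSheafData) (hC : Function.Injective C)
    (hCi : ∀ i, IsIntegral (C i).subscheme) (hCd : ∀ i, topologicalKrullDim ((C i).support : Set X) = 1)
    (hneg : ∀ a : Fin r → ℤ, a ≠ 0 →
      ∑ i, ∑ j, a i * a j * FGA.intNum k X 2 ![(ClSub.idealMod (C i)), (ClSub.idealMod (C j))] (Coh.structureModule X) < 0) :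
    ∃ L : X.Modules, PicF.IsInvertible L ∧
      (∀ D : X.IdealSheafData, IsIntegral D.subscheme → topologicalKrullDim (D.support : Set X) = 1 →
        0 ≤ Curv2.euler k X (CohB1.tensorMod (ClSub.quotMod D) L) - Curv2.euler k X (ClSub.quotMod D)) ∧
      0 < FGA.intNum k X 2 ![L, L] (Coh.structureModule X) ∧
      (∀ D : X.IdealSheafData, IsIntegral D.subscheme → topologicalKrullDim (D.support : Set X) = 1 →
        (Curv2.euler k X (CohB1.tensorMod (ClSub.quotMod D) L) - Curv2.euler k X (ClSub.quotMod D) = 0 ↔
          ∃ i, D = C i)) := by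
  obtain ⟨H, hH⟩ := hproj
  have hX : topologicalKrullDim X = ((2 : ℕ) : WithBot ℕ∞) := by rw [hdim]; rfl
  have hreg := fun x : X => Groth.Agent.VarietyLib.isRegularLocalRing_stalk_of_smooth k X (X ↘ Spec (CommRingCat.of k)) x
  have hCd' : ∀ i, topologicalKrullDim ((C i).support : Set X) = ((1 : ℕ) : WithBot ℕ∞) := hCd
  have hCe : ∀ i, BlowUp.IsEffCartierIdeal (C i) := fun i =>
    haveI := hCi i
    Groth.Agent.Surf15.isEffCartier_curve k hX hreg (C i) (hCd' i)
  have hG : ∀ i j, FGA.intNum k X 2 ![(ClSub.idealMod (C i)), (ClSub.idealMod (C j))]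
      (Coh.structureModule X) = Groth.Agent.Surf15.B k (Groth.Agent.Surf15.clI' (C i) (hCe i))
        (Groth.Agent.Surf15.clI' (C j) (hCe j)) := fun i j =>
    Groth.Agent.Surf15.intNum_eq_B k hX.le _ _
  simp only [hG] at hneg
  obtain ⟨x, hxx, hx⟩ := Groth.Agent.Surf15.exists_orth_exactly k hX hH C hC hCi hCd' hCe hneg
  obtain ⟨L, hL, rfl⟩ := Groth.Agent.EulerLib.InvCl.exists_rep x
  refine ⟨L, hL, fun D hDi hDd => ?_, by rwa [Groth.Agent.Surf15.intNum_eq_B k hX.le hL hL], fun D hDi hDd => ?_⟩
  all_goals
    haveI := hDi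
    have hDe := Groth.Agent.Surf15.isEffCartier_curve k hX hreg D hDd
    rw [← Groth.Agent.Surf15.deg_mk k (ClSub.quotMod D) hL, Groth.Agent.Surf15.deg_quotMod k hDe,
      Groth.Agent.Surf15.B_comm k]
    obtain ⟨h1, h2⟩ := hx D hDi hDd hDe
  · omega
  · rw [neg_eq_zero]; exact h2

end Groth.Agent.S18458
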