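import Groth.Statements.S19446
import Groth.Agent.NegDef13.Curve
import Groth.Agent.Inters29.PrimeDiv
import Groth.Agent.Coherent.BirationalFibre
import Groth.Agent.Coherent.ConnectedFibre
import Groth.Agent.Resolve13.Modification
import Groth.Agent.Resolve13.ModBase
import Groth.Agent.ModPairLib.Colon
import Groth.Agent.CommAlg4.ConeGraph
import Groth.Agent.SDiv28.CartierPart
import Groth.Agent.S7299

set_option autoImplicit false
set_option linter.style.haveILetI false
set_option backward.isDefEq.respectTransparency.types false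
set_option maxHeartbeats 2000000
universe u
open CategoryTheory CategoryTheory.Limits AlgebraicGeometry
open Resolve

namespace Groth.Agent.S19446


open TopologicalSpace IsLocalRing
open Groth.Agent Groth.Agent.Misc15.DivDescent Groth.Agent.SDiv28.CartierPart

/-- Let R be a Noetherian normal local domain of dimension 2 with residue field κ and π : Y → Spec R a
proper morphism from an integral scheme with regular local rings which is an isomorphism over the
complement of the closed point (a resolution of the surface singularity). Let E_1, …, E_r be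
pairwise distinct integral closed subschemes of Y of dimension one, each mapping to the closed point
(given with its structure morphism to Spec κ), which together cover the fibre over the closed point,
and for each j let L_j be an O_Y-module with L_j ⊗ I_{E_j} ≅ O_Y, i.e. L_j = O_Y(E_j). With a_ij the
degree over κ of the restriction of L_j to E_i (the intersection number E_i·E_j), the quadratic form
Σ x_i x_j a_ij is negative for every nonzero integer vector x: the intersection matrix of the
exceptional curves is negative definite. -/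
theorem result (R : Type u) [CommRing R] [IsDomain R]
    [IsNoetherianRing R] [IsLocalRing R] [IsIntegrallyClosed R] (hdimR : ringKrullDim R = 2)
    (Y : Scheme.{u}) (π : Y ⟶ Spec (CommRingCat.of R)) [IsProper π] [IsIntegral Y]
    (hreg : ∀ y : Y, IsRegularLocalRing (Y.presheaf.stalk y))
    (U : (Spec (CommRingCat.of R)).Opens)
    (hU : ∀ p : Spec (CommRingCat.of R), p ∈ U ↔ p ≠ IsLocalRing.closedPoint R) (hbir : IsIso (π ∣_ U))
    (r : ℕ) (E : Fin r → Scheme.{u}) (e : ∀ i, E i ⟶ Y) [∀ i, IsClosedImmersion (e i)]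
    [∀ i, IsIntegral (E i)] (hE : ∀ i, topologicalKrullDim (E i) = 1)
    (s : ∀ i, E i ⟶ Spec (CommRingCat.of (IsLocalRing.ResidueField R)))
    (hs : ∀ i, e i ≫ π = s i ≫ Spec.map (CommRingCat.ofHom (IsLocalRing.residue R)))
    (hdist : ∀ i j, i ≠ j → Set.range (e i).base ≠ Set.range (e j).base)
    (hcov : ∀ y : Y, π.base y ∉ U → ∃ i, y ∈ Set.range (e i).base)
    (L : Fin r → Y.Modules) (hL : ∀ j, ClSub.IsInverseOf (L j) (ClSub.idealMod (e j).ker))
    (x : Fin r → ℤ) (hx : x ≠ 0) :
    ∑ i, ∑ j, x i * x j *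
      @Curv2.deg (IsLocalRing.ResidueField R) _ (E i) ⟨s i⟩ ((Scheme.Modules.pullback (e i)).obj (L j)) 1 < 0 := by
  classical
  haveI := hbir
  let S : Scheme.{u} := Spec (CommRingCat.of R)
  let c : S := IsLocalRing.closedPoint R
  have hcξ : genericPoint S ≠ c := by
    intro h
    have hf : ¬ IsField R := fun hf => by
      rw [ringKrullDim_eq_zero_of_isField hf] at hdimR
      exact absurd hdimR (by decide)
    refine hf (IsLocalRing.isField_iff_maximalIdeal_eq.2 ?_)
    have h1 : genericPoint S = (⟨⊥, Ideal.isPrime_bot⟩ : PrimeSpectrum R) := genericPoint_eq_bot_of_affine _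
    exact (congrArg PrimeSpectrum.asIdeal (h1.symm.trans h)).symm
  have hξU : genericPoint S ∈ U := (hU _).2 hcξ
  have hUne : (U : Set S).Nonempty := ⟨_, hξU⟩
  obtain ⟨hξ, hb⟩ := Coherent.birational_of_isIso_morphismRestrict π U hUne
  haveI : IsLocallyNoetherian Y := LocallyOfFiniteType.isLocallyNoetherian π
  haveI : CompactSpace Y := QuasiCompact.compactSpace_of_compactSpace π
  haveI : AlgebraicGeometry.IsNoetherian Y := {}
  have hco2 : ∀ y : Y, Order.coheight y ≤ 2 := fun y => by
    have h := (Resolve13.Modification.ringKrullDim_stalk_le π hξ hb y).trans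
      (Resolve13.ringKrullDim_stalk_spec_le hdimR.le (π y))
    rw [ringKrullDim_stalk_eq_coheight] at h
    exact WithBot.coe_le_coe.1 h
  have hnormS : Pi1.IsNormalScheme S := CommAlg4.Cone.isNormalScheme_spec (CommRingCat.of R)
  have hconn : _root_.IsPreconnected (π ⁻¹' {c}) :=
    Coherent.isPreconnected_preimage_singleton π
      (Coherent.isIso_app_of_birational π hnormS hξ ((ConcreteCategory.isIso_iff_bijective _).2 hb)) c
  -- the curves
  have hπe : ∀ i (w : E i), π (e i w) = c := fun i w => by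
    have h := congrArg (fun φ : E i ⟶ S => φ w) (hs i)
    change π (e i w) = PrimeSpectrum.comap (IsLocalRing.residue R) (s i w) at h
    rw [h]
    exact PrimeSpectrum.comap_residue R _
  let η : Fin r → Y := fun i => e i (genericPoint (E i))
  let D : Fin r → Y.IdealSheafData := fun i => (e i).ker
  have hDsupp : ∀ i, ((D i).support : Set Y) = Set.range (e i) := fun i => by
    rw [Scheme.Hom.support_ker]; exact (e i).isClosedEmbedding.isClosed_range.closure_eq
  have hηgen : ∀ i, IsGenericPoint (η i) (Set.range (e i)) := fun i => by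
    have h := (genericPoint_spec (E i)).image (e i).continuous
    rwa [Set.image_univ, (e i).isClosedEmbedding.isClosed_range.closure_eq] at h
  haveI hDint : ∀ i, IsIntegral (D i).subscheme := fun i => by
    haveI : IsIso (e i).toImage := inferInstance
    haveI : Nonempty (D i).subscheme := ⟨(e i).toImage (genericPoint (E i))⟩
    exact isIntegral_of_isOpenImmersion (inv (e i).toImage)
  have hgenD : ∀ i, gen (D i) = η i := fun i =>
    ((isGenericPoint_gen (D i)).eq ((hDsupp i).symm ▸ hηgen i))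
  have hco1 : ∀ i, Order.coheight (η i) ≤ 1 := fun i => by
    obtain ⟨w, hw⟩ : ∃ w : E i, w ≠ genericPoint (E i) := by
      by_contra h
      push Not at h
      haveI : Subsingleton (E i) := ⟨fun a b => (h a).trans (h b).symm⟩
      have h0 : topologicalKrullDim (E i) ≤ 0 := Order.krullDim_nonpos_iff_forall_isMin.2 fun C D' hDC z hz =>
        (Subsingleton.elim D'.2.nonempty.choose z) ▸ D'.2.nonempty.choose_spec
      rw [hE i] at h0
      exact absurd h0 (by decide)
    have h1 := (dim_add_one_le ((hηgen i).specializes ⟨w, rfl⟩)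
      (fun h => hw ((e i).isClosedEmbedding.injective h.symm))).trans (hco2 (e i w))
    rw [← one_add_one_eq_two] at h1
    exact (WithTop.add_le_add_iff_right (by decide)).1 h1
  have hD : ∀ i, BlowUp.IsEffCartierIdeal (D i) := fun i => by
    refine Inters29.isEffCartier_of_coheight_one hreg (D i) ?_ ?_
    · rw [hgenD i]; exact hco1 i
    · rw [hgenD i]; intro h
      exact hcξ (hξ.symm.trans ((congrArg π h.symm).trans (hπe i _)))
  have hηinj : ∀ i j, η i = η j → i = j := fun i j h => by
    by_contra hne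
    exact hdist i j hne ((hηgen i).def.symm.trans ((congrArg (fun z => closure ({z} : Set Y)) h).trans (hηgen j).def))
  have hnotmem : ∀ i j, i ≠ j → η i ∉ ((D j).support : Set Y) := fun i j hne hm => by
    have h := eq_gen_of_coheight_le (hD j) hm (hco1 i)
    rw [hgenD j] at h
    exact hne (hηinj i j h)
  -- a principal divisor
  obtain ⟨g, hgm, hg0⟩ : ∃ g ∈ maximalIdeal R, g ≠ 0 := by
    by_contra h
    push Not at h
    have hb' : maximalIdeal R = ⊥ := (Submodule.eq_bot_iff _).2 h
    rw [ringKrullDim_eq_zero_of_isField (IsLocalRing.isField_iff_maximalIdeal_eq.2 hb')] at hdimR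
    exact absurd hdimR (by decide)
  let gS : Γ(S, ⊤) := (Scheme.ΓSpecIso (CommRingCat.of R)).inv g
  let sY : Γ(Y, ⊤) := π.appTop gS
  let J : Y.IdealSheafData := (Curv2.idealSheaf R (Ideal.span {g})).comap π
  have hbo : ∀ y : Y, y ∈ Y.basicOpen sY ↔ g ∉ (π y).asIdeal := fun y => by
    change y ∈ Y.basicOpen (π.app ⊤ gS) ↔ _
    rw [← Scheme.preimage_basicOpen]
    show π y ∈ S.basicOpen gS ↔ _
    rw [basicOpen_eq_of_affine]
    rfl
  have hξbo : genericPoint Y ∈ Y.basicOpen sY := by
    rw [hbo, hξ, genericPoint_eq_bot_of_affine]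
    exact fun h => hg0 (Ideal.mem_bot.1 h)
  have hJU : ∀ W : Y.affineOpens, J.ideal W = Ideal.span {PicLib.res le_top sY} ∧
      PicLib.res (le_top : W.1 ≤ ⊤) sY ∈ nonZeroDivisors Γ(Y, W.1) := fun W => by
    refine ⟨?_, ?_⟩
    · rw [S7299.ideal_comap_eq, Ideal.map_span, Set.image_singleton]
      rfl
    · rcases isEmpty_or_nonempty W.1 with hW | hW
      · haveI : Subsingleton Γ(Y, W.1) := by
          rw [show W.1 = ⊥ from Opens.ext (Set.eq_empty_of_forall_notMem fun y hy => hW.false ⟨y, hy⟩)]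
          exact inferInstanceAs (Subsingleton Γ(Y, (⊥ : Y.Opens)))
        exact mem_nonZeroDivisors_iff_right.2 fun z _ => Subsingleton.elim _ _
      · refine mem_nonZeroDivisors_of_ne_zero fun h0 => ?_
        obtain ⟨⟨y, hy⟩⟩ := hW
        have h2 : genericPoint Y ∈ W.1 ⊓ Y.basicOpen sY :=
          ⟨((genericPoint_spec Y).specializes trivial).mem_open W.1.2 hy, hξbo⟩
        rw [← Scheme.basicOpen_res (i := (homOfLE (le_top : W.1 ≤ ⊤)).op)] at h2
        exact (le_of_eq ((congrArg Y.basicOpen h0).trans (Scheme.basicOpen_zero Y W.1)) h2 : _)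
  have hJ : BlowUp.IsEffCartierIdeal J := fun y => by
    obtain ⟨W, hW, hyW, -⟩ := exists_isAffineOpen_mem_and_subset (x := y) (U := (⊤ : Y.Opens)) trivial
    exact ⟨⟨W, hW⟩, hyW, _, (hJU ⟨W, hW⟩).2, (hJU ⟨W, hW⟩).1⟩
  have hJ1 : Inters29.idealCl J hJ = 1 := by
    rw [Inters29.idealCl, PicLib.PicM.of_eq_one_iff]
    exact Inters29.nonempty_iso_of_principal J sY hJU
  have hJsupp : ∀ y : Y, g ∈ (π y).asIdeal → y ∈ (J.support : Set Y) := fun y hy => by
    obtain ⟨W, hW, hyW, -⟩ := exists_isAffineOpen_mem_and_subset (x := y) (U := (⊤ : Y.Opens)) trivial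
    have hb2 : y ∉ Y.basicOpen (PicLib.res (le_top : W ≤ ⊤) sY) := fun h => by
      rw [Scheme.basicOpen_res] at h
      exact (hbo y).1 h.2 hy
    refine (Scheme.IdealSheafData.mem_support_iff_of_mem (U := ⟨W, hW⟩) hyW).2 ?_
    rw [(hJU ⟨W, hW⟩).1, Scheme.zeroLocus_span, Scheme.mem_zeroLocus_iff]
    exact fun f hf => (Set.mem_singleton_iff.1 hf) ▸ hb2
  have hJη : ∀ i, η i ∈ (J.support : Set Y) := fun i => hJsupp _ (by
    rw [hπe i]; exact hgm)
  -- multiplicities
  have hmult : ∀ i, ∃ n : ℕ, 0 < n ∧ stk J (gen (D i)) = maximalIdeal _ ^ n := fun i => by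
    obtain ⟨_, _⟩ := SDiv28.StalkCartier.exists_dvr (hD i) _ (isGenericPoint_gen (D i))
    obtain ⟨q, hq, hqJ⟩ := exists_gen hJ (gen (D i))
    obtain ⟨ϖ, hϖ⟩ := IsDiscreteValuationRing.exists_irreducible (Y.presheaf.stalk (gen (D i)))
    obtain ⟨n, hn⟩ := IsDiscreteValuationRing.ideal_eq_span_pow_irreducible
      (s := stk J (gen (D i))) (by rw [hqJ, Ne, Ideal.span_singleton_eq_bot]; exact nonZeroDivisors.ne_zero hq) hϖ
    refine ⟨n, Nat.pos_of_ne_zero fun h0 => ?_, by rw [hn, hϖ.maximalIdeal_eq, Ideal.span_singleton_pow]⟩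
    rw [h0, pow_zero, Ideal.span_singleton_one] at hn
    have h1 := (mem_support_iff_stk J (gen (D i))).1 (hgenD i ▸ hJη i)
    rw [hn] at h1
    exact (maximalIdeal.isMaximal _).ne_top (top_le_iff.1 h1)
  choose m hm0 hm using hmult
  let P := ∏ i, D i ^ m i
  have hP : BlowUp.IsEffCartierIdeal P := Inters29.isEffCartier_prod _ _ fun i => Inters29.isEffCartier_pow (hD i) _
  have hJP : J ≤ P := Scheme.IdealSheafData.le_def.2 fun W a ha => (mem_ideal_iff _ W).2 fun y hy => by
    refine mem_stk_prod D hD m Finset.univ (fun i _ j _ h => hηinj i j ((hgenD i).symm.trans (h.trans (hgenD j)))) y _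
      fun i _ h => ?_
    rw [stk_gen (hD i), ← hm i, stk_specializes J h]
    exact Ideal.mem_map_of_mem _ ((mem_ideal_iff _ W).1 ha y hy)
  obtain ⟨H, hHP⟩ := ModPairLib.exists_mul_eq hP hJP
  have hH : BlowUp.IsEffCartierIdeal H := ModPairLib.isEffCartier_of_mul (hHP.symm ▸ hJ) hP
  have hPη : ∀ i, stk P (gen (D i)) = maximalIdeal _ ^ m i := fun i => by
    rw [stk_prod, Finset.prod_eq_single i (fun j _ hij => ?_) (by simp), stk_pow, stk_gen (hD i)]
    rw [stk_pow, stk_eq_top (fun hm => hnotmem i j hij.symm (hgenD i ▸ hm)), Ideal.top_pow, Ideal.one_eq_top]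
  have hHη : ∀ i, η i ∉ (H.support : Set Y) := fun i hmem => by
    rw [← hgenD i] at hmem
    obtain ⟨_, _⟩ := SDiv28.StalkCartier.exists_dvr (hD i) _ (isGenericPoint_gen (D i))
    obtain ⟨ϖ, hϖ⟩ := IsDiscreteValuationRing.exists_irreducible (Y.presheaf.stalk (gen (D i)))
    have h1 : stk H (gen (D i)) ≤ maximalIdeal _ := (mem_support_iff_stk H _).1 hmem
    have h2 := congrArg (fun K => stk K (gen (D i))) hHP
    simp only [stk_mul] at h2
    rw [hPη i, hm i] at h2
    have h3 : maximalIdeal (Y.presheaf.stalk (gen (D i))) ^ m i ≤ maximalIdeal _ * maximalIdeal _ ^ m i :=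
      h2.ge.trans (Ideal.mul_mono_left h1)
    rw [← pow_succ'] at h3
    exact (Ideal.pow_right_strictAnti _ (IsDiscreteValuationRing.not_a_field _)
      (Ideal.IsPrime.ne_top inferInstance) (Nat.lt_succ_self (m i))).not_ge h3
  -- the intersection matrix
  letI : Y.Over (Spec (CommRingCat.of R)) := ⟨π⟩
  letI hOv : ∀ i, (E i).Over (Spec (CommRingCat.of (IsLocalRing.ResidueField R))) := fun i => ⟨s i⟩
  haveI hprop : ∀ i, IsProper (E i ↘ Spec (CommRingCat.of (IsLocalRing.ResidueField R))) := fun i => by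
    show IsProper (s i)
    haveI : IsProper (s i ≫ Spec.map (CommRingCat.ofHom (IsLocalRing.residue R))) := by
      rw [← hs i]; infer_instance
    exact IsProper.of_comp (s i) (Spec.map (CommRingCat.ofHom (IsLocalRing.residue R)))
  let κ := IsLocalRing.ResidueField R
  let a : Fin r → Fin r → ℤ := fun i j => Curv2.deg κ (E i) ((Scheme.Modules.pullback (e i)).obj (L j)) 1
  show ∑ i, ∑ j, x i * x j * a i j < 0
  have hfin : ∀ i j, i ≠ j →
      a i j = (Module.finrank κ (Coh.HH (E i) (ClSub.quotMod ((D j).comap (e i))) 0) : ℤ) := fun i j hij =>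
    NegDef13.deg_inverse_eq_finrank κ (e i) (hE i).le (hD j) (hL j) (hnotmem i j hij)
  have hsymm : ∀ i j, a i j = a j i := fun i j => by
    rcases eq_or_ne i j with rfl | hij
    · rfl
    rw [hfin i j hij, hfin j i hij.symm, ← NegDef13.length_quotMod_map R (e i) (hs i),
      ← NegDef13.length_quotMod_map R (e j) (hs j), Inters29.map_comap_eq_sup, Inters29.map_comap_eq_sup]
    rw [sup_comm]
  let h : Fin r → ℤ := fun i => (Module.finrank κ (Coh.HH (E i) (ClSub.quotMod (H.comap (e i))) 0) : ℤ)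
  have hrel : ∀ i, ∑ j, a i j * (m j : ℤ) = - h i := fun i => by
    have hcl : Inters29.idealCl H hH * ∏ j, Inters29.idealCl (D j) (hD j) ^ m j = 1 := by
      rw [← hJ1, Inters29.idealCl_congr hHP.symm hJ (ModPairLib.isEffCartier_mul hH hP),
        Inters29.idealCl_mul H P hH hP, Inters29.idealCl_prod _ _ fun j => Inters29.isEffCartier_pow (hD j) _]
      congr 1
      exact Finset.prod_congr rfl fun j _ => (Inters29.idealCl_pow (hD j) _).symm
    have hd := congrArg (NegDef13.degCl κ (e i)) hcl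
    rw [NegDef13.degCl_mul κ (e i) (hE i).le, NegDef13.degCl_prod κ (e i) (hE i).le,
      NegDef13.degCl_one κ (e i) (hE i).le, NegDef13.degCl_idealCl κ (e i) (hE i).le hH (hHη i)] at hd
    have h1 : ∀ j, NegDef13.degCl κ (e i) (Inters29.idealCl (D j) (hD j) ^ m j) = - (a i j * (m j : ℤ)) := fun j => by
      rw [NegDef13.degCl_pow κ (e i) (hE i).le]
      have := NegDef13.deg_inverse_eq_neg κ (e i) (hE i).le (hD j) (hL j)
      show _ = - (Curv2.deg κ (E i) ((Scheme.Modules.pullback (e i)).obj (L j)) 1 * (m j : ℤ))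
      rw [this]; ring
    rw [Finset.sum_congr rfl fun j _ => h1 j, Finset.sum_neg_distrib] at hd
    show _ = - (Module.finrank κ (Coh.HH (E i) (ClSub.quotMod (H.comap (e i))) 0) : ℤ)
    linarith
  -- the residual divisor meets the fibre
  obtain ⟨i₀, hi₀⟩ : ∃ i, (Set.range (e i) ∩ (H.support : Set Y)).Nonempty := by
    obtain ⟨p, hpg, hpc⟩ : ∃ p : S, g ∈ p.asIdeal ∧ p ≠ c := by
      obtain ⟨p, hp⟩ := Ideal.exists_minimalPrimes_le (J := maximalIdeal R)
        ((Ideal.span_singleton_le_iff_mem _).2 hgm)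
      refine ⟨⟨p, hp.1.1.1⟩, hp.1.1.2 (Ideal.mem_span_singleton_self g), fun hpc => ?_⟩
      haveI := hp.1.1.1
      have hh := Ideal.height_le_one_of_isPrincipal_of_mem_minimalPrimes (Ideal.span {g}) p hp.1
      have hpm : p = maximalIdeal R := congrArg PrimeSpectrum.asIdeal hpc
      subst hpm
      have h2 := IsLocalRing.maximalIdeal_height_eq_ringKrullDim (R := R)
      rw [hdimR] at h2
      have h3 : (maximalIdeal R).height = 2 := WithBot.coe_injective h2
      rw [h3] at hh
      exact absurd hh (by decide)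
    obtain ⟨⟨y, hyU⟩, hy⟩ := (π ∣_ U).surjective ⟨p, (hU p).2 hpc⟩
    have hyp : π y = p := by
      rw [← morphismRestrict_base_coe π U ⟨y, hyU⟩, hy]
    have hyF : ∀ i, y ∉ Set.range (e i) := fun i ⟨w, hw⟩ => hpc (by rw [← hyp, ← hw, hπe i w])
    have hyH : y ∈ (H.support : Set Y) := by
      by_contra hn
      have h2 := congrArg (fun K => stk K y) hHP
      simp only [stk_mul] at h2
      rw [stk_eq_top hn, stk_prod, Finset.prod_eq_one fun j _ => by
        rw [stk_pow, stk_eq_top fun hm => hyF j ((hDsupp j).le hm), Ideal.top_pow, Ideal.one_eq_top],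
        Ideal.one_eq_top, Ideal.top_mul] at h2
      have h3 := (mem_support_iff_stk J y).1 (hJsupp y (hyp ▸ hpg))
      rw [← h2] at h3
      exact (maximalIdeal.isMaximal _).ne_top (top_le_iff.1 h3)
    have hcmem : c ∈ π '' closure {y} := by
      have hclosed : IsClosed (π '' closure {y}) := π.isClosedMap _ isClosed_closure
      refine Specializes.mem_closed ?_ hclosed ⟨y, subset_closure rfl, hyp⟩
      exact (PrimeSpectrum.le_iff_specializes _ _).1 (IsLocalRing.le_maximalIdeal p.2.ne_top)
    obtain ⟨z, hz, hzc⟩ := hcmem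
    obtain ⟨i, hi⟩ := hcov z (fun hzU => (hU _).1 hzU hzc)
    exact ⟨i, z, hi, closure_minimal (Set.singleton_subset_iff.2 hyH) H.support.isClosed hz⟩
  have hh0 : 0 < h i₀ := by
    have h0 : (0 : ℤ) ≤ h i₀ := Nat.cast_nonneg _
    refine lt_of_le_of_ne h0 fun heq => ?_
    have h1 := Inters29.support_eq_empty_of_finrank κ (H.comap (e i₀)) (Int.natCast_eq_zero.1 heq.symm)
    obtain ⟨z, ⟨w, rfl⟩, hz⟩ := hi₀
    have : w ∈ ((H.comap (e i₀)).support : Set (E i₀)) := by
      rw [Scheme.IdealSheafData.support_comap]; exact hz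
    rw [h1] at this
    exact this
  have hconnA : ∀ I : Finset (Fin r), I.Nonempty → I ≠ Finset.univ → ∃ i ∈ I, ∃ j ∉ I, (a i j : ℚ) ≠ 0 := by
    intro I ⟨i₁, hi₁⟩ hI'
    obtain ⟨j₁, hj₁⟩ : ∃ j, j ∉ I := by
      by_contra hh
      push Not at hh
      exact hI' (Finset.eq_univ_of_forall hh)
    let A := ⋃ i ∈ I, Set.range (e i)
    let B := ⋃ j ∈ (Iᶜ : Finset (Fin r)), Set.range (e j)
    have hA : IsClosed A := isClosed_biUnion_finset fun i _ => (e i).isClosedEmbedding.isClosed_range
    have hB : IsClosed B := isClosed_biUnion_finset fun i _ => (e i).isClosedEmbedding.isClosed_range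
    have hcov' : π ⁻¹' {c} ⊆ A ∪ B := fun z hz => by
      obtain ⟨i, hi⟩ := hcov z (fun hzU => (hU _).1 hzU hz)
      by_cases hiI : i ∈ I
      · exact Or.inl (Set.mem_biUnion hiI hi)
      · exact Or.inr (Set.mem_biUnion (Finset.mem_compl.2 hiI) hi)
    obtain ⟨z, -, hzA, hzB⟩ := isPreconnected_closed_iff.1 hconn A B hA hB hcov'
      ⟨η i₁, hπe i₁ _, Set.mem_biUnion hi₁ ⟨_, rfl⟩⟩
      ⟨η j₁, hπe j₁ _, Set.mem_biUnion (Finset.mem_compl.2 hj₁) ⟨_, rfl⟩⟩
    obtain ⟨i, hi, hzi⟩ := Set.mem_iUnion₂.1 hzA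
    obtain ⟨j, hj, hzj⟩ := Set.mem_iUnion₂.1 hzB
    have hij : i ≠ j := fun hh => Finset.mem_compl.1 hj (hh ▸ hi)
    refine ⟨i, hi, j, Finset.mem_compl.1 hj, Int.cast_ne_zero.2 fun h0 => ?_⟩
    rw [hfin i j hij] at h0
    have h1 := Inters29.support_eq_empty_of_finrank κ ((D j).comap (e i)) (by exact_mod_cast h0)
    obtain ⟨w, rfl⟩ := hzi
    have : w ∈ (((D j).comap (e i)).support : Set (E i)) := by
      rw [Scheme.IdealSheafData.support_comap]
      show e i w ∈ ((D j).support : Set Y)
      rw [hDsupp j]; exact hzj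
    rw [h1] at this
    exact this
  have hrowQ : ∀ i, ∑ j, (a i j : ℚ) * (m j : ℚ) = - (h i : ℚ) := fun i => by exact_mod_cast hrel i
  have key := NegDef13.negDef_of_excess (fun i j => (a i j : ℚ)) (fun i j => by rw [hsymm i j])
    (fun i j hij => by
      show (0 : ℚ) ≤ (a i j : ℚ)
      exact_mod_cast (hfin i j hij).symm ▸ (Nat.cast_nonneg _ : (0 : ℤ) ≤ _))
    (fun j => (m j : ℚ)) (fun j => Nat.cast_pos.2 (hm0 j))
    (fun i => by rw [hrowQ i, neg_nonpos]; exact Int.cast_nonneg (show (0 : ℤ) ≤ h i from Nat.cast_nonneg _))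
    ⟨i₀, by rw [hrowQ i₀, neg_lt_zero]; exact_mod_cast hh0⟩ hconnA (fun i => (x i : ℚ))
    (fun h0 => hx (funext fun i => by have := congrFun h0 i; simpa using this))
  have key' : ((∑ i, ∑ j, x i * x j * a i j : ℤ) : ℚ) < 0 := by
    push_cast
    refine lt_of_eq_of_lt (Finset.sum_congr rfl fun i _ => Finset.sum_congr rfl fun j _ => ?_) key
    ring
  exact_mod_cast key'

end Groth.Agent.S19446
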