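import Groth.Statements.S18460
import Groth.Agent.S19446
import Groth.Agent.Resolve13.LocalBase
import Groth.Agent.Surf15.Adjunction
import Groth.Agent.Surf15.Config
import Groth.Agent.Surf15.FiniteInter
import Groth.Agent.FlatMor12.ImmersionGeneric
import Groth.Agent.VarietyLib.SmoothStalk
-- import your own Groth.Agent.* helpers here

set_option autoImplicit false
set_option linter.style.haveILetI false
set_option backward.isDefEq.respectTransparency.types false
set_option maxHeartbeats 1600000
universe u
open CategoryTheory CategoryTheory.Limits AlgebraicGeometry TopologicalSpace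
open Surf

namespace Groth.Agent.S18460

open Groth.Agent Groth.Agent.EulerLib

/-- The Euler characteristic does not depend on the name of the field of constants. -/
theorem euler_fieldIso {k κ : Type u} [Field k] [Field κ] (φ : k →+* κ) (hφ : Function.Bijective φ)
    {E : Scheme.{u}} (f : E ⟶ Spec (CommRingCat.of k)) (s : E ⟶ Spec (CommRingCat.of κ))
    (hs : s ≫ Spec.map (CommRingCat.ofHom φ) = f) (F : E.Modules) :
    @Curv2.euler κ _ E ⟨s⟩ F = @Curv2.euler k _ E ⟨f⟩ F := by
  unfold Curv2.euler
  refine finsum_congr fun i => ?_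
  congr 2
  letI : E.Over (Spec (CommRingCat.of k)) := ⟨f⟩
  letI : E.Over (Spec (CommRingCat.of κ)) := ⟨s⟩
  have h : ∀ a : k, Coh.toGlobal f a = Coh.toGlobal s (φ a) := fun a => by
    subst hs
    show (s ≫ Spec.map (CommRingCat.ofHom φ)).appTop.hom ((Scheme.ΓSpecIso (CommRingCat.of k)).inv.hom a) = _
    rw [Scheme.Hom.comp_appTop]
    refine congrArg s.appTop.hom ?_
    exact (congrArg (fun ψ => ψ.hom a) (Scheme.ΓSpecIso_inv_naturality (CommRingCat.ofHom φ))).symm
  refine congrArg Cardinal.toNat (rank_eq_of_equiv_equiv φ (AddEquiv.refl (Coh.HH E F i)) hφ ?_).symm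
  intro a x
  show Coh.toGlobal f a • x = Coh.toGlobal s (φ a) • x
  rw [h]


/-- Let k be an algebraically closed field of characteristic zero and X a smooth projective surface over
k (integral, proper and smooth over k, of dimension 2). Let Y be an integral normal scheme of
dimension 2, locally of finite type over k, y a closed point of Y, and π : X → Y a proper k-morphism
which restricts to an isomorphism over Y ∖ {y} and whose fibre over y is, as a set, the union of
pairwise distinct integral curves C_1, …, C_r on X (r ≥ 1, ideal sheaves I_i), this union being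
connected; so π contracts the connected curve C = ⋃ C_i to the normal point y. Then the intersection
matrix of the C_i is negative definite: Σ_{i,j} a_i a_j (I_i·I_j) < 0 for every nonzero integer
vector a, where (A·B) = χ(O_X) − χ(A) − χ(B) + χ(A ⊗ B). The published statement is about a
holomorphic contraction of a compact connected curve in a complex surface to a point of a normal
analytic surface; this row is the algebraic case, with Y locally of finite type so that the local
ring at y is a two-dimensional Noetherian normal domain and a nonzero function vanishing at y cuts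
out a curve through y, which is what the printed argument (pull back such a function and apply the
formal negativity lemma proved there) uses. -/
theorem result (k : Type u) [Field k] [IsAlgClosed k] [CharZero k]
    (X : Scheme.{u}) [X.Over (Spec (CommRingCat.of k))] [IsProper (X ↘ (Spec (CommRingCat.of k)))]
    [Smooth (X ↘ (Spec (CommRingCat.of k)))] [IsIntegral X] (hdim : topologicalKrullDim X = 2)
    (Y : Scheme.{u}) [Y.Over (Spec (CommRingCat.of k))] [IsIntegral Y] (hYn : Pi1.IsNormalScheme Y)
    (hYd : topologicalKrullDim Y = 2)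
    [LocallyOfFiniteType (Y ↘ (Spec (CommRingCat.of k)))]
    (π : X ⟶ Y) (hπk : π ≫ (Y ↘ (Spec (CommRingCat.of k))) = (X ↘ (Spec (CommRingCat.of k)))) [IsProper π]
    (y : Y) (hy : IsClosed ({y} : Set Y)) (hiso : IsIso (π ∣_ (⟨({y} : Set Y)ᶜ, hy.isOpen_compl⟩ : Y.Opens)))
    (r : ℕ) (hr : 0 < r) (C : Fin r → X.IdealSheafData) (hC : Function.Injective C)
    (hCi : ∀ i, IsIntegral (C i).subscheme) (hCd : ∀ i, topologicalKrullDim ((C i).support : Set X) = 1)
    (hfib : (π.base : X → Y) ⁻¹' {y} = ⋃ i, ((C i).support : Set X))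
    (hconn : _root_.IsConnected (⋃ i, ((C i).support : Set X))) :
    ∀ a : Fin r → ℤ, a ≠ 0 →
      ∑ i, ∑ j, a i * a j * FGA.intNum k X 2 ![(ClSub.idealMod (C i)), (ClSub.idealMod (C j))] (Coh.structureModule X) < 0 := by
  classical
  haveI := hiso
  let f := X ↘ Spec (CommRingCat.of k)
  let g := Y ↘ Spec (CommRingCat.of k)
  have hX : topologicalKrullDim X = ((2 : ℕ) : WithBot ℕ∞) := by rw [hdim]; rfl
  have hreg : ∀ x : X, IsRegularLocalRing (X.presheaf.stalk x) := fun x =>
    VarietyLib.isRegularLocalRing_stalk_of_smooth k X f x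
  have hCd' : ∀ i, topologicalKrullDim ((C i).support : Set X) = ((1 : ℕ) : WithBot ℕ∞) := hCd
  have hCe : ∀ i, BlowUp.IsEffCartierIdeal (C i) := fun i =>
    haveI := hCi i
    Surf15.isEffCartier_curve k hX hreg (C i) (hCd' i)
  -- the local ring at `y`
  haveI : IsLocallyNoetherian Y := LocallyOfFiniteType.isLocallyNoetherian g
  let R := Y.presheaf.stalk y
  haveI : IsDomain R := (hYn y).1
  haveI : IsIntegrallyClosed R := (hYn y).2
  haveI : IsNoetherianRing R := inferInstance
  have hdimY : ∀ Z ∈ irreducibleComponents (Y : Type u), topologicalKrullDim Z = 2 := by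
    intro Z hZ
    rw [irreducibleComponents_eq_singleton, Set.mem_singleton_iff] at hZ
    subst hZ
    rw [(Homeomorph.Set.univ Y).isHomeomorph.topologicalKrullDim_eq, hYd]
  have hdimR : ringKrullDim R = 2 := by
    rw [Surf15.ringKrullDim_stalk_closed k hdimY hy]; rfl
  let c : Spec R := IsLocalRing.closedPoint R
  let j := Y.fromSpecStalk y
  have hjc : j c = y := Scheme.fromSpecStalk_closedPoint
  let V : Y.Opens := ⟨({y} : Set Y)ᶜ, hy.isOpen_compl⟩
  -- birationality
  have hξy : genericPoint Y ≠ y := by
    intro h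
    have h0 : ringKrullDim R = ((0 : ℕ) : WithBot ℕ∞) := by
      subst h
      rw [ringKrullDim_stalk_eq_coheight]
      have h1 : Order.coheight (genericPoint Y) = 0 :=
        Order.coheight_eq_zero.2 fun z hz => (genericPoint_specializes z)
      rw [h1]; rfl
    rw [hdimR] at h0
    exact absurd h0 (by decide)
  obtain ⟨hξ, -⟩ := Coherent.birational_of_isIso_morphismRestrict π V ⟨genericPoint Y, hξy⟩
  -- the localised contraction
  let XR : Scheme.{u} := pullback π j
  let p : XR ⟶ X := pullback.fst π j
  let q : XR ⟶ Spec R := pullback.snd π j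
  obtain ⟨hXR, hpξ⟩ := Resolve13.LocalBase.isIntegral π y hξ
  haveI : IsIntegral XR := hXR
  haveI : IsPreimmersion p := MorphismProperty.pullback_fst _ _ inferInstance
  have hregR : ∀ t : XR, IsRegularLocalRing (XR.presheaf.stalk t) := fun t => by
    haveI := Props12.isIso_stalkMap_fst π y t
    haveI := hreg (p t)
    exact IsRegularLocalRing.of_ringEquiv (asIso (p.stalkMap t)).commRingCatIsoToRingEquiv
  have hiu := Resolve13.LocalBase.exists_isIso_restrict π y V
  have hU : ∀ a : Spec R, a ∈ j ⁻¹ᵁ V ↔ a ≠ c := fun a => by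
    show ¬ (j a = y) ↔ _
    exact not_congr ⟨fun h => j.isEmbedding.injective (h.trans hjc.symm), fun h => h ▸ hjc⟩
  -- the residue field
  let κ := IsLocalRing.ResidueField R
  let ry : Spec (CommRingCat.of κ) ⟶ Y := Y.fromSpecResidueField y
  haveI : IsPreimmersion ry := inferInstanceAs (IsPreimmersion (Y.fromSpecResidueField y))
  haveI : IsClosedImmersion ry :=
    IsClosedImmersion.of_isPreimmersion _ (by
      show IsClosed (Set.range (Y.fromSpecResidueField y))
      rw [Scheme.range_fromSpecResidueField]; exact hy)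
  have hry : ry = Spec.map (CommRingCat.ofHom (IsLocalRing.residue R)) ≫ j := rfl
  let ψ : k →+* κ := (Spec.preimage (ry ≫ g)).hom
  have hψ : Spec.map (CommRingCat.ofHom ψ) = ry ≫ g := Spec.map_preimage _
  have hψb : Function.Bijective ψ := by
    haveI : LocallyOfFiniteType (Spec.map (CommRingCat.ofHom ψ)) := by rw [hψ]; infer_instance
    have hft : ψ.FiniteType := (HasRingHomProperty.Spec_iff (P := @LocallyOfFiniteType)).1 inferInstance
    letI := ψ.toAlgebra
    haveI : Algebra.FiniteType k κ := hft
    haveI : Module.Finite k κ := finite_of_finite_type_of_isJacobsonRing k κ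
    haveI : Algebra.IsIntegral k κ := Algebra.IsIntegral.of_finite k κ
    exact IsAlgClosed.algebraMap_bijective_of_isIntegral
  -- the curves
  let E : Fin r → Scheme.{u} := fun i => (C i).subscheme
  let ι : ∀ i, E i ⟶ X := fun i => (C i).subschemeι
  have hlift : ∀ i, ∃ s : E i ⟶ Spec (CommRingCat.of κ), s ≫ ry = ι i ≫ π := fun i => by
    haveI := hCi i
    refine FlatMor12.exists_lift_of_subset_range ry (ι i ≫ π) ?_
    rintro _ ⟨w, rfl⟩
    rw [show Set.range ry = {y} from Scheme.range_fromSpecResidueField y]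
    have : ι i w ∈ ⋃ l, ((C l).support : Set X) := Set.mem_iUnion.2 ⟨i, by
      rw [← Scheme.IdealSheafData.range_subschemeι]; exact ⟨w, rfl⟩⟩
    rw [← hfib] at this
    exact this
  choose s hs using hlift
  have hse : ∀ i, ι i ≫ π = (s i ≫ Spec.map (CommRingCat.ofHom (IsLocalRing.residue R))) ≫ j := fun i => by
    rw [Category.assoc, ← hry, hs]
  let e : ∀ i, E i ⟶ XR := fun i => pullback.lift (ι i) _ (hse i)
  have hep : ∀ i, e i ≫ p = ι i := fun i => pullback.lift_fst _ _ _
  haveI : ∀ i, IsClosedImmersion (e i) := fun i =>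
    haveI : IsClosedImmersion (e i ≫ p) := by rw [hep]; infer_instance
    IsClosedImmersion.of_comp (e i) p
  haveI : ∀ i, IsIntegral (E i) := hCi
  have hrι : ∀ i, Set.range (ι i) = ((C i).support : Set X) := fun i =>
    Scheme.IdealSheafData.range_subschemeι _
  have hE : ∀ i, topologicalKrullDim (E i) = 1 := fun i => by
    rw [(ι i).isClosedEmbedding.isEmbedding.toHomeomorph.isHomeomorph.topologicalKrullDim_eq, hrι, hCd]
  have hpe : ∀ i, Set.range (ι i) = p '' Set.range (e i) := fun i => by
    rw [← Set.range_comp]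
    exact congrArg Set.range (funext fun w => by rw [← hep i]; rfl)
  have hsupp : ∀ i l, ((C i).support : Set X) = (C l).support → i = l := fun i l h => by
    haveI := hCi i; haveI := hCi l
    refine hC ?_
    rw [VarietyLib.eq_clI_of_isIntegral (C i), VarietyLib.eq_clI_of_isIntegral (C l)]
    exact congrArg AssSch12.clI ((SDiv28.CartierPart.isGenericPoint_gen (C i)).eq
      (h ▸ SDiv28.CartierPart.isGenericPoint_gen (C l)))
  have hdist : ∀ i l, i ≠ l → Set.range (e i).base ≠ Set.range (e l).base := fun i l hil h =>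
    hil (hsupp i l (by rw [← hrι, ← hrι, hpe, hpe]; exact congrArg (p '' ·) h))
  have hcov : ∀ t : XR, q t ∉ j ⁻¹ᵁ V → ∃ i, t ∈ Set.range (e i).base := fun t ht => by
    have h1 : q t = c := not_not.1 (mt (hU _).2 ht)
    have h2 : π (p t) = y := by
      rw [← Scheme.Hom.comp_apply, pullback.condition, Scheme.Hom.comp_apply]
      exact (congrArg j h1).trans hjc
    obtain ⟨i, hi⟩ := Set.mem_iUnion.1 (hfib.le (show p t ∈ π ⁻¹' {y} from h2))
    rw [← hrι, hpe] at hi
    obtain ⟨t', ht', htt⟩ := hi
    exact ⟨i, p.isEmbedding.injective htt ▸ ht'⟩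
  -- the inverse modules
  have hinv : ∀ i, ∃ M : X.Modules, PicF.IsInvertible M ∧
      ClSub.IsInverseOf M (ClSub.idealMod (C i)) := fun i => by
    have hI := FlatMor12.IdealModGen.isInvertible_idealMod (C i) (hCe i)
    obtain ⟨M, ⟨w⟩⟩ := VarietyLib.exists_isInverseOf hI
    exact ⟨M, Surf15.isInvertible_inverse hI ⟨w⟩, ⟨AmpleLib.tensorComm _ _ ≪≫ w⟩⟩
  choose M hM hMI using hinv
  have hker : ∀ i, (e i).ker = (C i).comap p := fun i => by
    have sq : IsPullback (e i) (𝟙 (E i)) p (ι i) := by
      haveI : Mono p := inferInstance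
      refine ⟨⟨by rw [hep, Category.id_comp]⟩, ⟨PullbackCone.IsLimit.mk _
        (fun c => c.snd) (fun c => (cancel_mono p).1 (by rw [Category.assoc, hep]; exact c.condition.symm))
        (fun c => Category.comp_id _) (fun c m _ h2 => (Category.comp_id m).symm.trans h2)⟩⟩
    rw [Scheme.IdealSheafData.comap, ← sq.isoPullback_hom_fst, Scheme.Hom.ker_comp_of_isIso]
  have hgenout : ∀ i, p (genericPoint XR) ∉ ((C i).support : Set X) := fun i hm => by
    rw [hpξ] at hm
    have h1 : π (genericPoint X) ∈ ({y} : Set Y) :=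
      hfib.ge (Set.mem_iUnion.2 ⟨i, hm⟩)
    rw [hξ] at h1
    exact hξy h1
  have hL : ∀ i, ClSub.IsInverseOf ((Scheme.Modules.pullback p).obj (M i)) (ClSub.idealMod (e i).ker) := fun i => by
    rw [hker i]
    have hI := FlatMor12.IdealModGen.isInvertible_idealMod (C i) (hCe i)
    obtain ⟨w⟩ := hMI i
    obtain ⟨t⟩ := AmpleLib.exists_pullTensorIso p (hM i) hI
    obtain ⟨u⟩ := Inters29.nonempty_pullback_idealMod_iso p (C i) (hCe i)
      (Inters29.isEffCartier_comap_of_generic p (C i) (hCe i) (hgenout i))
    obtain ⟨o⟩ := CAlgH.PicPunct.nonempty_pullback_unit p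
    exact ⟨PicGrp.tensorModIso (Iso.refl _) u.symm ≪≫ t.symm ≪≫ (Scheme.Modules.pullback p).mapIso w ≪≫ o⟩
  intro a ha
  have key := Groth.Agent.S19446.result R hdimR XR q hregR (j ⁻¹ᵁ V) hU hiu r E e hE s
    (fun i => pullback.lift_snd _ _ _) hdist hcov (fun i => (Scheme.Modules.pullback p).obj (M i)) hL a ha
  let cl := fun i => Surf15.clI' (C i) (hCe i)
  have hdeg : ∀ i l, @Curv2.deg κ _ (E i) ⟨s i⟩
      ((Scheme.Modules.pullback (e i)).obj ((Scheme.Modules.pullback p).obj (M l))) 1 =
      FGA.intNum k X 2 ![(ClSub.idealMod (C i)), (ClSub.idealMod (C l))] (Coh.structureModule X) := fun i l => by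
    letI : (E i).Over (Spec (CommRingCat.of k)) := ⟨ι i ≫ f⟩
    haveI : IsProper (E i ↘ Spec (CommRingCat.of k)) := inferInstanceAs (IsProper (ι i ≫ f))
    have hsk : s i ≫ Spec.map (CommRingCat.ofHom ψ) = ι i ≫ f := by
      rw [hψ, ← Category.assoc, hs, Category.assoc, hπk]
    let w : (Scheme.Modules.pullback (e i)).obj ((Scheme.Modules.pullback p).obj (M l)) ≅
        (Scheme.Modules.pullback (ι i)).obj (M l) :=
      (Scheme.Modules.pullbackComp (e i) p).app _ ≪≫ (Scheme.Modules.pullbackCongr (hep i)).app _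
    rw [show @Curv2.deg κ _ (E i) ⟨s i⟩ ((Scheme.Modules.pullback (e i)).obj ((Scheme.Modules.pullback p).obj (M l))) 1 =
      Curv2.deg k (E i) ((Scheme.Modules.pullback (e i)).obj ((Scheme.Modules.pullback p).obj (M l))) 1 by
      unfold Curv2.deg
      rw [euler_fieldIso ψ hψb (ι i ≫ f) (s i) hsk, euler_fieldIso ψ hψb (ι i ≫ f) (s i) hsk]]
    rw [CurveRR24.deg_congr k w]
    haveI := EulerLib.isNoetherian_of_proper (X := X) k
    haveI := EulerLib.isSeparated_of_proper (X := X) k
    obtain ⟨wr⟩ := Surf15.exists_restrict_iso (C i) (hM l)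
    haveI := AmpleLib.isQCoh_of_isInvertible (PicLoc.isInvertible_pullback (ι i) (hM l))
    haveI : Coh.IsQCoh (Coh.structureModule (E i)) := Coherent.isQCoh_structureModule
    have hq := Surf15.deg_quotMod k (hCe i) (InvCl.mk (M l) (hM l))
    rw [Surf15.deg_mk, euler_congr k X wr, ← AbCubeLib.euler_push k (ι i) rfl _,
      ← AbCubeLib.euler_push k (ι i) rfl (Coh.structureModule (E i))] at hq
    have hI := FlatMor12.IdealModGen.isInvertible_idealMod (C l) (hCe l)
    obtain ⟨z⟩ := hMI l
    have hone : InvCl.mk (ClSub.idealMod (C l)) hI * InvCl.mk (M l) (hM l) = 1 :=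
      InvCl.mk_eq _ _ (AmpleLib.tensorComm _ _ ≪≫ z)
    rw [Surf15.intNum_eq_B k hX.le (FlatMor12.IdealModGen.isInvertible_idealMod (C i) (hCe i)) hI]
    have hB := Surf15.B_inv_right k hX.le hone (cl i)
    show Curv2.euler k (E i) _ - ((1 : ℕ) : ℤ) * Curv2.euler k (E i) _ = _
    rw [Nat.cast_one, one_mul]
    exact hq.trans (by rw [hB, neg_neg]; rfl)
  refine lt_of_eq_of_lt (Finset.sum_congr rfl fun i _ => Finset.sum_congr rfl fun l _ => ?_) key
  exact congrArg (a i * a l * ·) (hdeg i l).symm

end Groth.Agent.S18460
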