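import Groth.Statements.S18461
import Groth.Agent.Surf15.Fundamental
import Groth.Agent.VarietyLib.SmoothStalk
-- import your own Groth.Agent.* helpers here

set_option autoImplicit false
universe u
open CategoryTheory CategoryTheory.Limits AlgebraicGeometry TopologicalSpace
open Surf

namespace Groth.Agent.S18461

/-- Let k be an algebraically closed field of characteristic zero and X a smooth projective surface over
k (integral, proper and smooth over k, of dimension 2). Let C_1, …, C_r (r ≥ 1) be pairwise distinct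
integral curves on X, with ideal sheaves I_i, forming a connected configuration with negative
definite intersection matrix (no partition of the indices into two nonempty sets with (I_i·I_j) = 0
across; Σ a_i a_j (I_i·I_j) < 0 for every nonzero integer vector a; (A·B) = χ(O_X) − χ(A) − χ(B) +
χ(A ⊗ B)), and let Z₀ be a fundamental cycle: a nonzero effective Cartier divisor supported on ⋃ C_i
with deg(I_{Z₀}|_{C_i}) = χ(O_{C_i} ⊗ I_{Z₀}) − χ(O_{C_i}) ≥ 0 for all i, every other such divisor Z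
satisfying Z ≥ Z₀ (I_Z ⊆ I_{Z₀}). Suppose the configuration is rational in the sense that H¹(Z, O_Z)
= 0 for every nonzero effective Cartier divisor Z supported on ⋃ C_i. Then for every natural number
N, writing O_{Z₀}(−NZ₀) = O_{Z₀} ⊗ I_{Z₀}^{⊗N}: H¹(Z₀, O_{Z₀}(−NZ₀)) = 0 and dim_k H⁰(Z₀,
O_{Z₀}(−NZ₀)) = −N·(I_{Z₀}·I_{Z₀}) + 1, that is −N·Z₀² + 1; cohomology is computed on X through the
direct image of O_{Z₀}. The published statement assumes the singularity obtained by contracting the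
configuration over the complex numbers rational, which is equivalent to the vanishing assumed here,
and also asserts R¹π_*O_X(−NZ₀) = 0 for the contraction π and two facts on the maximal ideal of that
singularity; those are not restated. -/
theorem result (k : Type u) [Field k] [IsAlgClosed k] [CharZero k]
    (X : Scheme.{u}) [X.Over (Spec (CommRingCat.of k))] [IsProper (X ↘ (Spec (CommRingCat.of k)))]
    [Smooth (X ↘ (Spec (CommRingCat.of k)))] [IsIntegral X] (hdim : topologicalKrullDim X = 2)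
    (r : ℕ) (hr : 0 < r) (C : Fin r → X.IdealSheafData) (hC : Function.Injective C)
    (hCi : ∀ i, IsIntegral (C i).subscheme) (hCd : ∀ i, topologicalKrullDim ((C i).support : Set X) = 1)
    (hconn : ∀ S : Finset (Fin r), S.Nonempty → Sᶜ.Nonempty →
      ∃ i ∈ S, ∃ j ∈ Sᶜ, FGA.intNum k X 2 ![(ClSub.idealMod (C i)), (ClSub.idealMod (C j))] (Coh.structureModule X) ≠ 0)
    (hneg : ∀ a : Fin r → ℤ, a ≠ 0 →
      ∑ i, ∑ j, a i * a j * FGA.intNum k X 2 ![(ClSub.idealMod (C i)), (ClSub.idealMod (C j))] (Coh.structureModule X) < 0)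
    (Z₀ : X.IdealSheafData) (hZ₀ : FGA.IsEffCartier Z₀) (hZ₀0 : Z₀ ≠ ⊤)
    (hZ₀s : (Z₀.support : Set X) ⊆ ⋃ i, ((C i).support : Set X))
    (hZ₀C : ∀ i, 0 ≤ Curv2.euler k X (CohB1.tensorMod (ClSub.quotMod (C i)) (ClSub.idealMod Z₀)) -
      Curv2.euler k X (ClSub.quotMod (C i)))
    (hZ₀min : ∀ Z : X.IdealSheafData, FGA.IsEffCartier Z → Z ≠ ⊤ → (Z.support : Set X) ⊆ ⋃ i, ((C i).support : Set X) →
      (∀ i, 0 ≤ Curv2.euler k X (CohB1.tensorMod (ClSub.quotMod (C i)) (ClSub.idealMod Z)) -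
        Curv2.euler k X (ClSub.quotMod (C i))) → Z ≤ Z₀)
    (hrat : ∀ Z : X.IdealSheafData, FGA.IsEffCartier Z → Z ≠ ⊤ → (Z.support : Set X) ⊆ ⋃ i, ((C i).support : Set X) →
      Subsingleton (Coh.HH X (ClSub.quotMod Z) 1))
    (N : ℕ) :
    Subsingleton (Coh.HH X (CohB1.tensorMod (ClSub.quotMod Z₀) (CohB1.tensorPow (ClSub.idealMod Z₀) N)) 1) ∧
      (Module.finrank k (Coh.HH X (CohB1.tensorMod (ClSub.quotMod Z₀) (CohB1.tensorPow (ClSub.idealMod Z₀) N)) 0) : ℤ) =
        -(N : ℤ) * FGA.intNum k X 2 ![(ClSub.idealMod Z₀), (ClSub.idealMod Z₀)] (Coh.structureModule X) + 1 := by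
  have hX : topologicalKrullDim X = ((2 : ℕ) : WithBot ℕ∞) := by exact_mod_cast hdim
  have hreg := fun x : X => Groth.Agent.VarietyLib.isRegularLocalRing_stalk_of_smooth k X (X ↘ Spec (CommRingCat.of k)) x
  have hcrv : ∀ i, Surf15.IsCrv (C i) := fun i => ⟨hCi i, by rw [hCd i]; rfl⟩
  have hE := fun i => (hcrv i).isEffCartier k hX hreg
  have hI := FlatMor12.IdealModGen.isInvertible_idealMod (X := X)
  have hint : ∀ A A' (hA : BlowUp.IsEffCartierIdeal A) (hA' : BlowUp.IsEffCartierIdeal A'),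
      FGA.intNum k X 2 ![(ClSub.idealMod A), (ClSub.idealMod A')] (Coh.structureModule X)
        = Surf15.B k (Surf15.clI' A hA) (Surf15.clI' A' hA') := fun A A' hA hA' =>
    Surf15.intNum_eq_B k hX.le (hI A hA) (hI A' hA')
  have hdeg : ∀ i A (hA : BlowUp.IsEffCartierIdeal A),
      Curv2.euler k X (CohB1.tensorMod (ClSub.quotMod (C i)) (ClSub.idealMod A)) -
        Curv2.euler k X (ClSub.quotMod (C i)) = - Surf15.B k (Surf15.clI' (C i) (hE i)) (Surf15.clI' A hA) :=
    fun i A hA => (Surf15.deg_mk k (ClSub.quotMod (C i)) (hI A hA)).symm.trans (Surf15.deg_quotMod k (hE i) _)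
  have hZc := Surf15.blowUp_of_fga hZ₀
  have hnef : ∀ i, Surf15.B k (Surf15.clI' (C i) (hE i)) (Surf15.clI' Z₀ hZc) ≤ 0 := fun i => by
    have h := hZ₀C i
    rw [hdeg i Z₀ hZc] at h
    omega
  obtain ⟨hall, hstep⟩ := Surf15.fundamental_facts k hX hreg C hC hcrv hE
    (fun S h1 h2 => by
      obtain ⟨i, hi, j, hj, h⟩ := hconn S h1 h2
      exact ⟨i, hi, j, hj, by rwa [hint _ _ (hE i) (hE j)] at h⟩)
    hZc hZ₀0 hZ₀s hnef (fun A hA hA0 hAs h => hZ₀min A (Surf15.fga_of_blowUp hA) hA0 hAs fun i => by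
      have := h i
      rw [hdeg i A hA]
      omega)
  have hO := AmpleLib.isInvertible_structureModule (X := X)
  have u : ∀ M : X.Modules, CohB1.tensorMod M (Coh.structureModule X) ≅ M := fun M =>
    AmpleLib.tensorComm _ _ ≪≫ AmpleLib.unitTensorIso M
  have hχ : (∀ Z : X.IdealSheafData, FGA.IsEffCartier Z → Z ≠ ⊤ → (Z.support : Set X) ⊆ ⋃ i, ((C i).support : Set X) →
      Subsingleton (Coh.HH X (ClSub.quotMod Z) 1)) → Curv2.euler k X (ClSub.quotMod Z₀) = 1 := fun h => by
    haveI := h Z₀ hZ₀ hZ₀0 hZ₀s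
    have h1 := Surf15.euler_quotMod_eq k hX.le hZc
    rw [Module.finrank_zero_of_subsingleton (M := Coh.HH X (ClSub.quotMod Z₀) 1), Nat.cast_zero] at h1
    have h2 := Surf15.one_le_h0_quotMod k hZ₀0
    have h3 := (Surf15.h0_le_one_and_iso k hX hreg hZc hZ₀0 hO hstep fun D _ _ => by
      rw [Surf15.deg_mk k (ClSub.quotMod D) hO, EulerLib.euler_congr k X (u _), sub_self]).1
    rw [CurveRR24.finrank_HH_congr k (u _) 0] at h3
    omega
  let c := Surf15.clI' Z₀ hZc
  have hIp := AmpleLib.isInvertible_tensorPow (hI Z₀ hZc) N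
  have hcl : EulerLib.InvCl.mk (CohB1.tensorPow (ClSub.idealMod Z₀) N) hIp = c ^ N := EulerLib.InvCl.mk_tensorPow (hI Z₀ hZc) N
  have h1 := Surf15.h1_twist_eq_zero k hX hreg hZc hZ₀0 hstep (hχ hrat) hIp fun D hDc hle => by
    obtain ⟨i, rfl⟩ := Surf15.exists_eq_of_crv k C hcrv hDc hle hZ₀s
    rw [hcl, Surf15.deg_quotMod k (hE i), Surf15.B_pow_right k hX.le]
    have := hnef i
    have hN : (0 : ℤ) ≤ (N : ℤ) := Nat.cast_nonneg N
    nlinarith
  refine ⟨h1, ?_⟩
  have h2 := Surf15.euler_quotMod_twist_eq k hX.le hZc hIp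
  rw [Module.finrank_zero_of_subsingleton (M := Coh.HH X (CohB1.tensorMod (ClSub.quotMod Z₀) (CohB1.tensorPow (ClSub.idealMod Z₀) N)) 1),
    Nat.cast_zero, sub_zero] at h2
  have h3 := Surf15.deg_mk k (ClSub.quotMod Z₀) hIp
  rw [hcl, Surf15.deg_quotMod k hZc, Surf15.B_pow_right k hX.le, h2, hχ hrat] at h3
  rw [hint _ _ hZc hZc]
  linarith

end Groth.Agent.S18461
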