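import Groth.Statements.S18462
import Groth.Agent.Surf15.Config
import Groth.Agent.VarietyLib.SmoothStalk
-- import your own Groth.Agent.* helpers here

set_option autoImplicit false
universe u
open CategoryTheory CategoryTheory.Limits AlgebraicGeometry TopologicalSpace
open Surf

namespace Groth.Agent.S18462

/-- Let k be an algebraically closed field of characteristic zero and X a smooth projective surface over
k (integral, proper and smooth over k, of dimension 2, carrying an ample invertible module). Let
C_1, …, C_r be pairwise distinct integral curves on X with ideal sheaves I_i and negative definite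
intersection matrix (Σ_{i,j} a_i a_j (I_i·I_j) < 0 for every nonzero integer vector a, where (A·B) =
χ(O_X) − χ(A) − χ(B) + χ(A ⊗ B)), let F be an effective Cartier divisor on X, with ideal I_F, none
of whose components is a C_i, and let s_1, …, s_r be integers such that the divisor class F + Σ_i
s_i C_i is orthogonal to every C_j, that is (F·C_j) + Σ_i s_i (C_i·C_j) = 0, written here as
deg(I_F|_{C_j}) = χ(O_{C_j} ⊗ I_F) − χ(O_{C_j}) = Σ_i s_i (I_i·I_j) for every j. Then all the s_i
are nonnegative. The published statement allows real coefficients s_i; this row takes integer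
coefficients. Its second assertion, that s_i > 0 on every connected group of the C_i one of which
meets F positively, is not restated. -/
theorem result (k : Type u) [Field k] [IsAlgClosed k] [CharZero k]
    (X : Scheme.{u}) [X.Over (Spec (CommRingCat.of k))] [IsProper (X ↘ (Spec (CommRingCat.of k)))]
    [Smooth (X ↘ (Spec (CommRingCat.of k)))] [IsIntegral X] (hdim : topologicalKrullDim X = 2)
    (hproj : ∃ H : X.Modules, CohB1.IsAmple H)
    (r : ℕ) (C : Fin r → X.IdealSheafData) (hC : Function.Injective C)
    (hCi : ∀ i, IsIntegral (C i).subscheme) (hCd : ∀ i, topologicalKrullDim ((C i).support : Set X) = 1)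
    (hneg : ∀ a : Fin r → ℤ, a ≠ 0 →
      ∑ i, ∑ j, a i * a j * FGA.intNum k X 2 ![(ClSub.idealMod (C i)), (ClSub.idealMod (C j))] (Coh.structureModule X) < 0)
    (F : X.IdealSheafData) (hF : FGA.IsEffCartier F) (hFC : ∀ i, ¬ ((C i).support : Set X) ⊆ (F.support : Set X))
    (s : Fin r → ℤ)
    (horth : ∀ j, Curv2.euler k X (CohB1.tensorMod (ClSub.quotMod (C j)) (ClSub.idealMod F)) - Curv2.euler k X (ClSub.quotMod (C j)) =
      ∑ i, s i * FGA.intNum k X 2 ![(ClSub.idealMod (C i)), (ClSub.idealMod (C j))] (Coh.structureModule X)) :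
    ∀ i, 0 ≤ s i := by
  classical
  have hX : topologicalKrullDim X = ((2 : ℕ) : WithBot ℕ∞) := by rw [hdim]; rfl
  have hCd' : ∀ i, topologicalKrullDim ((C i).support : Set X) = ((1 : ℕ) : WithBot ℕ∞) := hCd
  have hreg : ∀ x : X, IsRegularLocalRing (X.presheaf.stalk x) := fun x =>
    Groth.Agent.VarietyLib.isRegularLocalRing_stalk_of_smooth k X (X ↘ Spec (CommRingCat.of k)) x
  have hCe : ∀ i, BlowUp.IsEffCartierIdeal (C i) := fun i =>
    haveI := hCi i
    Groth.Agent.Surf15.isEffCartier_curve k hX hreg (C i) (hCd' i)
  let c := fun i => Groth.Agent.Surf15.clI' (C i) (hCe i)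
  have hG : ∀ i j, FGA.intNum k X 2 ![(ClSub.idealMod (C i)), (ClSub.idealMod (C j))]
      (Coh.structureModule X) = Groth.Agent.Surf15.B k (c i) (c j) := fun i j =>
    Groth.Agent.Surf15.intNum_eq_B k hX.le _ _
  simp only [hG] at hneg horth
  have hFd : ∀ j, ∑ i, s i * Groth.Agent.Surf15.B k (c i) (c j) ≤ 0 := fun j => by
    haveI := hCi j
    rw [← horth j]
    have hI := Groth.Agent.FlatMor12.IdealModGen.isInvertible_idealMod F hF
    rw [← Groth.Agent.Surf15.deg_mk k (ClSub.quotMod (C j)) hI, Groth.Agent.Surf15.deg_quotMod k (hCe j)]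
    have := Groth.Agent.Surf15.B_clI'_nonneg k hX.le (Groth.Agent.Surf15.blowUp_of_fga hF) (hCe j)
      (hCd' j) (hFC j)
    exact neg_nonpos.2 this
  refine Groth.Agent.Surf15.neg_part_spec k hX.le C hC hCi hCd' hCe hneg s ?_
  exact Finset.sum_nonpos fun j _ => mul_nonpos_of_nonneg_of_nonpos (le_max_right _ _) (hFd j)

end Groth.Agent.S18462
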