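import Groth.Statements.S18463
import Groth.Agent.Surf15.Config
import Groth.Agent.VarietyLib.SmoothStalk
-- import your own Groth.Agent.* helpers here

set_option autoImplicit false
universe u
open CategoryTheory CategoryTheory.Limits AlgebraicGeometry TopologicalSpace
open Surf

namespace Groth.Agent.S18463

/-- Let k be an algebraically closed field of characteristic zero and X a smooth projective surface over
k (integral, proper and smooth over k, of dimension 2, carrying an ample invertible module). Let
C_1, …, C_r be pairwise distinct integral curves on X with ideal sheaves I_i and negative definite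
intersection matrix (Σ_{i,j} a_i a_j (I_i·I_j) < 0 for every nonzero integer vector a, where (A·B) =
χ(O_X) − χ(A) − χ(B) + χ(A ⊗ B)), let F be an effective Cartier divisor on X, with ideal I_F, none
of whose components is a C_i, and let s_1, …, s_r be integers such that F is numerically equivalent
to Σ_i s_i C_i: (I_F·M) = Σ_i s_i (I_i·M) for every invertible O_X-module M (equivalently (F·D) = Σ
s_i (C_i·D) for every divisor D). Then F = 0, i.e. I_F = O_X, and every s_i is 0. The published
statement writes the hypothesis as [F] + Σ s_i[C_i] = 0 with real s_i; this row writes F ≡ Σ s_i C_i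
with integer s_i, which is the same after changing the signs of the s_i. -/
theorem result (k : Type u) [Field k] [IsAlgClosed k] [CharZero k]
    (X : Scheme.{u}) [X.Over (Spec (CommRingCat.of k))] [IsProper (X ↘ (Spec (CommRingCat.of k)))]
    [Smooth (X ↘ (Spec (CommRingCat.of k)))] [IsIntegral X] (hdim : topologicalKrullDim X = 2)
    (hproj : ∃ H : X.Modules, CohB1.IsAmple H)
    (r : ℕ) (C : Fin r → X.IdealSheafData) (hC : Function.Injective C)
    (hCi : ∀ i, IsIntegral (C i).subscheme) (hCd : ∀ i, topologicalKrullDim ((C i).support : Set X) = 1)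
    (hneg : ∀ a : Fin r → ℤ, a ≠ 0 →
      ∑ i, ∑ j, a i * a j * FGA.intNum k X 2 ![(ClSub.idealMod (C i)), (ClSub.idealMod (C j))] (Coh.structureModule X) < 0)
    (F : X.IdealSheafData) (hF : FGA.IsEffCartier F) (hFC : ∀ i, ¬ ((C i).support : Set X) ⊆ (F.support : Set X))
    (s : Fin r → ℤ)
    (hnum : ∀ M : X.Modules, PicF.IsInvertible M →
      FGA.intNum k X 2 ![(ClSub.idealMod F), M] (Coh.structureModule X) =
        ∑ i, s i * FGA.intNum k X 2 ![(ClSub.idealMod (C i)), M] (Coh.structureModule X)) :
    F = ⊤ ∧ ∀ i, s i = 0 := by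
  classical
  have hX : topologicalKrullDim X = ((2 : ℕ) : WithBot ℕ∞) := by rw [hdim]; rfl
  obtain ⟨H, hH⟩ := hproj
  have hCd' : ∀ i, topologicalKrullDim ((C i).support : Set X) = ((1 : ℕ) : WithBot ℕ∞) := hCd
  have hreg : ∀ x : X, IsRegularLocalRing (X.presheaf.stalk x) := fun x =>
    Groth.Agent.VarietyLib.isRegularLocalRing_stalk_of_smooth k X (X ↘ Spec (CommRingCat.of k)) x
  have hCe : ∀ i, BlowUp.IsEffCartierIdeal (C i) := fun i =>
    haveI := hCi i
    Groth.Agent.Surf15.isEffCartier_curve k hX hreg (C i) (hCd' i)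
  let c := fun i => Groth.Agent.Surf15.clI' (C i) (hCe i)
  let f := Groth.Agent.Surf15.clI' F hF
  have hG : ∀ i j, FGA.intNum k X 2 ![(ClSub.idealMod (C i)), (ClSub.idealMod (C j))]
      (Coh.structureModule X) = Groth.Agent.Surf15.B k (c i) (c j) := fun i j =>
    Groth.Agent.Surf15.intNum_eq_B k hX.le _ _
  simp only [hG] at hneg
  have hnum' : ∀ d, Groth.Agent.Surf15.B k f d = ∑ i, s i * Groth.Agent.Surf15.B k (c i) d := fun d => by
    obtain ⟨M, hM, rfl⟩ := Groth.Agent.EulerLib.InvCl.exists_rep d
    have h := hnum M hM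
    rw [Groth.Agent.Surf15.intNum_eq_B k hX.le (Groth.Agent.FlatMor12.IdealModGen.isInvertible_idealMod F hF) hM] at h
    refine h.trans (Finset.sum_congr rfl fun i _ => ?_)
    rw [Groth.Agent.Surf15.intNum_eq_B k hX.le (Groth.Agent.FlatMor12.IdealModGen.isInvertible_idealMod _ (hCe i)) hM]
    rfl
  have hFd : ∀ j, 0 ≤ Groth.Agent.Surf15.B k f (c j) := fun j => by
    haveI := hCi j
    rw [Groth.Agent.Surf15.B_comm k]
    exact Groth.Agent.Surf15.B_clI'_nonneg k hX.le (Groth.Agent.Surf15.blowUp_of_fga hF) (hCe j) (hCd' j) (hFC j)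
  -- no positive coefficient
  have hle := Groth.Agent.Surf15.neg_part_spec k hX.le C hC hCi hCd' hCe hneg (fun i => -s i) (by
    refine Finset.sum_nonpos fun j _ => mul_nonpos_of_nonneg_of_nonpos (le_max_right _ _) ?_
    have h := hFd j
    rw [hnum'] at h
    simpa [neg_mul, Finset.sum_neg_distrib] using h)
  have hneg' : ∀ i, Groth.Agent.Surf15.B k (c i) (Groth.Agent.EulerLib.InvCl.mk H hH.1) < 0 := fun i =>
    haveI := hCi i
    Groth.Agent.Surf15.B_curve_ample_neg k (C i) (hCd' i) (hCe i) hH
  have hge : 0 ≤ Groth.Agent.Surf15.B k f (Groth.Agent.EulerLib.InvCl.mk H hH.1) := by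
    rw [hnum']
    exact Finset.sum_nonneg fun i _ => mul_nonneg_of_nonpos_of_nonpos (by have := hle i; omega) (hneg' i).le
  have hF1 : F = ⊤ := by
    by_contra hne
    exact absurd hge (not_le.2 (Groth.Agent.Surf15.B_clI'_ample_neg k hX hF hne hH))
  refine ⟨hF1, fun i => ?_⟩
  by_contra hsi
  have hQ := hneg s fun h0 => hsi (congrFun h0 i)
  have hf0 : ∀ d, Groth.Agent.Surf15.B k f d = 0 := fun d => by
    obtain ⟨e⟩ := Groth.Agent.Inters29.nonempty_iso_of_principal F 1 fun U => by
      rw [hF1, map_one, Ideal.span_singleton_one, Scheme.IdealSheafData.ideal_top, Pi.top_apply]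
      exact ⟨rfl, Submonoid.one_mem _⟩
    show Groth.Agent.Surf15.B k (Groth.Agent.EulerLib.InvCl.mk (ClSub.idealMod F)
      (Groth.Agent.FlatMor12.IdealModGen.isInvertible_idealMod F hF)) d = 0
    rw [Groth.Agent.EulerLib.InvCl.mk_eq _ Groth.Agent.AmpleLib.isInvertible_structureModule e]
    exact Groth.Agent.Surf15.B_one_left k hX.le d
  have hz : ∑ i, ∑ j, s i * s j * Groth.Agent.Surf15.B k (c i) (c j) = 0 := by
    rw [Finset.sum_comm]
    refine Finset.sum_eq_zero fun j _ => ?_
    have h := (hnum' (c j)).symm.trans (hf0 (c j))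
    have : ∑ i, s i * s j * Groth.Agent.Surf15.B k (c i) (c j) =
        s j * ∑ i, s i * Groth.Agent.Surf15.B k (c i) (c j) := by
      rw [Finset.mul_sum]
      exact Finset.sum_congr rfl fun i _ => by ring
    rw [this, h, mul_zero]
  omega

end Groth.Agent.S18463
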