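import Groth.Statements.S18464
import Groth.Agent.CommAlg4.HilbertLower
-- import your own Groth.Agent.* helpers here

set_option autoImplicit false
universe u
open CategoryTheory CategoryTheory.Limits AlgebraicGeometry
open LefPen

namespace Groth.Agent.S18464

/-- Let k be an infinite field, r a natural number, d ≥ 1 an integer, and m ≥ C(r+d, d), the number of
monomials of degree d in r+1 variables. In the space of m-tuples of vectors of k^(r+1) (homogeneous
coordinate vectors of m points of projective r-space; a zero vector is allowed and imposes no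
condition), the tuples such that the only form of degree d vanishing at all of them is the zero form
make up a Zariski-open subset which contains the non-vanishing locus of a not identically zero
polynomial function, so a dense open subset. (The published statement is the openness and density of
the corresponding locus in the m-fold product of projective r-space over the ground field; here the
ground field is any infinite field and the statement is made on coordinate vectors.) -/
theorem result (k : Type u) [Field k] [Infinite k]
    (r d m : ℕ) (hd : 1 ≤ d) (hm : Nat.choose (r + d) d ≤ m) :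
    LefPen.IsZOpen k {x : Fin m → (Fin (r + 1) → k) |
      ∀ G : LefPen.Form r k d, (∀ i : Fin m, MvPolynomial.aeval (x i) G.1 = 0) → G = 0} ∧
    LefPen.IsGeneric k {x : Fin m → (Fin (r + 1) → k) |
      ∀ G : LefPen.Form r k d, (∀ i : Fin m, MvPolynomial.aeval (x i) G.1 = 0) → G = 0} := by
  classical
  haveI : FiniteDimensional k (LefPen.Form r k d) := by
    have : Module.finrank k (LefPen.Form r k d) = (r + 1 + d - 1).choose d := Groth.Agent.CommAlg4.finrank_homogeneous_fin k (r + 1) d
    exact Module.finite_of_finrank_pos (this ▸ Nat.choose_pos (by omega))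
  have hdimF : Module.finrank k (LefPen.Form r k d) ≤ m := by
    refine le_of_eq_of_le (Groth.Agent.CommAlg4.finrank_homogeneous_fin k (r + 1) d) ?_
    rwa [show r + 1 + d - 1 = r + d by omega]
  let ev : (Fin m → (Fin (r + 1) → k)) → (LefPen.Form r k d →ₗ[k] (Fin m → k)) := fun x =>
    LinearMap.pi fun i => (MvPolynomial.aeval (x i)).toLinearMap.comp (Submodule.subtype _)
  have hmem : ∀ x, x ∈ {x : Fin m → (Fin (r + 1) → k) |
      ∀ G : LefPen.Form r k d, (∀ i : Fin m, MvPolynomial.aeval (x i) G.1 = 0) → G = 0} ↔ Function.Injective (ev x) := by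
    intro x
    rw [injective_iff_map_eq_zero]
    constructor
    · intro h G hG; exact h G fun i => congrFun hG i
    · intro h G hG; exact h G (funext hG)
  -- polynomial functions
  let P : Subalgebra k ((Fin m → (Fin (r + 1) → k)) → k) :=
    Algebra.adjoin k (Set.range (fun l : Module.Dual k (Fin m → (Fin (r + 1) → k)) => (l : (Fin m → (Fin (r + 1) → k)) → k)))
  have hentry : ∀ (G : MvPolynomial (Fin (r + 1)) k) (i : Fin m), (fun x : Fin m → (Fin (r + 1) → k) => MvPolynomial.aeval (x i) G) ∈ P := by
    intro G i
    induction G using MvPolynomial.induction_on with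
    | C a =>
      have : (fun x : Fin m → (Fin (r + 1) → k) => MvPolynomial.aeval (x i) (MvPolynomial.C a : MvPolynomial (Fin (r + 1)) k)) = algebraMap k _ a := by
        funext x; simp
      rw [this]; exact P.algebraMap_mem a
    | add p q hp hq => simp only [map_add]; exact P.add_mem hp hq
    | mul_X p j hp =>
      simp only [map_mul, MvPolynomial.aeval_X]
      exact P.mul_mem hp (Algebra.subset_adjoin ⟨(LinearMap.proj (φ := fun _ : Fin (r + 1) => k) (R := k) j).comp (LinearMap.proj (φ := fun _ : Fin m => Fin (r + 1) → k) (R := k) i), rfl⟩)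
  let bF := Module.finBasis k (LefPen.Form r k d)
  have key : ∀ v, Function.Injective (ev v) → ∃ f : (Fin m → (Fin (r + 1) → k)) → k,
      LefPen.IsPolyFun k f ∧ f v ≠ 0 ∧ ∀ w, f w ≠ 0 → Function.Injective (ev w) := by
    intro v hv
    obtain ⟨L, hL⟩ := (ev v).exists_leftInverse_of_injective (LinearMap.ker_eq_bot.2 hv)
    refine ⟨fun w => (LinearMap.toMatrix bF bF (L ∘ₗ ev w)).det, ?_, ?_, ?_⟩
    · show _ ∈ P
      have hM : ∀ a b, (fun w => LinearMap.toMatrix bF bF (L ∘ₗ ev w) a b) ∈ P := by
        intro a b
        have : (fun w => LinearMap.toMatrix bF bF (L ∘ₗ ev w) a b) =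
            ∑ i, (bF.repr (L (Pi.single i 1)) a) • (fun w : Fin m → (Fin (r + 1) → k) => MvPolynomial.aeval (w i) (bF b).1) := by
          funext w
          rw [LinearMap.toMatrix_apply, LinearMap.comp_apply]
          have hLp : L (ev w (bF b)) = ∑ i, (ev w (bF b) i) • L (Pi.single i 1) := by
            conv_lhs => rw [pi_eq_sum_univ' (ev w (bF b)), map_sum]
            simp only [map_smul]
          rw [hLp, map_sum, Finsupp.finsetSum_apply, Finset.sum_apply]
          refine Finset.sum_congr rfl fun i _ => ?_
          rw [map_smul, Finsupp.smul_apply, smul_eq_mul, Pi.smul_apply, smul_eq_mul]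
          exact mul_comm _ _
        rw [this]
        exact P.sum_mem fun i _ => P.smul_mem (hentry _ i) _
      let M : Matrix (Fin _) (Fin _) P := fun a b => ⟨_, hM a b⟩
      have : (fun w => (LinearMap.toMatrix bF bF (L ∘ₗ ev w)).det) = (M.det : P).1 := by
        funext w
        exact ((((Pi.evalAlgHom k (fun _ : Fin m → (Fin (r + 1) → k) => k) w).comp P.val).map_det M).trans rfl).symm
      rw [this]; exact (M.det).2
    · show (LinearMap.toMatrix bF bF (L ∘ₗ ev v)).det ≠ 0
      rw [hL, LinearMap.toMatrix_id, Matrix.det_one]
      exact one_ne_zero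
    · intro w hw
      have hdet : IsUnit (LinearMap.det (L ∘ₗ ev w)) := isUnit_iff_ne_zero.2 (by rw [← LinearMap.det_toMatrix bF]; exact hw)
      have hb : IsUnit (L ∘ₗ ev w) := (LinearMap.isUnit_iff_isUnit_det _).2 hdet
      exact Function.Injective.of_comp (f := L) ((Module.End.isUnit_iff _).1 hb).1
  -- some tuple works
  obtain ⟨v, hv⟩ : ∃ v, Function.Injective (ev v) := by
    let φ : (Fin (r + 1) → k) → Module.Dual k (LefPen.Form r k d) := fun p =>
      (MvPolynomial.aeval p).toLinearMap.comp (Submodule.subtype _)
    obtain ⟨t, htsub, htspan, htli⟩ := exists_linearIndependent k (Set.range φ)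
    haveI : Fintype t := (LinearIndependent.setFinite htli).fintype
    have hcard : Fintype.card t ≤ m := (htli.fintype_card_le_finrank).trans (Subspace.dual_finrank_eq.le.trans hdimF)
    choose p hp using fun a : t => htsub a.2
    obtain ⟨emb⟩ := Function.Embedding.nonempty_of_card_le (α := t) (β := Fin m) (by rwa [Fintype.card_fin])
    refine ⟨Function.extend emb p 0, ?_⟩
    rw [injective_iff_map_eq_zero]
    intro G hG
    have hall : ∀ l ∈ Submodule.span k t, (l : Module.Dual k (LefPen.Form r k d)) G = 0 := by
      intro l hl
      induction hl using Submodule.span_induction with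
      | mem l hl =>
        have := congrFun hG (emb ⟨l, hl⟩)
        simp only [ev, LinearMap.pi_apply, emb.injective.extend_apply] at this
        rw [show l = φ (p ⟨l, hl⟩) from (hp ⟨l, hl⟩).symm]
        exact this
      | zero => rfl
      | add a b _ _ ha hb => rw [LinearMap.add_apply, ha, hb, add_zero]
      | smul a b _ hb => rw [LinearMap.smul_apply, hb, smul_zero]
    refine Subtype.ext (MvPolynomial.funext fun q => ?_)
    have := hall (φ q) (htspan ▸ Submodule.subset_span ⟨q, rfl⟩)
    simpa [φ] using this
  constructor
  · intro x hx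
    obtain ⟨f, hf, hfx, hfw⟩ := key x ((hmem x).1 hx)
    exact ⟨f, hf, hfx, fun w hw => (hmem w).2 (hfw w hw)⟩
  · obtain ⟨f, hf, hfx, hfw⟩ := key v hv
    exact ⟨f, hf, ⟨v, hfx⟩, fun w hw => (hmem w).2 (hfw w hw)⟩

end Groth.Agent.S18464
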