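import Groth.Statements.S18465
import Mathlib

set_option linter.all false

set_option autoImplicit false
universe u v w x
open WildLef

open TensorProduct

namespace Groth.Agent.S18465

/-- Let f : G₁ → G₂ be a homomorphism of groups, ρ : G₂ → Γ a homomorphism with finite image G, and A a
nontrivial commutative ring. Let G₂ act on the group algebra A[G] through ρ followed by the left
regular representation, and G₁ through f. If the elements of A[G] fixed by G₁ coincide with those
fixed by G₂, then ρ ∘ f and ρ have the same image. (The published statement has Γ a general linear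
group GL_r(A); over the zero ring that group is trivial, so requiring A nontrivial and allowing any
target group loses nothing.) -/
theorem result
    {G₁ : Type u} {G₂ : Type v} {Γ : Type w} [Group G₁] [Group G₂] [Group Γ]
    (f : G₁ →* G₂) (ρ : G₂ →* Γ) [Finite ρ.range] (A : Type x) [CommRing A] [Nontrivial A]
    (h : {x : MonoidAlgebra A ρ.range | ∀ g : G₁, MonoidAlgebra.of A ρ.range (ρ.rangeRestrict (f g)) * x = x} =
      {x : MonoidAlgebra A ρ.range | ∀ g : G₂, MonoidAlgebra.of A ρ.range (ρ.rangeRestrict g) * x = x}) :
    (ρ.comp f).range = ρ.range := by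
  classical
  haveI := Fintype.ofFinite ρ.range
  refine le_antisymm (by rw [MonoidHom.range_comp]; exact Subgroup.map_le_range _ _) ?_
  let H : Subgroup ρ.range := (ρ.rangeRestrict.comp f).range
  let xH : MonoidAlgebra A ρ.range := ∑ z ∈ Finset.univ.filter (fun z => z ∈ H), MonoidAlgebra.of A ρ.range z
  have hx : ∀ g : G₁, MonoidAlgebra.of A ρ.range (ρ.rangeRestrict (f g)) * xH = xH := by
    intro g
    simp only [xH, Finset.mul_sum, ← map_mul]
    refine Finset.sum_equiv (Equiv.mulLeft (ρ.rangeRestrict (f g))) (fun z => ?_) (fun z _ => rfl)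
    simp only [Finset.mem_filter, Finset.mem_univ, true_and, Equiv.coe_mulLeft]
    exact (H.mul_mem_cancel_left ⟨g, rfl⟩).symm
  rintro _ ⟨g, rfl⟩
  have hfix := (Set.ext_iff.1 h xH).1 hx g
  have hc := congrArg (fun z : MonoidAlgebra A ρ.range => z.coeff (ρ.rangeRestrict g)) hfix
  simp only [xH, Finset.mul_sum, ← map_mul, MonoidAlgebra.coeff_sum, Finsupp.finsetSum_apply, MonoidAlgebra.of_apply,
    MonoidAlgebra.single_mul_single, one_mul, MonoidAlgebra.coeff_single, Finsupp.single_apply, mul_eq_left, Finset.sum_ite_eq', Finset.mem_filter, Finset.mem_univ, true_and,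
    H.one_mem, if_true] at hc
  by_cases hH : ρ.rangeRestrict g ∈ H
  · obtain ⟨g1, hg1⟩ := hH
    exact ⟨g1, congrArg Subtype.val hg1⟩
  · rw [if_neg hH] at hc
    exact absurd hc one_ne_zero

end Groth.Agent.S18465
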