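import Groth.Statements.S18466
import Groth.Agent.HopfQuot.AlphaPCalc
import Mathlib.RingTheory.RootsOfUnity.PrimitiveRoots
import Mathlib.LinearAlgebra.LinearIndependent.Defs
import Mathlib.FieldTheory.LinearDisjoint

set_option autoImplicit false
universe u
open Hopf

namespace Groth.Agent.S18466
open TensorProduct

/-- Let k be a field and n ≥ 1. The constant group scheme ℤ/n over k is self-dual, that is, isomorphic
to its Cartier dual μ_n — equivalently the Hopf algebra of k-valued functions on the cyclic group of
order n and the group algebra of that group over k (group elements group-like) are isomorphic as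
bialgebras — precisely when the field k has a primitive n-th root of unity, i.e. k contains n
distinct n-th roots of unity in k. (The published statement assumes that the characteristic of k
does not divide n; both directions hold without that assumption by the same argument, since a
primitive n-th root of unity forces n to be nonzero in k, so it is omitted here.) -/
theorem result
    (k : Type u) [Field k] (n : ℕ) [NeZero n] :
    Nonempty (ConstGrp.F k (Multiplicative (ZMod n)) ≃ₐc[k] MonoidAlgebra k (Multiplicative (ZMod n))) ↔
      ∃ ζ : k, IsPrimitiveRoot ζ n := by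
  constructor
  · rintro ⟨e⟩
    let g : Multiplicative (ZMod n) := Multiplicative.ofAdd 1
    let f : ConstGrp.F k (Multiplicative (ZMod n)) := e.symm (MonoidAlgebra.single g 1)
    have hf : Coalgebra.comul (R := k) f = f ⊗ₜ[k] f := by
      rw [← CoalgHomClass.map_comp_comul_apply e.symm, MonoidAlgebra.comul_single, CommSemiring.comul_apply]
      simp [f]
    have hmul : ∀ a b, f (a * b) = f a * f b := fun a b => by
      rw [← ConstGrp.pair_comul k _ f a b, hf, ConstGrp.pair_tmul]
    have hf1 : f 1 = 1 := by
      show Coalgebra.counit (R := k) f = 1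
      rw [CoalgHomClass.counit_comp_apply e.symm, MonoidAlgebra.counit_single]
      simp
    let φ : Multiplicative (ZMod n) →* k := { toFun := f, map_one' := hf1, map_mul' := hmul }
    have hg : ∀ a : Multiplicative (ZMod n), a = g ^ (Multiplicative.toAdd a).val := fun a => by
      apply Multiplicative.toAdd.injective
      rw [toAdd_pow]
      simp [g, nsmul_eq_mul]
    refine ⟨φ g, IsPrimitiveRoot.mk_of_lt _ (NeZero.pos n) ?_ fun j hj0 hjn hcon => ?_⟩
    · rw [← map_pow]
      have : g ^ n = 1 := by
        apply Multiplicative.toAdd.injective
        rw [toAdd_pow]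
        simp [g, nsmul_eq_mul]
      rw [this, map_one]
    have hfj : f ^ j = 1 := by
      refine ConstGrp.ext fun a => ?_
      have hpow : ∀ m, (f ^ m) a = f a ^ m := fun m => by
        induction m with
        | zero => simp
        | succ m ih => rw [pow_succ, ConstGrp.mul_apply, ih, pow_succ]
      rw [hpow, ConstGrp.one_apply, show f a = φ a from rfl, hg a, map_pow, ← pow_mul, mul_comm, pow_mul, hcon, one_pow]
    have h1 := congrArg e hfj
    rw [map_pow, map_one, show e f = MonoidAlgebra.single g 1 from e.toAlgEquiv.apply_symm_apply _,
      MonoidAlgebra.single_pow, one_pow, MonoidAlgebra.one_def] at h1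
    have h2 : g ^ j = 1 := MonoidAlgebra.of_injective (R := k) h1
    have h3 := congrArg Multiplicative.toAdd h2
    rw [toAdd_pow, toAdd_one, nsmul_eq_mul] at h3
    simp only [g, toAdd_ofAdd, mul_one] at h3
    have := Nat.le_of_dvd hj0 ((ZMod.natCast_eq_zero_iff _ _).1 h3)
    omega
  · rintro ⟨ζ, hζ⟩
    let χ : Multiplicative (ZMod n) → Multiplicative (ZMod n) → k :=
      fun a b => ζ ^ ((Multiplicative.toAdd a).val * (Multiplicative.toAdd b).val)
    have hp : ∀ (m : ℕ), ζ ^ (m % n) = ζ ^ m := fun m => by
      conv_rhs => rw [← Nat.mod_add_div m n, pow_add, pow_mul, hζ.pow_eq_one, one_pow, mul_one]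
    have hadd : ∀ a b c, χ a (b * c) = χ a b * χ a c := fun a b c => by
      simp only [χ, toAdd_mul, ZMod.val_add, pow_mul]
      rw [← pow_add, ← pow_mul, ← pow_mul, ← hp, Nat.mul_mod, Nat.mod_mod, ← Nat.mul_mod, hp]
    have hsymm : ∀ a b, χ a b = χ b a := fun a b => by simp only [χ, mul_comm]
    let M : Multiplicative (ZMod n) →* ConstGrp.F k (Multiplicative (ZMod n)) :=
      { toFun := fun a => χ a
        map_one' := ConstGrp.ext fun b => by simp [χ]
        map_mul' := fun a a' => ConstGrp.ext fun b => by
          rw [ConstGrp.mul_apply, hsymm, hadd, hsymm b a, hsymm b a'] }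
    let j := MonoidAlgebra.lift k (ConstGrp.F k (Multiplicative (ZMod n))) (Multiplicative (ZMod n)) M
    have hj : ∀ a, j (MonoidAlgebra.single a 1) = M a := fun a => by simp [j]
    have hε : (Bialgebra.counitAlgHom k _).comp j = Bialgebra.counitAlgHom k _ := by
      refine MonoidAlgebra.algHom_ext (fun a => ?_) (Subsingleton.elim _ _)
      show Coalgebra.counit (R := k) (j (MonoidAlgebra.single a 1)) = Coalgebra.counit (R := k) (MonoidAlgebra.single a (1 : k))
      rw [hj, MonoidAlgebra.counit_single, ConstGrp.counit_apply]
      simp [M, χ]
    have hΔ : (Algebra.TensorProduct.map j j).comp (Bialgebra.comulAlgHom k _) = (Bialgebra.comulAlgHom k _).comp j := by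
      have hpair : Function.Injective (ConstGrp.pair k (Multiplicative (ZMod n))) := by
        refine Function.LeftInverse.injective (g := fun w : ConstGrp.F k (Multiplicative (ZMod n) × Multiplicative (ZMod n)) =>
          ∑ a, ∑ b, w (a, b) • (ConstGrp.e k a ⊗ₜ[k] ConstGrp.e k b)) fun z => ?_
        induction z using TensorProduct.induction_on with
        | zero => simp
        | add x y hx hy =>
          simp only [map_add, ConstGrp.add_apply, add_smul, Finset.sum_add_distrib, hx, hy]
        | tmul u v =>
          simp only [ConstGrp.pair_tmul]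
          conv_rhs => rw [ConstGrp.eq_sum_smul_e u, ConstGrp.eq_sum_smul_e v, TensorProduct.sum_tmul]
          simp only [TensorProduct.tmul_sum, TensorProduct.smul_tmul_smul]
      refine MonoidAlgebra.algHom_ext (fun g => hpair (ConstGrp.ext fun ⟨a, b⟩ => ?_)) (Subsingleton.elim _ _)
      show ConstGrp.pair k _ (Algebra.TensorProduct.map j j (Coalgebra.comul (R := k) (MonoidAlgebra.single g (1 : k)))) (a, b) =
        ConstGrp.pair k _ (Coalgebra.comul (R := k) (j (MonoidAlgebra.single g 1))) (a, b)
      rw [ConstGrp.pair_comul, MonoidAlgebra.comul_single]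
      simp only [CommSemiring.comul_apply, TensorProduct.map_tmul, MonoidAlgebra.lsingle_apply,
        Algebra.TensorProduct.map_tmul, hj, ConstGrp.pair_tmul]
      exact (hadd g a b).symm
    have hval : ∀ a : Multiplicative (ZMod n), χ a (Multiplicative.ofAdd 1) = ζ ^ (Multiplicative.toAdd a).val := fun a => by
      simp only [χ, toAdd_ofAdd]
      rcases eq_or_ne n 1 with rfl | hn
      · simp [Subsingleton.elim (1 : ZMod 1) 0, Subsingleton.elim (Multiplicative.toAdd a) 0]
      · haveI : Fact (1 < n) := ⟨by have := NeZero.pos n; omega⟩
        rw [ZMod.val_one, mul_one]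
    have hinj : Function.Injective j := by
      have hli : LinearIndependent k (fun a : Multiplicative (ZMod n) => (M a : Multiplicative (ZMod n) → k)) := by
        let ch : Multiplicative (ZMod n) → (Multiplicative (ZMod n) →* k) := fun a =>
          { toFun := χ a, map_one' := by simp [χ], map_mul' := hadd a }
        have hch : Function.Injective ch := fun a a' h => by
          have h' : χ a (Multiplicative.ofAdd 1) = χ a' (Multiplicative.ofAdd 1) :=
            DFunLike.congr_fun h (Multiplicative.ofAdd 1)
          rw [hval, hval] at h'
          exact Multiplicative.toAdd.injective (ZMod.val_injective n (hζ.pow_inj (ZMod.val_lt _) (ZMod.val_lt _) h'))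
        exact (linearIndependent_monoidHom (Multiplicative (ZMod n)) k).comp ch hch
      have hker : LinearMap.ker j.toLinearMap = ⊥ := by
        rw [LinearMap.ker_eq_bot']
        intro x hx
        have hx' : (MonoidAlgebra.basis (Multiplicative (ZMod n)) k).repr x = 0 := by
          have hsum := (MonoidAlgebra.basis (Multiplicative (ZMod n)) k).sum_repr x
          rw [← hsum, map_sum] at hx
          refine Finsupp.ext fun a => ?_
          refine Fintype.linearIndependent_iff.1 hli (fun a => (MonoidAlgebra.basis (Multiplicative (ZMod n)) k).repr x a) ?_ a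
          refine Eq.trans ?_ hx
          refine Finset.sum_congr rfl fun b _ => ?_
          rw [map_smul, MonoidAlgebra.basis_apply]
          exact congrArg _ (hj b).symm
        exact (MonoidAlgebra.basis (Multiplicative (ZMod n)) k).repr.injective (hx'.trans (map_zero _).symm)
      exact LinearMap.ker_eq_bot.1 hker
    haveI : Module.Finite k (MonoidAlgebra k (Multiplicative (ZMod n))) :=
      Module.Finite.of_basis (MonoidAlgebra.basis (Multiplicative (ZMod n)) k)
    have hrank : Module.finrank k (MonoidAlgebra k (Multiplicative (ZMod n))) =
        Module.finrank k (ConstGrp.F k (Multiplicative (ZMod n))) :=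
      (Module.finrank_eq_card_basis (MonoidAlgebra.basis (Multiplicative (ZMod n)) k)).trans
        (Module.finrank_eq_card_basis (ConstGrp.basis k (Multiplicative (ZMod n)))).symm
    have hsurj : Function.Surjective j :=
      (LinearMap.injective_iff_surjective_of_finrank_eq_finrank hrank (f := j.toLinearMap)).1 hinj
    exact ⟨(BialgEquiv.ofBijective (BialgHom.ofAlgHom j hε hΔ) ⟨hinj, hsurj⟩).symm⟩

end Groth.Agent.S18466
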