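import Groth.Statements.S18467
import Mathlib.RingTheory.IntegralDomain
import Mathlib.FieldTheory.Finite.Basic
import Mathlib.Algebra.Ring.GeomSum
import Mathlib.Tactic

set_option autoImplicit false
universe u
open Hopf

namespace Groth.Agent.S18467

/-- Let p be a prime and R a commutative ring containing an element u with u(p − 1) = 1, and let χ be a
homomorphism from the group of units of ℤ/p to the group of units of R such that χ(m) − 1 is a unit
of R for every m ≠ 1. For 0 ≤ i < p − 1 put e_i = u · Σ_m χ(m)^{−i} [m] in the group algebra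
R[(ℤ/p)ˣ]. Then the e_i are idempotents, e_i e_j = 0 for i ≠ j, and Σ_i e_i = 1. (The published
statement is for algebras over the subring of the p-adic integers generated over ℤ by the values of
the Teichmüller character χ and by 1/(p(p − 1)); the hypotheses on R and χ here are the properties
of that situation which the computation uses, so the row is stated for every such pair.) -/
theorem result
    (p : ℕ) [Fact p.Prime] (R : Type u) [CommRing R] (u : R) (hu : u * ((p - 1 : ℕ) : R) = 1)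
    (χ : (ZMod p)ˣ →* Rˣ) (hχ : ∀ m : (ZMod p)ˣ, m ≠ 1 → IsUnit ((χ m : R) - 1)) :
    CompleteOrthogonalIdempotents (fun i : Fin (p - 1) =>
      u • ∑ m : (ZMod p)ˣ, ((χ m⁻¹ : Rˣ) : R) ^ (i : ℕ) • MonoidAlgebra.of R (ZMod p)ˣ m) := by
  classical
  have hcard : Fintype.card (ZMod p)ˣ = p - 1 := ZMod.card_units p
  obtain ⟨g, hg⟩ := IsCyclic.exists_generator (α := (ZMod p)ˣ)
  have horder : orderOf g = p - 1 := by
    rw [orderOf_eq_card_of_forall_mem_zpowers hg, Nat.card_eq_fintype_card, hcard]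
  -- character sums
  have hsum : ∀ i j : Fin (p - 1), (∑ m : (ZMod p)ˣ, ((χ m⁻¹ : Rˣ) : R) ^ (i : ℕ) * ((χ m : Rˣ) : R) ^ (j : ℕ)) =
      if i = j then ((p - 1 : ℕ) : R) else 0 := by
    intro i j
    split_ifs with h
    · subst h
      simp [← mul_pow, ← Units.val_mul, ← map_mul, hcard]
    · set a : R := ((χ g⁻¹ : Rˣ) : R) ^ (i : ℕ) * ((χ g : Rˣ) : R) ^ (j : ℕ) with ha
      set S : R := ∑ m : (ZMod p)ˣ, ((χ m⁻¹ : Rˣ) : R) ^ (i : ℕ) * ((χ m : Rˣ) : R) ^ (j : ℕ) with hS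
      have h1 : a * S = S := by
        rw [hS, Finset.mul_sum]
        refine Fintype.sum_equiv (Equiv.mulLeft g) _ _ fun m => ?_
        simp only [ha, Equiv.coe_mulLeft, mul_inv_rev, map_mul, Units.val_mul, mul_pow]
        ring
      have hne : (g⁻¹) ^ (i : ℕ) * g ^ (j : ℕ) ≠ 1 := by
        rw [inv_pow, ne_eq, inv_mul_eq_one]
        intro e
        exact h (Fin.ext (pow_injOn_Iio_orderOf (by rw [Set.mem_Iio, horder]; exact i.2) (by rw [Set.mem_Iio, horder]; exact j.2) e))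
      have hu1 := hχ _ hne
      rw [map_mul, map_pow, map_pow, Units.val_mul, Units.val_pow_eq_pow_val, Units.val_pow_eq_pow_val, ← ha] at hu1
      exact hu1.mul_right_eq_zero.1 (by rw [sub_mul, h1, one_mul, sub_self])
  have hmul : ∀ i j : Fin (p - 1),
      (u • ∑ m : (ZMod p)ˣ, ((χ m⁻¹ : Rˣ) : R) ^ (i : ℕ) • MonoidAlgebra.of R (ZMod p)ˣ m) *
      (u • ∑ m : (ZMod p)ˣ, ((χ m⁻¹ : Rˣ) : R) ^ (j : ℕ) • MonoidAlgebra.of R (ZMod p)ˣ m) =
      (if i = j then (1 : R) else 0) • (u • ∑ m : (ZMod p)ˣ, ((χ m⁻¹ : Rˣ) : R) ^ (j : ℕ) • MonoidAlgebra.of R (ZMod p)ˣ m) := by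
    intro i j
    have key : (∑ m : (ZMod p)ˣ, ((χ m⁻¹ : Rˣ) : R) ^ (i : ℕ) • MonoidAlgebra.of R (ZMod p)ˣ m) *
      (∑ m : (ZMod p)ˣ, ((χ m⁻¹ : Rˣ) : R) ^ (j : ℕ) • MonoidAlgebra.of R (ZMod p)ˣ m) =
      (if i = j then ((p - 1 : ℕ) : R) else 0) • ∑ m : (ZMod p)ˣ, ((χ m⁻¹ : Rˣ) : R) ^ (j : ℕ) • MonoidAlgebra.of R (ZMod p)ˣ m := by
      rw [← hsum i j, Finset.sum_mul_sum, Finset.sum_smul]
      refine Finset.sum_congr rfl fun m _ => ?_
      rw [Finset.smul_sum]
      refine Fintype.sum_equiv (Equiv.mulLeft m) _ _ fun m' => ?_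
      rw [smul_mul_smul_comm, ← map_mul, smul_smul, Equiv.coe_mulLeft]
      congr 1
      rw [mul_inv_rev, map_mul, Units.val_mul, mul_pow, mul_assoc]
      congr 1
      rw [← mul_assoc, mul_comm _ (((χ m'⁻¹ : Rˣ) : R) ^ (j : ℕ)), mul_assoc, ← mul_pow, ← Units.val_mul, ← map_mul, mul_inv_cancel, map_one, Units.val_one, one_pow, mul_one]
    rw [smul_mul_smul_comm, key, smul_smul, smul_smul]
    congr 1
    split_ifs
    · linear_combination u * hu
    · ring
  refine ⟨⟨fun i => ?_, fun i j hij => ?_⟩, ?_⟩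
  · show _ * _ = _
    rw [hmul, if_pos rfl, one_smul]
  · show _ * _ = _
    rw [hmul, if_neg hij, zero_smul]
  · rw [← Finset.smul_sum, Finset.sum_comm]
    simp only [← Finset.sum_smul]
    rw [Finset.sum_eq_single (1 : (ZMod p)ˣ)]
    · simp [smul_smul, hu, MonoidAlgebra.one_def]
    · intro m _ hm
      have hgeo : (∑ i : Fin (p - 1), ((χ m⁻¹ : Rˣ) : R) ^ (i : ℕ)) * (((χ m⁻¹ : Rˣ) : R) - 1) = 0 := by
        rw [Fin.sum_univ_eq_sum_range (fun i => ((χ m⁻¹ : Rˣ) : R) ^ i), geom_sum_mul,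
          ← Units.val_pow_eq_pow_val, ← map_pow, ← hcard, pow_card_eq_one, map_one, Units.val_one, sub_self]
      rw [(hχ m⁻¹ (inv_ne_one.2 hm)).mul_left_eq_zero.1 hgeo, zero_smul]
    · simp

end Groth.Agent.S18467
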