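import Groth.Statements.S18470
import Mathlib

set_option autoImplicit false
universe u v
open OortTate

namespace Groth.Agent.S18470

/-- Let R be a commutative ring and A a commutative Hopf algebra over R which is finitely generated and
projective as an R-module (a finite locally free group scheme G = Spec A, not assumed commutative),
and let A^D = Hom_R(A, R) be the dual algebra with its Hopf structure (the Cartier dual when A is
cocommutative), whose counit is evaluation at 1. Then restriction of linear forms to the
augmentation ideal I = ker ε_A of A is a bijection from the augmentation ideal of A^D onto the dual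
module Hom_R(I, R): the dual of the augmentation ideal of G is the augmentation ideal of the dual.
The published statement is for a group scheme of order p over a Λ_p-algebra; the argument uses only
the splitting A = R·1 ⊕ ker ε. -/
theorem result
    (R : Type u) [CommRing R] (A : Type v) [CommRing A] [HopfAlgebra R A]
    [Module.Finite R A] [Module.Projective R A] :
    Function.Bijective (fun f : LinearMap.ker (Bialgebra.counitAlgHom R (CartDual.D R A)).toLinearMap =>
      ((CartDual.toDual R A) (f : CartDual.D R A)).comp
        (LinearMap.ker (Bialgebra.counitAlgHom R A).toLinearMap).subtype) := by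
  set ι := Algebra.linearMap R A with hι
  set εl : A →ₗ[R] R := (Bialgebra.counitAlgHom R A).toLinearMap with hεl
  have hε1 : εl 1 = 1 := map_one (Bialgebra.counitAlgHom R A)
  have hεmem : ∀ a : A, a - εl a • (1 : A) ∈ LinearMap.ker εl := fun a => by
    rw [LinearMap.mem_ker, map_sub, map_smul, hε1, smul_eq_mul, mul_one, sub_self]
  constructor
  · rintro ⟨f, hf⟩ ⟨g, hg⟩ h
    apply Subtype.ext
    apply (CartDual.toDual R A).injective
    refine LinearMap.ext fun a => ?_
    have h1 := LinearMap.congr_fun h ⟨_, hεmem a⟩
    simp only [LinearMap.comp_apply, Submodule.subtype_apply, map_sub, map_smul] at h1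
    have hf1 : CartDual.toDual R A f 1 = 0 := hf
    have hg1 : CartDual.toDual R A g 1 = 0 := hg
    rw [hf1, hg1, smul_zero, sub_zero, sub_zero] at h1
    exact h1
  · intro φ
    let P : A →ₗ[R] LinearMap.ker εl :=
      LinearMap.codRestrict _ (LinearMap.id - εl.smulRight (1 : A)) hεmem
    refine ⟨⟨(CartDual.toDual R A).symm (φ.comp P), ?_⟩, ?_⟩
    · change φ (P 1) = 0
      have : P 1 = 0 := Subtype.ext (by simp [P, hε1])
      rw [this, map_zero]
    · refine LinearMap.ext fun a => ?_
      simp only [LinearEquiv.apply_symm_apply, LinearMap.comp_apply, Submodule.subtype_apply]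
      congr 1
      exact Subtype.ext (by
        have ha : εl (a : A) = 0 := a.2
        simp [P, ha])
end Groth.Agent.S18470
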