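import Groth.Statements.S18473
import Mathlib
import Groth.Agent.OT.MuP
import Groth.Agent.S18468

set_option autoImplicit false
universe u
open OortTate

namespace Groth.Agent.S18473

/-- With the preceding computation: let p be a prime, R a commutative ring containing u with u(p − 1) =
1, and χ a homomorphism from the units of ℤ/p to the units of R such that χ(m) − 1 is a unit for
every m ≠ 1 (the situation of an algebra over the subring Λ_p of the p-adic integers generated by
the Teichmüller values and 1/(p(p − 1)), with χ the Teichmüller character, which is the published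
setting); assume moreover χ(m) ≡ m modulo pR for every m. In the group algebra over R of the cyclic
group of order p, written R[T]/(T^p − 1) with T group-like (the Hopf algebra of μ_p, on which the
power map [m] sends T to T^m), put y_i = u Σ_m χ(m)^{−i}(T^m − 1), the average of T − 1 for the
character χ^i. Then the elements y_0, …, y_{p−2} are a basis of the augmentation ideal (they are
linearly independent and span the kernel of the counit), the R-algebra is generated by y_1 alone,
and y_1^p = w·y_1 for a unique w ∈ R (the constant w_p of the classification). -/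
theorem result
    (p : ℕ) [Fact p.Prime] (R : Type u) [CommRing R] (u : R) (hu : u * ((p - 1 : ℕ) : R) = 1)
    (χ : (ZMod p)ˣ →* Rˣ) (hχ : ∀ m : (ZMod p)ˣ, m ≠ 1 → IsUnit ((χ m : R) - 1))
    (hχp : ∀ m : (ZMod p)ˣ, ((χ m : Rˣ) : R) - (((m : ZMod p).val : ℕ) : R) ∈ Ideal.span ({(p : R)} : Set R)) :
    LinearIndependent R (fun i : Fin (p - 1) => OortTate.ygen R p u χ (i : ℕ)) ∧
      Submodule.span R (Set.range (fun i : Fin (p - 1) => OortTate.ygen R p u χ (i : ℕ))) =
        LinearMap.ker (Bialgebra.counitAlgHom R (MonoidAlgebra R (Multiplicative (ZMod p)))).toLinearMap ∧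
      Algebra.adjoin R ({OortTate.ygen R p u χ 1} : Set (MonoidAlgebra R (Multiplicative (ZMod p)))) = ⊤ ∧
      ∃! w : R, OortTate.ygen R p u χ 1 ^ p = w • OortTate.ygen R p u χ 1 := by
  open Groth.Agent.OT in
    classical
    have hp := pow_eq_one_of_rank_prime p (muP_rank p R)
    have hp1 : 1 < p := (Fact.out : p.Prime).one_lt
    let G := MonoidAlgebra R (Multiplicative (ZMod p))
    obtain ⟨hind, hsup, -⟩ : _ ∧ _ ∧ _ := Groth.Agent.S18468.result p R u hu χ hχ G hp
    have hspan : Submodule.span R (Set.range fun i : Fin (p - 1) => OortTate.ygen R p u χ (i : ℕ)) =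
        LinearMap.ker (Bialgebra.counitAlgHom R G).toLinearMap := by
      rw [← hsup, Submodule.span_range_eq_iSup]
      exact iSup_congr fun i => (eigen_eq_span p R u χ hu i).symm
    refine ⟨Fintype.linearIndependent_iff.mpr fun c hc i => ?_, hspan, ?_, ?_⟩
    · refine smul_ygen_eq_zero p R u χ hu ?_ (i := (i : ℕ))
      have hm : ∀ j : Fin (p - 1), c j • OortTate.ygen R p u χ (j : ℕ) ∈ OortTate.eigenAug R G p χ (j : ℕ) := fun j => by
        rw [eigen_eq_span p R u χ hu]; exact Submodule.smul_mem _ _ (Submodule.mem_span_singleton_self _)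
      have h := congrArg (OortTate.proj R G p u χ (i : ℕ)) hc
      rw [map_sum, map_zero, Finset.sum_eq_single i (fun j _ hji => proj_eigen_ne R G hχ i.2 j.2
        (fun h' => hji (Fin.ext h'.symm)) (hm j)) (by simp), proj_eigen_self R G hu (hm i)] at h
      exact h
    · set T := Algebra.adjoin R ({OortTate.ygen R p u χ 1} : Set G)
      have hpowT : ∀ t, 1 ≤ t → t < p → OortTate.eigenAug R G p χ t ≤ T.toSubmodule := fun t ht htp => by
        rw [← eigen_one_pow (muP_rank p R) hu hχ hχp ht htp, eigen_eq_span p R u χ hu, Submodule.span_pow,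
          Submodule.span_le, Set.singleton_pow, Set.singleton_subset_iff]
        exact Subalgebra.pow_mem T (Algebra.subset_adjoin (R := R) (Set.mem_singleton _)) t
      refine eq_top_iff.mpr fun z _ => ?_
      have hk : LinearMap.ker (Bialgebra.counitAlgHom R G).toLinearMap ≤ T.toSubmodule := by
        rw [← hsup]
        refine iSup_le fun i => ?_
        rcases Nat.eq_zero_or_pos (i : ℕ) with h | h
        · rw [h, eigen_congr (j := p - 1) (by simp)]
          exact hpowT _ (by omega) (by omega)
        · exact hpowT _ h (by omega)
      rw [← sub_add_cancel z (algebraMap R G (Bialgebra.counitAlgHom R G z))]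
      exact T.add_mem (hk (by simp)) (T.algebraMap_mem _)
    · have h : OortTate.ygen R p u χ 1 ^ p ∈ OortTate.eigenAug R G p χ 1 := by
        rw [← eigen_congr (i := p) (j := 1) (by
          conv_lhs => rw [show p = 1 + (p - 1) by omega]
          simp [Nat.add_mod_right])]
        refine eigen_one_pow_le (by omega) (Submodule.pow_mem_pow _ ?_ p)
        rw [eigen_eq_span p R u χ hu]
        exact Submodule.mem_span_singleton_self _
      rw [eigen_eq_span p R u χ hu, Submodule.mem_span_singleton] at h
      obtain ⟨w, hw⟩ := h
      refine ⟨w, hw.symm, fun w' hw' => ?_⟩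
      refine sub_eq_zero.mp (smul_ygen_eq_zero p R u χ hu (i := 1) ?_)
      rw [sub_smul, ← hw', hw, sub_self]
end Groth.Agent.S18473
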