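import Groth.Statements.S18475
import Mathlib
import Groth.Agent.OT.Classify
import Groth.Agent.OT.Gen

set_option autoImplicit false
universe u
open OortTate

namespace Groth.Agent.S18475

/-- Let p be a prime, R a commutative ring containing u with u(p − 1) = 1, and χ a homomorphism from the
units of ℤ/p to the units of R such that χ(m) − 1 is a unit for every m ≠ 1 (the situation of an
algebra over the subring Λ_p of the p-adic integers generated by the Teichmüller values and 1/(p(p −
1)), with χ the Teichmüller character, which is the published setting); assume moreover χ(m) ≡ m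
modulo pR for every m. Let A and A' be commutative and cocommutative Hopf algebras over R, finitely
generated and projective as R-modules of rank p at every prime (group schemes G, G' of order p over
Spec R), with dual Hopf algebras A^D = Hom_R(A, R) and A'^D (the Cartier duals; for a unit m of ℤ/p
the power map [m] acts on all four algebras). Suppose the χ-eigenspaces of the augmentation ideals
are free of rank one with chosen generators: I_1(A) = R·x and I_1(A^D) = R·ξ with ξ(x) = 1, and
similarly I_1(A') = R·x', I_1(A'^D) = R·ξ' with ξ'(x') = 1 (this is the case of a local base R);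
write x^p = α x, ξ^p = β ξ, x'^p = α' x', ξ'^p = β' ξ' with α, β, α', β' ∈ R. If there is a unit v
of R with α' = v^{p−1} α and β' = v^{−(p−1)} β, then A and A' are isomorphic as bialgebras over R,
i.e. G ≅ G'. (This is the injectivity of the classification map G ↦ (I_1, a, b) in the case where
the invertible module I_1 is free, the case the copy spells out; the general statement compares
triples consisting of an invertible module with two maps.) The published argument obtains
commutativity and p-torsion of G over a locally Noetherian base; this row allows any commutative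
ring R, over which both still hold. -/
theorem result
    (p : ℕ) [Fact p.Prime] (R : Type u) [CommRing R] (u : R) (hu : u * ((p - 1 : ℕ) : R) = 1)
    (χ : (ZMod p)ˣ →* Rˣ) (hχ : ∀ m : (ZMod p)ˣ, m ≠ 1 → IsUnit ((χ m : R) - 1))
    (hχp : ∀ m : (ZMod p)ˣ, ((χ m : Rˣ) : R) - (((m : ZMod p).val : ℕ) : R) ∈ Ideal.span ({(p : R)} : Set R))
    (A : Type u) [CommRing A] [HopfAlgebra R A] [Coalgebra.IsCocomm R A] [Module.Finite R A]
    [Module.Projective R A] (hrk : ∀ q : PrimeSpectrum R, Module.rankAtStalk A q = p)
    (A' : Type u) [CommRing A'] [HopfAlgebra R A'] [Coalgebra.IsCocomm R A'] [Module.Finite R A']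
    [Module.Projective R A'] (hrk' : ∀ q : PrimeSpectrum R, Module.rankAtStalk A' q = p)
    (x : A) (hx : Submodule.span R {x} = OortTate.eigenAug R A p χ 1)
    (ξ : CartDual.D R A) (hξ : Submodule.span R {ξ} = OortTate.eigenAug R (CartDual.D R A) p χ 1)
    (hxξ : CartDual.toDual R A ξ x = 1)
    (x' : A') (hx' : Submodule.span R {x'} = OortTate.eigenAug R A' p χ 1)
    (ξ' : CartDual.D R A') (hξ' : Submodule.span R {ξ'} = OortTate.eigenAug R (CartDual.D R A') p χ 1)
    (hxξ' : CartDual.toDual R A' ξ' x' = 1)
    (α β α' β' : R) (hα : x ^ p = α • x) (hβ : ξ ^ p = β • ξ) (hα' : x' ^ p = α' • x')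
    (hβ' : ξ' ^ p = β' • ξ')
    (v : Rˣ) (hαv : α' = ((v ^ (p - 1) : Rˣ) : R) * α) (hβv : β' = ((v⁻¹ ^ (p - 1) : Rˣ) : R) * β) :
    Nonempty (A ≃ₐc[R] A') := by
  open Groth.Agent.OT in
    classical
    obtain ⟨e, he⟩ := exists_gen hu hχ hχp hrk hx
    obtain ⟨e', he'⟩ := exists_gen hu hχ hχp hrk' hx'
    obtain ⟨d, hd⟩ := exists_gen hu hχ hχp (B := CartDual.D R A) (rank_dual hrk) hξ
    obtain ⟨d', hd'⟩ := exists_gen hu hχ hχp (B := CartDual.D R A') (rank_dual hrk') hξ'
    let θ := e.symm.trans ((LinearEquiv.smulOfUnit v⁻¹).trans e')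
    have hθe : ∀ r, ((θ (e r) : OortTate.eigenAug R A' p χ 1) : A') = ((v⁻¹ : Rˣ) : R) • (r • x') := by
      intro r
      simp [θ, he', LinearEquiv.smulOfUnit, Units.smul_def, mul_smul]
    have hp1 : 1 < p := (Fact.out : p.Prime).one_lt
    have hv : ∀ w : Rˣ, ((w : R)) ^ p = (w : R) * ((w ^ (p - 1) : Rˣ) : R) := fun w => by
      rw [Units.val_pow_eq_pow_val, ← pow_succ', Nat.sub_add_cancel hp1.le]
    have hprod : ∀ {B : Type u} [CommRing B] [HopfAlgebra R B] (r : Fin p → R) (b : B),
        ∏ i, r i • b = (∏ i, r i) • b ^ p := by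
      intro B _ _ r b
      rw [Finset.prod_smul, Finset.prod_const, Finset.card_univ, Fintype.card_fin]
    refine exists_bialgEquiv hu hχ hχp hrk hrk' θ (fun f g hg => ?_) (fun φ φ' ψ ψ' hφ hψ hψ' z => ?_)
    · obtain ⟨s, rfl⟩ := e.surjective g
      obtain ⟨r, rfl⟩ : ∃ r : Fin p → R, f = fun i => e (r i) :=
        ⟨fun i => e.symm (f i), funext fun i => (e.apply_symm_apply _).symm⟩
      simp only [he, hprod, hα, smul_smul] at hg
      have hs : s = (∏ i, r i) * α := e.injective (Subtype.ext (by rw [he, he]; exact hg))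
      simp only [hθe, smul_smul, hprod, hα']
      rw [hs, Finset.prod_mul_distrib, Finset.prod_const, Finset.card_univ, Fintype.card_fin, hv v⁻¹, hαv]
      have : ((v ^ (p - 1) : Rˣ) : R) * ((v⁻¹ ^ (p - 1) : Rˣ) : R) = 1 := by
        rw [← Units.val_mul, ← mul_pow, mul_inv_cancel, one_pow, Units.val_one]
      congr 1
      linear_combination -((∏ i, r i) * α * ((v⁻¹ : Rˣ) : R)) * this
    · obtain ⟨a, rfl⟩ : ∃ a : Fin p → R, φ = fun i => d (a i) :=
        ⟨fun i => d.symm (φ i), funext fun i => (d.apply_symm_apply _).symm⟩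
      obtain ⟨b, rfl⟩ : ∃ b : Fin p → R, φ' = fun i => d' (b i) :=
        ⟨fun i => d'.symm (φ' i), funext fun i => (d'.apply_symm_apply _).symm⟩
      obtain ⟨r, rfl⟩ := e.surjective z
      have hab : a = fun i => b i * ((v⁻¹ : Rˣ) : R) := funext fun i => by
        have h := hφ i (e 1)
        simp only [hd, hd', he, hθe, map_smul, LinearMap.smul_apply, one_smul, smul_eq_mul, hxξ, hxξ', mul_one] at h
        linear_combination h
      simp only [hd, hd', hprod, hβ, hβ', smul_smul] at hψ hψ'
      simp only [hψ, hψ', he, hθe, map_smul, LinearMap.smul_apply, smul_eq_mul, hxξ, hxξ', mul_one, hab]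
      rw [Finset.prod_mul_distrib, Finset.prod_const, Finset.card_univ, Fintype.card_fin, hv v⁻¹, hβv]
      ring
end Groth.Agent.S18475
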