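import Groth.Statements.S18476
import Mathlib
import Groth.Prelude

set_option linter.all false

set_option autoImplicit false
universe u
open FmlGrp

open PowerSeries

namespace Groth.Agent.S18476

namespace S18476aux

variable {O : Type u} [CommRing O] [IsLocalRing O] (f : PowerSeries O) (hf0 : constantCoeff f = 0)

include hf0

theorem coeff_subst_eq (c : PowerSeries O) (j N : ℕ) (hj : j < N) :
    coeff j (subst f c) = coeff j (∑ d ∈ Finset.range N, C (coeff d c) * f ^ d) := by
  rw [coeff_subst' (HasSubst.of_constantCoeff_zero' hf0), map_sum,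
    finsum_eq_sum_of_support_subset _ (s := Finset.range N) (by
      intro d hd
      simp only [Finset.coe_range, Set.mem_Iio]
      by_contra hle
      apply hd
      show coeff d c • coeff j (f ^ d) = 0
      rw [coeff_of_lt_order j (lt_of_lt_of_le (by exact_mod_cast (show j < d by omega))
        (le_order_pow_of_constantCoeff_eq_zero d hf0)), smul_zero])]
  exact Finset.sum_congr rfl fun d _ => by rw [coeff_C_mul, smul_eq_mul]

theorem exists_unique_expansion [IsAdicComplete (IsLocalRing.maximalIdeal O) O]
    (hf : f.map (IsLocalRing.residue O) ≠ 0) :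
    ∃ (n : ℕ) (b : Fin n → PowerSeries O), ∀ g : PowerSeries O, ∃! c : Fin n → PowerSeries O,
      g = ∑ i, subst f (c i) * b i := by
  classical
  set n := (f.map (IsLocalRing.residue O)).order.toNat with hn
  have hne : f ≠ 0 := fun h => hf (by rw [h, map_zero])
  have hdiv : ∀ g : PowerSeries O, ∃ (q : PowerSeries O) (r : Fin n → O),
      g = f * q + ∑ i : Fin n, C (r i) * X ^ (i : ℕ) := by
    intro g
    have H := isWeierstrassDivision_weierstrassDiv_weierstrassMod g hf
    refine ⟨g /ʷ f, fun i => (g %ʷ f).coeff i, ?_⟩
    conv_lhs => rw [H.eq_mul_add]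
    congr 1
    ext j
    simp only [Polynomial.coeff_coe, map_sum, coeff_C_mul_X_pow]
    rcases lt_or_ge j n with hj | hj
    · rw [Finset.sum_eq_single ⟨j, hj⟩ (fun i _ hi => if_neg fun h => hi (Fin.ext h.symm))
        (fun h => absurd (Finset.mem_univ _) h), if_pos rfl]
    · rw [Finset.sum_eq_zero (fun i _ => if_neg (by have := i.2; omega))]
      exact Polynomial.coeff_eq_zero_of_degree_lt (lt_of_lt_of_le H.degree_lt (by exact_mod_cast hj))
  have huniq : ∀ (q : PowerSeries O) (r : Fin n → O),
      0 = f * q + ∑ i : Fin n, C (r i) * X ^ (i : ℕ) → q = 0 ∧ r = 0 := by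
    intro q r h
    let R : Polynomial O := ∑ i : Fin n, Polynomial.C (r i) * Polynomial.X ^ (i : ℕ)
    have hR : (R : PowerSeries O) = ∑ i : Fin n, C (r i) * X ^ (i : ℕ) := by
      rw [show (R : PowerSeries O) = Polynomial.coeToPowerSeries.ringHom R from rfl, map_sum]
      simp
    obtain ⟨hq, hR0⟩ := IsWeierstrassDivision.eq_zero hf (g := f) (q := q) (r := R)
      ⟨Polynomial.degree_sum_fin_lt r, by rw [hR]; exact h⟩
    refine ⟨hq, funext fun i => ?_⟩
    have := congrArg (fun P : Polynomial O => P.coeff (i : ℕ)) hR0
    simp only [R, Polynomial.finset_sum_coeff, Polynomial.coeff_C_mul_X_pow, Polynomial.coeff_zero] at this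
    rwa [Finset.sum_eq_single i (fun j _ hj => if_neg fun h => hj (Fin.ext h.symm))
      (fun h => absurd (Finset.mem_univ _) h), if_pos rfl] at this
  choose q r hqr using hdiv
  refine ⟨n, fun i => X ^ (i : ℕ), fun g => ?_⟩
  let Qs : ℕ → PowerSeries O := fun N => q^[N] g
  have hexp : ∀ N, g = f ^ N * Qs N + ∑ k ∈ Finset.range N, f ^ k * ∑ i : Fin n, C (r (Qs k) i) * X ^ (i : ℕ) := by
    intro N
    induction N with
    | zero => simp [Qs]
    | succ N ih =>
      conv_lhs => rw [ih, hqr (Qs N)]
      rw [Finset.sum_range_succ, show Qs (N + 1) = q (Qs N) from Function.iterate_succ_apply' q N g]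
      ring
  have hE : g = ∑ i : Fin n, subst f (mk fun k => r (Qs k) i) * X ^ (i : ℕ) := by
    refine PowerSeries.ext fun j => ?_
    conv_lhs => rw [hexp (j + 1)]
    have h0 : coeff j (f ^ (j + 1) * Qs (j + 1)) = 0 := by
      obtain ⟨f', hf'⟩ := X_dvd_iff.mpr hf0
      rw [hf', mul_pow, mul_assoc, coeff_X_pow_mul', if_neg (by omega)]
    rw [map_add, h0, zero_add, map_sum, map_sum]
    simp only [Finset.mul_sum, map_sum]
    rw [Finset.sum_comm]
    refine Finset.sum_congr rfl fun i _ => ?_
    rw [coeff_mul_X_pow']
    split_ifs with hij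
    · rw [coeff_subst_eq f hf0 _ (j - i) (j + 1) (by omega), map_sum]
      refine Finset.sum_congr rfl fun k _ => ?_
      rw [show f ^ k * (C (r (Qs k) i) * X ^ (i : ℕ)) = (C (r (Qs k) i) * f ^ k) * X ^ (i : ℕ) by ring,
        coeff_mul_X_pow', if_pos hij, coeff_mk]
    · refine Finset.sum_eq_zero fun k _ => ?_
      rw [← mul_assoc, coeff_mul_X_pow', if_neg hij]
  have hsubst := HasSubst.of_constantCoeff_zero' hf0
  have key : ∀ (k : ℕ) (d : Fin n → PowerSeries O), (0 : PowerSeries O) = ∑ i, subst f (d i) * X ^ (i : ℕ) →
      ∀ i, coeff k (d i) = 0 := by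
    intro k
    have step : ∀ d : Fin n → PowerSeries O, (0 : PowerSeries O) = ∑ i, subst f (d i) * X ^ (i : ℕ) →
        (∀ i, coeff 0 (d i) = 0) ∧
          (0 : PowerSeries O) = ∑ i, subst f (mk fun m => coeff (m + 1) (d i)) * X ^ (i : ℕ) := by
      intro d hd
      have h1 : ∀ i, subst f (d i) = C (coeff 0 (d i)) + f * subst f (mk fun m => coeff (m + 1) (d i)) := by
        intro i
        conv_lhs => rw [eq_X_mul_shift_add_const (d i)]
        simp only [subst_add hsubst, subst_mul hsubst, subst_X hsubst, subst_C]
        rw [add_comm, coeff_zero_eq_constantCoeff_apply]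
        rfl
      simp only [h1, add_mul, mul_assoc, Finset.sum_add_distrib, ← Finset.mul_sum] at hd
      rw [add_comm] at hd
      obtain ⟨hq, hr⟩ := huniq _ (fun i => coeff 0 (d i)) hd
      exact ⟨congrFun hr, hq.symm⟩
    induction k with
    | zero => exact fun d hd i => (step d hd).1 i
    | succ k ih =>
      intro d hd i
      simpa using ih _ (step d hd).2 i
  refine ⟨fun i => mk fun k => r (Qs k) i, hE, fun c hc => ?_⟩
  funext i
  refine PowerSeries.ext fun k => ?_
  rw [← sub_eq_zero, ← map_sub]
  refine key k (fun i => c i - mk fun k => r (Qs k) i) ?_ i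
  simp only [← coe_substAlgHom hsubst, map_sub, sub_mul, Finset.sum_sub_distrib]
  simp only [coe_substAlgHom hsubst]
  rw [← hc, ← hE, sub_self]

theorem not_isMem [IsAdicComplete (IsLocalRing.maximalIdeal O) O]
    (h : ∀ k, coeff k f ∈ IsLocalRing.maximalIdeal O) (n : ℕ) (b : Fin n → PowerSeries O) :
    ¬ ∀ g : PowerSeries O, ∃ c : Fin n → PowerSeries O, g = ∑ i, subst f (c i) * b i := by
  classical
  intro hb
  have hsubst := HasSubst.of_constantCoeff_zero' hf0
  let κ := IsLocalRing.ResidueField O
  let L : (Fin n → κ) →ₗ[κ] (Fin (n + 1) → κ) :=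
    Fintype.linearCombination κ fun i => fun j : Fin (n + 1) => IsLocalRing.residue O (coeff (j : ℕ) (b i))
  have hL : Function.Surjective L := by
    intro y
    choose y' hy' using fun j => IsLocalRing.residue_surjective (y j)
    obtain ⟨c, hc⟩ := hb (mk fun m => if h : m < n + 1 then y' ⟨m, h⟩ else 0)
    refine ⟨fun i => IsLocalRing.residue O (constantCoeff (c i)), funext fun j => ?_⟩
    have h1 := congrArg (fun G => IsLocalRing.residue O (coeff (j : ℕ) G)) hc
    simp only [coeff_mk, dif_pos j.2, hy', map_sum] at h1
    rw [h1, Fintype.linearCombination_apply, Finset.sum_apply]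
    refine Finset.sum_congr rfl fun i _ => ?_
    rw [Pi.smul_apply, smul_eq_mul, ← coeff_map, ← coeff_map, map_mul]
    have hc0 : PowerSeries.map (IsLocalRing.residue O) (subst f (c i)) = C (IsLocalRing.residue O (constantCoeff (c i))) := by
      conv_lhs => rw [eq_X_mul_shift_add_const (c i)]
      simp only [subst_add hsubst, subst_mul hsubst, subst_X hsubst, subst_C, map_add, map_mul]
      have hf : f.map (IsLocalRing.residue O) = 0 := by
        refine PowerSeries.ext fun k => ?_
        rw [coeff_map, map_zero, IsLocalRing.residue_eq_zero_iff]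
        exact h k
      rw [hf, zero_mul, zero_add]
      exact MvPowerSeries.map_C (IsLocalRing.residue O) (constantCoeff (c i))
    rw [hc0, coeff_C_mul]
  have := LinearMap.finrank_le_finrank_of_surjective hL
  simp at this

end S18476aux

/-- Let O be a complete discrete valuation ring whose maximal ideal m contains the prime number p, and
let F be a one-dimensional formal group law over O, with multiplication-by-p series f = [p]_F(X) = X
+_F ⋯ +_F X ∈ O[[X]]. Then f has a coefficient outside m (f is not ≡ 0 mod m) if and only if F is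
p-divisible in the sense that O[[X]] is free of finite rank over itself through the substitution
endomorphism X ↦ f: there are finitely many power series b_1, …, b_n such that every power series g
can be written uniquely as Σ_i c_i(f(X))·b_i. (The published statement asserts instead that F is
p-divisible iff F does not reduce to X + Y modulo m; that is false — over the p-adic integers the
law φ⁻¹(φ(X) + φ(Y)) with φ = X + X^{p+1} is not congruent to X + Y modulo p, yet its
multiplication-by-p series φ⁻¹(pφ(X)) vanishes modulo p — and the printed proof establishes exactly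
the criterion on f stated here.) The published setting is the valuation ring of a finite extension
of ℚ_p; the argument uses only that O is a complete discrete valuation ring with p in its maximal
ideal. -/
theorem result
    (O : Type u) [CommRing O] [IsDomain O] [IsDiscreteValuationRing O]
    [IsAdicComplete (IsLocalRing.maximalIdeal O) O]
    (p : ℕ) [Fact p.Prime] (hp : (p : O) ∈ IsLocalRing.maximalIdeal O)
    (F : FormalGroup O) :
    (∃ n : ℕ, PowerSeries.coeff n
        ((p • (show F.Point Unit from ⟨PowerSeries.X, PowerSeries.HasSubst.X'⟩)).val) ∉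
          IsLocalRing.maximalIdeal O) ↔
      ∃ (n : ℕ) (b : Fin n → PowerSeries O), ∀ g : PowerSeries O, ∃! c : Fin n → PowerSeries O,
        g = ∑ i, PowerSeries.subst
          ((p • (show F.Point Unit from ⟨PowerSeries.X, PowerSeries.HasSubst.X'⟩)).val) (c i) * b i := by
  set P : F.Point Unit := ⟨PowerSeries.X, PowerSeries.HasSubst.X'⟩ with hP
  have h0 : ∀ m : ℕ, PowerSeries.constantCoeff (m • P).val = 0 := by
    intro m
    induction m with
    | zero => rw [zero_nsmul, FormalGroup.zero_apply]; simp
    | succ m ih =>
      rw [succ_nsmul, FormalGroup.add_apply]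
      refine MvPowerSeries.constantCoeff_subst_eq_zero
        (MvPowerSeries.hasSubst_of_constantCoeff_zero fun i => ?_) (fun i => ?_) F.zero_constantCoeff
      all_goals fin_cases i
      all_goals first | exact ih | exact PowerSeries.constantCoeff_X
  constructor
  · rintro ⟨m, hm⟩
    refine S18476aux.exists_unique_expansion _ (h0 p) fun h => hm ?_
    rw [← IsLocalRing.residue_eq_zero_iff, ← PowerSeries.coeff_map]
    exact (congrArg (PowerSeries.coeff m) h).trans (map_zero _)
  · rintro ⟨n, b, hb⟩
    by_contra hno
    push Not at hno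
    exact S18476aux.not_isMem _ (h0 p) hno n b fun g => (hb g).exists

end Groth.Agent.S18476
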