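import Groth.Statements.S18480
import Mathlib
import Groth.Agent.OT.RankTwo

set_option autoImplicit false
universe u v
open scoped TensorProduct
open OortTate

namespace Groth.Agent.S18480

/-- Let R be a commutative ring and let A and A' be commutative Hopf algebras over R whose augmentation
ideals are free of rank one with generators x and x', with constants a, b and a', b' ∈ R such that
x² = a x, Δ(x) = x ⊗ 1 + 1 ⊗ x + b x ⊗ x and x'² = a' x', Δ(x') = x' ⊗ 1 + 1 ⊗ x' + b' x' ⊗ x' (the
group schemes of order two G_{a,b} and G_{a',b'}). Then A and A' are isomorphic as bialgebras over R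
(G_{a,b} ≅ G_{a',b'} as group schemes) if and only if there is a unit s of R with a = a'·s and b' =
b·s. -/
theorem result
    (R : Type u) [CommRing R] (A : Type v) [CommRing A] [HopfAlgebra R A]
    (x : A) (hx : Bialgebra.counitAlgHom R A x = 0)
    (hgen : ∀ f : A, Bialgebra.counitAlgHom R A f = 0 → ∃ r : R, f = r • x)
    (hfree : ∀ r : R, r • x = 0 → r = 0)
    (a b : R) (hxa : x * x = a • x)
    (hxb : Bialgebra.comulAlgHom R A x = x ⊗ₜ[R] 1 + 1 ⊗ₜ[R] x + b • (x ⊗ₜ[R] x))
    (A' : Type v) [CommRing A'] [HopfAlgebra R A']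
    (x' : A') (hx' : Bialgebra.counitAlgHom R A' x' = 0)
    (hgen' : ∀ f : A', Bialgebra.counitAlgHom R A' f = 0 → ∃ r : R, f = r • x')
    (hfree' : ∀ r : R, r • x' = 0 → r = 0)
    (a' b' : R) (hxa' : x' * x' = a' • x')
    (hxb' : Bialgebra.comulAlgHom R A' x' = x' ⊗ₜ[R] 1 + 1 ⊗ₜ[R] x' + b' • (x' ⊗ₜ[R] x')) :
    Nonempty (A ≃ₐc[R] A') ↔ ∃ s : Rˣ, a = a' * (s : R) ∧ b' = b * (s : R) := by
  open Groth.Agent.OT in
    constructor
    · rintro ⟨e⟩
      have hε : ∀ f, Bialgebra.counitAlgHom R A' (e f) = Bialgebra.counitAlgHom R A f := fun f =>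
        CoalgHomClass.counit_comp_apply e f
      have hεs : ∀ f, Bialgebra.counitAlgHom R A (e.symm f) = Bialgebra.counitAlgHom R A' f := fun f =>
        CoalgHomClass.counit_comp_apply e.symm f
      obtain ⟨s, hs⟩ := hgen' (e x) (by rw [hε, hx])
      obtain ⟨t, ht⟩ := hgen (e.symm x') (by rw [hεs, hx'])
      have hts : t * s = 1 := eq_of_smul_eq hfree' (by
        rw [one_smul, mul_smul, ← hs, ← map_smul, ← ht, BialgEquiv.apply_symm_apply])
      let u : Rˣ := ⟨s, t, by rw [mul_comm, hts], hts⟩
      refine ⟨u, ?_, ?_⟩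
      · have h := congrArg e hxa
        rw [map_mul, map_smul, hs, smul_mul_smul_comm, hxa', smul_smul, smul_smul] at h
        have h' := eq_of_smul_eq hfree' h
        change a = a' * s
        linear_combination (-t) * h' + (a' * s - a) * hts
      · have h : Bialgebra.comulAlgHom R A' (e x) =
            Algebra.TensorProduct.map (e : A →ₐ[R] A') (e : A →ₐ[R] A') (Bialgebra.comulAlgHom R A x) :=
          (CoalgHomClass.map_comp_comul_apply e x).symm
        rw [hxb] at h
        have hs' : (e : A →ₐ[R] A') x = s • x' := hs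
        simp only [hs, hs', map_smul, hxb', map_add, Algebra.TensorProduct.map_tmul, map_one,
          ← TensorProduct.smul_tmul', TensorProduct.tmul_smul, smul_add, smul_smul] at h
        rw [add_right_inj] at h
        have h' : b' * s = b * s * s := coeff_eq hx' hgen' hfree' (by
          rw [← sub_eq_zero] at h ⊢
          rw [← h]
          skip
          module)
        change b' = b * s
        linear_combination t * h' + (b * s - b') * hts
    · rintro ⟨s, has, hbs⟩
      exact nonempty_bialgEquiv hxa hxb hx' hgen' hfree' hxa' hxb' hx hgen hfree has hbs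
end Groth.Agent.S18480
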