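import Groth.Statements.S18484
import Groth.Agent.NeronLib.Dedekind

set_option autoImplicit false
universe u
open CategoryTheory CategoryTheory.Limits AlgebraicGeometry MonObj
open Neron

namespace Groth.Agent.S18484

/-- Let R be a Dedekind domain with fraction field K, X a Spec R-scheme which is a Néron model of its
generic fibre X_K, and i : G → X a closed immersion with G smooth over Spec R. Then G is a Néron
model of its generic fibre G_K: smooth, separated, of finite type, and for every smooth Spec
R-scheme Y restriction to generic fibres is a bijection from R-morphisms Y → G onto K-morphisms Y_K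
→ G_K. (The source states this for a closed subgroup scheme of a Néron model; the group laws play no
part and are not assumed. The converse direction of the source, that a Néron model is a closed
subgroup of a Néron model, is immediate and not stated.) -/
theorem result (R : Type u) [CommRing R] [IsDedekindDomain R]
    (X G : Over (Spec (CommRingCat.of R))) (hX : Neron.IsNeronModelOf R X ((Neron.genericFibre R).obj X) (Iso.refl _))
    (i : G ⟶ X) [IsClosedImmersion i.left] [Smooth G.hom] :
    Neron.IsNeronModelOf R G ((Neron.genericFibre R).obj G) (Iso.refl _) := by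
  obtain ⟨-, hXs, hXf, hXq, hXN⟩ := hX
  have e : G.hom = i.left ≫ X.hom := (Over.w i).symm
  have hsep : IsSeparated G.hom := e ▸ inferInstance
  refine ⟨‹_›, hsep, inferInstance, e ▸ inferInstance, fun Y hY => ?_⟩
  have hb : Function.Bijective (fun g : Y ⟶ G => (Neron.genericFibre R).map g) := by
    refine (Groth.Agent.NeronLib.bijective_map_iff (Neron.genPt R) (.of_hasPullback _ _)).2 fun h hh => ?_
    have hb' := hXN Y hY
    simp only [Iso.refl_hom, Category.comp_id] at hb'
    obtain ⟨a, ha, -⟩ := (Groth.Agent.NeronLib.bijective_map_iff (Neron.genPt R) (.of_hasPullback _ _)).1 hb'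
      (h ≫ i.left) (by rw [Category.assoc, Over.w]; exact hh)
    let z := pullback.fst a.left i.left
    have hz : IsClosedImmersion z := inferInstance
    obtain ⟨U, hU, -, p', hp', -, -⟩ := Groth.Agent.NeronLib.exists_spread_genericFibre Y.hom G.hom h hh
    have hdense : Dense (Set.range (pullback.fst Y.hom (Neron.genPt R))) := by
      refine dense_iff_inter_open.2 fun T hT ⟨t, ht⟩ => ?_
      have ho : IsOpen (Y.hom '' T) := Y.hom.isOpenMap T hT
      have hgp : Neron.genPt R default ∈ Y.hom '' T := by
        refine Specializes.mem_open ?_ ho ⟨t, ht, rfl⟩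
        refine (PrimeSpectrum.le_iff_specializes (R := R) (Neron.genPt R default) (Y.hom t)).1 ?_
        intro r hr
        have hbot : (default : Spec (CommRingCat.of (FractionRing R))).asIdeal = ⊥ :=
          (Ideal.eq_bot_or_top _).resolve_right (default : Spec (CommRingCat.of (FractionRing R))).isPrime.ne_top
        have h0 : algebraMap R (FractionRing R) r ∈ (default : Spec (CommRingCat.of (FractionRing R))).asIdeal := hr
        rw [hbot, Ideal.mem_bot] at h0
        rw [IsFractionRing.injective R (FractionRing R) (h0.trans (map_zero _).symm)]
        exact zero_mem _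
      obtain ⟨y, hyT, hy⟩ := hgp
      refine ⟨y, hyT, ?_⟩
      rw [Scheme.Pullback.range_fst]
      exact ⟨default, hy.symm⟩
    let s := pullback.lift (pullback.fst Y.hom (Neron.genPt R)) h ha
    have hs : s ≫ z = pullback.fst Y.hom (Neron.genPt R) := pullback.lift_fst _ _ _
    have : Surjective z := by
      refine ⟨Set.range_eq_univ.1 (eq_top_iff.2 ?_)⟩
      refine hdense.closure_eq.ge.trans (closure_minimal ?_ z.isClosedEmbedding.isClosed_range)
      rintro _ ⟨w, rfl⟩
      exact ⟨s w, by rw [← Scheme.Hom.comp_apply, hs]⟩
    have : IsReduced Y.left :=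
      Groth.Agent.NeronLib.isReduced_of_smooth_regular (Groth.Agent.NeronLib.smoothRegular_spec R) Y.hom
    have : IsIso z := isIso_of_isClosedImmersion_of_surjective z
    let b := inv z ≫ pullback.snd a.left i.left
    have hbi : b ≫ i.left = a.left := by
      rw [Category.assoc, ← pullback.condition, IsIso.inv_hom_id_assoc]
    refine ⟨Over.homMk b (by rw [← Over.w i, ← Category.assoc, hbi]; exact Over.w a), ?_, fun c hc => ?_⟩
    · show pullback.fst Y.hom (Neron.genPt R) ≫ b = h
      rw [← cancel_mono i.left, Category.assoc, hbi]
      exact ha
    · refine Over.OverMorphism.ext ?_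
      show c.left = b
      have : IsSeparated G.hom := e ▸ inferInstance
      refine Groth.Agent.NeronLib.eq_of_fst_genPt Y.hom G.hom _ _ ?_ ?_
      · rw [Over.w c, ← Over.w i, ← Category.assoc, hbi, Over.w a]
      · rw [hc, ← cancel_mono i.left, Category.assoc, hbi]
        exact ha.symm
  simpa using hb

end Groth.Agent.S18484
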