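import Groth.Statements.S18486
import Groth.Agent.NeronLib.TorsorProp
open CategoryTheory MonoidalCategory CartesianMonoidalCategory MonObj

set_option autoImplicit false
universe u
open CategoryTheory CategoryTheory.Limits AlgebraicGeometry MonObj
open Neron

namespace Groth.Agent.S18486

/-- Let R be a Dedekind domain with fraction field K, X a group scheme over Spec R which is a Néron
model of its generic fibre, and P a Spec R-scheme with an action of X making it an X-torsor for the
fppf topology (a pseudo-torsor which acquires sections on the members of some fppf covering family
of Spec R). Then P is smooth, separated and of finite type over Spec R and has the Néron mapping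
property: for every smooth Spec R-scheme Y restriction to generic fibres is a bijection from
R-morphisms Y → P onto K-morphisms Y_K → P_K; that is, P is a Néron model of P_K. (The source treats
Néron lft models, torsors that are algebraic spaces and the mapping property towards smooth
algebraic spaces; the case of a Néron model of finite type and a torsor which is a scheme is
stated.) -/
theorem result (R : Type u) [CommRing R] [IsDedekindDomain R]
    (X : Over (Spec (CommRingCat.of R))) [GrpObj X] (hX : Neron.IsNeronModelOf R X ((Neron.genericFibre R).obj X) (Iso.refl _))
    (P : NonAbH1.TorsorSch X Scheme.fppfPrecoverage) :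
    Neron.IsNeronModelOf R P.X ((Neron.genericFibre R).obj P.X) (Iso.refl _) := by
  obtain ⟨hsm, hsep, hlft, hqc, hbij⟩ := hX
  have hXsurj : Surjective X.hom := by
    have : Surjective (η[X].left ≫ X.hom) := by
      rw [Over.w η[X]]
      exact inferInstanceAs (Surjective (𝟙 (Spec (CommRingCat.of R))))
    exact Surjective.of_comp η[X].left X.hom
  have hP := P.isTorsor
  have h1 : Smooth P.X.hom := Groth.Agent.NeronLib.Formal.prop_of_torsor hP @Smooth hsm
  have h2 : Surjective P.X.hom := Groth.Agent.NeronLib.Formal.prop_of_torsor hP @Surjective hXsurj
  refine ⟨h1, Groth.Agent.NeronLib.Formal.prop_of_torsor hP @IsSeparated hsep,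
    Groth.Agent.NeronLib.Formal.prop_of_torsor hP @LocallyOfFiniteType hlft,
    Groth.Agent.NeronLib.Formal.prop_of_torsor hP @QuasiCompact hqc, ?_⟩
  have hG : Groth.Agent.NeronLib.Formal.Nmp (Neron.genPt R) X := fun Z hZ => by
    simpa using hbij Z hZ
  intro Y hY
  simpa using (Groth.Agent.NeronLib.Formal.nmp_iff_of_pseudoTorsor hP.1).1 hG Y hY

end Groth.Agent.S18486
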