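import Groth.Statements.S18488
import Groth.Agent.TorsorDed.Main

set_option autoImplicit false
universe u
open CategoryTheory CategoryTheory.Limits AlgebraicGeometry MonObj
open NonAbH1

namespace Groth.Agent.S18488

/-- Let R be a Dedekind domain with fraction field K and G a proper flat group scheme over Spec R. Then
restriction to the generic fibre, from the set of classes of G-torsors for the fppf topology (Spec
R-schemes with a G-action, pseudo-torsors trivialised on an fppf covering family, up to equivariant
isomorphism) to the set of classes of G_K-torsors, is injective. (The source allows any connected
Dedekind scheme as base and all fppf torsors, which it shows to be schemes; the affine base and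
torsors representable by schemes are stated.) -/
theorem result (R : Type u) [CommRing R] [IsDedekindDomain R]
    (G : Over (Spec (CommRingCat.of R))) [GrpObj G] [IsProper G.hom] [Flat G.hom] :
    Function.Injective (NonAbH1.H1Sch.bcMap (Neron.genPt R) G Scheme.fppfPrecoverage) := by
  intro c c' h
  induction c using Quot.ind with
  | mk P =>
    induction c' using Quot.ind with
    | mk P' =>
      obtain ⟨φ⟩ := (NonAbLib.schCl_eq_iff (P.bc (Neron.genPt R)) (P'.bc (Neron.genPt R))).1 h
      exact (NonAbLib.schCl_eq_iff P P').2 (Groth.Agent.TorsorDed.equivIso_of_genPt P P' φ)
end Groth.Agent.S18488
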