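import Groth.Statements.S1849
import Groth.Agent.CycLib28.TameNorm.Basic
import Groth.Agent.CycLib28.TameNorm.Compositum
import Groth.Agent.CycLib28.TameNorm.Localize

set_option autoImplicit false
universe u
open CycAlg

namespace Groth.Agent.S1849

/-- Let A be a Noetherian local ring of dimension 1 and A ⊆ B a finite extension with B/A killed by a
power of the maximal ideal 𝔪 and 𝔪 not an associated prime of the A-module B. For nonzerodivisors a,
b of A, ∂_A(a, b) is the product over the maximal ideals 𝔪_j of B of the norms from κ(𝔪_j) to κ of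
∂_{B_{𝔪_j}}(a, b). -/
theorem result (A : Type u) [CommRing A] [IsNoetherianRing A] [IsLocalRing A] (hA : ringKrullDim A = 1) (B : Type u) [CommRing B] [Algebra A B] (hB : CycAlg.IsFinExt A B (IsLocalRing.maximalIdeal A)) (hass : IsLocalRing.maximalIdeal A ∉ associatedPrimes A B) [hloc : ∀ q : MaximalSpectrum B, IsLocalHom (algebraMap A (Localization.AtPrime q.asIdeal))] (a b : A) (ha : a ∈ nonZeroDivisors A) (hb : b ∈ nonZeroDivisors A) : CycAlg.tameSymbol A a b = ∏ᶠ q : MaximalSpectrum B, Algebra.norm (IsLocalRing.ResidueField A) (CycAlg.tameSymbol (Localization.AtPrime q.asIdeal) (algebraMap A (Localization.AtPrime q.asIdeal) a) (algebraMap A (Localization.AtPrime q.asIdeal) b)) := by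
  classical
  haveI hB' := hB.2.1
  haveI : Ring.KrullDimLE 1 A := Ring.krullDimLE_iff.mpr hA.le
  haveI : IsNoetherianRing B := IsNoetherianRing.of_finite A B
  haveI : Finite (MaximalSpectrum B) := (CycTameLib.finite_maximalSpectrum (A := A)).1
  letI := Fintype.ofFinite (MaximalSpectrum B)
  haveI : ∀ q : MaximalSpectrum B, IsLocalHom (algebraMap A (Localization.AtPrime q.asIdeal)) := hloc
  rw [finprod_eq_prod_of_fintype]
  by_cases hab : IsUnit a ∧ IsUnit b
  · rw [CycLib28.TameNorm.tameSymbol_units hab.1 hab.2, Finset.prod_eq_one fun q _ ↦ ?_]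
    rw [CycLib28.TameNorm.tameSymbol_units (hab.1.map _) (hab.2.map _), map_one]
  obtain ⟨t, ht, htA⟩ : ∃ t ∈ IsLocalRing.maximalIdeal A, t ∈ nonZeroDivisors A := by
    by_cases h : IsUnit a
    · exact ⟨b, (IsLocalRing.mem_maximalIdeal b).mpr fun h' ↦ hab ⟨h, h'⟩, hb⟩
    · exact ⟨a, (IsLocalRing.mem_maximalIdeal a).mpr h, ha⟩
  have hnzdB : ∀ c ∈ nonZeroDivisors A, algebraMap A B c ∈ nonZeroDivisors B := fun c hc ↦
    CycLib28.TameNorm.algebraMap_mem_nonZeroDivisors hB hass hc
  obtain ⟨B', _, _, hB'fin, π, v, e, hπ, hv⟩ := CycTameLib.exists_common hA ![a, b]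
    (by intro i; fin_cases i <;> assumption)
  haveI := hB'fin.2.1
  haveI : IsNoetherianRing B' := IsNoetherianRing.of_finite A B'
  haveI hlhB' : ∀ q : MaximalSpectrum B', IsLocalHom (algebraMap A (Localization.AtPrime q.asIdeal)) :=
    CycTameLib.isLocalHom_maximal
  have htB' : algebraMap A B' t ∈ nonZeroDivisors B' := by
    have key : ∀ i, algebraMap A B' (![a, b] i) ∈ nonZeroDivisors B' := fun i ↦
      CycTameLib.mem_nonZeroDivisors_of_local _ fun q ↦ by
        rw [← IsScalarTower.algebraMap_apply, hv q i]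
        exact mul_mem (v q i).isUnit.mem_nonZeroDivisors (pow_mem (hπ q) _)
    rw [mem_nonZeroDivisors_iff_right]
    intro z hz
    obtain ⟨s, hs, hsnu⟩ : ∃ s ∈ nonZeroDivisors A, ¬ IsUnit s ∧ algebraMap A B' s ∈ nonZeroDivisors B' := by
      by_cases h : IsUnit a
      · exact ⟨b, hb, fun h' ↦ hab ⟨h, h'⟩, key 1⟩
      · exact ⟨a, ha, h, key 0⟩
    obtain ⟨N, hN⟩ := CycTameLib.exists_pow_mem htA 1
    obtain ⟨d, hd⟩ := Ideal.mem_span_singleton.mp
      (hN (Ideal.pow_mem_pow ((IsLocalRing.mem_maximalIdeal s).mpr hsnu.1) N))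
    refine (mem_nonZeroDivisors_iff_right.mp (pow_mem hsnu.2 N)) z ?_
    rw [← map_pow, hd, pow_one, map_mul, ← mul_assoc, hz, zero_mul]
  obtain ⟨C, _, _, ψ, ψ', hψ, hC, hnzdC⟩ :=
    CycLib28.TameNorm.exists_compositum hB hB'fin ht htA (hnzdB t htA) htB'
  haveI := hC.2.1
  haveI : IsNoetherianRing C := IsNoetherianRing.of_finite A C
  letI : Algebra B C := ψ.toRingHom.toAlgebra
  haveI : IsScalarTower A B C := IsScalarTower.of_algebraMap_eq fun c ↦ (ψ.commutes c).symm
  letI : Algebra B' C := ψ'.toRingHom.toAlgebra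
  haveI : IsScalarTower A B' C := IsScalarTower.of_algebraMap_eq fun c ↦ (ψ'.commutes c).symm
  haveI : ∀ n : MaximalSpectrum C, IsLocalHom (algebraMap A (Localization.AtPrime n.asIdeal)) :=
    CycTameLib.isLocalHom_maximal
  haveI : Finite (MaximalSpectrum C) := (CycTameLib.finite_maximalSpectrum (A := A)).1
  letI := Fintype.ofFinite (MaximalSpectrum C)
  let f : ∀ n : MaximalSpectrum C, Localization.AtPrime (CycTameLib.below (A := A) (B := B') n).asIdeal →+*
      Localization.AtPrime n.asIdeal := fun n ↦ CycTameLib.locMap (A := A) (B := B') n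
  have hfac : ∀ (n : MaximalSpectrum C) (i : Fin 2), algebraMap A (Localization.AtPrime n.asIdeal) (![a, b] i) =
      (Units.map (f n).toMonoidHom (v _ i) : Localization.AtPrime n.asIdeal) * f n (π _) ^ e _ i := fun n i ↦ by
    have hcomp : ∀ c : A, CycTameLib.locMap (A := A) (B := B') n
        (algebraMap A (Localization.AtPrime (CycTameLib.below (A := A) (B := B') n).asIdeal) c) =
        algebraMap A (Localization.AtPrime n.asIdeal) c := fun c ↦ by
      rw [IsScalarTower.algebraMap_apply A B' (Localization.AtPrime (CycTameLib.below (A := A) (B := B') n).asIdeal)]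
      refine (Localization.localRingHom_to_map _ n.asIdeal (algebraMap B' C) rfl _).trans ?_
      rw [← IsScalarTower.algebraMap_apply A B' C,
        ← IsScalarTower.algebraMap_apply A C (Localization.AtPrime n.asIdeal)]
    rw [← hcomp, hv, map_mul, map_pow]
    rfl
  have hπC : ∀ n, f n (π _) ∈ nonZeroDivisors (Localization.AtPrime n.asIdeal) := fun n ↦ by
    by_cases he : e (CycTameLib.below (A := A) (B := B') n) 0 = 0
    · refine CycTameLib.mem_nonZeroDivisors_of_pow (fun he' ↦ ?_) (hfac n 1 ▸ hnzdC b hb n)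
      refine hab ⟨isUnit_of_map_unit (algebraMap A (Localization.AtPrime n.asIdeal)) _ ?_,
        isUnit_of_map_unit (algebraMap A (Localization.AtPrime n.asIdeal)) _ ?_⟩
      · have h := hfac n 0
        rw [he, pow_zero, mul_one] at h
        exact h ▸ Units.isUnit _
      · have h := hfac n 1
        rw [he', pow_zero, mul_one] at h
        exact h ▸ Units.isUnit _
    · exact CycTameLib.mem_nonZeroDivisors_of_pow he (hfac n 0 ▸ hnzdC a ha n)
  rw [CycTameLib.tameSymbol_eq_prod ha hb hC (fun n ↦ f n (π _)) hπC _ _ _ _ (fun n ↦ hfac n 0) (fun n ↦ hfac n 1),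
    ← Fintype.prod_fiberwise (CycTameLib.below (A := A) (B := B) (B' := C))]
  refine Finset.prod_congr rfl fun q _ ↦ ?_
  obtain ⟨N, hN⟩ := hC.2.2
  refine (CycLib28.TameNorm.norm_tameSymbol_atPrime q hψ ht N (fun y ↦ ?_) ?_ ?_ ?_ _ hπC _ _ _ _
    (fun n ↦ hfac n 0) (fun n ↦ hfac n 1)).symm
  · obtain ⟨c, hc⟩ := hN _ (Ideal.pow_mem_pow ht N) y
    exact ⟨algebraMap A B c, by rw [← hc, ← IsScalarTower.algebraMap_apply]⟩
  all_goals
    rw [IsScalarTower.algebraMap_apply A B]
    exact IsLocalization.map_nonZeroDivisors_le q.asIdeal.primeCompl _ (Submonoid.mem_map_of_mem _ (hnzdB _ ‹_›))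
end Groth.Agent.S1849
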