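import Groth.Statements.S18490
import Mathlib.AlgebraicGeometry.Morphisms.QuasiCompact
import Mathlib.AlgebraicGeometry.Morphisms.Immersion
import Mathlib.AlgebraicGeometry.PullbackCarrier

set_option autoImplicit false
universe u
open CategoryTheory CategoryTheory.Limits AlgebraicGeometry
open FlatMor

namespace Groth.Agent.S18490

/-- Let f : X → S and g : Y → S be morphisms of schemes and suppose that g has a section y : S → Y. If
the structure morphism X ×_S Y → S (first projection followed by f) is quasi-compact, then so is f;
likewise for locally of finite type, for separated, and for flat. (Finite type, also listed in the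
source, is the conjunction of the first two.) -/
theorem result {X Y S : Scheme.{u}} (f : X ⟶ S) (g : Y ⟶ S)
    (y : S ⟶ Y) (hy : y ≫ g = 𝟙 S) :
    (QuasiCompact (pullback.fst f g ≫ f) → QuasiCompact f) ∧
    (LocallyOfFiniteType (pullback.fst f g ≫ f) → LocallyOfFiniteType f) ∧
    (IsSeparated (pullback.fst f g ≫ f) → IsSeparated f) ∧
    (Flat (pullback.fst f g ≫ f) → Flat f) := by
  set p := pullback.fst f g
  let s : X ⟶ pullback f g := pullback.lift (𝟙 X) (f ≫ y) (by rw [Category.assoc, hy]; simp)
  have hs : s ≫ p = 𝟙 X := pullback.lift_fst _ _ _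
  have hsurj : Function.Surjective p := fun x => ⟨s x, congr($hs x)⟩
  refine ⟨fun h => ⟨fun U hU hU' => ?_⟩, fun h => ?_, fun h => ?_, fun h => ?_⟩
  · have h1 : IsCompact ((p ≫ f).base ⁻¹' U) := h.1 U hU hU'
    have h2 : f.base ⁻¹' U = p.base '' ((p ≫ f).base ⁻¹' U) := by
      ext x
      constructor
      · intro hx; obtain ⟨z, rfl⟩ := hsurj x; exact ⟨z, hx, rfl⟩
      · rintro ⟨z, hz, rfl⟩; exact hz
    rw [h2]
    exact h1.image p.continuous
  · have : IsImmersion (s ≫ p) := by rw [hs]; infer_instance
    have := IsImmersion.of_comp s p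
    have h3 : LocallyOfFiniteType (s ≫ (p ≫ f)) := inferInstance
    rwa [← Category.assoc, hs, Category.id_comp] at h3
  · have : IsImmersion (s ≫ p) := by rw [hs]; infer_instance
    have := IsImmersion.of_comp s p
    have hsf : f = s ≫ (p ≫ f) := by rw [← Category.assoc, hs, Category.id_comp]
    refine ⟨.of_isPreimmersion _ ?_⟩
    let Δ := pullback.diagonal (p ≫ f)
    let σ : pullback f f ⟶ pullback (p ≫ f) (p ≫ f) :=
      pullback.lift (pullback.fst f f ≫ s) (pullback.snd f f ≫ s) (by
        rw [Category.assoc, Category.assoc, ← hsf]; exact pullback.condition)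
    have hfst : σ ≫ pullback.fst (p ≫ f) (p ≫ f) = pullback.fst f f ≫ s := pullback.lift_fst _ _ _
    have hsnd : σ ≫ pullback.snd (p ≫ f) (p ≫ f) = pullback.snd f f ≫ s := pullback.lift_snd _ _ _
    let π : pullback (p ≫ f) (p ≫ f) ⟶ pullback f f :=
      pullback.lift (pullback.fst _ _ ≫ p) (pullback.snd _ _ ≫ p)
        (by rw [Category.assoc, Category.assoc]; exact pullback.condition)
    have hσπ : σ ≫ π = 𝟙 _ := by
      apply pullback.hom_ext
      · rw [Category.assoc, pullback.lift_fst, reassoc_of% hfst, hs, Category.comp_id,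
          Category.id_comp]
      · rw [Category.assoc, pullback.lift_snd, reassoc_of% hsnd, hs, Category.comp_id,
          Category.id_comp]
    have hΔπ : Δ ≫ π = p ≫ pullback.diagonal f := by
      apply pullback.hom_ext <;>
        simp [Δ, π, pullback.lift_fst, pullback.lift_snd]
    have hσ : pullback.diagonal f ≫ σ = s ≫ Δ := by
      apply pullback.hom_ext
      · rw [Category.assoc, hfst, Category.assoc, pullback.diagonal_fst,
          pullback.diagonal_fst_assoc, Category.comp_id]
      · rw [Category.assoc, hsnd, Category.assoc, pullback.diagonal_snd,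
          pullback.diagonal_snd_assoc, Category.comp_id]
    have : IsClosedImmersion Δ := h.1
    have hr : Set.range (pullback.diagonal f) = σ ⁻¹' Set.range Δ := by
      ext w
      constructor
      · rintro ⟨x, rfl⟩
        exact ⟨s x, congr($hσ x).symm⟩
      · rintro ⟨z, hz⟩
        refine ⟨p z, ?_⟩
        exact (congr($hΔπ z)).symm.trans ((congrArg π hz).trans congr($hσπ w))
    rw [hr]
    exact Δ.isClosedEmbedding.isClosed_range.preimage σ.continuous
  · apply Flat.of_stalkMap
    intro x
    obtain ⟨z, hz⟩ : ∃ z, s x = z := ⟨_, rfl⟩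
    have hsx : p (s x) = x := congr($hs x)
    have hφ : (f.stalkMap (p (s x)) ≫ p.stalkMap (s x)).hom.Flat := by
      rw [← Scheme.Hom.stalkMap_comp]
      exact Flat.stalkMap (p ≫ f) (s x)
    have hret : p.stalkMap (s x) ≫ s.stalkMap x =
        X.presheaf.stalkSpecializes (specializes_of_eq hsx.symm) := by
      rw [← Scheme.Hom.stalkMap_comp, Scheme.Hom.stalkMap_congr_hom _ _ hs]
      simp
    have hflat : (f.stalkMap (p (s x))).hom.Flat := by
      algebraize [(f.stalkMap (p (s x))).hom, (f.stalkMap (p (s x)) ≫ p.stalkMap (s x)).hom]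
      let i : X.presheaf.stalk (p (s x)) →ₗ[S.presheaf.stalk (f (p (s x)))]
          (pullback f g).presheaf.stalk (s x) :=
        { (p.stalkMap (s x)).hom with
          map_smul' := fun a b => by simp [Algebra.smul_def, RingHom.algebraMap_toAlgebra] }
      have hiso : IsIso (X.presheaf.stalkSpecializes (specializes_of_eq hsx.symm)) :=
        ⟨X.presheaf.stalkSpecializes (specializes_of_eq hsx), by simp, by simp⟩
      let r₀ := s.stalkMap x ≫ inv (X.presheaf.stalkSpecializes (specializes_of_eq hsx.symm))
      have hr₀ : p.stalkMap (s x) ≫ r₀ = 𝟙 _ := by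
        simp only [r₀, ← Category.assoc, hret, IsIso.hom_inv_id]
      let r : (pullback f g).presheaf.stalk (s x) →ₗ[S.presheaf.stalk (f (p (s x)))]
          X.presheaf.stalk (p (s x)) :=
        { r₀.hom with
          map_smul' := fun a b => by
            simp only [Algebra.smul_def, RingHom.algebraMap_toAlgebra]
            refine (map_mul r₀.hom _ _).trans ?_
            congr 1
            exact congr($hr₀ ((f.stalkMap (p (s x))) a)) }
      exact Module.Flat.of_retract i r (LinearMap.ext fun a => congr($hr₀ a))
    rw [hsx] at hflat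
    exact hflat

end Groth.Agent.S18490
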