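import Groth.Statements.S18491
import Groth.Agent.AlgGrpLib.EtaleOrder
import Mathlib.AlgebraicGeometry.Morphisms.QuasiFinite

set_option autoImplicit false
universe u
open CategoryTheory CategoryTheory.Limits AlgebraicGeometry MonObj
open GrpSch

namespace Groth.Agent.S18491
open Limits

/-- Let S be a scheme and G an S-group scheme whose structure morphism is locally quasi-finite, of
finite type, flat and locally of finite presentation (a quasi-finite fppf group scheme). Suppose
that for every point s of S the fibre G_s, a finite group scheme over the residue field k(s), has
order non-zero in k(s): the rank of G_s → Spec k(s) at the point of Spec k(s) is not divisible by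
the characteristic. Then G → S is étale. -/
theorem result {S : Scheme.{u}} (G : Over S) [GrpObj G]
    [LocallyQuasiFinite G.hom] [QuasiCompact G.hom] [Flat G.hom] [LocallyOfFinitePresentation G.hom]
    (h : ∀ (s : S) (x : ↥(Spec (S.residueField s))),
      ((pullback.snd G.hom (S.fromSpecResidueField s)).finrank x : S.residueField s) ≠ 0) :
    Etale G.hom := by
  refine Groth.Agent.AlgGrpLib.EtaleOrder.etale_of_fibres G.hom fun s => ?_
  let F := (Over.pullback (S.fromSpecResidueField s)).obj G
  letI : GrpObj F := Functor.grpObjObj
  haveI : LocallyQuasiFinite F.hom := inferInstanceAs (LocallyQuasiFinite (Limits.pullback.snd G.hom _))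
  haveI : QuasiCompact F.hom := inferInstanceAs (QuasiCompact (Limits.pullback.snd G.hom _))
  haveI : IsFinite F.hom := IsFinite.of_locallyQuasiFinite F.hom
  exact Groth.Agent.AlgGrpLib.EtaleOrder.etale_of_isField _ (Field.toIsField (S.residueField s)) F (h s)

end Groth.Agent.S18491
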