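import Groth.Statements.S5414
import Groth.Agent.QFAffine26.Main

set_option autoImplicit false
set_option linter.style.haveILetI false
set_option backward.isDefEq.respectTransparency.types false
universe u
open CategoryTheory MonoidalCategory CartesianMonoidalCategory MonObj GrpObj AlgebraicGeometry CategoryTheory.Limits
open SGA3x

namespace Groth.Agent.S5414

/-- Let S be a locally Noetherian scheme of dimension at most 1, X and Y two S-schemes locally of finite
type over S and u : X → Y an S-morphism which is quasi-finite (quasi-compact, locally quasi-finite)
and separated. Suppose that for every point s of S the morphism u_s : X_s → Y_s induced on the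
fibres over s is finite. Then u is affine. (The published statement takes S of dimension 1; this row
allows dimension at most 1, which its proof covers.) -/
theorem result (S : Scheme.{u}) [IsLocallyNoetherian S] (hdim : topologicalKrullDim ↥S ≤ 1)
    (X Y : Over S) [LocallyOfFiniteType X.hom] [LocallyOfFiniteType Y.hom] (u : X ⟶ Y)
    [QuasiCompact u.left] [LocallyQuasiFinite u.left] [IsSeparated u.left]
    (hfin : ∀ s : S, IsFinite ((Over.pullback (S.fromSpecResidueField s)).map u).left) :
    IsAffineHom u.left := by
  haveI : LocallyOfFiniteType u.left := by
    haveI : LocallyOfFiniteType (u.left ≫ Y.hom) := by rw [Over.w u]; infer_instance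
    exact locallyOfFiniteType_of_comp u.left Y.hom
  refine Groth.Agent.QFAffine26.isAffineHom_of_finite_fibres hdim u.left Y.hom fun s => ?_
  let g := S.fromSpecResidueField s
  have h2 : IsPullback (pullback.fst Y.hom g) (pullback.snd Y.hom g) Y.hom g := IsPullback.of_hasPullback _ _
  have h : IsPullback (pullback.fst X.hom g) ((Over.pullback g).map u).left u.left (pullback.fst Y.hom g) := by
    refine IsPullback.of_bot ?_ ?_ h2
    · have e : ((Over.pullback g).map u).left ≫ pullback.snd Y.hom g = pullback.snd X.hom g :=
        Over.w ((Over.pullback g).map u)
      rw [e, Over.w u]
      exact IsPullback.of_hasPullback X.hom g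
    · simp
      exact (pullback.lift_fst _ _ _).symm
  haveI := hfin s
  show IsFinite (pullback.snd u.left (pullback.fst Y.hom g))
  rw [← h.isoPullback_inv_snd]
  infer_instance

end Groth.Agent.S5414
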