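import Groth.Statements.S18493
import Groth.Agent.NeronIsog27.FlatQF
import Groth.Agent.S5414
-- import your own Groth.Agent.* helpers here

set_option autoImplicit false
set_option linter.style.haveILetI false
set_option backward.isDefEq.respectTransparency.types false
universe u
open CategoryTheory CategoryTheory.Limits AlgebraicGeometry MonObj
open Neron

namespace Groth.Agent.S18493

open CategoryTheory CategoryTheory.Limits MonObj AlgebraicGeometry in
open Groth.Agent in
/-- Let R be a Dedekind domain with fraction field K, let A and B be group schemes over Spec R which are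
Néron models of their generic fibres, both abelian varieties over K (proper and geometrically
integral), let φ : A → B be a homomorphism whose generic fibre is an isogeny (surjective with finite
kernel), and let i : N → A be a kernel of φ (cartesian square against the unit section of B). If φ
is flat, then N → Spec R is locally quasi-finite, of finite type, flat and affine; if moreover A is
proper over Spec R then N → Spec R is finite. -/
theorem result (R : Type u) [CommRing R]
    [IsDedekindDomain R] (A B : Over (Spec (CommRingCat.of R))) [GrpObj A] [GrpObj B]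
    (hA : Neron.IsNeronModelOf R A ((Neron.genericFibre R).obj A) (Iso.refl _))
    (hB : Neron.IsNeronModelOf R B ((Neron.genericFibre R).obj B) (Iso.refl _))
    [IsProper ((Neron.genericFibre R).obj A).hom] [GeometricallyIntegral ((Neron.genericFibre R).obj A).hom]
    [IsProper ((Neron.genericFibre R).obj B).hom] [GeometricallyIntegral ((Neron.genericFibre R).obj B).hom]
    (φ : A ⟶ B) [IsMonHom φ] (hφ : SGA7.IsIsogenyOver ((Neron.genericFibre R).map φ)) [Flat φ.left]
    (N : Over (Spec (CommRingCat.of R))) (i : N ⟶ A) (hN : AlgGrp.IsKernel i φ) :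
    (LocallyQuasiFinite N.hom ∧ QuasiCompact N.hom ∧ Flat N.hom ∧ IsAffineHom N.hom) ∧
    (IsProper A.hom → IsFinite N.hom) := by
  haveI := hA.1; haveI := hA.2.1; haveI := hA.2.2.1; haveI := hA.2.2.2.1
  haveI := hB.1; haveI := hB.2.1
  let F := Neron.genericFibre R
  obtain ⟨GN, hmon⟩ := Groth.Agent.NeronIsog27.exists_grpObj_kernel φ i hN
  letI := GN
  haveI := hmon
  have hsq := hN.map (Over.forget (Spec (CommRingCat.of R)))
  haveI hNflat : Flat N.hom := MorphismProperty.of_isPullback (P := @Flat) hsq ‹Flat φ.left›
  haveI : LocallyOfFiniteType (φ.left ≫ B.hom) := by rw [Over.w φ]; infer_instance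
  haveI : LocallyOfFiniteType φ.left := locallyOfFiniteType_of_comp φ.left B.hom
  haveI : LocallyOfFiniteType N.hom := MorphismProperty.of_isPullback (P := @LocallyOfFiniteType) hsq ‹LocallyOfFiniteType φ.left›
  letI : GrpObj (F.obj A) := Functor.grpObjObj
  letI : GrpObj (F.obj B) := Functor.grpObjObj
  have hNK : AlgGrp.IsKernel (F.map i) (F.map φ) := Groth.Agent.IsoTriv.ExtensionComm.isKernel_bc i φ hN (Neron.genPt R)
  haveI := hφ.2 _ _ hNK
  haveI hNqf : LocallyQuasiFinite N.hom := Groth.Agent.S18485.result R N
  have he : IsClosedImmersion (Over.Hom.left η[B]) := by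
    have h : IsClosedImmersion ((Over.Hom.left η[B]) ≫ B.hom) := by
      rw [Over.w η[B]]; exact inferInstanceAs (IsClosedImmersion (𝟙 _))
    exact IsClosedImmersion.of_comp (Over.Hom.left η[B]) B.hom
  haveI : IsClosedImmersion i.left := MorphismProperty.of_isPullback (P := @IsClosedImmersion) hsq.flip he
  haveI : QuasiCompact N.hom := by rw [← Over.w i]; infer_instance
  haveI : IsSeparated N.hom := by rw [← Over.w i]; infer_instance
  refine ⟨⟨hNqf, inferInstance, hNflat, ?_⟩, fun hp => ?_⟩
  · have hdim : topologicalKrullDim ↥(Spec (CommRingCat.of R)) ≤ 1 := by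
      have h1 : topologicalKrullDim (PrimeSpectrum R) = ringKrullDim R := PrimeSpectrum.topologicalKrullDim_eq_ringKrullDim R
      exact (show topologicalKrullDim (PrimeSpectrum R) ≤ 1 from h1.trans_le (Order.KrullDimLE.krullDim_le))
    let u : N ⟶ Over.mk (𝟙 (Spec (CommRingCat.of R))) := Over.homMk N.hom (Category.comp_id _)
    haveI : LocallyOfFiniteType (Over.mk (𝟙 (Spec (CommRingCat.of R)))).hom := inferInstanceAs (LocallyOfFiniteType (𝟙 _))
    haveI : QuasiCompact u.left := inferInstanceAs (QuasiCompact N.hom)
    haveI : IsSeparated u.left := inferInstanceAs (IsSeparated N.hom)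
    haveI : LocallyQuasiFinite u.left := hNqf
    have := Groth.Agent.S5414.result (Spec (CommRingCat.of R)) hdim N (Over.mk (𝟙 _)) u fun s => by
      let σ := (Spec (CommRingCat.of R)).fromSpecResidueField s
      let m := ((Over.pullback σ).map u).left
      have hm : m ≫ pullback.snd (𝟙 (Spec (CommRingCat.of R))) σ = pullback.snd N.hom σ := Over.w ((Over.pullback σ).map u)
      haveI : IsFinite (pullback.snd N.hom σ) := IsFinite.of_locallyQuasiFinite _
      haveI : IsFinite (m ≫ pullback.snd (𝟙 (Spec (CommRingCat.of R))) σ) := by rw [hm]; infer_instance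
      exact IsFinite.of_comp m (pullback.snd (𝟙 (Spec (CommRingCat.of R))) σ)
    exact this
  · haveI := hp
    haveI : IsProper N.hom := by rw [← Over.w i]; infer_instance
    exact (IsFinite.iff_isProper_and_locallyQuasiFinite _).2 ⟨inferInstance, hNqf⟩

end Groth.Agent.S18493
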