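import Groth.Statements.S1850
import Groth.Agent.CycLib28.TameNorm.Basic
import Groth.Agent.CycLib28.TameNorm.FlatBase
import Groth.Agent.CycLib28.TameNorm.Fibre

set_option autoImplicit false
universe u
open CycAlg
open scoped TensorProduct

namespace Groth.Agent.S1850

/-- Let A → A' be a flat local homomorphism of Noetherian local rings of dimension 1 and m =
length_{A'}(A'/𝔪_A A'). For nonzerodivisors a₁, a₂ of A the image of ∂_A(a₁, a₂)^m in the residue
field of A' equals ∂_{A'}(a₁, a₂). -/
theorem result (A A' : Type u) [CommRing A] [CommRing A'] [IsNoetherianRing A] [IsNoetherianRing A'] [IsLocalRing A] [IsLocalRing A'] [Algebra A A'] [IsLocalHom (algebraMap A A')] [Module.Flat A A'] (hA : ringKrullDim A = 1) (hA' : ringKrullDim A' = 1) (a₁ a₂ : A) (h₁ : a₁ ∈ nonZeroDivisors A) (h₂ : a₂ ∈ nonZeroDivisors A) : IsLocalRing.ResidueField.map (algebraMap A A') (CycAlg.tameSymbol A a₁ a₂) ^ (Module.length A' (A' ⧸ Ideal.map (algebraMap A A') (IsLocalRing.maximalIdeal A))).toNat = CycAlg.tameSymbol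 A' (algebraMap A A' a₁) (algebraMap A A' a₂) := by
  classical
  haveI : Ring.KrullDimLE 1 A := Ring.krullDimLE_iff.mpr hA.le
  haveI : Ring.KrullDimLE 1 A' := Ring.krullDimLE_iff.mpr hA'.le
  by_cases hab : IsUnit a₁ ∧ IsUnit a₂
  · rw [CycLib28.TameNorm.tameSymbol_units hab.1 hab.2, CycLib28.TameNorm.tameSymbol_units (hab.1.map _) (hab.2.map _),
      map_one, one_pow]
  obtain ⟨t, ht, htA⟩ : ∃ t ∈ IsLocalRing.maximalIdeal A, t ∈ nonZeroDivisors A := by
    by_cases h : IsUnit a₁
    · exact ⟨a₂, (IsLocalRing.mem_maximalIdeal _).mpr fun h' ↦ hab ⟨h, h'⟩, h₂⟩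
    · exact ⟨a₁, (IsLocalRing.mem_maximalIdeal _).mpr h, h₁⟩
  have hflatnzd : ∀ c ∈ nonZeroDivisors A, algebraMap A A' c ∈ nonZeroDivisors A' := fun c hc ↦
    CycLib28.TameNorm.algebraMap_mem_nonZeroDivisors_of_flat hc
  have htA' := hflatnzd t htA
  have hart : IsArtinianRing (A' ⧸ (IsLocalRing.maximalIdeal A).map (algebraMap A A')) :=
    CycLib28.TameNorm.isArtinian_fibre ht htA'
  obtain ⟨B, _, _, hB, π, v, e, hπ, hv⟩ := CycTameLib.exists_common hA ![a₁, a₂]
    (by intro i; fin_cases i <;> assumption)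
  haveI := hB.2.1
  haveI : IsNoetherianRing B := IsNoetherianRing.of_finite A B
  haveI : ∀ q : MaximalSpectrum B, IsLocalHom (algebraMap A (Localization.AtPrime q.asIdeal)) :=
    CycTameLib.isLocalHom_maximal
  haveI : Finite (MaximalSpectrum B) := (CycTameLib.finite_maximalSpectrum (A := A)).1
  letI := Fintype.ofFinite (MaximalSpectrum B)
  let ι : B →+* A' ⊗[A] B := Algebra.TensorProduct.includeRight.toRingHom
  have hB' : CycAlg.IsFinExt A' (A' ⊗[A] B) (IsLocalRing.maximalIdeal A') :=
    CycLib28.TameNorm.isFinExt_baseChange hB ht htA'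
  haveI : Module.Finite A' (A' ⊗[A] B) := hB'.2.1
  haveI : IsNoetherianRing (A' ⊗[A] B) := IsNoetherianRing.of_finite A' _
  haveI : ∀ q : MaximalSpectrum (A' ⊗[A] B), IsLocalHom (algebraMap A' (Localization.AtPrime q.asIdeal)) :=
    CycTameLib.isLocalHom_maximal
  haveI : Finite (MaximalSpectrum (A' ⊗[A] B)) := (CycTameLib.finite_maximalSpectrum (A := A')).1
  letI := Fintype.ofFinite (MaximalSpectrum (A' ⊗[A] B))
  have hmax : ∀ n' : MaximalSpectrum (A' ⊗[A] B), (n'.asIdeal.comap ι).IsMaximal := fun n' ↦ by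
    refine Ideal.isMaximal_of_isIntegral_of_isMaximal_comap (R := A) _ ?_
    have h : (n'.asIdeal.comap ι).comap (algebraMap A B) =
        (n'.asIdeal.comap (algebraMap A' (A' ⊗[A] B))).comap (algebraMap A A') := by
      rw [Ideal.comap_comap, Ideal.comap_comap]
      congr 1
      exact RingHom.ext fun c ↦ (Algebra.TensorProduct.tmul_one_eq_one_tmul c).symm
    rw [h, IsLocalRing.eq_maximalIdeal (Ideal.isMaximal_comap_of_isIntegral_of_isMaximal (R := A') n'.asIdeal)]
    have hc : (IsLocalRing.maximalIdeal A').comap (algebraMap A A') = IsLocalRing.maximalIdeal A :=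
      IsLocalRing.maximalIdeal_comap (algebraMap A A')
    rw [hc]
    exact IsLocalRing.maximalIdeal.isMaximal A
  let under : MaximalSpectrum (A' ⊗[A] B) → MaximalSpectrum B := fun n' ↦ ⟨_, hmax n'⟩
  let f : ∀ n' : MaximalSpectrum (A' ⊗[A] B),
      Localization.AtPrime (under n').asIdeal →+* Localization.AtPrime n'.asIdeal := fun n' ↦
    Localization.localRingHom _ n'.asIdeal ι rfl
  have hfac : ∀ (n' : MaximalSpectrum (A' ⊗[A] B)) (i : Fin 2),
      algebraMap A' (Localization.AtPrime n'.asIdeal) (algebraMap A A' (![a₁, a₂] i)) =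
      (Units.map (f n').toMonoidHom (v _ i) : Localization.AtPrime n'.asIdeal) * f n' (π _) ^ e _ i := fun n' i ↦ by
    have hcomp : ∀ c : A, f n' (algebraMap A (Localization.AtPrime (under n').asIdeal) c) =
        algebraMap A' (Localization.AtPrime n'.asIdeal) (algebraMap A A' c) := fun c ↦ by
      rw [IsScalarTower.algebraMap_apply A B (Localization.AtPrime (under n').asIdeal),
        IsScalarTower.algebraMap_apply A' (A' ⊗[A] B) (Localization.AtPrime n'.asIdeal)]
      refine (Localization.localRingHom_to_map _ n'.asIdeal ι rfl _).trans ?_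
      congr 1
      exact (Algebra.TensorProduct.tmul_one_eq_one_tmul c).symm
    rw [← hcomp, hv, map_mul, map_pow]
    rfl
  have hnzd' : ∀ c ∈ nonZeroDivisors A, algebraMap A B c ∈ nonZeroDivisors B → ∀ n' : MaximalSpectrum (A' ⊗[A] B),
      algebraMap A' (Localization.AtPrime n'.asIdeal) (algebraMap A A' c) ∈ nonZeroDivisors _ := fun c hc hcB n' ↦ by
    rw [IsScalarTower.algebraMap_apply A' (A' ⊗[A] B) (Localization.AtPrime n'.asIdeal)]
    refine IsLocalization.map_nonZeroDivisors_le n'.asIdeal.primeCompl _ (Submonoid.mem_map_of_mem _ ?_)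
    exact CycLib28.TameNorm.algebraMap_tmul_mem_nonZeroDivisors hcB
  have hBnzd : ∀ i, algebraMap A B (![a₁, a₂] i) ∈ nonZeroDivisors B := fun i ↦
    CycTameLib.mem_nonZeroDivisors_of_local _ fun q ↦ by
      rw [← IsScalarTower.algebraMap_apply, hv q i]
      exact mul_mem (v q i).isUnit.mem_nonZeroDivisors (pow_mem (hπ q) _)
  have hπ' : ∀ n', f n' (π _) ∈ nonZeroDivisors (Localization.AtPrime n'.asIdeal) := fun n' ↦ by
    by_cases he : e (under n') 0 = 0
    · refine CycTameLib.mem_nonZeroDivisors_of_pow (fun he' ↦ ?_) (hfac n' 1 ▸ hnzd' a₂ h₂ (hBnzd 1) n')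
      refine hab ⟨isUnit_of_map_unit (algebraMap A A') _ (isUnit_of_map_unit (algebraMap A' (Localization.AtPrime n'.asIdeal)) _ ?_),
        isUnit_of_map_unit (algebraMap A A') _ (isUnit_of_map_unit (algebraMap A' (Localization.AtPrime n'.asIdeal)) _ ?_)⟩
      · have h := hfac n' 0
        rw [he, pow_zero, mul_one] at h
        exact h ▸ Units.isUnit _
      · have h := hfac n' 1
        rw [he', pow_zero, mul_one] at h
        exact h ▸ Units.isUnit _
    · exact CycTameLib.mem_nonZeroDivisors_of_pow he (hfac n' 0 ▸ hnzd' a₁ h₁ (hBnzd 0) n')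
  rw [CycTameLib.tameSymbol_eq_prod h₁ h₂ hB π hπ _ _ _ _ (fun q ↦ hv q 0) (fun q ↦ hv q 1),
    CycTameLib.tameSymbol_eq_prod (hflatnzd a₁ h₁) (hflatnzd a₂ h₂) hB' (fun n' ↦ f n' (π _)) hπ' _ _ _ _
      (fun n' ↦ hfac n' 0) (fun n' ↦ hfac n' 1),
    map_prod, ← Finset.prod_pow, ← Fintype.prod_fiberwise under]
  refine Finset.prod_congr rfl fun n _ ↦ ?_
  let x := CycTameLib.base (v n 0) (v n 1) (e n 0) (e n 1)
  obtain ⟨z, hz⟩ := (Ideal.bijective_algebraMap_quotient_residueField n.asIdeal).2 x
  obtain ⟨b, rfl⟩ := Ideal.Quotient.mk_surjective z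
  have hb : IsLocalRing.residue _ (algebraMap B (Localization.AtPrime n.asIdeal) b) = x := hz
  have key : ∀ (n' : MaximalSpectrum (A' ⊗[A] B)) (h : under n' = n),
      Algebra.norm (IsLocalRing.ResidueField A') (CycTameLib.raw (f n' (π _))
          (Units.map (f n').toMonoidHom (v (under n') 0)) (Units.map (f n').toMonoidHom (v (under n') 1))
          (e (under n') 0) (e (under n') 1)) =
        (Algebra.norm (IsLocalRing.ResidueField A') (IsLocalRing.residue _
            (algebraMap (A' ⊗[A] B) (Localization.AtPrime n'.asIdeal) (1 ⊗ₜ b))) ^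
          (Module.length (Localization.AtPrime n'.asIdeal)
            (Localization.AtPrime n'.asIdeal ⧸ (IsLocalRing.maximalIdeal (Localization.AtPrime n.asIdeal)).map
              (Localization.localRingHom n.asIdeal n'.asIdeal _
                ((congrArg MaximalSpectrum.asIdeal h).symm.trans (rfl : (under n').asIdeal = _))))).toNat) ^
          (Ring.ord (Localization.AtPrime n.asIdeal) (π n)).toNat := by
    intro n' h
    subst h
    rw [CycTameLib.raw, map_pow, CycLib28.TameNorm.length_map_mul rfl, mul_comm, pow_mul]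
    congr 3
    haveI : IsLocalHom (f n') := Localization.isLocalHom_localRingHom _ _ _ _
    have e1 : IsLocalRing.residue _ (algebraMap (A' ⊗[A] B) (Localization.AtPrime n'.asIdeal) (1 ⊗ₜ b)) =
        IsLocalRing.ResidueField.map (f n')
          (IsLocalRing.residue _ (algebraMap B (Localization.AtPrime (under n').asIdeal) b)) :=
      (congrArg (IsLocalRing.residue _) (Localization.localRingHom_to_map _ n'.asIdeal ι rfl b)).symm
    rw [e1, hb]
    simp only [x, CycTameLib.base, map_mul, map_pow, map_inv₀, map_neg, map_one, Units.coe_map]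
    rfl
  rw [Finset.prod_congr rfl fun n' _ ↦ key n'.1 n'.2, Finset.prod_pow,
    CycLib28.TameNorm.prod_fibre hart n under (fun _ ↦ rfl) b, hb, CycTameLib.raw]
  simp only [x, map_pow]
  rw [← pow_mul, ← pow_mul, mul_comm]
end Groth.Agent.S1850
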