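import Groth.Statements.S18500
import Groth.Agent.AlgSpLib.SchImage
import Groth.Agent.AlgSpLib.EtLocalInst
import Groth.Agent.AlgSpLib.ThickMor
-- import your own Groth.Agent.* helpers here

set_option autoImplicit false
universe u
open CategoryTheory CategoryTheory.Limits AlgebraicGeometry
open AlgSp

namespace Groth.Agent.S18500

open Opposite Groth.Agent.AlgSpLib

set_option backward.isDefEq.respectTransparency false

/-- kernels of maps from the generic fibre are flat over a Dedekind base -/
theorem flat_ker_subscheme {R : Type u} [CommRing R] [IsDedekindDomain R] {H V : Scheme.{u}} (h : H ⟶ V)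
    [QuasiCompact h] (str : V ⟶ Spec (CommRingCat.of R)) (hK : H ⟶ Spec (CommRingCat.of (FractionRing R)))
    (w : h ≫ str = hK ≫ Neron.genPt R) : Flat (h.ker.subschemeι ≫ str) := by
  refine IsZariskiLocalAtSource.of_openCover (P := @Flat) h.ker.subschemeCover.openCover fun U => ?_
  let Us : V.affineOpens := U
  let χ₀ : CommRingCat.of R ⟶ Γ(V, Us.1) :=
    (Scheme.ΓSpecIso (CommRingCat.of R)).inv ≫ str.appLE ⊤ Us.1 le_top
  let χ : CommRingCat.of R ⟶ CommRingCat.of (Γ(V, Us.1) ⧸ h.ker.ideal Us) :=
    χ₀ ≫ CommRingCat.ofHom (Ideal.Quotient.mk _)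
  have e1 : h.ker.subschemeCover.f Us ≫ h.ker.subschemeι ≫ str = Spec.map χ := by
    rw [← Category.assoc, Scheme.IdealSheafData.subschemeCover_map_subschemeι, Category.assoc]
    have e2 : Us.2.fromSpec ≫ str = Spec.map χ₀ := by
      rw [← IsAffineOpen.SpecMap_appLE_fromSpec str (isAffineOpen_top _) Us.2 le_top, Spec.map_comp]
      congr 1
      simp [IsAffineOpen.fromSpec_top, Scheme.isoSpec]
      apply IsIso.inv_eq_of_hom_inv_id
      simp [← Spec.map_comp]
    rw [Spec.map_comp, ← e2]
    show (Spec.map _ ≫ Us.2.isoSpec.inv) ≫ _ = _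
    rw [Category.assoc]
    rfl
  show Flat (h.ker.subschemeCover.f Us ≫ h.ker.subschemeι ≫ str)
  rw [e1, HasRingHomProperty.Spec_iff (P := @Flat)]
  algebraize [χ.hom]
  show Module.Flat R _
  rw [IsDedekindDomain.flat_iff_torsion_eq_bot, eq_bot_iff]
  rintro z ⟨⟨r, hr⟩, hz⟩
  obtain ⟨a, rfl⟩ := Ideal.Quotient.mk_surjective z
  have hz' : χ₀ r * a ∈ h.ker.ideal Us := Ideal.Quotient.eq_zero_iff_mem.1 hz
  refine Ideal.Quotient.eq_zero_iff_mem.2 ?_
  rw [Scheme.Hom.ker_apply] at hz' ⊢
  have e3 : (h.app Us.1) (χ₀ r) = (hK.appLE ⊤ (h ⁻¹ᵁ Us.1) le_top)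
      ((Scheme.ΓSpecIso (CommRingCat.of (FractionRing R))).inv (algebraMap R (FractionRing R) r)) := by
    have e4 : χ₀ ≫ h.app Us.1 = CommRingCat.ofHom (algebraMap R (FractionRing R)) ≫
        (Scheme.ΓSpecIso _).inv ≫ hK.appLE ⊤ (h ⁻¹ᵁ Us.1) le_top := by
      simp only [χ₀, Category.assoc]
      rw [Scheme.ΓSpecIso_inv_naturality_assoc, Scheme.Hom.app_eq_appLE, Scheme.Hom.appLE_comp_appLE]
      refine congrArg (_ ≫ ·) ?_
      simp only [w]
      exact Scheme.Hom.comp_appLE hK (Neron.genPt R) ⊤ _ _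
    exact congr($(e4) r)
  have hu : IsUnit ((h.app Us.1) (χ₀ r)) := by
    rw [e3]
    exact ((IsLocalization.map_units (FractionRing R) ⟨r, hr⟩).map _).map _
  rw [RingHom.mem_ker, map_mul] at hz'
  exact hu.mul_right_eq_zero.1 hz'
theorem ker_genPt {R K : Type u} [CommRing R] [CommRing K] {φ : R →+* K} (h : Function.Injective φ) :
    (Spec.map (CommRingCat.ofHom φ)).ker = ⊥ := by
  refine le_bot_iff.1 (Scheme.IdealSheafData.le_of_isAffine ?_)
  rw [Scheme.Hom.ker_apply]
  intro x hx
  have h1 : (Spec.map (CommRingCat.ofHom φ)).appTop x = 0 := hx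
  have h2 : (CommRingCat.ofHom φ) ((Scheme.ΓSpecIso (CommRingCat.of R)).hom x) = 0 := by
    have := congr($(Scheme.ΓSpecIso_naturality (CommRingCat.ofHom φ)) x)
    exact this.symm.trans ((congrArg (fun t => (Scheme.ΓSpecIso (CommRingCat.of K)).hom t) h1).trans (map_zero (Scheme.ΓSpecIso (CommRingCat.of K)).hom.hom))
  have h3 : (Scheme.ΓSpecIso (CommRingCat.of R)).hom x = 0 := h (h2.trans (map_zero φ).symm)
  have := congrArg (Scheme.ΓSpecIso (CommRingCat.of R)).inv h3
  rw [map_zero, Iso.hom_inv_id_apply] at this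
  simp [this]

/-- Let R be a Dedekind domain with fraction field K, S = Spec R, and Y an algebraic space over S (an
fppf sheaf on S-schemes with representable diagonal and an étale atlas), with structure map p : Y →
h_S; let Y_K → Y be its generic fibre, the pullback of p along h_{Spec K} → h_S; let k : H → Y_K be
a closed subspace (a representable closed immersion from an algebraic space) and i : Z → Y the
scheme theoretic image of the composite H → Y_K → Y. Then Z is flat over S (étale-locally on
charts), the square H → Z, H → Y_K, Z → Y, Y_K → Y is cartesian for the induced H → Z (the generic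
fibre of Z is H), and Z is the unique such subspace: every closed subspace i' : Z' → Y which is flat
over S and whose pullback along Y_K → Y is H (through some H → Z') is isomorphic to Z over Y. (The
source allows any connected Dedekind scheme as base; the affine base is stated.) -/
theorem result (R : Type u) [CommRing R] [IsDedekindDomain R]
    (Y YK H Z : AlgSp.Space (Spec (CommRingCat.of R)))
    (pY : Y.obj ⟶ (AlgSp.yon (Spec (CommRingCat.of R))).obj (Over.mk (𝟙 (Spec (CommRingCat.of R)))))
    (pr : YK ⟶ Y) (qK : YK.obj ⟶ (AlgSp.yon (Spec (CommRingCat.of R))).obj (Over.mk (Neron.genPt R)))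
    (hYK : IsPullback pr.hom qK pY ((AlgSp.yon (Spec (CommRingCat.of R))).map (Over.mkIdTerminal.from (Over.mk (Neron.genPt R)))))
    (k : H ⟶ YK) (hk : AlgSp.RepWith @IsClosedImmersion k.hom)
    (i : Z ⟶ Y) (hZ : AlgSp.IsSchImage (k.hom ≫ pr.hom) i.hom) :
    AlgSp.LocP @Flat (i.hom ≫ pY) ∧
    (∃ m : H ⟶ Z, m ≫ i = k ≫ pr ∧ IsPullback m.hom k.hom i.hom pr.hom) ∧
    (∀ (Z' : AlgSp.Space (Spec (CommRingCat.of R))) (i' : Z' ⟶ Y) (m' : H ⟶ Z'),
      AlgSp.RepWith @IsClosedImmersion i'.hom → AlgSp.LocP @Flat (i'.hom ≫ pY) →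
      IsPullback m'.hom k.hom i'.hom pr.hom → ∃ e : Z ≅ Z', e.hom ≫ i' = i) := by
  let B := (yon (Spec (CommRingCat.of R))).obj (Over.mk (𝟙 (Spec (CommRingCat.of R))))
  let K₀ := (yon (Spec (CommRingCat.of R))).obj (Over.mk (Neron.genPt R))
  let g₀ : K₀ ⟶ B := (yon (Spec (CommRingCat.of R))).map (Over.mkIdTerminal.from (Over.mk (Neron.genPt R)))
  have hB : IsAlgSpace B := IsAlgSpace.yon_obj _
  have hK₀ : IsAlgSpace K₀ := IsAlgSpace.yon_obj _
  have hg₀l : (Over.mkIdTerminal.from (Over.mk (Neron.genPt R))).left = Neron.genPt R :=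
    (Category.comp_id _).symm.trans (Over.w (Over.mkIdTerminal.from (Over.mk (Neron.genPt R))))
  have hgF : Flat (Over.mkIdTerminal.from (Over.mk (Neron.genPt R))).left := by
    rw [hg₀l]
    refine (HasRingHomProperty.Spec_iff (P := @Flat)).2 ?_
    exact RingHom.flat_algebraMap_iff.2 (IsLocalization.flat (FractionRing R) (nonZeroDivisors R))
  haveI : Mono (Over.mkIdTerminal.from (Over.mk (Neron.genPt R))) := by
    have : Mono ((Over.forget _).map (Over.mkIdTerminal.from (Over.mk (Neron.genPt R)))) := by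
      show Mono (Over.mkIdTerminal.from (Over.mk (Neron.genPt R))).left
      rw [hg₀l]
      have : IsPreimmersion (Neron.genPt R) := IsPreimmersion.of_isLocalization (nonZeroDivisors R)
      infer_instance
    exact (Over.forget _).mono_of_mono_map this
  haveI : Mono g₀ := inferInstanceAs (Mono ((yon _).map _))
  haveI : Mono pr.hom := hYK.mono_fst_of_mono
  have hprF : LocP @Flat pr.hom := locP_of_isPullback etLocal_flat hK₀ hB YK.property hYK.flip
    (locP_of_repWith etLocal_flat hK₀ ((repWith_yon_map_iff @Flat _).2 hgF))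
  have hgqc : IsQuasiCompactMor g₀ := by
    refine (repWith_quasiCompact_iff hK₀ hB (representable_yon_map _)).1 ((repWith_yon_map_iff (P := @QuasiCompact) _).2 ?_)
    rw [hg₀l]
    show QuasiCompact (Spec.map _)
    infer_instance
  have hprq : IsQuasiCompactMor pr.hom := isQuasiCompactMor_of_isPullback hK₀ hB Y.property hYK.flip hgqc
  have hkq : IsQuasiCompactMor k.hom :=
    (repWith_quasiCompact_iff H.property YK.property hk.1).1
      (RepWith.mono (fun _ _ g (_ : IsClosedImmersion g) => (inferInstance : QuasiCompact g)) hk)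
  have hfq := isQuasiCompactMor_comp H.property YK.property Y.property hkq hprq
  haveI : Mono k.hom := mono_closedImmersion hk
  -- flatness
  have hflat : LocP @Flat (i.hom ≫ pY) := by
    obtain ⟨C, hC⟩ := exists_imgChart_qc H.property Y.property (k.hom ≫ pr.hom) hfq
    have hI := chartIdeal_of_isSchImage H.property Y.property C hC hZ
    refine locP_of_atlas etLocal_flat Z.property (hZ.1.1.fst C.p) (RepWith.baseChange (hZ.1.1.isPullback C.p).flip C.he)
      (RepWith.baseChange (hZ.1.1.isPullback C.p).flip C.hs) ?_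
    obtain ⟨g, hg⟩ := (yon _).map_surjective (C.p ≫ pY)
    obtain ⟨hK, hhK⟩ := (yon _).map_surjective (C.a ≫ C.fst ≫ k.hom ≫ qK)
    rw [← Category.assoc, (hZ.1.1.isPullback C.p).w, Category.assoc, ← hg, ← Functor.map_comp]
    refine (repWith_yon_map_iff @Flat _).2 ?_
    have hwg : C.h ≫ g = hK ≫ Over.mkIdTerminal.from (Over.mk (Neron.genPt R)) := (yon _).map_injective (by
      rw [Functor.map_comp, Functor.map_comp, hg, hhK, ← C.w]
      simp only [Category.assoc]
      rw [← C.sq.w_assoc]
      simp only [Category.assoc]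
      rw [← hYK.w])
    have : QuasiCompact C.h.left := hC
    have w' : C.h.left ≫ g.left = hK.left ≫ Neron.genPt R := by
      exact (congrArg (fun m => m.left) hwg).trans (congrArg (hK.left ≫ ·) hg₀l)
    have hfl := flat_ker_subscheme C.h.left g.left hK.left w'
    let q := hZ.1.1.snd C.p
    have : IsClosedImmersion q.left := hZ.1.property_snd C.p
    have hker : q.left.ker = C.h.left.ker := hI
    have e : q.left.toImage ≫ q.left.imageι = q.left := Scheme.Hom.toImage_imageι q.left
    show Flat (q.left ≫ g.left)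
    rw [← e, Category.assoc]
    have : Flat (q.left.imageι ≫ g.left) := by
      show Flat (q.left.ker.subschemeι ≫ g.left)
      rw [hker]
      exact hfl
    infer_instance
  -- the generic fibre
  obtain ⟨⟨m, hm⟩, hmin⟩ := hZ.2
  have sqV : IsPullback (𝟙 H.obj) k.hom (k.hom ≫ pr.hom) pr.hom := by
      refine ⟨⟨by rw [Category.id_comp]⟩, ⟨PullbackCone.IsLimit.mk _ (fun s => s.fst) (fun s => Category.comp_id _)
        (fun s => ?_) (fun s n hn _ => by rw [← hn, Category.comp_id])⟩⟩
      rw [← cancel_mono pr.hom, Category.assoc]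
      exact s.condition
  have sqZ := IsPullback.of_hasPullback i.hom pr.hom
  have himg : IsSchImage k.hom (pullback.snd i.hom pr.hom) :=
    isSchImage_of_flat_baseChange YK.property Y.property H.property hprF hfq hZ sqV sqZ
  haveI := IsClosedImmersion.isStableUnderBaseChange.{u}
  obtain ⟨kk, hkk⟩ := himg.2.2 k.hom H.property hk ⟨𝟙 _, Category.id_comp _⟩
  let l : H.obj ⟶ pullback i.hom pr.hom := pullback.lift m k.hom hm
  haveI : Mono (pullback.snd i.hom pr.hom) := mono_closedImmersion himg.1
  haveI : IsIso l := ⟨kk, by rw [← cancel_mono k.hom, Category.assoc, hkk, pullback.lift_snd, Category.id_comp],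
    by rw [← cancel_mono (pullback.snd i.hom pr.hom), Category.assoc, pullback.lift_snd, hkk, Category.id_comp]⟩
  have hgen : IsPullback m k.hom i.hom pr.hom :=
    sqZ.of_iso (asIso l).symm (Iso.refl _) (Iso.refl _) (Iso.refl _) (by simp [l]) (by simp [l]) (by simp) (by simp)
  refine ⟨hflat, ⟨ObjectProperty.homMk m, ObjectProperty.hom_ext _ hm, hgen⟩, fun Z' i' m' hi' hfl' hp' => ?_⟩
  obtain ⟨e, he⟩ := hmin i'.hom Z'.property hi' ⟨m'.hom, hp'.w⟩
  haveI : Mono i.hom := mono_closedImmersion hZ.1
  haveI : Mono i'.hom := mono_closedImmersion hi'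
  -- the generic point is schematically dense in the base
  have hbase : IsSchImage g₀ (𝟙 B) := by
    refine ⟨repWith_of_isIso _ (𝟙 B), ⟨g₀, Category.comp_id _⟩, fun W w _ hw hf => ?_⟩
    have h1 := (factors_comp_iff hw (Over.mkIdTerminal.from (Over.mk (Neron.genPt R))) (𝟙 B)).1
      (by rw [Category.comp_id]; exact hf)
    have h2 : (Over.mkIdTerminal.from (Over.mk (Neron.genPt R))).left.ker = ⊥ := by
      rw [hg₀l]
      exact ker_genPt (IsFractionRing.injective R (FractionRing R))
    exact (factors_yon_iff hw (𝟙 B)).2 (le_bot_iff.1 (h1.trans h2.le))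
  have sq1 : IsPullback m'.hom (k.hom) i'.hom pr.hom := hp'
  have himg' : IsSchImage m'.hom (𝟙 Z'.obj) :=
    isSchImage_of_flat_baseChange Z'.property hB hK₀ hfl' hgqc hbase
      (sq1.flip.paste_horiz hYK.flip) (IsPullback.of_vert_isIso ⟨by rw [Category.id_comp]; exact Category.comp_id _⟩)
  obtain ⟨n, hn⟩ := hZ.2.1
  have sqP := IsPullback.of_hasPullback i.hom i'.hom
  obtain ⟨r, hr⟩ := himg'.2.2 (pullback.snd i.hom i'.hom)
    (isAlgSpace_of_isPullback Y.property.diag Z.property Z'.property sqP)
    (RepWith.baseChange sqP hZ.1) ⟨pullback.lift m m'.hom (by rw [hm, hp'.w]), pullback.lift_snd _ _ _⟩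
  have hri : (r ≫ pullback.fst i.hom i'.hom) ≫ i.hom = i'.hom := by
    rw [Category.assoc, pullback.condition, ← Category.assoc, hr, Category.id_comp]
  refine ⟨ObjectProperty.isoMk _ ⟨e, r ≫ pullback.fst i.hom i'.hom, ?_, ?_⟩, ObjectProperty.hom_ext _ he⟩
  · rw [← cancel_mono i.hom, Category.assoc, hri, he, Category.id_comp]
  · rw [← cancel_mono i'.hom, Category.assoc, he, hri, Category.id_comp]

end Groth.Agent.S18500
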