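import Groth.Statements.S18502
import Groth.Agent.AlgGrpLib.FppfGeomQuot
import Groth.Agent.GrpdLib.FppfQuot
-- import your own Groth.Agent.* helpers here

set_option autoImplicit false
universe u
open CategoryTheory MonoidalCategory CartesianMonoidalCategory MonObj GrpObj AlgebraicGeometry Topology
open EqInt

set_option backward.isDefEq.respectTransparency.types false
set_option backward.isDefEq.respectTransparency false
open CategoryTheory.Limits
namespace Groth.Agent.S18502

/-- Over a field k, let an affine group scheme G of finite type act on X, let X and Y be separated and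
of finite type over k, and let φ : X → Y be G-invariant, flat and surjective with (σ, p₂) : G × X →
X ×_Y X an isomorphism (X is a principal G-bundle over Y). Conclusion: the pair (Y, φ) realizes Y as
a geometric quotient of X under G, and G acts freely, meaning (σ, p₂) : G × X → X × X is a closed
immersion. (The source takes X and Y integral; integrality plays no role. A geometric quotient is
taken here with φ universally submersive.) -/
theorem result (k : Type u) [Field k]
    (G X Y : Over (Spec (CommRingCat.of k))) [GrpObj G] [IsAffine G.left] [LocallyOfFiniteType G.hom]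
    [LocallyOfFiniteType X.hom] [QuasiCompact X.hom] [IsSeparated X.hom]
    [LocallyOfFiniteType Y.hom] [QuasiCompact Y.hom] [IsSeparated Y.hom]
    (a : AlgGrp.Action G X) (φ : X ⟶ Y) (hinv : GIT.IsInvariant a φ) [Flat φ.left] [Surjective φ.left]
    (hcart : IsIso (GIT.PsiY a φ hinv)) :
    GIT.IsGeomQuot a φ ∧ IsClosedImmersion (GIT.psi a (𝟙 X)).left := by
  have sq : IsPullback (snd G X) a.act φ φ := by
    refine IsPullback.of_map (Over.forget _) hinv.symm ?_
    refine IsPullback.of_iso_pullback ⟨congrArg CommaMorphism.left hinv.symm⟩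
      (@asIso _ _ _ _ (GIT.PsiY a φ hinv) hcart ≪≫ pullbackSymmetry φ.left φ.left) ?_ ?_
    · show (GIT.PsiY a φ hinv ≫ (pullbackSymmetry φ.left φ.left).hom) ≫ pullback.fst _ _ = (snd G X).left
      rw [Category.assoc, pullbackSymmetry_hom_comp_fst, GIT.PsiY, pullback.lift_snd]
    · show (GIT.PsiY a φ hinv ≫ (pullbackSymmetry φ.left φ.left).hom) ≫ pullback.snd _ _ = a.act.left
      rw [Category.assoc, pullbackSymmetry_hom_comp_snd, GIT.PsiY, pullback.lift_fst]
  haveI : IsLocallyNoetherian Y.left := LocallyOfFiniteType.isLocallyNoetherian Y.hom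
  haveI : LocallyOfFiniteType φ.left := by
    haveI : LocallyOfFiniteType (φ.left ≫ Y.hom) := by rw [Over.w φ]; infer_instance
    exact locallyOfFiniteType_of_comp φ.left Y.hom
  haveI : LocallyOfFinitePresentation φ.left := inferInstance
  refine ⟨Groth.Agent.AlgGrpLib.FppfGeomQuot.isGeomQuot a φ
    (Groth.Agent.GrpdLib.isQuotient_of_isPullback a.act (snd G X) φ sq), ?_⟩
  let m : Limits.pullback φ.left φ.left ⟶ Limits.pullback (φ.left ≫ Y.hom) (φ.left ≫ Y.hom) :=
    pullback.mapDesc φ.left φ.left Y.hom
  let c : Limits.pullback (φ.left ≫ Y.hom) (φ.left ≫ Y.hom) ≅ Limits.pullback X.hom X.hom :=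
    pullback.congrHom (Over.w φ) (Over.w φ)
  have e : (GIT.psi a (𝟙 X)).left = GIT.PsiY a φ hinv ≫ m ≫ c.hom := by
    apply pullback.hom_ext
    · simp only [Category.assoc, c, m, pullback.congrHom_hom, pullback.mapDesc, pullback.map, pullback.lift_fst,
        pullback.lift_fst_assoc, Category.comp_id, GIT.PsiY]
      exact congrArg CommaMorphism.left (show GIT.psi a (𝟙 X) ≫ fst X X = a.act by simp [GIT.psi])
    · simp only [Category.assoc, c, m, pullback.congrHom_hom, pullback.mapDesc, pullback.map, pullback.lift_snd,
        pullback.lift_snd_assoc, Category.comp_id, GIT.PsiY]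
      exact congrArg CommaMorphism.left (show GIT.psi a (𝟙 X) ≫ snd X X = snd G X by simp [GIT.psi])
  rw [e]
  haveI := hcart
  infer_instance

end Groth.Agent.S18502
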