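import Groth.Statements.S18504
import Groth.Agent.Desc19.Topology
-- import your own Groth.Agent.* helpers here

set_option autoImplicit false
universe u
open CategoryTheory MonoidalCategory CartesianMonoidalCategory MonObj GrpObj AlgebraicGeometry Topology
open EqInt

set_option backward.isDefEq.respectTransparency.types false
namespace Groth.Agent.S18504

/-- Over a field k, let an affine group scheme G of finite type act on X, with X and Y separated of
finite type over k, and let (Y, φ) be a geometric quotient of X by G. Then φ is universally open.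
(The source takes X and Y integral; integrality plays no role. A geometric quotient is taken here
with φ universally submersive, and with this reading the universal openness is what the argument
gives.) -/
theorem result (k : Type u) [Field k]
    (G X Y : Over (Spec (CommRingCat.of k))) [GrpObj G] [IsAffine G.left] [LocallyOfFiniteType G.hom]
    [LocallyOfFiniteType X.hom] [QuasiCompact X.hom] [IsSeparated X.hom]
    [LocallyOfFiniteType Y.hom] [QuasiCompact Y.hom] [IsSeparated Y.hom]
    (a : AlgGrp.Action G X) (φ : X ⟶ Y) (h : GIT.IsGeomQuot a φ) :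
    UniversallyOpen φ.left := by
  refine ⟨fun {X' Y'} pr g φ' hpb => ?_⟩
  intro V hV
  haveI : UniversallyOpen G.hom := Groth.Agent.Desc19.universallyOpen_of_subsingleton G.hom
  haveI : UniversallyOpen (snd G X).left :=
    inferInstanceAs (UniversallyOpen (Limits.pullback.snd G.hom X.hom))
  let v : Limits.pullback (snd G X).left pr ⟶ X' := Limits.pullback.snd _ _
  haveI : UniversallyOpen v := MorphismProperty.pullback_snd _ _ ‹UniversallyOpen (snd G X).left›
  have hc : (snd G X).left ≫ φ.left = a.act.left ≫ φ.left := h.inv.left.symm
  let u : Limits.pullback (snd G X).left pr ⟶ X' :=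
    hpb.lift (v ≫ φ') (Limits.pullback.fst _ _ ≫ a.act.left) (by
      rw [Category.assoc, hpb.w, Category.assoc, ← hc, Limits.pullback.condition_assoc])
  have hu1 : u ≫ φ' = v ≫ φ' := hpb.lift_fst _ _ _
  have hu2 : u ≫ pr = Limits.pullback.fst _ _ ≫ a.act.left := hpb.lift_snd _ _ _
  have hsat : φ' ⁻¹' (φ' '' V) = v '' (u ⁻¹' V) := by
    apply le_antisymm
    · rintro x'' ⟨x', hx', he⟩
      obtain ⟨z, hz1, hz2⟩ := Scheme.Pullback.exists_preimage_pullback x' x'' he
      let m : Limits.pullback φ' φ' ⟶ Limits.pullback φ.left φ.left :=
        Limits.pullback.map _ _ _ _ pr pr g hpb.w hpb.w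
      obtain ⟨p, hp⟩ := h.orbit (m z)
      obtain ⟨t, ht1, -⟩ := Scheme.Pullback.exists_preimage_pullback (f := m) (g := GIT.PsiY a φ h.inv) z p hp.symm
      have hc2 : Limits.pullback.snd m (GIT.PsiY a φ h.inv) ≫ (snd G X).left =
          (Limits.pullback.fst m (GIT.PsiY a φ h.inv) ≫ Limits.pullback.snd φ' φ') ≫ pr := by
        have := congrArg (· ≫ Limits.pullback.snd φ.left φ.left)
          (Limits.pullback.condition (f := m) (g := GIT.PsiY a φ h.inv))
        simp only [m, Limits.pullback.map, GIT.PsiY, Category.assoc, Limits.pullback.lift_snd] at this ⊢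
        exact this.symm
      let wo : Limits.pullback m (GIT.PsiY a φ h.inv) ⟶ Limits.pullback (snd G X).left pr :=
        Limits.pullback.lift _ _ hc2
      have hv : wo ≫ v = Limits.pullback.fst m _ ≫ Limits.pullback.snd φ' φ' := Limits.pullback.lift_snd _ _ _
      have hwu : wo ≫ u = Limits.pullback.fst m _ ≫ Limits.pullback.fst φ' φ' := by
        apply hpb.hom_ext
        · rw [Category.assoc, hu1, ← Category.assoc, hv, Category.assoc, Category.assoc, Limits.pullback.condition]
        · rw [Category.assoc, hu2, Limits.pullback.lift_fst_assoc]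
          have := congrArg (· ≫ Limits.pullback.fst φ.left φ.left)
            (Limits.pullback.condition (f := m) (g := GIT.PsiY a φ h.inv))
          simp only [m, Limits.pullback.map, GIT.PsiY, Category.assoc, Limits.pullback.lift_fst] at this ⊢
          exact this.symm
      refine ⟨wo t, ?_, ?_⟩
      · show u (wo t) ∈ V
        rw [← Scheme.Hom.comp_apply, hwu, Scheme.Hom.comp_apply, ht1, hz1]
        exact hx'
      · rw [← Scheme.Hom.comp_apply, hv, Scheme.Hom.comp_apply, ht1, hz2]
    · rintro _ ⟨w, hw, rfl⟩
      refine ⟨u w, hw, ?_⟩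
      rw [← Scheme.Hom.comp_apply, hu1, Scheme.Hom.comp_apply]
  have hq : Topology.IsQuotientMap φ' := h.subm pr g φ' hpb
  rw [← hq.isOpen_preimage, hsat]
  exact v.isOpenMap _ (hV.preimage u.continuous)
end Groth.Agent.S18504
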