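import Groth.Statements.S18505
import Groth.Agent.EqInt24.FlatReg
import Groth.Agent.NormalPush24.Basic
import Groth.Agent.FEtFF.Normal
-- import your own Groth.Agent.* helpers here

set_option autoImplicit false
universe u
open CategoryTheory MonoidalCategory CartesianMonoidalCategory MonObj GrpObj AlgebraicGeometry Topology
open EqInt

set_option backward.isDefEq.respectTransparency.types false
namespace Groth.Agent.S18505

/-- Over an algebraically closed field k of characteristic zero, let an affine group scheme G of finite
type act on a normal variety X (integral, separated, of finite type over k, with integrally closed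
local rings) and let (Y, φ) be a geometric quotient of X by G with Y separated of finite type over
k. Then Y is normal. (The other two conditions of the published criterion are immediate from the
definition of a geometric quotient, and its converse rests on a result quoted there without proof;
only this implication is stated. A geometric quotient is taken here with φ universally submersive.) -/
theorem result (k : Type u) [Field k] [IsAlgClosed k] [CharZero k]
    (G X Y : Over (Spec (CommRingCat.of k))) [GrpObj G] [IsAffine G.left] [LocallyOfFiniteType G.hom]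
    [LocallyOfFiniteType X.hom] [QuasiCompact X.hom] [IsSeparated X.hom] [IsIntegral X.left]
    (hX : Pi1.IsNormalScheme X.left)
    [LocallyOfFiniteType Y.hom] [QuasiCompact Y.hom] [IsSeparated Y.hom]
    (a : AlgGrp.Action G X) (φ : X ⟶ Y) (h : GIT.IsGeomQuot a φ) :
    Pi1.IsNormalScheme Y.left := by
  have hinj := fun U => (h.sections U).1
  haveI : IrreducibleSpace Y.left :=
    { isPreirreducible_univ := by
        rw [← Function.Surjective.range_eq h.surj, ← Set.image_univ]
        exact (PreirreducibleSpace.isPreirreducible_univ (X := X.left)).image _ φ.left.continuous.continuousOn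
      toNonempty := ⟨φ.left (genericPoint X.left)⟩ }
  haveI : IsReduced Y.left := ⟨fun U => isReduced_of_injective (φ.left.app U).hom (hinj U)⟩
  haveI : IsIntegral Y.left := isIntegral_of_irreducibleSpace_of_isReduced _
  haveI : Flat G.hom := Groth.Agent.EqInt24.flat_to_field G.hom
  haveI : Flat (snd G X).left := inferInstanceAs (Flat (Limits.pullback.snd G.hom X.hom))
  intro y
  refine ⟨inferInstance, ?_⟩
  obtain ⟨U, hU, hyU, -⟩ := exists_isAffineOpen_mem_and_subset (x := y) (U := ⊤) trivial
  haveI : Nonempty U := ⟨⟨y, hyU⟩⟩
  obtain ⟨x, hx⟩ := h.surj y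
  set V := φ.left ⁻¹ᵁ U
  haveI : Nonempty V := ⟨⟨x, by show φ.left x ∈ U; rw [hx]; exact hyU⟩⟩
  haveI : IsIntegrallyClosed Γ(X.left, V) := by
    haveI : IsIntegral V.toScheme := isIntegral_of_isOpenImmersion V.ι
    haveI := Groth.Agent.NormalPush24.isIntegrallyClosed_top (Groth.Agent.FEtFF.isNormalScheme_open hX V)
    exact IsIntegrallyClosed.of_equiv V.topIso.commRingCatIsoToRingEquiv
  set r : Γ(Y.left, U) →+* Γ(X.left, V) := (φ.left.app U).hom with hr
  haveI : IsIntegrallyClosed Γ(Y.left, U) := by
    refine (isIntegrallyClosed_iff (FractionRing Γ(Y.left, U))).2 fun {z} hz => ?_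
    obtain ⟨a₀, b, hb, rfl⟩ := IsFractionRing.div_surjective (A := Γ(Y.left, U)) z
    have hb0 : b ≠ 0 := nonZeroDivisors.ne_zero hb
    let L : FractionRing Γ(Y.left, U) →+* FractionRing Γ(X.left, V) :=
      IsFractionRing.lift (A := Γ(Y.left, U)) (g := (algebraMap _ (FractionRing Γ(X.left, V))).comp r)
        ((IsFractionRing.injective _ _).comp (hinj U))
    have hL : ∀ t, L (algebraMap _ _ t) = algebraMap _ _ (r t) := IsFractionRing.lift_algebraMap _
    have hint : IsIntegral Γ(X.left, V) (L (algebraMap _ _ a₀ / algebraMap _ _ b)) := by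
      obtain ⟨p, hp, hp0⟩ := hz
      refine ⟨p.map r, hp.map _, ?_⟩
      rw [Polynomial.eval₂_map, show (algebraMap _ (FractionRing Γ(X.left, V))).comp r = L.comp (algebraMap _ _) from
        RingHom.ext fun t => (hL t).symm, ← Polynomial.hom_eval₂, hp0, map_zero]
    obtain ⟨c, hc⟩ := IsIntegrallyClosed.isIntegral_iff.1 hint
    have hrb : r b ≠ 0 := fun e => hb0 (hinj U (e.trans (map_zero _).symm))
    have hcb : c * r b = r a₀ := by
      apply IsFractionRing.injective Γ(X.left, V) (FractionRing Γ(X.left, V))
      rw [map_mul, hc, map_div₀, hL, hL, div_mul_cancel₀]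
      exact fun e => hrb (IsFractionRing.injective _ _ (e.trans (map_zero _).symm))
    have hcinv : GIT.IsInvSection a φ U c := by
      unfold GIT.IsInvSection
      have hA : GIT.IsInvSection a φ U (r a₀) := (h.sections U).2.le ⟨a₀, rfl⟩
      have hB : GIT.IsInvSection a φ U (r b) := (h.sections U).2.le ⟨b, rfl⟩
      unfold GIT.IsInvSection at hA hB
      rw [← hcb, map_mul, map_mul, hB] at hA
      exact (Groth.Agent.EqInt24.isRegular_appLE (snd G X).left inf_le_right hrb).right hA
    obtain ⟨e, he⟩ := (h.sections U).2.ge hcinv
    refine ⟨e, ?_⟩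
    have : e * b = a₀ := hinj U (by rw [map_mul, he]; exact hcb)
    rw [eq_div_iff (fun h0 => hb0 (IsFractionRing.injective _ _ (h0.trans (map_zero _).symm))), ← map_mul, this]
  letI := TopCat.Presheaf.algebra_section_stalk Y.left.presheaf (⟨y, hyU⟩ : U)
  haveI := hU.isLocalization_stalk ⟨y, hyU⟩
  exact isIntegrallyClosed_of_isLocalization (R := Γ(Y.left, U)) (S := Y.left.presheaf.stalk y)
    (hU.primeIdealOf ⟨y, hyU⟩).asIdeal.primeCompl (Ideal.primeCompl_le_nonZeroDivisors _)
end Groth.Agent.S18505
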