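import Groth.Statements.S18506
import Groth.Agent.EqInt24.ZarQuot
-- import your own Groth.Agent.* helpers here

set_option autoImplicit false
universe u
open CategoryTheory MonoidalCategory CartesianMonoidalCategory MonObj GrpObj AlgebraicGeometry Topology
open EqInt

set_option backward.isDefEq.respectTransparency.types false
namespace Groth.Agent.S18506

/-- Over a field k, let an affine group scheme G of finite type act on X and on U (quasi-separated
schemes of finite type over k), and let π : U → B be a principal bundle quotient (π is G-invariant,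
flat and surjective and (σ, p₂) : G × U → U ×_B U is an isomorphism) which is locally trivial in the
Zariski topology: every point of B has an open neighbourhood over which π has a section. Then the
diagonal action of G on X × U has a principal bundle quotient X × U → Q in the category of schemes.
(The published hypothesis is that G is special, i.e. every principal G-bundle is Zariski-locally
trivial; only the local triviality of U → B is used, and it is what is assumed here.) -/
theorem result (k : Type u) [Field k]
    (G X U B : Over (Spec (CommRingCat.of k))) [GrpObj G] [IsAffine G.left] [LocallyOfFiniteType G.hom]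
    [LocallyOfFiniteType X.hom] [QuasiCompact X.hom] [QuasiSeparated X.hom]
    [LocallyOfFiniteType U.hom] [QuasiCompact U.hom] [QuasiSeparated U.hom]
    [LocallyOfFiniteType B.hom] [QuasiCompact B.hom] [QuasiSeparated B.hom]
    (a : AlgGrp.Action G X) (b : AlgGrp.Action G U) (π : U ⟶ B) (hinv : GIT.IsInvariant b π)
    [Flat π.left] [Surjective π.left] (hcart : IsIso (GIT.PsiY b π hinv))
    (hzar : ∀ y : ↥B.left, ∃ (W : B.left.Opens) (s : (↑W : Scheme.{u}) ⟶ U.left), y ∈ W ∧ s ≫ π.left = W.ι) :
    ∃ (Q : Over (Spec (CommRingCat.of k))) (ρ : X ⊗ U ⟶ Q) (hρ : GIT.IsInvariant (a.prod b) ρ),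
      Flat ρ.left ∧ Surjective ρ.left ∧ IsIso (GIT.PsiY (a.prod b) ρ hρ) := by
  haveI := hcart
  have hz : ∀ y : ↥B.left, ∃ i : Groth.Agent.EqInt24.ZarQuot.Idx π, y ∈ i.1 := fun y => by
    obtain ⟨W, s, hy, hs⟩ := hzar y
    refine ⟨⟨W, Over.homMk s ?_, Over.OverMorphism.ext hs⟩, hy⟩
    show s ≫ U.hom = W.ι ≫ B.hom
    rw [← Over.w π, ← Category.assoc, hs]
  exact ⟨Groth.Agent.EqInt24.ZarQuot.Q a b π hinv hz, Groth.Agent.EqInt24.ZarQuot.rho a b π hinv hz,
    Groth.Agent.EqInt24.ZarQuot.rho_invariant a b π hinv hz, Groth.Agent.EqInt24.ZarQuot.flat_rho a b π hinv hz,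
    Groth.Agent.EqInt24.ZarQuot.surjective_rho a b π hinv hz, Groth.Agent.EqInt24.ZarQuot.isIso_psiY a b π hinv hz⟩

end Groth.Agent.S18506
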