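import Groth.Statements.S5365
import Groth.Agent.AlgGrpLib.ConnComp
import Groth.Agent.SGA3cLib.GeomConn
import Groth.Agent.SGA3cLib.NeutralSmooth
import Groth.Agent.SGA3cLib.ArtinComponent
import Groth.Agent.SGA3xLib.SepFibre

set_option autoImplicit false
universe u
open CategoryTheory CategoryTheory.Limits MonoidalCategory CartesianMonoidalCategory MonObj GrpObj AlgebraicGeometry
open SGA3

namespace Groth.Agent.S5365

set_option backward.isDefEq.respectTransparency.types false
set_option linter.style.haveILetI false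

theorem neutralSet_eq {k : Type u} [Field k] (Γ : Over (Spec (CommRingCat.of k))) [GrpObj Γ] :
    SGA3x.neutralSet Γ = connectedComponent (AlgGrpLib.ConnComp.e₀ Γ) := by
  haveI : Subsingleton ↥(Spec (CommRingCat.of k)) := inferInstanceAs (Subsingleton (PrimeSpectrum k))
  have huniv : ∀ q, Γ.hom.base ⁻¹' {q} = Set.univ := fun q =>
    Set.eq_univ_of_forall fun w => Subsingleton.elim (α := ↥(Spec (CommRingCat.of k))) _ _
  show (⋃ p, connectedComponentIn _ _) = _
  simp only [huniv, connectedComponentIn_univ]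
  refine Set.Subset.antisymm (Set.iUnion_subset fun p => ?_) fun x hx => ?_
  · rw [Subsingleton.elim (α := ↥(Spec (CommRingCat.of k))) p (IsLocalRing.closedPoint _)]
  · exact Set.mem_iUnion.2 ⟨IsLocalRing.closedPoint _, hx⟩

variable {k : Type u} [Field k] {G A B : Over (Spec (CommRingCat.of k))} [GrpObj G] [GrpObj A] [GrpObj B]

/-- The commutator morphism lands in `A` when `A` is normal. -/
theorem exists_factor (a : A ⟶ G) [IsMonHom a] (hA : AlgGrp.IsNormalHom a) (b : B ⟶ G) :
    ∃ f : A ⊗ B ⟶ A, f ≫ a = (((fst A B) ≫ a) * ((snd A B) ≫ b) * ((fst A B) ≫ a)⁻¹ * ((snd A B) ≫ b)⁻¹) := by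
  obtain ⟨n', hn'⟩ := hA (A ⊗ B) ((snd A B) ≫ b) (fst A B)⁻¹
  refine ⟨fst A B * n', ?_⟩
  rw [MonObj.mul_comp, ← hn', GrpObj.inv_comp]
  simp only [_root_.mul_assoc]

/-- A closed subgroup containing a connected family through the unit as minimal one is connected. -/
theorem connected_of_minimal [LocallyOfFiniteType G.hom] [ConnectedSpace A.left]
    (c : A ⊗ B ⟶ G) (hc : lift (toUnit B ≫ η[A]) (𝟙 B) ≫ c = 1)
    (Γ : Over (Spec (CommRingCat.of k))) [GrpObj Γ] (i : Γ ⟶ G) [IsMonHom i] [IsClosedImmersion i.left]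
    (hf : ∃ f' : A ⊗ B ⟶ Γ, f' ≫ i = c)
    (hmin : ∀ (Γ' : Over (Spec (CommRingCat.of k))) (_ : GrpObj Γ') (i' : Γ' ⟶ G), IsMonHom i' → IsClosedImmersion i'.left →
        (∃ f'' : A ⊗ B ⟶ Γ', f'' ≫ i' = c) → ∃ j : Γ ⟶ Γ', j ≫ i' = i) :
    ConnectedSpace Γ.left ∧ QuasiCompact Γ.hom := by
  obtain ⟨f', hf'⟩ := hf
  haveI : Mono i := (Over.forget _).mono_of_mono_map (inferInstanceAs (Mono i.left))
  haveI : LocallyOfFiniteType Γ.hom := by rw [← Over.w i]; infer_instance
  haveI : IsLocallyNoetherian Γ.left := LocallyOfFiniteType.isLocallyNoetherian Γ.hom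
  let e := AlgGrpLib.ConnComp.e₀ Γ
  haveI : GeometricallyConnected A.hom := by
    have := SGA3cLib.geometricallyConnected_of_rational_point k A.hom (𝟙 A.left) η[A].left (Over.w η[A]) (by simp)
    simpa using this
  haveI : GeometricallyConnected (snd A B).left := inferInstanceAs (GeometricallyConnected (pullback.snd A.hom B.hom))
  have hs : lift (toUnit B ≫ η[A]) (𝟙 B) ≫ f' = 1 := by
    rw [← cancel_mono i, Category.assoc, hf', hc, MonObj.one_comp]
  haveI : Subsingleton ↥(Spec (CommRingCat.of k)) := inferInstanceAs (Subsingleton (PrimeSpectrum k))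
  have hrange : ∀ z, f'.left.base z ∈ connectedComponent e := by
    intro z
    let w := (snd A B).left.base z
    have hpre := ((snd A B).left.isConnected_preimage_singleton w).isPreconnected.image _
      f'.left.continuous.continuousOn
    refine hpre.subset_connectedComponent ?_ ⟨z, rfl, rfl⟩
    refine ⟨(lift (toUnit B ≫ η[A]) (𝟙 B)).left.base w, ?_, ?_⟩
    · show (lift (toUnit B ≫ η[A]) (𝟙 B) ≫ snd A B).left.base w = w
      rw [lift_snd]; rfl
    · show (lift (toUnit B ≫ η[A]) (𝟙 B) ≫ f').left.base w = e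
      rw [hs, Hom.one_def, Over.comp_left, Scheme.Hom.comp_apply]
      exact congrArg η[Γ].left.base (Subsingleton.elim (α := ↥(Spec (CommRingCat.of k))) _ _)
  let O : Γ.left.Opens := ⟨connectedComponent e, SGA3cLib.isOpen_connectedComponent _⟩
  obtain ⟨inst, hi⟩ := SGA3cLib.NeutralSmooth.exists_openSubgroup O (neutralSet_eq Γ).symm
  let incl : (Over.mk (O.ι ≫ Γ.hom) : Over _) ⟶ Γ := Over.homMk O.ι rfl
  haveI : IsMonHom incl := hi
  haveI : IsClosedImmersion O.ι := IsClosedImmersion.of_isPreimmersion O.ι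
    (by rw [O.range_ι]; exact isClosed_connectedComponent)
  have hsub : Set.range f'.left.base ⊆ Set.range O.ι.base := by
    rintro _ ⟨z, rfl⟩; rw [O.range_ι]; exact hrange z
  let f₀ : A ⊗ B ⟶ Over.mk (O.ι ≫ Γ.hom) := Over.homMk (IsOpenImmersion.lift O.ι f'.left hsub)
    (by show _ ≫ O.ι ≫ Γ.hom = _; rw [IsOpenImmersion.lift_fac_assoc]; exact Over.w f')
  have hf₀ : f₀ ≫ incl = f' := Over.OverMorphism.ext (IsOpenImmersion.lift_fac _ _ _)
  obtain ⟨j, hj⟩ := hmin _ inst (incl ≫ i) inferInstance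
    (inferInstanceAs (IsClosedImmersion (O.ι ≫ i.left)))
    ⟨f₀, by rw [← Category.assoc, hf₀, hf']⟩
  have hji : j ≫ incl = 𝟙 Γ := by rw [← cancel_mono i, Category.assoc, hj, Category.id_comp]
  have huniv : connectedComponent e = Set.univ := by
    refine Set.eq_univ_of_forall fun x => ?_
    rw [show x = incl.left.base (j.left.base x) from (congrArg (fun φ : Γ ⟶ Γ => φ.left.base x) hji).symm]
    exact (O.range_ι).le ⟨j.left.base x, rfl⟩
  refine ⟨connectedSpace_iff_univ.2 (huniv ▸ isConnected_connectedComponent), ?_⟩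
  haveI : CompactSpace Γ.left := ⟨by
    rw [← huniv, AlgGrpLib.ConnComp.connectedComponent_eq]; exact AlgGrpLib.ConnComp.isCompact_component Γ⟩
  infer_instance

/-- Let G be a group scheme locally of finite type over a field k, a : A → G and b : B → G two closed
subgroup schemes which are geometrically reduced over k, and i : Γ → G the commutator subgroup
scheme (A, B), the smallest closed subgroup scheme through which (x, y) ↦ a(x) b(y) a(x)⁻¹ b(y)⁻¹
factors. Suppose either (a) A and B are normal in G and of finite type over k, or (b) A is connected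
and B is of finite type over k. Then Γ is of finite type over k, and in case (b) Γ is connected.
(The published statement also asserts that this subgroup represents the fppf sheaf generated by
commutators and describes its neutral component; this row states only the finiteness and
connectedness assertions.) -/
theorem result (k : Type u) [Field k] (G A B : Over (Spec (CommRingCat.of k))) [GrpObj G] [GrpObj A] [GrpObj B]
    [LocallyOfFiniteType G.hom]
    (a : A ⟶ G) [IsMonHom a] [IsClosedImmersion a.left] (b : B ⟶ G) [IsMonHom b] [IsClosedImmersion b.left]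
    [GeometricallyReduced A.hom] [GeometricallyReduced B.hom] [QuasiCompact B.hom]
    (hcase : (AlgGrp.IsNormalHom a ∧ AlgGrp.IsNormalHom b ∧ QuasiCompact A.hom) ∨ ConnectedSpace A.left)
    (Γ : Over (Spec (CommRingCat.of k))) [GrpObj Γ] (i : Γ ⟶ G) [IsMonHom i] [IsClosedImmersion i.left]
    (hf : ∃ f' : A ⊗ B ⟶ Γ, f' ≫ i = (((fst A B) ≫ a) * ((snd A B) ≫ b) * ((fst A B) ≫ a)⁻¹ * ((snd A B) ≫ b)⁻¹))
    (hmin : ∀ (Γ' : Over (Spec (CommRingCat.of k))) (_ : GrpObj Γ') (i' : Γ' ⟶ G), IsMonHom i' → IsClosedImmersion i'.left →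
        (∃ f'' : A ⊗ B ⟶ Γ', f'' ≫ i' = (((fst A B) ≫ a) * ((snd A B) ≫ b) * ((fst A B) ≫ a)⁻¹ * ((snd A B) ≫ b)⁻¹)) → ∃ j : Γ ⟶ Γ', j ≫ i' = i) :
    QuasiCompact Γ.hom ∧ (ConnectedSpace A.left → ConnectedSpace Γ.left) := by
  haveI : Mono i := (Over.forget _).mono_of_mono_map (inferInstanceAs (Mono i.left))
  have hc : lift (toUnit B ≫ η[A]) (𝟙 B) ≫
      (((fst A B) ≫ a) * ((snd A B) ≫ b) * ((fst A B) ≫ a)⁻¹ * ((snd A B) ≫ b)⁻¹) = 1 := by
    simp only [MonObj.comp_mul, GrpObj.comp_inv, lift_fst_assoc, lift_snd_assoc, Category.assoc, Category.id_comp,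
      ← Hom.one_def, MonObj.one_comp, _root_.one_mul, _root_.inv_one, _root_.mul_one, _root_.mul_inv_cancel]
  refine ⟨?_, fun h => (connected_of_minimal _ hc Γ i hf hmin).1⟩
  rcases hcase with ⟨hA, hB, hAq⟩ | hconn
  · haveI : IsSeparated G.hom := SGA3xLib.isSeparated_of_grpObj G
    obtain ⟨j, hj⟩ := hmin A inferInstance a inferInstance inferInstance (exists_factor a hA b)
    haveI : IsClosedImmersion (j ≫ a).left := by rw [hj]; infer_instance
    haveI : IsClosedImmersion (j.left ≫ a.left) := this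
    haveI : IsClosedImmersion j.left := IsClosedImmersion.of_comp j.left a.left
    rw [← Over.w j]
    infer_instance
  · exact (connected_of_minimal _ hc Γ i hf hmin).2

end Groth.Agent.S5365
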