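import Groth.Statements.S18514
import Groth.Agent.EqInt24.Envelope
import Groth.Agent.SGA3cLib.CommutatorSpread
import Mathlib.AlgebraicGeometry.Morphisms.LocalFlatDescent
-- import your own Groth.Agent.* helpers here

set_option autoImplicit false
universe u
open CategoryTheory MonoidalCategory CartesianMonoidalCategory MonObj GrpObj AlgebraicGeometry Topology
open EqInt

set_option backward.isDefEq.respectTransparency.types false
set_option maxHeartbeats 1000000
namespace Groth.Agent.S18514

/-- Over a field k, let a smooth connected affine group scheme G of finite type act on X, on X̃ and on U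
(quasi-separated schemes of finite type over k), and let π : X̃ → X be G-equivariant and proper and
an equivariant envelope: for every point x of X there is a point y of X̃ over x with trivial residue
field extension (the closure of y maps birationally onto the closure of x), and when the closure of
x is G-invariant such a y exists with G-invariant closure. Let q_X : X × U → X_G and q_X̃ : X̃ × U →
X̃_G be principal bundle quotients for the diagonal actions (invariant, flat, surjective, (σ, p₂)
into the fibre square an isomorphism), X_G and X̃_G quasi-separated of finite type over k, and let p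
: X̃_G → X_G satisfy p ∘ q_X̃ = q_X ∘ (π × id_U) as maps X̃ × U → X_G. Then p is proper and an
envelope, and if π restricts to an isomorphism over an open X⁰ of X then p restricts to an
isomorphism over any open V of X_G whose inverse image under q_X is X⁰ × U. (G is taken smooth and
connected here. Smoothness cannot be dropped: in characteristic p, let the connected non-smooth
group μ_p act trivially on a point X, by translation on X̃ = μ_p and by multiplication on U = 𝔾_m;
both mixed spaces are 𝔾_m, the induced map X̃_G → X_G is the p-th power map, and the generic point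
of X_G has no preimage with trivial residue field extension. The argument uses that a torsor under a
smooth connected group over a field K is geometrically integral, so that K is algebraically closed
in its function field, and that inverse images in X × U of subvarieties of X_G are irreducible; the
published statement carries no explicit connectedness hypothesis. Stated for schemes; the source
allows algebraic spaces and a fixed representation containing U.) -/
theorem result (k : Type u) [Field k]
    (G X Xt U XG XtG : Over (Spec (CommRingCat.of k))) [GrpObj G] [IsAffine G.left] [LocallyOfFiniteType G.hom]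
    [ConnectedSpace G.left] [Smooth G.hom]
    [LocallyOfFiniteType X.hom] [QuasiCompact X.hom] [QuasiSeparated X.hom]
    [LocallyOfFiniteType Xt.hom] [QuasiCompact Xt.hom] [QuasiSeparated Xt.hom]
    [LocallyOfFiniteType U.hom] [QuasiCompact U.hom] [QuasiSeparated U.hom]
    [LocallyOfFiniteType XG.hom] [QuasiCompact XG.hom] [QuasiSeparated XG.hom]
    [LocallyOfFiniteType XtG.hom] [QuasiCompact XtG.hom] [QuasiSeparated XtG.hom]
    (a : AlgGrp.Action G X) (aXt : AlgGrp.Action G Xt) (b : AlgGrp.Action G U)
    (π : Xt ⟶ X) (hπ : AlgGrp.Action.IsEquivariant aXt a π) [IsProper π.left]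
    (henv : ∀ x : ↥X.left, ∃ y : ↥Xt.left, π.left.base y = x ∧ IsIso (π.left.residueFieldMap y))
    (henvG : ∀ x : ↥X.left, ⇑a.act.left.base ⁻¹' closure {x} = ⇑(snd G X).left.base ⁻¹' closure {x} →
      ∃ y : ↥Xt.left, π.left.base y = x ∧ IsIso (π.left.residueFieldMap y) ∧
        ⇑aXt.act.left.base ⁻¹' closure {y} = ⇑(snd G Xt).left.base ⁻¹' closure {y})
    (qX : X ⊗ U ⟶ XG) (hqX : GIT.IsInvariant (a.prod b) qX) [Flat qX.left] [Surjective qX.left]
    (hcX : IsIso (GIT.PsiY (a.prod b) qX hqX))
    (qXt : Xt ⊗ U ⟶ XtG) (hqXt : GIT.IsInvariant (aXt.prod b) qXt) [Flat qXt.left] [Surjective qXt.left]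
    (hcXt : IsIso (GIT.PsiY (aXt.prod b) qXt hqXt))
    (p : XtG ⟶ XG) (hp : qXt ≫ p = (π ▷ U) ≫ qX) :
    IsProper p.left ∧
      (∀ w : ↥XG.left, ∃ v : ↥XtG.left, p.left.base v = w ∧ IsIso (p.left.residueFieldMap v)) ∧
      ∀ (X0 : X.left.Opens) (V : XG.left.Opens), IsIso (π.left ∣_ X0) →
        qX.left ⁻¹ᵁ V = (fst X U).left ⁻¹ᵁ X0 → IsIso (p.left ∣_ V) := by
  haveI := hcX
  haveI := hcXt
  haveI hqcX : QuasiCompact qX.left := by
    haveI : QuasiCompact (qX.left ≫ XG.hom) := by
      rw [Over.w qX]
      exact inferInstanceAs (QuasiCompact (Limits.pullback.fst X.hom U.hom ≫ X.hom))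
    exact QuasiCompact.of_comp qX.left XG.hom
  haveI : QuasiCompact qXt.left := by
    haveI : QuasiCompact (qXt.left ≫ XtG.hom) := by
      rw [Over.w qXt]
      exact inferInstanceAs (QuasiCompact (Limits.pullback.fst Xt.hom U.hom ≫ Xt.hom))
    exact QuasiCompact.of_comp qXt.left XtG.hom
  have heq : (aXt.prod b).act ≫ (π ▷ U) = (G ◁ (π ▷ U)) ≫ (a.prod b).act := by
    have hf' : aXt.act ≫ π = (G ◁ π) ≫ a.act := hπ
    apply CartesianMonoidalCategory.hom_ext
    · simp only [AlgGrp.Action.prod, Category.assoc, whiskerRight_fst, lift_fst, lift_fst_assoc]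
      rw [hf', ← whiskerLeft_comp_assoc, ← whiskerLeft_comp_assoc, whiskerRight_fst]
    · simp only [AlgGrp.Action.prod, Category.assoc, whiskerRight_snd, lift_snd, lift_snd_assoc]
      rw [← whiskerLeft_comp_assoc, whiskerRight_snd]
  have hsq := Groth.Agent.AlgGrpLib.TorsorMap.isPullback_of_equivariant (aXt.prod b) (a.prod b) qXt qX (π ▷ U) p
    hqXt hqX heq hp
  have hw : IsPullback (π ▷ U).left (fst Xt U).left (fst X U).left π.left := by
    refine (IsPullback.of_bot (v₂₁ := Limits.pullback.snd X.hom U.hom) ?_ (Over.whiskerRight_left_fst π).symm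
      (IsPullback.of_hasPullback X.hom U.hom)).flip
    rw [show (π ▷ U).left ≫ Limits.pullback.snd X.hom U.hom = Limits.pullback.snd Xt.hom U.hom from
      Over.whiskerRight_left_snd π, Over.w π]
    exact IsPullback.of_hasPullback Xt.hom U.hom
  have hQ : Et18.FPQC qX.left := ⟨⟨inferInstance, inferInstance⟩, hqcX⟩
  refine ⟨?_, fun w => ?_, fun X0 V hX0 hV => ?_⟩
  · haveI := Groth.Agent.Et18.descends_isProper.{u}
    have h1 : IsProper (π ▷ U).left := MorphismProperty.of_isPullback (P := @IsProper) hw.flip inferInstance
    exact MorphismProperty.of_isPullback_of_descendsAlong (P := @IsProper) hsq hQ h1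
  swap
  · obtain ⟨L, hL⟩ := EqInt24.exists_restrict_square hw X0
    have h1 : IsIso ((π ▷ U).left ∣_ ((fst X U).left ⁻¹ᵁ X0)) :=
      MorphismProperty.of_isPullback (P := MorphismProperty.isomorphisms Scheme.{u}) hL.flip hX0
    obtain ⟨L', hL'⟩ := EqInt24.exists_restrict_square hsq V
    haveI h2 : IsIso ((π ▷ U).left ∣_ (qX.left ⁻¹ᵁ V)) := by rw [hV]; exact h1
    have hsqV := isPullback_morphismRestrict qX.left V
    haveI : Flat (qX.left ∣_ V) := MorphismProperty.of_isPullback (P := @Flat) hsqV.flip inferInstance
    haveI : Surjective (qX.left ∣_ V) := MorphismProperty.of_isPullback (P := @Surjective) hsqV.flip inferInstance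
    haveI : QuasiCompact (qX.left ∣_ V) := MorphismProperty.of_isPullback (P := @QuasiCompact) hsqV.flip hqcX
    exact MorphismProperty.of_isPullback_of_descendsAlong (P := MorphismProperty.isomorphisms Scheme.{u})
      hL' (show Et18.FPQC (qX.left ∣_ V) from ⟨⟨inferInstance, inferInstance⟩, inferInstance⟩) h2
  -- the envelope
  haveI : GeometricallyIrreducible G.hom := SGA3cLib.CommSpread.geometricallyIrreducible_of_connected G
  haveI : UniversallyOpen G.hom := inferInstance
  obtain ⟨z, hzw, hgen, hgr⟩ := EqInt24.exists_generic (a.prod b) qX hqX w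
  let x : ↥X.left := (fst X U).left z
  have hinv : ⇑a.act.left ⁻¹' closure {x} = ⇑(snd G X).left ⁻¹' closure {x} := by
    refine EqInt24.preimage_closure_eq a x fun t ht => ?_
    obtain ⟨t', ht1, ht2⟩ := EqInt24.exists_point
      (Groth.Agent.AlgGrpLib.TorsorMap.isPullback_whiskerLeft (H := G) (fst X U)) t z ht
    have h1 : qX.left ((a.prod b).act.left t') = w := by
      rw [← Scheme.Hom.comp_apply, ← Over.comp_left, hqX, Over.comp_left, Scheme.Hom.comp_apply, ht2, hzw]
    have h2 : (a.prod b).act ≫ fst X U = (G ◁ fst X U) ≫ a.act := lift_fst _ _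
    have h3 := (hgen _ h1).map (fst X U).left.continuous
    rwa [← Scheme.Hom.comp_apply, ← Over.comp_left, h2, Over.comp_left, Scheme.Hom.comp_apply, ht1] at h3
  obtain ⟨y, hy, hyiso, hyinv⟩ := henvG x hinv
  obtain ⟨z', hz1, hz2, hz3, huniq⟩ := EqInt24.exists_unique_point hw z y hy.symm
  refine ⟨qXt.left z', ?_, ?_⟩
  · change p.left (qXt.left z') = w
    rw [← Scheme.Hom.comp_apply, ← Over.comp_left, hp, Over.comp_left, Scheme.Hom.comp_apply, hz1, hzw]
  haveI := hz3
  haveI : GeometricallyReduced (Spec.map (qX.left.residueFieldMap ((π ▷ U).left z'))) := by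
    rw [hz1]; exact hgr
  refine EqInt24.isIso_residueFieldMap_of_unique hsq z' fun a' h1 h2 => huniq a' (h1.trans hz1) ?_
  obtain ⟨t, ht1, ht2⟩ := EqInt24.exists_point
    (Groth.Agent.AlgGrpLib.TorsorMap.isPullback_of_isIso_psiY (aXt.prod b) qXt hqXt) a' z' h2
  have h3 : (aXt.prod b).act ≫ fst Xt U = (G ◁ fst Xt U) ≫ aXt.act := lift_fst _ _
  have h4 : (G ◁ fst Xt U) ≫ snd G Xt = snd G (Xt ⊗ U) ≫ fst Xt U := whiskerLeft_snd _ _
  let t₀ := (G ◁ fst Xt U).left t
  have h5 : aXt.act.left t₀ = (fst Xt U).left a' := by
    rw [← ht1, ← Scheme.Hom.comp_apply, ← Scheme.Hom.comp_apply, ← Over.comp_left, ← Over.comp_left, h3]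
  have h6 : (snd G Xt).left t₀ = y := by
    rw [← hz2, ← ht2, ← Scheme.Hom.comp_apply, ← Scheme.Hom.comp_apply, ← Over.comp_left, ← Over.comp_left, h4]
  have h7 : (fst Xt U).left a' ∈ closure ({y} : Set ↥Xt.left) := by
    rw [← h5]
    exact hyinv.ge (show (snd G Xt).left t₀ ∈ closure {y} from h6.symm ▸ subset_closure rfl)
  haveI := hyiso
  refine EqInt24.eq_of_specializes π.left y _ (specializes_iff_mem_closure.2 h7) ?_
  rw [← Scheme.Hom.comp_apply, ← hw.w, Scheme.Hom.comp_apply, h1.trans hz1]
  exact hy.symm

end Groth.Agent.S18514
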