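import Groth.Statements.S18515
import Mathlib.AlgebraicGeometry.ValuativeCriterion

set_option autoImplicit false
open CategoryTheory CategoryTheory.Limits MonoidalCategory CartesianMonoidalCategory MonObj GrpObj AlgebraicGeometry
universe u
open NonAbH1

namespace Groth.Agent.S18515


namespace S18515aux

variable {S : Scheme.{u}} {G H J X X' : Over S} [GrpObj G] [GrpObj H] [GrpObj J]

theorem restrict_restrict (a : AlgGrp.Action G X) (φ : H ⟶ G) [IsMonHom φ] (ψ : J ⟶ H) [IsMonHom ψ] :
    (a.restrict φ).restrict ψ = a.restrict (ψ ≫ φ) :=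
  AlgGrp.Action.ext' (by simp)

theorem restrict_congr (a : AlgGrp.Action G X) {φ φ' : H ⟶ G} [IsMonHom φ] [IsMonHom φ'] (h : φ = φ') :
    a.restrict φ = a.restrict φ' := by subst h; rfl

def equivIso_restrict {a : AlgGrp.Action G X} {a' : AlgGrp.Action G X'} (e : NonAbH1.EquivIso a a')
    (φ : H ⟶ G) [IsMonHom φ] : NonAbH1.EquivIso (a.restrict φ) (a'.restrict φ) where
  iso := e.iso
  comm := by
    simp only [AlgGrp.Action.restrict_act, Category.assoc, e.comm]
    rw [← Category.assoc, ← Category.assoc, ← whisker_exchange]

theorem isTorsorFor_restrict {K : Precoverage Scheme.{u}} {a : AlgGrp.Action G X}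
    (h : NonAbH1.IsTorsorFor K a) (φ : H ≅ G) [IsMonHom φ.hom] :
    NonAbH1.IsTorsorFor K (a.restrict φ.hom) := by
  refine ⟨?_, h.2⟩
  have h1 : IsIso (lift a.act (snd G X)) := h.1
  have : lift (a.restrict φ.hom).act (snd H X) = (φ.hom ▷ X) ≫ lift a.act (snd G X) := by
    rw [comp_lift, whiskerRight_snd, AlgGrp.Action.restrict_act]
  show IsIso (lift (a.restrict φ.hom).act (snd H X))
  rw [this]
  infer_instance

theorem bcCompIso_coherence {A B C D : Scheme.{u}} (G : Over D) (f : A ⟶ B) (g : B ⟶ C) (h : C ⟶ D)
    {gh : B ⟶ D} {d : A ⟶ D} (h1 : g ≫ h = gh) (h2 : f ≫ gh = d) (h3 : (f ≫ g) ≫ h = d) :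
    ((ActBC.bcCompIso f gh G h2).inv ≫ (Over.pullback f).map (ActBC.bcCompIso g h G h1).inv) ≫
      (ActBC.bcCompIso f g (Red.bc h G) (d := f ≫ g) rfl).hom = (ActBC.bcCompIso (f ≫ g) h G h3).inv := by
  rw [← cancel_mono (ActBC.bcCompIso (f ≫ g) h G h3).hom, Iso.inv_hom_id, Category.assoc, Category.assoc,
    Iso.inv_comp_eq, Category.comp_id, ← cancel_epi ((Over.pullback f).map (ActBC.bcCompIso g h G h1).hom),
    ← Functor.map_comp_assoc, Iso.hom_inv_id, CategoryTheory.Functor.map_id, Category.id_comp]
  ext
  apply pullback.hom_ext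
  · simp only [Over.comp_left, Category.assoc, ActBC.bcCompIso_hom_left_fst, ActBC.pullback_map_left_fst_assoc,
      ActBC.bcCompIso_hom_left_fst_assoc]
  · exact (Over.w _).trans (Over.w _).symm

end S18515aux

/-- A class represented by a torsor over a complete variety is unramified at every discrete valuation
ring of the function field. The published lemma assumes G finite, k algebraically closed of
characteristic zero and K finitely generated over k; this row allows any field k, any field K and
any affine k-group scheme of finite type: let k be a field, X a proper k-scheme, G an affine k-group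
scheme of finite type and P a torsor over X, locally trivial for the etale topology, under the base
change of G. For every field K with a k-morphism e : Spec K ⟶ X (for instance the generic point of
an integral X) and every discrete valuation ring R with fraction field K containing k compatibly,
there is a torsor Q over Spec R under the base change of G whose restriction to Spec K is
equivariantly isomorphic to the pullback of P along e, both regarded as actions of the base change
of G to Spec K through the canonical identifications of iterated base changes. -/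
theorem result
    (k K R : Type u) [Field k] [Field K] [Algebra k K]
    [CommRing R] [IsDomain R] [IsDiscreteValuationRing R] [Algebra k R] [Algebra R K] [IsFractionRing R K]
    (hc : Spec.map (CommRingCat.ofHom (algebraMap R K)) ≫ Spec.map (CommRingCat.ofHom (algebraMap k R)) =
      Spec.map (CommRingCat.ofHom (algebraMap k K)))
    (X : Scheme.{u}) (x : X ⟶ Spec (CommRingCat.of k)) [IsProper x]
    (G : Over (Spec (CommRingCat.of k))) [GrpObj G] [IsAffine G.left] [LocallyOfFiniteType G.hom]
    (P : NonAbH1.TorsorSch (Red.bc x G) Scheme.etalePrecoverage)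
    (e : Spec (CommRingCat.of K) ⟶ X) (he : e ≫ x = Spec.map (CommRingCat.ofHom (algebraMap k K))) :
    ∃ Q : NonAbH1.TorsorSch (Red.bc (Spec.map (CommRingCat.ofHom (algebraMap k R))) G) Scheme.etalePrecoverage,
      Nonempty (NonAbH1.EquivIso
        ((Q.act.bc (Spec.map (CommRingCat.ofHom (algebraMap R K)))).restrict
          (ActBC.bcCompIso (Spec.map (CommRingCat.ofHom (algebraMap R K)))
            (Spec.map (CommRingCat.ofHom (algebraMap k R))) G hc).inv)
        ((P.act.bc e).restrict (ActBC.bcCompIso e x G he).inv)) := by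
  set jK := Spec.map (CommRingCat.ofHom (algebraMap R K))
  set sR := Spec.map (CommRingCat.ofHom (algebraMap k R))
  obtain ⟨el, hel1, hel2⟩ : ∃ el : Spec (CommRingCat.of R) ⟶ X, jK ≫ el = e ∧ el ≫ x = sR := by
    have hx : IsProper x := inferInstance
    rw [IsProper.eq_valuativeCriterion] at hx
    let Sq : ValuativeCommSq x := { R := R, K := K, i₁ := e, i₂ := sR, commSq := ⟨he.trans hc.symm⟩ }
    have := (ValuativeCriterion.existence hx.1.1.1) Sq
    exact ⟨Sq.commSq.lift, Sq.commSq.fac_left, Sq.commSq.fac_right⟩
  subst hel1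
  let c₁ := ActBC.bcCompIso el x G hel2
  haveI : IsMonHom c₁.symm.hom := inferInstanceAs (IsMonHom c₁.inv)
  let Q : NonAbH1.TorsorSch (Red.bc sR G) Scheme.etalePrecoverage :=
    ⟨Red.bc el P.X, (P.act.bc el).restrict c₁.inv,
      S18515aux.isTorsorFor_restrict (NonAbH1.isTorsorFor_bc el _ P.isTorsor) c₁.symm⟩
  refine ⟨Q, ?_⟩
  show Nonempty (NonAbH1.EquivIso ((((P.act.bc el).restrict c₁.inv).bc jK).restrict _) _)
  rw [AlgGrp.Action.bc_restrict, S18515aux.restrict_restrict]
  let E := S18515aux.equivIso_restrict (ActBC.equivIsoBcComp (X := P.X) jK el (d := jK ≫ el) rfl P.act)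
    ((ActBC.bcCompIso jK sR G hc).inv ≫ (Over.pullback jK).map c₁.inv)
  refine ⟨⟨E.iso, E.comm.trans ?_⟩⟩
  refine congrArg (fun a : AlgGrp.Action _ _ => _ ≫ a.act) ((S18515aux.restrict_restrict _ _ _).trans
    (S18515aux.restrict_congr (P.act.bc (jK ≫ el)) ?_))
  exact S18515aux.bcCompIso_coherence G jK el x hel2 hc he

end Groth.Agent.S18515
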