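import Groth.Statements.S18519
import Mathlib
import Groth.Agent.CSA.CdOne

set_option autoImplicit false
universe u
open scoped TensorProduct
open Brauer

namespace Groth.Agent.S18519

/-- For a field K with maximal abelian extension K_ab, cd(K_ab) ≤ 1 if and only if for every etale
K-algebra E the restriction map Br(E) ⟶ Br(E ⊗_K K_ab) is trivial; the same holds with the maximal
solvable extension. Stated here for an arbitrary separable algebraic extension F of K in place of
K_ab (the published lemma takes for F the maximal abelian or the maximal solvable extension of K;
this row allows any separable algebraic extension), with cd(F) ≤ 1 unfolded by the Brauer-group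
criterion (every finite separable extension of F has trivial Brauer group) and with etale algebras
replaced by their field factors: (a) every finite-dimensional central division algebra over a finite
separable extension F′ of F is F′ itself; if and only if (b) for every finite separable extension E
of K, every finite-dimensional central division algebra D over E and every field M containing E and
F compatibly over K, the base change M ⊗_E D is isomorphic over M to a matrix algebra over M. -/
theorem result
    (K F : Type u) [Field K] [Field F] [Algebra K F] [Algebra.IsSeparable K F] :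
    (∀ (F' : Type u) [Field F'] [Algebra F F'] [FiniteDimensional F F'] [Algebra.IsSeparable F F']
        (D : Type u) [DivisionRing D] [Algebra F' D] [Algebra.IsCentral F' D] [FiniteDimensional F' D],
        Module.finrank F' D = 1) ↔
    (∀ (E : Type u) [Field E] [Algebra K E] [FiniteDimensional K E] [Algebra.IsSeparable K E]
        (D : Type u) [DivisionRing D] [Algebra E D] [Algebra.IsCentral E D] [FiniteDimensional E D]
        (M : Type u) [Field M] [Algebra K M] [Algebra E M] [Algebra F M] [IsScalarTower K E M]
        [IsScalarTower K F M],
        ∃ n : ℕ, Nonempty ((M ⊗[E] D) ≃ₐ[M] Matrix (Fin n) (Fin n) M)) := by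
  open Groth.Agent.CSA in
    constructor
    · intro h E _ _ _ _ D _ _ _ _ M _ _ _ _ _ _
      let F' : IntermediateField F M := IntermediateField.adjoin F (Set.range (algebraMap E M))
      letI : Algebra E F' :=
        ((algebraMap E M).codRestrict F'.toSubfield fun x => IntermediateField.subset_adjoin F _ ⟨x, rfl⟩).toAlgebra
      haveI : IsScalarTower E F' M := IsScalarTower.of_algebraMap_eq fun x => rfl
      have hint : ∀ x ∈ Set.range (algebraMap E M), IsIntegral F x ∧ IsSeparable F x := by
        rintro _ ⟨e, rfl⟩
        have hs : IsSeparable K (algebraMap E M e) := by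
          have := Algebra.IsSeparable.isSeparable K e
          unfold IsSeparable at this ⊢
          rwa [minpoly.algebraMap_eq (algebraMap E M).injective]
        exact ⟨((Algebra.IsIntegral.isIntegral (R := K) e).map (IsScalarTower.toAlgHom K E M)).tower_top,
          hs.tower_top F⟩
      haveI : Algebra.IsSeparable F F' :=
        (IntermediateField.isSeparable_adjoin_iff_isSeparable F M).2 fun x hx => (hint x hx).2
      haveI : FiniteDimensional F F' := by
        let bE := Module.finBasis K E
        have hle : F' ≤ IntermediateField.adjoin F (Set.range fun i => algebraMap E M (bE i)) := by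
          rw [IntermediateField.adjoin_le_iff]
          rintro _ ⟨e, rfl⟩
          rw [← bE.sum_repr e, map_sum]
          refine sum_mem fun i _ => ?_
          rw [Algebra.smul_def, map_mul, ← IsScalarTower.algebraMap_apply, IsScalarTower.algebraMap_apply K F M]
          exact mul_mem (IntermediateField.algebraMap_mem _ _) (IntermediateField.subset_adjoin F _ ⟨i, rfl⟩)
        haveI : FiniteDimensional F (IntermediateField.adjoin F (Set.range fun i => algebraMap E M (bE i))) :=
          IntermediateField.finiteDimensional_adjoin fun x hx => by
            obtain ⟨i, rfl⟩ := hx; exact (hint _ ⟨_, rfl⟩).1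
        exact Module.Finite.of_injective (IntermediateField.inclusion hle).toLinearMap (IntermediateField.inclusion hle).injective
      haveI : IsCSA E D := {}
      haveI : IsCSA F' (F' ⊗[E] D) := {}
      obtain ⟨n, hn, D', _, _, hD', -, ⟨e⟩⟩ := exists_division_brEq F' (F' ⊗[E] D)
      have h1 := h F' D'
      have hbij : Function.Bijective (algebraMap F' D') := by
        refine ⟨(algebraMap F' D').injective, fun x => ?_⟩
        obtain ⟨c, hc⟩ := exists_smul_eq_of_finrank_eq_one h1 (one_ne_zero (α := D')) x
        exact ⟨c, by rw [Algebra.algebraMap_eq_smul_one, hc]⟩
      let e' : (F' ⊗[E] D) ≃ₐ[F'] Matrix (Fin n) (Fin n) F' :=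
        e.trans (AlgEquiv.mapMatrix (AlgEquiv.ofBijective (Algebra.ofId F' D') hbij).symm)
      haveI : NeZero n := ⟨hn⟩
      obtain ⟨g⟩ := nonempty_baseChange_matrix_algEquiv F' F' n M
      exact ⟨n, ⟨(cancelBaseChangeAlg E F' M D).trans
        ((Algebra.TensorProduct.congr AlgEquiv.refl e').trans (g.trans
          (AlgEquiv.mapMatrix (Algebra.TensorProduct.rid F' M M))))⟩⟩
    · intro h F' _ _ _ _ D _ _ _ _
      letI : Algebra K F' := ((algebraMap F F').comp (algebraMap K F)).toAlgebra
      haveI : IsScalarTower K F F' := IsScalarTower.of_algebraMap_eq' rfl
      haveI : Algebra.IsSeparable K F' := Algebra.IsSeparable.trans K F F'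
      haveI : IsCSA F' D := {}
      obtain ⟨E, A, _, _, hfin, hsep, hA, ⟨e⟩⟩ := exists_finite_descent K F' D
      obtain ⟨m, hm, D₁, _, _, hD₁, hAD, -⟩ := exists_division_brEq E A
      obtain ⟨n, ⟨g⟩⟩ := h E D₁ F'
      haveI : NeZero n := ⟨fun hn => by
        subst hn
        have := g.toLinearEquiv.finrank_eq
        rw [Module.finrank_baseChange, Module.finrank_matrix] at this
        simp at this
        exact (Module.finrank_pos (R := E) (M := D₁)).ne' this⟩
      have h2 : BrEq F' D F' :=
        ((BrEq.of_algEquiv F' e.symm).trans (hAD.baseChange F')).trans
          (BrEq.of_exists_matrix (NeZero.ne n) g)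
      obtain ⟨f⟩ := h2.algEquiv_of_division
      rw [f.toLinearEquiv.finrank_eq, Module.finrank_self]
end Groth.Agent.S18519
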