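import Groth.Statements.S18522
import Groth.Agent.EulerLib.ParCurve

set_option autoImplicit false
set_option linter.style.haveILetI false
set_option backward.isDefEq.respectTransparency.types false
universe u
open CategoryTheory CategoryTheory.Limits AlgebraicGeometry
open ParSh

namespace Groth.Agent.S18522

/-- Let k be an algebraically closed field of characteristic zero, X a smooth proper geometrically
connected curve over k (topological dimension one) of genus g ≥ 2, and I the ideal of a reduced
effective Cartier divisor on X (a finite set of points). Let E and F be finite locally free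
O_X-modules of ranks r and s with parabolic structures 𝓔 and 𝓕 along I, and φ : E → F a parabolic
homomorphism. Factor φ as an epimorphism q : E → V followed by monomorphisms u : V → V' and ι : V' →
F, where V and V' are finite locally free of the same rank r'' and the cokernel of ι is finite
locally free, so that V is the image of φ and V' the sub-bundle of F it generates. Give V the
structure induced from 𝓔 as a quotient and V' the structure induced from 𝓕 as a sub-module. Then the
parabolic degree of V is at most the parabolic degree of V' (parabolic degree in rank r'' being χ −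
r''·χ(O_X) plus the sum of the weights times the Euler characteristics of the successive filtration
quotients). The published statement is set with E carrying a semistable structure with trivial
determinant and F carrying the same weights as E; neither assumption is used. -/
theorem result (k : Type u) [Field k] [IsAlgClosed k] [CharZero k]
    (X : Scheme.{u}) [X.Over (Spec (CommRingCat.of k))]
    [IsProper (X ↘ Spec (CommRingCat.of k))] [Smooth (X ↘ Spec (CommRingCat.of k))]
    [GeometricallyConnected (X ↘ Spec (CommRingCat.of k))] (hdim : topologicalKrullDim ↥X = 1)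
    (g : ℕ) (hg : Curv2.genus k X = g) (hg2 : 2 ≤ g)
    (I : X.IdealSheafData) (hD : FGA.IsEffCartier I) [AlgebraicGeometry.IsReduced I.subscheme]
    {E F V V' : X.Modules} (r s r'' : ℕ) (hE : FlatMod.IsFinLocFreeOfRank r E)
    (hF : FlatMod.IsFinLocFreeOfRank s F)
    (𝓔 : ParSh.Str E) (h𝓔 : 𝓔.Along I) (𝓕 : ParSh.Str F) (h𝓕 : 𝓕.Along I)
    (φ : E ⟶ F) (hφ : ParSh.IsParHom 𝓔 𝓕 φ)
    (q : E ⟶ V) [Epi q] (u : V ⟶ V') [Mono u] (ι : V' ⟶ F) [Mono ι] (hfac : q ≫ u ≫ ι = φ)
    (hV : FlatMod.IsFinLocFreeOfRank r'' V) (hV' : FlatMod.IsFinLocFreeOfRank r'' V')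
    (hsat : FlatMod.IsFinLocFree (cokernel ι)) :
    (𝓔.coinduced q).parDeg k X r'' ≤ (𝓕.induced ι).parDeg k X r'' := by
  haveI : ConnectedSpace X := GeometricallyConnected.geometrically_connectedSpace (f := X ↘ Spec (CommRingCat.of k))
    (K := k) (𝟙 (Spec (CommRingCat.of k))) (𝟙 X) (X ↘ Spec (CommRingCat.of k)) (IsPullback.of_horiz_isIso ⟨by simp⟩)
  haveI : IsIntegral X := Groth.Agent.AbVarLib.isIntegral_of_smooth_connected (X ↘ Spec (CommRingCat.of k))
  haveI : IsLocallyNoetherian X := Groth.Agent.ParHilbW15.isLocallyNoetherian k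
  have hn' := Groth.Agent.VB5.isIntegrallyClosed_stalk k (X := X)
  let d := Groth.Agent.VB5.gdeg k (ClSub.idealMod I)
  have hA := Groth.Agent.EulerLib.ParCurve.isCoh_twistSub k hdim hn' hD hV
  have hB := Groth.Agent.EulerLib.ParCurve.isCoh_twistSub k hdim hn' hD hV'
  refine Groth.Agent.EulerLib.ParCurve.parDeg_le k hdim hV hV' (𝓔.coinduced q) (𝓕.induced ι) (d := d) ?_ ?_
    fun a ha0 ha1 => ?_
  · rw [Groth.Agent.EulerLib.ParCurve.coinduced_bot q I 𝓔 h𝓔]
    exact hA
  · rw [Groth.Agent.EulerLib.ParCurve.induced_bot ι I 𝓕 h𝓕 hsat]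
    exact hB
  rw [Groth.Agent.EulerLib.ParCurve.coinduced_at, Groth.Agent.EulerLib.ParCurve.induced_at]
  let S := imageSubobject ((𝓔.at a).arrow ≫ q)
  have hz : (S.arrow ≫ u ≫ ι) ≫ cokernel.π (𝓕.at a).arrow = 0 := by
    rw [← cancel_epi (factorThruImageSubobject ((𝓔.at a).arrow ≫ q)), Limits.comp_zero]
    have h := hφ a ha0 ha1
    rw [← hfac] at h
    refine Eq.trans (b := ((𝓔.at a).arrow ≫ q ≫ u ≫ ι) ≫ cokernel.π (𝓕.at a).arrow) ?_ ?_
    · simp [S]
    · rw [← (𝓕.at a).factorThru_arrow _ h, Category.assoc, cokernel.condition, Limits.comp_zero]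
  have sq := Subobject.isPullback ι (𝓕.at a)
  refine ⟨sq.lift (Abelian.monoLift _ _ hz) (S.arrow ≫ u) ?_, ?_⟩
  · rw [Abelian.monoLift_comp, Category.assoc]
  · haveI : Mono (sq.lift (Abelian.monoLift _ _ hz) (S.arrow ≫ u) (by rw [Abelian.monoLift_comp, Category.assoc]) ≫
        ((Subobject.pullback ι).obj (𝓕.at a)).arrow) := by
      rw [sq.lift_snd]
      infer_instance
    exact mono_of_mono _ ((Subobject.pullback ι).obj (𝓕.at a)).arrow

end Groth.Agent.S18522
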