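import Groth.Statements.S18523
import Groth.Agent.EulerLib.ParCurve
import Groth.Agent.S18522

set_option autoImplicit false
set_option linter.style.haveILetI false
set_option backward.isDefEq.respectTransparency.types false
set_option maxHeartbeats 1000000
universe u
open CategoryTheory CategoryTheory.Limits AlgebraicGeometry
open ParSh

namespace Groth.Agent.S18523

open Groth.Agent Groth.Agent.EulerLib Groth.Agent.EulerLib.ParCurve

theorem isFinLocFree_of_iso' {X : Scheme.{u}} {M N : X.Modules} (e : M ≅ N)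
    (h : FlatMod.IsFinLocFree M) : FlatMod.IsFinLocFree N := fun x => by
  obtain ⟨U, n, hx, ⟨φ⟩⟩ := h x
  exact ⟨U, n, hx, ⟨((Scheme.Modules.restrictFunctor U.ι).mapIso e).symm ≪≫ φ⟩⟩

/-- Parabolic degree is additive in extensions of bundles. -/
theorem parDeg_add (k : Type u) [Field k] {X : Scheme.{u}} [X.Over (Spec (CommRingCat.of k))]
    [IsProper (X ↘ Spec (CommRingCat.of k))] [IsIntegral X] [IsLocallyNoetherian X]
    (hdim : topologicalKrullDim X = 1) (hn : ∀ x : X, IsIntegrallyClosed (X.presheaf.stalk x))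
    {I : X.IdealSheafData} (hD : FGA.IsEffCartier I) {S : ShortComplex X.Modules} (hS : S.ShortExact) [Mono S.f] [Epi S.g]
    {m n : ℕ} (h1 : FlatMod.IsFinLocFreeOfRank m S.X₁) (h2 : FlatMod.IsFinLocFreeOfRank (m + n) S.X₂)
    (h3 : FlatMod.IsFinLocFreeOfRank n S.X₃) (𝓔 : ParSh.Str S.X₂) (h𝓔 : 𝓔.Along I) :
    𝓔.parDeg k X (m + n) = (𝓔.induced S.f).parDeg k X m + (𝓔.coinduced S.g).parDeg k X n := by
  let d := VB5.gdeg k (ClSub.idealMod I)
  have hsat : FlatMod.IsFinLocFree (cokernel S.f) :=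
    isFinLocFree_of_iso' ((cokernelIsCokernel S.f).coconePointUniqueUpToIso hS.gIsCokernel).symm
      (VarietyLib.isFinLocFree_of_rank h3)
  have b2 : Coh.IsCoh (𝓔.bot : X.Modules) ∧ VB5.grk (𝓔.bot : X.Modules) = m + n ∧
      VB5.gdeg k (𝓔.bot : X.Modules) = VB5.gdeg k S.X₂ + (m + n : ℕ) * d := by
    rw [show 𝓔.bot = ParSh.twistSub I S.X₂ from h𝓔]
    exact isCoh_twistSub k hdim hn hD h2
  have b1 : Coh.IsCoh ((𝓔.induced S.f).bot : X.Modules) ∧ VB5.grk ((𝓔.induced S.f).bot : X.Modules) = m ∧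
      VB5.gdeg k ((𝓔.induced S.f).bot : X.Modules) = VB5.gdeg k S.X₁ + m * d := by
    rw [induced_bot S.f I 𝓔 h𝓔 hsat]
    exact isCoh_twistSub k hdim hn hD h1
  have b3 : Coh.IsCoh ((𝓔.coinduced S.g).bot : X.Modules) ∧ VB5.grk ((𝓔.coinduced S.g).bot : X.Modules) = n ∧
      VB5.gdeg k ((𝓔.coinduced S.g).bot : X.Modules) = VB5.gdeg k S.X₃ + n * d := by
    rw [coinduced_bot S.g I 𝓔 h𝓔]
    exact isCoh_twistSub k hdim hn hD h3
  have hi : ∀ {E : X.Modules} (𝓖 : ParSh.Str E),
      IntervalIntegrable (fun a => (Curv2.euler k X (𝓖.at a : X.Modules) : ℝ)) MeasureTheory.volume 0 1 := fun 𝓖 => by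
    simpa using (parWt_eq 𝓖 (Curv2.euler k X)).2.add
      (intervalIntegrable_const (c := (Curv2.euler k X (𝓖.bot : X.Modules) : ℝ)))
  rw [parDeg_eq k h2 𝓔 b2.2, parDeg_eq k h1 _ b1.2, parDeg_eq k h3 _ b3.2]
  have hpt : ∀ a, (Curv2.euler k X (𝓔.at a : X.Modules) : ℝ) =
      (Curv2.euler k X ((𝓔.induced S.f).at a : X.Modules) : ℝ) +
        (Curv2.euler k X ((𝓔.coinduced S.g).at a : X.Modules) : ℝ) := by
    intro a
    have c1 := isCoh_of_le k hdim (SplitP1.isCoh_of_rank h1) b1.1 (b1.2.1.trans (VB5.grk_eq h1).symm)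
      ((𝓔.induced S.f).bot_le_at a)
    have c2 := isCoh_of_le k hdim (SplitP1.isCoh_of_rank h2) b2.1 (b2.2.1.trans (VB5.grk_eq h2).symm)
      (𝓔.bot_le_at a)
    have c3 := isCoh_of_le k hdim (SplitP1.isCoh_of_rank h3) b3.1 (b3.2.1.trans (VB5.grk_eq h3).symm)
      ((𝓔.coinduced S.g).bot_le_at a)
    rw [induced_at] at c1 ⊢
    rw [coinduced_at] at c3 ⊢
    let P := 𝓔.at a
    let g' := factorThruImageSubobject (P.arrow ≫ S.g)
    have sq := Subobject.isPullback S.f P
    have w : Subobject.pullbackπ S.f P ≫ g' = 0 := by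
      rw [← cancel_mono (imageSubobject (P.arrow ≫ S.g)).arrow, Category.assoc, Limits.zero_comp]
      refine (congrArg (_ ≫ ·) (imageSubobject_arrow_comp (P.arrow ≫ S.g))).trans ?_
      rw [← Category.assoc, sq.w, Category.assoc, S.zero, Limits.comp_zero]
    haveI : Mono (Subobject.pullbackπ S.f P) := by
      have : Mono (Subobject.pullbackπ S.f P ≫ P.arrow) := by rw [sq.w]; exact mono_comp _ _
      exact mono_of_mono _ P.arrow
    have hT : (ShortComplex.mk _ _ w).ShortExact :=
      { exact := ShortComplex.exact_of_f_is_kernel _ (KernelFork.IsLimit.ofι' _ _ fun {A} z hz => by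
          have hz' : (z ≫ P.arrow) ≫ S.g = 0 := by
            refine (Category.assoc _ _ _).trans ((congrArg (z ≫ ·) (imageSubobject_arrow_comp (P.arrow ≫ S.g)).symm).trans ?_)
            refine (Category.assoc _ _ _).symm.trans ?_
            exact (congrArg (· ≫ (imageSubobject (P.arrow ≫ S.g)).arrow) hz).trans Limits.zero_comp
          refine ⟨sq.lift z (hS.fIsKernel.lift (KernelFork.ofι _ hz')) ?_, sq.lift_fst _ _ _⟩
          exact (Fork.IsLimit.lift_ι' hS.fIsKernel _ hz').symm)
        epi_g := inferInstanceAs (Epi (factorThruImageSubobject (P.arrow ≫ S.g))) }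
    exact_mod_cast EulerLib.euler_additive k X _ hT c1 c2 c3
  rw [intervalIntegral.integral_congr (fun a _ => hpt a), intervalIntegral.integral_add (hi _) (hi _)]
  push_cast
  ring

/-- Let k be an algebraically closed field of characteristic zero, X a smooth proper geometrically
connected curve over k (topological dimension one) of genus g ≥ 2, and I the ideal of a reduced
effective Cartier divisor on X. Let F be a finite locally free O_X-module of rank r with a parabolic
structure 𝓕 along I which is parabolic stable: for every finite locally free sub-module F₁ → F of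
rank r₁ with 0 < r₁ < r, the structure induced on F₁ has r·par-deg(F₁) < r₁·par-deg(F). Let 0 → F' →
F → F'' → 0 be a parabolic extension (a short exact sequence in which F' carries the structure
induced from 𝓕 as a sub-module and F'' the structure induced as a quotient) with F' and F'' finite
locally free. Then every parabolic homomorphism F'' → F' is zero. The published statement tests
stability on quotient bundles; on a smooth proper curve this singles out the same parabolic bundles
as the test on sub-modules used here. -/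
theorem result (k : Type u) [Field k] [IsAlgClosed k] [CharZero k]
    (X : Scheme.{u}) [X.Over (Spec (CommRingCat.of k))]
    [IsProper (X ↘ Spec (CommRingCat.of k))] [Smooth (X ↘ Spec (CommRingCat.of k))]
    [GeometricallyConnected (X ↘ Spec (CommRingCat.of k))] (hdim : topologicalKrullDim ↥X = 1)
    (g : ℕ) (hg : Curv2.genus k X = g) (hg2 : 2 ≤ g)
    (I : X.IdealSheafData) (hD : FGA.IsEffCartier I) [AlgebraicGeometry.IsReduced I.subscheme]
    {F F' F'' : X.Modules} (r : ℕ) (hF : FlatMod.IsFinLocFreeOfRank r F)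
    (𝓕 : ParSh.Str F) (h𝓕 : 𝓕.Along I) (hst : ParSh.IsParStable k X 𝓕 r)
    (i : F' ⟶ F) (p : F ⟶ F'') [Epi p] (𝓕' : ParSh.Str F') (𝓕'' : ParSh.Str F'')
    (hext : ParSh.IsParExt i p 𝓕' 𝓕 𝓕'') (hF' : FlatMod.IsFinLocFree F') (hF'' : FlatMod.IsFinLocFree F'')
    (φ : F'' ⟶ F') (hφ : ParSh.IsParHom 𝓕'' 𝓕' φ) : φ = 0 := by
  haveI : ConnectedSpace X := GeometricallyConnected.geometrically_connectedSpace (f := X ↘ Spec (CommRingCat.of k))
    (K := k) (𝟙 (Spec (CommRingCat.of k))) (𝟙 X) (X ↘ Spec (CommRingCat.of k)) (IsPullback.of_horiz_isIso ⟨by simp⟩)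
  haveI : IsIntegral X := AbVarLib.isIntegral_of_smooth_connected (X ↘ Spec (CommRingCat.of k))
  haveI : IsLocallyNoetherian X := ParHilbW15.isLocallyNoetherian k
  have hn := VB5.isIntegrallyClosed_stalk k (X := X)
  obtain ⟨w, hS, rfl, rfl⟩ := hext
  haveI : Mono i := hS.mono_f
  by_contra hne
  obtain ⟨r', hr'⟩ := VB5.exists_rank hF'
  obtain ⟨r'', hr''⟩ := VB5.exists_rank hF''
  have hFc := SplitP1.isCoh_of_rank hF
  have hF'c := SplitP1.isCoh_of_rank hr'
  have hF''c := SplitP1.isCoh_of_rank hr''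
  have hsum : r = r' + r'' := by
    have := VB5.grk_additive hS hFc
    change VB5.grk F = VB5.grk F' + VB5.grk F'' at this
    rw [VB5.grk_eq hF, VB5.grk_eq hr', VB5.grk_eq hr''] at this
    exact this
  let V := Abelian.image φ
  have hVc := EulerLib.isCoh_image φ hF''c hF'c
  obtain ⟨hs1, hV⟩ := VB5.sub_bundle hdim.le hn hr' (Abelian.image.ι φ) hVc
  let s := VB5.grk V
  have hs2 : s ≤ r'' := by
    have := VB5.grk_additive (EulerLib.shortExact_kernel (Abelian.factorThruImage φ)) hF''c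
    change VB5.grk F'' = VB5.grk (kernel (Abelian.factorThruImage φ)) + VB5.grk V at this
    rw [VB5.grk_eq hr''] at this
    omega
  have hs0 : 0 < s := by
    by_contra h
    have hz : IsZero V := VB5.isZero_of_rank_zero hV (by omega)
    exact hne (by rw [← Abelian.image.fac φ, hz.eq_of_tgt (Abelian.factorThruImage φ) 0, Limits.zero_comp])
  replace hs1 : s ≤ r' := hs1
  have hsr : s < r := by omega
  -- the saturation of the image in `F`
  let u₀ := Abelian.image.ι φ ≫ i
  haveI : Mono u₀ := mono_comp _ _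
  have hQc := Coherent.isCoh_cokernel u₀ hVc.1 hFc
  obtain ⟨P, π, hπ, hP, -⟩ := VB5.exists_tf_quotient hdim.le hn hQc
  haveI := hπ
  let ρ := cokernel.π u₀ ≫ π
  haveI : Epi ρ := epi_comp _ _
  have hV'c : Coh.IsCoh (kernel ρ) := Coherent.isCoh_kernel ρ hFc (SplitP1.isCoh_of_rank hP).1
  have hV'r : VB5.grk (kernel ρ) = s := by
    have h1 := VB5.grk_additive (EulerLib.shortExact_kernel ρ) hFc
    have h2 := VB5.grk_additive (EulerLib.shortExact_cokernel u₀) hFc
    change VB5.grk F = VB5.grk (kernel ρ) + VB5.grk P at h1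
    change VB5.grk F = s + VB5.grk (cokernel u₀) at h2
    rw [VB5.grk_eq hP] at h1
    omega
  obtain ⟨-, hV'⟩ := VB5.sub_bundle hdim.le hn hF (kernel.ι ρ) hV'c
  rw [hV'r] at hV'
  let u : V ⟶ kernel ρ := kernel.lift ρ u₀ (by simp [ρ])
  haveI : Mono u := by
    haveI : Mono (u ≫ kernel.ι ρ) := by rw [kernel.lift_ι]; infer_instance
    exact mono_of_mono u (kernel.ι ρ)
  let q : F ⟶ V := p ≫ Abelian.factorThruImage φ
  haveI : Epi q := epi_comp _ _
  have hpar : ParSh.IsParHom 𝓕 𝓕 (p ≫ φ ≫ i) := by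
    intro a ha0 ha1
    have h := hφ a ha0 ha1
    rw [EulerLib.ParCurve.coinduced_at, EulerLib.ParCurve.induced_at] at h
    refine (Subobject.factors_iff _ _).2 ⟨factorThruImageSubobject ((𝓕.at a).arrow ≫ p) ≫
      Subobject.factorThru _ _ h ≫ Subobject.pullbackπ i (𝓕.at a), ?_⟩
    show (factorThruImageSubobject ((𝓕.at a).arrow ≫ p) ≫ Subobject.factorThru _ _ h ≫
      Subobject.pullbackπ i (𝓕.at a)) ≫ (𝓕.at a).arrow = _
    simp only [Category.assoc]
    rw [(Subobject.isPullback i (𝓕.at a)).w, ← Category.assoc (Subobject.factorThru _ _ h),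
      Subobject.factorThru_arrow]
    simp
  have hle := S18522.result k X hdim g hg hg2 I hD r r s hF hF 𝓕 h𝓕 𝓕 h𝓕 (p ≫ φ ≫ i) hpar q u (kernel.ι ρ)
    (by rw [kernel.lift_ι]; simp [q, u₀]) hV hV'
    (isFinLocFree_of_iso' ((cokernelIsCokernel (kernel.ι ρ)).coconePointUniqueUpToIso
      (EulerLib.shortExact_kernel ρ).gIsCokernel).symm (VarietyLib.isFinLocFree_of_rank hP))
  have hKc : Coh.IsCoh (kernel q) := Coherent.isCoh_kernel q hFc hVc.1
  have hKr : VB5.grk (kernel q) = r - s := by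
    have h1 := VB5.grk_additive (EulerLib.shortExact_kernel q) hFc
    change VB5.grk F = VB5.grk (kernel q) + s at h1
    rw [VB5.grk_eq hF] at h1
    omega
  obtain ⟨-, hK⟩ := VB5.sub_bundle hdim.le hn hF (kernel.ι q) hKc
  rw [hKr] at hK
  obtain ⟨t, ht⟩ : ∃ t, r = t + s := ⟨r - s, by omega⟩
  subst ht
  rw [Nat.add_sub_cancel] at hK
  have hadd := parDeg_add k hdim hn hD (EulerLib.shortExact_kernel q) (m := t) (n := s) hK hF hV 𝓕 h𝓕
  change 𝓕.parDeg k X (t + s) = (𝓕.induced (kernel.ι q)).parDeg k X t + (𝓕.coinduced q).parDeg k X s at hadd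
  have h1 := hst (kernel q) t (kernel.ι q) inferInstance (by omega) (by omega) hK
  have h2 := hst (kernel ρ) s (kernel.ι ρ) inferInstance hs0 hsr hV'
  push_cast at h1 h2
  nlinarith [mul_le_mul_of_nonneg_right hle (by positivity : (0:ℝ) ≤ (t:ℝ) + s)]

end Groth.Agent.S18523
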