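import Groth.Statements.S18524
import Groth.Agent.H0Growth23.Diff
-- import your own Groth.Agent.* helpers here

set_option autoImplicit false
universe u
open CategoryTheory CategoryTheory.Limits AlgebraicGeometry
open ParSh

namespace Groth.Agent.S18524

noncomputable section

/-- A short exact sequence restricts to every subobject of its middle term. -/
theorem exists_shortExact {C : Type*} [Category C] [Abelian C] {F E G : C} (i : F ⟶ E) (p : E ⟶ G) (w : i ≫ p = 0)
    (hS : (ShortComplex.mk i p w).ShortExact) (P : Subobject E) :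
    ∃ (κ : ((Subobject.pullback i).obj P : C) ⟶ (P : C)) (f : (P : C) ⟶ (imageSubobject (P.arrow ≫ p) : C))
      (h : κ ≫ f = 0), (ShortComplex.mk κ f h).ShortExact ∧
      Nonempty (((Subobject.pullback i).obj P : C) ≅ kernel (P.arrow ≫ p)) ∧
      Nonempty ((imageSubobject (P.arrow ≫ p) : C) ≅ cokernel κ) := by
  haveI : Mono i := hS.mono_f
  let κ := Subobject.pullbackπ i P
  let f := factorThruImageSubobject (P.arrow ≫ p)
  have hpb := Subobject.isPullback i P
  haveI : Mono κ := ⟨fun a b h => hpb.hom_ext h ((cancel_mono i).1 (by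
    rw [Category.assoc, Category.assoc, ← hpb.w, ← Category.assoc, ← Category.assoc, h]))⟩
  have h0 : κ ≫ P.arrow ≫ p = 0 := by rw [← Category.assoc, hpb.w, Category.assoc, w, comp_zero]
  have hκf : κ ≫ f = 0 := by
    rw [← cancel_mono (imageSubobject (P.arrow ≫ p)).arrow, Category.assoc, imageSubobject_arrow_comp, h0, zero_comp]
  have hlim : IsLimit (KernelFork.ofι κ h0) := KernelFork.IsLimit.ofι' κ h0 fun {T} t ht => by
    obtain ⟨l, hl⟩ := KernelFork.IsLimit.lift' hS.fIsKernel (t ≫ P.arrow) (by
      show (t ≫ P.arrow) ≫ p = 0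
      rw [Category.assoc, ht])
    exact ⟨hpb.lift t l hl.symm, hpb.lift_fst _ _ _⟩
  have hlim' : IsLimit (KernelFork.ofι κ hκf) := KernelFork.IsLimit.ofι' κ hκf fun {T} t ht => by
    obtain ⟨l, hl⟩ := KernelFork.IsLimit.lift' hlim t (by
      rw [← imageSubobject_arrow_comp (P.arrow ≫ p), ← Category.assoc]
      exact (ht =≫ _).trans zero_comp)
    exact ⟨l, hl⟩
  have hT : (ShortComplex.mk κ f hκf).ShortExact :=
    { exact := ShortComplex.exact_of_f_is_kernel _ hlim'
      mono_f := inferInstanceAs (Mono κ)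
      epi_g := inferInstanceAs (Epi f) }
  exact ⟨κ, f, hκf, hT, ⟨hlim.conePointUniqueUpToIso (limit.isLimit _)⟩,
    ⟨hT.gIsCokernel.coconePointUniqueUpToIso (colimit.isColimit _)⟩⟩

/-- The twisted Euler characteristic is additive along a restricted extension. -/
theorem euler_twist_add (k : Type u) [Field k] (X : Scheme.{u})
    [X.Over (Spec (CommRingCat.of k))] [IsProper (X ↘ Spec (CommRingCat.of k))]
    (L : X.Modules) (hL : CohB1.IsAmple L) {F E G : X.Modules} (hG : Coh.IsCoh G)
    (i : F ⟶ E) (p : E ⟶ G) (w : i ≫ p = 0) (hS : (ShortComplex.mk i p w).ShortExact) (P : Subobject E)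
    (hP : Coh.IsCoh (P : X.Modules)) (m : ℕ) :
    (Curv2.euler k X (ShStab.twist X L ((Subobject.pullback i).obj P : X.Modules) m) : ℝ) +
      Curv2.euler k X (ShStab.twist X L (imageSubobject (P.arrow ≫ p) : X.Modules) m) =
      Curv2.euler k X (ShStab.twist X L (P : X.Modules) m) := by
  haveI := Groth.Agent.EulerLib.isNoetherian_of_proper (X := X) k
  obtain ⟨κ, f, h0, hT, ⟨i1⟩, ⟨i3⟩⟩ := exists_shortExact i p w hS P
  have hN := Groth.Agent.AmpleLib.isInvertible_tensorPow hL.1 m
  have c1 : Coh.IsCoh ((Subobject.pullback i).obj P : X.Modules) :=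
    Groth.Agent.Coherent.isCoh_iso i1.symm (Groth.Agent.Coherent.isCoh_kernel _ hP hG.1)
  have c2 := hP
  have c3 : Coh.IsCoh (imageSubobject (P.arrow ≫ p) : X.Modules) := Groth.Agent.Coherent.isCoh_iso i3.symm
    (Groth.Agent.Coherent.isCoh_cokernel _ c1.1 c2)
  have h := Groth.Agent.EulerLib.euler_additive k X _ (Groth.Agent.EulerLib.twistSeq_shortExact hN hT)
    (Groth.Agent.EulerLib.isCoh_twist hN c1) (Groth.Agent.EulerLib.isCoh_twist hN c2)
    (Groth.Agent.EulerLib.isCoh_twist hN c3)
  exact_mod_cast h.symm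

end

/-- Let X be a scheme proper over a field k with an ample invertible sheaf L, and 0 → F → E → G → 0 a
short exact sequence of coherent O_X-modules. Let 𝓔 be a finite weighted filtration of E by coherent
sub-modules E = E₀ ⊇ E₁ ⊇ ⋯ ⊇ E_l ⊇ B with B coherent and weights 0 ≤ w₀ < ⋯ < w_l < 1, and give F
the filtration pulled back along F → E and G the image filtration along E → G, so that the sequence
is a parabolic extension. Then for every natural number m the parabolic Hilbert functions are
additive: par-χ(F, m) + par-χ(G, m) = par-χ(E, m), where par-χ(E, m) = χ(B ⊗ L^m) + Σ_j w_j (χ(E_j ⊗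
L^m) − χ(E_{j+1} ⊗ L^m)) with E_{l+1} = B. The published statement is for parabolic sheaves along
effective Cartier divisors D on a projective scheme over an algebraically closed field, with B =
E(−D) and the functions averaged over several divisors; the identity holds for each weighted
filtration separately, over any field and for any coherent bottom piece. -/
theorem result (k : Type u) [Field k] (X : Scheme.{u})
    [X.Over (Spec (CommRingCat.of k))] [IsProper (X ↘ Spec (CommRingCat.of k))]
    (L : X.Modules) (hL : CohB1.IsAmple L) {F E G : X.Modules}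
    (hF : Coh.IsCoh F) (hE : Coh.IsCoh E) (hG : Coh.IsCoh G)
    (i : F ⟶ E) (p : E ⟶ G) [Epi p] (𝓕 : ParSh.Str F) (𝓔 : ParSh.Str E) (𝓖 : ParSh.Str G)
    (hext : ParSh.IsParExt i p 𝓕 𝓔 𝓖)
    (hcoh : ∀ j, Coh.IsCoh ((𝓔.piece j : Subobject E) : X.Modules))
    (hbot : Coh.IsCoh ((𝓔.bot : Subobject E) : X.Modules)) (m : ℕ) :
    𝓕.parHilb k X L m + 𝓖.parHilb k X L m = 𝓔.parHilb k X L m := by
  obtain ⟨w, hS, rfl, rfl⟩ := hext
  have key : ∀ P : Subobject E, Coh.IsCoh (P : X.Modules) → _ :=
    fun P hP => euler_twist_add k X L hL hG i p w hS P hP m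
  have key2 : ∀ j : Fin (𝓔.l + 2),
      (Curv2.euler k X (ShStab.twist X L ((𝓔.induced i).pieceX j : X.Modules) m) : ℝ) +
        Curv2.euler k X (ShStab.twist X L ((𝓔.coinduced p).pieceX j : X.Modules) m) =
        Curv2.euler k X (ShStab.twist X L (𝓔.pieceX j : X.Modules) m) := fun j => by
    induction j using Fin.lastCases with
    | last =>
      simp only [ParSh.Str.pieceX, ParSh.Str.induced, ParSh.Str.coinduced, Fin.lastCases_last]
      exact key _ hbot
    | cast j =>
      simp only [ParSh.Str.pieceX, ParSh.Str.induced, ParSh.Str.coinduced, Fin.lastCases_castSucc]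
      exact key _ (hcoh j)
  unfold ParSh.Str.parHilb ParSh.Str.parSum
  beta_reduce
  rw [add_add_add_comm]
  refine congr_arg₂ (· + ·) (key _ hbot) (Finset.sum_add_distrib.symm.trans (Finset.sum_congr rfl fun j _ => ?_))
  exact (mul_add (𝓔.wt j) _ _).symm.trans (congrArg (𝓔.wt j * ·)
    ((sub_add_sub_comm _ _ _ _).trans (congr_arg₂ (· - ·) (key _ (hcoh j)) (key2 j.succ))))

end Groth.Agent.S18524
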