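import Groth.Statements.S18527
import Groth.Agent.ParHilbW15.Basic
-- import your own Groth.Agent.* helpers here

set_option autoImplicit false
universe u
open CategoryTheory CategoryTheory.Limits AlgebraicGeometry Polynomial
open ParSh

namespace Groth.Agent.S18527

/-- An upper and a lower bound for the second coefficient of the parabolic Hilbert polynomial. Let X be
a scheme proper over a field k with an ample invertible sheaf L, I the ideal of an effective Cartier
divisor D on X, and E a coherent O_X-module with a finite weighted filtration 𝓔 along I by coherent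
pieces E = E₀ ⊇ ⋯ ⊇ E_l ⊇ E_{l+1} = I·E, weights 0 ≤ w₀ < ⋯ < w_l < 1. Let d ≥ 1 be a natural number
with Supp E ∩ Supp D of topological Krull dimension less than d, P the Hilbert polynomial of E with
respect to L and P_j that of E_j (0 ≤ j ≤ l+1). Then the coefficient of degree d − 1 of the
parabolic Hilbert polynomial P_{l+1} + Σ_{j ≤ l} w_j (P_j − P_{j+1}) is at least the coefficient of
degree d − 1 of P_{l+1} and at most that of P. For E pure of dimension d this says that the
parabolic slope lies between the slope of E(−D) and the slope of E; the published statement also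
gives a lower bound μ(E) − b with b depending only on a bound for the multiplicity of E, on d, D and
L, which is not part of this row. -/
theorem result (k : Type u) [Field k] (X : Scheme.{u})
    [X.Over (Spec (CommRingCat.of k))] [IsProper (X ↘ Spec (CommRingCat.of k))]
    (L : X.Modules) (hL : CohB1.IsAmple L) (I : X.IdealSheafData) (hD : FGA.IsEffCartier I)
    (E : X.Modules) (hE : Coh.IsCoh E) (𝓔 : ParSh.Str E) (h𝓔 : 𝓔.Along I)
    (hcoh : ∀ j, Coh.IsCoh ((𝓔.pieceX j : Subobject E) : X.Modules)) (d : ℕ) (hd : 1 ≤ d)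
    (hsupp : topologicalKrullDim ↥(CohB1.support E ∩ (I.support : Set X)) < (d : WithBot ℕ∞))
    (P : ℚ[X]) (hP : ShStab.IsHilbPoly k X L E P) (PX : Fin (𝓔.l + 2) → ℚ[X])
    (hPX : ∀ j, ShStab.IsHilbPoly k X L ((𝓔.pieceX j : Subobject E) : X.Modules) (PX j)) :
    (W4swparbununimod.rpoly (PX (Fin.last (𝓔.l + 1)))).coeff (d - 1) ≤ (W4swparbununimod.parPoly 𝓔 PX).coeff (d - 1) ∧
      (W4swparbununimod.parPoly 𝓔 PX).coeff (d - 1) ≤ (W4swparbununimod.rpoly P).coeff (d - 1) := by
  haveI := ParHilbW15.isLocallyNoetherian k (X := X)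
  obtain ⟨H, hH⟩ := ParHilbW15.exists_hilb_coker k hL 𝓔 hE hcoh
  have hd' := ParHilbW15.dim_piece 𝓔 h𝓔 hsupp
  have hcc := fun j => Coherent.isCoh_cokernel (𝓔.pieceX j).arrow (hcoh j).1 hE
  have hnn : ∀ j, 0 ≤ (H j).coeff (d - 1) := fun j =>
    ParHilbW15.coeff_nonneg k hL (hcc j) (hH j) hd (hd' j)
  have hp : ∀ j, P = PX j + H j := ParHilbW15.hilb_piece k hL 𝓔 hE hcoh hP hPX hH
  have hmono : ∀ j : Fin (𝓔.l + 1), (H j.castSucc).coeff (d - 1) ≤ (H j.succ).coeff (d - 1) := by
    intro j
    let f : cokernel (𝓔.pieceX j.succ).arrow ⟶ cokernel (𝓔.pieceX j.castSucc).arrow :=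
      cokernel.map _ _ (Subobject.ofLE _ _ (ParHilbW15.pieceX_succ_le 𝓔 j)) (𝟙 E) (by simp)
    haveI : Epi f := by
      have h : cokernel.π (𝓔.pieceX j.succ).arrow ≫ f = cokernel.π (𝓔.pieceX j.castSucc).arrow :=
        (cokernel.π_desc _ _ _).trans (Category.id_comp _)
      exact epi_of_epi_fac h
    have hk := Coherent.isCoh_kernel f (hcc _) (hcc _).1
    have hK := EulerLib.isHilbPoly_hp k hL _ hk
    have e := EulerLib.hilb_ses k hL (EulerLib.shortExact_kernel f) hk (hcc _) (hcc _) hK (hH _) (hH _)
    have hs : topologicalKrullDim (CohB1.support (kernel f)) < (d : WithBot ℕ∞) :=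
      (EulerLib.dim_mono (Coherent.support_subset_of_mono (kernel.ι f))).trans_lt (hd' j.succ)
    have := ParHilbW15.coeff_nonneg k hL hk hK hd hs
    rw [e, Polynomial.coeff_add]
    linarith
  constructor
  · rw [W4swparbununimod.parPoly, Polynomial.coeff_add, Polynomial.finsetSum_coeff]
    refine le_add_of_nonneg_right (Finset.sum_nonneg fun j _ => ?_)
    rw [Polynomial.coeff_C_mul, Polynomial.coeff_sub, Polynomial.coeff_map, Polynomial.coeff_map]
    refine mul_nonneg (ParHilbW15.wt_nonneg' 𝓔 j) (sub_nonneg.2 ?_)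
    have h1 := congrArg (fun R => Polynomial.coeff R (d - 1)) (hp j.castSucc)
    have h2 := congrArg (fun R => Polynomial.coeff R (d - 1)) (hp j.succ)
    simp only [Polynomial.coeff_add] at h1 h2
    have := hmono j
    exact Rat.cast_le.2 (by linarith)
  · rw [ParHilbW15.parPoly_eq k hL 𝓔 hE hcoh hP hPX hH, Polynomial.coeff_sub, Polynomial.finsetSum_coeff]
    refine sub_le_self _ (Finset.sum_nonneg fun j _ => ?_)
    rw [Polynomial.coeff_C_mul, Polynomial.coeff_map]
    exact mul_nonneg (ParHilbW15.wtX_succ_sub_pos 𝓔 j).le (Rat.cast_nonneg.2 (hnn _))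

end Groth.Agent.S18527
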