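import Groth.Statements.S18529
import Groth.Agent.ParHilbW15.Semi
-- import your own Groth.Agent.* helpers here

set_option autoImplicit false
universe u
open CategoryTheory CategoryTheory.Limits AlgebraicGeometry Polynomial
open ParSh

set_option maxHeartbeats 2000000
set_option backward.isDefEq.respectTransparency false

namespace Groth.Agent.S18529

open ParHilbW15 in
theorem parPoly_zero (k : Type u) [Field k] {X : Scheme.{u}} [X.Over (Spec (CommRingCat.of k))]
    [IsProper (X ↘ Spec (CommRingCat.of k))] {L : X.Modules} (hL : CohB1.IsAmple L)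
    {V : X.Modules} (hV : IsZero V) (𝒜 : ParSh.Str V) (PX : Fin (𝒜.l + 2) → ℚ[X])
    (hPX : ∀ j, ShStab.IsHilbPoly k X L ((𝒜.pieceX j : Subobject V) : X.Modules) (PX j)) :
    W4swparbununimod.parPoly 𝒜 PX = 0 := by
  have h : ∀ j, PX j = 0 := fun j =>
    EulerLib.hilb_zero k hL (IsZero.of_mono (𝒜.pieceX j).arrow hV) (hPX j)
  simp [W4swparbununimod.parPoly, h]

theorem abel_zero {C : Type*} [Category C] {E : C} (𝓔 : ParSh.Str E) (hw0 : 0 < 𝓔.wt 0)
    (x : Fin (𝓔.l + 2) → ℝ) (hx : ∀ j, 0 ≤ x j)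
    (h : x (Fin.last (𝓔.l + 1)) + ∑ j : Fin (𝓔.l + 1), 𝓔.wt j * (x j.castSucc - x j.succ) ≤ 0) :
    ∀ j, x j = 0 := by
  let g := fun j => 𝓔.wtX j * x j
  have A := Fin.sum_univ_succ g
  have B := Fin.sum_univ_castSucc g
  have gl : g (Fin.last _) = x (Fin.last _) := by simp [g]
  have g0 : g 0 = 𝓔.wt 0 * x 0 := by
    show 𝓔.wtX (0 : Fin (𝓔.l + 1)).castSucc * _ = _
    rw [𝓔.wtX_castSucc]
  have hd : ∀ j : Fin (𝓔.l + 1), 0 < 𝓔.wtX j.succ - 𝓔.wtX j.castSucc := by
    intro j
    induction j using Fin.lastCases with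
    | last => rw [Fin.succ_last, 𝓔.wtX_last, 𝓔.wtX_castSucc]; linarith [𝓔.wt_lt_one]
    | cast i =>
      rw [Fin.succ_castSucc, 𝓔.wtX_castSucc, 𝓔.wtX_castSucc]
      linarith [𝓔.wt_strictMono i.castSucc_lt_succ]
  have e : ∑ j : Fin (𝓔.l + 1), ((𝓔.wtX j.succ - 𝓔.wtX j.castSucc) * x j.succ -
      𝓔.wt j * (x j.castSucc - x j.succ)) = ∑ j : Fin (𝓔.l + 1), (g j.succ - g j.castSucc) :=
    Finset.sum_congr rfl fun j _ => by simp [g]; ring
  rw [Finset.sum_sub_distrib, Finset.sum_sub_distrib] at e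
  rw [gl] at B
  have hs : ∀ j ∈ (Finset.univ : Finset (Fin (𝓔.l + 1))), 0 ≤ (𝓔.wtX j.succ - 𝓔.wtX j.castSucc) * x j.succ :=
    fun j _ => mul_nonneg (hd j).le (hx _)
  have h0 := Finset.sum_nonneg hs
  have hx0 : 0 ≤ 𝓔.wt 0 * x 0 := mul_nonneg hw0.le (hx 0)
  have hsum : ∑ j : Fin (𝓔.l + 1), (𝓔.wtX j.succ - 𝓔.wtX j.castSucc) * x j.succ = 0 := by linarith
  have hz := (Finset.sum_eq_zero_iff_of_nonneg hs).1 hsum
  intro j
  refine Fin.cases ?_ (fun i => ?_) j
  · exact le_antisymm (le_of_not_gt fun h' => by nlinarith [mul_pos hw0 h']) (hx 0)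
  · exact (mul_eq_zero.1 (hz i (Finset.mem_univ _))).resolve_left (hd i).ne'

/-- Two structures with the same weights, positive first weight, nested pieces and equal polynomial. -/
theorem eq_of_parPoly_le (k : Type u) [Field k] {X : Scheme.{u}} [X.Over (Spec (CommRingCat.of k))]
    [IsProper (X ↘ Spec (CommRingCat.of k))] {L : X.Modules} (hL : CohB1.IsAmple L)
    {E : X.Modules} (𝓔 : ParSh.Str E) (hw0 : 0 < 𝓔.wt 0)
    (A B : Fin (𝓔.l + 2) → X.Modules) (hA : ∀ j, Coh.IsCoh (A j)) (hB : ∀ j, Coh.IsCoh (B j))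
    (a : ∀ j, A j ⟶ B j) (ha : ∀ j, Mono (a j)) (PA PB : Fin (𝓔.l + 2) → ℚ[X])
    (hPA : ∀ j, ShStab.IsHilbPoly k X L (A j) (PA j)) (hPB : ∀ j, ShStab.IsHilbPoly k X L (B j) (PB j)) :
    (∃ M : ℕ, ∀ m : ℕ, M ≤ m → (W4swparbununimod.parPoly 𝓔 PA).eval (m : ℝ) ≤
      (W4swparbununimod.parPoly 𝓔 PB).eval (m : ℝ)) ∧
    ((∃ M : ℕ, ∀ m : ℕ, M ≤ m → (W4swparbununimod.parPoly 𝓔 PB).eval (m : ℝ) ≤
      (W4swparbununimod.parPoly 𝓔 PA).eval (m : ℝ)) → ∀ j, IsIso (a j)) := by
  haveI := ParHilbW15.isLocallyNoetherian k (X := X)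
  have hR : ∀ j, ∃ R, ShStab.IsHilbPoly k X L (cokernel (a j)) R ∧ PB j = PA j + R := fun j =>
    haveI := ha j
    EulerLib.hilb_mono k hL (a j) (hA j) (hB j) (hPA j) (hPB j)
  choose R hR hRe using hR
  have hc : ∀ j, Coh.IsCoh (cokernel (a j)) := fun j => Coherent.isCoh_cokernel (a j) (hA j).1 (hB j)
  have hpos : ∀ j, ∀ᶠ m : ℕ in Filter.atTop, 0 ≤ (R j).eval (m : ℚ) := fun j => by
    obtain ⟨N, hN⟩ := EulerLib.polyLE_zero k hL (hc j) (hR j)
    filter_upwards [Filter.eventually_ge_atTop N] with m hm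
    simpa using hN m hm
  obtain ⟨M, hM⟩ := Filter.eventually_atTop.1 (Filter.eventually_all.2 hpos)
  have hdiff : ∀ m : ℕ, (W4swparbununimod.parPoly 𝓔 PB).eval (m : ℝ) - (W4swparbununimod.parPoly 𝓔 PA).eval (m : ℝ) =
      (((R (Fin.last (𝓔.l + 1))).eval (m : ℚ) : ℚ) : ℝ) + ∑ j : Fin (𝓔.l + 1), 𝓔.wt j *
        ((((R j.castSucc).eval (m : ℚ) : ℚ) : ℝ) - (((R j.succ).eval (m : ℚ) : ℚ) : ℝ)) := by
    intro m
    simp only [W4swparbununimod.parPoly, Polynomial.eval_add, Polynomial.eval_finsetSum, Polynomial.eval_mul,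
      Polynomial.eval_C, Polynomial.eval_sub, ParHilbW15.eval_rpoly, hRe, Rat.cast_add]
    rw [add_sub_add_comm, ← Finset.sum_sub_distrib, add_sub_cancel_left]
    refine congrArg _ (Finset.sum_congr rfl fun j _ => ?_)
    ring
  refine ⟨⟨M, fun m hm => ?_⟩, fun ⟨M', hM'⟩ j => ?_⟩
  · have := ParHilbW15.abel_nonneg 𝓔 (fun j => (((R j).eval (m : ℚ) : ℚ) : ℝ))
      (fun j => Rat.cast_nonneg.2 (hM m hm j))
    linarith [hdiff m]
  · haveI := ha j
    have hle : StabCat.PolyLE (R j) 0 := ⟨max M M', fun m hm => by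
      have := abel_zero 𝓔 hw0 (fun j => (((R j).eval (m : ℚ) : ℚ) : ℝ))
        (fun j => Rat.cast_nonneg.2 (hM m ((le_max_left _ _).trans hm) j))
        (by linarith [hdiff m, hM' m ((le_max_right _ _).trans hm)]) j
      rw [Polynomial.eval_zero]
      exact le_of_eq (Rat.cast_eq_zero.1 this)⟩
    have h0 : R j = 0 := EulerLib.polyLE_antisymm hle (EulerLib.polyLE_zero k hL (hc j) (hR j))
    haveI : Epi (a j) := Abelian.epi_of_cokernel_π_eq_zero _
      (((EulerLib.hilb_eq_zero_iff k hL (hc j) (hR j)).1 h0).eq_of_tgt _ _)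
    exact isIso_of_mono_of_epi _


/-- Kernel and image of a parabolic homomorphism between semistable parabolic sheaves with the same
reduced parabolic Hilbert polynomial, for one divisor. Let X be a scheme proper over a field k with
an ample invertible sheaf L, I the ideal of an effective Cartier divisor D on X, and d ≥ 1. Let E
and F be nonzero coherent O_X-modules, pure of dimension d, with Supp E ∩ Supp D and Supp F ∩ Supp D
of topological Krull dimension less than d, carrying finite weighted filtrations 𝓔 and 𝓕 along I by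
coherent pieces, with the same set of weights and with smallest weight positive. Let P and R be the
Hilbert polynomials of E and F, P_j and R_j those of the pieces, and Par_E = P_{l+1} + Σ_j w_j (P_j
− P_{j+1}), Par_F likewise; α_d denotes d! times the coefficient of degree d. Assume both filtered
sheaves are semistable for the reduced parabolic Hilbert polynomial: for every nonzero coherent
sub-module W → E whose cokernel is pure of dimension d or zero, with its induced filtration and any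
Hilbert polynomials Q of W and Q_j of its pieces, Par_W(m)·α_d(P) ≤ Par_E(m)·α_d(Q) for all large
natural m (and the same for F); and assume Par_E·α_d(R) = Par_F·α_d(P). Let f : E → F be a parabolic
homomorphism, j : K → E a monomorphism with 0 → K → E → F exact at E, and f = q ≫ u with q : E → V
an epimorphism and u : V → F a monomorphism. Then: (1) for all Hilbert polynomials Q_K of K and
Q_{K,j} of the pieces of the filtration induced on K, Par_K·α_d(P) = Par_E·α_d(Q_K) (the kernel has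
the same reduced parabolic Hilbert polynomial); (2) the cokernel of u is pure of dimension d or zero
(the image of f is saturated in F); (3) for every real a with 0 ≤ a ≤ 1, the a-th piece of the
filtration induced on V as a quotient of E equals the a-th piece of the filtration induced on V as a
sub-module of F. The published statement is phrased for parabolic sheaves along several divisors on
the fibres of a projective X → S over an algebraically closed field and concludes that such sheaves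
form an abelian category; this row is the absolute one-divisor case of the kernel and image steps of
its proof, with semistability tested on saturated sub-modules carrying the induced filtration. -/
theorem result (k : Type u) [Field k] (X : Scheme.{u})
    [X.Over (Spec (CommRingCat.of k))] [IsProper (X ↘ Spec (CommRingCat.of k))]
    (L : X.Modules) (hL : CohB1.IsAmple L) (I : X.IdealSheafData) (hD : FGA.IsEffCartier I) (d : ℕ) (hd : 1 ≤ d)
    {E F : X.Modules} (hE : Coh.IsCoh E) (hF : Coh.IsCoh F) (hE0 : ¬ IsZero E) (hF0 : ¬ IsZero F)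
    (hEp : ShStab.IsPure X E d) (hFp : ShStab.IsPure X F d)
    (hEs : topologicalKrullDim ↥(CohB1.support E ∩ (I.support : Set X)) < (d : WithBot ℕ∞))
    (hFs : topologicalKrullDim ↥(CohB1.support F ∩ (I.support : Set X)) < (d : WithBot ℕ∞))
    (𝓔 : ParSh.Str E) (h𝓔 : 𝓔.Along I) (𝓕 : ParSh.Str F) (h𝓕 : 𝓕.Along I)
    (hcE : ∀ j, Coh.IsCoh ((𝓔.pieceX j : Subobject E) : X.Modules))
    (hcF : ∀ j, Coh.IsCoh ((𝓕.pieceX j : Subobject F) : X.Modules))
    (hw : Set.range 𝓕.wt = Set.range 𝓔.wt) (hw0 : 0 < 𝓔.wt 0)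
    (P R : ℚ[X]) (hP : ShStab.IsHilbPoly k X L E P) (hR : ShStab.IsHilbPoly k X L F R)
    (PX : Fin (𝓔.l + 2) → ℚ[X]) (hPX : ∀ j, ShStab.IsHilbPoly k X L ((𝓔.pieceX j : Subobject E) : X.Modules) (PX j))
    (RX : Fin (𝓕.l + 2) → ℚ[X]) (hRX : ∀ j, ShStab.IsHilbPoly k X L ((𝓕.pieceX j : Subobject F) : X.Modules) (RX j))
    (hssE : (∀ (W : X.Modules) (ι : W ⟶ E), Mono ι → Coh.IsCoh W → ¬ IsZero W → ShStab.IsPure X (cokernel ι) d →
        ∀ (Q : ℚ[X]) (QX : Fin (𝓔.l + 2) → ℚ[X]), ShStab.IsHilbPoly k X L W Q →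
          (∀ j, ShStab.IsHilbPoly k X L (((𝓔.induced ι).pieceX j : Subobject W) : X.Modules) (QX j)) →
          ∃ M : ℕ, ∀ m : ℕ, M ≤ m →
            (W4swparbununimod.parPoly (𝓔.induced ι) QX).eval (m : ℝ) * (StabCat.alpha d P : ℝ) ≤
              (W4swparbununimod.parPoly 𝓔 PX).eval (m : ℝ) * (StabCat.alpha d Q : ℝ)))
    (hssF : (∀ (W : X.Modules) (ι : W ⟶ F), Mono ι → Coh.IsCoh W → ¬ IsZero W → ShStab.IsPure X (cokernel ι) d →
        ∀ (Q : ℚ[X]) (QX : Fin (𝓕.l + 2) → ℚ[X]), ShStab.IsHilbPoly k X L W Q →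
          (∀ j, ShStab.IsHilbPoly k X L (((𝓕.induced ι).pieceX j : Subobject W) : X.Modules) (QX j)) →
          ∃ M : ℕ, ∀ m : ℕ, M ≤ m →
            (W4swparbununimod.parPoly (𝓕.induced ι) QX).eval (m : ℝ) * (StabCat.alpha d R : ℝ) ≤
              (W4swparbununimod.parPoly 𝓕 RX).eval (m : ℝ) * (StabCat.alpha d Q : ℝ)))
    (hred : W4swparbununimod.parPoly 𝓔 PX * Polynomial.C (StabCat.alpha d R : ℝ) =
      W4swparbununimod.parPoly 𝓕 RX * Polynomial.C (StabCat.alpha d P : ℝ))
    (f : E ⟶ F) (hf : ParSh.IsParHom 𝓔 𝓕 f)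
    {K V : X.Modules} (j : K ⟶ E) [Mono j] (w : j ≫ f = 0) (hex : (ShortComplex.mk j f w).Exact)
    (q : E ⟶ V) [Epi q] (u : V ⟶ F) [Mono u] (hqu : q ≫ u = f) :
    (∀ (QK : ℚ[X]) (QKX : Fin (𝓔.l + 2) → ℚ[X]), ShStab.IsHilbPoly k X L K QK →
        (∀ j', ShStab.IsHilbPoly k X L (((𝓔.induced j).pieceX j' : Subobject K) : X.Modules) (QKX j')) →
        W4swparbununimod.parPoly (𝓔.induced j) QKX * Polynomial.C (StabCat.alpha d P : ℝ) =
          W4swparbununimod.parPoly 𝓔 PX * Polynomial.C (StabCat.alpha d QK : ℝ)) ∧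
    ShStab.IsPure X (cokernel u) d ∧
    (∀ a : ℝ, 0 ≤ a → a ≤ 1 → (𝓔.coinduced q).at a = (𝓕.induced u).at a) := by
  haveI := ParHilbW15.isLocallyNoetherian k (X := X)
  obtain ⟨l, piece, bot, wt, p0, pa, bl, sm, w0, w1⟩ := 𝓕
  obtain rfl : l = 𝓔.l := by
    have h := congrArg Set.ncard hw
    rw [Set.ncard_range_of_injective sm.injective, Set.ncard_range_of_injective 𝓔.wt_strictMono.injective] at h
    simpa using h
  obtain rfl : wt = 𝓔.wt := (StrictMono.range_inj sm 𝓔.wt_strictMono).1 hw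
  let 𝓕 : ParSh.Str F := ⟨𝓔.l, piece, bot, 𝓔.wt, p0, pa, bl, sm, w0, w1⟩
  change ∀ j, Coh.IsCoh ((𝓕.pieceX j : Subobject F) : X.Modules) at hcF
  have hjq : j ≫ q = 0 := by
    rw [← cancel_mono u, Category.assoc, hqu, w, CategoryTheory.Limits.zero_comp]
  haveI := hE.1
  haveI := hF.1
  have hV : Coh.IsCoh V := by
    have hq0 : Abelian.image f ≅ V := by
      haveI : StrongEpi q := strongEpi_of_epi q
      exact (Abelian.imageIsoImage f) ≪≫ (image.eqToIso hqu.symm) ≪≫ (Limits.image.isoStrongEpiMono q u rfl).symm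
    exact Coherent.isCoh_of_iso hq0 (EulerLib.isCoh_image f hE hF)
  have hexq : (ShortComplex.mk j q hjq).Exact :=
    ShortComplex.exact_of_f_is_kernel _ (KernelFork.IsLimit.ofι' j hjq fun {T} t ht =>
      ⟨hex.lift t (by show t ≫ f = 0; rw [← hqu, ← Category.assoc, ht, CategoryTheory.Limits.zero_comp]),
        hex.lift_f _ _⟩)
  have hK : Coh.IsCoh K := by
    have hse : (ShortComplex.mk j q hjq).ShortExact := { exact := hexq }
    exact Coherent.isCoh_of_iso (IsLimit.conePointUniqueUpToIso (kernelIsKernel q) hse.fIsKernel)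
      (Coherent.isCoh_kernel q hE hV.1)
  have hcK := ParHilbW15.isCoh_induced 𝓔 j hK hE hcE
  have hcB : ∀ i, Coh.IsCoh (((𝓕.induced u).pieceX i : Subobject V) : X.Modules) :=
    ParHilbW15.isCoh_induced 𝓕 u hV hF hcF
  have hpA : ∀ i : Fin (𝓔.l + 2), (𝓔.coinduced q).pieceX i = imageSubobject ((𝓔.pieceX i).arrow ≫ q) := by
    intro i
    induction i using Fin.lastCases with
    | last => exact (Fin.lastCases_last).trans (by rw [ParSh.Str.pieceX_last]; rfl)
    | cast i => exact (Fin.lastCases_castSucc i).trans (by rw [ParSh.Str.pieceX_castSucc]; rfl)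
  have hcA : ∀ i : Fin (𝓔.l + 2), Coh.IsCoh (((𝓔.coinduced q).pieceX i : Subobject V) : X.Modules) := by
    intro i
    rw [hpA]
    haveI := (hcE i).1
    haveI := hV.1
    exact Coherent.isCoh_of_iso ((Abelian.imageIsoImage _) ≪≫ (imageSubobjectIso _).symm)
      (EulerLib.isCoh_image _ (hcE i) hV)
  -- Hilbert polynomials
  have hQV := EulerLib.isHilbPoly_hp k hL V hV
  have hAX := fun i => EulerLib.isHilbPoly_hp k hL _ (hcA i)
  have hBX := fun i => EulerLib.isHilbPoly_hp k hL _ (hcB i)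
  set QV := EulerLib.hp k hL V hV
  set AX : Fin (𝓔.l + 2) → ℚ[X] := fun i => EulerLib.hp k hL _ (hcA i) with hAXdef
  set BX : Fin (𝓔.l + 2) → ℚ[X] := fun i => EulerLib.hp k hL _ (hcB i) with hBXdef
  -- parabolicity
  have hle : ∀ i : Fin (𝓔.l + 2), (𝓔.coinduced q).pieceX i ≤ (𝓕.induced u).pieceX i := by
    intro i
    obtain ⟨g, hg⟩ : ∃ g, g ≫ (𝓕.pieceX i).arrow = (𝓔.pieceX i).arrow ≫ f := by
      induction i using Fin.lastCases with
      | last =>
        have hlt : ∀ i', 𝓔.wt i' < 1 := fun i' =>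
          lt_of_le_of_lt (𝓔.wt_strictMono.monotone (Fin.le_last i')) 𝓔.wt_lt_one
        have h := hf 1 zero_le_one le_rfl
        rw [𝓔.at_eq_bot hlt, 𝓕.at_eq_bot hlt] at h
        rw [ParSh.Str.pieceX_last, ParSh.Str.pieceX_last]
        exact ⟨_, Subobject.factorThru_arrow _ _ h⟩
      | cast i =>
        have h := hf (𝓔.wt i) (ParHilbW15.wt_nonneg' 𝓔 i)
          ((𝓔.wt_strictMono.monotone (Fin.le_last i)).trans 𝓔.wt_lt_one.le)
        rw [𝓔.at_eq_piece i le_rfl (fun _ h => 𝓔.wt_strictMono h),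
          𝓕.at_eq_piece i le_rfl (fun _ h => 𝓔.wt_strictMono h)] at h
        rw [ParSh.Str.pieceX_castSucc, ParSh.Str.pieceX_castSucc]
        exact ⟨_, Subobject.factorThru_arrow _ _ h⟩
    rw [hpA, ParHilbW15.induced_pieceX]
    exact imageSubobject_le _
      ((Subobject.isPullback u (𝓕.pieceX i)).lift g ((𝓔.pieceX i).arrow ≫ q) (by rw [hg, Category.assoc, hqu]))
      ((Subobject.isPullback u (𝓕.pieceX i)).lift_snd _ _ _)
  obtain ⟨hAB, hBA⟩ := eq_of_parPoly_le k hL 𝓔 hw0 _ _ hcA hcB (fun i => Subobject.ofLE _ _ (hle i))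
    (fun i => inferInstance) AX BX hAX hBX
  -- additivity
  have hadd : ∀ (QK : ℚ[X]) (QKX : Fin (𝓔.l + 2) → ℚ[X]), ShStab.IsHilbPoly k X L K QK →
      (∀ i, ShStab.IsHilbPoly k X L (((𝓔.induced j).pieceX i : Subobject K) : X.Modules) (QKX i)) →
      P = QK + QV ∧ W4swparbununimod.parPoly 𝓔 PX =
        W4swparbununimod.parPoly (𝓔.induced j) QKX + W4swparbununimod.parPoly 𝓔 AX := by
    intro QK QKX hQK hQKX
    have hse : (ShortComplex.mk j q hjq).ShortExact := { exact := hexq }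
    refine ⟨EulerLib.hilb_ses k hL hse hK hE hV hQK hP hQV, ?_⟩
    have he : ∀ i : Fin (𝓔.l + 2), PX i = QKX i + AX i := by
      intro i
      have sq := Subobject.isPullback j (𝓔.pieceX i)
      haveI : Mono (Subobject.pullbackπ j (𝓔.pieceX i)) := mono_of_mono_fac sq.w
      have hz : Subobject.pullbackπ j (𝓔.pieceX i) ≫ factorThruImageSubobject ((𝓔.pieceX i).arrow ≫ q) = 0 := by
        rw [← cancel_mono (imageSubobject ((𝓔.pieceX i).arrow ≫ q)).arrow, Category.assoc,
          imageSubobject_arrow_comp, ← Category.assoc, sq.w, Category.assoc, hjq,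
          CategoryTheory.Limits.comp_zero, CategoryTheory.Limits.zero_comp]
      have hex' : (ShortComplex.mk _ _ hz).Exact :=
        ShortComplex.exact_of_f_is_kernel _ (KernelFork.IsLimit.ofι' _ hz fun {T} t ht =>
          ⟨sq.lift t (hexq.lift (t ≫ (𝓔.pieceX i).arrow) (by
              show (t ≫ (𝓔.pieceX i).arrow) ≫ q = 0
              rw [Category.assoc, ← imageSubobject_arrow_comp ((𝓔.pieceX i).arrow ≫ q), ← Category.assoc, ht,
                CategoryTheory.Limits.zero_comp]))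
            (hexq.lift_f _ _).symm, sq.lift_fst _ _ _⟩)
      have hse' : (ShortComplex.mk _ _ hz).ShortExact := { exact := hex' }
      have h1 := hQKX i
      have h3 : ShStab.IsHilbPoly k X L ((imageSubobject ((𝓔.pieceX i).arrow ≫ q) : Subobject V) : X.Modules)
          (AX i) := by rw [← hpA]; exact hAX i
      have c1 := hcK i
      have c3 := hcA i
      rw [ParHilbW15.induced_pieceX] at h1 c1
      rw [hpA] at c3
      exact EulerLib.hilb_ses k hL hse' c1 (hcE i) c3 h1 (hPX i) h3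
    simp only [W4swparbununimod.parPoly, ParSh.Str.induced, W4swparbununimod.rpoly, he, Polynomial.map_add]
    rw [add_add_add_comm (Polynomial.map _ (QKX _)) _ (Polynomial.map _ (AX _)), ← Finset.sum_add_distrib]
    refine congrArg _ (Finset.sum_congr rfl fun i _ => ?_)
    ring
  have hαP : (0 : ℝ) < (StabCat.alpha d P : ℝ) := Rat.cast_pos.2 (EulerLib.alpha_pos_self k hL hE hE0 hEp hP)
  have hαR : (0 : ℝ) < (StabCat.alpha d R : ℝ) := Rat.cast_pos.2 (EulerLib.alpha_pos_self k hL hF hF0 hFp hR)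
  have hQK := EulerLib.isHilbPoly_hp k hL K hK
  have hQKX := fun i => EulerLib.isHilbPoly_hp k hL _ (hcK i)
  set QK := EulerLib.hp k hL K hK
  set KX : Fin (𝓔.l + 2) → ℚ[X] := fun i => EulerLib.hp k hL _ (hcK i) with hKXdef
  obtain ⟨hPQ, hPar⟩ := hadd QK KX hQK hQKX
  have hαsum : (StabCat.alpha d P : ℝ) = (StabCat.alpha d QK : ℝ) + (StabCat.alpha d QV : ℝ) := by
    rw [hPQ, EulerLib.alpha_add, Rat.cast_add]
  have hcokj : ShStab.IsPure X (cokernel j) d := by
    have hse : (ShortComplex.mk j q hjq).ShortExact := { exact := hexq }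
    exact EulerLib.isPure_of_mono hFp
      ((IsColimit.coconePointUniqueUpToIso (cokernelIsCokernel j) hse.gIsCokernel).hom ≫ u)
  have hKle : ∀ᶠ m : ℕ in Filter.atTop, (W4swparbununimod.parPoly (𝓔.induced j) KX).eval (m : ℝ) *
      (StabCat.alpha d P : ℝ) ≤ (W4swparbununimod.parPoly 𝓔 PX).eval (m : ℝ) * (StabCat.alpha d QK : ℝ) := by
    by_cases hK0 : IsZero K
    · refine Filter.Eventually.of_forall fun m => ?_
      rw [parPoly_zero k hL hK0 (𝓔.induced j) KX hQKX, EulerLib.hilb_zero k hL hK0 hQK]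
      simp [StabCat.alpha]
    · exact Filter.eventually_atTop.2 (hssE K j inferInstance hK hK0 hcokj QK KX hQK hQKX)
  -- saturation of the image
  have hsat : ∀ᶠ m : ℕ in Filter.atTop, (W4swparbununimod.parPoly 𝓔 BX).eval (m : ℝ) * (StabCat.alpha d P : ℝ) ≤
      (W4swparbununimod.parPoly 𝓔 PX).eval (m : ℝ) * (StabCat.alpha d QV : ℝ) := by
    by_cases hV0 : IsZero V
    · refine Filter.Eventually.of_forall fun m => ?_
      have := parPoly_zero k hL hV0 (𝓕.induced u) BX hBX
      change W4swparbununimod.parPoly 𝓔 BX = 0 at this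
      rw [this, EulerLib.hilb_zero k hL hV0 hQV]
      simp [StabCat.alpha]
    obtain ⟨G, κ, φ, pG, hκ, hφ, hG, hG0, hGp, hpG, hαG⟩ := ParHilbW15.exists_sat k hL hF hFp u hV hV0 hQV
    have hcG := ParHilbW15.isCoh_induced 𝓕 κ hG hF hcF
    have hGX := fun i => EulerLib.isHilbPoly_hp k hL _ (hcG i)
    obtain ⟨M₁, h₁⟩ := ParHilbW15.parPoly_mono k hL 𝓕 hF hcF u hV κ hG φ hφ hBX hGX
    obtain ⟨M₂, h₂⟩ := hssF G κ hκ hG hG0 hGp pG _ hpG hGX
    rw [hαG] at h₂
    refine Filter.eventually_atTop.2 ⟨max M₁ M₂, fun m hm => ?_⟩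
    simp only [max_le_iff] at hm
    have e := congrArg (Polynomial.eval (m : ℝ)) hred
    simp only [Polynomial.eval_mul, Polynomial.eval_C] at e
    have h₁' := mul_le_mul_of_nonneg_right (h₁ m hm.1) hαR.le
    have h₃ := mul_le_mul_of_nonneg_right (h₁'.trans (h₂ m hm.2)) hαP.le
    change (W4swparbununimod.parPoly 𝓔 BX).eval (m : ℝ) * _ * _ ≤ _ at h₃
    refine le_of_mul_le_mul_right ?_ hαR
    have hQe := congrArg (fun t => t * (StabCat.alpha d QV : ℝ)) e
    linarith
  have hall : ∀ᶠ m : ℕ in Filter.atTop,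
      (W4swparbununimod.parPoly 𝓔 AX).eval (m : ℝ) * (StabCat.alpha d P : ℝ) =
        (W4swparbununimod.parPoly 𝓔 PX).eval (m : ℝ) * (StabCat.alpha d QV : ℝ) ∧
      (W4swparbununimod.parPoly 𝓔 BX).eval (m : ℝ) ≤ (W4swparbununimod.parPoly 𝓔 AX).eval (m : ℝ) := by
    filter_upwards [hKle, hsat, Filter.eventually_atTop.2 hAB] with m h1 h2 h3
    have e := congrArg (Polynomial.eval (m : ℝ)) hPar
    rw [Polynomial.eval_add] at e
    have h4 := mul_le_mul_of_nonneg_right h3 hαP.le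
    have h5 : (W4swparbununimod.parPoly 𝓔 PX).eval (m : ℝ) * (StabCat.alpha d QV : ℝ) ≤
        (W4swparbununimod.parPoly 𝓔 AX).eval (m : ℝ) * (StabCat.alpha d P : ℝ) := by
      nlinarith [congrArg (fun t => t * (StabCat.alpha d P : ℝ)) e,
        congrArg (fun t => (W4swparbununimod.parPoly 𝓔 PX).eval (m : ℝ) * t) hαsum]
    exact ⟨le_antisymm (h4.trans h2) h5, le_of_mul_le_mul_right (h2.trans h5) hαP⟩
  obtain ⟨M, hM⟩ := Filter.eventually_atTop.1 hall
  have hiso := hBA ⟨M, fun m hm => (hM m hm).2⟩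
  have hAVeq : W4swparbununimod.parPoly 𝓔 AX * Polynomial.C (StabCat.alpha d P : ℝ) =
      W4swparbununimod.parPoly 𝓔 PX * Polynomial.C (StabCat.alpha d QV : ℝ) := by
    refine Polynomial.eq_of_infinite_eval_eq _ _ (Set.infinite_of_injective_forall_mem
      (f := fun n : ℕ => ((M + n : ℕ) : ℝ)) (fun a b h => by simpa using h) fun n => ?_)
    simpa using (hM (M + n) (Nat.le_add_right _ _)).1
  have heq : ∀ i : Fin (𝓔.l + 2), (𝓔.coinduced q).pieceX i = (𝓕.induced u).pieceX i := fun i =>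
    haveI := hiso i
    Subobject.eq_of_comm (asIso (Subobject.ofLE _ _ (hle i))) (Subobject.ofLE_arrow _)
  refine ⟨fun QK' QKX' hQK' hQKX' => ?_, ?_, fun a _ _ => ?_⟩
  · obtain ⟨hPQ', hPar'⟩ := hadd QK' QKX' hQK' hQKX'
    have hs : Polynomial.C (StabCat.alpha d P : ℝ) =
        Polynomial.C (StabCat.alpha d QK' : ℝ) + Polynomial.C (StabCat.alpha d QV : ℝ) := by
      rw [← Polynomial.C_add, ← Rat.cast_add, ← EulerLib.alpha_add, ← hPQ']
    linear_combination (-Polynomial.C (StabCat.alpha d P : ℝ)) * hPar' - hAVeq + W4swparbununimod.parPoly 𝓔 PX * hs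
  · by_cases hV0 : IsZero V
    · exact EulerLib.isPure_of_mono hFp
        ((cokernelIsoOfEq (hV0.eq_of_src u 0)) ≪≫ cokernelZeroIsoTarget).hom
    obtain ⟨G, κ, φ, pG, hκ, hφ, hG, hG0, hGp, hpG, hαG⟩ := ParHilbW15.exists_sat k hL hF hFp u hV hV0 hQV
    have hcG := ParHilbW15.isCoh_induced 𝓕 κ hG hF hcF
    obtain ⟨GX, hGX⟩ : ∃ GX : Fin (𝓔.l + 2) → ℚ[X], ∀ i, ShStab.IsHilbPoly k X L
        (((𝓕.induced κ).pieceX i : Subobject G) : X.Modules) (GX i) :=
      ⟨_, fun i => EulerLib.isHilbPoly_hp k hL _ (hcG i)⟩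
    haveI : Mono φ := mono_of_mono_fac hφ
    have hmap : ∀ i, ∃ a : (((𝓕.induced u).pieceX i : Subobject V) : X.Modules) ⟶
        (((𝓕.induced κ).pieceX i : Subobject G) : X.Modules),
        Mono a ∧ a ≫ ((𝓕.induced κ).pieceX i).arrow = ((𝓕.induced u).pieceX i).arrow ≫ φ := by
      intro i
      rw [ParHilbW15.induced_pieceX, ParHilbW15.induced_pieceX]
      let s := (Subobject.isPullback κ (𝓕.pieceX i)).lift (Subobject.pullbackπ u _)
        (((Subobject.pullback u).obj (𝓕.pieceX i)).arrow ≫ φ)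
        (by rw [(Subobject.isPullback u (𝓕.pieceX i)).w, Category.assoc, hφ])
      have hs : s ≫ ((Subobject.pullback κ).obj (𝓕.pieceX i)).arrow =
          ((Subobject.pullback u).obj (𝓕.pieceX i)).arrow ≫ φ := (Subobject.isPullback κ (𝓕.pieceX i)).lift_snd _ _ _
      exact ⟨s, mono_of_mono_fac hs, hs⟩
    choose a ha hae using hmap
    obtain ⟨-, hb⟩ := eq_of_parPoly_le k hL 𝓔 hw0 _ _ hcB hcG a ha BX GX hBX hGX
    obtain ⟨M₂, h₂⟩ := hssF G κ hκ hG hG0 hGp pG _ hpG hGX
    rw [hαG] at h₂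
    obtain ⟨M₃, h₃⟩ := hAB
    have hib := hb ⟨max M (max M₂ M₃), fun m hm => ?_⟩ 0
    · have hepi : Epi φ := by
        have hG1 : IsIso ((𝓕.induced κ).pieceX (0 : Fin (𝓔.l + 1)).castSucc).arrow := by
          rw [ParSh.Str.pieceX_castSucc]
          exact (Subobject.isIso_arrow_iff_eq_top _).2 (𝓕.induced κ).piece_zero
        haveI : IsIso ((𝓕.induced κ).pieceX 0).arrow := hG1
        haveI := hib
        have : Epi (((𝓕.induced u).pieceX 0).arrow ≫ φ) := by rw [← hae 0]; infer_instance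
        exact epi_of_epi ((𝓕.induced u).pieceX 0).arrow φ
      haveI : IsIso φ := isIso_of_mono_of_epi φ
      exact EulerLib.isPure_of_mono hGp (cokernel.map u κ φ (𝟙 F) (by rw [hφ, Category.comp_id]))
    · simp only [max_le_iff] at hm
      refine le_of_mul_le_mul_right ?_ (mul_pos hαP hαR)
      have e := congrArg (Polynomial.eval (m : ℝ)) hred
      simp only [Polynomial.eval_mul, Polynomial.eval_C] at e
      have h5 := mul_le_mul_of_nonneg_right (h₂ m hm.2.1) hαP.le
      have h6 := congrArg (fun t => t * (StabCat.alpha d R : ℝ)) (hM m hm.1).1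
      have h7 := congrArg (fun t => t * (StabCat.alpha d QV : ℝ)) e
      have hsw : W4swparbununimod.parPoly (𝓕.induced κ) GX = W4swparbununimod.parPoly 𝓔 GX := rfl
      rw [hsw] at h5
      have h8 := mul_le_mul_of_nonneg_right (h₃ m hm.2.2) (mul_pos hαP hαR).le
      linarith
  · have hp : ∀ i : Fin (𝓔.l + 1), (𝓔.coinduced q).piece i = (𝓕.induced u).piece i := fun i => by
      have := heq i.castSucc
      exact ((ParSh.Str.pieceX_castSucc (𝓔.coinduced q) i).symm.trans this).trans (ParSh.Str.pieceX_castSucc (𝓕.induced u) i)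
    have hb : (𝓔.coinduced q).bot = (𝓕.induced u).bot := by
      exact ((ParSh.Str.pieceX_last (𝓔.coinduced q)).symm.trans (heq (Fin.last _))).trans (ParSh.Str.pieceX_last (𝓕.induced u))
    refine le_antisymm ((𝓔.coinduced q).at_le (fun i hi => ?_) (hb.le.trans ((𝓕.induced u).bot_le_at a)))
      ((𝓕.induced u).at_le (fun i hi => ?_) (hb.ge.trans ((𝓔.coinduced q).bot_le_at a)))
    · exact (hp i).le.trans ((𝓕.induced u).piece_le_at i hi)
    · exact (hp i).ge.trans ((𝓔.coinduced q).piece_le_at i hi)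

end Groth.Agent.S18529
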