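import Groth.Statements.S18530
import Groth.Agent.ParHilbW15.Basic
-- import your own Groth.Agent.* helpers here

set_option autoImplicit false
universe u
open CategoryTheory CategoryTheory.Limits AlgebraicGeometry Polynomial
open ParSh

namespace Groth.Agent.S18530

/-- The two leading coefficients of the first modified parabolic Hilbert polynomial. Let X be a scheme
proper over a field k with an ample invertible sheaf L, I the ideal of an effective Cartier divisor
D on X, and E a coherent O_X-module with a finite weighted filtration 𝓔 along I by coherent pieces E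
= E₀ ⊇ ⋯ ⊇ E_{l+1} = I·E, weights 0 ≤ w₀ < ⋯ < w_l < 1 and w_{l+1} := 1. Let d ≥ 1 with Supp E ∩
Supp D of topological Krull dimension less than d, and let H_j be the Hilbert polynomial of E/E_j,
with α_{d−1}(H_j) ≠ 0 for 1 ≤ j ≤ l+1 (α_i(H) = i!·coefficient of degree i), the numerical type of
𝓔. Let ι : W → E be a monomorphism from a coherent module W, with induced filtration W_j = W ∩ E_j,
Q the Hilbert polynomial of W, Q_j that of W_j and K_j that of W/W_j. Then the first modified
parabolic polynomial par-P₁(W ⊂ E) := Q − Σ_{j=1}^{l+1} (w_j −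
w_{j−1})·(α_{d−1}(K_j)/α_{d−1}(H_j))·H_j and the parabolic polynomial par-P₀(W) := Q_{l+1} + Σ_{j ≤
l} w_j (Q_j − Q_{j+1}) have the same coefficient in degree d and the same coefficient in degree d −
1. The published statement adds the consequences that p₁-semistability implies parabolic
slope-semistability and parabolic slope-stability implies p₁-stability, which are not part of this
row. -/
theorem result (k : Type u) [Field k] (X : Scheme.{u})
    [X.Over (Spec (CommRingCat.of k))] [IsProper (X ↘ Spec (CommRingCat.of k))]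
    (L : X.Modules) (hL : CohB1.IsAmple L) (I : X.IdealSheafData) (hD : FGA.IsEffCartier I)
    (E : X.Modules) (hE : Coh.IsCoh E) (𝓔 : ParSh.Str E) (h𝓔 : 𝓔.Along I)
    (hcoh : ∀ j, Coh.IsCoh ((𝓔.pieceX j : Subobject E) : X.Modules)) (d : ℕ) (hd : 1 ≤ d)
    (hsupp : topologicalKrullDim ↥(CohB1.support E ∩ (I.support : Set X)) < (d : WithBot ℕ∞))
    (H : Fin (𝓔.l + 2) → ℚ[X]) (hH : ∀ j, ShStab.IsHilbPoly k X L (cokernel (𝓔.pieceX j).arrow) (H j))
    (hHa : ∀ j : Fin (𝓔.l + 1), StabCat.alpha (d - 1) (H j.succ) ≠ 0)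
    {W : X.Modules} (ι : W ⟶ E) [Mono ι] (hW : Coh.IsCoh W)
    (Q : ℚ[X]) (hQ : ShStab.IsHilbPoly k X L W Q) (QX : Fin (𝓔.l + 2) → ℚ[X])
    (hQX : ∀ j, ShStab.IsHilbPoly k X L (((𝓔.induced ι).pieceX j : Subobject W) : X.Modules) (QX j))
    (QH : Fin (𝓔.l + 2) → ℚ[X])
    (hQH : ∀ j, ShStab.IsHilbPoly k X L (cokernel ((𝓔.induced ι).pieceX j).arrow) (QH j)) :
    (W4swparbununimod.parPolyOne 𝓔 d Q QH H).coeff d = (W4swparbununimod.parPoly (𝓔.induced ι) QX).coeff d ∧
      (W4swparbununimod.parPolyOne 𝓔 d Q QH H).coeff (d - 1) =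
        (W4swparbununimod.parPoly (𝓔.induced ι) QX).coeff (d - 1) := by
  haveI := ParHilbW15.isLocallyNoetherian k (X := X)
  have hdH := ParHilbW15.dim_piece 𝓔 h𝓔 hsupp
  have hdK : ∀ j, topologicalKrullDim (CohB1.support (cokernel ((𝓔.induced ι).pieceX j).arrow)) <
      (d : WithBot ℕ∞) := ParHilbW15.dim_induced 𝓔 h𝓔 hsupp ι
  have hcW := ParHilbW15.isCoh_induced 𝓔 ι hW hE hcoh
  have hcc := fun j => Coherent.isCoh_cokernel (𝓔.pieceX j).arrow (hcoh j).1 hE
  have hH0 : ∀ j, (H j).coeff d = 0 := fun j =>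
    ParHilbW15.coeff_eq_zero k hL (hcc j) (hH j) le_rfl (hdH j)
  constructor
  · rw [ParHilbW15.coeff_parPoly k hL (𝓔.induced ι) hW hcW hQ hQX le_rfl hdK, W4swparbununimod.parPolyOne,
      Polynomial.coeff_sub, Polynomial.finsetSum_coeff, Finset.sum_eq_zero, sub_zero]
    intro j _
    rw [Polynomial.coeff_C_mul, Polynomial.coeff_map, hH0, map_zero, mul_zero]
  · rw [ParHilbW15.parPoly_eq k hL (𝓔.induced ι) hW hcW hQ hQX hQH, W4swparbununimod.parPolyOne,
      Polynomial.coeff_sub, Polynomial.coeff_sub, Polynomial.finsetSum_coeff, Polynomial.finsetSum_coeff]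
    refine congrArg _ (Finset.sum_congr rfl fun j _ => ?_)
    rw [Polynomial.coeff_C_mul, Polynomial.coeff_C_mul, Polynomial.coeff_map, Polynomial.coeff_map]
    have h := hHa j
    simp only [StabCat.alpha, ne_eq, mul_eq_zero, not_or] at h
    show (𝓔.wtX j.succ - 𝓔.wtX j.castSucc) * _ * _ = (𝓔.wtX j.succ - 𝓔.wtX j.castSucc) * _
    rw [mul_assoc]
    refine congrArg _ ?_
    simp only [StabCat.alpha, Rat.coe_castHom]
    rw [← Rat.cast_mul]
    refine congrArg _ ?_
    have := h.2
    have := h.1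
    field_simp
    rfl

end Groth.Agent.S18530
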