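import Groth.Statements.S18532
import Groth.Agent.ParHilbW15.Basic
-- import your own Groth.Agent.* helpers here

set_option autoImplicit false
universe u
open CategoryTheory CategoryTheory.Limits AlgebraicGeometry Polynomial
open ParSh

namespace Groth.Agent.S18532

/-- The comparison of the second and first modified parabolic Hilbert polynomials for one test subsheaf.
Let X be a scheme proper over a field k with an ample invertible sheaf L, I the ideal of an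
effective Cartier divisor D on X, d ≥ 1, and E a nonzero coherent O_X-module, pure of dimension d,
with Supp E ∩ Supp D of topological Krull dimension less than d, carrying a finite weighted
filtration 𝓔 along I by coherent pieces E = E₀ ⊇ ⋯ ⊇ E_{l+1} = I·E, weights 0 ≤ w₀ < ⋯ < w_l < 1,
w_{l+1} := 1. Let P be the Hilbert polynomial of E, P_j of E_j, H_j of E/E_j with α_{d−1}(H_j) ≠ 0
for 1 ≤ j ≤ l+1, and Par_E = P_{l+1} + Σ_j w_j (P_j − P_{j+1}). Let ι : W → E be a monomorphism from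
a coherent module W with induced filtration W_j = W ∩ E_j, Q the Hilbert polynomial of W and K_j
that of W/W_j; put par-P₁(W ⊂ E) = Q − Σ_{j=1}^{l+1} (w_j − w_{j−1})·(α_{d−1}(K_j)/α_{d−1}(H_j))·H_j
and par-P₂(W ⊂ E)(x, y) = Q(x) − Σ_{j=1}^{l+1} (w_j − w_{j−1})·(K_j(y)/H_j(y))·H_j(x). Then: (i) if
there is M such that for every m ≥ M there is N with par-P₂(W ⊂ E)(m, n)·P(n) ≤ Par_E(m)·Q(n) for
all n ≥ N, then par-P₁(W ⊂ E)(m)·α_d(P) ≤ Par_E(m)·α_d(Q) for all large m; (ii) if par-P₁(W ⊂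
E)(m)·α_d(P) < Par_E(m)·α_d(Q) for all large m, then there is M such that for every m ≥ M there is N
with par-P₂(W ⊂ E)(m, n)·P(n) < Par_E(m)·Q(n) for all n ≥ N. With W running over the nonzero
saturated (proper) sub-modules this is the published implication p₂-semistable ⇒ p₁-semistable,
p₁-stable ⇒ p₂-stable; the further implications to and from parabolic slope-(semi)stability in the
published statement are not part of this row. -/
theorem result (k : Type u) [Field k] (X : Scheme.{u})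
    [X.Over (Spec (CommRingCat.of k))] [IsProper (X ↘ Spec (CommRingCat.of k))]
    (L : X.Modules) (hL : CohB1.IsAmple L) (I : X.IdealSheafData) (hD : FGA.IsEffCartier I)
    (E : X.Modules) (hE : Coh.IsCoh E) (𝓔 : ParSh.Str E) (h𝓔 : 𝓔.Along I)
    (hcoh : ∀ j, Coh.IsCoh ((𝓔.pieceX j : Subobject E) : X.Modules)) (d : ℕ) (hd : 1 ≤ d)
    (hsupp : topologicalKrullDim ↥(CohB1.support E ∩ (I.support : Set X)) < (d : WithBot ℕ∞))
    (h0 : ¬ IsZero E) (hpure : ShStab.IsPure X E d)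
    (P : ℚ[X]) (hP : ShStab.IsHilbPoly k X L E P) (PX : Fin (𝓔.l + 2) → ℚ[X])
    (hPX : ∀ j, ShStab.IsHilbPoly k X L ((𝓔.pieceX j : Subobject E) : X.Modules) (PX j))
    (H : Fin (𝓔.l + 2) → ℚ[X]) (hH : ∀ j, ShStab.IsHilbPoly k X L (cokernel (𝓔.pieceX j).arrow) (H j))
    (hHa : ∀ j : Fin (𝓔.l + 1), StabCat.alpha (d - 1) (H j.succ) ≠ 0)
    {W : X.Modules} (ι : W ⟶ E) [Mono ι] (hW : Coh.IsCoh W)
    (Q : ℚ[X]) (hQ : ShStab.IsHilbPoly k X L W Q) (QH : Fin (𝓔.l + 2) → ℚ[X])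
    (hQH : ∀ j, ShStab.IsHilbPoly k X L (cokernel ((𝓔.induced ι).pieceX j).arrow) (QH j)) :
    ((∃ M : ℕ, ∀ m : ℕ, M ≤ m → ∃ N : ℕ, ∀ n : ℕ, N ≤ n →
        (((Q.eval (m : ℚ) : ℚ) : ℝ) -
            ∑ j : Fin (𝓔.l + 1), (𝓔.wtX j.succ - 𝓔.wtX j.castSucc) *
              ((((QH j.succ).eval (n : ℚ) / (H j.succ).eval (n : ℚ) : ℚ) : ℝ) * (((H j.succ).eval (m : ℚ) : ℚ) : ℝ))) *
          ((P.eval (n : ℚ) : ℚ) : ℝ) ≤
        (W4swparbununimod.parPoly 𝓔 PX).eval (m : ℝ) * ((Q.eval (n : ℚ) : ℚ) : ℝ)) →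
      ∃ M : ℕ, ∀ m : ℕ, M ≤ m →
        (W4swparbununimod.parPolyOne 𝓔 d Q QH H).eval (m : ℝ) * (StabCat.alpha d P : ℝ) ≤
          (W4swparbununimod.parPoly 𝓔 PX).eval (m : ℝ) * (StabCat.alpha d Q : ℝ)) ∧
    ((∃ M : ℕ, ∀ m : ℕ, M ≤ m →
        (W4swparbununimod.parPolyOne 𝓔 d Q QH H).eval (m : ℝ) * (StabCat.alpha d P : ℝ) <
          (W4swparbununimod.parPoly 𝓔 PX).eval (m : ℝ) * (StabCat.alpha d Q : ℝ)) →
      ∃ M : ℕ, ∀ m : ℕ, M ≤ m → ∃ N : ℕ, ∀ n : ℕ, N ≤ n →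
        (((Q.eval (m : ℚ) : ℚ) : ℝ) -
            ∑ j : Fin (𝓔.l + 1), (𝓔.wtX j.succ - 𝓔.wtX j.castSucc) *
              ((((QH j.succ).eval (n : ℚ) / (H j.succ).eval (n : ℚ) : ℚ) : ℝ) * (((H j.succ).eval (m : ℚ) : ℚ) : ℝ))) *
          ((P.eval (n : ℚ) : ℚ) : ℝ) <
        (W4swparbununimod.parPoly 𝓔 PX).eval (m : ℝ) * ((Q.eval (n : ℚ) : ℚ) : ℝ)) := by
  haveI := ParHilbW15.isLocallyNoetherian k (X := X)
  have hdH := ParHilbW15.dim_piece 𝓔 h𝓔 hsupp
  have hdK : ∀ j, topologicalKrullDim (CohB1.support (cokernel ((𝓔.induced ι).pieceX j).arrow)) <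
      (d : WithBot ℕ∞) := ParHilbW15.dim_induced 𝓔 h𝓔 hsupp ι
  have hcW := ParHilbW15.isCoh_induced 𝓔 ι hW hE hcoh
  have hcH := fun j => Coherent.isCoh_cokernel (𝓔.pieceX j).arrow (hcoh j).1 hE
  have hcK := fun j => Coherent.isCoh_cokernel ((𝓔.induced ι).pieceX j).arrow (hcW j).1 hW
  have he : ∀ (R : ℚ[X]) (n : ℕ), (W4swparbununimod.rpoly R).eval (n : ℝ) = ((R.eval (n : ℚ) : ℚ) : ℝ) :=
    fun R n => Polynomial.eval_natCast_map _ _ _
  have hlim : ∀ {R : ℚ[X]} {e : ℕ}, R.natDegree ≤ e → Filter.Tendsto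
      (fun n : ℕ => ((R.eval (n : ℚ) : ℚ) : ℝ) / (n : ℝ) ^ e) Filter.atTop (nhds ((R.coeff e : ℚ) : ℝ)) := by
    intro R e hR
    have h := ParHilbW15.tendsto_eval_div_pow (D := W4swparbununimod.rpoly R)
      (Polynomial.natDegree_map_le.trans hR)
    simp only [he, Polynomial.coeff_map] at h
    exact h
  have hPl := hlim (EulerLib.natDegree_le_of_pure k hL hE hpure hP)
  have hQl := hlim (EulerLib.natDegree_le_of_pure k hL hW (EulerLib.isPure_of_mono hpure ι) hQ)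
  have hr : ∀ j : Fin (𝓔.l + 1), Filter.Tendsto
      (fun n : ℕ => (((QH j.succ).eval (n : ℚ) / (H j.succ).eval (n : ℚ) : ℚ) : ℝ)) Filter.atTop
      (nhds ((StabCat.alpha (d - 1) (QH j.succ) / StabCat.alpha (d - 1) (H j.succ) : ℚ) : ℝ)) := by
    intro j
    have a := hlim (EulerLib.alpha_eq_interDeg k hL.1 (hcK j.succ) (hQH j.succ)
      (ParHilbW15.le_pred_of_lt hd (hdK j.succ))).1
    have b := hlim (EulerLib.alpha_eq_interDeg k hL.1 (hcH j.succ) (hH j.succ)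
      (ParHilbW15.le_pred_of_lt hd (hdH j.succ))).1
    have h0 := hHa j
    simp only [StabCat.alpha, ne_eq, mul_eq_zero, not_or] at h0
    have c := a.div b (Rat.cast_ne_zero.2 h0.2)
    have hl : ((StabCat.alpha (d - 1) (QH j.succ) / StabCat.alpha (d - 1) (H j.succ) : ℚ) : ℝ) =
        ((QH j.succ).coeff (d - 1) : ℝ) / ((H j.succ).coeff (d - 1) : ℝ) := by
      rw [← Rat.cast_div]
      simp only [StabCat.alpha]
      rw [mul_div_mul_left _ _ h0.1]
    rw [hl]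
    refine c.congr' ?_
    filter_upwards [Filter.eventually_ge_atTop 1] with n hn
    have : (n : ℝ) ^ (d - 1) ≠ 0 := pow_ne_zero _ (by positivity)
    simp only [Pi.div_apply]
    rw [div_div_div_cancel_right₀ this, Rat.cast_div]
  let F : ℕ → ℕ → ℝ := fun m n => ((((Q.eval (m : ℚ) : ℚ) : ℝ) -
        ∑ j : Fin (𝓔.l + 1), (𝓔.wtX j.succ - 𝓔.wtX j.castSucc) *
          ((((QH j.succ).eval (n : ℚ) / (H j.succ).eval (n : ℚ) : ℚ) : ℝ) * (((H j.succ).eval (m : ℚ) : ℚ) : ℝ))) *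
      ((P.eval (n : ℚ) : ℚ) : ℝ) - (W4swparbununimod.parPoly 𝓔 PX).eval (m : ℝ) * ((Q.eval (n : ℚ) : ℚ) : ℝ)) /
        (n : ℝ) ^ d
  let G : ℕ → ℝ := fun m => (W4swparbununimod.parPolyOne 𝓔 d Q QH H).eval (m : ℝ) * ((P.coeff d : ℚ) : ℝ) -
    (W4swparbununimod.parPoly 𝓔 PX).eval (m : ℝ) * ((Q.coeff d : ℚ) : ℝ)
  have hFG : ∀ m, Filter.Tendsto (F m) Filter.atTop (nhds (G m)) := by
    intro m
    have h1 := ((tendsto_const_nhds (x := ((Q.eval (m : ℚ) : ℚ) : ℝ))).sub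
      (tendsto_finsetSum Finset.univ fun j _ =>
        ((hr j).mul_const (((H j.succ).eval (m : ℚ) : ℚ) : ℝ)).const_mul
          (𝓔.wtX j.succ - 𝓔.wtX j.castSucc))).mul hPl
    have h2 := h1.sub (hQl.const_mul ((W4swparbununimod.parPoly 𝓔 PX).eval (m : ℝ)))
    convert h2 using 1
    · funext n
      simp only [F]
      ring
    · simp only [G, W4swparbununimod.parPolyOne, Polynomial.eval_sub, Polynomial.eval_finsetSum,
        Polynomial.eval_mul, Polynomial.eval_C, he]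
      simp only [mul_assoc]
  have hGα : ∀ m : ℕ, (W4swparbununimod.parPolyOne 𝓔 d Q QH H).eval (m : ℝ) * (StabCat.alpha d P : ℝ) -
      (W4swparbununimod.parPoly 𝓔 PX).eval (m : ℝ) * (StabCat.alpha d Q : ℝ) = (d.factorial : ℝ) * G (m : ℕ) := by
    intro m
    simp only [G, StabCat.alpha]
    push_cast
    ring
  have hf : (0 : ℝ) < d.factorial := by exact_mod_cast d.factorial_pos
  refine ⟨fun ⟨M, hM⟩ => ⟨M, fun m hm => ?_⟩, fun ⟨M, hM⟩ => ⟨M, fun m hm => ?_⟩⟩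
  · obtain ⟨N, hN⟩ := hM m hm
    have : G m ≤ 0 := by
      refine le_of_tendsto (hFG m) ?_
      filter_upwards [Filter.eventually_ge_atTop N] with n hn
      exact div_nonpos_of_nonpos_of_nonneg (sub_nonpos.2 (hN n hn)) (by positivity)
    nlinarith [hGα m]
  · have h0 : G m < 0 := by nlinarith [hGα m, hM m hm]
    obtain ⟨N, hN⟩ := Filter.eventually_atTop.1 ((hFG m).eventually (eventually_lt_nhds h0))
    refine ⟨N, fun n hn => ?_⟩
    rcases div_neg_iff.1 (hN n hn) with h3 | h3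
    · exact absurd h3.2 (not_lt.2 (by positivity))
    · exact sub_neg.1 h3.1

end Groth.Agent.S18532
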