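import Groth.Statements.S18535
import Groth.Agent.CAlgH.InertiaUnramified

set_option autoImplicit false
universe u
open EtAlg

namespace Groth.Agent.S18535

/-- Let R be a complete Noetherian local normal domain with maximal ideal m, let S be a normal domain
containing R on which a finite group G acts by R-algebra automorphisms, faithfully and with ring of
invariants exactly R (so that S is the integral closure of R in some finite Galois extension, with
group G, of Frac R), and let n be a maximal ideal of S over m. Then the inertia subgroup of n in G
(the elements g with g s - s ∈ n for all s ∈ S) is trivial if and only if mS = n and the residue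
field S/n is finite and separable over R/m. -/
theorem result
    (R S G : Type u) [CommRing R] [CommRing S] [IsDomain R] [IsDomain S]
    [IsNoetherianRing R] [IsLocalRing R] [IsIntegrallyClosed R]
    [IsAdicComplete (IsLocalRing.maximalIdeal R) R]
    [Algebra R S] [FaithfulSMul R S] [IsIntegrallyClosed S]
    [Group G] [Finite G] [MulSemiringAction G S] [SMulCommClass G R S] [IsGaloisGroup G R S]
    (n : Ideal S) [n.IsMaximal] [n.LiesOver (IsLocalRing.maximalIdeal R)] :
    n.toAddSubgroup.inertia G = ⊥ ↔
      ((IsLocalRing.maximalIdeal R).map (algebraMap R S) = n ∧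
        Module.Finite (R ⧸ IsLocalRing.maximalIdeal R) (S ⧸ n) ∧
        Algebra.IsSeparable (R ⧸ IsLocalRing.maximalIdeal R) (S ⧸ n)) := by
  haveI := IsGaloisGroup.isInvariant (G := G) (A := R) (B := S)
  haveI := IsGaloisGroup.commutes (G := G) (A := R) (B := S)
  haveI : Algebra.IsIntegral R S := Algebra.IsInvariant.isIntegral R S G
  haveI := _root_.Groth.Agent.CAlgH.InertiaUnramified.isLocalRing_of_integral R S
  obtain rfl : n = IsLocalRing.maximalIdeal S := IsLocalRing.eq_maximalIdeal inferInstance
  haveI : IsLocalHom (algebraMap R S) := ⟨fun r hr => by
    by_contra h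
    have h2 : r ∈ (IsLocalRing.maximalIdeal S).under R :=
      Ideal.LiesOver.over (P := IsLocalRing.maximalIdeal S) (p := IsLocalRing.maximalIdeal R) ▸ (IsLocalRing.mem_maximalIdeal r).2 h
    exact (IsLocalRing.mem_maximalIdeal _).1 h2 hr⟩
  constructor
  · intro h
    obtain ⟨-, h1, h2, h3⟩ := _root_.Groth.Agent.CAlgH.InertiaUnramified.unramified_of_inertia R S G h
    exact ⟨h1, h2, h3⟩
  · rintro ⟨h1, -, h3⟩
    haveI : Module.Finite R S := by
      let K := FractionRing R
      let L := FractionRing S
      letI := FractionRing.liftAlgebra R L
      haveI := FractionRing.isScalarTower_liftAlgebra R L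
      letI := IsFractionRing.mulSemiringAction G S L
      haveI : IsGaloisGroup G K L := IsGaloisGroup.toFractionRing G R S
      haveI : FiniteDimensional K L := IsGaloisGroup.finiteDimensional G K L
      haveI := IsGaloisGroup.isGalois G K L
      haveI : IsIntegralClosure S R L := IsIntegralClosure.of_isIntegrallyClosed S R L
      exact IsIntegralClosure.finite R K L S
    haveI : IsNoetherianRing S := IsNoetherianRing.of_finite R S
    haveI : Algebra.IsSeparable (IsLocalRing.ResidueField R) (IsLocalRing.ResidueField S) := h3
    exact _root_.Groth.Agent.CAlgH.InertiaUnramified.inertia_of_unramified R S G h1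

end Groth.Agent.S18535
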