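import Groth.Statements.S18536
import Mathlib
-- import your own Groth.Agent.* helpers here

set_option autoImplicit false
universe u
open EtAlg

namespace Groth.Agent.S18536

open Polynomial

/-- An element of `L` with an integral denominator outside a prime has such a denominator in `L`. -/
theorem exists_denominator {R K L Ω : Type u} [CommRing R] [IsDomain R] [Field K] [Field L] [Field Ω] [Algebra R K]
    [IsFractionRing R K] [Algebra K L] [Algebra R L] [IsScalarTower R K L] [FiniteDimensional K L]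
    [Algebra R Ω] [Algebra L Ω] [IsScalarTower R L Ω]
    (𝔪 : Ideal ↥(integralClosure R Ω)) [𝔪.IsPrime] (z : L) (a b : ↥(integralClosure R Ω)) (hb : b ∉ 𝔪)
    (hz : algebraMap L Ω z * (b : Ω) = a) :
    ∃ (c : L) (hc : IsIntegral R c),
      (⟨algebraMap L Ω c, hc.algebraMap⟩ : ↥(integralClosure R Ω)) ∉ 𝔪 ∧ IsIntegral R (c * z) := by
  by_cases hz0 : z = 0
  · refine ⟨1, isIntegral_one, ?_, by simpa [hz0] using isIntegral_zero⟩
    have : (⟨algebraMap L Ω 1, (isIntegral_one (R := R)).algebraMap⟩ : ↥(integralClosure R Ω)) = 1 :=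
      Subtype.ext (map_one _)
    rw [this]
    exact Ideal.one_notMem _
  haveI := integralClosure.isFractionRing_of_finite_extension (A := R) K L
  haveI : IsIntegrallyClosed ↥(integralClosure R L) := integralClosure.isIntegrallyClosedOfFiniteExtension K
  let C := ↥(integralClosure R L)
  have hbL : IsIntegral C (b : Ω) := (b.2 : IsIntegral R (b : Ω)).tower_top
  have haL : IsIntegral C (a : Ω) := (a.2 : IsIntegral R (a : Ω)).tower_top
  have hb' := minpoly.isIntegrallyClosed_eq_field_fractions' L hbL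
  have ha' := minpoly.isIntegrallyClosed_eq_field_fractions' L haL
  have hdeg : ∀ (x : Ω) (w : L), w ≠ 0 → IsIntegral L x →
      minpoly L (algebraMap L Ω w * x) ∣ (minpoly L x).scaleRoots w := fun x w _ _ =>
    minpoly.dvd L _ (scaleRoots_aeval_eq_zero (minpoly.aeval L x))
  have hbK : IsIntegral L (b : Ω) := (b.2 : IsIntegral R (b : Ω)).tower_top
  have haK : IsIntegral L (a : Ω) := (a.2 : IsIntegral R (a : Ω)).tower_top
  have h1 := hdeg (b : Ω) z hz0 hbK
  have h2 := hdeg (a : Ω) z⁻¹ (inv_ne_zero hz0) haK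
  rw [hz] at h1
  rw [← hz, ← mul_assoc, ← map_mul, inv_mul_cancel₀ hz0, map_one, one_mul, hz] at h2
  have heq : minpoly L (a : Ω) = (minpoly L (b : Ω)).scaleRoots z := by
    refine Polynomial.eq_of_monic_of_dvd_of_natDegree_le (minpoly.monic haK)
      ((monic_scaleRoots_iff z).2 (minpoly.monic hbK)) h1 ?_ |>.symm
    rw [natDegree_scaleRoots]
    exact (Polynomial.natDegree_le_of_dvd h2 ((monic_scaleRoots_iff _).2 (minpoly.monic haK)).ne_zero).trans
      (natDegree_scaleRoots _ _).le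
  let P := minpoly C (b : Ω)
  have hP : P.natDegree = (minpoly L (b : Ω)).natDegree := by
    rw [hb', (minpoly.monic hbL).natDegree_map]
  obtain ⟨j, hj, hjm⟩ : ∃ j < P.natDegree,
      (⟨algebraMap L Ω (P.coeff j : L), (P.coeff j).2.algebraMap⟩ : ↥(integralClosure R Ω)) ∉ 𝔪 := by
    by_contra! hcon
    refine hb ((Ideal.IsPrime.pow_mem_iff_mem inferInstance P.natDegree
      (Nat.pos_of_ne_zero fun h0 => ?_)).1 ?_)
    · exact (minpoly.natDegree_pos hbL).ne' h0
    have e := minpoly.aeval C (b : Ω)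
    rw [aeval_eq_sum_range, Finset.sum_range_succ, (minpoly.monic hbL).coeff_natDegree, one_smul,
      add_eq_zero_iff_eq_neg] at e
    have e' : b ^ P.natDegree = - ∑ i ∈ Finset.range P.natDegree,
        (⟨algebraMap L Ω (P.coeff i : L), (P.coeff i).2.algebraMap⟩ : ↥(integralClosure R Ω)) * b ^ i := by
      apply Subtype.ext
      push_cast
      simp only [Algebra.smul_def] at e
      exact ((congrArg Neg.neg e).trans (neg_neg _)).symm
    rw [e']
    exact neg_mem (sum_mem fun i hi => Ideal.mul_mem_right _ _ (hcon i (Finset.mem_range.1 hi)))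
  refine ⟨P.coeff j, (P.coeff j).2, hjm, IsIntegral.of_pow (n := P.natDegree - j) (by omega) ?_⟩
  have hc : (P.coeff j : L) * z ^ (P.natDegree - j) = ((minpoly C (a : Ω)).coeff j : L) := by
    have h := congrArg (fun q : L[X] => q.coeff j) heq
    simp only [coeff_scaleRoots, ← hP] at h
    rw [ha', hb', coeff_map, coeff_map] at h
    exact h.symm
  have hk : P.natDegree - j = (P.natDegree - j - 1) + 1 := by omega
  rw [mul_pow, hk, pow_succ, ← hk, mul_assoc, hc]
  exact ((P.coeff j).2.pow _).mul ((minpoly C (a : Ω)).coeff j).2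

/-- A subalgebra of fractions with denominators outside a prime is Noetherian. -/
theorem isNoetherianRing_of_fractions {R F : Type u} [CommRing R] [Field F] [Algebra R F] (C A : Subalgebra R F)
    [IsNoetherianRing ↥C] (𝔭 : Ideal ↥C) [𝔭.IsPrime]
    (hA : ∀ z : F, z ∈ A ↔ ∃ a b : ↥C, b ∉ 𝔭 ∧ z * (b : F) = (a : F)) : IsNoetherianRing ↥A := by
  have hle : C ≤ A := fun z hz => (hA z).2 ⟨⟨z, hz⟩, 1, Ideal.one_notMem _, by simp⟩
  letI : Algebra ↥C ↥A := (Subalgebra.inclusion hle).toRingHom.toAlgebra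
  haveI : IsLocalization.AtPrime ↥A 𝔭 :=
    { map_units := by
        rintro ⟨b, hb⟩
        have hb0 : (b : F) ≠ 0 := fun e => hb ((show b = 0 from Subtype.ext e) ▸ 𝔭.zero_mem)
        refine IsUnit.of_mul_eq_one ⟨(b : F)⁻¹, (hA _).2 ⟨1, b, hb, inv_mul_cancel₀ hb0⟩⟩ ?_
        exact Subtype.ext (mul_inv_cancel₀ hb0)
      surj := fun z => by
        obtain ⟨a, b, hb, e⟩ := (hA z).1 z.2
        exact ⟨⟨a, b, hb⟩, Subtype.ext e⟩
      exists_of_eq := fun {x y} e => ⟨1, by
        have : (x : F) = y := congrArg (fun w : ↥A => (w : F)) e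
        rw [Subtype.ext this]⟩ }
  exact IsLocalization.isNoetherianRing 𝔭.primeCompl ↥A inferInstance

/-- Finite powers of a precomplete module are precomplete. -/
theorem isPrecomplete_pi {S : Type u} [CommRing S] (I : Ideal S) [IsPrecomplete I S] (ι : Type u) [Fintype ι] :
    IsPrecomplete I (ι → S) := by
  classical
  refine ⟨fun f hf => ?_⟩
  have h0 : ∀ (k : ι) (n : ℕ) (x : ι → S), x ∈ I ^ n • (⊤ : Submodule S (ι → S)) → x k ∈ I ^ n := fun k n x hx =>
    Submodule.smul_induction_on hx (fun r hr v _ => Ideal.mul_mem_right _ _ hr) fun _ _ h h' => add_mem h h'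
  have h1 : ∀ k : ι, ∃ L : S, ∀ n, f n k ≡ L [SMOD (I ^ n • ⊤ : Submodule S S)] := fun k =>
    IsPrecomplete.prec' (fun n => f n k) fun {m n} hmn => by
      rw [SModEq.sub_mem, smul_eq_mul, Ideal.mul_top]
      exact h0 k m _ (SModEq.sub_mem.1 (hf hmn))
  choose L hL using h1
  refine ⟨L, fun n => SModEq.sub_mem.2 ?_⟩
  rw [pi_eq_sum_univ (f n - L)]
  refine sum_mem fun k _ => Submodule.smul_mem_smul ?_ trivial
  have := SModEq.sub_mem.1 (hL k n)
  rwa [smul_eq_mul, Ideal.mul_top] at this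

/-- Let R be an excellent normal local domain with fraction field K, let L, M ⊇ K be two finite
separable field extensions, both contained in a field Ω that they generate, let A ⊆ Ω be the
localization of the integral closure of R in Ω at one of its maximal ideals, and put S = A ∩ L, T =
A ∩ M (local rings dominated by A); the completions at the maximal ideals give maps Ŝ → Â ← T̂ (the
algebra structures below are these inclusions and completed inclusions, pinned by the stated
compatibilities). If the residue field of A is generated, over the residue field of S, by the image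
of the residue field of T, then the fraction field of Â is the compositum of the fraction fields of
Ŝ and T̂ inside it: every element of Â is a quotient of two elements of the subring of Â generated
by the images of Ŝ and T̂. -/
theorem result
    (R K L M Ω : Type u) [CommRing R] [IsDomain R] [IsLocalRing R] [IsIntegrallyClosed R]
    (hR : EGA4.IsExcellent R)
    [Field K] [Field L] [Field M] [Field Ω]
    [Algebra R K] [IsFractionRing R K]
    [Algebra K L] [Algebra K M] [Algebra K Ω] [Algebra L Ω] [Algebra M Ω]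
    [IsScalarTower K L Ω] [IsScalarTower K M Ω]
    [FiniteDimensional K L] [FiniteDimensional K M] [Algebra.IsSeparable K L] [Algebra.IsSeparable K M]
    (hΩ : IntermediateField.adjoin K (Set.range (algebraMap L Ω) ∪ Set.range (algebraMap M Ω)) = ⊤)
    [Algebra R L] [Algebra R M] [Algebra R Ω] [IsScalarTower R K L] [IsScalarTower R K M] [IsScalarTower R K Ω]
    [IsScalarTower R L Ω] [IsScalarTower R M Ω]
    (𝔪 : Ideal ↥(integralClosure R Ω)) [𝔪.IsMaximal]
    (A : Subalgebra R Ω)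
    (hA : ∀ z : Ω, z ∈ A ↔ ∃ a b : ↥(integralClosure R Ω), b ∉ 𝔪 ∧ z * (b : Ω) = (a : Ω))
    [IsLocalRing ↥A] [IsLocalRing ↥(Subalgebra.comap (IsScalarTower.toAlgHom R L Ω) A)] [IsLocalRing ↥(Subalgebra.comap (IsScalarTower.toAlgHom R M Ω) A)]
    [Algebra ↥(Subalgebra.comap (IsScalarTower.toAlgHom R L Ω) A) ↥A]
    (hSA : ∀ s : ↥(Subalgebra.comap (IsScalarTower.toAlgHom R L Ω) A), ((algebraMap ↥(Subalgebra.comap (IsScalarTower.toAlgHom R L Ω) A) ↥A s : ↥A) : Ω) = algebraMap L Ω (s : L))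
    [Algebra ↥(Subalgebra.comap (IsScalarTower.toAlgHom R M Ω) A) ↥A]
    (hTA : ∀ t : ↥(Subalgebra.comap (IsScalarTower.toAlgHom R M Ω) A), ((algebraMap ↥(Subalgebra.comap (IsScalarTower.toAlgHom R M Ω) A) ↥A t : ↥A) : Ω) = algebraMap M Ω (t : M))
    [Algebra (EGA4.Cpl ↥(Subalgebra.comap (IsScalarTower.toAlgHom R L Ω) A)) (EGA4.Cpl ↥A)]
    (hcS : ∀ s : ↥(Subalgebra.comap (IsScalarTower.toAlgHom R L Ω) A), algebraMap (EGA4.Cpl ↥(Subalgebra.comap (IsScalarTower.toAlgHom R L Ω) A)) (EGA4.Cpl ↥A) (algebraMap ↥(Subalgebra.comap (IsScalarTower.toAlgHom R L Ω) A) (EGA4.Cpl ↥(Subalgebra.comap (IsScalarTower.toAlgHom R L Ω) A)) s) =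
      algebraMap ↥A (EGA4.Cpl ↥A) (algebraMap ↥(Subalgebra.comap (IsScalarTower.toAlgHom R L Ω) A) ↥A s))
    [Algebra (EGA4.Cpl ↥(Subalgebra.comap (IsScalarTower.toAlgHom R M Ω) A)) (EGA4.Cpl ↥A)]
    (hcT : ∀ t : ↥(Subalgebra.comap (IsScalarTower.toAlgHom R M Ω) A), algebraMap (EGA4.Cpl ↥(Subalgebra.comap (IsScalarTower.toAlgHom R M Ω) A)) (EGA4.Cpl ↥A) (algebraMap ↥(Subalgebra.comap (IsScalarTower.toAlgHom R M Ω) A) (EGA4.Cpl ↥(Subalgebra.comap (IsScalarTower.toAlgHom R M Ω) A)) t) =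
      algebraMap ↥A (EGA4.Cpl ↥A) (algebraMap ↥(Subalgebra.comap (IsScalarTower.toAlgHom R M Ω) A) ↥A t))
    [(IsLocalRing.maximalIdeal ↥A).LiesOver (IsLocalRing.maximalIdeal ↥(Subalgebra.comap (IsScalarTower.toAlgHom R M Ω) A))]
    [(IsLocalRing.maximalIdeal ↥A).LiesOver (IsLocalRing.maximalIdeal ↥(Subalgebra.comap (IsScalarTower.toAlgHom R L Ω) A))]
    (hres : Algebra.adjoin (↥(Subalgebra.comap (IsScalarTower.toAlgHom R L Ω) A) ⧸ IsLocalRing.maximalIdeal ↥(Subalgebra.comap (IsScalarTower.toAlgHom R L Ω) A))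
      (Set.range (algebraMap (↥(Subalgebra.comap (IsScalarTower.toAlgHom R M Ω) A) ⧸ IsLocalRing.maximalIdeal ↥(Subalgebra.comap (IsScalarTower.toAlgHom R M Ω) A)) (↥A ⧸ IsLocalRing.maximalIdeal ↥A))) = ⊤) :
    ∀ x : (EGA4.Cpl ↥A), ∃ a b : (EGA4.Cpl ↥A), a ∈ Algebra.adjoin (EGA4.Cpl ↥(Subalgebra.comap (IsScalarTower.toAlgHom R L Ω) A)) (Set.range (algebraMap (EGA4.Cpl ↥(Subalgebra.comap (IsScalarTower.toAlgHom R M Ω) A)) (EGA4.Cpl ↥A))) ∧ b ∈ Algebra.adjoin (EGA4.Cpl ↥(Subalgebra.comap (IsScalarTower.toAlgHom R L Ω) A)) (Set.range (algebraMap (EGA4.Cpl ↥(Subalgebra.comap (IsScalarTower.toAlgHom R M Ω) A)) (EGA4.Cpl ↥A))) ∧ b ≠ 0 ∧ x * b = a := by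
  classical
  haveI : IsNoetherianRing R := hR.1
  -- the compositum
  haveI : FiniteDimensional K Ω ∧ Algebra.IsSeparable K Ω ∧
      ∀ w : Ω, ∃ t : TensorProduct K L M,
        Algebra.TensorProduct.productMap (IsScalarTower.toAlgHom K L Ω) (IsScalarTower.toAlgHom K M Ω) t = w := by
    have hsep : ∀ x ∈ Set.range (algebraMap L Ω) ∪ Set.range (algebraMap M Ω), IsSeparable K x := by
      rintro _ (⟨l, rfl⟩ | ⟨m, rfl⟩)
      · exact IsSeparable.map (f := IsScalarTower.toAlgHom K L Ω) (algebraMap L Ω).injective (Algebra.IsSeparable.isSeparable K l)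
      · exact IsSeparable.map (f := IsScalarTower.toAlgHom K M Ω) (algebraMap M Ω).injective (Algebra.IsSeparable.isSeparable K m)
    haveI : Algebra.IsSeparable K Ω := by
      have h1 := (IntermediateField.isSeparable_adjoin_iff_isSeparable K Ω).2 hsep
      rw [hΩ] at h1
      exact Algebra.IsSeparable.of_algHom K _ (IntermediateField.topEquiv (F := K) (E := Ω)).symm.toAlgHom
    let F := Algebra.TensorProduct.productMap (IsScalarTower.toAlgHom K L Ω) (IsScalarTower.toAlgHom K M Ω)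
    let P : IntermediateField K Ω := F.range.toIntermediateField fun x hx =>
      F.range.inv_mem_of_algebraic (x := ⟨x, hx⟩) ((Algebra.IsAlgebraic.isAlgebraic x))
    have hP : ∀ w : Ω, ∃ t, F t = w := fun w => by
      have hle : IntermediateField.adjoin K (Set.range (algebraMap L Ω) ∪ Set.range (algebraMap M Ω)) ≤ P := by
        rw [IntermediateField.adjoin_le_iff]
        rintro _ (⟨l, rfl⟩ | ⟨m, rfl⟩)
        · exact ⟨TensorProduct.tmul K l 1, by simp [F]⟩
        · exact ⟨TensorProduct.tmul K 1 m, by simp [F]⟩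
      rw [hΩ] at hle
      exact hle (IntermediateField.mem_top (x := w))
    exact ⟨Module.Finite.of_surjective F.toLinearMap hP, inferInstance, hP⟩
  obtain ⟨_, _, hspan⟩ := this
  haveI : IsScalarTower R K Ω := inferInstance
  haveI hCfin : Module.Finite R ↥(integralClosure R Ω) := IsIntegralClosure.finite R K Ω _
  haveI hCLfin : Module.Finite R ↥(integralClosure R L) := IsIntegralClosure.finite R K L _
  haveI : IsNoetherianRing ↥(integralClosure R Ω) := IsNoetherianRing.of_finite R _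
  haveI : IsNoetherianRing ↥(integralClosure R L) := IsNoetherianRing.of_finite R _
  haveI hAN : IsNoetherianRing ↥A := isNoetherianRing_of_fractions (integralClosure R Ω) A 𝔪 hA
  have hCA : integralClosure R Ω ≤ A := fun z hz => (hA z).2 ⟨⟨z, hz⟩, 1, Ideal.one_notMem _, by simp⟩
  let ιC : ↥(integralClosure R Ω) →+* ↥A := (Subalgebra.inclusion hCA).toRingHom
  have hunit : ∀ (b : ↥(integralClosure R Ω)), b ∉ 𝔪 → IsUnit (ιC b) := fun b hb => by
    have hb0 : (b : Ω) ≠ 0 := fun e => hb ((show b = 0 from Subtype.ext e) ▸ 𝔪.zero_mem)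
    refine IsUnit.of_mul_eq_one ⟨(b : Ω)⁻¹, (hA _).2 ⟨1, b, hb, inv_mul_cancel₀ hb0⟩⟩ ?_
    exact Subtype.ext (mul_inv_cancel₀ hb0)
  let incL : ↥(integralClosure R L) →+* ↥(integralClosure R Ω) :=
    { toFun := fun c => ⟨algebraMap L Ω c, c.2.algebraMap⟩
      map_one' := Subtype.ext (map_one _)
      map_mul' := fun x y => Subtype.ext (map_mul _ _ _)
      map_zero' := Subtype.ext (map_zero _)
      map_add' := fun x y => Subtype.ext (map_add _ _ _) }
  haveI hSN : IsNoetherianRing ↥(Subalgebra.comap (IsScalarTower.toAlgHom R L Ω) A) := by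
    refine isNoetherianRing_of_fractions (integralClosure R L) (Subalgebra.comap (IsScalarTower.toAlgHom R L Ω) A) (𝔪.comap incL) fun z => ⟨fun hz => ?_, ?_⟩
    · obtain ⟨a, b, hb, e⟩ := (hA (algebraMap L Ω z)).1 hz
      obtain ⟨c, hc, hcm, hcz⟩ := exists_denominator (K := K) 𝔪 z a b hb e
      exact ⟨⟨c * z, hcz⟩, ⟨c, hc⟩, hcm, mul_comm z c⟩
    · rintro ⟨a, b, hb, e⟩
      exact (hA _).2 ⟨incL a, incL b, hb, by
        show algebraMap L Ω z * algebraMap L Ω (b : L) = algebraMap L Ω (a : L)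
        rw [← map_mul, e]⟩
  -- the maximal ideals
  have hmS : ∀ s : ↥(Subalgebra.comap (IsScalarTower.toAlgHom R L Ω) A), s ∈ IsLocalRing.maximalIdeal ↥(Subalgebra.comap (IsScalarTower.toAlgHom R L Ω) A) → algebraMap ↥(Subalgebra.comap (IsScalarTower.toAlgHom R L Ω) A) ↥A s ∈ IsLocalRing.maximalIdeal ↥A := by
    intro s hs
    rw [IsLocalRing.mem_maximalIdeal, mem_nonunits_iff] at hs ⊢
    intro hu
    obtain ⟨w, hw⟩ := hu.exists_right_inv
    have e : algebraMap L Ω (s : L) * (w : Ω) = 1 := by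
      have := congrArg (fun v : ↥A => (v : Ω)) hw
      simpa [hSA] using this
    have hs0 : (s : L) ≠ 0 := fun h0 => by rw [h0, map_zero, zero_mul] at e; exact zero_ne_one e
    refine hs (IsUnit.of_mul_eq_one ⟨(s : L)⁻¹, ?_⟩ (Subtype.ext (mul_inv_cancel₀ hs0)))
    show algebraMap L Ω (s : L)⁻¹ ∈ A
    rw [map_inv₀, inv_eq_of_mul_eq_one_right e]
    exact w.2
  have hmR : ∀ r : R, r ∈ IsLocalRing.maximalIdeal R → algebraMap R ↥(Subalgebra.comap (IsScalarTower.toAlgHom R L Ω) A) r ∈ IsLocalRing.maximalIdeal ↥(Subalgebra.comap (IsScalarTower.toAlgHom R L Ω) A) := by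
    intro r hr
    rw [IsLocalRing.mem_maximalIdeal, mem_nonunits_iff]
    intro hu
    haveI : (𝔪.comap (algebraMap R ↥(integralClosure R Ω))).IsMaximal :=
      Ideal.isMaximal_comap_of_isIntegral_of_isMaximal 𝔪
    have hr' : algebraMap R ↥(integralClosure R Ω) r ∈ 𝔪 := by
      rw [← Ideal.mem_comap, IsLocalRing.eq_maximalIdeal ‹(𝔪.comap _).IsMaximal›]
      exact hr
    obtain ⟨w, hw⟩ := hu.exists_right_inv
    obtain ⟨a, b, hb, e⟩ := (hA (algebraMap L Ω (w : L))).1 w.2
    refine hb ?_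
    have : algebraMap R ↥(integralClosure R Ω) r * a = b := Subtype.ext (by
      have h1 := congrArg (fun v : ↥(Subalgebra.comap (IsScalarTower.toAlgHom R L Ω) A) => algebraMap L Ω (v : L)) hw
      simp only [MulMemClass.coe_mul, map_mul, OneMemClass.coe_one, map_one, Subalgebra.coe_algebraMap] at h1
      rw [← IsScalarTower.algebraMap_apply] at h1
      rw [MulMemClass.coe_mul, Subalgebra.coe_algebraMap, ← e, ← mul_assoc, h1, one_mul])
    rw [← this]
    exact Ideal.mul_mem_right _ _ hr'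
  have hRA : ∀ r : R, algebraMap ↥(Subalgebra.comap (IsScalarTower.toAlgHom R L Ω) A) ↥A (algebraMap R ↥(Subalgebra.comap (IsScalarTower.toAlgHom R L Ω) A) r) = algebraMap R ↥A r := fun r => Subtype.ext (by
    rw [hSA]; exact (IsScalarTower.algebraMap_apply R L Ω r).symm)
  set J : Ideal ↥A := (IsLocalRing.maximalIdeal R).map (algebraMap R ↥A) with hJ
  obtain ⟨N, hN⟩ : ∃ N, IsLocalRing.maximalIdeal ↥A ^ N ≤ J := by
    refine Ideal.exists_pow_le_of_le_radical_of_fg ?_ (IsNoetherian.noetherian _)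
    rw [Ideal.radical_eq_sInf]
    refine le_sInf fun Q hQ => ?_
    obtain ⟨hQJ, hQp⟩ := hQ
    haveI := hQp
    haveI hP : (Q.comap ιC).IsPrime := Ideal.IsPrime.comap _
    haveI : ((Q.comap ιC).comap (algebraMap R ↥(integralClosure R Ω))).IsPrime := Ideal.IsPrime.comap _
    have hPR : (Q.comap ιC).comap (algebraMap R ↥(integralClosure R Ω)) = IsLocalRing.maximalIdeal R :=
      le_antisymm (IsLocalRing.le_maximalIdeal (Ideal.IsPrime.ne_top inferInstance)) fun r hr =>
        hQJ (Ideal.mem_map_of_mem _ hr)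
    haveI hPM : (Q.comap ιC).IsMaximal :=
      Ideal.isMaximal_of_isIntegral_of_isMaximal_comap _ (hPR ▸ IsLocalRing.maximalIdeal.isMaximal R)
    have hle : Q.comap ιC ≤ 𝔪 := fun x hx => by
      by_contra hxm
      exact hQp.ne_top (Ideal.eq_top_of_isUnit_mem _ hx (hunit x hxm))
    have heq : Q.comap ιC = 𝔪 := hPM.eq_of_le (Ideal.IsMaximal.ne_top inferInstance) hle
    intro x hx
    obtain ⟨a, b, hb, e⟩ := (hA (x : Ω)).1 x.2
    have hab : x * ιC b = ιC a := Subtype.ext e
    have ha : a ∈ 𝔪 := by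
      by_contra ha
      have := hunit a ha
      rw [← hab] at this
      exact (IsLocalRing.mem_maximalIdeal _).1 hx (isUnit_of_mul_isUnit_left this)
    rw [← heq, Ideal.mem_comap, ← hab] at ha
    exact (hQp.mem_or_mem ha).resolve_right fun h => hb (heq ▸ h)
  -- generators
  obtain ⟨G, hG⟩ := hCfin.fg_top
  have hdecomp : ∀ c : ↥A, ∃ r : ↥G → R, c - ∑ g, algebraMap R ↥A (r g) * ιC g ∈ J := by
    intro c
    obtain ⟨a, b, hb, e⟩ := (hA (c : Ω)).1 c.2
    have hab : c * ιC b = ιC a := Subtype.ext e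
    have hcop : Ideal.span {b} ⊔ 𝔪 ^ N = ⊤ := by
      refine Ideal.sup_pow_eq_top ?_
      refine (Ideal.IsMaximal.out (I := 𝔪)).2 _ (lt_of_le_of_ne le_sup_right fun h => hb ?_)
      rw [h]
      exact Ideal.mem_sup_left (Ideal.mem_span_singleton_self b)
    obtain ⟨y, hy, w, hw, hyw⟩ := Submodule.mem_sup.1 ((Ideal.eq_top_iff_one _).1 hcop)
    obtain ⟨b', rfl⟩ := Ideal.mem_span_singleton'.1 hy
    have hwJ : ιC w ∈ J := by
      refine hN (?_ : ιC w ∈ _)
      have h1 : 𝔪.map ιC ≤ IsLocalRing.maximalIdeal ↥A := by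
        rw [Ideal.map_le_iff_le_comap]
        intro x hx
        rw [Ideal.mem_comap, IsLocalRing.mem_maximalIdeal, mem_nonunits_iff]
        intro hu
        obtain ⟨v, hv⟩ := hu.exists_right_inv
        obtain ⟨a', b'', hb'', e'⟩ := (hA (v : Ω)).1 v.2
        refine hb'' ?_
        have : x * a' = b'' := Subtype.ext (by
          have h2 := congrArg (fun q : ↥A => (q : Ω)) hv
          rw [MulMemClass.coe_mul, ← e', ← mul_assoc]
          rw [show (x : Ω) * (v : Ω) = 1 from h2, one_mul])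
        rw [← this]
        exact Ideal.mul_mem_right _ _ hx
      exact Ideal.pow_right_mono h1 N (Ideal.map_pow ιC 𝔪 N ▸ Ideal.mem_map_of_mem _ hw)
    obtain ⟨r, hr⟩ := (Submodule.mem_span_finset' (R := R)).1 (show a * b' ∈ Submodule.span R (G : Set _) by
      rw [hG]; trivial)
    refine ⟨r, ?_⟩
    have e1 : ∑ g, algebraMap R ↥A (r g) * ιC g = ιC (a * b') := by
      rw [← hr, map_sum]
      refine Finset.sum_congr rfl fun g _ => ?_
      rw [Algebra.smul_def, map_mul]
      rfl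
    have e2 : c - ιC (a * b') = c * ιC w := by
      rw [map_mul, ← hab, show w = 1 - b' * b by rw [← hyw]; ring, map_sub, map_one, map_mul]
      ring
    rw [e1, e2]
    exact Ideal.mul_mem_left _ _ hwJ
  -- completions
  let ρ := algebraMap ↥A (EGA4.Cpl ↥A)
  have hSmap : ∀ s ∈ IsLocalRing.maximalIdeal (EGA4.Cpl ↥(Subalgebra.comap (IsScalarTower.toAlgHom R L Ω) A)),
      algebraMap (EGA4.Cpl ↥(Subalgebra.comap (IsScalarTower.toAlgHom R L Ω) A)) (EGA4.Cpl ↥A) s ∈ IsLocalRing.maximalIdeal (EGA4.Cpl ↥A) := by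
    show IsLocalRing.maximalIdeal (EGA4.Cpl ↥(Subalgebra.comap (IsScalarTower.toAlgHom R L Ω) A)) ≤
      (IsLocalRing.maximalIdeal (EGA4.Cpl ↥A)).comap (algebraMap (EGA4.Cpl ↥(Subalgebra.comap (IsScalarTower.toAlgHom R L Ω) A)) (EGA4.Cpl ↥A))
    rw [AdicCompletion.maximalIdeal_eq_map, AdicCompletion.maximalIdeal_eq_map, Ideal.map_le_iff_le_comap]
    intro s hs
    rw [Ideal.mem_comap, Ideal.mem_comap, hcS]
    exact Ideal.mem_map_of_mem _ (hmS s hs)
  haveI : IsHausdorff (IsLocalRing.maximalIdeal (EGA4.Cpl ↥(Subalgebra.comap (IsScalarTower.toAlgHom R L Ω) A))) (EGA4.Cpl ↥A) := by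
    refine ⟨fun x hx => IsHausdorff.haus (I := IsLocalRing.maximalIdeal (EGA4.Cpl ↥A)) inferInstance x fun n => ?_⟩
    rw [SModEq.zero, smul_eq_mul, Ideal.mul_top]
    refine Submodule.smul_induction_on (SModEq.zero.1 (hx n)) (fun r hr m _ => ?_) fun _ _ h h' => add_mem h h'
    rw [Algebra.smul_def]
    refine Ideal.mul_mem_right _ _ ?_
    have h1 : (IsLocalRing.maximalIdeal (EGA4.Cpl ↥(Subalgebra.comap (IsScalarTower.toAlgHom R L Ω) A))).map (algebraMap (EGA4.Cpl ↥(Subalgebra.comap (IsScalarTower.toAlgHom R L Ω) A)) (EGA4.Cpl ↥A)) ≤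
        IsLocalRing.maximalIdeal (EGA4.Cpl ↥A) := Ideal.map_le_iff_le_comap.2 hSmap
    have h2 := Ideal.mem_map_of_mem (algebraMap (EGA4.Cpl ↥(Subalgebra.comap (IsScalarTower.toAlgHom R L Ω) A)) (EGA4.Cpl ↥A)) hr
    rw [Ideal.map_pow] at h2
    exact Ideal.pow_right_mono h1 n h2
  haveI := isPrecomplete_pi (IsLocalRing.maximalIdeal (EGA4.Cpl ↥(Subalgebra.comap (IsScalarTower.toAlgHom R L Ω) A))) ↥G
  let f : (↥G → EGA4.Cpl ↥(Subalgebra.comap (IsScalarTower.toAlgHom R L Ω) A)) →ₗ[EGA4.Cpl ↥(Subalgebra.comap (IsScalarTower.toAlgHom R L Ω) A)] EGA4.Cpl ↥A :=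
    ∑ g : ↥G, (LinearMap.proj g).smulRight (ρ (ιC g))
  have hf : ∀ v, f v = ∑ g, algebraMap (EGA4.Cpl ↥(Subalgebra.comap (IsScalarTower.toAlgHom R L Ω) A)) (EGA4.Cpl ↥A) (v g) * ρ (ιC g) := fun v => by
    simp [f, Algebra.smul_def]
  have hsurj : Function.Surjective f := by
    refine surjective_of_mkQ_comp_surjective (I := IsLocalRing.maximalIdeal (EGA4.Cpl ↥(Subalgebra.comap (IsScalarTower.toAlgHom R L Ω) A))) fun q => ?_
    obtain ⟨x, rfl⟩ := Submodule.mkQ_surjective _ q
    obtain ⟨c, hc⟩ := Submodule.Quotient.mk_surjective _ (x.val N)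
    obtain ⟨r, hr⟩ := hdecomp c
    refine ⟨fun g => algebraMap ↥(Subalgebra.comap (IsScalarTower.toAlgHom R L Ω) A) (EGA4.Cpl ↥(Subalgebra.comap (IsScalarTower.toAlgHom R L Ω) A)) (algebraMap R ↥(Subalgebra.comap (IsScalarTower.toAlgHom R L Ω) A) (r g)), ?_⟩
    have hJle : ∀ y ∈ J, ∀ w : EGA4.Cpl ↥A, ρ y * w ∈
        IsLocalRing.maximalIdeal (EGA4.Cpl ↥(Subalgebra.comap (IsScalarTower.toAlgHom R L Ω) A)) • (⊤ : Submodule (EGA4.Cpl ↥(Subalgebra.comap (IsScalarTower.toAlgHom R L Ω) A)) (EGA4.Cpl ↥A)) := by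
      intro y hy
      induction hy using Submodule.span_induction with
      | mem y hy =>
        obtain ⟨r, hr, rfl⟩ := hy
        intro w
        rw [show ρ (algebraMap R ↥A r) * w = algebraMap ↥(Subalgebra.comap (IsScalarTower.toAlgHom R L Ω) A) (EGA4.Cpl ↥(Subalgebra.comap (IsScalarTower.toAlgHom R L Ω) A)) (algebraMap R ↥(Subalgebra.comap (IsScalarTower.toAlgHom R L Ω) A) r) • w by
          rw [Algebra.smul_def, hcS, hRA]]
        refine Submodule.smul_mem_smul ?_ trivial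
        rw [AdicCompletion.maximalIdeal_eq_map]
        exact Ideal.mem_map_of_mem _ (hmR r hr)
      | zero => intro w; simp
      | add y y' _ _ h h' => intro w; rw [map_add, add_mul]; exact add_mem (h w) (h' w)
      | smul a y _ h => intro w; rw [smul_eq_mul, map_mul, mul_comm (ρ a), mul_assoc]; exact h _
    rw [LinearMap.comp_apply, Submodule.mkQ_apply, Submodule.mkQ_apply, Submodule.Quotient.eq, hf]
    simp only [hcS, hRA]
    have e1 : ∑ g, ρ (algebraMap R ↥A (r g)) * ρ (ιC g) = ρ (∑ g, algebraMap R ↥A (r g) * ιC g) := by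
      rw [map_sum]; simp only [map_mul]
    have e2 : ρ c - x ∈ IsLocalRing.maximalIdeal ↥A ^ N • (⊤ : Submodule ↥A (EGA4.Cpl ↥A)) := by
      rw [AdicCompletion.pow_smul_top_eq_ker_eval (IsNoetherian.noetherian _), LinearMap.mem_ker, map_sub, sub_eq_zero]
      exact hc
    rw [e1]
    rw [show ρ (∑ g, algebraMap R ↥A (r g) * ιC g) - x =
      (ρ c - x) - ρ (c - ∑ g, algebraMap R ↥A (r g) * ιC g) by rw [map_sub]; ring]
    refine sub_mem ?_ (by simpa using hJle _ hr 1)
    refine Submodule.smul_induction_on e2 (fun y hy w _ => ?_) fun _ _ h h' => add_mem h h'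
    rw [Algebra.smul_def]
    exact hJle y (hN hy) w
  -- common denominator
  let Bc := Algebra.adjoin (EGA4.Cpl ↥(Subalgebra.comap (IsScalarTower.toAlgHom R L Ω) A)) (Set.range (algebraMap (EGA4.Cpl ↥(Subalgebra.comap (IsScalarTower.toAlgHom R M Ω) A)) (EGA4.Cpl ↥A)))
  have hgood : ∀ ω : Ω, ∃ d : R, d ≠ 0 ∧ ∃ a : ↥A, (a : Ω) = algebraMap R Ω d * ω ∧ ρ a ∈ Bc := by
    intro ω
    obtain ⟨t, rfl⟩ := hspan ω
    induction t using TensorProduct.induction_on with
    | zero => exact ⟨1, one_ne_zero, 0, by simp, by rw [map_zero]; exact zero_mem _⟩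
    | add t t' h h' =>
      obtain ⟨d, hd, a, ha, haB⟩ := h
      obtain ⟨d', hd', a', ha', haB'⟩ := h'
      refine ⟨d * d', mul_ne_zero hd hd', algebraMap R ↥A d' * a + algebraMap R ↥A d * a', ?_, ?_⟩
      · rw [map_add, map_mul, AddMemClass.coe_add, MulMemClass.coe_mul, MulMemClass.coe_mul, ha, ha',
          Subalgebra.coe_algebraMap, Subalgebra.coe_algebraMap]
        ring
      · have hB : ∀ r : R, ρ (algebraMap R ↥A r) ∈ Bc := fun r => by
          rw [show ρ (algebraMap R ↥A r) = algebraMap (EGA4.Cpl ↥(Subalgebra.comap (IsScalarTower.toAlgHom R L Ω) A)) (EGA4.Cpl ↥A)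
            (algebraMap ↥(Subalgebra.comap (IsScalarTower.toAlgHom R L Ω) A) (EGA4.Cpl ↥(Subalgebra.comap (IsScalarTower.toAlgHom R L Ω) A)) (algebraMap R ↥(Subalgebra.comap (IsScalarTower.toAlgHom R L Ω) A) r)) by rw [hcS, hRA]]
          exact Subalgebra.algebraMap_mem _ _
        rw [map_add, map_mul, map_mul]
        exact add_mem (mul_mem (hB _) haB) (mul_mem (hB _) haB')
    | tmul l m =>
      obtain ⟨⟨r₁, hr₁⟩, h₁⟩ := IsIntegral.exists_multiple_integral_of_isLocalization (M := nonZeroDivisors R) (Rₘ := K) l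
        (Algebra.IsIntegral.isIntegral l)
      obtain ⟨⟨r₂, hr₂⟩, h₂⟩ := IsIntegral.exists_multiple_integral_of_isLocalization (M := nonZeroDivisors R) (Rₘ := K) m
        (Algebra.IsIntegral.isIntegral m)
      let s : ↥(Subalgebra.comap (IsScalarTower.toAlgHom R L Ω) A) := ⟨r₁ • l, hCA (h₁.algebraMap (B := Ω))⟩
      let t : ↥(Subalgebra.comap (IsScalarTower.toAlgHom R M Ω) A) := ⟨r₂ • m, hCA (h₂.algebraMap (B := Ω))⟩
      refine ⟨r₁ * r₂, mul_ne_zero (nonZeroDivisors.ne_zero hr₁) (nonZeroDivisors.ne_zero hr₂),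
        algebraMap ↥(Subalgebra.comap (IsScalarTower.toAlgHom R L Ω) A) ↥A s * algebraMap ↥(Subalgebra.comap (IsScalarTower.toAlgHom R M Ω) A) ↥A t, ?_, ?_⟩
      · rw [MulMemClass.coe_mul, hSA, hTA]
        show algebraMap L Ω (r₁ • l) * algebraMap M Ω (r₂ • m) = _
        simp only [Algebra.smul_def, map_mul, ← IsScalarTower.algebraMap_apply,
          Algebra.TensorProduct.productMap_apply_tmul, IsScalarTower.coe_toAlgHom']
        ring
      · rw [map_mul]
        show algebraMap ↥A (EGA4.Cpl ↥A) (algebraMap ↥(Subalgebra.comap (IsScalarTower.toAlgHom R L Ω) A) ↥A s) * algebraMap ↥A (EGA4.Cpl ↥A) (algebraMap ↥(Subalgebra.comap (IsScalarTower.toAlgHom R M Ω) A) ↥A t) ∈ Bc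
        rw [← hcS, ← hcT]
        exact mul_mem (Subalgebra.algebraMap_mem _ _) (Algebra.subset_adjoin ⟨_, rfl⟩)
  choose d hd a ha haB using fun g : ↥G => hgood ((g : ↥(integralClosure R Ω)) : Ω)
  let D := ∏ g, d g
  have hDB : ∀ r : R, ρ (algebraMap R ↥A r) ∈ Bc := fun r => by
    rw [show ρ (algebraMap R ↥A r) = algebraMap (EGA4.Cpl ↥(Subalgebra.comap (IsScalarTower.toAlgHom R L Ω) A)) (EGA4.Cpl ↥A)
      (algebraMap ↥(Subalgebra.comap (IsScalarTower.toAlgHom R L Ω) A) (EGA4.Cpl ↥(Subalgebra.comap (IsScalarTower.toAlgHom R L Ω) A)) (algebraMap R ↥(Subalgebra.comap (IsScalarTower.toAlgHom R L Ω) A) r)) by rw [hcS, hRA]]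
    exact Subalgebra.algebraMap_mem _ _
  intro x
  refine ⟨x * ρ (algebraMap R ↥A D), ρ (algebraMap R ↥A D), ?_, hDB D, ?_, rfl⟩
  · obtain ⟨v, rfl⟩ := hsurj x
    rw [hf, Finset.sum_mul]
    refine sum_mem fun g _ => ?_
    rw [mul_assoc]
    refine mul_mem (Subalgebra.algebraMap_mem _ _) ?_
    have e : ιC g * algebraMap R ↥A D = algebraMap R ↥A (∏ g' ∈ Finset.univ.erase g, d g') * a g := by
      apply Subtype.ext
      rw [MulMemClass.coe_mul, MulMemClass.coe_mul, ha, Subalgebra.coe_algebraMap, Subalgebra.coe_algebraMap]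
      show ((g : ↥(integralClosure R Ω)) : Ω) * _ = _
      rw [show D = (∏ g' ∈ Finset.univ.erase g, d g') * d g from
        (Finset.prod_erase_mul _ _ (Finset.mem_univ g)).symm, map_mul]
      ring
    rw [← map_mul, e, map_mul]
    exact mul_mem (hDB _) (haB g)
  · intro h0
    have h1 : algebraMap R ↥A D = 0 := by
      apply AdicCompletion.of_injective (IsLocalRing.maximalIdeal ↥A) ↥A
      rw [map_zero]
      exact h0
    have h2 : algebraMap R Ω D = 0 := by
      rw [← Subalgebra.coe_algebraMap A D, h1, ZeroMemClass.coe_zero]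
    rw [IsScalarTower.algebraMap_apply R K Ω, map_eq_zero_iff _ (algebraMap K Ω).injective,
      map_eq_zero_iff _ (IsFractionRing.injective R K)] at h2
    exact Finset.prod_ne_zero_iff.2 (fun g _ => hd g) h2

end Groth.Agent.S18536
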