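import Groth.Statements.S18537
import Groth.Agent.CplCompositum.Main
import Groth.Agent.CAlgH.ExcellentNormal
import Groth.Agent.LocCoh.NonVanishing
import Groth.Agent.DimLib.Algebra
-- import your own Groth.Agent.* helpers here

set_option autoImplicit false
universe u
open EtAlg

namespace Groth.Agent.S18537

open CplCompositum IsLocalRing

theorem normal_local_data {R F : Type u} [CommRing R] [Field F] [Algebra R F] (C A : Subalgebra R F)
    [IsIntegrallyClosed ↥C] (hG : CAlg.IsGRing ↥C) (𝔭 : Ideal ↥C) [𝔭.IsPrime] [IsLocalRing ↥A]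
    (hA : ∀ z : F, z ∈ A ↔ ∃ a b : ↥C, b ∉ 𝔭 ∧ z * (b : F) = (a : F)) :
    (IsDomain (EGA4.Cpl ↥A) ∧ IsIntegrallyClosed (EGA4.Cpl ↥A)) ∧ IsNoetherianRing ↥A ∧
      ringKrullDim ↥A = 𝔭.height := by
  obtain ⟨_, -, hloc⟩ := exists_isLocalization_of_fractions C A 𝔭 hA
  haveI := hloc
  haveI : IsIntegrallyClosed ↥A := isIntegrallyClosed_of_isLocalization _ 𝔭.primeCompl 𝔭.primeCompl_le_nonZeroDivisors
  have hGA : CAlg.IsGRing ↥A := CAlgH.isGRing_localization 𝔭.primeCompl ↥A hG
  haveI : IsNoetherianRing ↥A := hGA.1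
  haveI hd : IsDomain (EGA4.Cpl ↥A) := CAlgH.ExcellentNormal.isDomain_completion ↥A hGA
  have hn := CAlgH.ExcellentNormal.isNormalRing_adicCompletion ↥A hGA
    (CAlgH.ExcellentNormal.isNormalRing_of_isIntegrallyClosed ↥A) (maximalIdeal ↥A)
  exact ⟨⟨hd, IsIntegrallyClosed.of_localization_maximal fun m _ _ => (hn m).2⟩, inferInstance,
    IsLocalization.AtPrime.ringKrullDim_eq_height 𝔭 ↥A⟩

/-- Let R be an excellent normal local domain with fraction field K, let L, M ⊇ K be two finite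
separable field extensions, both contained in a field Ω that they generate, let A ⊆ Ω be the
localization of the integral closure of R in Ω at one of its maximal ideals, and put S = A ∩ L, T =
A ∩ M; these are local rings, T ⊆ A, and the completions at the maximal ideals give maps Ŝ → Â ← T̂
(the algebra structures below are these inclusions and completed inclusions, pinned by the stated
compatibilities). If, inside the fraction field of Â, the ring Ŝ lies in the fraction field of T̂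
(every element of Ŝ becomes a quotient of two elements of T̂), then A is unramified over T: m_T A =
m_A and A/m_A is a finite separable extension of T/m_T. -/
theorem result
    (R K L M Ω : Type u) [CommRing R] [IsDomain R] [IsLocalRing R] [IsIntegrallyClosed R]
    (hR : EGA4.IsExcellent R)
    [Field K] [Field L] [Field M] [Field Ω]
    [Algebra R K] [IsFractionRing R K]
    [Algebra K L] [Algebra K M] [Algebra K Ω] [Algebra L Ω] [Algebra M Ω]
    [IsScalarTower K L Ω] [IsScalarTower K M Ω]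
    [FiniteDimensional K L] [FiniteDimensional K M] [Algebra.IsSeparable K L] [Algebra.IsSeparable K M]
    (hΩ : IntermediateField.adjoin K (Set.range (algebraMap L Ω) ∪ Set.range (algebraMap M Ω)) = ⊤)
    [Algebra R L] [Algebra R M] [Algebra R Ω] [IsScalarTower R K L] [IsScalarTower R K M] [IsScalarTower R K Ω]
    [IsScalarTower R L Ω] [IsScalarTower R M Ω]
    (𝔪 : Ideal ↥(integralClosure R Ω)) [𝔪.IsMaximal]
    (A : Subalgebra R Ω)
    (hA : ∀ z : Ω, z ∈ A ↔ ∃ a b : ↥(integralClosure R Ω), b ∉ 𝔪 ∧ z * (b : Ω) = (a : Ω))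
    [IsLocalRing ↥A] [IsLocalRing ↥(Subalgebra.comap (IsScalarTower.toAlgHom R L Ω) A)] [IsLocalRing ↥(Subalgebra.comap (IsScalarTower.toAlgHom R M Ω) A)]
    [Algebra ↥(Subalgebra.comap (IsScalarTower.toAlgHom R L Ω) A) ↥A]
    (hSA : ∀ s : ↥(Subalgebra.comap (IsScalarTower.toAlgHom R L Ω) A), ((algebraMap ↥(Subalgebra.comap (IsScalarTower.toAlgHom R L Ω) A) ↥A s : ↥A) : Ω) = algebraMap L Ω (s : L))
    [Algebra ↥(Subalgebra.comap (IsScalarTower.toAlgHom R M Ω) A) ↥A]
    (hTA : ∀ t : ↥(Subalgebra.comap (IsScalarTower.toAlgHom R M Ω) A), ((algebraMap ↥(Subalgebra.comap (IsScalarTower.toAlgHom R M Ω) A) ↥A t : ↥A) : Ω) = algebraMap M Ω (t : M))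
    [Algebra (EGA4.Cpl ↥(Subalgebra.comap (IsScalarTower.toAlgHom R L Ω) A)) (EGA4.Cpl ↥A)]
    (hcS : ∀ s : ↥(Subalgebra.comap (IsScalarTower.toAlgHom R L Ω) A), algebraMap (EGA4.Cpl ↥(Subalgebra.comap (IsScalarTower.toAlgHom R L Ω) A)) (EGA4.Cpl ↥A) (algebraMap ↥(Subalgebra.comap (IsScalarTower.toAlgHom R L Ω) A) (EGA4.Cpl ↥(Subalgebra.comap (IsScalarTower.toAlgHom R L Ω) A)) s) =
      algebraMap ↥A (EGA4.Cpl ↥A) (algebraMap ↥(Subalgebra.comap (IsScalarTower.toAlgHom R L Ω) A) ↥A s))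
    [Algebra (EGA4.Cpl ↥(Subalgebra.comap (IsScalarTower.toAlgHom R M Ω) A)) (EGA4.Cpl ↥A)]
    (hcT : ∀ t : ↥(Subalgebra.comap (IsScalarTower.toAlgHom R M Ω) A), algebraMap (EGA4.Cpl ↥(Subalgebra.comap (IsScalarTower.toAlgHom R M Ω) A)) (EGA4.Cpl ↥A) (algebraMap ↥(Subalgebra.comap (IsScalarTower.toAlgHom R M Ω) A) (EGA4.Cpl ↥(Subalgebra.comap (IsScalarTower.toAlgHom R M Ω) A)) t) =
      algebraMap ↥A (EGA4.Cpl ↥A) (algebraMap ↥(Subalgebra.comap (IsScalarTower.toAlgHom R M Ω) A) ↥A t))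
    [(IsLocalRing.maximalIdeal ↥A).LiesOver (IsLocalRing.maximalIdeal ↥(Subalgebra.comap (IsScalarTower.toAlgHom R M Ω) A))]
    (hLM : ∀ x : (EGA4.Cpl ↥(Subalgebra.comap (IsScalarTower.toAlgHom R L Ω) A)), ∃ a b : (EGA4.Cpl ↥(Subalgebra.comap (IsScalarTower.toAlgHom R M Ω) A)), algebraMap (EGA4.Cpl ↥(Subalgebra.comap (IsScalarTower.toAlgHom R M Ω) A)) (EGA4.Cpl ↥A) b ≠ 0 ∧
      algebraMap (EGA4.Cpl ↥(Subalgebra.comap (IsScalarTower.toAlgHom R L Ω) A)) (EGA4.Cpl ↥A) x * algebraMap (EGA4.Cpl ↥(Subalgebra.comap (IsScalarTower.toAlgHom R M Ω) A)) (EGA4.Cpl ↥A) b = algebraMap (EGA4.Cpl ↥(Subalgebra.comap (IsScalarTower.toAlgHom R M Ω) A)) (EGA4.Cpl ↥A) a) :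
    (IsLocalRing.maximalIdeal ↥(Subalgebra.comap (IsScalarTower.toAlgHom R M Ω) A)).map (algebraMap ↥(Subalgebra.comap (IsScalarTower.toAlgHom R M Ω) A) ↥A) = IsLocalRing.maximalIdeal ↥A ∧
      Module.Finite (↥(Subalgebra.comap (IsScalarTower.toAlgHom R M Ω) A) ⧸ IsLocalRing.maximalIdeal ↥(Subalgebra.comap (IsScalarTower.toAlgHom R M Ω) A)) (↥A ⧸ IsLocalRing.maximalIdeal ↥A) ∧
      Algebra.IsSeparable (↥(Subalgebra.comap (IsScalarTower.toAlgHom R M Ω) A) ⧸ IsLocalRing.maximalIdeal ↥(Subalgebra.comap (IsScalarTower.toAlgHom R M Ω) A)) (↥A ⧸ IsLocalRing.maximalIdeal ↥A) := by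
  classical
  haveI : IsNoetherianRing R := hR.1
  -- the compositum
  haveI : FiniteDimensional K Ω ∧ Algebra.IsSeparable K Ω ∧
      ∀ w : Ω, ∃ t : TensorProduct K L M,
        Algebra.TensorProduct.productMap (IsScalarTower.toAlgHom K L Ω) (IsScalarTower.toAlgHom K M Ω) t = w := by
    have hsep : ∀ x ∈ Set.range (algebraMap L Ω) ∪ Set.range (algebraMap M Ω), IsSeparable K x := by
      rintro _ (⟨l, rfl⟩ | ⟨m, rfl⟩)
      · exact IsSeparable.map (f := IsScalarTower.toAlgHom K L Ω) (algebraMap L Ω).injective (Algebra.IsSeparable.isSeparable K l)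
      · exact IsSeparable.map (f := IsScalarTower.toAlgHom K M Ω) (algebraMap M Ω).injective (Algebra.IsSeparable.isSeparable K m)
    haveI : Algebra.IsSeparable K Ω := by
      have h1 := (IntermediateField.isSeparable_adjoin_iff_isSeparable K Ω).2 hsep
      rw [hΩ] at h1
      exact Algebra.IsSeparable.of_algHom K _ (IntermediateField.topEquiv (F := K) (E := Ω)).symm.toAlgHom
    let F := Algebra.TensorProduct.productMap (IsScalarTower.toAlgHom K L Ω) (IsScalarTower.toAlgHom K M Ω)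
    let P : IntermediateField K Ω := F.range.toIntermediateField fun x hx =>
      F.range.inv_mem_of_algebraic (x := ⟨x, hx⟩) ((Algebra.IsAlgebraic.isAlgebraic x))
    have hP : ∀ w : Ω, ∃ t, F t = w := fun w => by
      have hle : IntermediateField.adjoin K (Set.range (algebraMap L Ω) ∪ Set.range (algebraMap M Ω)) ≤ P := by
        rw [IntermediateField.adjoin_le_iff]
        rintro _ (⟨l, rfl⟩ | ⟨m, rfl⟩)
        · exact ⟨TensorProduct.tmul K l 1, by simp [F]⟩
        · exact ⟨TensorProduct.tmul K 1 m, by simp [F]⟩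
      rw [hΩ] at hle
      exact hle (IntermediateField.mem_top (x := w))
    exact ⟨Module.Finite.of_surjective F.toLinearMap hP, inferInstance, hP⟩
  obtain ⟨_, _, hspan⟩ := this
  haveI : IsScalarTower R K Ω := inferInstance
  haveI hCfin : Module.Finite R ↥(integralClosure R Ω) := IsIntegralClosure.finite R K Ω _
  haveI hCMfin : Module.Finite R ↥(integralClosure R M) := IsIntegralClosure.finite R K M _
  haveI : IsIntegrallyClosed ↥(integralClosure R M) := integralClosure.isIntegrallyClosedOfFiniteExtension K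
  haveI : IsIntegrallyClosed ↥(integralClosure R Ω) := integralClosure.isIntegrallyClosedOfFiniteExtension K
  have hGM : CAlg.IsGRing ↥(integralClosure R M) := CAlgH.isGRing_of_finiteType R hR.2.2.1 _
  have hGΩ : CAlg.IsGRing ↥(integralClosure R Ω) := CAlgH.isGRing_of_finiteType R hR.2.2.1 _
  haveI : IsNoetherianRing ↥(integralClosure R M) := hGM.1
  haveI : IsNoetherianRing ↥(integralClosure R Ω) := hGΩ.1
  let incM : ↥(integralClosure R M) →+* ↥(integralClosure R Ω) :=
    { toFun := fun c => ⟨algebraMap M Ω c, c.2.algebraMap⟩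
      map_one' := Subtype.ext (map_one _)
      map_mul' := fun x y => Subtype.ext (map_mul _ _ _)
      map_zero' := Subtype.ext (map_zero _)
      map_add' := fun x y => Subtype.ext (map_add _ _ _) }
  have hT : ∀ z : M, z ∈ Subalgebra.comap (IsScalarTower.toAlgHom R M Ω) A ↔
      ∃ a b : ↥(integralClosure R M), b ∉ 𝔪.comap incM ∧ z * (b : M) = (a : M) := fun z => ⟨fun hz => by
      obtain ⟨a, b, hb, e⟩ := (hA (algebraMap M Ω z)).1 hz
      obtain ⟨c, hc, hcm, hcz⟩ := exists_denominator (K := K) 𝔪 z a b hb e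
      exact ⟨⟨c * z, hcz⟩, ⟨c, hc⟩, hcm, mul_comm z c⟩, by
      rintro ⟨a, b, hb, e⟩
      exact (hA _).2 ⟨incM a, incM b, hb, by
        show algebraMap M Ω z * algebraMap M Ω (b : M) = algebraMap M Ω (a : M)
        rw [← map_mul, e]⟩⟩
  obtain ⟨⟨hdT, hnT⟩, hNT, hdimT⟩ := normal_local_data (integralClosure R M) _ hGM (𝔪.comap incM) hT
  obtain ⟨⟨hdA, -⟩, hNA, hdimA⟩ := normal_local_data (integralClosure R Ω) A hGΩ 𝔪 hA
  obtain ⟨-, -, hfin⟩ := finite_cpl (K := K) 𝔪 A hA hTA hcT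
  haveI := hdT; haveI := hnT; haveI := hdA; haveI := hNT; haveI := hNA; haveI := hfin
  letI := incM.toAlgebra
  haveI : IsScalarTower R ↥(integralClosure R M) ↥(integralClosure R Ω) :=
    IsScalarTower.of_algebraMap_eq fun r => Subtype.ext (IsScalarTower.algebraMap_apply R M Ω r)
  haveI : Algebra.IsIntegral ↥(integralClosure R M) ↥(integralClosure R Ω) := Algebra.IsIntegral.tower_top R
  haveI : FaithfulSMul ↥(integralClosure R M) ↥(integralClosure R Ω) := (faithfulSMul_iff_algebraMap_injective _ _).2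
    fun x y h => Subtype.ext ((algebraMap M Ω).injective (congrArg (fun v : ↥(integralClosure R Ω) => (v : Ω)) h))
  have hht : (𝔪.comap incM).height = 𝔪.height := DimLib.height_comap_eq (R := ↥(integralClosure R M)) 𝔪
  let φ := algebraMap (EGA4.Cpl ↥(Subalgebra.comap (IsScalarTower.toAlgHom R M Ω) A)) (EGA4.Cpl ↥A)
  have hφ : Function.Injective φ := by
    refine (injective_iff_map_eq_zero φ).2 fun x hx => ?_
    by_contra hx0
    let Th := EGA4.Cpl ↥(Subalgebra.comap (IsScalarTower.toAlgHom R M Ω) A)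
    have hle : Ideal.span {x} ≤ RingHom.ker φ := (Ideal.span_singleton_le_iff_mem _).2 hx
    letI : Algebra (Th ⧸ RingHom.ker φ) (EGA4.Cpl ↥A) := (RingHom.kerLift φ).toAlgebra
    haveI : IsScalarTower Th (Th ⧸ RingHom.ker φ) (EGA4.Cpl ↥A) := IsScalarTower.of_algebraMap_eq fun r => rfl
    haveI : Algebra.IsIntegral (Th ⧸ RingHom.ker φ) (EGA4.Cpl ↥A) := Algebra.IsIntegral.tower_top Th
    have h1 := DimLib.ringKrullDim_eq_of_isIntegral (R := Th ⧸ RingHom.ker φ) (S := EGA4.Cpl ↥A)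
      (RingHom.kerLift_injective φ)
    have h2 : ringKrullDim (Th ⧸ RingHom.ker φ) ≤ ringKrullDim (Th ⧸ Ideal.span {x}) :=
      ringKrullDim_le_of_surjective (Ideal.Quotient.factor hle) (Ideal.Quotient.factor_surjective hle)
    have h3 := ringKrullDim_quotient_succ_le_of_nonZeroDivisor (mem_nonZeroDivisors_of_ne_zero hx0)
    rw [LocCoh.ringKrullDim_adicCompletion, hdimT, hht] at h3
    rw [h1, LocCoh.ringKrullDim_adicCompletion, hdimA] at h2
    have h4 := (add_le_add h2 le_rfl).trans h3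
    cases hh : 𝔪.height with
    | top => exact absurd hh (Ideal.height_ne_top (Ideal.IsMaximal.ne_top inferInstance))
    | coe n =>
      rw [hh] at h4
      norm_cast at h4
      omega
  -- surjectivity
  have hfrac : ∀ y ∈ Algebra.adjoin (EGA4.Cpl ↥(Subalgebra.comap (IsScalarTower.toAlgHom R L Ω) A))
      (Set.range φ), ∃ a b, φ b ≠ 0 ∧ y * φ b = φ a := by
    intro y hy
    induction hy using Algebra.adjoin_induction with
    | mem y hy =>
      obtain ⟨t, rfl⟩ := hy
      exact ⟨t, 1, by rw [map_one]; exact one_ne_zero, by rw [map_one, mul_one]⟩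
    | algebraMap s => obtain ⟨a, b, hb, e⟩ := hLM s; exact ⟨a, b, hb, e⟩
    | add y y' _ _ h h' =>
      obtain ⟨a, b, hb, e⟩ := h
      obtain ⟨a', b', hb', e'⟩ := h'
      exact ⟨a * b' + a' * b, b * b', by rw [map_mul]; exact mul_ne_zero hb hb', by
        rw [map_add, map_mul, map_mul, map_mul, ← e, ← e']; ring⟩
    | mul y y' _ _ h h' =>
      obtain ⟨a, b, hb, e⟩ := h
      obtain ⟨a', b', hb', e'⟩ := h'
      exact ⟨a * a', b * b', by rw [map_mul]; exact mul_ne_zero hb hb', by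
        rw [map_mul, map_mul, ← e, ← e']; ring⟩
  have hsurj : Function.Surjective φ := by
    intro x
    obtain ⟨a, b, ha, hb, hb0, e⟩ := exists_den R K L M Ω hR hΩ 𝔪 A hA hSA hTA hcS hcT x
    obtain ⟨a₁, b₁, hb₁, e₁⟩ := hfrac a ha
    obtain ⟨a₂, b₂, hb₂, e₂⟩ := hfrac b hb
    have hq : x * φ (a₂ * b₁) = φ (a₁ * b₂) := by
      rw [map_mul, map_mul, ← e₂, ← e₁, ← e]; ring
    have hq0 : a₂ * b₁ ≠ 0 := fun h0 => by
      have : φ a₂ * φ b₁ = 0 := by rw [← map_mul, h0, map_zero]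
      rw [← e₂] at this
      exact mul_ne_zero (mul_ne_zero hb0 hb₂) hb₁ this
    let Th := EGA4.Cpl ↥(Subalgebra.comap (IsScalarTower.toAlgHom R M Ω) A)
    let FT := FractionRing Th
    let FA := FractionRing (EGA4.Cpl ↥A)
    let ι : FT →+* FA := IsFractionRing.map (A := Th) (B := EGA4.Cpl ↥A) hφ
    let q : FT := algebraMap Th FT (a₁ * b₂) / algebraMap Th FT (a₂ * b₁)
    have hιq : ι q = algebraMap (EGA4.Cpl ↥A) FA x := by
      have hι : ∀ z, ι (algebraMap Th FT z) = algebraMap (EGA4.Cpl ↥A) FA (φ z) := fun z =>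
        IsLocalization.map_eq _ _
      rw [map_div₀, hι, hι, div_eq_iff, ← map_mul, hq]
      exact fun h0 => hq0 (hφ (by rw [map_zero]; exact IsFractionRing.injective _ FA (h0.trans (map_zero _).symm)))
    have hint : IsIntegral Th q := by
      obtain ⟨P, hPm, hP⟩ := Algebra.IsIntegral.isIntegral (R := Th) x
      refine ⟨P, hPm, ι.injective ?_⟩
      rw [map_zero, Polynomial.hom_eval₂, hιq,
        show ι.comp (algebraMap Th FT) = (algebraMap (EGA4.Cpl ↥A) FA).comp φ from IsLocalization.map_comp _,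
        ← Polynomial.hom_eval₂, hP, map_zero]
    obtain ⟨y, hy⟩ := IsIntegrallyClosed.isIntegral_iff.1 hint
    refine ⟨y, IsFractionRing.injective (EGA4.Cpl ↥A) FA ?_⟩
    rw [← hιq, ← hy]
    exact (IsLocalization.map_eq _ _).symm
  have hloc : ∀ t, t ∈ maximalIdeal ↥(Subalgebra.comap (IsScalarTower.toAlgHom R M Ω) A) ↔
      algebraMap ↥(Subalgebra.comap (IsScalarTower.toAlgHom R M Ω) A) ↥A t ∈ maximalIdeal ↥A := fun t => by
    have hov : (maximalIdeal ↥A).LiesOver (maximalIdeal ↥(Subalgebra.comap (IsScalarTower.toAlgHom R M Ω) A)) := inferInstance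
    rw [hov.over]; rfl
  have hmap : ∀ a : ↥A, ∃ t, a - algebraMap ↥(Subalgebra.comap (IsScalarTower.toAlgHom R M Ω) A) ↥A t ∈
      (maximalIdeal ↥(Subalgebra.comap (IsScalarTower.toAlgHom R M Ω) A)).map
        (algebraMap ↥(Subalgebra.comap (IsScalarTower.toAlgHom R M Ω) A) ↥A) := by
    intro a
    obtain ⟨y, hy⟩ := hsurj (algebraMap ↥A (EGA4.Cpl ↥A) a)
    obtain ⟨t, ht⟩ := Submodule.Quotient.mk_surjective _ (y.val 1)
    refine ⟨t, ?_⟩
    have e : y - algebraMap ↥(Subalgebra.comap (IsScalarTower.toAlgHom R M Ω) A) _ t ∈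
        maximalIdeal ↥(Subalgebra.comap (IsScalarTower.toAlgHom R M Ω) A) ^ 1 •
          (⊤ : Submodule ↥(Subalgebra.comap (IsScalarTower.toAlgHom R M Ω) A) (EGA4.Cpl ↥(Subalgebra.comap (IsScalarTower.toAlgHom R M Ω) A))) := by
      rw [AdicCompletion.pow_smul_top_eq_ker_eval (IsNoetherian.noetherian _), LinearMap.mem_ker, map_sub, sub_eq_zero]
      exact ht.symm
    have e2 : algebraMap ↥A (EGA4.Cpl ↥A) (a - algebraMap ↥(Subalgebra.comap (IsScalarTower.toAlgHom R M Ω) A) ↥A t) ∈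
        ((maximalIdeal ↥(Subalgebra.comap (IsScalarTower.toAlgHom R M Ω) A)).map
          (algebraMap ↥(Subalgebra.comap (IsScalarTower.toAlgHom R M Ω) A) ↥A)).map (algebraMap ↥A (EGA4.Cpl ↥A)) := by
      rw [map_sub, ← hy, ← hcT, ← map_sub]
      rw [pow_one, Ideal.smul_top_eq_map] at e
      have := Ideal.mem_map_of_mem φ e
      rw [Ideal.map_map] at this
      rw [Ideal.map_map]
      convert this using 2
      exact RingHom.ext fun r => (hcT r).symm
    haveI : Module.Flat ↥A (EGA4.Cpl ↥A) := inferInstance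
    haveI : Module.FaithfullyFlat ↥A (EGA4.Cpl ↥A) := Module.FaithfullyFlat.of_flat_of_isLocalHom
    rw [← Ideal.mem_comap, Ideal.comap_map_eq_self_of_faithfullyFlat] at e2
    exact e2
  have hle : (maximalIdeal ↥(Subalgebra.comap (IsScalarTower.toAlgHom R M Ω) A)).map
      (algebraMap ↥(Subalgebra.comap (IsScalarTower.toAlgHom R M Ω) A) ↥A) ≤ maximalIdeal ↥A :=
    Ideal.map_le_iff_le_comap.2 fun t ht => (hloc t).1 ht
  have hs : Function.Surjective (algebraMap
      (↥(Subalgebra.comap (IsScalarTower.toAlgHom R M Ω) A) ⧸ maximalIdeal ↥(Subalgebra.comap (IsScalarTower.toAlgHom R M Ω) A))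
      (↥A ⧸ maximalIdeal ↥A)) := fun a => by
    obtain ⟨a, rfl⟩ := Ideal.Quotient.mk_surjective a
    obtain ⟨t, ht⟩ := hmap a
    exact ⟨Ideal.Quotient.mk _ t, (Ideal.Quotient.eq.2 (hle ht)).symm⟩
  refine ⟨le_antisymm hle fun a ha => ?_, Module.Finite.of_surjective (Algebra.linearMap _ _) hs,
    ⟨fun a => ?_⟩⟩
  · obtain ⟨t, ht⟩ := hmap a
    have : t ∈ maximalIdeal ↥(Subalgebra.comap (IsScalarTower.toAlgHom R M Ω) A) :=
      (hloc t).2 (by simpa using sub_mem ha (hle ht))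
    simpa using add_mem ht (Ideal.mem_map_of_mem
      (algebraMap ↥(Subalgebra.comap (IsScalarTower.toAlgHom R M Ω) A) ↥A) this)
  · obtain ⟨b, rfl⟩ := hs a
    letI := Ideal.Quotient.field (maximalIdeal ↥(Subalgebra.comap (IsScalarTower.toAlgHom R M Ω) A))
    exact isSeparable_algebraMap b

end Groth.Agent.S18537
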