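import Groth.Statements.S18538
import Mathlib.RingTheory.TensorProduct.IncludeLeftSubRight
import Mathlib.RingTheory.IntegralClosure.IntegrallyClosed
import Mathlib.RingTheory.Flat.FaithfullyFlat.Basic

set_option autoImplicit false
universe u
open EtAlg

namespace Groth.Agent.S18538

/-- Let A ⊆ B be an injective finite extension of integrally closed domains, with fraction fields K ⊆ L
and L separable over K. Then A → B → B ⊗_A B is exact, the second map being b ↦ b ⊗ 1 - 1 ⊗ b: every
element of B whose two images in B ⊗_A B agree comes from A. -/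
theorem result
    (A B K L : Type u) [CommRing A] [CommRing B] [IsDomain A] [IsDomain B]
    [IsIntegrallyClosed A] [IsIntegrallyClosed B] [Algebra A B] [FaithfulSMul A B] [Module.Finite A B]
    [Field K] [Field L] [Algebra A K] [IsFractionRing A K] [Algebra B L] [IsFractionRing B L]
    [Algebra K L] [Algebra A L] [IsScalarTower A K L] [IsScalarTower A B L]
    [Algebra.IsSeparable K L] :
    Algebra.IsEffective A B := by
  intro b
  refine ⟨fun hb => ?_, ?_⟩
  · rw [Algebra.TensorProduct.includeLeftSubRight_apply, sub_eq_zero] at hb
    let ψ : B →ₐ[A] L := IsScalarTower.toAlgHom A B L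
    let Ψ : TensorProduct A B B →+* TensorProduct K L L :=
      (Algebra.TensorProduct.productMap
        ((Algebra.TensorProduct.includeLeft : L →ₐ[K] TensorProduct K L L).restrictScalars A |>.comp ψ)
        ((Algebra.TensorProduct.includeRight : L →ₐ[K] TensorProduct K L L).restrictScalars A |>.comp ψ)).toRingHom
    have h1 := congrArg Ψ hb
    have h2 : (algebraMap B L b) ⊗ₜ[K] (1 : L) = (1 : L) ⊗ₜ[K] algebraMap B L b := by
      simpa [Ψ, ψ] using h1
    have heff : Algebra.IsEffective K L := Algebra.IsEffective.of_faithfullyFlat K L
    obtain ⟨k, hk⟩ := (heff (algebraMap B L b)).mp (by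
      rw [Algebra.TensorProduct.includeLeftSubRight_apply, h2, sub_self])
    have hint : IsIntegral A k := by
      rw [← isIntegral_algHom_iff (IsScalarTower.toAlgHom A K L) (algebraMap K L).injective]
      rw [show IsScalarTower.toAlgHom A K L k = algebraMap B L b from hk]
      exact (Algebra.IsIntegral.isIntegral b).map ψ
    obtain ⟨a, ha⟩ := IsIntegrallyClosed.isIntegral_iff.mp hint
    refine ⟨a, IsFractionRing.injective B L ?_⟩
    rw [← hk, ← ha]
    show algebraMap B L (algebraMap A B a) = algebraMap K L (algebraMap A K a)
    rw [← IsScalarTower.algebraMap_apply, ← IsScalarTower.algebraMap_apply]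
  · rintro ⟨a, rfl⟩
    exact Algebra.TensorProduct.includeLeftSubRight_algebraMap_zero a

end Groth.Agent.S18538
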