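import Groth.Statements.S18539
import Mathlib.RingTheory.Derivation.Basic
import Mathlib.RingTheory.Flat.Equalizer
import Mathlib.RingTheory.Henselian
import Mathlib.RingTheory.Regular.RegularSequence
import Mathlib.RingTheory.RegularLocalRing.Defs
import Mathlib.RingTheory.SimpleRing.Principal
import Mathlib.RingTheory.Flat.FaithfullyFlat.Algebra
import Mathlib.RingTheory.Ideal.AssociatedPrime.Basic
import Mathlib.RingTheory.HopkinsLevitzki
import Mathlib.RingTheory.Support
import Mathlib.Tactic
import Groth.Agent.CommAlg4.Basic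

set_option linter.all false

set_option autoImplicit false
universe u v w
open CAlg

open Groth.Agent.CommAlg4

namespace Groth.Agent.S18539

/-- For a commutative ring R, R-modules M and N and elements r₁, r₂ of R such that r₁ is a
non-zero-divisor on N and r₂ is a non-zero-divisor on N/r₁N, the element r₁ is a non-zero-divisor on
the module Hom_R(M, N) and r₂ is a non-zero-divisor on Hom_R(M, N)/r₁Hom_R(M, N). (Weak regularity
on both sides: no condition that the quotient by (r₁, r₂) is nonzero, which would fail for M = 0.) -/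
theorem result
    (R : Type u) [CommRing R] (M : Type v) (N : Type w)
    [AddCommGroup M] [Module R M] [AddCommGroup N] [Module R N]
    (r₁ r₂ : R) (h : RingTheory.Sequence.IsWeaklyRegular N [r₁, r₂]) :
    RingTheory.Sequence.IsWeaklyRegular (M →ₗ[R] N) [r₁, r₂] := by
  simp only [RingTheory.Sequence.isWeaklyRegular_cons_iff, RingTheory.Sequence.IsWeaklyRegular.nil, and_true] at h ⊢
  obtain ⟨h1, h2⟩ := h
  refine ⟨fun f g hfg => LinearMap.ext fun m => h1 (congrArg (fun l : M →ₗ[R] N => l m) hfg), ?_⟩
  rw [isSMulRegular_iff_right_eq_zero_of_smul] at h2 ⊢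
  intro x hx
  obtain ⟨f, rfl⟩ := Submodule.Quotient.mk_surjective _ x
  rw [← Submodule.Quotient.mk_smul, Submodule.Quotient.mk_eq_zero, Submodule.mem_smul_pointwise_iff_exists] at hx
  obtain ⟨g, -, hg⟩ := hx
  have : ∀ m, ∃ n, r₁ • n = f m := by
    intro m
    have h3 := h2 (Submodule.Quotient.mk (f m)) (by
      rw [← Submodule.Quotient.mk_smul, Submodule.Quotient.mk_eq_zero, Submodule.mem_smul_pointwise_iff_exists]
      exact ⟨g m, trivial, congrArg (fun l : M →ₗ[R] N => l m) hg⟩)
    rw [Submodule.Quotient.mk_eq_zero, Submodule.mem_smul_pointwise_iff_exists] at h3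
    obtain ⟨n, -, hn⟩ := h3
    exact ⟨n, hn⟩
  choose k hk using this
  let l : M →ₗ[R] N :=
    { toFun := k
      map_add' := fun a b => h1 (by simp [hk])
      map_smul' := fun c a => h1 (by simp [hk, smul_comm r₁ c]) }
  rw [Submodule.Quotient.mk_eq_zero, Submodule.mem_smul_pointwise_iff_exists]
  exact ⟨l, trivial, LinearMap.ext hk⟩

end Groth.Agent.S18539
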