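import Groth.Statements.S18541
import Groth.Agent.AbDualLib.Lambda
import Groth.Agent.AbCubeLib.FrobPull

set_option autoImplicit false
universe u
open CategoryTheory MonoidalCategory CartesianMonoidalCategory MonObj GrpObj AlgebraicGeometry
open AbVar

namespace Groth.Agent.S18541

/-- Let k be a finite field with q elements and A an abelian variety over k (a commutative group scheme
over k which is smooth and proper with geometrically connected fibres), given with a dual (A^t, φ)
for the fppf topology. Let π : A → A be the q-power Frobenius endomorphism of A (the identity on the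
underlying space and the q-th power map on sections; a homomorphism) and π^t : A^t → A^t a transpose
of π. Let L be an invertible module on A and λ_L : A → A^t the homomorphism Λ(L) attached to L
through φ. Then π followed by λ_L followed by π^t is q·λ_L, the q-th power of λ_L in the group of
morphisms A → A^t. (The published statement fixes L ample and reads π^‡ ∘ π = [q] for the Rosati
involution ‡ of L; its proof rewrites this as the displayed identity, which uses only that L is
invertible.) -/
theorem result (k : Type u) [Field k] [Finite k]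
    (A At : Over (Spec (CommRingCat.of k)))
    [GrpObj A] [IsCommMonObj A] [Smooth A.hom] [IsProper A.hom] [GeometricallyConnected A.hom]
    [GrpObj At] [IsCommMonObj At]
    (φ : AgPol.DualMap A At) (hdual : AbDual.IsDualAV Scheme.fppfPrecoverage A At φ)
    (π : A ⟶ A) [IsMonHom π] (hπb : π.left.base = 𝟙 _) (hπle : ∀ U : A.left.Opens, U ≤ π.left ⁻¹ᵁ U)
    (hπapp : ∀ (U : A.left.Opens) (s : Γ(A.left, U)), (π.left.appLE U U (hπle U)).hom s = s ^ Nat.card k)
    (πt : At ⟶ At) [IsMonHom πt] (hπt : AbDual.IsTranspose π φ φ πt)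
    (L : A.left.Modules) (hL : PicF.IsInvertible L) (lam : A ⟶ At) (hlam : AgPol.IsLambda A At φ L lam) :
    π ≫ lam ≫ πt = lam ^ Nat.card k := by
  obtain ⟨N, hN, ⟨iso⟩, hNlam⟩ := hlam
  let a : Groth.Agent.PicLib.PicM A.left := Groth.Agent.PicLib.PicM.of hL
  let n : Groth.Agent.PicLib.PicM (A ⊗ A).left := Groth.Agent.PicLib.PicM.of hN
  have hn : Groth.Agent.PicLib.PicM.pull μ[A].left a =
      n * Groth.Agent.PicLib.PicM.pull (fst A A).left a * Groth.Agent.PicLib.PicM.pull (snd A A).left a := by
    rw [Groth.Agent.PicLib.PicM.pull_of _ hL, Groth.Agent.PicLib.PicM.pull_of _ hL,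
      Groth.Agent.PicLib.PicM.pull_of _ hL, Groth.Agent.PicLib.PicM.of_mul, Groth.Agent.PicLib.PicM.of_mul]
    exact (Groth.Agent.PicLib.PicM.of_eq_iff _ _).2 ⟨iso.symm⟩
  have hπa : Groth.Agent.PicLib.PicM.pull π.left a = a ^ Nat.card k :=
    Groth.Agent.AbCubeLib.pull_eq_pow_of_powerMap π.left (Nat.card k) hπle hπapp a
  have hjn : ∀ j : ℕ, AbDual.IsPicZeroCl A.hom A (n ^ j).val := fun j =>
    Groth.Agent.AbDualLib.isPicZeroCl_lambda (a ^ j) (n ^ j) (by
      rw [map_pow, map_pow, map_pow, hn, mul_pow, mul_pow])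
  have hn0 : AbDual.IsPicZeroCl A.hom A n.val := by simpa using hjn 1
  have hpow : ∀ j : ℕ, φ A (n ^ j).val = lam ^ j := by
    intro j
    induction j with
    | zero =>
      have h := Groth.Agent.AbDualLib.phi_mul hdual (1 : Groth.Agent.PicLib.PicM (A ⊗ A).left) 1 (hjn 0) (hjn 0)
      rw [_root_.one_mul, left_eq_mul] at h
      simpa using h
    | succ j ih =>
      rw [pow_succ, Groth.Agent.AbDualLib.phi_mul hdual _ _ (hjn j) hn0, ih, pow_succ]
      exact congrArg (lam ^ j * ·) hNlam
  let c : Groth.Agent.PicLib.PicM (A ⊗ A).left :=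
    Groth.Agent.PicLib.PicM.pull (lift (fst A A) (snd A A ≫ π)).left n
  have hc : AbDual.IsPicZeroCl A.hom A c.val :=
    Groth.Agent.AbDualLib.isPicZeroCl_pb π _ (lift_snd _ _) hn0
  have h1 : φ A c.val = π ≫ lam := by
    rw [← hNlam]
    exact Groth.Agent.AbDualLib.phi_pb hdual π n hn0
  have h2 : Groth.Agent.PicLib.PicM.pull (AbDual.bcMap π A) c = n ^ Nat.card k := by
    rw [Groth.Agent.AbDualLib.pull_bcMap, Groth.Agent.AbDualLib.ev, Groth.Agent.PicLib.PicM.pull_pull,
      ← Over.comp_left, comp_lift, lift_fst, lift_snd_assoc]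
    have hμ : μ[A] = fst A A * snd A A := by rw [Hom.mul_def, lift_fst_snd, Category.id_comp]
    have h := congrArg (Groth.Agent.PicLib.PicM.pull (lift (fst A A ≫ π) (snd A A ≫ π)).left) hn
    rw [map_mul, map_mul, Groth.Agent.PicLib.PicM.pull_pull, Groth.Agent.PicLib.PicM.pull_pull,
      Groth.Agent.PicLib.PicM.pull_pull, ← Over.comp_left, ← Over.comp_left, ← Over.comp_left, lift_fst, lift_snd,
      hμ, MonObj.comp_mul, lift_fst, lift_snd, ← MonObj.mul_comp, ← hμ, Over.comp_left, Over.comp_left,
      Over.comp_left, ← Groth.Agent.PicLib.PicM.pull_pull, ← Groth.Agent.PicLib.PicM.pull_pull,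
      ← Groth.Agent.PicLib.PicM.pull_pull, hπa, map_pow, map_pow, map_pow, hn, mul_pow, mul_pow] at h
    exact ((Groth.Agent.PicLib.PicM.isUnit _).mul_left_inj.1
      ((Groth.Agent.PicLib.PicM.isUnit _).mul_left_inj.1 h)).symm
  have h3 := hπt A c.val hc
  rw [h1, Category.assoc] at h3
  rw [← h3, ← hpow]
  exact congrArg (φ A) (congrArg Groth.Agent.PicLib.PicM.val h2)

end Groth.Agent.S18541
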