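import Groth.Statements.S18543
import Groth.Agent.HopfQuot.CocommDiag
import Groth.Agent.HopfQuot.LinRedCrit
import Groth.Agent.HopfLib.GITPoints
import Mathlib.RingTheory.Etale.Field
import Mathlib.RingTheory.HopfAlgebra.Convolution
import Mathlib.Algebra.CharP.Algebra

set_option autoImplicit false
universe u
open Hopf

namespace Groth.Agent.S18543
open HopfRep Groth.Agent.HopfQuot Groth.Agent.HopfLib TensorProduct WithConv

/-- Let p be a prime number, k a field of characteristic p and A a finite-dimensional commutative,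
cocommutative Hopf algebra over k — the coordinate ring of a finite commutative group scheme G over
k — such that A is étale over k and dim_k A = p^n for some n (G is an étale group scheme of p-power
order). Then the Cartier dual A^∨ = Hom_k(A, k), with its convolution ring structure, is a local
ring; that is, the Cartier dual group scheme G^∨ = Spec A^∨ is infinitesimal (its underlying space
is a single point). -/
theorem result (p : ℕ) [Fact p.Prime]
    (k : Type u) [Field k] [CharP k p] (A : Type u) [CommRing A] [HopfAlgebra k A] [Coalgebra.IsCocomm k A]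
    [Module.Finite k A] [Algebra.Etale k A] (n : ℕ) (hA : Module.finrank k A = p ^ n) :
    IsLocalRing (CartDual.D k A) := by
  classical
  let K := AlgebraicClosure k
  let B := K ⊗[k] A
  haveI := isCocomm_baseChange (k := k) (A := A) (R := K)
  have : IsArtinianRing B := isArtinian_of_tower K inferInstance
  haveI : Nontrivial A := ⟨⟨1, 0, fun h => by
    simpa [h] using (Bialgebra.counit_one (R := k) (A := A)).symm⟩⟩
  haveI : Nontrivial B := ⟨⟨1, 0, fun h => by
    simpa [h] using (Bialgebra.counit_one (R := K) (A := B)).symm⟩⟩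
  let G := WithConv (B →ₐ[K] K)
  let e : B ≃ₐ[K] (PrimeSpectrum B → K) := Algebra.FormallyEtale.equivPiOfIsSepClosed K B
  let Φ : G → PrimeSpectrum B := fun g => ⟨RingHom.ker g.ofConv, RingHom.ker_isPrime _⟩
  have hΦ : Function.Bijective Φ := by
    refine ⟨fun g h hgh => ?_, fun P => ?_⟩
    · apply ofConv_injective
      refine AlgHom.ext fun x => ?_
      have hk : RingHom.ker g.ofConv = RingHom.ker h.ofConv := congrArg PrimeSpectrum.asIdeal hgh
      have hx : x - algebraMap K B (g.ofConv x) ∈ RingHom.ker g.ofConv := by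
        rw [RingHom.mem_ker, map_sub, AlgHom.commutes, Algebra.algebraMap_self, RingHom.id_apply, sub_self]
      rw [hk, RingHom.mem_ker, map_sub, AlgHom.commutes, Algebra.algebraMap_self, RingHom.id_apply, sub_eq_zero] at hx
      exact hx.symm
    · obtain ⟨x, hx⟩ := exists_algHom_le_ker (k := K) P.isPrime.ne_top
      have hPmax : P.asIdeal.IsMaximal := inferInstance
      exact ⟨toConv x, PrimeSpectrum.ext (hPmax.eq_of_le (RingHom.ker_ne_top _) hx).symm⟩
  have : Finite G := Finite.of_injective Φ hΦ.1
  have : Fintype (PrimeSpectrum B) := Fintype.ofFinite _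
  have hcard : Nat.card G = p ^ n := by
    rw [Nat.card_eq_of_bijective Φ hΦ, ← hA, ← Module.finrank_baseChange (R := K) (S := k) (M' := A),
      e.toLinearEquiv.finrank_eq, Module.finrank_fintype_fun_eq_card, Nat.card_eq_fintype_card]
  have hexp : ∀ g : G, g ^ p ^ n = 1 := fun g => by rw [← hcard]; exact pow_card_eq_one'
  -- points as linear forms
  let S := WithConv (B →ₗ[K] K)
  haveI : CharP K p := charP_of_injective_algebraMap (algebraMap k K).injective p
  haveI : Nontrivial S := ⟨⟨1, 0, fun h => by
    have h1 := congrArg (fun φ : S => φ.ofConv (1 : B)) h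
    exact one_ne_zero ((Bialgebra.counit_one (R := K) (A := B)).symm.trans h1)⟩⟩
  haveI : CharP S p := charP_of_injective_algebraMap (algebraMap K S).injective p
  let toS : G → S := fun g => toConv g.ofConv.toLinearMap
  have htoS : ∀ (g : G) (m : ℕ), toS (g ^ m) = toS g ^ m := by
    intro g m
    induction m with
    | zero => rw [pow_zero, pow_zero]; rfl
    | succ m ih => rw [pow_succ, pow_succ, ← ih]; rfl
  have hspan : ∀ ψ : S, ∃ c : PrimeSpectrum B → K, ∃ g : PrimeSpectrum B → G, ψ = ∑ P, c P • toS (g P) := by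
    intro ψ
    refine ⟨fun P => ψ.ofConv (e.symm (Pi.single P 1)),
      fun P => toConv ((Pi.evalAlgHom K (fun _ => K) P).comp e.toAlgHom), ofConv_injective (LinearMap.ext fun x => ?_)⟩
    obtain ⟨y, rfl⟩ := e.symm.surjective x
    rw [show (∑ P, ψ.ofConv (e.symm (Pi.single P 1)) •
        toS (toConv ((Pi.evalAlgHom K (fun _ => K) P).comp e.toAlgHom))).ofConv =
      ∑ P, ψ.ofConv (e.symm (Pi.single P 1)) • ((Pi.evalAlgHom K (fun _ => K) P).comp e.toAlgHom).toLinearMap from by
        rw [WithConv.ofConv_sum]; rfl]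
    rw [LinearMap.sum_apply]
    conv_lhs => rw [← Finset.univ_sum_single y, map_sum, map_sum]
    refine Finset.sum_congr rfl fun P _ => ?_
    rw [LinearMap.smul_apply, AlgHom.toLinearMap_apply, AlgHom.comp_apply]
    rw [show Pi.single P (y P) = y P • (Pi.single P (1 : K) : PrimeSpectrum B → K) by rw [← Pi.single_smul, smul_eq_mul, mul_one],
      map_smul, map_smul, AlgEquiv.toAlgHom_eq_coe, AlgEquiv.coe_toAlgHom, e.apply_symm_apply, smul_eq_mul,
      smul_eq_mul, mul_comm, Pi.evalAlgHom_apply]
  -- forms killing one are nilpotent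
  let bc : (A →ₗ[k] k) → S := fun φ => toConv ((AlgebraTensorModule.rid k K K).toLinearMap ∘ₗ φ.baseChange K)
  have hbc_mul : ∀ φ ψ : A →ₗ[k] k, bc (formMul φ ψ) = bc φ * bc ψ := by
    intro φ ψ
    refine ofConv_injective (TensorProduct.AlgebraTensorModule.curry_injective (LinearMap.ext_ring (LinearMap.ext fun a => ?_)))
    show ((AlgebraTensorModule.rid k K K).toLinearMap ∘ₗ (formMul φ ψ).baseChange K) ((1 : K) ⊗ₜ[k] a) =
      formMul ((AlgebraTensorModule.rid k K K).toLinearMap ∘ₗ φ.baseChange K)
        ((AlgebraTensorModule.rid k K K).toLinearMap ∘ₗ ψ.baseChange K) ((1 : K) ⊗ₜ[k] a)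
    simp only [formMul, LinearMap.comp_apply, comul_one_tmul, LinearMap.baseChange_tmul]
    generalize CoalgebraStruct.comul (R := k) a = t
    induction t using TensorProduct.induction_on with
    | zero => simp
    | add x y hx hy => simp only [map_add, TensorProduct.tmul_add, hx, hy]
    | tmul x y => simp [Algebra.smul_def]
  have hbc1 : ∀ (ψ : A →ₗ[k] k) (a : A), (bc ψ).ofConv ((1 : K) ⊗ₜ[k] a) = algebraMap k K (ψ a) := by
    intro ψ a
    show (AlgebraTensorModule.rid k K K) ((LinearMap.baseChange K ψ) ((1 : K) ⊗ₜ[k] a)) = _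
    rw [LinearMap.baseChange_tmul, AlgebraTensorModule.rid_tmul, Algebra.algebraMap_eq_smul_one]
  have hnil : ∀ φ : CartDual.D k A, φ.ofConv 1 = 0 → IsNilpotent φ := by
    intro φ hφ
    refine ⟨p ^ n, ?_⟩
    have hpow : ∀ m, bc (φ ^ m).ofConv = bc φ.ofConv ^ m := by
      intro m
      induction m with
      | zero =>
        rw [pow_zero, pow_zero]
        refine ofConv_injective (TensorProduct.AlgebraTensorModule.curry_injective (LinearMap.ext_ring (LinearMap.ext fun a => ?_)))
        show ((AlgebraTensorModule.rid k K K).toLinearMap ∘ₗ (CoalgebraStruct.counit (R := k) (A := A)).baseChange K) ((1 : K) ⊗ₜ[k] a) =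
          CoalgebraStruct.counit (R := K) ((1 : K) ⊗ₜ[k] a)
        simp
      | succ m ih => rw [pow_succ, pow_succ, ← ih, ← hbc_mul]; rfl
    have hzero : bc φ.ofConv ^ p ^ n = 0 := by
      obtain ⟨c, g, hcg⟩ := hspan (bc φ.ofConv)
      have hc : ∑ P, c P = 0 := by
        have h1 := congrArg (fun ψ : S => ψ.ofConv (1 : B)) hcg
        have h2 : (bc φ.ofConv).ofConv (1 : B) = 0 := by
          show ((AlgebraTensorModule.rid k K K).toLinearMap ∘ₗ φ.ofConv.baseChange K) ((1 : K) ⊗ₜ[k] (1 : A)) = 0
          simp [hφ]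
        rw [h2, WithConv.ofConv_sum, LinearMap.sum_apply] at h1
        rw [h1]
        refine Finset.sum_congr rfl fun P _ => ?_
        show c P = c P • (g P).ofConv (1 : B)
        rw [map_one, smul_eq_mul, mul_one]
      rw [hcg, sum_pow_char_pow, Finset.sum_congr rfl (fun P _ => show (c P • toS (g P)) ^ p ^ n = c P ^ p ^ n • (1 : S) from by
        rw [smul_pow, ← htoS, hexp]; rfl), ← Finset.sum_smul, ← sum_pow_char_pow, hc,
        zero_pow (pow_ne_zero _ (Fact.out : p.Prime).ne_zero), zero_smul]
    rw [← hpow] at hzero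
    refine ofConv_injective (LinearMap.ext fun a => (algebraMap k K).injective ?_)
    have h := LinearMap.congr_fun (congrArg WithConv.ofConv hzero) ((1 : K) ⊗ₜ[k] a)
    show algebraMap k K _ = algebraMap k K 0
    rw [map_zero]
    exact ((hbc1 (φ ^ p ^ n).ofConv a).symm.trans h)
  haveI : Nontrivial (CartDual.D k A) := ⟨⟨1, 0, fun h => by
    have h1 := congrArg (fun φ : CartDual.D k A => φ.ofConv (1 : A)) h
    exact one_ne_zero ((Bialgebra.counit_one (R := k) (A := A)).symm.trans h1)⟩⟩
  refine IsLocalRing.of_isUnit_or_isUnit_one_sub_self fun φ => ?_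
  by_cases hφ : φ.ofConv 1 = 0
  · exact Or.inr (hnil φ hφ).isUnit_one_sub
  · left
    have h2 : IsNilpotent ((φ.ofConv 1)⁻¹ • φ - 1) := hnil _ (by
      show (φ.ofConv 1)⁻¹ • φ.ofConv 1 - CoalgebraStruct.counit (R := k) (1 : A) = 0
      rw [Bialgebra.counit_one, smul_eq_mul, inv_mul_cancel₀ hφ, sub_self])
    have h3 := h2.isUnit_one_add
    rw [add_sub_cancel, ← Units.smul_mk0 (inv_ne_zero hφ), isUnit_smul_iff] at h3
    exact h3

end Groth.Agent.S18543
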