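import Groth.Statements.S18544
import Mathlib.Algebra.Algebra.Rat
import Mathlib.Algebra.MvPolynomial.Funext
import Mathlib.Algebra.Order.Ring.Star
import Mathlib.Algebra.Ring.IsFormallyReal
import Mathlib.Data.Rat.Star
import Mathlib.LinearAlgebra.Charpoly.Basic
import Mathlib.LinearAlgebra.FreeModule.PID
import Mathlib.RingTheory.AdicCompletion.AsTensorProduct
import Mathlib.RingTheory.AdicCompletion.Noetherian
import Mathlib.RingTheory.Adjoin.PowerBasis
import Mathlib.RingTheory.Etale.Field
import Mathlib.RingTheory.Flat.TorsionFree
import Mathlib.RingTheory.Henselian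
import Mathlib.RingTheory.Polynomial.GaussLemma
import Mathlib.RingTheory.PowerSeries.NoZeroDivisors
import Mathlib.RingTheory.RegularLocalRing.Defs
import Mathlib.RingTheory.SimpleRing.Principal
import Mathlib.Tactic

set_option linter.all false

set_option autoImplicit false
universe u
open CAlg

open scoped TensorProduct

namespace Groth.Agent.S18544

/-- Let F be an algebraically closed field of characteristic zero, n a natural number, and N a nonzero
polynomial over F in the n² matrix entries whose evaluation on n × n matrices is multiplicative,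
N(xy) = N(x)·N(y) for all x, y (a norm form on the matrix algebra M_n(F) over F). Then N is a
natural power of the determinant: for some m, N(x) = det(x)^m for every matrix x. The published
statement concerns norm forms of any central simple algebra over a subfield; this row is the case of
the full matrix algebra over an algebraically closed field, which is the case its proof treats. -/
theorem result (F : Type u) [Field F] [IsAlgClosed F]
    [CharZero F] (n : ℕ) (N : MvPolynomial (Fin n × Fin n) F) (hN : N ≠ 0)
    (hmul : ∀ x y : Matrix (Fin n) (Fin n) F,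
      MvPolynomial.eval (fun ij : Fin n × Fin n => (x * y) ij.1 ij.2) N =
        MvPolynomial.eval (fun ij : Fin n × Fin n => x ij.1 ij.2) N * MvPolynomial.eval (fun ij : Fin n × Fin n => y ij.1 ij.2) N) :
    ∃ m : ℕ, ∀ x : Matrix (Fin n) (Fin n) F,
      MvPolynomial.eval (fun ij : Fin n × Fin n => x ij.1 ij.2) N = x.det ^ m := by
  classical
  open Polynomial in
  let ν : Matrix (Fin n) (Fin n) F → F := fun x => MvPolynomial.eval (fun ij : Fin n × Fin n => x ij.1 ij.2) N
  have hν : ∀ x y, ν (x * y) = ν x * ν y := hmul
  have hν1 : ν 1 = 1 := by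
    have h := hν 1 1
    rw [one_mul] at h
    rcases eq_or_ne (ν 1) 0 with h0 | h0
    · exfalso; apply hN
      apply MvPolynomial.funext
      intro v
      have := hν (Matrix.of fun i j => v (i, j)) 1
      rw [mul_one, h0, mul_zero] at this
      simpa [ν] using this
    · exact (mul_left_cancel₀ h0 (by rw [← h, mul_one])).symm
  -- polynomial curves
  have curve : ∀ g : Fin n × Fin n → F[X], ∃ f : F[X], ∀ c : F, f.eval c = ν (Matrix.of fun i j => (g (i, j)).eval c) := by
    intro g
    refine ⟨MvPolynomial.eval₂ Polynomial.C g N, fun c => ?_⟩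
    show (Polynomial.evalRingHom c) _ = _
    rw [MvPolynomial.eval₂_comp_left (Polynomial.evalRingHom c)]
    show MvPolynomial.eval₂ _ _ N = MvPolynomial.eval₂ (RingHom.id F) _ N
    congr 1
    · ext; simp
  have htr : ∀ t : Matrix.TransvectionStruct (Fin n) F, ν t.toMatrix = 1 := by
    intro t
    obtain ⟨f, hf⟩ := curve fun ij => Polynomial.C ((1 : Matrix (Fin n) (Fin n) F) ij.1 ij.2) + Polynomial.C (Matrix.single t.i t.j (1 : F) ij.1 ij.2) * X
    have hf' : ∀ c, f.eval c = ν (Matrix.transvection t.i t.j c) := by
      intro c; rw [hf]; congr 1; ext i j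
      simp [Matrix.transvection, Matrix.single_apply, apply_ite (Polynomial.eval c)]
    have h00 : f.eval 0 = 1 := by rw [hf', Matrix.transvection_zero, hν1]
    have hdbl : f.comp (Polynomial.C 2 * X) = f ^ 2 := by
      apply Polynomial.funext
      intro c
      rw [eval_comp, eval_pow, hf', hf', eval_mul, eval_C, eval_X, two_mul,
        ← Matrix.transvection_mul_transvection_same t.i t.j t.hij, hν, sq]
    have hd := congrArg Polynomial.natDegree hdbl
    rw [natDegree_comp, natDegree_pow, natDegree_C_mul_X _ (two_ne_zero), mul_one] at hd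
    have hfC : f = Polynomial.C (f.coeff 0) := Polynomial.eq_C_of_natDegree_eq_zero (by omega)
    show ν (Matrix.transvection t.i t.j t.c) = 1
    rw [← hf', hfC, eval_C, coeff_zero_eq_eval_zero, h00]
  rcases Nat.eq_zero_or_pos n with rfl | hn
  · exact ⟨0, fun x => by rw [pow_zero, ← hν1]; show ν x = ν 1; congr 1; exact Subsingleton.elim _ _⟩
  let i₀ : Fin n := ⟨0, hn⟩
  let D₁ : Fin n → F → Matrix (Fin n) (Fin n) F := fun i c => Matrix.diagonal (Function.update (fun _ => (1 : F)) i c)
  obtain ⟨f, hf⟩ := curve fun ij => if ij.1 = ij.2 then (if ij.1 = i₀ then X else 1) else 0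
  have hf' : ∀ c, f.eval c = ν (D₁ i₀ c) := by
    intro c; rw [hf]; congr 1; ext i j
    by_cases hij : i = j
    · subst hij; by_cases hi : i = i₀ <;> simp [D₁, hi]
    · simp [D₁, hij]
  have hfm : ∀ a b, f.eval (a * b) = f.eval a * f.eval b := by
    intro a b
    rw [hf', hf', hf', ← hν]
    congr 1
    simp only [D₁, Matrix.diagonal_mul_diagonal]
    congr 1; ext i; by_cases hi : i = i₀ <;> simp [hi]
  have hf1 : f.eval 1 = 1 := by
    rw [hf']; convert hν1 using 2; simp [D₁]
  have hf0 : f ≠ 0 := fun h => by simp [h] at hf1
  obtain ⟨m, hm⟩ : ∃ m, f.coeff m ≠ 0 := by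
    by_contra! h; exact hf0 (Polynomial.ext (by simpa using h))
  have hfeq : ∀ a, f.eval a = a ^ m := by
    intro a
    have h : f.comp (Polynomial.C a * X) = Polynomial.C (f.eval a) * f := by
      apply Polynomial.funext; intro c
      simp [hfm]
    have := congrArg (fun q => Polynomial.coeff q m) h
    simp only [comp_C_mul_X_coeff, coeff_C_mul] at this
    exact mul_right_cancel₀ hm (by linear_combination -this)
  have hsingle : ∀ i c, ν (D₁ i c) = c ^ m := by
    intro i c
    let σ := Equiv.swap i₀ i
    let Pm : Matrix (Fin n) (Fin n) F := (1 : Matrix (Fin n) (Fin n) F).submatrix σ id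
    let Pm' : Matrix (Fin n) (Fin n) F := (1 : Matrix (Fin n) (Fin n) F).submatrix id σ
    have h1 : Pm * Pm' = 1 := by
      ext a b; simp [Pm, Pm', Matrix.mul_apply, Matrix.one_apply]
    have h2 : D₁ i c = Pm * D₁ i₀ c * Pm' := by
      ext a b
      have e1 : σ a = σ b ↔ a = b := σ.injective.eq_iff
      have e2 : σ a = i₀ ↔ a = i := by simp [σ, Equiv.swap_apply_eq_iff]
      simp [Pm, Pm', D₁, Matrix.mul_apply, Matrix.one_apply, Matrix.diagonal_apply, Function.update_apply, e1, e2]
      have e3 : σ b = i₀ ↔ b = i := by simp [σ, Equiv.swap_apply_eq_iff]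
      simp only [e3]; split_ifs <;> simp_all
    rw [h2, hν, hν, mul_right_comm, ← hν, h1, hν1, one_mul, ← hf', hfeq]
  refine ⟨m, fun x => ?_⟩
  show ν x = x.det ^ m
  induction x using Matrix.diagonal_transvection_induction with
  | hdiag D _ =>
    have : ∀ s : Finset (Fin n), ν (Matrix.diagonal fun i => if i ∈ s then D i else 1) = (∏ i ∈ s, D i) ^ m := by
      intro s
      induction s using Finset.induction_on with
      | empty => simpa using hν1
      | insert a s ha ih =>
        rw [Finset.prod_insert ha, mul_pow, ← ih, ← hsingle a (D a), ← hν]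
        congr 1
        simp only [D₁, Matrix.diagonal_mul_diagonal]
        congr 1; ext i
        by_cases hi : i = a
        · subst hi; simp [ha]
        · simp [hi]
    simpa [Matrix.det_diagonal] using this Finset.univ
  | htransvec t => rw [htr, Matrix.TransvectionStruct.det, one_pow]
  | hmul A B hA hB => rw [hν, hA, hB, Matrix.det_mul, mul_pow]

end Groth.Agent.S18544
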