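import Groth.Statements.S18545
import Mathlib.LinearAlgebra.BilinearForm.Orthogonal
import Mathlib.LinearAlgebra.FiniteDimensional.Basic

set_option autoImplicit false
universe u
open AbVar

namespace Groth.Agent.S18545

/-- A step in the proof of Tate's isogeny result over finite fields, in linear-algebra form. Let K be a
field and V a K-vector space of finite dimension 2g carrying a nondegenerate alternating bilinear
form e. Let F be a K-subalgebra of End(V) which is isomorphic as a K-algebra to a finite product K ×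
⋯ × K and which is spanned over K by a set S of similitudes of e (for each s in S there is a nonzero
scalar c with e(s x, s y) = c·e(x, y) for all x, y). Let D be a set of endomorphisms of V such that
every F-stable isotropic subspace W of dimension g (a maximal isotropic subspace) is D-stable. Then
every F-stable isotropic subspace of V is D-stable. (In the application V is the rational ℓ-adic
Tate module of an abelian variety over a finite field with the Riemann form of a polarisation, F the
algebra generated by the Galois group, split for the chosen ℓ, and D the commutant of the image of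
the endomorphism algebra; the hypothesis on maximal isotropic subspaces is the step obtained from
the finiteness of isomorphism classes.) -/
theorem result (K : Type u) [Field K]
    (V : Type u) [AddCommGroup V] [Module K V] [FiniteDimensional K V] (g : ℕ) (hV : Module.finrank K V = 2 * g)
    (e : LinearMap.BilinForm K V) (he : e.IsAlt) (hnd : e.Nondegenerate)
    (F : Subalgebra K (Module.End K V)) (r : ℕ) (hF : Nonempty (F ≃ₐ[K] (Fin r → K)))
    (S : Set (Module.End K V)) (hS : Submodule.span K S = Subalgebra.toSubmodule F)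
    (hsim : ∀ s ∈ S, ∃ c : K, c ≠ 0 ∧ ∀ x y : V, e (s x) (s y) = c * e x y)
    (D : Set (Module.End K V))
    (hmax : ∀ W : Submodule K V, (∀ f ∈ F, ∀ w ∈ W, f w ∈ W) → (∀ x ∈ W, ∀ y ∈ W, e x y = 0) →
      Module.finrank K W = g → ∀ d ∈ D, ∀ w ∈ W, d w ∈ W)
    (W : Submodule K V) (hWF : ∀ f ∈ F, ∀ w ∈ W, f w ∈ W) (hWiso : ∀ x ∈ W, ∀ y ∈ W, e x y = 0) :
    ∀ d ∈ D, ∀ w ∈ W, d w ∈ W := by
  classical
  obtain ⟨φ⟩ := hF
  let ε : Fin r → F := fun i => φ.symm (Pi.single i 1)
  -- an element pairing nontrivially inside a stable subspace may be chosen to be an eigenvector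
  have heig : ∀ U : Submodule K V, (∀ f ∈ F, ∀ w ∈ U, f w ∈ U) → ∀ (L : V →ₗ[K] K) u, u ∈ U → L u ≠ 0 →
      ∃ y ∈ U, L y ≠ 0 ∧ ∀ f ∈ F, ∃ c : K, f y = c • y := by
    intro U hU L u hu hLu
    have hsum : ∑ i, (ε i : Module.End K V) u = u := by
      have : (∑ i, ε i) = 1 := by
        apply φ.injective
        simp only [ε, map_sum, map_one, AlgEquiv.apply_symm_apply]
        exact Finset.univ_sum_single (1 : Fin r → K)
      have h2 : (∑ i, (ε i : Module.End K V)) = 1 := by
        rw [← AddSubmonoidClass.coe_finsetSum, this]; rfl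
      rw [← LinearMap.sum_apply, h2]
      rfl
    obtain ⟨i, hi⟩ : ∃ i, L ((ε i : Module.End K V) u) ≠ 0 := by
      by_contra hc
      push Not at hc
      rw [← hsum, map_sum, Finset.sum_eq_zero (fun i _ => hc i)] at hLu
      exact hLu rfl
    refine ⟨_, hU _ (ε i).2 u hu, hi, fun f hf => ⟨φ ⟨f, hf⟩ i, ?_⟩⟩
    have : (⟨f, hf⟩ : F) * ε i = φ ⟨f, hf⟩ i • ε i := by
      apply φ.injective
      rw [map_mul, map_smul, AlgEquiv.apply_symm_apply]
      funext j
      rcases eq_or_ne j i with rfl | hji
      · simp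
      · simp [hji]
    exact congrArg (fun g : F => (g : Module.End K V) u) this
  have hperp : ∀ U : Submodule K V, (∀ f ∈ F, ∀ w ∈ U, f w ∈ U) → ∀ f ∈ F, ∀ x ∈ e.orthogonal U, f x ∈ e.orthogonal U := by
    intro U hU f hf x hx
    have hfS : f ∈ Submodule.span K S := hS ▸ hf
    induction hfS using Submodule.span_induction with
    | mem s hs =>
      obtain ⟨c, hc, hsc⟩ := hsim s hs
      have hinj : Function.Injective s := by
        rw [← LinearMap.ker_eq_bot, Submodule.eq_bot_iff]
        intro z hz
        refine hnd.1 z fun w => ?_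
        have := hsc z w
        rw [LinearMap.mem_ker.1 hz, map_zero, LinearMap.zero_apply] at this
        exact (mul_eq_zero.1 this.symm).resolve_left hc
      intro n hn
      have hsU : ∀ w ∈ U, s w ∈ U := hU s (by rw [← Subalgebra.mem_toSubmodule, ← hS]; exact Submodule.subset_span hs)
      obtain ⟨⟨n', hn'⟩, hnn'⟩ := (LinearMap.injective_iff_surjective (f := s.restrict hsU)).1
        (fun a b h => Subtype.ext (hinj (congrArg Subtype.val h))) ⟨n, hn⟩
      have hnn : s n' = n := congrArg Subtype.val hnn'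
      have h0 : e n' x = 0 := hx n' hn'
      show e n (s x) = 0
      rw [← hnn, hsc, h0, mul_zero]
    | zero => simp
    | add a b ha hb iha ihb =>
      have ha' : a ∈ F := by rw [← Subalgebra.mem_toSubmodule, ← hS]; exact ha
      have hb' : b ∈ F := by rw [← Subalgebra.mem_toSubmodule, ← hS]; exact hb
      exact Submodule.add_mem _ (iha ha') (ihb hb')
    | smul c a ha iha =>
      have ha' : a ∈ F := by rw [← Subalgebra.mem_toSubmodule, ← hS]; exact ha
      exact Submodule.smul_mem _ c (iha ha')
  let good : Submodule K V → Prop := fun U => (∀ f ∈ F, ∀ w ∈ U, f w ∈ U) ∧ ∀ x ∈ U, ∀ y ∈ U, e x y = 0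
  have hadd : ∀ U y, good U → y ∈ e.orthogonal U → (∀ f ∈ F, ∃ c : K, f y = c • y) → good (U ⊔ K ∙ y) := by
    intro U y hU hy hey
    refine ⟨fun f hf w hw => ?_, fun a ha b hb => ?_⟩
    · obtain ⟨u, hu, t, ht, rfl⟩ := Submodule.mem_sup.1 hw
      obtain ⟨d, rfl⟩ := Submodule.mem_span_singleton.1 ht
      obtain ⟨c, hc⟩ := hey f hf
      rw [map_add, map_smul, hc]
      exact Submodule.add_mem _ (Submodule.mem_sup_left (hU.1 f hf u hu))
        (Submodule.mem_sup_right (Submodule.smul_mem _ _ (Submodule.smul_mem _ _ (Submodule.mem_span_singleton_self y))))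
    · obtain ⟨u, hu, t, ht, rfl⟩ := Submodule.mem_sup.1 ha
      obtain ⟨d, rfl⟩ := Submodule.mem_span_singleton.1 ht
      obtain ⟨u', hu', t', ht', rfl⟩ := Submodule.mem_sup.1 hb
      obtain ⟨d', rfl⟩ := Submodule.mem_span_singleton.1 ht'
      have e1 : e u y = 0 := hy u hu
      have e2 : e y u' = 0 := he.isRefl u' y (hy u' hu')
      simp only [map_add, map_smul, LinearMap.add_apply, LinearMap.smul_apply, smul_eq_mul, hU.2 u hu u' hu', e1, e2,
        he y, mul_zero, add_zero]
  have hext : ∀ U, good U → ∃ L, U ≤ L ∧ good L ∧ Module.finrank K L = g := by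
    intro U hU
    obtain ⟨L, ⟨hUL, hL⟩, hmaxL⟩ := WellFounded.has_min (r := ((· > ·) : Submodule K V → Submodule K V → Prop))
      wellFounded_gt {L | U ≤ L ∧ good L} ⟨U, le_rfl, hU⟩
    refine ⟨L, hUL, hL, ?_⟩
    have hLL : e.orthogonal L = L := by
      refine le_antisymm ?_ fun x hx n hn => hL.2 n hn x hx
      intro x hx
      by_contra hxL
      obtain ⟨ψ, hψ1, hψ2⟩ := Submodule.exists_dual_map_eq_bot_of_notMem hxL inferInstance
      obtain ⟨y, hy, hy0, hey⟩ := heig _ (hperp L hL.1) ψ x hx hψ1
      refine hmaxL _ ⟨hUL.trans le_sup_left, hadd L y hL hy hey⟩ (lt_of_le_of_ne le_sup_left fun h => hy0 ?_)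
      have hyL : y ∈ L := h.symm ▸ Submodule.mem_sup_right (Submodule.mem_span_singleton_self y)
      exact LinearMap.le_ker_iff_map.2 hψ2 hyL
    have := LinearMap.BilinForm.finrank_orthogonal hnd L
    rw [hLL] at this
    omega
  intro d hd w hw
  by_contra hx
  obtain ⟨L₀, hWL₀, hL₀, hfin₀⟩ := hext W ⟨hWF, hWiso⟩
  have hx₀ : d w ∈ L₀ := hmax L₀ hL₀.1 hL₀.2 hfin₀ d hd w (hWL₀ hw)
  have hxperp : d w ∈ e.orthogonal W := fun n hn => hL₀.2 n (hWL₀ hn) _ hx₀
  obtain ⟨u, hu, hxu⟩ : ∃ u ∈ e.orthogonal W, e (d w) u ≠ 0 := by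
    by_contra hc
    push Not at hc
    apply hx
    rw [← LinearMap.BilinForm.orthogonal_orthogonal hnd he.isRefl W]
    exact fun n hn => he.isRefl (d w) n (hc n hn)
  obtain ⟨y, hy, hy0, hey⟩ := heig _ (hperp W hWF) (e (d w)) u hu hxu
  obtain ⟨L, hWL, hL, hfin⟩ := hext _ (hadd W y ⟨hWF, hWiso⟩ hy hey)
  exact hy0 (hL.2 _ (hmax L hL.1 hL.2 hfin d hd w (hWL (Submodule.mem_sup_left hw))) _
    (hWL (Submodule.mem_sup_right (Submodule.mem_span_singleton_self y))))

end Groth.Agent.S18545
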