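import Groth.Statements.S18550
import Groth.Agent.DCat.Trunc
import Mathlib.CategoryTheory.Functor.OfSequence

set_option autoImplicit false
set_option backward.isDefEq.respectTransparency false
set_option backward.defeqAttrib.useBackward true
open CategoryTheory Limits
universe w v u
open CohDer

namespace Groth.Agent.S18550

/-- Let A be an abelian category, X an object of its derived category whose cohomology objects H^i(X)
are zero for all integers i outside the interval [a, a + n], and f : X → X an endomorphism in the
derived category such that H^i(f) = 0 for every i. Then f^(n+1) = 0. (The source works in the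
bounded derived category; the statement in D(A) for an object with cohomology bounded in this way is
the same assertion, the bounded derived category being a full subcategory.) -/
theorem result (A : Type u) [Category.{v} A] [Abelian A]
    [HasDerivedCategory.{w} A] (X : DerivedCategory A) (a : ℤ) (n : ℕ)
    (hX : ∀ i : ℤ, i < a ∨ a + n < i → IsZero ((DerivedCategory.homologyFunctor A i).obj X))
    (f : CategoryTheory.End X) (hf : ∀ i : ℤ, (DerivedCategory.homologyFunctor A i).map f = 0) :
    f ^ (n + 1) = 0 := by
  let K : ℕ ⥤ DerivedCategory A := Functor.ofSequence (fun _ => f.asHom)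
  have hm : ∀ m : ℕ, K.map (homOfLE (Nat.zero_le m)) = (f ^ m).asHom := by
    intro m
    induction m with
    | zero => exact K.map_id 0
    | succ m ih =>
      rw [← homOfLE_comp (Nat.zero_le m) (Nat.le_succ m), Functor.map_comp, ih,
        Functor.ofSequence_map_homOfLE_succ, pow_succ']
      rfl
  have hGE : X.IsGE a := (DerivedCategory.isGE_iff X a).2 fun i hi => hX i (Or.inl hi)
  have hLE : X.IsLE (a + n) := (DerivedCategory.isLE_iff X _).2 fun i hi => hX i (Or.inr hi)
  have := DCat.comp_chain_eq_zero n a K (fun _ _ => hGE) (fun _ _ => hLE) (fun i _ q => by
    rw [Functor.ofSequence_map_homOfLE_succ]; exact hf q)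
  exact (hm (n + 1)).symm.trans this


end Groth.Agent.S18550
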