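import Groth.Statements.S18555
import Groth.Agent.EtASLib.ProperFinite
import Groth.Agent.EtGabber.TorsorSection
import Groth.Agent.CAlgH.PLinearDecomp

set_option linter.style.haveILetI false
-- import your own Groth.Agent.* helpers here

set_option autoImplicit false
set_option backward.isDefEq.respectTransparency false
set_option backward.isDefEq.respectTransparency.types false
set_option linter.style.haveILetI false
set_option synthInstance.maxHeartbeats 400000
set_option maxHeartbeats 1000000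
universe u
open FrobSch

namespace Groth.Agent.S18555

open AlgebraicGeometry CategoryTheory CategoryTheory.Limits CategoryTheory.Abelian Opposite
open Groth.Agent Groth.Agent.EtASLib Groth.Agent.Desc19b.EtQCoh

theorem zeta_frob {X : Scheme.{u}} (p : ℕ) [Fact p.Prime] [FrobSch.IsCharP X p] [EtZar.ZarCont X]
    (h0 : (p : Γ(X, ⊤)) = 0) :
    (lift X).map (W4c5isocrystsimpconn.frobAb X p) ≫ zeta.hom =
      zeta.hom ≫ (EtZar.resZar X).map (frobMap p h0) := by
  apply Sheaf.hom_ext
  refine NatTrans.ext (funext fun U => ConcreteCategory.hom_ext _ _ fun t => ?_)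
  obtain ⟨(r : Γ(X, U.unop))⟩ := t
  refine ULift.ext _ _ ?_
  show (Scheme.Opens.topIso (X := X) U.unop).inv (r ^ p) =
    ((Scheme.Opens.topIso (X := X) U.unop).inv r ^ p - (Scheme.Opens.topIso (X := X) U.unop).inv r) +
      (Scheme.Opens.topIso (X := X) U.unop).inv r
  rw [map_pow, sub_add_cancel]

theorem cmp_frob {X : Scheme.{u}} (p : ℕ) [Fact p.Prime] [FrobSch.IsCharP X p] [EtZar.ZarCont X]
    (h0 : (p : Γ(X, ⊤)) = 0) (q : ℕ) (x : Coh.HH X (Coh.structureModule X) q) :
    EtASLib.cmp q (W4c5isocrystsimpconn.frobH X p q x) = (EtCoh.HF X q).map (frobMap p h0) (EtASLib.cmp q x) := by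
  show _ = (EtASLib.cmp q x).comp (Ext.mk₀ (frobMap p h0)) (add_zero q)
  show ((Ext.mk₀ _).comp (EtCmp.adjExtHom (EtZarCmp.zarAdj X) (cv X) (EtCoh.Ga X) q
    ((phi X _ q (x.comp (Ext.mk₀ _) (add_zero q))).comp (Ext.mk₀ zeta.hom) (add_zero q))) (zero_add q)) =
    ((Ext.mk₀ _).comp (EtCmp.adjExtHom (EtZarCmp.zarAdj X) (cv X) (EtCoh.Ga X) q
      ((phi X _ q x).comp (Ext.mk₀ zeta.hom) (add_zero q))) (zero_add q)).comp (Ext.mk₀ (frobMap p h0)) (add_zero q)
  rw [phi_natural, Ext.comp_assoc_of_third_deg_zero, Ext.mk₀_comp_mk₀, zeta_frob p h0, ← Ext.mk₀_comp_mk₀,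
    ← Ext.comp_assoc_of_third_deg_zero, adjExtHom_natural]
  exact (Ext.comp_assoc_of_third_deg_zero _ _ _ _).symm

theorem subsingleton_H1 {X : Scheme.{u}} [Nonempty X] (p : ℕ) [Fact p.Prime]
    (hπ : ∀ Y : FEt.Cat X, Pi1.IsSplit Y) : Subsingleton (EtCoh.H X (EtCoh.const X (ZMod p)) 1) := by
  haveI : Finite (AddCommGrpCat.of (ULift.{u + 1} (ZMod p)) : AddCommGrpCat.{u + 1}) :=
    inferInstanceAs (Finite (ULift.{u + 1} (ZMod p)))
  refine EtGabber.subsingleton_H_one (fun {V} φ _ _ _ => ?_) (AddCommGrpCat.of (ULift.{u + 1} (ZMod p)))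
  obtain ⟨ι, _, e, he⟩ := hπ (MorphismProperty.Over.mk ⊤ φ ⟨inferInstance, inferInstance⟩)
  cases isEmpty_or_nonempty ι with
  | inl h =>
    obtain ⟨v, -⟩ := φ.surjective (Classical.arbitrary X)
    exact isEmptyElim ((sigmaMk (fun _ : ι => X)).symm (e.hom v)).1
  | inr h => exact ⟨Sigma.ι (fun _ : ι => X) (Classical.arbitrary ι) ≫ e.inv, by rw [Category.assoc]; exact he _⟩

open AlgebraicGeometry CategoryTheory in
/-- Let k be an algebraically closed field of characteristic p > 0 and X a connected proper k-scheme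
with trivial étale fundamental group, in the sense that every finite étale cover of X is a finite
disjoint union of copies of X. Then the pull-back by the absolute Frobenius, i.e. the additive
endomorphism of H^1(X, O_X) induced by the p-th power map of the structure sheaf, is nilpotent: some
positive power of it vanishes. (The published setting has X smooth and projective over k; the
argument given uses only that X is proper and connected.) -/
theorem result
    (p : ℕ) [Fact p.Prime] (k : Type u) [Field k] [IsAlgClosed k] [CharP k p]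
    (X : Scheme.{u}) [X.Over (Spec (CommRingCat.of k))] [IsProper (X ↘ Spec (CommRingCat.of k))]
    [ConnectedSpace X] [FrobSch.IsCharP X p]
    (hπ : ∀ Y : FEt.Cat X, Pi1.IsSplit Y) :
    ∃ b : ℕ, 0 < b ∧ ∀ x : Coh.HH X (Coh.structureModule X) 1,
      (W4c5isocrystsimpconn.frobH X p 1)^[b] x = 0 := by
  haveI : EtZar.ZarCont X := Groth.Agent.Desc19b.EtQCoh.zarCont X
  let f := X ↘ Spec (CommRingCat.of k)
  have h0 : (p : Γ(X, ⊤)) = 0 := natCast_eq_zero_of_over p f
  haveI : IsLocallyNoetherian X := LocallyOfFiniteType.isLocallyNoetherian f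
  let V := Coh.HH X (Coh.structureModule X) 1
  haveI : Module.Finite k V := (Groth.Agent.Coherent.finite_HH_iff k _ 1).2
    (Groth.Agent.Coherent.finCoh_of_isProper (X ↘ Spec (CommRingCat.of k)) _
      (Groth.Agent.Coherent.isCoh_structureModule X) 1)
  let E : V ≃+ EtCoh.H X (EtCoh.Ga X) 1 := AddEquiv.ofBijective (EtASLib.cmp 1) (cmp_bijective 1)
  let φ : k →+* Γ(X, ⊤) := Groth.Agent.Coherent.baseHom k X
  have hsmul : ∀ (a : k) (v : V), E (a • v) = (EtCoh.HF X 1).map (mulMap (φ a)) (E v) :=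
    fun a v => cmp_smul 1 (φ a) v
  let F : V →+ V := W4c5isocrystsimpconn.frobH X p 1
  have hEF : ∀ v, E (F v) = (EtCoh.HF X 1).map (frobMap p h0) (E v) := fun v => cmp_frob p h0 1 v
  have hF : ∀ (a : k) (v : V), F (a • v) = a ^ p • F v := fun a v => E.injective (by
    rw [hEF, hsmul, hsmul, hEF, map_pow, ← ConcreteCategory.comp_apply, ← Functor.map_comp, mulMap_frobMap,
      Functor.map_comp, ConcreteCategory.comp_apply])
  haveI := epi_asMap p h0
  obtain ⟨e⟩ := nonempty_kernel_iso p h0
  let T : ShortComplex (EtCoh.Ab X) := ShortComplex.mk _ _ (kernel.condition (asMap p h0))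
  have hT : T.ShortExact := { exact := ShortComplex.exact_kernel (asMap p h0) }
  haveI := subsingleton_H1 p hπ
  have hfix : ∀ v : V, F v = v → v = 0 := fun v hv => by
    have hz : (E v).comp (Ext.mk₀ T.g) (add_zero 1) = 0 := by
      have h1 : (E v).comp (Ext.mk₀ (asMap p h0 + 𝟙 (EtCoh.Ga X))) (add_zero 1) = E v :=
        (hEF v).symm.trans (congrArg E hv)
      rw [Ext.mk₀_add, Ext.comp_add, Ext.comp_mk₀_id, add_eq_right] at h1
      exact h1
    obtain ⟨x, hx⟩ := Ext.covariant_sequence_exact₂ _ hT (E v) hz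
    obtain ⟨x', rfl⟩ : ∃ x', ((EtCoh.HF X 1).mapIso e).addCommGroupIsoToAddEquiv x' = x :=
      ⟨_, AddEquiv.apply_symm_apply _ _⟩
    rw [show x' = 0 from (subsingleton_H1 p hπ).elim x' 0, map_zero, Ext.zero_comp] at hx
    exact E.injective (hx.symm.trans (map_zero E).symm)
  have hs : ∀ v ∈ Submodule.span k {v : V | ∃ m : ℕ, (⇑F)^[m] v = 0}, ∃ m : ℕ, (⇑F)^[m] v = 0 := by
    have hmono : ∀ {v : V} {m n : ℕ}, m ≤ n → (⇑F)^[m] v = 0 → (⇑F)^[n] v = 0 := by
      intro v m n hmn h
      obtain ⟨d, rfl⟩ := Nat.exists_eq_add_of_le hmn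
      rw [add_comm, Function.iterate_add_apply, h, iterate_map_zero]
    intro v hv
    induction hv using Submodule.span_induction with
    | mem x hx => exact hx
    | zero => exact ⟨0, rfl⟩
    | add x y _ _ hx hy =>
      obtain ⟨m, hm⟩ := hx
      obtain ⟨n, hn⟩ := hy
      exact ⟨max m n, by rw [iterate_map_add, hmono (le_max_left _ _) hm, hmono (le_max_right _ _) hn, add_zero]⟩
    | smul a x _ hx =>
      obtain ⟨m, hm⟩ := hx
      have hit : ∀ (n : ℕ), (⇑F)^[n] (a • x) = a ^ p ^ n • (⇑F)^[n] x := by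
        intro n
        induction n with
        | zero => simp
        | succ n ih => rw [Function.iterate_succ_apply', ih, hF, ← pow_mul, ← pow_succ, Function.iterate_succ_apply']
      exact ⟨m, by rw [hit, hm, smul_zero]⟩
  have hall : ∀ v : V, ∃ m : ℕ, (⇑F)^[m] v = 0 := fun v => by
    have hc := (CAlgH.PLinearDecomp.isCompl (p := p) F hF).sup_eq_top
    have hb : Submodule.span k {v : V | F v = v} = ⊥ := Submodule.span_eq_bot.2 hfix
    rw [hb, bot_sup_eq] at hc
    exact hs v (hc ▸ Submodule.mem_top)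
  choose m hm using hall
  let B := Module.finBasis k V
  refine ⟨(Finset.univ.sup fun i => m (B i)) + 1, Nat.succ_pos _, fun x => ?_⟩
  have hit : ∀ (n : ℕ) (a : k) (y : V), (⇑F)^[n] (a • y) = a ^ p ^ n • (⇑F)^[n] y := by
    intro n a y
    induction n with
    | zero => simp
    | succ n ih => rw [Function.iterate_succ_apply', ih, hF, ← pow_mul, ← pow_succ, Function.iterate_succ_apply']
  show (⇑F)^[_] x = 0
  rw [← B.sum_repr x, show ∀ n : ℕ, (⇑F)^[n] (∑ i, B.repr x i • B i) = ∑ i, (⇑F)^[n] (B.repr x i • B i) from fun n => by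
    induction n with
    | zero => rfl
    | succ n ih => simp only [Function.iterate_succ_apply', ih, map_sum]]
  refine Finset.sum_eq_zero fun i _ => ?_
  have hle : m (B i) ≤ (Finset.univ.sup fun i => m (B i)) + 1 :=
    (Finset.le_sup (f := fun i => m (B i)) (Finset.mem_univ i)).trans (Nat.le_succ _)
  obtain ⟨d, hd⟩ := Nat.exists_eq_add_of_le hle
  rw [hit, hd, add_comm, Function.iterate_add_apply, hm, iterate_map_zero, smul_zero]

end Groth.Agent.S18555
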