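import Groth.Statements.S18556
import Groth.Agent.S18555
import Groth.Agent.IterExt10.Main

set_option linter.style.haveILetI false
-- import your own Groth.Agent.* helpers here

set_option autoImplicit false
universe u
open FrobSch

namespace Groth.Agent.S18556

open AlgebraicGeometry CategoryTheory CategoryTheory.Limits in
/-- Let k be an algebraically closed field of characteristic p > 0 and X a connected proper k-scheme
with trivial étale fundamental group, in the sense that every finite étale cover of X is a finite
disjoint union of copies of X. Then there is a positive integer b, which depends only on X, with the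
following property: for every natural number r and every locally free O_X-module E of rank r which
is an r-fold iterated extension of copies of the structure sheaf (a filtration 0 = E_0 ≤ E_1 ≤ ⋯ ≤
E_r = E with every successive quotient isomorphic to O_X), the b(r-1)-fold iterated pull-back of E
by the absolute Frobenius of X is isomorphic to the free module O_X^r. (The published statement is
phrased for a sequence E_0, …, E_{b(r-1)} of locally free sheaves with each E_{i+1} the Frobenius
pull-back of E_i, and has X smooth and projective over k; the argument given uses only that X is
proper and connected.) -/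
theorem result
    (p : ℕ) [Fact p.Prime] (k : Type u) [Field k] [IsAlgClosed k] [CharP k p]
    (X : Scheme.{u}) [X.Over (Spec (CommRingCat.of k))] [IsProper (X ↘ Spec (CommRingCat.of k))]
    [ConnectedSpace X] [FrobSch.IsCharP X p]
    (hπ : ∀ Y : FEt.Cat X, Pi1.IsSplit Y) :
    ∃ b : ℕ, 0 < b ∧ ∀ (r : ℕ) (E : X.Modules), FlatMod.IsFinLocFreeOfRank r E →
      W4c5isocrystsimpconn.IsIterExt X r E →
        Nonempty (((Scheme.Modules.pullback (FrobSch.frob X p)).obj)^[b * (r - 1)] E ≅ FlatMod.freeMod X r) := by
  obtain ⟨b, hb, hb'⟩ := Groth.Agent.S18555.result p k X hπ
  exact ⟨b, hb, fun r E _ hE => Groth.Agent.IterExt10.main p b hb' r E hE⟩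

end Groth.Agent.S18556
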