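import Groth.Statements.S18560
import Groth.Agent.PtQuiv5.Basic

set_option autoImplicit false
universe u v
open PtQuiv

namespace Groth.Agent.S18560

/-- Let K be a field and s i ∈ K² (i in a finite index type) nonzero vectors, regarded as a
representation of the quiver with a central vertex carrying the plane and one vertex per i carrying
a line that maps to the plane by 1 ↦ s i. For a weight θ in the hypersimplex (0 ≤ θ i ≤ 1, Σ θ i =
2, central weight -1) the representation is θ-semistable if and only if, for every vector v, the
indices i with s i on the line K ∙ v have total weight at most 1. (The published statement is over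
an algebraically closed field, assumes semistability for some interior weight instead of s i ≠ 0,
and phrases the bound through the classes of pairwise proportional s i; any field is allowed here.
Its further assertion that the bounding walls, where the total weight of one proportionality class
equals 1, do not meet in the interior of the hypersimplex is not part of this row.) -/
theorem result (K : Type u) [Field K] (ι : Type v) [Fintype ι]
    (s : ι → (Fin 2 → K)) (hs : ∀ i, s i ≠ 0) (θ : ι → ℚ) (h0 : ∀ i, 0 ≤ θ i)
    (h1 : ∀ i, θ i ≤ 1) (h2 : ∑ i, θ i = 2) :
    PtQuiv.QSemistable (-1) θ s ↔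
      ∀ (J : Finset ι) (v : Fin 2 → K), (∀ i ∈ J, s i ∈ K ∙ v) → ∑ i ∈ J, θ i ≤ 1 := by
  constructor
  · rintro ⟨-, h⟩ J v hv
    rcases eq_or_ne v 0 with rfl | hv0
    · have : J = ∅ := PtQuiv5.empty_of_bot hs fun i hi => by simpa using hv i hi
      simp [this]
    · have := h (K ∙ v) J hv
      rw [PtQuiv5.wt_line hv0] at this
      linarith
  · intro h
    refine ⟨by linarith, fun L I hI => ?_⟩
    rcases PtQuiv5.cases_plane L with rfl | ⟨v, hv0, rfl⟩ | rfl
    · simp [PtQuiv5.empty_of_bot hs hI, PtQuiv.QWt]
    · rw [PtQuiv5.wt_line hv0]
      linarith [h I v hI]
    · rw [PtQuiv5.wt_top]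
      have := Finset.sum_le_univ_sum_of_nonneg h0 (s := I)
      linarith

end Groth.Agent.S18560
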