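import Groth.Statements.S18561
import Groth.Agent.PtQuiv5.Basic
import Mathlib.Tactic.FieldSimp
import Mathlib.Tactic.Ring
import Mathlib.Tactic.Positivity

set_option autoImplicit false
universe u v
open PtQuiv

namespace Groth.Agent.S18561

/-- Let K be a field and s i ∈ K² (i in a finite index type) nonzero vectors, regarded as a
representation of the quiver with a central vertex carrying the plane and one vertex per i carrying
a line mapping to the plane by 1 ↦ s i. Then the representation is stable for some weight of the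
hypersimplex (0 ≤ θ i ≤ 1, Σ θ i = 2, central weight -1) if and only if the s i fall into at least
three proportionality classes, i.e. three of them are pairwise non-proportional. (The published
statement is over an algebraically closed field and assumes semistability for some interior weight
instead of s i ≠ 0; any field is allowed here. Its further assertions, that the set of semistability
weights is full-dimensional exactly in this case and is a wall otherwise, are not part of this row.) -/
theorem result (K : Type u) [Field K] (ι : Type v)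
    [Fintype ι] (s : ι → (Fin 2 → K)) (hs : ∀ i, s i ≠ 0) :
    (∃ θ : ι → ℚ, (∀ i, 0 ≤ θ i) ∧ (∀ i, θ i ≤ 1) ∧ ∑ i, θ i = 2 ∧ PtQuiv.QStable (-1) θ s) ↔
      ∃ i j k : ι, s i ∉ K ∙ s j ∧ s j ∉ K ∙ s k ∧ s i ∉ K ∙ s k := by
  classical
  constructor
  · rintro ⟨θ, h0, h1, h2, ⟨-, hw⟩, hst⟩
    have hlt : ∀ v, v ≠ 0 → ∑ l ∈ Finset.univ.filter (fun l => s l ∈ K ∙ v), θ l < 1 := fun v hv => by
      have hsub : PtQuiv.QSubrep s (K ∙ v) (Finset.univ.filter (fun l => s l ∈ K ∙ v)) :=
        fun l hl => (Finset.mem_filter.1 hl).2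
      refine lt_of_le_of_ne (by have := hw _ _ hsub; rw [PtQuiv5.wt_line hv] at this; linarith) fun e => ?_
      rcases hst _ _ hsub (by rw [PtQuiv5.wt_line hv, e]; norm_num) with ⟨hb, -⟩ | ⟨ht, -⟩
      · exact hv (Submodule.span_singleton_eq_bot.1 hb)
      · have := congrArg (fun L : Submodule K (Fin 2 → K) => Module.finrank K L) ht
        simp [finrank_span_singleton hv] at this
    by_contra hno
    push Not at hno
    have hne : Nonempty ι := by
      by_contra hemp
      rw [not_nonempty_iff] at hemp
      simp at h2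
    obtain ⟨i⟩ := hne
    have hall : ∃ j, ∀ l, s l ∈ K ∙ s i ∨ s l ∈ K ∙ s j := by
      by_cases hex : ∃ j, s j ∉ K ∙ s i
      · obtain ⟨j, hj⟩ := hex
        refine ⟨j, fun l => ?_⟩
        by_contra hl
        push Not at hl
        exact hl.1 (hno l j i hl.2 hj)
      · push Not at hex
        exact ⟨i, fun l => Or.inl (hex l)⟩
    obtain ⟨j, hall⟩ := hall
    have hcov : ∑ l, θ l ≤ ∑ l ∈ Finset.univ.filter (fun l => s l ∈ K ∙ s i), θ l +
        ∑ l ∈ Finset.univ.filter (fun l => s l ∈ K ∙ s j), θ l := by
      rw [Finset.sum_filter, Finset.sum_filter, ← Finset.sum_add_distrib]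
      refine Finset.sum_le_sum fun l _ => ?_
      rcases hall l with h | h <;> simp only [h, if_true] <;> split_ifs <;> linarith [h0 l]
    linarith [hlt _ (hs i), hlt _ (hs j)]
  · rintro ⟨i, j, k, hij, hjk, hik⟩
    have nij : i ≠ j := fun e => hij (e ▸ Submodule.mem_span_singleton_self _)
    have njk : j ≠ k := fun e => hjk (e ▸ Submodule.mem_span_singleton_self _)
    have nik : i ≠ k := fun e => hik (e ▸ Submodule.mem_span_singleton_self _)
    let T : Finset ι := {i, j, k}
    have hTc : T.card = 3 := Finset.card_eq_three.2 ⟨i, j, k, nij, nik, njk, rfl⟩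
    let N : ℚ := (Tᶜ.card : ℚ)
    have hN : 0 ≤ N := Nat.cast_nonneg _
    let ε : ℚ := 1 / (4 * (N + 1))
    have hε : 0 < ε := by positivity
    have hNε : N * ε < 1 / 4 := by
      rw [show N * ε = N / (4 * (N + 1)) by simp [ε, div_eq_mul_inv]]
      rw [div_lt_div_iff₀ (by positivity) (by norm_num)]
      linarith
    let θ : ι → ℚ := fun l => if l ∈ T then (2 - N * ε) / 3 else ε
    have hθ0 : ∀ l, 0 < θ l := fun l => by
      simp only [θ]; split_ifs <;> [linarith; exact hε]
    have hθ1 : ∀ l, θ l ≤ 1 := fun l => by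
      have : ε ≤ 1 := by
        rw [div_le_one (by positivity)]; linarith
      have : 0 ≤ N * ε := by positivity
      simp only [θ]; split_ifs <;> linarith
    have hsum : ∑ l, θ l = 2 := by
      rw [← Finset.sum_add_sum_compl T, Finset.sum_congr rfl (fun l hl => if_pos hl),
        Finset.sum_congr rfl (fun l hl => if_neg (Finset.mem_compl.1 hl)), Finset.sum_const, Finset.sum_const, hTc,
        nsmul_eq_mul, nsmul_eq_mul]
      push_cast
      simp only [N]
      ring
    -- a line contains at most one of the three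
    have hline : ∀ (v : Fin 2 → K) (I : Finset ι), PtQuiv.QSubrep s (K ∙ v) I → ∑ l ∈ I, θ l < 1 := by
      intro v I hI
      have hone : (I ∩ T).card ≤ 1 := by
        refine Finset.card_le_one.2 fun a ha b hb => ?_
        rw [Finset.mem_inter] at ha hb
        by_contra hab
        have h' : ∀ a b, s a ∈ K ∙ v → s b ∈ K ∙ v → s a ∈ K ∙ s b := fun a b hA hB => by
          obtain ⟨c, hc⟩ := Submodule.mem_span_singleton.1 hA
          obtain ⟨d, hd⟩ := Submodule.mem_span_singleton.1 hB
          have hd0 : d ≠ 0 := fun e => hs b (by rw [← hd, e, zero_smul])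
          exact Submodule.mem_span_singleton.2 ⟨c / d, by rw [← hd, smul_smul, div_mul_cancel₀ _ hd0, hc]⟩
        have ha2 := ha.2
        have hb2 := hb.2
        simp only [T, Finset.mem_insert, Finset.mem_singleton] at ha2 hb2
        rcases ha2 with rfl | rfl | rfl <;> rcases hb2 with rfl | rfl | rfl <;> first
          | exact hab rfl
          | exact hij (h' _ _ (hI _ ha.1) (hI _ hb.1))
          | exact hij (h' _ _ (hI _ hb.1) (hI _ ha.1))
          | exact hjk (h' _ _ (hI _ ha.1) (hI _ hb.1))
          | exact hjk (h' _ _ (hI _ hb.1) (hI _ ha.1))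
          | exact hik (h' _ _ (hI _ ha.1) (hI _ hb.1))
          | exact hik (h' _ _ (hI _ hb.1) (hI _ ha.1))
      rw [← Finset.sum_inter_add_sum_sdiff I T]
      rw [Finset.sum_congr rfl (fun l hl => if_pos (Finset.mem_inter.1 hl).2),
        Finset.sum_congr rfl (fun l hl => if_neg (Finset.mem_sdiff.1 hl).2), Finset.sum_const, Finset.sum_const,
        nsmul_eq_mul, nsmul_eq_mul]
      have hle : ((I \ T).card : ℚ) ≤ N := Nat.cast_le.2 (Finset.card_le_card fun l hl => Finset.mem_compl.2 (Finset.mem_sdiff.1 hl).2)
      have h1' : ((I ∩ T).card : ℚ) ≤ 1 := by exact_mod_cast hone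
      have h2' : 0 ≤ (2 - N * ε) / 3 := by linarith
      nlinarith [mul_le_mul_of_nonneg_right hle hε.le, mul_le_mul_of_nonneg_right h1' h2']
    refine ⟨θ, fun l => (hθ0 l).le, hθ1, hsum, ⟨by linarith, fun L I hI => ?_⟩, fun L I hI h0' => ?_⟩
    · rcases PtQuiv5.cases_plane L with rfl | ⟨v, hv0, rfl⟩ | rfl
      · simp [PtQuiv5.empty_of_bot hs hI, PtQuiv.QWt]
      · rw [PtQuiv5.wt_line hv0]; linarith [hline v I hI]
      · rw [PtQuiv5.wt_top]
        have := Finset.sum_le_univ_sum_of_nonneg (fun l => (hθ0 l).le) (s := I)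
        linarith
    · rcases PtQuiv5.cases_plane L with rfl | ⟨v, hv0, rfl⟩ | rfl
      · exact Or.inl ⟨rfl, PtQuiv5.empty_of_bot hs hI⟩
      · rw [PtQuiv5.wt_line hv0] at h0'
        linarith [hline v I hI]
      · refine Or.inr ⟨rfl, ?_⟩
        rw [PtQuiv5.wt_top] at h0'
        by_contra hne
        obtain ⟨l, -, hl⟩ := Finset.exists_of_ssubset (lt_of_le_of_ne (Finset.subset_univ I) hne)
        have := Finset.sum_lt_sum_of_subset (Finset.subset_univ I) (Finset.mem_univ l) hl (hθ0 l) fun m _ _ => (hθ0 m).le
        linarith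

end Groth.Agent.S18561
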