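import Groth.Statements.S18563
import Groth.Agent.PtQuiv5.Reduce

set_option autoImplicit false
universe u v
open PtQuiv

namespace Groth.Agent.S18563

/-- Let K be a field, κ a finite index type with a ≠ b, and s i ∈ K² a representation of the quiver with
a central vertex carrying the plane and one vertex per i : κ carrying a line mapping to the plane by
1 ↦ s i. Let θ be a weight of the hypersimplex (0 ≤ θ i ≤ 1, Σ θ i = 2, central weight -1) with 1 <
θ a + θ b < 2, and put c = 1 / (2 - θ a - θ b). Then s is θ-stable if and only if s a, s b are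
linearly independent and, writing every other s i = t i 0 • s a + t i 1 • s b, the representation t
of the quiver with two one-dimensional sinks p₀, p₁ and one one-dimensional source per i ≠ a, b
(arrow to p_j given by t i j) is stable for the weight c (θ a - 1) at p₀, c (θ b - 1) at p₁ and c θ
i at the sources. (The published statement is about representations over a base scheme, with
(semi)stability tested on geometric fibres, that is over algebraically closed fields; this row
states the fibrewise content over an arbitrary field.) -/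
theorem result (K : Type u) [Field K]
    (κ : Type v) [Fintype κ] [DecidableEq κ] (a b : κ) (hab : a ≠ b) (s : κ → (Fin 2 → K))
    (θ : κ → ℚ) (h0 : ∀ i, 0 ≤ θ i) (h1 : ∀ i, θ i ≤ 1) (h2 : ∑ i, θ i = 2)
    (hθ : 1 < θ a + θ b) (hθ' : θ a + θ b < 2) :
    PtQuiv.QStable (-1) θ s ↔
      (LinearIndependent K ![s a, s b] ∧
        ∀ t : {i : κ // i ≠ a ∧ i ≠ b} → (Fin 2 → K),
          (∀ i, s i.1 = t i 0 • s a + t i 1 • s b) →
            PtQuiv.PStable ![(2 - θ a - θ b)⁻¹ * (θ a - 1), (2 - θ a - θ b)⁻¹ * (θ b - 1)]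
              (fun i : {i : κ // i ≠ a ∧ i ≠ b} => (2 - θ a - θ b)⁻¹ * θ i.1) t) := by
  classical
  have ha0 : 0 < θ a := by linarith [h1 b]
  have hb0 : 0 < θ b := by linarith [h1 a]
  have hc : 0 < (2 - θ a - θ b)⁻¹ := inv_pos.2 (by linarith)
  have hPtot : (∑ j, ![(2 - θ a - θ b)⁻¹ * (θ a - 1), (2 - θ a - θ b)⁻¹ * (θ b - 1)] j) +
      ∑ i : {i : κ // i ≠ a ∧ i ≠ b}, (2 - θ a - θ b)⁻¹ * θ i.1 = 0 := by
    rw [← Finset.mul_sum, PtQuiv5.sum_sub hab h2, Fin.sum_univ_two]
    simp
    ring
  have hP : ∀ (U : Fin 2 → Submodule K K) (I : Finset {i : κ // i ≠ a ∧ i ≠ b}),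
      PtQuiv.PWt K ![(2 - θ a - θ b)⁻¹ * (θ a - 1), (2 - θ a - θ b)⁻¹ * (θ b - 1)]
        (fun i => (2 - θ a - θ b)⁻¹ * θ i.1) U I = (2 - θ a - θ b)⁻¹ * PtQuiv5.bigWt a b θ U I :=
    fun U I => PtQuiv5.pwt_eq _ U I
  constructor
  · intro h
    have hind := PtQuiv5.indep_of_semistable hab h1 hθ h.1
    refine ⟨hind, fun t ht => ⟨⟨hPtot, fun U I hsub => ?_⟩, fun U I hsub hz => ?_⟩⟩
    · obtain ⟨L, J, hL, hw, -, -⟩ := PtQuiv5.exists_big (θ := θ) hab hind ht U I hsub
      rw [hP, ← hw]
      exact mul_nonpos_of_nonneg_of_nonpos hc.le (h.1.2 L J hL)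
    · obtain ⟨L, J, hL, hw, hb, ht'⟩ := PtQuiv5.exists_big (θ := θ) hab hind ht U I hsub
      rw [hP, ← hw] at hz
      rcases h.2 L J hL ((mul_eq_zero.1 hz).resolve_left hc.ne') with e | e
      · exact Or.inl (hb e)
      · exact Or.inr (ht' e)
  · rintro ⟨hind, hall⟩
    obtain ⟨t, ht⟩ := PtQuiv5.exists_coeff hind
    refine ⟨⟨by linarith, fun L J hsub => ?_⟩, fun L J hsub hz => ?_⟩
    · rcases PtQuiv5.exists_small hab hind ht h0 h2 hθ ha0 hb0 L J hsub with hlt | ⟨U, I, hU, hle, -⟩
      · exact hlt.le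
      · have := (hall t ht).1.2 U I hU
        rw [hP] at this
        exact hle.trans (nonpos_of_mul_nonpos_right this hc)
    · rcases PtQuiv5.exists_small hab hind ht h0 h2 hθ ha0 hb0 L J hsub with hlt | ⟨U, I, hU, hle, heq⟩
      · exact absurd hz hlt.ne
      · have h' := (hall t ht).1.2 U I hU
        rw [hP] at h'
        have hb : PtQuiv5.bigWt a b θ U I = 0 := le_antisymm (nonpos_of_mul_nonpos_right h' hc) (hz ▸ hle)
        obtain ⟨e1, e2⟩ := heq (hz.trans hb.symm)
        rcases (hall t ht).2 U I hU (by rw [hP, hb, mul_zero]) with e | e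
        · exact Or.inl (e1 e)
        · exact Or.inr (e2 e)

end Groth.Agent.S18563
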