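import Groth.Statements.S18567
-- import your own Groth.Agent.* helpers here
import Groth.Agent.ParGP23.Stab
import Groth.Agent.EulerLib.Scalar

set_option autoImplicit false
universe u
open CategoryTheory CategoryTheory.Limits AlgebraicGeometry
open ParSh

namespace Groth.Agent.S18567

/-- Let Y be a smooth proper integral curve (integral, smooth and proper over k, of dimension one) over
an algebraically closed field k, D an effective Cartier divisor on Y with ideal I, and α a real
weight with 0 ≤ α < 1. A generalised parabolic structure on a finite locally free O_Y-module E is a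
k-linear subspace F₁ of H⁰(Y, E ⊗ O_D); its parabolic degree in rank n is deg E + α·dim_k F₁ (deg E
= χ(E) − n·χ(O_Y)); a homomorphism f : E → E' is parabolic when the induced k-linear map H⁰(E ⊗ O_D)
→ H⁰(E' ⊗ O_D) carries F₁ into F₁'; a submodule G → E gets the preimage structure and (E, F₁) is
semistable (stable) when deg(G, preimage) · n ≤ (<) deg(E, F₁) · r for every finite locally free
submodule G of rank r ≥ 1 (with r < n for stability). Let (E, F₁) be semistable and stable of rank n
≥ 1. Then (E, F₁) is simple: every parabolic endomorphism f : E → E acts on the underlying abelian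
sheaf as multiplication by some scalar c ∈ k. The published statement is set on the normalisation of
a singular curve with D lying over its singular points; neither is used. -/
theorem result (k : Type u) [Field k] [IsAlgClosed k] (X : Scheme.{u}) [X.Over (Spec (CommRingCat.of k))]
    [AlgebraicGeometry.IsIntegral X] [IsProper (X ↘ Spec (CommRingCat.of k))] [Smooth (X ↘ Spec (CommRingCat.of k))]
    (hdim : topologicalKrullDim X = 1)
    (I : X.IdealSheafData) (hD : FGA.IsEffCartier I) (α : ℝ) (hα0 : 0 ≤ α) (hα1 : α < 1)
    {E : X.Modules} (n : ℕ) (hn : 0 < n) (hE : FlatMod.IsFinLocFreeOfRank n E)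
    (F₁ : Submodule k (ParSh.fibD X I E))
    (hEss : ParSh.IsGPSemistable k X I α F₁ n) (hEst : ParSh.IsGPStable k X I α F₁ n)
    (f : E ⟶ E) (hf : ParSh.IsGPHom k X I F₁ F₁ f) :
    ∃ c : k, (SheafOfModules.toSheaf X.ringCatSheaf).map f =
      Coh.smulAb E (Coh.toGlobal (X ↘ Spec (CommRingCat.of k)) c) := by
  haveI := CurveRR24.isLocallyNoetherian_of_proper k (X := X)
  have hn' := VB5.isIntegrallyClosed_stalk k (X := X)
  obtain ⟨c, hc⟩ := EulerLib.exists_scalar_not_iso k (SplitP1.isCoh_of_rank hE) (VB5.not_isZero_of_grk hE hn) f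
  refine ⟨c, ?_⟩
  let s := Coh.toGlobal (X ↘ Spec (CommRingCat.of k)) c
  have hs : EulerLib.smulMod E s = c • 𝟙 E := by
    rw [KLin.smul_id]
    refine Scheme.Modules.hom_ext _ _ fun U => ?_
    ext v
    exact EulerLib.smulMod_app E s U v
  have hh : F₁.map (ParSh.fibDMap k X I (f - EulerLib.smulMod E s)) ≤ F₁ := by
    rw [hs, ParGP23.fibDMap_sub_smul, ParGP23.fibDMap_id]
    rintro _ ⟨x, hx, rfl⟩
    exact F₁.sub_mem (hf ⟨x, hx, rfl⟩) (F₁.smul_mem c hx)
  by_cases h0 : f - EulerLib.smulMod E s = 0
  · rw [sub_eq_zero.1 h0]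
    rfl
  · exact absurd (ParGP23.isIso_of_stable k hdim hn' I hD hα0 hα1 hn hn hE hE hEss hEst hEss hEst rfl _ hh h0).1 hc

end Groth.Agent.S18567
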