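import Groth.Statements.S18573
import Groth.Agent.REqLib.ProjLineGen
-- import your own Groth.Agent.* helpers here

set_option autoImplicit false
set_option linter.style.haveILetI false
universe u
open CategoryTheory AlgebraicGeometry
open REq

namespace Groth.Agent.S18573

/-- Let Y be a scheme over a field k and K a field containing k. Let V and W be closed subsets of Y with
V ∪ W = Y such that no K-point of Y has its image in V ∩ W. If p is a K-point of Y lying in V and q
a K-point of Y lying in W, then p and q are not R-equivalent on Y. (The published step concerns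
k-points of the special fibre of a proper flat scheme over a discrete valuation ring, that is K = k;
this row is stated for any scheme Y over k and K-points for any field K containing k.) -/
theorem result (k : Type u) [Field k] (Y : Scheme.{u})
    (g : Y ⟶ Spec (CommRingCat.of k)) (K : Type u) [Field K] [Algebra k K]
    (V W : Set Y) (hV : IsClosed V) (hW : IsClosed W) (hVW : V ∪ W = Set.univ)
    (hT : ∀ z : REq.Pts g K, ¬ (Set.range z.1.base ⊆ V ∩ W))
    (p q : REq.Pts g K) (hp : Set.range p.1.base ⊆ V) (hq : Set.range q.1.base ⊆ W) :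
    ¬ REq.REquiv g K p q := by
  classical
  haveI := Groth.Agent.REqLib.isIntegral_projOver_field K
  have uniq : ∀ (z : REq.Pts g K) (S : Set Y) (c : ↥(Spec (CommRingCat.of K))), z.1.base c ∈ S → Set.range z.1.base ⊆ S := by
    rintro z S c hc _ ⟨d, rfl⟩
    haveI : Subsingleton ↥(Spec (CommRingCat.of K)) := inferInstanceAs (Subsingleton (PrimeSpectrum K))
    rwa [Subsingleton.elim d c]
  have key : ∀ A B : REq.Pts g K, REq.ElemLink g K A B → ((Set.range A.1.base ⊆ V) ↔ (Set.range B.1.base ⊆ V)) := by
    rintro A B ⟨U, h, a, b, -, -, -, ha, hb⟩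
    obtain ⟨c⟩ : Nonempty ↥(Spec (CommRingCat.of K)) := inferInstance
    haveI : IrreducibleSpace (REq.P1K K) := inferInstance
    have hU : IsPreirreducible (Set.univ : Set (U : Scheme.{u})) := by
      haveI : PreirreducibleSpace (U : Scheme.{u}) :=
        U.2.isOpenEmbedding_subtypeVal.preirreducibleSpace
      exact PreirreducibleSpace.isPreirreducible_univ
    have hA : A.1.base c = h.base (a.base c) := by rw [← ha]; rfl
    have hB : B.1.base c = h.base (b.base c) := by rw [← hb]; rfl
    rcases (isPreirreducible_iff_isClosed_union_isClosed.1 hU) (h.base ⁻¹' V) (h.base ⁻¹' W) (hV.preimage h.continuous) (hW.preimage h.continuous)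
      (fun x _ => by simpa using (hVW.ge (Set.mem_univ (h.base x)))) with hsub | hsub
    · exact iff_of_true (uniq A V c (hA ▸ hsub (Set.mem_univ _))) (uniq B V c (hB ▸ hsub (Set.mem_univ _)))
    · refine iff_of_false (fun hA' => hT A ?_) (fun hB' => hT B ?_)
      · exact uniq A (V ∩ W) c ⟨hA' ⟨c, rfl⟩, hA ▸ hsub (Set.mem_univ _)⟩
      · exact uniq B (V ∩ W) c ⟨hB' ⟨c, rfl⟩, hB ▸ hsub (Set.mem_univ _)⟩
  intro hpq
  have h : ((Set.range p.1.base ⊆ V) ↔ (Set.range q.1.base ⊆ V)) := by
    clear hp hq
    induction hpq with
    | rel x y h => exact key x y h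
    | refl x => rfl
    | symm x y _ ih => exact ih.symm
    | trans x y z _ _ ih ih' => exact ih.trans ih'
  exact hT q (Set.subset_inter (h.1 hp) hq)

end Groth.Agent.S18573

#print axioms Groth.Agent.S18573.result
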