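import Groth.Statements.S18576
import Groth.Agent.CommAlg4.RetractMove
-- import your own Groth.Agent.* helpers here

set_option autoImplicit false
universe u
open CategoryTheory AlgebraicGeometry
open REq

namespace Groth.Agent.S18576

/-- Let k be a field of characteristic zero and X a scheme that is smooth, projective and geometrically
integral over k. If X is retract rational over k, in particular if X is stably rational over k, then
X is R-trivial over k: for every field K containing k (in the universe of k), X(K) is non-empty and
any two K-points are R-equivalent. -/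
theorem result (k : Type u) [Field k] [CharZero k]
    (X : Scheme.{u}) (f : X ⟶ Spec (CommRingCat.of k)) [GeometricallyIntegral f] [Smooth f]
    (hproj : Neron.IsProjectiveOver k (Over.mk f)) (hX : REq.IsRetractRational f) :
    REq.IsRTrivial f := by
  have : Subsingleton ↥(Spec (CommRingCat.of k)) := inferInstanceAs (Subsingleton (PrimeSpectrum k))
  have : IsIntegral X := GeometricallyIntegral.isIntegral_of_subsingleton f
  have : Infinite k := inferInstance
  obtain ⟨U', hU', hall⟩ := Groth.Agent.REqLib17.isAlmostRTrivial f hX
  have hne' : (U' : Set X).Nonempty := hU'.nonempty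
  obtain ⟨U, n, V, a, b, hne, hab, ha, hb⟩ := hX
  intro K _ _
  have : Infinite K := Infinite.of_injective _ (algebraMap k K).injective
  obtain ⟨⟨A₀, -⟩, hlink⟩ := hall K
  refine ⟨⟨A₀⟩, fun A B => ?_⟩
  obtain ⟨A', hA', hAA'⟩ :=
    Groth.Agent.CommAlg4.RetractMove.exists_linked_mem f a b hab ha hb hne U' hne' K A
  obtain ⟨B', hB', hBB'⟩ :=
    Groth.Agent.CommAlg4.RetractMove.exists_linked_mem f a b hab ha hb hne U' hne' K B
  exact Relation.EqvGen.trans _ _ _ hAA'
    (Relation.EqvGen.trans _ _ _ (hlink A' B' hA' hB') (Relation.EqvGen.symm _ _ hBB'))

end Groth.Agent.S18576
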