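import Groth.Statements.S18578
import Mathlib
import Groth.Prelude
import Groth.Agent.CAlgH3.Factorial
import Groth.Agent.VarietyLib.SmoothStalk

set_option linter.all false

set_option autoImplicit false
universe u
open LogDiff

open KaehlerDifferential TensorProduct

namespace Groth.Agent.S18578

section
variable {k R K : Type u} [Field k] [CharZero k] [CommRing R] [IsDomain R] [IsNoetherianRing R]
  [Algebra k R] [Algebra.FormallySmooth k R] [Algebra.EssFiniteType k R]
  [Field K] [Algebra R K] [IsFractionRing R K] [Algebra k K] [IsScalarTower k R K]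

variable (k) in
/-- logarithmic differential -/
noncomputable def dl (x : K) : Ω[K⁄k] := x⁻¹ • D k K x

lemma dl_mul {x y : K} (hx : x ≠ 0) (hy : y ≠ 0) : dl k (x * y) = dl k x + dl k y := by
  simp only [dl, Derivation.leibniz, smul_add, smul_smul]
  rw [show (x * y)⁻¹ * x = y⁻¹ by field_simp, show (x * y)⁻¹ * y = x⁻¹ by field_simp, add_comm]

lemma dl_one : dl k (1 : K) = 0 := by simp [dl]

lemma dl_inv (x : K) (hx : x ≠ 0) : dl k x⁻¹ = - dl k x := by
  rw [eq_neg_iff_add_eq_zero, ← dl_mul (inv_ne_zero hx) hx, inv_mul_cancel₀ hx, dl_one]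

lemma dl_pow (x : K) (hx : x ≠ 0) (n : ℕ) : dl k (x ^ n) = (n : K) • dl k x := by
  induction n with
  | zero => simp [dl_one]
  | succ n ih => rw [pow_succ, dl_mul (pow_ne_zero n hx) hx, ih, Nat.cast_succ, add_smul, one_smul]

lemma dl_prod {ι : Type*} (s : Finset ι) (x : ι → K) (hx : ∀ i ∈ s, x i ≠ 0) :
    dl k (∏ i ∈ s, x i) = ∑ i ∈ s, dl k (x i) := by
  classical
  induction s using Finset.induction with
  | empty => simp [dl_one]
  | insert a s ha ih =>
    rw [Finset.prod_insert ha, Finset.sum_insert ha, dl_mul (hx a (Finset.mem_insert_self a s))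
      (Finset.prod_ne_zero_iff.2 fun i hi => hx i (Finset.mem_insert_of_mem hi)),
      ih fun i hi => hx i (Finset.mem_insert_of_mem hi)]

variable (k K) in
/-- forms regular at `q` -/
def Reg (q : Ideal R) (ω : Ω[K⁄k]) : Prop :=
  ∃ w : R, w ∉ q ∧ algebraMap R K w • ω ∈ Set.range (KaehlerDifferential.map k k R K)

omit [CharZero k] [Algebra.FormallySmooth k R] [Algebra.EssFiniteType k R] [IsNoetherianRing R] [IsDomain R] [IsFractionRing R K] in
lemma Reg.add {q : Ideal R} [q.IsPrime] {a b : Ω[K⁄k]} (ha : Reg k K q a) (hb : Reg k K q b) :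
    Reg k K q (a + b) := by
  obtain ⟨w, hw, x, hx⟩ := ha
  obtain ⟨v, hv, y, hy⟩ := hb
  refine ⟨w * v, Ideal.IsPrime.mul_notMem inferInstance hw hv, v • x + w • y, ?_⟩
  rw [map_add, map_smul, map_smul, hx, hy, smul_add, ← algebraMap_smul K v, ← algebraMap_smul K w,
    smul_smul, smul_smul, map_mul, mul_comm (algebraMap R K v)]

omit [CharZero k] [Algebra.FormallySmooth k R] [Algebra.EssFiniteType k R] [IsNoetherianRing R] [IsDomain R] [IsFractionRing R K] in
lemma Reg.smul {q : Ideal R} [q.IsPrime] {a : Ω[K⁄k]} (ha : Reg k K q a) (c : R) :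
    Reg k K q (algebraMap R K c • a) := by
  obtain ⟨w, hw, x, hx⟩ := ha
  exact ⟨w, hw, c • x, by rw [map_smul, hx, ← algebraMap_smul K c, smul_comm]⟩

lemma Reg.neg {q : Ideal R} [q.IsPrime] {a : Ω[K⁄k]} (ha : Reg k K q a) : Reg k K q (-a) := by
  simpa using ha.smul (-1)

lemma Reg.zero {q : Ideal R} [q.IsPrime] : Reg k K q 0 :=
  ⟨1, Ideal.one_notMem q, 0, by simp⟩

lemma Reg.sum {q : Ideal R} [q.IsPrime] {ι : Type*} (s : Finset ι) (a : ι → Ω[K⁄k])
    (ha : ∀ i ∈ s, Reg k K q (a i)) : Reg k K q (∑ i ∈ s, a i) :=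
  Finset.sum_induction _ _ (fun _ _ => Reg.add) Reg.zero ha

lemma Reg.of_dl {q : Ideal R} [q.IsPrime] {x : R} (hx : x ∉ q) :
    Reg k K q (dl k (algebraMap R K x)) := by
  have h0 : algebraMap R K x ≠ 0 := fun h =>
    hx (by rw [(IsFractionRing.injective R K) (h.trans (map_zero _).symm)]; exact q.zero_mem)
  exact ⟨x, hx, D k R x, by rw [KaehlerDifferential.map_D, dl, smul_smul, mul_inv_cancel₀ h0, one_smul]⟩

lemma pole_contra (π : R) (hπ : Prime π) (n : ℕ) (hn : n ≠ 0) :
    haveI : (Ideal.span {π}).IsPrime := (Ideal.span_singleton_prime hπ.ne_zero).2 hπ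
    ¬ Reg k K (Ideal.span {π}) ((n : K) • dl k (algebraMap R K π)) := by
  set q := Ideal.span {π} with hq
  haveI : q.IsPrime := (Ideal.span_singleton_prime hπ.ne_zero).2 hπ
  rintro ⟨w, hw, ω, hω⟩
  have hπ0 : algebraMap R K π ≠ 0 := (map_ne_zero_iff _ (IsFractionRing.injective R K)).2 hπ.ne_zero
  -- clear the denominator
  have heq : ((w : R) * (n : R)) • D k R π = π • ω := by
    have hinj : Function.Injective (KaehlerDifferential.map k k R K) :=
      (IsLocalizedModule.injective_iff_isRegular (S := nonZeroDivisors R) _).2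
        fun c => IsSMulRegular.of_ne_zero (nonZeroDivisors.coe_ne_zero c)
    apply hinj
    rw [map_smul, map_smul, hω, KaehlerDifferential.map_D, ← algebraMap_smul K (w * (n : R)),
      ← algebraMap_smul K π, dl, smul_smul, smul_smul, smul_smul, map_mul, map_natCast]
    congr 1
    field_simp
  let T := Localization.AtPrime q
  let κ := q.ResidueField
  haveI : Algebra.FormallySmooth k T := Algebra.FormallySmooth.comp k R T
  haveI : Algebra.EssFiniteType R T := Algebra.EssFiniteType.of_isLocalization T q.primeCompl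
  haveI : Algebra.EssFiniteType k T := Algebra.EssFiniteType.comp k R T
  haveI : IsScalarTower k T κ := inferInstance
  haveI : Algebra.EssFiniteType T κ :=
    Algebra.EssFiniteType.of_surjective (Algebra.ofId T κ) Ideal.Quotient.mk_surjective
  haveI : Algebra.EssFiniteType k κ := Algebra.EssFiniteType.comp k T κ
  haveI : Algebra.FormallySmooth k κ := inferInstance
  have hsurj : Function.Surjective (algebraMap T κ) := Ideal.Quotient.mk_surjective
  obtain ⟨l, hl⟩ := (Algebra.FormallySmooth.iff_split_injection (R := k) (P := T) (A := κ) hsurj).1 inferInstance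
  set π' := algebraMap R T π with hπ'
  have hker : RingHom.ker (algebraMap T κ) = IsLocalRing.maximalIdeal T := IsLocalRing.ker_residue
  have hπm : π' ∈ RingHom.ker (algebraMap T κ) := by
    rw [hker, hπ', IsLocalization.AtPrime.to_map_mem_maximal_iff T q]
    exact Ideal.mem_span_singleton_self π
  have h1 : KaehlerDifferential.kerCotangentToTensor k T κ (Ideal.toCotangent _ ⟨π', hπm⟩) ≠ 0 := by
    intro h
    have h2 := LinearMap.congr_fun hl (Ideal.toCotangent _ ⟨π', hπm⟩)
    rw [LinearMap.comp_apply, h, map_zero, LinearMap.id_apply, eq_comm, Ideal.toCotangent_eq_zero] at h2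
    simp only [hker] at h2
    have hm : IsLocalRing.maximalIdeal T = Ideal.span {π'} := by
      rw [← Localization.AtPrime.map_eq_maximalIdeal]
      simp only [hq, hπ', Ideal.map_span, Set.image_singleton]
      rfl
    rw [hm, Ideal.span_singleton_pow, Ideal.mem_span_singleton'] at h2
    obtain ⟨c, hc⟩ := h2
    have hπ'0 : π' ≠ 0 := (map_ne_zero_iff _ (IsLocalization.injective T q.primeCompl_le_nonZeroDivisors)).2 hπ.ne_zero
    have : c * π' = 1 := mul_right_cancel₀ hπ'0 (by rw [one_mul]; linear_combination hc)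
    have hu : IsUnit π' := IsUnit.of_mul_eq_one_right c this
    exact (IsLocalRing.mem_maximalIdeal _).1 (hker ▸ hπm) hu
  apply h1
  rw [KaehlerDifferential.kerCotangentToTensor_toCotangent]
  have he := congr_arg (KaehlerDifferential.map k k R T) heq
  rw [map_smul, map_smul, KaehlerDifferential.map_D, ← algebraMap_smul T (w * (n : R)),
    ← algebraMap_smul T π (KaehlerDifferential.map k k R T ω)] at he
  have he2 := congr_arg (fun z : Ω[T⁄k] => (1 : κ) ⊗ₜ[T] z) he
  simp only [TensorProduct.tmul_smul] at he2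
  rw [← algebraMap_smul κ π', show algebraMap T κ π' = 0 from hπm, zero_smul,
    ← algebraMap_smul κ, smul_eq_zero] at he2
  refine he2.resolve_left fun h => ?_
  have hwn : (w : R) * (n : R) ∉ q := by
    refine Ideal.IsPrime.mul_notMem inferInstance hw fun hn' => ?_
    have hu : IsUnit (n : R) := by
      rw [← map_natCast (algebraMap k R)]
      exact (Nat.cast_ne_zero.2 hn).isUnit.map _
    exact ‹q.IsPrime›.ne_top (Ideal.eq_top_of_isUnit_mem _ hn' hu)
  apply hwn
  rw [← IsLocalization.AtPrime.to_map_mem_maximal_iff T q, ← hker]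
  exact h

omit [CharZero k] [Algebra.FormallySmooth k R] [Algebra.EssFiniteType k R] [Algebra k R] [IsDomain R] in
lemma exists_split {r : ℕ} (f : Fin r → R) (hf : ∀ i, Prime (f i)) [IsDomain R] (x : R) (hx : x ≠ 0) :
    ∃ (y : R) (m : Fin r → ℕ), x = y * ∏ i, f i ^ m i ∧ ∀ i, ¬ f i ∣ y := by
  classical
  induction x using (wellFounded_dvdNotUnit (α := R)).induction with
  | _ x ih =>
    by_cases h : ∀ i, ¬ f i ∣ x
    · exact ⟨x, 0, by simp, h⟩
    push Not at h
    obtain ⟨i, x', rfl⟩ := h
    have hx' : x' ≠ 0 := right_ne_zero_of_mul hx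
    obtain ⟨y, m, hm, hy⟩ := ih x' ⟨hx', f i, (hf i).not_unit, mul_comm _ _⟩ hx'
    refine ⟨y, m + Pi.single i 1, ?_, hy⟩
    have hs : ∏ j, f j ^ (Pi.single i 1 : Fin r → ℕ) j = f i := by
      rw [Finset.prod_eq_single i]
      · simp
      · intro j _ hj; simp [hj]
      · simp
    simp only [Pi.add_apply, pow_add, Finset.prod_mul_distrib, hs]
    rw [hm]; ring

end

/-- The degree-one case, stated at the local ring of a point. Let k be a field of characteristic zero, B
a smooth k-algebra, R the localization of B at a prime ideal, K the fraction field of R and f_1, …,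
f_r prime elements of R. If g is a unit of K whose logarithmic differential g⁻¹dg in Ω_{K/k} is the
image of a form η ∈ Ω_{R/k} plus an R-linear combination Σ c_i f_i⁻¹df_i, then g⁻¹dg = v⁻¹dv + Σ b_i
f_i⁻¹df_i for a unit v of R and integers b_i. (When the f_i are part of a regular system of
parameters the hypothesis says that g⁻¹dg has at worst logarithmic poles along the divisor f_1⋯f_r =
0 at this point, and the statement is the stalkwise injectivity of 1-forms with logarithmic poles
modulo logarithmic differentials of functions invertible off the divisor into Ω¹_K modulo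
logarithmic differentials; it is stated here for arbitrary prime elements f_i.) -/
theorem result
    {k B R K : Type u} [Field k] [CharZero k] [CommRing B] [Algebra k B] [Algebra.Smooth k B]
    (p : Ideal B) [p.IsPrime] [CommRing R] [Algebra B R] [IsLocalization.AtPrime R p]
    [Algebra k R] [IsScalarTower k B R]
    [Field K] [Algebra R K] [IsFractionRing R K] [Algebra k K] [IsScalarTower k R K]
    {r : ℕ} (f : Fin r → R) (hf : ∀ i, Prime (f i))
    (g : Kˣ) (η : Ω[R⁄k]) (c : Fin r → R)
    (h : (g : K)⁻¹ • KaehlerDifferential.D k K (g : K) =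
      KaehlerDifferential.map k k R K η +
        ∑ i, (algebraMap R K (c i) * (algebraMap R K (f i))⁻¹) •
          KaehlerDifferential.D k K (algebraMap R K (f i))) :
    ∃ (v : Rˣ) (b : Fin r → ℤ),
      (g : K)⁻¹ • KaehlerDifferential.D k K (g : K) =
        (algebraMap R K (v : R))⁻¹ • KaehlerDifferential.D k K (algebraMap R K (v : R)) +
          ∑ i, ((b i : K) * (algebraMap R K (f i))⁻¹) •
            KaehlerDifferential.D k K (algebraMap R K (f i)) := by
  classical
  haveI hB := Groth.Agent.VarietyLib.isRegularLocalRing_of_smooth k B p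
  haveI : IsRegularLocalRing R := IsRegularLocalRing.of_ringEquiv (R := Localization.AtPrime p)
    (IsLocalization.algEquiv p.primeCompl _ R).toRingEquiv
  haveI : IsDomain R := IsFractionRing.injective R K |>.isDomain (algebraMap R K)
  haveI : UniqueFactorizationMonoid R := Groth.Agent.CAlgH3.ufm_of_regular R
  haveI : Algebra.EssFiniteType B R := Algebra.EssFiniteType.of_isLocalization R p.primeCompl
  haveI : Algebra.EssFiniteType k R := Algebra.EssFiniteType.comp k B R
  haveI : Algebra.FormallySmooth B R :=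
    Algebra.FormallySmooth.of_isLocalization p.primeCompl
  haveI : Algebra.FormallySmooth k R := Algebra.FormallySmooth.comp k B R
  obtain ⟨a, b, hrel, hab⟩ := IsFractionRing.exists_reduced_fraction R (g : K)
  have hb0 : (b : R) ≠ 0 := nonZeroDivisors.coe_ne_zero b
  have hg : (g : K) = algebraMap R K a / algebraMap R K b := by
    rw [← hab, IsFractionRing.mk'_eq_div]
  have ha0 : a ≠ 0 := by rintro rfl; exact g.ne_zero (by simp [hg])
  obtain ⟨y, m, hy, hyf⟩ := exists_split f hf a ha0
  obtain ⟨z, l, hz, hzf⟩ := exists_split f hf (b : R) hb0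
  set q := algebraMap R K
  have hq : ∀ {x : R}, x ≠ 0 → q x ≠ 0 := fun hx => (map_ne_zero_iff _ (IsFractionRing.injective R K)).2 hx
  have hy0 : y ≠ 0 := by rintro rfl; exact ha0 (by simpa using hy)
  have hz0 : z ≠ 0 := by rintro rfl; exact hb0 (by simpa using hz)
  have hlog : dl k (g : K) = dl k (q y) - dl k (q z) +
      ∑ i, (((m i : ℤ) - l i : ℤ) : K) • dl k (q (f i)) := by
    rw [hg, hy, hz, div_eq_mul_inv, map_mul, map_mul, map_prod, map_prod]
    have hp : ∀ e : Fin r → ℕ, ∀ i ∈ Finset.univ, q (f i ^ e i) ≠ 0 :=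
      fun e i _ => hq (pow_ne_zero _ (hf i).ne_zero)
    have hp' := fun e => Finset.prod_ne_zero_iff.2 (hp e)
    rw [dl_mul (mul_ne_zero (hq hy0) (hp' m)) (inv_ne_zero (mul_ne_zero (hq hz0) (hp' l))),
      dl_inv _ (mul_ne_zero (hq hz0) (hp' l)), dl_mul (hq hy0) (hp' m), dl_mul (hq hz0) (hp' l),
      dl_prod _ _ (hp m), dl_prod _ _ (hp l)]
    simp only [map_pow, dl_pow _ (hq (hf _).ne_zero), Int.cast_sub, Int.cast_natCast, sub_smul,
      Finset.sum_sub_distrib]
    abel
  have hterm : ∀ (x : K) (i : Fin r), (x * (q (f i))⁻¹) • D k K (q (f i)) = x • dl k (q (f i)) :=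
    fun x i => by rw [dl, smul_smul]
  change dl k (g : K) = _ at h
  simp only [hterm] at h
  -- no poles outside the f's
  have hunit : ∀ (s t : R) (ε : K), s ≠ 0 → ε = 1 ∨ ε = -1 → (∀ π, Prime π → π ∣ s → ¬ π ∣ t) →
      (∀ i, ¬ f i ∣ s) → dl k (q y) - dl k (q z) = ε • (dl k (q s) - dl k (q t)) → IsUnit s := by
    intro s t ε hs hε hst hsf hyz
    by_contra hns
    obtain ⟨π, hπi, hπs⟩ := WfDvdMonoid.exists_irreducible_factor hns hs
    have hπ := UniqueFactorizationMonoid.irreducible_iff_prime.1 hπi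
    obtain ⟨n, s', hs', rfl⟩ := WfDvdMonoid.max_power_factor hs hπi
    have hn : n ≠ 0 := by rintro rfl; exact hs' (by simpa using hπs)
    haveI : (Ideal.span {π}).IsPrime := (Ideal.span_singleton_prime hπ.ne_zero).2 hπ
    have hnot : ∀ x : R, ¬ π ∣ x → x ∉ Ideal.span {π} := fun x hx hmem => hx (Ideal.mem_span_singleton.1 hmem)
    have hs'0 : s' ≠ 0 := right_ne_zero_of_mul hs
    have hrest : Reg k K (Ideal.span {π}) (dl k (g : K) - ∑ i, (((m i : ℤ) - l i : ℤ) : K) • dl k (q (f i))) := by
      rw [h, sub_eq_add_neg]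
      have hfr : ∀ i, f i ∉ Ideal.span {π} := fun i => hnot _ fun hd =>
        hsf i ((hπ.associated_of_dvd (hf i) hd).symm.dvd.trans hπs)
      refine ((Reg.add ⟨1, Ideal.one_notMem _, η, by simp⟩ (Reg.sum _ _ fun i _ => (Reg.of_dl (hfr i)).smul (c i))).add
        (Reg.neg (Reg.sum _ _ fun i _ => ?_)))
      rw [← map_intCast (algebraMap R K)]
      exact (Reg.of_dl (hfr i)).smul _
    rw [hlog, add_sub_cancel_right, hyz] at hrest
    have hrest' : Reg k K (Ideal.span {π}) (dl k (q (π ^ n * s')) - dl k (q t)) := by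
      rcases hε with rfl | rfl
      · simpa using hrest
      · simpa using hrest.neg
    have ht : Reg k K (Ideal.span {π}) (dl k (q t)) := Reg.of_dl (hnot _ (hst π hπ hπs))
    have h3 := (hrest'.add ht).add (Reg.of_dl (hnot _ hs')).neg
    rw [map_mul, map_pow, dl_mul (pow_ne_zero n (hq hπ.ne_zero)) (hq hs'0), dl_pow _ (hq hπ.ne_zero)] at h3
    rw [sub_add_cancel, add_neg_cancel_right] at h3
    exact pole_contra π hπ n hn h3
  have hyz_rel : ∀ π, Prime π → π ∣ y → ¬ π ∣ z := fun π hπ h1 h2 =>
    hπ.not_unit (hrel (hy ▸ h1.mul_right _) (hz ▸ h2.mul_right _))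
  have hyu : IsUnit y := hunit y z 1 hy0 (Or.inl rfl) hyz_rel hyf (by rw [one_smul])
  have hzu : IsUnit z := hunit z y (-1) hz0 (Or.inr rfl) (fun π hπ h1 h2 => hyz_rel π hπ h2 h1) hzf
    (by rw [neg_one_smul, neg_sub])
  refine ⟨hyu.unit * hzu.unit⁻¹, fun i => (m i : ℤ) - l i, ?_⟩
  simp only [hterm]
  change dl k (g : K) = dl k (q _) + _
  rw [hlog]
  congr 1
  rw [Units.val_mul, map_mul, map_units_inv, dl_mul (hq hyu.unit.ne_zero) (inv_ne_zero (hq hzu.unit.ne_zero)),
    dl_inv _ (hq hzu.unit.ne_zero), IsUnit.unit_spec, IsUnit.unit_spec, sub_eq_add_neg]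

end Groth.Agent.S18578
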