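import Groth.Statements.S18579
import Mathlib
import Groth.Prelude

set_option linter.all false

set_option autoImplicit false
universe u
open LogDiff


namespace Groth.Agent.S18579

theorem exp_le_of_dvd {R : Type*} [CommRing R] [IsDomain R] {r : ℕ} (f : Fin r → R) (hf : ∀ i, Prime (f i))
    (hfa : ∀ i j, Associated (f i) (f j) → i = j) (e e' : Fin r → ℕ) (h : ∏ i, f i ^ e i ∣ ∏ i, f i ^ e' i) (i : Fin r) :
    e i ≤ e' i := by
  classical
  have h1 : f i ^ e i ∣ f i ^ e' i * ∏ j ∈ Finset.univ.erase i, f j ^ e' j := by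
    rw [Finset.mul_prod_erase _ (fun j => f j ^ e' j) (Finset.mem_univ i)]
    exact (Finset.dvd_prod_of_mem (fun j => f j ^ e j) (Finset.mem_univ i)).trans h
  have hnd : ¬ f i ∣ ∏ j ∈ Finset.univ.erase i, f j ^ e' j := by
    intro hd
    obtain ⟨j, hj, hdj⟩ := (Prime.dvd_finsetProd_iff (hf i) _).1 hd
    exact (Finset.mem_erase.1 hj).1 (hfa i j ((hf i).associated_of_dvd (hf j) ((hf i).dvd_of_dvd_pow hdj))).symm
  exact (pow_dvd_pow_iff (hf i).ne_zero (hf i).not_unit).1 ((hf i).pow_dvd_of_dvd_mul_right _ hnd h1)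

theorem factor_of_mul_eq_pow {R : Type*} [CommRing R] [IsDomain R] {r : ℕ} (f : Fin r → R) (hf : ∀ i, Prime (f i))
    (N : ℕ) (a b : R) (h : a * b = (∏ i, f i) ^ N) :
    ∃ (v : Rˣ) (c : Fin r → ℕ), a = v * ∏ i, f i ^ c i := by
  classical
  have h' : a * b = 1 * ∏ p ∈ (Finset.univ : Finset (Fin r × Fin N)), f p.1 := by
    rw [one_mul, h, Fintype.prod_prod_type, ← Finset.prod_pow]
    simp
  obtain ⟨t, u, y, z, -, -, hyz, rfl, -⟩ := mul_eq_mul_prime_prod (fun p _ => hf p.1) h'
  refine ⟨(IsUnit.of_mul_eq_one z hyz.symm).unit, fun i => (t.filter fun p => p.1 = i).card, ?_⟩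
  rw [IsUnit.unit_spec]
  congr 1
  rw [← Finset.prod_fiberwise t Prod.fst fun p => f p.1]
  refine Finset.prod_congr rfl fun i _ => ?_
  rw [Finset.prod_congr rfl (fun p hp => by rw [(Finset.mem_filter.1 hp).2]), Finset.prod_const]

/-- The exact sequence for units (first Milnor K-groups) when every component of the divisor is removed.
Let k be a field, B a smooth k-algebra, R the localization of B at a prime ideal, K the fraction
field of R and f_1, …, f_r pairwise non-associate prime elements of R. If w is a unit of K such that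
w and w⁻¹ both lie in R[1/(f_1⋯f_r)], i.e. each becomes an element of R after multiplication by a
power of f_1⋯f_r, then there is exactly one pair (v, b) consisting of a unit v of R and integers
b_1, …, b_r with w = v · ∏ f_i^{b_i} in K. (This is the exactness of 0 → Γ(Spec R, O^×) → Γ(Spec R ∖
V(f_1⋯f_r), O^×) → ℤ^r → 0, the last map being the orders along the f_i. The published statement
takes the f_i to be local equations of the components of a normal crossings divisor, over a field of
characteristic zero; this row allows arbitrary pairwise non-associate prime elements and any field.) -/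
theorem result
    {k B R K : Type u} [Field k] [CommRing B] [Algebra k B] [Algebra.Smooth k B]
    (p : Ideal B) [p.IsPrime] [CommRing R] [Algebra B R] [IsLocalization.AtPrime R p]
    [Field K] [Algebra R K] [IsFractionRing R K]
    {r : ℕ} (f : Fin r → R) (hf : ∀ i, Prime (f i)) (hfa : ∀ i j, Associated (f i) (f j) → i = j)
    (w : Kˣ)
    (hw : ∃ (a : R) (n : ℕ), (w : K) * algebraMap R K ((∏ i, f i) ^ n) = algebraMap R K a)
    (hw' : ∃ (a : R) (n : ℕ), (w⁻¹ : Kˣ) * algebraMap R K ((∏ i, f i) ^ n) = algebraMap R K a) :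
    ∃! vb : Rˣ × (Fin r → ℤ),
      (w : K) = algebraMap R K (vb.1 : R) * ∏ i, (algebraMap R K (f i)) ^ (vb.2 i) := by
  classical
  let φ := algebraMap R K
  have hinj : Function.Injective φ := IsFractionRing.injective R K
  haveI : IsDomain R := hinj.isDomain
  have hφ : ∀ i, φ (f i) ≠ 0 := fun i => (map_ne_zero_iff _ hinj).2 (hf i).ne_zero
  have hcast : ∀ (c : Fin r → ℕ), φ (∏ i, f i ^ c i) = ∏ i, φ (f i) ^ (c i : ℤ) := fun c => by
    simp [map_prod, map_pow, zpow_natCast]
  obtain ⟨a, n, ha⟩ := hw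
  obtain ⟨a', n', ha'⟩ := hw'
  have hab : a * a' = (∏ i, f i) ^ (n + n') := hinj (by
    rw [map_mul, ← ha, ← ha', pow_add, map_mul, Units.val_inv_eq_inv_val]
    field_simp
    rfl)
  obtain ⟨v, c, hc⟩ := factor_of_mul_eq_pow f hf _ a a' hab
  refine ⟨(v, fun i => (c i : ℤ) - n), ?_, ?_⟩
  · have hne : φ ((∏ i, f i) ^ n) ≠ 0 := (map_ne_zero_iff _ hinj).2 (pow_ne_zero _ (Finset.prod_ne_zero_iff.2 fun i _ => (hf i).ne_zero))
    apply mul_right_cancel₀ hne
    show (w : K) * _ = _
    rw [ha, hc, map_mul, hcast, show (∏ i, f i) ^ n = ∏ i, f i ^ n from (Finset.prod_pow _ _ _).symm, hcast, mul_assoc,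
      ← Finset.prod_mul_distrib]
    congr 1
    refine Finset.prod_congr rfl fun i _ => ?_
    rw [← zpow_add₀ (hφ i), sub_add_cancel]
  · rintro ⟨v', b⟩ hvb
    -- both representations, cleared of denominators
    let M : ℕ := n + Finset.univ.sup fun i => (b i).natAbs
    have hM : ∀ i, 0 ≤ b i + M ∧ n ≤ M := fun i => by
      have := Finset.le_sup (f := fun i => (b i).natAbs) (Finset.mem_univ i)
      simp only [M] at *
      omega
    let e : Fin r → ℕ := fun i => (b i + M).toNat
    let e' : Fin r → ℕ := fun i => c i + M - n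
    have h1 : φ (v' * ∏ i, f i ^ e i) = φ (v * ∏ i, f i ^ e' i) := by
      have hw1 : (w : K) = φ v * ∏ i, φ (f i) ^ ((c i : ℤ) - n) := by
        have hne : φ ((∏ i, f i) ^ n) ≠ 0 := (map_ne_zero_iff _ hinj).2 (pow_ne_zero _ (Finset.prod_ne_zero_iff.2 fun i _ => (hf i).ne_zero))
        apply mul_right_cancel₀ hne
        rw [ha, hc, map_mul, hcast, show (∏ i, f i) ^ n = ∏ i, f i ^ n from (Finset.prod_pow _ _ _).symm, hcast, mul_assoc,
          ← Finset.prod_mul_distrib]
        congr 1
        refine Finset.prod_congr rfl fun i _ => ?_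
        rw [← zpow_add₀ (hφ i), sub_add_cancel]
      have h2 : φ v' * ∏ i, φ (f i) ^ b i = φ v * ∏ i, φ (f i) ^ ((c i : ℤ) - n) := hvb.symm.trans hw1
      rw [map_mul, map_mul, hcast, hcast]
      have := congrArg (· * ∏ i, φ (f i) ^ (M : ℤ)) h2
      simp only [mul_assoc, ← Finset.prod_mul_distrib] at this
      convert this using 2 <;> refine Finset.prod_congr rfl fun i _ => ?_ <;> rw [← zpow_add₀ (hφ i)] <;> congr 1
      · exact Int.toNat_of_nonneg (hM i).1
      · have := (hM i).2
        show ((c i + M - n : ℕ) : ℤ) = _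
        omega
    have h3 := hinj h1
    have hd1 : ∏ i, f i ^ e i ∣ ∏ i, f i ^ e' i := (Units.dvd_mul_left (u := v)).1 (h3 ▸ dvd_mul_left _ _)
    have hd2 : ∏ i, f i ^ e' i ∣ ∏ i, f i ^ e i := (Units.dvd_mul_left (u := v')).1 (h3.symm ▸ dvd_mul_left _ _)
    have hee : e = e' := funext fun i => le_antisymm (exp_le_of_dvd f hf hfa _ _ hd1 i) (exp_le_of_dvd f hf hfa _ _ hd2 i)
    have hv : v' = v := by
      rw [hee] at h3
      exact Units.ext (mul_right_cancel₀ (Finset.prod_ne_zero_iff.2 fun i _ => pow_ne_zero _ (hf i).ne_zero) h3)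
    refine Prod.ext hv (funext fun i => ?_)
    have := congrFun hee i
    simp only [e, e'] at this
    have := hM i
    show b i = (c i : ℤ) - n
    omega

end Groth.Agent.S18579
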