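import Groth.Statements.S18580
import Groth.Agent.FEtLib.EqLocus

set_option autoImplicit false
universe u
open EtBase

namespace Groth.Agent.S18580

open AlgebraicGeometry CategoryTheory in
/-- Let Y be a connected scheme and f : X ⟶ Y a separated morphism that is unramified (locally of finite
type and formally unramified). Then the sections of f correspond bijectively to the connected
components of X mapping isomorphically onto Y: there is a bijection from the set of sections s of f
to the set of open subschemes U of X whose underlying set is a connected component of X and for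
which U ⟶ X ⟶ Y is an isomorphism, sending s to its image. In particular every section is an
isomorphism onto a connected component of X and is determined by its image. (A connected component
mapping isomorphically onto Y is the image of a section, hence open, so restricting to open
components loses nothing. The published statement also assumes Y Noetherian; that hypothesis plays
no role and is omitted.) -/
theorem result {X Y : Scheme.{u}} (f : X ⟶ Y)
    [FormallyUnramified f] [LocallyOfFiniteType f] [IsSeparated f] [ConnectedSpace Y] :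
    ∃ e : {s : Y ⟶ X // s ≫ f = 𝟙 Y} ≃
        {U : X.Opens // (∃ x : X, (U : Set X) = connectedComponent x) ∧ IsIso (U.ι ≫ f)},
      ∀ s : {s : Y ⟶ X // s ≫ f = 𝟙 Y}, ((e s).1 : Set X) = Set.range s.1 := by
  classical
  have hw : ∀ s : {s : Y ⟶ X // s ≫ f = 𝟙 Y}, (f ≫ s.1) ≫ f = 𝟙 X ≫ f := by
    intro s; rw [Category.assoc, s.2, Category.comp_id, Category.id_comp]
  let E : {s : Y ⟶ X // s ≫ f = 𝟙 Y} → X.Opens := fun s =>
    Groth.Agent.FEtLib.eqLocus f (f ≫ s.1) (𝟙 X) (hw s)
  have hι : ∀ s, (E s).ι ≫ f ≫ s.1 = (E s).ι := by
    intro s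
    have := Groth.Agent.FEtLib.ι_comp_eq f (f ≫ s.1) (𝟙 X) (hw s)
    rw [Category.comp_id] at this
    exact this
  have hrange : ∀ s, (E s : Set X) = Set.range s.1 := by
    intro s
    apply le_antisymm
    · intro x hx
      refine ⟨f x, ?_⟩
      exact congrArg (fun m : (E s : Scheme.{u}) ⟶ X => m ⟨x, hx⟩) (hι s)
    · apply Groth.Agent.FEtLib.range_subset
      rw [← Category.assoc, s.2, Category.id_comp, Category.comp_id]
  have hiso : ∀ s, IsIso ((E s).ι ≫ f) := by
    intro s
    have hr : Set.range s.1 ⊆ Set.range (E s).ι := by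
      rw [Scheme.Opens.range_ι, hrange]
    refine ⟨IsOpenImmersion.lift (E s).ι s.1 hr, ?_, ?_⟩
    · rw [← cancel_mono (E s).ι, Category.assoc, IsOpenImmersion.lift_fac, Category.assoc,
        hι s, Category.id_comp]
    · rw [← Category.assoc, IsOpenImmersion.lift_fac, s.2]
  have hcc : ∀ s, ∃ x : X, (E s : Set X) = connectedComponent x := by
    intro s
    obtain ⟨y⟩ := (inferInstance : ConnectedSpace Y).toNonempty
    refine ⟨s.1 y, le_antisymm ?_ ?_⟩
    · rw [hrange]
      exact (isPreconnected_range s.1.continuous).subset_connectedComponent (Set.mem_range_self y)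
    · exact IsClopen.connectedComponent_subset
        ⟨Groth.Agent.FEtLib.isClosed_eqLocus f (f ≫ s.1) (𝟙 X) (hw s), (E s).isOpen⟩
        (by rw [hrange]; exact Set.mem_range_self y)
  have hsec : ∀ (U : X.Opens) (h : IsIso (U.ι ≫ f)),
      (inv (U.ι ≫ f) ≫ U.ι) ≫ f = 𝟙 Y := by
    intro U h; rw [Category.assoc, IsIso.inv_hom_id]
  let e : {s : Y ⟶ X // s ≫ f = 𝟙 Y} ≃
      {U : X.Opens // (∃ x : X, (U : Set X) = connectedComponent x) ∧ IsIso (U.ι ≫ f)} :=
    { toFun := fun s => ⟨E s, hcc s, hiso s⟩
      invFun := fun U => ⟨@inv _ _ _ _ (U.1.ι ≫ f) U.2.2 ≫ U.1.ι, hsec U.1 U.2.2⟩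
      left_inv := by
        intro s
        haveI := hiso s
        apply Subtype.ext
        dsimp only
        calc inv ((E s).ι ≫ f) ≫ (E s).ι
            = inv ((E s).ι ≫ f) ≫ ((E s).ι ≫ f) ≫ s.1 := by rw [Category.assoc, hι s]
          _ = s.1 := IsIso.inv_hom_id_assoc _ _
      right_inv := by
        intro U
        haveI := U.2.2
        apply Subtype.ext
        apply TopologicalSpace.Opens.ext
        dsimp only
        rw [hrange]
        dsimp only
        rw [Scheme.Hom.comp_base, TopCat.coe_comp, Set.range_comp,
          Set.range_eq_univ.mpr (inv (U.1.ι ≫ f)).surjective, Set.image_univ,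
          Scheme.Opens.range_ι] }
  exact ⟨e, hrange⟩

end Groth.Agent.S18580
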