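import Groth.Statements.S18581
import Groth.Agent.S0785
import Groth.Agent.CommAlg6.SupportDimSurj
import Mathlib.RingTheory.Unramified.LocalRing
import Mathlib.RingTheory.Smooth.Flat

set_option autoImplicit false
universe u
open Desc

namespace Groth.Agent.S18581

/-- Let A → B be a local homomorphism of Noetherian local rings which is étale, in the sense that B is
(compatibly with the map from A) the localization of an étale A-algebra E at a prime ideal. Then A
is a Cohen–Macaulay ring exactly when B is one. -/
theorem result (A B : Type u) [CommRing A] [CommRing B]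
    [IsLocalRing A] [IsLocalRing B] [IsNoetherianRing A] [IsNoetherianRing B]
    [Algebra A B] [IsLocalHom (algebraMap A B)]
    (E : Type u) [CommRing E] [Algebra A E] [Algebra.Etale A E] (P : Ideal E) [P.IsPrime]
    [Algebra E B] [IsScalarTower A E B] [IsLocalization.AtPrime B P] :
    LocCoh.IsCohenMacaulayLocalRing A ↔ LocCoh.IsCohenMacaulayLocalRing B := by
  haveI : Module.Flat E B := IsLocalization.flat B P.primeCompl
  haveI : Module.Flat A B := Module.Flat.trans A E B
  haveI : Algebra.FormallyUnramified E B := Algebra.FormallyUnramified.of_isLocalization P.primeCompl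
  haveI : Algebra.FormallyUnramified A B := Algebra.FormallyUnramified.comp A E B
  haveI : Algebra.EssFiniteType E B := Algebra.EssFiniteType.of_isLocalization B P.primeCompl
  haveI : Algebra.EssFiniteType A B := Algebra.EssFiniteType.comp A E B
  have hd := Groth.Agent.S0785.result A B E P
  have h := Groth.Agent.CommAlg6.supportDim_tensor_eq (A := A) (B := B) (N := B) A
  rw [Module.supportDim_eq_of_equiv (TensorProduct.AlgebraTensorModule.rid A B B)] at h
  have hz : Module.supportDim B (B ⧸ (IsLocalRing.maximalIdeal A).map (algebraMap A B) • (⊤ : Submodule B B)) = 0 := by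
    rw [Algebra.FormallyUnramified.map_maximalIdeal, Ideal.smul_eq_mul, Ideal.mul_top, Module.supportDim_quotient_eq_ringKrullDim]
    exact ringKrullDim_eq_zero_of_isField ((Ideal.Quotient.maximal_ideal_iff_isField_quotient _).1 (IsLocalRing.maximalIdeal.isMaximal B))
  rw [hz, add_zero] at h
  constructor
  · intro hA
    exact { supportDim_eq_depth := by rw [h, hA.supportDim_eq_depth, hd] }
  · intro hB
    exact { supportDim_eq_depth := by rw [← h, hB.supportDim_eq_depth, hd] }

end Groth.Agent.S18581
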