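import Groth.Statements.S18585
import Groth.Agent.TFPush7.TraceDeg
-- import your own Groth.Agent.* helpers here

set_option autoImplicit false
universe u
open BranchVar

namespace Groth.Agent.S18585

set_option linter.style.haveILetI false
set_option backward.isDefEq.respectTransparency.types false

open CategoryTheory CategoryTheory.Limits AlgebraicGeometry in
/-- Let k be a characteristic-zero algebraically closed field, C a smooth proper integral curve over k,
and g : Y ⟶ C a finite flat morphism with g_*O_Y locally free of rank d whose generic fibre (the
fibre over the generic point of C) is reduced. Then the degree of the rank-d locally free module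
g_*O_Y on C, computed as χ(C, g_*O_Y) − d·χ(C, O_C), is at most 0. (The published inequality is
stated for the degree of the determinant line bundle, deg det(g_*O_Y)^{-1} ≥ 0; the degree of a
locally free module on such a curve equals the degree of its determinant.) -/
theorem result (k : Type u) [Field k] [IsAlgClosed k] [CharZero k]
    (C : Scheme.{u}) [C.Over (Spec (CommRingCat.of k))] [IsIntegral C]
    (hC : Curve.IsSmoothProperCurve k C (C ↘ Spec (CommRingCat.of k)))
    (Y : Scheme.{u}) (g : Y ⟶ C) [IsFinite g] [Flat g] (d : ℕ)
    (hd : FlatMod.IsFinLocFreeOfRank d ((Coh.push g).obj (Coh.structureModule Y)))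
    (hred : AlgebraicGeometry.IsReduced (g.fiber (genericPoint C))) :
    Curv2.deg k C ((Coh.push g).obj (Coh.structureModule Y)) d ≤ 0 := by
  obtain ⟨hp, hs, -, hdim⟩ := hC
  haveI := hp
  haveI := hs
  haveI := EulerLib.isNoetherian_of_proper (X := C) k
  haveI : IsLocallyNoetherian Y := LocallyOfFiniteType.isLocallyNoetherian g
  exact TFPush7.TraceDeg.deg_nonpos k g hdim hd hred

end Groth.Agent.S18585
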