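import Groth.Statements.S18589
import Mathlib.RingTheory.Etale.Weakly
import Mathlib.RingTheory.HopkinsLevitzki
import Mathlib.RingTheory.LocalRing.Pullback
import Mathlib.RingTheory.PicardGroup
import Mathlib.RingTheory.TotallySplit
import Mathlib.RingTheory.WittVector.Basic
import Mathlib.Tactic
import Groth.Agent.CommAlg4.Nilpotent

set_option linter.all false

set_option autoImplicit false
open CAlg

open Groth.Agent.CommAlg4

namespace Groth.Agent.S18589

/-- For a prime p and every natural number n, the n-th Witt addition polynomial over the integers (the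
polynomial S_n with (x + y)_n = S_n(x_0, y_0, …, x_n, y_n) for p-typical Witt vectors x, y) is
weighted homogeneous of weighted degree p ^ n for the grading in which the variables x_i and y_i
have weight p ^ i. -/
theorem result (p : ℕ) [Fact p.Prime] (n : ℕ) :
    MvPolynomial.IsWeightedHomogeneous (fun i : Fin 2 × ℕ => p ^ i.2) (WittVector.wittAdd p n) (p ^ n) := by
  classical
  let R := Polynomial (MvPolynomial (Fin 2 × ℕ) ℚ)
  haveI : Invertible (p : R) := ((IsUnit.map (algebraMap ℚ R) (isUnit_iff_ne_zero.mpr (Nat.cast_ne_zero.mpr (Fact.out : p.Prime).ne_zero))).invertible).copy _ (by simp)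
  let X0 : Fin 2 → WittVector p R := fun j => WittVector.mk p fun i => Polynomial.C (MvPolynomial.X (j, i))
  let Sc : WittVector p R → WittVector p R := fun x => WittVector.mk p fun i => Polynomial.X ^ (p ^ i) * x.coeff i
  have hgh : ∀ x m, WittVector.ghostComponent m (Sc x) = Polynomial.X ^ (p ^ m) * WittVector.ghostComponent m x := by
    intro x m
    simp only [WittVector.ghostComponent_apply, wittPolynomial_eq_sum_C_mul_X_pow, map_sum, map_mul, map_pow, MvPolynomial.aeval_X, MvPolynomial.aeval_C, Finset.mul_sum, Sc, WittVector.coeff_mk]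
    refine Finset.sum_congr rfl fun i hi => ?_
    have : i ≤ m := by simpa [Nat.lt_succ_iff] using hi
    rw [mul_pow, ← pow_mul, ← pow_add, Nat.add_sub_cancel' this]; ring
  have hadd : Sc (X0 0) + Sc (X0 1) = Sc (X0 0 + X0 1) := by
    apply (WittVector.ghostMap.bijective_of_invertible p R).1
    ext1 m
    rw [map_add]
    simp only [Pi.add_apply, WittVector.ghostMap_apply, hgh, map_add, mul_add]
  have h := congrArg (fun x => WittVector.coeff x n) hadd
  simp only [Sc, WittVector.coeff_mk, WittVector.add_coeff, WittVector.peval] at h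
  set φ := WittVector.wittAdd p n with hφ
  let ι := Int.castRingHom ℚ
  have h1 : ∀ d : Fin 2 × ℕ →₀ ℕ, (MvPolynomial.aeval (Function.uncurry ![fun i => Polynomial.X ^ (p ^ i) * (X0 0).coeff i, fun i => Polynomial.X ^ (p ^ i) * (X0 1).coeff i]) (MvPolynomial.monomial d (φ.coeff d)) : R) = Polynomial.monomial (Finsupp.weight (fun i : Fin 2 × ℕ => p ^ i.2) d) (MvPolynomial.map ι (MvPolynomial.monomial d (φ.coeff d))) := by
    intro d
    rw [MvPolynomial.aeval_monomial, MvPolynomial.map_monomial, ← Polynomial.C_mul_X_pow_eq_monomial,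
      MvPolynomial.monomial_eq, map_mul, Finsupp.weight_apply, Finsupp.sum, ← Finset.prod_pow_eq_pow_sum,
      Finsupp.prod, Finsupp.prod, map_prod, mul_assoc, ← Finset.prod_mul_distrib]
    congr 1
    refine Finset.prod_congr rfl fun i _ => ?_
    obtain ⟨j, k⟩ := i
    fin_cases j <;> simp [X0, Function.uncurry, mul_pow, ← pow_mul, mul_comm]
  have h2 : ∀ d ∈ φ.support, (MvPolynomial.aeval (Function.uncurry ![(X0 0).coeff, (X0 1).coeff]) (MvPolynomial.monomial d (φ.coeff d)) : R) = Polynomial.C (MvPolynomial.map ι (MvPolynomial.monomial d (φ.coeff d))) := by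
    intro d _
    rw [MvPolynomial.aeval_monomial, MvPolynomial.map_monomial, MvPolynomial.monomial_eq, map_mul, Finsupp.prod, Finsupp.prod, map_prod]
    congr 1
    refine Finset.prod_congr rfl fun i _ => ?_
    obtain ⟨j, k⟩ := i
    fin_cases j <;> simp [X0, Function.uncurry]
  intro d hd
  conv at h => lhs; rw [φ.as_sum]
  conv at h => rhs; rw [φ.as_sum]
  rw [map_sum, map_sum] at h
  replace h := ((Finset.sum_congr rfl fun d _ => h1 d).symm.trans h).trans (congrArg (Polynomial.X ^ p ^ n * ·) (Finset.sum_congr rfl h2))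
  by_contra hne
  let ψ : R →+ ℚ := (MvPolynomial.coeffAddMonoidHom d).comp
    (Polynomial.lcoeff (MvPolynomial (Fin 2 × ℕ) ℚ) (Finsupp.weight (fun i : Fin 2 × ℕ => p ^ i.2) d)).toAddMonoidHom
  have hψ : ∀ q, ψ q = MvPolynomial.coeff d (Polynomial.coeff q (Finsupp.weight (fun i : Fin 2 × ℕ => p ^ i.2) d)) := fun _ => rfl
  have h3 := congrArg ψ h
  rw [Finset.mul_sum, map_sum, map_sum, Finset.sum_eq_single d, Finset.sum_eq_single d] at h3
  · simp only [hψ, Polynomial.coeff_X_pow_mul', Polynomial.coeff_C, Polynomial.coeff_monomial, MvPolynomial.map_monomial, if_pos, MvPolynomial.coeff_monomial] at h3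
    split_ifs at h3 with h4 h5
    · omega
    all_goals simp [ι, hd] at h3
  · intro e _ he
    rw [hψ]; simp [Polynomial.coeff_monomial, Polynomial.coeff_X_pow_mul', Polynomial.coeff_C, apply_ite, he]
  · intro hn
    exact absurd (MvPolynomial.mem_support_iff.mpr hd) hn
  · intro e _ he
    rw [hψ]; simp [Polynomial.coeff_monomial, Polynomial.coeff_X_pow_mul', Polynomial.coeff_C, apply_ite, he]
  · intro hn
    exact absurd (MvPolynomial.mem_support_iff.mpr hd) hn

end Groth.Agent.S18589
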