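import Groth.Statements.S18590
import Groth.Agent.CommAlg4.WittTwist
import Groth.Agent.CommAlg4.WittTwist
import Mathlib.Tactic

set_option linter.all false

set_option autoImplicit false
universe u
open CAlg


namespace Groth.Agent.S18590

/-- Let p be a prime, A a commutative ring, K a commutative A-algebra of characteristic p and M_0, M_1,
M_2, … A-submodules of K with M_i · M_j ⊆ M_(i+j) for all i, j. Then the subset of the ring W(K) of
p-typical Witt vectors consisting of the vectors whose n-th coordinate lies in M_(p^n) for every n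
is closed under addition and under multiplication by the image of W(A) under W of the structure map;
in other words it is a W(A)-submodule of W(K). (The published statement is the case of an integral
normal noetherian scheme X of characteristic p with function field K, an affine open subset U with
coordinate ring A, and M_k the module of sections over U of the divisorial sheaf of k·D for a real
Weil divisor D on X; these form such a multiplicative family, and the subset is then the module of
sections over U of the Witt divisorial sheaf of D inside W(K). Only the two stated properties of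
that family enter.) -/
theorem result
    (p : ℕ) [Fact p.Prime] (A K : Type u) [CommRing A] [CommRing K] [Algebra A K] [CharP K p]
    (M : ℕ → Submodule A K)
    (hmul : ∀ (i j : ℕ) (a b : K), a ∈ M i → b ∈ M j → a * b ∈ M (i + j)) :
    (∀ φ ψ : WittVector p K, (∀ n : ℕ, φ.coeff n ∈ M (p ^ n)) → (∀ n : ℕ, ψ.coeff n ∈ M (p ^ n)) →
        ∀ n : ℕ, (φ + ψ).coeff n ∈ M (p ^ n)) ∧
      (∀ (x : WittVector p A) (φ : WittVector p K), (∀ n : ℕ, φ.coeff n ∈ M (p ^ n)) →
        ∀ n : ℕ, (WittVector.map (algebraMap A K) x * φ).coeff n ∈ M (p ^ n)) := by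
  classical
  let M' : ℕ → Submodule A K := fun i => if i = 0 then M 0 ⊔ 1 else M i
  have hM : ∀ i, i ≠ 0 → M' i = M i := fun i hi => if_neg hi
  have hM'0 : M' 0 = M 0 ⊔ 1 := if_pos rfl
  have h1 : (1 : K) ∈ M' 0 := hM'0 ▸ Submodule.mem_sup_right (Submodule.one_le.mp (le_refl _))
  have hle : ∀ i, M i ≤ M' i := fun i => by
    rcases eq_or_ne i 0 with rfl | hi
    · rw [hM'0]; exact le_sup_left
    · rw [hM i hi]
  have hmul' : ∀ i j a b, a ∈ M' i → b ∈ M' j → a * b ∈ M' (i + j) := by
    have h0 : ∀ j a b, a ∈ M' 0 → b ∈ M j → a * b ∈ M j := by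
      intro j a b ha hb
      rw [hM'0, Submodule.mem_sup] at ha
      obtain ⟨y, hy, z, hz, rfl⟩ := ha
      obtain ⟨c, rfl⟩ := Submodule.mem_one.mp hz
      rw [add_mul, ← Algebra.smul_def]
      exact add_mem (by simpa using hmul 0 j y b hy hb) ((M j).smul_mem c hb)
    intro i j a b ha hb
    rcases eq_or_ne i 0 with rfl | hi
    · rw [zero_add]
      rcases eq_or_ne j 0 with rfl | hj
      · rw [hM'0, Submodule.mem_sup] at hb
        obtain ⟨y, hy, z, hz, rfl⟩ := hb
        obtain ⟨c, rfl⟩ := Submodule.mem_one.mp hz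
        rw [mul_add, mul_comm a (algebraMap A K c), ← Algebra.smul_def]
        exact add_mem (hle 0 (h0 0 a y ha hy)) ((M' 0).smul_mem c ha)
      · rw [hM j hj] at hb ⊢; exact h0 j a b ha hb
    · rcases eq_or_ne j 0 with rfl | hj
      · rw [hM i hi] at ha; rw [add_zero, hM i hi, mul_comm]; exact h0 i b a hb ha
      · rw [hM i hi] at ha; rw [hM j hj] at hb; rw [hM (i + j) (by omega)]; exact hmul i j a b ha hb
  let S : Subring (Polynomial K) :=
    { carrier := {q | ∀ i, q.coeff i ∈ M' i}
      mul_mem' := fun {a b} ha hb i => by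
        rw [Polynomial.coeff_mul]
        exact sum_mem fun x hx => Finset.HasAntidiagonal.mem_antidiagonal.mp hx ▸ hmul' _ _ _ _ (ha x.1) (hb x.2)
      one_mem' := fun i => by
        rw [Polynomial.coeff_one]
        split_ifs with h
        · subst h; exact h1
        · exact zero_mem _
      add_mem' := fun ha hb i => by rw [Polynomial.coeff_add]; exact add_mem (ha i) (hb i)
      zero_mem' := fun i => by rw [Polynomial.coeff_zero]; exact zero_mem _
      neg_mem' := fun ha i => by rw [Polynomial.coeff_neg]; exact neg_mem (ha i) }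
  let C := WittVector.map (p := p) (Polynomial.C : K →+* Polynomial K)
  let T := WittVector.teichmuller p (Polynomial.X : Polynomial K)
  let ι := WittVector.map (p := p) S.subtype
  have hcoef : ∀ (φ : WittVector p K) n, (T * C φ).coeff n = Polynomial.monomial (p ^ n) (φ.coeff n) := by
    intro φ n
    rw [Groth.Agent.CommAlg4.teichmuller_mul_coeff, WittVector.map_coeff, mul_comm, Polynomial.C_mul_X_pow_eq_monomial]
  have hin : ∀ φ : WittVector p K, (∀ n, φ.coeff n ∈ M (p ^ n)) → ∃ Φ, ι Φ = T * C φ := by
    intro φ hφ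
    refine ⟨WittVector.mk p fun n => ⟨Polynomial.monomial (p ^ n) (φ.coeff n), fun i => ?_⟩, ?_⟩
    · rw [Polynomial.coeff_monomial]
      split_ifs with h
      · exact h ▸ hle _ (hφ n)
      · exact zero_mem _
    · ext n; rw [hcoef, WittVector.map_coeff, WittVector.coeff_mk]; rfl
  have hout : ∀ φ : WittVector p K, (∃ Φ, ι Φ = T * C φ) → ∀ n, φ.coeff n ∈ M (p ^ n) := by
    rintro φ ⟨Φ, hΦ⟩ n
    have h := (Φ.coeff n).2 (p ^ n)
    have he : ((Φ.coeff n : S) : Polynomial K) = Polynomial.monomial (p ^ n) (φ.coeff n) := by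
      rw [← hcoef, ← hΦ, WittVector.map_coeff]; rfl
    rwa [he, Polynomial.coeff_monomial, if_pos rfl, hM _ (pow_ne_zero _ (Nat.Prime.ne_zero Fact.out))] at h
  refine ⟨fun φ ψ hφ hψ => hout _ ?_, fun x φ hφ => hout _ ?_⟩
  · obtain ⟨Φ, hΦ⟩ := hin φ hφ
    obtain ⟨Ψ, hΨ⟩ := hin ψ hψ
    exact ⟨Φ + Ψ, by rw [map_add, hΦ, hΨ, map_add, mul_add]⟩
  · obtain ⟨Φ, hΦ⟩ := hin φ hφ
    let a : A →+* S := ((Polynomial.C : K →+* Polynomial K).comp (algebraMap A K)).codRestrict S fun c i => by
      rw [RingHom.comp_apply, Polynomial.coeff_C]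
      split_ifs with h
      · subst h; rw [Algebra.algebraMap_eq_smul_one]; exact Submodule.smul_mem _ c h1
      · exact zero_mem _
    refine ⟨WittVector.map a x * Φ, ?_⟩
    rw [map_mul, hΦ, map_mul, mul_left_comm]
    congr 1

end Groth.Agent.S18590
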