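import Groth.Statements.S18595
import Groth.Agent.Vert28.Main

set_option autoImplicit false
set_option linter.style.haveILetI false
set_option backward.isDefEq.respectTransparency false
universe u
open Cyc

namespace Groth.Agent.S18595

open AlgebraicGeometry CategoryTheory CategoryTheory.Limits in
/-- Let k be a perfect field, X an integral smooth proper curve over k (proper standing for projective)
and P = X ×_k A¹_k, presented by a pullback square with projections p₁ : P ⟶ X and p₂ : P ⟶ Spec
k[T]. Fix a dimension function δ on P (in the sense of Cyc.IsSetup) and the integer c with δ(z) + 1
= c at every closed point z of P, so that the c-cycles on P are its Weil divisors. Then every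
c-cycle α on P is rationally equivalent, as a c-cycle, to a c-cycle β without vertical components:
every point z with β(z) ≠ 0 lies over the generic point of X, i.e. each prime component of β is
quasi-finite and dominant over X (equidimensional of relative dimension zero over X). (The published
statement is for any smooth projective curve; its connected components are treated one at a time and
a smooth proper curve over a field is projective, so X is taken integral and proper here.) -/
theorem result
    (k : Type u) [Field k] [PerfectField k] {X P : Scheme.{u}} (f : X ⟶ Spec (CommRingCat.of k))
    [IsIntegral X] [IsProper f] [Smooth f] (hdim : topologicalKrullDim X = 1)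
    (p₁ : P ⟶ X) (p₂ : P ⟶ Spec (CommRingCat.of (Polynomial k)))
    (hP : IsPullback p₁ p₂ f (Spec.map (CommRingCat.ofHom (Polynomial.C : k →+* Polynomial k))))
    (δ : P → ℤ) (hδ : Cyc.IsSetup P δ) (c : ℤ)
    (hc : ∀ z : P, IsClosed ({z} : Set P) → δ z + 1 = c)
    (α : AlgebraicCycle P ℤ) (hα : α ∈ Cyc.Zk P δ c) :
    ∃ β ∈ Cyc.Zk P δ c, Cyc.RatEquiv δ c α β ∧ ∀ z : P, β z ≠ 0 → p₁ z = genericPoint X := by
  exact Groth.Agent.Vert28.main hdim hP hδ c hc α hα

end Groth.Agent.S18595
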