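import Groth.Statements.S18596
import Groth.Agent.TameKum.ProperTame

set_option linter.style.haveILetI false
set_option backward.isDefEq.respectTransparency.types false
set_option backward.isDefEq.respectTransparency false
open AlgebraicGeometry CategoryTheory
-- import your own Groth.Agent.* helpers here

set_option autoImplicit false
universe u
open EtRam

namespace Groth.Agent.S18596

open AlgebraicGeometry CategoryTheory in
/-- Let k be a perfect field, X a k-scheme proper over k and f : Y ⟶ X finite étale. Curve-tameness of f
asks that the pullback of f to any regular k-curve mapping to X be tamely ramified at every place of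
the curve's function field at infinity; proper targets make every finite étale cover curve-tame.
Stated here unfolded at a single place, in the form the argument yields: for every point y of Y with
image x, and every discrete valuation ring A of the residue field κ(x) through which Spec κ(x) ⟶
Spec k factors, the finite separable extension κ(y) of κ(x) is tamely ramified with respect to A. -/
theorem result
    (k : Type u) [Field k] [PerfectField k] {X Y : Scheme.{u}} (s : X ⟶ Spec (CommRingCat.of k))
    [IsProper s] (f : Y ⟶ X) [IsFinite f] [Etale f] (y : Y)
    (A : ValuationSubring (X.residueField (f.base y))) [IsDiscreteValuationRing A]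
    (a : Spec (CommRingCat.of A) ⟶ Spec (CommRingCat.of k))
    (ha : Spec.map (CommRingCat.ofHom A.subtype) ≫ a = X.fromSpecResidueField (f.base y) ≫ s) :
    EtRam.IsTamelyRamified A ((f.residueFieldMap y).hom.comp A.subtype) := by
  have hex : AlgebraicGeometry.ValuativeCriterion.Existence s :=
    (AlgebraicGeometry.UniversallyClosed.eq_valuativeCriterion ▸ (inferInstance : UniversallyClosed s) :
      (ValuativeCriterion.Existence ⊓ @QuasiCompact) s).1
  let S : ValuativeCommSq s :=
    { R := A, K := X.residueField (f.base y), i₁ := X.fromSpecResidueField (f.base y), i₂ := a,
      commSq := ⟨ha.symm⟩ }
  obtain ⟨⟨l, hl, -⟩⟩ := (hex S).exists_lift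
  exact Groth.Agent.TameKum.tame_of_lift f y l hl

end Groth.Agent.S18596
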