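import Groth.Statements.S18598
import Mathlib
import Groth.Prelude

set_option linter.all false

set_option autoImplicit false
universe u
open SSRed

open Polynomial

namespace Groth.Agent.S18598

/-- Let O be a commutative integral domain of characteristic zero, n a positive integer such that no
prime number dividing n is a unit in O, and α an element of O of finite multiplicative order such
that (α − 1)² is divisible by n in O. Then α = 1 if n ≥ 5, α² = 1 if n = 4, α³ = 1 if n = 3, and α⁴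
= 1 if n = 2. -/
theorem result (O : Type u) [CommRing O] [IsDomain O] [CharZero O]
    (n : ℕ) (hn : 0 < n) (hO : ∀ p : ℕ, p.Prime → p ∣ n → ¬ IsUnit (p : O))
    (α : O) (hα : IsOfFinOrder α) (h : (n : O) ∣ (α - 1) ^ 2) :
    (5 ≤ n → α = 1) ∧ (n = 4 → α ^ 2 = 1) ∧ (n = 3 → α ^ 3 = 1) ∧ (n = 2 → α ^ 4 = 1) := by
  set d := orderOf α with hd
  have hd0 : 0 < d := hα.orderOf_pos
  have key : ∀ p k : ℕ, p.Prime → p ^ (k + 1) ∣ d → n ^ (p ^ k * (p - 1)) ∣ p ^ 2 := by
    intro p k hp hpk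
    haveI : Fact p.Prime := ⟨hp⟩
    obtain ⟨e, he⟩ := hpk
    have hγ : IsPrimitiveRoot (α ^ e) (p ^ (k + 1)) := (IsPrimitiveRoot.orderOf α).pow hd0 (by rw [he, mul_comm])
    set γ := α ^ e
    have hdvd : (n : O) ∣ (γ - 1) ^ 2 := h.trans (pow_dvd_pow_of_dvd (sub_one_dvd_pow_sub_one α e) 2)
    have hpos : 0 < p ^ (k + 1) := pow_pos hp.pos _
    have h1 : (p : O) = ∏ z ∈ primitiveRoots (p ^ (k + 1)) O, (1 - z) := by
      rw [← Polynomial.eval_one_cyclotomic_prime_pow (R := O) k (p := p), Polynomial.cyclotomic_eq_prod_X_sub_primitiveRoots hγ,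
        Polynomial.eval_prod]
      simp
    have hO2 : ((n ^ (p ^ k * (p - 1)) : ℕ) : O) ∣ ((p ^ 2 : ℕ) : O) := by
      push_cast
      rw [h1, ← Finset.prod_pow]
      have hcard : (primitiveRoots (p ^ (k + 1)) O).card = p ^ k * (p - 1) := by
        rw [hγ.card_primitiveRoots, Nat.totient_prime_pow hp (Nat.succ_pos k)]
        rfl
      rw [← hcard, ← Finset.prod_const]
      refine Finset.prod_dvd_prod_of_dvd _ _ fun z hz => ?_
      rw [mem_primitiveRoots hpos] at hz
      haveI : NeZero (p ^ (k + 1)) := ⟨hpos.ne'⟩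
      obtain ⟨i, -, rfl⟩ := hγ.eq_pow_of_pow_eq_one hz.pow_eq_one
      rw [← neg_sub (γ ^ i), neg_sq]
      exact hdvd.trans (pow_dvd_pow_of_dvd (sub_one_dvd_pow_sub_one γ i) 2)
    set X := n ^ (p ^ k * (p - 1))
    set g := Nat.gcd X (p ^ 2)
    have hg : (X : O) ∣ (g : O) := by
      have hb := Nat.gcd_eq_gcd_ab X (p ^ 2)
      have : (g : O) = (X : O) * ((Nat.gcdA X (p ^ 2) : ℤ) : O) + ((p ^ 2 : ℕ) : O) * ((Nat.gcdB X (p ^ 2) : ℤ) : O) := by
        have := congrArg (fun z : ℤ => (z : O)) hb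
        push_cast at this ⊢
        exact this
      rw [this]; exact dvd_add (dvd_mul_right _ _) (dvd_mul_of_dvd_left hO2 _)
    obtain ⟨w, hw⟩ := Nat.gcd_dvd_left X (p ^ 2)
    have hg0 : (g : O) ≠ 0 := Nat.cast_ne_zero.2 (Nat.gcd_pos_of_pos_right _ (pow_pos hp.pos 2)).ne'
    obtain ⟨z, hz⟩ := hg
    have hwu : IsUnit (w : O) := .of_mul_eq_one z (mul_left_cancel₀ hg0 (by
      rw [← mul_assoc, ← Nat.cast_mul, mul_one, show g * w = X from hw.symm, ← hz]))
    have hw1 : w = 1 := by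
      by_contra hne
      obtain ⟨l, hl, hlw⟩ := Nat.exists_prime_and_dvd hne
      have hlX : l ∣ n := hl.dvd_of_dvd_pow (hlw.trans ⟨g, by rw [mul_comm]; exact hw⟩)
      exact hO l hl hlX (isUnit_of_dvd_unit (Nat.cast_dvd_cast hlw) hwu)
    rw [hw1, mul_one] at hw
    rw [hw]; exact Nat.gcd_dvd_right _ _
  have kle : ∀ k : ℕ, k + 1 ≤ 2 ^ k := fun k => Nat.lt_two_pow_self
  have fin : ∀ m : ℕ, 0 < m → (∀ p k : ℕ, p.Prime → p ^ (k + 1) ∣ d → p ^ (k + 1) ∣ m) → α ^ m = 1 := by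
    intro m hm H
    refine orderOf_dvd_iff_pow_eq_one.1 ((Nat.dvd_iff_prime_pow_dvd_dvd m _).2 fun p k hp hpk => ?_)
    rcases k with _ | k
    · simp
    · exact H p k hp hpk
  have small : ∀ p k q : ℕ, p.Prime → q.Prime → q ∣ n → p ^ (k + 1) ∣ d → p = q := by
    intro p k q hp hq hqn hpk
    have h1 : q ∣ p ^ 2 := (dvd_pow hqn (Nat.mul_pos (pow_pos hp.pos k) (by have := hp.two_le; omega)).ne').trans (key p k hp hpk)
    exact ((Nat.prime_dvd_prime_iff_eq hq hp).1 (hq.dvd_of_dvd_pow h1)).symm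
  have exps : ∀ p k : ℕ, p.Prime → p ^ (k + 1) ∣ d → n ^ (p ^ k * (p - 1)) ≤ p ^ 2 :=
    fun p k hp hpk => Nat.le_of_dvd (pow_pos hp.pos 2) (key p k hp hpk)
  refine ⟨fun hn5 => ?_, fun hn4 => fin 2 two_pos fun p k hp hpk => ?_, fun hn3 => fin 3 three_pos fun p k hp hpk => ?_,
    fun hn2 => fin 4 four_pos fun p k hp hpk => ?_⟩
  · rw [← pow_one α]
    refine fin 1 one_pos fun p k hp hpk => False.elim ?_
    have h1 : n ∣ p ^ 2 := (dvd_pow_self n (Nat.mul_pos (pow_pos hp.pos k) (by have := hp.two_le; omega)).ne').trans (key p k hp hpk)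
    obtain ⟨a, ha, hna⟩ := (Nat.dvd_prime_pow hp).1 h1
    have h2 := exps p k hp hpk
    rw [hna, ← pow_mul] at h2
    have h3 := (Nat.pow_le_pow_iff_right hp.one_lt).1 h2
    interval_cases a
    · simp at hna; omega
    · rw [pow_one] at hna
      have : p - 1 ≤ p ^ k * (p - 1) := Nat.le_mul_of_pos_left _ (pow_pos hp.pos k)
      omega
    · have : p - 1 ≤ p ^ k * (p - 1) := Nat.le_mul_of_pos_left _ (pow_pos hp.pos k)
      have : p = 2 := by have := hp.two_le; omega
      subst this; omega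
  · subst hn4
    obtain rfl := small p k 2 hp Nat.prime_two (by norm_num) hpk
    have := exps 2 k hp hpk
    rw [show (4 : ℕ) = 2 ^ 2 by norm_num, ← pow_mul] at this
    have := (Nat.pow_le_pow_iff_right one_lt_two).1 this
    have := kle k
    obtain rfl : k = 0 := by omega
    norm_num
  · subst hn3
    obtain rfl := small p k 3 hp Nat.prime_three dvd_rfl hpk
    have := (Nat.pow_le_pow_iff_right (show 1 < 3 by norm_num)).1 (exps 3 k hp hpk)
    have := kle k
    have : 2 ^ k ≤ 3 ^ k := Nat.pow_le_pow_left (by norm_num) k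
    obtain rfl : k = 0 := by omega
    norm_num
  · subst hn2
    obtain rfl := small p k 2 hp Nat.prime_two dvd_rfl hpk
    have := (Nat.pow_le_pow_iff_right one_lt_two).1 (exps 2 k hp hpk)
    have := kle k
    exact Nat.pow_dvd_pow 2 (show k + 1 ≤ 2 by omega)

end Groth.Agent.S18598
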