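import Groth.Statements.S18599
import Mathlib
-- import your own Groth.Agent.* helpers here

set_option autoImplicit false
universe u
open SSRed

namespace Groth.Agent.S18599

/-- anchor -/
theorem anchor18599 : 0 + 0 = 0 := rfl

section Helpers

theorem index_smul_top (ℓ : ℕ) [Fact ℓ.Prime] (P : Type*) [AddCommGroup P] [Module ℤ_[ℓ] P] [Module.Free ℤ_[ℓ] P]
    [Module.Finite ℤ_[ℓ] P] :
    (LinearMap.range (LinearMap.lsmul ℤ_[ℓ] P (ℓ : ℤ_[ℓ]))).toAddSubgroup.index = ℓ ^ Module.finrank ℤ_[ℓ] P := by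
  let e : P ≃ₗ[ℤ_[ℓ]] (Fin (Module.finrank ℤ_[ℓ] P) → ℤ_[ℓ]) := (Module.finBasis ℤ_[ℓ] P).equivFun
  let ψ : P →+ (Fin (Module.finrank ℤ_[ℓ] P) → ZMod ℓ) :=
    { toFun := fun x i => PadicInt.toZMod (e x i)
      map_zero' := by ext; simp
      map_add' := fun x y => by ext; simp }
  have hker : ψ.ker = (LinearMap.range (LinearMap.lsmul ℤ_[ℓ] P (ℓ : ℤ_[ℓ]))).toAddSubgroup := by
    ext x
    constructor
    · intro hx
      have h : ∀ i, ∃ b, e x i = (ℓ : ℤ_[ℓ]) * b := fun i => by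
        have h1 : PadicInt.toZMod (e x i) = 0 := congrFun hx i
        rw [← RingHom.mem_ker, PadicInt.ker_toZMod, PadicInt.maximalIdeal_eq_span_p, Ideal.mem_span_singleton] at h1
        exact h1
      choose b hb using h
      refine ⟨e.symm b, e.injective (funext fun i => ?_)⟩
      rw [LinearMap.lsmul_apply, map_smul, e.apply_symm_apply, Pi.smul_apply, smul_eq_mul, hb]
    · rintro ⟨y, rfl⟩
      refine funext fun i => ?_
      show PadicInt.toZMod (e ((ℓ : ℤ_[ℓ]) • y) i) = 0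
      rw [map_smul, Pi.smul_apply, smul_eq_mul, map_mul, map_natCast, ZMod.natCast_self, zero_mul]
  have hsurj : Function.Surjective ψ := fun v => by
    choose b hb using fun i => ZMod.ringHom_surjective (PadicInt.toZMod (p := ℓ)) (v i)
    exact ⟨e.symm b, funext fun i => by show PadicInt.toZMod (e (e.symm b) i) = v i; rw [e.apply_symm_apply, hb]⟩
  rw [← hker, AddSubgroup.index_ker, AddMonoidHom.range_eq_top.2 hsurj]
  simp

end Helpers

/-- Let ℓ be a prime number, M a free ℤ_ℓ-module of finite rank, A an automorphism of M with A^ℓ = 1,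
and c the rank of M minus the rank of the submodule of A-invariants. Assume that ℓ = 2 and A − 1 ∈
2·End(M), or that ℓ = 2 and (A − 1)² ∈ 4·End(M), or that ℓ = 3 and (A − 1)² ∈ 3·End(M). Then the
torsion submodule of M/(A − 1)M is a vector space over ℤ/ℓℤ of dimension c/(ℓ − 1): it is killed by
ℓ and has ℓ^r elements for some r with r(ℓ − 1) = c. -/
theorem result (ℓ : ℕ) [Fact ℓ.Prime]
    (M : Type u) [AddCommGroup M] [Module ℤ_[ℓ] M] [Module.Free ℤ_[ℓ] M] [Module.Finite ℤ_[ℓ] M]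
    (A : M ≃ₗ[ℤ_[ℓ]] M) (hA : A ^ ℓ = 1) (f : Module.End ℤ_[ℓ] M) (hf : f = (A : M →ₗ[ℤ_[ℓ]] M) - 1)
    (hcase : (ℓ = 2 ∧ ∃ B : Module.End ℤ_[ℓ] M, f = (2 : ℤ_[ℓ]) • B) ∨
      (ℓ = 2 ∧ ∃ B : Module.End ℤ_[ℓ] M, f ^ 2 = (4 : ℤ_[ℓ]) • B) ∨
      (ℓ = 3 ∧ ∃ B : Module.End ℤ_[ℓ] M, f ^ 2 = (3 : ℤ_[ℓ]) • B))
    (c : ℕ) (hc : c = Module.finrank ℤ_[ℓ] M - Module.finrank ℤ_[ℓ] (LinearMap.ker f)) :
    (∀ x ∈ Submodule.torsion ℤ_[ℓ] (M ⧸ LinearMap.range f), (ℓ : ℤ_[ℓ]) • x = 0) ∧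
      ∃ r : ℕ, r * (ℓ - 1) = c ∧
        Nat.card (Submodule.torsion ℤ_[ℓ] (M ⧸ LinearMap.range f)) = ℓ ^ r := by
  classical
  have hl0 : (ℓ : ℤ_[ℓ]) ≠ 0 := Nat.cast_ne_zero.2 (Fact.out : ℓ.Prime).ne_zero
  haveI : Module.IsTorsionFree ℤ_[ℓ] (Module.End ℤ_[ℓ] M) := inferInstance
  have hA' : (1 + f) ^ ℓ = 1 := by
    rw [hf, add_sub_cancel]
    ext x
    have h := LinearEquiv.congr_fun hA x
    rw [LinearEquiv.pow_apply] at h
    rw [Module.End.pow_apply]
    exact h
  -- the idempotent and the exponent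
  obtain ⟨E, g, u, hEE, hfE, hEf, hker, hkill, hEg, hpow⟩ :
      ∃ (E g : Module.End ℤ_[ℓ] M) (u : (Module.End ℤ_[ℓ] M)ˣ), E * E = E ∧ f * E = f ∧ E * f = f ∧
        (∀ x, f x = 0 → E x = 0) ∧ (ℓ : ℤ_[ℓ]) • E = f * g ∧ E * g = g ∧
        f ^ (ℓ - 1) * E = ((ℓ : ℤ_[ℓ]) • E) * u := by
    have key2 : ℓ = 2 → (∃ B : Module.End ℤ_[ℓ] M, f = (2 : ℤ_[ℓ]) • B) →
        ∃ (E g : Module.End ℤ_[ℓ] M) (u : (Module.End ℤ_[ℓ] M)ˣ), E * E = E ∧ f * E = f ∧ E * f = f ∧
        (∀ x, f x = 0 → E x = 0) ∧ (ℓ : ℤ_[ℓ]) • E = f * g ∧ E * g = g ∧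
        f ^ (ℓ - 1) * E = ((ℓ : ℤ_[ℓ]) • E) * u := by
      rintro hl ⟨B, hB⟩
      subst hl
      have h20 : (2 : ℤ_[2]) ≠ 0 := by simpa using hl0
      have hBB : B * B + B = 0 := by
        apply smul_right_injective (Module.End ℤ_[2] M) (mul_ne_zero h20 h20)
        simp only [smul_zero]
        have h : (1 + f) * (1 + f) - 1 = 0 := by rw [← pow_two, hA', sub_self]
        rw [hB] at h
        rw [← h, show (2 : ℤ_[2]) * 2 = 4 by norm_num]
        simp only [show (4 : ℤ_[2]) = ((4 : ℕ) : ℤ_[2]) by norm_num, show (2 : ℤ_[2]) = ((2 : ℕ) : ℤ_[2]) by norm_num,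
          Nat.cast_smul_eq_nsmul]
        noncomm_ring
      have hsq : B * B = -B := eq_neg_of_add_eq_zero_left hBB
      have hfE : f * -B = f := by rw [hB, smul_mul_assoc, mul_neg, hsq, neg_neg]
      refine ⟨-B, B, -1, by rw [neg_mul_neg, hsq], hfE, ?_, fun x hx => ?_, ?_, ?_, ?_⟩
      · rw [hB, mul_smul_comm, neg_mul, hsq, neg_neg]
      · have h3 : (2 : ℤ_[2]) • B x = 0 := by rw [← LinearMap.smul_apply, ← hB]; exact hx
        rw [LinearMap.neg_apply, (smul_eq_zero.1 h3).resolve_left h20, neg_zero]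
      · rw [hB, smul_mul_assoc, hsq, Nat.cast_ofNat]
      · rw [neg_mul, hsq, neg_neg]
      · rw [show (2 : ℕ) - 1 = 1 from rfl, pow_one, hfE, Units.val_neg, Units.val_one, mul_neg, mul_one,
          smul_neg, neg_neg, Nat.cast_ofNat, hB]
    rcases hcase with ⟨hl, hB⟩ | ⟨hl, B, hB⟩ | ⟨hl, B, hB⟩
    · exact key2 hl hB
    · refine key2 hl ⟨-B, ?_⟩
      subst hl
      have h20 : (2 : ℤ_[2]) ≠ 0 := by simpa using hl0
      apply smul_right_injective (Module.End ℤ_[2] M) h20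
      have h : (1 + f) * (1 + f) - 1 = 0 := by rw [← pow_two, hA', sub_self]
      show (2 : ℤ_[2]) • f = (2 : ℤ_[2]) • (2 : ℤ_[2]) • -B
      rw [smul_neg, smul_neg, smul_smul, show (2 : ℤ_[2]) * 2 = 4 by norm_num, ← hB, eq_neg_iff_add_eq_zero, ← h]
      simp only [show (2 : ℤ_[2]) = ((2 : ℕ) : ℤ_[2]) by norm_num, Nat.cast_smul_eq_nsmul]
      noncomm_ring
    · subst hl
      have h30 : (3 : ℤ_[3]) ≠ 0 := by simpa using hl0
      have hinj := smul_right_injective (Module.End ℤ_[3] M) h30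
      have hA3 : (1 + f) * (1 + f) * (1 + f) - 1 = 0 := by
        rw [show (1 + f) * (1 + f) * (1 + f) = (1 + f) ^ 3 by rw [pow_succ, pow_two], hA', sub_self]
      have hff : f * f = (3 : ℤ_[3]) • B := by rw [← hB, pow_two]
      have hcomm : f * B = B * f := hinj (by
        simp only
        rw [← mul_smul_comm, ← smul_mul_assoc, ← hff, mul_assoc])
      have e1 : f * B + (3 : ℤ_[3]) • B + f = 0 := hinj (by
        simp only
        rw [smul_zero, smul_add, smul_add, ← mul_smul_comm, ← hff, ← hA3]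
        simp only [show (3 : ℤ_[3]) = ((3 : ℕ) : ℤ_[3]) by norm_num, Nat.cast_smul_eq_nsmul]
        noncomm_ring)
      have e2 : B * B + B * f + B = 0 := hinj (by
        simp only
        rw [smul_zero, smul_add, smul_add, ← smul_mul_assoc, ← smul_mul_assoc, ← hff]
        have h : f * (f * B + (3 : ℤ_[3]) • B + f) = 0 := by rw [e1, mul_zero]
        rw [← h, mul_add, mul_add, ← hff, mul_assoc]
        simp only [mul_assoc]
        try abel)
      have hEE : -(B + f) * -(B + f) = -(B + f) := by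
        calc -(B + f) * -(B + f) = B * B + B * f + f * B + f * f := by noncomm_ring
          _ = (B * B + B * f + B) + (f * B + (3 : ℤ_[3]) • B + f) + -(B + f) := by rw [hff]; abel
          _ = _ := by rw [e1, e2, zero_add, zero_add]
      have hfE : f * -(B + f) = f := by
        calc f * -(B + f) = -(f * B + (3 : ℤ_[3]) • B + f) + f := by rw [← hff]; noncomm_ring
          _ = _ := by rw [e1, neg_zero, zero_add]
      have hEf : -(B + f) * f = f := by
        calc -(B + f) * f = -(B * f + (3 : ℤ_[3]) • B + f) + f := by rw [← hff]; noncomm_ring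
          _ = _ := by rw [← hcomm, e1, neg_zero, zero_add]
      have hu : (1 + f) * ((1 + f) * (1 + f)) = 1 := by rw [← mul_assoc]; exact sub_eq_zero.1 hA3
      have hu' : (1 + f) * (1 + f) * (1 + f) = 1 := sub_eq_zero.1 hA3
      have hEu : -(B + f) * -(1 + f) = B := by
        calc -(B + f) * -(1 + f) = B + f + B * f + f * f := by noncomm_ring
          _ = (f * B + (3 : ℤ_[3]) • B + f) + B := by rw [hff, hcomm]; abel
          _ = B := by rw [e1, zero_add]
      refine ⟨-(B + f), -(B + f) * ((-f - (3 : ℤ_[3]) • 1) * -(B + f)), -⟨1 + f, (1 + f) * (1 + f), hu, hu'⟩,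
        hEE, hfE, hEf, fun x hx => ?_, ?_, by rw [← mul_assoc, hEE], ?_⟩
      · have h' : (3 : ℤ_[3]) • B x = 0 := by
          rw [← LinearMap.smul_apply, ← hff, Module.End.mul_apply, hx, map_zero]
        simp [(smul_eq_zero.1 h').resolve_left h30, hx]
      · rw [← mul_assoc, hfE, ← mul_assoc, mul_sub, mul_neg f f, hff, mul_smul_comm, mul_one, ← smul_neg, ← smul_sub,
          smul_mul_assoc, show -B - f = -(B + f) by abel, hEE, Nat.cast_ofNat]
      · rw [show (3 : ℕ) - 1 = 2 from rfl, pow_two, mul_assoc, hfE, hff, Units.val_neg, smul_mul_assoc, hEu,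
          Nat.cast_ofNat]
  -- the image of the idempotent
  set P : Submodule ℤ_[ℓ] M := LinearMap.range E with hP
  have hmemP : ∀ x, x ∈ P ↔ E x = x := fun x => ⟨by
    rintro ⟨y, rfl⟩
    rw [← Module.End.mul_apply, hEE], fun h => ⟨x, h⟩⟩
  have hfP : ∀ x, f x ∈ P := fun x => ⟨f x, by rw [← Module.End.mul_apply, hEf]⟩
  have hfEx : ∀ x, f (E x) = f x := fun x => by rw [← Module.End.mul_apply, hfE]
  -- torsion
  have htor : ∀ z, z ∈ Submodule.torsion ℤ_[ℓ] (M ⧸ LinearMap.range f) ↔ ∃ x ∈ P, Submodule.Quotient.mk x = z := by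
    intro z
    rw [Submodule.mem_torsion_iff]
    constructor
    · rintro ⟨a, ha⟩
      obtain ⟨x, rfl⟩ := Submodule.Quotient.mk_surjective _ z
      obtain ⟨y, hy⟩ := (Submodule.Quotient.mk_eq_zero _).1 (show Submodule.Quotient.mk ((a : ℤ_[ℓ]) • x) = (0 : M ⧸ LinearMap.range f) from ha)
      refine ⟨x, (hmemP x).2 ?_, rfl⟩
      apply smul_right_injective M (nonZeroDivisors.coe_ne_zero a)
      show (a : ℤ_[ℓ]) • E x = (a : ℤ_[ℓ]) • x
      rw [← map_smul, ← hy, ← Module.End.mul_apply, hEf]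
    · rintro ⟨x, hx, rfl⟩
      refine ⟨⟨(ℓ : ℤ_[ℓ]), mem_nonZeroDivisors_of_ne_zero hl0⟩, (Submodule.Quotient.mk_eq_zero _).2 ⟨g x, ?_⟩⟩
      rw [← Module.End.mul_apply, ← hkill, LinearMap.smul_apply, (hmemP x).1 hx]
  refine ⟨fun z hz => ?_, ?_⟩
  · obtain ⟨x, hx, rfl⟩ := (htor z).1 hz
    refine (Submodule.Quotient.mk_eq_zero _).2 ⟨g x, ?_⟩
    rw [← Module.End.mul_apply, ← hkill, LinearMap.smul_apply, (hmemP x).1 hx]
  -- the index
  haveI : Module.Finite ℤ_[ℓ] P := Module.Finite.range E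
  let fP : P →ₗ[ℤ_[ℓ]] P := (f.comp P.subtype).codRestrict P fun x => hfP x
  have hfPi : Function.Injective fP := by
    rw [injective_iff_map_eq_zero]
    intro x hx
    exact Subtype.ext (((hmemP x.1).1 x.2).symm.trans (hker x.1 (congrArg Subtype.val hx)))
  have hrange : (LinearMap.range (fP ^ (ℓ - 1))) = LinearMap.range (LinearMap.lsmul ℤ_[ℓ] P (ℓ : ℤ_[ℓ])) := by
    have hpowv : ∀ (n : ℕ) (x : P), (((fP ^ n) x : P) : M) = (f ^ n) x := by
      intro n x
      induction n with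
      | zero => rfl
      | succ n ih =>
        rw [pow_succ', pow_succ', Module.End.mul_apply, Module.End.mul_apply, ← ih]
        rfl
    apply le_antisymm
    · rintro _ ⟨x, rfl⟩
      refine ⟨⟨E ((u : Module.End ℤ_[ℓ] M) x), _, rfl⟩, Subtype.ext ?_⟩
      show (ℓ : ℤ_[ℓ]) • E ((u : Module.End ℤ_[ℓ] M) x) = _
      rw [hpowv, ← LinearMap.smul_apply, ← Module.End.mul_apply, ← hpow, Module.End.mul_apply, (hmemP x.1).1 x.2]
    · rintro _ ⟨x, rfl⟩
      refine ⟨⟨E ((↑u⁻¹ : Module.End ℤ_[ℓ] M) x), _, rfl⟩, Subtype.ext ?_⟩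
      rw [hpowv, ← Module.End.mul_apply, hpow, ← Module.End.mul_apply, mul_assoc, Units.mul_inv, mul_one,
        LinearMap.smul_apply, (hmemP x.1).1 x.2]
      rfl
  have hindex : ∀ n : ℕ, (LinearMap.range (fP ^ n)).toAddSubgroup.index = (LinearMap.range fP).toAddSubgroup.index ^ n := by
    intro n
    induction n with
    | zero =>
      rw [pow_zero, pow_zero, AddSubgroup.index_eq_one]
      ext x
      exact iff_of_true ⟨x, rfl⟩ trivial
    | succ n ih =>
      have hle : (LinearMap.range (fP ^ (n + 1))).toAddSubgroup ≤ (LinearMap.range fP).toAddSubgroup := by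
        rintro _ ⟨x, rfl⟩
        exact ⟨(fP ^ n) x, by rw [pow_succ', Module.End.mul_apply]⟩
      rw [← AddSubgroup.relIndex_mul_index hle, pow_succ (LinearMap.range fP).toAddSubgroup.index]
      congr 1
      rw [← ih]
      have e1 : (LinearMap.range (fP ^ (n + 1))).toAddSubgroup = (LinearMap.range (fP ^ n)).toAddSubgroup.map fP.toAddMonoidHom := by
        ext x
        constructor
        · rintro ⟨y, rfl⟩; exact ⟨(fP ^ n) y, ⟨y, rfl⟩, by rw [pow_succ']; rfl⟩
        · rintro ⟨_, ⟨y, rfl⟩, rfl⟩; exact ⟨y, by rw [pow_succ']; rfl⟩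
      have e2 : (LinearMap.range fP).toAddSubgroup = (⊤ : AddSubgroup P).map fP.toAddMonoidHom := by
        ext x
        constructor
        · rintro ⟨y, rfl⟩; exact ⟨y, trivial, rfl⟩
        · rintro ⟨y, -, rfl⟩; exact ⟨y, rfl⟩
      rw [e1, e2, AddSubgroup.relIndex_map_map_of_injective _ _ hfPi, AddSubgroup.relIndex_top_right]
  have hc' : Module.finrank ℤ_[ℓ] P = c := by
    have h1 := (LinearMap.ker f).finrank_quotient_add_finrank
    have h2 : Module.finrank ℤ_[ℓ] (M ⧸ LinearMap.ker f) = Module.finrank ℤ_[ℓ] P := by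
      have hk : LinearMap.ker f = LinearMap.ker E := by
        ext x
        rw [LinearMap.mem_ker, LinearMap.mem_ker]
        exact ⟨hker x, fun h => by rw [← hfEx, h, map_zero]⟩
      rw [hk]
      exact E.quotKerEquivRange.finrank_eq
    omega
  have hD := index_smul_top ℓ P
  rw [← hrange, hindex, hc'] at hD
  -- the torsion is the cokernel on the image
  have hcard : Nat.card (Submodule.torsion ℤ_[ℓ] (M ⧸ LinearMap.range f)) = (LinearMap.range fP).toAddSubgroup.index := by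
    let τ : P →+ Submodule.torsion ℤ_[ℓ] (M ⧸ LinearMap.range f) :=
      { toFun := fun x => ⟨Submodule.Quotient.mk (x : M), (htor _).2 ⟨x, x.2, rfl⟩⟩
        map_zero' := rfl
        map_add' := fun _ _ => rfl }
    have hτ : Function.Surjective τ := fun z => by
      obtain ⟨x, hx, hz⟩ := (htor z.1).1 z.2
      exact ⟨⟨x, hx⟩, Subtype.ext hz⟩
    have hk : τ.ker = (LinearMap.range fP).toAddSubgroup := by
      ext x
      constructor
      · intro hx
        obtain ⟨y, hy⟩ := (Submodule.Quotient.mk_eq_zero _).1 (congrArg Subtype.val hx)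
        exact ⟨⟨E y, y, rfl⟩, Subtype.ext ((hfEx y).trans hy)⟩
      · rintro ⟨y, rfl⟩
        exact Subtype.ext ((Submodule.Quotient.mk_eq_zero _).2 ⟨y, rfl⟩)
    rw [← hk, AddSubgroup.index_ker, AddMonoidHom.range_eq_top.2 hτ]
    exact (Nat.card_congr AddSubgroup.topEquiv.toEquiv).symm
  -- the index is a power of `ℓ`
  have hne : ℓ - 1 ≠ 0 := by have := (Fact.out : ℓ.Prime).two_le; omega
  obtain ⟨r, -, hr⟩ := (Nat.dvd_prime_pow (Fact.out : ℓ.Prime)).1
    ((dvd_pow_self (LinearMap.range fP).toAddSubgroup.index hne).trans hD.dvd)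
  refine ⟨r, ?_, hcard.trans hr⟩
  rw [hr, ← pow_mul] at hD
  exact Nat.pow_right_injective (Fact.out : ℓ.Prime).two_le hD

end Groth.Agent.S18599
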