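import Groth.Statements.S18600
import Mathlib
import Groth.Prelude

set_option linter.all false

set_option autoImplicit false
universe v
open SSRed

open scoped ContDiff Topology

namespace Groth.Agent.S18600

open Polynomial in
theorem comp_charpoly {R : Type*} [CommRing R] {ι : Type*} [Fintype ι] [DecidableEq ι] (M : Matrix ι ι R) (q : R[X]) :
    M.charpoly.comp q = (q • (1 : Matrix ι ι R[X]) - M.map C).det := by
  rw [Matrix.charpoly, ← coe_compRingHom_apply, RingHom.map_det]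
  congr 1
  ext i j
  by_cases h : i = j
  · subst h; simp [Matrix.charmatrix_apply]
  · simp [Matrix.charmatrix_apply, h]

open Polynomial in
theorem expand_charpoly_sq {R : Type*} [CommRing R] {g : ℕ} (A : Matrix (Fin g) (Fin g) R) :
    expand R 2 ((A - 1) ^ 2).charpoly = C ((-1) ^ g) * (A.charpoly.comp (X + 1) * A.charpoly.comp (1 - X)) := by
  rw [expand_eq_comp_X_pow, comp_charpoly, comp_charpoly, comp_charpoly]
  set B := A.map C with hB
  have hm : (A - 1).map C = B - 1 := by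
    rw [hB, Matrix.map_sub _ (fun a b => map_sub C a b), Matrix.map_one _ (map_zero C) (map_one C)]
  have hfac : (X ^ 2 : R[X]) • (1 : Matrix (Fin g) (Fin g) R[X]) - ((A - 1) ^ 2).map C =
      ((X + 1 : R[X]) • 1 - B) * -(((1 - X : R[X]) • 1 - B)) := by
    rw [pow_two (A - 1), Matrix.map_mul, hm, pow_two]
    simp only [mul_neg, sub_mul, mul_sub, add_mul, mul_add, smul_mul_assoc, mul_smul_comm, one_mul, mul_one, smul_smul, add_smul, sub_smul,
      one_smul, mul_one, smul_sub, smul_add]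
    abel
  rw [hfac, Matrix.det_mul, Matrix.det_neg, Fintype.card_fin, map_pow, map_neg, map_one]
  ring

/-- Let n be a positive integer, g a natural number and f ∈ ℤ[x] a monic polynomial such that for every
prime ℓ dividing n there is a g × g matrix A_ℓ over ℤ_ℓ whose characteristic polynomial is f and
such that (A_ℓ − 1)² lies in n·M_g(ℤ_ℓ). Then for every root α of f in a field of characteristic
zero and every square root s of n in that field, (α − 1)/s is integral over ℤ. (The published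
statement is for matrices of size 2d and speaks of the eigenvalues of the A_ℓ, which are the roots
of their common characteristic polynomial f; the parity of the size plays no role.) -/
theorem result (n : ℕ) (hn : 0 < n) (g : ℕ) (f : Polynomial ℤ)
    (hf : f.Monic)
    (hA : ∀ (ℓ : ℕ) [Fact ℓ.Prime], ℓ ∣ n → ∃ A : Matrix (Fin g) (Fin g) ℤ_[ℓ],
      A.charpoly = f.map (Int.castRingHom ℤ_[ℓ]) ∧
        ∃ B : Matrix (Fin g) (Fin g) ℤ_[ℓ], (A - 1) ^ 2 = (n : ℤ_[ℓ]) • B)
    (K : Type v) [Field K] [CharZero K] (α s : K) (hα : Polynomial.aeval α f = 0) (hs : s ^ 2 = (n : K)) :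
    IsIntegral ℤ ((α - 1) / s) := by
  refine IsIntegral.of_pow two_pos ?_
  rw [div_pow, hs]
  rcases eq_or_ne n 1 with rfl | hn1
  · rw [Nat.cast_one, div_one]
    exact IsIntegral.pow (IsIntegral.sub ⟨f, hf, by simpa [Polynomial.aeval_def] using hα⟩ isIntegral_one) 2
  open Polynomial in
  set P : Polynomial ℤ := C ((-1) ^ g) * (f.comp (X + 1) * f.comp (1 - X)) with hP
  open Polynomial in
  have key : ∀ (ℓ : ℕ) [Fact ℓ.Prime], ℓ ∣ n → ∃ Q : Polynomial ℤ_[ℓ], Q.Monic ∧ Q.natDegree = g ∧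
      expand ℤ_[ℓ] 2 Q = P.map (Int.castRingHom _) ∧ ∀ k ≤ g, (n : ℤ_[ℓ]) ^ (g - k) ∣ Q.coeff k := by
    intro ℓ _ hℓn
    obtain ⟨A, hAf, B, hB⟩ := hA ℓ hℓn
    refine ⟨((A - 1) ^ 2).charpoly, Matrix.charpoly_monic _, by rw [Matrix.charpoly_natDegree_eq_dim, Fintype.card_fin], ?_, fun k hk => ⟨B.charpoly.coeff k, ?_⟩⟩
    · rw [expand_charpoly_sq, hAf, hP]
      simp [Polynomial.map_comp]
    · rw [hB]
      have h1 : ((n : ℤ_[ℓ]) • B).charpoly.comp (C (n : ℤ_[ℓ]) * X) = C (n : ℤ_[ℓ]) ^ g * B.charpoly := by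
        rw [comp_charpoly, Matrix.map_smul' _ _ _ (fun a b => map_mul C a b), mul_smul, ← smul_sub, Matrix.det_smul,
          Fintype.card_fin, ← comp_charpoly B X, comp_X]
      have h2 := congrArg (fun q => Polynomial.coeff q k) h1
      simp only [comp_C_mul_X_coeff, ← C_pow, coeff_C_mul] at h2
      have hn0 : (n : ℤ_[ℓ]) ^ k ≠ 0 := pow_ne_zero _ (Nat.cast_ne_zero.2 hn.ne')
      apply mul_right_cancel₀ hn0
      rw [h2, show (n : ℤ_[ℓ]) ^ g = (n : ℤ_[ℓ]) ^ (g - k) * (n : ℤ_[ℓ]) ^ k by rw [← pow_add, Nat.sub_add_cancel hk]]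
      ring
  obtain ⟨l, hl, hln⟩ := Nat.exists_prime_and_dvd hn1
  haveI : Fact l.Prime := ⟨hl⟩
  set H : Polynomial ℤ := Polynomial.contract 2 P with hH
  have hmap : ∀ (ℓ : ℕ) [Fact ℓ.Prime] (Q : Polynomial ℤ_[ℓ]), Polynomial.expand ℤ_[ℓ] 2 Q = P.map (Int.castRingHom _) →
      H.map (Int.castRingHom _) = Q := by
    intro ℓ _ Q hQ
    ext k
    rw [Polynomial.coeff_map, hH, Polynomial.coeff_contract (by norm_num), ← Polynomial.coeff_map, ← hQ, Polynomial.coeff_expand_mul (by norm_num)]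
  obtain ⟨Q, hQm, hQd, hQe, -⟩ := key l hln
  have hHQ := hmap l Q hQe
  have hinj : Function.Injective (Int.castRingHom ℤ_[l]) := Int.cast_injective
  have hHm : H.Monic := Polynomial.monic_of_injective hinj (hHQ ▸ hQm)
  have hHd : H.natDegree = g := by rw [← Polynomial.natDegree_map_eq_of_injective hinj, hHQ, hQd]
  have hPH : Polynomial.expand ℤ 2 H = P := by
    apply Polynomial.map_injective _ hinj
    rw [Polynomial.map_expand, hHQ, hQe]
  have hdiv : ∀ k ≤ g, (n : ℤ) ^ (g - k) ∣ H.coeff k := by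
    intro k hk
    rw [← Nat.cast_pow, Int.natCast_dvd, Nat.dvd_iff_prime_pow_dvd_dvd]
    intro ℓ j hℓ hj
    rcases Nat.eq_zero_or_pos j with rfl | hj0
    · simp
    haveI : Fact ℓ.Prime := ⟨hℓ⟩
    have hℓn : ℓ ∣ n := hℓ.dvd_of_dvd_pow ((dvd_pow_self ℓ hj0.ne').trans hj)
    obtain ⟨Q', -, -, hQ'e, hQ'd⟩ := key ℓ hℓn
    rw [← Int.natCast_dvd, Nat.cast_pow, ← PadicInt.pow_p_dvd_int_iff]
    have h1 : ((H.coeff k : ℤ) : ℤ_[ℓ]) = Q'.coeff k := by rw [← hmap ℓ Q' hQ'e, Polynomial.coeff_map]; rfl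
    rw [h1]
    have h2 := Nat.cast_dvd_cast (α := ℤ_[ℓ]) hj
    push_cast at h2
    exact h2.trans (hQ'd k hk)
  choose c hc using hdiv
  let h : Polynomial ℤ := ∑ k : Fin (g + 1), Polynomial.C (c k (Nat.lt_succ_iff.1 k.2)) * Polynomial.X ^ (k : ℕ)
  have hcg : c g le_rfl = 1 := by
    have := hc g le_rfl
    rw [Nat.sub_self, pow_zero, one_mul] at this
    rw [← this, ← hHd]; exact hHm
  have hhm : h.Monic := by
    refine Polynomial.monic_of_natDegree_le_of_coeff_eq_one g ?_ ?_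
    · exact Polynomial.natDegree_sum_le_of_forall_le _ _ fun k _ => (Polynomial.natDegree_C_mul_X_pow_le _ _).trans (Nat.lt_succ_iff.1 k.2)
    · rw [Polynomial.finsetSum_coeff, Finset.sum_eq_single (Fin.last g)]
      · simp [hcg]
      · intro k _ hk
        rw [Polynomial.coeff_C_mul_X_pow, if_neg]
        exact fun h => hk (Fin.ext h.symm)
      · simp
  refine ⟨h, hhm, ?_⟩
  have hP0 : Polynomial.aeval (α - 1) P = 0 := by
    rw [hP, map_mul, map_mul, Polynomial.aeval_comp]
    simp [hα]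
  rw [← hPH, Polynomial.expand_aeval, Polynomial.aeval_eq_sum_range' (n := g + 1) (by omega), Finset.sum_range] at hP0
  have hnK : (n : K) ≠ 0 := Nat.cast_ne_zero.2 hn.ne'
  rw [← Polynomial.aeval_def, ← mul_right_inj' (pow_ne_zero g hnK), mul_zero, ← hP0]
  simp only [h, map_sum, map_mul, map_pow, Polynomial.aeval_C, Polynomial.aeval_X, Finset.mul_sum]
  refine Finset.sum_congr rfl fun k _ => ?_
  have hk := Nat.lt_succ_iff.1 k.2
  rw [hc k hk, zsmul_eq_mul, eq_intCast, show (n : K) ^ g = (n : K) ^ (g - k) * (n : K) ^ (k : ℕ) by rw [← pow_add, Nat.sub_add_cancel hk],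
    div_pow]
  push_cast
  field_simp

end Groth.Agent.S18600
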