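import Groth.Statements.S18608
import Groth.Agent.S2654
import Groth.Agent.Resolve13.FiniteExtRat
import Groth.Agent.Models7.PtSeq

set_option autoImplicit false
set_option backward.isDefEq.respectTransparency.types false
universe u
open CategoryTheory CategoryTheory.Limits AlgebraicGeometry
open Resolve

namespace Groth.Agent.S18608

/-- Let A ⊆ B be a finite injective extension of two-dimensional excellent Noetherian normal domains
with fraction fields K ⊆ L and L separable over K (so Spec B → Spec A is finite, surjective and
generically étale), such that the localization of B at every maximal ideal of height two has a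
rational singularity: every normal modification of it has vanishing H^1 of the structure sheaf. Let
Y → Spec A be a resolution of singularities: Y is an integral scheme all of whose local rings are
regular, proper over Spec A and an isomorphism over a nonempty open subset of Spec A. Then the
degree [L : K] annihilates the A-module H^1(Y, O_Y); in particular H^1(Y, O_Y) = 0 when [L : K] is a
unit in A. (Affine form of the published statement, which is for schemes and phrases the conclusion
as the degree annihilating R^1 of the structure sheaf along the resolution; rational singularities
of the source are taken in the every-normal-modification form.) -/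
theorem result (A B : Type u)
    [CommRing A] [CommRing B] [IsDomain A] [IsDomain B] [IsNoetherianRing A] [IsNoetherianRing B]
    [IsIntegrallyClosed A] [IsIntegrallyClosed B]
    (hAe : EGA4.IsExcellent A) (hBe : EGA4.IsExcellent B) (hA2 : ringKrullDim A = 2) (hB2 : ringKrullDim B = 2)
    [Algebra A B] [Module.Finite A B] (hinj : Function.Injective (algebraMap A B))
    (K L : Type u) [Field K] [Field L] [Algebra A K] [IsFractionRing A K] [Algebra B L] [IsFractionRing B L]
    [Algebra K L] [Algebra A L] [IsScalarTower A K L] [IsScalarTower A B L] [Algebra.IsSeparable K L]
    (hB : ∀ (n : Ideal B) [n.IsMaximal], ringKrullDim (Localization.AtPrime n) = 2 →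
      Curv2.IsRationalSing (Localization.AtPrime n))
    (Y : Scheme.{u}) [Y.Over (Spec (CommRingCat.of A))] [IsProper (Y ↘ Spec (CommRingCat.of A))]
    [AlgebraicGeometry.IsIntegral Y] (hreg : Models.IsRegularScheme Y)
    (hbir : ∃ U : (Spec (CommRingCat.of A)).Opens, (U : Set ↥(Spec (CommRingCat.of A))).Nonempty ∧
      IsIso ((Y ↘ Spec (CommRingCat.of A)) ∣_ U))
    (x : Coh.HH Y (Coh.structureModule Y) 1) :
    (Module.finrank K L : A) • x = 0 := by
  exact Resolve13.FiniteExtRat.finrank_smul_eq_zero (S2654.result A ⟨hAe.1, hAe.2.2.1, hAe.2.2.2⟩) hB2.le hinj K L hB Y
    (Models7.isNormalScheme_of_regular hreg) hbir x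

end Groth.Agent.S18608
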