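import Groth.Statements.S18609
import Groth.Agent.SGA7Aut29.Split
-- import your own Groth.Agent.* helpers here

set_option autoImplicit false
set_option linter.style.haveILetI false
set_option backward.isDefEq.respectTransparency.types false
universe u
open CategoryTheory CategoryTheory.Limits MonoidalCategory CartesianMonoidalCategory AlgebraicGeometry MonObj
open SGA7

namespace Groth.Agent.S18609
open Groth.Agent.SGA7Aut29

/-- Let k be a field, G a smooth connected commutative k-group scheme whose geometric fibre contains no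
copy of the additive group (an extension of an abelian variety by a torus), and α an automorphism of
the group scheme G. For a point x of G with values in a k-scheme write (α − 1)x = α(x)·x⁻¹. Assume
(a) α² = 1 and (α − 1)x = 1 whenever x² = 1, or (b) α² = 1 and (α − 1)((α − 1)x) = 1 whenever x⁴ =
1, or (c) α³ = 1 and (α − 1)((α − 1)x) = 1 whenever x³ = 1. Then there is an idempotent endomorphism
p of G with p + p = 1 + α in cases (a) and (b) and p + p + p = 1 + α + α² in case (c) (sums taken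
pointwise), the kernels G₁ of 1 − p and G₂ of p are closed connected subgroup schemes, and
multiplication G₁ × G₂ → G is an isomorphism. (The published statement further identifies G₁ with
the identity component of ker(1 − α) and G₂ with that of ker(1 + α), resp. ker(1 + α + α²); over a
field of characteristic 2, resp. 3, this fails scheme-theoretically — for α = −1 on an ordinary
elliptic curve in characteristic 2 one gets G₁ trivial while ker(1 − α) = ker 2 has a non-trivial
connected part — so it is not restated.) -/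
theorem result (k : Type u) [Field k]
    (G : Over (Spec (CommRingCat.of k))) [GrpObj G] [IsCommMonObj G] [Smooth G.hom] [ConnectedSpace ↥G.left]
    (hG : SGA7.FibresUnipotentRankZero G) (u : Aut G) [IsMonHom u.hom]
    (h : (u * u = 1 ∧ ∀ (T : Over (Spec (CommRingCat.of k))) (x : T ⟶ G), x ^ 2 = 1 → x ≫ u.hom = x) ∨
      (u * u = 1 ∧ ∀ (T : Over (Spec (CommRingCat.of k))) (x : T ⟶ G), x ^ 4 = 1 →
        (((x ≫ u.hom) * x⁻¹) ≫ u.hom) * ((x ≫ u.hom) * x⁻¹)⁻¹ = 1) ∨
      (u * u * u = 1 ∧ ∀ (T : Over (Spec (CommRingCat.of k))) (x : T ⟶ G), x ^ 3 = 1 →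
        (((x ≫ u.hom) * x⁻¹) ≫ u.hom) * ((x ≫ u.hom) * x⁻¹)⁻¹ = 1)) :
    ∃ (p : G ⟶ G) (G₁ G₂ : Over (Spec (CommRingCat.of k))) (_ : GrpObj G₁) (_ : GrpObj G₂)
      (i₁ : G₁ ⟶ G) (i₂ : G₂ ⟶ G),
      IsMonHom p ∧ p ≫ p = p ∧
      (u * u = 1 → p * p = 𝟙 G * u.hom) ∧ (u * u * u = 1 → p * p * p = 𝟙 G * u.hom * (u * u).hom) ∧
      IsMonHom i₁ ∧ IsMonHom i₂ ∧ IsClosedImmersion i₁.left ∧ IsClosedImmersion i₂.left ∧
      AlgGrp.IsKernel i₁ (𝟙 G * p⁻¹) ∧ AlgGrp.IsKernel i₂ p ∧
      ConnectedSpace ↥G₁.left ∧ ConnectedSpace ↥G₂.left ∧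
      IsIso ((i₁ ⊗ₘ i₂) ≫ μ[G]) := by
  let d : G ⟶ G := u.hom * (𝟙 G)⁻¹
  haveI : IsMonHom d := isMonHom_mul _ _
  have hxd : ∀ {T : Over (Spec (CommRingCat.of k))} (x : T ⟶ G), x ≫ d = (x ≫ u.hom) * x⁻¹ := fun x => by
    simp only [d, MonObj.comp_mul, GrpObj.comp_inv, Category.comp_id]
  suffices hmain : ∃ p : G ⟶ G, IsMonHom p ∧ p ≫ p = p ∧ (u * u = 1 → p * p = 𝟙 G * u.hom) ∧
      (u * u * u = 1 → p * p * p = 𝟙 G * u.hom * (u * u).hom) by
    obtain ⟨p, hp, hpp, h2, h3⟩ := hmain
    obtain ⟨G₁, G₂, g₁, g₂, i₁, i₂, a1, a2, a3, a4, a5, a6, a7, a8, a9⟩ := exists_splitting p hpp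
    exact ⟨p, G₁, G₂, g₁, g₂, i₁, i₂, hp, hpp, h2, h3, a1, a2, a3, a4, a5, a6, a7, a8, a9⟩
  by_cases h2 : u * u = 1
  · -- the involution case
    have huu : u.hom ≫ u.hom = 𝟙 G := congrArg Iso.hom h2
    by_cases h3 : u * u * u = 1
    · have hu : u = 1 := by rwa [h2, _root_.one_mul] at h3
      subst hu
      exact ⟨𝟙 G, inferInstance, Category.comp_id _, fun _ => rfl, fun _ => rfl⟩
    have hdd : d ≫ d = (d ^ 2)⁻¹ := by
      rw [hxd]
      simp only [d, MonObj.mul_comp, GrpObj.inv_comp, Category.id_comp, huu, pow_two, mul_inv_rev, _root_.inv_inv]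

    have hkill : ∀ (T : Over (Spec (CommRingCat.of k))) (x : T ⟶ G), x ^ 2 = 1 → x ≫ d = 1 := by
      rcases h with ⟨-, h⟩ | ⟨-, h⟩ | ⟨h', -⟩
      · intro T x hx; rw [hxd, h T x hx, mul_inv_cancel]
      · refine kills_two_of_kills_four hG d hdd fun T x hx => ?_
        rw [← Category.assoc, hxd (x ≫ d), hxd x]
        exact h T x hx
      · exact absurd h' h3
    obtain ⟨v, hv, hv2⟩ := exists_pow_eq_of_kills hG (n := 2) (by omega) d hkill
    haveI := hv
    let p : G ⟶ G := 𝟙 G * v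
    haveI : IsMonHom p := isMonHom_mul _ _
    have hp2 : p * p = 𝟙 G * u.hom := by
      simp only [p]
      rw [_root_.mul_mul_mul_comm, ← pow_two v, hv2]
      simp only [d]
      rw [mul_comm u.hom, _root_.mul_assoc, mul_inv_cancel_left]
    have he : (p * p) ≫ (p * p) = (p * p) * (p * p) := by
      rw [hp2]
      simp only [MonObj.mul_comp, MonObj.comp_mul, Category.id_comp, Category.comp_id, huu]
      simp only [_root_.mul_assoc, mul_comm, mul_left_comm]
    refine ⟨p, inferInstance, eq_of_pow_eq hG (n := 4) (by omega) (p ≫ p) p ?_, fun _ => hp2, fun h' => absurd h' h3⟩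
    simp only [MonObj.mul_comp, MonObj.comp_mul] at he
    simpa [pow_succ, _root_.mul_assoc] using he
  · -- order three
    obtain ⟨h3, h⟩ : u * u * u = 1 ∧ ∀ (T : Over (Spec (CommRingCat.of k))) (x : T ⟶ G), x ^ 3 = 1 →
        (((x ≫ u.hom) * x⁻¹) ≫ u.hom) * ((x ≫ u.hom) * x⁻¹)⁻¹ = 1 := by
      rcases h with ⟨h', -⟩ | ⟨h', -⟩ | h'
      · exact absurd h' h2
      · exact absurd h' h2
      · exact h'
    have h3' : u.hom ≫ u.hom ≫ u.hom = 𝟙 G := congrArg Iso.hom h3
    have huu : (u * u).hom = u.hom ≫ u.hom := rfl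
    haveI : IsMonHom (u * u).hom := by rw [huu]; infer_instance
    let e : G ⟶ G := 𝟙 G * u.hom * (u * u).hom
    haveI : IsMonHom (𝟙 G * u.hom) := isMonHom_mul _ _
    haveI : IsMonHom e := isMonHom_mul _ _
    have hed : e = d ≫ d * (u.hom * u.hom * u.hom) := by
      rw [hxd]
      simp only [e, d, MonObj.mul_comp, GrpObj.inv_comp, Category.id_comp, huu, mul_inv_rev, _root_.inv_inv]
      calc _ = 𝟙 G * u.hom * (u.hom ≫ u.hom) * ((u.hom⁻¹ * u.hom) * (u.hom⁻¹ * u.hom)) := by
            simp only [inv_mul_cancel, _root_.mul_one]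
        _ = _ := by simp only [_root_.mul_assoc, mul_comm, mul_left_comm]
    have hkill : ∀ (T : Over (Spec (CommRingCat.of k))) (x : T ⟶ G), x ^ 3 = 1 → x ≫ e = 1 := fun T x hx => by
      rw [hed, MonObj.comp_mul, ← Category.assoc, hxd (x ≫ d), hxd x, h T x hx, _root_.one_mul,
        MonObj.comp_mul, MonObj.comp_mul, ← MonObj.mul_comp, ← MonObj.mul_comp,
        show x * x * x = x ^ 3 by rw [pow_succ, pow_two], hx, MonObj.one_comp]
    obtain ⟨p, hp, hp3⟩ := exists_pow_eq_of_kills hG (n := 3) (by omega) e hkill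
    haveI := hp
    have hee : e ≫ e = e ^ 3 := by
      simp only [e, huu, pow_succ, _root_.pow_zero, _root_.one_mul, MonObj.mul_comp, MonObj.comp_mul, Category.id_comp,
        Category.comp_id, Category.assoc, h3']
      simp only [_root_.mul_assoc, mul_comm, mul_left_comm]
    refine ⟨p, inferInstance, eq_of_pow_eq hG (n := 3 * 3) (by omega) (p ≫ p) p ?_, fun h' => absurd h' h2,
      fun _ => by rw [show p * p * p = p ^ 3 by rw [pow_succ, pow_two], hp3]⟩
    rw [← hp3, MonObj.comp_pow, AbCubeLib.pow_comp_hom, ← pow_mul, ← pow_mul] at hee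
    exact hee

end Groth.Agent.S18609
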