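import Groth.Statements.S18614
import Groth.Agent.AdicTop.Completion
import Mathlib.LinearAlgebra.Dual.Lemmas

set_option autoImplicit false
universe u v
open LinTop

namespace Groth.Agent.S18614

/-- Let k be a field carrying the discrete topology and M a separated topological k-module with a
k-linear topology (the open k-submodules form a basis of neighbourhoods of zero and M is a
topological additive group). For a closed submodule M₁, the perpendicular of the perpendicular of
M₁, both taken with respect to the pairing of M with its continuous dual (the continuous k-linear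
maps M → k), is M₁ itself: an element killed by every continuous functional vanishing on M₁ belongs
to M₁. -/
theorem result (k : Type u) (M : Type v) [Field k]
    [TopologicalSpace k] [DiscreteTopology k] [AddCommGroup M] [Module k M] [TopologicalSpace M]
    [IsTopologicalAddGroup M] [IsLinearTopology k M] [T2Space M]
    (M₁ : Submodule k M) (hM₁ : IsClosed (M₁ : Set M)) (x : M)
    (hx : ∀ φ : M →L[k] k, (∀ m ∈ M₁, φ m = 0) → φ x = 0) : x ∈ M₁ := by
  by_contra hxM
  have hxc : x ∉ closure (M₁ : Set M) := by rwa [hM₁.closure_eq]
  rw [show (M₁ : Set M) = (M₁.toAddSubgroup : Set M) from rfl,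
    Groth.Agent.AdicTop.mem_closure_iff_forall_sub_mem (IsLinearTopology.hasBasis_open_submodule k (M := M))] at hxc
  push Not at hxc
  obtain ⟨W, hW, hxW⟩ := hxc
  have hx' : x ∉ M₁ ⊔ W := by
    intro h
    obtain ⟨n, hn, w, hw, rfl⟩ := Submodule.mem_sup.1 h
    exact hxW n hn (by simpa using hw)
  obtain ⟨f, hfx, hf⟩ := Submodule.exists_dual_map_eq_bot_of_notMem hx' inferInstance
  have hker : M₁ ⊔ W ≤ LinearMap.ker f := LinearMap.le_ker_iff_map.2 hf
  have hcont : Continuous f := by
    refine continuous_of_continuousAt_zero f.toAddMonoidHom ?_
    intro U hU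
    refine Filter.mem_map.2 (Filter.mem_of_superset (hW.mem_nhds W.zero_mem) fun y hy => ?_)
    show f y ∈ U
    rw [LinearMap.mem_ker.1 (hker (Submodule.mem_sup_right hy))]
    simpa using mem_of_mem_nhds hU
  exact hfx (hx ⟨f, hcont⟩ fun m hm => LinearMap.mem_ker.1 (hker (Submodule.mem_sup_left hm)))

end Groth.Agent.S18614
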