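import Groth.Statements.S18615
import Groth.Agent.AdicTop.Completion
import Mathlib.LinearAlgebra.Dual.Lemmas
import Mathlib.LinearAlgebra.Isomorphisms

set_option autoImplicit false
universe u v
open LinTop

namespace Groth.Agent.S18615

/-- Let k be a field carrying the discrete topology and M a separated topological k-module with a
k-linear topology (open k-submodules form a basis of neighbourhoods of zero, M a topological
additive group). For closed submodules M₁ ⊆ M₂ there is a short exact sequence 0 → M₂^⊥ → M₁^⊥ →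
(M₂/M₁)^* → 0 of plain k-modules, where ⊥ denotes the annihilator in the continuous dual of M and *
the continuous dual. Stated here as its one non-formal part, surjectivity on the right: every
continuous functional on M₂ (subspace topology) that vanishes on M₁ is the restriction of a
continuous functional on M vanishing on M₁ (continuous functionals on M₂/M₁ being the continuous
functionals on M₂ that kill M₁). -/
theorem result (k : Type u) (M : Type v) [Field k]
    [TopologicalSpace k] [DiscreteTopology k] [AddCommGroup M] [Module k M] [TopologicalSpace M]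
    [IsTopologicalAddGroup M] [IsLinearTopology k M] [T2Space M]
    (M₁ M₂ : Submodule k M) (h₁₂ : M₁ ≤ M₂) (hM₁ : IsClosed (M₁ : Set M))
    (hM₂ : IsClosed (M₂ : Set M)) (ψ : M₂ →L[k] k)
    (hψ : ∀ m : M₂, (m : M) ∈ M₁ → ψ m = 0) :
    ∃ φ : M →L[k] k, (∀ m ∈ M₁, φ m = 0) ∧ ∀ m : M₂, φ (m : M) = ψ m := by
  have hψ0 : IsOpen {m : M₂ | ψ m = 0} := (isOpen_discrete {(0 : k)}).preimage ψ.continuous
  obtain ⟨U, hU, hUeq⟩ := isOpen_induced_iff.1 hψ0
  have hU0 : (0 : M) ∈ U := by
    have : (0 : M₂) ∈ (Subtype.val : M₂ → M) ⁻¹' U := by rw [hUeq]; exact map_zero ψ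
    exact this
  obtain ⟨W, hW, hWU⟩ := (IsLinearTopology.hasBasis_open_submodule k (M := M)).mem_iff.1 (hU.mem_nhds hU0)
  let g : M₂ →ₗ[k] M ⧸ (M₁ ⊔ W) := (M₁ ⊔ W).mkQ ∘ₗ M₂.subtype
  have hker : LinearMap.ker g ≤ LinearMap.ker ψ.toLinearMap := by
    intro m hm
    have hm' : (m : M) ∈ M₁ ⊔ W := (Submodule.Quotient.mk_eq_zero _).1 hm
    obtain ⟨a, ha, w, hw, haw⟩ := Submodule.mem_sup.1 hm'
    have hw2 : w ∈ M₂ := by
      rw [show w = (m : M) - a by rw [← haw]; abel]
      exact sub_mem m.2 (h₁₂ ha)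
    have hwψ : ψ ⟨w, hw2⟩ = 0 := by
      have : (⟨w, hw2⟩ : M₂) ∈ (Subtype.val : M₂ → M) ⁻¹' U := hWU hw
      rw [hUeq] at this
      exact this
    have hm2 : m = ⟨a, h₁₂ ha⟩ + ⟨w, hw2⟩ := Subtype.ext haw.symm
    show ψ m = 0
    rw [hm2, map_add, hψ _ ha, hwψ, add_zero]
  obtain ⟨h, hh⟩ := LinearMap.exists_extend (p := LinearMap.range g)
    ((Submodule.liftQ _ ψ.toLinearMap hker) ∘ₗ g.quotKerEquivRange.symm.toLinearMap)
  let f : M →ₗ[k] k := h ∘ₗ (M₁ ⊔ W).mkQ
  have hf0 : ∀ y ∈ M₁ ⊔ W, f y = 0 := fun y hy => by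
    simp [f, (Submodule.Quotient.mk_eq_zero _).2 hy]
  have hcont : Continuous f := by
    refine continuous_of_continuousAt_zero f.toAddMonoidHom ?_
    intro V hV
    refine Filter.mem_map.2 (Filter.mem_of_superset (hW.mem_nhds W.zero_mem) fun y hy => ?_)
    show f y ∈ V
    rw [hf0 y (Submodule.mem_sup_right hy)]
    simpa using mem_of_mem_nhds hV
  refine ⟨⟨f, hcont⟩, fun m hm => hf0 m (Submodule.mem_sup_left hm), fun m => ?_⟩
  have := LinearMap.congr_fun hh ⟨g m, ⟨m, rfl⟩⟩
  show h (g m) = ψ m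
  rw [show h (g m) = _ from this]
  simp only [LinearMap.coe_comp, LinearEquiv.coe_coe, Function.comp_apply]
  rw [LinearMap.quotKerEquivRange_symm_apply_image g m (LinearMap.mem_range_self g m)]
  rfl

end Groth.Agent.S18615
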