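import Groth.Statements.S18619
import Groth.Agent.Misc15.LinearPresent

set_option maxHeartbeats 1000000
set_option backward.isDefEq.respectTransparency.types false
-- import your own Groth.Agent.* helpers here

set_option autoImplicit false
universe u
open VBPn

namespace Groth.Agent.S18619

open CategoryTheory CategoryTheory.Limits AlgebraicGeometry TopologicalSpace in
/-- Let k be an algebraically closed field of characteristic zero, n ≥ 2, Z = {p_1, …, p_s} distinct
closed points of P^n_k and π : X → P^n_k a blow-up of P^n_k in the ideal of the reduced set Z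
(universal property); write O_X(−e₀) = π^*O(−1), O_X(−2e₀) = π^*O(−2). Let f, f′ : P → Q be
monomorphisms of O_X-modules with P ≅ O_X(−2e₀)^a and Q ≅ O_X(−e₀)^b whose cokernels E and E′ are
finite locally free of rank b − a. Then E ≅ E′ (existence of an isomorphism) if and only if f and f′
lie in one orbit of Aut(Q) × Aut(P), that is f ≫ β = γ ≫ f′ for some automorphisms β of Q and γ of
P. (The published statement takes f and f′ in the open set of matrices of linear forms that are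
surjective on global sections after dualising; the argument does not use that condition and it is
not assumed here.) -/
theorem result (k : Type u) [Field k] [IsAlgClosed k] [CharZero k]
    (n : ℕ) (hn : 2 ≤ n) (s : ℕ) (P : Fin s → ↥(CohB1.ProjSpace n k)) (hP : Function.Injective P)
    (hPc : ∀ i, IsClosed ({P i} : Set ↥(CohB1.ProjSpace n k))) (hZ : IsClosed (Set.range P))
    (X : Scheme.{u}) (π : X ⟶ CohB1.ProjSpace n k)
    (hπ : BlowUp.IsBlowUp π (Scheme.IdealSheafData.vanishingIdeal ⟨Set.range P, hZ⟩))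
    (a b : ℕ) (P₁ Q₁ : X.Modules)
    (hP₁ : Nonempty (P₁ ≅ ∐ fun _ : Fin a => (Scheme.Modules.pullback π).obj (Twist.twistProjSpace n k (-2))))
    (hQ₁ : Nonempty (Q₁ ≅ ∐ fun _ : Fin b => (Scheme.Modules.pullback π).obj (Twist.twistProjSpace n k (-1))))
    (f f' : P₁ ⟶ Q₁) [Mono f] [Mono f'] (hE : FlatMod.IsFinLocFreeOfRank (b - a) (cokernel f))
    (hE' : FlatMod.IsFinLocFreeOfRank (b - a) (cokernel f')) :
    Nonempty (cokernel f ≅ cokernel f') ↔
      ∃ (β : Q₁ ≅ Q₁) (γ : P₁ ≅ P₁), f ≫ β.hom = γ.hom ≫ f' := by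
  obtain ⟨hL, hN, ⟨t⟩, hv⟩ := Misc15.LinPres.exists_data n k hn P hPc hZ π hπ hP₁
  obtain ⟨eQ⟩ := hQ₁
  constructor
  · rintro ⟨e⟩
    have hS : ∀ (g : P₁ ⟶ Q₁) [Mono g], (ShortComplex.mk g (cokernel.π g) (cokernel.condition g)).ShortExact :=
      fun g _ => { exact := ShortComplex.exact_of_g_is_cokernel _ (cokernelIsCokernel g), mono_f := ‹Mono g›, epi_g := inferInstance }
    have lift : ∀ (g g' : P₁ ⟶ Q₁) [Mono g'] (u : cokernel g ⟶ cokernel g'),
        ∃ β : Q₁ ⟶ Q₁, β ≫ cokernel.π g' = cokernel.π g ≫ u := fun g g' _ u => by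
      obtain ⟨β, hβ⟩ := Misc15.LinPres.exists_lift_of_sigma hL hN t (hS g') (hv 1 le_rfl) (eQ.inv ≫ cokernel.π g ≫ u)
      exact ⟨eQ.hom ≫ β, by rw [Category.assoc]; erw [hβ]; simp⟩
    have uniq : ∀ (g : P₁ ⟶ Q₁) [Mono g] (β : Q₁ ⟶ Q₁), β ≫ cokernel.π g = cokernel.π g → β = 𝟙 Q₁ :=
      fun g _ β h => by
        obtain ⟨r, hr⟩ : ∃ r : Q₁ ⟶ P₁, r ≫ g = β - 𝟙 Q₁ :=
          ⟨(hS g).exact.lift (β - 𝟙 Q₁) (by rw [Preadditive.sub_comp, h, Category.id_comp, sub_self]),
            (hS g).exact.lift_f _ _⟩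
        have h0 : eQ.inv ≫ r = 0 := Misc15.LinPres.eq_zero_of_sigma hL hN t (hv 0 zero_le_one) _
        rw [← sub_eq_zero, ← hr, ← cancel_epi eQ.inv, ← Category.assoc, h0, zero_comp, comp_zero]
    obtain ⟨β, hβ⟩ := lift f f' e.hom
    obtain ⟨β₂, hβ₂⟩ := lift f' f e.inv
    have h1 : β ≫ β₂ = 𝟙 Q₁ := uniq f _ (by
      rw [Category.assoc, hβ₂, ← Category.assoc, hβ, Category.assoc, e.hom_inv_id, Category.comp_id])
    have h2 : β₂ ≫ β = 𝟙 Q₁ := uniq f' _ (by
      rw [Category.assoc, hβ, ← Category.assoc, hβ₂, Category.assoc, e.inv_hom_id, Category.comp_id])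
    obtain ⟨γ, hγ⟩ : ∃ γ : P₁ ⟶ P₁, γ ≫ f' = f ≫ β :=
      ⟨(hS f').exact.lift (f ≫ β) (by rw [Category.assoc, hβ, cokernel.condition_assoc, zero_comp]),
        (hS f').exact.lift_f _ _⟩
    obtain ⟨γ₂, hγ₂⟩ : ∃ γ₂ : P₁ ⟶ P₁, γ₂ ≫ f = f' ≫ β₂ :=
      ⟨(hS f).exact.lift (f' ≫ β₂) (by rw [Category.assoc, hβ₂, cokernel.condition_assoc, zero_comp]),
        (hS f).exact.lift_f _ _⟩
    refine ⟨⟨β, β₂, h1, h2⟩, ⟨γ, γ₂, ?_, ?_⟩, hγ.symm⟩
    · rw [← cancel_mono f, Category.assoc, hγ₂, ← Category.assoc, hγ, Category.assoc, h1, Category.comp_id, Category.id_comp]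
    · rw [← cancel_mono f', Category.assoc, hγ, ← Category.assoc, hγ₂, Category.assoc, h2, Category.comp_id, Category.id_comp]
  · rintro ⟨β, γ, h⟩
    exact ⟨cokernel.mapIso f f' γ β h⟩

end Groth.Agent.S18619
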