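import Groth.Statements.S1862
import Mathlib
import Groth.Agent.FlatMorNoethFib.Basic

set_option autoImplicit false
universe u
open CategoryTheory AlgebraicGeometry
open Cyc

namespace Groth.Agent.S1862

/-- Let f : X → Y be a morphism locally of finite type of integral schemes with δX(η_X) = δY(η_Y). Then
either the image of f is not dense, or f maps the generic point to the generic point and the induced
extension of residue fields there (the function fields) is finite. Here a pair (X, δ) with
Cyc.IsSetup plays the role of a scheme locally of finite type over a fixed base with a dimension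
function (X locally Noetherian with universally catenary local rings, δ a dimension function), and
Cyc.DeltaCompat records that the dimension function upstairs is the induced one. -/
theorem result (X Y : Scheme.{u}) [IsIntegral X] [IsIntegral Y] (δX : X → ℤ) (δY : Y → ℤ) (hX : Cyc.IsSetup X δX) (hY : Cyc.IsSetup Y δY) (f : X ⟶ Y) [LocallyOfFiniteType f] (hδ : Cyc.DeltaCompat f δX δY) (heq : δX (genericPoint X) = δY (genericPoint Y)) : ¬ Dense (Set.range f) ∨ (f (genericPoint X) = genericPoint Y ∧ (f.residueFieldMap (genericPoint X)).hom.Finite) := by
  by_cases hd : Dense (Set.range f)
  swap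
  · exact Or.inl hd
  have hgen : f (genericPoint X) = genericPoint Y := by
    have h1 : closure {f (genericPoint X)} = (Set.univ : Set Y) := by
      refine Set.univ_subset_iff.mp (hd.closure_eq.ge.trans (closure_minimal ?_ isClosed_closure))
      rintro _ ⟨x, rfl⟩
      exact specializes_iff_mem_closure.mp ((genericPoint_specializes x).map f.continuous)
    exact (genericPoint_spec Y).eq (show IsGenericPoint (f (genericPoint X)) Set.univ from h1) |>.symm
  refine Or.inr ⟨hgen, ?_⟩
  obtain ⟨n, hn, hx⟩ := hδ (genericPoint X)
  rw [hgen, heq] at hx
  have hn0 : n = 0 := by omega
  subst hn0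
  have hess := FlatMorNoethFib.essFiniteType_residueFieldMap f (genericPoint X)
  algebraize [(f.residueFieldMap (genericPoint X)).hom]
  have : Algebra.EssFiniteType (Y.residueField (f (genericPoint X))) (X.residueField (genericPoint X)) := hess
  have : Algebra.IsAlgebraic (Y.residueField (f (genericPoint X))) (X.residueField (genericPoint X)) := by
    rw [← trdeg_eq_zero_iff]
    exact_mod_cast hn
  exact Algebra.finite_of_essFiniteType_of_isAlgebraic
end Groth.Agent.S1862
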