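import Groth.Statements.S18623
import Groth.Agent.Misc15.PointPnCoh
import Groth.Agent.SurfBl13.EndPush
import Groth.Agent.BlowUpCoh.EulerPush
import Groth.Agent.Lef23.Formal

set_option autoImplicit false
universe u
open VBPn
open Groth.Agent.Coherent Groth.Agent.PicLib Groth.Agent.AmpleLib Groth.Agent.EulerLib Groth.Agent.CurveRR24

namespace Groth.Agent.S18623

open CategoryTheory CategoryTheory.Limits AlgebraicGeometry TopologicalSpace in
/-- For one blown-up point; let k be an algebraically closed field of characteristic zero, n ≥ 3, p a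
closed point of P^n_k and π : X → P^n_k a blow-up of P^n_k in the ideal of p (universal property),
with exceptional divisor e₁ whose ideal sheaf is the inverse image ideal, and O_X(e₀) = π^*O(1); put
O_X(c e₀ − d e₁) = π^*O(c) ⊗ (ideal of e₁)^{⊗ d} for c ∈ ℤ, d ≥ 0. If d = 0, or if 0 < d ≤ c, then
H^1(X, O_X(c e₀ − d e₁)) = 0. (The published statement also covers no point blown up, where it is
the vanishing of H^1(P^n, O(c)).) -/
theorem result (k : Type u) [Field k] [IsAlgClosed k] [CharZero k]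
    (n : ℕ) (hn : 3 ≤ n) (p : ↥(CohB1.ProjSpace n k)) (hp : IsClosed ({p} : Set ↥(CohB1.ProjSpace n k)))
    (X : Scheme.{u}) (π : X ⟶ CohB1.ProjSpace n k)
    (hπ : BlowUp.IsBlowUp π (Scheme.IdealSheafData.vanishingIdeal ⟨{p}, hp⟩))
    (c : ℤ) (d : ℕ) (hcd : d = 0 ∨ (0 < d ∧ (d : ℤ) ≤ c)) :
    Subsingleton (Coh.HH X (CohB1.tensorMod ((Scheme.Modules.pullback π).obj (Twist.twistProjSpace n k c))
      (CohB1.tensorPow (ClSub.idealMod (BlowUp.exceptional π (Scheme.IdealSheafData.vanishingIdeal ⟨{p}, hp⟩))) d)) 1) := by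
  haveI : IsProper (CohB1.ProjSpace n k ↘ Spec (CommRingCat.of k)) :=
    Coherent.isProper_projSpace_toSpec (n := n) (R := k)
  letI : X.Over (Spec (CommRingCat.of k)) := ⟨π ≫ (CohB1.ProjSpace n k ↘ Spec (CommRingCat.of k))⟩
  let I : (CohB1.ProjSpace n k).IdealSheafData := Scheme.IdealSheafData.vanishingIdeal ⟨{p}, hp⟩
  have hI := Misc15.PointPn.koszulBasis_point n k (by omega) p hp
  haveI : IsProper π := BlowUpLib.isProper_of_isBlowUp hπ (BlowUpCoh.isFiniteType_of_koszulBasis hI)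
  have hL := Misc15.PointPn.isInvertible_twistPn n k c
  have hLF : FlatMod.IsFinLocFree (Twist.twistProjSpace n k c) := fun y =>
    let ⟨U, hy, e⟩ := PicLib.isFinLocFreeOfRank_one hL y; ⟨U, 1, hy, e⟩
  haveI := MorProj.isQCoh_idealMod ((I.comap π) ^ d)
  haveI := isQCoh_of_isInvertible (PicLoc.isInvertible_pullback π hL)
  haveI : Coh.IsQCoh (CohB1.tensorMod ((Scheme.Modules.pullback π).obj (Twist.twistProjSpace n k c))
      (ClSub.idealMod ((I.comap π) ^ d))) := isQCoh_tensorMod _ _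
  obtain ⟨T⟩ := BlowUpCoh.exists_twistPow (I.comap π) d
  obtain ⟨e⟩ := BlowUpCoh.nonempty_pushforward_idealPow hπ hI d
  obtain ⟨φ⟩ := Lef23.nonempty_idealMod_pow (I.comap π) hπ.1 d
  refine CurveRR24.subsingleton_HH_congr (AmpleLib.tensorIso (Iso.refl _) φ) 1 ?_
  obtain ⟨ψ⟩ := SurfBl13.nonempty_HH_push_equiv π k rfl
    (CohB1.tensorMod ((Scheme.Modules.pullback π).obj (Twist.twistProjSpace n k c)) (ClSub.idealMod ((I.comap π) ^ d)))
    (fun i hi => BlowUpCoh.isZero_rpushAb_tensor_pullback π hLF _ i (BlowUpCoh.isZero_rpushAb hπ hI T (by omega) i hi)) 1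
  refine ψ.toEquiv.subsingleton_congr.2 (CurveRR24.subsingleton_HH_congr
    (((projIso (f := π) hLF).app _).symm ≪≫ (tensE (Twist.twistProjSpace n k c)).mapIso e).symm 1 ?_)
  rcases hcd with rfl | ⟨hd, hdc⟩
  · exact Misc15.PointPn.subsingleton_H1_twist_pow_zero n k p hp (by omega) c
  · obtain ⟨c, rfl⟩ := Int.eq_ofNat_of_zero_le (show 0 ≤ c by omega)
    exact Misc15.PointPn.subsingleton_H1_twist_pointPow n k p hp (by omega) c d (by omega)

end Groth.Agent.S18623
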