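import Groth.Statements.S18625
import Groth.Agent.Quadric3.Kernel
import Groth.Agent.SerreDual.TwistEquiv
-- import your own Groth.Agent.* helpers here

set_option autoImplicit false
universe u
open VBPn

set_option backward.isDefEq.respectTransparency false
set_option linter.style.haveILetI false
set_option maxHeartbeats 1000000

namespace Groth.Agent.S18625

open CategoryTheory CategoryTheory.Limits AlgebraicGeometry TopologicalSpace
open Groth.Agent.Quadric3 Groth.Agent.AmpleLib Groth.Agent.SerreDual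

/-- In a finite-dimensional algebra all but finitely many translates of an element are units. -/
theorem finite_not_isUnit (k : Type u) [Field k] {A : Type*} [Ring A] [Algebra k A] [Module.Finite k A] (x : A) :
    {c : k | ¬ IsUnit (x + c • (1 : A))}.Finite := by
  classical
  refine ((Module.End.finite_hasEigenvalue (LinearMap.mulLeft k x)).image fun c => -c).subset fun c hc => ?_
  refine ⟨-c, ?_, neg_neg c⟩
  by_contra hev
  apply hc
  have hinj : Function.Injective (LinearMap.mulLeft k (x + c • (1 : A))) := by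
    refine (injective_iff_map_eq_zero _).2 fun v hv => ?_
    by_contra hne
    refine hev (Module.End.hasEigenvalue_of_hasEigenvector ⟨?_, hne⟩)
    rw [Module.End.mem_eigenspace_iff, LinearMap.mulLeft_apply]
    rw [LinearMap.mulLeft_apply, add_mul, smul_mul_assoc, one_mul] at hv
    rw [neg_smul]
    exact eq_neg_of_add_eq_zero_left hv
  obtain ⟨z, hz⟩ := LinearMap.injective_iff_surjective.1 hinj (1 : A)
  rw [LinearMap.mulLeft_apply] at hz
  refine ⟨⟨_, z, hz, hinj ?_⟩, rfl⟩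
  simp only [LinearMap.mulLeft_apply]
  rw [← mul_assoc, hz, one_mul, mul_one]

variable (k : Type u) [Field k]

attribute [local instance] overQ2

theorem nonempty_inv (a b : ℤ) :
    Nonempty (CohB1.tensorMod (O2 k a b) (O2 k (-a) (-b)) ≅ Coh.structureModule (Q2 k)) := by
  obtain ⟨e⟩ := nonempty_add k (add_neg_cancel a) (add_neg_cancel b)
  obtain ⟨s⟩ := nonempty_structure k
  exact ⟨e ≪≫ s⟩

theorem finite_hom (a b c d : ℤ) : Module.Finite k (O2 k a b ⟶ O2 k c d) := by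
  obtain ⟨e⟩ := nonempty_inv k a b
  obtain ⟨j⟩ := nonempty_add k (show c + -a = c - a by omega) (show d + -b = d - b by omega)
  haveI := finite_O2 k (c - a) (d - b) 0
  exact Module.Finite.of_injective (((Linear.homCongr k e j).trans (homUnitHH k _)).toLinearMap ∘ₗ
      tensorRightHom k (O2 k a b) (O2 k c d) (O2 k (-a) (-b)))
    (fun x y h => tensorRightHom_injective k _ _ (isInvertible_O2 k _ _)
      (((Linear.homCongr k e j).trans (homUnitHH k _)).injective h))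

theorem hom_O2_eq_zero {a b c d : ℤ} (h : c - a < 0 ∨ d - b < 0) (f : O2 k a b ⟶ O2 k c d) : f = 0 := by
  obtain ⟨e⟩ := nonempty_inv k a b
  obtain ⟨j⟩ := nonempty_add k (show c + -a = c - a by omega) (show d + -b = d - b by omega)
  haveI := vanish_neg_zero k (c - a) (d - b) h
  refine tensorRightHom_injective k _ _ (isInvertible_O2 k (-a) (-b))
    (((Linear.homCongr k e j).trans (homUnitHH k _)).injective (Subsingleton.elim _ _))

theorem sigma_hom_ext {n : ℕ} {A B : (Q2 k).Modules} {f g : (∐ fun _ : Fin n => A) ⟶ (∐ fun _ : Fin n => B)}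
    (h : ∀ i j, Sigma.ι (fun _ : Fin n => A) i ≫ f ≫ Sigma.π (fun _ : Fin n => B) j =
      Sigma.ι (fun _ : Fin n => A) i ≫ g ≫ Sigma.π (fun _ : Fin n => B) j) : f = g := by
  refine Sigma.hom_ext _ _ fun i => ?_
  rw [← Category.comp_id f, ← Category.comp_id g, ← sum_π_ι B, Preadditive.comp_sum, Preadditive.comp_sum,
    Preadditive.comp_sum, Preadditive.comp_sum]
  refine Finset.sum_congr rfl fun j _ => ?_
  have := congrArg (· ≫ Sigma.ι (fun _ : Fin n => B) j) (h i j)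
  simpa only [Category.assoc] using this

theorem hom_eq_zero {n : ℕ} {a b c d : ℤ} (h : c - a < 0 ∨ d - b < 0) {M N : (Q2 k).Modules}
    (e : M ≅ ∐ fun _ : Fin n => O2 k a b) (e' : N ≅ ∐ fun _ : Fin n => O2 k c d) (f : M ⟶ N) : f = 0 := by
  refine (cancel_epi e.inv).1 ((cancel_mono e'.hom).1 (sigma_hom_ext k fun i j => ?_))
  simp only [comp_zero, zero_comp]
  exact hom_O2_eq_zero k h _

theorem finite_end {n : ℕ} {a b : ℤ} {M : (Q2 k).Modules} (e : M ≅ ∐ fun _ : Fin n => O2 k a b) :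
    Module.Finite k (End M) := by
  haveI := finite_hom k a b a b
  let φ : ((∐ fun _ : Fin n => O2 k a b) ⟶ (∐ fun _ : Fin n => O2 k a b)) →ₗ[k]
      Fin n → Fin n → (O2 k a b ⟶ O2 k a b) :=
    { toFun := fun f i j => Sigma.ι (fun _ : Fin n => O2 k a b) i ≫ f ≫ Sigma.π (fun _ : Fin n => O2 k a b) j
      map_add' := fun f g => by funext i j; simp
      map_smul' := fun c f => by funext i j; simp }
  exact Module.Finite.of_injective (φ ∘ₗ (Linear.homCongr k e e).toLinearMap)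
    (Function.Injective.comp (g := φ) (fun f g hfg => sigma_hom_ext k fun i j => congr_fun (congr_fun hfg i) j)
      (Linear.homCongr k e e).injective)

theorem exists_lift {S : ShortComplex (Q2 k).Modules} (hS : S.ShortExact) {a b : ℤ}
    (h : Subsingleton (Coh.HH (Q2 k) (CohB1.tensorMod S.X₁ (O2 k (-a) (-b))) 1))
    (φ : O2 k a b ⟶ S.X₃) : ∃ ψ : O2 k a b ⟶ S.X₂, ψ ≫ S.g = φ := by
  obtain ⟨e⟩ := nonempty_inv k a b
  haveI := subsingleton_ext_of_invertible (isInvertible_O2 k a b) (isInvertible_O2 k (-a) (-b)) e S.X₁ 1 h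
  obtain ⟨x, hx⟩ := Abelian.Ext.covariant_sequence_exact₃ (O2 k a b) hS (Abelian.Ext.mk₀ φ) (zero_add 1)
    (Subsingleton.elim _ _)
  obtain ⟨ψ, rfl⟩ := (Abelian.Ext.mk₀_bijective _ _).2 x
  rw [Abelian.Ext.mk₀_comp_mk₀] at hx
  exact ⟨ψ, (Abelian.Ext.mk₀_bijective _ _).1 hx⟩

end Groth.Agent.S18625

namespace Groth.Agent.S18625


open CategoryTheory CategoryTheory.Limits AlgebraicGeometry TopologicalSpace in
/-- Let k be an algebraically closed field of characteristic zero and X = P¹_k ×_k P¹_k the smooth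
quadric surface, O(a, b) = pr₁^*O(a) ⊗ pr₂^*O(b). Let r ≥ 2 and let f : P → Q₁ ⊞ Q₂ be a
monomorphism of O_X-modules with P ≅ O(−1,−1)^r, Q₁ ≅ O(−1,0)^r and Q₂ ≅ O(0,−1)^r (a 2r × r matrix
of linear forms, the Q₁-block in the coordinates of one factor and the Q₂-block in those of the
other), whose cokernel E is finite locally free of rank r. Assume that the stabiliser of f in
Aut(Q₁) × Aut(Q₂) × Aut(P) is the scalars: whenever automorphisms β₁ of Q₁, β₂ of Q₂ and γ of P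
satisfy γ ≫ f = f ≫ (β₁ ⊕ β₂), there is one c ∈ k with β₁, β₂ and γ all multiplication by c. Then E
is simple: every endomorphism of E is multiplication by a scalar of k. (The published statement
takes f the transpose of a general matrix and obtains a scalar stabiliser for each of the two r × r
blocks separately from a result it quotes; for r ≥ 2 a square matrix of linear forms in two
variables never has scalar stabiliser, so that block-wise property holds for no f, and the printed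
argument needs only the property of f as a whole, which is the hypothesis here.) -/
theorem result (k : Type u) [Field k] [IsAlgClosed k] [CharZero k]
    (r : ℕ) (P₁ Q₁ Q₂ : (pullback (CohB1.ProjSpace.toSpec 1 k) (CohB1.ProjSpace.toSpec 1 k)).Modules)
    (hP₁ : Nonempty (P₁ ≅ ∐ fun _ : Fin r => CohB1.tensorMod
        ((Scheme.Modules.pullback (pullback.fst (CohB1.ProjSpace.toSpec 1 k) (CohB1.ProjSpace.toSpec 1 k))).obj
          (Twist.twistProjSpace 1 k (-1)))
        ((Scheme.Modules.pullback (pullback.snd (CohB1.ProjSpace.toSpec 1 k) (CohB1.ProjSpace.toSpec 1 k))).obj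
          (Twist.twistProjSpace 1 k (-1)))))
    (hQ₁ : Nonempty (Q₁ ≅ ∐ fun _ : Fin r => CohB1.tensorMod
        ((Scheme.Modules.pullback (pullback.fst (CohB1.ProjSpace.toSpec 1 k) (CohB1.ProjSpace.toSpec 1 k))).obj
          (Twist.twistProjSpace 1 k (-1)))
        ((Scheme.Modules.pullback (pullback.snd (CohB1.ProjSpace.toSpec 1 k) (CohB1.ProjSpace.toSpec 1 k))).obj
          (Twist.twistProjSpace 1 k (0)))))
    (hQ₂ : Nonempty (Q₂ ≅ ∐ fun _ : Fin r => CohB1.tensorMod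
        ((Scheme.Modules.pullback (pullback.fst (CohB1.ProjSpace.toSpec 1 k) (CohB1.ProjSpace.toSpec 1 k))).obj
          (Twist.twistProjSpace 1 k (0)))
        ((Scheme.Modules.pullback (pullback.snd (CohB1.ProjSpace.toSpec 1 k) (CohB1.ProjSpace.toSpec 1 k))).obj
          (Twist.twistProjSpace 1 k (-1)))))
    (f : P₁ ⟶ Q₁ ⊞ Q₂) [Mono f] (hE : FlatMod.IsFinLocFreeOfRank r (cokernel f))
    (hr : 2 ≤ r)
    (hstab : ∀ (β₁ : Q₁ ≅ Q₁) (β₂ : Q₂ ≅ Q₂) (γ : P₁ ≅ P₁), γ.hom ≫ f = f ≫ biprod.map β₁.hom β₂.hom →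
      ∃ c : k, (SheafOfModules.toSheaf _).map β₁.hom = Coh.smulAb Q₁ (Coh.toGlobal (pullback.fst (CohB1.ProjSpace.toSpec 1 k) (CohB1.ProjSpace.toSpec 1 k) ≫ CohB1.ProjSpace.toSpec 1 k) c) ∧
        (SheafOfModules.toSheaf _).map β₂.hom = Coh.smulAb Q₂ (Coh.toGlobal (pullback.fst (CohB1.ProjSpace.toSpec 1 k) (CohB1.ProjSpace.toSpec 1 k) ≫ CohB1.ProjSpace.toSpec 1 k) c) ∧
        (SheafOfModules.toSheaf _).map γ.hom = Coh.smulAb P₁ (Coh.toGlobal (pullback.fst (CohB1.ProjSpace.toSpec 1 k) (CohB1.ProjSpace.toSpec 1 k) ≫ CohB1.ProjSpace.toSpec 1 k) c)) :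
    ∀ φ : cokernel f ⟶ cokernel f, ∃ c : k, (SheafOfModules.toSheaf _).map φ =
      Coh.smulAb (cokernel f) (Coh.toGlobal (pullback.fst (CohB1.ProjSpace.toSpec 1 k) (CohB1.ProjSpace.toSpec 1 k) ≫ CohB1.ProjSpace.toSpec 1 k) c) := by
  classical
  letI := Groth.Agent.Quadric3.overQ2 k
  obtain ⟨e₀⟩ := hP₁
  obtain ⟨e₁⟩ := hQ₁
  obtain ⟨e₂⟩ := hQ₂
  intro φ
  let X := Quadric3.Q2 k
  let S : ShortComplex X.Modules := ShortComplex.mk f (cokernel.π f) (cokernel.condition f)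
  have hS : S.ShortExact :=
    { exact := ShortComplex.exact_of_g_is_cokernel _ (cokernelIsCokernel f), mono_f := inferInstance, epi_g := inferInstance }
  -- lifting
  have hL : ∀ a b : ℤ, (a = -1 ∧ b = 0) ∨ (a = 0 ∧ b = -1) →
      ∀ ψ : Quadric3.O2 k a b ⟶ S.X₃, ∃ χ, χ ≫ S.g = ψ := by
    intro a b hab ψ
    refine exists_lift k hS ?_ ψ
    obtain ⟨c⟩ := Quadric3.nonempty_tensE_sigma (Quadric3.O2 k (-a) (-b)) (Quadric3.O2 k (-1) (-1)) r
    obtain ⟨d⟩ := Quadric3.nonempty_add k (show -a + -1 = -a + -1 from rfl) (show -b + -1 = -b + -1 from rfl)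
    have hv : Subsingleton (Coh.HH X (Quadric3.O2 k (-a + -1) (-b + -1)) 1) := by
      rcases hab with ⟨rfl, rfl⟩ | ⟨rfl, rfl⟩
      · exact Quadric3.vanish_neg_one_right k _ 1
      · exact Quadric3.vanish_neg_one_left k _ 1
    haveI := Quadric3.subsingleton_sigma k (n := r) _ 1 hv
    exact SerreDual.subsingleton_HH_of_iso k
      (AmpleLib.tensorComm _ _ ≪≫ AmpleLib.tensorIso (Iso.refl _) e₀ ≪≫ c ≪≫ Sigma.mapIso fun _ => d) 1
  choose χ₁ hχ₁ using fun i => hL (-1) 0 (Or.inl ⟨rfl, rfl⟩)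
    (Sigma.ι (fun _ : Fin r => Quadric3.O2 k (-1) 0) i ≫ e₁.inv ≫ biprod.inl ≫ S.g ≫ φ)
  choose χ₂ hχ₂ using fun i => hL 0 (-1) (Or.inr ⟨rfl, rfl⟩)
    (Sigma.ι (fun _ : Fin r => Quadric3.O2 k 0 (-1)) i ≫ e₂.inv ≫ biprod.inr ≫ S.g ≫ φ)
  let β : Q₁ ⊞ Q₂ ⟶ Q₁ ⊞ Q₂ := biprod.desc (e₁.hom ≫ Sigma.desc χ₁) (e₂.hom ≫ Sigma.desc χ₂)
  have hβ : β ≫ cokernel.π f = cokernel.π f ≫ φ := by
    refine biprod.hom_ext' _ _ ?_ ?_
    · rw [biprod.inl_desc_assoc, ← cancel_epi e₁.inv, Category.assoc, Iso.inv_hom_id_assoc]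
      refine Sigma.hom_ext _ _ fun i => ?_
      rw [Sigma.ι_desc_assoc]
      exact hχ₁ i
    · rw [biprod.inr_desc_assoc, ← cancel_epi e₂.inv, Category.assoc, Iso.inv_hom_id_assoc]
      refine Sigma.hom_ext _ _ fun i => ?_
      rw [Sigma.ι_desc_assoc]
      exact hχ₂ i
  have hw : (f ≫ β) ≫ cokernel.π f = 0 := by
    rw [Category.assoc, hβ, cokernel.condition_assoc, zero_comp]
  let γ : P₁ ⟶ P₁ := hS.fIsKernel.lift (KernelFork.ofι (f ≫ β) hw)
  have hγ : γ ≫ f = f ≫ β := hS.fIsKernel.fac _ WalkingParallelPair.zero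
  let β₁ : Q₁ ⟶ Q₁ := biprod.inl ≫ β ≫ biprod.fst
  let β₂ : Q₂ ⟶ Q₂ := biprod.inr ≫ β ≫ biprod.snd
  have hβd : β = biprod.map β₁ β₂ := by
    refine biprod.hom_ext _ _ (biprod.hom_ext' _ _ ?_ ?_) (biprod.hom_ext' _ _ ?_ ?_)
    · simp [β₁]
    · rw [biprod.map_fst, biprod.inr_fst_assoc, zero_comp]
      exact hom_eq_zero k (Or.inl (by norm_num)) e₂ e₁ _
    · rw [biprod.map_snd, biprod.inl_snd_assoc, zero_comp]
      exact hom_eq_zero k (Or.inr (by norm_num)) e₁ e₂ _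
    · simp [β₂]
  haveI := finite_end k e₀
  haveI := finite_end k e₁
  haveI := finite_end k e₂
  let γE : End P₁ := γ
  let β₁E : End Q₁ := β₁
  let β₂E : End Q₂ := β₂
  obtain ⟨c, hc⟩ := ((finite_not_isUnit k γE).union ((finite_not_isUnit k β₁E).union
    (finite_not_isUnit k β₂E))).infinite_compl.nonempty
  simp only [Set.mem_compl_iff, Set.mem_union, Set.mem_setOf_eq, not_or, not_not] at hc
  haveI : IsIso ((γ + c • 𝟙 P₁ : P₁ ⟶ P₁)) := (isUnit_iff_isIso _).1 hc.1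
  haveI : IsIso ((β₁ + c • 𝟙 Q₁ : Q₁ ⟶ Q₁)) := (isUnit_iff_isIso _).1 hc.2.1
  haveI : IsIso ((β₂ + c • 𝟙 Q₂ : Q₂ ⟶ Q₂)) := (isUnit_iff_isIso _).1 hc.2.2
  have hmap : biprod.map (β₁ + c • 𝟙 Q₁ : Q₁ ⟶ Q₁) (β₂ + c • 𝟙 Q₂ : Q₂ ⟶ Q₂) = β + c • 𝟙 _ := by
    rw [hβd]
    refine biprod.hom_ext _ _ ?_ ?_ <;> simp
  obtain ⟨e, he₁, he₂, -⟩ := hstab (asIso (β₁ + c • 𝟙 Q₁ : Q₁ ⟶ Q₁)) (asIso (β₂ + c • 𝟙 Q₂ : Q₂ ⟶ Q₂))
    (asIso (γ + c • 𝟙 P₁ : P₁ ⟶ P₁)) (by
      rw [asIso_hom, asIso_hom, asIso_hom, hmap, Preadditive.add_comp, Preadditive.comp_add, hγ, Linear.smul_comp,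
        Linear.comp_smul, Category.id_comp, Category.comp_id])
  have key : ∀ (M : X.Modules) (g : M ⟶ M), (SheafOfModules.toSheaf _).map g =
      Coh.smulAb M (Coh.toGlobal (X ↘ Spec (CommRingCat.of k)) e) → g = e • 𝟙 M := by
    intro M g hg
    rw [KLin.smul_id]
    exact (SheafOfModules.toSheaf _).map_injective hg
  have h₁ : (β₁ + c • 𝟙 Q₁ : Q₁ ⟶ Q₁) = e • 𝟙 Q₁ := key _ _ he₁
  have h₂ : (β₂ + c • 𝟙 Q₂ : Q₂ ⟶ Q₂) = e • 𝟙 Q₂ := key _ _ he₂
  have hB : β + c • 𝟙 (Q₁ ⊞ Q₂) = e • 𝟙 (Q₁ ⊞ Q₂) := by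
    rw [← hmap, h₁, h₂]
    refine biprod.hom_ext _ _ ?_ ?_ <;> simp
  have hφ : φ = (e - c) • 𝟙 (cokernel f) := by
    rw [← cancel_epi (cokernel.π f), ← hβ, eq_sub_of_add_eq hB, ← sub_smul, Linear.smul_comp, Linear.comp_smul,
      Category.id_comp, Category.comp_id]
  refine ⟨e - c, ?_⟩
  rw [hφ, KLin.smul_id]
  rfl

end Groth.Agent.S18625
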