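import Groth.Statements.S18627
import Groth.Agent.Quadric3.Kernel

set_option autoImplicit false
universe u
open VBPn

set_option backward.isDefEq.respectTransparency false
set_option linter.style.haveILetI false
set_option maxHeartbeats 1000000

namespace Groth.Agent.S18627

open CategoryTheory CategoryTheory.Limits AlgebraicGeometry TopologicalSpace in
/-- Let k be an algebraically closed field of characteristic zero and X = P¹_k ×_k P¹_k the smooth
quadric surface, O(a, b) = pr₁^*O(a) ⊗ pr₂^*O(b), polarised by the anticanonical module H = O(2, 2)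
(which embeds X in P⁸). Let r ≥ 2 and let m : Q₁ ⊞ Q₂ → P be an epimorphism of O_X-modules with Q₁ ≅
O(1,0)^r, Q₂ ≅ O(0,1)^r and P ≅ O(1,1)^r whose induced map H^0(X, Q₁ ⊞ Q₂) → H^0(X, P) is
surjective, and F = ker m (a vector bundle of rank r). Then H^0(X, F) = 0, H^1(X, F) = 0, H^2(X, F ⊗
O(−2,−2)) = 0, and H^1(X, F ⊗ O(2t, 2t)) = 0 for every t ∈ ℤ. (The published statement says that
E(H) is an initialized Ulrich bundle for E = F^∨; by Serre duality on X, whose canonical module is
O(−2,−2), its vanishing part, that E has no intermediate cohomology in any twist by H, is equivalent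
to the H^1-vanishings stated here, and its statement that E is initialized, H^0(X, E) = 0, to the
H^2-vanishing; the argument establishes the vanishings for F and for E symmetrically; the count
h^0(E(H)) = 8r is not restated.) -/
theorem result (k : Type u) [Field k] [IsAlgClosed k] [CharZero k]
    (r : ℕ) (hr : 2 ≤ r) (Q₁ Q₂ P₂ : (pullback (CohB1.ProjSpace.toSpec 1 k) (CohB1.ProjSpace.toSpec 1 k)).Modules)
    (hQ₁ : Nonempty (Q₁ ≅ ∐ fun _ : Fin r => CohB1.tensorMod
        ((Scheme.Modules.pullback (pullback.fst (CohB1.ProjSpace.toSpec 1 k) (CohB1.ProjSpace.toSpec 1 k))).obj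
          (Twist.twistProjSpace 1 k (1)))
        ((Scheme.Modules.pullback (pullback.snd (CohB1.ProjSpace.toSpec 1 k) (CohB1.ProjSpace.toSpec 1 k))).obj
          (Twist.twistProjSpace 1 k (0)))))
    (hQ₂ : Nonempty (Q₂ ≅ ∐ fun _ : Fin r => CohB1.tensorMod
        ((Scheme.Modules.pullback (pullback.fst (CohB1.ProjSpace.toSpec 1 k) (CohB1.ProjSpace.toSpec 1 k))).obj
          (Twist.twistProjSpace 1 k (0)))
        ((Scheme.Modules.pullback (pullback.snd (CohB1.ProjSpace.toSpec 1 k) (CohB1.ProjSpace.toSpec 1 k))).obj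
          (Twist.twistProjSpace 1 k (1)))))
    (hP₂ : Nonempty (P₂ ≅ ∐ fun _ : Fin r => CohB1.tensorMod
        ((Scheme.Modules.pullback (pullback.fst (CohB1.ProjSpace.toSpec 1 k) (CohB1.ProjSpace.toSpec 1 k))).obj
          (Twist.twistProjSpace 1 k (1)))
        ((Scheme.Modules.pullback (pullback.snd (CohB1.ProjSpace.toSpec 1 k) (CohB1.ProjSpace.toSpec 1 k))).obj
          (Twist.twistProjSpace 1 k (1)))))
    (m : Q₁ ⊞ Q₂ ⟶ P₂) [Epi m]
    (hm0 : Function.Surjective (Sheaf.H.map ((SheafOfModules.toSheaf _).map m) 0)) :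
    Subsingleton (Coh.HH _ (kernel m) 0) ∧ Subsingleton (Coh.HH _ (kernel m) 1) ∧
      Subsingleton (Coh.HH _ (CohB1.tensorMod (kernel m) (CohB1.tensorMod
        ((Scheme.Modules.pullback (pullback.fst (CohB1.ProjSpace.toSpec 1 k) (CohB1.ProjSpace.toSpec 1 k))).obj
          (Twist.twistProjSpace 1 k (-2)))
        ((Scheme.Modules.pullback (pullback.snd (CohB1.ProjSpace.toSpec 1 k) (CohB1.ProjSpace.toSpec 1 k))).obj
          (Twist.twistProjSpace 1 k (-2))))) 2) ∧
      ∀ t : ℤ, Subsingleton (Coh.HH _ (CohB1.tensorMod (kernel m) (CohB1.tensorMod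
        ((Scheme.Modules.pullback (pullback.fst (CohB1.ProjSpace.toSpec 1 k) (CohB1.ProjSpace.toSpec 1 k))).obj
          (Twist.twistProjSpace 1 k (2 * t)))
        ((Scheme.Modules.pullback (pullback.snd (CohB1.ProjSpace.toSpec 1 k) (CohB1.ProjSpace.toSpec 1 k))).obj
          (Twist.twistProjSpace 1 k (2 * t))))) 1) := by
  classical
  letI := Groth.Agent.Quadric3.overQ2 k
  obtain ⟨e₁⟩ := hQ₁
  obtain ⟨e₂⟩ := hQ₂
  obtain ⟨e₃⟩ := hP₂
  let X := Groth.Agent.Quadric3.Q2 k
  let S : ShortComplex X.Modules := ShortComplex.mk (kernel.ι m) m (kernel.condition m)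
  have hS : S.ShortExact :=
    { exact := ShortComplex.exact_of_f_is_kernel _ (kernelIsKernel m), mono_f := inferInstance, epi_g := inferInstance }
  have hsurj : Function.Surjective (SerreDual.hmap k m 0) := fun z => by
    obtain ⟨w, hw⟩ := hm0 z
    exact ⟨w, (SerreDual.hmap_eq k m 0 w).trans hw⟩
  -- vanishing of the twists of the sum
  have hV : ∀ (a b : ℤ) (q : ℕ), Subsingleton (Coh.HH X (Quadric3.O2 k (a + 1) b) q) →
      Subsingleton (Coh.HH X (Quadric3.O2 k a (b + 1)) q) →
      Subsingleton (Coh.HH X ((Coherent.tensE (Quadric3.O2 k a b)).obj (Q₁ ⊞ Q₂)) q) := by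
    intro a b q h1 h2
    haveI : (Coherent.tensE (Quadric3.O2 k a b)).Additive := inferInstance
    refine Quadric3.subsingleton_map_biprod k (Coherent.tensE (Quadric3.O2 k a b)) Q₁ Q₂ q ?_ ?_
    · haveI := Quadric3.subsingleton_sigma k (n := r) (Quadric3.O2 k (a + 1) b) q h1
      obtain ⟨c⟩ := Quadric3.nonempty_tensE_sigma (Quadric3.O2 k a b) (Quadric3.O2 k 1 0) r
      obtain ⟨d⟩ := Quadric3.nonempty_add k (show a + 1 = a + 1 from rfl) (show b + 0 = b from add_zero b)
      exact SerreDual.subsingleton_HH_of_iso k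
        (AmpleLib.tensorIso (Iso.refl _) e₁ ≪≫ c ≪≫ Sigma.mapIso fun _ => d) q
    · haveI := Quadric3.subsingleton_sigma k (n := r) (Quadric3.O2 k a (b + 1)) q h2
      obtain ⟨c⟩ := Quadric3.nonempty_tensE_sigma (Quadric3.O2 k a b) (Quadric3.O2 k 0 1) r
      obtain ⟨d⟩ := Quadric3.nonempty_add k (show a + 0 = a from add_zero a) (show b + 1 = b + 1 from rfl)
      exact SerreDual.subsingleton_HH_of_iso k
        (AmpleLib.tensorIso (Iso.refl _) e₂ ≪≫ c ≪≫ Sigma.mapIso fun _ => d) q
  have hP : ∀ (a b : ℤ) (q : ℕ), Subsingleton (Coh.HH X (Quadric3.O2 k (a + 1) (b + 1)) q) →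
      Subsingleton (Coh.HH X ((Coherent.tensE (Quadric3.O2 k a b)).obj P₂) q) := by
    intro a b q h1
    haveI := Quadric3.subsingleton_sigma k (n := r) (Quadric3.O2 k (a + 1) (b + 1)) q h1
    obtain ⟨c⟩ := Quadric3.nonempty_tensE_sigma (Quadric3.O2 k a b) (Quadric3.O2 k 1 1) r
    obtain ⟨d⟩ := Quadric3.nonempty_add k (show a + 1 = a + 1 from rfl) (show b + 1 = b + 1 from rfl)
    exact SerreDual.subsingleton_HH_of_iso k
      (AmpleLib.tensorIso (Iso.refl _) e₃ ≪≫ c ≪≫ Sigma.mapIso fun _ => d) q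
  have hfin : ∀ (a b : ℤ), Module.Finite k (Coh.HH X (Quadric3.O2 k a b) 0) := fun a b => Quadric3.finite_O2 k a b 0
  refine ⟨?_, ?_, ?_, fun t => ?_⟩
  · haveI := hfin 1 0
    haveI := hfin 0 1
    haveI := hfin 1 1
    let eQ := (Quadric3.biprodEquiv k Q₁ Q₂ 0).trans
      (((SerreDual.hmapIso k e₁ 0).trans (Quadric3.sigmaEquiv k (Quadric3.O2 k 1 0) 0)).prodCongr
        ((SerreDual.hmapIso k e₂ 0).trans (Quadric3.sigmaEquiv k (Quadric3.O2 k 0 1) 0)))
    let eP := (SerreDual.hmapIso k e₃ 0).trans (Quadric3.sigmaEquiv k (Quadric3.O2 k 1 1) 0)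
    haveI : Module.Finite k (Coh.HH X (Q₁ ⊞ Q₂) 0) := Module.Finite.equiv eQ.symm
    haveI : Module.Finite k (Coh.HH X P₂ 0) := Module.Finite.equiv eP.symm
    have hr : Module.finrank k (Coh.HH X (Q₁ ⊞ Q₂) 0) = Module.finrank k (Coh.HH X P₂ 0) := by
      rw [eQ.finrank_eq, eP.finrank_eq, Module.finrank_prod, Module.finrank_pi_fintype, Module.finrank_pi_fintype,
        Module.finrank_pi_fintype]
      simp only [Finset.sum_const, Finset.card_univ, Fintype.card_fin, smul_eq_mul]
      rw [Quadric3.finrank_one_zero, Quadric3.finrank_zero_one, Quadric3.finrank_one_one]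
      ring
    have hinj : Function.Injective (SerreDual.hmap k m 0) :=
      (LinearMap.injective_iff_surjective_of_finrank_eq_finrank hr).2 hsurj
    refine subsingleton_of_forall_eq 0 fun z => ?_
    refine Quadric3.hmap_zero_injective k hS ?_
    rw [map_zero]
    refine hinj ?_
    rw [map_zero]
    exact (SerreDual.exact_hmap k hS 0).apply_apply_eq_zero z
  · refine Quadric3.subsingleton_first k hS 0 hsurj ?_
    haveI h1 := Quadric3.vanish_higher k 1 0 (by norm_num) (by norm_num) 1 le_rfl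
    haveI h2 := Quadric3.vanish_higher k 0 1 (by norm_num) (by norm_num) 1 le_rfl
    haveI := Quadric3.subsingleton_sigma k (n := r) (Quadric3.O2 k 1 0) 1 h1
    haveI := Quadric3.subsingleton_sigma k (n := r) (Quadric3.O2 k 0 1) 1 h2
    exact Quadric3.subsingleton_biprod k Q₁ Q₂ 1 (SerreDual.subsingleton_HH_of_iso k e₁ 1)
      (SerreDual.subsingleton_HH_of_iso k e₂ 1)
  · have hT := Coherent.exact_tensE_map (Quadric3.isFinLocFree_O2 k (-2) (-2)) hS
    suffices h : Subsingleton (Coh.HH X ((S.map (Coherent.tensE (Quadric3.O2 k (-2) (-2)))).X₁) 2) from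
      @Equiv.subsingleton _ _ (SerreDual.hmapIso k (AmpleLib.tensorComm (kernel m) (Quadric3.O2 k (-2) (-2))) 2).toEquiv h
    refine Quadric3.subsingleton_first k hT 1 ?_ ?_
    · haveI : Subsingleton (Coh.HH X ((S.map (Coherent.tensE (Quadric3.O2 k (-2) (-2)))).X₃) 1) :=
        hP (-2) (-2) 1 (Quadric3.vanish_neg_one_left k _ 1)
      exact fun z => ⟨0, Subsingleton.elim _ _⟩
    · exact hV (-2) (-2) 2 (Quadric3.vanish_neg_one_left k _ 2) (Quadric3.vanish_neg_one_right k _ 2)
  · have hT := Coherent.exact_tensE_map (Quadric3.isFinLocFree_O2 k (2 * t) (2 * t)) hS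
    suffices h : Subsingleton (Coh.HH X ((S.map (Coherent.tensE (Quadric3.O2 k (2 * t) (2 * t)))).X₁) 1) from
      @Equiv.subsingleton _ _ (SerreDual.hmapIso k (AmpleLib.tensorComm (kernel m) (Quadric3.O2 k (2 * t) (2 * t))) 1).toEquiv h
    rcases le_or_gt 0 t with ht | ht
    · refine Quadric3.subsingleton_first k hT 0 ?_ (hV _ _ 1 (Quadric3.vanish_higher k _ _ (by omega) (by omega) 1 le_rfl)
        (Quadric3.vanish_higher k _ _ (by omega) (by omega) 1 le_rfl))
      obtain ⟨n, hn⟩ : ∃ n : ℕ, 2 * t = (n : ℤ) := ⟨(2 * t).toNat, by omega⟩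
      have := Quadric3.surjective_twist k m e₃ hsurj n n
      rw [← hn] at this
      exact this
    · refine Quadric3.subsingleton_first k hT 0 ?_ (hV _ _ 1 (Quadric3.vanish_neg_one_deg k _ _ (by omega) (by omega))
        (Quadric3.vanish_neg_one_deg k _ _ (by omega) (by omega)))
      haveI : Subsingleton (Coh.HH X ((S.map (Coherent.tensE (Quadric3.O2 k (2 * t) (2 * t)))).X₃) 0) :=
        hP _ _ 0 (Quadric3.vanish_neg_zero k _ _ (Or.inl (by omega)))
      exact fun z => ⟨0, Subsingleton.elim _ _⟩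

end Groth.Agent.S18627
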