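import Groth.Statements.S18628
import Groth.Agent.Misc15.PointOneTwist
import Groth.Agent.Lef23.LongExact
-- import your own Groth.Agent.* helpers here

set_option autoImplicit false
set_option maxHeartbeats 1000000
set_option backward.isDefEq.respectTransparency.types false
universe u
open VBPn

namespace Groth.Agent.S18628

open CategoryTheory CategoryTheory.Limits AlgebraicGeometry TopologicalSpace in
/-- Let k be an algebraically closed field of characteristic zero, n ≥ 3, Z a set of s ≤ 1 closed points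
of P^n_k and π : X → P^n_k a blow-up of P^n_k in the ideal of the reduced set Z (universal
property), with O_X(e₀) = π^*O(1), exceptional ideal I_E (inverse image ideal of Z) and
anticanonical module H ≅ π^*O(n+1) ⊗ I_E^{⊗(n−1)}. Let f : P → Q be a monomorphism of O_X-modules
with P ≅ O_X(−2e₀)^a and Q ≅ O_X(−e₀)^b, and E = coker f. Then H^i(X, E ⊗ H^{⊗t}) = 0 for every 1 ≤
i ≤ n − 1 and every t ≥ 0. (This is the part of the published statement 'E is arithmetically
Cohen–Macaulay' that concerns non-negative twists; it needs no genericity of f.) -/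
theorem result (k : Type u) [Field k] [IsAlgClosed k] [CharZero k]
    (n : ℕ) (hn : 3 ≤ n) (s : ℕ) (P : Fin s → ↥(CohB1.ProjSpace n k)) (hP : Function.Injective P)
    (hPc : ∀ i, IsClosed ({P i} : Set ↥(CohB1.ProjSpace n k))) (hZ : IsClosed (Set.range P))
    (X : Scheme.{u}) (π : X ⟶ CohB1.ProjSpace n k)
    (hπ : BlowUp.IsBlowUp π (Scheme.IdealSheafData.vanishingIdeal ⟨Set.range P, hZ⟩)) (hs : s ≤ 1)
    (a b : ℕ) (P₁ Q₁ : X.Modules)
    (hP₁ : Nonempty (P₁ ≅ ∐ fun _ : Fin a => (Scheme.Modules.pullback π).obj (Twist.twistProjSpace n k (-2))))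
    (hQ₁ : Nonempty (Q₁ ≅ ∐ fun _ : Fin b => (Scheme.Modules.pullback π).obj (Twist.twistProjSpace n k (-1))))
    (f : P₁ ⟶ Q₁) [Mono f] (Hm : X.Modules)
    (hHm : Nonempty (Hm ≅ CohB1.tensorMod ((Scheme.Modules.pullback π).obj (Twist.twistProjSpace n k ((n : ℤ) + 1)))
      (CohB1.tensorPow (ClSub.idealMod (BlowUp.exceptional π (Scheme.IdealSheafData.vanishingIdeal ⟨Set.range P, hZ⟩))) (n - 1))))
    (i t : ℕ) (hi : 1 ≤ i) (hin : i + 1 ≤ n) :
    Subsingleton (Coh.HH X (CohB1.tensorMod (cokernel f) (CohB1.tensorPow Hm t)) i) := by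
  obtain ⟨eP⟩ := hP₁
  obtain ⟨eQ⟩ := hQ₁
  have hH : PicF.IsInvertible (CohB1.tensorPow Hm t) := by
    obtain ⟨eH⟩ := hHm
    exact Groth.Agent.AmpleLib.isInvertible_tensorPow (KLLib.isInvertible_of_iso eH.symm (Groth.Agent.AmpleLib.isInvertible_tensorMod
      (PicLoc.isInvertible_pullback π (Misc15.PointPn.isInvertible_twistPn n k _))
      (Groth.Agent.AmpleLib.isInvertible_tensorPow (FlatMor12.IdealModGen.isInvertible_idealMod _ hπ.1) _))) t
  have hS : (ShortComplex.mk f (cokernel.π f) (cokernel.condition f)).ShortExact :=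
    { exact := ShortComplex.exact_of_g_is_cokernel _ (cokernelIsCokernel f), mono_f := ‹Mono f›, epi_g := inferInstance }
  have hT := EulerLib.twistSeq_shortExact hH hS
  refine Lef23.subsingleton_right hT i ?_ ?_
  · refine CurveRR24.subsingleton_HH_congr (AmpleLib.tensorIso eQ.symm (Iso.refl _)) i
      (Misc15.PointOne.subsingleton_HH_sigma_tensor _ _ b i
        (Misc15.PointOne.subsingleton_HH_anticanonical n k (by omega) hs P hPc hZ π hπ hHm (-1) t i hi ?_ (by omega)))
    intro _
    rcases Nat.eq_zero_or_pos t with rfl | ht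
    · exact Or.inl (Nat.mul_zero _)
    · refine Or.inr ?_
      have : ((n - 1 : ℕ) : ℤ) = (n : ℤ) - 1 := by omega
      push_cast [this]
      nlinarith
  · refine CurveRR24.subsingleton_HH_congr (AmpleLib.tensorIso eP.symm (Iso.refl _)) (i + 1)
      (Misc15.PointOne.subsingleton_HH_sigma_tensor _ _ a (i + 1)
        (Misc15.PointOne.subsingleton_HH_anticanonical n k (by omega) hs P hPc hZ π hπ hHm (-2) t (i + 1)
          (by omega) (fun h => absurd h (by omega)) ?_))
    rintro ⟨-, h⟩
    have : (0 : ℤ) ≤ ((n : ℤ) + 1) * t := by positivity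
    omega

end Groth.Agent.S18628
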