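import Groth.Statements.S18629
import Groth.Agent.Quadric3.Kernel
-- import your own Groth.Agent.* helpers here

set_option autoImplicit false
universe u
open VBPn

set_option backward.isDefEq.respectTransparency false
set_option linter.style.haveILetI false
set_option maxHeartbeats 1000000

namespace Groth.Agent.S18629

open CategoryTheory CategoryTheory.Limits AlgebraicGeometry TopologicalSpace
open Groth.Agent.Quadric3 Groth.Agent.AmpleLib Groth.Agent.SerreDual Groth.Agent.Coherent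

variable (k : Type u) [Field k]

attribute [local instance] overQ2

theorem hmap_square {X : Scheme.{u}} [X.Over (Spec (CommRingCat.of k))] {A B C D : X.Modules} {f : A ⟶ B} {g : B ⟶ C}
    {f' : A ⟶ D} {g' : D ⟶ C} (h : f ≫ g = f' ≫ g') (x : Coh.HH X A 0) :
    hmap k g 0 (hmap k f 0 x) = hmap k g' 0 (hmap k f' 0 x) := by
  rw [← LinearMap.comp_apply, ← hmap_comp, h, hmap_comp]
  rfl

/-- Two sections of `O(1)` on the line: jointly epimorphic and spanning after pulling back and twisting. -/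
theorem exists_sections : ∃ s : Fin 2 → (Twist.twistProjSpace 1 k 0 ⟶ Twist.twistProjSpace 1 k 1),
    ∀ (π : Q2 k ⟶ P1 k) (G : (Q2 k).Modules), FlatMod.IsFinLocFree G →
      Subsingleton (Coh.HH (Q2 k)
        (CohB1.tensorMod G ((Scheme.Modules.pullback π).obj (Twist.twistProjSpace 1 k (-1)))) 1) →
      (∀ (Z : (Q2 k).Modules) (h : (tensE G).obj ((Scheme.Modules.pullback π).obj (Twist.twistProjSpace 1 k 1)) ⟶ Z),
          (∀ a, (tensE G).map ((Scheme.Modules.pullback π).map (s a)) ≫ h = 0) → h = 0) ∧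
        ∀ z : Coh.HH (Q2 k) ((tensE G).obj ((Scheme.Modules.pullback π).obj (Twist.twistProjSpace 1 k 1))) 0,
          ∃ u : Fin 2 → Coh.HH (Q2 k)
              ((tensE G).obj ((Scheme.Modules.pullback π).obj (Twist.twistProjSpace 1 k 0))) 0,
            z = ∑ a, hmap k ((tensE G).map ((Scheme.Modules.pullback π).map (s a))) 0 (u a) := by
  obtain ⟨f, g, w, hS⟩ := EulerPn5.exists_euler_seq 1 k
  obtain ⟨ω⟩ := Groth.Agent.PnCanon5.nonempty_topDiff_twist (k := k) (n := 1)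
    (Groth.Agent.KvbLam28.isExtPow_one (Omega.sheaf (CohB1.ProjSpace.toSpec 1 k)))
  obtain ⟨e⟩ := EulerPn5.nonempty_mpow_fin (Twist.twistProjSpace 1 k (-1)) 2
  obtain ⟨t₁⟩ := EulerPn5.nonempty_tt (n := 1) (A := k) (show (1 : ℤ) + -2 = -1 by norm_num)
  obtain ⟨t₂⟩ := EulerPn5.nonempty_tt (n := 1) (A := k) (show (1 : ℤ) + -1 = 0 by norm_num)
  obtain ⟨c⟩ := nonempty_tensE_sigma (Twist.twistProjSpace 1 k 1) (Twist.twistProjSpace 1 k (-1)) 2
  have hN : PicF.IsInvertible (Twist.twistProjSpace 1 k 1) := Coherent.isInvertible_twistProjSpaceZ 1 1 k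
  let S₀ := (ShortComplex.mk f g w).map (tensE (Twist.twistProjSpace 1 k 1))
  have hS₀ : S₀.ShortExact := exact_tensE_map (SerreDual.isFinLocFree_of_invertible hN) hS
  have h₁ : S₀.X₁ ≅ Twist.twistProjSpace 1 k (-1) := AmpleLib.tensorIso (Iso.refl _) ω ≪≫ t₁
  let e₂ : S₀.X₂ ≅ ∐ fun _ : Fin 2 => Twist.twistProjSpace 1 k 0 :=
    AmpleLib.tensorIso (Iso.refl _) e ≪≫ c ≪≫ Sigma.mapIso fun _ => t₂
  let e₃ : S₀.X₃ ≅ Twist.twistProjSpace 1 k 1 := AmpleLib.tensorComm _ _ ≪≫ unitTensorIso _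
  refine ⟨fun a => Sigma.ι (fun _ : Fin 2 => Twist.twistProjSpace 1 k 0) a ≫ e₂.inv ≫ S₀.g ≫ e₃.hom,
    fun π G hG hv => ?_⟩
  let F := Scheme.Modules.pullback π ⋙ tensE G
  haveI : (Scheme.Modules.pullback π).Additive := inferInstance
  haveI : F.Additive := inferInstance
  have hT := exact_tensE_map hG (KPull28.shortExact_pullback π hS₀
    (SerreDual.isFinLocFree_of_invertible (AmpleLib.glocus_isInvertible_of_iso e₃.symm hN)))
  let ι := Sigma.ι (fun _ : Fin 2 => Twist.twistProjSpace 1 k 0)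
  let P := Sigma.π (fun _ : Fin 2 => Twist.twistProjSpace 1 k 0)
  have key : F.map S₀.g ≫ F.map e₃.hom =
      ∑ a, F.map (e₂.hom ≫ P a) ≫ F.map (ι a ≫ e₂.inv ≫ S₀.g ≫ e₃.hom) := by
    simp only [← Functor.map_comp]
    rw [← Functor.map_sum]
    refine congrArg F.map ?_
    calc S₀.g ≫ e₃.hom = e₂.hom ≫ (∑ a, P a ≫ ι a) ≫ e₂.inv ≫ S₀.g ≫ e₃.hom := by
          rw [sum_π_ι, Category.id_comp, Iso.hom_inv_id_assoc]
      _ = _ := by simp only [Preadditive.sum_comp, Preadditive.comp_sum, Category.assoc]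
  refine ⟨fun Z h hh => ?_, fun z => ?_⟩
  · haveI : Epi (F.map S₀.g) := hT.epi_g
    rw [← cancel_epi (F.map e₃.hom), ← cancel_epi (F.map S₀.g), comp_zero, comp_zero, reassoc_of% key,
      Preadditive.sum_comp]
    exact Finset.sum_eq_zero fun a _ => by rw [Category.assoc]; exact (congrArg (_ ≫ ·) (hh a)).trans comp_zero
  · have hsub : Subsingleton (Coh.HH (Q2 k) ((S₀.map (Scheme.Modules.pullback π)).map (tensE G)).X₁ (0 + 1)) :=
      subsingleton_HH_of_iso k (AmpleLib.tensorIso (Iso.refl G) ((Scheme.Modules.pullback π).mapIso h₁)) 1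
    obtain ⟨w, hw⟩ := hmap_surjective_of_shortExact k hT 0 hsub (hmap k (F.map e₃.inv) 0 z)
    refine ⟨fun a => hmap k (F.map (e₂.hom ≫ P a)) 0 w, ?_⟩
    have h2 := LinearMap.congr_fun (congrArg (fun φ => hmap k φ 0) key) w
    rw [hmap_comp, LinearMap.comp_apply, hmap_sum, LinearMap.sum_apply] at h2
    refine Eq.trans ?_ (h2.trans (Finset.sum_congr rfl fun a _ => by rw [hmap_comp]; rfl))
    refine ((congrArg (hmap k (F.map e₃.hom) 0) hw).trans ?_).symm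
    exact hmap_hom_inv k (F.mapIso e₃) 0 z

/-- The sections as multiplication maps between the line bundles. -/
theorem exists_mult : ∃ (x0 : Fin 2 → (O2 k 0 0 ⟶ O2 k 1 0)) (x1 : Fin 2 → (O2 k 0 1 ⟶ O2 k 1 1))
    (y0 : Fin 2 → (O2 k 0 0 ⟶ O2 k 0 1)) (y1 : Fin 2 → (O2 k 1 0 ⟶ O2 k 1 1)),
    (∀ a b, x0 a ≫ y1 b = y0 b ≫ x1 a) ∧
    (∀ (Z : (Q2 k).Modules) (h : O2 k 1 1 ⟶ Z), (∀ a, x1 a ≫ h = 0) → h = 0) ∧
    (∀ (Z : (Q2 k).Modules) (h : O2 k 1 1 ⟶ Z), (∀ a, y1 a ≫ h = 0) → h = 0) ∧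
    (∀ (Z : (Q2 k).Modules) (h : O2 k 0 1 ⟶ Z), (∀ a, y0 a ≫ h = 0) → h = 0) ∧
    (∀ z : Coh.HH (Q2 k) (O2 k 1 0) 0, ∃ u : Fin 2 → Coh.HH (Q2 k) (O2 k 0 0) 0, z = ∑ a, hmap k (x0 a) 0 (u a)) ∧
    (∀ z : Coh.HH (Q2 k) (O2 k 1 1) 0, ∃ u : Fin 2 → Coh.HH (Q2 k) (O2 k 0 1) 0, z = ∑ a, hmap k (x1 a) 0 (u a)) ∧
    (∀ z : Coh.HH (Q2 k) (O2 k 1 1) 0, ∃ u : Fin 2 → Coh.HH (Q2 k) (O2 k 1 0) 0, z = ∑ a, hmap k (y1 a) 0 (u a)) := by
  obtain ⟨s, hs⟩ := exists_sections k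
  let p₁ := pullback.fst (CohB1.ProjSpace.toSpec 1 k) (CohB1.ProjSpace.toSpec 1 k)
  let p₂ := pullback.snd (CohB1.ProjSpace.toSpec 1 k) (CohB1.ProjSpace.toSpec 1 k)
  let A := fun c : ℤ => (Scheme.Modules.pullback p₁).obj (Twist.twistProjSpace 1 k c)
  let B := fun c : ℤ => (Scheme.Modules.pullback p₂).obj (Twist.twistProjSpace 1 k c)
  have hlf : ∀ (π : Q2 k ⟶ P1 k) (c : ℤ), FlatMod.IsFinLocFree ((Scheme.Modules.pullback π).obj
      (Twist.twistProjSpace 1 k c)) := fun π c => SerreDual.isFinLocFree_of_invertible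
    (PicLoc.isInvertible_pullback π (Coherent.isInvertible_twistProjSpaceZ 1 c k))
  have hy := fun c => hs p₂ (A c) (hlf p₁ c) (vanish_neg_one_right k c 1)
  have hx := fun c => hs p₁ (B c) (hlf p₂ c)
    (haveI := vanish_neg_one_left k c 1; subsingleton_HH_of_iso k (AmpleLib.tensorComm (B c) (A (-1))) 1)
  let X := fun (c : ℤ) a => ((DCoh.tensorBi (X := Q2 k)).map ((Scheme.Modules.pullback p₁).map (s a))).app (B c)
  have hXe : ∀ (c : ℤ) (Z : (Q2 k).Modules) (h : O2 k 1 c ⟶ Z), (∀ a, X c a ≫ h = 0) → h = 0 := by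
    intro c Z h hh
    refine (cancel_epi (AmpleLib.tensorComm (A 1) (B c)).inv).1 ?_
    rw [comp_zero]
    refine (hx c).1 Z _ fun a => ?_
    have hn := comm_natural ((Scheme.Modules.pullback p₁).map (s a)) (B c)
    rw [← cancel_epi (AmpleLib.tensorComm (A 0) (B c)).hom, comp_zero, ← reassoc_of% hn, Iso.hom_inv_id_assoc]
    exact hh a
  have hXs : ∀ (c : ℤ) (z : Coh.HH (Q2 k) (O2 k 1 c) 0), ∃ u : Fin 2 → Coh.HH (Q2 k) (O2 k 0 c) 0, z = ∑ a, hmap k (X c a) 0 (u a) := by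
    intro c z
    obtain ⟨u, hu⟩ := (hx c).2 (hmap k (AmpleLib.tensorComm (A 1) (B c)).hom 0 z)
    refine ⟨fun a => hmap k (AmpleLib.tensorComm (A 0) (B c)).inv 0 (u a), ?_⟩
    have h1 := congrArg (hmap k (AmpleLib.tensorComm (A 1) (B c)).inv 0) hu
    refine ((hmap_inv_hom k _ 0 z).symm.trans h1).trans ((map_sum _ _ _).trans (Finset.sum_congr rfl fun a _ => ?_))
    have hn := comm_natural ((Scheme.Modules.pullback p₁).map (s a)) (B c)
    refine hmap_square k ?_ (u a)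
    rw [← cancel_epi (AmpleLib.tensorComm (A 0) (B c)).hom, ← reassoc_of% hn, Iso.hom_inv_id_assoc]
    simp only [A, X, Iso.hom_inv_id, Category.comp_id]
  exact ⟨X 0, X 1, fun b => (tensE (A 0)).map ((Scheme.Modules.pullback p₂).map (s b)),
    fun b => (tensE (A 1)).map ((Scheme.Modules.pullback p₂).map (s b)),
    fun a b => (((DCoh.tensorBi (X := Q2 k)).map ((Scheme.Modules.pullback p₁).map (s a))).naturality _).symm,
    hXe 1, (hy 1).1, (hy 0).1, hXs 0, hXs 1, (hy 1).2⟩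

/-- Existence of a good pair of matrices in rank `r`. -/
def Good (r : ℕ) : Prop :=
  ∃ (f : (∐ fun _ : Fin r => O2 k 1 0) ⟶ (∐ fun _ : Fin r => O2 k 1 1))
    (g : (∐ fun _ : Fin r => O2 k 0 1) ⟶ (∐ fun _ : Fin r => O2 k 1 1)),
    (∀ (Z : (Q2 k).Modules) (h : (∐ fun _ : Fin r => O2 k 1 1) ⟶ Z), f ≫ h = 0 → g ≫ h = 0 → h = 0) ∧
      LinearMap.range (hmap k f 0) ⊔ LinearMap.range (hmap k g 0) = ⊤

theorem eq_top_of_components {r : ℕ} {M : (Q2 k).Modules}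
    (R : Submodule k (Coh.HH (Q2 k) (∐ fun _ : Fin r => M) 0))
    (h : ∀ j v, hmap k (Sigma.ι (fun _ : Fin r => M) j) 0 v ∈ R) : R = ⊤ := by
  refine eq_top_iff.2 fun z _ => ?_
  have h1 := LinearMap.congr_fun (congrArg (fun f => hmap k f 0) (sum_π_ι (n := r) M)) z
  rw [hmap_id, LinearMap.id_apply, hmap_sum, LinearMap.sum_apply] at h1
  rw [← h1]
  exact sum_mem fun j _ => by rw [hmap_comp]; exact h j _

theorem good_two : Good k 2 := by
  obtain ⟨x0, x1, y0, y1, hc, hx, hy, -, -, hxs, hys⟩ := exists_mult k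
  let ι := Sigma.ι (fun _ : Fin 2 => O2 k 1 1)
  refine ⟨Sigma.desc fun a => y1 a ≫ ι 0, Sigma.desc fun a => x1 a ≫ ι 1, fun Z h hf hg => ?_,
    eq_top_of_components k _ fun j v => ?_⟩
  · refine Sigma.hom_ext _ _ fun j => ?_
    rw [comp_zero]
    fin_cases j
    · refine hy _ _ fun a => ?_
      simpa using Sigma.ι (fun _ : Fin 2 => O2 k 1 0) a ≫= hf
    · refine hx _ _ fun a => ?_
      simpa using Sigma.ι (fun _ : Fin 2 => O2 k 0 1) a ≫= hg
  · fin_cases j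
    · obtain ⟨u, rfl⟩ := hys v
      rw [map_sum]
      refine sum_mem fun a _ => Submodule.mem_sup_left ⟨hmap k (Sigma.ι (fun _ : Fin 2 => O2 k 1 0) a) 0 (u a), ?_⟩
      rw [← LinearMap.comp_apply, ← hmap_comp, Sigma.ι_desc, hmap_comp]
      rfl
    · obtain ⟨u, rfl⟩ := hxs v
      rw [map_sum]
      refine sum_mem fun a _ => Submodule.mem_sup_right ⟨hmap k (Sigma.ι (fun _ : Fin 2 => O2 k 0 1) a) 0 (u a), ?_⟩
      rw [← LinearMap.comp_apply, ← hmap_comp, Sigma.ι_desc, hmap_comp]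
      rfl

theorem good_three : Good k 3 := by
  obtain ⟨x0, x1, y0, y1, hc, hx, hy, hy0, hx0s, hxs, hys⟩ := exists_mult k
  let ι := Sigma.ι (fun _ : Fin 3 => O2 k 1 1)
  let f : (∐ fun _ : Fin 3 => O2 k 1 0) ⟶ (∐ fun _ : Fin 3 => O2 k 1 1) :=
    Sigma.desc ![y1 0 ≫ ι 1, y1 1 ≫ ι 2, y1 1 ≫ ι 1 + y1 0 ≫ ι 2]
  let g : (∐ fun _ : Fin 3 => O2 k 0 1) ⟶ (∐ fun _ : Fin 3 => O2 k 1 1) :=
    Sigma.desc ![x1 0 ≫ ι 0, x1 1 ≫ ι 0, x1 0 ≫ ι 1 + x1 1 ≫ ι 2]
  refine ⟨f, g, fun Z h hf hg => ?_, ?_⟩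
  · have f0 : y1 0 ≫ ι 1 ≫ h = 0 := by simpa [f] using Sigma.ι (fun _ : Fin 3 => O2 k 1 0) 0 ≫= hf
    have f1 : y1 1 ≫ ι 2 ≫ h = 0 := by simpa [f] using Sigma.ι (fun _ : Fin 3 => O2 k 1 0) 1 ≫= hf
    have f2 : y1 1 ≫ ι 1 ≫ h + y1 0 ≫ ι 2 ≫ h = 0 := by
      simpa [f] using Sigma.ι (fun _ : Fin 3 => O2 k 1 0) 2 ≫= hf
    have g0 : x1 0 ≫ ι 0 ≫ h = 0 := by simpa [g] using Sigma.ι (fun _ : Fin 3 => O2 k 0 1) 0 ≫= hg
    have g1 : x1 1 ≫ ι 0 ≫ h = 0 := by simpa [g] using Sigma.ι (fun _ : Fin 3 => O2 k 0 1) 1 ≫= hg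
    have g2 : x1 0 ≫ ι 1 ≫ h + x1 1 ≫ ι 2 ≫ h = 0 := by
      simpa [g] using Sigma.ι (fun _ : Fin 3 => O2 k 0 1) 2 ≫= hg
    have a1 : x1 0 ≫ ι 1 ≫ h = 0 := hy0 _ _ <| Fin.forall_fin_two.2
      ⟨by rw [← reassoc_of% hc 0 0, f0, comp_zero],
       by rw [eq_neg_of_add_eq_zero_left g2, Preadditive.comp_neg, ← reassoc_of% hc 1 1, f1, comp_zero, neg_zero]⟩
    have a2 : x1 1 ≫ ι 2 ≫ h = 0 := by rwa [a1, zero_add] at g2
    have a3 : x1 1 ≫ ι 1 ≫ h = 0 := hy0 _ _ <| Fin.forall_fin_two.2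
      ⟨by rw [← reassoc_of% hc 1 0, f0, comp_zero],
       by rw [← reassoc_of% hc 1 1, eq_neg_of_add_eq_zero_left f2, Preadditive.comp_neg, reassoc_of% hc 1 0, a2,
          comp_zero, neg_zero]⟩
    have h1 : ι 1 ≫ h = 0 := hx _ _ (Fin.forall_fin_two.2 ⟨a1, a3⟩)
    rw [h1, comp_zero, zero_add] at f2
    have h2 : ι 2 ≫ h = 0 := hy _ _ (Fin.forall_fin_two.2 ⟨f2, f1⟩)
    have h0 : ι 0 ≫ h = 0 := hx _ _ (Fin.forall_fin_two.2 ⟨g0, g1⟩)
    refine Sigma.hom_ext _ _ fun j => ?_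
    rw [comp_zero]
    fin_cases j <;> assumption
  · let R := LinearMap.range (hmap k f 0) ⊔ LinearMap.range (hmap k g 0)
    let P := fun {M : (Q2 k).Modules} (φ : M ⟶ ∐ fun _ : Fin 3 => O2 k 1 1) => ∀ u, hmap k φ 0 u ∈ R
    have hPf : ∀ {M : (Q2 k).Modules} (ψ : M ⟶ O2 k 1 0) (i : Fin 3),
        P (ψ ≫ Sigma.ι (fun _ : Fin 3 => O2 k 1 0) i ≫ f) := fun ψ i u =>
      Submodule.mem_sup_left ⟨hmap k (ψ ≫ Sigma.ι (fun _ : Fin 3 => O2 k 1 0) i) 0 u, by
        rw [← LinearMap.comp_apply, ← hmap_comp, Category.assoc]⟩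
    have hPg : ∀ {M : (Q2 k).Modules} (ψ : M ⟶ O2 k 0 1) (i : Fin 3),
        P (ψ ≫ Sigma.ι (fun _ : Fin 3 => O2 k 0 1) i ≫ g) := fun ψ i u =>
      Submodule.mem_sup_right ⟨hmap k (ψ ≫ Sigma.ι (fun _ : Fin 3 => O2 k 0 1) i) 0 u, by
        rw [← LinearMap.comp_apply, ← hmap_comp, Category.assoc]⟩
    have hsub : ∀ {M : (Q2 k).Modules} (φ ψ : M ⟶ ∐ fun _ : Fin 3 => O2 k 1 1), P (φ + ψ) → P φ → P ψ :=
      fun φ ψ h1 h2 u => by
        have := sub_mem (h1 u) (h2 u)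
        rwa [hmap_add, LinearMap.add_apply, add_sub_cancel_left] at this
    let M := fun (j : Fin 3) (a b : Fin 2) => x0 a ≫ y1 b ≫ ι j
    have e1 : ∀ a, P (M 1 a 0) := fun a => by simpa [M, f] using hPf (x0 a) 0
    have e2 : ∀ a, P (M 2 a 1) := fun a => by simpa [M, f] using hPf (x0 a) 1
    have e3 : ∀ a, P (M 1 a 1 + M 2 a 0) := fun a => by simpa [M, f] using hPf (x0 a) 2
    have e4 : ∀ b, P (M 1 0 b + M 2 1 b) := fun b => by
      have := hPg (y0 b) 2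
      simpa [M, g, reassoc_of% hc] using this
    have m210 : P (M 2 1 0) := hsub _ _ (e4 0) (e1 0)
    have m111 : P (M 1 1 1) := hsub _ _ (by rw [add_comm]; exact e3 1) m210
    have m101 : P (M 1 0 1) := hsub _ _ (by rw [add_comm]; exact e4 1) (e2 1)
    have m200 : P (M 2 0 0) := hsub _ _ (e3 0) m101
    have all1 : ∀ a b, P (M 1 a b) := Fin.forall_fin_two.2
      ⟨Fin.forall_fin_two.2 ⟨e1 0, m101⟩, Fin.forall_fin_two.2 ⟨e1 1, m111⟩⟩
    have all2 : ∀ a b, P (M 2 a b) := Fin.forall_fin_two.2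
      ⟨Fin.forall_fin_two.2 ⟨m200, e2 0⟩, Fin.forall_fin_two.2 ⟨m210, e2 1⟩⟩
    have hj : ∀ j, (∀ a b, P (M j a b)) → ∀ v, hmap k (ι j) 0 v ∈ R := by
      intro j hjM v
      obtain ⟨u, rfl⟩ := hys v
      rw [map_sum]
      refine sum_mem fun b _ => ?_
      obtain ⟨w, hw⟩ := hx0s (u b)
      rw [hw, map_sum, map_sum]
      refine sum_mem fun a _ => ?_
      have := hjM a b (w a)
      simpa only [M, hmap_comp, LinearMap.comp_apply] using this
    refine eq_top_of_components k R fun j v => ?_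
    fin_cases j
    · obtain ⟨u, rfl⟩ := hxs v
      rw [map_sum]
      refine sum_mem fun a _ => ?_
      have := hPg (𝟙 _) ((![0, 1] : Fin 2 → Fin 3) a) (u a)
      rw [← LinearMap.comp_apply, ← hmap_comp]
      fin_cases a <;> simpa [g] using this
    · exact hj 1 all1 v
    · exact hj 2 all2 v

theorem good_add {a b : ℕ} (ha : Good k a) (hb : Good k b) : Good k (a + b) := by
  obtain ⟨f₁, g₁, he₁, hr₁⟩ := ha
  obtain ⟨f₂, g₂, he₂, hr₂⟩ := hb
  let L := fun M : (Q2 k).Modules => (Sigma.desc fun i => Sigma.ι (fun _ : Fin (a + b) => M) (Fin.castAdd b i) :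
    (∐ fun _ : Fin a => M) ⟶ ∐ fun _ : Fin (a + b) => M)
  let R := fun M : (Q2 k).Modules => (Sigma.desc fun i => Sigma.ι (fun _ : Fin (a + b) => M) (Fin.natAdd a i) :
    (∐ fun _ : Fin b => M) ⟶ ∐ fun _ : Fin (a + b) => M)
  let D := fun (M : (Q2 k).Modules) (φ : (∐ fun _ : Fin a => M) ⟶ ∐ fun _ : Fin a => O2 k 1 1)
      (ψ : (∐ fun _ : Fin b => M) ⟶ ∐ fun _ : Fin b => O2 k 1 1) =>
    (Sigma.desc (Fin.addCases (fun i => Sigma.ι (fun _ : Fin a => M) i ≫ φ ≫ L (O2 k 1 1))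
      fun i => Sigma.ι (fun _ : Fin b => M) i ≫ ψ ≫ R (O2 k 1 1)) :
        (∐ fun _ : Fin (a + b) => M) ⟶ ∐ fun _ : Fin (a + b) => O2 k 1 1)
  have hL : ∀ M φ ψ, L M ≫ D M φ ψ = φ ≫ L (O2 k 1 1) := fun M φ ψ =>
    Sigma.hom_ext _ _ fun i => by simp [L, D]
  have hR : ∀ M φ ψ, R M ≫ D M φ ψ = ψ ≫ R (O2 k 1 1) := fun M φ ψ =>
    Sigma.hom_ext _ _ fun i => by simp [R, D]
  refine ⟨D _ f₁ f₂, D _ g₁ g₂, fun Z h hf hg => ?_, ?_⟩
  · have h1 : L (O2 k 1 1) ≫ h = 0 := he₁ _ _ (by rw [← reassoc_of% hL _ f₁ f₂, hf, comp_zero])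
      (by rw [← reassoc_of% hL _ g₁ g₂, hg, comp_zero])
    have h2 : R (O2 k 1 1) ≫ h = 0 := he₂ _ _ (by rw [← reassoc_of% hR _ f₁ f₂, hf, comp_zero])
      (by rw [← reassoc_of% hR _ g₁ g₂, hg, comp_zero])
    refine Sigma.hom_ext _ _ fun j => ?_
    rw [comp_zero]
    induction j using Fin.addCases with
    | left i => simpa [L] using Sigma.ι (fun _ : Fin a => O2 k 1 1) i ≫= h1
    | right i => simpa [R] using Sigma.ι (fun _ : Fin b => O2 k 1 1) i ≫= h2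
  · refine eq_top_of_components k _ fun j v => ?_
    induction j using Fin.addCases with
    | left i =>
      have hm : hmap k (Sigma.ι (fun _ : Fin a => O2 k 1 1) i) 0 v ∈ (⊤ : Submodule k _) := trivial
      rw [← hr₁, Submodule.mem_sup] at hm
      obtain ⟨_, ⟨p, rfl⟩, _, ⟨q, rfl⟩, hpq⟩ := hm
      have h0 := congrArg (hmap k (L (O2 k 1 1)) 0) hpq
      rw [map_add, ← LinearMap.comp_apply, ← LinearMap.comp_apply, ← LinearMap.comp_apply, ← hmap_comp,
        ← hmap_comp, ← hmap_comp, ← hL _ f₁ f₂, ← hL _ g₁ g₂, Sigma.ι_desc, hmap_comp, hmap_comp] at h0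
      rw [← h0]
      exact Submodule.add_mem_sup ⟨_, rfl⟩ ⟨_, rfl⟩
    | right i =>
      have hm : hmap k (Sigma.ι (fun _ : Fin b => O2 k 1 1) i) 0 v ∈ (⊤ : Submodule k _) := trivial
      rw [← hr₂, Submodule.mem_sup] at hm
      obtain ⟨_, ⟨p, rfl⟩, _, ⟨q, rfl⟩, hpq⟩ := hm
      have h0 := congrArg (hmap k (R (O2 k 1 1)) 0) hpq
      rw [map_add, ← LinearMap.comp_apply, ← LinearMap.comp_apply, ← LinearMap.comp_apply, ← hmap_comp,
        ← hmap_comp, ← hmap_comp, ← hR _ f₁ f₂, ← hR _ g₁ g₂, Sigma.ι_desc, hmap_comp, hmap_comp] at h0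
      rw [← h0]
      exact Submodule.add_mem_sup ⟨_, rfl⟩ ⟨_, rfl⟩

theorem good (r : ℕ) (hr : 2 ≤ r) : Good k r := by
  induction r using Nat.strong_induction_on with
  | _ r ih =>
    rcases (by omega : r = 2 ∨ r = 3 ∨ 4 ≤ r) with rfl | rfl | h
    · exact good_two k
    · exact good_three k
    · obtain ⟨s, rfl⟩ := Nat.exists_eq_add_of_le (show 2 ≤ r by omega)
      exact good_add k (good_two k) (ih s (by omega) (by omega))

end Groth.Agent.S18629

namespace Groth.Agent.S18629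

open CategoryTheory CategoryTheory.Limits AlgebraicGeometry TopologicalSpace in
/-- Let k be an algebraically closed field of characteristic zero and X = P¹_k ×_k P¹_k the smooth
quadric surface, O(a, b) = pr₁^*O(a) ⊗ pr₂^*O(b). For every r ≥ 2 there is an epimorphism of
O_X-modules m : O(1,0)^r ⊕ O(0,1)^r → O(1,1)^r (an r × 2r matrix of linear forms) whose induced map
on global sections is surjective. (The published statement says moreover that such m form a dense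
open subset of the space of all matrices; only the existence is stated here. The published proof
exhibits explicit block matrices; its 3 × 6 block for r = 3 as published is surjective at every
point but not on global sections, while a 3 × 6 block of the same shape with both properties exists,
so the block-sum construction from the 2 × 4 and 3 × 6 blocks covers every r ≥ 2.) -/
theorem result (k : Type u) [Field k] [IsAlgClosed k] [CharZero k]
    (r : ℕ) (hr : 2 ≤ r) :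
    ∃ m : (∐ fun _ : Fin r => CohB1.tensorMod
        ((Scheme.Modules.pullback (pullback.fst (CohB1.ProjSpace.toSpec 1 k) (CohB1.ProjSpace.toSpec 1 k))).obj
          (Twist.twistProjSpace 1 k (1)))
        ((Scheme.Modules.pullback (pullback.snd (CohB1.ProjSpace.toSpec 1 k) (CohB1.ProjSpace.toSpec 1 k))).obj
          (Twist.twistProjSpace 1 k (0)))) ⊞ (∐ fun _ : Fin r => CohB1.tensorMod
        ((Scheme.Modules.pullback (pullback.fst (CohB1.ProjSpace.toSpec 1 k) (CohB1.ProjSpace.toSpec 1 k))).obj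
          (Twist.twistProjSpace 1 k (0)))
        ((Scheme.Modules.pullback (pullback.snd (CohB1.ProjSpace.toSpec 1 k) (CohB1.ProjSpace.toSpec 1 k))).obj
          (Twist.twistProjSpace 1 k (1)))) ⟶ (∐ fun _ : Fin r => CohB1.tensorMod
        ((Scheme.Modules.pullback (pullback.fst (CohB1.ProjSpace.toSpec 1 k) (CohB1.ProjSpace.toSpec 1 k))).obj
          (Twist.twistProjSpace 1 k (1)))
        ((Scheme.Modules.pullback (pullback.snd (CohB1.ProjSpace.toSpec 1 k) (CohB1.ProjSpace.toSpec 1 k))).obj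
          (Twist.twistProjSpace 1 k (1)))),
      Epi m ∧ Function.Surjective (Sheaf.H.map ((SheafOfModules.toSheaf _).map m) 0) := by
  classical
  letI := Groth.Agent.Quadric3.overQ2 k
  obtain ⟨f, g, he, hr'⟩ := Groth.Agent.S18629.good k r hr
  refine ⟨biprod.desc f g, Preadditive.epi_of_cancel_zero _ fun h hh => he _ h ?_ ?_, fun z => ?_⟩
  · simpa using biprod.inl ≫= hh
  · simpa using biprod.inr ≫= hh
  · have hm : z ∈ (⊤ : Submodule k _) := trivial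
    rw [← hr', Submodule.mem_sup] at hm
    obtain ⟨_, ⟨p, rfl⟩, _, ⟨q, rfl⟩, hpq⟩ := hm
    refine ⟨SerreDual.hmap k biprod.inl 0 p + SerreDual.hmap k biprod.inr 0 q, ?_⟩
    refine (SerreDual.hmap_eq k (biprod.desc f g) 0 _).symm.trans ?_
    rw [map_add, ← LinearMap.comp_apply, ← LinearMap.comp_apply, ← SerreDual.hmap_comp, ← SerreDual.hmap_comp,
      biprod.inl_desc, biprod.inr_desc]
    exact hpq

end Groth.Agent.S18629
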