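import Groth.Statements.S18633
import Groth.Agent.DelPezzo14.InvAmple
import Groth.Agent.SurfBl13.AmpleBl
import Groth.Agent.H0Growth23.Basic
import Groth.Agent.ResProp8.AltBase
-- import your own Groth.Agent.* helpers here

set_option autoImplicit false
set_option linter.style.haveILetI false
set_option backward.isDefEq.respectTransparency.types false
set_option maxHeartbeats 2000000
universe u
open CategoryTheory CategoryTheory.Limits AlgebraicGeometry TopologicalSpace
open Surf

namespace Groth.Agent.S18633

open AlgebraicGeometry CategoryTheory CategoryTheory.Limits TopologicalSpace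
open Groth.Agent.Coherent Groth.Agent.PicLib Groth.Agent.AmpleLib Groth.Agent.EulerLib Groth.Agent.CurveRR24

/-- Let k be an algebraically closed field of characteristic zero and X a strong del Pezzo surface over
k: an integral scheme, proper and smooth over k of dimension 2, with canonical module W (a second
exterior power of Ω_{X/k}) and a tensor inverse D of W which is very ample relative to k — there is
a closed immersion ι : X → P^N_k over k with ι^*O(1) ≅ D. Assume H¹(X, O_X) = 0. Then H¹(X, D^{⊗m})
= 0 and H¹(X, W^{⊗m}) = 0 for every m ≥ 0; that is, H¹(X, O_X(m)) = 0 for all m ∈ ℤ in the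
anticanonical embedding X ⊆ P^d. (The published statement is that the anticanonically embedded X is
arithmetically Cohen–Macaulay; its argument obtains H¹(X, O_X) = 0 from the rationality of del Pezzo
surfaces, quoted, and that vanishing is the hypothesis here; the part about H¹ of the twisted ideal
sheaves of X is not restated.) -/
theorem result (k : Type u) [Field k] [IsAlgClosed k] [CharZero k] (X : Scheme.{u})
    [X.Over (Spec (CommRingCat.of k))] [IsIntegral X] [IsProper (X ↘ (Spec (CommRingCat.of k)))] [Smooth (X ↘ (Spec (CommRingCat.of k)))]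
    (hdim : topologicalKrullDim X = 2)
    (W : X.Modules) (hW : ExtPow.IsExtPow 2 (Omega.sheaf (X ↘ (Spec (CommRingCat.of k)))) W)
    (D : X.Modules) (hD : ClSub.IsInverseOf D W)
    (hva : ∃ (N : ℕ) (ι : X ⟶ CohB1.ProjSpace N k), IsClosedImmersion ι ∧
      ι ≫ CohB1.ProjSpace.toSpec N k = X ↘ (Spec (CommRingCat.of k)) ∧
      Nonempty ((Scheme.Modules.pullback ι).obj (Twist.twistProjSpace N k 1) ≅ D))
    (hq : Subsingleton (Coh.HH X (Coh.structureModule X) 1)) (m : ℕ) :
    Subsingleton (Coh.HH X (CohB1.tensorPow D m) 1) ∧ Subsingleton (Coh.HH X (CohB1.tensorPow W m) 1) := by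
  classical
  haveI := isNoetherian_of_proper (X := X) k
  haveI := isSeparated_of_proper (X := X) k
  have hX : topologicalKrullDim X = ((2 : ℕ) : WithBot ℕ∞) := by rw [hdim]; rfl
  have hreg : ∀ x : X, IsRegularLocalRing (X.presheaf.stalk x) := fun x =>
    VarietyLib.isRegularLocalRing_stalk_of_smooth k X (X ↘ Spec (CommRingCat.of k)) x
  obtain ⟨N, ι, hι, hιk, ⟨eι⟩⟩ := hva
  haveI := hι
  have hWi := Surf15.isInvertible_canonical k hX hW
  have hDamp : CohB1.IsAmple D := isAmple_of_iso eι (SurfBl13.isAmple_pullback_one ι)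
  have hDi : PicF.IsInvertible D := hDamp.1
  have hcov : ∀ y : X, ∃ s : Γ(D, ⊤), y ∈ glocus D s := fun y => by
    obtain ⟨p, hp, hpy⟩ := UPLib.exists_degOne (HypLib.hgen (R := k) N) (ι y)
    refine ⟨eι.hom.app ⊤ (PicLib.pullSec ι (UPLib.sec p hp)), ?_⟩
    exact (glocus_map_iso eι _).ge ((UPLib.preimage_basicOpen_eq (HypLib.hgen N) ι hp).ge hpy)
  -- an anticanonical curve
  obtain ⟨s, hs⟩ := hcov (genericPoint X)
  have hs0 : unitVal (unitDesc D s) ⊤ ≠ 0 := by
    intro h
    have h0 : s ≠ 0 := VarietyLib.ne_zero_of_mem_glocus (x := genericPoint X) hs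
    exact h0 (unitDesc_inj ((unitDesc_unitVal (L := D) (unitDesc D s)).symm.trans (by rw [h])))
  let C := PicF2.zeroScheme D (unitDesc D s)
  have hC : BlowUp.IsEffCartierIdeal C := Surf15.isEffCartier_zeroScheme_of_ne_zero hDi _ hs0
  have hCD : ClSub.IsInverseOf D (ClSub.idealMod C) := Inters29.nonempty_tensor_zeroScheme_iso hDi _ hC
  have c1 := Surf15.mk_inverse_clI' hC hDi hCD
  have c2 : InvCl.mk D hDi * InvCl.mk W hWi = 1 := by
    obtain ⟨e⟩ := hD
    exact InvCl.mk_eq _ _ e
  have hcW : Surf15.clI' C hC = InvCl.mk W hWi := by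
    calc Surf15.clI' C hC = Surf15.clI' C hC * (InvCl.mk D hDi * InvCl.mk W hWi) := by rw [c2, mul_one]
      _ = InvCl.mk W hWi := by rw [← mul_assoc, c1, one_mul]
  obtain ⟨eC⟩ := H0Growth23.nonempty_iso_of_mk_eq (show InvCl.mk (ClSub.idealMod C) _ = InvCl.mk W hWi from hcW)
  have hne : C ≠ ⊤ := by
    intro h
    have hT : BlowUp.IsEffCartierIdeal (⊤ : X.IdealSheafData) := h ▸ hC
    have h1 : Surf15.clI' ⊤ hT * Surf15.clI' ⊤ hT = Surf15.clI' ⊤ hT := by
      rw [← Surf15.clI'_mul ⊤ ⊤ hT hT]
      exact Surf15.clI'_congr (by rw [← Scheme.IdealSheafData.one_eq_top, mul_one]) _ _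
    rw [← Surf15.clI'_congr h hC hT] at h1
    have hD1 : InvCl.mk D hDi = 1 := by
      calc InvCl.mk D hDi = (Surf15.clI' C hC * InvCl.mk D hDi) * InvCl.mk D hDi := by rw [c1, one_mul]
        _ = (Surf15.clI' C hC * InvCl.mk D hDi) * (Surf15.clI' C hC * InvCl.mk D hDi) := by
            conv_lhs => rw [← h1]
            ac_rfl
        _ = 1 := by rw [c1, one_mul]
    obtain ⟨i⟩ := H0Growth23.nonempty_iso_of_mk_eq
      (show InvCl.mk D hDi = InvCl.mk (Coh.structureModule X) isInvertible_structureModule from hD1)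
    haveI := AbCubeLib.isFinite_of_isAmple_structureModule (X ↘ Spec (CommRingCat.of k)) (isAmple_of_iso i hDamp)
    haveI : IsAffine X := isAffine_of_isAffineHom (X ↘ Spec (CommRingCat.of k))
    haveI : IsLocallyArtinian X := .of_locallyQuasiFinite (X ↘ Spec (CommRingCat.of k))
    haveI : DiscreteTopology X := inferInstance
    have := ResProp8.dim_le_zero_of_discrete (A := X)
    rw [hX] at this
    exact absurd (show (2 : ℕ) ≤ 0 by exact_mod_cast this) (by norm_num)
  let Y := C.subscheme
  letI : Y.Over (Spec (CommRingCat.of k)) := ⟨C.subschemeι ≫ (X ↘ Spec (CommRingCat.of k))⟩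
  haveI : IsProper (Y ↘ Spec (CommRingCat.of k)) :=
    inferInstanceAs (IsProper (C.subschemeι ≫ (X ↘ Spec (CommRingCat.of k))))
  haveI := isNoetherian_of_proper (X := Y) k
  have hYk : C.subschemeι ≫ (X ↘ Spec (CommRingCat.of k)) = Y ↘ Spec (CommRingCat.of k) := rfl
  obtain ⟨C', hC'i, hC'd, -, hle⟩ := Surf15.exists_curve k hX hreg hC hne
  have hnfin : ¬ IsFinite (Y ↘ Spec (CommRingCat.of k)) := by
    intro h
    haveI := h
    haveI : IsLocallyArtinian Y := .of_locallyQuasiFinite (Y ↘ Spec (CommRingCat.of k))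
    haveI : DiscreteTopology Y := inferInstance
    have h0 := ResProp8.dim_le_zero_of_discrete (A := Y)
    rw [C.subschemeι.isClosedEmbedding.isEmbedding.toHomeomorph.isHomeomorph.topologicalKrullDim_eq,
      IsHomeomorph.topologicalKrullDim_eq _ (Homeomorph.setCongr C.range_subschemeι).isHomeomorph] at h0
    have hsub : (C'.support : Set X) ⊆ (C.support : Set X) :=
      fun z hz => Scheme.IdealSheafData.support_antitone hle hz
    have h1 := (Topology.IsInducing.topologicalKrullDim_le
      (Topology.IsInducing.subtypeVal.codRestrict (fun z : (C'.support : Set X) => hsub z.2))).trans h0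
    rw [hC'd] at h1
    exact absurd (show (1 : ℕ) ≤ 0 by exact_mod_cast h1) (by norm_num)
  -- twists
  have hpow : ∀ n : ℕ, InvCl.mk _ (isInvertible_tensorPow hDi n) * InvCl.mk _ (isInvertible_tensorPow hWi n) = 1 := by
    intro n
    rw [InvCl.mk_tensorPow hDi, InvCl.mk_tensorPow hWi, ← mul_pow, c2, one_pow]
  have hWW : ∀ n : ℕ, Nonempty (CohB1.tensorMod (ClSub.idealMod C) (CohB1.tensorPow W n) ≅ CohB1.tensorPow W (n + 1)) :=
    fun n => ⟨AmpleLib.tensorIso eC (Iso.refl _) ≪≫ AmpleLib.tensorComm _ _⟩
  have hone : Subsingleton (Coh.HH X (CohB1.tensorMod W (Coh.structureModule X)) 1) := by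
    have hO := isInvertible_structureModule (X := X)
    have h := (Surf15.serre_duality k hX hW hWi hO hO (unitTensorIso _)).2.1
    haveI := finite_HH_of_isCoh k (isCoh_of_isInvertible k (isInvertible_tensorMod hWi hO)) 1
    haveI := hq
    rw [Module.finrank_zero_of_subsingleton] at h
    exact Module.finrank_zero_iff.1 h.symm
  have hIC : Subsingleton (Coh.HH X (ClSub.idealMod C) 1) :=
    FlatMorStrat.subsingleton_HH_of_iso (AmpleLib.tensorComm _ _ ≪≫ unitTensorIso W ≪≫ eC.symm) 1 hone
  have hfun : Module.finrank k (Coh.HH Y (Coh.structureModule Y) 0) = 1 := by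
    refine le_antisymm ?_ ?_
    · rw [← Surf15.finrank_h0_quotMod k C hYk, ← h0_structure (X := X) k]
      haveI := finite_HH_of_isCoh k (isCoh_structureModule X) 0
      have hs := SerreDual.hmap_surjective_of_shortExact k (shortExact_ideal C) 0 hIC
      have hle := LinearMap.finrank_range_le (SerreDual.hmap k (ClSub.toSubscheme C) 0)
      rwa [LinearMap.range_eq_top.2 hs, finrank_top] at hle
    · haveI : Nonempty Y := by
        by_contra h
        rw [not_nonempty_iff] at h
        exact hnfin inferInstance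
      haveI := finite_HH_of_isCoh k (isCoh_structureModule Y) 0
      haveI : Nonempty (⊤ : Y.Opens) := ⟨⟨Classical.arbitrary Y, trivial⟩⟩
      haveI : Nontrivial (GA (baseHom k Y) (Coh.structureModule Y)) :=
        inferInstanceAs (Nontrivial Γ(Y, ⊤))
      haveI : Nontrivial (Coh.HH Y (Coh.structureModule Y) 0) :=
        (hhZero k (Coh.structureModule Y)).toEquiv.nontrivial
      exact Nat.succ_le_of_lt Module.finrank_pos
  -- the twists have no sections on the curve
  have hQ : ∀ n : ℕ, Subsingleton (Coh.HH X (CohB1.tensorMod (ClSub.quotMod C) (CohB1.tensorPow W (n + 1))) 0) := by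
    intro n
    let L := CohB1.tensorPow W (n + 1)
    have hL : PicF.IsInvertible L := isInvertible_tensorPow hWi (n + 1)
    have hL' := PicLoc.isInvertible_pullback C.subschemeι hL
    let P := (Scheme.Modules.pullback C.subschemeι).obj (CohB1.tensorPow D (n + 1))
    have hPa : CohB1.IsAmple P :=
      isAmple_pullback_of_isAffineHom C.subschemeι ((isAmple_pow_iff hDi (n + 1) n.succ_pos).2 hDamp)
    obtain ⟨e⟩ : Nonempty (CohB1.tensorMod ((Scheme.Modules.pullback C.subschemeι).obj L) P ≅ Coh.structureModule Y) := by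
      obtain ⟨i⟩ := H0Growth23.nonempty_iso_of_mk_eq (L := CohB1.tensorMod L (CohB1.tensorPow D (n + 1)))
        (N := Coh.structureModule X) (hL := isInvertible_tensorMod hL (isInvertible_tensorPow hDi _))
        (hN := isInvertible_structureModule) ((InvCl.mk_mul _ _).symm.trans ((mul_comm _ _).trans (hpow (n + 1))))
      obtain ⟨j⟩ := AmpleLib.exists_pullStructureIso (X := X) C.subschemeι
      exact ⟨(DCat.PullTensor.pullTensorIso C.subschemeι _ _).symm ≪≫
        (Scheme.Modules.pullback C.subschemeι).mapIso i ≪≫ j⟩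
    have hcovY : ∀ y : Y, ∃ t : Γ(P, ⊤), y ∈ glocus P t := fun y => by
      obtain ⟨t, ht⟩ := hcov (C.subschemeι y)
      refine ⟨pullSec C.subschemeι (powSec t (n + 1)), ?_⟩
      exact (glocus_pullSec C.subschemeι (isInvertible_tensorPow hDi _) _).ge ((glocus_powSec hDi t _).ge ht)
    haveI hsub : Subsingleton (Coh.HH Y ((Scheme.Modules.pullback C.subschemeι).obj L) 0) := by
      haveI : Subsingleton Γ((Scheme.Modules.pullback C.subschemeι).obj L, ⊤) := subsingleton_of_forall_eq 0 fun a =>
        DelPezzo14.eq_zero_of_inverse_ample k hfun hnfin hPa hL' e hcovY a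
      haveI : Subsingleton (GA (baseHom k Y) ((Scheme.Modules.pullback C.subschemeι).obj L)) :=
        ‹Subsingleton Γ((Scheme.Modules.pullback C.subschemeι).obj L, ⊤)›
      exact (hhZero k _).toEquiv.subsingleton
    haveI := isQCoh_of_isInvertible hL'
    have hLF : FlatMod.IsFinLocFree L := fun x =>
      let ⟨U, hx, e⟩ := isFinLocFreeOfRank_one hL x; ⟨U, 1, hx, e⟩
    obtain ⟨q⟩ := Surf15.nonempty_push_iso_quotMod C.subschemeι
    rw [C.ker_subschemeι] at q
    let ψ : CohB1.tensorMod (ClSub.quotMod C) L ≅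
        (Coh.push C.subschemeι).obj ((Scheme.Modules.pullback C.subschemeι).obj L) :=
      AmpleLib.tensorComm _ _ ≪≫ AmpleLib.tensorIso (Iso.refl L) q.symm ≪≫
        (projIso (f := C.subschemeι) hLF).app _ ≪≫
        (Scheme.Modules.pushforward C.subschemeι).mapIso (AmpleLib.tensorComm _ _ ≪≫ unitTensorIso _)
    exact FlatMorStrat.subsingleton_HH_of_iso ψ.symm 0
      ((SerreDual.hpush C.subschemeι k hYk _ 0).toEquiv.symm.subsingleton)
  -- the induction
  have hW1 : ∀ n : ℕ, Subsingleton (Coh.HH X (CohB1.tensorPow W n) 1) := by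
    intro n
    induction n with
    | zero => exact hq
    | succ n ih =>
      cases n with
      | zero =>
        exact FlatMorStrat.subsingleton_HH_of_iso (AmpleLib.tensorComm W (Coh.structureModule X)) 1 hone
      | succ n =>
        have hS := twistSeq_shortExact (isInvertible_tensorPow hWi (n + 1)) (shortExact_ideal C)
        have h2 : Subsingleton (Coh.HH X (CohB1.tensorMod (Coh.structureModule X) (CohB1.tensorPow W (n + 1))) 1) :=
          FlatMorStrat.subsingleton_HH_of_iso (unitTensorIso _).symm 1 ih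
        have h1 := Surf15.subsingleton_X₁_of_surjective k hS 0
          (fun z => ⟨0, @Subsingleton.elim _ (hQ n) _ _⟩) h2
        obtain ⟨e⟩ := hWW (n + 1)
        exact FlatMorStrat.subsingleton_HH_of_iso e 1 h1
  refine ⟨?_, hW1 m⟩
  obtain ⟨i⟩ := H0Growth23.nonempty_iso_of_mk_eq (L := CohB1.tensorMod (CohB1.tensorPow D m) (CohB1.tensorPow W m))
    (N := Coh.structureModule X)
    (hL := isInvertible_tensorMod (isInvertible_tensorPow hDi m) (isInvertible_tensorPow hWi m))
    (hN := isInvertible_structureModule) ((InvCl.mk_mul _ _).symm.trans (hpow m))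
  have h := (Surf15.serre_duality k hX hW hWi (isInvertible_tensorPow hDi m) (isInvertible_tensorPow hWi m) i).2.1
  haveI := finite_HH_of_isCoh k (isCoh_of_isInvertible k (isInvertible_tensorPow hDi m)) 1
  haveI : Subsingleton (Coh.HH X (CohB1.tensorMod W (CohB1.tensorPow W m)) 1) :=
    FlatMorStrat.subsingleton_HH_of_iso (AmpleLib.tensorComm (CohB1.tensorPow W m) W) 1 (hW1 (m + 1))
  rw [Module.finrank_zero_of_subsingleton (M := Coh.HH X (CohB1.tensorMod W (CohB1.tensorPow W m)) 1)] at h
  exact Module.finrank_zero_iff.1 h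

end Groth.Agent.S18633
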