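import Groth.Statements.S7489
import Groth.Agent.SGA3xLib.SepFibre
import Mathlib.AlgebraicGeometry.Morphisms.Integral
import Mathlib.AlgebraicGeometry.Morphisms.UniversallyClosed
import Mathlib.AlgebraicGeometry.Morphisms.Affine
import Mathlib.AlgebraicGeometry.PullbackCarrier
import Mathlib.AlgebraicGeometry.ResidueField
import Mathlib.RingTheory.Artinian.Module
import Mathlib.Algebra.Module.Submodule.Union
import Mathlib.FieldTheory.IsAlgClosed.Basic

set_option autoImplicit false
universe u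
open CategoryTheory MonoidalCategory CartesianMonoidalCategory MonObj GrpObj AlgebraicGeometry
open GrpSch

namespace Groth.Agent.S7489


open scoped TensorProduct
open CategoryTheory.Limits MonoidalCategory CartesianMonoidalCategory MonObj GrpObj

/-- Finitely many elements have a linear combination nonvanishing wherever one of them is nonvanishing. -/
def Comb (k B : Type u) [Field k] [CommRing B] [Algebra k B] : Prop :=
  ∀ (m : ℕ) (h : Fin m → B), ∃ c : Fin m → k, ∀ P : PrimeSpectrum B,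
    (∃ j, h j ∉ P.asIdeal) → ∑ j, c j • h j ∉ P.asIdeal

theorem Comb.quotient {k B : Type u} [Field k] [CommRing B] [Algebra k B] (hB : Comb k B) (I : Ideal B) :
    Comb k (B ⧸ I) := by
  intro m h
  choose h' hh' using fun j => Ideal.Quotient.mk_surjective (I := I) (h j)
  obtain ⟨c, hc⟩ := hB m h'
  refine ⟨c, fun P hP => ?_⟩
  have e : ∀ x, x ∈ (PrimeSpectrum.comap (Ideal.Quotient.mk I) P).asIdeal ↔ Ideal.Quotient.mk I x ∈ P.asIdeal :=
    fun x => Iff.rfl
  have hsum : Ideal.Quotient.mk I (∑ j, c j • h' j) = ∑ j, c j • h j := by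
    rw [← Ideal.Quotient.mkₐ_eq_mk k, map_sum]
    simp only [map_smul, Ideal.Quotient.mkₐ_eq_mk, hh']
  rw [← hsum, ← e]
  obtain ⟨j, hj⟩ := hP
  exact hc _ ⟨j, by rw [e, hh']; exact hj⟩

theorem comb_tensor {k : Type u} [Field k] [Infinite k] (K A : Type u) [Field K] [Algebra k K] [CommRing A] [Algebra k A]
    (hA : ∀ s : Finset A, ∃ (B : Subalgebra k A) (n : ℕ), (↑s : Set A) ⊆ (B : Set A) ∧ Nonempty (B ≃ₐ[k] (Fin n → k))) :
    Comb k (K ⊗[k] A) := by
  classical
  intro m h
  choose S hS using fun j => TensorProduct.exists_finset (h j)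
  obtain ⟨B, n, hB, ⟨e⟩⟩ := hA ((Finset.univ.biUnion S).image Prod.snd)
  haveI : Module.Finite k B := Module.Finite.equiv e.symm.toLinearEquiv
  let φ : K ⊗[k] B →ₐ[K] K ⊗[k] A := Algebra.TensorProduct.map (AlgHom.id K K) B.val
  have hh : ∀ j, ∃ x, φ x = h j := fun j => by
    refine ⟨∑ i : {i // i ∈ S j}, i.1.1 ⊗ₜ ⟨i.1.2, hB (Finset.mem_image.2 ⟨i.1, Finset.mem_biUnion.2 ⟨j, Finset.mem_univ _, i.2⟩, rfl⟩)⟩, ?_⟩
    rw [hS j, map_sum, ← Finset.sum_coe_sort (S j)]
    simp [φ]
  choose h' hh' using hh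
  haveI : IsArtinianRing (K ⊗[k] B) := IsArtinianRing.of_finite K (K ⊗[k] B)
  let J := {p : PrimeSpectrum (K ⊗[k] B) // ∃ j, h' j ∉ p.asIdeal}
  let L : J → Submodule k (Fin m → k) := fun p =>
    (p.1.asIdeal.restrictScalars k).comap (Fintype.linearCombination k h')
  have hL : ∀ p, L p ≠ ⊤ := fun p htop => by
    obtain ⟨j, hj⟩ := p.2
    apply hj
    have : (Pi.single j (1 : k)) ∈ L p := htop ▸ Submodule.mem_top
    simpa [L, Fintype.linearCombination_apply_single] using this
  obtain ⟨c, hc⟩ := Submodule.exists_forall_notMem_of_forall_ne_top L hL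
  refine ⟨c, fun P ⟨j, hj⟩ => ?_⟩
  let p : PrimeSpectrum (K ⊗[k] B) := PrimeSpectrum.comap φ.toRingHom P
  have hp : h' j ∉ p.asIdeal := fun hm => hj (hh' j ▸ hm)
  have := hc ⟨p, j, hp⟩
  intro hmem
  apply this
  show φ (Fintype.linearCombination k h' c) ∈ P.asIdeal
  rw [Fintype.linearCombination_apply, map_sum]
  simpa [hh', AlgHom.map_smul_of_tower] using hmem

theorem exists_root {k A : Type u} [Field k] [CommRing A] [Algebra k A]
    (hA : ∀ s : Finset A, ∃ (B : Subalgebra k A) (n : ℕ), (↑s : Set A) ⊆ (B : Set A) ∧ Nonempty (B ≃ₐ[k] (Fin n → k)))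
    (x : A) : ∃ (n : ℕ) (r : Fin n → k), ∏ i, (x - algebraMap k A (r i)) = 0 := by
  classical
  obtain ⟨B, n, hB, ⟨e⟩⟩ := hA {x}
  let y : B := ⟨x, hB (by simp)⟩
  refine ⟨n, e y, ?_⟩
  have h : ∏ i, (y - algebraMap k B (e y i)) = 0 := by
    apply e.injective
    rw [map_prod, map_zero]
    funext j
    rw [Finset.prod_apply]
    refine Finset.prod_eq_zero (Finset.mem_univ j) ?_
    simp
  simpa using congrArg B.val h

/-- A minimal prime outside a compact open has a basic neighbourhood missing it. -/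
theorem notMem_closure_of_minimal {X : Scheme.{u}} [X.IsSeparated] {U : X.Opens} (hU : IsAffineOpen U) {q : X}
    (hq : q ∉ U) (hmin : ∀ z : X, z ⤳ q → z = q) : q ∉ closure (U : Set X) := by
  classical
  obtain ⟨_, ⟨V, hV : IsAffineOpen V, rfl⟩, hqV, -⟩ := X.isBasis_affineOpens.exists_subset_of_mem_open (Set.mem_univ q) isOpen_univ
  obtain ⟨p, hp⟩ : ∃ p, hV.fromSpec p = q := by
    have : q ∈ Set.range hV.fromSpec := by rw [hV.range_fromSpec]; exact hqV
    exact this
  subst hp
  let D : (Spec Γ(X, V)).Opens := hV.fromSpec ⁻¹ᵁ U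
  haveI : IsAffineHom (pullback.diagonal (terminal.from X)) := inferInstance
  have hDeq : D = hV.fromSpec ⁻¹ᵁ (U ⊓ V) := by
    refine TopologicalSpace.Opens.ext (Set.ext fun z => ⟨fun hz => ⟨hz, ?_⟩, fun hz => hz.1⟩)
    show hV.fromSpec z ∈ (V : Set X)
    rw [← hV.range_fromSpec]; exact ⟨z, rfl⟩
  have hD : IsCompact (D : Set (Spec Γ(X, V))) := by
    rw [hDeq]
    exact (IsAffineOpen.preimage_of_isOpenImmersion (hU.inf hV) hV.fromSpec
      (by rw [hV.opensRange_fromSpec]; exact inf_le_right)).isCompact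
  have hpD : ∀ (g : Γ(X, V)), (PrimeSpectrum.basicOpen g : Set (PrimeSpectrum Γ(X, V))) ⊆ (D : Set (Spec Γ(X, V))) →
      g ∈ (p : PrimeSpectrum Γ(X, V)).asIdeal := fun g hg => by
    by_contra h
    exact hq (hg h)
  obtain ⟨s, hs, hsD⟩ : ∃ s : Finset Γ(X, V), (∀ g ∈ s, g ∈ (p : PrimeSpectrum Γ(X, V)).asIdeal) ∧
      (D : Set (Spec Γ(X, V))) ⊆ ⋃ g ∈ s, (PrimeSpectrum.basicOpen g : Set (PrimeSpectrum Γ(X, V))) := by
    obtain ⟨s, hs⟩ := hD.elim_finite_subcover
      (fun g : {g : Γ(X, V) // (PrimeSpectrum.basicOpen g : Set (PrimeSpectrum Γ(X, V))) ⊆ (D : Set (Spec Γ(X, V)))} =>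
        (PrimeSpectrum.basicOpen g.1 : Set (PrimeSpectrum Γ(X, V))))
      (fun g => (PrimeSpectrum.basicOpen g.1).isOpen) (fun z hz => by
        obtain ⟨_, ⟨g, rfl⟩, hzg, hg⟩ :=
          PrimeSpectrum.isTopologicalBasis_basic_opens.exists_subset_of_mem_open hz D.isOpen
        exact Set.mem_iUnion.2 ⟨⟨g, hg⟩, hzg⟩)
    refine ⟨s.image Subtype.val, fun g hg => ?_, fun z hz => ?_⟩
    · obtain ⟨g, -, rfl⟩ := Finset.mem_image.1 hg
      exact hpD g.1 g.2
    · obtain ⟨g, hg, hzg⟩ := Set.mem_iUnion₂.1 (hs hz)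
      exact Set.mem_iUnion₂.2 ⟨g.1, Finset.mem_image_of_mem _ hg, hzg⟩
  have hy : ∀ g ∈ s, ∃ y ∉ (p : PrimeSpectrum Γ(X, V)).asIdeal, IsNilpotent (g * y) := by
    intro g hg
    by_contra hne
    push Not at hne
    let P := (p : PrimeSpectrum Γ(X, V)).asIdeal
    haveI : P.IsPrime := (p : PrimeSpectrum Γ(X, V)).isPrime
    let M : Submonoid Γ(X, V) := Submonoid.powers g ⊔ P.primeCompl
    have hdis : Disjoint ((⊥ : Ideal Γ(X, V)) : Set Γ(X, V)) (M : Set Γ(X, V)) := by
      rw [Set.disjoint_left]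
      intro x hx hxM
      obtain ⟨_, ⟨n, rfl⟩, y, hy, hxy⟩ := Submonoid.mem_sup.1 hxM
      replace hx : g ^ n * y = 0 := hxy.trans hx
      exact hne y hy ⟨n + 1, by linear_combination (g * y ^ n) * hx⟩
    obtain ⟨Q, hQ, -, hQdis⟩ := Ideal.exists_le_prime_disjoint _ M hdis
    have hQP : Q ≤ P := fun x hx => by
      by_contra h
      exact Set.disjoint_left.1 hQdis hx (Submonoid.mem_sup_right (h : x ∈ P.primeCompl))
    have hgQ : g ∉ Q := fun h => Set.disjoint_left.1 hQdis h (Submonoid.mem_sup_left ⟨1, pow_one g⟩)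
    have hsp : (⟨Q, hQ⟩ : PrimeSpectrum Γ(X, V)) ⤳ (p : PrimeSpectrum Γ(X, V)) := (PrimeSpectrum.le_iff_specializes _ _).1 hQP
    have := hV.fromSpec.isOpenEmbedding.injective (hmin _ (hsp.map hV.fromSpec.continuous))
    exact hgQ ((show Q = P from congrArg PrimeSpectrum.asIdeal this) ▸ hs g hg)
  choose! y hy1 hy2 using hy
  rw [mem_closure_iff]
  push Not
  refine ⟨hV.fromSpec '' (PrimeSpectrum.basicOpen (∏ g ∈ s, y g) : Set (PrimeSpectrum Γ(X, V))),
    hV.fromSpec.isOpenEmbedding.isOpenMap _ (PrimeSpectrum.basicOpen _).isOpen, ⟨p, ?_, rfl⟩, ?_⟩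
  · show ∏ g ∈ s, y g ∉ (p : PrimeSpectrum Γ(X, V)).asIdeal
    exact fun h => by
      obtain ⟨g, hg, hg'⟩ := ((p : PrimeSpectrum Γ(X, V)).isPrime.prod_mem_iff).1 h
      exact hy1 g hg hg'
  · rw [Set.eq_empty_iff_forall_notMem]
    rintro _ ⟨⟨z, hz, rfl⟩, hzU⟩
    obtain ⟨g, hg, hzg⟩ := Set.mem_iUnion₂.1 (hsD (show z ∈ (D : Set (Spec Γ(X, V))) from hzU))
    let Z := (z : PrimeSpectrum Γ(X, V))
    rcases Z.isPrime.mem_or_mem (nilradical_le_prime Z.asIdeal (hy2 g hg)) with h | h
    · exact hzg h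
    · exact hz (Z.isPrime.prod_mem_iff.2 ⟨g, hg, h⟩)

theorem exists_basicOpen {k R B : Type u} [Field k] [CommRing R] [CommRing B] [Algebra k B] (hB : Comb k B)
    (c : k →+* R) (φ : R →+* B) (hc : φ.comp c = algebraMap k B) (O : TopologicalSpace.Opens (PrimeSpectrum R))
    (hO : ∀ P : PrimeSpectrum B, PrimeSpectrum.comap φ P ∈ O) :
    ∃ r : R, PrimeSpectrum.basicOpen r ≤ O ∧ ∀ P : PrimeSpectrum B, φ r ∉ P.asIdeal := by
  classical
  have h1 : ∀ P : PrimeSpectrum B, ∃ r : R, PrimeSpectrum.basicOpen r ≤ O ∧ φ r ∉ P.asIdeal := fun P => by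
    obtain ⟨_, ⟨r, rfl⟩, hr, hrO⟩ :=
      PrimeSpectrum.isTopologicalBasis_basic_opens.exists_subset_of_mem_open (hO P) O.isOpen
    exact ⟨r, hrO, hr⟩
  choose r hrO hr using h1
  obtain ⟨s, hs⟩ := isCompact_univ.elim_finite_subcover
    (fun P => (PrimeSpectrum.basicOpen (φ (r P)) : Set (PrimeSpectrum B)))
    (fun P => (PrimeSpectrum.basicOpen (φ (r P))).isOpen) (fun P _ => Set.mem_iUnion.2 ⟨P, hr P⟩)
  let e := s.equivFin.symm
  obtain ⟨l, hl⟩ := hB s.card (fun j => φ (r (e j)))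
  refine ⟨∑ j, c (l j) * r (e j), fun z hz => ?_, fun P => ?_⟩
  · by_contra hzO
    refine hz (Submodule.sum_mem _ fun j _ => z.asIdeal.mul_mem_left _ ?_)
    by_contra h
    exact hzO (hrO _ h)
  · have : φ (∑ j, c (l j) * r (e j)) = ∑ j, l j • φ (r (e j)) := by
      simp [Algebra.smul_def, ← hc]
    rw [this]
    obtain ⟨Q, hQ, hPQ⟩ := Set.mem_iUnion₂.1 (hs (Set.mem_univ P))
    exact hl P ⟨e.symm ⟨Q, hQ⟩, by simpa using hPQ⟩

theorem exists_affine {k : Type u} [Field k] {X : Scheme.{u}} [X.IsSeparated] (q : X ⟶ Spec (CommRingCat.of k))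
    (l : List X.affineOpens) : ∀ (B : Type u) [CommRing B] [Algebra k B], Comb k B →
      ∀ g : Spec (CommRingCat.of B) ⟶ X, g ≫ q = Spec.map (CommRingCat.ofHom (algebraMap k B)) →
      (∀ y, ∀ z : X, z ⤳ g y → z = g y) → (∀ y, ∃ U ∈ l, g y ∈ U.1) →
      ∃ W : X.Opens, IsAffineOpen W ∧ ∀ y, g y ∈ W := by
  induction l with
  | nil =>
    intro B _ _ _ g _ _ hcov
    exact ⟨⊥, isAffineOpen_bot X, fun y => absurd (hcov y) (by simp)⟩
  | cons U l ih =>
    intro B _ _ hB g hgq hmin hcov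
    obtain ⟨I, hI⟩ := (PrimeSpectrum.isClosed_iff_zeroLocus_ideal _).1
      (show IsClosed ((g ⁻¹' (U.1 : Set X) : Set (PrimeSpectrum B))ᶜ) from
        (g ⁻¹ᵁ U.1).isOpen.isClosed_compl)
    let g' := Spec.map (CommRingCat.ofHom (Ideal.Quotient.mk I)) ≫ g
    have hg'U : ∀ y, g' y ∉ U.1 := fun y hy => by
      have h : PrimeSpectrum.comap (Ideal.Quotient.mk I) y ∈ PrimeSpectrum.zeroLocus (I : Set B) := fun x hx => by
        show Ideal.Quotient.mk I x ∈ (y : PrimeSpectrum (B ⧸ I)).asIdeal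
        rw [Ideal.Quotient.eq_zero_iff_mem.2 hx]; exact zero_mem _
      rw [← hI] at h
      exact h hy
    have hg'q : g' ≫ q = Spec.map (CommRingCat.ofHom (algebraMap k (B ⧸ I))) := by
      rw [Category.assoc, hgq, ← Spec.map_comp]; rfl
    have hmin' : ∀ y, ∀ z : X, z ⤳ g' y → z = g' y := fun y => hmin _
    obtain ⟨W, hW, hWg⟩ := ih (B ⧸ I) (hB.quotient I) g' hg'q hmin' fun y => by
      obtain ⟨U', hU', hy⟩ := hcov (Spec.map (CommRingCat.ofHom (Ideal.Quotient.mk I)) y)
      rcases List.mem_cons.1 hU' with rfl | h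
      · exact absurd hy (hg'U y)
      · exact ⟨U', h, hy⟩
    have hrange : Set.range g' ⊆ Set.range hW.fromSpec := by
      rw [hW.range_fromSpec]; rintro _ ⟨y, rfl⟩; exact hWg y
    let φ := Spec.preimage (IsOpenImmersion.lift hW.fromSpec g' hrange)
    let c := Spec.preimage (hW.fromSpec ≫ q)
    have hφ : Spec.map φ ≫ hW.fromSpec = g' := by rw [Spec.map_preimage, IsOpenImmersion.lift_fac]
    have hc : c ≫ φ = CommRingCat.ofHom (algebraMap k (B ⧸ I)) := by
      apply Spec.map_injective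
      rw [Spec.map_comp]
      conv_lhs => arg 2; rw [Spec.map_preimage]
      rw [← Category.assoc, hφ, hg'q]
    let O : TopologicalSpace.Opens (PrimeSpectrum Γ(X, W)) :=
      ⟨hW.fromSpec ⁻¹' (closure (U.1 : Set X))ᶜ, isClosed_closure.isOpen_compl.preimage hW.fromSpec.continuous⟩
    obtain ⟨r, hrO, hr⟩ := exists_basicOpen (hB.quotient I) c.hom φ.hom
      (congrArg CommRingCat.Hom.hom hc) O fun P => by
        show hW.fromSpec (Spec.map φ P) ∉ closure (U.1 : Set X)
        rw [← Scheme.Hom.comp_apply, hφ]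
        exact notMem_closure_of_minimal U.2 (hg'U P) (hmin' P)
    let D := hW.fromSpec ''ᵁ (PrimeSpectrum.basicOpen r)
    have hD : IsAffineOpen D := (IsAffineOpen.Spec_basicOpen r).image_of_isOpenImmersion _
    have hdis : Disjoint U.1 D := by
      rw [← TopologicalSpace.Opens.coe_disjoint, Set.disjoint_right]
      rintro _ ⟨z, hz, rfl⟩ hzU
      exact hrO hz (subset_closure hzU)
    refine ⟨U.1 ⊔ D, U.2.sup_of_disjoint hD hdis, fun y => ?_⟩
    by_cases hy : g y ∈ U.1
    · exact Or.inl hy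
    · right
      have h : (y : PrimeSpectrum B) ∈ PrimeSpectrum.zeroLocus (I : Set B) := by rw [← hI]; exact hy
      obtain ⟨y', hy'⟩ : (y : PrimeSpectrum B) ∈ Set.range (PrimeSpectrum.comap (Ideal.Quotient.mk I)) := by
        rw [range_comap_of_surjective _ _ Ideal.Quotient.mk_surjective, Ideal.mk_ker]; exact h
      refine ⟨Spec.map φ y', hr y', ?_⟩
      refine (congrArg (fun (h : Spec (CommRingCat.of (B ⧸ I)) ⟶ X) => h y') hφ).trans ?_
      exact congrArg g hy'

/-- Let k be an algebraically closed field and G a group scheme over k such that the underlying space of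
G is Jacobson and every closed point of G is k-rational (the image of a section of G -> Spec k). Let
A be a k-algebra such that every finite subset of A is contained in a k-subalgebra isomorphic to a
finite product of copies of k (A is a directed colimit of such algebras), and f : Spec A -> G a
morphism over k. Then there is an affine open U of G containing the image of f. -/
theorem result (k : Type u) [Field k] [IsAlgClosed k] (G : Over (Spec (CommRingCat.of k))) [GrpObj G] [JacobsonSpace G.left] (hrat : ∀ g : G.left, IsClosed ({g} : Set G.left) → ∃ x : Spec (CommRingCat.of k) ⟶ G.left, x ≫ G.hom = 𝟙 _ ∧ x (IsLocalRing.closedPoint k) = g) (A : Type u) [CommRing A] [Algebra k A] (hA : ∀ s : Finset A, ∃ (B : Subalgebra k A) (n : ℕ), (↑s : Set A) ⊆ (B : Set A) ∧ Nonempty (B ≃ₐ[k] (Fin n → k))) (f : Spec (CommRingCat.of A) ⟶ G.left) (hf : f ≫ G.hom = Spec.map (CommRingCat.ofHom (algebraMap k A))) : ∃ U : G.left.Opens, IsAffineOpen U ∧ Set.range ⇑f ⊆ (U : Set G.left)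 := by
  classical
  haveI : IsSeparated G.hom := SGA3xLib.isSeparated_of_grpObj G
  haveI : IsSeparated (pullback.diagonal (terminal.from G.left)) := inferInstance
  haveI : G.left.IsSeparated := by
    constructor
    rw [show terminal.from G.left = G.hom ≫ terminal.from _ from (terminal.comp_from _).symm]
    infer_instance
  -- rational points of Spec A
  have hres : ∀ a : PrimeSpectrum A, ∀ x : A, ∃ r : k, x - algebraMap k A r ∈ a.asIdeal := by
    intro a x
    obtain ⟨n, r, hr⟩ := exists_root hA x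
    obtain ⟨i, -, hi⟩ := a.isPrime.prod_mem_iff.1 (show ∏ i, (x - algebraMap k A (r i)) ∈ a.asIdeal from hr.symm ▸ zero_mem _)
    exact ⟨r i, hi⟩
  have hint : (algebraMap k A).IsIntegral := by
    intro x
    obtain ⟨n, r, hr⟩ := exists_root hA x
    refine ⟨∏ i, (Polynomial.X - Polynomial.C (r i)), Polynomial.monic_prod_of_monic _ _ fun i _ => Polynomial.monic_X_sub_C _, ?_⟩
    simpa [Polynomial.eval₂_finsetProd] using hr
  let T : Over (Spec (CommRingCat.of k)) := Over.mk (Spec.map (CommRingCat.ofHom (algebraMap k A)))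
  let fT : T ⟶ G := Over.homMk f hf
  haveI : IsIntegralHom T.hom := IsIntegralHom.SpecMap_iff.2 hint
  -- a minimal point
  obtain ⟨η₀, hη₀⟩ : ∃ η₀ : G.left, ∀ z : G.left, z ⤳ η₀ → z = η₀ := by
    let g₁ : G.left := (η[G]).left (IsLocalRing.closedPoint k)
    have hirr : IsIrreducible (irreducibleComponent g₁) := isIrreducible_irreducibleComponent
    refine ⟨hirr.genericPoint, fun z hz => ?_⟩
    have hsub : irreducibleComponent g₁ ⊆ closure {z} := by
      have h1 := hirr.isGenericPoint_genericPoint_closure.def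
      rw [isClosed_irreducibleComponent.closure_eq] at h1
      rw [← h1]
      exact closure_minimal (Set.singleton_subset_iff.2 hz.mem_closure) isClosed_closure
    have heq : closure {z} = irreducibleComponent g₁ :=
      eq_irreducibleComponent (isIrreducible_singleton.closure.isPreirreducible) hsub
    have hgp : IsGenericPoint hirr.genericPoint (irreducibleComponent g₁) := by
      simpa [isClosed_irreducibleComponent.closure_eq] using hirr.isGenericPoint_genericPoint_closure
    exact (show IsGenericPoint z (irreducibleComponent g₁) from heq).eq hgp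
  let K := G.left.residueField η₀
  let cK := Spec.preimage (G.left.fromSpecResidueField η₀ ≫ G.hom)
  letI : Algebra k K := cK.hom.toAlgebra
  let P : Over (Spec (CommRingCat.of k)) := Over.mk (Spec.map (CommRingCat.ofHom (algebraMap k K)))
  let p : P ⟶ G := Over.homMk (G.left.fromSpecResidueField η₀) (by
    show _ = Spec.map cK
    rw [Spec.map_preimage])
  have hp : ∀ w, p.left w = η₀ := fun w => Scheme.fromSpecResidueField_apply _ w
  let m : P ⊗ T ⟶ G := (fst P T ≫ p) * (snd P T ≫ fT)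
  have hm : ∀ y : (P ⊗ T).left, ∀ z : G.left, z ⤳ m.left y → z = m.left y := by
    intro y
    let a : PrimeSpectrum A := (snd P T).left y
    haveI := a.isPrime
    have hbij : Function.Bijective (Algebra.ofId k (A ⧸ a.asIdeal)) := by
      refine ⟨(Algebra.ofId k (A ⧸ a.asIdeal)).toRingHom.injective, fun x => ?_⟩
      obtain ⟨x, rfl⟩ := Ideal.Quotient.mk_surjective x
      obtain ⟨r, hr⟩ := hres a x
      exact ⟨r, (Ideal.Quotient.eq.2 hr).symm⟩
    let χ : A →ₐ[k] k := (AlgEquiv.ofBijective _ hbij).symm.toAlgHom.comp (Ideal.Quotient.mkₐ k a.asIdeal)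
    let sA : 𝟙_ (Over (Spec (CommRingCat.of k))) ⟶ T := Over.homMk (Spec.map (CommRingCat.ofHom χ.toRingHom)) (by
      show Spec.map _ ≫ Spec.map _ = 𝟙 _
      rw [← Spec.map_comp, ← Spec.map_id]
      exact congrArg Spec.map (CommRingCat.hom_ext (RingHom.ext fun r => χ.commutes r)))
    have ha : a ∈ Set.range (PrimeSpectrum.comap χ.toRingHom) := by
      refine ⟨⟨⊥, Ideal.isPrime_bot⟩, PrimeSpectrum.ext (Ideal.ext fun x => ?_)⟩
      show χ x ∈ (⊥ : Ideal k) ↔ x ∈ a.asIdeal
      rw [Ideal.mem_bot, ← Ideal.Quotient.eq_zero_iff_mem]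
      exact EmbeddingLike.map_eq_zero_iff (f := (AlgEquiv.ofBijective _ hbij).symm)
    obtain ⟨w, hw⟩ : y ∈ Set.range (P ◁ sA).left := by
      have := Scheme.Pullback.range_map P.hom (𝟙_ (Over (Spec (CommRingCat.of k)))).hom P.hom T.hom (𝟙 _) sA.left (𝟙 _)
        (by simp) (by simp)
      rw [show (P ◁ sA).left = pullback.map P.hom (𝟙_ (Over (Spec (CommRingCat.of k)))).hom P.hom T.hom (𝟙 _) sA.left (𝟙 _)
        (by simp) (by simp) by
          apply pullback.hom_ext
          · rw [pullback.lift_fst, Category.comp_id]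
            exact congrArg CommaMorphism.left (whiskerLeft_fst P sA)
          · rw [pullback.lift_snd]
            exact congrArg CommaMorphism.left (whiskerLeft_snd P sA)]
      rw [this]
      refine ⟨⟨_, rfl⟩, ?_⟩
      obtain ⟨o, ho⟩ := ha
      exact ⟨o, ho⟩
    let r : G ⟶ G := 𝟙 G * (toUnit G ≫ sA ≫ fT)
    let r' : G ⟶ G := 𝟙 G * (toUnit G ≫ sA ≫ fT)⁻¹
    have hrr : r ≫ r' = 𝟙 G := by
      simp only [r, r', MonObj.comp_mul, GrpObj.comp_inv, Category.comp_id, comp_toUnit_assoc, mul_inv_cancel_right]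
    have hr'r : r' ≫ r = 𝟙 G := by
      simp only [r, r', MonObj.comp_mul, Category.comp_id, comp_toUnit_assoc, inv_mul_cancel_right]
    have hwm : (P ◁ sA) ≫ m = fst P _ ≫ p ≫ r := by
      simp only [m, r, MonObj.comp_mul, Category.comp_id, whiskerLeft_fst_assoc, whiskerLeft_snd_assoc, comp_toUnit_assoc]
      rw [toUnit_unique (snd P (𝟙_ _)) (toUnit _)]
    intro z hz
    have e : m.left y = r.left η₀ := by
      rw [← hw, ← hp ((fst P (𝟙_ (Over (Spec (CommRingCat.of k))))).left w)]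
      have := congrArg (fun h : P ⊗ 𝟙_ (Over (Spec (CommRingCat.of k))) ⟶ G => h.left w) hwm
      simpa using this
    rw [e] at hz ⊢
    have e1 : ∀ x, r'.left (r.left x) = x := fun x => by simpa using congrArg (fun h : G ⟶ G => h.left x) hrr
    have e2 : ∀ x, r.left (r'.left x) = x := fun x => by simpa using congrArg (fun h : G ⟶ G => h.left x) hr'r
    have h3 := hz.map r'.left.continuous
    rw [e1] at h3
    rw [← e2 z, hη₀ _ h3]
  -- an affine open containing the translates of the minimal point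
  let B := K ⊗[k] A
  let g : Spec (CommRingCat.of B) ⟶ G.left := (pullbackSpecIso k K A).inv ≫ m.left
  have hgq : g ≫ G.hom = Spec.map (CommRingCat.ofHom (algebraMap k B)) := by
    rw [Category.assoc, Over.w m]
    show _ ≫ pullback.fst _ _ ≫ Spec.map _ = _
    rw [pullbackSpecIso_inv_fst'_assoc, ← Spec.map_comp]
    exact congrArg Spec.map (CommRingCat.hom_ext (IsScalarTower.algebraMap_eq k K B).symm)
  obtain ⟨s, hs⟩ := (isCompact_range g.continuous).elim_finite_subcover
    (fun U : G.left.affineOpens => (U.1 : Set G.left)) (fun U => U.1.isOpen) (fun z _ => by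
      obtain ⟨_, ⟨V, hV, rfl⟩, hzV, -⟩ := G.left.isBasis_affineOpens.exists_subset_of_mem_open (Set.mem_univ z) isOpen_univ
      exact Set.mem_iUnion.2 ⟨⟨V, hV⟩, hzV⟩)
  obtain ⟨U, hU, hgU⟩ := exists_affine G.hom s.toList B (comb_tensor K A hA) g hgq (fun y => hm _) fun y => by
    obtain ⟨V, hV, hy⟩ := Set.mem_iUnion₂.1 (hs ⟨y, rfl⟩)
    exact ⟨V, Finset.mem_toList.2 hV, hy⟩
  have hmU : ∀ y : (P ⊗ T).left, m.left y ∈ U := fun y => by
    have h := hgU ((pullbackSpecIso k K A).hom y)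
    show m.left y ∈ U
    simpa [g, ← Scheme.Hom.comp_apply] using h
  -- the open set of translations
  let μ' : G ⊗ T ⟶ G := (fst G T) * (snd G T ≫ fT)
  let Z : Set G.left := (fst G T).left '' (μ'.left ⁻¹' (U : Set G.left)ᶜ)
  have hZ : IsClosed Z := by
    haveI : IsIntegralHom (pullback.fst G.hom T.hom) := inferInstance
    exact (pullback.fst G.hom T.hom).isClosedMap _ (U.isOpen.isClosed_compl.preimage μ'.left.continuous)
  have hη : η₀ ∉ Z := by
    rintro ⟨z, hz, hz'⟩
    obtain ⟨w, hw⟩ : z ∈ Set.range (p ▷ T).left := by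
      have := Scheme.Pullback.range_map P.hom T.hom G.hom T.hom p.left (𝟙 _) (𝟙 _)
        (by simp) (by simp)
      rw [show (p ▷ T).left = pullback.map P.hom T.hom G.hom T.hom p.left (𝟙 _) (𝟙 _)
        (by simp) (by simp) by
          apply pullback.hom_ext
          · rw [pullback.lift_fst]
            exact congrArg CommaMorphism.left (whiskerRight_fst p T)
          · rw [pullback.lift_snd, Category.comp_id]
            exact congrArg CommaMorphism.left (whiskerRight_snd p T)]
      rw [this]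
      exact ⟨⟨IsLocalRing.closedPoint K, (hp _).trans hz'.symm⟩, ⟨_, rfl⟩⟩
    apply hz
    have e : (p ▷ T) ≫ μ' = m := by simp [μ', m, MonObj.comp_mul]
    rw [← hw]
    have := hmU w
    rw [← e] at this
    simpa using this
  obtain ⟨g₀, hg₀Z, hg₀⟩ : ∃ g₀, g₀ ∈ Zᶜ ∧ IsClosed ({g₀} : Set G.left) :=
    nonempty_inter_closedPoints ⟨η₀, hη⟩ hZ.isOpen_compl.isLocallyClosed
  obtain ⟨x, hx, hxg⟩ := hrat g₀ hg₀
  let xg : 𝟙_ (Over (Spec (CommRingCat.of k))) ⟶ G := Over.homMk x hx
  let l : G ⟶ G := (toUnit G ≫ xg) * 𝟙 G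
  let l' : G ⟶ G := (toUnit G ≫ xg)⁻¹ * 𝟙 G
  have hl : l ≫ l' = 𝟙 G := by
    simp only [l, l', MonObj.comp_mul, GrpObj.comp_inv, Category.comp_id, comp_toUnit_assoc, inv_mul_cancel_left]
  have hl' : l' ≫ l = 𝟙 G := by
    simp only [l, l', MonObj.comp_mul, Category.comp_id, comp_toUnit_assoc, mul_inv_cancel_left]
  haveI : IsIso l := ⟨l', hl, hl'⟩
  haveI : IsIso l.left := inferInstanceAs (IsIso ((Over.forget _).map l))
  refine ⟨l.left ⁻¹ᵁ U, hU.preimage_of_isIso _, ?_⟩
  rintro _ ⟨a, rfl⟩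
  show l.left (fT.left a) ∈ U
  by_contra hne
  let st : T ⟶ G ⊗ T := lift (toUnit T ≫ xg) (𝟙 T)
  apply hg₀Z
  refine ⟨st.left a, ?_, ?_⟩
  · show μ'.left (st.left a) ∉ U
    have e : st ≫ μ' = fT ≫ l := by simp [st, μ', l, MonObj.comp_mul]
    have := congrArg (fun h : T ⟶ G => h.left a) e
    simp only [Over.comp_left, Scheme.Hom.comp_apply] at this
    rw [this]; exact hne
  · have e : st ≫ fst G T = toUnit T ≫ xg := lift_fst _ _
    have := congrArg (fun h : T ⟶ G => h.left a) e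
    simp only [Over.comp_left, Scheme.Hom.comp_apply] at this
    rw [this, ← hxg]
    exact congrArg x.base (Subsingleton.elim (α := PrimeSpectrum k) _ _)

end Groth.Agent.S7489
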