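import Groth.Statements.S1864
import Groth.Agent.S7489
import Mathlib.AlgebraicGeometry.AlgClosed.Basic

set_option autoImplicit false
universe u v
open CategoryTheory MonoidalCategory CartesianMonoidalCategory MonObj GrpObj AlgebraicGeometry
open GrpSch CategoryTheory.Limits

namespace Groth.Agent.S1864

/-- Let G be a group scheme locally of finite type over an algebraically closed field and g₁, …, g_n
finitely many closed points of G. Then some affine open of G contains all the g_i. -/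
theorem result (K : Type u) [Field K] [IsAlgClosed K] (G : Over (Spec (CommRingCat.of K))) [GrpObj G] [LocallyOfFiniteType G.hom] (n : ℕ) (g : Fin n → G.left) (hg : ∀ i, IsClosed ({g i} : Set G.left)) : ∃ U : G.left.Opens, IsAffineOpen U ∧ ∀ i, g i ∈ U := by
  haveI : JacobsonSpace G.left := LocallyOfFiniteType.jacobsonSpace G.hom
  let x : ∀ i, Spec (CommRingCat.of K) ⟶ G.left := fun i => pointOfClosedPoint G.hom (g i) (hg i)
  let ev : ∀ i, Spec (CommRingCat.of K) ⟶ Spec (CommRingCat.of (ULift.{u} (Fin n) → K)) := fun i =>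
    Spec.map (CommRingCat.ofHom (Pi.evalRingHom (fun _ : ULift.{u} (Fin n) => K) ⟨i⟩))
  obtain ⟨f, hf, hfx⟩ : ∃ f : Spec (CommRingCat.of (ULift.{u} (Fin n) → K)) ⟶ G.left,
      f ≫ G.hom = Spec.map (CommRingCat.ofHom (algebraMap K (ULift.{u} (Fin n) → K))) ∧ ∀ i, ev i ≫ f = x i := by
    let s : (∐ fun _ : ULift.{u} (Fin n) => Spec (CommRingCat.of K)) ⟶ G.left :=
      Sigma.desc fun i => x i.down
    refine ⟨CategoryTheory.inv (sigmaSpec fun _ : ULift.{u} (Fin n) => CommRingCat.of K) ≫ s, ?_, fun i => ?_⟩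
    · rw [Category.assoc, IsIso.inv_comp_eq]
      refine Sigma.hom_ext _ _ fun i => ?_
      simp only [s, x, Sigma.ι_desc_assoc, pointOfClosedPoint_comp, ι_sigmaSpec_assoc]
      rw [← Spec.map_comp, ← Spec.map_id]
      rfl
    · have : ev i = Sigma.ι (fun _ : ULift.{u} (Fin n) => Spec (CommRingCat.of K)) ⟨i⟩ ≫
          sigmaSpec fun _ : ULift.{u} (Fin n) => CommRingCat.of K := by
        rw [ι_sigmaSpec]
      show ev i ≫ _ = _
      rw [this, Category.assoc, IsIso.hom_inv_id_assoc, Sigma.ι_desc]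
  have hA : ∀ s : Finset (ULift.{u} (Fin n) → K), ∃ (B : Subalgebra K (ULift.{u} (Fin n) → K)) (m : ℕ),
      (↑s : Set (ULift.{u} (Fin n) → K)) ⊆ (B : Set _) ∧ Nonempty (B ≃ₐ[K] (Fin m → K)) := fun s =>
    ⟨⊤, n, fun _ _ => Algebra.mem_top,
      ⟨Subalgebra.topEquiv.trans (AlgEquiv.piCongrLeft K (fun _ => K) Equiv.ulift)⟩⟩
  have hrat : ∀ y : G.left, IsClosed ({y} : Set G.left) →
      ∃ x : Spec (CommRingCat.of K) ⟶ G.left, x ≫ G.hom = 𝟙 _ ∧ x (IsLocalRing.closedPoint K) = y := fun y hy =>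
    ⟨pointOfClosedPoint G.hom y hy, pointOfClosedPoint_comp G.hom y hy, pointOfClosedPoint_apply G.hom y hy _⟩
  obtain ⟨U, hU, hsub⟩ := Groth.Agent.S7489.result K G hrat _ hA f hf
  refine ⟨U, hU, fun i => ?_⟩
  have h := congrArg (fun h : Spec (CommRingCat.of K) ⟶ G.left => h (IsLocalRing.closedPoint K)) (hfx i)
  simp only [Scheme.Hom.comp_apply, x, pointOfClosedPoint_apply] at h
  exact hsub ⟨_, h⟩

end Groth.Agent.S1864
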