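import Groth.Statements.S18641
import Groth.Agent.CAlgH3.GrVeroneseThms
import Mathlib

set_option autoImplicit false
universe u
open GrLC

namespace Groth.Agent.S18641

/-- Let R be a graded ring defined over a field which is Gorenstein, and let q ≥ 1 be an integer
dividing the a-invariant a(R). Then the Veronese subring R^(q) is a Gorenstein ring. Here 'graded
ring defined over a field' means R = ⊕_{n ≥ 0} R_n is Noetherian with R_0 a field, and m = R_+ is
its unique graded maximal ideal. The a-invariant a(R) is the largest degree in which the graded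
local cohomology H^n_m(R) (n = dim R, m = R_+), computed from a *injective resolution of R in the
graded category, is nonzero. The Veronese subring R^(q) = ⊕_j R_{jq}, regraded by (R^(q))_j =
R_{jq}, is presented abstractly as a ℤ-graded ring R' with an injective ring homomorphism φ : R' → R
carrying R'_j onto R_{jq} for every j. -/
theorem result (R : Type u) [CommRing R] [LocCoh.IsGorensteinRing R] (𝒜 : ℤ → AddSubgroup R) [GradedRing 𝒜] (hpos : ∀ n : ℤ, n < 0 → 𝒜 n = ⊥) (h0 : IsField (GrLC.deg0 𝒜)) (m : HomogeneousIdeal 𝒜) (hm : GrLC.IsStarLocal 𝒜 m) (hmsp : m.toIdeal = Ideal.span (⋃ n ∈ Set.Ioi (0 : ℤ), (𝒜 n : Set R))) (n : ℕ) (hn : ringKrullDim R = n) (I : GrLC.StarInjRes 𝒜 𝒜) (a : ℤ) (ha : GrLC.endDeg (I.Hgr m n) = ((a : WithTop ℤ) : WithBot (WithTop ℤ))) (q : ℕ) (hq : 0 < q) (R' : Type u) [CommRing R'] (𝒜' : ℤ → AddSubgroup R') [GradedRing 𝒜'] (φ : R' →+* R) (hφ : Function.Injective φ) (hdeg : ∀ j : ℤ, (𝒜' j).map (φ : R' →+ R) = 𝒜 (j * q))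 (hdvd : (q : ℤ) ∣ a) : LocCoh.IsGorensteinRing R' := by
  letI := φ.toAlgebra
  haveI : LocCoh.IsCohenMacaulayRing R := Groth.Agent.CAlgH3.GrVeroneseThms.cm_of_gorenstein
  have hV : Groth.Agent.CAlgH3.GrVeronese.IsVer 𝒜 𝒜' q := ⟨hq, hφ, hdeg⟩
  haveI := Groth.Agent.CAlgH3.GrVeronese.isNoetherianRing_ver hV
  have hpos' := Groth.Agent.CAlgH3.GrVeroneseGor.pos_ver hV hpos
  have h0' := Groth.Agent.CAlgH3.GrVeroneseGor.isField_deg0 hV h0
  have hn' : ringKrullDim R' = n := (Groth.Agent.CAlgH3.GrVeroneseGor.ringKrullDim_ver hV hpos).trans hn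
  haveI := Groth.Agent.CAlgH3.GrVeroneseThms.nontrivial_of_dim hn'
  let m' := Groth.Agent.CAlgH3.GrVeroneseGor.posIdeal 𝒜'
  have hm' := Groth.Agent.CAlgH3.GrVeroneseGor.isStarLocal_pos hpos' h0' (m := m') rfl
  haveI := Groth.Agent.GrLib.isMaximal_starMaximal
    (fun k hk x hx => (AddSubgroup.eq_bot_iff_forall _).1 (hpos' k hk) x hx) hm'
  obtain ⟨c, hc⟩ := hdvd
  rw [mul_comm] at hc
  exact Groth.Agent.CAlgH3.GrVeroneseGor.gorenstein_ver hV hpos h0 hmsp (m' := m') rfl hn I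
    (fun i hi g => Groth.Agent.CAlgH3.GrVeroneseThms.Hgr_low hpos hm hn I i hi g)
    (hc ▸ Groth.Agent.CAlgH3.GrDualAt.isDualAt_top hpos h0 hm hn I ha)

end Groth.Agent.S18641
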