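import Groth.Statements.S18643
import Groth.Agent.CAlgH3.GrVeroneseThms
import Mathlib

set_option autoImplicit false
universe u
open GrLC

namespace Groth.Agent.S18643

/-- Let R be a graded ring defined over a field k = R_0 which is Gorenstein and generated over k by R_1,
with dim R ≥ 1 and dim_k R_1 ≥ 2, and let q ≥ 1. Then the Veronese subring R^(q) is a Gorenstein
ring if and only if q divides the a-invariant a(R). Here 'graded ring defined over a field' means R
= ⊕_{n ≥ 0} R_n is Noetherian with R_0 a field, and m = R_+ is its unique graded maximal ideal. The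
a-invariant a(R) is the largest degree in which the graded local cohomology H^n_m(R) (n = dim R, m =
R_+), computed from a *injective resolution of R in the graded category, is nonzero. The Veronese
subring R^(q) = ⊕_j R_{jq}, regraded by (R^(q))_j = R_{jq}, is presented abstractly as a ℤ-graded
ring R' with an injective ring homomorphism φ : R' → R carrying R'_j onto R_{jq} for every j. -/
theorem result (R : Type u) [CommRing R] [LocCoh.IsGorensteinRing R] (𝒜 : ℤ → AddSubgroup R) [GradedRing 𝒜] (hpos : ∀ n : ℤ, n < 0 → 𝒜 n = ⊥) (h0 : IsField (GrLC.deg0 𝒜)) (m : HomogeneousIdeal 𝒜) (hm : GrLC.IsStarLocal 𝒜 m) (hmsp : m.toIdeal = Ideal.span (⋃ n ∈ Set.Ioi (0 : ℤ), (𝒜 n : Set R))) (hstd : Ideal.span (⋃ n ∈ Set.Ioi (0 : ℤ), (𝒜 n : Set R)) = Ideal.span ((𝒜 1 : AddSubgroup R) : Set R)) (hR1 : 2 ≤ Module.finrank (GrLC.deg0 𝒜) (GrLC.comp 𝒜 𝒜 1)) (n : ℕ) (hn : ringKrullDim R = n) (h1 : 1 ≤ n) (I : GrLC.StarInjRes 𝒜 𝒜) (a : ℤ) (ha : GrLC.endDeg (I.Hgr m n)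 = ((a : WithTop ℤ) : WithBot (WithTop ℤ))) (q : ℕ) (hq : 0 < q) (R' : Type u) [CommRing R'] (𝒜' : ℤ → AddSubgroup R') [GradedRing 𝒜'] (φ : R' →+* R) (hφ : Function.Injective φ) (hdeg : ∀ j : ℤ, (𝒜' j).map (φ : R' →+ R) = 𝒜 (j * q)) : LocCoh.IsGorensteinRing R' ↔ (q : ℤ) ∣ a := by
  letI := φ.toAlgebra
  have h1₀ := h1
  haveI : LocCoh.IsCohenMacaulayRing R := Groth.Agent.CAlgH3.GrVeroneseThms.cm_of_gorenstein
  have hV : Groth.Agent.CAlgH3.GrVeronese.IsVer 𝒜 𝒜' q := ⟨hq, hφ, hdeg⟩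
  haveI := Groth.Agent.CAlgH3.GrVeronese.isNoetherianRing_ver hV
  have hpos' := Groth.Agent.CAlgH3.GrVeroneseGor.pos_ver hV hpos
  have h0' := Groth.Agent.CAlgH3.GrVeroneseGor.isField_deg0 hV h0
  have hn' : ringKrullDim R' = n := (Groth.Agent.CAlgH3.GrVeroneseGor.ringKrullDim_ver hV hpos).trans hn
  haveI := Groth.Agent.CAlgH3.GrVeroneseThms.nontrivial_of_dim hn'
  let m' := Groth.Agent.CAlgH3.GrVeroneseGor.posIdeal 𝒜'
  have hm' := Groth.Agent.CAlgH3.GrVeroneseGor.isStarLocal_pos hpos' h0' (m := m') rfl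
  have hposx : ∀ k : ℤ, k < 0 → ∀ x ∈ 𝒜' k, x = 0 := fun k hk x hx =>
    (AddSubgroup.eq_bot_iff_forall _).1 (hpos' k hk) x hx
  haveI := Groth.Agent.GrLib.isMaximal_starMaximal hposx hm'
  have hD := Groth.Agent.CAlgH3.GrDualAt.isDualAt_top hpos h0 hm hn I ha
  have hlow := fun i hi g => Groth.Agent.CAlgH3.GrVeroneseThms.Hgr_low hpos hm hn I i hi g
  refine ⟨fun hG => ?_, fun hdvd => ?_⟩
  · by_contra hnd
    have hρ0 : 0 < a % (q : ℤ) := lt_of_le_of_ne (Int.emod_nonneg a (by omega))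
      fun h => hnd (Int.dvd_of_emod_eq_zero h.symm)
    have hb := (Groth.Agent.CAlgH3.GrVeroneseGor.bassNum_ver_standard hV hpos h0 hmsp (m' := m') rfl hstd hn I hlow
      hD hρ0.le (Int.emod_lt_of_pos a (by omega)) Int.dvd_self_sub_emod).1
    haveI := hG
    haveI := LocCoh.IsGorensteinRing.isGorensteinLocalRing_localization (A := R') m'.toIdeal
    have hd : ringKrullDim (Localization.AtPrime m'.toIdeal) = n := by
      rw [IsLocalization.AtPrime.ringKrullDim_eq_height m'.toIdeal,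
        ← Groth.Agent.GrLib.ringKrullDim_eq_height_starMaximal hposx hm', hn']
    obtain ⟨hcm, -⟩ := Groth.Agent.CAlgH3.GrVeroneseGor.cm_localization hV hpos h0 hmsp (m' := m') rfl hn I hlow
    haveI := hcm
    have h1 : GrLC.bassNum m'.toIdeal R' n = 1 := by
      let S := Localization m'.toIdeal.primeCompl
      have eS : LocalizedModule m'.toIdeal.primeCompl R' ≃ₗ[S] S :=
        LinearEquiv.extendScalarsOfIsLocalization m'.toIdeal.primeCompl S
          (IsLocalizedModule.iso m'.toIdeal.primeCompl (Algebra.linearMap R' S))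
      refine ((Groth.Agent.CAlgH3.ExtShift.congrRight
        (N := IsLocalRing.ResidueField (Localization.AtPrime m'.toIdeal)) eS n).length_eq).trans ?_
      exact (Groth.Agent.CAlgH3.GrGorenstein.length_ext_residue hd n).trans (if_pos rfl)
    rw [h1] at hb
    exact Groth.Agent.CAlgH3.GrVeroneseThms.finrank_ne_one hmsp hstd h0
      (Groth.Agent.CAlgH3.GrVeroneseThms.gam_eq_bot hpos hm hn h1₀) hR1 hρ0 (by exact_mod_cast hb.symm)
  · obtain ⟨c, hc⟩ := hdvd
    rw [mul_comm] at hc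
    exact Groth.Agent.CAlgH3.GrVeroneseGor.gorenstein_ver hV hpos h0 hmsp (m' := m') rfl hn I hlow (hc ▸ hD)

end Groth.Agent.S18643
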