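import Groth.Statements.S18645
import Groth.Agent.CAlgH3.GrEndDeg
import Mathlib

set_option autoImplicit false
universe u
open GrLC

namespace Groth.Agent.S18645

/-- Let R be a graded ring defined over a field which is Cohen–Macaulay, of dimension n, and let f_1, …,
f_t be an R-regular sequence of homogeneous elements of positive degrees d_1, …, d_t, with S =
R/(f_1, …, f_t). The canonical module of S is (K_R/(f_1, …, f_t)K_R)(d_1 + ⋯ + d_t); consequently —
this is the form stated here — the a-invariants satisfy a(S) = a(R) + d_1 + ⋯ + d_t, where a(S) is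
the largest nonzero degree of H^{n−t}_m(S) and a(R) that of H^n_m(R), both graded local cohomologies
over R with support in m = R_+ computed from *injective resolutions in the graded category, and S is
presented as a graded R-module N with a degree-preserving surjection π : R → N whose kernel is (f_1,
…, f_t). Here 'graded ring defined over a field' means R = ⊕_{n ≥ 0} R_n is Noetherian with R_0 a
field, and m = R_+ is its unique graded maximal ideal. -/
theorem result (R : Type u) [CommRing R] [LocCoh.IsCohenMacaulayRing R] (𝒜 : ℤ → AddSubgroup R) [GradedRing 𝒜] (hpos : ∀ n : ℤ, n < 0 → 𝒜 n = ⊥) (h0 : IsField (GrLC.deg0 𝒜)) (m : HomogeneousIdeal 𝒜) (hm : GrLC.IsStarLocal 𝒜 m) (hmsp : m.toIdeal = Ideal.span (⋃ n ∈ Set.Ioi (0 : ℤ), (𝒜 n : Set R))) (n : ℕ) (hn : ringKrullDim R = n) (I : GrLC.StarInjRes 𝒜 𝒜) (t : ℕ) (htn : t ≤ n) (f : Fin t → R) (deg : Fin t → ℤ) (hfdeg : ∀ i, f i ∈ 𝒜 (deg i)) (hfm : ∀ i, f i ∈ m.toIdeal) (hreg : RingTheory.Sequence.IsRegular R (List.ofFn f)) (N :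 Type u) [AddCommGroup N] [Module R N] (𝒩 : ℤ → AddSubgroup N) [DirectSum.Decomposition 𝒩] [SetLike.GradedSMul 𝒜 𝒩] (π : R →ₗ[R] N) (hπ : GrLC.IsGrHom 𝒜 𝒩 π) (hπs : Function.Surjective π) (hπk : LinearMap.ker π = Ideal.span (Set.range f)) (F : GrLC.StarInjRes 𝒜 𝒩) : GrLC.endDeg (F.Hgr m (n - t)) = GrLC.endDeg (I.Hgr m n) + ((((Finset.univ : Finset (Fin t)).sum deg : ℤ) : WithTop ℤ) : WithBot (WithTop ℤ)) := by
  have hpos' : ∀ k : ℤ, k < 0 → ∀ x ∈ 𝒜 k, x = 0 := fun k hk x hx => by rw [hpos k hk] at hx; exact hx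
  haveI := Groth.Agent.GrLib.isMaximal_starMaximal hpos' hm
  have hh : m.toIdeal.height = n := by
    have h := (Groth.Agent.GrLib.ringKrullDim_eq_height_starMaximal hpos' hm).symm.trans hn
    exact WithBot.coe_inj.1 h
  have hd : ∀ i, 0 ≤ deg i := by
    intro i
    rcases Groth.Agent.CAlgH3.GrEndDeg.nonneg_or_eq_zero hpos (hfdeg i) with h | h
    · exact h
    exfalso
    have h1 := (RingTheory.Sequence.isWeaklyRegular_iff R (List.ofFn f)).1 hreg.toIsWeaklyRegular i (by simp)
    rw [List.getElem_ofFn, show f ⟨(i : ℕ), _⟩ = 0 from h] at h1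
    haveI := IsSMulRegular.zero_iff_subsingleton.1 h1
    refine hreg.top_ne_smul (le_antisymm ?_ le_top)
    calc (⊤ : Submodule R R) = Ideal.ofList ((List.ofFn f).take i) • ⊤ :=
          (Submodule.Quotient.subsingleton_iff.1 inferInstance).symm
      _ ≤ _ := Submodule.smul_mono_left (Ideal.span_mono fun r hr => List.mem_of_mem_take hr)
  exact Groth.Agent.CAlgH3.GrEndDeg.endDeg_regularSeq m t I n htn
    (Groth.Agent.CAlgH3.GrEndDeg.subsingleton_H_low m hh I) f deg hfdeg hd hfm hreg.toIsWeaklyRegular π hπ hπs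
    (by rw [hπk, smul_eq_mul, Ideal.mul_top]) F

end Groth.Agent.S18645
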