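import Groth.Statements.S18652
import Groth.Agent.SegreLC.CMSegre

set_option autoImplicit false
universe u
open scoped TensorProduct
open GrSegre

namespace Groth.Agent.S18652

/-- Let R and S be graded rings defined over a field k which are Cohen–Macaulay, of dimensions r ≥ 2 and
s ≥ 2. Then the Segre product T = R # S is a Cohen–Macaulay ring if and only if R # H^s_{S_+}(S) = 0
and H^r_{R_+}(R) # S = 0, that is, for every degree n, R_n = 0 or H^s_{S_+}(S)_n = 0, and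
H^r_{R_+}(R)_n = 0 or S_n = 0. Here a graded ring defined over k is a commutative k-algebra of
finite type, graded in nonnegative degrees by k-subspaces with degree-zero part k·1; the graded
local cohomology pieces are computed from *injective resolutions of R and S in the graded category;
the Segre product T = ⊕_n R_n ⊗_k S_n is presented abstractly as a graded k-algebra T with an
injective k-algebra homomorphism ψ : T → R ⊗_k S carrying T_n onto the k-span of the elementary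
tensors a ⊗ b with a ∈ R_n, b ∈ S_n. -/
theorem result (k : Type u) [Field k] (R : Type u) [CommRing R] [Algebra k R] (𝒜 : ℤ → Submodule k R) [GradedAlgebra 𝒜] (hposR : ∀ n : ℤ, n < 0 → 𝒜 n = ⊥) (h0R : 𝒜 0 = Submodule.span k {(1 : R)}) [Algebra.FiniteType k R] (S : Type u) [CommRing S] [Algebra k S] (ℬ : ℤ → Submodule k S) [GradedAlgebra ℬ] (hposS : ∀ n : ℤ, n < 0 → ℬ n = ⊥) (h0S : ℬ 0 = Submodule.span k {(1 : S)}) [Algebra.FiniteType k S] (T : Type u) [CommRing T] [Algebra k T] (𝒯 : ℤ → Submodule k T) [GradedAlgebra 𝒯] (ψ : T →ₐ[k] TensorProduct k R S) (hψ : Function.Injective ψ) (hdegT : ∀ n : ℤ, (𝒯 n).map ψ.toLinearMap = Submodule.span k {x : TensorProduct k R S | ∃ a ∈ 𝒜 n, ∃ b ∈ ℬ n, x = a ⊗ₜ[k] b}) [LocCoh.IsCohenMacaulayRing R] [LocCoh.IsCohenMacaulayRing S] (mR : HomogeneousIdeal 𝒜) (hmR : mR.toIdeal = Ideal.span (⋃ n ∈ Set.Ioi (0 : ℤ), (𝒜 n : Set R))) (I : GrLC.StarInjRes 𝒜 𝒜) (mS : HomogeneousIdeal ℬ) (hmS : mS.toIdeal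 = Ideal.span (⋃ n ∈ Set.Ioi (0 : ℤ), (ℬ n : Set S))) (J : GrLC.StarInjRes ℬ ℬ) (r s : ℕ) (hr : ringKrullDim R = r) (hs : ringKrullDim S = s) (h2r : 2 ≤ r) (h2s : 2 ≤ s) : LocCoh.IsCohenMacaulayRing T ↔ (∀ n : ℤ, 𝒜 n = ⊥ ∨ J.Hcomp mS s n = ⊥) ∧ (∀ n : ℤ, I.Hcomp mR r n = ⊥ ∨ ℬ n = ⊥) := by
  classical
  haveI : Nontrivial R := not_subsingleton_iff_nontrivial.1 fun _ => by
    rw [ringKrullDim_eq_bot_of_subsingleton] at hr; exact WithBot.bot_ne_natCast r hr
  haveI : Nontrivial S := not_subsingleton_iff_nontrivial.1 fun _ => by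
    rw [ringKrullDim_eq_bot_of_subsingleton] at hs; exact WithBot.bot_ne_natCast s hs
  haveI hTn := SegreLC.segre_noetherian (𝒜 := 𝒜) (ℬ := ℬ) (𝒯 := 𝒯) ⟨hψ, hdegT⟩
  haveI : Nontrivial T := ⟨⟨0, 1, fun h => one_ne_zero (α := R ⊗[k] S) (by rw [← map_one ψ, ← h, map_zero])⟩⟩
  have hP : GrSeg.IsSegreMod ψ (SegreLC.agGr 𝒜) (SegreLC.agGr ℬ) (SegreLC.agGr 𝒯) ψ.toLinearMap := {
    injective := hψ
    image_piece := fun n => congrArg SetLike.coe (hdegT n)
    map_smul := fun t p => by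
      rw [SegreDim.act_eq_mul]
      exact map_mul ψ t p }
  have hbA : ∀ n, SegreLC.agGr 𝒜 n = ⊥ ↔ 𝒜 n = ⊥ := fun n => by
    rw [AddSubgroup.eq_bot_iff_forall, Submodule.eq_bot_iff]; rfl
  have hbB : ∀ n, SegreLC.agGr ℬ n = ⊥ ↔ ℬ n = ⊥ := fun n => by
    rw [AddSubgroup.eq_bot_iff_forall, Submodule.eq_bot_iff]; rfl
  have key := SegreLC.cm_iff (r := r) (s := s) hposR h0R hposS h0S ⟨hψ, hdegT⟩ hP
    (by rw [Module.supportDim_self_eq_ringKrullDim, hr]) (by rw [Module.supportDim_self_eq_ringKrullDim, hs])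
    (SegreLC.cmRing_iff.1 inferInstance).2 (SegreLC.cmRing_iff.1 inferInstance).2 h2r h2s hmR hmS
    (SegreLC.agRes I) (SegreLC.agRes J)
  rw [SegreLC.cmRing_iff, and_iff_right hTn, key]
  exact and_congr (forall_congr' fun n => or_congr (hbA n) Iff.rfl) (forall_congr' fun n => or_congr Iff.rfl (hbB n))
end Groth.Agent.S18652
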