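import Groth.Statements.S18648
import Groth.Agent.S18652
import Groth.Agent.SegreLC.StdPiece
import Groth.Agent.GrLib.RegPoly

set_option autoImplicit false
universe u
open scoped TensorProduct
open GrSegre

namespace Groth.Agent.S18648

/-- Let R and S be standard graded rings defined over a field k which are Cohen–Macaulay, of dimensions
r ≥ 2 and s ≥ 2. Then the Segre product T = R # S is a Cohen–Macaulay ring if and only if a(R) < 0
and a(S) < 0. Here a graded ring defined over k is a commutative k-algebra of finite type, graded in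
nonnegative degrees by k-subspaces with degree-zero part k·1, and it is standard graded when its
irrelevant ideal is generated by the degree-one piece; the a-invariant a(R) is the largest degree in
which the graded local cohomology H^{dim R}_{R_+}(R), computed from a *injective resolution of R in
the graded category, is nonzero; the Segre product T = R # S = ⊕_n R_n ⊗_k S_n is presented
abstractly as a graded k-algebra T with an injective k-algebra homomorphism ψ : T → R ⊗_k S carrying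
T_n onto the k-span of the elementary tensors a ⊗ b with a ∈ R_n, b ∈ S_n. -/
theorem result (k : Type u) [Field k] (R : Type u) [CommRing R] [Algebra k R] (𝒜 : ℤ → Submodule k R) [GradedAlgebra 𝒜] (hposR : ∀ n : ℤ, n < 0 → 𝒜 n = ⊥) (h0R : 𝒜 0 = Submodule.span k {(1 : R)}) [Algebra.FiniteType k R] (S : Type u) [CommRing S] [Algebra k S] (ℬ : ℤ → Submodule k S) [GradedAlgebra ℬ] (hposS : ∀ n : ℤ, n < 0 → ℬ n = ⊥) (h0S : ℬ 0 = Submodule.span k {(1 : S)}) [Algebra.FiniteType k S] (T : Type u) [CommRing T] [Algebra k T] (𝒯 : ℤ → Submodule k T) [GradedAlgebra 𝒯] (ψ : T →ₐ[k] TensorProduct k R S) (hψ : Function.Injective ψ) (hdegT : ∀ n : ℤ, (𝒯 n).map ψ.toLinearMap = Submodule.span k {x : TensorProduct k R S | ∃ a ∈ 𝒜 n, ∃ b ∈ ℬ n, x = a ⊗ₜ[k] b}) [LocCoh.IsCohenMacaulayRing R] [LocCoh.IsCohenMacaulayRing S] (mR : HomogeneousIdeal 𝒜) (hmR : mR.toIdeal = Ideal.span (⋃ n ∈ Set.Ioi (0 : ℤ), (𝒜 n : Set R))) (hstdR : Ideal.span (⋃ n ∈ Set.Ioi (0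 : ℤ), (𝒜 n : Set R)) = Ideal.span ((𝒜 1 : Submodule k R) : Set R)) (I : GrLC.StarInjRes 𝒜 𝒜) (mS : HomogeneousIdeal ℬ) (hmS : mS.toIdeal = Ideal.span (⋃ n ∈ Set.Ioi (0 : ℤ), (ℬ n : Set S))) (hstdS : Ideal.span (⋃ n ∈ Set.Ioi (0 : ℤ), (ℬ n : Set S)) = Ideal.span ((ℬ 1 : Submodule k S) : Set S)) (J : GrLC.StarInjRes ℬ ℬ) (r s : ℕ) (hr : ringKrullDim R = r) (hs : ringKrullDim S = s) (h2r : 2 ≤ r) (h2s : 2 ≤ s) : LocCoh.IsCohenMacaulayRing T ↔ GrLC.endDeg (I.Hgr mR r) < 0 ∧ GrLC.endDeg (J.Hgr mS s) < 0 := by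
  classical
  rw [S18652.result k R 𝒜 hposR h0R S ℬ hposS h0S T 𝒯 ψ hψ hdegT mR hmR I mS hmS J r s hr hs h2r h2s]
  have key : ∀ {H : Type u} [AddCommGroup H] (f : ℤ → AddSubgroup H),
      GrLC.endDeg f < 0 ↔ ∀ n : ℤ, 0 ≤ n → f n = ⊥ := fun f => by
    refine ⟨fun h n hn => ?_, fun h => ?_⟩
    · by_contra hne
      have h1 : ((n : WithTop ℤ) : WithBot (WithTop ℤ)) ≤ GrLC.endDeg f :=
        le_iSup₂ (f := fun (m : ℤ) (_ : f m ≠ ⊥) => ((m : WithTop ℤ) : WithBot (WithTop ℤ))) n hne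
      exact absurd (h1.trans_lt h) (not_lt.2 (by exact_mod_cast hn))
    · refine lt_of_le_of_lt (b := (((-1 : ℤ) : WithTop ℤ) : WithBot (WithTop ℤ))) ((GrLib.endDeg_le_int f (-1)).2 fun n hn => (AddSubgroup.eq_bot_iff_forall _).1 (h n (by omega))) ?_
      rw [← WithBot.coe_zero, WithBot.coe_lt_coe, ← WithTop.coe_zero, WithTop.coe_lt_coe]
      omega
  have hA := SegreLC.piece_ne_bot 𝒜 hposR h0R hstdR hr (by omega)
  have hB := SegreLC.piece_ne_bot ℬ hposS h0S hstdS hs (by omega)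
  have hH : ∀ {R' : Type u} [CommRing R'] [Algebra k R'] {𝒜' : ℤ → Submodule k R'} [GradedAlgebra 𝒜']
      (I' : GrLC.StarInjRes 𝒜' 𝒜') (m : HomogeneousIdeal 𝒜') (i : ℕ) (n : ℤ),
      I'.Hgr m i n = ⊥ ↔ I'.Hcomp m i n = ⊥ := fun I' m i n => by
    rw [AddSubgroup.eq_bot_iff_forall, Submodule.eq_bot_iff]; rfl
  rw [key, key, and_comm]
  refine and_congr ⟨fun h n hn => (hH I mR r n).2 ((h n).resolve_right (hB n hn)), fun h n => ?_⟩
    ⟨fun h n hn => (hH J mS s n).2 ((h n).resolve_left (hA n hn)), fun h n => ?_⟩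
  · rcases lt_or_ge n 0 with hn | hn
    · exact Or.inr (hposS n hn)
    · exact Or.inl ((hH I mR r n).1 (h n hn))
  · rcases lt_or_ge n 0 with hn | hn
    · exact Or.inl (hposR n hn)
    · exact Or.inr ((hH J mS s n).1 (h n hn))
end Groth.Agent.S18648
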