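import Groth.Statements.S18649
import Groth.Agent.SegreLC.GorFactor
import Groth.Agent.S18648

set_option autoImplicit false
universe u
open scoped TensorProduct
open GrSegre

namespace Groth.Agent.S18649

/-- Let R and S be standard graded rings defined over a field k which are Cohen–Macaulay, of dimensions
r ≥ 2 and s ≥ 2. Whenever their Segre product T = R # S is Gorenstein, both R and S are Gorenstein,
and their a-invariants agree and are negative: a(R) = a(S) < 0. Here a graded ring defined over k is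
a commutative k-algebra of finite type, graded in nonnegative degrees by k-subspaces with
degree-zero part k·1, and it is standard graded when its irrelevant ideal is generated by the
degree-one piece; the a-invariant a(R) is the largest degree in which the graded local cohomology
H^{dim R}_{R_+}(R), computed from a *injective resolution of R in the graded category, is nonzero;
the Segre product T = R # S = ⊕_n R_n ⊗_k S_n is presented abstractly as a graded k-algebra T with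
an injective k-algebra homomorphism ψ : T → R ⊗_k S carrying T_n onto the k-span of the elementary
tensors a ⊗ b with a ∈ R_n, b ∈ S_n. -/
theorem result (k : Type u) [Field k] (R : Type u) [CommRing R] [Algebra k R] (𝒜 : ℤ → Submodule k R) [GradedAlgebra 𝒜] (hposR : ∀ n : ℤ, n < 0 → 𝒜 n = ⊥) (h0R : 𝒜 0 = Submodule.span k {(1 : R)}) [Algebra.FiniteType k R] (S : Type u) [CommRing S] [Algebra k S] (ℬ : ℤ → Submodule k S) [GradedAlgebra ℬ] (hposS : ∀ n : ℤ, n < 0 → ℬ n = ⊥) (h0S : ℬ 0 = Submodule.span k {(1 : S)}) [Algebra.FiniteType k S] (T : Type u) [CommRing T] [Algebra k T] (𝒯 : ℤ → Submodule k T) [GradedAlgebra 𝒯] (ψ : T →ₐ[k] TensorProduct k R S) (hψ : Function.Injective ψ) (hdegT : ∀ n : ℤ, (𝒯 n).map ψ.toLinearMap = Submodule.span k {x : TensorProduct k R S | ∃ a ∈ 𝒜 n, ∃ b ∈ ℬ n, x = a ⊗ₜ[k] b}) [LocCoh.IsCohenMacaulayRing R] [LocCoh.IsCohenMacaulayRing S] (mR : HomogeneousIdeal 𝒜) (hmR : mR.toIdeal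 = Ideal.span (⋃ n ∈ Set.Ioi (0 : ℤ), (𝒜 n : Set R))) (hstdR : Ideal.span (⋃ n ∈ Set.Ioi (0 : ℤ), (𝒜 n : Set R)) = Ideal.span ((𝒜 1 : Submodule k R) : Set R)) (I : GrLC.StarInjRes 𝒜 𝒜) (mS : HomogeneousIdeal ℬ) (hmS : mS.toIdeal = Ideal.span (⋃ n ∈ Set.Ioi (0 : ℤ), (ℬ n : Set S))) (hstdS : Ideal.span (⋃ n ∈ Set.Ioi (0 : ℤ), (ℬ n : Set S)) = Ideal.span ((ℬ 1 : Submodule k S) : Set S)) (J : GrLC.StarInjRes ℬ ℬ) (r s : ℕ) (hr : ringKrullDim R = r) (hs : ringKrullDim S = s) (h2r : 2 ≤ r) (h2s : 2 ≤ s) [LocCoh.IsGorensteinRing T] : LocCoh.IsGorensteinRing R ∧ LocCoh.IsGorensteinRing S ∧ GrLC.endDeg (I.Hgr mR r) = GrLC.endDeg (J.Hgr mS s) ∧ GrLC.endDeg (I.Hgr mR r) < 0 := by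
  classical
  haveI hcmT : LocCoh.IsCohenMacaulayRing T := ⟨fun p _ => by
    haveI := LocCoh.IsGorensteinRing.isGorensteinLocalRing_localization (A := T) p
    exact LocCoh.isCohenMacaulayLocalRing_of_gorenstein⟩
  have hneg := (S18648.result k R 𝒜 hposR h0R S ℬ hposS h0S T 𝒯 ψ hψ hdegT mR hmR hstdR I mS hmS hstdS J r s hr hs
    h2r h2s).1 hcmT
  haveI : Nontrivial R := not_subsingleton_iff_nontrivial.1 fun _ => by
    rw [ringKrullDim_eq_bot_of_subsingleton] at hr; exact WithBot.bot_ne_natCast r hr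
  haveI : Nontrivial S := not_subsingleton_iff_nontrivial.1 fun _ => by
    rw [ringKrullDim_eq_bot_of_subsingleton] at hs; exact WithBot.bot_ne_natCast s hs
  haveI := Algebra.FiniteType.isNoetherianRing k R
  haveI := Algebra.FiniteType.isNoetherianRing k S
  have hT : GrSeg.IsSegreRing 𝒜 ℬ 𝒯 ψ := ⟨hψ, hdegT⟩
  haveI := SegreLC.segre_noetherian hT
  haveI : Nontrivial T := ⟨⟨0, 1, fun h => one_ne_zero (α := TensorProduct k R S) (by rw [← map_one ψ, ← h, map_zero])⟩⟩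
  obtain ⟨hposT, h0T⟩ := SegreDim.segre_pos_and_zero 𝒜 hposR h0R ℬ hposS h0S 𝒯 ψ hψ hdegT
  haveI : Algebra.FiniteType k T := SegreDim.finiteType_of_isNoetherianRing 𝒯 hposT h0T
  let mT : HomogeneousIdeal 𝒯 := ⟨SegreDim.irr 𝒯, SegreDim.irr_isHomogeneous 𝒯⟩
  have hmT : mT.toIdeal = Ideal.span (⋃ n ∈ Set.Ioi (0 : ℤ), (𝒯 n : Set T)) := rfl
  obtain ⟨r', rfl⟩ : ∃ r', r = r' + 1 := ⟨r - 1, by omega⟩
  obtain ⟨s', rfl⟩ : ∃ s', s = s' + 1 := ⟨s - 1, by omega⟩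
  have hdimT := SegreDim.ringKrullDim_segre 𝒜 hposR h0R ℬ hposS h0S 𝒯 ψ hψ hdegT r' s' hr hs
  obtain ⟨hlR, hmaxR⟩ := SegreLC.starLocal_irr 𝒜 hposR h0R hmR
  obtain ⟨hlS, hmaxS⟩ := SegreLC.starLocal_irr ℬ hposS h0S hmS
  obtain ⟨hlT, hmaxT⟩ := SegreLC.starLocal_irr 𝒯 hposT h0T hmT
  haveI := hmaxR
  haveI := hmaxS
  obtain ⟨XE, eR, heR⟩ := SegreLC.exists_residueHull mR
  obtain ⟨YE, eS, heS⟩ := SegreLC.exists_residueHull mS
  obtain ⟨ZE, eT, heT⟩ := SegreLC.exists_residueHull mT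
  let IT := GrLib.starRes 𝒯 𝒯
  let IT' : GrLC.StarInjRes 𝒯 (SegreLC.agGr 𝒯) := SegreLC.agRes IT
  obtain ⟨g, φT, hφT⟩ := SegreLC.exists_top_equiv' mT hlT (r' + 1 + (s' + 1) - 1)
    (SegreLC.height_irr 𝒯 hposT h0T hmT (hdimT.trans (by norm_cast))) IT heT
  obtain ⟨ν, hν, hνb⟩ := SegreLC.exists_topIso_ring hposR h0R hposS h0S hT hmR hmS hmT I J IT hr hs h2r h2s
  let X := SegreLC.HG I mR (r' + 1)
  let Y := SegreLC.HG J mS (s' + 1)
  let Φ : (SegreLC.seg hT.2 X Y).carrier ≃ₗ[T] ZE.carrier := (LinearEquiv.ofBijective ν hνb).trans φT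
  have hΦg : GrLC.IsGrHomDeg (SegreLC.seg hT.2 X Y).gr ZE.gr Φ.toLinearMap g := fun d w hw => hφT d _ (hν d w hw)
  -- the top of the two factors
  have hbd : ∀ {H : Type u} [AddCommGroup H] (f : ℤ → AddSubgroup H), GrLC.endDeg f < 0 →
      ∀ n : ℤ, 0 ≤ n → f n = ⊥ := fun f h n hn => by
    by_contra hne
    have h1 : ((n : WithTop ℤ) : WithBot (WithTop ℤ)) ≤ GrLC.endDeg f :=
      le_iSup₂ (f := fun (m : ℤ) (_ : f m ≠ ⊥) => ((m : WithTop ℤ) : WithBot (WithTop ℤ))) n hne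
    exact absurd (h1.trans_lt h) (not_lt.2 (by exact_mod_cast hn))
  have hsoc := SegreLC.symm_grHomDeg Φ hΦg 0 _ (SegreLC.socle_mem ZE heT)
  rw [zero_add] at hsoc
  have hsoc0 : Φ.symm (eT (Ideal.Quotient.mk mT.toIdeal 1)) ≠ 0 := fun h =>
    SegreLC.socle_ne_zero ZE heT (SegreLC.top_ne_of_irrelevant hposT hmT) (Φ.symm.map_eq_zero_iff.1 h)
  have hc : (∃ x ∈ X.gr (-g), x ≠ 0) ∧ ∃ x ∈ Y.gr (-g), x ≠ 0 := by
    by_contra hcon
    refine hsoc0 (SegreLC.segInc_injective hT.2 X Y ?_)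
    rw [map_zero]
    refine (Submodule.mem_bot k).1 ((Submodule.span_le (p := (⊥ : Submodule k _))).2 ?_ hsoc)
    rintro _ ⟨p, hp, q, hq, rfl⟩
    rcases not_and_or.1 hcon with h | h
    · rw [show p = 0 from by_contra fun h0 => h ⟨p, hp, h0⟩, TensorProduct.zero_tmul]; exact zero_mem _
    · rw [show q = 0 from by_contra fun h0 => h ⟨q, hq, h0⟩, TensorProduct.tmul_zero]; exact zero_mem _
  have hne : ∀ {H : Type u} [AddCommGroup H] {f : ℤ → AddSubgroup H} {n : ℤ}, f n ≠ ⊥ → ∃ x ∈ f n, x ≠ 0 :=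
    fun h => by
      by_contra hcon
      push Not at hcon
      exact h ((AddSubgroup.eq_bot_iff_forall _).2 hcon)
  have hne' : ∀ {H : Type u} [AddCommGroup H] {f : ℤ → AddSubgroup H} {n : ℤ}, (∃ x ∈ f n, x ≠ 0) → f n ≠ ⊥ :=
    fun ⟨x, hx, hx0⟩ h => hx0 ((AddSubgroup.eq_bot_iff_forall _).1 h x hx)
  obtain ⟨a, ha, hamax⟩ := Int.exists_greatest_of_bdd (P := fun n => X.gr n ≠ ⊥)
    ⟨0, fun n hn => not_lt.1 fun h => hn (hbd _ hneg.1 n h.le)⟩ ⟨-g, hne' hc.1⟩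
  obtain ⟨b, hb, hbmax⟩ := Int.exists_greatest_of_bdd (P := fun n => Y.gr n ≠ ⊥)
    ⟨0, fun n hn => not_lt.1 fun h => hn (hbd _ hneg.2 n h.le)⟩ ⟨-g, hne' hc.2⟩
  have hXne : ∀ n ≤ a, ∃ x ∈ X.gr n, x ≠ 0 := fun n hn => by
    rcases hn.lt_or_eq with h | rfl
    · by_contra hcon
      push Not at hcon
      obtain ⟨y, hy, hy0⟩ := hne ha
      exact SegreLC.not_line hposR h0R hstdR hr h2r mR I h hy hy0 0 fun x hx => by
        rw [hcon x hx]; exact zero_mem _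
    · exact hne ha
  have hYne : ∀ n ≤ b, ∃ x ∈ Y.gr n, x ≠ 0 := fun n hn => by
    rcases hn.lt_or_eq with h | rfl
    · by_contra hcon
      push Not at hcon
      obtain ⟨y, hy, hy0⟩ := hne hb
      exact SegreLC.not_line hposS h0S hstdS hs h2s mS J h hy hy0 0 fun x hx => by
        rw [hcon x hx]; exact zero_mem _
    · exact hne hb
  have hca : -g ≤ a := hamax _ (hne' hc.1)
  have hcb : -g ≤ b := hbmax _ (hne' hc.2)
  have hmin : ∀ n, n ≤ a → n ≤ b → n ≤ -g := fun n hna hnb => by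
    obtain ⟨x, hx, hx0⟩ := hXne n hna
    obtain ⟨y, hy, hy0⟩ := hYne n hnb
    have hm : x ⊗ₜ[k] y ∈ GrSeg.segrePiece k X.gr Y.gr n := Submodule.subset_span ⟨x, hx, y, hy, rfl⟩
    obtain ⟨w, hw⟩ := SegreLC.exists_seg hT.2 X Y (SegreLC.piece_le_segSub X Y n hm)
    by_contra hlt
    have hwn : w ∈ (SegreLC.seg hT.2 X Y).gr n := by rw [SegreLC.mem_seg_gr, hw]; exact hm
    have h0 := SegreLC.hull_gr_pos hposT hmT heT (show 0 < n + g by omega) (hΦg n w hwn)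
    refine SegreLC.tmul_ne_zero' X Y hx0 hy0 ?_
    rw [← hw, Φ.map_eq_zero_iff.1 h0, map_zero]
  obtain ⟨x₀, hx₀, hx₀0⟩ := hc.1
  obtain ⟨y₀, hy₀, hy₀0⟩ := hc.2
  obtain ⟨lamY, hlamY⟩ := (LinearMap.toSpanSingleton k _ y₀).exists_leftInverse_of_injective
    (LinearMap.ker_toSpanSingleton k hy₀0)
  obtain ⟨lamX, hlamX⟩ := (LinearMap.toSpanSingleton k _ x₀).exists_leftInverse_of_injective
    (LinearMap.ker_toSpanSingleton k hx₀0)
  have hY1 : lamY y₀ = 1 := by simpa using LinearMap.congr_fun hlamY 1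
  have hX1 : lamX x₀ = 1 := by simpa using LinearMap.congr_fun hlamX 1
  have hline : ∀ (x : X.carrier) (y : Y.carrier), x ∈ X.gr (-g) → y ∈ Y.gr (-g) →
      ∃ c : k, x ⊗ₜ[k] y = c • (x₀ ⊗ₜ[k] y₀) := by
    intro x y hx hy
    have hm : ∀ (x : X.carrier) (y : Y.carrier), x ∈ X.gr (-g) → y ∈ Y.gr (-g) →
        ∃ c : k, x ⊗ₜ[k] y = c • SegreLC.segInc hT.2 X Y (Φ.symm (eT (Ideal.Quotient.mk mT.toIdeal 1))) := by
      intro x y hx hy
      have hm : x ⊗ₜ[k] y ∈ GrSeg.segrePiece k X.gr Y.gr (-g) := Submodule.subset_span ⟨x, hx, y, hy, rfl⟩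
      obtain ⟨w, hw⟩ := SegreLC.exists_seg hT.2 X Y (SegreLC.piece_le_segSub X Y _ hm)
      have hwn : w ∈ (SegreLC.seg hT.2 X Y).gr (-g) := by rw [SegreLC.mem_seg_gr, hw]; exact hm
      have h0 := hΦg _ w hwn
      rw [neg_add_cancel] at h0
      obtain ⟨c, hc⟩ := SegreLC.exists_socle_coeff hposT h0T hmT ZE heT h0
      refine ⟨c, ?_⟩
      rw [← map_smul, ← hw]
      refine congrArg _ (Φ.injective ?_)
      rw [← algebraMap_smul T c (Φ.symm _), map_smul, Φ.apply_symm_apply, algebraMap_smul]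
      exact hc
    obtain ⟨c, hc⟩ := hm x y hx hy
    obtain ⟨c₀, hc₀⟩ := hm x₀ y₀ hx₀ hy₀
    have hc₀0 : c₀ ≠ 0 := fun h => SegreLC.tmul_ne_zero' X Y hx₀0 hy₀0 (by rw [hc₀, h, zero_smul])
    exact ⟨c / c₀, by rw [hc, hc₀, smul_smul, div_mul_cancel₀ _ hc₀0]⟩
  have hXl : ∀ x ∈ X.gr (-g), x ∈ Submodule.span k {x₀} := fun x hx => by
    obtain ⟨c, hc⟩ := hline x y₀ hx hy₀
    have h1 := congrArg ((TensorProduct.rid k X.carrier).toLinearMap.comp (lamY.lTensor X.carrier)) hc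
    simp [hY1] at h1
    exact Submodule.mem_span_singleton.2 ⟨c, h1.symm⟩
  have hYl : ∀ y ∈ Y.gr (-g), y ∈ Submodule.span k {y₀} := fun y hy => by
    obtain ⟨c, hc⟩ := hline x₀ y hx₀ hy
    have h1 := congrArg ((TensorProduct.lid k Y.carrier).toLinearMap.comp (lamX.rTensor Y.carrier)) hc
    simp [hX1] at h1
    exact Submodule.mem_span_singleton.2 ⟨c, h1.symm⟩
  have haeq : a = -g := by
    by_contra h
    obtain ⟨y, hy, hy0⟩ := hne ha
    exact SegreLC.not_line hposR h0R hstdR hr h2r mR I (show -g < a by omega) hy hy0 x₀ hXl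
  have hbeq : b = -g := by
    by_contra h
    obtain ⟨y, hy, hy0⟩ := hne hb
    exact SegreLC.not_line hposS h0S hstdS hs h2s mS J (show -g < b by omega) hy hy0 y₀ hYl
  subst haeq
  subst hbeq
  have hX : ∀ n, -g < n → ∀ x ∈ X.gr n, x = 0 := fun n hn x hx => by
    by_contra h0
    have := hamax n (hne' ⟨x, hx, h0⟩)
    omega
  have hY : ∀ n, -g < n → ∀ x ∈ Y.gr n, x = 0 := fun n hn x hx => by
    by_contra h0
    have := hbmax n (hne' ⟨x, hx, h0⟩)
    omega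
  have hfin : ∀ d, Module.Finite k (SegreLC.kpiece ZE d) := fun d => by
    have hpT : ∀ c : ℤ, c < 0 → ∀ x ∈ 𝒯 c, x = 0 := fun c hc x hx => (Submodule.mem_bot k).1 (hposT c hc ▸ hx)
    haveI : Module.Finite T (GrLC.GMod.of 𝒯 T (SegreLC.agGr 𝒯)).carrier := Module.Finite.self T
    haveI : Module.Finite k (SegreLC.kpiece (SegreLC.HG IT' mT (r' + 1 + (s' + 1) - 1)) (d + -g)) :=
      (SegreLC.finite_HG h0T (GrLC.GMod.of 𝒯 T (SegreLC.agGr 𝒯)) IT' hpT hmT (r' + 1 + (s' + 1) - 1) (d + -g)).1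
    let f : SegreLC.kpiece ZE d →ₗ[k]
        SegreLC.kpiece (SegreLC.HG IT' mT (r' + 1 + (s' + 1) - 1)) (d + -g) :=
      { toFun := fun z => ⟨φT.symm z.1, SegreLC.symm_grHomDeg (M := (SegreLC.HG IT mT _).carrier)
          (ℳ := (SegreLC.HG IT mT _).gr) φT hφT d z.1 z.2⟩
        map_add' := fun u v => Subtype.ext (map_add φT.symm u.1 v.1)
        map_smul' := fun c u => Subtype.ext (map_smul φT.symm (algebraMap k T c) u.1) }
    exact Module.Finite.of_injective f fun u v h => Subtype.ext (φT.symm.injective (congrArg Subtype.val h))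
  obtain ⟨⟨φR, hφR⟩, φS, hφS⟩ := SegreLC.exists_factor_equivs hposR h0R hmR heR hposS h0S hmS heS hT.2 hposT hmT heT
    X Y (a := -g) Φ (by rwa [neg_neg]) h0T hψ hx₀ hx₀0 hXl hy₀ hy₀0 hYl hX hY hXne hYne hfin
  refine ⟨SegreLC.gorenstein_of_top_starInj mR hlR (r' + 1) (SegreLC.height_irr 𝒜 hposR h0R hmR hr) I
      (GrLib.shiftGMod 𝒜 XE.gr (- -g)) φR (GrLib.isStarInj_shift heR.starInj (- -g)),
    SegreLC.gorenstein_of_top_starInj mS hlS (s' + 1) (SegreLC.height_irr ℬ hposS h0S hmS hs) J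
      (GrLib.shiftGMod ℬ YE.gr (- -g)) φS (GrLib.isStarInj_shift heS.starInj (- -g)), ?_, hneg.1⟩
  have h1 := SegreLC.endDeg_of_hull_shift hposR hmR heR (H := X) φR hφR
  have h2 := SegreLC.endDeg_of_hull_shift hposS hmS heS (H := Y) φS hφS
  exact h1.trans h2.symm

end Groth.Agent.S18649
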