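import Groth.Statements.S1865
import Groth.Agent.AlgGrpLib.DenseMul

set_option autoImplicit false
universe u v
open CategoryTheory MonoidalCategory CartesianMonoidalCategory MonObj GrpObj AlgebraicGeometry
open GrpSch

namespace Groth.Agent.S1865
open Groth.Agent.AlgGrpLib MonoidalCategory CartesianMonoidalCategory MonObj

/-- A group scheme over a field contains an open and closed subset containing the identity point which
is a countable union of affine opens. (The source does not mention the identity point; its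
construction contains it, and without it the empty set would do.) -/
theorem result (K : Type u) [Field K] (G : Over (Spec (CommRingCat.of K))) [GrpObj G] : ∃ U : G.left.Opens, IsClosed (U : Set G.left) ∧ η[G].left (IsLocalRing.closedPoint K) ∈ U ∧ ∃ V : ℕ → G.left.Opens, (∀ n, IsAffineOpen (V n)) ∧ (U : Set G.left) = ⋃ n, (V n : Set G.left) := by
  set e₀ := η[G].left (IsLocalRing.closedPoint K)
  obtain ⟨U, (hU : IsAffineOpen U), heU, -⟩ :=
    TopologicalSpace.Opens.isBasis_iff_nbhd.1 G.left.isBasis_affineOpens (U := ⊤) (TopologicalSpace.Opens.mem_top e₀)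
  let step : G.left.Opens → G.left.Opens := fun W =>
    ⟨μ[G].left.base '' DenseMul.prodSet (U : Set G.left) (W : Set G.left), DenseMul.isOpenMap_mul _
      ((U.isOpen.preimage (fst G G).left.continuous).inter (W.isOpen.preimage (snd G G).left.continuous))⟩
  let P : ℕ → G.left.Opens := fun n => step^[n] U
  have hPs : ∀ n, P (n + 1) = step (P n) := fun n => Function.iterate_succ_apply' step n U
  have hc : ∀ n, IsCompact (P n : Set G.left) := by
    intro n
    induction n with
    | zero => exact hU.isCompact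
    | succ n ih => rw [hPs]; exact (DenseMul.isCompact_prodSet U (P n) hU.isCompact ih).image μ[G].left.continuous
  let W : G.left.Opens := ⨆ n, P n
  have hW : (W : Set G.left) = ⋃ n, (P n : Set G.left) := TopologicalSpace.Opens.coe_iSup P
  have hclosed : IsClosed (W : Set G.left) := isClosed_of_closure_subset fun z hz => by
    obtain ⟨r, ⟨hr1, hr2⟩, hr3⟩ := DenseMul.mem_mul_of_closure (V := (W : Set G.left)) z U.isOpen (fun o => by
      change η[G].left.base ((toUnit (DenseMul.ptObj z)).left.base o) ∈ (U : Set G.left)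
      rwa [Subsingleton.elim (α := ↥(Spec (CommRingCat.of K))) ((toUnit (DenseMul.ptObj z)).left.base o)
        (IsLocalRing.closedPoint K)]) hz
    rw [hW] at hr2 ⊢
    obtain ⟨n, hn⟩ := Set.mem_iUnion.1 hr2
    exact Set.mem_iUnion.2 ⟨n + 1, by rw [hPs]; exact ⟨r, ⟨hr1, hn⟩, hr3⟩⟩
  choose s hs hP using fun n => isCompact_and_isOpen_iff_finite_and_eq_biUnion_affineOpens.1 ⟨hc n, (P n).isOpen⟩
  let A : Set G.left.affineOpens := (⋃ n, s n) ∪ {⟨U, hU⟩}
  have hA : A.Countable := (Set.countable_iUnion fun n => (hs n).countable).union (Set.countable_singleton _)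
  obtain ⟨V, hV⟩ := hA.exists_eq_range ⟨_, Or.inr rfl⟩
  refine ⟨W, hclosed, TopologicalSpace.Opens.mem_iSup.2 ⟨0, heU⟩, fun n => (V n).1, fun n => (V n).2, ?_⟩
  ext z
  rw [hW]
  simp only [Set.mem_iUnion]
  constructor
  · rintro ⟨n, hn⟩
    rw [hP n] at hn
    obtain ⟨i, hi, hzi⟩ := Set.mem_iUnion₂.1 hn
    obtain ⟨m, rfl⟩ : i ∈ Set.range V := hV ▸ Or.inl (Set.mem_iUnion.2 ⟨n, hi⟩)
    exact ⟨m, hzi⟩
  · rintro ⟨m, hm⟩
    rcases (show V m ∈ A from hV.symm ▸ Set.mem_range_self m) with h | h
    · obtain ⟨n, hn⟩ := Set.mem_iUnion.1 h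
      exact ⟨n, (hP n).symm ▸ Set.mem_iUnion₂.2 ⟨V m, hn, hm⟩⟩
    · rw [Set.mem_singleton_iff.1 h] at hm
      exact ⟨0, hm⟩

end Groth.Agent.S1865
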