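import Groth.Statements.S18656
import Groth.Agent.GrLib.Reg
import Groth.Agent.GrLib.Piece
import Groth.Agent.GrLib.Acyclic
import Groth.Agent.LocCoh.Vanishing
import Mathlib

set_option autoImplicit false
universe u
open GrLC

namespace Groth.Agent.S18656

/-- Let R be a graded ring defined over a field k = R_0, generated over k by R_1, of dimension r ≥ 1,
and let a(R) be its a-invariant. Then the homogeneous piece H^r_m(R)_n is nonzero for every n ≤
a(R). Here 'graded ring defined over a field' means R = ⊕_{n ≥ 0} R_n is Noetherian with R_0 a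
field, and m = R_+ is its unique graded maximal ideal. The a-invariant a(R) is the largest degree in
which the graded local cohomology H^n_m(R) (n = dim R, m = R_+), computed from a *injective
resolution of R in the graded category, is nonzero. -/
theorem result (R : Type u) [CommRing R] [IsNoetherianRing R] (𝒜 : ℤ → AddSubgroup R) [GradedRing 𝒜] (hpos : ∀ n : ℤ, n < 0 → 𝒜 n = ⊥) (h0 : IsField (GrLC.deg0 𝒜)) (m : HomogeneousIdeal 𝒜) (hm : GrLC.IsStarLocal 𝒜 m) (hmsp : m.toIdeal = Ideal.span (⋃ n ∈ Set.Ioi (0 : ℤ), (𝒜 n : Set R))) (hstd : Ideal.span (⋃ n ∈ Set.Ioi (0 : ℤ), (𝒜 n : Set R)) = Ideal.span ((𝒜 1 : AddSubgroup R) : Set R)) (r : ℕ) (hr : ringKrullDim R = r) (h1 : 1 ≤ r) (I : GrLC.StarInjRes 𝒜 𝒜) (a : ℤ) (ha : GrLC.endDeg (I.Hgr m r) = ((a : WithTop ℤ) : WithBot (WithTop ℤ))) (n : ℤ) (hn : n ≤ a) : I.Hcomp m r n ≠ ⊥ := by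
  have hspan : m.toIdeal = Ideal.span ((𝒜 1 : AddSubgroup R) : Set R) := hmsp.trans hstd
  have hvan : ∀ i : ℕ, r < i → ∀ k : ℤ, I.Hgr m i k = ⊥ := by
    intro i hi k
    obtain ⟨e⟩ := Groth.Agent.GrLib.nonempty_H_equiv I m i
    haveI : Subsingleton (_root_.LocCoh.H m.toIdeal i R) :=
      Groth.Agent.LocCoh.subsingleton_H_of_supportDim_lt (by
        rw [Module.supportDim_self_eq_ringKrullDim, hr]; exact_mod_cast hi)
    haveI := e.toEquiv.subsingleton
    exact AddSubgroup.eq_bot_iff_forall _ |>.2 fun x _ => Subsingleton.elim _ _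
  intro hb
  rw [← Groth.Agent.GrLib.Hgr_eq_bot_iff] at hb
  have hprop : ∀ k, n ≤ k → I.Hgr m r k = ⊥ := by
    intro k hk
    induction k, hk using Int.le_induction with
    | base => exact hb
    | succ k _ ih =>
      have h := Groth.Agent.GrLib.Hgr_eq_bot_succ I m hspan h1 (k + r) (fun i hi => by
        rcases Nat.eq_or_lt_of_le hi with rfl | h
        · rwa [add_sub_cancel_right]
        · exact hvan i h _) r le_rfl
      rwa [show k + (r : ℤ) + 1 - r = k + 1 by ring] at h
  have hle : GrLC.endDeg (I.Hgr m r) ≤ (((n - 1 : ℤ) : WithTop ℤ) : WithBot (WithTop ℤ)) := by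
    refine iSup₂_le fun k hk => WithBot.coe_le_coe.2 (WithTop.coe_le_coe.2 ?_)
    by_contra hlt
    exact hk (hprop k (by omega))
  rw [ha, WithBot.coe_le_coe, WithTop.coe_le_coe] at hle
  omega

end Groth.Agent.S18656
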