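import Groth.Statements.S18659
import Groth.Agent.SegreLC.SegreGor

set_option autoImplicit false
universe u
open scoped TensorProduct
open GrSegre

namespace Groth.Agent.S18659

/-- Let R and S be graded rings defined over a field k which are Gorenstein, of dimensions r ≥ 2 and s ≥
2, with a(R) = a(S). If the Segre product T = R # S is a Cohen–Macaulay ring, then T is a Gorenstein
ring. (No generation in degree one is assumed here.) Here a graded ring defined over k is a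
commutative k-algebra of finite type, graded in nonnegative degrees by k-subspaces with degree-zero
part k·1; the a-invariant a(R) is the largest degree in which the graded local cohomology H^{dim
R}_{R_+}(R), computed from a *injective resolution of R in the graded category, is nonzero; the
Segre product T = ⊕_n R_n ⊗_k S_n is presented abstractly as a graded k-algebra T with an injective
k-algebra homomorphism ψ : T → R ⊗_k S carrying T_n onto the k-span of the elementary tensors a ⊗ b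
with a ∈ R_n, b ∈ S_n. -/
theorem result (k : Type u) [Field k] (R : Type u) [CommRing R] [Algebra k R] (𝒜 : ℤ → Submodule k R) [GradedAlgebra 𝒜] (hposR : ∀ n : ℤ, n < 0 → 𝒜 n = ⊥) (h0R : 𝒜 0 = Submodule.span k {(1 : R)}) [Algebra.FiniteType k R] (S : Type u) [CommRing S] [Algebra k S] (ℬ : ℤ → Submodule k S) [GradedAlgebra ℬ] (hposS : ∀ n : ℤ, n < 0 → ℬ n = ⊥) (h0S : ℬ 0 = Submodule.span k {(1 : S)}) [Algebra.FiniteType k S] (T : Type u) [CommRing T] [Algebra k T] (𝒯 : ℤ → Submodule k T) [GradedAlgebra 𝒯] (ψ : T →ₐ[k] TensorProduct k R S) (hψ : Function.Injective ψ) (hdegT : ∀ n : ℤ, (𝒯 n).map ψ.toLinearMap = Submodule.span k {x : TensorProduct k R S | ∃ a ∈ 𝒜 n, ∃ b ∈ ℬ n, x = a ⊗ₜ[k] b}) [LocCoh.IsGorensteinRing R] [LocCoh.IsGorensteinRing S] (mR : HomogeneousIdeal 𝒜) (hmR : mR.toIdeal = Ideal.span (⋃ n ∈ Set.Ioi (0 : ℤ), (𝒜 n : Set R))) (I : GrLC.StarInjRes 𝒜 𝒜) (mS : HomogeneousIdeal ℬ) (hmS : mS.toIdeal = Ideal.span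 (⋃ n ∈ Set.Ioi (0 : ℤ), (ℬ n : Set S))) (J : GrLC.StarInjRes ℬ ℬ) (r s : ℕ) (hr : ringKrullDim R = r) (hs : ringKrullDim S = s) (h2r : 2 ≤ r) (h2s : 2 ≤ s) (haeq : GrLC.endDeg (I.Hgr mR r) = GrLC.endDeg (J.Hgr mS s)) [LocCoh.IsCohenMacaulayRing T] : LocCoh.IsGorensteinRing T := by
  classical
  haveI : Nontrivial R := not_subsingleton_iff_nontrivial.1 fun _ => by
    rw [ringKrullDim_eq_bot_of_subsingleton] at hr; exact WithBot.bot_ne_natCast r hr
  haveI : Nontrivial S := not_subsingleton_iff_nontrivial.1 fun _ => by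
    rw [ringKrullDim_eq_bot_of_subsingleton] at hs; exact WithBot.bot_ne_natCast s hs
  haveI := Algebra.FiniteType.isNoetherianRing k R
  haveI := Algebra.FiniteType.isNoetherianRing k S
  have hT : GrSeg.IsSegreRing 𝒜 ℬ 𝒯 ψ := ⟨hψ, hdegT⟩
  haveI := SegreLC.segre_noetherian hT
  haveI : Nontrivial T := ⟨⟨0, 1, fun h => one_ne_zero (α := TensorProduct k R S) (by rw [← map_one ψ, ← h, map_zero])⟩⟩
  obtain ⟨hposT, h0T⟩ := SegreDim.segre_pos_and_zero 𝒜 hposR h0R ℬ hposS h0S 𝒯 ψ hψ hdegT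
  let mT : HomogeneousIdeal 𝒯 := ⟨SegreDim.irr 𝒯, SegreDim.irr_isHomogeneous 𝒯⟩
  have hmT : mT.toIdeal = Ideal.span (⋃ n ∈ Set.Ioi (0 : ℤ), (𝒯 n : Set T)) := rfl
  obtain ⟨r', rfl⟩ : ∃ r', r = r' + 1 := ⟨r - 1, by omega⟩
  obtain ⟨s', rfl⟩ : ∃ s', s = s' + 1 := ⟨s - 1, by omega⟩
  have hdimT := SegreDim.ringKrullDim_segre 𝒜 hposR h0R ℬ hposS h0S 𝒯 ψ hψ hdegT r' s' hr hs
  obtain ⟨hlR, hmaxR⟩ := SegreLC.starLocal_irr 𝒜 hposR h0R hmR
  obtain ⟨hlS, hmaxS⟩ := SegreLC.starLocal_irr ℬ hposS h0S hmS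
  obtain ⟨hlT, hmaxT⟩ := SegreLC.starLocal_irr 𝒯 hposT h0T hmT
  haveI := hmaxT
  obtain ⟨XE, eR, heR⟩ := SegreLC.exists_residueHull mR
  obtain ⟨YE, eS, heS⟩ := SegreLC.exists_residueHull mS
  obtain ⟨ZE, eT, heT⟩ := SegreLC.exists_residueHull mT
  obtain ⟨g, φR, hφR⟩ := SegreLC.exists_top_equiv' mR hlR (r' + 1) (SegreLC.height_irr 𝒜 hposR h0R hmR hr) I heR
  obtain ⟨g', φS, hφS⟩ := SegreLC.exists_top_equiv' mS hlS (s' + 1) (SegreLC.height_irr ℬ hposS h0S hmS hs) J heS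
  have hg : g = g' := by
    have h1 := SegreLC.endDeg_of_hull_shift hposR hmR heR (H := SegreLC.HG I mR (r' + 1)) φR hφR
    have h2 := SegreLC.endDeg_of_hull_shift hposS hmS heS (H := SegreLC.HG J mS (s' + 1)) φS hφS
    have h3 := (h1.symm.trans haeq).trans h2
    rw [WithBot.coe_eq_coe, WithTop.coe_eq_coe] at h3
    omega
  subst hg
  let IT := GrLib.starRes 𝒯 𝒯
  obtain ⟨ν, hν, hνb⟩ := SegreLC.exists_topIso_ring hposR h0R hposS h0S hT hmR hmS hmT I J IT hr hs h2r h2s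
  obtain ⟨θ, hθ⟩ := SegreLC.exists_hullSeg hT.2 hposR h0R hmR heR hposS h0S hmS heS hposT h0T hmT heT hψ
  obtain ⟨F, hF⟩ := SegreLC.exists_segEquivDeg hT.2 (X := SegreLC.HG I mR (r' + 1)) (X' := XE)
    (Y := SegreLC.HG J mS (s' + 1)) (Y' := YE) φR φS hφR hφS
  let Φ := ((LinearEquiv.ofBijective ν hνb).symm.trans F).trans θ
  exact SegreLC.gorenstein_of_top_starInj mT hlT (r' + 1 + (s' + 1) - 1)
    (SegreLC.height_irr 𝒯 hposT h0T hmT (hdimT.trans (by norm_cast))) IT (GrLib.shiftGMod 𝒯 ZE.gr g) Φ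
    (GrLib.isStarInj_shift heT.starInj g)

end Groth.Agent.S18659
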