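import Groth.Statements.S18663
import Groth.Agent.SegreOne.Main
import Groth.Agent.SegreOne.Crit
import Groth.Agent.SegreDim.DimOne

set_option autoImplicit false
universe u
open scoped TensorProduct
open GrSegre

namespace Groth.Agent.S18663

/-- Let R and S be graded rings defined over a field k which are Cohen–Macaulay, with dim R = 1 and dim
S = s ≥ 1, and let T = R # S be their Segre product. (iii) If s ≥ 2, then T is a Cohen–Macaulay ring
if and only if H^1_{R_+}(R) # S = 0, that is, for every degree n, H^1_{R_+}(R)_n = 0 or S_n = 0.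
(iv) If s = 1, then T is a Cohen–Macaulay ring. Here a graded ring defined over k is a commutative
k-algebra of finite type, graded in nonnegative degrees by k-subspaces with degree-zero part k·1;
the graded local cohomology pieces are computed from a *injective resolution of R in the graded
category; the Segre product T = ⊕_n R_n ⊗_k S_n is presented abstractly as a graded k-algebra T with
an injective k-algebra homomorphism ψ : T → R ⊗_k S carrying T_n onto the k-span of the elementary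
tensors a ⊗ b with a ∈ R_n, b ∈ S_n. -/
theorem result (k : Type u) [Field k] (R : Type u) [CommRing R] [Algebra k R] (𝒜 : ℤ → Submodule k R) [GradedAlgebra 𝒜] (hposR : ∀ n : ℤ, n < 0 → 𝒜 n = ⊥) (h0R : 𝒜 0 = Submodule.span k {(1 : R)}) [Algebra.FiniteType k R] (S : Type u) [CommRing S] [Algebra k S] (ℬ : ℤ → Submodule k S) [GradedAlgebra ℬ] (hposS : ∀ n : ℤ, n < 0 → ℬ n = ⊥) (h0S : ℬ 0 = Submodule.span k {(1 : S)}) [Algebra.FiniteType k S] (T : Type u) [CommRing T] [Algebra k T] (𝒯 : ℤ → Submodule k T) [GradedAlgebra 𝒯] (ψ : T →ₐ[k] TensorProduct k R S) (hψ : Function.Injective ψ) (hdegT : ∀ n : ℤ, (𝒯 n).map ψ.toLinearMap = Submodule.span k {x : TensorProduct k R S | ∃ a ∈ 𝒜 n, ∃ b ∈ ℬ n, x = a ⊗ₜ[k] b}) [LocCoh.IsCohenMacaulayRing R] [LocCoh.IsCohenMacaulayRing S] (mR : HomogeneousIdeal 𝒜) (hmR : mR.toIdeal = Ideal.span (⋃ n ∈ Set.Ioi (0 : ℤ), (𝒜 n : Set R))) (I : GrLC.StarInjRes 𝒜 𝒜) (hr : ringKrullDim R = 1) (s : ℕ) (hs : ringKrullDim S =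 s) (h1s : 1 ≤ s) : (2 ≤ s → (LocCoh.IsCohenMacaulayRing T ↔ ∀ n : ℤ, I.Hcomp mR 1 n = ⊥ ∨ ℬ n = ⊥)) ∧ (s = 1 → LocCoh.IsCohenMacaulayRing T) := by
  have hcmR : ∀ (q : Ideal R) [q.IsPrime], Subsingleton (LocalizedModule q.primeCompl R) ∨
      LocCoh.IsCohenMacaulayModule (Localization.AtPrime q) (LocalizedModule q.primeCompl R) := fun q _ => by
    refine Or.inr ?_
    haveI := LocCoh.IsCohenMacaulayRing.isCohenMacaulayLocalRing_localization (R := R) q
    rw [CAlgH3.isCohenMacaulayModule_congr (CAlgH3.localizedModuleSelf q), ← CAlgH3.isCohenMacaulayLocalRing_iff]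
    infer_instance
  have hcmS : ∀ (q : Ideal S) [q.IsPrime], Subsingleton (LocalizedModule q.primeCompl S) ∨
      LocCoh.IsCohenMacaulayModule (Localization.AtPrime q) (LocalizedModule q.primeCompl S) := fun q _ => by
    refine Or.inr ?_
    haveI := LocCoh.IsCohenMacaulayRing.isCohenMacaulayLocalRing_localization (R := S) q
    rw [CAlgH3.isCohenMacaulayModule_congr (CAlgH3.localizedModuleSelf q), ← CAlgH3.isCohenMacaulayLocalRing_iff]
    infer_instance
  haveI : IsNoetherianRing T := by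
    haveI := SegreDim.isNoetherian_segre 𝒜 𝒜 ℬ ℬ 𝒯 ψ hdegT 𝒯 ψ.toLinearMap hψ
      (fun n => by rw [← Submodule.map_coe, hdegT n]; rfl) (fun t p => by
        rw [SegreDim.act_eq_mul]; exact map_mul ψ t p)
    exact isNoetherianRing_iff.mpr this
  have hdR : Module.supportDim R R = 1 := by rw [Module.supportDim_self_eq_ringKrullDim, hr]
  have hdS : Module.supportDim S S = s := by rw [Module.supportDim_self_eq_ringKrullDim, hs]
  have hdegP : ∀ n : ℤ, ψ.toLinearMap '' (𝒯 n : Set T) = (GrSeg.segrePiece k 𝒜 ℬ n : Set (R ⊗[k] S)) :=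
    fun n => by rw [← Submodule.map_coe, hdegT n]; rfl
  have hsmul : ∀ (t p : T), ψ.toLinearMap (t • p) = GrSeg.act k R S R S (ψ t) (ψ.toLinearMap p) := fun t p => by
    rw [SegreDim.act_eq_mul]; exact map_mul ψ t p
  have hTcm : LocCoh.IsCohenMacaulayRing T ↔ ∀ (q : Ideal T) [q.IsPrime], Subsingleton (LocalizedModule q.primeCompl T) ∨
      LocCoh.IsCohenMacaulayModule (Localization.AtPrime q) (LocalizedModule q.primeCompl T) := by
    refine ⟨fun h q _ => Or.inr ?_, fun h => ⟨fun q _ => ?_⟩⟩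
    · haveI := h.isCohenMacaulayLocalRing_localization q
      rw [CAlgH3.isCohenMacaulayModule_congr (CAlgH3.localizedModuleSelf q), ← CAlgH3.isCohenMacaulayLocalRing_iff]
      infer_instance
    · rw [CAlgH3.isCohenMacaulayLocalRing_iff, ← CAlgH3.isCohenMacaulayModule_congr (CAlgH3.localizedModuleSelf q)]
      exact (h q).resolve_left fun hs' => (not_nontrivial_iff_subsingleton.mpr hs')
        (CAlgH3.localizedModuleSelf q).toEquiv.nontrivial
  obtain ⟨D, y, z, hD, hy, hz, hyreg, hzreg, hyint, hzint⟩ :=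
    SegreOne.exists_setup 𝒜 hposR h0R ℬ hposS h0S 𝒜 ℬ s hdR hdS hcmR hcmS
  have hcm := fun hcond (q : Ideal T) [q.IsPrime] => SegreOne.cm_segre 𝒜 ℬ hposS h0S 𝒯 ψ hψ hdegT 𝒜 ℬ 𝒯
    ψ.toLinearMap hψ hdegP hsmul s hdS hcmS hD hy hz hyreg hzreg hyint hzint hcond q
  have hcrit := fun n => SegreOne.Hcomp_one_eq_bot_iff 𝒜 𝒜 hD hy hyreg hyint mR hmR I n
  have hne : ∀ n, ℬ n = ⊥ ↔ ¬ ∃ b ∈ ℬ n, b ≠ 0 := fun n => by
    rw [Submodule.eq_bot_iff]
    simp
  refine ⟨fun h2 => ⟨fun hT d => ?_, fun h => hTcm.2 (hcm (Or.inl fun n hn => ?_))⟩,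
    fun h1 => hTcm.2 (hcm (Or.inr h1))⟩
  · by_cases hd : ∃ b ∈ ℬ d, b ≠ 0
    · exact Or.inl ((hcrit d).2 (SegreOne.good_of_cm 𝒜 hposR h0R ℬ hposS h0S 𝒯 ψ hψ hdegT 𝒜 ℬ 𝒯
        ψ.toLinearMap hψ hdegP hsmul s h2 hdR hdS hcmR hcmS hD hy hz hyreg hzreg hyint (hTcm.1 hT) d hd))
    · exact Or.inr ((hne d).2 hd)
  · exact (hcrit n).1 ((h n).resolve_right fun h' => (hne n).1 h' hn)
end Groth.Agent.S18663
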