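import Groth.Statements.S18664
import Groth.Agent.SegreDim.DimOneSegre

set_option autoImplicit false
universe u
open scoped TensorProduct
open GrSegre

namespace Groth.Agent.S18664

/-- Let R and S be standard graded rings defined over a field k which are Cohen–Macaulay, with dim R = 1
and dim S ≥ 2. Then the Segre product T = R # S is a Cohen–Macaulay ring if and only if R is a
polynomial ring over k (in one variable). Here a graded ring defined over k is a commutative
k-algebra of finite type, graded in nonnegative degrees by k-subspaces with degree-zero part k·1,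
standard graded when its irrelevant ideal is generated by the degree-one piece; the Segre product T
= ⊕_n R_n ⊗_k S_n is presented abstractly as a graded k-algebra T with an injective k-algebra
homomorphism ψ : T → R ⊗_k S carrying T_n onto the k-span of the elementary tensors a ⊗ b with a ∈
R_n, b ∈ S_n. -/
theorem result (k : Type u) [Field k] (R : Type u) [CommRing R] [Algebra k R] (𝒜 : ℤ → Submodule k R) [GradedAlgebra 𝒜] (hposR : ∀ n : ℤ, n < 0 → 𝒜 n = ⊥) (h0R : 𝒜 0 = Submodule.span k {(1 : R)}) [Algebra.FiniteType k R] (S : Type u) [CommRing S] [Algebra k S] (ℬ : ℤ → Submodule k S) [GradedAlgebra ℬ] (hposS : ∀ n : ℤ, n < 0 → ℬ n = ⊥) (h0S : ℬ 0 = Submodule.span k {(1 : S)}) [Algebra.FiniteType k S] (T : Type u) [CommRing T] [Algebra k T] (𝒯 : ℤ → Submodule k T) [GradedAlgebra 𝒯] (ψ : T →ₐ[k] TensorProduct k R S) (hψ : Function.Injective ψ) (hdegT : ∀ n : ℤ, (𝒯 n).map ψ.toLinearMap = Submodule.span k {x : TensorProduct k R S | ∃ a ∈ 𝒜 n, ∃ b ∈ ℬ n, x = a ⊗ₜ[k] b}) [LocCoh.IsCohenMacaulayRing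 R] [LocCoh.IsCohenMacaulayRing S] (hstdR : Ideal.span (⋃ n ∈ Set.Ioi (0 : ℤ), (𝒜 n : Set R)) = Ideal.span ((𝒜 1 : Submodule k R) : Set R)) (hstdS : Ideal.span (⋃ n ∈ Set.Ioi (0 : ℤ), (ℬ n : Set S)) = Ideal.span ((ℬ 1 : Submodule k S) : Set S)) (hr : ringKrullDim R = 1) (hs : 2 ≤ ringKrullDim S) : LocCoh.IsCohenMacaulayRing T ↔ Nonempty (R ≃ₐ[k] Polynomial k) := by
  classical
  haveI : IsNoetherianRing R := Algebra.FiniteType.isNoetherianRing k R
  haveI : Nontrivial R := by
    by_contra h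
    rw [not_nontrivial_iff_subsingleton] at h
    rw [ringKrullDim_eq_bot_of_subsingleton] at hr
    simp at hr
  haveI : Nontrivial S := by
    by_contra h
    rw [not_nontrivial_iff_subsingleton] at h
    rw [ringKrullDim_eq_bot_of_subsingleton] at hs
    simp at hs
  constructor
  · intro hT
    obtain ⟨D₁, y₁, hD₁, hy₁, hy₁r⟩ := Groth.Agent.SegreDim.exists_regular_homogeneous 𝒜 hposR h0R hr.ge
    obtain ⟨D₂, w₁, hD₂, hw₁, hw₁r⟩ := Groth.Agent.SegreDim.exists_regular_homogeneous ℬ hposS h0S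
      (le_trans one_le_two hs)
    let D := D₁ * D₂
    have hD : 0 < D := Nat.mul_pos hD₁ hD₂
    let y := y₁ ^ D₂
    let w := w₁ ^ D₁
    have hy : y ∈ 𝒜 (D : ℤ) := by
      have := SetLike.pow_mem_graded (A := 𝒜) D₂ hy₁
      rw [nsmul_eq_mul, mul_comm] at this
      simpa [D] using this
    have hw : w ∈ ℬ (D : ℤ) := by
      have := SetLike.pow_mem_graded (A := ℬ) D₁ hw₁
      simpa [D, nsmul_eq_mul] using this
    have hyr : y ∈ nonZeroDivisors R := pow_mem hy₁r D₂
    have hwr : w ∈ nonZeroDivisors S := pow_mem hw₁r D₁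
    rcases Groth.Agent.SegreDim.polynomial_or_exists_notMem 𝒜 hposR h0R hstdR hD hy hyr with ⟨a, ha, hay⟩ | hpoly
    swap
    · exact hpoly
    exfalso
    exact Groth.Agent.SegreDim.not_cohenMacaulay_segre 𝒜 hposR h0R ℬ hposS h0S 𝒯 ψ hψ hdegT hr hs hD hy hyr hw hwr ha hay
      inferInstance
  · rintro ⟨e⟩
    obtain ⟨g⟩ := Groth.Agent.SegreDim.nonempty_ringEquiv_segre_polynomial 𝒜 hposR h0R ℬ hposS 𝒯 ψ hψ hdegT hstdR e
    exact Groth.Agent.CAlgH3.isCohenMacaulayRing_of_ringEquiv g.symm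

end Groth.Agent.S18664
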