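import Groth.Statements.S18665
import Groth.Agent.SegreLC.GorType
import Groth.Agent.SegreLC.GorConv
import Groth.Agent.CAlgH3.GrCanonApps
import Groth.Agent.S19757

set_option autoImplicit false
universe u
open scoped TensorProduct
open GrSegre

namespace Groth.Agent.S18665

/-- Let R and S be standard graded rings defined over a field k which are Gorenstein, of dimensions r ≥
2 and s ≥ 2, put a = a(R), b = a(S) with a ≥ b, and assume that the Segre product T = R # S is a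
Cohen–Macaulay ring. Then the type r(T) equals dim_k R_{a−b}. Here the type of T is the Bass number
μ_{r+s−1}(T_+, T), the dimension over the residue field of Ext^{r+s−1} over the local ring of T at
its graded maximal ideal T_+ (T has dimension r + s − 1); a graded ring defined over k is a
commutative k-algebra of finite type, graded in nonnegative degrees by k-subspaces with degree-zero
part k·1, standard graded when its irrelevant ideal is generated by the degree-one piece; the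
a-invariant is the largest nonzero degree of the top graded local cohomology with support in the
irrelevant ideal, computed from a *injective resolution in the graded category; the Segre product T
= ⊕_n R_n ⊗_k S_n is presented abstractly as a graded k-algebra T with an injective k-algebra
homomorphism ψ : T → R ⊗_k S carrying T_n onto the k-span of the elementary tensors a ⊗ b with a ∈
R_n, b ∈ S_n. -/
theorem result (k : Type u) [Field k] (R : Type u) [CommRing R] [Algebra k R] (𝒜 : ℤ → Submodule k R) [GradedAlgebra 𝒜] (hposR : ∀ n : ℤ, n < 0 → 𝒜 n = ⊥) (h0R : 𝒜 0 = Submodule.span k {(1 : R)}) [Algebra.FiniteType k R] (S : Type u) [CommRing S] [Algebra k S] (ℬ : ℤ → Submodule k S) [GradedAlgebra ℬ] (hposS : ∀ n : ℤ, n < 0 → ℬ n = ⊥) (h0S : ℬ 0 = Submodule.span k {(1 : S)}) [Algebra.FiniteType k S] (T : Type u) [CommRing T] [Algebra k T] (𝒯 : ℤ → Submodule k T) [GradedAlgebra 𝒯] (ψ : T →ₐ[k] TensorProduct k R S) (hψ : Function.Injective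 ψ) (hdegT : ∀ n : ℤ, (𝒯 n).map ψ.toLinearMap = Submodule.span k {x : TensorProduct k R S | ∃ a ∈ 𝒜 n, ∃ b ∈ ℬ n, x = a ⊗ₜ[k] b}) [LocCoh.IsGorensteinRing R] [LocCoh.IsGorensteinRing S] (mR : HomogeneousIdeal 𝒜) (hmR : mR.toIdeal = Ideal.span (⋃ n ∈ Set.Ioi (0 : ℤ), (𝒜 n : Set R))) (hstdR : Ideal.span (⋃ n ∈ Set.Ioi (0 : ℤ), (𝒜 n : Set R)) = Ideal.span ((𝒜 1 : Submodule k R) : Set R)) (I : GrLC.StarInjRes 𝒜 𝒜) (mS : HomogeneousIdeal ℬ) (hmS : mS.toIdeal = Ideal.span (⋃ n ∈ Set.Ioi (0 : ℤ), (ℬ n : Set S))) (hstdS : Ideal.span (⋃ n ∈ Set.Ioi (0 : ℤ), (ℬ n : Set S)) = Ideal.span ((ℬ 1 : Submodule k S) : Set S)) (J : GrLC.StarInjRes ℬ ℬ) (r s : ℕ) (hr : ringKrullDim R = r) (hs : ringKrullDim S = s) (h2r : 2 ≤ r) (h2s : 2 ≤ s) (a b : ℤ) (ha : GrLC.endDeg (I.Hgr mR r) = ((a : WithTop ℤ) : WithBot (WithTop ℤ))) (hb : GrLC.endDeg (J.Hgr mS s) = ((b : WithTop ℤ) : WithBot (WithTop ℤ))) (hab : b ≤ a) [LocCoh.IsCohenMacaulayRing T] (mT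 : HomogeneousIdeal 𝒯) [mT.toIdeal.IsMaximal] (hmT : mT.toIdeal = Ideal.span (⋃ n ∈ Set.Ioi (0 : ℤ), (𝒯 n : Set T))) : GrLC.bassNum mT.toIdeal T (r + s - 1) = (Module.finrank k (𝒜 (a - b)) : ℕ∞) := by
  classical
  haveI : Nontrivial R := not_subsingleton_iff_nontrivial.1 fun _ => by
    rw [ringKrullDim_eq_bot_of_subsingleton] at hr; exact WithBot.bot_ne_natCast r hr
  haveI : Nontrivial S := not_subsingleton_iff_nontrivial.1 fun _ => by
    rw [ringKrullDim_eq_bot_of_subsingleton] at hs; exact WithBot.bot_ne_natCast s hs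
  haveI := Algebra.FiniteType.isNoetherianRing k R
  haveI := Algebra.FiniteType.isNoetherianRing k S
  have hT : GrSeg.IsSegreRing 𝒜 ℬ 𝒯 ψ := ⟨hψ, hdegT⟩
  haveI := SegreLC.segre_noetherian hT
  haveI : Nontrivial T := ⟨⟨0, 1, fun h => one_ne_zero (α := TensorProduct k R S) (by rw [← map_one ψ, ← h, map_zero])⟩⟩
  obtain ⟨hposT, h0T⟩ := SegreDim.segre_pos_and_zero 𝒜 hposR h0R ℬ hposS h0S 𝒯 ψ hψ hdegT
  haveI : Algebra.FiniteType k T := SegreDim.finiteType_of_isNoetherianRing 𝒯 hposT h0T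
  obtain ⟨r', rfl⟩ : ∃ r', r = r' + 1 := ⟨r - 1, by omega⟩
  obtain ⟨s', rfl⟩ : ∃ s', s = s' + 1 := ⟨s - 1, by omega⟩
  have hdimT := SegreDim.ringKrullDim_segre 𝒜 hposR h0R ℬ hposS h0S 𝒯 ψ hψ hdegT r' s' hr hs
  obtain ⟨hlR, hmaxR⟩ := SegreLC.starLocal_irr 𝒜 hposR h0R hmR
  obtain ⟨hlS, hmaxS⟩ := SegreLC.starLocal_irr ℬ hposS h0S hmS
  obtain ⟨hlT, -⟩ := SegreLC.starLocal_irr 𝒯 hposT h0T hmT
  haveI := hmaxR
  haveI := hmaxS
  obtain ⟨XE, eR, heR⟩ := SegreLC.exists_residueHull mR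
  obtain ⟨YE, eS, heS⟩ := SegreLC.exists_residueHull mS
  obtain ⟨ZE, eT, heT⟩ := SegreLC.exists_residueHull mT
  obtain ⟨gR, φR, hφR⟩ := SegreLC.exists_top_equiv' mR hlR (r' + 1) (SegreLC.height_irr 𝒜 hposR h0R hmR hr) I heR
  obtain ⟨gS, φS, hφS⟩ := SegreLC.exists_top_equiv' mS hlS (s' + 1) (SegreLC.height_irr ℬ hposS h0S hmS hs) J heS
  have hga : ∀ {g a : ℤ}, (((-g : ℤ) : WithTop ℤ) : WithBot (WithTop ℤ)) = ((a : WithTop ℤ) : WithBot (WithTop ℤ)) →
      g + a = 0 := fun {g a} h => by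
    rw [WithBot.coe_inj, WithTop.coe_inj] at h
    omega
  have hgR : gR + a = 0 := hga
    ((SegreLC.endDeg_of_hull_shift hposR hmR heR (H := SegreLC.HG I mR (r' + 1)) φR hφR).symm.trans ha)
  have hgS : gS + b = 0 := hga
    ((SegreLC.endDeg_of_hull_shift hposS hmS heS (H := SegreLC.HG J mS (s' + 1)) φS hφS).symm.trans hb)
  let X := GrLib.shiftGMod 𝒜 𝒜 a
  let Y := GrLib.shiftGMod ℬ ℬ b
  let C := SegreLC.seg hT.2 X Y
  let IT := GrLib.starRes 𝒯 𝒯
  have hC : GrLC.IsStarCanonical 𝒯 C.gr ZE.gr mT (r' + 1 + (s' + 1) - 1) IT :=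
    S19757.result k R 𝒜 hposR h0R S ℬ hposS h0S T 𝒯 ψ hT mR hmR I mS hmS J mT hmT IT (r' + 1) (s' + 1) hr hs h2r h2s
      XE.carrier XE.gr eR heR X.carrier X.gr (SegreLC.isStarCanonical_shift I hgR φR hφR)
      YE.carrier YE.gr eS heS Y.carrier Y.gr (SegreLC.isStarCanonical_shift J hgS φS hφS)
      ZE.carrier ZE.gr eT heT C.carrier C.gr (SegreLC.segInc hT.2 X Y) (SegreLC.isSegreMod_seg hT.2 X Y)
  have h1 := (CAlgH3.GrCanonApps.bassNum_top
    (fun n hn x hx => (Submodule.mem_bot k).1 (hposT n hn ▸ hx)) mT hlT (r' + 1 + (s' + 1) - 1)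
    (hdimT.trans (by norm_cast)) IT heT hC).2
  rw [h1, SegreLC.finrank_residue_seg hposR hstdR hposS h0S hposT h0T hT.2 hmT a b hab]

end Groth.Agent.S18665
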