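import Groth.Statements.S18666
import Groth.Agent.GrProjLib.StalkFlat
import Mathlib.AlgebraicGeometry.ProjectiveSpectrum.Basic

set_option autoImplicit false
universe u
open GrProj

namespace Groth.Agent.S18666

open AlgebraicGeometry Pointwise in
/-- Let A = ⊕_{n ≥ 0} A_n be a commutative Noetherian graded ring satisfying condition (#) — there is an
integer d_0 such that for every d ≥ d_0 the Veronese subring A^(d) is generated by A_d over A_0,
equivalently A_{(n+1)d} is additively generated by the products A_d A_{nd} for every n ≥ 1 — and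
assume A is a Gorenstein ring. Then X = Proj A is a Gorenstein scheme: all of its local rings are
Gorenstein local rings. (The Cohen–Macaulay case of the same lemma is stated separately.) -/
theorem result (A : Type u) [CommRing A] (𝒜 : ℕ → AddSubgroup A) [GradedRing 𝒜] [LocCoh.IsGorensteinRing A] (hsharp : ∃ d₀ : ℕ, ∀ d : ℕ, d₀ ≤ d → ∀ n : ℕ, 1 ≤ n → 𝒜 ((n + 1) * d) = AddSubgroup.closure ((𝒜 d : Set A) * (𝒜 (n * d) : Set A))) (x : Proj 𝒜) : LocCoh.IsGorensteinLocalRing ((Proj 𝒜).presheaf.stalk x) := by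
  classical
  obtain ⟨d₀, hd₀⟩ := hsharp
  have hne : ∀ d, d₀ ≤ d → 1 ≤ d → ∃ f ∈ 𝒜 d, f ∉ x.asHomogeneousIdeal.toIdeal := fun d hd hd1 => by
    obtain ⟨a, hai, hax⟩ := SetLike.not_le_iff_exists.1 x.not_irrelevant_le
    obtain ⟨m, hm⟩ : ∃ m, (DirectSum.decompose 𝒜 a m : A) ∉ x.asHomogeneousIdeal.toIdeal := by
      by_contra! h
      exact hax (DirectSum.sum_support_decompose 𝒜 a ▸ sum_mem fun i _ => h i)
    have hm0 : m ≠ 0 := by
      rintro rfl
      refine hm ?_
      rw [← GradedRing.proj_apply, show GradedRing.proj 𝒜 0 a = 0 from hai]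
      exact zero_mem _
    have hp := SetLike.pow_mem_graded d (SetLike.coe_mem (DirectSum.decompose 𝒜 a m))
    have hpn : (DirectSum.decompose 𝒜 a m : A) ^ d ∉ x.asHomogeneousIdeal.toIdeal :=
      fun h => hm (x.isPrime.mem_of_pow_mem d h)
    obtain ⟨n, rfl⟩ : ∃ n, m = n + 1 := ⟨m - 1, by omega⟩
    rcases Nat.eq_zero_or_pos n with rfl | hn
    · exact ⟨_, by simpa using hp, hpn⟩
    rw [smul_eq_mul, mul_comm d, hd₀ d hd n hn] at hp
    by_contra! h
    refine hpn ((AddSubgroup.closure_le x.asHomogeneousIdeal.toIdeal.toAddSubgroup).2 ?_ hp)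
    rintro _ ⟨b, hb, c, -, rfl⟩
    exact Ideal.mul_mem_right c _ (h b hb)
  obtain ⟨f, hf, hfx⟩ := hne (d₀ + 1) (by omega) (by omega)
  obtain ⟨g, hg, hgx⟩ := hne (d₀ + 1 + 1) (by omega) (by omega)
  haveI := x.isPrime
  exact (Groth.Agent.DualLib.GorFlat.gor_congr (Proj.stalkIso' 𝒜 x)).2
    (Groth.Agent.GrProjLib.gorenstein_atPrime 𝒜 _ hf hfx hg hgx
      (LocCoh.IsGorensteinRing.isGorensteinLocalRing_localization _))

end Groth.Agent.S18666
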