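import Groth.Statements.S18667
import Groth.Agent.CAlgH3.GrCanonChange
import Mathlib
-- import your own Groth.Agent.* helpers here

set_option autoImplicit false
universe u
open GrLC

namespace Groth.Agent.S18667

open Groth.Agent.CAlgH3

/-- Let R and S be graded rings defined over the same field k and f : R → S a degree-preserving k-linear
ring map (not necessarily injective), with R Cohen–Macaulay and S a finite R-module through f, and
put t = dim R − dim S. Then K_S = Ext^t_R(S, K_R). Stated here as the existence of an R-linear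
isomorphism between the canonical module of S (an S-module, viewed over R) and the R-module
Ext^t_R(S, K_R); the published isomorphism is natural and respects gradings. Here a graded ring
defined over a field is Noetherian, positively ℤ-graded with degree-zero part a field; that R and S
are defined over the same field and f is k-linear is expressed by asking f to carry R_0 onto S_0;
and the canonical module is represented by a finitely generated graded module together with a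
homogeneous isomorphism from its Hom into a *injective envelope of the residue field onto the top
graded local cohomology of the ring with support in its irrelevant ideal, computed from a *injective
resolution in the graded category (by graded Matlis duality this pins the module up to graded
isomorphism). -/
theorem result (R : Type u) [CommRing R] [LocCoh.IsCohenMacaulayRing R] (𝒜 : ℤ → AddSubgroup R) [GradedRing 𝒜] (hpos : ∀ n : ℤ, n < 0 → 𝒜 n = ⊥) (h0 : IsField (GrLC.deg0 𝒜)) (m : HomogeneousIdeal 𝒜) (hm : GrLC.IsStarLocal 𝒜 m) (hmsp : m.toIdeal = Ideal.span (⋃ n ∈ Set.Ioi (0 : ℤ), (𝒜 n : Set R))) (n : ℕ) (hn : ringKrullDim R = n) (I : GrLC.StarInjRes 𝒜 𝒜) (E' : Type u) [AddCommGroup E'] [Module R E'] (𝓔 : ℤ → AddSubgroup E') [DirectSum.Decomposition 𝓔] [SetLike.GradedSMul 𝒜 𝓔] (e : (R ⧸ m.toIdeal) →ₗ[R] E') (he : GrLC.IsStarInjHull 𝒜 (GrLC.quotGr 𝒜 m) 𝓔 e) (C : Type u) [AddCommGroup C] [Module R C] (𝒞 : ℤ → AddSubgroup C) [DirectSum.Decomposition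 𝒞] [SetLike.GradedSMul 𝒜 𝒞] (hC : GrLC.IsStarCanonical 𝒜 𝒞 𝓔 m n I) (S : Type u) [CommRing S] [IsNoetherianRing S] [Algebra R S] [Module.Finite R S] (𝒜' : ℤ → AddSubgroup S) [GradedRing 𝒜'] (hf : ∀ j : ℤ, (𝒜 j).map (algebraMap R S : R →+ S) ≤ 𝒜' j) (hf0 : (𝒜 0).map (algebraMap R S : R →+ S) = 𝒜' 0) (hpos' : ∀ j : ℤ, j < 0 → 𝒜' j = ⊥) (h0' : IsField (GrLC.deg0 𝒜')) (m' : HomogeneousIdeal 𝒜') (hm' : GrLC.IsStarLocal 𝒜' m') (hm'sp : m'.toIdeal = Ideal.span (⋃ j ∈ Set.Ioi (0 : ℤ), (𝒜' j : Set S))) (n' : ℕ) (hn' : ringKrullDim S = n') (I' : GrLC.StarInjRes 𝒜' 𝒜') (E'' : Type u) [AddCommGroup E''] [Module S E''] (𝓔'' : ℤ → AddSubgroup E'') [DirectSum.Decomposition 𝓔''] [SetLike.GradedSMul 𝒜' 𝓔''] (e' : (S ⧸ m'.toIdeal) →ₗ[S] E'') (he' : GrLC.IsStarInjHull 𝒜' (GrLC.quotGr 𝒜' m') 𝓔'' e') (C' : Type u) [AddCommGroup C'] [Module S C'] [Module R C'] [IsScalarTower R S C'] (𝒞' : ℤ → AddSubgroup C') [DirectSum.Decomposition 𝒞'] [SetLike.GradedSMul 𝒜' 𝒞']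 (hC' : GrLC.IsStarCanonical 𝒜' 𝒞' 𝓔'' m' n' I') : Nonempty (C' ≃ₗ[R] CategoryTheory.Abelian.Ext.{u} (ModuleCat.of R S) (ModuleCat.of R C) (n - n')) := by
  classical
  haveI := hC'.1
  haveI := Module.Finite.trans (R := R) S C'
  have hpe : ∀ k : ℤ, k < 0 → ∀ x ∈ 𝒜 k, x = 0 := fun k hk x hx => by rw [hpos k hk] at hx; exact hx
  haveI hmax : m.toIdeal.IsMaximal := Groth.Agent.GrLib.isMaximal_starMaximal hpe hm
  have hfe : ∀ j, ∀ r ∈ 𝒜 j, algebraMap R S r ∈ 𝒜' j := fun j r hr => hf j ⟨r, hr, rfl⟩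
  obtain ⟨hle, N, hpow⟩ := GrCanonChange.exists_pow_le hfe hpos hmsp hm'sp
  have hn'n : n' ≤ n := by
    have h := GrCanonChange.ringKrullDim_le_of_finite R S
    rw [hn, hn'] at h
    exact_mod_cast h
  have hvan : ∀ (i t : ℕ), i < n → Subsingleton (_root_.LocCoh.H m.toIdeal i (Fin t → R)) := fun i t hi => by
    refine LocCoh.subsingleton_H_free ?_ t
    rw [(LocCoh.isCohenMacaulayRing_iff_idealDepth R).1 inferInstance m.toIdeal hmax.ne_top]
    have hh := Groth.Agent.GrLib.ringKrullDim_eq_height_starMaximal hpe hm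
    rw [hn] at hh
    have hh' : ((n : ℕ) : ℕ∞) = m.toIdeal.height := by exact_mod_cast hh
    rw [← hh']
    exact_mod_cast hi
  obtain ⟨P, hP, -⟩ := GrGDual.exists_dual_canonical hpos h0 hm he I hC
  obtain ⟨P'', hP'', hpair⟩ := GrGDual.exists_dual_canonical hpos' h0' hm' he' I' hC'
  haveI : SetLike.GradedSMul 𝒜 𝒞' := GrChangeH.gradedSMul_restrict hfe 𝒞'
  haveI : SetLike.GradedSMul 𝒜 𝒜' := GrChangeH.gradedSMul_restrict hfe 𝒜'
  let F : GrLC.StarInjRes 𝒜 𝒜' := Groth.Agent.GrLib.starRes 𝒜 𝒜'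
  obtain ⟨Ψ, hΨb, hΨs, hΨd⟩ := GrChangeH.exists_change hfe hle hpow I' F n'
  obtain ⟨u₁, hu₁, hu₁0, hgen⟩ := (GrDualAt.isDualAt_hull hpos h0 hm he).gen
  obtain ⟨u₂, hu₂, hu₂0, hgen'⟩ := (GrDualAt.isDualAt_hull hpos' h0' hm' he').gen
  letI : Module R E'' := Module.compHom E'' (algebraMap R S)
  haveI : IsScalarTower R S E'' := IsScalarTower.of_algebraMap_smul fun _ _ => rfl
  haveI : SetLike.GradedSMul 𝒜 𝓔'' := GrChangeH.gradedSMul_restrict hfe 𝓔''
  -- a map between the hulls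
  obtain ⟨τ, hτ, hτu⟩ : ∃ τ : E'' →ₗ[R] E', GrLC.IsGrHom 𝓔'' 𝓔 τ ∧ τ u₂ = u₁ := by
    have hker : LinearMap.ker (LinearMap.toSpanSingleton R E'' u₂) ≤
        LinearMap.ker (LinearMap.toSpanSingleton R E' u₁) := fun t ht => by
      have hmann : m.toIdeal ≤ (Submodule.span R {u₁}).annihilator := by
        rw [hmsp, Ideal.span_le]
        intro r hr
        obtain ⟨j, hj, hrj⟩ := Set.mem_iUnion₂.1 hr
        rw [SetLike.mem_coe, Submodule.mem_annihilator_span_singleton]
        by_contra hne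
        have hmem := Groth.Agent.GrLib.smul_mem (ℳ := 𝓔) hrj hu₁
        exact absurd ((GrDualAt.isDualAt_hull hpos h0 hm he).le hpos hmem hne) (by
          simp only [add_zero, not_le]; exact hj)
      have hle' : (Submodule.span R {u₂}).annihilator ≤ m.toIdeal := by
        refine GrCanonApps.le_starMax hm (Groth.Agent.GrLib.isHomogeneous_ann (𝒜 := 𝒜) (𝓔 := 𝓔'') hu₂)
          fun h => hu₂0 ?_
        have h1 : (1 : R) ∈ (Submodule.span R {u₂}).annihilator := h ▸ trivial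
        rwa [Submodule.mem_annihilator_span_singleton, one_smul] at h1
      exact (Submodule.mem_annihilator_span_singleton _ _).1
        (hmann (hle' ((Submodule.mem_annihilator_span_singleton _ _).2 ht)))
    have hd₂ : IsGrHom 𝒜 𝓔'' (LinearMap.toSpanSingleton R E'' u₂) := fun k t ht => by
      have := Groth.Agent.GrLib.smul_mem (ℳ := 𝓔'') ht hu₂
      rwa [add_zero] at this
    have hd₁ : IsGrHom 𝒜 𝓔 (LinearMap.toSpanSingleton R E' u₁) := fun k t ht => by
      have := Groth.Agent.GrLib.smul_mem (ℳ := 𝓔) ht hu₁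
      rwa [add_zero] at this
    obtain ⟨h, hh, hhf⟩ := Groth.Agent.GrLib.exists_factor (𝒜 := 𝒜) he.starInj hd₂ hd₁ hker
    exact ⟨h, hh, by simpa using LinearMap.congr_fun hhf 1⟩
  have hτ0 : ∀ y ∈ 𝓔'' 0, τ y = 0 → y = 0 := by
    intro y hy hy0
    obtain ⟨c, hc, rfl⟩ := hgen' y hy
    rw [← hf0] at hc
    obtain ⟨a, ha, rfl⟩ := hc
    change τ (algebraMap R S a • u₂) = 0 at hy0
    show algebraMap R S a • u₂ = 0
    rw [IsScalarTower.algebraMap_smul, map_smul, hτu] at hy0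
    by_cases ha0 : a = 0
    · rw [ha0, map_zero, zero_smul]
    · obtain ⟨b, hb⟩ := h0.mul_inv_cancel (a := (⟨a, ha⟩ : GrLC.deg0 𝒜)) fun h => ha0 (congrArg Subtype.val h)
      refine absurd ?_ hu₁0
      rw [← one_smul R u₁, ← show a * (b : R) = 1 from congrArg Subtype.val hb, mul_comm, mul_smul, hy0, smul_zero]
  -- the pairing over `R`
  let Ψe := AddEquiv.ofBijective Ψ hΨb
  have hΨe : ∀ (r : R) (y : F.H m n'), Ψe.symm (r • y) = algebraMap R S r • Ψe.symm y := fun r y =>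
    Ψe.injective (by
      rw [AddEquiv.apply_symm_apply]
      show r • y = Ψ (algebraMap R S r • Ψe.symm y)
      rw [hΨs, show Ψ (Ψe.symm y) = y from Ψe.apply_symm_apply y])
  letI := Groth.Agent.GrLib.Hdecomp I' m' n'
  letI := Groth.Agent.GrLib.Hdecomp F m n'
  have hΨe' : ∀ g, ∀ y ∈ F.Hgr m n' g, Ψe.symm y ∈ I'.Hgr m' n' g := by
    intro g y hy
    have key : ∀ x, Ψ (Groth.Agent.GrLib.proj (I'.Hgr m' n') g x) = Groth.Agent.GrLib.proj (F.Hgr m n') g (Ψ x) := by
      intro x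
      refine Groth.Agent.GrLib.induction (I'.Hgr m' n')
        (motive := fun x => Ψ (Groth.Agent.GrLib.proj (I'.Hgr m' n') g x) = Groth.Agent.GrLib.proj (F.Hgr m n') g (Ψ x))
        (by simp) (fun k z hz => ?_) (fun a b ha hb => by simp [ha, hb]) x
      by_cases hk : k = g
      · subst hk
        rw [Groth.Agent.GrLib.proj_of_mem hz, Groth.Agent.GrLib.proj_of_mem (hΨd k z hz)]
      · rw [Groth.Agent.GrLib.proj_of_mem_ne hz hk, Groth.Agent.GrLib.proj_of_mem_ne (hΨd k z hz) hk, map_zero]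
    have e1 : Ψe.symm y = Groth.Agent.GrLib.proj (I'.Hgr m' n') g (Ψe.symm y) := Ψe.injective (by
      rw [Ψe.apply_symm_apply]
      show y = Ψ _
      rw [key, show Ψ (Ψe.symm y) = y from Ψe.apply_symm_apply y, Groth.Agent.GrLib.proj_of_mem hy])
    rw [e1]
    exact Groth.Agent.GrLib.proj_mem _ _ _
  let P' : C' →ₗ[R] F.H m n' →ₗ[R] E' := LinearMap.mk₂ R (fun c y => τ (P'' c (Ψe.symm y)))
    (fun c c' y => by simp)
    (fun r c y => by
      rw [← IsScalarTower.algebraMap_smul S r c, map_smul, LinearMap.smul_apply,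
        IsScalarTower.algebraMap_smul, map_smul])
    (fun c y y' => by simp)
    (fun r c y => by rw [hΨe, map_smul, IsScalarTower.algebraMap_smul, map_smul])
  have hdual : GrGDual.IsDual 𝒞' (F.Hgr m n') 𝓔 P' := by
    refine GrGDual.of_isPairing (GrDualAt.isDualAt_hull hpos h0 hm he).ess h0 ⟨u₁, hu₁, hu₁0, hgen⟩
      ⟨fun j c hc y hy => hτ 0 _ (hpair.mem j c hc _ (hΨe' _ y hy)), fun j c hc hc0 => ?_, fun j y hy hy0 => ?_⟩
      fun j c hc g y hy => hτ _ _ (hP''.deg j c hc g _ (hΨe' g y hy))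
    · obtain ⟨x, hx, hne⟩ := hpair.left j c hc hc0
      refine ⟨Ψ x, hΨd _ x hx, fun h => hne (hτ0 _ (hpair.mem j c hc x hx) ?_)⟩
      rwa [show P' c (Ψ x) = τ (P'' c (Ψe.symm (Ψe x))) from rfl, Ψe.symm_apply_apply] at h
    · obtain ⟨c, hc, hne⟩ := hpair.right j _ (hΨe' _ y hy) (by simpa using hy0)
      exact ⟨c, hc, fun h => hne (hτ0 _ (hpair.mem j c hc _ (hΨe' _ y hy)) h)⟩
  exact GrExtDual.nonempty_ext_equiv m hn he.starInj I hP hvan (n - n') n' (by omega) S 𝒜' F C' 𝒞' P' hdual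


end Groth.Agent.S18667
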