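import Groth.Statements.S1867
import Mathlib
import Groth.Agent.CycLib28.FiniteNear
import Groth.Agent.CAlgSmall.DimFormulaBounds
import Groth.Agent.CycLim28.Fibre

set_option autoImplicit false
universe u
open CategoryTheory AlgebraicGeometry
open Cyc

namespace Groth.Agent.S1867

/-- Let f : X → Y be a proper morphism of integral schemes with Y locally Noetherian, mapping the
generic point to the generic point with finite extension of function fields, and let ξ be a point of
Y whose local ring has dimension 1. Then f is finite over some open neighbourhood of ξ. -/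
theorem result (X Y : Scheme.{u}) [IsIntegral X] [IsIntegral Y] [IsLocallyNoetherian Y] (f : X ⟶ Y) [IsProper f] (hgen : f (genericPoint X) = genericPoint Y) (hfin : (f.residueFieldMap (genericPoint X)).hom.Finite) (ξ : Y) (hξ : ringKrullDim (Y.presheaf.stalk ξ) = 1) : ∃ V : Y.Opens, ξ ∈ V ∧ IsFinite (f ∣_ V) := by
  refine Groth.Agent.CycLib28.finite_near_of_trdeg_zero f ξ fun x hx ↦ ?_
  subst hx
  have hXn := LocallyOfFiniteType.isLocallyNoetherian f
  have hgen0 : Groth.Agent.DimLib.trdegHom (f.residueFieldMap (genericPoint X)).hom = 0 := by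
    letI := (f.residueFieldMap (genericPoint X)).hom.toAlgebra
    haveI : Module.Finite (Y.residueField (f (genericPoint X))) (X.residueField (genericPoint X)) := hfin
    unfold Groth.Agent.DimLib.trdegHom
    rw [trdeg_eq_zero, Cardinal.zero_toNat]
  have h := Groth.Agent.CAlgSmall.ringKrullDim_stalk_add_le f x
    (Groth.Agent.DimLib.trdegHom (f.residueFieldMap x).hom) 0 rfl (fun z hz _ ↦ by
      have : z = genericPoint X := by
        have h1 : closure {z} = (⊤ : Set X) := by
          have := hz.2 (IrreducibleSpace.isIrreducible_univ X) (Set.subset_univ _)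
          exact Set.univ_subset_iff.mp this
        exact IsGenericPoint.eq h1 (genericPoint_spec X)
      rw [this]; exact hgen0.le)
  rw [hξ] at h
  have h1 : 1 ≤ ringKrullDim (X.presheaf.stalk x) := by
    rw [ringKrullDim, Order.one_le_krullDim_iff]
    obtain ⟨P, hP⟩ := Groth.Agent.CycLim28.exists_fromSpecStalk_eq (genericPoint_specializes x)
    refine ⟨P, IsLocalRing.closedPoint _, lt_of_le_of_ne (IsLocalRing.le_maximalIdeal P.isPrime.ne_top) fun e ↦ ?_⟩
    rw [e, Scheme.fromSpecStalk_closedPoint] at hP
    rw [show x = genericPoint X from hP, hgen] at hξ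
    have hK : ringKrullDim (Y.presheaf.stalk (genericPoint Y)) = 0 :=
      ringKrullDim_eq_zero_of_field Y.functionField
    rw [hK] at hξ
    exact zero_ne_one hξ
  have h2 := (add_le_add_left h1 ((Groth.Agent.DimLib.trdegHom (f.residueFieldMap x).hom : WithBot ℕ∞))).trans h
  rw [Nat.cast_zero, add_zero] at h2
  have h3 : (((1 + Groth.Agent.DimLib.trdegHom (f.residueFieldMap x).hom : ℕ) : ℕ∞) : WithBot ℕ∞) ≤ ((1 : ℕ∞) : WithBot ℕ∞) := by
    push_cast
    exact h2
  have h4 : 1 + Groth.Agent.DimLib.trdegHom (f.residueFieldMap x).hom ≤ 1 := by exact_mod_cast h3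
  omega
end Groth.Agent.S1867
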