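import Groth.Statements.S18672
import Groth.Agent.GrLib.Basic
import Mathlib
import Mathlib

set_option autoImplicit false
universe u
open GrLC

namespace Groth.Agent.S18672

/-- Let R be a graded ring defined over a field k = R_0 which is Cohen–Macaulay and generated over k by
R_1 (the standing hypotheses of this section; only generation in degree one is used), q ≥ 1, R' =
R^(q), and a an integer. Then the Veronese submodule [R(a)]^(q) = ⊕_j R_{a+jq} is generated over R'
by its piece R(a)_n = R_{a+n}, where n is the smallest multiple of q with n + a ≥ 0. Here 'graded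
ring defined over a field' means R = ⊕_{n ≥ 0} R_n is Noetherian with R_0 a field, and m = R_+ is
its unique graded maximal ideal. The Veronese subring R^(q) = ⊕_j R_{jq}, regraded by (R^(q))_j =
R_{jq}, is presented abstractly as a ℤ-graded ring R' with an injective ring homomorphism φ : R' → R
carrying R'_j onto R_{jq} for every j. The module [R(a)]^(q) is presented as a graded R'-module M'
with an injective additive map g : M' → R, semilinear over φ, carrying M'_j onto R_{a+jq} for every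
j; with n = j₀q, the conclusion is that the R'-span of M'_{j₀} is all of M'. -/
theorem result (R : Type u) [CommRing R] [LocCoh.IsCohenMacaulayRing R] (𝒜 : ℤ → AddSubgroup R) [GradedRing 𝒜] (hpos : ∀ n : ℤ, n < 0 → 𝒜 n = ⊥) (h0 : IsField (GrLC.deg0 𝒜)) (hstd : Ideal.span (⋃ n ∈ Set.Ioi (0 : ℤ), (𝒜 n : Set R)) = Ideal.span ((𝒜 1 : AddSubgroup R) : Set R)) (q : ℕ) (hq : 0 < q) (R' : Type u) [CommRing R'] (𝒜' : ℤ → AddSubgroup R') [GradedRing 𝒜'] (φ : R' →+* R) (hφ : Function.Injective φ) (hdeg : ∀ j : ℤ, (𝒜' j).map (φ : R' →+ R) = 𝒜 (j * q)) (a : ℤ) (M' : Type u) [AddCommGroup M'] [Module R' M'] (ℳ' : ℤ → AddSubgroup M') [DirectSum.Decomposition ℳ'] [SetLike.GradedSMul 𝒜' ℳ'] (g : M' →ₛₗ[φ] R) (hg : Function.Injective g) (hgdeg : ∀ j : ℤ, (ℳ' j).map (g : M' →+ R) = 𝒜 (a + j * q)) (j₀ : ℤ) (hj₀ : 0 ≤ a + j₀ * q) (hj₀' : a + (j₀ - 1) * q < 0) : Submodule.span R' ((ℳ' j₀ : AddSubgroup M') : Set M') = ⊤ := by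
  have hgen : ∀ (k : ℕ) (s : ℤ), 0 ≤ s → ∀ z ∈ 𝒜 (s + k),
      z ∈ AddSubgroup.closure {w : R | ∃ x ∈ 𝒜 (k : ℤ), ∃ y ∈ 𝒜 s, w = x * y} := by
    intro k
    induction k with
    | zero =>
      intro s _ z hz
      exact AddSubgroup.subset_closure ⟨1, by rw [Nat.cast_zero]; exact SetLike.GradedOne.one_mem, z,
        by rwa [Nat.cast_zero, add_zero] at hz, (one_mul z).symm⟩
    | succ k ih =>
      intro s hs z hz
      obtain ⟨N, c, v, hcv⟩ := Submodule.mem_span_set'.1 (show z ∈ Ideal.span ((𝒜 1 : AddSubgroup R) : Set R) from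
        hstd.le (Ideal.subset_span (Set.mem_iUnion₂.2 ⟨s + (k + 1 : ℕ), by simp only [Set.mem_Ioi]; omega, hz⟩)))
      rw [← Groth.Agent.GrLib.proj_of_mem hz, ← hcv, map_sum]
      refine AddSubgroup.sum_mem _ fun i _ => ?_
      rw [smul_eq_mul, mul_comm, ← smul_eq_mul, Groth.Agent.GrLib.proj_smul' (ℳ := 𝒜) (v i).2, smul_eq_mul,
        show s + ((k + 1 : ℕ) : ℤ) - 1 = s + k by omega]
      have h := ih s hs _ (Groth.Agent.GrLib.proj_mem 𝒜 (s + k) (c i))
      have h2 : AddSubgroup.closure {w : R | ∃ x ∈ 𝒜 (k : ℤ), ∃ y ∈ 𝒜 s, w = x * y} ≤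
          (AddSubgroup.closure {w : R | ∃ x ∈ 𝒜 ((k + 1 : ℕ) : ℤ), ∃ y ∈ 𝒜 s, w = x * y}).comap
            (AddMonoidHom.mulLeft (v i : R)) := by
        refine (AddSubgroup.closure_le _).2 ?_
        rintro _ ⟨x, hx, y, hy, rfl⟩
        refine AddSubgroup.subset_closure ⟨(v i : R) * x, ?_, y, hy, (mul_assoc _ _ _).symm⟩
        rw [show ((k + 1 : ℕ) : ℤ) = 1 + k by omega]
        exact SetLike.GradedMul.mul_mem (v i).2 hx
      exact h2 h
  have hlow : ∀ j, j < j₀ → ∀ y ∈ ℳ' j, y = 0 := by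
    intro j hj y hy
    refine hg (Eq.trans ?_ (map_zero g).symm)
    have h1 : (g y : R) ∈ 𝒜 (a + j * q) := by
      rw [← hgdeg j]
      exact ⟨y, hy, rfl⟩
    rw [hpos _ (by nlinarith)] at h1
    exact h1
  have key : ∀ (t : ℕ), ∀ y ∈ ℳ' (j₀ + t), y ∈ Submodule.span R' ((ℳ' j₀ : AddSubgroup M') : Set M') := by
    intro t
    induction t with
    | zero =>
      intro y hy
      exact Submodule.subset_span (by rwa [Nat.cast_zero, add_zero] at hy)
    | succ t ih =>
      intro y hy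
      have h1 : (g y : R) ∈ 𝒜 (a + (j₀ + (t + 1 : ℕ)) * q) := by
        rw [← hgdeg]
        exact ⟨y, hy, rfl⟩
      rw [show a + (j₀ + (t + 1 : ℕ)) * (q : ℤ) = (a + (j₀ + t) * q) + q by push_cast; ring] at h1
      have hle : AddSubgroup.closure {w : R | ∃ x ∈ 𝒜 (q : ℤ), ∃ u ∈ 𝒜 (a + (j₀ + t) * q), w = x * u} ≤
          (Submodule.span R' ((ℳ' j₀ : AddSubgroup M') : Set M')).toAddSubgroup.map (g : M' →+ R) := by
        refine (AddSubgroup.closure_le _).2 ?_
        rintro _ ⟨x, hx, u, hu, rfl⟩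
        rw [show (q : ℤ) = 1 * q by ring, ← hdeg 1] at hx
        obtain ⟨x', hx', rfl⟩ := hx
        rw [← hgdeg] at hu
        obtain ⟨u', hu', rfl⟩ := hu
        exact ⟨x' • u', Submodule.smul_mem _ _ (ih u' hu'), map_smulₛₗ g x' u'⟩
      obtain ⟨y', hy', hyy⟩ := hle (hgen q _ (by nlinarith) _ h1)
      rwa [← hg hyy]
  refine eq_top_iff.2 fun y _ => ?_
  refine DirectSum.Decomposition.inductionOn ℳ' (motive := fun y => y ∈ Submodule.span R' ((ℳ' j₀ : AddSubgroup M') : Set M'))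
    (zero_mem _) (fun {j} m => ?_) (fun u v hu hv => add_mem hu hv) y
  rcases lt_or_ge j j₀ with hj | hj
  · rw [hlow j hj _ m.2]; exact zero_mem _
  · obtain ⟨t, ht⟩ := Int.eq_ofNat_of_zero_le (sub_nonneg.2 hj)
    exact key t _ (by rw [show j₀ + (t : ℤ) = j by omega]; exact m.2)

end Groth.Agent.S18672
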