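import Groth.Statements.S18674
import Groth.Agent.SegreLC.Top
import Groth.Agent.SegreLC.CanonDim
import Groth.Agent.SegreLC.CMSegre

set_option autoImplicit false
universe u
open scoped TensorProduct
open GrSegre

namespace Groth.Agent.S18674

/-- Let R and S be graded rings defined over a field k of dimensions r ≥ 2 and s ≥ 2, and T = R # S
their Segre product (of dimension r + s − 1). Then K_T ≅ K_R # K_S. Stated here degree by degree as
dim (K_T)_n = dim (K_R)_n · dim (K_S)_n for every n (the published statement is the isomorphism of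
graded T-modules). Here a graded ring defined over k is a commutative k-algebra of finite type,
graded in nonnegative degrees by k-subspaces with degree-zero part k·1; the canonical module of each
of R, S, T is represented by a finitely generated graded module together with a homogeneous
isomorphism from its Hom into a *injective envelope of the residue field onto the top graded local
cohomology of the ring with support in its irrelevant ideal (indices r, s, r + s − 1), computed from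
a *injective resolution in the graded category; dimensions of pieces are over the respective
degree-zero fields (all k); the Segre product T = ⊕_n R_n ⊗_k S_n is presented abstractly as a
graded k-algebra T with an injective k-algebra homomorphism ψ : T → R ⊗_k S carrying T_n onto the
k-span of the elementary tensors a ⊗ b with a ∈ R_n, b ∈ S_n. -/
theorem result (k : Type u) [Field k] (R : Type u) [CommRing R] [Algebra k R] (𝒜 : ℤ → Submodule k R) [GradedAlgebra 𝒜] (hposR : ∀ n : ℤ, n < 0 → 𝒜 n = ⊥) (h0R : 𝒜 0 = Submodule.span k {(1 : R)}) [Algebra.FiniteType k R] (S : Type u) [CommRing S] [Algebra k S] (ℬ : ℤ → Submodule k S) [GradedAlgebra ℬ] (hposS : ∀ n : ℤ, n < 0 → ℬ n = ⊥) (h0S : ℬ 0 = Submodule.span k {(1 : S)}) [Algebra.FiniteType k S] (T : Type u) [CommRing T] [Algebra k T] (𝒯 : ℤ → Submodule k T) [GradedAlgebra 𝒯] (ψ : T →ₐ[k] TensorProduct k R S) (hψ : Function.Injective ψ) (hdegT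 : ∀ n : ℤ, (𝒯 n).map ψ.toLinearMap = Submodule.span k {x : TensorProduct k R S | ∃ a ∈ 𝒜 n, ∃ b ∈ ℬ n, x = a ⊗ₜ[k] b}) (mR : HomogeneousIdeal 𝒜) (hmR : mR.toIdeal = Ideal.span (⋃ n ∈ Set.Ioi (0 : ℤ), (𝒜 n : Set R))) (I : GrLC.StarInjRes 𝒜 𝒜) (mS : HomogeneousIdeal ℬ) (hmS : mS.toIdeal = Ideal.span (⋃ n ∈ Set.Ioi (0 : ℤ), (ℬ n : Set S))) (J : GrLC.StarInjRes ℬ ℬ) (mT : HomogeneousIdeal 𝒯) (hmT : mT.toIdeal = Ideal.span (⋃ n ∈ Set.Ioi (0 : ℤ), (𝒯 n : Set T))) (IT : GrLC.StarInjRes 𝒯 𝒯) (r s : ℕ) (hr : ringKrullDim R = r) (hs : ringKrullDim S = s) (h2r : 2 ≤ r) (h2s : 2 ≤ s) (ER : Type u) [AddCommGroup ER] [Module R ER] (𝓔R : ℤ → AddSubgroup ER) [DirectSum.Decomposition 𝓔R] [SetLike.GradedSMul 𝒜 𝓔R] (eR : (R ⧸ mR.toIdeal) →ₗ[R] ER) (heR : GrLC.IsStarInjHull 𝒜 (GrLC.quotGr 𝒜 mR) 𝓔R eR) (CR : Type u) [AddCommGroup CR] [Module R CR] (𝒞R : ℤ → AddSubgroup CR) [DirectSum.Decomposition 𝒞R] [SetLike.GradedSMul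 𝒜 𝒞R] (hCR : GrLC.IsStarCanonical 𝒜 𝒞R 𝓔R mR r I) (ES : Type u) [AddCommGroup ES] [Module S ES] (𝓔S : ℤ → AddSubgroup ES) [DirectSum.Decomposition 𝓔S] [SetLike.GradedSMul ℬ 𝓔S] (eS : (S ⧸ mS.toIdeal) →ₗ[S] ES) (heS : GrLC.IsStarInjHull ℬ (GrLC.quotGr ℬ mS) 𝓔S eS) (CS : Type u) [AddCommGroup CS] [Module S CS] (𝒞S : ℤ → AddSubgroup CS) [DirectSum.Decomposition 𝒞S] [SetLike.GradedSMul ℬ 𝒞S] (hCS : GrLC.IsStarCanonical ℬ 𝒞S 𝓔S mS s J) (ET : Type u) [AddCommGroup ET] [Module T ET] (𝓔T : ℤ → AddSubgroup ET) [DirectSum.Decomposition 𝓔T] [SetLike.GradedSMul 𝒯 𝓔T] (eT : (T ⧸ mT.toIdeal) →ₗ[T] ET) (heT : GrLC.IsStarInjHull 𝒯 (GrLC.quotGr 𝒯 mT) 𝓔T eT) (CT : Type u) [AddCommGroup CT] [Module T CT] (𝒞T : ℤ → AddSubgroup CT) [DirectSum.Decomposition 𝒞T] [SetLike.GradedSMul 𝒯 𝒞T] (hCT : GrLC.IsStarCanonical 𝒯 𝒞T 𝓔T mT (r + s - 1) IT) (n : ℤ) : Module.finrank (GrLC.deg0 𝒯) (GrLC.comp 𝒯 𝒞T n) = Module.finrank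 (GrLC.deg0 𝒜) (GrLC.comp 𝒜 𝒞R n) * Module.finrank (GrLC.deg0 ℬ) (GrLC.comp ℬ 𝒞S n) := by
  classical
  haveI : Nontrivial R := not_subsingleton_iff_nontrivial.1 fun _ => by
    rw [ringKrullDim_eq_bot_of_subsingleton] at hr; exact WithBot.bot_ne_natCast r hr
  haveI : Nontrivial S := not_subsingleton_iff_nontrivial.1 fun _ => by
    rw [ringKrullDim_eq_bot_of_subsingleton] at hs; exact WithBot.bot_ne_natCast s hs
  haveI := Algebra.FiniteType.isNoetherianRing k R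
  haveI := Algebra.FiniteType.isNoetherianRing k S
  have hT : GrSeg.IsSegreRing 𝒜 ℬ 𝒯 ψ := ⟨hψ, hdegT⟩
  haveI := SegreLC.segre_noetherian hT
  haveI : Nontrivial T := ⟨⟨0, 1, fun h => one_ne_zero (α := R ⊗[k] S) (by rw [← map_one ψ, ← h, map_zero])⟩⟩
  have h0T := SegreLC.segre_zero h0R h0S hT
  have hposT : ∀ n : ℤ, n < 0 → 𝒯 n = ⊥ := fun n hn => by
    refine Submodule.map_injective_of_injective (f := ψ.toLinearMap) hψ ?_
    rw [Submodule.map_bot, hdegT, eq_bot_iff]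
    refine Submodule.span_le.2 ?_
    rintro _ ⟨x, hx, y, -, rfl⟩
    rw [show x = 0 from (Submodule.mem_bot k).1 (hposR n hn ▸ hx), TensorProduct.zero_tmul]
    exact zero_mem _
  have hfld : ∀ {A : Type u} [CommRing A] [Nontrivial A] [Algebra k A] (𝒢 : ℤ → Submodule k A) [GradedAlgebra 𝒢],
      𝒢 0 = Submodule.span k {(1 : A)} → IsField (GrLC.deg0 𝒢) := fun {A} _ _ _ 𝒢 _ h0 => by
    refine ⟨⟨0, 1, fun h => zero_ne_one (congrArg Subtype.val h)⟩, mul_comm, fun {x} hx => ?_⟩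
    obtain ⟨c, hc⟩ := Submodule.mem_span_singleton.1 (show (x : A) ∈ Submodule.span k {(1 : A)} from h0 ▸ x.2)
    have hc0 : c ≠ 0 := fun h => hx (Subtype.ext (by rw [← hc, h, zero_smul]; rfl))
    refine ⟨⟨algebraMap k A c⁻¹, SetLike.algebraMap_mem_graded 𝒢 _⟩, Subtype.ext ?_⟩
    show (x : A) * algebraMap k A c⁻¹ = 1
    rw [← hc, ← Algebra.algebraMap_eq_smul_one, ← map_mul, mul_inv_cancel₀ hc0, map_one]
  have hgen : ∀ {A : Type u} [CommRing A] [Nontrivial A] [Algebra k A] (𝒢 : ℤ → Submodule k A) [GradedAlgebra 𝒢]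
      (mA : HomogeneousIdeal 𝒢), mA.toIdeal = Ideal.span (⋃ n ∈ Set.Ioi (0 : ℤ), (𝒢 n : Set A)) →
      (∀ n : ℤ, n < 0 → 𝒢 n = ⊥) →
      mA.toIdeal ≠ ⊤ ∧ (∀ c : ℤ, c < 0 → ∀ x ∈ 𝒢 c, x = 0) ∧ (∀ c : ℤ, 0 < c → ∀ x ∈ 𝒢 c, x ∈ mA.toIdeal) :=
    fun {A} _ _ _ 𝒢 _ mA hm hpos =>
      ⟨hm ▸ SegreDim.irr_ne_top 𝒢 hpos, fun c hc x hx => (Submodule.mem_bot k).1 (hpos c hc ▸ hx),
        fun c hc x hx => hm ▸ SegreDim.mem_irr_of_mem 𝒢 hc hx⟩
  obtain ⟨a1, a2, a3⟩ := hgen 𝒜 mR hmR hposR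
  obtain ⟨b1, b2, b3⟩ := hgen ℬ mS hmS hposS
  obtain ⟨c1, c2, c3⟩ := hgen 𝒯 mT hmT hposT
  rw [SegreLC.finrank_comp_canonical heT c1 c2 c3 (hfld 𝒯 h0T) hCT n,
    SegreLC.finrank_comp_canonical heR a1 a2 a3 (hfld 𝒜 h0R) hCR n,
    SegreLC.finrank_comp_canonical heS b1 b2 b3 (hfld ℬ h0S) hCS n]
  obtain ⟨a, rfl⟩ : ∃ a, r = a + 2 := ⟨r - 2, by omega⟩
  obtain ⟨b, rfl⟩ : ∃ b, s = b + 2 := ⟨s - 2, by omega⟩
  rw [show a + 2 + (b + 2) - 1 = a + b + 3 by omega]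
  have hP : GrSeg.IsSegreMod ψ (SegreLC.agGr 𝒜) (SegreLC.agGr ℬ) (SegreLC.agGr 𝒯) ψ.toLinearMap := {
    injective := hψ
    image_piece := fun n => congrArg SetLike.coe (hdegT n)
    map_smul := fun t p => by
      rw [SegreDim.act_eq_mul]
      exact map_mul ψ t p }
  exact SegreLC.finrank_top (SegreLC.agRes I) (SegreLC.agRes J) hposR h0R hposS h0S hT hmR hmS hmT
    ψ.toLinearMap hP (SegreLC.agRes IT) a b
    (fun q d hq => (SegreLC.subsingleton_H_iff (SegreLC.agRes I) mR q).1 (LocCoh.subsingleton_H_of_supportDim_lt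
      (by rw [Module.supportDim_self_eq_ringKrullDim, hr]; exact_mod_cast hq)) d)
    (fun q d hq => (SegreLC.subsingleton_H_iff (SegreLC.agRes J) mS q).1 (LocCoh.subsingleton_H_of_supportDim_lt
      (by rw [Module.supportDim_self_eq_ringKrullDim, hs]; exact_mod_cast hq)) d) (-n)
end Groth.Agent.S18674
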