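import Groth.Statements.S18693
import Groth.Agent.WApprox26.Complete
import Groth.Agent.WApprox26.Galois
import Groth.Agent.IsoTriv.SchemeSpec
import Groth.Agent.SGA3cLib.TorusBasic
import Mathlib.AlgebraicGeometry.Morphisms.Etale
import Mathlib.AlgebraicGeometry.Morphisms.Finite

set_option autoImplicit false
set_option maxHeartbeats 800000
set_option linter.style.haveILetI false
set_option backward.isDefEq.respectTransparency.types false
open CategoryTheory MonoidalCategory CartesianMonoidalCategory MonObj GrpObj AlgebraicGeometry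
universe u
open MultTori

namespace Groth.Agent.S18693

/-- Let A be a discrete valuation ring whose fraction field is K, let K̂ be the completion of K at the
valuation of A (the adic completion at the height-one prime v of A) and Â ⊂ K̂ its ring of integers,
and let T be an isotrivial A-torus (isomorphic, after one finite étale surjective base change, to a
split torus of some rank). Then T(K̂) = T(Â)·T(K): every point of T over Spec K̂ (as an A-scheme) is
the product, for the group law on points, of the restriction of a point over Spec Â and the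
restriction of a point over Spec K. The restrictions are taken along given A-morphisms Spec K̂ →
Spec Â and Spec K̂ → Spec K whose underlying maps are the canonical ones. (In the printed copy the
completion signs of this formula are lost; the reading T(Â)·T(K) = T(K̂) is the one its proof
establishes.) -/
theorem result
    (A : Type u) [CommRing A] [IsDomain A] [IsDiscreteValuationRing A]
    (v : IsDedekindDomain.HeightOneSpectrum A)
    (T : Over (Spec (CommRingCat.of A))) [GrpObj T]
    (hT : ∃ r : ℕ, TwC.Locally (Spec (CommRingCat.of A)) .finiteEtale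
        (fun S' g => Red.IsSplitTorusWith (Fin r → ℤ) (Red.bc g T)))
    (ιA : Over.mk (Spec.map (CommRingCat.ofHom (algebraMap A (v.adicCompletion (FractionRing A))))) ⟶
      Over.mk (Spec.map (CommRingCat.ofHom (algebraMap A (v.adicCompletionIntegers (FractionRing A))))))
    (hιA : ιA.left = Spec.map (CommRingCat.ofHom (algebraMap (v.adicCompletionIntegers (FractionRing A)) (v.adicCompletion (FractionRing A)))))
    (ιK : Over.mk (Spec.map (CommRingCat.ofHom (algebraMap A (v.adicCompletion (FractionRing A))))) ⟶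
      Over.mk (Spec.map (CommRingCat.ofHom (algebraMap A (FractionRing A)))))
    (hιK : ιK.left = Spec.map (CommRingCat.ofHom (algebraMap (FractionRing A) (v.adicCompletion (FractionRing A)))))
    (x : Over.mk (Spec.map (CommRingCat.ofHom (algebraMap A (v.adicCompletion (FractionRing A))))) ⟶ T) :
    ∃ (a : Over.mk (Spec.map (CommRingCat.ofHom (algebraMap A (v.adicCompletionIntegers (FractionRing A))))) ⟶ T)
      (b : Over.mk (Spec.map (CommRingCat.ofHom (algebraMap A (FractionRing A)))) ⟶ T),
      x = (ιA ≫ a) * (ιK ≫ b) := by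
  obtain ⟨r, S', f, hff, hfe, hfs, hU⟩ := hT
  haveI := hff
  haveI := hfe
  haveI := hfs
  -- the torus is affine
  have hTor : Red.IsTorus T := by
    refine ⟨S', f, inferInstance, inferInstance, fun V hV => ⟨f ⁻¹ᵁ V, (hV.preimage f).isCompact, ?_⟩, fun s' => ?_⟩
    · exact Set.image_preimage_eq _ f.surjective
    · obtain ⟨U, hU1, -, hU3⟩ := hU s'
      exact ⟨U, hU1, r, hU3⟩
  haveI := Groth.Agent.SGA3cLib.torus_isAffineHom hTor
  haveI : IsAffine T.left := isAffine_of_isAffineHom T.hom
  obtain ⟨H, _, _, ⟨e₀⟩⟩ := Groth.Agent.IsoTriv.SchemeSpec.exists_spec T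
  -- a splitting piece
  haveI : Nonempty (Spec (CommRingCat.of A)) := inferInstance
  obtain ⟨s', -⟩ := f.surjective (Classical.arbitrary _)
  obtain ⟨U, hs', hUc, ⟨eU⟩⟩ := hU s'
  haveI : IsClosedImmersion U.ι := IsClosedImmersion.of_isPreimmersion U.ι (by
    rw [Scheme.Opens.range_ι]; exact hUc)
  haveI : IsFinite (U.ι ≫ f) := inferInstance
  haveI : AlgebraicGeometry.Etale (U.ι ≫ f) := inferInstance
  haveI : IsAffine (U : Scheme.{u}) := isAffine_of_isAffineHom (U.ι ≫ f)
  let φ := Spec.preimage ((U : Scheme.{u}).isoSpec.inv ≫ U.ι ≫ f)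
  have hφ : Spec.map φ = (U : Scheme.{u}).isoSpec.inv ≫ U.ι ≫ f := Spec.map_preimage _
  haveI : IsFinite (Spec.map φ) := by rw [hφ]; infer_instance
  haveI : AlgebraicGeometry.Etale (Spec.map φ) := by rw [hφ]; infer_instance
  letI : Algebra A Γ(U, ⊤) := φ.hom.toAlgebra
  haveI : Module.Finite A Γ(U, ⊤) := (IsFinite.SpecMap_iff φ).1 inferInstance
  have het : φ.hom.Etale := (HasRingHomProperty.Spec_iff (P := @AlgebraicGeometry.Etale)).1 inferInstance
  haveI : Algebra.Etale A Γ(U, ⊤) := het
  haveI : Nonempty (U : Scheme.{u}) := ⟨⟨s', hs'⟩⟩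
  haveI : Nontrivial Γ(U, ⊤) :=
    PrimeSpectrum.nontrivial ((U : Scheme.{u}).isoSpec.hom (Classical.arbitrary _))
  -- the Galois closure
  obtain ⟨C, _, _, _, _, _, _, _, ψ, L, _, _, _, _, _, _, _, hfix⟩ :=
    Groth.Agent.WApprox26.exists_galois (A := A) (FractionRing A) Γ(U, ⊤)
  obtain ⟨i⟩ := Groth.Agent.IsoTriv.SchemeSpec.nonempty_bc_congr (U.ι ≫ f) e₀
  obtain ⟨e₁⟩ := Groth.Agent.IsoTriv.SchemeSpec.nonempty_triv_of_restrict H (U.ι ≫ f) (i.symm ≪≫ eU) C
    (Spec.map (CommRingCat.ofHom ψ.toRingHom) ≫ (U : Scheme.{u}).isoSpec.inv) (by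
      rw [Category.assoc, ← hφ, ← Spec.map_comp]
      congr 1
      exact CommRingCat.hom_ext ψ.comp_algebraMap)
  let e := e₁.trans (MonoidAlgebra.domCongrBialgEquiv C C
    (MulEquiv.ulift.symm : Multiplicative (Fin r → ℤ) ≃* ULift.{u} (Multiplicative (Fin r → ℤ))))
  obtain ⟨ϖ, hϖ, hres⟩ := Groth.Agent.WApprox26.exists_uniformizer v (FractionRing A)
  -- the point
  let x' : CoactBr.sp A (v.adicCompletion (FractionRing A)) ⟶ CoactBr.sp A H := x ≫ e₀.hom.hom.hom
  obtain ⟨a, b, hab⟩ := Groth.Agent.WApprox26.exists_points e hfix ϖ hϖ hres (Groth.Agent.HopfLib.SpPoints.algOf x')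
  haveI : IsMonHom e₀.inv.hom.hom := e₀.inv.hom.isMonHom_hom
  refine ⟨CoactBr.pt a ≫ e₀.inv.hom.hom, CoactBr.pt b ≫ e₀.inv.hom.hom, ?_⟩
  have hA : ιA = CoactBr.pt (IsScalarTower.toAlgHom A (v.adicCompletionIntegers (FractionRing A))
      (v.adicCompletion (FractionRing A))) := Over.OverMorphism.ext hιA
  have hK : ιK = CoactBr.pt (IsScalarTower.toAlgHom A (FractionRing A)
      (v.adicCompletion (FractionRing A))) := Over.OverMorphism.ext hιK
  have key : x' = CoactBr.pt ((IsScalarTower.toAlgHom A (v.adicCompletionIntegers (FractionRing A))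
      (v.adicCompletion (FractionRing A))).comp a) * CoactBr.pt ((IsScalarTower.toAlgHom A (FractionRing A)
      (v.adicCompletion (FractionRing A))).comp b) := by
    rw [← Groth.Agent.HopfLib.SpPoints.pt_algOf x', hab, CoactBr.pt_mul_pt]
    rfl
  have hA' := (congrArg (fun t => t ≫ CoactBr.pt a) hA).trans (CoactBr.pt_comp a _).symm
  have hK' := (congrArg (fun t => t ≫ CoactBr.pt b) hK).trans (CoactBr.pt_comp b _).symm
  have h1 : x = x' ≫ e₀.inv.hom.hom := by
    show x = (x ≫ e₀.hom.hom.hom) ≫ e₀.inv.hom.hom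
    have h0 : e₀.hom.hom.hom ≫ e₀.inv.hom.hom = 𝟙 T := ((Grp.forget _).mapIso e₀).hom_inv_id
    exact (((Category.assoc _ _ _).trans (congrArg (x ≫ ·) h0)).trans (Category.comp_id x)).symm
  refine h1.trans ((congrArg (· ≫ e₀.inv.hom.hom) key).trans ((MonObj.mul_comp _ _ _).trans ?_))
  exact congrArg₂ (· * ·)
    (((Category.assoc _ _ _).symm.trans (congrArg (· ≫ e₀.inv.hom.hom) hA')).symm)
    (((Category.assoc _ _ _).symm.trans (congrArg (· ≫ e₀.inv.hom.hom) hK')).symm)

end Groth.Agent.S18693
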