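import Groth.Statements.S18696
import Groth.Agent.RetractRat26.Presentation
import Groth.Agent.RetractRat26.Split

set_option autoImplicit false
set_option linter.style.haveILetI false
set_option backward.isDefEq.respectTransparency.types false
open CategoryTheory MonoidalCategory CartesianMonoidalCategory MonObj GrpObj AlgebraicGeometry
universe u
open MultTori

namespace Groth.Agent.S18696

/-- (v) ⇒ (viii): let k be a field and T an isotrivial k-torus (isomorphic to a split torus of some rank
after one finite étale surjective base change). If for every discrete valuation ring A containing k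
(a k-algebra), with residue field κ, the reduction map T(A) → T(κ) is surjective, then T is retract
rational over k: there are a nonempty open subscheme U of T, an open subscheme Y of an affine space
over k and k-morphisms U → Y → U whose composite is the identity of U. -/
theorem result
    (k : Type u) [Field k] (T : Over (Spec (CommRingCat.of k))) [GrpObj T]
    (hT : ∃ r : ℕ, TwC.Locally (Spec (CommRingCat.of k)) .finiteEtale
        (fun S' g => Red.IsSplitTorusWith (Fin r → ℤ) (Red.bc g T)))
    (h : ∀ (A : Type u) [CommRing A] [IsDomain A] [IsDiscreteValuationRing A] [Algebra k A]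
        (u : Spec (CommRingCat.of (IsLocalRing.ResidueField A)) ⟶ T.left),
        u ≫ T.hom = Spec.map (CommRingCat.ofHom ((IsLocalRing.residue A).comp (algebraMap k A))) →
        ∃ s : Spec (CommRingCat.of A) ⟶ T.left, s ≫ T.hom = Spec.map (CommRingCat.ofHom (algebraMap k A)) ∧
          Spec.map (CommRingCat.ofHom (IsLocalRing.residue A)) ≫ s = u) :
    ∃ (U : T.left.Opens) (n : ℕ) (Y : (Spec (CommRingCat.of (MvPolynomial (Fin n) k))).Opens)
        (a : (U : Scheme.{u}) ⟶ (Y : Scheme.{u})) (b : (Y : Scheme.{u}) ⟶ (U : Scheme.{u})),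
        (U : Set T.left).Nonempty ∧ a ≫ b = 𝟙 (U : Scheme.{u}) ∧
        a ≫ Y.ι ≫ Spec.map (CommRingCat.ofHom (algebraMap k (MvPolynomial (Fin n) k))) = U.ι ≫ T.hom ∧
        b ≫ U.ι ≫ T.hom = Y.ι ≫ Spec.map (CommRingCat.ofHom (algebraMap k (MvPolynomial (Fin n) k))) := by
  classical
  obtain ⟨H, _, _, _, _, _, j, hj, -⟩ := Groth.Agent.RetractRat26.exists_coordinateRing k T hT
  let F := FractionRing H
  haveI := Groth.Agent.RetractRat26.essFiniteType_fractions (k := k) (H := H) (F := F)
  obtain ⟨sb, hsb, hsep⟩ := Groth.Agent.RetractRat26.exists_sepBasis (k := k) H (F := F)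
  obtain ⟨n, φ, hpr, hne, hfrac⟩ := Groth.Agent.RetractRat26.exists_presentation sb hsb hsep
  set p := RingHom.ker φ with hp
  haveI : p.IsPrime := RingHom.ker_isPrime _
  let A := Localization.AtPrime p
  haveI : IsDiscreteValuationRing A := Groth.Agent.RetractRat26.isDiscreteValuationRing_atPrime p hpr hne
  let ψ : A →ₐ[k] F :=
    IsLocalization.liftAlgHom (M := p.primeCompl) (f := φ) (fun y => IsUnit.mk0 _ (fun h => y.2 h))
  have hψ : ∀ r, ψ (algebraMap _ A r) = φ r := fun r => IsLocalization.lift_eq _ r
  have hψmk : ∀ (r : MvPolynomial (Fin (n + 1)) k) (b : p.primeCompl), ψ (IsLocalization.mk' A r b) * φ b = φ r := by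
    intro r b
    rw [← hψ b, ← map_mul, IsLocalization.mk'_spec, hψ]
  have hψs : Function.Surjective ψ := fun z => by
    obtain ⟨a, b, hb, rfl⟩ := hfrac z
    exact ⟨IsLocalization.mk' A a (⟨b, hb⟩ : p.primeCompl), eq_div_of_mul_eq hb (hψmk a ⟨b, hb⟩)⟩
  haveI : IsLocalHom ψ.toRingHom := IsLocalHom.of_surjective _ hψs
  let κ := IsLocalRing.ResidueField A
  let ρ : κ →+* F := IsLocalRing.ResidueField.lift ψ.toRingHom
  have hρ : Function.Bijective ρ := ⟨ρ.injective, fun z => by
    obtain ⟨a, rfl⟩ := hψs z
    exact ⟨IsLocalRing.residue A a, rfl⟩⟩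
  let gη : H →+* κ := (RingEquiv.ofBijective ρ hρ).symm.toRingHom.comp (algebraMap H F)
  have hη : ∀ a, ρ (gη a) = algebraMap H F a := fun a => (RingEquiv.ofBijective ρ hρ).apply_symm_apply _
  have hηk : gη.comp (algebraMap k H) = (IsLocalRing.residue A).comp (algebraMap k A) := RingHom.ext fun c => hρ.1 <| by
    rw [RingHom.comp_apply, hη, ← IsScalarTower.algebraMap_apply]
    exact (ψ.commutes c).symm
  obtain ⟨s, hs1, hs2⟩ := h A (Spec.map (CommRingCat.ofHom gη) ≫ j.hom) (by
    rw [Category.assoc, hj, ← Spec.map_comp, ← CommRingCat.ofHom_comp, hηk])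
  let σ₀ := Spec.preimage (s ≫ j.inv)
  have hσ₀ : Spec.map σ₀ = s ≫ j.inv := Spec.map_preimage _
  have hσk : σ₀.hom.comp (algebraMap k H) = algebraMap k A := by
    refine congrArg CommRingCat.Hom.hom (Spec.map_injective ?_ : CommRingCat.ofHom (algebraMap k H) ≫ σ₀ = CommRingCat.ofHom (algebraMap k A))
    rw [Spec.map_comp, hσ₀, Category.assoc, ← hj, Iso.inv_hom_id_assoc, hs1]
  have hσr : ∀ a, IsLocalRing.residue A (σ₀.hom a) = gη a := fun a => by
    have h1 : σ₀ ≫ CommRingCat.ofHom (IsLocalRing.residue A) = CommRingCat.ofHom gη := by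
      apply Spec.map_injective
      rw [Spec.map_comp, hσ₀, ← Category.assoc, hs2, Category.assoc, Iso.hom_inv_id, Category.comp_id]
    exact DFunLike.congr_fun (congrArg CommRingCat.Hom.hom h1) a
  let σ : H →ₐ[k] A := { σ₀.hom with commutes' := fun c => DFunLike.congr_fun hσk c }
  obtain ⟨h', g, α, β, hh, hαβ⟩ := Groth.Agent.RetractRat26.exists_retract (k := k) φ p rfl σ (fun a r b hab => by
    have h1 : ψ (σ a) = algebraMap H F a := by
      rw [← hη, ← hσr]
      rfl
    rw [← hψmk r b, ← h1, hab])
  let iT := Spec.map (CommRingCat.ofHom (algebraMap H (Localization.Away h'))) ≫ j.hom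
  let iY := Spec.map (CommRingCat.ofHom (algebraMap (MvPolynomial (Fin (n + 1)) k) (Localization.Away g)))
  haveI : IsOpenImmersion iY := IsOpenImmersion.of_isLocalization g
  haveI : IsOpenImmersion (Spec.map (CommRingCat.ofHom (algebraMap H (Localization.Away h')))) :=
    IsOpenImmersion.of_isLocalization h'
  refine ⟨iT.opensRange, n + 1, iY.opensRange,
    iT.isoOpensRange.inv ≫ Spec.map (CommRingCat.ofHom α.toRingHom) ≫ iY.isoOpensRange.hom,
    iY.isoOpensRange.inv ≫ Spec.map (CommRingCat.ofHom β.toRingHom) ≫ iT.isoOpensRange.hom, ?_, ?_, ?_, ?_⟩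
  · haveI : Nontrivial (Localization.Away h') :=
      (IsLocalization.injective (Localization.Away h') (powers_le_nonZeroDivisors_of_noZeroDivisors hh)).nontrivial
    exact ⟨iT.base (Classical.arbitrary (PrimeSpectrum (Localization.Away h'))), ⟨_, rfl⟩⟩
  · simp only [Category.assoc, Iso.hom_inv_id_assoc]
    rw [← Spec.map_comp_assoc, ← CommRingCat.ofHom_comp]
    rw [show α.toRingHom.comp β.toRingHom = RingHom.id _ from congrArg AlgHom.toRingHom hαβ]
    simp
  · simp only [Category.assoc, Scheme.Hom.isoOpensRange_hom_ι_assoc]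
    rw [← Scheme.Hom.isoOpensRange_inv_comp iT, Category.assoc]
    simp only [iY, iT, Category.assoc, hj, ← Spec.map_comp, ← CommRingCat.ofHom_comp]
    refine congrArg (_ ≫ ·) (congrArg Spec.map (CommRingCat.hom_ext ?_))
    refine RingHom.ext fun c => ?_
    exact (congrArg α (IsScalarTower.algebraMap_apply k (MvPolynomial (Fin (n + 1)) k) (Localization.Away g) c).symm).trans
      ((α.commutes c).trans (IsScalarTower.algebraMap_apply k H (Localization.Away h') c))
  · simp only [Category.assoc, Scheme.Hom.isoOpensRange_hom_ι_assoc]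
    rw [← Scheme.Hom.isoOpensRange_inv_comp iY, Category.assoc]
    simp only [iY, iT, Category.assoc, hj, ← Spec.map_comp, ← CommRingCat.ofHom_comp]
    refine congrArg (_ ≫ ·) (congrArg Spec.map (CommRingCat.hom_ext ?_))
    refine RingHom.ext fun c => ?_
    exact (congrArg β (IsScalarTower.algebraMap_apply k H (Localization.Away h') c).symm).trans
      ((β.commutes c).trans (IsScalarTower.algebraMap_apply k (MvPolynomial (Fin (n + 1)) k) (Localization.Away g) c))

end Groth.Agent.S18696
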