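import Groth.Statements.S18697
import Groth.Agent.RetractRat26.Lift
import Groth.Agent.RetractRat26.Split

set_option autoImplicit false
set_option maxHeartbeats 1600000
set_option linter.style.haveILetI false
set_option backward.isDefEq.respectTransparency.types false
open CategoryTheory MonoidalCategory CartesianMonoidalCategory MonObj GrpObj AlgebraicGeometry
universe u
open MultTori

namespace Groth.Agent.S18697

/-- (viii) ⇒ (iii): let k be a field and T an isotrivial k-torus (isomorphic to a split torus of some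
rank after one finite étale surjective base change) which is retract rational over k: there are a
nonempty open subscheme U of T, an open subscheme Y of an affine space over k and k-morphisms U → Y
→ U whose composite is the identity of U. Then for every local k-algebra A with residue field κ the
reduction map T(A) → T(κ) is surjective: every k-morphism Spec κ → T factors through an A-point of
T. -/
theorem result
    (k : Type u) [Field k] (T : Over (Spec (CommRingCat.of k))) [GrpObj T]
    (hT : ∃ r : ℕ, TwC.Locally (Spec (CommRingCat.of k)) .finiteEtale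
        (fun S' g => Red.IsSplitTorusWith (Fin r → ℤ) (Red.bc g T)))
    (hret : ∃ (U : T.left.Opens) (n : ℕ) (Y : (Spec (CommRingCat.of (MvPolynomial (Fin n) k))).Opens)
        (a : (U : Scheme.{u}) ⟶ (Y : Scheme.{u})) (b : (Y : Scheme.{u}) ⟶ (U : Scheme.{u})),
        (U : Set T.left).Nonempty ∧ a ≫ b = 𝟙 (U : Scheme.{u}) ∧
        a ≫ Y.ι ≫ Spec.map (CommRingCat.ofHom (algebraMap k (MvPolynomial (Fin n) k))) = U.ι ≫ T.hom ∧
        b ≫ U.ι ≫ T.hom = Y.ι ≫ Spec.map (CommRingCat.ofHom (algebraMap k (MvPolynomial (Fin n) k)))) :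
    ∀ (A : Type u) [CommRing A] [IsLocalRing A] [Algebra k A]
        (u : Spec (CommRingCat.of (IsLocalRing.ResidueField A)) ⟶ T.left),
        u ≫ T.hom = Spec.map (CommRingCat.ofHom ((IsLocalRing.residue A).comp (algebraMap k A))) →
        ∃ s : Spec (CommRingCat.of A) ⟶ T.left, s ≫ T.hom = Spec.map (CommRingCat.ofHom (algebraMap k A)) ∧
          Spec.map (CommRingCat.ofHom (IsLocalRing.residue A)) ≫ s = u := by
  classical
  obtain ⟨H, _, _, _, _, _, j, hj, hdom, hcomm⟩ := Groth.Agent.RetractRat26.exists_coordinateRing k T hT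
  obtain ⟨U, n, Y, a, b, hne, hab, ha, hb⟩ := hret
  let R := MvPolynomial (Fin n) k
  -- a basic open of the domain of definition
  let U' : (Spec (CommRingCat.of H)).Opens := j.hom ⁻¹ᵁ U
  obtain ⟨z, hz⟩ : ∃ z, z ∈ U' := by
    obtain ⟨t, ht⟩ := hne
    refine ⟨j.inv.base t, ?_⟩
    show j.hom.base (j.inv.base t) ∈ U
    rwa [← Scheme.Hom.comp_apply, Iso.inv_hom_id]
  obtain ⟨_, ⟨h, rfl⟩, hzh, hhU⟩ :=
    PrimeSpectrum.isTopologicalBasis_basic_opens.exists_subset_of_mem_open hz U'.2
  have hh : h ≠ 0 := by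
    rintro rfl
    exact hzh (zero_mem _)
  let iH : Spec (CommRingCat.of (Localization.Away h)) ⟶ Spec (CommRingCat.of H) :=
    Spec.map (CommRingCat.ofHom (algebraMap H (Localization.Away h)))
  have hiH : Set.range iH.base = (PrimeSpectrum.basicOpen h : Set (PrimeSpectrum H)) :=
    PrimeSpectrum.localization_away_comap_range (Localization.Away h) h
  have hρ : Set.range (iH ≫ j.hom).base ⊆ Set.range U.ι.base := by
    rw [Scheme.Opens.range_ι]
    rintro _ ⟨w, rfl⟩
    exact hhU (hiH ▸ ⟨w, rfl⟩ : iH.base w ∈ (PrimeSpectrum.basicOpen h : Set (PrimeSpectrum H)))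
  let ρ := IsOpenImmersion.lift U.ι (iH ≫ j.hom) hρ
  have hρι : ρ ≫ U.ι = iH ≫ j.hom := IsOpenImmersion.lift_fac _ _ _
  let φ₀ := Spec.preimage (ρ ≫ a ≫ Y.ι)
  have hφ₀ : Spec.map φ₀ = ρ ≫ a ≫ Y.ι := Spec.map_preimage _
  have hφk : φ₀.hom.comp (algebraMap k R) = algebraMap k (Localization.Away h) := by
    have h1 : CommRingCat.ofHom (algebraMap k R) ≫ φ₀ = CommRingCat.ofHom (algebraMap k (Localization.Away h)) := by
      apply Spec.map_injective
      rw [Spec.map_comp, hφ₀, Category.assoc, Category.assoc, ha, reassoc_of% hρι, hj, ← Spec.map_comp,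
        ← CommRingCat.ofHom_comp, ← IsScalarTower.algebraMap_eq]
    exact congrArg CommRingCat.Hom.hom h1
  let φ : R →ₐ[k] Localization.Away h := { φ₀.hom with commutes' := fun c => DFunLike.congr_fun hφk c }
  haveI : IsDomain (Localization.Away h) :=
    IsLocalization.isDomain_localization (powers_le_nonZeroDivisors_of_noZeroDivisors hh)
  let ξ : Spec (CommRingCat.of (Localization.Away h)) := (⟨⊥, Ideal.isPrime_bot⟩ : PrimeSpectrum (Localization.Away h))
  let q : Spec (CommRingCat.of R) := (Spec.map φ₀).base ξ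
  let V : (Spec (CommRingCat.of R)).Opens := Y.ι ''ᵁ (b ⁻¹ᵁ (U.ι ⁻¹ᵁ (j.inv ⁻¹ᵁ (PrimeSpectrum.basicOpen h))))
  have hqV : q ∈ V := by
    refine ⟨a.base (ρ.base ξ), ?_, ?_⟩
    · show j.inv.base (U.ι.base (b.base (a.base (ρ.base ξ)))) ∈ PrimeSpectrum.basicOpen h
      rw [← Scheme.Hom.comp_apply a b, hab, show ∀ w : (U : Scheme.{u}), (𝟙 (U : Scheme.{u}) : _ ⟶ _).base w = w from fun w => rfl, ← Scheme.Hom.comp_apply ρ U.ι, hρι,
        ← Scheme.Hom.comp_apply (iH ≫ j.hom) j.inv, Category.assoc, Iso.hom_inv_id, Category.comp_id]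
      exact (Set.ext_iff.1 hiH _).1 ⟨ξ, rfl⟩
    · show Y.ι.base (a.base (ρ.base ξ)) = q
      rw [← Scheme.Hom.comp_apply, ← Scheme.Hom.comp_apply, ← hφ₀]
  obtain ⟨_, ⟨g, rfl⟩, hqg, hgV⟩ := PrimeSpectrum.isTopologicalBasis_basic_opens.exists_subset_of_mem_open hqV V.2
  have hφg : φ g ≠ 0 := fun h0 => hqg (show φ₀.hom g ∈ (⊥ : Ideal _) from Ideal.mem_bot.2 h0)
  let iR : Spec (CommRingCat.of (Localization.Away g)) ⟶ Spec (CommRingCat.of R) :=
    Spec.map (CommRingCat.ofHom (algebraMap R (Localization.Away g)))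
  have hiR : Set.range iR.base = (PrimeSpectrum.basicOpen g : Set (PrimeSpectrum R)) :=
    PrimeSpectrum.localization_away_comap_range (Localization.Away g) g
  have hη : Set.range iR.base ⊆ Set.range Y.ι.base := by
    rw [hiR]
    exact fun w hw => by
      obtain ⟨y, -, rfl⟩ := hgV hw
      exact ⟨y, rfl⟩
  let τ := IsOpenImmersion.lift Y.ι iR hη
  have hτι : τ ≫ Y.ι = iR := IsOpenImmersion.lift_fac _ _ _
  let σ₀ := Spec.preimage (τ ≫ b ≫ U.ι ≫ j.inv)
  have hσ₀ : Spec.map σ₀ = τ ≫ b ≫ U.ι ≫ j.inv := Spec.map_preimage _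
  have hjinv : j.inv ≫ Spec.map (CommRingCat.ofHom (algebraMap k H)) = T.hom := by rw [← hj, Iso.inv_hom_id_assoc]
  have hσk : σ₀.hom.comp (algebraMap k H) = algebraMap k (Localization.Away g) := by
    have h1 : CommRingCat.ofHom (algebraMap k H) ≫ σ₀ = CommRingCat.ofHom (algebraMap k (Localization.Away g)) := by
      apply Spec.map_injective
      rw [Spec.map_comp, hσ₀, Category.assoc, Category.assoc, Category.assoc, hjinv, hb, reassoc_of% hτι,
        ← Spec.map_comp, ← CommRingCat.ofHom_comp, ← IsScalarTower.algebraMap_eq]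
    exact congrArg CommRingCat.Hom.hom h1
  let σ : H →ₐ[k] Localization.Away g := { σ₀.hom with commutes' := fun c => DFunLike.congr_fun hσk c }
  -- the smaller open on the torus
  obtain ⟨⟨c, s⟩, hcs⟩ := IsLocalization.surj (Submonoid.powers h) (φ g)
  have hc : c ≠ 0 := by
    rintro rfl
    rw [map_zero] at hcs
    exact (IsLocalization.map_units (Localization.Away h) s).mul_left_eq_zero.not.2 hφg hcs
  let L := Localization.Away (h * c)
  let res : Localization.Away h →ₐ[k] L :=
    IsLocalization.liftAlgHom (M := Submonoid.powers h) (f := IsScalarTower.toAlgHom k H L) (fun y => by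
      obtain ⟨i, hi⟩ := y.2
      show IsUnit (algebraMap H L y)
      rw [← hi, map_pow]
      exact (isUnit_of_dvd_unit (map_dvd _ (dvd_mul_right h c)) (IsLocalization.Away.algebraMap_isUnit (h * c))).pow i)
  have hres : ∀ x, res (algebraMap H _ x) = algebraMap H L x := fun x => IsLocalization.lift_eq _ x
  have hgu : IsUnit (res (φ g)) := by
    have h1 := congrArg res hcs
    rw [map_mul, hres, hres] at h1
    exact isUnit_of_mul_isUnit_left (h1 ▸
      isUnit_of_dvd_unit (map_dvd _ (dvd_mul_left c h)) (IsLocalization.Away.algebraMap_isUnit (h * c)))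
  let α₁ : Localization.Away g →ₐ[k] L :=
    IsLocalization.liftAlgHom (M := Submonoid.powers g) (f := res.comp φ) (fun y => by
      obtain ⟨i, hi⟩ := y.2
      show IsUnit (res (φ y))
      rw [← hi, map_pow, map_pow]; exact hgu.pow i)
  have hα₁x : ∀ x, α₁ (algebraMap R _ x) = res (φ x) := fun x => IsLocalization.lift_eq _ x
  have hα₁ : CommRingCat.ofHom (algebraMap R (Localization.Away g)) ≫ CommRingCat.ofHom α₁.toRingHom =
      φ₀ ≫ CommRingCat.ofHom res.toRingHom :=
    CommRingCat.hom_ext (RingHom.ext fun x => (hα₁x x).trans (by rfl))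
  have hkey : Spec.map (CommRingCat.ofHom α₁.toRingHom) ≫ τ = Spec.map (CommRingCat.ofHom res.toRingHom) ≫ ρ ≫ a := by
    rw [← cancel_mono Y.ι, Category.assoc, hτι, Category.assoc, Category.assoc, ← hφ₀, ← Spec.map_comp,
      ← Spec.map_comp, hα₁]
  have hcomp : ∀ x, α₁ (σ x) = algebraMap H L x := by
    have h1 : σ₀ ≫ CommRingCat.ofHom α₁.toRingHom =
        CommRingCat.ofHom (algebraMap H (Localization.Away h)) ≫ CommRingCat.ofHom res.toRingHom := by
      apply Spec.map_injective
      rw [Spec.map_comp, hσ₀, reassoc_of% hkey, reassoc_of% hab, reassoc_of% hρι, Iso.hom_inv_id, Category.comp_id,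
        Spec.map_comp]
    intro x
    have h2 := DFunLike.congr_fun (congrArg CommRingCat.Hom.hom h1) x
    simp only [CommRingCat.hom_comp, CommRingCat.hom_ofHom, RingHom.comp_apply, AlgHom.toRingHom_eq_coe, RingHom.coe_coe] at h2
    exact h2.trans (hres x)
  obtain ⟨h', g', α', β', hh', hαβ'⟩ :=
    Groth.Agent.RetractRat26.exists_retract_of_pair (k := k) (mul_ne_zero hh hc) σ α₁ hcomp
  intro A _ _ _ u hu
  let x₀ := Spec.preimage (u ≫ j.inv)
  have hx₀ : Spec.map x₀ = u ≫ j.inv := Spec.map_preimage _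
  have hxk : x₀.hom.comp (algebraMap k H) = algebraMap k (IsLocalRing.ResidueField A) := by
    have h1 : CommRingCat.ofHom (algebraMap k H) ≫ x₀ =
        CommRingCat.ofHom (algebraMap k (IsLocalRing.ResidueField A)) := by
      apply Spec.map_injective
      rw [Spec.map_comp, hx₀, Category.assoc, hjinv, hu, IsScalarTower.algebraMap_eq k A (IsLocalRing.ResidueField A)]
      rfl
    exact congrArg CommRingCat.Hom.hom h1
  let x : H →ₐ[k] IsLocalRing.ResidueField A := { x₀.hom with commutes' := fun d => DFunLike.congr_fun hxk d }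
  obtain ⟨s', hs'⟩ := Groth.Agent.RetractRat26.exists_lift hh' α' β' hαβ' (fun K => hdom K) (fun X => hcomm X) A
    (WithConv.toConv x)
  refine ⟨Spec.map (CommRingCat.ofHom s'.ofConv.toRingHom) ≫ j.hom, ?_, ?_⟩
  · rw [Category.assoc, hj, ← Spec.map_comp, ← CommRingCat.ofHom_comp]
    exact congrArg Spec.map (CommRingCat.hom_ext s'.ofConv.comp_algebraMap)
  · rw [← Spec.map_comp_assoc, ← Iso.eq_comp_inv, ← hx₀]
    refine congrArg Spec.map (CommRingCat.hom_ext (RingHom.ext fun d => ?_))
    exact DFunLike.congr_fun (congrArg WithConv.ofConv hs') d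

end Groth.Agent.S18697
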