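import Groth.Statements.S18698
import Groth.Agent.RetractRat26.LatticeData
import Groth.Agent.RetractRat26.FromLift
import Groth.Agent.RetractRat26.Split
import Groth.Agent.TorusGal29.Split
import Groth.Agent.IsoTriv.SchemeSpec
import Groth.Agent.ASBun8.GenPt
import Mathlib.AlgebraicGeometry.AffineSpace

set_option autoImplicit false
set_option linter.style.haveILetI false
set_option maxHeartbeats 1000000
set_option backward.isDefEq.respectTransparency.types false
open CategoryTheory MonoidalCategory CartesianMonoidalCategory MonObj GrpObj AlgebraicGeometry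
universe u
open MultTori

namespace Groth.Agent.S18698

open Groth.Agent.RetractRat26 Groth.Agent.IsoTriv
open scoped TensorProduct

/-- The spectrum of a tensor product and the product. -/
theorem exists_prod_spec {k : Type u} [Field k] (A B : Type u) [CommRing A] [CommRing B] [Algebra k A] [Algebra k B]
    (T : Over (Spec (CommRingCat.of k))) (i : CoactBr.sp k A ≅ T) :
    ∃ φ : Spec (CommRingCat.of (A ⊗[k] B)) ≅ (T ⊗ CoactBr.sp k B).left,
      φ.hom ≫ (T ⊗ CoactBr.sp k B).hom = Spec.map (CommRingCat.ofHom (algebraMap k (A ⊗[k] B))) := by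
  let φ₀ : Spec (CommRingCat.of (A ⊗[k] B)) ≅ (CoactBr.sp k A ⊗ CoactBr.sp k B).left := (pullbackSpecIso k A B).symm
  let ψ : (CoactBr.sp k A ⊗ CoactBr.sp k B) ≅ (T ⊗ CoactBr.sp k B) := MonoidalCategory.whiskerRightIso i _
  refine ⟨φ₀ ≪≫ (Over.forget _).mapIso ψ, ?_⟩
  have h := Over.w ψ.hom
  show (φ₀.hom ≫ ψ.hom.left) ≫ _ = _
  rw [Category.assoc, h]
  show (pullbackSpecIso k A B).inv ≫ Limits.pullback.fst _ _ ≫ _ = _
  rw [pullbackSpecIso_inv_fst'_assoc]
  show _ ≫ Spec.map (CommRingCat.ofHom (algebraMap k A)) = _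
  rw [← Spec.map_comp, ← CommRingCat.ofHom_comp, ← IsScalarTower.algebraMap_eq]

/-- Two affine varieties with the same invariant field are birational. -/
theorem isRationalOver_of_fields {k : Type u} [Field k] {X : Scheme.{u}} (f : X ⟶ Spec (CommRingCat.of k))
    (D : Type u) [CommRing D] [IsDomain D] [Algebra k D] [Algebra.FiniteType k D]
    (φ : Spec (CommRingCat.of D) ≅ X) (hφ : φ.hom ≫ f = Spec.map (CommRingCat.ofHom (algebraMap k D)))
    {F : Type u} [Field F] [Algebra k F] (π : D →ₐ[k] F) (hπ : Function.Injective π)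
    {I : Type u} [Finite I] (t : I → F) (ht : AlgebraicIndependent k t)
    (hD : ∀ d, π d ∈ IntermediateField.adjoin k (Set.range t))
    (hfrac : ∀ z ∈ IntermediateField.adjoin k (Set.range t), ∃ p q, z = π p / π q) :
    Scheme.IsRationalOver f := by
  let E := IntermediateField.adjoin k (Set.range t)
  let πE : D →ₐ[k] E := π.codRestrict E.toSubalgebra hD
  letI : Algebra D E := πE.toRingHom.toAlgebra
  haveI : FaithfulSMul D E := (faithfulSMul_iff_algebraMap_injective D E).2 fun a b h => hπ (congrArg Subtype.val h)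
  haveI : IsFractionRing D E := IsFractionRing.of_field D E fun z => by
    obtain ⟨p, q, h⟩ := hfrac z z.2
    exact ⟨p, q, Subtype.ext h⟩
  let aE : MvPolynomial I k →ₐ[k] E :=
    MvPolynomial.aeval fun i => ⟨t i, IntermediateField.subset_adjoin _ _ ⟨i, rfl⟩⟩
  have haE : ∀ p, (aE p : F) = MvPolynomial.aeval t p := fun p =>
    DFunLike.congr_fun (MvPolynomial.algHom_ext (f := E.val.comp aE) (g := MvPolynomial.aeval t) fun i => by simp [aE]) p
  letI : Algebra (MvPolynomial I k) E := aE.toRingHom.toAlgebra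
  haveI : FaithfulSMul (MvPolynomial I k) E := (faithfulSMul_iff_algebraMap_injective _ E).2 fun a b h =>
    ht (((haE a).symm.trans (congrArg Subtype.val h)).trans (haE b))
  haveI : IsFractionRing (MvPolynomial I k) E := IsFractionRing.of_field _ E fun z => by
    obtain ⟨p, q, h⟩ := (IntermediateField.mem_adjoin_range_iff k t (z : F)).1 z.2
    exact ⟨p, q, Subtype.ext (h.trans (by rw [← haE p, ← haE q]; rfl))⟩
  let eA := AffineSpace.SpecIso I (CommRingCat.of k)
  haveI : LocallyOfFinitePresentation f := by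
    have h1 : LocallyOfFinitePresentation (Spec.map (CommRingCat.ofHom (algebraMap k D))) := by
      rw [HasRingHomProperty.Spec_iff (P := @LocallyOfFinitePresentation)]
      exact RingHom.finitePresentation_algebraMap.2 (Algebra.FinitePresentation.of_finiteType.1 inferInstance)
    rw [← Iso.inv_hom_id_assoc φ f, hφ]
    infer_instance
  refine ⟨I, Groth.Agent.ASBun8.GenPt.birationalOver f _
    ((Groth.Agent.ASBun8.GenPt.good_specMap_fraction D E).comp (Groth.Agent.ASBun8.GenPt.good_of_isIso φ.hom))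
    ((Groth.Agent.ASBun8.GenPt.good_specMap_fraction (MvPolynomial I k) E).comp
      (Groth.Agent.ASBun8.GenPt.good_of_isIso eA.inv)) ?_⟩
  rw [Category.assoc, hφ, Category.assoc, AffineSpace.SpecIso_inv_over, ← Spec.map_comp, ← Spec.map_comp,
    ← CommRingCat.ofHom_comp, ← CommRingCat.ofHom_comp]
  congr 2
  refine RingHom.ext fun c => ?_
  show πE (algebraMap k D c) = aE (algebraMap k _ c)
  rw [πE.commutes, aE.commutes]

/-- (v) ⇒ (vi): let k be a field and T an isotrivial k-torus (isomorphic to a split torus of some rank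
after one finite étale surjective base change). If for every discrete valuation ring A containing k
(a k-algebra), with residue field κ, the reduction map T(A) → T(κ) is surjective, then there is an
isotrivial k-torus T₁ such that the k-scheme T ×_k T₁ is k-rational, i.e. birational over k to an
affine space over k. -/
theorem result
    (k : Type u) [Field k] (T : Over (Spec (CommRingCat.of k))) [GrpObj T]
    (hT : ∃ r : ℕ, TwC.Locally (Spec (CommRingCat.of k)) .finiteEtale
        (fun S' g => Red.IsSplitTorusWith (Fin r → ℤ) (Red.bc g T)))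
    (h : ∀ (A : Type u) [CommRing A] [IsDomain A] [IsDiscreteValuationRing A] [Algebra k A]
        (u : Spec (CommRingCat.of (IsLocalRing.ResidueField A)) ⟶ T.left),
        u ≫ T.hom = Spec.map (CommRingCat.ofHom ((IsLocalRing.residue A).comp (algebraMap k A))) →
        ∃ s : Spec (CommRingCat.of A) ⟶ T.left, s ≫ T.hom = Spec.map (CommRingCat.ofHom (algebraMap k A)) ∧
          Spec.map (CommRingCat.ofHom (IsLocalRing.residue A)) ≫ s = u) :
    ∃ (T₁ : Over (Spec (CommRingCat.of k))) (_ : GrpObj T₁),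
      (∃ r : ℕ, TwC.Locally (Spec (CommRingCat.of k)) .finiteEtale (fun S' g => Red.IsSplitTorusWith (Fin r → ℤ) (Red.bc g T₁))) ∧
      Scheme.IsRationalOver (T ⊗ T₁).hom := by
  classical
  obtain ⟨H₀, _, _, ⟨e₀⟩⟩ : ∃ (A : Type u) (_ : CommRing A) (_ : HopfAlgebra k A),
      Nonempty (Grp.mk T ≅ Grp.mk (CoactBr.sp k A)) := by
    obtain ⟨H, _, _, _, _, _, j, -, -⟩ := exists_coordinateRing k T hT
    haveI : IsAffine T.left := IsAffine.of_isIso j.inv
    exact SchemeSpec.exists_spec T
  obtain ⟨r, S', f, hff, hfe, hfs, hU⟩ := hT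
  haveI := hff
  haveI := hfs
  haveI := hfe
  obtain ⟨s', -⟩ := f.surjective (Classical.arbitrary _)
  obtain ⟨U, hs', hUc, ⟨eU⟩⟩ := hU s'
  let L₀ := S'.residueField s'
  let c₀ : Spec L₀ ⟶ (U : Scheme.{u}) := IsOpenImmersion.lift U.ι (S'.fromSpecResidueField s') (by
    rw [Scheme.range_fromSpecResidueField, Scheme.Opens.range_ι, Set.singleton_subset_iff]
    exact hs')
  let φ₀ := Spec.preimage (c₀ ≫ U.ι ≫ f)
  letI : Algebra k L₀ := φ₀.hom.toAlgebra
  have hsplit : ∃ (L : Type u) (_ : Field L) (_ : Algebra k L),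
      Red.IsSplitTorusWith (Fin r → ℤ) (Red.bc (Spec.map (CommRingCat.ofHom (algebraMap k L))) T) := by
    obtain ⟨i, hi, -⟩ := SGA3cLib.GrpBC.nonempty_iso_restrict (U.ι ≫ f) c₀
      (Spec.map (CommRingCat.ofHom (algebraMap k L₀))) (Spec.map_preimage _).symm T eU
    haveI := hi
    exact ⟨L₀, inferInstance, inferInstance, ⟨Grp.mkIso' i⟩⟩
  obtain ⟨A, _, _, i, hi, L, _, _, _, _, N₀, _, εN, ⟨eA⟩⟩ := TorusGal29.exists_galois_split T hsplit
  let Mr := Multiplicative (Fin r → ℤ)
  let e' : L ⊗[k] A ≃ₐc[L] MonoidAlgebra L Mr := eA.trans (MonoidAlgebra.domCongrBialgEquiv L L εN)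
  let π : A →ₐ[k] MonoidAlgebra L Mr :=
    (e'.toAlgEquiv.toAlgHom.restrictScalars k).comp Algebra.TensorProduct.includeRight
  have hπeq : ∀ z, extHom (R := L) π z = e' z := fun z => by
    induction z using TensorProduct.induction_on with
    | zero => simp
    | add a b ha hb => simp only [map_add, ha, hb]
    | tmul l a =>
      rw [extHom_tmul]
      show l • e' ((1 : L) ⊗ₜ[k] a) = _
      rw [← map_smul, TensorProduct.smul_tmul', smul_eq_mul, _root_.mul_one]
  have hπ : Function.Bijective (extHom (R := L) π) := by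
    rw [show ⇑(extHom (R := L) π) = ⇑e' from funext hπeq]
    exact EquivLike.bijective e'
  let aN : (L ≃ₐ[k] L) →* Monoid.End Mr :=
    { toFun := fun σ => εN.toMonoidHom.comp ((TorusGal29.actHom eA σ).comp εN.symm.toMonoidHom)
      map_one' := MonoidHom.ext fun m => by
        show εN (TorusGal29.actHom eA 1 (εN.symm m)) = m
        rw [map_one]; exact εN.apply_symm_apply m
      map_mul' := fun σ τ => MonoidHom.ext fun m => by
        show εN (TorusGal29.actHom eA (σ * τ) (εN.symm m)) =
          εN (TorusGal29.actHom eA σ (εN.symm (εN (TorusGal29.actHom eA τ (εN.symm m)))))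
        rw [map_mul, εN.symm_apply_apply]; rfl }
  have hfix : ∀ σ a, actR σ (aN σ) (π a) = π a := fun σ a => by
    have hdc : ∀ z, e' z = MonoidAlgebra.mapDomainRingHom L εN.toMonoidHom (eA z) := fun z => by
      show MonoidAlgebra.domCongrBialgEquiv L L εN (eA z) = _
      generalize eA z = w
      induction w using MonoidAlgebra.induction_linear with
      | zero => simp
      | add a b ha hb => simp only [map_add, ha, hb]
      | single m c => simp [MonoidAlgebra.domCongrBialgEquiv]
    show actR σ (aN σ) (e' ((1 : L) ⊗ₜ[k] a)) = e' ((1 : L) ⊗ₜ[k] a)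
    rw [hdc, ← mapDomain_actR σ (TorusGal29.actHom eA σ) (aN σ) εN.toMonoidHom (fun m => by
      show εN (TorusGal29.actHom eA σ m) = εN (TorusGal29.actHom eA σ (εN.symm (εN m)))
      rw [εN.symm_apply_apply]), actR_gal]
  -- the coordinate ring
  haveI : UniqueProds Mr := inferInstance
  haveI : IsDomain (MonoidAlgebra L Mr) := NoZeroDivisors.to_isDomain _
  haveI : IsDomain A := (injective_of_extHom (R := k) hπ).isDomain π.toRingHom
  haveI : Group.FG Mr := Group.fg_iff_monoid_fg.2 (AddMonoid.fg_iff_mul_fg.mp inferInstance)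
  haveI : Algebra.FiniteType L (L ⊗[k] A) :=
    (inferInstance : Algebra.FiniteType L (MonoidAlgebra L Mr)).equiv e'.toAlgEquiv.symm
  haveI : Algebra.FiniteType k A := .of_finiteType_tensorProduct_of_faithfullyFlat L
  haveI : IsReduced (AlgebraicClosure k ⊗[k] A) := by
    let Kb := AlgebraicClosure k
    letI : Algebra L Kb := (IsAlgClosed.lift : L →ₐ[k] Kb).toRingHom.toAlgebra
    haveI : IsScalarTower k L Kb := .of_algebraMap_eq fun a => ((IsAlgClosed.lift : L →ₐ[k] Kb).commutes a).symm
    let M' := ULift.{u} Mr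
    let e'' := e'.trans (MonoidAlgebra.domCongrBialgEquiv L L (MulEquiv.ulift.symm : Mr ≃* M'))
    haveI : UniqueProds M' :=
      UniqueProds.of_injective_mulHom (MulEquiv.ulift : M' ≃* Mr).toMulHom MulEquiv.ulift.injective inferInstance
    haveI : IsDomain (MonoidAlgebra Kb M') := NoZeroDivisors.to_isDomain _
    let g : Kb ⊗[k] A ≃+* MonoidAlgebra Kb M' :=
      ((Algebra.TensorProduct.cancelBaseChange k L Kb Kb A).symm.trans
        ((Algebra.TensorProduct.congr AlgEquiv.refl e''.toAlgEquiv).trans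
          (monoidBC Kb (T := L) M').toAlgEquiv)).toRingEquiv
    exact isReduced_of_injective g.toRingHom g.injective
  let j : Spec (CommRingCat.of A) ≅ T.left := (Over.forget _).mapIso i
  obtain ⟨n, h', g, α, β, hh, hαβ⟩ := exists_retract_of_dvr k A T.hom j (Over.w i.hom) h
  obtain ⟨d, aM, hdata⟩ := exists_lattice_data aN π hπ hfix hh α β hαβ
  obtain ⟨A₁, _, _, E₁, hE₁⟩ := exists_lattice_hopf aM
  let Md := Multiplicative (Fin d → ℤ)
  haveI : Group.FG Md := Group.fg_iff_monoid_fg.2 (AddMonoid.fg_iff_mul_fg.mp inferInstance)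
  haveI : Algebra.FiniteType L (L ⊗[k] A₁) :=
    (inferInstance : Algebra.FiniteType L (MonoidAlgebra L Md)).equiv E₁.toAlgEquiv.symm
  haveI : Algebra.FiniteType k A₁ := .of_finiteType_tensorProduct_of_faithfullyFlat L
  let π₁ : A₁ →ₐ[k] MonoidAlgebra L Md :=
    (E₁.toAlgEquiv.toAlgHom.restrictScalars k).comp Algebra.TensorProduct.includeRight
  have hπ₁ : Function.Bijective (extHom (R := L) π₁) := by
    rw [show ⇑(extHom (R := L) π₁) = ⇑E₁ from funext fun z => by
      induction z using TensorProduct.induction_on with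
      | zero => simp
      | add a b ha hb => simp only [map_add, ha, hb]
      | tmul l a =>
        rw [extHom_tmul]
        show l • E₁ ((1 : L) ⊗ₜ[k] a) = _
        rw [← map_smul, TensorProduct.smul_tmul', smul_eq_mul, _root_.mul_one]]
    exact EquivLike.bijective E₁
  refine ⟨CoactBr.sp k A₁, inferInstance, ⟨d, ?_⟩, ?_⟩
  · haveI : Module.Finite k L := inferInstance
    haveI : IsFinite (Spec.map (CommRingCat.ofHom (algebraMap k L))) :=
      (IsFinite.SpecMap_iff _).2 (RingHom.finite_algebraMap.2 inferInstance)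
    haveI : AlgebraicGeometry.Etale (Spec.map (CommRingCat.ofHom (algebraMap k L))) := by
      rw [HasRingHomProperty.Spec_iff (P := @AlgebraicGeometry.Etale)]
      exact RingHom.etale_algebraMap.2 ⟨Algebra.FormallyEtale.of_isSeparable k L, Algebra.FinitePresentation.of_finiteType.1 inferInstance⟩
    haveI : Nonempty (Spec (CommRingCat.of L)) := inferInstanceAs (Nonempty (PrimeSpectrum L))
    refine ⟨Spec (CommRingCat.of L), _, ‹_›, ‹_›, ⟨fun x => ⟨Classical.arbitrary _, Subsingleton.elim (α := PrimeSpectrum k) _ _⟩⟩,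
      fun s' => ⟨⊤, trivial, isClosed_univ, ?_⟩⟩
    obtain ⟨e₂⟩ := SchemeSpec.nonempty_DS_of_triv A₁ L E₁
    obtain ⟨i₂, hi₂, -⟩ := SGA3cLib.GrpBC.nonempty_iso_restrict _ (⊤ : (Spec (CommRingCat.of L)).Opens).ι
      ((⊤ : (Spec (CommRingCat.of L)).Opens).ι ≫ Spec.map (CommRingCat.ofHom (algebraMap k L))) rfl _ e₂
    haveI := hi₂
    exact ⟨Grp.mkIso' i₂⟩
  let Q := Mr × Md
  let πD := prodMapAlg π π₁
  have hπD : Function.Bijective (extHom (R := L) πD) := prodMapAlg_bijective π π₁ hπ hπ₁
  let aQ : (L ≃ₐ[k] L) →* Monoid.End Q :=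
    { toFun := fun σ => MonoidHom.prodMap (aN σ) (aM σ)
      map_one' := by rw [map_one, map_one]; rfl
      map_mul' := fun σ τ => by rw [map_mul, map_mul]; rfl }
  have hfixD : ∀ σ z, actR σ (aQ σ) (πD z) = πD z := fun σ z =>
    prodMapAlg_fixed π π₁ σ (aN σ) (aM σ) (hfix σ) (fun x => hE₁ σ x) z
  haveI : IsDomain (MonoidAlgebra L Q) := NoZeroDivisors.to_isDomain _
  let F := FractionRing (MonoidAlgebra L Q)
  obtain ⟨ψ, hψL, hψ⟩ := exists_frac_action (k := k) (F := F) aQ
  obtain ⟨I, _, y, x, hperm, hgen, hx⟩ := hdata F ψ hψ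
  obtain ⟨t, htfix, ht, hfixmem⟩ := exists_coords ψ hψL y hperm hgen x hx
  haveI : IsDomain (A ⊗[k] A₁) := (injective_of_extHom (R := k) hπD).isDomain πD.toRingHom
  let πF : A ⊗[k] A₁ →ₐ[k] F := (IsScalarTower.toAlgHom k (MonoidAlgebra L Q) F).comp πD
  haveI : Algebra.FiniteType k (A ⊗[k] A₁) := Algebra.FiniteType.trans (S := A) inferInstance inferInstance
  obtain ⟨φ, hφ⟩ := exists_prod_spec A A₁ T i
  have hmem : ∀ z, z ∈ IntermediateField.adjoin k (Set.range t) → ∀ σ, ψ σ z = z := fun z hz σ => by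
    induction hz using IntermediateField.adjoin_induction with
    | mem w hw => obtain ⟨a, rfl⟩ := hw; exact htfix σ a
    | algebraMap c => exact (ψ σ).commutes c
    | add a b _ _ ha hb => rw [map_add, ha, hb]
    | inv a _ ha => rw [map_inv₀, ha]
    | mul a b _ _ ha hb => rw [map_mul, ha, hb]
  exact isRationalOver_of_fields _ (A ⊗[k] A₁) φ hφ πF
    ((IsFractionRing.injective (MonoidAlgebra L Q) F).comp (injective_of_extHom (R := k) hπD)) t ht
    (fun z => hfixmem _ fun σ => (hψ σ (πD z)).trans (congrArg _ (hfixD σ z)))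
    (fun z hz => exists_fraction_of_fixed aQ πD hπD hfixD ψ hψ (hmem z hz))

end Groth.Agent.S18698
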