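import Groth.Statements.S18711
import Groth.Agent.CAlg15.KerBC
import Groth.Agent.CAlg15.RegularBC
-- import your own Groth.Agent.* helpers here

set_option autoImplicit false
universe u
open QGor
open Groth.Agent TensorProduct

namespace Groth.Agent.S18711

set_option maxHeartbeats 1600000 in
theorem aux (A' B' : Type u) [CommRing A'] [CommRing B'] [IsNoetherianRing A'] [IsNoetherianRing B'] [Algebra A' B']
    [Module.Flat A' B'] (J' : Ideal B')
    (hZ' : ∀ q : PrimeSpectrum B', J' ≤ q.asIdeal →
      2 ≤ LocCoh.idealDepth (q.asIdeal.map (algebraMap B' (EGA4.FibLocRing A' B' q.asIdeal))) (EGA4.FibLocRing A' B' q.asIdeal))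
    (K P Q T : Type u) [AddCommGroup K] [Module B' K] [Module A' K] [IsScalarTower A' B' K] [Module.Finite B' K]
    [AddCommGroup P] [Module B' P] [Module A' P] [IsScalarTower A' B' P] [Module.Finite B' P] [Module.Projective B' P]
    [AddCommGroup Q] [Module B' Q] [Module A' Q] [IsScalarTower A' B' Q] [Module.Finite B' Q] [Module.Projective B' Q]
    [AddCommGroup T] [Module B' T] [Module A' T] [IsScalarTower A' B' T] [Module.Finite B' T]
    (f : K →ₗ[B'] P) (u : P →ₗ[B'] Q) (v : Q →ₗ[B'] T)
    (hf : Function.Injective f) (hfu : Function.Exact f u) (huv : Function.Exact u v) (hv : Function.Surjective v)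
    (hfree : ∀ q : PrimeSpectrum B', ¬ J' ≤ q.asIdeal →
      Module.Free (Localization.AtPrime q.asIdeal) (LocalizedModule q.asIdeal.primeCompl T)) :
    Module.IsReflexive B' K ∧ 2 ≤ LocCoh.idealDepth J' K ∧
    ((∀ q' : PrimeSpectrum B', FlatCA.FlatAt A' q'.asIdeal K ∧
        2 ≤ LocCoh.idealDepth (J'.map (algebraMap B' (EGA4.FibLocRing A' B' q'.asIdeal)))
          (EGA4.FibLocMod A' B' q'.asIdeal K)) ↔ Module.Flat A' T) := by
  haveI : Module.Flat A' P := Module.Flat.trans A' B' _
  haveI : Module.Flat A' Q := Module.Flat.trans A' B' _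
  have hB'1 : 2 ≤ LocCoh.idealDepth J' B' := CAlg15.le_idealDepth_self_of_fibres (A := A') J' 2 hZ'
  have hP : 2 ≤ LocCoh.idealDepth J' P := CAlg15.le_idealDepth_of_fibres (A := A') J' P 2
    fun r hr => CAlg15.le_fibLocMod_of_projective r.asIdeal 2 (hZ' r hr) _
  have hQ : 2 ≤ LocCoh.idealDepth J' Q := CAlg15.le_idealDepth_of_fibres (A := A') J' Q 2
    fun r hr => CAlg15.le_fibLocMod_of_projective r.asIdeal 2 (hZ' r hr) _
  have hK : 2 ≤ LocCoh.idealDepth J' K :=
    (CAlg15.idealDepth_of_exact J' f u hf hfu).2 hP (le_trans (by norm_num) hQ)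
  refine ⟨CAlg15.isReflexive_of_depth J' (le_trans (by norm_num) hB'1) hK fun q hq => ?_, hK, ?_⟩
  · haveI := hfree q hq
    let L := Localization.AtPrime q.asIdeal
    haveI : Module.Finite L (LocalizedModule q.asIdeal.primeCompl K) :=
      Module.Finite.of_isLocalizedModule q.asIdeal.primeCompl (LocalizedModule.mkLinearMap q.asIdeal.primeCompl K)
    haveI : Module.Projective L (LocalizedModule q.asIdeal.primeCompl P) :=
      Module.Projective.of_equiv (LocalizedModule.equivTensorProduct q.asIdeal.primeCompl P).symm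
    haveI : Module.Projective L (LocalizedModule q.asIdeal.primeCompl Q) :=
      Module.Projective.of_equiv (LocalizedModule.equivTensorProduct q.asIdeal.primeCompl Q).symm
    haveI : Module.Projective L (LocalizedModule q.asIdeal.primeCompl K) :=
      CAlg15.projective_of_exact (LocalizedModule.map q.asIdeal.primeCompl f)
        (LocalizedModule.map q.asIdeal.primeCompl u) (LocalizedModule.map q.asIdeal.primeCompl v)
        (LocalizedModule.map_injective _ _ hf) (LocalizedModule.map_exact _ _ _ hfu)
        (LocalizedModule.map_exact _ _ _ huv) (LocalizedModule.map_surjective _ _ hv)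
    infer_instance
  -- the criterion
  have hflatoff : ∀ q : PrimeSpectrum B', ¬ J' ≤ q.asIdeal → FlatCA.FlatAt A' q.asIdeal T := by
    intro q hq
    haveI := hfree q hq
    haveI : Module.Flat A' (Localization.AtPrime q.asIdeal) := Module.Flat.trans A' B' _
    exact Module.Flat.trans A' (Localization.AtPrime q.asIdeal) _
  have hm := fun (q : Ideal B') [q.IsPrime] =>
    CAlg15.FibreFour.main (A := A') J' f u v hf hfu huv hv hflatoff
      (fun r hr => CAlg15.le_fibLocMod_of_projective r.asIdeal 2 (hZ' r hr) _)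
      (fun r hr => le_trans (by norm_num) (CAlg15.le_fibLocMod_of_projective r.asIdeal 2 (hZ' r hr) _)) q
  have hloc : ∀ q : PrimeSpectrum B',
      2 ≤ LocCoh.idealDepth (J'.map (algebraMap B' (EGA4.FibLocRing A' B' q.asIdeal))) (EGA4.FibLocMod A' B' q.asIdeal K) ↔
        FlatCA.FlatAt A' q.asIdeal T := by
    intro q
    rw [← (hm q.asIdeal).1, ← CAlg15.FibreFour.le_idealDepth_fibre_iff J' q.asIdeal K 2,
      IsScalarTower.algebraMap_eq B' (Localization.AtPrime q.asIdeal) (EGA4.FibLocRing A' B' q.asIdeal), ← Ideal.map_map]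
    exact Iff.of_eq (congrArg (2 ≤ ·) (CAlgH3.idealDepth_of_surjective Ideal.Quotient.mk_surjective _ _))
  constructor
  · intro h
    refine Module.flat_of_isLocalized_maximal B' _ (fun P _ => LocalizedModule P.primeCompl T)
      (fun P _ => LocalizedModule.mkLinearMap P.primeCompl _) fun P _ => ?_
    exact (hloc ⟨P, inferInstance⟩).1 (h ⟨P, inferInstance⟩).2
  · intro h q
    have hq : FlatCA.FlatAt A' q.asIdeal T := CAlg15.flat_localizedModule q.asIdeal.primeCompl
    exact ⟨(hm q.asIdeal).2 hq, (hloc q).2 hq⟩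

open TensorProduct in
set_option maxHeartbeats 1600000 in
/-- Affine form. Let A → B be a flat homomorphism of Noetherian rings, J an ideal of B such that for
every prime q ⊇ J with contraction p the fibre local ring B_q/pB_q has depth ≥ 2, A → A′ a
homomorphism of Noetherian rings and B′ = A′ ⊗_A B the (Noetherian) pushout. Let 0 → F → E⁰ → E¹ → G
→ 0 be an exact sequence of finite B-modules with E⁰, E¹ projective and F_q, G_q free for every
prime q not containing J. Then F is reflexive; the kernel K′ of B′ ⊗_B E⁰ → B′ ⊗_B E¹ is a reflexive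
B′-module with depth_{JB′} K′ ≥ 2 (so it is the module of sections of the pull-back of F off
V(JB′)); and K′ is flat over A′ with depth ≥ 2 along JB′ on every fibre stalk K′_{q′}/p′K′_{q′} if
and only if B′ ⊗_B G is flat over A′. (The published statement phrases the last left-hand condition
as the relative S₂ condition of K′ over A′; the two agree when the fibres of Spec B′ → Spec A′
satisfy S₂ off V(JB′), and without that the relative S₂ form fails already for A = A′ a field, J =
B, F = E⁰ = B not S₂ and E¹ = G = 0, so the fibrewise-depth form, which is what the proof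
establishes, is stated.) -/
theorem result (A B : Type u) [CommRing A] [CommRing B] [IsNoetherianRing A] [IsNoetherianRing B] [Algebra A B]
    (A' B' : Type u) [CommRing A'] [CommRing B'] [IsNoetherianRing A'] [IsNoetherianRing B']
    [Algebra A A'] [Algebra B B'] [Algebra A' B'] [Algebra A B'] [IsScalarTower A B B'] [IsScalarTower A A' B']
    [Algebra.IsPushout A B A' B'] [Module.Flat A B] (J : Ideal B)
    (hZ : ∀ q : PrimeSpectrum B, J ≤ q.asIdeal →
      2 ≤ LocCoh.idealDepth (q.asIdeal.map (algebraMap B (EGA4.FibLocRing A B q.asIdeal))) (EGA4.FibLocRing A B q.asIdeal))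
    (F E0 E1 G : Type u) [AddCommGroup F] [Module B F] [Module.Finite B F]
    [AddCommGroup E0] [Module B E0] [Module.Finite B E0] [Module.Projective B E0]
    [AddCommGroup E1] [Module B E1] [Module.Finite B E1] [Module.Projective B E1]
    [AddCommGroup G] [Module B G] [Module.Finite B G]
    (f : F →ₗ[B] E0) (u : E0 →ₗ[B] E1) (v : E1 →ₗ[B] G)
    (hf : Function.Injective f) (hfu : Function.Exact f u) (huv : Function.Exact u v) (hv : Function.Surjective v)
    (hFU : ∀ q : PrimeSpectrum B, ¬ J ≤ q.asIdeal → Module.Free (Localization.AtPrime q.asIdeal) (LocalizedModule q.asIdeal.primeCompl F))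
    (hGU : ∀ q : PrimeSpectrum B, ¬ J ≤ q.asIdeal → Module.Free (Localization.AtPrime q.asIdeal) (LocalizedModule q.asIdeal.primeCompl G)) :
    Module.IsReflexive B F ∧
    Module.IsReflexive B' (LinearMap.ker (u.baseChange B')) ∧
    2 ≤ LocCoh.idealDepth (J.map (algebraMap B B')) (LinearMap.ker (u.baseChange B')) ∧
    ((∀ q' : PrimeSpectrum B', FlatCA.FlatAt A' q'.asIdeal (LinearMap.ker (u.baseChange B')) ∧
        2 ≤ LocCoh.idealDepth ((J.map (algebraMap B B')).map (algebraMap B' (EGA4.FibLocRing A' B' q'.asIdeal)))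
          (EGA4.FibLocMod A' B' q'.asIdeal (LinearMap.ker (u.baseChange B')))) ↔
      Module.Flat A' (B' ⊗[B] G)) := by
  letI : Module A F := Module.compHom F (algebraMap A B)
  letI : Module A E0 := Module.compHom E0 (algebraMap A B)
  letI : Module A E1 := Module.compHom E1 (algebraMap A B)
  letI : Module A G := Module.compHom G (algebraMap A B)
  haveI : IsScalarTower A B F := .of_algebraMap_smul fun _ _ => rfl
  haveI : IsScalarTower A B E0 := .of_algebraMap_smul fun _ _ => rfl
  haveI : IsScalarTower A B E1 := .of_algebraMap_smul fun _ _ => rfl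
  haveI : IsScalarTower A B G := .of_algebraMap_smul fun _ _ => rfl
  haveI : Module.Flat A E0 := Module.Flat.trans A B E0
  haveI : Module.Flat A E1 := Module.Flat.trans A B E1
  have hB1 : 2 ≤ LocCoh.idealDepth J B := CAlg15.le_idealDepth_self_of_fibres (A := A) J 2 hZ
  have hE0 : ∀ q : PrimeSpectrum B, J ≤ q.asIdeal →
      2 ≤ LocCoh.idealDepth (q.asIdeal.map (algebraMap B (EGA4.FibLocRing A B q.asIdeal))) (EGA4.FibLocMod A B q.asIdeal E0) :=
    fun q hq => CAlg15.le_fibLocMod_of_projective q.asIdeal 2 (hZ q hq) E0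
  have hE1 : ∀ q : PrimeSpectrum B, J ≤ q.asIdeal →
      2 ≤ LocCoh.idealDepth (q.asIdeal.map (algebraMap B (EGA4.FibLocRing A B q.asIdeal))) (EGA4.FibLocMod A B q.asIdeal E1) :=
    fun q hq => CAlg15.le_fibLocMod_of_projective q.asIdeal 2 (hZ q hq) E1
  let J' := J.map (algebraMap B B')
  let u' := u.baseChange B'
  let v' := v.baseChange B'
  let K' := LinearMap.ker u'
  have hfu' : Function.Exact K'.subtype u' := LinearMap.exact_subtype_ker_map _
  have huv' : Function.Exact u' v' := lTensor_exact B' huv hv
  have hv' : Function.Surjective v' := LinearMap.lTensor_surjective B' hv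
  -- fibres of the base change
  have hZ' : ∀ q : PrimeSpectrum B', J' ≤ q.asIdeal →
      2 ≤ LocCoh.idealDepth (q.asIdeal.map (algebraMap B' (EGA4.FibLocRing A' B' q.asIdeal))) (EGA4.FibLocRing A' B' q.asIdeal) :=
    fun q hq => CAlg15.two_le_fibLocRing_baseChange (A := A) (B := B) A' B' q.asIdeal
      (hZ ⟨_, Ideal.IsPrime.comap _⟩ (Ideal.map_le_iff_le_comap.1 hq))
  haveI : Module.Flat A' B' := by
    haveI : Algebra.IsPushout A A' B B' := Algebra.IsPushout.symm inferInstance
    exact Module.Flat.isBaseChange A A' B B' (Algebra.IsPushout.out (R := A) (S := A') (R' := B) (S' := B'))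
  -- freeness off `J'`
  have hfree : ∀ q : PrimeSpectrum B', ¬ J' ≤ q.asIdeal →
      Module.Free (Localization.AtPrime q.asIdeal) (LocalizedModule q.asIdeal.primeCompl (B' ⊗[B] G)) := by
    intro q hq
    haveI : Module.Free (Localization.AtPrime (q.asIdeal.comap (algebraMap B B')))
        (LocalizedModule (q.asIdeal.comap (algebraMap B B')).primeCompl G) :=
      hGU ⟨_, Ideal.IsPrime.comap _⟩ fun hle => hq (Ideal.map_le_iff_le_comap.2 hle)
    exact CAlg15.free_localized_baseChange (B := B) (M := G) B' q.asIdeal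
  obtain ⟨h1, h2, h3⟩ := aux A' B' J' hZ' K' (B' ⊗[B] E0) (B' ⊗[B] E1) (B' ⊗[B] G) K'.subtype u' v'
    Subtype.val_injective hfu' huv' hv' hfree
  refine ⟨CAlg15.isReflexive_of_depth J (le_trans (by norm_num) hB1) ?_ fun q hq => ?_, h1, h2, h3⟩
  · exact (CAlg15.idealDepth_of_exact J f u hf hfu).2 (CAlg15.le_idealDepth_of_fibres (A := A) J E0 2 hE0)
      (le_trans (by norm_num) (CAlg15.le_idealDepth_of_fibres (A := A) J E1 2 hE1))
  · haveI := hFU q hq
    haveI : Module.Finite (Localization.AtPrime q.asIdeal) (LocalizedModule q.asIdeal.primeCompl F) :=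
      Module.Finite.of_isLocalizedModule q.asIdeal.primeCompl (LocalizedModule.mkLinearMap q.asIdeal.primeCompl F)
    infer_instance

end Groth.Agent.S18711
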