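import Groth.Statements.S18712
import Groth.Agent.CAlg15.InfCrit
import Groth.Agent.CAlg15.ClosedFibreSk
import Groth.Agent.CAlg15.DualPresentation
-- import your own Groth.Agent.* helpers here

set_option autoImplicit false
set_option linter.style.haveILetI false
universe u
open QGor

namespace Groth.Agent.S18712

open TensorProduct in
/-- Infinitesimal criterion, affine-local form. Let R be a Noetherian local ring with maximal ideal m, C
a finitely generated flat R-algebra, y = n a prime of C over m at which the fibre C_n/mC_n satisfies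
S₂ (the structure morphism satisfies relative S₂ at y), and F a finite reflexive C-module which is
free at every prime not containing an ideal J such that every fibre local ring C_q/pC_q at primes q
⊇ J has dimension ≥ 2 (F is locally free in codimension one on each fibre). Suppose that for every
surjective homomorphism R → A′ onto an Artinian local ring and the Noetherian pushout C′ = A′ ⊗_R C,
at every prime q′ of C′ lying over n the double dual (C′ ⊗_C F)^∨∨ is flat over A′ at q′ and its
fibre stalk satisfies S₂. Then F is flat over R at n and the fibre stalk F_n/mF_n satisfies S₂ (F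
satisfies relative S₂ at y). Test rings A′ range over the universe of R. -/
theorem result (R C : Type u) [CommRing R] [CommRing C] [IsNoetherianRing R] [IsLocalRing R] [IsNoetherianRing C]
    [Algebra R C] [Module.Flat R C] (hft : Algebra.FiniteType R C)
    (n : PrimeSpectrum C) (hn : (IsLocalRing.maximalIdeal R).map (algebraMap R C) ≤ n.asIdeal)
    (hS2 : LocCoh.HasSk 2 (EGA4.FibLocRing R C n.asIdeal) (EGA4.FibLocRing R C n.asIdeal))
    (F : Type u) [AddCommGroup F] [Module C F] [Module R F] [IsScalarTower R C F] [Module.Finite C F]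
    [Module.IsReflexive C F] (J : Ideal C)
    (hFU : ∀ q : PrimeSpectrum C, ¬ J ≤ q.asIdeal → Module.Free (Localization.AtPrime q.asIdeal) (LocalizedModule q.asIdeal.primeCompl F))
    (hcodim : ∀ q : PrimeSpectrum C, J ≤ q.asIdeal → (2 : WithBot ℕ∞) ≤ ringKrullDim (EGA4.FibLocRing R C q.asIdeal))
    (hI : ∀ (A' : Type u) [CommRing A'] [IsArtinianRing A'] [IsLocalRing A'] [Algebra R A'],
      Function.Surjective (algebraMap R A') →
      ∀ (C' : Type u) [CommRing C'] [IsNoetherianRing C'] [Algebra C C'] [Algebra A' C'] [Algebra R C']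
        [IsScalarTower R C C'] [IsScalarTower R A' C'], Algebra.IsPushout R C A' C' →
        ∀ q' : PrimeSpectrum C', q'.asIdeal.comap (algebraMap C C') = n.asIdeal →
          FlatCA.FlatAt A' q'.asIdeal (Module.Dual C' (Module.Dual C' (C' ⊗[C] F))) ∧
          LocCoh.HasSk 2 (EGA4.FibLocRing A' C' q'.asIdeal)
            (EGA4.FibLocMod A' C' q'.asIdeal (Module.Dual C' (Module.Dual C' (C' ⊗[C] F))))) :
    FlatCA.FlatAt R n.asIdeal F ∧ LocCoh.HasSk 2 (EGA4.FibLocRing R C n.asIdeal) (EGA4.FibLocMod R C n.asIdeal F) := by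
  -- `n` lies over the maximal ideal
  have hcomap : n.asIdeal.comap (algebraMap R C) = IsLocalRing.maximalIdeal R :=
    le_antisymm (IsLocalRing.le_maximalIdeal (Ideal.IsPrime.comap _).ne_top) (Ideal.map_le_iff_le_comap.1 hn)
  let S := n.asIdeal.primeCompl
  let B := Localization.AtPrime n.asIdeal
  have hmn : (IsLocalRing.maximalIdeal R).map (algebraMap R B) ≤ IsLocalRing.maximalIdeal B := by
    rw [IsScalarTower.algebraMap_eq R C B, ← Ideal.map_map, ← Localization.AtPrime.map_eq_maximalIdeal]
    exact Ideal.map_mono hn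
  haveI hloc : IsLocalHom (algebraMap R B) := ((IsLocalRing.local_hom_TFAE (algebraMap R B)).out 0 2 rfl rfl).2 hmn
  let JB := J.map (algebraMap C B)
  -- depth of the closed fibre
  let K := (n.asIdeal.comap (algebraMap R C)).map (algebraMap R B)
  have hK : K = EGA4.mB R B := by simp only [K, hcomap]
  have hcod : ∀ P : PrimeSpectrum (B ⧸ K), JB.map (Ideal.Quotient.mk K) ≤ P.asIdeal →
      (2 : WithBot ℕ∞) ≤ ringKrullDim (Localization.AtPrime P.asIdeal) := fun P hP =>
    CAlg15.InfCrit.two_le_dim_fibre n.asIdeal J hcodim P hP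
  have hhd : 2 ≤ LocCoh.idealDepth (JB.map (algebraMap B (B ⧸ K))) (B ⧸ K) :=
    CAlg15.le_idealDepth_of_hasSk _ hS2 fun P hP _ => le_of_le_of_eq (hcod P hP) (Module.supportDim_self_eq_ringKrullDim (R := Localization.AtPrime P.asIdeal)).symm
  have h0 : 2 ≤ LocCoh.idealDepth JB (EGA4.FibMod R B B) := by
    rw [CAlgH3.idealDepth_congr JB (Submodule.quotEquivOfEq _ K (by rw [hK, smul_eq_mul, Ideal.mul_top]))]
    exact le_of_le_of_eq hhd (CAlgH3.idealDepth_of_surjective Ideal.Quotient.mk_surjective _ _)
  -- the presentation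
  obtain ⟨a, b, f, u, hf, hfu, hG⟩ := CAlg15.exists_fourTerm J F hFU
  let G := (Fin b → C) ⧸ LinearMap.range u
  let v : (Fin b → C) →ₗ[C] G := Submodule.mkQ _
  have huv : Function.Exact u v := LinearMap.exact_map_mkQ_range u
  have hv : Function.Surjective v := Submodule.mkQ_surjective _
  let fB := LocalizedModule.map S f
  let uB := LocalizedModule.map S u
  let vB := LocalizedModule.map S v
  have hfuB := LocalizedModule.map_exact S f u hfu
  have huvB := LocalizedModule.map_exact S u v huv
  have hvB := LocalizedModule.map_surjective S v hv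
  have hfB := LocalizedModule.map_injective S f hf
  haveI : ∀ E : ℕ, Module.Flat R (LocalizedModule S (Fin E → C)) := fun E => by
    haveI : Module.Flat R (Fin E → C) := Module.Flat.trans R C _
    exact CAlg15.flat_localizedModule S
  haveI : ∀ E : ℕ, Module.Free B (LocalizedModule S (Fin E → C)) := fun E =>
    Module.free_of_isLocalizedModule S (LocalizedModule.mkLinearMap S _)
  haveI : ∀ E : ℕ, Module.Finite B (LocalizedModule S (Fin E → C)) := fun E =>
    Module.Finite.of_isLocalizedModule S (LocalizedModule.mkLinearMap S _)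
  haveI : Module.Finite B (LocalizedModule S F) :=
    Module.Finite.of_isLocalizedModule S (LocalizedModule.mkLinearMap S _)
  -- flatness of the cokernel
  have hsur : ∀ (c : ℕ) (hI' : IsLocalRing.maximalIdeal R ^ (c + 1) ≤ IsLocalRing.maximalIdeal R),
      Function.Surjective (CAlg15.FourTermH2.mm uB
        (Submodule.mapQ (IsLocalRing.maximalIdeal R ^ (c + 1)) (IsLocalRing.maximalIdeal R) LinearMap.id hI')) := by
    intro c hI'
    let m := IsLocalRing.maximalIdeal R
    let I := m ^ (c + 1)
    obtain ⟨t, ht, htI⟩ : ∃ t : R, t ∉ I ∧ ∀ r ∈ m, r * t ∈ I := by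
      by_cases he : I = m
      · exact ⟨1, fun h => (IsLocalRing.maximalIdeal.isMaximal R).ne_top ((Ideal.eq_top_iff_one _).2 (by rw [he] at h; exact h)),
          fun r hr => by rw [mul_one, he]; exact hr⟩
      · obtain ⟨x, hxm, hx⟩ := SetLike.exists_of_lt (lt_of_le_of_ne hI' he)
        obtain ⟨t, -, ht, htI⟩ := CAlg15.FourTermH2.exists_socle (I := I) (c + 1) x hxm hx fun r hr => Ideal.mul_mem_right _ _ hr
        exact ⟨t, ht, htI⟩
    refine CAlg15.SocleLift.mm_surjective_of_socle uB I hI' t ht htI fun x hx => ?_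
    -- the test ring
    let C' := C ⧸ I.map (algebraMap R C)
    letI : Algebra (R ⧸ I) C' := Ideal.Quotient.algebraQuotientOfLEComap Ideal.le_comap_map
    haveI : IsScalarTower R (R ⧸ I) C' := IsScalarTower.of_algebraMap_eq fun _ => rfl
    haveI : Nontrivial (R ⧸ I) := Ideal.Quotient.nontrivial_iff.2 fun h =>
      ht (h ▸ Submodule.mem_top)
    haveI : IsLocalRing (R ⧸ I) := IsLocalRing.of_surjective' _ Ideal.Quotient.mk_surjective
    haveI : IsArtinianRing (R ⧸ I) := (isArtinianRing_iff_isNilpotent_maximalIdeal (R ⧸ I)).2 ⟨c + 1, by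
      rw [← IsLocalRing.map_maximalIdeal_of_surjective (Ideal.Quotient.mk I) Ideal.Quotient.mk_surjective, ← Ideal.map_pow, Ideal.zero_eq_bot, Ideal.map_quotient_self]⟩
    haveI : Algebra.IsPushout R C (R ⧸ I) C' := CAlg15.InfCrit.isPushout_quotient I
    exact CAlg15.InfCrit.socle_of_flat n.asIdeal J F (Fin a → C) (Fin b → C) G f u v hf hfu huv hv hFU hG h0 I (c + 1)
      le_rfl ((Ideal.map_mono hI').trans hn)
      (fun q' hq' => (hI (R ⧸ I) Ideal.Quotient.mk_surjective C' inferInstance q' hq').1) x hx
  haveI hGflat : Module.Flat R (LocalizedModule S G) :=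
    CAlg15.FourTermH2.flat_of_mm_surjective uB vB huvB hvB fB hfuB hsur
  have hFflat : Module.Flat R (LocalizedModule S F) := by
    let H := LinearMap.range uB
    have hHv : Function.Exact H.subtype vB := fun x => (huvB x).trans
      ⟨fun ⟨y, hy⟩ => ⟨⟨x, y, hy⟩, rfl⟩, fun ⟨⟨z, y, hy⟩, hz⟩ => ⟨y, hy.trans hz⟩⟩
    haveI : Module.Flat R H := CAlg15.FourTerm.flat_of_kernel (R := R) (P := H) (H.subtype.restrictScalars R) (vB.restrictScalars R)
      Subtype.val_injective hvB hHv
    exact CAlg15.FourTerm.flat_of_kernel (R := R) (T := H) (fB.restrictScalars R) (uB.rangeRestrict.restrictScalars R) hfB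
      uB.surjective_rangeRestrict fun x => Iff.trans
        ⟨fun h => congrArg Subtype.val h, fun h => Subtype.ext h⟩ (hfuB x)
  refine ⟨hFflat, ?_⟩
  haveI : Nontrivial (B ⧸ K) := Ideal.Quotient.nontrivial_iff.2 (by
    rw [hK]; exact ne_top_of_le_ne_top (IsLocalRing.maximalIdeal.isMaximal B).ne_top hmn)
  exact CAlg15.ClosedFibre.hasSk_two (A := R) K hK hS2 fB uB vB hfB hfuB huvB hvB

end Groth.Agent.S18712
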