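import Groth.Statements.S18713
import Groth.Agent.CAlg15.InfCrit
import Groth.Agent.CAlg15.ClosedFibreSk
import Groth.Agent.CAlg15.DualPresentation
import Groth.Agent.CAlg15.DvrFlatAt
import Groth.Agent.CAlg15.ValCrit
-- import your own Groth.Agent.* helpers here

set_option autoImplicit false
set_option linter.style.haveILetI false
universe u
open QGor

namespace Groth.Agent.S18713

open TensorProduct in
/-- Valuative criterion, affine-local form. Let R be a Noetherian local ring with maximal ideal m, C a
finitely generated flat R-algebra, y = n a prime of C over m at which the fibre C_n/mC_n satisfies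
S₂ (the structure morphism satisfies relative S₂ at y), and F a finite reflexive C-module which is
free at every prime not containing an ideal J such that every fibre local ring C_q/pC_q at primes q
⊇ J has dimension ≥ 2 (F is locally free in codimension one on each fibre). Assume R is reduced, and
that for every local homomorphism R → D to a discrete valuation ring and the Noetherian pushout C′ =
D ⊗_R C, at every prime q′ of C′ lying over n and over the closed point of D the double dual (C′ ⊗_C
F)^∨∨ is flat over D at q′ and its fibre stalk satisfies S₂. Then F is flat over R at n and F_n/mF_n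
satisfies S₂ (F satisfies relative S₂ at y). Test rings D range over the universe of R. -/
theorem result (R C : Type u) [CommRing R] [CommRing C] [IsNoetherianRing R] [IsLocalRing R] [IsNoetherianRing C]
    [Algebra R C] [Module.Flat R C] (hft : Algebra.FiniteType R C)
    (n : PrimeSpectrum C) (hn : (IsLocalRing.maximalIdeal R).map (algebraMap R C) ≤ n.asIdeal)
    (hS2 : LocCoh.HasSk 2 (EGA4.FibLocRing R C n.asIdeal) (EGA4.FibLocRing R C n.asIdeal))
    (F : Type u) [AddCommGroup F] [Module C F] [Module R F] [IsScalarTower R C F] [Module.Finite C F]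
    [Module.IsReflexive C F] (J : Ideal C)
    (hFU : ∀ q : PrimeSpectrum C, ¬ J ≤ q.asIdeal → Module.Free (Localization.AtPrime q.asIdeal) (LocalizedModule q.asIdeal.primeCompl F))
    (hcodim : ∀ q : PrimeSpectrum C, J ≤ q.asIdeal → (2 : WithBot ℕ∞) ≤ ringKrullDim (EGA4.FibLocRing R C q.asIdeal)) [IsReduced R]
    (hII : ∀ (D : Type u) [CommRing D] [IsDomain D] [IsDiscreteValuationRing D] [Algebra R D],
      IsLocalHom (algebraMap R D) →
      ∀ (C' : Type u) [CommRing C'] [IsNoetherianRing C'] [Algebra C C'] [Algebra D C'] [Algebra R C']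
        [IsScalarTower R C C'] [IsScalarTower R D C'], Algebra.IsPushout R C D C' →
        ∀ q' : PrimeSpectrum C', q'.asIdeal.comap (algebraMap C C') = n.asIdeal →
          (IsLocalRing.maximalIdeal D).map (algebraMap D C') ≤ q'.asIdeal →
          FlatCA.FlatAt D q'.asIdeal (Module.Dual C' (Module.Dual C' (C' ⊗[C] F))) ∧
          LocCoh.HasSk 2 (EGA4.FibLocRing D C' q'.asIdeal)
            (EGA4.FibLocMod D C' q'.asIdeal (Module.Dual C' (Module.Dual C' (C' ⊗[C] F))))) :
    FlatCA.FlatAt R n.asIdeal F ∧ LocCoh.HasSk 2 (EGA4.FibLocRing R C n.asIdeal) (EGA4.FibLocMod R C n.asIdeal F) := by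
  -- `n` lies over the maximal ideal
  have hcomap : n.asIdeal.comap (algebraMap R C) = IsLocalRing.maximalIdeal R :=
    le_antisymm (IsLocalRing.le_maximalIdeal (Ideal.IsPrime.comap _).ne_top) (Ideal.map_le_iff_le_comap.1 hn)
  let S := n.asIdeal.primeCompl
  let B := Localization.AtPrime n.asIdeal
  have hmn : (IsLocalRing.maximalIdeal R).map (algebraMap R B) ≤ IsLocalRing.maximalIdeal B := by
    rw [IsScalarTower.algebraMap_eq R C B, ← Ideal.map_map, ← Localization.AtPrime.map_eq_maximalIdeal]
    exact Ideal.map_mono hn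
  haveI hloc : IsLocalHom (algebraMap R B) := ((IsLocalRing.local_hom_TFAE (algebraMap R B)).out 0 2 rfl rfl).2 hmn
  let JB := J.map (algebraMap C B)
  -- depth of the closed fibre
  let K := (n.asIdeal.comap (algebraMap R C)).map (algebraMap R B)
  have hK : K = EGA4.mB R B := by simp only [K, hcomap]
  have hcod : ∀ P : PrimeSpectrum (B ⧸ K), JB.map (Ideal.Quotient.mk K) ≤ P.asIdeal →
      (2 : WithBot ℕ∞) ≤ ringKrullDim (Localization.AtPrime P.asIdeal) := fun P hP =>
    CAlg15.InfCrit.two_le_dim_fibre n.asIdeal J hcodim P hP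
  have hhd : 2 ≤ LocCoh.idealDepth (JB.map (algebraMap B (B ⧸ K))) (B ⧸ K) :=
    CAlg15.le_idealDepth_of_hasSk _ hS2 fun P hP _ => le_of_le_of_eq (hcod P hP) (Module.supportDim_self_eq_ringKrullDim (R := Localization.AtPrime P.asIdeal)).symm
  have h0 : 2 ≤ LocCoh.idealDepth JB (EGA4.FibMod R B B) := by
    rw [CAlgH3.idealDepth_congr JB (Submodule.quotEquivOfEq _ K (by rw [hK, smul_eq_mul, Ideal.mul_top]))]
    exact le_of_le_of_eq hhd (CAlgH3.idealDepth_of_surjective Ideal.Quotient.mk_surjective _ _)
  -- the presentation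
  obtain ⟨a, b, f, u, hf, hfu, hG⟩ := CAlg15.exists_fourTerm J F hFU
  let G := (Fin b → C) ⧸ LinearMap.range u
  let v : (Fin b → C) →ₗ[C] G := Submodule.mkQ _
  have huv : Function.Exact u v := LinearMap.exact_map_mkQ_range u
  have hv : Function.Surjective v := Submodule.mkQ_surjective _
  let fB := LocalizedModule.map S f
  let uB := LocalizedModule.map S u
  let vB := LocalizedModule.map S v
  have hfuB := LocalizedModule.map_exact S f u hfu
  have huvB := LocalizedModule.map_exact S u v huv
  have hvB := LocalizedModule.map_surjective S v hv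
  have hfB := LocalizedModule.map_injective S f hf
  haveI : ∀ E : ℕ, Module.Flat R (LocalizedModule S (Fin E → C)) := fun E => by
    haveI : Module.Flat R (Fin E → C) := Module.Flat.trans R C _
    exact CAlg15.flat_localizedModule S
  haveI : ∀ E : ℕ, Module.Free B (LocalizedModule S (Fin E → C)) := fun E =>
    Module.free_of_isLocalizedModule S (LocalizedModule.mkLinearMap S _)
  haveI : ∀ E : ℕ, Module.Finite B (LocalizedModule S (Fin E → C)) := fun E =>
    Module.Finite.of_isLocalizedModule S (LocalizedModule.mkLinearMap S _)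
  haveI : Module.Finite B (LocalizedModule S F) :=
    Module.Finite.of_isLocalizedModule S (LocalizedModule.mkLinearMap S _)
  -- flatness of the cokernel
  haveI hGflat : Module.Flat R (LocalizedModule S G) := by
    haveI := hft
    have h0n : 2 ≤ LocCoh.idealDepth JB (EGA4.FibLocMod R C n.asIdeal C) := by
      refine le_of_le_of_eq h0 (CAlgH3.idealDepth_congr JB (Submodule.quotEquivOfEq _ (K • (⊤ : Submodule B B)) ?_))
      rw [hK]
    refine CAlg15.DvrFlatAt.flatAt_of_dvr R C G n hcomap fun D _ _ _ _ hR C' _ _ _ _ _ _ _ hpush q' hq' hmax => ?_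
    haveI := hR
    haveI := hpush
    have hm : q'.asIdeal.comap (algebraMap D C') = IsLocalRing.maximalIdeal D :=
      le_antisymm (IsLocalRing.le_maximalIdeal (Ideal.IsPrime.comap _).ne_top) (Ideal.map_le_iff_le_comap.1 hmax)
    haveI : Module.Flat D C' := by
      haveI : Algebra.IsPushout R D C C' := Algebra.IsPushout.symm inferInstance
      exact Module.Flat.isBaseChange R D C C' (Algebra.IsPushout.out (R := R) (S := D) (R' := C) (S' := C'))
    let J' := J.map (algebraMap C C')
    have h0' : 2 ≤ LocCoh.idealDepth (J'.map (algebraMap C' (Localization.AtPrime q'.asIdeal)))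
        (EGA4.FibLocMod D C' q'.asIdeal C') := by
      refine (CAlg15.FibreFour.le_idealDepth_fibre_iff J' q'.asIdeal C' 2).2 fun r hJr hrq hrm => ?_
      have hqn : r.asIdeal.comap (algebraMap C C') ≤ n.asIdeal := hq' ▸ Ideal.comap_mono hrq
      have hqm : (r.asIdeal.comap (algebraMap C C')).comap (algebraMap R C) = n.asIdeal.comap (algebraMap R C) := by
        rw [hcomap, Ideal.comap_comap, ← IsScalarTower.algebraMap_eq, IsScalarTower.algebraMap_eq R D C',
          ← Ideal.comap_comap, hrm, hm]
        exact ((IsLocalRing.local_hom_TFAE (algebraMap R D)).out 0 4 rfl rfl).1 inferInstance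
      have h2 := (CAlg15.FibreFour.le_idealDepth_fibre_iff J n.asIdeal C 2).1 h0n
        ⟨r.asIdeal.comap (algebraMap C C'), inferInstance⟩ (Ideal.map_le_iff_le_comap.1 hJr) hqn hqm
      refine CAlg15.le_fibLocMod_of_projective r.asIdeal 2
        (CAlg15.two_le_fibLocRing_baseChange (A := R) (B := C) D C' r.asIdeal (le_of_le_of_eq h2 ?_)) C'
      exact CAlgH3.idealDepth_congr _ ((Submodule.quotEquivOfEq _ _ (by rw [smul_eq_mul, Ideal.mul_top])).extendScalarsOfSurjective
        Ideal.Quotient.mk_surjective)
    obtain ⟨ρ, huρ, hρ⟩ := CAlg15.ValCrit.exists_bidual_map C' J F (Fin a → C) (Fin b → C) G f u v hf hfu huv hv hFU hG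
    obtain ⟨a', b', g, h, hg, hgh⟩ := CAlg15.BidualKer.exists_dual_exact (B := C') (Module.Dual C' (C' ⊗[C] F))
    refine CAlg15.ValCrit.flatAt_coker J' q'.asIdeal hm h0' _ ⟨a', b', g, h, hg, hgh⟩ (hII D hR C' hpush q' hq' hmax).2
      (C' ⊗[C] (Fin a → C)) (C' ⊗[C] (Fin b → C)) (C' ⊗[C] G) (u.baseChange C') (v.baseChange C')
      (lTensor_exact C' huv hv) (LinearMap.lTensor_surjective C' hv) ρ huρ hρ fun r hr => ?_
    haveI : Module.Free (Localization.AtPrime (r.asIdeal.comap (algebraMap C C')))
        (LocalizedModule (r.asIdeal.comap (algebraMap C C')).primeCompl G) :=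
      hG ⟨_, Ideal.IsPrime.comap _⟩ fun hle => hr (Ideal.map_le_iff_le_comap.2 hle)
    haveI := CAlg15.free_localized_baseChange (B := C) (M := G) C' r.asIdeal
    haveI : Module.Flat D (Localization.AtPrime r.asIdeal) := Module.Flat.trans D C' _
    exact Module.Flat.trans D (Localization.AtPrime r.asIdeal) _
  have hFflat : Module.Flat R (LocalizedModule S F) := by
    let H := LinearMap.range uB
    have hHv : Function.Exact H.subtype vB := fun x => (huvB x).trans
      ⟨fun ⟨y, hy⟩ => ⟨⟨x, y, hy⟩, rfl⟩, fun ⟨⟨z, y, hy⟩, hz⟩ => ⟨y, hy.trans hz⟩⟩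
    haveI : Module.Flat R H := CAlg15.FourTerm.flat_of_kernel (R := R) (P := H) (H.subtype.restrictScalars R) (vB.restrictScalars R)
      Subtype.val_injective hvB hHv
    exact CAlg15.FourTerm.flat_of_kernel (R := R) (T := H) (fB.restrictScalars R) (uB.rangeRestrict.restrictScalars R) hfB
      uB.surjective_rangeRestrict fun x => Iff.trans
        ⟨fun h => congrArg Subtype.val h, fun h => Subtype.ext h⟩ (hfuB x)
  refine ⟨hFflat, ?_⟩
  haveI : Nontrivial (B ⧸ K) := Ideal.Quotient.nontrivial_iff.2 (by
    rw [hK]; exact ne_top_of_le_ne_top (IsLocalRing.maximalIdeal.isMaximal B).ne_top hmn)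
  exact CAlg15.ClosedFibre.hasSk_two (A := R) K hK hS2 fB uB vB hfB hfuB huvB hvB

end Groth.Agent.S18713
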