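import Groth.Statements.S18714
import Groth.Agent.CAlg15.InfCrit
import Groth.Agent.CAlg15.DualPresentation
import Groth.Agent.CAlg15.UnivCrit
import Groth.Agent.CAlg15.FibreSkBC
import Groth.Agent.CAlg15.LocFlatTransfer
-- import your own Groth.Agent.* helpers here

set_option autoImplicit false
set_option linter.style.haveILetI false
universe u
open QGor

namespace Groth.Agent.S18714

open TensorProduct in
/-- Affine form. Let R be a Henselian Noetherian local ring with maximal ideal m, C a finitely generated
flat R-algebra all of whose fibre local rings C_q/pC_q satisfy S₂ (an S₂-morphism), F a finite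
reflexive C-module free at every prime not containing an ideal J such that every fibre local ring at
primes q ⊇ J has dimension ≥ 2 (locally free in codimension one on each fibre), and y = n a prime of
C over m. Then there is an ideal 𝔞 of R (a closed subscheme S of Spec R) with the universal
property: for every local homomorphism R → R′ to a Noetherian local ring and the Noetherian pushout
C′ = R′ ⊗_R C, the double dual (C′ ⊗_C F)^∨∨ is flat over R′ with S₂ fibre stalk at every prime q′
of C′ lying over n and over the closed point of R′ (it satisfies relative S₂ there) if and only if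
𝔞R′ = 0 (Spec R′ → Spec R factors through S). Test rings R′ range over the universe of R. -/
theorem result (R C : Type u) [CommRing R] [CommRing C]
    [IsNoetherianRing R] [HenselianLocalRing R] [IsNoetherianRing C] [Algebra R C] [Module.Flat R C]
    (hft : Algebra.FiniteType R C)
    (hS2 : ∀ q : PrimeSpectrum C, LocCoh.HasSk 2 (EGA4.FibLocRing R C q.asIdeal) (EGA4.FibLocRing R C q.asIdeal))
    (F : Type u) [AddCommGroup F] [Module C F] [Module.Finite C F] [Module.IsReflexive C F] (J : Ideal C)
    (hFU : ∀ q : PrimeSpectrum C, ¬ J ≤ q.asIdeal → Module.Free (Localization.AtPrime q.asIdeal) (LocalizedModule q.asIdeal.primeCompl F))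
    (hcodim : ∀ q : PrimeSpectrum C, J ≤ q.asIdeal → (2 : WithBot ℕ∞) ≤ ringKrullDim (EGA4.FibLocRing R C q.asIdeal))
    (n : PrimeSpectrum C) (hn : (IsLocalRing.maximalIdeal R).map (algebraMap R C) ≤ n.asIdeal) :
    ∃ 𝔞 : Ideal R, ∀ (R' : Type u) [CommRing R'] [IsNoetherianRing R'] [IsLocalRing R'] [Algebra R R'],
      IsLocalHom (algebraMap R R') →
      ∀ (C' : Type u) [CommRing C'] [IsNoetherianRing C'] [Algebra C C'] [Algebra R' C'] [Algebra R C']
        [IsScalarTower R C C'] [IsScalarTower R R' C'], Algebra.IsPushout R C R' C' →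
        ((∀ q' : PrimeSpectrum C', q'.asIdeal.comap (algebraMap C C') = n.asIdeal →
            (IsLocalRing.maximalIdeal R').map (algebraMap R' C') ≤ q'.asIdeal →
            FlatCA.FlatAt R' q'.asIdeal (Module.Dual C' (Module.Dual C' (C' ⊗[C] F))) ∧
            LocCoh.HasSk 2 (EGA4.FibLocRing R' C' q'.asIdeal)
              (EGA4.FibLocMod R' C' q'.asIdeal (Module.Dual C' (Module.Dual C' (C' ⊗[C] F))))) ↔
          𝔞.map (algebraMap R R') = ⊥) := by
  -- `n` lies over the maximal ideal
  have hcomap : n.asIdeal.comap (algebraMap R C) = IsLocalRing.maximalIdeal R :=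
    le_antisymm (IsLocalRing.le_maximalIdeal (Ideal.IsPrime.comap _).ne_top) (Ideal.map_le_iff_le_comap.1 hn)
  let S := n.asIdeal.primeCompl
  let B := Localization.AtPrime n.asIdeal
  have hmn : (IsLocalRing.maximalIdeal R).map (algebraMap R B) ≤ IsLocalRing.maximalIdeal B := by
    rw [IsScalarTower.algebraMap_eq R C B, ← Ideal.map_map, ← Localization.AtPrime.map_eq_maximalIdeal]
    exact Ideal.map_mono hn
  haveI hloc : IsLocalHom (algebraMap R B) := ((IsLocalRing.local_hom_TFAE (algebraMap R B)).out 0 2 rfl rfl).2 hmn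
  let JB := J.map (algebraMap C B)
  -- depth of the closed fibre
  let K := (n.asIdeal.comap (algebraMap R C)).map (algebraMap R B)
  have hK : K = EGA4.mB R B := by simp only [K, hcomap]
  have hcod : ∀ P : PrimeSpectrum (B ⧸ K), JB.map (Ideal.Quotient.mk K) ≤ P.asIdeal →
      (2 : WithBot ℕ∞) ≤ ringKrullDim (Localization.AtPrime P.asIdeal) := fun P hP =>
    CAlg15.InfCrit.two_le_dim_fibre n.asIdeal J hcodim P hP
  have hhd : 2 ≤ LocCoh.idealDepth (JB.map (algebraMap B (B ⧸ K))) (B ⧸ K) :=
    CAlg15.le_idealDepth_of_hasSk _ (hS2 n) fun P hP _ => le_of_le_of_eq (hcod P hP) (Module.supportDim_self_eq_ringKrullDim (R := Localization.AtPrime P.asIdeal)).symm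
  have h0 : 2 ≤ LocCoh.idealDepth JB (EGA4.FibMod R B B) := by
    rw [CAlgH3.idealDepth_congr JB (Submodule.quotEquivOfEq _ K (by rw [hK, smul_eq_mul, Ideal.mul_top]))]
    exact le_of_le_of_eq hhd (CAlgH3.idealDepth_of_surjective Ideal.Quotient.mk_surjective _ _)
  -- the presentation
  obtain ⟨a, b, f, u, hf, hfu, hG⟩ := CAlg15.exists_fourTerm J F hFU
  let G := (Fin b → C) ⧸ LinearMap.range u
  let v : (Fin b → C) →ₗ[C] G := Submodule.mkQ _
  have huv : Function.Exact u v := LinearMap.exact_map_mkQ_range u
  have hv : Function.Surjective v := Submodule.mkQ_surjective _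
  let fB := LocalizedModule.map S f
  let uB := LocalizedModule.map S u
  let vB := LocalizedModule.map S v
  have hfuB := LocalizedModule.map_exact S f u hfu
  have huvB := LocalizedModule.map_exact S u v huv
  have hvB := LocalizedModule.map_surjective S v hv
  have hfB := LocalizedModule.map_injective S f hf
  haveI : ∀ E : ℕ, Module.Flat R (LocalizedModule S (Fin E → C)) := fun E => by
    haveI : Module.Flat R (Fin E → C) := Module.Flat.trans R C _
    exact CAlg15.flat_localizedModule S
  haveI : ∀ E : ℕ, Module.Free B (LocalizedModule S (Fin E → C)) := fun E =>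
    Module.free_of_isLocalizedModule S (LocalizedModule.mkLinearMap S _)
  haveI : ∀ E : ℕ, Module.Finite B (LocalizedModule S (Fin E → C)) := fun E =>
    Module.Finite.of_isLocalizedModule S (LocalizedModule.mkLinearMap S _)
  haveI : Module.Finite B (LocalizedModule S F) :=
    Module.Finite.of_isLocalizedModule S (LocalizedModule.mkLinearMap S _)
  haveI := hft
  have h0n : 2 ≤ LocCoh.idealDepth JB (EGA4.FibLocMod R C n.asIdeal C) := by
    refine le_of_le_of_eq h0 (CAlgH3.idealDepth_congr JB (Submodule.quotEquivOfEq _ (K • (⊤ : Submodule B B)) ?_))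
    rw [hK]
  haveI : Module.Finite C G := inferInstance
  obtain ⟨𝔞, h𝔞⟩ := CAlg15.LocFlatTransfer.exists_flatIdeal R C n.asIdeal hcomap G
  refine ⟨𝔞, fun R' _ _ _ _ hloc' C' _ _ _ _ _ _ _ hpush => ?_⟩
  rw [← h𝔞 R' hloc' C' hpush]
  haveI := hloc'
  haveI := hpush
  refine forall_congr' fun q' => forall_congr' fun hq' => forall_congr' fun hmax => ?_
  have hm : q'.asIdeal.comap (algebraMap R' C') = IsLocalRing.maximalIdeal R' :=
    le_antisymm (IsLocalRing.le_maximalIdeal (Ideal.IsPrime.comap _).ne_top) (Ideal.map_le_iff_le_comap.1 hmax)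
  haveI : Module.Flat R' C' := by
    haveI : Algebra.IsPushout R R' C C' := Algebra.IsPushout.symm inferInstance
    exact Module.Flat.isBaseChange R R' C C' (Algebra.IsPushout.out (R := R) (S := R') (R' := C) (S' := C'))
  let J' := J.map (algebraMap C C')
  have h0' : 2 ≤ LocCoh.idealDepth (J'.map (algebraMap C' (Localization.AtPrime q'.asIdeal)))
      (EGA4.FibLocMod R' C' q'.asIdeal C') := by
    refine (CAlg15.FibreFour.le_idealDepth_fibre_iff J' q'.asIdeal C' 2).2 fun r hJr hrq hrm => ?_
    have hqn : r.asIdeal.comap (algebraMap C C') ≤ n.asIdeal := hq' ▸ Ideal.comap_mono hrq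
    have hqm : (r.asIdeal.comap (algebraMap C C')).comap (algebraMap R C) = n.asIdeal.comap (algebraMap R C) := by
      rw [hcomap, Ideal.comap_comap, ← IsScalarTower.algebraMap_eq, IsScalarTower.algebraMap_eq R R' C',
        ← Ideal.comap_comap, hrm, hm]
      exact ((IsLocalRing.local_hom_TFAE (algebraMap R R')).out 0 4 rfl rfl).1 inferInstance
    have h2 := (CAlg15.FibreFour.le_idealDepth_fibre_iff J n.asIdeal C 2).1 h0n
      ⟨r.asIdeal.comap (algebraMap C C'), inferInstance⟩ (Ideal.map_le_iff_le_comap.1 hJr) hqn hqm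
    refine CAlg15.le_fibLocMod_of_projective r.asIdeal 2
      (CAlg15.two_le_fibLocRing_baseChange (A := R) (B := C) R' C' r.asIdeal (le_of_le_of_eq h2 ?_)) C'
    exact CAlgH3.idealDepth_congr _ ((Submodule.quotEquivOfEq _ _ (by rw [smul_eq_mul, Ideal.mul_top])).extendScalarsOfSurjective
      Ideal.Quotient.mk_surjective)
  obtain ⟨ρ, huρ, hρ⟩ := CAlg15.ValCrit.exists_bidual_map C' J F (Fin a → C) (Fin b → C) G f u v hf hfu huv hv hFU hG
  obtain ⟨a', b', g, h, hg, hgh⟩ := CAlg15.BidualKer.exists_dual_exact (B := C') (Module.Dual C' (C' ⊗[C] F))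
  have hring := CAlg15.FibreSkBC.hasSk_fibre_baseChange 2 R' C' n.asIdeal hcomap q'.asIdeal hq' hm (hS2 n)
  obtain ⟨hfwd, hback⟩ := CAlg15.UnivCrit.coker_and_fibre J' q'.asIdeal hm h0' _ ⟨a', b', g, h, hg, hgh⟩
    (C' ⊗[C] (Fin a → C)) (C' ⊗[C] (Fin b → C)) (C' ⊗[C] G) (u.baseChange C') (v.baseChange C')
    (lTensor_exact C' huv hv) (LinearMap.lTensor_surjective C' hv) ρ huρ hρ fun r hr => by
      haveI : Module.Free (Localization.AtPrime (r.asIdeal.comap (algebraMap C C')))
          (LocalizedModule (r.asIdeal.comap (algebraMap C C')).primeCompl G) :=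
        hG ⟨_, Ideal.IsPrime.comap _⟩ fun hle => hr (Ideal.map_le_iff_le_comap.2 hle)
      haveI := CAlg15.free_localized_baseChange (B := C) (M := G) C' r.asIdeal
      haveI : Module.Flat R' (Localization.AtPrime r.asIdeal) := Module.Flat.trans R' C' _
      exact Module.Flat.trans R' (Localization.AtPrime r.asIdeal) _
  exact ⟨fun h => hfwd h.2, fun h => hback hring h⟩

end Groth.Agent.S18714
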