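import Groth.Statements.S18717
import Groth.Agent.DualLib.SerreLoci
import Groth.Agent.DualLib.Depth

set_option autoImplicit false
universe u
open CategoryTheory
attribute [local instance] HasDerivedCategory.standard
open QGor

namespace Groth.Agent.S18717

/-- Affine-local form with a normalized dualizing complex (so the codimension function vanishes at the
closed point). Let A be a Noetherian local ring with normalized dualizing complex ω, M a nonzero
finite A-module which is equidimensional of dimension δ, E^j = Ext^j(M, ω) the A-module of morphisms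
M → ω[j] in D(A), and k ≥ 1. Then M satisfies (S_k) if and only if dim Supp E^j ≤ −j − k for every
integer j ≠ −δ, where for −j − k < 0 this means E^j = 0. -/
theorem result (A : Type u) [CommRing A] [IsNoetherianRing A]
    [IsLocalRing A] (ω : Dual.D A) (hω : Dual.IsDualizing A ω) (hn : Dual.IsNormalized A ω)
    (M : Type u) [AddCommGroup M] [Module A M] [Module.Finite A M] [Nontrivial M]
    (hM : EGA4.IsEquidimModule A M) (δ : ℕ) (hδ : Module.supportDim A M = δ) (k : ℕ) (hk : 1 ≤ k) :
    LocCoh.HasSk k A M ↔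
      ∀ j : ℤ, j ≠ -(δ : ℤ) →
        (-j - (k : ℤ) < 0 → Subsingleton (Dual.inD A M ⟶ ω⟦j⟧)) ∧
        (0 ≤ -j - (k : ℤ) → Module.supportDim A (Dual.inD A M ⟶ ω⟦j⟧) ≤ ((-j - (k : ℤ)).toNat : WithBot ℕ∞)) := by
  haveI := hδ
  have hdeg : ∀ p : PrimeSpectrum A, ∃ e : ℕ, Order.coheight p = e ∧ Groth.Agent.DualLib.deg hω p = -(e : ℤ) := by
    intro p
    obtain ⟨e, he⟩ := Groth.Agent.DualLib.exists_coheight_eq p
    exact ⟨e, he, ((Groth.Agent.DualLib.deg_spec hω p _).1
      (Groth.Agent.DualLib.mem_support_quotient hω hn e p he)).symm⟩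
  have heq : ∀ q : PrimeSpectrum A, q ∈ Module.support A M → (∀ r ∈ Module.support A M, r ≤ q → r = q) →
      Groth.Agent.DualLib.deg hω q = -(δ : ℤ) := by
    intro q hq hqm
    obtain ⟨e, he, hde⟩ := hdeg q
    have hmin : q.asIdeal ∈ (Module.annihilator A M).minimalPrimes :=
      ⟨⟨q.2, Module.annihilator_le_of_mem_support hq⟩, fun r hr hrq =>
        le_of_eq (congrArg PrimeSpectrum.asIdeal
          (hqm ⟨r, hr.1⟩ (Module.mem_support_iff_of_finite.2 hr.2) hrq)).symm⟩
    have h1 : Module.supportDim A (A ⧸ q.asIdeal) = δ := by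
      rw [Module.supportDim_quotient_eq_ringKrullDim, hM _ hmin, hδ]
    rw [Module.supportDim_quotient_eq_ringKrullDim, Groth.Agent.DualLib.ringKrullDim_quotient_eq_coheight, he] at h1
    have h2 : e = δ := by exact_mod_cast h1
    omega
  have hloc : ∀ p : PrimeSpectrum A, p ∈ Module.support A M → ∃ d n : ℕ,
      Module.supportDim (Localization.AtPrime p.asIdeal) (LocalizedModule p.asIdeal.primeCompl M) = d ∧
      LocCoh.depth (Localization.AtPrime p.asIdeal) (LocalizedModule p.asIdeal.primeCompl M) = n ∧ n ≤ d ∧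
      (d : ℤ) = Groth.Agent.DualLib.deg hω p + δ ∧
      (∀ i : ℤ, p ∈ Module.support A (Dual.inD A M ⟶ ω⟦i⟧) → -(δ : ℤ) ≤ i ∧ i ≤ Groth.Agent.DualLib.deg hω p - n) ∧
      p ∈ Module.support A (Dual.inD A M ⟶ ω⟦Groth.Agent.DualLib.deg hω p - (n : ℤ)⟧) := by
    intro p hp
    obtain ⟨d, n, hd, hn', hle, hr, -, hhi⟩ := Groth.Agent.DualLib.local_degrees hω M p hp
    obtain ⟨d', hd', -, q, hq, -, hqm, hqd⟩ := Groth.Agent.DualLib.exists_localDim hω p M hp
    rw [hd] at hd'
    have hdd : d = d' := by exact_mod_cast hd'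
    have := heq q hq hqm
    exact ⟨d, n, hd, hn', hle, by omega, fun i hi => ⟨by have := hr i hi; omega, (hr i hi).2⟩, hhi⟩
  constructor
  · intro hS j hj
    have key : ∀ p ∈ Module.support A (Dual.inD A M ⟶ ω⟦j⟧), ∃ e : ℕ, Order.coheight p = e ∧ (e : ℤ) ≤ -j - k := by
      intro p hp
      have hpM : p ∈ Module.support A M := Groth.Agent.DualLib.mem_support_of_mem_support_E hω M hp
      obtain ⟨d, n, hd, hn', hle, hdd, hr, -⟩ := hloc p hpM
      obtain ⟨e, he, hde⟩ := hdeg p
      have h := hS p.asIdeal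
      rw [hd, hn'] at h
      have h' : k ≤ n ∨ d ≤ n := (min_le_iff.1 h).imp (fun h => by exact_mod_cast h) (fun h => by exact_mod_cast h)
      have := hr j hp
      exact ⟨e, he, by omega⟩
    refine ⟨fun hneg => ?_, fun hpos => ?_⟩
    · refine (Module.support_eq_empty_iff (R := A)).1 (Set.eq_empty_iff_forall_notMem.2 fun p hp => ?_)
      obtain ⟨e, -, he⟩ := key p hp
      omega
    · refine Groth.Agent.DualLib.supportDim_le_of_coheight _ fun p hp => ?_
      obtain ⟨e, he, hej⟩ := key p hp
      rw [he, Nat.cast_le]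
      omega
  · intro h p hp'
    by_cases hp : (⟨p, hp'⟩ : PrimeSpectrum A) ∈ Module.support A M
    · obtain ⟨d, n, hd, hn', hle, hdd, -, hhi⟩ := hloc _ hp
      obtain ⟨e, he, hde⟩ := hdeg ⟨p, hp'⟩
      rw [hd, hn']
      rcases hle.lt_or_eq with hlt | rfl
      · refine min_le_of_left_le ?_
        obtain ⟨hA, hB⟩ := h (Groth.Agent.DualLib.deg hω ⟨p, hp'⟩ - n) (by omega)
        by_cases hneg : -(Groth.Agent.DualLib.deg hω ⟨p, hp'⟩ - (n : ℤ)) - k < 0
        · haveI := hA hneg
          exact absurd hhi (Groth.Agent.DualLib.notMem_support_of_subsingleton _)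
        · have hh := hB (not_lt.1 hneg)
          rw [Module.supportDim] at hh
          have h2 : Order.coheight (⟨p, hp'⟩ : PrimeSpectrum A) ≤
              ((-(Groth.Agent.DualLib.deg hω ⟨p, hp'⟩ - (n : ℤ)) - (k : ℤ)).toNat : ℕ∞) := by
            refine WithBot.coe_le_coe.1 (le_trans ?_ hh)
            rw [Order.coheight_eq_krullDim_Ici]
            exact Order.krullDim_le_of_strictMono (fun q => ⟨q.1, Module.mem_support_mono q.2 hhi⟩) fun _ _ h => h
          rw [he, Nat.cast_le] at h2
          exact_mod_cast (show k ≤ n by omega)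
      · exact min_le_of_right_le le_rfl
    · haveI := Module.notMem_support_iff.1 hp
      rw [Module.supportDim_eq_bot_of_subsingleton]
      exact min_le_of_right_le bot_le

end Groth.Agent.S18717
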