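import Groth.Statements.S18718
import Groth.Agent.CAlg15.DualBC
-- import your own Groth.Agent.* helpers here

set_option autoImplicit false
universe u
open QGor

namespace Groth.Agent.S18718

open TensorProduct in
/-- Affine form. Let A → B be a flat homomorphism of Noetherian rings, J an ideal of B such that the
fibre local ring B_q/pB_q has depth ≥ 2 at every prime q ⊇ J (p its contraction), A → A′ a
homomorphism of Noetherian rings with Noetherian pushout B′ = A′ ⊗_A B, and F a finite B-module with
F_q free for every prime q not containing J. Then depth_J (F^∨∨) ≥ 2 (the double dual is the module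
of sections of F off V(J)); the natural map (B′ ⊗_B F)^∨∨ → (B′ ⊗_B F^∨∨)^∨∨ obtained by dualising
twice the base change of F → F^∨∨ is bijective; and if moreover F is flat over A and the fibre
stalks F_q/pF_q have depth ≥ 2 at all primes q ⊇ J, then F and B′ ⊗_B F are reflexive. -/
theorem result (A B : Type u) [CommRing A] [CommRing B] [IsNoetherianRing A] [IsNoetherianRing B] [Algebra A B]
    (A' B' : Type u) [CommRing A'] [CommRing B'] [IsNoetherianRing A'] [IsNoetherianRing B']
    [Algebra A A'] [Algebra B B'] [Algebra A' B'] [Algebra A B'] [IsScalarTower A B B'] [IsScalarTower A A' B']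
    [Algebra.IsPushout A B A' B'] [Module.Flat A B] (J : Ideal B)
    (hZ : ∀ q : PrimeSpectrum B, J ≤ q.asIdeal →
      2 ≤ LocCoh.idealDepth (q.asIdeal.map (algebraMap B (EGA4.FibLocRing A B q.asIdeal))) (EGA4.FibLocRing A B q.asIdeal))
    (F : Type u) [AddCommGroup F] [Module B F] [Module A F] [IsScalarTower A B F] [Module.Finite B F]
    (hFU : ∀ q : PrimeSpectrum B, ¬ J ≤ q.asIdeal → Module.Free (Localization.AtPrime q.asIdeal) (LocalizedModule q.asIdeal.primeCompl F)) :
    2 ≤ LocCoh.idealDepth J (Module.Dual B (Module.Dual B F)) ∧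
    Function.Bijective (((Module.Dual.eval B F).baseChange B').dualMap.dualMap) ∧
    (Module.Flat A F →
      (∀ q : PrimeSpectrum B, J ≤ q.asIdeal →
        2 ≤ LocCoh.idealDepth (q.asIdeal.map (algebraMap B (EGA4.FibLocRing A B q.asIdeal))) (EGA4.FibLocMod A B q.asIdeal F)) →
      Module.IsReflexive B F ∧ Module.IsReflexive B' (B' ⊗[B] F)) := by
  have hB1 : 2 ≤ LocCoh.idealDepth J B := CAlg15.le_idealDepth_self_of_fibres (A := A) J 2 hZ
  have hB' : 2 ≤ LocCoh.idealDepth (J.map (algebraMap B B')) B' := by
    rw [← CAlgH3.idealDepth_congr _ (TensorProduct.AlgebraTensorModule.rid B B' B')]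
    refine CAlg15.two_le_idealDepth_baseChange (A := A) (E := B) A' B' J fun q hq => ?_
    refine le_of_le_of_eq (hZ q hq) ?_
    rw [CAlg15.idealDepth_fibLocRing, CAlg15.idealDepth_fibLocRing]
    refine CAlgH3.depth_congr ?_
    refine ((Submodule.quotEquivOfEq (((q.asIdeal.comap (algebraMap A B)).map (algebraMap A (Localization.AtPrime q.asIdeal))) •
      (⊤ : Submodule (Localization.AtPrime q.asIdeal) (Localization.AtPrime q.asIdeal))) _ (by rw [smul_eq_mul, Ideal.mul_top])).symm.trans
      (Submodule.Quotient.equiv _ _ (((IsLocalizedModule.linearEquiv q.asIdeal.primeCompl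
        (Algebra.linearMap B (Localization.AtPrime q.asIdeal))
        (LocalizedModule.mkLinearMap q.asIdeal.primeCompl B))).extendScalarsOfIsLocalization q.asIdeal.primeCompl
          (Localization.AtPrime q.asIdeal)) ?_))
    rw [Submodule.map_smul'', Submodule.map_top, LinearEquiv.range]
  refine ⟨CAlg15.two_le_idealDepth_dual J _ hB1, ?_, fun hflat hd => ?_⟩
  · have h := ((CAlg15.invOff_eval hFU).baseChange B').dualMap_bijective hB'
    exact (LinearEquiv.ofBijective _ h).dualMap.bijective
  · haveI := hflat
    refine ⟨CAlg15.isReflexive_of_depth J (le_trans (by norm_num) hB1)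
      (CAlg15.le_idealDepth_of_fibres (A := A) J F 2 hd) fun q hq => ?_,
      CAlg15.isReflexive_of_depth (J.map (algebraMap B B')) (le_trans (by norm_num) hB')
      (CAlg15.two_le_idealDepth_baseChange (A := A) A' B' J hd) fun q' hq' => ?_⟩
    · haveI := hFU q hq
      haveI : Module.Finite (Localization.AtPrime q.asIdeal) (LocalizedModule q.asIdeal.primeCompl F) :=
        Module.Finite.of_isLocalizedModule q.asIdeal.primeCompl (LocalizedModule.mkLinearMap q.asIdeal.primeCompl F)
      infer_instance
    · haveI : Module.Free (Localization.AtPrime (q'.asIdeal.comap (algebraMap B B')))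
          (LocalizedModule (q'.asIdeal.comap (algebraMap B B')).primeCompl F) :=
        hFU ⟨_, Ideal.IsPrime.comap _⟩ fun hle => hq' (Ideal.map_le_iff_le_comap.2 hle)
      haveI := CAlg15.free_localized_baseChange (B := B) (M := F) B' q'.asIdeal
      haveI : Module.Finite (Localization.AtPrime q'.asIdeal) (LocalizedModule q'.asIdeal.primeCompl (B' ⊗[B] F)) :=
        Module.Finite.of_isLocalizedModule q'.asIdeal.primeCompl (LocalizedModule.mkLinearMap q'.asIdeal.primeCompl _)
      infer_instance

end Groth.Agent.S18718
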