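import Groth.Statements.S18721
import Groth.Agent.QG15.DualDeg
-- import your own Groth.Agent.* helpers here

set_option autoImplicit false
universe u
open CategoryTheory
attribute [local instance] HasDerivedCategory.standard
open QGor

namespace Groth.Agent.S18721

/-- Affine form. Let k be a field and A a finitely generated k-algebra, equidimensional of Krull
dimension n, and let ω be a dualizing complex of A normalized at every maximal ideal m (no nonzero
morphisms A/m → ω[i] in D(A) for i ≠ 0 — the canonical dualizing complex of Spec A over k). Put Z_i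
= Supp H^{-i}(ω). Then H^{-i}(ω) = 0 for every i > n, and for every k′ ≥ 1: A satisfies (S_{k′}) if
and only if dim Z_i ≤ i − k′ for all i ≠ n, where for i < k′ this means H^{-i}(ω) = 0. -/
theorem result (k A : Type u) [Field k] [CommRing A]
    [Algebra k A] (hft : Algebra.FiniteType k A) [IsNoetherianRing A]
    (hEq : EGA4.IsEquidim A) (n : ℕ) (hd : ringKrullDim A = n)
    (ω : Dual.D A) (hω : Dual.IsDualizing A ω)
    (hnorm : ∀ (m : Ideal A) (_ : m.IsMaximal) (i : ℤ), i ≠ 0 → Subsingleton (Dual.inD A (A ⧸ m) ⟶ ω⟦i⟧)) :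
    (∀ i : ℕ, n < i → Subsingleton (Dual.HD A ω (-(i : ℤ)))) ∧
    ∀ k' : ℕ, 1 ≤ k' →
      (LocCoh.HasSk k' A A ↔
        ∀ i : ℕ, i ≠ n →
          (i < k' → Subsingleton (Dual.HD A ω (-(i : ℤ)))) ∧
          (k' ≤ i → Module.supportDim A (Dual.HD A ω (-(i : ℤ))) ≤ ((i - k' : ℕ) : WithBot ℕ∞))) := by
  have h0 : ∀ m : PrimeSpectrum A, m.asIdeal.IsMaximal → Groth.Agent.DualLib.deg hω m = 0 := by
    intro m hm
    by_contra hne
    haveI := hnorm m.asIdeal hm (Groth.Agent.DualLib.deg hω m) hne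
    exact Groth.Agent.DualLib.notMem_support_of_subsingleton m
      ((Groth.Agent.DualLib.deg_spec hω m _).2 rfl)
  have hmin : ∀ q : PrimeSpectrum A, (∀ r ≤ q, r = q) → Groth.Agent.DualLib.deg hω q = -(n : ℤ) := by
    intro q hq
    obtain ⟨e, he, hde⟩ := Groth.Agent.QG15.exists_coheight_deg hω h0 q
    have hm : q.asIdeal ∈ minimalPrimes A :=
      ⟨⟨q.2, bot_le⟩, fun r hr hrq => le_of_eq (congrArg PrimeSpectrum.asIdeal (hq ⟨r, hr.1⟩ hrq)).symm⟩
    have h1 := hEq q.asIdeal hm
    rw [hd, Groth.Agent.DualLib.ringKrullDim_quotient_eq_coheight, he] at h1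
    have h2 : e = n := by exact_mod_cast h1
    omega
  obtain ⟨h1, h2⟩ := Groth.Agent.QG15.hasSk_iff_cohomology hω h0 n hmin
  exact ⟨h1, fun k' _ => h2 k'⟩

end Groth.Agent.S18721
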