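import Groth.Statements.S18723
import Groth.Agent.QG15.OrdinaryDual
import Groth.Agent.CAlg15.FibreDepth
import Groth.Agent.CAlg15.DualBC
-- import your own Groth.Agent.* helpers here

set_option autoImplicit false
universe u
open CategoryTheory
attribute [local instance] HasDerivedCategory.standard
open QGor

namespace Groth.Agent.S18723

theorem isReflexive_of_free (R M : Type u) [CommRing R] [AddCommGroup M] [Module R M] [Module.Free R M]
    [Module.Finite R M] : Module.IsReflexive R M := inferInstance

/-- Affine-local form, with (2) for tensor powers m ≥ 0. Let A be a Noetherian local ring of Krull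
dimension n with a dualizing complex ω, L = H⁰(ω), and J an ideal with ht J ≥ 2 (the closed set V(J)
has codimension ≥ 2) such that off V(J) the complex ω is the invertible module L in degree 0: for
every prime p not containing J, H^i(ω)_p = 0 for i ≠ 0 and L_p is free of rank 1. (1) If A satisfies
(S₁), then ω is ordinary (A is equidimensional and ω[n] is normalized) and L is reflexive and
satisfies (S₂). (2) If A satisfies (S₂), then for every m ≥ 0 the double dual L^[m] of the m-th
tensor power of L satisfies (S₂) and depth_J L^[m] ≥ 2 (it is the module of sections of L^⊗m off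
V(J)). -/
theorem result (A : Type u) [CommRing A] [IsNoetherianRing A]
    [IsLocalRing A] (ω : Dual.D A) (hω : Dual.IsDualizing A ω) (n : ℕ) (hd : ringKrullDim A = n)
    (J : Ideal A) (hJ : 2 ≤ J.height)
    (hoff : ∀ p : PrimeSpectrum A, ¬ J ≤ p.asIdeal →
      (∀ i : ℤ, i ≠ 0 → p ∉ Module.support A (Dual.HD A ω i)) ∧
      Module.Free (Localization.AtPrime p.asIdeal) (LocalizedModule p.asIdeal.primeCompl (Dual.HD A ω 0)) ∧
      Module.finrank (Localization.AtPrime p.asIdeal) (LocalizedModule p.asIdeal.primeCompl (Dual.HD A ω 0)) = 1) :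
    (LocCoh.HasSk 1 A A →
      (EGA4.IsEquidim A ∧ Dual.IsNormalized A (ω⟦(n : ℤ)⟧)) ∧
      Module.IsReflexive A (Dual.HD A ω 0) ∧ LocCoh.HasSk 2 A (Dual.HD A ω 0)) ∧
    (LocCoh.HasSk 2 A A → ∀ m : ℕ,
      LocCoh.HasSk 2 A (Module.Dual A (Module.Dual A (TensorPower A m (Dual.HD A ω 0)))) ∧
      2 ≤ LocCoh.idealDepth J (Module.Dual A (Module.Dual A (TensorPower A m (Dual.HD A ω 0))))) := by
  have hoff' : ∀ p : PrimeSpectrum A, ¬ J ≤ p.asIdeal → ∀ i : ℤ, i ≠ 0 → p ∉ Module.support A (Dual.HD A ω i) :=
    fun p hp => (hoff p hp).1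
  have hJ1 : 1 ≤ J.height := le_trans (by norm_num) hJ
  haveI : Module.Finite A (Dual.HD A ω 0) := hω.finite_cohomology 0
  have hdimA : ∀ (p : PrimeSpectrum A),
      (p.asIdeal.height : WithBot ℕ∞) =
        Module.supportDim (Localization.AtPrime p.asIdeal) (LocalizedModule p.asIdeal.primeCompl A) := by
    intro p
    rw [← IsLocalization.AtPrime.ringKrullDim_eq_height p.asIdeal (Localization.AtPrime p.asIdeal),
      ← Module.supportDim_self_eq_ringKrullDim]
  have hA : ∀ (k : ℕ), LocCoh.HasSk k A A → ∀ I : Ideal A, (k : ℕ∞) ≤ I.height → (k : ℕ∞) ≤ LocCoh.idealDepth I A := by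
    intro k hk I hI
    refine Groth.Agent.CAlg15.le_idealDepth_of_hasSk I hk fun p hp _ => ?_
    rw [← hdimA p]
    exact WithBot.coe_le_coe.2 (hI.trans (Ideal.height_mono hp))
  constructor
  · intro hS1
    refine ⟨Groth.Agent.QG15.ordinary hω J hJ1 hoff' n hd, ?_, Groth.Agent.QG15.hasSk_two hω J hJ1 hoff'⟩
    refine Groth.Agent.CAlg15.isReflexive_of_depth J (hA 1 hS1 J (by simpa using hJ1))
      (Groth.Agent.QG15.two_le_idealDepth hω J hJ1 hoff' hJ) fun q hq => ?_
    haveI := (hoff q hq).2.1
    haveI : Module.Finite (Localization.AtPrime q.asIdeal) (LocalizedModule q.asIdeal.primeCompl (Dual.HD A ω 0)) :=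
      Module.Finite.of_isLocalizedModule q.asIdeal.primeCompl (LocalizedModule.mkLinearMap q.asIdeal.primeCompl _)
    exact isReflexive_of_free (Localization.AtPrime q.asIdeal) (LocalizedModule q.asIdeal.primeCompl (Dual.HD A ω 0))
  · intro hS2 m
    haveI : Module.Finite A (Module.Dual A (TensorPower A m (Dual.HD A ω 0))) := inferInstance
    refine ⟨fun p hp => ?_, Groth.Agent.CAlg15.two_le_idealDepth_dual J _ (hA 2 hS2 J (by simpa using hJ))⟩
    let M := Module.Dual A (TensorPower A m (Dual.HD A ω 0))
    refine Groth.Agent.CAlg15.min_natCast_le fun j hj1 hj2 hj => ?_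
    have hh : (j : ℕ∞) ≤ p.height := by
      have h1 := hj.trans ((Groth.Agent.CAlg15.supportDim_localized_mono (M := A)
        (fun q _ => Groth.Agent.QG15.mem_support_self' q) p).trans (hdimA ⟨p, hp⟩).ge)
      exact WithBot.coe_le_coe.1 h1
    have hS : LocCoh.HasSk j A A := fun q _ =>
      le_trans (min_le_min_right _ (by exact_mod_cast hj2)) (hS2 q)
    have hd' : (j : ℕ∞) ≤ LocCoh.idealDepth p (Module.Dual A M) := by
      obtain rfl | rfl : j = 1 ∨ j = 2 := by omega
      · obtain ⟨k, π, hπ⟩ := Module.Finite.exists_fin' A M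
        let f : Module.Dual A M →ₗ[A] (Fin k → A) :=
          (Pi.basisFun A (Fin k)).toDualEquiv.symm.toLinearMap ∘ₗ π.dualMap
        have hf : Function.Injective f :=
          (Pi.basisFun A (Fin k)).toDualEquiv.symm.injective.comp (LinearMap.dualMap_injective_of_surjective hπ)
        simpa using (Groth.Agent.CAlg15.idealDepth_of_exact p f (LinearMap.range f).mkQ hf
          (LinearMap.exact_map_mkQ_range f)).1 (le_trans (by simpa using hA 1 hS p hh)
            (Groth.Agent.CAlg15.idealDepth_pi p k))
      · exact Groth.Agent.CAlg15.two_le_idealDepth_dual p M (hA 2 hS p hh)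
    exact (Groth.Agent.CAlg15.le_idealDepth_iff p _ _).1 hd' ⟨p, hp⟩ le_rfl

end Groth.Agent.S18723
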