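import Groth.Statements.S1873
import Groth.Agent.CycLib28.MultLocal
import Groth.Agent.CycLib28.TorFinLen

set_option autoImplicit false
universe u
open CategoryTheory AlgebraicGeometry
attribute [local instance] HasDerivedCategory.standard
open IntMult

namespace Groth.Agent.S1873

/-- If the multiplicity of Z in the closed subscheme V ∩ W is 1, i.e. length_{O_{X,ξ}}(O_{V∩W,ξ}) = 1,
then e(X, V·W, Z) = 1 and the local rings O_{V,ξ}, O_{W,ξ} are regular (V and W are smooth at a
general point of Z). Here X is a nonsingular variety over an algebraically closed field K (smooth,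
separated, of finite type, integral), V and W are closed subvarieties given by quasi-coherent ideal
sheaves with integral subschemes, of dimensions r and s with dim X = n, intersecting properly, and ξ
is the generic point of an irreducible component Z of V ∩ W; e(X, V·W, Z) is the alternating sum of
lengths of Tor over O_{X,ξ}. -/
theorem result (K : Type u) [Field K] [IsAlgClosed K] (X : Scheme.{u}) (f : X ⟶ Spec (CommRingCat.of K)) [Smooth f] [IsSeparated f] [QuasiCompact f] [IsIntegral X] (IV IW : X.IdealSheafData) [IsIntegral IV.subscheme] [IsIntegral IW.subscheme] (n r s : ℕ) (hn : topologicalKrullDim X = n) (hr : topologicalKrullDim IV.support = r) (hs : topologicalKrullDim IW.support = s) (hprop : IntMult.ProperInt (IV.support : Set X) (IW.support : Set X) n r s) (ξ : X) (hξV : ξ ∈ IV.support) (hξW : ξ ∈ IW.support) (hmax : ∀ ξ' : X, ξ' ∈ IV.support → ξ' ∈ IW.support → ξ' ⤳ ξ → ξ' = ξ) (h1 : Module.length (X.presheaf.stalk ξ) (↑(X.presheaf.stalk ξ) ⧸ (IntMult.stalkIdeal IV ξ ⊔ IntMult.stalkIdeal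 IW ξ)) = 1) : IntMult.mult IV IW ξ = 1 ∧ IsRegularLocalRing (↑(X.presheaf.stalk ξ) ⧸ IntMult.stalkIdeal IV ξ) ∧ IsRegularLocalRing (↑(X.presheaf.stalk ξ) ⧸ IntMult.stalkIdeal IW ξ) := by
  haveI : IsLocallyNoetherian X := LocallyOfFiniteType.isLocallyNoetherian f
  haveI := Groth.Agent.CycLib28.isRegularLocalRing_stalk f ξ
  obtain ⟨a, v, w, ha, hv, hw, hle⟩ := Groth.Agent.CycLib28.exists_dims f IV IW hn hr hs hprop hξV hξW
  set A := (X.presheaf.stalk ξ : Type u)
  set I := IntMult.stalkIdeal IV ξ
  set J := IntMult.stalkIdeal IW ξ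
  haveI : IsLocalRing (A ⧸ I) :=
    Groth.Agent.CAlgH3.isLocalRing_quotient (Groth.Agent.CycLib28.stalkIdeal_le_maximal IV hξV)
  haveI : IsLocalRing (A ⧸ J) :=
    Groth.Agent.CAlgH3.isLocalRing_quotient (Groth.Agent.CycLib28.stalkIdeal_le_maximal IW hξW)
  have hmax' : I ⊔ J = IsLocalRing.maximalIdeal A :=
    IsLocalRing.eq_maximalIdeal (Ideal.isMaximal_def.2 (isSimpleModule_iff_isCoatom.1 (Module.length_eq_one_iff.1 h1)))
  obtain ⟨hrI, hrJ⟩ := Groth.Agent.CycLib28.isRegular_of_sup_eq_maximal I J hmax'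
    ((IsRegularLocalRing.spanFinrank_maximalIdeal (R := A)).trans ha) hv hw hle
  refine ⟨?_, hrI, hrJ⟩
  have h := Groth.Agent.CycLib28.chi_eq_length_of_cm_both I J
    (Groth.Agent.CAlgH3.isCohenMacaulayLocalRing_of_regular _) (Groth.Agent.CAlgH3.isCohenMacaulayLocalRing_of_regular _)
    (Groth.Agent.CycLib28.finite_length_quot_sup IV IW hξV hξW hmax) ha hv hw hle
  rw [h1] at h
  exact h.trans (by simp)
end Groth.Agent.S1873
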