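import Groth.Statements.S18734
import Groth.Agent.H8Top.FiniteSchemes
import Groth.Agent.Et18.Descent
import Mathlib.AlgebraicGeometry.ZariskisMainTheorem

set_option autoImplicit false
set_option backward.isDefEq.respectTransparency.types false
open scoped TensorProduct
universe u
open CategoryTheory CategoryTheory.Limits AlgebraicGeometry TopologicalSpace
open ModPair

namespace Groth.Agent.S18734


/-- Torsion-free algebras of finite type over a valuation ring with algebraic elements are quasi-finite. -/
theorem quasiFinite_of_algebraic (R A : Type u) [CommRing R] [IsDomain R] [ValuationRing R] [CommRing A]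
    [Algebra R A] [Algebra.FiniteType R A]
    (htf : ∀ (c : R) (x : A), c ≠ 0 → algebraMap R A c * x = 0 → x = 0)
    (halg : ∀ a : A, ∃ F : Polynomial R, F ≠ 0 ∧ Polynomial.aeval a F = 0) : Algebra.QuasiFinite R A := by
  classical
  refine ⟨fun P hP => ?_⟩
  have hgen : ∀ a : A, IsIntegral P.ResidueField (1 ⊗ₜ[R] a : P.Fiber A) := by
    intro a
    obtain ⟨F, hF0, hFa⟩ := halg a
    have hmin : ∀ s : Finset ℕ, s.Nonempty → ∃ j ∈ s, ∀ i ∈ s, F.coeff j ∣ F.coeff i := by
      intro s
      induction s using Finset.induction_on with
      | empty => simp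
      | insert b s _ ih =>
        intro _
        rcases s.eq_empty_or_nonempty with rfl | hs
        · exact ⟨b, by simp, by simp⟩
        obtain ⟨j, hj, hjall⟩ := ih hs
        rcases ValuationRing.dvd_total (F.coeff b) (F.coeff j) with h | h
        · refine ⟨b, Finset.mem_insert_self _ _, fun i hi => ?_⟩
          rcases Finset.mem_insert.1 hi with rfl | hi
          exacts [dvd_rfl, h.trans (hjall i hi)]
        · refine ⟨j, Finset.mem_insert_of_mem hj, fun i hi => ?_⟩
          rcases Finset.mem_insert.1 hi with rfl | hi
          exacts [h, hjall i hi]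
    obtain ⟨j, hj, hjall⟩ := hmin F.support (Polynomial.support_nonempty.2 hF0)
    obtain ⟨G, hG⟩ : Polynomial.C (F.coeff j) ∣ F := (Polynomial.C_dvd_iff_dvd_coeff _ _).2 fun i => by
      by_cases hi : i ∈ F.support
      · exact hjall i hi
      · rw [Polynomial.notMem_support_iff.1 hi]; exact dvd_zero _
    have hc : F.coeff j ≠ 0 := Polynomial.mem_support_iff.1 hj
    have hGj : G.coeff j = 1 := by
      have h := congrArg (fun q : Polynomial R => q.coeff j) hG
      simp only [Polynomial.coeff_C_mul] at h
      exact (mul_right_eq_self₀.1 h.symm).resolve_right hc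
    have hGa : Polynomial.aeval a G = 0 := by
      refine htf _ _ hc ?_
      rw [hG, map_mul, Polynomial.aeval_C] at hFa
      exact hFa
    refine IsAlgebraic.isIntegral ⟨G.map (algebraMap R P.ResidueField), fun h => ?_, ?_⟩
    · have := congrArg (fun q : Polynomial P.ResidueField => q.coeff j) h
      simp [hGj] at this
    · rw [Polynomial.aeval_map_algebraMap]
      show Polynomial.aeval (Algebra.TensorProduct.includeRight (R := R) (A := P.ResidueField) a) G = 0
      rw [Polynomial.aeval_algHom_apply, hGa, map_zero]
  have : Algebra.IsIntegral P.ResidueField (P.Fiber A) := ⟨fun x => by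
    induction x using TensorProduct.induction_on with
    | zero => exact isIntegral_zero
    | tmul z a =>
      have e : z ⊗ₜ[R] a = algebraMap P.ResidueField (P.Fiber A) z * (1 ⊗ₜ[R] a) := by
        show _ = (z ⊗ₜ[R] (1 : A)) * (1 ⊗ₜ[R] a)
        rw [Algebra.TensorProduct.tmul_mul_tmul, mul_one, one_mul]
      rw [e]
      exact isIntegral_algebraMap.mul (hgen a)
    | add x y hx hy => exact hx.add hy⟩
  exact Algebra.IsIntegral.finite

/-- The chartwise statement. -/
theorem quasiFinite_chart {R : Type u} [CommRing R] [IsDomain R] [ValuationRing R] {Y W : Scheme.{u}}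
    (f : Y ⟶ Spec (CommRingCat.of R)) [Flat f] [IsProper f]
    (hgen : IsFinite (pullback.snd f (Spec.map (CommRingCat.ofHom (algebraMap R (FractionRing R))))))
    [IsAffine W] (jW : W ⟶ Y) [IsOpenImmersion jW] : LocallyQuasiFinite (jW ≫ f) := by
  classical
  have := hgen
  let g := jW ≫ f
  have : Flat g := inferInstance
  have : LocallyOfFiniteType g := inferInstance
  rw [HasRingHomProperty.iff_of_isAffine (P := @LocallyQuasiFinite)]
  show g.appTop.hom.QuasiFinite
  let K := FractionRing R
  let s := Spec.map (CommRingCat.ofHom (algebraMap R K))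
  have : Flat s := by
    rw [Flat.SpecMap_iff]
    exact RingHom.flat_algebraMap_iff.2 inferInstance
  have hft : g.appTop.hom.FiniteType := (HasRingHomProperty.iff_of_isAffine (P := @LocallyOfFiniteType)).1 inferInstance
  have hfl : g.appTop.hom.Flat := (HasRingHomProperty.iff_of_isAffine (P := @Flat)).1 inferInstance
  let e := Scheme.ΓSpecIso (CommRingCat.of R)
  let φ : R →+* Γ(W, ⊤) := g.appTop.hom.comp e.inv.hom
  let _ : Algebra R Γ(W, ⊤) := φ.toAlgebra
  have : Algebra.FiniteType R Γ(W, ⊤) :=
    hft.comp (RingHom.FiniteType.of_surjective _ e.symm.commRingCatIsoToRingEquiv.surjective)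
  have : Module.Flat R Γ(W, ⊤) :=
    RingHom.flat_algebraMap_iff.1 (RingHom.Flat.comp (RingHom.Flat.of_bijective e.symm.commRingCatIsoToRingEquiv.bijective) hfl)
  have hinj : Function.Injective
      (Algebra.TensorProduct.includeRight : Γ(W, ⊤) →ₐ[R] TensorProduct R K Γ(W, ⊤)) :=
    Algebra.TensorProduct.includeRight_injective (IsFractionRing.injective R K)
  have hQ : Algebra.QuasiFinite R Γ(W, ⊤) := by
    refine quasiFinite_of_algebraic R _ (fun c x hc hx => hinj ?_) (fun a => ?_)
    · rw [map_zero]
      have h1 := congrArg (Algebra.TensorProduct.includeRight (R := R) (A := K)) hx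
      rw [map_mul, AlgHom.commutes, map_zero] at h1
      have hu : IsUnit (algebraMap R (TensorProduct R K Γ(W, ⊤)) c) := by
        rw [IsScalarTower.algebraMap_apply R K]
        exact (isUnit_iff_ne_zero.2 ((map_ne_zero_iff _ (IsFractionRing.injective R K)).2 hc)).map _
      exact hu.mul_right_eq_zero.1 h1
    -- the generic fibre of the chart is finite over `K`
    · let P := pullback g s
      let j : P ⟶ pullback f s := pullback.map g s f s (jW) (𝟙 _) (𝟙 _) (by simp [g]) (by simp)
      have hj : IsOpenImmersion j := inferInstanceAs (IsOpenImmersion (pullback.map g s f s (jW) (𝟙 _) (𝟙 _) _ _))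
      have hfinP : Finite P := by
        have : Finite (pullback f s : Scheme.{u}) := by
          have : Subsingleton (Spec (CommRingCat.of K)) := inferInstanceAs (Subsingleton (PrimeSpectrum K))
          have h0 := (pullback.snd f s).finite_preimage_singleton (IsLocalRing.closedPoint K)
          exact Set.finite_univ_iff.1 (h0.subset fun x _ => Subsingleton.elim _ _)
        exact Finite.of_injective _ j.isOpenEmbedding.injective
      obtain ⟨-, hPfin⟩ := Groth.Agent.H8Top.affine_finite_of_finite K P (pullback.snd g s)
      have hpo := Groth.Agent.Et18.isPushout_appTop_of_flat (IsPullback.of_hasPullback g s).flip.flip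
      let eK := Scheme.ΓSpecIso (CommRingCat.of K)
      let T : CommRingCat.{u} := CommRingCat.of (TensorProduct R K Γ(W, ⊤))
      let iA : Γ(W, ⊤) ⟶ T := CommRingCat.ofHom Algebra.TensorProduct.includeRight.toRingHom
      let iK : Γ(Spec (CommRingCat.of K), ⊤) ⟶ T :=
        eK.hom ≫ CommRingCat.ofHom (algebraMap K (TensorProduct R K Γ(W, ⊤)))
      have hsq : g.appTop ≫ iA = s.appTop ≫ iK := by
        rw [← cancel_epi e.inv]
        have hs : e.inv ≫ s.appTop ≫ eK.hom = CommRingCat.ofHom (algebraMap R K) := by
          rw [Scheme.ΓSpecIso_naturality, e.inv_hom_id_assoc]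
        simp only [iK]
        rw [reassoc_of% hs]
        ext r
        show Algebra.TensorProduct.includeRight (R := R) (A := K) (φ r) =
          algebraMap K (TensorProduct R K Γ(W, ⊤)) (algebraMap R K r)
        rw [← IsScalarTower.algebraMap_apply R K]
        exact AlgHom.commutes _ r
      let d := hpo.desc iA iK hsq
      let F0 := (pullback.snd g s).appTop
      have hint := hPfin.to_isIntegral ((pullback.fst g s).appTop a)
      obtain ⟨q, hqm, hq0⟩ := hint
      let q' : Polynomial K := q.map eK.hom.hom
      have hq' : Polynomial.aeval (iA a) q' = 0 := by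
        have h1 := congrArg d hq0
        rw [map_zero, Polynomial.hom_eval₂] at h1
        rw [Polynomial.aeval_def, Polynomial.eval₂_map]
        refine Eq.trans ?_ h1
        congr 1
        · exact congrArg CommRingCat.Hom.hom (hpo.inr_desc iA iK hsq).symm
        · exact congr($((hpo.inl_desc iA iK hsq).symm) a)
      have hq'0 : q' ≠ 0 := (hqm.map _).ne_zero
      refine ⟨IsLocalization.integerNormalization (nonZeroDivisors R) q',
        fun h => hq'0 ((IsFractionRing.integerNormalization_eq_zero_iff).1 h), hinj ?_⟩
      obtain ⟨b, hb⟩ := IsLocalization.integerNormalization_map_to_map (nonZeroDivisors R) q'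
      rw [map_zero, ← Polynomial.aeval_algHom_apply, ← Polynomial.aeval_map_algebraMap K, hb,
        show ((b : R) • q') = Polynomial.C (algebraMap R K b) * q' from (Algebra.smul_def _ _).trans rfl, map_mul]
      exact mul_eq_zero_of_right _ hq'
  have hφ : φ.QuasiFinite := hQ
  have he : g.appTop.hom = φ.comp e.hom.hom := by
    ext z
    show _ = g.appTop (e.inv (e.hom z))
    rw [← CommRingCat.comp_apply e.hom, Iso.hom_inv_id]
    rfl
  rw [he]
  exact hφ.comp (RingHom.QuasiFinite.of_finite (RingHom.Finite.of_surjective _ e.commRingCatIsoToRingEquiv.surjective))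


/-- Let R be a valuation ring with fraction field K and f : Y ⟶ Spec R a morphism of schemes which is
flat, proper and generically finite (the generic fibre Y ×_{Spec R} Spec K ⟶ Spec K is a finite
morphism). Then f is finite. No finite-presentation hypothesis is assumed. -/
theorem result {R : Type u} [CommRing R]
    [IsDomain R] [ValuationRing R] {Y : Scheme.{u}} (f : Y ⟶ Spec (CommRingCat.of R)) [Flat f] [IsProper f]
    (hgen : IsFinite (pullback.snd f
      (Spec.map (CommRingCat.ofHom (algebraMap R (FractionRing R)))))) :
    IsFinite f := by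
  rw [IsFinite.iff_isProper_and_locallyQuasiFinite]
  exact ⟨inferInstance, IsZariskiLocalAtSource.of_openCover (P := @LocallyQuasiFinite) Y.affineCover fun i =>
    quasiFinite_chart f hgen (Y.affineCover.f i)⟩

end Groth.Agent.S18734
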