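import Groth.Statements.S1874
import Groth.Agent.CycLib28.MultLocal
import Groth.Agent.CycLib28.SerreTor
import Groth.Agent.CAlgH.KoszulEuler.Applications

set_option autoImplicit false
universe u
open CategoryTheory AlgebraicGeometry
attribute [local instance] HasDerivedCategory.standard
open IntMult

namespace Groth.Agent.S1874

/-- Suppose the ideal of V in O_{X,ξ} is generated by a regular sequence g₁, …, g_c. Then c! ·
length(O_{W,ξ}/(g₁, …, g_c)^t O_{W,ξ}) / t^c tends to e(X, V·W, Z) as t → ∞ (so e is c! times the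
leading coefficient of that Hilbert polynomial), and e(X, V·W, Z) > 0. Here X is a nonsingular
variety over an algebraically closed field K (smooth, separated, of finite type, integral), V and W
are closed subvarieties given by quasi-coherent ideal sheaves with integral subschemes, of
dimensions r and s with dim X = n, intersecting properly, and ξ is the generic point of an
irreducible component Z of V ∩ W; e(X, V·W, Z) is the alternating sum of lengths of Tor over
O_{X,ξ}. -/
theorem result (K : Type u) [Field K] [IsAlgClosed K] (X : Scheme.{u}) (f : X ⟶ Spec (CommRingCat.of K)) [Smooth f] [IsSeparated f] [QuasiCompact f] [IsIntegral X] (IV IW : X.IdealSheafData) [IsIntegral IV.subscheme] [IsIntegral IW.subscheme] (n r s : ℕ) (hn : topologicalKrullDim X = n) (hr : topologicalKrullDim IV.support = r) (hs : topologicalKrullDim IW.support = s) (hprop : IntMult.ProperInt (IV.support : Set X) (IW.support : Set X) n r s) (ξ : X) (hξV : ξ ∈ IV.support) (hξW : ξ ∈ IW.support) (hmax : ∀ ξ' : X,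 ξ' ∈ IV.support → ξ' ∈ IW.support → ξ' ⤳ ξ → ξ' = ξ) (c : ℕ) (g : Fin c → ↑(X.presheaf.stalk ξ)) (hg : IntMult.stalkIdeal IV ξ = Ideal.span (Set.range g)) (hreg : RingTheory.Sequence.IsRegular (↑(X.presheaf.stalk ξ)) (List.ofFn g)) : Filter.Tendsto (fun t : ℕ => (c.factorial : ℝ) * ((Module.length (X.presheaf.stalk ξ) (↑(X.presheaf.stalk ξ) ⧸ (IntMult.stalkIdeal IW ξ ⊔ IntMult.stalkIdeal IV ξ ^ t))).toNat : ℝ) / (t : ℝ) ^ c) Filter.atTop (nhds (IntMult.mult IV IW ξ : ℝ)) ∧ 0 < IntMult.mult IV IW ξ := by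
  haveI : IsLocallyNoetherian X := LocallyOfFiniteType.isLocallyNoetherian f
  haveI := Groth.Agent.CycLib28.isRegularLocalRing_stalk f ξ
  obtain ⟨a, v, w, ha, hv, hw, hle⟩ := Groth.Agent.CycLib28.exists_dims f IV IW hn hr hs hprop hξV hξW
  have hfl := Groth.Agent.CycLib28.finite_length_quot_sup IW IV hξW hξV (fun ξ' h h' hsp => hmax ξ' h' h hsp)
  have e : Ideal.ofList (List.ofFn g) = IntMult.stalkIdeal IV ξ :=
    (Groth.Agent.CAlgH.KoszulEuler.ofList_ofFn g).trans hg.symm
  have hm : ∀ b ∈ List.ofFn g, b ∈ IsLocalRing.maximalIdeal (X.presheaf.stalk ξ) := fun b hb =>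
    Groth.Agent.CycLib28.stalkIdeal_le_maximal IV hξV (e ▸ Ideal.subset_span hb)
  unfold IntMult.mult
  rw [← e] at hv hfl ⊢
  have hc := Groth.Agent.CycLib28.length_le_dim (List.ofFn g) hreg ha hv hle
  set J := IntMult.stalkIdeal IW ξ
  rw [Groth.Agent.CycLib28.chi_quot_right _ hreg.toIsWeaklyRegular (ModuleCat.of _ (↑(X.presheaf.stalk ξ) ⧸ J))]
  have hfl' : IsFiniteLength (X.presheaf.stalk ξ) ((↑(X.presheaf.stalk ξ) ⧸ J) ⧸
      (Ideal.ofList (List.ofFn g) • (⊤ : Submodule (X.presheaf.stalk ξ) (↑(X.presheaf.stalk ξ) ⧸ J)))) :=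
    IsFiniteLength.of_surjective hfl
      (f := (Groth.Agent.CycLib28.ringKrullDim_le_of_finite_length.quotSupEquiv J (Ideal.ofList (List.ofFn g))).symm.toLinearMap)
      (LinearEquiv.surjective _)
  refine ⟨?_, ?_⟩
  · have h := Groth.Agent.CAlgH.KoszulEuler.tendsto_chi (ModuleCat.of _ (↑(X.presheaf.stalk ξ) ⧸ J)) (List.ofFn g) hfl'
    rw [List.length_ofFn] at h
    refine h.congr fun t => ?_
    rw [← (Groth.Agent.CycLib28.ringKrullDim_le_of_finite_length.quotSupEquiv J (Ideal.ofList (List.ofFn g) ^ t)).length_eq]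
  · refine Groth.Agent.CAlgH.KoszulEuler.chi_pos _ _ hm hfl' ?_
    rw [Module.supportDim_quotient_eq_ringKrullDim]
    refine le_antisymm ?_ (by rw [hw]; exact_mod_cast hc)
    exact Groth.Agent.CycLib28.ringKrullDim_le_of_finite_length J
      (Groth.Agent.CycLib28.stalkIdeal_le_maximal IW hξW) _ hm hfl
end Groth.Agent.S1874
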