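import Groth.Statements.S18740
import Groth.Agent.FlatMor12.SubtrFlat.Platify
import Mathlib.AlgebraicGeometry.Morphisms.Flat
-- import your own Groth.Agent.* helpers here

set_option autoImplicit false
set_option backward.isDefEq.respectTransparency false
set_option backward.isDefEq.respectTransparency.types false
universe u
open CategoryTheory CategoryTheory.Limits AlgebraicGeometry TopologicalSpace
open ModPair

namespace Groth.Agent.S18740

/-- Let (X, I_X) be a modulus pair (a scheme with the quasi-coherent ideal sheaf of an effective Cartier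
divisor) with X quasi-compact and quasi-separated, u : Y ⟶ X a minimal morphism of modulus pairs
(I_Y = I_X.comap u) which is flat and of finite presentation (flat, locally of finite presentation,
quasi-compact, quasi-separated), and b : Y' ⟶ Y an abstract admissible blow-up of modulus pairs.
Then there exist an abstract admissible blow-up a : X' ⟶ X of modulus pairs, a minimal morphism v :
V ⟶ X' of modulus pairs which is again flat and of finite presentation, and an abstract admissible
blow-up w : V ⟶ Y', such that w ≫ b ≫ u = v ≫ a. If u is in addition surjective (an fppf covering),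
then v can be chosen surjective as well. -/
theorem result {X Y Y' : Scheme.{u}} [CompactSpace X]
    [QuasiSeparatedSpace X] (IX : X.IdealSheafData) (IY : Y.IdealSheafData) (IY' : Y'.IdealSheafData)
    (hX : BlowUp.IsEffCartierIdeal IX) (hY : BlowUp.IsEffCartierIdeal IY)
    (hY' : BlowUp.IsEffCartierIdeal IY') (u : Y ⟶ X) (hu : ModPair.IsMinimal IY IX u) [Flat u]
    [LocallyOfFinitePresentation u] [QuasiCompact u] [QuasiSeparated u]
    (b : Y' ⟶ Y) (hb : ModPair.IsAdmBlowup IY' IY b) :
    ∃ (X' : Scheme.{u}) (IX' : X'.IdealSheafData) (a : X' ⟶ X) (V : Scheme.{u})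
      (IV : V.IdealSheafData) (v : V ⟶ X') (w : V ⟶ Y'),
      BlowUp.IsEffCartierIdeal IX' ∧ ModPair.IsAdmBlowup IX' IX a ∧
        BlowUp.IsEffCartierIdeal IV ∧ ModPair.IsMinimal IV IX' v ∧ Flat v ∧
        LocallyOfFinitePresentation v ∧ QuasiCompact v ∧ QuasiSeparated v ∧
        ModPair.IsAdmBlowup IV IY' w ∧ w ≫ b ≫ u = v ≫ a ∧
        (Surjective u → Surjective v) := by
  obtain ⟨hmin, hbp, hbi⟩ := hb
  have hcomp : IY' = IX.comap (b ≫ u) := by rw [Scheme.IdealSheafData.comap_comp, ← hu]; exact hmin
  subst hcomp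
  have hint : u ⁻¹ᵁ ModPair.interior IX = ModPair.interior IY := by
    rw [show IY = IX.comap u from hu, Groth.Agent.ModPairLib.interior_comap]
  haveI hbU : IsIso (b ∣_ (u ⁻¹ᵁ ModPair.interior IX)) := by rw [hint]; exact hbi
  haveI : CompactSpace Y := QuasiCompact.compactSpace_of_compactSpace u
  haveI : QuasiSeparatedSpace Y := quasiSeparatedSpace_of_quasiSeparated u
  haveI : CompactSpace Y' := QuasiCompact.compactSpace_of_compactSpace b
  haveI : QuasiSeparatedSpace Y' := quasiSeparatedSpace_of_quasiSeparated b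
  haveI : LocallyOfFiniteType (b ≫ u) := inferInstance
  haveI : Flat ((b ≫ u) ∣_ ModPair.interior IX) := by
    rw [morphismRestrict_comp]
    haveI : Flat (u ∣_ ModPair.interior IX) := IsZariskiLocalAtTarget.restrict ‹_› _
    infer_instance
  haveI : LocallyOfFinitePresentation ((b ≫ u) ∣_ ModPair.interior IX) := by
    rw [morphismRestrict_comp]
    haveI : LocallyOfFinitePresentation (u ∣_ ModPair.interior IX) := IsZariskiLocalAtTarget.restrict ‹_› _
    infer_instance
  obtain ⟨T, t, V, y, g, h, h1, h2, h3, h4, h5, h6, h7, h8, hcl, hmem⟩ :=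
    Groth.Agent.FlatMor12.SubtrFlat.exists_platification IX hX (b ≫ u) hY'
  refine ⟨T, IX.comap t, t, V, (IX.comap (b ≫ u)).comap y, g, y, h1, h2, h3, ?_, h5, h6, h7, h8, h4,
    h, fun hsurj => ⟨fun s => ?_⟩⟩
  · show (IX.comap (b ≫ u)).comap y = (IX.comap t).comap g
    rw [← Scheme.IdealSheafData.comap_comp, ← Scheme.IdealSheafData.comap_comp, h]
  obtain ⟨η, hη, hmax⟩ := H8ProCons.exists_maximal_specializes s
  have hηI : η ∈ ModPair.interior (IX.comap t) :=
    Groth.Agent.FlatMor12.SubtrFlat.notMem_support_of_maxPts _ h1 hmax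
  let q := pullback.snd u t
  haveI : Surjective q := MorphismProperty.pullback_snd _ _ hsurj
  haveI : Flat q := MorphismProperty.pullback_snd _ _ ‹_›
  obtain ⟨z, rfl⟩ := q.surjective s
  obtain ⟨z', hzz, rfl⟩ := Flat.generalizingMap q hη
  let m : pullback (b ≫ u) t ⟶ pullback u t :=
    pullback.lift (pullback.fst _ _ ≫ b) (pullback.snd _ _) (by rw [Category.assoc]; exact pullback.condition)
  have sqm : IsPullback (pullback.fst (b ≫ u) t) m b (pullback.fst u t) := by
    refine IsPullback.of_bot ?_ (pullback.lift_fst _ _ _).symm (IsPullback.of_hasPullback u t)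
    rw [pullback.lift_snd]
    exact IsPullback.of_hasPullback (b ≫ u) t
  haveI : IsProper m := MorphismProperty.of_isPullback sqm ‹_›
  have hzY : pullback.fst u t z' ∈ u ⁻¹ᵁ ModPair.interior IX := by
    show u (pullback.fst u t z') ∈ ModPair.interior IX
    rw [← Scheme.Hom.comp_apply, pullback.condition, Scheme.Hom.comp_apply]
    rw [Groth.Agent.ModPairLib.interior_comap] at hηI
    exact hηI
  obtain ⟨a, ha⟩ := (b ∣_ (u ⁻¹ᵁ ModPair.interior IX)).surjective ⟨_, hzY⟩
  have ha' : b a.1 = pullback.fst u t z' := by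
    have e := congr($(morphismRestrict_ι b (u ⁻¹ᵁ ModPair.interior IX)) a)
    rw [Scheme.Hom.comp_apply, Scheme.Hom.comp_apply, ha] at e
    exact e.symm
  obtain ⟨x, -, hx⟩ := Scheme.exists_preimage_of_isPullback sqm a.1 z' ha'
  have hmc : IsClosed (m '' closure {x}) := m.isClosedMap _ isClosed_closure
  obtain ⟨x', hx', hxz⟩ : z ∈ m '' closure {x} :=
    hzz.mem_closed hmc ⟨x, subset_closure rfl, hx⟩
  have hxI : pullback.snd (b ≫ u) t x ∈ ModPair.interior (IX.comap t) := by
    have e : pullback.snd (b ≫ u) t x = q z' := by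
      rw [← hx, ← Scheme.Hom.comp_apply, pullback.lift_snd]
    rw [e]; exact hηI
  obtain ⟨v', hv'⟩ := (hcl.closure_subset_iff.2 (Set.singleton_subset_iff.2 (hmem x hxI))) hx'
  refine ⟨v', ?_⟩
  rw [← hxz, ← hv', ← Scheme.Hom.comp_apply, ← Scheme.Hom.comp_apply]
  simp [m, q]

end Groth.Agent.S18740
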