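import Groth.Statements.S18741

set_option autoImplicit false
set_option backward.isDefEq.respectTransparency.types false
set_option backward.isDefEq.respectTransparency false
universe v₁ v₂ v₃ u₁ u₂ u₃
open CategoryTheory
open ModPair

namespace Groth.Agent.S18741

theorem hasRightCalculus_over {C : Type u₁} [Category.{v₁} C] (W : MorphismProperty C)
    [W.HasRightCalculusOfFractions] (S : C) :
    (W.inverseImage (Over.forget S)).HasRightCalculusOfFractions where
  id_mem A := W.id_mem A.left
  comp_mem f g hf hg := W.comp_mem _ _ hf hg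
  exists_rightFraction A B φ := by
    obtain ⟨ψ, hψ⟩ := MorphismProperty.LeftFraction.exists_rightFraction
      (W := W) (MorphismProperty.LeftFraction.mk φ.f.left φ.s.left φ.hs)
    refine ⟨MorphismProperty.RightFraction.mk (X' := Over.mk (ψ.s ≫ A.hom))
      (Over.homMk ψ.s rfl) ψ.hs (Over.homMk ψ.f ?_), Over.OverMorphism.ext hψ⟩
    show ψ.f ≫ B.hom = ψ.s ≫ A.hom
    rw [← Over.w φ.f, ← Over.w φ.s, ← Category.assoc, ← Category.assoc]
    exact congrArg (· ≫ φ.Y'.hom) hψ.symm
  ext X Y Y' f₁ f₂ s hs h := by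
    obtain ⟨X', t, ht, ht'⟩ := MorphismProperty.HasRightCalculusOfFractions.ext (W := W)
      f₁.left f₂.left s.left hs (congrArg (fun g => g.left) h)
    exact ⟨Over.mk (t ≫ X.hom), Over.homMk t rfl, ht, Over.OverMorphism.ext ht'⟩


/-- Let C be a category, W a class of morphisms of C admitting a calculus of right fractions, and S an
object of C; let W_S be the class of morphisms of the slice category over S whose underlying
morphism lies in W. Then the canonical functor from the localization of the slice category C/S at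
W_S to the slice category over S of the localization of C at W is an equivalence: for every
localization functor L : C ⥤ D at W, every localization functor L' : C/S ⥤ E at W_S, and every
functor Φ : E ⥤ D/L(S) through which the functor C/S ⥤ D/L(S) induced by L factors up to
isomorphism, Φ is an equivalence of categories. -/
theorem result {C : Type u₁}
    [Category.{v₁} C] (W : MorphismProperty C) [W.HasRightCalculusOfFractions] (S : C)
    {D : Type u₂} [Category.{v₂} D] (L : C ⥤ D) [L.IsLocalization W]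
    {E : Type u₃} [Category.{v₃} E] (L' : Over S ⥤ E)
    [L'.IsLocalization (W.inverseImage (Over.forget S))]
    (Φ : E ⥤ Over (L.obj S)) (e : L' ⋙ Φ ≅ Over.post L) : Φ.IsEquivalence := by
  classical
  have := hasRightCalculus_over W S
  let W' := W.inverseImage (Over.forget S)
  let F := Over.post L (X := S)
  have hs' : ∀ {A B : Over S} (s : A ⟶ B), W' s → IsIso (L'.map s) :=
    fun s hs => Localization.inverts L' W' s hs
  have hF : ∀ {A B : Over S} (s : A ⟶ B), W' s → IsIso (F.map s) := fun {A B} s hs => by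
    have : IsIso ((Over.forget (L.obj S)).map (F.map s)) :=
      Localization.inverts L W s.left hs
    exact isIso_of_reflects_iso (F.map s) (Over.forget (L.obj S))
  have nat : ∀ {A B : Over S} (t : A ⟶ B), Φ.map (L'.map t) ≫ e.hom.app B = e.hom.app A ≫ F.map t :=
    fun t => e.hom.naturality t
  have := Localization.essSurj L' W'
  have := Localization.essSurj L W
  have fullF : ∀ (A B : Over S) (β : F.obj A ⟶ F.obj B), ∃ (P : Over S) (s : P ⟶ A) (_ : W' s)
      (t : P ⟶ B), F.map s ≫ β = F.map t := by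
    intro A B β
    let bl : L.obj A.left ⟶ L.obj B.left := β.left
    have hbl : bl ≫ L.map B.hom = L.map A.hom := Over.w β
    obtain ⟨φ, hφ⟩ := Localization.exists_rightFraction L W bl
    have h1 : L.map φ.s ≫ bl = L.map φ.f := by
      rw [hφ, MorphismProperty.RightFraction.map_s_comp_map]
    have h2 : L.map (φ.f ≫ B.hom) = L.map (φ.s ≫ A.hom) := by
      rw [L.map_comp, L.map_comp, ← h1, Category.assoc]
      rw [hbl]
    obtain ⟨Z, u, hu, hu'⟩ := (MorphismProperty.map_eq_iff_precomp L W _ _).1 h2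
    refine ⟨Over.mk ((u ≫ φ.s) ≫ A.hom), Over.homMk (u ≫ φ.s) rfl, W.comp_mem _ _ hu φ.hs,
      Over.homMk (u ≫ φ.f) (by simpa using hu'), Over.OverMorphism.ext ?_⟩
    show L.map (u ≫ φ.s) ≫ bl = L.map (u ≫ φ.f)
    rw [L.map_comp, L.map_comp, ← h1, Category.assoc]
  have hess : Φ.EssSurj := ⟨fun T => by
    let i := L.objObjPreimageIso T.left
    obtain ⟨φ, hφ⟩ := Localization.exists_rightFraction L W (i.hom ≫ T.hom)
    have : IsIso (L.map φ.s) := Localization.inverts L W _ φ.hs
    refine ⟨L'.obj (Over.mk φ.f), ⟨e.app _ ≪≫ Over.isoMk (asIso (L.map φ.s) ≪≫ i) ?_⟩⟩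
    show (L.map φ.s ≫ i.hom) ≫ T.hom = L.map φ.f
    rw [Category.assoc, hφ, MorphismProperty.RightFraction.map_s_comp_map]⟩
  have hfull : Φ.Full := ⟨fun {X Y} α => by
    let iX := L'.objObjPreimageIso X
    let iY := L'.objObjPreimageIso Y
    obtain ⟨P, s, hs, t, hst⟩ := fullF _ _ (e.inv.app _ ≫ Φ.map iX.hom ≫ α ≫ Φ.map iY.inv ≫ e.hom.app _)
    have := hs' s hs
    refine ⟨iX.inv ≫ inv (L'.map s) ≫ L'.map t ≫ iY.hom, ?_⟩
    have key : Φ.map (L'.map s) ≫ Φ.map iX.hom ≫ α ≫ Φ.map iY.inv = Φ.map (L'.map t) := by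
      rw [← cancel_mono (e.hom.app _), nat t, ← hst]
      simp only [Category.assoc]
      rw [← Category.assoc (e.hom.app P) (F.map s), ← nat s, Category.assoc,
        Iso.hom_inv_id_app_assoc]
    simp only [Functor.map_comp, Functor.map_inv]
    rw [← Category.assoc (inv (Φ.map (L'.map s))), ← key, IsIso.inv_hom_id_assoc]
    simp only [Category.assoc, ← Functor.map_comp, ← Functor.map_comp_assoc, Iso.inv_hom_id,
      Functor.map_id, Category.id_comp, Category.comp_id]
    rw [Φ.map_id, Φ.map_id, Category.id_comp, Category.comp_id]⟩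
  have hfaith : Φ.Faithful := ⟨fun {X Y} φ ψ h => by
    let iX := L'.objObjPreimageIso X
    let iY := L'.objObjPreimageIso Y
    obtain ⟨r₁, hr₁⟩ := Localization.exists_rightFraction L' W' (iX.hom ≫ φ ≫ iY.inv)
    obtain ⟨r₂, hr₂⟩ := Localization.exists_rightFraction L' W' (iX.hom ≫ ψ ≫ iY.inv)
    obtain ⟨c, hc⟩ := MorphismProperty.LeftFraction.exists_rightFraction
      (W := W') (MorphismProperty.LeftFraction.mk r₂.s r₁.s r₁.hs)
    -- `c.s ≫ r₂.s = c.f ≫ r₁.s`
    have hw : W' (c.s ≫ r₂.s) := W'.comp_mem _ _ c.hs r₂.hs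
    have hc' : c.s ≫ r₂.s = c.f ≫ r₁.s := hc
    have e1 : L'.map (c.s ≫ r₂.s) ≫ iX.hom ≫ φ ≫ iY.inv = L'.map (c.f ≫ r₁.f) := by
      rw [hc', L'.map_comp, L'.map_comp, Category.assoc, hr₁, MorphismProperty.RightFraction.map_s_comp_map]
    have e2 : L'.map (c.s ≫ r₂.s) ≫ iX.hom ≫ ψ ≫ iY.inv = L'.map (c.s ≫ r₂.f) := by
      rw [L'.map_comp, L'.map_comp, Category.assoc, hr₂, MorphismProperty.RightFraction.map_s_comp_map]
    have e3 : F.map (c.f ≫ r₁.f) = F.map (c.s ≫ r₂.f) := by
      rw [← cancel_epi (e.hom.app _), ← nat, ← nat, ← e1, ← e2]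
      simp only [Functor.map_comp, h]
    obtain ⟨Z, w, hw', hww⟩ := (MorphismProperty.map_eq_iff_precomp L W _ _).1
      (congrArg (fun g => g.left) e3 : L.map (c.f ≫ r₁.f).left = L.map (c.s ≫ r₂.f).left)
    have e4 : L'.map (c.f ≫ r₁.f) = L'.map (c.s ≫ r₂.f) :=
      (MorphismProperty.map_eq_iff_precomp L' W' _ _).2
        ⟨Over.mk (w ≫ c.X'.hom), Over.homMk w rfl, hw', Over.OverMorphism.ext hww⟩
    have := hs' _ hw
    have e5 := e1.trans (e4.trans e2.symm)
    simpa [cancel_epi, cancel_mono] using e5⟩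
  exact { }

end Groth.Agent.S18741
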