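import Groth.Statements.S18753
import Groth.Agent.S18734
import Groth.Agent.ProjLib.IdealComap
import Mathlib.RingTheory.Flat.TorsionFree

set_option autoImplicit false
set_option backward.isDefEq.respectTransparency.types false
universe u
open CategoryTheory CategoryTheory.Limits AlgebraicGeometry TopologicalSpace
open ModPair
open scoped TensorProduct

namespace Groth.Agent.S18753

variable {O : Type u} [CommRing O] [IsLocalRing O] (R : ValuationSubring (IsLocalRing.ResidueField O))

/-- The residue map from the semi-valuation ring to its valuation ring. -/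
noncomputable def toVal : ↥(R.toSubring.comap (IsLocalRing.residue O)) →+* ↥R :=
  ((IsLocalRing.residue O).comp (R.toSubring.comap (IsLocalRing.residue O)).subtype).codRestrict R.toSubring fun a => a.2

theorem toVal_coe (a : ↥(R.toSubring.comap (IsLocalRing.residue O))) : ((toVal R a : ↥R) : IsLocalRing.ResidueField O) = IsLocalRing.residue O (a : O) := rfl

theorem toVal_surjective : Function.Surjective (toVal R) := by
  intro r
  obtain ⟨o, ho⟩ := IsLocalRing.residue_surjective (r : IsLocalRing.ResidueField O)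
  exact ⟨⟨o, by rw [Subring.mem_comap, ho]; exact r.2⟩, Subtype.ext ho⟩

theorem algebra_chart (f : ↥(R.toSubring.comap (IsLocalRing.residue O))) [IsLocalization.Away f O] {B : Type u} [CommRing B]
    (φ : ↥(R.toSubring.comap (IsLocalRing.residue O)) →+* B) (hft : φ.FiniteType) (hnzd : φ f ∈ nonZeroDivisors B)
    (hgen : ∀ P : PrimeSpectrum ↥(R.toSubring.comap (IsLocalRing.residue O)), f ∉ P.asIdeal → (PrimeSpectrum.comap φ ⁻¹' {P}).Finite) :
    φ.QuasiFinite := by
  classical
  have hfu : IsUnit ((f : O)) := IsLocalization.Away.algebraMap_isUnit (S := O) f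
  -- `m = f • m`
  let m : Ideal ↥(R.toSubring.comap (IsLocalRing.residue O)) := RingHom.ker (toVal R)
  have hm : m ≤ Ideal.span {f} * m := by
    intro x hx
    obtain ⟨w, hw⟩ := hfu.exists_right_inv
    have hx0 : IsLocalRing.residue O (x : O) = 0 := congrArg Subtype.val (RingHom.mem_ker.1 hx)
    have hxw : IsLocalRing.residue O (w * (x : O)) = 0 := by rw [map_mul, hx0, mul_zero]
    let x' : ↥(R.toSubring.comap (IsLocalRing.residue O)) := ⟨w * (x : O), by rw [Subring.mem_comap, hxw]; exact zero_mem _⟩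
    have e : x = f * x' := Subtype.ext (by
      show (x : O) = (f : O) * (w * (x : O))
      rw [← mul_assoc, hw, one_mul])
    rw [e]
    exact Ideal.mul_mem_mul (Ideal.mem_span_singleton_self f) (RingHom.mem_ker.2 (Subtype.ext hxw))
  let I : Ideal B := m.map φ
  have hI : I ≤ Ideal.span {φ f} * I := by
    refine (Ideal.map_mono hm).trans (le_of_eq ?_)
    rw [Ideal.map_mul, Ideal.map_span, Set.image_singleton]
  let ψ : ↥R →+* B ⧸ I := (toVal R).liftOfSurjective (toVal_surjective R)
    ⟨(Ideal.Quotient.mk I).comp φ, fun x hx => RingHom.mem_ker.2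
      (Ideal.Quotient.eq_zero_iff_mem.2 (Ideal.mem_map_of_mem φ hx))⟩
  have hψ : ∀ a, ψ (toVal R a) = Ideal.Quotient.mk I (φ a) := fun a =>
    RingHom.liftOfRightInverse_comp_apply _ _ _ _ a
  let _ : Algebra ↥R (B ⧸ I) := ψ.toAlgebra
  have hψft : ψ.FiniteType := by
    have h1 : (ψ.comp (toVal R)) = (Ideal.Quotient.mk I).comp φ := RingHom.ext hψ
    refine RingHom.FiniteType.of_comp_finiteType (f := toVal R) ?_
    rw [h1]
    exact (RingHom.FiniteType.of_surjective _ Ideal.Quotient.mk_surjective).comp hft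
  have : Algebra.FiniteType ↥R (B ⧸ I) := hψft
  -- `B ⧸ I` has no `f`-torsion
  have hftor : ∀ (n : ℕ) (z : B ⧸ I), ψ (toVal R f) ^ n * z = 0 → z = 0 := by
    intro n
    induction n with
    | zero => intro z hz; simpa using hz
    | succ n ih =>
      intro z hz
      rw [pow_succ, mul_assoc] at hz
      have h1 := ih _ hz
      obtain ⟨b, rfl⟩ := Ideal.Quotient.mk_surjective z
      rw [hψ, ← map_mul, Ideal.Quotient.eq_zero_iff_mem] at h1
      obtain ⟨c, hc, hc'⟩ := Ideal.mem_span_singleton_mul.1 (hI h1)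
      rw [Ideal.Quotient.eq_zero_iff_mem]
      rwa [← (mul_cancel_left_mem_nonZeroDivisors hnzd).1 hc']
  -- every nonzero element of `R` divides a power of `f`
  have hdiv : ∀ r : ↥R, r ≠ 0 → ∃ (n : ℕ) (s : ↥R), toVal R f ^ n = r * s := by
    intro r hr
    obtain ⟨o, ho⟩ := IsLocalRing.residue_surjective ((r : IsLocalRing.ResidueField O)⁻¹)
    obtain ⟨⟨a, ⟨_, n, rfl⟩⟩, ha⟩ := IsLocalization.surj (Submonoid.powers f) o
    refine ⟨n, toVal R a, Subtype.ext ?_⟩
    have h2 : o * (f : O) ^ n = (a : O) := by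
      rw [show ((f : O)) ^ n = (((f ^ n : ↥(R.toSubring.comap (IsLocalRing.residue O)))) : O) from rfl]; exact ha
    have h3 := congrArg (IsLocalRing.residue O) h2
    rw [map_mul, map_pow, ho] at h3
    show (IsLocalRing.residue O (f : O)) ^ n = (r : IsLocalRing.ResidueField O) * IsLocalRing.residue O (a : O)
    rw [← h3, ← mul_assoc, mul_inv_cancel₀ (fun h => hr (Subtype.ext h)), one_mul]
  have htf : ∀ (c : ↥R) (x : B ⧸ I), c ≠ 0 → algebraMap ↥R (B ⧸ I) c * x = 0 → x = 0 := by
    intro c x hc hx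
    obtain ⟨n, s, hs⟩ := hdiv c hc
    refine hftor n x ?_
    rw [← map_pow, hs, map_mul, mul_comm (ψ c), mul_assoc]
    exact mul_eq_zero_of_right _ hx
  have : Module.Flat ↥R (B ⧸ I) := by
    rw [Module.Flat.flat_iff_torsion_eq_bot_of_isBezout, eq_bot_iff]
    rintro x ⟨⟨c, hc⟩, hcx⟩
    exact htf c x (nonZeroDivisors.ne_zero hc) ((Algebra.smul_def c x).symm.trans hcx)
  -- finitely many primes over the generic point
  have hval0 : toVal R f ≠ 0 := fun h => (hfu.map (IsLocalRing.residue O)).ne_zero (congrArg Subtype.val h)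
  let K := IsLocalRing.ResidueField O
  let T := TensorProduct ↥R K (B ⧸ I)
  let ι : B ⧸ I →ₐ[↥R] T := Algebra.TensorProduct.includeRight
  have hinj : Function.Injective ι :=
    Algebra.TensorProduct.includeRight_injective (IsFractionRing.injective ↥R K)
  have hunit : ∀ r : ↥R, r ≠ 0 → IsUnit (algebraMap ↥R T r) := fun r hr => by
    rw [IsScalarTower.algebraMap_apply ↥R K]
    exact (isUnit_iff_ne_zero.2 ((map_ne_zero_iff _ (IsFractionRing.injective ↥R K)).2 hr)).map _
  have hrep : ∀ x : T, ∃ (r : ↥R) (b : B ⧸ I), r ≠ 0 ∧ algebraMap ↥R T r * x = ι b := by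
    intro x
    induction x using TensorProduct.induction_on with
    | zero => exact ⟨1, 0, one_ne_zero, by simp⟩
    | tmul k b =>
      obtain ⟨⟨a, c⟩, hac⟩ := IsLocalization.surj (nonZeroDivisors ↥R) k
      refine ⟨c, a • b, nonZeroDivisors.ne_zero c.2, ?_⟩
      rw [← Algebra.smul_def, TensorProduct.smul_tmul']
      show ((c : ↥R) • k) ⊗ₜ[↥R] b = (1 : K) ⊗ₜ[↥R] (a • b)
      rw [← TensorProduct.smul_tmul, Algebra.smul_def, Algebra.smul_def, mul_one, mul_comm]
      exact congrArg (fun t => t ⊗ₜ[↥R] b) hac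
    | add x y hx hy =>
      obtain ⟨r, b, hr, hb⟩ := hx
      obtain ⟨s, c, hs, hc⟩ := hy
      refine ⟨r * s, algebraMap ↥R (B ⧸ I) s * b + algebraMap ↥R (B ⧸ I) r * c, mul_ne_zero hr hs, ?_⟩
      rw [map_add, map_mul ι, map_mul ι, AlgHom.commutes, AlgHom.commutes, ← hb, ← hc, map_mul]
      ring
  have hspec : Finite (PrimeSpectrum T) := by
    let P0 : PrimeSpectrum ↥(R.toSubring.comap (IsLocalRing.residue O)) := PrimeSpectrum.comap (toVal R) ⟨⊥, Ideal.isPrime_bot⟩
    have hP0 : f ∉ P0.asIdeal := fun h => hval0 h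
    let θ : PrimeSpectrum T → PrimeSpectrum B := fun Q =>
      PrimeSpectrum.comap (ι.toRingHom.comp (Ideal.Quotient.mk I)) Q
    have hθ : Function.Injective θ := by
      intro Q Q' h
      have hb : ∀ b, ι b ∈ Q.asIdeal ↔ ι b ∈ Q'.asIdeal := fun b => by
        obtain ⟨b', rfl⟩ := Ideal.Quotient.mk_surjective b
        exact SetLike.ext_iff.1 (congrArg PrimeSpectrum.asIdeal h) b'
      refine PrimeSpectrum.ext (Ideal.ext fun x => ?_)
      obtain ⟨r, b, hr, hrb⟩ := hrep x
      rw [← Ideal.unit_mul_mem_iff_mem _ (hunit r hr), ← Ideal.unit_mul_mem_iff_mem Q'.asIdeal (hunit r hr), hrb]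
      exact hb b
    have hmem : ∀ Q, θ Q ∈ PrimeSpectrum.comap φ ⁻¹' {P0} := by
      intro Q
      refine PrimeSpectrum.ext (Ideal.ext fun a => ?_)
      show ι (Ideal.Quotient.mk I (φ a)) ∈ Q.asIdeal ↔ toVal R a ∈ (⊥ : Ideal ↥R)
      rw [← hψ, show ι (ψ (toVal R a)) = algebraMap ↥R T (toVal R a) from ι.commutes _, Ideal.mem_bot]
      refine ⟨fun h => by_contra fun h0 => Q.isPrime.ne_top (Ideal.eq_top_of_isUnit_mem _ h (hunit _ h0)),
        fun h => by rw [h, map_zero]; exact zero_mem _⟩
    have := (hgen P0 hP0).to_subtype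
    exact Finite.of_injective (fun Q => (⟨θ Q, hmem Q⟩ : (PrimeSpectrum.comap φ ⁻¹' {P0} : Set _)))
      fun Q Q' h => hθ (congrArg Subtype.val h)
  have : Algebra.QuasiFinite K T :=
    Algebra.QuasiFinite.iff_finite_comap_preimage_singleton.2 fun _ => Set.toFinite _
  have : Module.Finite K T := Module.Finite.of_quasiFinite
  have hQ : Algebra.QuasiFinite ↥R (B ⧸ I) := by
    refine Groth.Agent.S18734.quasiFinite_of_algebraic ↥R _ htf fun a => ?_
    obtain ⟨q', hqm, hq'⟩ := Algebra.IsIntegral.isIntegral (R := K) (ι a)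
    refine ⟨IsLocalization.integerNormalization (nonZeroDivisors ↥R) q',
      fun h => hqm.ne_zero ((IsFractionRing.integerNormalization_eq_zero_iff).1 h), hinj ?_⟩
    obtain ⟨b, hb⟩ := IsLocalization.integerNormalization_map_to_map (nonZeroDivisors ↥R) q'
    rw [map_zero, ← Polynomial.aeval_algHom_apply, ← Polynomial.aeval_map_algebraMap K, hb,
      show ((b : ↥R) • q') = Polynomial.C (algebraMap ↥R K b) * q' from (Algebra.smul_def _ _).trans rfl, map_mul]
    exact mul_eq_zero_of_right _ hq'
  let _ : Algebra ↥(R.toSubring.comap (IsLocalRing.residue O)) B := φ.toAlgebra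
  have : Algebra.FiniteType ↥(R.toSubring.comap (IsLocalRing.residue O)) B := hft
  show Algebra.QuasiFinite ↥(R.toSubring.comap (IsLocalRing.residue O)) B
  refine Algebra.QuasiFinite.iff_finite_comap_preimage_singleton.2 fun P => ?_
  by_cases hP : f ∈ P.asIdeal
  · have hmP : m ≤ P.asIdeal := hm.trans (Ideal.mul_le_left.trans ((Ideal.span_singleton_le_iff_mem _).2 hP))
    let P' : PrimeSpectrum ↥R := ⟨P.asIdeal.map (toVal R), Ideal.map_isPrime_of_surjective (toVal_surjective R) hmP⟩
    refine ((Algebra.QuasiFinite.finite_comap_preimage_singleton (S := B ⧸ I) P').image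
      (PrimeSpectrum.comap (Ideal.Quotient.mk I))).subset ?_
    intro Q hQP
    have hIQ : I ≤ Q.asIdeal := Ideal.map_le_iff_le_comap.2 (by
      rw [← show PrimeSpectrum.comap φ Q = P from hQP] at hmP; exact hmP)
    let Q' : PrimeSpectrum (B ⧸ I) := ⟨Q.asIdeal.map (Ideal.Quotient.mk I),
      Ideal.map_isPrime_of_surjective Ideal.Quotient.mk_surjective (by rwa [Ideal.mk_ker])⟩
    have hc : PrimeSpectrum.comap (Ideal.Quotient.mk I) Q' = Q := PrimeSpectrum.ext
      ((Ideal.comap_map_of_surjective _ Ideal.Quotient.mk_surjective _).trans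
        (sup_eq_left.2 (by rw [← RingHom.ker_eq_comap_bot, Ideal.mk_ker]; exact hIQ)))
    refine ⟨Q', PrimeSpectrum.ext (Ideal.ext fun r => ?_), hc⟩
    obtain ⟨a, rfl⟩ := toVal_surjective R r
    show ψ (toVal R a) ∈ Q'.asIdeal ↔ toVal R a ∈ P.asIdeal.map (toVal R)
    rw [hψ, ← Ideal.mem_comap (f := toVal R), Ideal.comap_map_of_surjective _ (toVal_surjective R),
      ← RingHom.ker_eq_comap_bot, sup_eq_left.2 hmP, ← show PrimeSpectrum.comap φ Q = P from hQP]
    show φ a ∈ (PrimeSpectrum.comap (Ideal.Quotient.mk I) Q').asIdeal ↔ _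
    rw [hc]; rfl
  · exact hgen P hP


/-- Let O be a local ring with residue field κ, R a valuation ring of κ, A ⊆ O the subring of elements
whose residue class lies in R (the fibre product ring R ×_κ O, a semi-valuation ring), and f an
element of A such that O is the localization of A obtained by inverting f. Equip P = Spec A with the
modulus V(f), the closed subscheme cut out by f (an effective Cartier divisor: f is a unit of O, so
a nonzerodivisor of A), whose interior is Spec O. Let q : Q ⟶ P be a proper, minimal morphism of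
modulus pairs (the modulus of Q is the pull-back of V(f) and is an effective Cartier divisor) whose
restriction over the interior of P is a finite morphism. Then q is finite. -/
theorem result {O : Type u} [CommRing O]
    [IsLocalRing O] (R : ValuationSubring (IsLocalRing.ResidueField O))
    (f : ↥((R.toSubring).comap (IsLocalRing.residue O)))
    [IsLocalization.Away f O] {Q : Scheme.{u}} (IQ : Q.IdealSheafData)
    (hQ : BlowUp.IsEffCartierIdeal IQ)
    (q : Q ⟶ Spec (CommRingCat.of ↥((R.toSubring).comap (IsLocalRing.residue O))))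
    (hq : ModPair.IsMinimal IQ
      (Spec.map (CommRingCat.ofHom (Ideal.Quotient.mk (Ideal.span {f})))).ker q)
    [IsProper q]
    (hfin : IsFinite (q ∣_ ModPair.interior
      (Spec.map (CommRingCat.ofHom (Ideal.Quotient.mk (Ideal.span {f})))).ker)) :
    IsFinite q := by
  classical
  rw [IsFinite.iff_isProper_and_locallyQuasiFinite]
  refine ⟨inferInstance, ?_⟩
  let A : CommRingCat.{u} := CommRingCat.of ↥((R.toSubring).comap (IsLocalRing.residue O))
  let e := Scheme.ΓSpecIso A
  let g : Γ(Spec A, ⊤) := e.inv f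
  let ν := Spec.map (CommRingCat.ofHom (Ideal.Quotient.mk (Ideal.span {f})))
  let tA : (Spec A).affineOpens := ⟨⊤, isAffineOpen_top _⟩
  have hker : ν.ker.ideal tA = Ideal.span {g} := by
    rw [Scheme.ker_of_isAffine]
    show (RingHom.ker ν.appTop.hom).map ((Spec A).presheaf.map (homOfLE le_top).op).hom = _
    rw [show (homOfLE (le_top : (⊤ : (Spec A).Opens) ≤ ⊤)).op = 𝟙 _ from rfl, CategoryTheory.Functor.map_id,
      CommRingCat.hom_id, Ideal.map_id]
    ext z
    obtain ⟨a, rfl⟩ := (ConcreteCategory.bijective_of_isIso e.inv).2 z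
    rw [RingHom.mem_ker]
    have hn := ConcreteCategory.congr_hom
      (Scheme.ΓSpecIso_inv_naturality (CommRingCat.ofHom (Ideal.Quotient.mk (Ideal.span {f})))) a
    refine Iff.trans (Eq.congr_left (show ν.appTop (e.inv a) = _ from hn.symm)) ?_
    rw [show Ideal.span {g} = (Ideal.span {f}).map e.inv.hom by rw [Ideal.map_span, Set.image_singleton]]
    refine (map_eq_zero_iff _ (ConcreteCategory.bijective_of_isIso (Scheme.ΓSpecIso _).inv).1).trans ?_
    refine Ideal.Quotient.eq_zero_iff_mem.trans ?_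
    refine ⟨Ideal.mem_map_of_mem _, fun h => ?_⟩
    obtain ⟨a', ha', h'⟩ := (Ideal.mem_map_iff_of_surjective _ (ConcreteCategory.bijective_of_isIso e.inv).2).1 h
    rwa [← (ConcreteCategory.bijective_of_isIso e.inv).1 h']
  -- points outside `V(f)` lie in the interior
  have hint : ∀ P : Spec A, f ∉ P.asIdeal → P ∈ ModPair.interior ν.ker := by
    intro P hP
    show P ∉ ν.ker.support
    intro h
    have h' := (Scheme.IdealSheafData.mem_support_iff_of_mem (U := tA) (show P ∈ (tA : (Spec A).Opens) from trivial)).1 h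
    rw [hker, Scheme.zeroLocus_span, Scheme.mem_zeroLocus_iff] at h'
    refine h' g rfl ?_
    show P ∈ (Spec A).basicOpen ((Scheme.ΓSpecIso A).inv f)
    rw [basicOpen_eq_of_affine]
    exact hP
  have hfib : ∀ P : Spec A, f ∉ P.asIdeal → (q ⁻¹' {P}).Finite := by
    intro P hP
    have := hfin
    refine (((q ∣_ ModPair.interior ν.ker).finite_preimage_singleton ⟨P, hint P hP⟩).image Subtype.val).subset ?_
    intro x hx
    have hx' : q x = P := hx
    refine ⟨⟨x, show q x ∈ ModPair.interior ν.ker by rw [hx']; exact hint P hP⟩, ?_, rfl⟩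
    exact Subtype.ext ((congrArg Subtype.val (congrFun (morphismRestrict_base q _) _)).trans hx')
  choose U hxU h hh hU using hQ
  refine IsZariskiLocalAtSource.of_openCover (P := @LocallyQuasiFinite)
    (Q.openCoverOfIsOpenCover (fun x => (U x).1) (TopologicalSpace.IsOpenCover.mk
      (eq_top_iff.2 fun x _ => TopologicalSpace.Opens.mem_iSup.2 ⟨x, hxU x⟩))) fun x => ?_
  show LocallyQuasiFinite ((U x).1.ι ≫ q)
  have : IsAffine (U x).1 := (U x).2
  let ψ := q.appLE ⊤ (U x).1 le_top
  let φ : A ⟶ Γ(Q, (U x).1) := e.inv ≫ ψ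
  have hnz : φ.hom f ∈ nonZeroDivisors Γ(Q, (U x).1) := by
    have hI : IQ.ideal (U x) = Ideal.span {ψ g} := by
      rw [show IQ = ν.ker.comap q from hq, Groth.Agent.ProjLib.comap_ideal_eq ν.ker q tA (U x) le_top,
        hker, Ideal.map_span, Set.image_singleton]
    rw [hU x] at hI
    obtain ⟨c, hc⟩ := Ideal.mem_span_singleton.1 ((SetLike.ext_iff.1 hI _).1 (Ideal.mem_span_singleton_self (h x)))
    exact (mul_mem_nonZeroDivisors.1 (hc ▸ hh x)).1
  have hspec : Spec.map φ = (U x).2.fromSpec ≫ q := by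
    rw [← IsAffineOpen.SpecMap_appLE_fromSpec q (isAffineOpen_top (Spec A)) (U x).2 le_top, IsAffineOpen.fromSpec_top,
      Scheme.isoSpec_Spec_inv, ← Spec.map_comp]
  have : LocallyQuasiFinite (Spec.map φ) := by
    rw [HasRingHomProperty.Spec_iff (P := @LocallyQuasiFinite)]
    refine algebra_chart R f φ.hom ?_ hnz (fun P hP => ?_)
    · have hl : LocallyOfFiniteType (Spec.map φ) := by rw [hspec]; infer_instance
      exact (HasRingHomProperty.Spec_iff (P := @LocallyOfFiniteType)).1 hl
    · refine ((hfib P hP).preimage (U x).2.fromSpec.isOpenEmbedding.injective.injOn).subset ?_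
      intro Q0 hQ0
      show q ((U x).2.fromSpec Q0) = P
      rw [← Scheme.Hom.comp_apply, ← hspec]
      exact hQ0
  have e2 : (U x).1.ι ≫ q = (U x).2.isoSpec.hom ≫ Spec.map φ := by
    rw [hspec, IsAffineOpen.isoSpec_hom_fromSpec_assoc]
  rw [e2]
  infer_instance

end Groth.Agent.S18753
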