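import Groth.Statements.S18754
-- import your own Groth.Agent.* helpers here
import Groth.Agent.ModPairLib.EffCartier
import Groth.Agent.H8Lim.ClosedIntoStage

set_option autoImplicit false
set_option linter.style.haveILetI false
universe u
open CategoryTheory CategoryTheory.Limits AlgebraicGeometry TopologicalSpace
open ModPair

namespace Groth.Agent.S18754

/-- Let (Y, I_Y) be a modulus pair with Y quasi-compact and quasi-separated, and let (X_i ⟶ Y) be a
cofiltered system of Y-schemes with affine transition morphisms such that every X_i is quasi-compact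
and quasi-separated, the pulled-back ideal I_Y.comap (X_i ⟶ Y) is the ideal of an effective Cartier
divisor, and X_i ⟶ Y is an abstract admissible blow-up of modulus pairs which is locally of finite
presentation. Let X be the limit of the system over Y and suppose that X ⟶ Y, with the pulled-back
modulus (assumed effective Cartier), is also an abstract admissible blow-up. Then X ⟶ Y is locally
of finite presentation: an abstract admissible blow-up of quasi-compact quasi-separated modulus
pairs which is not of finite presentation is never a limit of finitely presented ones. -/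
theorem result {Y : Scheme.{u}}
    [CompactSpace Y] [QuasiSeparatedSpace Y] (IY : Y.IdealSheafData) (hY : BlowUp.IsEffCartierIdeal IY)
    {I : Type u} [SmallCategory I] [IsCofiltered I] (D : I ⥤ Over Y) (c : Cone D) (hc : IsLimit c)
    [∀ (i j : I) (t : i ⟶ j), IsAffineHom (D.map t).left]
    [∀ i, CompactSpace (D.obj i).left] [∀ i, QuasiSeparatedSpace (D.obj i).left]
    (hI : ∀ i, BlowUp.IsEffCartierIdeal (IY.comap (D.obj i).hom))
    (hadm : ∀ i, ModPair.IsAdmBlowup (IY.comap (D.obj i).hom) IY (D.obj i).hom)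
    [∀ i, LocallyOfFinitePresentation (D.obj i).hom]
    (hX : BlowUp.IsEffCartierIdeal (IY.comap c.pt.hom))
    (hXadm : ModPair.IsAdmBlowup (IY.comap c.pt.hom) IY c.pt.hom) :
    LocallyOfFinitePresentation c.pt.hom := by
  let E := D ⋙ Over.forget Y
  let C := (Over.forget Y).mapCone c
  haveI : IsConnected I := IsCofiltered.isConnected _
  have hC : IsLimit C := isLimitOfPreserves (Over.forget Y) hc
  haveI : ∀ {i j : I} (t : i ⟶ j), IsAffineHom (E.map t) := fun {i j} t => inferInstanceAs (IsAffineHom (D.map t).left)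
  haveI : ∀ i, CompactSpace (E.obj i) := fun i => inferInstanceAs (CompactSpace (D.obj i).left)
  let τ : E ⟶ (Functor.const I).obj Y :=
    { app := fun i => (D.obj i).hom
      naturality := fun i j t => by
        show (D.map t).left ≫ (D.obj j).hom = (D.obj i).hom ≫ 𝟙 Y
        rw [Category.comp_id]; exact Over.w (D.map t) }
  obtain ⟨i₀⟩ := IsCofiltered.nonempty (C := I)
  haveI := hXadm.2.1
  haveI : LocallyOfFiniteType ((𝟙 C.pt ≫ C.π.app i₀) ≫ τ.app i₀) := by
    rw [Category.id_comp]
    show LocallyOfFiniteType ((c.π.app i₀).left ≫ (D.obj i₀).hom)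
    rw [Over.w]; exact inferInstanceAs (LocallyOfFiniteType c.pt.hom)
  obtain ⟨m, hm⟩ := Groth.Agent.H8Lim.exists_isClosedImmersion_comp_π hC τ (𝟙 C.pt) i₀
  rw [Category.id_comp] at hm
  let p : c.pt.left ⟶ (D.obj m).left := (c.π.app m).left
  haveI : IsClosedImmersion p := hm
  let fm := (D.obj m).hom
  let f := c.pt.hom
  have hp : p ≫ fm = f := Over.w (c.π.app m)
  let U := ModPair.interior IY
  haveI := hXadm.2.2
  haveI := (hadm m).2.2
  have hle : f ⁻¹ᵁ U ≤ p ⁻¹ᵁ fm ⁻¹ᵁ U := by rw [← Scheme.Hom.comp_preimage, hp]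
  let q := p.resLE (fm ⁻¹ᵁ U) (f ⁻¹ᵁ U) hle
  have hq : q ≫ fm ∣_ U = f ∣_ U := by
    rw [← cancel_mono U.ι, Category.assoc, morphismRestrict_ι, morphismRestrict_ι,
      Scheme.Hom.resLE_comp_ι_assoc, hp]
  have hfac : (fm ∣_ U ≫ inv (f ∣_ U) ≫ (f ⁻¹ᵁ U).ι) ≫ p = (fm ⁻¹ᵁ U).ι := by
    rw [Category.assoc, Category.assoc, ← Scheme.Hom.resLE_comp_ι p hle]
    rw [← Category.assoc (inv (f ∣_ U)), ← Category.assoc, ← Category.id_comp (fm ⁻¹ᵁ U).ι]
    refine congrArg (· ≫ (fm ⁻¹ᵁ U).ι) ?_ |>.trans rfl
    rw [← cancel_mono (fm ∣_ U), Category.assoc, Category.assoc, hq, IsIso.inv_hom_id, Category.comp_id,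
      Category.id_comp]
  have hdense := (Groth.Agent.ModPairLib.isEffCartier_comap_iff hY fm).1 (hI m)
  have hker : p.ker = ⊥ := by
    rw [← le_bot_iff, ← hdense.isSTD.ker_eq_bot, ← hfac]
    exact Scheme.Hom.le_ker_comp _ _
  haveI : IsIso p := IsClosedImmersion.isIso_of_ker_eq p (𝟙 _) p (Category.comp_id p) (by rw [hker]; simp)
  show LocallyOfFinitePresentation f
  rw [← hp]
  infer_instance

end Groth.Agent.S18754
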