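import Groth.Statements.S18755
import Groth.Agent.ModPairLib.AmbProd

set_option autoImplicit false
universe u
open CategoryTheory CategoryTheory.Limits AlgebraicGeometry TopologicalSpace
open ModPair Groth.Agent

namespace Groth.Agent.S18755

/-- Let (S₀, I₀), (S₁, I₁), (T, J), (X, I) be schemes with quasi-coherent ideal sheaves of effective
Cartier divisors, f : X ⟶ S₁, g : T ⟶ S₁ and σ : S₁ ⟶ S₀ morphisms satisfying the modulus condition,
and let (Y₁, K₁) with π₁ and (Y₀, K₀) with π₀ be ambient products of (X, I) and (T, J) over S₁ and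
over S₀ (the latter for f ≫ σ and g ≫ σ): blow-ups of the scheme-theoretic image of the product of
the interiors inside X ×_{S₁} T, resp. X ×_{S₀} T, in the intersection of the pulled-back moduli,
with K·E = D_X·D_T. Then the ambient product is functorial in the base: there is a unique morphism φ
: Y₁ ⟶ Y₀ compatible with the maps to X ×_{S₀} T (through the canonical X ×_{S₁} T ⟶ X ×_{S₀} T),
and every such φ is minimal, K₁ = K₀.comap φ. -/
theorem result {S₀ S₁ T X Y₁ Y₀ : Scheme.{u}} (I₀ : S₀.IdealSheafData)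
    (I₁ : S₁.IdealSheafData) (J : T.IdealSheafData) (I : X.IdealSheafData)
    (h₀ : BlowUp.IsEffCartierIdeal I₀) (h₁ : BlowUp.IsEffCartierIdeal I₁)
    (hT : BlowUp.IsEffCartierIdeal J) (hX : BlowUp.IsEffCartierIdeal I)
    (f : X ⟶ S₁) (hf : ModPair.IsAmbient I I₁ f) (g : T ⟶ S₁) (hg : ModPair.IsAmbient J I₁ g)
    (σ : S₁ ⟶ S₀) (hσ : ModPair.IsAmbient I₁ I₀ σ)
    (π₁ : Y₁ ⟶ ModPair.mprod f g I J) (K₁ : Y₁.IdealSheafData) (hY₁ : ModPair.IsAmbProd f g I J π₁ K₁)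
    (π₀ : Y₀ ⟶ ModPair.mprod (f ≫ σ) (g ≫ σ) I J) (K₀ : Y₀.IdealSheafData)
    (hY₀ : ModPair.IsAmbProd (f ≫ σ) (g ≫ σ) I J π₀ K₀) :
    (∃! φ : Y₁ ⟶ Y₀, φ ≫ π₀ ≫ ModPair.mprodι (f ≫ σ) (g ≫ σ) I J =
        π₁ ≫ ModPair.mprodι f g I J ≫ pullback.mapDesc f g σ) ∧
      ∀ φ : Y₁ ⟶ Y₀, φ ≫ π₀ ≫ ModPair.mprodι (f ≫ σ) (g ≫ σ) I J =
          π₁ ≫ ModPair.mprodι f g I J ≫ pullback.mapDesc f g σ →
        ModPair.IsMinimal K₁ K₀ φ := by
  set c := π₁ ≫ ModPair.mprodι f g I J ≫ pullback.mapDesc f g σ with hc0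
  have hfst : c ≫ pullback.fst (f ≫ σ) (g ≫ σ) = π₁ ≫ ModPair.mprodι f g I J ≫ pullback.fst f g := by
    simp only [hc0, pullback.mapDesc, pullback.map, Category.assoc]; erw [pullback.lift_fst]; simp
  have hsnd : c ≫ pullback.snd (f ≫ σ) (g ≫ σ) = π₁ ≫ ModPair.mprodι f g I J ≫ pullback.snd f g := by
    simp only [hc0, pullback.mapDesc, pullback.map, Category.assoc]; erw [pullback.lift_snd]; simp
  have hK₁ := ModPairLib.AmbProd.isEffCartier hX hT hY₁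
  have hint : ModPair.interior K₁ ≤ c ⁻¹ᵁ ModPair.prodInterior (f ≫ σ) (g ≫ σ) I J := by
    rw [ModPair.prodInterior, Scheme.Hom.preimage_inf]
    refine le_inf ?_ ?_
    · rw [← Scheme.Hom.comp_preimage, hfst]
      exact ModPairLib.interior_comp (ModPairLib.AmbProd.le_fst hY₁)
    · rw [← Scheme.Hom.comp_preimage, hsnd]
      exact ModPairLib.interior_comp (ModPairLib.AmbProd.le_snd hY₁)
  obtain ⟨c', hc'⟩ := ModPairLib.exists_lift_mprod c (ModPairLib.isDenseOpen_interior hK₁) hint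
  have hC : (ModPair.prodCentre (f ≫ σ) (g ≫ σ) I J).comap c' =
      (ModPair.prodCentre f g I J).comap π₁ := by
    rw [ModPairLib.comap_prodCentre, ModPairLib.comap_prodCentre, reassoc_of% hc', reassoc_of% hc',
      hfst, hsnd]
  obtain ⟨φ, hφ, huniq⟩ := hY₀.1.2 _ c' (hC ▸ hY₁.1.1)
  have hiff : ∀ ψ : Y₁ ⟶ Y₀, ψ ≫ π₀ ≫ ModPair.mprodι (f ≫ σ) (g ≫ σ) I J = c ↔ ψ ≫ π₀ = c' := by
    intro ψ
    rw [← cancel_mono (ModPair.mprodι (f ≫ σ) (g ≫ σ) I J) (g := ψ ≫ π₀), hc', Category.assoc]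
  refine ⟨⟨φ, (hiff φ).2 hφ, fun ψ hψ => huniq ψ ((hiff ψ).1 hψ)⟩, fun ψ hψ => ?_⟩
  have h' := (hiff ψ).1 hψ
  refine ModPairLib.eq_of_mul_eq_mul hY₁.1.1 (hY₁.2.trans ?_)
  have hE : (ModPair.prodCentre f g I J).comap π₁ =
      ((ModPair.prodCentre (f ≫ σ) (g ≫ σ) I J).comap π₀).comap ψ := by
    rw [← Scheme.IdealSheafData.comap_comp, h', hC]
  rw [hE]
  conv_rhs => rw [← ModPairLib.comap_mul, hY₀.2]
  rw [ModPairLib.comap_mul]
  simp only [← Scheme.IdealSheafData.comap_comp, Category.assoc, reassoc_of% h', reassoc_of% hc',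
    hfst, hsnd]

end Groth.Agent.S18755
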