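import Groth.Statements.S18758
-- import your own Groth.Agent.* helpers here
import Groth.Agent.ModPairLib.Pair

set_option autoImplicit false
universe w v u
open CategoryTheory CategoryTheory.Limits AlgebraicGeometry TopologicalSpace
open ModPair

namespace Groth.Agent.S18758

universe v₁ v₂ v₃ u₁ u₂ u₃

section

variable {C : Type u₁} [Category.{v₁} C] (W : MorphismProperty C) [W.HasRightCalculusOfFractions] (S : C)
  (p : ObjectProperty (Over S)) (hp : ∀ (A : Over S) {Z : C} (s : Z ⟶ A.left), p A → W s → p (Over.mk (s ≫ A.hom)))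

include hp in
theorem hasRightCalculus_full :
    (((W.inverseImage (Over.forget S))).inverseImage p.ι).HasRightCalculusOfFractions where
  id_mem A := W.id_mem A.1.left
  comp_mem f g hf hg := W.comp_mem _ _ hf hg
  exists_rightFraction A B φ := by
    obtain ⟨ψ, hψ⟩ := MorphismProperty.LeftFraction.exists_rightFraction
      (W := W) (MorphismProperty.LeftFraction.mk φ.f.hom.left φ.s.hom.left φ.hs)
    let Z : p.FullSubcategory := ⟨Over.mk (ψ.s ≫ A.1.hom), hp A.1 ψ.s A.2 ψ.hs⟩
    have hw : ψ.f ≫ B.1.hom = ψ.s ≫ A.1.hom := by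
      rw [← Over.w φ.f.hom, ← Over.w φ.s.hom, ← Category.assoc, ← Category.assoc]
      exact congrArg (· ≫ φ.Y'.1.hom) hψ.symm
    refine ⟨MorphismProperty.RightFraction.mk (X' := Z) (p.homMk (Over.homMk ψ.s rfl)) ψ.hs
      (p.homMk (Over.homMk ψ.f hw)), ?_⟩
    exact p.hom_ext (Over.OverMorphism.ext hψ)
  ext X Y Y' f₁ f₂ s hs h := by
    obtain ⟨X', t, ht, ht'⟩ := MorphismProperty.HasRightCalculusOfFractions.ext (W := W)
      f₁.hom.left f₂.hom.left s.hom.left hs (congrArg (fun g => g.hom.left) h)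
    exact ⟨⟨Over.mk (t ≫ X.1.hom), hp X.1 t X.2 ht⟩, p.homMk (Over.homMk t rfl), ht,
      p.hom_ext (Over.OverMorphism.ext ht')⟩

include hp in
theorem full_faithful {D : Type u₂} [Category.{v₂} D] (L : C ⥤ D) [L.IsLocalization W]
    {E : Type u₃} [Category.{v₃} E] (L' : p.FullSubcategory ⥤ E)
    [L'.IsLocalization ((W.inverseImage (Over.forget S)).inverseImage p.ι)]
    (Φ : E ⥤ Over (L.obj S)) (e : L' ⋙ Φ ≅ p.ι ⋙ Over.post L) : Φ.Full ∧ Φ.Faithful := by
  classical
  have := hasRightCalculus_full W S p hp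
  let W' := (W.inverseImage (Over.forget S)).inverseImage p.ι
  let F := p.ι ⋙ Over.post L (X := S)
  have hs' : ∀ {A B : p.FullSubcategory} (s : A ⟶ B), W' s → IsIso (L'.map s) :=
    fun s hs => Localization.inverts L' W' s hs
  have nat : ∀ {A B : p.FullSubcategory} (t : A ⟶ B), Φ.map (L'.map t) ≫ e.hom.app B = e.hom.app A ≫ F.map t :=
    fun t => e.hom.naturality t
  have := Localization.essSurj L' W'
  have fullF : ∀ (A B : p.FullSubcategory) (β : F.obj A ⟶ F.obj B), ∃ (P : p.FullSubcategory) (s : P ⟶ A) (_ : W' s)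
      (t : P ⟶ B), F.map s ≫ β = F.map t := by
    intro A B β
    let bl : L.obj A.1.left ⟶ L.obj B.1.left := β.left
    have hbl : bl ≫ L.map B.1.hom = L.map A.1.hom := Over.w β
    obtain ⟨φ, hφ⟩ := Localization.exists_rightFraction L W bl
    have h1 : L.map φ.s ≫ bl = L.map φ.f := by
      rw [hφ, MorphismProperty.RightFraction.map_s_comp_map]
    have h2 : L.map (φ.f ≫ B.1.hom) = L.map (φ.s ≫ A.1.hom) := by
      rw [L.map_comp, L.map_comp, ← h1, Category.assoc]
      rw [hbl]
    obtain ⟨Z, u, hu, hu'⟩ := (MorphismProperty.map_eq_iff_precomp L W _ _).1 h2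
    let P : p.FullSubcategory := ⟨Over.mk ((u ≫ φ.s) ≫ A.1.hom), hp A.1 (u ≫ φ.s) A.2 (W.comp_mem _ _ hu φ.hs)⟩
    refine ⟨P, p.homMk (Over.homMk (u ≫ φ.s) rfl), W.comp_mem _ _ hu φ.hs,
      p.homMk (Over.homMk (u ≫ φ.f) (by simpa [P] using hu')), Over.OverMorphism.ext ?_⟩
    show L.map (u ≫ φ.s) ≫ bl = L.map (u ≫ φ.f)
    rw [L.map_comp, L.map_comp, ← h1, Category.assoc]
  have hfull : Φ.Full := ⟨fun {X Y} α => by
    let iX := L'.objObjPreimageIso X
    let iY := L'.objObjPreimageIso Y
    obtain ⟨P, s, hs, t, hst⟩ := fullF _ _ (e.inv.app _ ≫ Φ.map iX.hom ≫ α ≫ Φ.map iY.inv ≫ e.hom.app _)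
    have := hs' s hs
    refine ⟨iX.inv ≫ inv (L'.map s) ≫ L'.map t ≫ iY.hom, ?_⟩
    have key : Φ.map (L'.map s) ≫ Φ.map iX.hom ≫ α ≫ Φ.map iY.inv = Φ.map (L'.map t) := by
      rw [← cancel_mono (e.hom.app _), nat t, ← hst]
      simp only [Category.assoc]
      rw [← Category.assoc (e.hom.app P) (F.map s), ← nat s, Category.assoc,
        Iso.hom_inv_id_app_assoc]
    simp only [Functor.map_comp, Functor.map_inv]
    rw [← Category.assoc (inv (Φ.map (L'.map s))), ← key, IsIso.inv_hom_id_assoc]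
    simp only [Category.assoc, ← Functor.map_comp, ← Functor.map_comp_assoc, Iso.inv_hom_id,
      Functor.map_id, Category.id_comp, Category.comp_id]
    rw [Φ.map_id, Φ.map_id, Category.id_comp, Category.comp_id]⟩
  have hfaith : Φ.Faithful := ⟨fun {X Y} φ ψ h => by
    let iX := L'.objObjPreimageIso X
    let iY := L'.objObjPreimageIso Y
    obtain ⟨r₁, hr₁⟩ := Localization.exists_rightFraction L' W' (iX.hom ≫ φ ≫ iY.inv)
    obtain ⟨r₂, hr₂⟩ := Localization.exists_rightFraction L' W' (iX.hom ≫ ψ ≫ iY.inv)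
    obtain ⟨c, hc⟩ := MorphismProperty.LeftFraction.exists_rightFraction
      (W := W') (MorphismProperty.LeftFraction.mk r₂.s r₁.s r₁.hs)
    have hw : W' (c.s ≫ r₂.s) := W'.comp_mem _ _ c.hs r₂.hs
    have hc' : c.s ≫ r₂.s = c.f ≫ r₁.s := hc
    have e1 : L'.map (c.s ≫ r₂.s) ≫ iX.hom ≫ φ ≫ iY.inv = L'.map (c.f ≫ r₁.f) := by
      rw [hc', L'.map_comp, L'.map_comp, Category.assoc, hr₁, MorphismProperty.RightFraction.map_s_comp_map]
    have e2 : L'.map (c.s ≫ r₂.s) ≫ iX.hom ≫ ψ ≫ iY.inv = L'.map (c.s ≫ r₂.f) := by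
      rw [L'.map_comp, L'.map_comp, Category.assoc, hr₂, MorphismProperty.RightFraction.map_s_comp_map]
    have e3 : F.map (c.f ≫ r₁.f) = F.map (c.s ≫ r₂.f) := by
      rw [← cancel_epi (e.hom.app _), ← nat, ← nat, ← e1, ← e2]
      simp only [Functor.map_comp, h]
    obtain ⟨Z, w, hw', hww⟩ := (MorphismProperty.map_eq_iff_precomp L W _ _).1
      (congrArg (fun g => g.left) e3 : L.map (c.f ≫ r₁.f).hom.left = L.map (c.s ≫ r₂.f).hom.left)
    have e4 : L'.map (c.f ≫ r₁.f) = L'.map (c.s ≫ r₂.f) :=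
      (MorphismProperty.map_eq_iff_precomp L' W' _ _).2
        ⟨⟨Over.mk (w ≫ c.X'.1.hom), hp c.X'.1 w c.X'.2 hw'⟩, p.homMk (Over.homMk w rfl), hw',
          p.hom_ext (Over.OverMorphism.ext hww)⟩
    have := hs' _ hw
    have e5 := e1.trans (e4.trans e2.symm)
    simpa [cancel_epi, cancel_mono] using e5⟩
  exact ⟨hfull, hfaith⟩

end

/-- Let S be a modulus pair and PSch_S the full subcategory of the slice category of modulus pairs over
S on the objects whose structure morphism is of finite type (locally of finite type and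
quasi-compact); let Σ_ft be the class of morphisms of PSch_S whose underlying morphism of modulus
pairs is an abstract admissible blow-up, and Q the localization functor of modulus pairs at all
abstract admissible blow-ups. Then the canonical functor from the localization of PSch_S at Σ_ft to
the slice category over Q S is fully faithful, so that it identifies the localization with the full
subcategory MSch_S of objects isomorphic to finite type ones: for every localization functor L' of
PSch_S at Σ_ft and every functor Φ to the slice over Q S through which the inclusion followed by Q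
on slices factors up to isomorphism, Φ is full and faithful. -/
theorem result (S : ModPair.Pair.{u})
    {E : Type v} [Category.{w} E]
    (L' : (ObjectProperty.FullSubcategory
        ((fun X : Over S => LocallyOfFiniteType X.hom.hom ∧ QuasiCompact X.hom.hom) :
          ObjectProperty (Over S))) ⥤ E)
    [L'.IsLocalization ((((ModPair.Pair.admBlowup.{u}).inverseImage (Over.forget S)).inverseImage
      (ObjectProperty.ι ((fun X : Over S => LocallyOfFiniteType X.hom.hom ∧ QuasiCompact X.hom.hom) :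
          ObjectProperty (Over S)))))]
    (Φ : E ⥤ Over ((ModPair.Pair.admBlowup.{u}).Q.obj S))
    (e : L' ⋙ Φ ≅ ObjectProperty.ι ((fun X : Over S => LocallyOfFiniteType X.hom.hom ∧ QuasiCompact X.hom.hom) :
          ObjectProperty (Over S)) ⋙ Over.post (ModPair.Pair.admBlowup.{u}).Q) :
    Φ.Full ∧ Φ.Faithful := by
  refine full_faithful (ModPair.Pair.admBlowup.{u}) S _ (fun A Z s hA hs => ?_) _ L' Φ e
  obtain ⟨h1, h2⟩ := hA
  haveI := hs.2.1
  exact ⟨inferInstanceAs (LocallyOfFiniteType (s.hom ≫ A.hom.hom)),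
    inferInstanceAs (QuasiCompact (s.hom ≫ A.hom.hom))⟩

end Groth.Agent.S18758
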