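import Groth.Statements.S1876
import Groth.Agent.CAlgSmall.EulerTrace
import Mathlib.Algebra.Homology.DerivedCategory.KProjective
-- import your own Groth.Agent.* helpers here

set_option autoImplicit false
universe u
open CategoryTheory
attribute [local instance] HasDerivedCategory.standard
open Trace

namespace Groth.Agent.S1876

open CategoryTheory CategoryTheory.Limits

attribute [local instance] HasDerivedCategory.standard

/-- The alternating trace. -/
noncomputable def alt {Λ : Type u} [CommRing Λ] {P : CochainComplex (ModuleCat.{u} Λ) ℤ} (a b : ℤ) (f : P ⟶ P) : Λ :=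
  ∑ i ∈ Finset.Icc a b, ((i.negOnePow : ℤˣ) : ℤ) • LinearMap.trace Λ (P.X i) (f.f i).hom

/-- Homotopic endomorphisms have the same alternating trace. -/
theorem alt_eq_of_homotopy {Λ : Type u} [CommRing Λ] {P : CochainComplex (ModuleCat.{u} Λ) ℤ} {a b : ℤ}
    (hP : ∀ i : ℤ, i < a ∨ b < i → IsZero (P.X i))
    (hfree : ∀ i : ℤ, Module.Finite Λ (P.X i) ∧ Module.Free Λ (P.X i)) {f g : P ⟶ P} (h : Homotopy f g) :
    alt a b f = alt a b g := by
  haveI : ∀ i, Module.Finite Λ (P.X i) := fun i => (hfree i).1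
  haveI : ∀ i, Module.Free Λ (P.X i) := fun i => (hfree i).2
  let F : ℤ → Λ := fun i => LinearMap.trace Λ (P.X i) (h.hom i (i - 1) ≫ P.d (i - 1) i).hom
  have key : ∀ i, LinearMap.trace Λ (P.X i) (f.f i).hom = F i + F (i + 1) + LinearMap.trace Λ (P.X i) (g.f i).hom := by
    intro i
    have hc := h.comm i
    rw [dNext_eq h.hom (show (ComplexShape.up ℤ).Rel i (i + 1) from rfl),
      prevD_eq h.hom (show (ComplexShape.up ℤ).Rel (i - 1) i from sub_add_cancel i 1)] at hc
    rw [hc, ModuleCat.hom_add, ModuleCat.hom_add, map_add, map_add]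
    have : F (i + 1) = LinearMap.trace Λ (P.X i) (P.d i (i + 1) ≫ h.hom (i + 1) i).hom := by
      have e : ∀ j, j = i → LinearMap.trace Λ (P.X (i + 1)) (h.hom (i + 1) j ≫ P.d j (i + 1)).hom =
          LinearMap.trace Λ (P.X i) (P.d i (i + 1) ≫ h.hom (i + 1) i).hom := by
        rintro j rfl
        rw [ModuleCat.hom_comp, ModuleCat.hom_comp, LinearMap.trace_comp_comm']
      exact e (i + 1 - 1) (add_sub_cancel_right i 1)
    rw [this]
    simp only [F]
    ring
  simp only [alt, key, smul_add, Finset.sum_add_distrib]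
  refine add_eq_right.2 ?_
  rw [← Finset.sum_add_distrib]
  rcases le_or_gt a b with hab | hab
  · rw [Finset.sum_congr rfl fun i _ => show ((i.negOnePow : ℤˣ) : ℤ) • F i + ((i.negOnePow : ℤˣ) : ℤ) • F (i + 1) =
        (fun m : ℤ => ((m.negOnePow : ℤˣ) : ℤ) • F m) i - (fun m : ℤ => ((m.negOnePow : ℤˣ) : ℤ) • F m) (i + 1) by
      simp only [Int.negOnePow_succ, Units.val_neg, neg_smul, sub_neg_eq_add],
      CAlgSmall.EulerTrace.telescope _ hab]
    have ha : F a = 0 := by
      simp only [F, (hP (a - 1) (Or.inl (by omega))).eq_of_src (P.d (a - 1) a) 0, comp_zero, ModuleCat.hom_zero,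
        map_zero]
    have hb : F (b + 1) = 0 := by
      simp only [F, (hP (b + 1) (Or.inr (by omega))).eq_of_src (h.hom (b + 1) (b + 1 - 1)) 0, zero_comp,
        ModuleCat.hom_zero, map_zero]
    simp [ha, hb]
  · rw [Finset.Icc_eq_empty (by omega)]; simp

theorem isKProjective {Λ : Type u} [CommRing Λ] {P : CochainComplex (ModuleCat.{u} Λ) ℤ} {a b : ℤ}
    (hP : ∀ i : ℤ, i < a ∨ b < i → IsZero (P.X i))
    (hfree : ∀ i : ℤ, Module.Finite Λ (P.X i) ∧ Module.Free Λ (P.X i)) : P.IsKProjective := by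
  haveI : P.IsStrictlyLE b := (CochainComplex.isStrictlyLE_iff P b).2 fun i hi => hP i (Or.inr hi)
  haveI : ∀ n, Projective (P.X n) := fun n => by
    haveI := (hfree n).2
    exact (P.X n).projective_of_categoryTheory_projective
  exact CochainComplex.isKProjective_of_projective P b


/-- Commutative coefficient ring, finite free terms: let P and Q be bounded complexes of finite free
Λ-modules with chain endomorphisms f and g, and α : P ≅ Q an isomorphism in the derived category
D(Λ) with α ∘ f = g ∘ α there. Then Σ_i (−1)^i Tr(f^i | P^i) = Σ_i (−1)^i Tr(g^i | Q^i); that is,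
the trace of an endomorphism of a perfect object of D(Λ) is well defined. -/
theorem result (Λ : Type u) [CommRing Λ] (P Q : DRing.Cx Λ) (a b : ℤ) (hP : DRing.VanishesOutside P a b) (hQ : DRing.VanishesOutside Q a b) (hPf : DRing.TermwiseFiniteFree P) (hQf : DRing.TermwiseFiniteFree Q) (f : P ⟶ P) (g : Q ⟶ Q) (α : DRing.toD P ≅ DRing.toD Q) (h : α.hom ≫ DerivedCategory.Q.map g = DerivedCategory.Q.map f ≫ α.hom) : ∑ i ∈ Finset.Icc a b, ((i.negOnePow : ℤˣ) : ℤ) • LinearMap.trace Λ (P.X i) (f.f i).hom = ∑ i ∈ Finset.Icc a b, ((i.negOnePow : ℤˣ) : ℤ) • LinearMap.trace Λ (Q.X i) (g.f i).hom := by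
  haveI := isKProjective hP hPf
  haveI := isKProjective hQ hQf
  let q := HomotopyCategory.quotient (ModuleCat.{u} Λ) (ComplexShape.up ℤ)
  let e := DerivedCategory.quotientCompQhIso (ModuleCat.{u} Λ)
  have bij := fun (K L : DRing.Cx Λ) (_ : CochainComplex.IsKProjective K) =>
    CochainComplex.IsKProjective.Qh_map_bijective K (q.obj L)
  obtain ⟨U, hU⟩ := (bij P Q inferInstance).2 (e.hom.app P ≫ α.hom ≫ e.inv.app Q)
  obtain ⟨V, hV⟩ := (bij Q P inferInstance).2 (e.hom.app Q ≫ α.inv ≫ e.inv.app P)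
  have hUV : U ≫ V = 𝟙 _ := (bij P P inferInstance).1 (by
    rw [Functor.map_comp, hU, hV]; simp [q])
  have hVU : V ≫ U = 𝟙 _ := (bij Q Q inferInstance).1 (by
    rw [Functor.map_comp, hU, hV]; simp [q])
  have hnat : ∀ {K : DRing.Cx Λ} (m : K ⟶ K), DerivedCategory.Qh.map (q.map m) =
      e.hom.app K ≫ DerivedCategory.Q.map m ≫ e.inv.app K := fun {K} m => by
    rw [← Category.assoc, ← e.hom.naturality m, Category.assoc, Iso.hom_inv_id_app, Category.comp_id]
    rfl
  have hfg : U ≫ q.map g = q.map f ≫ U := (bij P Q inferInstance).1 (by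
    rw [Functor.map_comp, Functor.map_comp, hU, hnat, hnat]
    simp only [Category.assoc, Iso.inv_hom_id_app_assoc]
    rw [reassoc_of% h])
  obtain ⟨u', hu'⟩ := q.map_surjective U
  obtain ⟨v', hv'⟩ := q.map_surjective V
  have h1 : q.map (u' ≫ g ≫ v') = q.map f := by
    rw [q.map_comp, q.map_comp, hu', hv', reassoc_of% hfg, hUV, Category.comp_id]
  have h2 : q.map (g ≫ v' ≫ u') = q.map g := by
    rw [q.map_comp, q.map_comp, hu', hv', hVU, Category.comp_id]
  have e1 := alt_eq_of_homotopy hP hPf (HomotopyCategory.homotopyOfEq _ _ h1)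
  have e2 := alt_eq_of_homotopy hQ hQf (HomotopyCategory.homotopyOfEq _ _ h2)
  show alt a b f = alt a b g
  rw [← e1, ← e2]
  refine Finset.sum_congr rfl fun i _ => congrArg _ ?_
  haveI := (hPf i).1
  haveI := (hPf i).2
  haveI := (hQf i).1
  haveI := (hQf i).2
  simp only [HomologicalComplex.comp_f, ModuleCat.hom_comp]
  rw [LinearMap.trace_comp_comm', LinearMap.comp_assoc]

end Groth.Agent.S1876
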