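import Groth.Statements.S18764
import Groth.Agent.NonAb.FibreTorsor
import Groth.Agent.EGA43.Limit.Basic

set_option autoImplicit false
universe u
open CategoryTheory CategoryTheory.Limits MonoidalCategory CartesianMonoidalCategory MonObj GrpObj AlgebraicGeometry
open NonAbH1

namespace Groth.Agent.S18764

/-- Let k be a field and X a quasi-compact k-scheme, connected and reduced, having a k-point x; let G,
G₁, G₂ be finite group schemes over k with homomorphisms φ₁ : G₁ → G and φ₂ : G₂ → G, and let T, T₁,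
T₂ be torsors over X (fppf-locally trivial) under the base changes to X of G, G₁, G₂ respectively,
each pointed by a k-point lying over x. Let f₁ : T₁ → T and f₂ : T₂ → T be morphisms of pointed
torsors: X-morphisms which intertwine the actions along φ₁, φ₂ and send the marked points of T₁, T₂
to that of T. Let P be the fibre product group scheme G₁ ×_G G₂ with its projections π₁, π₂. Then
the fibre product T₁ ×_T T₂ carries an action of the base change of P for which both projections to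
T₁ and T₂ are equivariant (along π₁, π₂) and which makes it a torsor over X (fppf-locally trivial).
(The published statement says that such an X has a fundamental group scheme; this row states the
closure of finite pointed torsors under fibre products to which it is reduced.) -/
theorem result
    (k : Type u) [Field k] (X : Scheme.{u}) [X.Over (Spec (CommRingCat.of k))] [ConnectedSpace X]
    [CompactSpace X] [AlgebraicGeometry.IsReduced X]
    (x : Spec (CommRingCat.of k) ⟶ X) (hx : x ≫ (X ↘ Spec (CommRingCat.of k)) = 𝟙 _)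
    (G G₁ G₂ : Over (Spec (CommRingCat.of k))) [GrpObj G] [GrpObj G₁] [GrpObj G₂]
    [IsFinite G.hom] [IsFinite G₁.hom] [IsFinite G₂.hom]
    (φ₁ : G₁ ⟶ G) (φ₂ : G₂ ⟶ G) [IsMonHom φ₁] [IsMonHom φ₂]
    (T T₁ T₂ : Over X)
    (a : AlgGrp.Action (Red.bc (X ↘ Spec (CommRingCat.of k)) G) T)
    (a₁ : AlgGrp.Action (Red.bc (X ↘ Spec (CommRingCat.of k)) G₁) T₁)
    (a₂ : AlgGrp.Action (Red.bc (X ↘ Spec (CommRingCat.of k)) G₂) T₂)
    (hT : NonAbH1.IsTorsorFor Scheme.fppfPrecoverage a)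
    (hT₁ : NonAbH1.IsTorsorFor Scheme.fppfPrecoverage a₁)
    (hT₂ : NonAbH1.IsTorsorFor Scheme.fppfPrecoverage a₂)
    (t : Spec (CommRingCat.of k) ⟶ T.left) (t₁ : Spec (CommRingCat.of k) ⟶ T₁.left)
    (t₂ : Spec (CommRingCat.of k) ⟶ T₂.left)
    (ht : t ≫ T.hom = x) (ht₁ : t₁ ≫ T₁.hom = x) (ht₂ : t₂ ≫ T₂.hom = x)
    (f₁ : T₁ ⟶ T) (f₂ : T₂ ⟶ T)
    (hf₁ : AlgGrp.Action.IsEquivariant a₁ (a.restrict ((Over.pullback (X ↘ Spec (CommRingCat.of k))).map φ₁)) f₁)
    (hf₂ : AlgGrp.Action.IsEquivariant a₂ (a.restrict ((Over.pullback (X ↘ Spec (CommRingCat.of k))).map φ₂)) f₂)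
    (hft₁ : t₁ ≫ f₁.left = t) (hft₂ : t₂ ≫ f₂.left = t)
    (P : Over (Spec (CommRingCat.of k))) [GrpObj P] (π₁ : P ⟶ G₁) (π₂ : P ⟶ G₂) [IsMonHom π₁] [IsMonHom π₂]
    (hP : IsPullback π₁ π₂ φ₁ φ₂) :
    ∃ c : AlgGrp.Action (Red.bc (X ↘ Spec (CommRingCat.of k)) P) (pullback f₁ f₂),
      AlgGrp.Action.IsEquivariant c (a₁.restrict ((Over.pullback (X ↘ Spec (CommRingCat.of k))).map π₁)) (pullback.fst f₁ f₂) ∧
      AlgGrp.Action.IsEquivariant c (a₂.restrict ((Over.pullback (X ↘ Spec (CommRingCat.of k))).map π₂)) (pullback.snd f₁ f₂) ∧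
      NonAbH1.IsTorsorFor Scheme.fppfPrecoverage c := by
  let s : X ⟶ Spec (CommRingCat.of k) := X ↘ Spec (CommRingCat.of k)
  obtain ⟨c, hc₁, hc₂⟩ := NonAbLib.exists_fibre_action s (π₁ := π₁) (π₂ := π₂) hf₁ hf₂ hP.w
  have equiv : ∀ {G' : Over (Spec (CommRingCat.of k))} [GrpObj G'] (π : P ⟶ G') [IsMonHom π]
      {T' : Over X} (b : AlgGrp.Action (Red.bc s G') T') (p : Limits.pullback f₁ f₂ ⟶ T'),
      (∀ {Z : Over X} (g : Z ⟶ Red.bc s P) (y : Z ⟶ Limits.pullback f₁ f₂),
        NonAbLib.actPt c g y ≫ p = NonAbLib.actPt b (g ≫ (Over.pullback s).map π) (y ≫ p)) →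
      AlgGrp.Action.IsEquivariant c (b.restrict ((Over.pullback s).map π)) p := by
    intro G' _ π _ T' b p h
    show c.act ≫ p = _
    have h0 := h (fst _ _) (snd _ _)
    rw [NonAbLib.actPt, lift_fst_snd, Category.id_comp] at h0
    rw [h0, AlgGrp.Action.restrict_act, NonAbLib.actPt, ← Category.assoc]
    congr 1
    refine CartesianMonoidalCategory.hom_ext _ _ ?_ ?_ <;> simp
  refine ⟨c, equiv π₁ a₁ _ hc₁, equiv π₂ a₂ _ hc₂,
    NonAbLib.isPseudoTorsorSch_fibre s hP hT.1 hT₁.1 hT₂.1 hf₁ hf₂ c hc₁ hc₂, ?_⟩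
  have hsurj : Surjective (Limits.pullback f₁ f₂).hom :=
    NonAbLib.surjective_fibre_product s φ₁ φ₂ a a₁ a₂ hT hT₁ hT₂ f₁ f₂ hf₁ hf₂
      (Z₀ := Over.mk x) (default : Spec (CommRingCat.of k)) (Over.homMk t₁ ht₁) (Over.homMk t₂ ht₂)
      (by ext : 1; exact hft₁.trans hft₂.symm)
  obtain ⟨hTf, -, hTp⟩ := NonAbLib.properties_hom s hT
  obtain ⟨hT1f, -, hT1p⟩ := NonAbLib.properties_hom s hT₁
  obtain ⟨hT2f, -, hT2p⟩ := NonAbLib.properties_hom s hT₂
  have hY := (IsPullback.of_hasPullback f₁ f₂).map (Over.forget X)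
  have e : (Limits.pullback f₁ f₂).hom = hY.isoPullback.hom ≫ pullback.fst f₁.left f₂.left ≫ T₁.hom := by
    have h1 : hY.isoPullback.hom ≫ pullback.fst f₁.left f₂.left = (pullback.fst f₁ f₂).left :=
      hY.isoPullback_hom_fst
    rw [reassoc_of% h1]
    exact (Over.w _).symm
  have hf₂fin : IsFinite f₂.left :=
    have : IsFinite (f₂.left ≫ T.hom) := by rw [Over.w f₂]; exact hT2f
    IsFinite.of_comp f₂.left T.hom
  have hf₂fp : LocallyOfFinitePresentation f₂.left :=
    have : LocallyOfFinitePresentation (f₂.left ≫ T.hom) := by rw [Over.w f₂]; exact hT2p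
    Groth.Agent.EGA43.Limit.locallyOfFinitePresentation_of_comp f₂.left T.hom
  have : IsFinite (Limits.pullback f₁ f₂).hom := by
    rw [e]
    exact MorphismProperty.comp_mem @IsFinite _ _ inferInstance
      (MorphismProperty.comp_mem @IsFinite _ _ (MorphismProperty.pullback_fst _ _ hf₂fin) hT1f)
  have hfp : LocallyOfFinitePresentation (Limits.pullback f₁ f₂).hom := by
    rw [e]
    exact MorphismProperty.comp_mem @LocallyOfFinitePresentation _ _ inferInstance
      (MorphismProperty.comp_mem @LocallyOfFinitePresentation _ _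
        (MorphismProperty.pullback_fst _ _ hf₂fp) hT1p)
  have hfin : IsFinite P.hom := by
    have h2 := hP.map (Over.forget (Spec (CommRingCat.of k)))
    have e2 : P.hom = h2.isoPullback.hom ≫ pullback.fst φ₁.left φ₂.left ≫ G₁.hom := by
      have h1 : h2.isoPullback.hom ≫ pullback.fst φ₁.left φ₂.left = π₁.left := h2.isoPullback_hom_fst
      rw [reassoc_of% h1]
      exact (Over.w _).symm
    have hφ₂ : IsFinite φ₂.left :=
      have : IsFinite (φ₂.left ≫ G.hom) := by rw [Over.w φ₂]; infer_instance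
      IsFinite.of_comp φ₂.left G.hom
    rw [e2]
    exact MorphismProperty.comp_mem @IsFinite _ _ inferInstance
      (MorphismProperty.comp_mem @IsFinite _ _ (MorphismProperty.pullback_fst _ _ hφ₂) inferInstance)
  have hfl : Flat (Limits.pullback f₁ f₂).hom :=
    NonAbLib.flat_of_fibreRankEq _ _ (NonAbLib.fibreRankEq_of_pseudoTorsor s
      (NonAbLib.isPseudoTorsorSch_fibre s hP hT.1 hT₁.1 hT₂.1 hf₁ hf₂ c hc₁ hc₂))
  refine ⟨Presieve.singleton (Limits.pullback f₁ f₂).hom, ?_, ?_⟩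
  · rw [Scheme.fppfPrecoverage, Scheme.singleton_mem_precoverage_iff]
    exact ⟨hsurj.surj, hfl, hfp⟩
  · rintro S' f ⟨⟩
    exact ⟨𝟙 _, Category.id_comp _⟩

end Groth.Agent.S18764
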