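import Groth.Statements.S18765
import Groth.Agent.NoriSS5.Main
-- import your own Groth.Agent.* helpers here

set_option autoImplicit false
set_option backward.isDefEq.respectTransparency.types false
universe u
open Groth.Agent
open CategoryTheory CategoryTheory.Limits AlgebraicGeometry
open VBCurve

namespace Groth.Agent.S18765

/-- Let k be a perfect field and X a finite-type k-scheme, connected and reduced, having a k-point,
which is connected by chains of proper curves: for any two closed points of X there are finitely
many k-morphisms γ_i : C_i → X from smooth, proper, integral curves over k whose images have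
connected union containing both points. Let E and F be finite locally free O_X-modules, of ranks r
and r', which are Nori-semistable: the pull-back along every non-constant k-morphism from a smooth
proper integral curve over k is slope-semistable of degree 0 (degree = χ − rank·χ(O)). Then every
O_X-linear map f : E → F is a morphism of vector bundles, i.e. has constant rank: its cokernel is a
finite locally free O_X-module. (The published definition of connectedness by chains of proper
curves joins any two points by a chain; this row asks it for closed points. Curves of the chains are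
taken smooth, which over a perfect field is the same as allowing proper irreducible curves and
passing to normalisations; the further assertion that these bundles form a neutral Tannakian
category is not included.) -/
theorem result
    (k : Type u) [Field k] [PerfectField k] (X : Scheme.{u}) [X.Over (Spec (CommRingCat.of k))]
    [LocallyOfFiniteType (X ↘ Spec (CommRingCat.of k))] [CompactSpace X]
    [AlgebraicGeometry.IsReduced X] [ConnectedSpace X]
    (x : Spec (CommRingCat.of k) ⟶ X) (hx : x ≫ (X ↘ Spec (CommRingCat.of k)) = 𝟙 _)
    (hchain : ∀ y z : X, IsClosed ({y} : Set X) → IsClosed ({z} : Set X) → ∃ (n : ℕ) (C : Fin n → Scheme.{u}) (γ : ∀ i, C i ⟶ X),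
      (∀ i, AlgebraicGeometry.IsIntegral (C i) ∧ IsProper (γ i ≫ (X ↘ Spec (CommRingCat.of k))) ∧
        Smooth (γ i ≫ (X ↘ Spec (CommRingCat.of k))) ∧ topologicalKrullDim (C i) = 1) ∧
      _root_.IsConnected (⋃ i, Set.range (γ i).base) ∧ y ∈ ⋃ i, Set.range (γ i).base ∧ z ∈ ⋃ i, Set.range (γ i).base)
    (r r' : ℕ) (E F : X.Modules) (hE : FlatMod.IsFinLocFreeOfRank r E) (hF : FlatMod.IsFinLocFreeOfRank r' F)
    (hEss : ∀ (C : Scheme.{u}) [C.Over (Spec (CommRingCat.of k))], AlgebraicGeometry.IsIntegral C →
      IsProper (C ↘ Spec (CommRingCat.of k)) → Smooth (C ↘ Spec (CommRingCat.of k)) → topologicalKrullDim C = 1 →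
      ∀ (γ : C ⟶ X), γ ≫ (X ↘ Spec (CommRingCat.of k)) = C ↘ Spec (CommRingCat.of k) →
      (Set.range γ.base).Nontrivial →
      ModFun.IsSlopeSemistable k C ((Scheme.Modules.pullback γ).obj E) r ∧
        Curv2.deg k C ((Scheme.Modules.pullback γ).obj E) r = 0)
    (hFss : ∀ (C : Scheme.{u}) [C.Over (Spec (CommRingCat.of k))], AlgebraicGeometry.IsIntegral C →
      IsProper (C ↘ Spec (CommRingCat.of k)) → Smooth (C ↘ Spec (CommRingCat.of k)) → topologicalKrullDim C = 1 →
      ∀ (γ : C ⟶ X), γ ≫ (X ↘ Spec (CommRingCat.of k)) = C ↘ Spec (CommRingCat.of k) →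
      (Set.range γ.base).Nontrivial →
      ModFun.IsSlopeSemistable k C ((Scheme.Modules.pullback γ).obj F) r' ∧
        Curv2.deg k C ((Scheme.Modules.pullback γ).obj F) r' = 0)
    (f : E ⟶ F) :
    FlatMod.IsFinLocFree (cokernel f) := by
  refine NoriSS5.isFinLocFree_cokernel (X ↘ Spec (CommRingCat.of k)) hchain hE hF f fun C γ hC hp hsm hdim hnt => ?_
  letI : C.Over (Spec (CommRingCat.of k)) := ⟨γ ≫ (X ↘ Spec (CommRingCat.of k))⟩
  haveI : IsProper (C ↘ Spec (CommRingCat.of k)) := hp
  haveI : Smooth (C ↘ Spec (CommRingCat.of k)) := hsm
  haveI := hC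
  exact NoriSS5.exists_rank_cokernel k hdim (VarietyLib.isFinLocFreeOfRank_pullback γ hE)
    (VarietyLib.isFinLocFreeOfRank_pullback γ hF) (hEss C hC hp hsm hdim γ rfl hnt).1 (hEss C hC hp hsm hdim γ rfl hnt).2
    (hFss C hC hp hsm hdim γ rfl hnt).1 (hFss C hC hp hsm hdim γ rfl hnt).2 _

end Groth.Agent.S18765
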