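import Groth.Statements.S18769
import Groth.Agent.S18771
import Groth.Agent.TFPush7.NodeRad
import Groth.Agent.TFPush7.PullFibre
import Groth.Agent.TFPush7.ResdKernel
import Groth.Agent.CurvesLib24.Basic
import Groth.Agent.VarietyLib.CurveDegree
import Groth.Agent.Hyper24.BiratH1
import Groth.Agent.DimLib.Components
import Groth.Agent.CycLib28.InterPull
-- import your own Groth.Agent.* helpers here

set_option autoImplicit false
set_option linter.style.haveILetI false
set_option backward.isDefEq.respectTransparency false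
set_option backward.isDefEq.respectTransparency.types false
set_option maxHeartbeats 2000000
universe u
open CategoryTheory CategoryTheory.Limits AlgebraicGeometry
open TFNodal

namespace Groth.Agent.S18769

open Groth.Agent IsLocalRing TopologicalSpace Opposite Groth.Agent.Coherent Groth.Agent.ModStalk Groth.Agent.PicLib
open Groth.Agent.ArtFunLib.QuotLift Groth.Agent.TFNodal7 Groth.Agent.TFPush7

/-- A submodule of full rank of a free module over a local principal ideal domain is free of the same rank. -/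
theorem free_of_smul_le {R : Type u} [CommRing R] [IsDomain R] [IsPrincipalIdealRing R] [IsLocalRing R]
    {M M' : Type u} [AddCommGroup M] [Module R M] [AddCommGroup M'] [Module R M'] [Module.Free R M]
    [Module.Finite R M] (f : M' →ₗ[R] M) (hf : Function.Injective f)
    (h : maximalIdeal R • (⊤ : Submodule R M) ≤ LinearMap.range f) {t : R} (ht : t ∈ maximalIdeal R) (ht0 : t ≠ 0) :
    Module.Free R M' ∧ Module.finrank R M' = Module.finrank R M := by
  haveI : Module.Finite R M' := Module.Finite.of_injective f hf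
  haveI : Module.IsTorsionFree R M' := hf.moduleIsTorsionFree f (map_smul f)
  refine ⟨inferInstance, le_antisymm (LinearMap.finrank_le_finrank_of_injective hf) ?_⟩
  let g : M →ₗ[R] LinearMap.range f := (t • LinearMap.id : M →ₗ[R] M).codRestrict _ fun v =>
    h (Submodule.smul_mem_smul ht (Submodule.mem_top : v ∈ (⊤ : Submodule R M)))
  have hg : Function.Injective g := fun v w e => smul_right_injective M ht0 (congrArg Subtype.val e :)
  haveI : Module.Finite R (LinearMap.range f) := Module.Finite.range f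
  rw [(LinearEquiv.ofInjective f hf).finrank_eq]
  exact LinearMap.finrank_le_finrank_of_injective hg

theorem germP_resM {Z : Scheme.{u}} (M : Z.Modules) {A B : Z.Opens} (h : A ≤ B) {z : Z} (hz : z ∈ A) (s : Γ(M, B)) :
    germP z (DCoh.toP.obj M) A hz (resM M h s) = germP z (DCoh.toP.obj M) B (h hz) s :=
  germP_res (DCoh.toP.obj M) (homOfLE h) hz s

theorem germP_sub' {Z : Scheme.{u}} (M : Z.Modules) {A : Z.Opens} {z : Z} (hz : z ∈ A) (s t : Γ(M, A)) :
    germP z (DCoh.toP.obj M) A hz (s - t) = germP z (DCoh.toP.obj M) A hz s - germP z (DCoh.toP.obj M) A hz t :=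
  map_sub (M.presheaf.germ A z hz).hom s t

theorem pGerm_sub {X Y : Scheme.{u}} (π : Y ⟶ X) (M : Y.Modules) {x : X} {V : X.Opens} (hx : x ∈ V)
    (s t : Γ(M, π ⁻¹ᵁ V)) : pGerm π M hx (s - t) = pGerm π M hx s - pGerm π M hx t :=
  map_sub (((Scheme.Modules.pushforward π).obj M).presheaf.germ V x hx).hom s t

theorem pGerm_add {X Y : Scheme.{u}} (π : Y ⟶ X) (M : Y.Modules) {x : X} {V : X.Opens} (hx : x ∈ V)
    (s t : Γ(M, π ⁻¹ᵁ V)) : pGerm π M hx (s + t) = pGerm π M hx s + pGerm π M hx t :=
  map_add (((Scheme.Modules.pushforward π).obj M).presheaf.germ V x hx).hom s t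

/-- Regular elements downstairs stay nonzero upstairs. -/
theorem stalkMap_ne_zero {X Y : Scheme.{u}} [IsLocallyNoetherian X] (π : Y ⟶ X) [IsReduced X] [IsReduced Y]
    [IsFinite π] {U : X.Opens} [IsIso (π ∣_ U)] (hUd : Dense ((π ⁻¹ᵁ U : Y.Opens) : Set Y))
    (hN : Pi1.IsNormalScheme Y) (y : Y) {t : X.presheaf.stalk (π.base y)}
    (ht : t ∈ nonZeroDivisors (X.presheaf.stalk (π.base y))) : (π.stalkMap y).hom t ≠ 0 := by
  obtain ⟨O, hxO, c, rfl⟩ := X.presheaf.exists_germ_eq t
  obtain ⟨W, hW, hWaff, hxW, hcW⟩ := NormSeq24.exists_nhd_nzd hxO c ht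
  rw [← TopCat.Presheaf.germ_res_apply X.presheaf (homOfLE hW) _ hxW]
  rw [Scheme.Hom.germ_stalkMap_apply]
  exact NormSeq24.germ_app_ne_zero π hUd hWaff hcW hN y hxW

end Groth.Agent.S18769

namespace Groth.Agent.S18769

open Groth.Agent IsLocalRing TopologicalSpace Opposite Groth.Agent.Coherent Groth.Agent.ModStalk Groth.Agent.PicLib
open Groth.Agent.ArtFunLib.QuotLift Groth.Agent.TFNodal7 Groth.Agent.TFPush7

/-- Let k be algebraically closed of characteristic zero, X a connected proper curve over k (dimension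
one) whose closed points are smooth points or nodes, and π : Y → X its normalization, given as a
finite morphism from a smooth k-scheme that is an isomorphism over the complement U of the nodes
with dense preimage of U; let F be a coherent O_X-module, torsion free of rank r with type a(x) at
each node x (stalk free of rank r off the nodes, isomorphic to O_x^{a(x)} ⊕ m_x^{r − a(x)} at a node
x). Write D ⊂ Y for the reduced closed subscheme on the preimage of the nodes. Then there are a
locally free O_Y-module E of rank r and a quotient q : π_*(E ⊗ O_D) → Q, with Q having zero stalks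
off the nodes and total length r · (number of nodes) over the nodes, such that F is isomorphic to
the kernel of the composite π_*E → π_*(E ⊗ O_D) → Q (existence of such an isomorphism). -/
theorem result (k : Type u) [Field k] [IsAlgClosed k] [CharZero k]
    (X : Scheme.{u}) [X.Over (Spec (CommRingCat.of k))] [IsProper (X ↘ Spec (CommRingCat.of k))]
    [ConnectedSpace X] (hdim : topologicalKrullDim X = 1) (hnod : Curv2.AtWorstNodal k X)
    (Y : Scheme.{u}) (π : Y ⟶ X) [IsFinite π] [Smooth (π ≫ (X ↘ Spec (CommRingCat.of k)))]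
    (U : X.Opens) (hU : ∀ x : X, x ∈ U ↔ ¬ Curv2.IsNode k X x) (hUiso : IsIso (π ∣_ U))
    (hUd : Dense ((π ⁻¹ᵁ U : Y.Opens) : Set Y))
    (r : ℕ) (F : X.Modules) (hF : Coh.IsCoh F) (a : X → ℕ)
    (hfree : ∀ x : X, ¬ Curv2.IsNode k X x →
      Nonempty (F.presheaf.stalk x ≃ₗ[X.presheaf.stalk x] (Fin r → X.presheaf.stalk x)))
    (htype : ∀ x : X, Curv2.IsNode k X x → a x ≤ r ∧
      Nonempty (F.presheaf.stalk x ≃ₗ[X.presheaf.stalk x]
        ((Fin (a x) → X.presheaf.stalk x) × (Fin (r - a x) → IsLocalRing.maximalIdeal (X.presheaf.stalk x))))) :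
    ∃ (E : Y.Modules), FlatMod.IsFinLocFreeOfRank r E ∧
      ∃ (Q : X.Modules) (q : (Scheme.Modules.pushforward π).obj
          (ParSh.resD (Scheme.IdealSheafData.vanishingIdeal
            ⟨closure (π.base ⁻¹' {x : X | Curv2.IsNode k X x}), isClosed_closure⟩) E) ⟶ Q),
        Epi q ∧
        (∀ x : X, ¬ Curv2.IsNode k X x → Subsingleton (Q.presheaf.stalk x)) ∧
        (∑ᶠ x ∈ {x : X | Curv2.IsNode k X x},
            (Module.length (X.presheaf.stalk x) (Q.presheaf.stalk x)).toNat) = r * Nat.card {x : X // Curv2.IsNode k X x} ∧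
        Nonempty (F ≅ kernel ((Scheme.Modules.pushforward π).map
            ((SecTwist.unitorR E).inv ≫ KoszTw.tensorMap (𝟙 E) (ClSub.toSubscheme
              (Scheme.IdealSheafData.vanishingIdeal
                ⟨closure (π.base ⁻¹' {x : X | Curv2.IsNode k X x}), isClosed_closure⟩))) ≫ q)) := by
  classical
  haveI := CurveRR24.isLocallyNoetherian_of_proper k (X := X)
  haveI : IsLocallyNoetherian Y := LocallyOfFiniteType.isLocallyNoetherian π
  haveI := hUiso
  haveI := hF.1
  obtain ⟨G, j, hG, hmono, hoff, hon⟩ :=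
    Groth.Agent.S18771.result k X hdim hnod Y π U hU hUiso hUd r F hF a hfree htype
  haveI := hmono
  haveI : Coh.IsQCoh G := LocFreeLib.isQCoh_of_isFinLocFreeOfRank hG
  have hGc : Coh.IsCoh G := Coherent.CohBC.isCoh_of_isFinLocFree (VarietyLib.isFinLocFree_of_rank hG)
  obtain ⟨hfin, hcl⟩ := Hyper24.finite_compl_dense k hdim.le (TFNodal7.dense_U k hdim hnod hU)
  have hnode : ∀ x : X, Curv2.IsNode k X x ↔ x ∈ ((U : Set X))ᶜ := fun x => by
    simp only [Set.mem_compl_iff, SetLike.mem_coe, hU, not_not]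
  have hN := TFNodal7.isNormal_Y k π
  -- a point over each node
  have hpt : ∀ x : X, Curv2.IsNode k X x → ∃ y : Y, π.base y = x ∧ IsClosed ({y} : Set Y) := fun x hx => by
    have hne : (π.base ⁻¹' {x}).Nonempty := by
      by_contra hne
      obtain ⟨V, hV, hxV, -⟩ := exists_isAffineOpen_mem_and_subset (x := x) (U := (⊤ : X.Opens)) trivial
      have h1 := pGerm_mem_of_vanish k hdim hnod π hU hUiso hUd hx hV hxV 1
        fun y hy => absurd ⟨y, hy⟩ hne
      obtain ⟨c, hc, hc'⟩ := h1
      have h2 := oneMap_germ π hxV (1 : Γ(X, V))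
      rw [map_one (X.presheaf.germ V x hxV).hom, map_one (π.app V).hom] at h2
      rw [oneMap_injective k hdim hnod π hU hUd hUiso x (hc'.trans h2.symm)] at hc
      exact (maximalIdeal.isMaximal _).ne_top ((Ideal.eq_top_iff_one _).2 hc)
    obtain ⟨y, hy, hyc⟩ := DimLib.exists_isClosed_singleton_mem (π ≫ (X ↘ Spec (CommRingCat.of k))) hne
      ((hx.1.preimage π.continuous).isLocallyClosed)
    exact ⟨y, hy, hyc⟩
  choose pt hpt hptc using hpt
  let T : Finset Y := hfin.toFinset.attach.image fun x => pt x.1 ((hnode _).2 (hfin.mem_toFinset.1 x.2))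
  have hT : ∀ y, y ∈ T ↔ ∃ (x : X) (hx : Curv2.IsNode k X x), pt x hx = y := fun y => by
    refine ⟨fun h => ?_, fun ⟨x, hx, e⟩ => ?_⟩
    · obtain ⟨x, -, e⟩ := Finset.mem_image.1 h
      exact ⟨_, _, e⟩
    · exact Finset.mem_image.2 ⟨⟨x, hfin.mem_toFinset.2 ((hnode x).1 hx)⟩, Finset.mem_attach _ _, e⟩
  have hTn : ∀ y ∈ T, Curv2.IsNode k X (π.base y) ∧ IsClosed ({y} : Set Y) := fun y hy => by
    obtain ⟨x, hx, rfl⟩ := (hT y).1 hy
    exact ⟨(hpt x hx).symm ▸ hx, hptc x hx⟩
  have hTu : ∀ y ∈ T, ∀ y' ∈ T, π.base y = π.base y' → y = y' := fun y hy y' hy' e => by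
    obtain ⟨x, hx, rfl⟩ := (hT y).1 hy
    obtain ⟨x', hx', rfl⟩ := (hT y').1 hy'
    rw [hpt, hpt] at e
    subst e
    rfl
  -- the image of `F` in the hull
  have hjb : ∀ x : X, ¬ Curv2.IsNode k X x → Function.Bijective (stk j x) := fun x hx => by
    refine ⟨injective_stk j x, ?_⟩
    obtain ⟨e, -⟩ := TFNodal7.exists_cokernel_stalk j x
    haveI : Subsingleton (St (cokernel j) x) := hoff x hx
    haveI := e.toEquiv.subsingleton
    exact LinearMap.range_eq_top.1 (Submodule.Quotient.subsingleton_iff.1 inferInstance)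
  have hmG : ∀ x : X, Curv2.IsNode k X x →
      maximalIdeal (X.presheaf.stalk x) • (⊤ : Submodule (X.presheaf.stalk x) (St G x)) ≤ LinearMap.range (stk j x) :=
    fun x hx => Submodule.smul_le.2 fun c hc g _ => by
      obtain ⟨e, -⟩ := TFNodal7.exists_cokernel_stalk j x
      refine (Submodule.Quotient.mk_eq_zero (LinearMap.range (stk j x))).1 (e.injective ?_)
      refine Eq.trans (e.map_smul c (Submodule.Quotient.mk g)) (Eq.trans ?_ e.map_zero.symm)
      refine (Submodule.mem_bot (X.presheaf.stalk x)).1 ?_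
      rw [← (hon x hx).1]
      exact Submodule.smul_mem_smul hc Submodule.mem_top
  -- the modification
  let P := (Scheme.Modules.pullback π).obj G
  have hP : FlatMod.IsFinLocFreeOfRank r P := VarietyLib.isFinLocFreeOfRank_pullback π hG
  haveI : Coh.IsQCoh P := LocFreeLib.isQCoh_of_isFinLocFreeOfRank hP
  have hPc : Coh.IsCoh P := CycLib28.InterSheaf.isCoh_pullback π hGc
  obtain ⟨E, i, hE, hi, hiT, hiO⟩ := TFPush7.exists_sub hPc T (fun y hy => (hTn y hy).2)
    (fun y => upSub π y G (LinearMap.range (stk j (π.base y))))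
    (fun y _ => ⟨1, by rw [pow_one]; exact smul_top_le_upSub π y G _⟩)
  haveI := hi
  haveI := hE.1
  letI : Y.Over (Spec (CommRingCat.of k)) := ⟨π ≫ (X ↘ Spec (CommRingCat.of k))⟩
  have hdimY : topologicalKrullDim Y ≤ 1 := Hyper24.dim_le_of_isIso_restrict k hdim.le π hUd hUiso
  have hErk : FlatMod.IsFinLocFreeOfRank r E := by
    have hfr : ∀ y, Module.Free (Y.presheaf.stalk y) (E.presheaf.stalk y) ∧
        Module.finrank (Y.presheaf.stalk y) (E.presheaf.stalk y) = r := fun y => by
      haveI hPfree : Module.Free (Y.presheaf.stalk y) (P.presheaf.stalk y) :=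
        Props12.free_stalk_of_isFinLocFree P (VarietyLib.isFinLocFree_of_rank hP) y
      have hPr := VarietyLib.finrank_stalk_of_rank hP y
      by_cases hy : y ∈ T
      · haveI := (hN y).1
        haveI := (hN y).2
        haveI : Ring.KrullDimLE 1 (Y.presheaf.stalk y) :=
          Ring.krullDimLE_iff.mpr (by exact_mod_cast (CurvesLib24.stalk_dim_le_topologicalKrullDim y).trans hdimY)
        haveI : IsPrincipalIdealRing (Y.presheaf.stalk y) := by
          haveI : Ring.DimensionLEOne (Y.presheaf.stalk y) := ⟨fun {p} hp hpp ↦ hpp.isMaximal_of_ne_bot hp⟩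
          exact ((tfae_of_isNoetherianRing_of_isLocalRing_of_isDomain (Y.presheaf.stalk y)).out 0 3 rfl rfl).mpr
            ⟨(hN y).2, fun p hp hp' ↦ IsLocalRing.eq_maximalIdeal (hp'.isMaximal_of_ne_bot hp)⟩
        haveI : Module.Finite (Y.presheaf.stalk y) (P.presheaf.stalk y) :=
          Coherent.finite_stalk_of_isFT hPc.1 hPc.2 y
        obtain ⟨-, -, t, ht, htn⟩ := node_facts k hdim hnod hU (hTn y hy).1
        haveI := TFNodal7.isReduced_X k hnod
        haveI := NormSeq24.isReduced_of_isNormalScheme hN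
        have ht' : (π.stalkMap y).hom t ∈ maximalIdeal (Y.presheaf.stalk y) := fun hu =>
          ht (isUnit_of_map_unit _ t hu)
        obtain ⟨h1, h2⟩ := free_of_smul_le (RefHull.stalkMapₗ i y) (TFPush7.stalkMap_injective_of_mono i y)
          ((hiT y hy).symm ▸ smul_top_le_upSub π y G _) ht' (stalkMap_ne_zero π hUd hN y htn)
        exact ⟨h1, h2.trans hPr⟩
      · let e := LinearEquiv.ofBijective _ (hiO y hy)
        exact ⟨Module.Free.of_equiv e.symm, e.finrank_eq.trans hPr⟩
    intro y
    obtain ⟨W, m, hyW, ⟨e⟩⟩ := (RefHullLib.isFinLocFree_iff_free_stalks hE).2 (fun y => (hfr y).1) y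
    obtain rfl : m = r := (Coherent.CohBC.finrank_stalk_of_free E hyW e).symm.trans (hfr y).2
    exact ⟨W, hyW, ⟨e⟩⟩
  let ip := (Scheme.Modules.pushforward π).map i
  have hipinj : ∀ x, Function.Injective (stk ip x) := fun x =>
    stk_push_injective π i (O := ⊤) trivial fun y _ => injective_stk i y
  haveI : Mono ip := TFNodal7.mono_of_stk_injective ip hipinj
  -- sections of the modification
  have hmemA : ∀ (y : Y), y ∈ T → ∀ (V : X.Opens) (hV : π.base y ∈ V) (s : Γ(P, π ⁻¹ᵁ V)),
      pGerm π P hV s ∈ LinearMap.range (stk ip (π.base y)) →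
      germP y (DCoh.toP.obj P) (π ⁻¹ᵁ V) hV s ∈ upSub π y G (LinearMap.range (stk j (π.base y))) := by
    rintro y hy V hV s ⟨z, hz⟩
    obtain ⟨V₁, hV₁, -, hyV₁, e, rfl⟩ := exists_pGerm π E z hV
    rw [stk_push_pGerm, ← pGerm_res π P hV₁ hyV₁ s, ← sub_eq_zero] at hz
    have hz' : pGerm π P hyV₁ (i.app (π ⁻¹ᵁ V₁) e - resM P (π.preimage_mono hV₁) s) = 0 :=
      (map_sub _ _ _).trans hz
    obtain ⟨W, hW, -, hyW, he⟩ := pGerm_eq_zero π P hyV₁ _ hz'
    rw [map_sub, sub_eq_zero, resM_resM, ← app_resM] at he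
    rw [← hiT y hy, ← germP_resM P (π.preimage_mono (hW.trans hV₁)) hyW s]
    refine ⟨germP y (DCoh.toP.obj E) (π ⁻¹ᵁ W) hyW (resM E (π.preimage_mono hW) e), ?_⟩
    refine (Coherent.stalk_map_germ i hyW _).trans ?_
    exact congrArg (germP y (DCoh.toP.obj P) (π ⁻¹ᵁ W) hyW) he
  have hmemB : ∀ (x : X) (V : X.Opens) (hV : x ∈ V) (s : Γ(P, π ⁻¹ᵁ V)),
      (∀ y (hy : y ∈ T) (e : π.base y = x), germP y (DCoh.toP.obj P) (π ⁻¹ᵁ V) (e ▸ hV : π.base y ∈ V) s ∈
        upSub π y G (LinearMap.range (stk j (π.base y)))) →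
      pGerm π P hV s ∈ LinearMap.range (stk ip x) := fun x V hV s h => by
    let O : X.Opens := ⟨(π.base '' T \ {x})ᶜ, by
      rw [← Set.biUnion_of_singleton (π.base '' T \ {x})]
      refine (((T.finite_toSet.image π.base).sdiff (t := {x})).isClosed_biUnion fun z hz => ?_).isOpen_compl
      obtain ⟨y, hy, rfl⟩ := hz.1
      exact (hTn y hy).1.1⟩
    obtain ⟨W, hW, hxW, hle⟩ := exists_isAffineOpen_mem_and_subset (x := x) (U := V ⊓ O) ⟨hV, fun hh => hh.2 rfl⟩
    replace hle : W ≤ V ⊓ O := hle
    obtain ⟨e, he⟩ := TFPush7.exists_app_eq_of_germ i (hW.preimage π) (resM P (π.preimage_mono (hle.trans inf_le_left)) s)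
      fun y hy => by
        by_cases hyT : y ∈ T
        · have e : π.base y = x := by
            by_contra hne
            exact (hle hy).2 ⟨⟨y, hyT, rfl⟩, hne⟩
          rw [germP_resM P (π.preimage_mono (hle.trans inf_le_left)) hy]
          exact (hiT y hyT).symm ▸ h y hyT e
        · exact (hiO y hyT).2 _
    refine ⟨pGerm π E hxW e, ?_⟩
    rw [stk_push_pGerm, he, pGerm_res π P (hle.trans inf_le_left : W ≤ V) hxW]
  -- the unit on germs
  have hunit : ∀ (x : X) (V : X.Opens) (hV : x ∈ V) (g : Γ(G, V)),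
      stk (unitAt π G) x (germP x (DCoh.toP.obj G) V hV g) = pGerm π P hV (pullSec π g) := fun x V hV g =>
    DCat.PullTensor.stalkMap_germP _ x V hV g
  have hmemN : ∀ y ∈ T, ∀ g : St G (π.base y), stk (unitAt π G) (π.base y) g ∈ LinearMap.range (stk ip (π.base y)) →
      g ∈ LinearMap.range (stk j (π.base y)) := fun y hy g hg => by
    obtain ⟨V, hV, g, rfl⟩ := exists_germP_eq (DCoh.toP.obj G) g
    rw [hunit] at hg
    have := hmemA y hy V hV _ hg
    rwa [← unitSt_germ, unitSt_mem_upSub_iff π y G _ (hmG _ (hTn y hy).1)] at this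
  have hlift : ∀ (x : X) (v : St F x), stk (j ≫ unitAt π G) x v ∈ LinearMap.range (stk ip x) := fun x v => by
    rw [stk_comp]
    obtain ⟨V, hV, g, hg⟩ := exists_germP_eq (DCoh.toP.obj G) (stk j x v)
    rw [← hg, hunit]
    refine hmemB x V hV _ fun y hy e => ?_
    subst e
    rw [← unitSt_germ]
    exact Submodule.mem_sup_left (Submodule.subset_span ⟨_, hg ▸ ⟨v, rfl⟩, rfl⟩)
  have hzero : (j ≫ unitAt π G) ≫ cokernel.π ip = 0 := hom_eq_zero_of_stk _ fun x v => by
    obtain ⟨z, hz⟩ := hlift x v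
    rw [stk_comp, ← hz, ← stk_comp, cokernel.condition, stk_zero]
  let β : F ⟶ (Scheme.Modules.pushforward π).obj E :=
    (Abelian.monoIsKernelOfCokernel _ (colimit.isColimit _)).lift (KernelFork.ofι (j ≫ unitAt π G) hzero)
      |> id
  have hβ : β ≫ ip = j ≫ unitAt π G :=
    Fork.IsLimit.lift_ι' _ _ _
  have hβs : ∀ x v, stk ip x (stk β x v) = stk (unitAt π G) x (stk j x v) := fun x v => by
    rw [← stk_comp, hβ, stk_comp]
  have hunitb : ∀ x : X, ¬ Curv2.IsNode k X x → Function.Bijective (stk (unitAt π G) x) := fun x hx =>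
    TFNodal7.unit_bijective k hdim hnod π hU hUiso hUd G ((hU x).2 hx)
  have hunit_inj : ∀ x : X, Function.Injective (stk (unitAt π G) x) := fun x => by
    by_cases hx : Curv2.IsNode k X x
    · haveI : Module.Free (X.presheaf.stalk x) (G.presheaf.stalk x) :=
        Props12.free_stalk_of_isFinLocFree G (VarietyLib.isFinLocFree_of_rank hG) x
      haveI : Module.Finite (X.presheaf.stalk x) (G.presheaf.stalk x) :=
        Coherent.finite_stalk_of_isFT hGc.1 hGc.2 x
      exact (TFNodal7.unit_node k hdim hnod π hU hUiso hUd hx (a := r) (b := 0)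
        ((Module.finBasisOfFinrankEq _ _ (VarietyLib.finrank_stalk_of_rank hG x)).equivFun.trans
          (LinearEquiv.prodUnique).symm)).1
    · exact (hunitb x hx).1
  have hβinj : ∀ x, Function.Injective (stk β x) := fun x v w h =>
    injective_stk j x (hunit_inj x ((hβs x v).symm.trans ((congrArg (stk ip x) h).trans (hβs x w))))
  haveI : Mono β := TFNodal7.mono_of_stk_injective β hβinj
  have hβb : ∀ x : X, ¬ Curv2.IsNode k X x → Function.Surjective (stk β x) := fun x hx z => by
    obtain ⟨g, hg⟩ := (hunitb x hx).2 (stk ip x z)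
    obtain ⟨v, rfl⟩ := (hjb x hx).2 g
    exact ⟨v, hipinj x ((hβs x v).trans hg)⟩
  -- the lengths
  have hlen : ∀ x : X, Curv2.IsNode k X x →
      Module.length (X.presheaf.stalk x) (St (cokernel β) x) = (r : ℕ∞) := fun x hx => by
    obtain ⟨e, -⟩ := TFNodal7.exists_cokernel_stalk β x
    obtain ⟨e', -⟩ := TFNodal7.exists_cokernel_stalk (unitAt π G) x
    let Φ : St ((Scheme.Modules.pushforward π).obj E) x →ₗ[X.presheaf.stalk x]
        (St (pushPull π G) x ⧸ LinearMap.range (stk (unitAt π G) x)) :=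
      (Submodule.mkQ _).comp (stk ip x)
    have hΦs : Function.Surjective Φ := fun q => by
      obtain ⟨w, rfl⟩ := Submodule.mkQ_surjective _ q
      obtain ⟨y, hy, rfl⟩ : ∃ y ∈ T, π.base y = x := ⟨pt x hx, (hT _).2 ⟨x, hx, rfl⟩, hpt x hx⟩
      obtain ⟨V, -, -, hV, s, rfl⟩ := exists_pGerm π P w (show π.base y ∈ (⊤ : X.Opens) from trivial)
      obtain ⟨g, hg⟩ := exists_sub_unitSt_mem π y
        (fun b => exists_sub_mem_maximalIdeal π y (X ↘ Spec (CommRingCat.of k)) (hTn y hy).2 (hTn y hy).1.1 b)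
        G (germP y (DCoh.toP.obj P) (π ⁻¹ᵁ V) hV s)
      obtain ⟨O, hO, g, rfl⟩ := exists_germP_eq (DCoh.toP.obj G) g
      let W : X.Opens := V ⊓ O
      have hW : π.base y ∈ W := ⟨hV, hO⟩
      let gW : Γ(G, W) := resM G (inf_le_right : W ≤ O) g
      have hm : pGerm π P hW (resM P (π.preimage_mono (inf_le_left : W ≤ V)) s - pullSec π gW) ∈
          LinearMap.range (stk ip (π.base y)) := by
        refine hmemB _ W hW _ fun y' hy' e => ?_
        obtain rfl := hTu y' hy' y hy e
        refine smul_top_le_upSub π y' G _ ?_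
        rw [germP_sub', germP_resM P (π.preimage_mono (inf_le_left : W ≤ V)) hW s,
          ← unitSt_germ, germP_resM G (inf_le_right : W ≤ O) hW g]
        exact hg
      obtain ⟨z, hz⟩ := hm
      refine ⟨z, (Submodule.Quotient.eq _).2 ?_⟩
      rw [hz, pGerm_sub, pGerm_res π P (inf_le_left : W ≤ V) hW, sub_sub_cancel_left]
      exact neg_mem ⟨_, hunit _ W hW gW⟩
    have hΦk : LinearMap.ker Φ = LinearMap.range (stk β x) := by
      refine le_antisymm (fun z hz => ?_) ?_
      · obtain ⟨y, hy, rfl⟩ : ∃ y ∈ T, π.base y = x := ⟨pt x hx, (hT _).2 ⟨x, hx, rfl⟩, hpt x hx⟩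
        obtain ⟨g, hg⟩ := (Submodule.Quotient.mk_eq_zero _).1 (LinearMap.mem_ker.1 hz)
        obtain ⟨v, rfl⟩ := hmemN y hy g ⟨z, hg.symm⟩
        exact ⟨v, hipinj _ ((hβs _ v).trans hg)⟩
      · rintro _ ⟨v, rfl⟩
        exact LinearMap.mem_ker.2 ((Submodule.Quotient.mk_eq_zero _).2 ⟨stk j x v, (hβs x v).symm⟩)
    rw [← e.length_eq, ((Submodule.quotEquivOfEq _ _ hΦk.symm).trans (Φ.quotKerEquivOfSurjective hΦs)).length_eq,
      e'.length_eq]
    haveI : Module.Free (X.presheaf.stalk x) (G.presheaf.stalk x) :=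
      Props12.free_stalk_of_isFinLocFree G (VarietyLib.isFinLocFree_of_rank hG) x
    haveI : Module.Finite (X.presheaf.stalk x) (G.presheaf.stalk x) :=
      Coherent.finite_stalk_of_isFT hGc.1 hGc.2 x
    refine (TFNodal7.unit_node k hdim hnod π hU hUiso hUd hx (a := r) (b := 0)
      ((Module.finBasisOfFinrankEq _ _ (VarietyLib.finrank_stalk_of_rank hG x)).equivFun.trans
        (LinearEquiv.prodUnique).symm)).2.trans ?_
    simp
  -- restriction to the points over the nodes
  let D := Scheme.IdealSheafData.vanishingIdeal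
    ⟨closure (π.base ⁻¹' {x : X | Curv2.IsNode k X x}), isClosed_closure⟩
  let ρ := (Scheme.Modules.pushforward π).map (TFPush7.resdProj D E)
  haveI : Epi ρ := Coherent.CohBC.epi_of_surjective_stalks _ fun x z => by
    obtain ⟨V, -, hV, hxV, s, rfl⟩ := exists_pGerm π (ParSh.resD D E) z (show x ∈ (⊤ : X.Opens) from trivial)
    obtain ⟨e, he⟩ := TFPush7.exists_resdProj_eq D E (hV.preimage π) s
    exact ⟨pGerm π E hxV e, (stk_push_pGerm π _ hxV e).trans (congrArg _ he)⟩
  have hker : kernel.ι ρ ≫ cokernel.π β = 0 := hom_eq_zero_of_stk _ fun x w => by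
    have hw : stk ρ x (stk (kernel.ι ρ) x w) = 0 := by rw [← stk_comp, kernel.condition, stk_zero]
    rw [stk_comp]
    generalize stk (kernel.ι ρ) x w = z at hw
    suffices hz : z ∈ LinearMap.range (stk β x) by
      obtain ⟨v, rfl⟩ := hz
      rw [← stk_comp, cokernel.condition, stk_zero]
    by_cases hx : Curv2.IsNode k X x
    swap
    · exact hβb x hx z
    obtain ⟨V, -, -, hxV, e, rfl⟩ := exists_pGerm π E z (show x ∈ (⊤ : X.Opens) from trivial)
    rw [stk_push_pGerm] at hw
    obtain ⟨W, hW, hWaff, hxW, he⟩ := pGerm_eq_zero π _ hxV _ hw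
    rw [← app_resM] at he
    have hI := TFPush7.mem_ideal_smul_of_resdProj_eq_zero D E (hWaff.preimage π) _ he
    rw [← pGerm_res π E hW hxW]
    obtain ⟨hA, hcot, -⟩ := node_facts k hdim hnod hU hx
    haveI := finite_pushO k π x
    have hmM := smul_top_eq (oneMap π x) (oneMap_injective k hdim hnod π hU hUd hUiso x)
      (length_quot_oneMap k hdim hnod π hU hUd hUiso hx) hcot
    have hmem : pGerm π E hxW (resM E (π.preimage_mono hW) e) ∈
        maximalIdeal (X.presheaf.stalk x) • (⊤ : Submodule (X.presheaf.stalk x) _) := by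
      refine Submodule.smul_induction_on hI (fun t ht e' _ => ?_)
        (fun a b ha hb => (pGerm_add π E hxW a b).symm ▸ add_mem ha hb)
      have hv : ∀ (y : Y) (hy : π.base y = x),
          Y.presheaf.germ (π ⁻¹ᵁ W) y (show π.base y ∈ W from hy ▸ hxW) t ∈ maximalIdeal (Y.presheaf.stalk y) :=
        fun y hy => by
          rw [AssSch12.germ_mem_maximalIdeal_iff (hWaff.preimage π)]
          rw [Scheme.IdealSheafData.vanishingIdeal_ideal, PrimeSpectrum.mem_vanishingIdeal] at ht
          refine ht _ ?_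
          rw [Set.mem_preimage, (hWaff.preimage π).fromSpec_primeIdealOf]
          exact subset_closure (show π.base y ∈ {x : X | Curv2.IsNode k X x} from hy.symm ▸ hx)
      obtain ⟨c, hc, hct⟩ := pGerm_mem_of_vanish k hdim hnod π hU hUiso hUd hx hWaff hxW t hv
      obtain ⟨O, hxO, c₀, rfl⟩ := X.presheaf.exists_germ_eq c
      let W₀ : X.Opens := W ⊓ O
      have hxW₀ : x ∈ W₀ := ⟨hxW, hxO⟩
      rw [← TopCat.Presheaf.germ_res_apply X.presheaf (homOfLE (inf_le_right : W₀ ≤ O)) x hxW₀, oneMap_germ,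
        ← rG_res π (inf_le_left : W₀ ≤ W) hxW₀ t] at hct
      rw [← TopCat.Presheaf.germ_res_apply X.presheaf (homOfLE (inf_le_right : W₀ ≤ O)) x hxW₀] at hc
      obtain ⟨W', hW', -, hxW', heq⟩ := NormSeq24.germP_eq π hxW₀ _ _ hct
      rw [← NormSeq24.app_res π hW', NormSeq24.res_res, NormSeq24.res_res] at heq
      rw [← pGerm_res π E (hW'.trans inf_le_left) hxW', resM_smul]
      have : pGerm π E hxW' (Y.presheaf.map (homOfLE (π.preimage_mono (hW'.trans inf_le_left : W' ≤ W))).op t •
          resM E (π.preimage_mono (hW'.trans inf_le_left : W' ≤ W)) e') =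
          X.presheaf.germ W' x hxW' (X.presheaf.map (homOfLE (hW'.trans inf_le_right : W' ≤ O)).op c₀) •
            pGerm π E hxW' (resM E (π.preimage_mono (hW'.trans inf_le_left : W' ≤ W)) e') := by
        rw [smul_pGerm, heq]
      refine this ▸ Submodule.smul_mem_smul ?_ trivial
      rw [TopCat.Presheaf.germ_res_apply]
      rwa [TopCat.Presheaf.germ_res_apply] at hc
    generalize pGerm π E hxW (resM E (π.preimage_mono hW) e) = z at hmem
    obtain ⟨θ, hθ⟩ := TFNodal7.exists_stalk_equiv π G x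
    have hbot : maximalIdeal (X.presheaf.stalk x) • (⊤ : Submodule (X.presheaf.stalk x) (St (pushPull π G) x)) ≤
        (LinearMap.range (stk j x)).map (stk (unitAt π G) x) := Submodule.smul_le.2 fun c hc w _ => by
      obtain ⟨q, rfl⟩ := θ.surjective w
      induction q using TensorProduct.induction_on with
      | zero => rw [map_zero, smul_zero]; exact zero_mem _
      | add a b ha hb => rw [map_add, smul_add]; exact add_mem (ha trivial) (hb trivial)
      | tmul g u =>
        obtain ⟨d, hd, hd'⟩ : c • u ∈ Submodule.map (oneMap π x) (maximalIdeal (X.presheaf.stalk x)) :=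
          hmM ▸ Submodule.smul_mem_smul hc trivial
        refine ⟨d • g, hmG x hx (Submodule.smul_mem_smul hd trivial), ?_⟩
        refine (hθ _).symm.trans ?_
        rw [← map_smul θ, TensorProduct.smul_tmul' c g u, TensorProduct.smul_tmul c g u, ← hd']
        exact congrArg θ (TensorProduct.smul_tmul d g (oneSt π x))
    have hzmem : stk ip x z ∈ maximalIdeal (X.presheaf.stalk x) •
        (⊤ : Submodule (X.presheaf.stalk x) (St (pushPull π G) x)) := by
      have h1 := Submodule.mem_map_of_mem (f := stk ip x) hmem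
      rw [Submodule.map_smul''] at h1
      exact Submodule.smul_mono le_rfl le_top h1
    obtain ⟨g, ⟨v, rfl⟩, hg⟩ := hbot hzmem
    exact ⟨v, hipinj x ((hβs x v).trans hg)⟩
  let kd : KernelFork ρ := KernelFork.ofι (kernel.ι ρ) (kernel.condition ρ)
  let q := (Abelian.epiIsCokernelOfKernel kd (kernelIsKernel ρ)).desc (CokernelCofork.ofπ (cokernel.π β) hker)
  have hq : ρ ≫ q = cokernel.π β :=
    (Abelian.epiIsCokernelOfKernel kd (kernelIsKernel ρ)).fac _ WalkingParallelPair.one
  refine ⟨E, hErk, cokernel β, q, epi_of_epi_fac hq, fun x hx => ?_, ?_, ⟨?_⟩⟩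
  · obtain ⟨e, -⟩ := TFNodal7.exists_cokernel_stalk β x
    refine @Equiv.subsingleton _ _ e.symm.toEquiv ?_
    exact Submodule.Quotient.subsingleton_iff.2 (LinearMap.range_eq_top.2 (hβb x hx))
  · rw [finsum_mem_congr rfl (g := fun _ => r) fun x hx => by
      rw [show Module.length (X.presheaf.stalk x) ((cokernel β).presheaf.stalk x) = (r : ℕ∞) from hlen x hx]
      rfl]
    have hnf : {x : X | Curv2.IsNode k X x}.Finite := hfin.subset fun x hx => (hnode x).1 hx
    rw [finsum_mem_eq_finite_toFinset_sum _ hnf, Finset.sum_const, smul_eq_mul, mul_comm,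
      ← Nat.card_eq_card_finite_toFinset hnf]
    rfl
  · refine (IsLimit.conePointUniqueUpToIso (Abelian.monoIsKernelOfCokernel _ (colimit.isColimit _))
      (limit.isLimit _) : F ≅ kernel (cokernel.π β)) ≪≫ kernelIsoOfEq hq.symm


end Groth.Agent.S18769
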