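import Groth.Statements.S18773
import Groth.Agent.EulerLib.QuotSlope
-- import your own Groth.Agent.* helpers here

set_option autoImplicit false
set_option backward.isDefEq.respectTransparency.types false
universe u
open CategoryTheory CategoryTheory.Limits AlgebraicGeometry
open VBCurve Groth.Agent

namespace Groth.Agent.S18773

/-- Let k be algebraically closed of characteristic zero, Y a smooth proper k-scheme of dimension one,
possibly disconnected, L an ample invertible O_Y-module, r a natural number and d an integer, and S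
a family of locally free O_Y-modules of rank r and degree d (degree χ(E) − r·χ(O_Y)). For a module M
write χ for the Euler characteristic, M(n) = M ⊗ L^{⊗n} and α(M) = χ(M(1)) − χ(M) (the multiplicity:
leading coefficient of the Hilbert polynomial). Then S is bounded in the sense that for some n₀,
every E in S and every n ≥ n₀ have H¹(Y, E(n)) = 0 and E(n) globally generated, if and only if there
is a constant C such that for every E in S and every locally free quotient E → Q with α(Q) > 0 one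
has χ(Q)/α(Q) − χ(E)/α(E) ≥ C (the minimal slope of a locally free quotient is at least the slope of
E plus C; slopes deg/α differ from χ/α by the constant χ(O_Y)/deg L). -/
theorem result
    (k : Type u) [Field k] [IsAlgClosed k] [CharZero k]
    (Y : Scheme.{u}) [Y.Over (Spec (CommRingCat.of k))] [IsProper (Y ↘ Spec (CommRingCat.of k))]
    [Smooth (Y ↘ Spec (CommRingCat.of k))] (hdim : topologicalKrullDim Y = 1)
    (L : Y.Modules) (hL : CohB1.IsAmple L)
    (r : ℕ) (d : ℤ) (S : Set Y.Modules)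
    (hS : ∀ E ∈ S, FlatMod.IsFinLocFreeOfRank r E ∧ Curv2.deg k Y E r = d) :
    (∃ n₀ : ℕ, ∀ n : ℕ, n₀ ≤ n → ∀ E ∈ S,
        Subsingleton (Coh.HH Y (CohB1.tensorMod E (CohB1.tensorPow L n)) 1) ∧
        Curv2.IsGloballyGenerated (CohB1.tensorMod E (CohB1.tensorPow L n))) ↔
    (∃ C : ℤ, ∀ E ∈ S, ∀ (Q : Y.Modules) (p : E ⟶ Q), Epi p → FlatMod.IsFinLocFree Q →
        0 < Curv2.euler k Y (CohB1.tensorMod Q L) - Curv2.euler k Y Q →
        (C : ℚ) ≤ (Curv2.euler k Y Q : ℚ) / ((Curv2.euler k Y (CohB1.tensorMod Q L) - Curv2.euler k Y Q : ℤ) : ℚ)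
          - (Curv2.euler k Y E : ℚ) / ((Curv2.euler k Y (CohB1.tensorMod E L) - Curv2.euler k Y E : ℤ) : ℚ)) := by
  haveI := EulerLib.isNoetherian_of_proper (X := Y) k
  haveI := EulerLib.isSeparated_of_proper (X := Y) k
  have hX : topologicalKrullDim Y ≤ ((1 : ℕ) : WithBot ℕ∞) := hdim.le.trans_eq rfl
  obtain ⟨ω, t, hω, hrep⟩ := SerreDual.exists_coh_dualizing k hL (d := 1) hX
  set e : ℤ := d + (r : ℤ) * Curv2.euler k Y (Coh.structureModule Y) with he
  have hEc : ∀ E ∈ S, Coh.IsCoh E := fun E hE => SplitP1.isCoh_of_rank (hS E hE).1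
  -- the slope of a member is bounded
  have hμ : ∀ E ∈ S, |(Curv2.euler k Y E : ℚ) /
      ((Curv2.euler k Y (CohB1.tensorMod E L) - Curv2.euler k Y E : ℤ) : ℚ)| ≤ (|e| : ℚ) := by
    intro E hE
    have h1 : Curv2.euler k Y E = e := by
      have := (hS E hE).2
      simp only [Curv2.deg] at this
      rw [he, ← this]; ring
    have h2 : 0 ≤ Curv2.euler k Y (CohB1.tensorMod E L) - Curv2.euler k Y E :=
      Surf15.mult_nonneg k hX hL (hEc E hE)
    rw [h1] at h2 ⊢
    rcases h2.lt_or_eq with h3 | h3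
    · rw [abs_div]
      refine (div_le_self (abs_nonneg _) ?_).trans (by rw [← Int.cast_abs])
      rw [← Int.cast_abs]
      exact_mod_cast le_trans (Int.add_one_le_iff.2 h3) (le_abs_self _)
    · rw [← h3]; simp
  constructor
  · rintro ⟨n₀, hn₀⟩
    refine ⟨-(n₀ : ℤ) - |e|, fun E hE Q p hp hQf hα => ?_⟩
    haveI := hp
    have hQ : Coh.IsCoh Q := Coherent.CohBC.isCoh_of_isFinLocFree hQf
    have hEn := Surf15.isCoh_twistL k hL (hEc E hE) n₀
    have hQn := Surf15.isCoh_twistL k hL hQ n₀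
    haveI : Epi (AmpleLib.tensorMap p (𝟙 (CohB1.tensorPow L n₀))) :=
      EulerLib.epi_tensorMap (AmpleLib.isInvertible_tensorPow hL.1 n₀) p
    have h1 : Subsingleton (Coh.HH Y (ShStab.twist Y L Q n₀) 1) := by
      haveI hs0 : Subsingleton (Coh.HH Y (ShStab.twist Y L E n₀) 1) := (hn₀ n₀ le_rfl E hE).1
      haveI : Subsingleton (Module.Dual k (Coh.HH Y (ShStab.twist Y L E n₀) 1)) :=
        ⟨fun a b => LinearMap.ext fun x => by rw [hs0.elim x 0, map_zero, map_zero]⟩
      haveI : Subsingleton (Module.Dual k (Coh.HH Y (ShStab.twist Y L Q n₀) 1)) := ⟨fun a b => by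
        obtain ⟨f, rfl⟩ := (hrep _ hQn.1).2 a
        obtain ⟨g, rfl⟩ := (hrep _ hQn.1).2 b
        rw [(cancel_epi (AmpleLib.tensorMap p (𝟙 (CohB1.tensorPow L n₀)))).1
          ((hrep _ hEn.1).1 (Subsingleton.elim _ _) :
            AmpleLib.tensorMap p (𝟙 (CohB1.tensorPow L n₀)) ≫ f = AmpleLib.tensorMap p (𝟙 (CohB1.tensorPow L n₀)) ≫ g)]⟩
      haveI := Module.Free.of_divisionRing k (Coh.HH Y (ShStab.twist Y L Q n₀) 1)
      haveI : Module.Projective k (Coh.HH Y (ShStab.twist Y L Q n₀) 1) := Module.Projective.of_free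
      exact (Module.subsingleton_dual_iff k).1 inferInstance
    have h2 := Surf15.h0_eq_euler k hX hQn h1
    rw [Surf15.euler_twist k hX hL hQ] at h2
    have h3 : -(n₀ : ℤ) * DecSh.mult k Y L Q ≤ Curv2.euler k Y Q := by
      have := Int.natCast_nonneg (Module.finrank k (Coh.HH Y (ShStab.twist Y L Q n₀) 0))
      linarith
    have h4 : (-(n₀ : ℤ) : ℚ) ≤ (Curv2.euler k Y Q : ℚ) /
        ((Curv2.euler k Y (CohB1.tensorMod Q L) - Curv2.euler k Y Q : ℤ) : ℚ) := by
      rw [le_div_iff₀ (by exact_mod_cast hα)]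
      exact_mod_cast h3
    have h5 := abs_le.1 (hμ E hE)
    push_cast at h4 h5 ⊢
    linarith
  · rintro ⟨C, hC⟩
    let c : ℤ := C - |e|
    let N₀ : ℕ := ((Module.finrank k (Coh.HH Y ω 0) : ℤ) - c).toNat + 1
    obtain ⟨n₀, hN, hgg⟩ := EulerLib.exists_gg_of_h1 k hX hL N₀
    have hv : ∀ E ∈ S, ∀ m : ℕ, N₀ ≤ m → Subsingleton (Coh.HH Y (ShStab.twist Y L E m) 1) := by
      intro E hE m hm
      refine EulerLib.subsingleton_h1_of_quot_bound k hdim.le hrep hω hL (hEc E hE) (c := c)
        (fun Q p hp hQf hα => ?_) (by omega)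
      have h := hC E hE Q p hp hQf hα
      have h5 := abs_le.1 (hμ E hE)
      have h4 : (c : ℚ) ≤ (Curv2.euler k Y Q : ℚ) /
          ((Curv2.euler k Y (CohB1.tensorMod Q L) - Curv2.euler k Y Q : ℤ) : ℚ) := by
        simp only [c]
        push_cast at h h5 ⊢
        linarith
      have hα' : (0 : ℤ) < Curv2.euler k Y (CohB1.tensorMod Q L) - Curv2.euler k Y Q := hα
      rw [le_div_iff₀ (by exact_mod_cast hα')] at h4
      exact_mod_cast h4
    exact ⟨n₀, fun n hn E hE => ⟨hv E hE n (hN.trans hn), hgg n hn E (hEc E hE) (hv E hE)⟩⟩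

end Groth.Agent.S18773
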