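import Groth.Statements.S18776
import Groth.Agent.VB5.Jointly

set_option autoImplicit false
set_option linter.all false
universe u
open CategoryTheory CategoryTheory.Limits AlgebraicGeometry
open VBCurve

namespace Groth.Agent.S18776

/-- Let k be a finite field and C a smooth proper geometrically integral curve over k (proper, smooth
and geometrically integral over k, of dimension one) of genus one, i.e. dim_k H^1(C, O_C) = 1, with
a k-rational point O (an elliptic curve over k). Let F and F' be finite locally free O_C-modules of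
ranks r ≥ 1 and s ≥ 1 such that F is semistable in the sense that deg G · rk F ≤ deg F · rk G for
every finite locally free submodule G of F of positive rank (the degree of a rank-n locally free
module being χ − n·χ(O_C)), and likewise for F'. Then for every finite locally free submodule G of F
⊗ F' of rank t ≥ 1 one has μ(G) − μ(F) − μ(F') ≤ 4, that is deg G · r · s ≤ t · (4 r s + deg F · s +
deg F' · r). (The published statement takes F and F' arbitrary; that form fails for F the direct sum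
of invertible modules of degrees 5 and −5 and F' = O_C, so both are taken semistable here, as the
published argument requires.) -/
theorem result (k : Type u) [Field k] [Finite k] (X : Scheme.{u}) [X.Over (Spec (CommRingCat.of k))]
    [IsProper (X ↘ Spec (CommRingCat.of k))] [Smooth (X ↘ Spec (CommRingCat.of k))]
    [GeometricallyIntegral (X ↘ Spec (CommRingCat.of k))] (hdim : topologicalKrullDim ↥X = 1)
    (hg : Curv2.genus k X = 1) (O : Spec (CommRingCat.of k) ⟶ X) (hO : O ≫ (X ↘ Spec (CommRingCat.of k)) = 𝟙 _)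
    (F F' : X.Modules) (r s : ℕ) (hr : 0 < r) (hs : 0 < s)
    (hF : FlatMod.IsFinLocFreeOfRank r F) (hF' : FlatMod.IsFinLocFreeOfRank s F')
    (hFss : (∀ (G : X.Modules) (r' : ℕ) (i : G ⟶ F), Mono i → 0 < r' → FlatMod.IsFinLocFreeOfRank r' G →
      Curv2.deg k X G r' * (r : ℤ) ≤ Curv2.deg k X F r * (r' : ℤ)))
    (hF'ss : (∀ (G : X.Modules) (r' : ℕ) (i : G ⟶ F'), Mono i → 0 < r' → FlatMod.IsFinLocFreeOfRank r' G →
      Curv2.deg k X G r' * (s : ℤ) ≤ Curv2.deg k X F' s * (r' : ℤ)))
    (G : X.Modules) (t : ℕ) (ht : 0 < t) (hG : FlatMod.IsFinLocFreeOfRank t G)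
    (i : G ⟶ CohB1.tensorMod F F') [Mono i] :
    Curv2.deg k X G t * (r : ℤ) * (s : ℤ) ≤
      (t : ℤ) * (4 * (r : ℤ) * (s : ℤ) + Curv2.deg k X F r * (s : ℤ) + Curv2.deg k X F' s * (r : ℤ)) := by
  haveI : IsIntegral X := GeometricallyIntegral.isIntegral_of_subsingleton (X ↘ Spec (CommRingCat.of k))
  haveI := CurveRR24.isLocallyNoetherian_of_proper k (X := X)
  have hn := VB5.isIntegrallyClosed_stalk k (X := X)
  rw [VB5.deg_eq_gdeg k hG, VB5.deg_eq_gdeg k hF, VB5.deg_eq_gdeg k hF']
  have hr' : (0 : ℤ) < r := by exact_mod_cast hr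
  have hs' : (0 : ℤ) < s := by exact_mod_cast hs
  obtain ⟨L, hL, hLd⟩ := VB5.exists_line_deg_rat k hdim O hO (VB5.gdeg k F / (r : ℤ) + 2)
  obtain ⟨L', hL', hLd'⟩ := VB5.exists_line_deg_rat k hdim O hO (VB5.gdeg k F' / (s : ℤ) + 2)
  have e1 := Int.emod_add_mul_ediv (VB5.gdeg k F) (r : ℤ)
  have e2 := Int.emod_nonneg (VB5.gdeg k F) hr'.ne'
  have e3 := Int.emod_lt_of_pos (VB5.gdeg k F) hr'
  have e1' := Int.emod_add_mul_ediv (VB5.gdeg k F') (s : ℤ)
  have e2' := Int.emod_nonneg (VB5.gdeg k F') hs'.ne'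
  have e3' := Int.emod_lt_of_pos (VB5.gdeg k F') hs'
  obtain ⟨M, -, φ, hφ⟩ := VB5.exists_jointlyMono_of_ss k hdim hg O hO hr hF
    ((VB5.ss_iff k hdim hn hF).2 hFss) hL (by rw [hLd]; nlinarith)
  obtain ⟨M', -, ψ, hψ⟩ := VB5.exists_jointlyMono_of_ss k hdim hg O hO hs hF'
    ((VB5.ss_iff k hdim hn hF').2 hF'ss) hL' (by rw [hLd']; nlinarith)
  let ψ' : Fin M' → (CohB1.tensorMod L F' ⟶ CohB1.tensorMod L' L) := fun b =>
    (AmpleLib.tensorComm L F').hom ≫ (SerreDual.twistF L).map (ψ b)
  let χ : Fin (M * M') → (G ⟶ CohB1.tensorMod L' L) := fun c =>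
    (i ≫ (SerreDual.twistF F').map (φ (finProdFinEquiv.symm c).1)) ≫ ψ' (finProdFinEquiv.symm c).2
  have hχ : VB5.JointlyMono χ := by
    intro Z x hx
    refine zero_of_comp_mono i (hφ.twist (VB5.exists_rank_free hF') (x ≫ i) fun a => ?_)
    refine zero_of_comp_mono (AmpleLib.tensorComm L F').hom
      (hψ.twist (VB5.exists_rank_free (PicLib.isFinLocFreeOfRank_one hL)) _ fun b => ?_)
    have := hx (finProdFinEquiv (a, b))
    simp only [χ, ψ', Equiv.symm_apply_apply] at this
    refine Eq.trans ?_ this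
    simp only [Category.assoc]
    rfl
  have h := VB5.gdeg_le_of_jointlyMono k hdim (AmpleLib.isInvertible_tensorMod hL' hL) (M * M') χ
    (SplitP1.isCoh_of_rank hG) hχ
  rw [VB5.grk_eq hG, VB5.gdeg_tensor_line k hdim hL' hL, hLd, hLd'] at h
  have hrs : (0 : ℤ) ≤ (r : ℤ) * s := by positivity
  have h1 : (r : ℤ) * (VB5.gdeg k F / (r : ℤ)) ≤ VB5.gdeg k F := by omega
  have h2 : (s : ℤ) * (VB5.gdeg k F' / (s : ℤ)) ≤ VB5.gdeg k F' := by omega
  nlinarith [mul_le_mul_of_nonneg_left h hrs, mul_le_mul_of_nonneg_left h1 (mul_nonneg (Int.natCast_nonneg t) hs'.le),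
    mul_le_mul_of_nonneg_left h2 (mul_nonneg (Int.natCast_nonneg t) hr'.le)]

end Groth.Agent.S18776
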