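import Groth.Statements.S18782
import Groth.Agent.GenOneBC5.Descent

set_option autoImplicit false
universe u
open CategoryTheory CategoryTheory.Limits AlgebraicGeometry
open VBCurve

namespace Groth.Agent.S18782

/-- Let k be a finite field and C a smooth proper geometrically integral curve over k (proper, smooth
and geometrically integral over k, of dimension one) of genus one, i.e. dim_k H^1(C, O_C) = 1, with
a k-rational point O (an elliptic curve over k); finiteness of k matters. Let G and G' be finite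
locally free O_C-modules of rank 2 such that G is indecomposable (nonzero, no isomorphism with a
direct sum of two nonzero modules) but not geometrically indecomposable (its pull-back to C_K splits
into two nonzero summands for some field extension K of k, taken in the universe of k), and likewise
G'. Let k₂ be a degree-2 field extension of k and π : C_{k₂} → C the projection. Then G ≅ G' if and
only if π^*G ≅ π^*G'. (The published setting takes k of characteristic at least 5; the argument does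
not use this and the row allows every finite field.) -/
theorem result (k : Type u) [Field k] [Finite k] (X : Scheme.{u}) [X.Over (Spec (CommRingCat.of k))]
    [IsProper (X ↘ Spec (CommRingCat.of k))] [Smooth (X ↘ Spec (CommRingCat.of k))]
    [GeometricallyIntegral (X ↘ Spec (CommRingCat.of k))] (hdim : topologicalKrullDim ↥X = 1)
    (hg : Curv2.genus k X = 1) (O : Spec (CommRingCat.of k) ⟶ X) (hO : O ≫ (X ↘ Spec (CommRingCat.of k)) = 𝟙 _)
    (G G' : X.Modules) (hG : FlatMod.IsFinLocFreeOfRank 2 G) (hG' : FlatMod.IsFinLocFreeOfRank 2 G')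
    (hGi : (¬ IsZero G ∧ ∀ (E₁ E₂ : X.Modules), Nonempty (G ≅ E₁ ⊞ E₂) → IsZero E₁ ∨ IsZero E₂)) (hGng : (∃ (K : Type u) (_ : Field K) (_ : Algebra k K) (E₁ E₂ : (Curv2.bc k X K).Modules),
      ¬ IsZero E₁ ∧ ¬ IsZero E₂ ∧ Nonempty ((Scheme.Modules.pullback (Curv2.bcFst k X K)).obj G ≅ E₁ ⊞ E₂)))
    (hG'i : (¬ IsZero G' ∧ ∀ (E₁ E₂ : X.Modules), Nonempty (G' ≅ E₁ ⊞ E₂) → IsZero E₁ ∨ IsZero E₂)) (hG'ng : (∃ (K : Type u) (_ : Field K) (_ : Algebra k K) (E₁ E₂ : (Curv2.bc k X K).Modules),
      ¬ IsZero E₁ ∧ ¬ IsZero E₂ ∧ Nonempty ((Scheme.Modules.pullback (Curv2.bcFst k X K)).obj G' ≅ E₁ ⊞ E₂)))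
    (k₂ : Type u) [Field k₂] [Algebra k k₂] (hk₂ : Module.finrank k k₂ = 2) :
    Nonempty (G ≅ G') ↔ Nonempty ((Scheme.Modules.pullback (Curv2.bcFst k X k₂)).obj G ≅ (Scheme.Modules.pullback (Curv2.bcFst k X k₂)).obj G') := by
  refine ⟨fun ⟨e⟩ => ⟨(Scheme.Modules.pullback _).mapIso e⟩, fun ⟨u⟩ => ?_⟩
  obtain ⟨⟨F, _, _, -, ⟨eF⟩⟩, -⟩ := Groth.Agent.GenOneBC5.main hdim hg O hO Nat.prime_two hG hGi hGng k₂ hk₂
  obtain ⟨f, f', hff⟩ := Groth.Agent.GenOneBC5.exists_retract k₂ two_pos hG
    (Groth.Agent.GenOneBC5.isFinLocFree_of_rank hG') (Groth.Agent.GenOneBC5.isIso_of_endo_field eF) u.hom u.inv u.hom_inv_id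
  haveI := Groth.Agent.GenOneBC5.isIso_of_retract (Groth.Agent.VB5.idem_of_indecomposable hG'i.2) hGi.1 f f' hff
  exact ⟨asIso f⟩

end Groth.Agent.S18782
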