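import Groth.Statements.S18783
import Groth.Agent.GenOneBC5.Descent
import Groth.Agent.CycLib28.PB.Ops.LocFree

set_option autoImplicit false
universe u
open CategoryTheory CategoryTheory.Limits AlgebraicGeometry
open VBCurve

namespace Groth.Agent.S18783

/-- Let k be a finite field and C a smooth proper geometrically integral curve over k (proper, smooth
and geometrically integral over k, of dimension one) of genus one, i.e. dim_k H^1(C, O_C) = 1, with
a k-rational point O (an elliptic curve over k); finiteness of k matters. Let G and G' be finite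
locally free O_C-modules of rank 2 such that G is indecomposable (nonzero, no isomorphism with a
direct sum of two nonzero modules) but not geometrically indecomposable (its pull-back to C_K splits
into two nonzero summands for some field extension K of k, taken in the universe of k), and likewise
G'; put E = O_C ⊕ G and E' = O_C ⊕ G' (rank 3). Let k₂ be a degree-2 field extension of k and π :
C_{k₂} → C the projection. Then E ≅ E' if and only if π^*E ≅ π^*E'. (The published setting takes k
of characteristic at least 5; the argument does not use this and the row allows every finite field.) -/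
theorem result (k : Type u) [Field k] [Finite k] (X : Scheme.{u}) [X.Over (Spec (CommRingCat.of k))]
    [IsProper (X ↘ Spec (CommRingCat.of k))] [Smooth (X ↘ Spec (CommRingCat.of k))]
    [GeometricallyIntegral (X ↘ Spec (CommRingCat.of k))] (hdim : topologicalKrullDim ↥X = 1)
    (hg : Curv2.genus k X = 1) (O : Spec (CommRingCat.of k) ⟶ X) (hO : O ≫ (X ↘ Spec (CommRingCat.of k)) = 𝟙 _)
    (G G' : X.Modules) (hG : FlatMod.IsFinLocFreeOfRank 2 G) (hG' : FlatMod.IsFinLocFreeOfRank 2 G')
    (hGi : (¬ IsZero G ∧ ∀ (E₁ E₂ : X.Modules), Nonempty (G ≅ E₁ ⊞ E₂) → IsZero E₁ ∨ IsZero E₂)) (hGng : (∃ (K : Type u) (_ : Field K) (_ : Algebra k K) (E₁ E₂ : (Curv2.bc k X K).Modules),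
      ¬ IsZero E₁ ∧ ¬ IsZero E₂ ∧ Nonempty ((Scheme.Modules.pullback (Curv2.bcFst k X K)).obj G ≅ E₁ ⊞ E₂)))
    (hG'i : (¬ IsZero G' ∧ ∀ (E₁ E₂ : X.Modules), Nonempty (G' ≅ E₁ ⊞ E₂) → IsZero E₁ ∨ IsZero E₂)) (hG'ng : (∃ (K : Type u) (_ : Field K) (_ : Algebra k K) (E₁ E₂ : (Curv2.bc k X K).Modules),
      ¬ IsZero E₁ ∧ ¬ IsZero E₂ ∧ Nonempty ((Scheme.Modules.pullback (Curv2.bcFst k X K)).obj G' ≅ E₁ ⊞ E₂)))
    (k₂ : Type u) [Field k₂] [Algebra k k₂] (hk₂ : Module.finrank k k₂ = 2) :
    Nonempty ((Coh.structureModule X ⊞ G) ≅ (Coh.structureModule X ⊞ G')) ↔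
      Nonempty ((Scheme.Modules.pullback (Curv2.bcFst k X k₂)).obj (Coh.structureModule X ⊞ G) ≅ (Scheme.Modules.pullback (Curv2.bcFst k X k₂)).obj (Coh.structureModule X ⊞ G')) := by
  refine ⟨fun ⟨e⟩ => ⟨(Scheme.Modules.pullback _).mapIso e⟩, fun ⟨w⟩ => ?_⟩
  obtain ⟨⟨F, _, _, -, ⟨eF⟩⟩, -⟩ := Groth.Agent.GenOneBC5.main hdim hg O hO Nat.prime_two hG hGi hGng k₂ hk₂
  haveI : IsIntegral X := GeometricallyIntegral.isIntegral_of_subsingleton (X ↘ Spec (CommRingCat.of k))
  haveI := Groth.Agent.CurveRR24.isLocallyNoetherian_of_proper k (X := X)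
  have hOl : PicF.IsInvertible (Coh.structureModule X) := Groth.Agent.AmpleLib.isInvertible_structureModule
  obtain ⟨f, f', hff⟩ := Groth.Agent.GenOneBC5.exists_retract k₂ two_pos hG (B := Coh.structureModule X ⊞ G')
    (Groth.Agent.GenOneBC5.isFinLocFree_of_rank (Groth.Agent.CycLib28.PB.Ops.isFinLocFreeOfRank_extension
      (ShortComplex.Splitting.ofHasBinaryBiproduct (Coh.structureModule X) G').shortExact
      (Groth.Agent.PicLib.isFinLocFreeOfRank_one hOl) hG'))
    (Groth.Agent.GenOneBC5.isIso_of_endo_field eF)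
    ((Scheme.Modules.pullback (Curv2.bcFst k X k₂)).map biprod.inr ≫ w.hom)
    (w.inv ≫ (Scheme.Modules.pullback (Curv2.bcFst k X k₂)).map biprod.snd)
    (by rw [Category.assoc, w.hom_inv_id_assoc, ← Functor.map_comp, biprod.inr_snd, CategoryTheory.Functor.map_id])
  have hsum : (f ≫ biprod.fst) ≫ (biprod.inl ≫ f') + (f ≫ biprod.snd) ≫ (biprod.inr ≫ f') = 𝟙 G :=
    calc _ = f ≫ (biprod.fst ≫ biprod.inl + biprod.snd ≫ biprod.inr) ≫ f' := by
          simp only [Preadditive.add_comp, Preadditive.comp_add, Category.assoc]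
      _ = 𝟙 G := by rw [biprod.total, Category.id_comp, hff]
  by_cases h1 : (f ≫ biprod.fst) ≫ (biprod.inl ≫ f') = 0
  · rw [h1, zero_add] at hsum
    haveI := Groth.Agent.GenOneBC5.isIso_of_retract (Groth.Agent.VB5.idem_of_indecomposable hG'i.2) hGi.1 _ _ hsum
    exact ⟨biprod.mapIso (Iso.refl _) (asIso (f ≫ biprod.snd))⟩
  · exfalso
    haveI := Groth.Agent.GenOneBC5.isIso_of_endo_field eF _ h1
    haveI := Groth.Agent.GenOneBC5.isIso_of_retract (A := G) (B := Coh.structureModule X)
      (fun e he => by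
        by_cases h0 : e = 0
        · exact Or.inl h0
        · haveI := Groth.Agent.VB5.isIso_line_endo k hdim (Groth.Agent.VB5.isIntegrallyClosed' k hdim) hOl e h0
          exact Or.inr ((cancel_epi e).1 (he.trans (Category.comp_id e).symm)))
      hGi.1 (f ≫ biprod.fst) ((biprod.inl ≫ f') ≫ inv ((f ≫ biprod.fst) ≫ (biprod.inl ≫ f')))
      (by rw [← Category.assoc, IsIso.hom_inv_id])
    have := Groth.Agent.VB5.grk_congr (asIso (f ≫ biprod.fst))
    rw [Groth.Agent.VB5.rank_one hOl, Groth.Agent.VB5.grk_eq hG] at this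
    omega

end Groth.Agent.S18783
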