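import Groth.Statements.S18784
import Groth.Agent.DualMod3.Apps
import Groth.Agent.DualMod3.DegHom
import Groth.Agent.CurveRR24.GenusZero
import Groth.Agent.CurveRR24.AlgClosed
import Groth.Agent.SerreDual.HomLinear
import Groth.Agent.PicLib.PullbackGen
import Groth.Agent.AmpleLib.Power
-- import your own Groth.Agent.* helpers here

set_option autoImplicit false
universe u
open CategoryTheory CategoryTheory.Limits AlgebraicGeometry
attribute [local instance] HasDerivedCategory.standard
open Curves
open Groth.Agent.Coherent Groth.Agent.EulerLib Groth.Agent.CurveRR24 Groth.Agent.PicLib Groth.Agent.AmpleLib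
set_option backward.isDefEq.respectTransparency.types false
set_option linter.style.haveILetI false
set_option maxHeartbeats 1000000

namespace Groth.Agent.S18784

/-- Let k be a perfect field and X a proper scheme over k of dimension one which is geometrically
connected and geometrically reduced over k, Gorenstein with trivial dualizing sheaf: its dualizing
module ω_X (the degree −1 cohomology sheaf of f^! O for the structure morphism f, assuming Rf_* on
D_QCoh and its right adjoint exist) is isomorphic to O_X. Let D be an effective Cartier divisor on X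
of positive degree, given here as an invertible module L = O_X(D) with a monomorphism s : O_X → L
and deg L = χ(L) − χ(O_X) > 0. Then H^1(X, O_X(D)) = 0. (The first assertion of the lemma, H^0(X,
O_X) = k, is not restated.) -/
theorem result (k : Type u) [Field k] [PerfectField k]
    (X : Scheme.{u}) [X.Over (Spec (CommRingCat.of k))] [IsProper (X ↘ Spec (CommRingCat.of k))]
    [GeometricallyConnected (X ↘ Spec (CommRingCat.of k))] [GeometricallyReduced (X ↘ Spec (CommRingCat.of k))]
    (hdim : topologicalKrullDim ↥X = 1)
    [DCoh.HasRpush (X ↘ Spec (CommRingCat.of k))] (h : DCoh.RpushPreservesQCoh (X ↘ Spec (CommRingCat.of k))) [DCoh.HasShriek (X ↘ Spec (CommRingCat.of k)) h]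
    (OY : DCoh.DQCoh (Spec (CommRingCat.of k))) (hOY : Nonempty (OY.obj ≅ DCoh.inD (Spec (CommRingCat.of k)) (Coh.structureModule (Spec (CommRingCat.of k)))))
    (hω : Nonempty (DCoh.dualizingMod (X ↘ Spec (CommRingCat.of k)) h OY 1 ≅ Coh.structureModule X))
    (L : X.Modules) (hL : PicF.IsInvertible L) (s : Coh.structureModule X ⟶ L) [Mono s]
    (hdeg : 0 < Curv2.deg k X L 1) :
    Subsingleton (Coh.HH X L 1) := by
  haveI := EulerLib.isNoetherian_of_proper k (X := X)
  have h0 : Module.finrank k (Coh.HH X (Coh.structureModule X) 0) = 1 := DualMod3.h0_structure_of_geom k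
  obtain ⟨t, hrep⟩ := DualMod3.exists_rep k X h OY hOY (d := 1) hdim.le
  obtain ⟨eω⟩ := hω
  have hall : ∀ r : L ⟶ Coh.structureModule X, r = 0 := DualMod3.hom_structure_eq_zero k h0 hL s hdeg
  haveI : Module.Free k (Coh.HH X L 1) := Module.Free.of_divisionRing k _
  haveI : Module.Projective k (Coh.HH X L 1) := Module.Projective.of_free
  refine subsingleton_of_forall_eq 0 fun x => (Module.forall_dual_apply_eq_zero_iff k x).1 fun ψ => ?_
  obtain ⟨φ, hφ⟩ := (hrep L (isQCoh_of_isInvertible hL)).2 ψ
  have hφ0 : φ = 0 := by
    rw [← cancel_mono eω.hom, zero_comp]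
    exact hall _
  rw [← hφ, hφ0, map_zero, LinearMap.zero_apply]

end Groth.Agent.S18784
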