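import Groth.Statements.S18787
import Groth.Agent.AutCount5.Basic
import Groth.Agent.VB5.Line
import Groth.Agent.SerreDual.TwistEquiv
import Groth.Agent.CurveRR24.GenusZero
import Groth.Agent.SerreDual.HomLinear

set_option autoImplicit false
universe u
open CategoryTheory CategoryTheory.Limits AlgebraicGeometry
open VBCurve

namespace Groth.Agent.S18787

open Groth.Agent in
/-- Endomorphisms of a line bundle are scalars. -/
theorem smul_id_bijective {k : Type u} [Field k] {X : Scheme.{u}} [X.Over (Spec (CommRingCat.of k))]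
    [IsProper (X ↘ Spec (CommRingCat.of k))] [IsIntegral X] [GeometricallyIntegral (X ↘ Spec (CommRingCat.of k))]
    {L : X.Modules} (hL : PicF.IsInvertible L) : Function.Bijective fun c : k => c • (𝟙 L) := by
  haveI := CurveRR24.isLocallyNoetherian_of_proper k (X := X)
  obtain ⟨M, hM, ⟨e⟩⟩ := CurveRR24.exists_inverse k hL
  haveI : (SerreDual.twistF M).IsEquivalence := SerreDual.isEquivalence_twistF hL hM e
  have hbij : Function.Bijective (SerreDual.tensorRightHom k L L M) :=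
    ⟨SerreDual.tensorRightHom_injective k L L hM, fun g => (SerreDual.twistF M).map_surjective g⟩
  let a : (L ⟶ L) ≃ₗ[k] Coh.HH X (Coh.structureModule X) 0 :=
    ((LinearEquiv.ofBijective _ hbij).trans (Linear.homCongr k e e)).trans (SerreDual.homUnitHH k _)
  have h1 : Module.finrank k (L ⟶ L) = 1 := a.finrank_eq.trans (CurveRR24.h0_structure_of_geomIntegral k)
  have h0 : (𝟙 L : L ⟶ L) ≠ 0 := fun h => VB5.not_isZero_of_grk (PicLib.isFinLocFreeOfRank_one hL) Nat.one_pos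
    ((Limits.IsZero.iff_id_eq_zero _).2 h)
  exact ⟨smul_left_injective k h0, fun f => exists_smul_eq_of_finrank_eq_one h1 h0 f⟩

open Groth.Agent in
/-- No maps between non-isomorphic lines of equal degree. -/
theorem hom_eq_zero {k : Type u} [Field k] {X : Scheme.{u}} [X.Over (Spec (CommRingCat.of k))]
    [IsProper (X ↘ Spec (CommRingCat.of k))] [Smooth (X ↘ Spec (CommRingCat.of k))] [IsIntegral X]
    (hdim : topologicalKrullDim X = 1) {A B : X.Modules} (hA : PicF.IsInvertible A) (hB : PicF.IsInvertible B)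
    (hd : Curv2.deg k X A 1 = Curv2.deg k X B 1) (hne : ¬ Nonempty (A ≅ B)) (f : A ⟶ B) : f = 0 := by
  haveI := CurveRR24.isLocallyNoetherian_of_proper k (X := X)
  by_contra hf
  rw [VB5.deg_line k hA, VB5.deg_line k hB] at hd
  haveI := (VB5.line_map k hdim (VB5.isIntegrallyClosed_stalk k (X := X)) hA hB f hf).2.2 hd
  exact hne ⟨asIso f⟩

/-- Let k be a finite field and C a smooth proper geometrically integral curve over k (proper, smooth
and geometrically integral over k, of dimension one) of genus one, i.e. dim_k H^1(C, O_C) = 1, with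
a k-rational point O (an elliptic curve over k); k is finite with q elements. Let L₁ and L₂ be
invertible O_C-modules of degree 0 (χ(L) − χ(O_C) = 0) and E = O_C ⊕ L₁ ⊕ L₂. Then the number of
automorphisms of E is: (q³ − 1)(q³ − q)(q³ − q²) if L₁ ≅ L₂ ≅ O_C; (q − 1)³ (q + 1) q if L₁ ≅ L₂ and
L₁ ≇ O_C; (q − 1)³ (q + 1) q if L₁ ≇ L₂ and L₂ ≅ O_C; and (q − 1)³ if O_C, L₁, L₂ are pairwise
non-isomorphic. (In the third case the published value is (q − 1)² q³, and the published computation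
gives (q − 1)³ q²; but there E ≅ O_C ⊕ O_C ⊕ L₁ with L₁ of degree 0 and non-trivial, whose
endomorphism ring is M₂(k) × k, so Aut(E) ≅ GL₂(k) × kˣ has (q − 1)³ (q + 1) q elements, the same
count as in the second case; the row states this corrected value.) (The published setting takes k of
characteristic at least 5; the argument does not use this and the row allows every finite field.) -/
theorem result (k : Type u) [Field k] [Finite k] (X : Scheme.{u}) [X.Over (Spec (CommRingCat.of k))]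
    [IsProper (X ↘ Spec (CommRingCat.of k))] [Smooth (X ↘ Spec (CommRingCat.of k))]
    [GeometricallyIntegral (X ↘ Spec (CommRingCat.of k))] (hdim : topologicalKrullDim ↥X = 1)
    (hg : Curv2.genus k X = 1) (O : Spec (CommRingCat.of k) ⟶ X) (hO : O ≫ (X ↘ Spec (CommRingCat.of k)) = 𝟙 _)
    (L₁ L₂ : X.Modules) (hL₁ : PicF.IsInvertible L₁) (hL₂ : PicF.IsInvertible L₂)
    (hd₁ : Curv2.deg k X L₁ 1 = 0) (hd₂ : Curv2.deg k X L₂ 1 = 0) :
    (Nonempty (L₁ ≅ Coh.structureModule X) → Nonempty (L₂ ≅ Coh.structureModule X) →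
      Nat.card (Aut (Coh.structureModule X ⊞ L₁ ⊞ L₂)) =
        (Nat.card k ^ 3 - 1) * (Nat.card k ^ 3 - Nat.card k) * (Nat.card k ^ 3 - Nat.card k ^ 2)) ∧
    (Nonempty (L₁ ≅ L₂) → ¬ Nonempty (L₁ ≅ Coh.structureModule X) →
      Nat.card (Aut (Coh.structureModule X ⊞ L₁ ⊞ L₂)) = (Nat.card k - 1) ^ 3 * (Nat.card k + 1) * Nat.card k) ∧
    (¬ Nonempty (L₁ ≅ L₂) → Nonempty (L₂ ≅ Coh.structureModule X) →
      Nat.card (Aut (Coh.structureModule X ⊞ L₁ ⊞ L₂)) = (Nat.card k - 1) ^ 3 * (Nat.card k + 1) * Nat.card k) ∧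
    (¬ Nonempty (L₁ ≅ Coh.structureModule X) → ¬ Nonempty (L₂ ≅ Coh.structureModule X) → ¬ Nonempty (L₁ ≅ L₂) →
      Nat.card (Aut (Coh.structureModule X ⊞ L₁ ⊞ L₂)) = (Nat.card k - 1) ^ 3) := by
  haveI : IsIntegral X := GeometricallyIntegral.isIntegral_of_subsingleton (X ↘ Spec (CommRingCat.of k))
  haveI : Limits.HasFiniteBiproducts X.Modules := Limits.HasFiniteBiproducts.of_hasFiniteProducts
  have hO : PicF.IsInvertible (Coh.structureModule X) := Groth.Agent.AmpleLib.isInvertible_structureModule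
  have hd0 : Curv2.deg k X (Coh.structureModule X) 1 = 0 := by simp [Curv2.deg]
  have bO := smul_id_bijective (k := k) hO
  have z : ∀ {A B : X.Modules}, PicF.IsInvertible A → PicF.IsInvertible B → Curv2.deg k X A 1 = 0 →
      Curv2.deg k X B 1 = 0 → ¬ Nonempty (A ≅ B) → ∀ f : A ⟶ B, f = 0 :=
    fun hA hB a b h => hom_eq_zero hdim hA hB (a.trans b.symm) h
  have one : ∀ {A : X.Modules}, PicF.IsInvertible A → Nat.card (Aut A) = Nat.card k - 1 :=
    fun hA => Groth.Agent.AutCount5.card_aut_one k (smul_id_bijective hA)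
  have two : ∀ {A B : X.Modules}, PicF.IsInvertible A → Nonempty (A ≅ B) → Nat.card (Aut (A ⊞ B)) =
      (Nat.card k ^ 2 - 1) * (Nat.card k ^ 2 - Nat.card k) := by
    rintro A B hA ⟨e⟩
    rw [Groth.Agent.AutCount5.card_aut_congr (Limits.biprod.mapIso (Iso.refl A) e.symm ≪≫ Groth.Agent.AutCount5.twoIso),
      Groth.Agent.AutCount5.card_aut_copies k (smul_id_bijective hA)]
    simp [Fin.prod_univ_two]
  have key : ∀ a : ℕ, 1 ≤ a → (a - 1) * ((a ^ 2 - 1) * (a ^ 2 - a)) = (a - 1) ^ 3 * (a + 1) * a := by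
    intro a ha
    obtain ⟨b, rfl⟩ := Nat.exists_eq_add_of_le ha
    have h1 : (1 + b) ^ 2 - 1 = b ^ 2 + 2 * b := by
      have : (1 + b) ^ 2 = (b ^ 2 + 2 * b) + 1 := by ring
      omega
    have h2 : (1 + b) ^ 2 - (1 + b) = b ^ 2 + b := by
      have : (1 + b) ^ 2 = (b ^ 2 + b) + (1 + b) := by ring
      omega
    rw [h1, h2, Nat.add_sub_cancel_left]
    ring
  have hq : 1 ≤ Nat.card k := Nat.card_pos
  -- a summand orthogonal to two others
  have orth : ∀ {A B D : X.Modules}, (∀ f : A ⟶ B, f = 0) → (∀ f : A ⟶ D, f = 0) →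
      (∀ f : B ⟶ A, f = 0) → (∀ f : D ⟶ A, f = 0) →
      Nat.card (Aut (A ⊞ (B ⊞ D))) = Nat.card (Aut A) * Nat.card (Aut (B ⊞ D)) := by
    intro A B D h1 h2 h3 h4
    refine Groth.Agent.AutCount5.card_aut_biprod (fun f => ?_) (fun f => ?_)
    · exact Limits.biprod.hom_ext _ _ (by simp [h1 (f ≫ Limits.biprod.fst)]) (by simp [h2 (f ≫ Limits.biprod.snd)])
    · exact Limits.biprod.hom_ext' _ _ (by simp [h3 (Limits.biprod.inl ≫ f)]) (by simp [h4 (Limits.biprod.inr ≫ f)])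
  refine ⟨?_, ?_, ?_, ?_⟩
  · rintro ⟨e₁⟩ ⟨e₂⟩
    rw [Groth.Agent.AutCount5.card_aut_congr (Limits.biprod.mapIso (Iso.refl (Coh.structureModule X))
        (Limits.biprod.mapIso e₁ e₂) ≪≫ Groth.Agent.AutCount5.threeIso),
      Groth.Agent.AutCount5.card_aut_copies k bO]
    simp [Fin.prod_univ_three]
  · rintro ⟨e⟩ hne
    have n1 : ¬ Nonempty (Coh.structureModule X ≅ L₁) := fun ⟨f⟩ => hne ⟨f.symm⟩
    have n2 : ¬ Nonempty (Coh.structureModule X ≅ L₂) := fun ⟨f⟩ => hne ⟨e ≪≫ f.symm⟩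
    have n2' : ¬ Nonempty (L₂ ≅ Coh.structureModule X) := fun ⟨f⟩ => hne ⟨e ≪≫ f⟩
    rw [orth (z hO hL₁ hd0 hd₁ n1) (z hO hL₂ hd0 hd₂ n2) (z hL₁ hO hd₁ hd0 hne) (z hL₂ hO hd₂ hd0 n2'),
      one hO, two hL₁ ⟨e⟩, key _ hq]
  · rintro hne ⟨e⟩
    have n1 : ¬ Nonempty (L₁ ≅ Coh.structureModule X) := fun ⟨f⟩ => hne ⟨f ≪≫ e.symm⟩
    have n1' : ¬ Nonempty (Coh.structureModule X ≅ L₁) := fun ⟨f⟩ => n1 ⟨f.symm⟩
    have n12' : ¬ Nonempty (L₂ ≅ L₁) := fun ⟨f⟩ => hne ⟨f.symm⟩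
    rw [Groth.Agent.AutCount5.card_aut_congr (Groth.Agent.AutCount5.swapIso (Coh.structureModule X) L₁ L₂ ≪≫
        Limits.biprod.braiding _ _),
      orth (z hL₁ hO hd₁ hd0 n1) (z hL₁ hL₂ hd₁ hd₂ hne) (z hO hL₁ hd0 hd₁ n1') (z hL₂ hL₁ hd₂ hd₁ n12'),
      one hL₁, two hO ⟨e.symm⟩, key _ hq]
  · intro h1 h2 h12
    have n1 : ¬ Nonempty (Coh.structureModule X ≅ L₁) := fun ⟨f⟩ => h1 ⟨f.symm⟩
    have n2 : ¬ Nonempty (Coh.structureModule X ≅ L₂) := fun ⟨f⟩ => h2 ⟨f.symm⟩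
    have n21 : ¬ Nonempty (L₂ ≅ L₁) := fun ⟨f⟩ => h12 ⟨f.symm⟩
    rw [orth (z hO hL₁ hd0 hd₁ n1) (z hO hL₂ hd0 hd₂ n2) (z hL₁ hO hd₁ hd0 h1) (z hL₂ hO hd₂ hd0 h2),
      Groth.Agent.AutCount5.card_aut_biprod (z hL₁ hL₂ hd₁ hd₂ h12) (z hL₂ hL₁ hd₂ hd₁ n21), one hO, one hL₁, one hL₂]
    ring

end Groth.Agent.S18787
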