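import Groth.Statements.S18786
import Groth.Agent.GenOneBC5.Descent
import Groth.Agent.S18787

set_option autoImplicit false
universe u
open CategoryTheory CategoryTheory.Limits AlgebraicGeometry
open VBCurve

namespace Groth.Agent.S18786

/-- Let k be a finite field and C a smooth proper geometrically integral curve over k (proper, smooth
and geometrically integral over k, of dimension one) of genus one, i.e. dim_k H^1(C, O_C) = 1, with
a k-rational point O (an elliptic curve over k); k is finite with q elements. Let G be a finite
locally free O_C-module of rank 2 and degree 0 (the degree of a rank-n locally free module being χ −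
n·χ(O_C)) which is indecomposable (nonzero, no isomorphism with a direct sum of two nonzero modules)
but not geometrically indecomposable (its pull-back to C_K splits into two nonzero summands for some
field extension K of k, taken in the universe of k), and put E = O_C ⊕ G. Then Aut(E) has exactly (q
− 1)(q² − 1) elements. (The accompanying bound on the number of isomorphism classes of such E is not
restated.) (The published setting takes k of characteristic at least 5; the argument does not use
this and the row allows every finite field.) -/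
theorem result (k : Type u) [Field k] [Finite k] (X : Scheme.{u}) [X.Over (Spec (CommRingCat.of k))]
    [IsProper (X ↘ Spec (CommRingCat.of k))] [Smooth (X ↘ Spec (CommRingCat.of k))]
    [GeometricallyIntegral (X ↘ Spec (CommRingCat.of k))] (hdim : topologicalKrullDim ↥X = 1)
    (hg : Curv2.genus k X = 1) (O : Spec (CommRingCat.of k) ⟶ X) (hO : O ≫ (X ↘ Spec (CommRingCat.of k)) = 𝟙 _)
    (G : X.Modules) (hG : FlatMod.IsFinLocFreeOfRank 2 G) (hdeg : Curv2.deg k X G 2 = 0)
    (hGi : (¬ IsZero G ∧ ∀ (E₁ E₂ : X.Modules), Nonempty (G ≅ E₁ ⊞ E₂) → IsZero E₁ ∨ IsZero E₂)) (hGng : (∃ (K : Type u) (_ : Field K) (_ : Algebra k K) (E₁ E₂ : (Curv2.bc k X K).Modules),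
      ¬ IsZero E₁ ∧ ¬ IsZero E₂ ∧ Nonempty ((Scheme.Modules.pullback (Curv2.bcFst k X K)).obj G ≅ E₁ ⊞ E₂))) :
    Nat.card (Aut (Coh.structureModule X ⊞ G)) = (Nat.card k - 1) * (Nat.card k ^ 2 - 1) := by
  obtain ⟨p, hp⟩ := CharP.exists k
  haveI : Fact p.Prime := ⟨CharP.char_is_prime k p⟩
  let K := ULift.{u} (FiniteField.Extension k p 2)
  have hK : Module.finrank k K = 2 :=
    ((ULift.algEquiv (R := k) (A := FiniteField.Extension k p 2)).toLinearEquiv.finrank_eq).trans
      (FiniteField.finrank_extension k p 2)
  obtain ⟨⟨F, _, _, hF, ⟨eF⟩⟩, -⟩ := Groth.Agent.GenOneBC5.main hdim hg O hO Nat.prime_two hG hGi hGng K hK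
  obtain ⟨h1, h2⟩ := Groth.Agent.GenOneBC5.hom_structure_eq_zero hdim hg O hO hG hdeg hGi hGng K hK
  haveI : IsIntegral X := GeometricallyIntegral.isIntegral_of_subsingleton (X ↘ Spec (CommRingCat.of k))
  rw [Groth.Agent.AutCount5.card_aut_biprod h1 h2, Groth.Agent.GenOneBC5.card_aut_field two_pos hF eF,
    Groth.Agent.AutCount5.card_aut_one k (Groth.Agent.S18787.smul_id_bijective Groth.Agent.AmpleLib.isInvertible_structureModule)]

end Groth.Agent.S18786
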