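import Groth.Statements.S18788
import Groth.Agent.AutCount5.Schur
import Groth.Agent.S18787

set_option autoImplicit false
universe u
open CategoryTheory CategoryTheory.Limits AlgebraicGeometry
open VBCurve

namespace Groth.Agent.S18788

/-- Let k be a finite field and C a smooth proper geometrically integral curve over k (proper, smooth
and geometrically integral over k, of dimension one) of genus one, i.e. dim_k H^1(C, O_C) = 1, with
a k-rational point O (an elliptic curve over k); k is finite with q elements. Let F be an O_C-module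
with a short exact sequence 0 → O_C → F → O_C → 0 that does not split, and L an invertible
O_C-module of degree 0 (χ(L) − χ(O_C) = 0). Then Aut(O_C ⊕ F) has (q − 1)² q³ elements, and if L ≇
O_C then Aut(O_C ⊕ (L ⊗ F)) has (q − 1)² q elements. (The source states this for E = O_C ⊕ G with G
a geometrically indecomposable rank-2 bundle of degree 0, which it writes as L ⊗ F with F the
non-split self-extension of O_C by a classification it quotes; the row takes G in that form
directly. The accompanying count of isomorphism classes is not restated.) (The published setting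
takes k of characteristic at least 5; the argument does not use this and the row allows every finite
field.) -/
theorem result (k : Type u) [Field k] [Finite k] (X : Scheme.{u}) [X.Over (Spec (CommRingCat.of k))]
    [IsProper (X ↘ Spec (CommRingCat.of k))] [Smooth (X ↘ Spec (CommRingCat.of k))]
    [GeometricallyIntegral (X ↘ Spec (CommRingCat.of k))] (hdim : topologicalKrullDim ↥X = 1)
    (hg : Curv2.genus k X = 1) (O : Spec (CommRingCat.of k) ⟶ X) (hO : O ≫ (X ↘ Spec (CommRingCat.of k)) = 𝟙 _)
    (T : ShortComplex X.Modules) (hT : T.ShortExact)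
    (e₁ : T.X₁ ≅ Coh.structureModule X) (e₃ : T.X₃ ≅ Coh.structureModule X) (hns : ¬ IsSplitEpi T.g)
    (L : X.Modules) (hL : PicF.IsInvertible L) (hdeg : Curv2.deg k X L 1 = 0) :
    Nat.card (Aut (Coh.structureModule X ⊞ T.X₂)) = (Nat.card k - 1) ^ 2 * Nat.card k ^ 3 ∧
    (¬ Nonempty (L ≅ Coh.structureModule X) →
      Nat.card (Aut (Coh.structureModule X ⊞ CohB1.tensorMod L T.X₂)) = (Nat.card k - 1) ^ 2 * Nat.card k) := by
  haveI : IsIntegral X := GeometricallyIntegral.isIntegral_of_subsingleton (X ↘ Spec (CommRingCat.of k))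
  haveI := Groth.Agent.CurveRR24.isLocallyNoetherian_of_proper k (X := X)
  have hOl : PicF.IsInvertible (Coh.structureModule X) := Groth.Agent.AmpleLib.isInvertible_structureModule
  have hd0 : Curv2.deg k X (Coh.structureModule X) 1 = 0 := by simp [Curv2.deg]
  have bO := Groth.Agent.S18787.smul_id_bijective (k := k) hOl
  let i : Coh.structureModule X ⟶ T.X₂ := e₁.inv ≫ T.f
  let p : T.X₂ ⟶ Coh.structureModule X := T.g ≫ e₃.hom
  have hip : i ≫ p = 0 := by simp [i, p, T.zero_assoc]
  have hS : (ShortComplex.mk i p hip).ShortExact :=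
    ShortComplex.shortExact_of_iso (ShortComplex.isoMk e₁ (Iso.refl _) e₃ (by simp [i]) (by simp [p])) hT
  have hns' : ¬ IsSplitEpi p := fun h => hns (IsSplitEpi.mk' ⟨e₃.hom ≫ section_ p, by
    have := IsSplitEpi.id p
    simp only [p] at this
    rw [← cancel_mono e₃.hom]
    simpa [p] using e₃.hom ≫= this⟩)
  have cZ : Nat.card (Aut (Coh.structureModule X)) = Nat.card k - 1 :=
    Groth.Agent.AutCount5.card_aut_one k bO
  have cF := Groth.Agent.AutCount5.card_aut_selfExt k hS bO hns'
  refine ⟨?_, fun hne => ?_⟩
  · rw [Groth.Agent.AutCount5.card_aut_biprod_mixed (fun x y => by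
        obtain ⟨c, rfl⟩ := (Groth.Agent.AutCount5.bijective_from k hS bO hns').2 y
        simp [Groth.Agent.AutCount5.comp_p_eq_zero k hS bO hns' x])
      (Groth.Agent.AutCount5.isIso_add k hS bO hns'), cZ, cF,
      ← Nat.card_congr (Equiv.ofBijective _ (Groth.Agent.AutCount5.bijective_to k hS bO hns')),
      ← Nat.card_congr (Equiv.ofBijective _ (Groth.Agent.AutCount5.bijective_from k hS bO hns'))]
    ring
  · obtain ⟨M, hM, ⟨eL⟩⟩ := Groth.Agent.CurveRR24.exists_inverse k hL
    haveI : (Groth.Agent.SerreDual.twistF L).IsEquivalence :=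
      Groth.Agent.SerreDual.isEquivalence_twistF hM hL (Groth.Agent.AmpleLib.tensorComm _ _ ≪≫ eL)
    let Tw := Groth.Agent.SerreDual.twistF L
    let eO : Tw.obj (Coh.structureModule X) ≅ L := Groth.Agent.AmpleLib.unitTensorIso L
    have hS' := hS.map_of_exact Tw
    have nL : ¬ Nonempty (Coh.structureModule X ≅ L) := fun ⟨e⟩ => hne ⟨e.symm⟩
    have zl : ∀ f : Coh.structureModule X ⟶ Tw.obj (Coh.structureModule X), f = 0 := fun f => by
      rw [← cancel_mono eO.hom, zero_comp]
      exact Groth.Agent.S18787.hom_eq_zero hdim hOl hL (hd0.trans hdeg.symm) nL _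
    have zr : ∀ f : Tw.obj (Coh.structureModule X) ⟶ Coh.structureModule X, f = 0 := fun f => by
      rw [← cancel_epi eO.inv, comp_zero]
      exact Groth.Agent.S18787.hom_eq_zero hdim hL hOl (hdeg.trans hd0.symm) hne _
    haveI := hS'.mono_f
    haveI := hS'.epi_g
    have h1 : ∀ f : Coh.structureModule X ⟶ Tw.obj T.X₂, f = 0 := fun f => by
      rw [← hS'.exact.lift_f f (zl _), show hS'.exact.lift f (zl _) = 0 from zl _, zero_comp]
      rfl
    have h2 : ∀ f : Tw.obj T.X₂ ⟶ Coh.structureModule X, f = 0 := fun f => by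
      rw [← hS'.exact.g_desc f (zr _), show hS'.exact.desc f (zr _) = 0 from zr _, comp_zero]
      rfl
    rw [Groth.Agent.AutCount5.card_aut_congr (Limits.biprod.mapIso (Iso.refl (Coh.structureModule X))
        (show CohB1.tensorMod L T.X₂ ≅ Tw.obj T.X₂ from Groth.Agent.AmpleLib.tensorComm _ _)),
      Groth.Agent.AutCount5.card_aut_biprod h1 h2, cZ,
      ← Nat.card_congr ((Functor.FullyFaithful.ofFullyFaithful Tw).autMulEquivOfFullyFaithful T.X₂).toEquiv, cF]
    ring

end Groth.Agent.S18788
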