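import Groth.Statements.S18789
import Mathlib
-- import your own Groth.Agent.* helpers here

set_option autoImplicit false
universe u v w x
open TorusGr

namespace Groth.Agent.S18789

open DirectSum in
open DirectSum in
theorem decompose_smul_apply {k : Type u} [Field k] {M : Type v} [AddCommGroup M] [DecidableEq M]
    {A : Type w} [CommRing A] [Algebra k A] (𝒜 : M → Submodule k A) [GradedAlgebra 𝒜]
    {P : Type x} [AddCommGroup P] [Module A P] [Module k P]
    (ℳ : M → Submodule k P) [Decomposition ℳ] [SetLike.GradedSMul 𝒜 ℳ]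
    (a : A) {e : M} {p : P} (hp : p ∈ ℳ e) (d : M) :
    ((decompose ℳ (a • p)) (d + e) : P) = ((decompose 𝒜 a) d : A) • p := by
  induction a using Decomposition.inductionOn 𝒜 with
  | zero => simp
  | add a b ha hb => simp [add_smul, ha, hb]
  | @homogeneous j a =>
    have h1 : (a : A) • p ∈ ℳ (j + e) := SetLike.GradedSMul.smul_mem a.2 hp
    by_cases hj : j = d
    · subst hj
      rw [decompose_of_mem_same ℳ h1, decompose_of_mem_same 𝒜 a.2]
    · rw [decompose_of_mem_ne ℳ h1 (fun h => hj (add_right_cancel h)), decompose_of_mem_ne 𝒜 a.2 hj, zero_smul]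

open DirectSum in
/-- Let `A` be a commutative algebra over a field `k`, graded by an additive commutative group `M` (for
`M` the character group of a split torus `T` this is a `T`-action on `Spec A`, and an `M`-graded
`A`-module is a `T`-equivariant quasi-coherent sheaf), let `P` be a finitely generated projective
`A`-module with a compatible `M`-grading (a locally free `T`-sheaf of finite rank), and let `m` be a
homogeneous maximal ideal with residue field `k` (a `T`-fixed rational point). If homogeneous
elements `f i` of `P` reduce to a basis of `P/mP`, then there is a homogeneous `s ∉ m` such that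
after inverting `s` the `f i` generate `P` and every relation among them is killed by a power of
`s`: on the invariant open `D(s)` the module is free on the homogeneous sections `f i`, with the
weights of the fibre `P/mP`. (The published statement has `M ≅ ℤ^r`, a split torus; here `M` is any
additive commutative group, i.e. any diagonalizable group.) -/
theorem result
    {k : Type u} [Field k] {M : Type v} [AddCommGroup M] [DecidableEq M]
    {A : Type w} [CommRing A] [Algebra k A] (𝒜 : M → Submodule k A) [GradedAlgebra 𝒜]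
    {P : Type x} [AddCommGroup P] [Module A P] [Module k P] [IsScalarTower k A P]
    (ℳ : M → Submodule k P) [Decomposition ℳ] [SetLike.GradedSMul 𝒜 ℳ]
    [Module.Finite A P] [Module.Projective A P]
    (m : Ideal A) [m.IsMaximal] (hm : m.IsHomogeneous 𝒜)
    (hrat : Function.Surjective (algebraMap k (A ⧸ m)))
    {n : ℕ} (wt : Fin n → M) (f : Fin n → P) (hf : ∀ i, f i ∈ ℳ (wt i))
    (hli : LinearIndependent (A ⧸ m)
      (fun i => (Submodule.Quotient.mk (f i) : P ⧸ (m • (⊤ : Submodule A P)))))
    (hsp : Submodule.span A (Set.range f) ⊔ m • (⊤ : Submodule A P) = ⊤) :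
    ∃ s : A, SetLike.IsHomogeneousElem 𝒜 s ∧ s ∉ m ∧
      (∀ p : P, ∃ (N : ℕ) (c : Fin n → A), s ^ N • p = ∑ i, c i • f i) ∧
      (∀ c : Fin n → A, ∑ i, c i • f i = 0 → ∃ N : ℕ, ∀ i, s ^ N * c i = 0) := by
  classical
  have hm1 : m ≠ ⊤ := Ideal.IsMaximal.ne_top ‹_›
  have pick : ∀ a : A, a ∉ m → ∃ d, ((decompose 𝒜 a) d : A) ∉ m := by
    intro a ha
    by_contra h
    push Not at h
    refine ha ?_
    rw [← DirectSum.sum_support_decompose 𝒜 a]
    exact m.sum_mem fun d _ => h d
  have key : ∀ (c : Fin n → A) (e d : M), ((decompose ℳ (∑ i, c i • f i)) (d + e) : P) =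
      ∑ i, ((decompose 𝒜 (c i)) (d + e - wt i) : A) • f i := by
    intro c e d
    rw [DirectSum.decompose_sum, DFinsupp.finsetSum_apply, AddSubmonoidClass.coe_finsetSum]
    refine Finset.sum_congr rfl fun i _ => ?_
    have h1 := decompose_smul_apply 𝒜 ℳ (c i) (hf i) (d + e - wt i)
    rwa [sub_add_cancel] at h1
  let N : Submodule A P := Submodule.span A (Set.range f)
  -- generation
  obtain ⟨a, ha1, ha2⟩ := Submodule.exists_sub_one_mem_and_smul_eq_zero_of_fg_of_le_smul m (⊤ : Submodule A (P ⧸ N))
    Module.Finite.fg_top (fun v _ => by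
      obtain ⟨p, rfl⟩ := Submodule.Quotient.mk_surjective N v
      have hp : p ∈ N ⊔ m • (⊤ : Submodule A P) := by
        show p ∈ Submodule.span A (Set.range f) ⊔ m • ⊤
        rw [hsp]; trivial
      obtain ⟨x, hx, y, hy, rfl⟩ := Submodule.mem_sup.1 hp
      rw [Submodule.Quotient.mk_add, (Submodule.Quotient.mk_eq_zero N).2 hx, zero_add]
      have := Submodule.mem_map_of_mem (f := N.mkQ) hy
      rw [Submodule.map_smul''] at this
      exact Submodule.smul_mono le_rfl le_top this)
  have ham : a ∉ m := fun h => hm1 ((Ideal.eq_top_iff_one _).2 (by simpa using sub_mem h ha1))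
  obtain ⟨d, hd⟩ := pick a ham
  set a₁ : A := ((decompose 𝒜 a) d : A) with ha₁
  have haN : ∀ p : P, a₁ • p ∈ N := by
    intro p
    induction p using DirectSum.Decomposition.inductionOn ℳ with
    | zero => simp
    | add p q hp hq => rw [smul_add]; exact add_mem hp hq
    | @homogeneous e p =>
      have h1 : a • (p : P) ∈ N := by
        rw [← Submodule.Quotient.mk_eq_zero, Submodule.Quotient.mk_smul]
        exact ha2 _ trivial
      obtain ⟨c, hc⟩ := (Submodule.mem_span_range_iff_exists_fun A).1 h1
      rw [ha₁, ← decompose_smul_apply 𝒜 ℳ a p.2 d, ← hc, key]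
      exact Submodule.sum_mem _ fun i _ => Submodule.smul_mem _ _ (Submodule.subset_span ⟨i, rfl⟩)
  -- relations
  let F : (Fin n → A) →ₗ[A] P := Fintype.linearCombination A f
  have hFmem : ∀ p, a₁ • p ∈ LinearMap.range F := fun p => by
    rw [Fintype.range_linearCombination]; exact haN p
  obtain ⟨σ, hσ⟩ := Module.projective_lifting_property F.rangeRestrict
    (LinearMap.codRestrict (LinearMap.range F) (a₁ • LinearMap.id) hFmem) F.surjective_rangeRestrict
  have hσ' : ∀ p, F (σ p) = a₁ • p := fun p => congrArg Subtype.val (LinearMap.congr_fun hσ p)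
  let H : (Fin n → A) →ₗ[A] (Fin n → A) := a₁ • LinearMap.id - σ.comp F
  have hH : ∀ c, F (H c) = 0 := fun c => by simp [H, map_sub, hσ']
  have hker : ∀ c, F c = 0 → H c = a₁ • c := fun c hc => by simp [H, hc]
  let R' : Submodule A (Fin n → A) := LinearMap.range H
  have hindep : ∀ c : Fin n → A, F c = 0 → ∀ i, c i ∈ m := by
    intro c hc i
    have h1 : ∑ i, (Ideal.Quotient.mk m (c i)) • (Submodule.Quotient.mk (f i) : P ⧸ (m • (⊤ : Submodule A P))) = 0 := by
      have h2 := congrArg (Submodule.mkQ (m • (⊤ : Submodule A P))) hc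
      rw [map_zero] at h2
      simp only [F, Fintype.linearCombination_apply, map_sum, map_smul, Submodule.mkQ_apply] at h2
      exact h2
    exact Ideal.Quotient.eq_zero_iff_mem.1 (Fintype.linearIndependent_iff.1 hli _ h1 i)
  obtain ⟨b, hb⟩ := Ideal.IsMaximal.exists_inv (I := m) inferInstance hd
  obtain ⟨z, hzm, hz⟩ := hb
  have hR : R' ≤ m • R' := by
    rintro c hc
    have hFc : F c = 0 := by obtain ⟨w, rfl⟩ := hc; exact hH w
    have h1 : a₁ • c ∈ m • R' := by
      rw [← hker c hFc, pi_eq_sum_univ c, map_sum]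
      refine Submodule.sum_mem _ fun i _ => ?_
      rw [map_smul]
      exact Submodule.smul_mem_smul (hindep c hFc i) ⟨_, rfl⟩
    have h2 : c = b • (a₁ • c) + z • c := by rw [smul_smul, ← add_smul, hz, one_smul]
    rw [h2]
    exact add_mem (Submodule.smul_mem _ _ h1) (Submodule.smul_mem_smul hzm hc)
  obtain ⟨s, hs1, hs2⟩ := Submodule.exists_sub_one_mem_and_smul_eq_zero_of_fg_of_le_smul m R'
    (Module.Finite.iff_fg.1 inferInstance) hR
  have hsm : s * a₁ ∉ m := fun h => by
    rcases Ideal.IsPrime.mem_or_mem (Ideal.IsMaximal.isPrime ‹_›) h with h | h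
    · exact hm1 ((Ideal.eq_top_iff_one _).2 (by simpa using sub_mem h hs1))
    · exact hd h
  have hkill : ∀ c : Fin n → A, F c = 0 → ∀ i, (s * a₁) * c i = 0 := fun c hc i => by
    have h1 := congrFun (hs2 (H c) ⟨c, rfl⟩) i
    rw [hker c hc] at h1
    simpa [mul_assoc] using h1
  obtain ⟨d', hd'⟩ := pick _ hsm
  set a₂ : A := ((decompose 𝒜 (s * a₁)) d' : A) with ha₂
  refine ⟨a₁ * a₂, SetLike.IsHomogeneousElem.mul ⟨d, SetLike.coe_mem _⟩ ⟨d', SetLike.coe_mem _⟩,
    fun h => (Ideal.IsPrime.mem_or_mem (Ideal.IsMaximal.isPrime ‹_›) h).elim hd hd', fun p => ?_, fun c hc => ⟨1, fun i => ?_⟩⟩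
  · obtain ⟨c, hc⟩ := (Submodule.mem_span_range_iff_exists_fun A).1 (N.smul_mem a₂ (haN p))
    exact ⟨1, c, by rw [hc, pow_one, mul_comm, mul_smul]⟩
  · rw [pow_one, mul_assoc]
    suffices h : a₂ * c i = 0 by rw [h, mul_zero]
    -- split `c` into homogeneous relations
    rw [← DirectSum.sum_support_decompose 𝒜 (c i), Finset.mul_sum]
    refine Finset.sum_eq_zero fun j _ => ?_
    let c' : Fin n → A := fun l => ((decompose 𝒜 (c l)) (j + wt i - wt l) : A)
    have hc' : F c' = 0 := by
      have h1 := key c (wt i) j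
      rw [hc, decompose_zero] at h1
      simpa [F, c', Fintype.linearCombination_apply] using h1.symm
    have h2 : ((decompose 𝒜 (c i)) j : A) = c' i := by
      simp only [c']
      rw [show j + wt i - wt i = j by abel]
    have h3 := congrArg (fun z : A => ((decompose 𝒜 z) (d' + j) : A)) (hkill c' hc' i)
    simp only [decompose_zero, DirectSum.zero_apply, ZeroMemClass.coe_zero] at h3
    rw [← h2] at h3
    rwa [DirectSum.coe_decompose_mul_add_of_right_mem 𝒜 (SetLike.coe_mem _)] at h3

end Groth.Agent.S18789
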