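import Groth.Statements.S18790
import Mathlib
import Groth.Prelude
import Groth.Agent.CAlgMisc2.Normal

set_option linter.all false

set_option autoImplicit false
universe u v w
open TorusGr

open AlgebraicGeometry CategoryTheory DirectSum

namespace Groth.Agent.S18790

section
variable {k : Type u} [Field k] {M : Type v} [AddCommGroup M] [DecidableEq M]
  {A : Type w} [CommRing A] [Algebra k A] (𝒜 : M → Submodule k A) [GradedAlgebra 𝒜]

theorem comp_zero_notMem {m : Ideal A} (hfix : ∀ i : M, i ≠ 0 → ∀ a ∈ 𝒜 i, a ∈ m) {s : A} (hs : s ∉ m) :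
    (DirectSum.decompose 𝒜 s 0 : A) ∉ m := by
  classical
  intro h
  apply hs
  rw [← DirectSum.sum_support_decompose 𝒜 s]
  refine Ideal.sum_mem _ fun i _ => ?_
  by_cases hi : i = 0
  · subst hi; exact h
  · exact hfix i hi _ (SetLike.coe_mem _)

theorem decompose_mul_mem {i : M} {a : A} (ha : a ∈ 𝒜 i) (r : A) (e : M) :
    (DirectSum.decompose 𝒜 (r * a) e : A) = (DirectSum.decompose 𝒜 r (e - i) : A) * a := by
  induction r using DirectSum.Decomposition.inductionOn 𝒜 with
  | zero => simp
  | homogeneous b =>
    rename_i j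
    have h : (b : A) * a ∈ 𝒜 (j + i) := SetLike.mul_mem_graded b.2 ha
    by_cases he : j + i = e
    · subst he
      rw [DirectSum.decompose_of_mem_same 𝒜 h, add_sub_cancel_right, DirectSum.decompose_of_mem_same 𝒜 b.2]
    · rw [DirectSum.decompose_of_mem_ne 𝒜 h he, DirectSum.decompose_of_mem_ne 𝒜 b.2 (fun h' => he (by rw [h']; abel)), zero_mul]
  | add b c hb hc => simp only [add_mul, DirectSum.decompose_add, DirectSum.add_apply, AddMemClass.coe_add, hb, hc]

theorem decompose_sum' {ι : Type*} (s : Finset ι) (f : ι → A) (e : M) :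
    (DirectSum.decompose 𝒜 (∑ i ∈ s, f i) e : A) = ∑ i ∈ s, (DirectSum.decompose 𝒜 (f i) e : A) := by
  classical
  induction s using Finset.induction_on with
  | empty => simp
  | insert a s ha ih => rw [Finset.sum_insert ha, Finset.sum_insert ha, DirectSum.decompose_add, DirectSum.add_apply, AddMemClass.coe_add, ih]
end

/-- Let `A` be a commutative algebra over a field `k`, graded by an additive commutative group `M` (for
`M` the character group of a split torus `T`, a `T`-action on `Spec A`), let `J` be the ideal
generated by the homogeneous elements of non-zero degree (its zero locus is the fixed-point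
subscheme) and let `m ⊇ J` be a maximal ideal with residue field `k` (a fixed rational point) at
which the fixed-point subscheme is the reduced point: `J` and `m` agree after localizing at `m`.
Then the cotangent space `m/m²` has no part of weight zero: every degree-zero element of `m` lies in
`m²`. (The published statement has `M ≅ ℤ^r`, a split torus, and phrases the conclusion as the
non-vanishing of the weights of a semi-invariant basis of `m/m²`; here `M` is any additive
commutative group, i.e. any diagonalizable group.) -/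
theorem result
    {k : Type u} [Field k] {M : Type v} [AddCommGroup M] [DecidableEq M]
    {A : Type w} [CommRing A] [Algebra k A] (𝒜 : M → Submodule k A) [GradedAlgebra 𝒜]
    (m : Ideal A) [m.IsMaximal] (hrat : Function.Surjective (algebraMap k (A ⧸ m)))
    (hfix : ∀ i : M, i ≠ 0 → ∀ a ∈ 𝒜 i, a ∈ m)
    (hred : ∀ a ∈ m, ∃ s ∉ m, s * a ∈ Ideal.span {b : A | ∃ i : M, i ≠ 0 ∧ b ∈ 𝒜 i})
    {f : A} (hf0 : f ∈ 𝒜 0) (hfm : f ∈ m) : f ∈ m ^ 2 := by
  classical
  obtain ⟨s, hs, hsf⟩ := hred f hfm
  have hcomp : ∀ z ∈ Ideal.span {b : A | ∃ i : M, i ≠ 0 ∧ b ∈ 𝒜 i}, (DirectSum.decompose 𝒜 z 0 : A) ∈ m ^ 2 := by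
    intro z hz
    induction hz using Submodule.span_induction with
    | mem b hb =>
      obtain ⟨i, hi, hbi⟩ := hb
      rw [DirectSum.decompose_of_mem_ne 𝒜 hbi hi]; exact zero_mem _
    | zero => simp
    | add y z _ _ hy hz => rw [DirectSum.decompose_add, DirectSum.add_apply, AddMemClass.coe_add]; exact add_mem hy hz
    | smul c z hz' ih =>
      clear ih hsf
      induction hz' using Submodule.span_induction generalizing c with
      | mem b hb =>
        obtain ⟨i, hi, hbi⟩ := hb
        rw [smul_eq_mul, decompose_mul_mem 𝒜 hbi, pow_two]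
        exact Ideal.mul_mem_mul (hfix _ (by simpa using hi) _ (SetLike.coe_mem _)) (hfix i hi b hbi)
      | zero => simp
      | add y z _ _ hy hz => rw [smul_add, DirectSum.decompose_add, DirectSum.add_apply, AddMemClass.coe_add]; exact add_mem (hy c) (hz c)
      | smul d z _ hd => rw [smul_smul]; exact hd _
  have h2 := hcomp _ hsf
  rw [decompose_mul_mem 𝒜 hf0, sub_zero] at h2
  have h3 := comp_zero_notMem 𝒜 hfix hs
  obtain ⟨t, n, hn, htn⟩ := Ideal.IsMaximal.exists_inv (inferInstance : m.IsMaximal) h3
  rw [← one_mul f, ← htn, add_mul, mul_assoc]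
  exact Ideal.add_mem _ (Ideal.mul_mem_left _ _ h2) (by rw [pow_two]; exact Ideal.mul_mem_mul hn hfm)

end Groth.Agent.S18790
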