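import Groth.Statements.S18791
import Mathlib
import Groth.Prelude
import Groth.Agent.CAlgMisc2.Normal

set_option linter.all false

set_option autoImplicit false
universe u v w x
open TorusGr

open AlgebraicGeometry CategoryTheory DirectSum

namespace Groth.Agent.S18791

section
variable {k : Type u} [Field k] {M : Type v} [AddCommGroup M] [DecidableEq M]
  {A : Type w} [CommRing A] [Algebra k A] (𝒜 : M → Submodule k A) [GradedAlgebra 𝒜]

theorem comp_zero_notMem {m : Ideal A} (hfix : ∀ i : M, i ≠ 0 → ∀ a ∈ 𝒜 i, a ∈ m) {s : A} (hs : s ∉ m) :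
    (DirectSum.decompose 𝒜 s 0 : A) ∉ m := by
  classical
  intro h
  apply hs
  rw [← DirectSum.sum_support_decompose 𝒜 s]
  refine Ideal.sum_mem _ fun i _ => ?_
  by_cases hi : i = 0
  · subst hi; exact h
  · exact hfix i hi _ (SetLike.coe_mem _)

theorem decompose_mul_mem {i : M} {a : A} (ha : a ∈ 𝒜 i) (r : A) (e : M) :
    (DirectSum.decompose 𝒜 (r * a) e : A) = (DirectSum.decompose 𝒜 r (e - i) : A) * a := by
  induction r using DirectSum.Decomposition.inductionOn 𝒜 with
  | zero => simp
  | homogeneous b =>
    rename_i j
    have h : (b : A) * a ∈ 𝒜 (j + i) := SetLike.mul_mem_graded b.2 ha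
    by_cases he : j + i = e
    · subst he
      rw [DirectSum.decompose_of_mem_same 𝒜 h, add_sub_cancel_right, DirectSum.decompose_of_mem_same 𝒜 b.2]
    · rw [DirectSum.decompose_of_mem_ne 𝒜 h he, DirectSum.decompose_of_mem_ne 𝒜 b.2 (fun h' => he (by rw [h']; abel)), zero_mul]
  | add b c hb hc => simp only [add_mul, DirectSum.decompose_add, DirectSum.add_apply, AddMemClass.coe_add, hb, hc]

theorem decompose_sum' {ι : Type*} (s : Finset ι) (f : ι → A) (e : M) :
    (DirectSum.decompose 𝒜 (∑ i ∈ s, f i) e : A) = ∑ i ∈ s, (DirectSum.decompose 𝒜 (f i) e : A) := by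
  classical
  induction s using Finset.induction_on with
  | empty => simp
  | insert a s ha ih => rw [Finset.sum_insert ha, Finset.sum_insert ha, DirectSum.decompose_add, DirectSum.add_apply, AddMemClass.coe_add, ih]
end

/-- Let `φ : B → A` be a degree-preserving homomorphism of commutative algebras over a field `k` graded
by an additive commutative group `M` (for `M` the character group of a split torus, an equivariant
morphism `Spec A → Spec B`), and let `m` be a maximal ideal of `A` containing all homogeneous
elements of non-zero degree (a fixed point). Then the ideal of those `b` whose image is zero in the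
local ring `A_m` is homogeneous: the homogeneous (weight) components of such a `b` again die in
`A_m`. Since `A_m` embeds in its completion when `A` is Noetherian, these are the elements of `B`
that die in the completed local ring. (The published lemma asserts moreover that, for `B = k[Y_1, …,
Y_d]` mapping the `Y_i` to semi-invariant lifts of a basis of `m/m²`, the kernel of the induced
surjection of completions `k[[Y]] → Â_m` is generated by semi-invariant polynomials; generation of
that kernel by polynomials can fail, so only the statement about polynomial elements of the kernel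
is recorded here. The published statement has `M ≅ ℤ^r` (a split torus) and `B` the polynomial ring
on the lifts; here `M` is any additive commutative group and `B` any `M`-graded `k`-algebra.) -/
theorem result
    {k : Type u} [Field k] {M : Type v} [AddCommGroup M] [DecidableEq M]
    {A : Type w} [CommRing A] [Algebra k A] (𝒜 : M → Submodule k A) [GradedAlgebra 𝒜]
    {B : Type x} [CommRing B] [Algebra k B] (ℬ : M → Submodule k B) [GradedAlgebra ℬ]
    (φ : B →ₐ[k] A) (hφ : ∀ i : M, ∀ b ∈ ℬ i, φ b ∈ 𝒜 i)
    (m : Ideal A) [m.IsMaximal] (hfix : ∀ i : M, i ≠ 0 → ∀ a ∈ 𝒜 i, a ∈ m) :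
    (RingHom.ker ((algebraMap A (Localization.AtPrime m)).comp (φ : B →+* A))).IsHomogeneous ℬ := by
  classical
  have hker : ∀ x : A, algebraMap A (Localization.AtPrime m) x = 0 ↔ ∃ s : m.primeCompl, (s : A) * x = 0 :=
    fun x => IsLocalization.map_eq_zero_iff m.primeCompl _ x
  intro e b hb
  let F := insert e (DirectSum.decompose ℬ b).support
  let x : M → A := fun i => φ (DirectSum.decompose ℬ b i : B)
  have hx : ∀ i, x i ∈ 𝒜 i := fun i => hφ i _ (SetLike.coe_mem _)
  have hsum : φ b = ∑ i ∈ F, x i := by
    conv_lhs => rw [← DirectSum.sum_support_decompose ℬ b, map_sum]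
    refine Finset.sum_subset (Finset.subset_insert _ _) fun i _ hi => ?_
    rw [DFinsupp.notMem_support_iff.1 hi, ZeroMemClass.coe_zero, map_zero]
  obtain ⟨⟨s, hs⟩, hs0⟩ := (hker _).1 (show algebraMap A (Localization.AtPrime m) (φ b) = 0 from hb)
  let S : Matrix F F A := Matrix.of fun i j => (DirectSum.decompose 𝒜 s (i.1 - j.1) : A)
  have hSx : S.mulVec (fun j => x j.1) = 0 := by
    funext i
    have h := congrArg (fun z => (DirectSum.decompose 𝒜 z i.1 : A)) hs0
    simp only [hsum, Finset.mul_sum, decompose_sum', decompose_mul_mem 𝒜 (hx _), DirectSum.decompose_zero, DirectSum.zero_apply,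
      ZeroMemClass.coe_zero] at h
    show ∑ j : F, (DirectSum.decompose 𝒜 s (i.1 - j.1) : A) * x j.1 = 0
    rw [← h]
    exact Finset.sum_coe_sort F (fun j => (DirectSum.decompose 𝒜 s (i.1 - j) : A) * x j)
  have hdet : S.det • (fun j : F => x j.1) = 0 := by
    rw [← Matrix.one_mulVec (S.det • fun j : F => x j.1), Matrix.mulVec_smul, ← Matrix.smul_mulVec, ← Matrix.adjugate_mul,
      ← Matrix.mulVec_mulVec, hSx, Matrix.mulVec_zero]
  have hdm : S.det ∉ m := by
    intro h
    rw [← Ideal.Quotient.eq_zero_iff_mem, RingHom.map_det] at h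
    have h1 : (Ideal.Quotient.mk m).mapMatrix S = Matrix.diagonal fun _ => Ideal.Quotient.mk m (DirectSum.decompose 𝒜 s 0 : A) := by
      ext i j
      by_cases hij : i = j
      · subst hij; simp [S, sub_self]
        rw [sub_self]
      · simp only [RingHom.mapMatrix_apply, Matrix.map_apply, Matrix.diagonal_apply_ne _ hij]
        exact Ideal.Quotient.eq_zero_iff_mem.2 (hfix _ (sub_ne_zero.2 fun h => hij (Subtype.ext h)) _ (SetLike.coe_mem _))
    rw [h1, Matrix.det_diagonal, Finset.prod_const] at h
    exact comp_zero_notMem 𝒜 hfix hs (Ideal.Quotient.eq_zero_iff_mem.1 (eq_zero_of_pow_eq_zero h))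
  show algebraMap A (Localization.AtPrime m) (φ (DirectSum.decompose ℬ b e : B)) = 0
  exact (hker _).2 ⟨⟨S.det, hdm⟩, congrFun hdet ⟨e, Finset.mem_insert_self _ _⟩⟩

end Groth.Agent.S18791
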