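import Groth.Statements.S18792
import Mathlib.Tactic

set_option autoImplicit false
universe u
open DefMod

namespace Groth.Agent.S18792

/-- Let A be an associative unital algebra over ℚ, let a ∈ A be nilpotent and let b ∈ A. Then the
commutator map x ↦ a x − x a is a nilpotent ℚ-linear endomorphism of A, and exp(a) b exp(−a) =
exp(ad a)(b), where exp is the finite exponential series of a nilpotent element and ad a is the
commutator map. (The published statement takes A an algebra over an arbitrary commutative ring; the
factorials in the exponential series require the rationals to act, so A is taken to be a ℚ-algebra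
here. The intermediate double-sum expansion printed between the two sides is not restated.) -/
theorem result {A : Type u} [Ring A] [Algebra ℚ A] (a b : A)
    (ha : IsNilpotent a) :
    IsNilpotent (LinearMap.mulLeft ℚ a - LinearMap.mulRight ℚ a) ∧
      IsNilpotent.exp a * b * IsNilpotent.exp (-a) =
        IsNilpotent.exp (LinearMap.mulLeft ℚ a - LinearMap.mulRight ℚ a) b := by
  obtain ⟨N, hN⟩ := ha
  have hL : IsNilpotent (LinearMap.mulLeft ℚ a) := ⟨N, by rw [LinearMap.pow_mulLeft, hN, LinearMap.mulLeft_zero_eq_zero]⟩
  have hR : IsNilpotent (-LinearMap.mulRight ℚ a) := IsNilpotent.neg ⟨N, by rw [LinearMap.pow_mulRight, hN, LinearMap.mulRight_zero_eq_zero]⟩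
  have hc : Commute (LinearMap.mulLeft ℚ a) (-LinearMap.mulRight ℚ a) :=
    (LinearMap.commute_mulLeft_right a a).neg_right
  have hn : IsNilpotent (LinearMap.mulLeft ℚ a - LinearMap.mulRight ℚ a) := by
    rw [sub_eq_add_neg]; exact hc.isNilpotent_add hL hR
  refine ⟨hn, ?_⟩
  have e1 : IsNilpotent.exp (LinearMap.mulLeft ℚ a) = LinearMap.mulLeft ℚ (IsNilpotent.exp a) :=
    (IsNilpotent.map_exp (a := a) ⟨N, hN⟩ (Algebra.lmul ℚ A)).symm
  have e2 : ∀ x, IsNilpotent.exp (-LinearMap.mulRight ℚ a) x = x * IsNilpotent.exp (-a) := by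
    intro x
    have h1 : (-a) ^ N = 0 := by rw [neg_pow, hN, mul_zero]
    have h2 : (-LinearMap.mulRight ℚ a) ^ N = 0 := by
      rw [show -LinearMap.mulRight ℚ a = LinearMap.mulRight ℚ (-a) from LinearMap.ext fun y => (mul_neg y a).symm,
        LinearMap.pow_mulRight, h1, LinearMap.mulRight_zero_eq_zero]
    rw [IsNilpotent.exp_eq_sum h1, IsNilpotent.exp_eq_sum h2, LinearMap.sum_apply, Finset.mul_sum]
    refine Finset.sum_congr rfl fun i _ => ?_
    rw [LinearMap.smul_apply, mul_smul_comm]
    congr 1
    rw [show -LinearMap.mulRight ℚ a = LinearMap.mulRight ℚ (-a) from LinearMap.ext fun y => (mul_neg y a).symm,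
      LinearMap.pow_mulRight, LinearMap.mulRight_apply]
  rw [sub_eq_add_neg, IsNilpotent.exp_add_of_commute hc hL hR, Module.End.mul_apply, e2, e1, LinearMap.mulLeft_apply,
    mul_assoc]

end Groth.Agent.S18792
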