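import Groth.Statements.S18794
import Mathlib


set_option autoImplicit false
universe u v w
open scoped TensorProduct
open DefMod

namespace Groth.Agent.S18794

/-- Let E be a left module over an associative algebra D over a field K of characteristic zero. For a
field extension L of K, the base change L ⊗_K E is a module over L ⊗_K D, i.e. an L-vector space
with a commuting action of D; call it irreducible when it is nonzero and its only L-subspaces stable
under every element of D are 0 and the whole space. Then E is absolutely irreducible (its base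
change to an algebraic closure of K is irreducible) if and only if L ⊗_K E is irreducible for every
finite extension L of K. (Finite extensions are taken in the universe of K.) -/
theorem result
    {K : Type u} [Field K] [CharZero K]
    {D : Type v} [Ring D] [Algebra K D]
    {E : Type w} [AddCommGroup E] [Module K E] [Module D E] [IsScalarTower K D E] :
    (Nontrivial (AlgebraicClosure K ⊗[K] E) ∧ ∀ N : Submodule (AlgebraicClosure K) (AlgebraicClosure K ⊗[K] E), (∀ (d : D) (x : AlgebraicClosure K ⊗[K] E), x ∈ N → (DistribSMul.toLinearMap K E d).baseChange (AlgebraicClosure K) x ∈ N) → N = ⊥ ∨ N = ⊤) ↔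
      ∀ (L : Type u) [Field L] [Algebra K L] [FiniteDimensional K L],
        (Nontrivial (L ⊗[K] E) ∧ ∀ N : Submodule (L) (L ⊗[K] E), (∀ (d : D) (x : L ⊗[K] E), x ∈ N → (DistribSMul.toLinearMap K E d).baseChange (L) x ∈ N) → N = ⊥ ∨ N = ⊤) := by
  let C := AlgebraicClosure K
  let δ : D → E →ₗ[K] E := fun d => DistribSMul.toLinearMap K E d
  constructor
  · rintro ⟨hnt, hirr⟩ L _ _ _
    let ι : L →ₐ[K] C := IsAlgClosed.lift
    let j : L ⊗[K] E →ₗ[K] C ⊗[K] E := ι.toLinearMap.rTensor E
    have hj : Function.Injective j := Module.Flat.rTensor_preserves_injective_linearMap _ ι.injective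
    have hjc : ∀ (d : D) y, j ((δ d).baseChange L y) = (δ d).baseChange C (j y) := fun d y => by
      induction y with
      | zero => simp
      | tmul l e => simp [j]
      | add a b ha hb => simp [map_add, ha, hb]
    refine ⟨?_, fun N hN => ?_⟩
    · by_contra hnt'
      rw [not_nontrivial_iff_subsingleton] at hnt'
      obtain ⟨z, hz⟩ := exists_ne (0 : C ⊗[K] E)
      refine hz ?_
      induction z with
      | zero => rfl
      | tmul c e =>
        have h1 : (1 : C) ⊗ₜ[K] e = 0 := by
          have := congrArg j (Subsingleton.elim ((1 : L) ⊗ₜ[K] e) 0)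
          simpa [j] using this
        rw [show c ⊗ₜ[K] e = c • ((1 : C) ⊗ₜ[K] e) by rw [TensorProduct.smul_tmul', smul_eq_mul, mul_one],
          h1, smul_zero]
      | add a b ha hb =>
        by_cases h : a = 0
        · by_cases h' : b = 0
          · simp [h, h']
          · exact absurd (hb h') h'
        · exact absurd (ha h) h
    · by_cases htop : N = ⊤
      · exact Or.inr htop
      left
      have hstable : ∀ (d : D) x, x ∈ Submodule.span C (j '' N) →
          (δ d).baseChange C x ∈ Submodule.span C (j '' N) := by
        intro d x hx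
        induction hx using Submodule.span_induction with
        | mem x hx =>
          obtain ⟨y, hy, rfl⟩ := hx
          rw [← hjc]
          exact Submodule.subset_span ⟨_, hN d y hy, rfl⟩
        | zero => simp
        | add a b _ _ ha hb => rw [map_add]; exact add_mem ha hb
        | smul c a _ ha => rw [map_smul]; exact Submodule.smul_mem _ c ha
      rcases hirr _ hstable with h | h
      · rw [Submodule.eq_bot_iff]
        intro y hy
        have : j y = 0 := by
          rw [← Submodule.mem_bot C, ← h]; exact Submodule.subset_span ⟨y, hy, rfl⟩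
        exact hj (this.trans (map_zero j).symm)
      · exfalso
        obtain ⟨ℓ, hℓ0, hℓ⟩ := Submodule.exists_le_ker_of_lt_top N (lt_top_iff_ne_top.2 htop)
        let g : E →ₗ[K] C :=
          ι.toLinearMap.comp ((ℓ.restrictScalars K).comp (TensorProduct.mk K L E 1))
        let ℓ' : C ⊗[K] E →ₗ[C] C := (LinearMap.liftBaseChangeEquiv C) g
        have hℓ' : ∀ y, ℓ' (j y) = ι (ℓ y) := fun y => by
          induction y with
          | zero => simp
          | tmul l e =>
            rw [show l ⊗ₜ[K] e = l • ((1 : L) ⊗ₜ[K] e) by rw [TensorProduct.smul_tmul', smul_eq_mul, mul_one],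
              map_smul ℓ, smul_eq_mul, map_mul]
            simp [j, ℓ', g, TensorProduct.smul_tmul']
          | add a b ha hb => simp [map_add, ha, hb]
        have hle : Submodule.span C (j '' N) ≤ LinearMap.ker ℓ' := Submodule.span_le.2 (by
          rintro _ ⟨y, hy, rfl⟩
          rw [SetLike.mem_coe, LinearMap.mem_ker, hℓ', hℓ hy, map_zero])
        refine hℓ0 (LinearMap.ext fun y => ι.injective ?_)
        show ι (ℓ y) = ι ((0 : L ⊗[K] E →ₗ[L] L) y)
        rw [← hℓ', LinearMap.zero_apply, map_zero]
        exact LinearMap.mem_ker.1 (hle (h ▸ Submodule.mem_top))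
  · intro hL
    have hnt : Nontrivial (C ⊗[K] E) := by
      obtain ⟨⟨a, b, hab⟩, -⟩ := hL K
      refine ⟨(Algebra.ofId K C).toLinearMap.rTensor E a, (Algebra.ofId K C).toLinearMap.rTensor E b,
        fun h => hab (Module.Flat.rTensor_preserves_injective_linearMap _ (RingHom.injective _) h)⟩
    refine ⟨hnt, fun N hN => ?_⟩
    by_cases hbot : N = ⊥
    · exact Or.inl hbot
    right
    obtain ⟨x, hx, hx0⟩ := N.exists_mem_ne_zero_of_ne_bot hbot
    obtain ⟨s, hs⟩ := TensorProduct.exists_finset x
    let L : IntermediateField K C := IntermediateField.adjoin K ((fun p => p.1) '' (s : Set (C × E)))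
    haveI : FiniteDimensional K L := by
      haveI : Finite ((fun p => p.1) '' (s : Set (C × E))) := (s.finite_toSet.image _).to_subtype
      exact IntermediateField.finiteDimensional_adjoin fun z _ => Algebra.IsIntegral.isIntegral z
    let j : L ⊗[K] E →ₗ[K] C ⊗[K] E := L.val.toLinearMap.rTensor E
    have hxL : ∃ y, j y = x := by
      refine ⟨∑ p ∈ s.attach, (⟨p.1.1, IntermediateField.subset_adjoin _ _ ⟨p.1, p.2, rfl⟩⟩ : L) ⊗ₜ[K] p.1.2, ?_⟩
      rw [map_sum, hs]
      simp only [j, LinearMap.rTensor_tmul]
      exact Finset.sum_attach s (fun p => p.1 ⊗ₜ[K] p.2)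
    have hjsmul : ∀ (l : L) y, j (l • y) = (l : C) • j y := fun l y => by
      induction y with
      | zero => simp
      | tmul a e => simp [j, TensorProduct.smul_tmul']
      | add a b ha hb => simp [smul_add, map_add, ha, hb]
    let N' : Submodule L (L ⊗[K] E) :=
      { carrier := {y | j y ∈ N}
        add_mem' := fun {a b} ha hb => by
          show j (a + b) ∈ N
          rw [map_add]; exact N.add_mem ha hb
        zero_mem' := by show j 0 ∈ N; rw [map_zero]; exact N.zero_mem
        smul_mem' := fun l a ha => by
          show j (l • a) ∈ N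
          rw [hjsmul]; exact N.smul_mem _ ha }
    have hN' : ∀ (d : D) y, y ∈ N' → (δ d).baseChange L y ∈ N' := fun d y hy => by
      show j ((δ d).baseChange L y) ∈ N
      have : j ((δ d).baseChange L y) = (δ d).baseChange C (j y) := by
        clear hy
        induction y with
        | zero => simp
        | tmul l e => simp [j]
        | add a b ha hb => simp [map_add, ha, hb]
      rw [this]
      exact hN d _ hy
    rcases (hL L).2 N' hN' with h | h
    · obtain ⟨y, rfl⟩ := hxL
      have : y ∈ N' := hx
      rw [h, Submodule.mem_bot] at this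
      exact absurd (by rw [this, map_zero]) hx0
    · rw [Submodule.eq_top_iff']
      intro z
      induction z with
      | zero => exact N.zero_mem
      | tmul c e =>
        have : (1 : L) ⊗ₜ[K] e ∈ N' := h ▸ Submodule.mem_top
        have h1 : (1 : C) ⊗ₜ[K] e ∈ N := by
          have h2 : j ((1 : L) ⊗ₜ[K] e) ∈ N := this
          simpa [j] using h2
        rw [show c ⊗ₜ[K] e = c • ((1 : C) ⊗ₜ[K] e) by rw [TensorProduct.smul_tmul', smul_eq_mul, mul_one]]
        exact N.smul_mem _ h1
      | add a b ha hb => exact N.add_mem ha hb

end Groth.Agent.S18794
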