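import Groth.Statements.S18795
import Mathlib


set_option autoImplicit false
universe u v w
open scoped TensorProduct
open DefMod

namespace Groth.Agent.S18795

/-- Let E be a left module over an associative algebra D over a field K of characteristic zero. Assume
that the D-linear endomorphisms of E form a finite-dimensional K-vector space, that E has a finite
presentation over D, and that E is absolutely irreducible: its base change K̄ ⊗_K E to an algebraic
closure K̄ of K is nonzero and its only K̄-subspaces stable under every element of D are 0 and the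
whole space. Then End_D(E) = K: every D-linear endomorphism of E is multiplication by a scalar from
K. -/
theorem result
    {K : Type u} [Field K] [CharZero K]
    {D : Type v} [Ring D] [Algebra K D]
    {E : Type w} [AddCommGroup E] [Module K E] [Module D E] [IsScalarTower K D E]
    [Module.Finite K (E →ₗ[D] E)] [Module.FinitePresentation D E]
    (habs : (Nontrivial (AlgebraicClosure K ⊗[K] E) ∧ ∀ N : Submodule (AlgebraicClosure K) (AlgebraicClosure K ⊗[K] E), (∀ (d : D) (x : AlgebraicClosure K ⊗[K] E), x ∈ N → (DistribSMul.toLinearMap K E d).baseChange (AlgebraicClosure K) x ∈ N) → N = ⊥ ∨ N = ⊤))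
    (φ : E →ₗ[D] E) : ∃ c : K, ∀ x : E, φ x = c • x := by
  obtain ⟨hnt, hirr⟩ := habs
  let C := AlgebraicClosure K
  let ψ : E →ₗ[K] E := φ.restrictScalars K
  let Ψ : Module.End C (C ⊗[K] E) := ψ.baseChange C
  have hΨ : ∀ (d : D) x, Ψ ((DistribSMul.toLinearMap K E d).baseChange C x) =
      (DistribSMul.toLinearMap K E d).baseChange C (Ψ x) := fun d x => by
    induction x with
    | zero => simp
    | tmul c e => simp [Ψ, ψ, φ.map_smul]
    | add a b ha hb => simp only [map_add, ha, hb]
  have hker : ∀ c : C, LinearMap.ker (Ψ - algebraMap C (Module.End C (C ⊗[K] E)) c) = ⊥ ∨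
      Ψ = algebraMap C (Module.End C (C ⊗[K] E)) c := fun c => by
    rcases hirr (LinearMap.ker (Ψ - algebraMap C (Module.End C (C ⊗[K] E)) c)) (fun d x hx => by
      simp only [LinearMap.mem_ker, LinearMap.sub_apply, sub_eq_zero] at hx ⊢
      rw [hΨ, hx]
      exact ((DistribSMul.toLinearMap K E d).baseChange C).map_smul c x) with h | h
    · exact Or.inl h
    · exact Or.inr (sub_eq_zero.1 (LinearMap.ker_eq_top.1 h))
  obtain ⟨p, hpm, hp⟩ : IsIntegral K ψ := by
    obtain ⟨p, hpm, hp⟩ := Algebra.IsIntegral.isIntegral (R := K) (A := Module.End D E) φ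
    refine ⟨p, hpm, ?_⟩
    let F : Module.End D E →ₐ[K] Module.End K E :=
      { toFun := fun g => g.restrictScalars K
        map_one' := rfl
        map_mul' := fun _ _ => rfl
        map_zero' := rfl
        map_add' := fun _ _ => rfl
        commutes' := fun _ => rfl }
    show Polynomial.aeval (F φ) p = 0
    rw [Polynomial.aeval_algHom_apply, show Polynomial.aeval φ p = 0 from hp, map_zero]
  have hΨp : Polynomial.aeval Ψ (p.map (algebraMap K C)) = 0 := by
    rw [Polynomial.aeval_map_algebraMap]
    show Polynomial.aeval (Module.End.baseChangeHom K C E ψ) p = 0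
    rw [Polynomial.aeval_algHom_apply, show Polynomial.aeval ψ p = 0 from hp, map_zero]
  have hex : ∃ c : C, Ψ = algebraMap C (Module.End C (C ⊗[K] E)) c := by
    by_contra hne
    push Not at hne
    have hinj : ∀ s : Multiset C, Function.Injective
        (Polynomial.aeval Ψ (s.map fun a => Polynomial.X - Polynomial.C a).prod) := by
      intro s
      induction s using Multiset.induction with
      | empty => simp [Function.Injective]
      | cons a s ih =>
        rw [Multiset.map_cons, Multiset.prod_cons, map_mul, Module.End.mul_eq_comp, LinearMap.coe_comp]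
        refine Function.Injective.comp ?_ ih
        rw [← LinearMap.ker_eq_bot, map_sub, Polynomial.aeval_X, Polynomial.aeval_C]
        exact (hker a).resolve_right (hne a)
    have h := hinj (p.map (algebraMap K C)).roots
    rw [← (IsAlgClosed.splits (p.map (algebraMap K C))).eq_prod_roots_of_monic (hpm.map _), hΨp] at h
    obtain ⟨z, hz⟩ := exists_ne (0 : C ⊗[K] E)
    exact hz (h rfl)
  obtain ⟨c, hc⟩ := hex
  have hc' : ∀ x : E, (1 : C) ⊗ₜ[K] φ x = c ⊗ₜ[K] x := fun x => by
    simpa [Ψ, ψ, TensorProduct.smul_tmul'] using DFunLike.congr_fun hc ((1 : C) ⊗ₜ[K] x)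
  obtain ⟨x₀, hx₀⟩ : ∃ x : E, x ≠ 0 := by
    by_contra h
    push Not at h
    obtain ⟨z, hz⟩ := exists_ne (0 : C ⊗[K] E)
    refine hz ?_
    induction z with
    | zero => rfl
    | tmul a e => rw [h e, TensorProduct.tmul_zero]
    | add a b ha hb =>
      by_cases h : a = 0
      · by_cases h' : b = 0
        · simp [h, h']
        · exact absurd (hb h') h'
      · exact absurd (ha h) h
  obtain ⟨ℓ, hℓ⟩ := Module.Projective.exists_dual_eq_one K hx₀
  refine ⟨ℓ (φ x₀), fun y => ?_⟩
  have hcK : c = algebraMap K C (ℓ (φ x₀)) := by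
    have := congrArg (TensorProduct.rid K C ∘ ℓ.lTensor C) (hc' x₀)
    simpa [hℓ, Algebra.smul_def] using this.symm
  apply Module.Flat.rTensor_preserves_injective_linearMap (M := E) (Algebra.linearMap K C)
    (RingHom.injective _) |>.comp (TensorProduct.lid K E).symm.injective
  show algebraMap K C 1 ⊗ₜ[K] φ y = algebraMap K C 1 ⊗ₜ[K] (ℓ (φ x₀) • y)
  rw [map_one, hc', hcK, TensorProduct.tmul_smul, TensorProduct.smul_tmul', Algebra.algebraMap_eq_smul_one]

end Groth.Agent.S18795
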