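import Groth.Statements.S18796
import Mathlib


set_option autoImplicit false
universe u v w w' u'
open scoped TensorProduct
open DefMod

namespace Groth.Agent.S18796

/-- Let K be a field of characteristic zero, D an associative K-algebra, E a left D-module that is
finitely presented over D, F a left D-module and P a commutative K-algebra. The canonical P-linear
map Φ : P ⊗_K Hom_D(E, F) → Hom_P(P ⊗_K E, P ⊗_K F), determined by p ⊗ f ↦ p · (1_P ⊗ f), is
injective, and its image consists exactly of the P-linear maps that commute with the action of every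
element of D; in other words Φ identifies P ⊗_K Hom_D(E, F) with the module of homomorphisms P ⊗_K E
→ P ⊗_K F over P ⊗_K D. The map Φ is pinned here by its values on pure tensors. -/
theorem result
    {K : Type u} [Field K] [CharZero K]
    {D : Type v} [Ring D] [Algebra K D]
    {E : Type w} [AddCommGroup E] [Module K E] [Module D E] [IsScalarTower K D E]
    [Module.FinitePresentation D E]
    {F : Type w'} [AddCommGroup F] [Module K F] [Module D F] [IsScalarTower K D F]
    (P : Type u') [CommRing P] [Algebra K P]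
    (Φ : P ⊗[K] (E →ₗ[D] F) →ₗ[P] (P ⊗[K] E →ₗ[P] P ⊗[K] F))
    (hΦ : ∀ (p : P) (f : E →ₗ[D] F), Φ (p ⊗ₜ[K] f) = p • (f.restrictScalars K).baseChange P) :
    Function.Injective Φ ∧
      ∀ g : P ⊗[K] E →ₗ[P] P ⊗[K] F,
        g ∈ LinearMap.range Φ ↔
          ∀ d : D, g ∘ₗ (DistribSMul.toLinearMap K E d).baseChange P =
            (DistribSMul.toLinearMap K F d).baseChange P ∘ₗ g := by
  classical
  obtain ⟨ι, ⟨b⟩⟩ := Module.Basis.exists_basis K P
  have hΦ1 : ∀ p f (x : E), Φ (p ⊗ₜ[K] f) (1 ⊗ₜ[K] x) = p ⊗ₜ[K] f x := fun p f x => by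
    rw [hΦ]; simp [TensorProduct.smul_tmul']
  let eF := TensorProduct.equivFinsuppOfBasisLeft (N := F) b
  let eH := TensorProduct.equivFinsuppOfBasisLeft (N := E →ₗ[D] F) b
  have hco : ∀ (z : P ⊗[K] (E →ₗ[D] F)) (x : E) i, eF (Φ z (1 ⊗ₜ[K] x)) i = eH z i x := fun z x i => by
    induction z with
    | zero => simp
    | tmul p f =>
      rw [hΦ1, TensorProduct.equivFinsuppOfBasisLeft_apply_tmul_apply,
        TensorProduct.equivFinsuppOfBasisLeft_apply_tmul_apply, LinearMap.smul_apply]
    | add a c ha hc => simp [map_add, ha, hc]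
  refine ⟨(injective_iff_map_eq_zero Φ).2 fun z hz => ?_, fun g => ⟨?_, fun hg => ?_⟩⟩
  · refine eH.injective (Finsupp.ext fun i => LinearMap.ext fun x => ?_)
    rw [← hco, hz]
    simp
  · rintro ⟨z, rfl⟩ d
    induction z with
    | zero => simp
    | tmul p f =>
      rw [hΦ]
      refine TensorProduct.AlgebraTensorModule.ext fun q x => ?_
      simp [f.map_smul, TensorProduct.smul_tmul']
    | add a c ha hc => rw [map_add, LinearMap.add_comp, LinearMap.comp_add, ha, hc]
  · have hg' : ∀ (d : D) (x : E), g (1 ⊗ₜ[K] (d • x)) =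
        (DistribSMul.toLinearMap K F d).baseChange P (g (1 ⊗ₜ[K] x)) := fun d x =>
      DFunLike.congr_fun (hg d) (1 ⊗ₜ[K] x)
    have hd : ∀ (d : D) (y : P ⊗[K] F) i, eF ((DistribSMul.toLinearMap K F d).baseChange P y) i = d • eF y i := by
      intro d y i
      induction y with
      | zero => simp
      | tmul p f =>
        rw [LinearMap.baseChange_tmul, TensorProduct.equivFinsuppOfBasisLeft_apply_tmul_apply,
          TensorProduct.equivFinsuppOfBasisLeft_apply_tmul_apply]
        exact (smul_comm d (b.repr p i) f).symm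
      | add a c ha hc => simp [map_add, ha, hc]
    let gi : ι → (E →ₗ[D] F) := fun i =>
      { toFun := fun x => eF (g (1 ⊗ₜ[K] x)) i
        map_add' := fun x y => by rw [TensorProduct.tmul_add, map_add, map_add, Finsupp.add_apply]
        map_smul' := fun d x => by rw [hg', hd]; rfl }
    obtain ⟨S, hS⟩ := (Module.Finite.fg_top (R := D) (M := E))
    let T : Finset ι := S.biUnion fun x => (eF (g (1 ⊗ₜ[K] x))).support
    have hsupp : ∀ i, gi i ≠ 0 → i ∈ T := fun i hi => by
      by_contra hiT
      refine hi (LinearMap.ext_on hS fun x hx => ?_)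
      show eF (g (1 ⊗ₜ[K] x)) i = 0
      by_contra h
      exact hiT (Finset.mem_biUnion.2 ⟨x, hx, Finsupp.mem_support_iff.2 h⟩)
    refine ⟨eH.symm (Finsupp.onFinset T gi hsupp), TensorProduct.AlgebraTensorModule.ext fun q x => ?_⟩
    rw [show q ⊗ₜ[K] x = q • ((1 : P) ⊗ₜ[K] x) by rw [TensorProduct.smul_tmul', smul_eq_mul, mul_one],
      map_smul, map_smul]
    congr 1
    refine eF.injective (Finsupp.ext fun i => ?_)
    rw [hco, LinearEquiv.apply_symm_apply, Finsupp.onFinset_apply]
    rfl

end Groth.Agent.S18796
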