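import Groth.Statements.S18802
import Mathlib.LinearAlgebra.Basis.VectorSpace
import Mathlib.Algebra.Module.Projective
import Mathlib.Algebra.Exact.Basic

set_option autoImplicit false
universe u v w w' w''
open DefMod

namespace Groth.Agent.S18802

/-- Let K be a field of characteristic zero, D an associative K-algebra and E, F left D-modules. A
K-linear map s : D → Hom_K(E, F) with s(ab)(e) = a s(b)(e) + s(a)(b e) (a derivation into the
bimodule Hom_K(E, F), i.e. a Hochschild 1-cocycle) defines the twisted sum F ⊕_s E = F × E with a ·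
(f, e) = (a f + s(a) e, a e), an extension of E by F. Every extension of left D-modules 0 → F → Q →
E → 0 arises this way: there are such an s and a D-linear isomorphism Q ≅ F ⊕_s E carrying the given
map F → Q to the inclusion f ↦ (f, 0) and compatible with the two projections onto E. (Together with
the splitting criterion this identifies derivations modulo principal derivations with Ext¹_D(E, F);
the compatibility of that identification with addition and scalars is not restated.) -/
theorem result
    {K : Type u} [Field K] [CharZero K]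
    {D : Type v} [Ring D] [Algebra K D]
    {E : Type w} [AddCommGroup E] [Module K E] [Module D E] [IsScalarTower K D E]
    {F : Type w'} [AddCommGroup F] [Module K F] [Module D F] [IsScalarTower K D F]
    {Q : Type w''} [AddCommGroup Q] [Module D Q]
    (i : F →ₗ[D] Q) (p : Q →ₗ[D] E) (hi : Function.Injective i) (hp : Function.Surjective p)
    (hex : Function.Exact i p) :
    ∃ (s : D →ₗ[K] E →ₗ[K] F) (hs : W4c6defoisocp1.IsHomDerivation s) (Φ : Q ≃ₗ[D] W4c6defoisocp1.TwistExt s hs),
      (∀ f : F, Φ (i f) = W4c6defoisocp1.TwistExt.inl f) ∧ ∀ q : Q, W4c6defoisocp1.TwistExt.snd (Φ q) = p q := by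
  classical
  letI : Module K Q := Module.compHom Q (algebraMap K D)
  haveI : IsScalarTower K D Q := IsScalarTower.of_algebraMap_smul fun _ _ => rfl
  let p' : Q →ₗ[K] E := p.restrictScalars K
  let i' : F →ₗ[K] Q := i.restrictScalars K
  obtain ⟨σ, hσ⟩ := p'.exists_rightInverse_of_surjective (LinearMap.range_eq_top.2 hp)
  obtain ⟨ρ, hρ⟩ := i'.exists_leftInverse_of_injective (LinearMap.ker_eq_bot.2 hi)
  have hσ' : ∀ e, p (σ e) = e := fun e => LinearMap.congr_fun hσ e
  have hρ' : ∀ f, ρ (i f) = f := fun f => LinearMap.congr_fun hρ f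
  let s : D →ₗ[K] E →ₗ[K] F := LinearMap.mk₂ K (fun a e => ρ (a • σ e - σ (a • e)))
    (fun a b e => by simp only [add_smul, map_add, map_sub]; abel)
    (fun c a e => by rw [smul_assoc, smul_assoc, map_smul, ← smul_sub, map_smul])
    (fun a e e' => by simp only [smul_add, map_add, map_sub]; abel)
    (fun c a e => by rw [map_smul, smul_comm a c, smul_comm a c, map_smul, ← smul_sub, map_smul])
  have hsi : ∀ a e, i (s a e) = a • σ e - σ (a • e) := by
    intro a e
    obtain ⟨f, hf⟩ := (hex (a • σ e - σ (a • e))).1 (by rw [map_sub, map_smul, hσ', hσ', sub_self])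
    show i (ρ (a • σ e - σ (a • e))) = _
    rw [← hf, hρ']
  have hs : W4c6defoisocp1.IsHomDerivation s := fun a b e => hi (by
    rw [map_add, map_smul, hsi, hsi, hsi, mul_smul, mul_smul, smul_sub]; abel)
  have hdec : ∀ q, i (ρ (q - σ (p q))) = q - σ (p q) := by
    intro q
    obtain ⟨f, hf⟩ := (hex (q - σ (p q))).1 (by rw [map_sub, hσ', sub_self])
    rw [← hf, hρ']
  refine ⟨s, hs, LinearEquiv.ofBijective (M₂ := W4c6defoisocp1.TwistExt s hs)
    { toFun := fun q => W4c6defoisocp1.TwistExt.mk (ρ (q - σ (p q)), p q)
      map_add' := fun q q' => W4c6defoisocp1.TwistExt.ext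
        (hi (by
          simp only [W4c6defoisocp1.TwistExt.val_mk, W4c6defoisocp1.TwistExt.val_add, Prod.fst_add]
          rw [hdec, map_add i, hdec, hdec, map_add p, map_add σ]; abel))
        (by simp)
      map_smul' := fun a q => W4c6defoisocp1.TwistExt.ext
        (hi (by
          simp only [W4c6defoisocp1.TwistExt.val_mk, W4c6defoisocp1.TwistExt.val_smul, RingHom.id_apply]
          rw [hdec, map_add i, map_smul i, hdec, hsi, map_smul p, smul_sub]
          abel))
        (by simp) }
    ⟨?_, ?_⟩, fun f => ?_, fun q => rfl⟩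
  · rw [injective_iff_map_eq_zero]
    intro q hq
    have h1 : ρ (q - σ (p q)) = 0 := congrArg (fun x => (W4c6defoisocp1.TwistExt.val x).1) hq
    have h2 : p q = 0 := congrArg (fun x => (W4c6defoisocp1.TwistExt.val x).2) hq
    have h3 := hdec q
    rw [h1, map_zero, h2, map_zero, sub_zero] at h3
    exact h3.symm
  · intro x
    obtain ⟨⟨f, e⟩, rfl⟩ : ∃ y, W4c6defoisocp1.TwistExt.mk y = x := ⟨_, rfl⟩
    refine ⟨i f + σ e, W4c6defoisocp1.TwistExt.ext ?_ ?_⟩
    · have h1 : p (i f + σ e) = e := by rw [map_add, hσ', hex.apply_apply_eq_zero, zero_add]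
      simp [h1, hρ']
    · simp [hσ', hex.apply_apply_eq_zero]
  · refine W4c6defoisocp1.TwistExt.ext ?_ ?_
    · simp [hex.apply_apply_eq_zero, hρ']
    · simp [hex.apply_apply_eq_zero]

end Groth.Agent.S18802
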