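import Groth.Statements.S18803


set_option autoImplicit false
universe u v w w'
open DefMod

namespace Groth.Agent.S18803

/-- Let K be a field of characteristic zero, D an associative K-algebra, E and F left D-modules, and s :
D → Hom_K(E, F) a K-linear map with s(ab)(e) = a s(b)(e) + s(a)(b e). The twisted sum F ⊕_s E (that
is F × E with a · (f, e) = (a f + s(a) e, a e)) is a trivial extension of E by F — there is a
D-linear isomorphism F ⊕_s E ≅ F × E with the direct-sum module structure, carrying the inclusion f
↦ (f, 0) to itself and compatible with the second projections — if and only if s is principal: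
s(a)(e) = a σ(e) − σ(a e) for some K-linear σ : E → F (a Hochschild 1-coboundary). -/
theorem result
    {K : Type u} [Field K] [CharZero K]
    {D : Type v} [Ring D] [Algebra K D]
    {E : Type w} [AddCommGroup E] [Module K E] [Module D E] [IsScalarTower K D E]
    {F : Type w'} [AddCommGroup F] [Module K F] [Module D F] [IsScalarTower K D F]
    (s : D →ₗ[K] E →ₗ[K] F) (hs : W4c6defoisocp1.IsHomDerivation s) :
    (∃ Ψ : W4c6defoisocp1.TwistExt s hs ≃ₗ[D] F × E,
        (∀ f : F, Ψ (W4c6defoisocp1.TwistExt.inl f) = (f, 0)) ∧ ∀ x : W4c6defoisocp1.TwistExt s hs, (Ψ x).2 = W4c6defoisocp1.TwistExt.snd x) ↔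
      W4c6defoisocp1.IsPrincipal s := by
  constructor
  · rintro ⟨Ψ, hinl, hsnd⟩
    have hzero : ∀ c : K, s (algebraMap K D c) = 0 := fun c => by
      rw [Algebra.algebraMap_eq_smul_one, map_smul, W4c6defoisocp1.TwistExt.map_one_eq_zero hs, smul_zero]
    let em : E → W4c6defoisocp1.TwistExt s hs := fun e => W4c6defoisocp1.TwistExt.mk (0, e)
    let τ : E →ₗ[K] F :=
      { toFun := fun e => (Ψ (em e)).1
        map_add' := fun e e' => by
          have h : em (e + e') = em e + em e' := W4c6defoisocp1.TwistExt.ext (by simp [em]) (by simp [em])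
          rw [h, map_add, Prod.fst_add]
        map_smul' := fun c e => by
          have h : em (c • e) = algebraMap K D c • em e :=
            W4c6defoisocp1.TwistExt.ext (by simp [em, hzero]) (by simp [em, algebraMap_smul])
          rw [h, map_smul, Prod.smul_fst, algebraMap_smul, RingHom.id_apply] }
    refine ⟨τ, fun a e => ?_⟩
    have h : a • em e = W4c6defoisocp1.TwistExt.inl (s a e) + em (a • e) :=
      W4c6defoisocp1.TwistExt.ext (by simp [em]) (by simp [em])
    have h1 := congrArg (fun x => (Ψ x).1) h
    simp only [map_smul, map_add, Prod.smul_fst, Prod.fst_add, hinl] at h1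
    show s a e = a • (Ψ (em e)).1 - (Ψ (em (a • e))).1
    rw [h1, add_sub_cancel_right]
  · rintro ⟨σ, hσ⟩
    refine ⟨{
      toFun := fun x => ((W4c6defoisocp1.TwistExt.val x).1 + σ (W4c6defoisocp1.TwistExt.val x).2, (W4c6defoisocp1.TwistExt.val x).2)
      invFun := fun y => W4c6defoisocp1.TwistExt.mk (y.1 - σ y.2, y.2)
      map_add' := fun x y => Prod.ext (by simp; abel) (by simp)
      map_smul' := fun a x => Prod.ext (by simp [hσ, smul_add]; abel) (by simp)
      left_inv := fun x => W4c6defoisocp1.TwistExt.ext (by simp) (by simp)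
      right_inv := fun y => Prod.ext (by simp) (by simp) }, fun f => Prod.ext ?_ ?_, fun x => rfl⟩
    · simp
    · simp

end Groth.Agent.S18803
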