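import Groth.Statements.S18804
import Groth.Agent.Clifford24.Colength

set_option autoImplicit false
universe u
open CategoryTheory CategoryTheory.Limits AlgebraicGeometry
open Curves

namespace Groth.Agent.S18804

/-- Let k be an algebraically closed field of characteristic zero, X a smooth proper integral curve over
k (integral, proper and smooth over k, of dimension one) of genus g, and L an invertible O_X-module
of degree deg L = χ(L) − χ(O_X) at least 2g + 3. Then L is 3-very ample: every closed subscheme Z of
X of length 4 imposes independent conditions on H^0(X, L), stated as dim_k H^0(X, L ⊗ I) + 4 = dim_k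
H^0(X, L) for every quasi-coherent ideal I of O_X with dim_k H^0(X, O_X/I) = 4. -/
theorem result
    (k : Type u) [Field k] [IsAlgClosed k] [CharZero k]
    (X : Scheme.{u}) [X.Over (Spec (CommRingCat.of k))] [IsIntegral X]
    [IsProper (X ↘ Spec (CommRingCat.of k))] [Smooth (X ↘ Spec (CommRingCat.of k))]
    (hdim : topologicalKrullDim X = 1)
    (L : X.Modules) (hL : PicF.IsInvertible L)
    (hdeg : 2 * (Curv2.genus k X : ℤ) + 3 ≤ Curv2.deg k X L 1)
    (I : X.IdealSheafData) (hI : Module.finrank k (Coh.HH X (ClSub.quotMod I) 0) = 4) :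
    Module.finrank k (Coh.HH X (CohB1.tensorMod L (ClSub.idealMod I)) 0) + 4 =
      Module.finrank k (Coh.HH X L 0) := by
  haveI : GeometricallyConnected (X ↘ Spec (CommRingCat.of k)) :=
    Groth.Agent.SGA3cLib.CentralDescent.geometricallyConnected_of_isAlgClosed _
  haveI : GeometricallyIntegral (X ↘ Spec (CommRingCat.of k)) :=
    Groth.Agent.AbVarLib.geometricallyIntegral_of_smooth _
  haveI := Groth.Agent.EulerLib.isNoetherian_of_proper k (X := X)
  have h0 := Groth.Agent.CurveRR24.h0_structure_of_geomIntegral k (X := X)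
  have hη := Groth.Agent.Clifford24.genericPoint_notMem_support k I (by rw [hI, h0]; omega)
  have hs := Groth.Agent.CurveRR24.subsingleton_h1_idealTwist k hdim.le h0 I hη hL (by rw [hI]; push_cast; omega)
  haveI := hs
  have hchi := Groth.Agent.CurveRR24.euler_idealTwist k hdim.le I hη hL
  have hc : Coh.IsCoh (CohB1.tensorMod (ClSub.idealMod I) L) :=
    Groth.Agent.EulerLib.isCoh_twist hL (Groth.Agent.CurveRR24.isCoh_idealMod' I)
  rw [Groth.Agent.CurveRR24.euler_eq_h0_sub_h1 k hdim.le _ hc.1,
    Module.finrank_zero_of_subsingleton (M := Coh.HH X (CohB1.tensorMod (ClSub.idealMod I) L) 1), hI,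
    Groth.Agent.CurveRR24.finrank_HH_congr k (Groth.Agent.AmpleLib.tensorComm (ClSub.idealMod I) L) 0] at hchi
  have hh := Groth.Agent.Clifford24.h0_eq_of_deg k hdim hL (by omega)
  have e2 := Groth.Agent.CurveRR24.euler_eq_h0_sub_h1 k hdim.le (Coh.structureModule X)
    Groth.Agent.Coherent.isQCoh_structureModule
  rw [h0] at e2
  simp only [Curv2.deg, Curv2.genus, Nat.cast_one, Nat.cast_zero, one_mul] at hh e2 hchi ⊢
  omega

end Groth.Agent.S18804
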