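import Groth.Statements.S18805
import Groth.Agent.Clifford24.Colength
import Groth.Agent.Clifford24.IdealInv
import Groth.Agent.SGA3cLib.CentralDescent
import Groth.Agent.CurveRR24.DegOneApps

set_option autoImplicit false
universe u
open CategoryTheory CategoryTheory.Limits AlgebraicGeometry
open Curves

namespace Groth.Agent.S18805

/-- Let k be an algebraically closed field of characteristic zero and X a smooth proper integral curve
over k (integral, proper and smooth over k, of dimension one), with sheaf of differentials ω =
Ω_(X/k). Then ω is 3-very ample, meaning dim_k H^0(X, ω ⊗ I) + 4 = dim_k H^0(X, ω) for every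
quasi-coherent ideal I of O_X with dim_k H^0(X, O_X/I) = 4, if and only if X carries no g^1_4,
meaning that for every such I (the ideal of an effective divisor D of degree 4) every module M with
I ⊗ M ≅ O_X (so M plays the role of O_X(D)) has dim_k H^0(X, M) = 1. -/
theorem result
    (k : Type u) [Field k] [IsAlgClosed k] [CharZero k]
    (X : Scheme.{u}) [X.Over (Spec (CommRingCat.of k))] [IsIntegral X]
    [IsProper (X ↘ Spec (CommRingCat.of k))] [Smooth (X ↘ Spec (CommRingCat.of k))]
    (hdim : topologicalKrullDim X = 1) :
    (∀ (I : X.IdealSheafData), Module.finrank k (Coh.HH X (ClSub.quotMod I) 0) = 4 →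
      Module.finrank k (Coh.HH X (CohB1.tensorMod (Omega.sheaf (X ↘ Spec (CommRingCat.of k))) (ClSub.idealMod I)) 0) + 4 =
        Module.finrank k (Coh.HH X (Omega.sheaf (X ↘ Spec (CommRingCat.of k))) 0)) ↔
    (∀ (I : X.IdealSheafData), Module.finrank k (Coh.HH X (ClSub.quotMod I) 0) = 4 →
      ∀ (M : X.Modules), ClSub.IsInverseOf (ClSub.idealMod I) M →
        Module.finrank k (Coh.HH X M 0) = 1) := by
  haveI : GeometricallyConnected (X ↘ Spec (CommRingCat.of k)) :=
    Groth.Agent.SGA3cLib.CentralDescent.geometricallyConnected_of_isAlgClosed _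
  haveI : GeometricallyIntegral (X ↘ Spec (CommRingCat.of k)) :=
    Groth.Agent.AbVarLib.geometricallyIntegral_of_smooth _
  haveI := Groth.Agent.EulerLib.isNoetherian_of_proper k (X := X)
  have hgΩ := (Groth.Agent.OmegaDual24.finrank_omega k hdim (X := X)).1
  have h0 := Groth.Agent.CurveRR24.h0_structure_of_geomIntegral k (X := X)
  have key : ∀ (I : X.IdealSheafData), Module.finrank k (Coh.HH X (ClSub.quotMod I) 0) = 4 →
      PicF.IsInvertible (ClSub.idealMod I) ∧ ∀ M : X.Modules, ClSub.IsInverseOf (ClSub.idealMod I) M →
        (Module.finrank k (Coh.HH X M 0) : ℤ) - Module.finrank k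
          (Coh.HH X (CohB1.tensorMod (Omega.sheaf (X ↘ Spec (CommRingCat.of k))) (ClSub.idealMod I)) 0) =
            5 - (Curv2.genus k X : ℤ) := by
    intro I hI
    have hη := Groth.Agent.Clifford24.genericPoint_notMem_support k I (by rw [hI, h0]; omega)
    have hIi := Groth.Agent.Clifford24.isInvertible_idealMod_of_normal hdim.le
      (fun P => Groth.Agent.Clifford24.isIntegrallyClosed_stalk_of_smooth k P) I hη
    refine ⟨hIi, fun M hM => ?_⟩
    have hMi := Groth.Agent.Clifford24.isInvertible_of_isInverseOf hIi hM
    obtain ⟨e⟩ := hM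
    have hchi := Groth.Agent.CurveRR24.euler_idealTwist k hdim.le I hη
      (Groth.Agent.AmpleLib.isInvertible_structureModule (X := X))
    rw [hI, Groth.Agent.EulerLib.euler_congr k X (Groth.Agent.AmpleLib.tensorComm _ _ ≪≫
      Groth.Agent.AmpleLib.unitTensorIso (ClSub.idealMod I))] at hchi
    have hd := Groth.Agent.CurveRR24.deg_tensor k hdim.le hIi hMi
    rw [Groth.Agent.CurveRR24.deg_congr k e, Groth.Agent.CurveRR24.deg_structure] at hd
    have hrr := Groth.Agent.Clifford24.riemann_roch_omega k hdim hMi hIi (Groth.Agent.AmpleLib.tensorComm _ _ ≪≫ e)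
    simp only [Curv2.deg, Nat.cast_one, one_mul] at hd hrr
    push_cast at hchi
    omega
  constructor
  · intro h I hI M hM
    have h1 := (key I hI).2 M hM
    have h2 := h I hI
    omega
  · intro h I hI
    obtain ⟨hIi, h1⟩ := key I hI
    obtain ⟨M, -, he⟩ := Groth.Agent.CurveRR24.exists_inverse k hIi
    have := h1 M he
    have := h I hI M he
    omega

end Groth.Agent.S18805
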