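import Groth.Statements.S18806
import Groth.Agent.HopfLib.ComodSubcoalg

set_option autoImplicit false
universe u v v' w w' x
open TensorProduct
open HopfRep

namespace Groth.Agent.S18806

/-- Let k be a field, i : C → D an injective morphism of k-coalgebras and V a right D-comodule with
coaction ρ : V → V ⊗ D. If ρ(v) lies in the image of V ⊗ C → V ⊗ D (induced by i) for every v, then
V comes from a C-comodule: there is a C-comodule structure on V whose coaction, followed by V ⊗ C →
V ⊗ D, is ρ. (The source states this for left comodules over the coordinate bialgebras of an affine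
monoid scheme over k and of its group of units, assumed open and schematically dense, and uses that
assumption only through the injectivity of the restriction map of coordinate rings; the row is the
right-comodule mirror image for any injective coalgebra map. The converse direction is immediate.) -/
theorem result (k : Type u) [Field k]
    (C : Type v) [AddCommGroup C] [Module k C] [Coalgebra k C]
    (D : Type v') [AddCommGroup D] [Module k D] [Coalgebra k D]
    (i : C →ₗc[k] D) (hi : Function.Injective i)
    (V : Type w) [AddCommGroup V] [Module k V] [HopfRep.Comod k D V]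
    (h : ∀ v : V, HopfRep.Comod.coact (k := k) (A := D) v ∈ LinearMap.range ((i : C →ₗ[k] D).lTensor V)) :
    ∃ c : HopfRep.Comod k C V,
      (i : C →ₗ[k] D).lTensor V ∘ₗ c.coact = HopfRep.Comod.coact (k := k) (A := D) := by
  obtain ⟨π, hπ⟩ := (i : C →ₗ[k] D).exists_leftInverse_of_injective (LinearMap.ker_eq_bot.2 hi)
  have hρ : ∀ v : V, (i : C →ₗ[k] D).lTensor V (π.lTensor V (HopfRep.Comod.coact (k := k) (A := D) v)) =
      HopfRep.Comod.coact (k := k) (A := D) v := by
    intro v
    obtain ⟨t, ht⟩ := h v
    rw [← ht, ← LinearMap.comp_apply (π.lTensor V), ← LinearMap.lTensor_comp, hπ]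
    simp
  refine ⟨Groth.Agent.HopfLib.comodOfHit (π.lTensor V ∘ₗ HopfRep.Comod.coact (k := k) (A := D))
    (fun v => ?_) (fun g g' v => ?_), LinearMap.ext hρ⟩
  · have e : CoalgebraStruct.counit (R := k) (A := C) =
        CoalgebraStruct.counit (R := k) (A := D) ∘ₗ (i : C →ₗ[k] D) :=
      (CoalgHomClass.counit_comp i).symm
    rw [e, LinearMap.comp_apply, ← Groth.Agent.HopfLib.sliceR_lTensor_comp, hρ]
    exact Groth.Agent.HopfLib.hit_counit v
  · have e : ∀ (g : C →ₗ[k] k) (v : V),
        Groth.Agent.HopfLib.sliceR g (π.lTensor V (HopfRep.Comod.coact (k := k) (A := D) v)) =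
          Groth.Agent.HopfLib.hit (g ∘ₗ π) v := fun g v =>
      Groth.Agent.HopfLib.sliceR_lTensor_comp π g _
    simp only [LinearMap.comp_apply, e]
    rw [Groth.Agent.HopfLib.hit_hit, Groth.Agent.HopfLib.hit_apply]
    conv_lhs => rw [← hρ v]
    rw [Groth.Agent.HopfLib.sliceR_lTensor_comp, ← e]
    congr 2
    refine LinearMap.ext fun x => ?_
    change Groth.Agent.HopfLib.formMul (g ∘ₗ π) (g' ∘ₗ π) (i x) = _
    rw [Groth.Agent.HopfLib.formMul_comp]
    simp only [LinearMap.comp_assoc]
    rw [show π ∘ₗ i.toLinearMap = LinearMap.id from hπ]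
    simp

end Groth.Agent.S18806
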