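import Groth.Statements.S18808
import Groth.Agent.HopfLib.Comod

set_option autoImplicit false
universe u v v' w w' x
open TensorProduct
open HopfRep

namespace Groth.Agent.S18808

/-- Let k be a field, i : C → D an injective morphism of k-coalgebras and V a right D-comodule with
coaction ρ. Call a D-subcomodule K of V admissible when the induced coaction of V/K, namely ρ
followed by the projection V ⊗ D → (V/K) ⊗ D, takes all its values in the image of (V/K) ⊗ C → (V/K)
⊗ D (so that V/K comes from a C-comodule). Then there is a least admissible D-subcomodule of V: V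
has a largest quotient D-comodule coming from C, through which every D-comodule map from V to a
comodule coming from C factors. (The source states this for left comodules over the coordinate
bialgebras of an affine monoid scheme and its open schematically dense group of units, as the
existence of a universal map from a representation of the unit group to a representation of the
monoid; it uses that assumption only through the injectivity of the restriction map.) -/
theorem result (k : Type u) [Field k]
    (C : Type v) [AddCommGroup C] [Module k C] [Coalgebra k C]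
    (D : Type v') [AddCommGroup D] [Module k D] [Coalgebra k D]
    (i : C →ₗc[k] D) (hi : Function.Injective i)
    (V : Type w) [AddCommGroup V] [Module k V] [HopfRep.Comod k D V] :
    ∃ K : Submodule k V, HopfRep.IsSubcomod (k := k) (A := D) K ∧
      (∀ v : V, K.mkQ.rTensor D (HopfRep.Comod.coact (k := k) (A := D) v) ∈
        LinearMap.range ((i : C →ₗ[k] D).lTensor (V ⧸ K))) ∧
      ∀ K' : Submodule k V, HopfRep.IsSubcomod (k := k) (A := D) K' →
        (∀ v : V, K'.mkQ.rTensor D (HopfRep.Comod.coact (k := k) (A := D) v) ∈
          LinearMap.range ((i : C →ₗ[k] D).lTensor (V ⧸ K'))) → K ≤ K' := by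
  have hchar : ∀ K : Submodule k V,
      (∀ v : V, K.mkQ.rTensor D (HopfRep.Comod.coact (k := k) (A := D) v) ∈
        LinearMap.range ((i : C →ₗ[k] D).lTensor (V ⧸ K))) ↔
      ∀ g : D →ₗ[k] k, g ∘ₗ (i : C →ₗ[k] D) = 0 → ∀ v : V, Groth.Agent.HopfLib.hit g v ∈ K := by
    intro K
    constructor
    · intro h g hg v
      obtain ⟨t, ht⟩ := h v
      rw [← Submodule.Quotient.mk_eq_zero K, ← Submodule.mkQ_apply, Groth.Agent.HopfLib.hit_apply,
        ← Groth.Agent.HopfLib.sliceR_rTensor, ← ht]
      clear ht
      induction t using TensorProduct.induction_on with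
      | zero => simp
      | add p q hp hq => simp only [map_add, hp, hq, add_zero]
      | tmul y c => simp [show g (i c) = 0 from LinearMap.congr_fun hg c]
    · intro h v
      obtain ⟨π, hπ⟩ := (i : C →ₗ[k] D).exists_leftInverse_of_injective (LinearMap.ker_eq_bot.2 hi)
      refine ⟨π.lTensor (V ⧸ K) (K.mkQ.rTensor D (HopfRep.Comod.coact (k := k) (A := D) v)), ?_⟩
      refine Groth.Agent.HopfLib.eq_of_forall_sliceR_eq fun g => ?_
      rw [← LinearMap.lTensor_comp_apply]
      have e : ∀ (f : D →ₗ[k] D) (t : (V ⧸ K) ⊗[k] D), Groth.Agent.HopfLib.sliceR g (f.lTensor _ t) =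
          Groth.Agent.HopfLib.sliceR (g ∘ₗ f) t := by
        intro f t
        induction t using TensorProduct.induction_on with
        | zero => simp
        | add p q hp hq => simp only [map_add, hp, hq]
        | tmul y c => simp
      rw [e, Groth.Agent.HopfLib.sliceR_rTensor, Groth.Agent.HopfLib.sliceR_rTensor, Submodule.mkQ_apply,
        Submodule.mkQ_apply, Submodule.Quotient.eq, ← Groth.Agent.HopfLib.hit_apply,
        ← Groth.Agent.HopfLib.hit_apply]
      have h0 := h (g - g ∘ₗ ((i : C →ₗ[k] D) ∘ₗ π)) (by
        rw [LinearMap.sub_comp, LinearMap.comp_assoc, LinearMap.comp_assoc, hπ, LinearMap.comp_id,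
          sub_self]) v
      rw [sub_eq_add_neg, ← neg_one_smul k, Groth.Agent.HopfLib.hit_add, Groth.Agent.HopfLib.hit_smul,
        neg_one_smul, ← sub_eq_add_neg] at h0
      rw [← neg_sub]
      exact K.neg_mem h0
  refine ⟨⨅ K : {K : Submodule k V // HopfRep.IsSubcomod (k := k) (A := D) K ∧
      ∀ g : D →ₗ[k] k, g ∘ₗ (i : C →ₗ[k] D) = 0 → ∀ v : V, Groth.Agent.HopfLib.hit g v ∈ K}, K.1,
    Groth.Agent.HopfLib.isSubcomod_iInf fun K => K.2.1, (hchar _).2 fun g hg v => ?_, fun K' h1 h2 => ?_⟩
  · exact (Submodule.mem_iInf _).2 fun K => K.2.2 g hg v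
  · exact iInf_le_of_le ⟨K', h1, (hchar K').1 h2⟩ le_rfl

end Groth.Agent.S18808
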