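import Groth.Statements.S18811
import Groth.Agent.DimLib.BaseChange
import Mathlib

set_option autoImplicit false
universe u
open CategoryTheory CategoryTheory.Limits AlgebraicGeometry
open Variety

namespace Groth.Agent.S18811

/-- Let k be a field and X, Y quasi-compact k-schemes whose diagonal morphisms over k are affine
(semi-separated; for instance X and Y separated over k). Then the canonical map Γ(X, O_X) ⊗_k Γ(Y,
O_Y) → Γ(X ×_k Y, O) is an isomorphism: the commutative square of rings of global sections formed by
Spec k, X, Y and X ×_k Y with the pullback maps along the structure morphisms and the two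
projections is a pushout square of commutative rings. -/
theorem result (k : Type u) [Field k]
    (X : Scheme.{u}) [X.Over (Spec (CommRingCat.of k))] [CompactSpace ↥X]
    [IsAffineHom (pullback.diagonal (X ↘ (Spec (CommRingCat.of k))))]
    (Y : Scheme.{u}) [Y.Over (Spec (CommRingCat.of k))] [CompactSpace ↥Y]
    [IsAffineHom (pullback.diagonal (Y ↘ (Spec (CommRingCat.of k))))] :
    IsPushout (X ↘ (Spec (CommRingCat.of k))).appTop (Y ↘ (Spec (CommRingCat.of k))).appTop
      (pullback.fst (X ↘ (Spec (CommRingCat.of k))) (Y ↘ (Spec (CommRingCat.of k)))).appTop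
      (pullback.snd (X ↘ (Spec (CommRingCat.of k))) (Y ↘ (Spec (CommRingCat.of k)))).appTop := by
  let f := X ↘ Spec (CommRingCat.of k)
  let g := Y ↘ Spec (CommRingCat.of k)
  have hX : QuasiSeparatedSpace X := by
    have : QuasiSeparated f := ⟨(inferInstance : QuasiCompact (pullback.diagonal f))⟩
    exact quasiSeparatedSpace_of_quasiSeparated f
  have hY : QuasiSeparatedSpace Y := by
    have : QuasiSeparated g := ⟨(inferInstance : QuasiCompact (pullback.diagonal g))⟩
    exact quasiSeparatedSpace_of_quasiSeparated g
  have : Flat g := Groth.Agent.DimLib.flat_over_field g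
  have hfl : (f.appLE ⊤ ⊤ (by simp)).hom.Flat := by
    have hF : IsField Γ(Spec (CommRingCat.of k), ⊤) :=
      (Scheme.ΓSpecIso (CommRingCat.of k)).commRingCatIsoToRingEquiv.toMulEquiv.isField (Field.toIsField k)
    let := hF.toField
    algebraize [(f.appLE ⊤ ⊤ (by simp)).hom]
    exact (inferInstance : Module.Flat Γ(Spec (CommRingCat.of k), ⊤) Γ(X, ⊤))
  have := (isIso_pushoutSection_iff (IsPullback.of_hasPullback f g) (US := ⊤) (UT := ⊤) (UX := ⊤) (UY := ⊤)
    le_top le_top (by simp)).mp
    (isIso_pushoutSection_of_isCompact_of_flat_right_of_ringHomFlat (IsPullback.of_hasPullback f g) _ _ _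
      (isAffineOpen_top _) isCompact_univ isQuasiSeparated_univ isCompact_univ isQuasiSeparated_univ hfl)
  simp only [Scheme.Hom.appLE] at this
  convert this using 1 <;> first | simp [Scheme.Hom.appTop, f, g] | skip
  all_goals first
    | exact (Category.comp_id _).symm
    | (erw [CategoryTheory.Functor.map_id]; exact (Category.comp_id _).symm)

end Groth.Agent.S18811
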