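import Groth.Statements.S18813
import Groth.Agent.HopfLib.ReductiveExtra

set_option autoImplicit false
universe u
open scoped TensorProduct
open HopfRep

namespace Groth.Agent.S18813

/-- Let k be a field, K a field extension of k and A a commutative Hopf algebra over k, the coordinate
ring of an affine group scheme G (no finiteness assumed). Then G is linearly reductive (every
finite-dimensional A-comodule is semisimple) if and only if the base change G_K is (every
finite-dimensional comodule over the K-Hopf algebra K ⊗_k A is semisimple). (The source phrases both
sides as semisimplicity of all representations, which over a field is equivalent to semisimplicity
of the finite-dimensional ones since every comodule is the union of its finite-dimensional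
subcomodules.) -/
theorem result (k K A : Type u) [Field k] [Field K]
    [Algebra k K] [CommRing A] [HopfAlgebra k A] :
    HopfRep.IsLinearlyReductive k A ↔ HopfRep.IsLinearlyReductive K (K ⊗[k] A) := by
  exact Groth.Agent.HopfLib.isLinearlyReductive_baseChange_iff

end Groth.Agent.S18813
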