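import Groth.Statements.S18814
import Groth.Agent.HopfLib.Comod

set_option autoImplicit false
universe u v v' w w'
open TensorProduct
open HopfRep

namespace Groth.Agent.S18814

/-- Let k be a field, C and D commutative bialgebras over k (coordinate rings of affine monoid schemes M
and N) and V a k-vector space carrying a right C-comodule structure with coaction ρ_C : V → V ⊗ C
and a right D-comodule structure with coaction ρ_D : V → V ⊗ D which commute: (ρ_C ⊗ id_D) ∘ ρ_D and
(ρ_D ⊗ id_C) ∘ ρ_C agree in V ⊗ C ⊗ D after reassociating and swapping the last two factors (the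
actions of M and N on V commute). Assume V is semisimple as a D-comodule. Then for every simple
D-comodule S the isotypic component of V of type S, the sum of the images of all D-comodule maps S →
V, is a C-subcomodule of V. (The source works with left comodules; this is the right-comodule form.) -/
theorem result (k : Type u) [Field k]
    (C : Type v) [CommRing C] [Bialgebra k C] (D : Type v') [CommRing D] [Bialgebra k D]
    (V : Type w) [AddCommGroup V] [Module k V] [HopfRep.Comod k C V] [HopfRep.Comod k D V]
    (hcomm : (TensorProduct.assoc k V C D).toLinearMap ∘ₗ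
        (HopfRep.Comod.coact (k := k) (A := C) (V := V)).rTensor D ∘ₗ HopfRep.Comod.coact (k := k) (A := D) =
      (TensorProduct.comm k D C).toLinearMap.lTensor V ∘ₗ (TensorProduct.assoc k V D C).toLinearMap ∘ₗ
        (HopfRep.Comod.coact (k := k) (A := D) (V := V)).rTensor C ∘ₗ HopfRep.Comod.coact (k := k) (A := C))
    (hV : HopfRep.IsSemisimpleComod k D V)
    (S : Type w') [AddCommGroup S] [Module k S] [HopfRep.Comod k D S] (hS : HopfRep.IsSimpleComod k D S) :
    HopfRep.IsSubcomod (k := k) (A := C)
      (⨆ f : {f : S →ₗ[k] V // Hoch.IsComodHom D f}, LinearMap.range f.1) := by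
  have hcomm' : ∀ (g : C →ₗ[k] k) (v : V),
      HopfRep.Comod.coact (k := k) (A := D) (Groth.Agent.HopfLib.hit g v) =
        (Groth.Agent.HopfLib.hit (V := V) g).rTensor D (HopfRep.Comod.coact (k := k) (A := D) v) := by
    intro g v
    have h := congrArg (Groth.Agent.HopfLib.sliceR g)
      (congrArg (TensorProduct.assoc k V D C).symm
        (congrArg ((TensorProduct.comm k C D).toLinearMap.lTensor V) (LinearMap.congr_fun hcomm v)))
    simp only [LinearMap.comp_apply, LinearEquiv.coe_coe] at h
    have e1 : ∀ X : V ⊗[k] (D ⊗[k] C), (TensorProduct.comm k C D).toLinearMap.lTensor V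
        ((TensorProduct.comm k D C).toLinearMap.lTensor V X) = X := by
      intro X
      rw [← LinearMap.comp_apply, ← LinearMap.lTensor_comp]
      simp
    rw [e1, LinearEquiv.symm_apply_apply, Groth.Agent.HopfLib.sliceR_rTensor] at h
    rw [Groth.Agent.HopfLib.hit_apply, ← h]
    generalize HopfRep.Comod.coact (k := k) (A := D) v = t
    induction t using TensorProduct.induction_on with
    | zero => simp
    | add p q hp hq => simp only [map_add, hp, hq]
    | tmul a d =>
      simp only [LinearMap.rTensor_tmul, Groth.Agent.HopfLib.hit_apply]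
      generalize HopfRep.Comod.coact (k := k) (A := C) a = s
      induction s using TensorProduct.induction_on with
      | zero => simp
      | add p q hp hq => simp only [TensorProduct.add_tmul, map_add, hp, hq]
      | tmul b c => simp [TensorProduct.smul_tmul']
  refine Groth.Agent.HopfLib.isSubcomod_iff_hit.2 fun g => ?_
  suffices h : (⨆ f : {f : S →ₗ[k] V // Hoch.IsComodHom D f}, LinearMap.range f.1) ≤
      (⨆ f : {f : S →ₗ[k] V // Hoch.IsComodHom D f}, LinearMap.range f.1).comap
        (Groth.Agent.HopfLib.hit (V := V) g) from fun v hv => h hv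
  refine iSup_le fun f => ?_
  rintro _ ⟨s, rfl⟩
  refine Submodule.mem_iSup_of_mem ⟨Groth.Agent.HopfLib.hit (V := V) g ∘ₗ f.1, ?_⟩ ⟨s, rfl⟩
  exact Groth.Agent.HopfLib.IsComodHom.comp (LinearMap.ext fun v => hcomm' g v) f.2

end Groth.Agent.S18814
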