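import Groth.Statements.S18830
import Groth.Agent.SGA3xLib.SepFibre

set_option backward.isDefEq.respectTransparency.types false

set_option autoImplicit false
universe u
open CategoryTheory MonoidalCategory CartesianMonoidalCategory MonObj AlgebraicGeometry
open AlgGrp

namespace Groth.Agent.S18830

/-- Let k be a field and M an algebraic monoid over k (a monoid k-scheme of finite type). Let i : G → M
be its group of units: a monomorphism of k-schemes through which a T-valued point of M factors if
and only if it is invertible in the monoid M(T). Then G is of finite type over k, i.e. the unit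
group is an algebraic group. -/
theorem result (k : Type u) [Field k]
    (M G : Over (Spec (CommRingCat.of k))) [MonObj M] [LocallyOfFiniteType M.hom] [QuasiCompact M.hom]
    (i : G ⟶ M) [Mono i]
    (hi : ∀ (T : Over (Spec (CommRingCat.of k))) (m : T ⟶ M), (∃ g : T ⟶ G, g ≫ i = m) ↔ IsUnit m) :
    LocallyOfFiniteType G.hom ∧ QuasiCompact G.hom := by
  let f : M ⊗ M ⟶ M ⊗ M := lift (fst M M * snd M M) (snd M M * fst M M)
  let e : 𝟙_ (Over (Spec (CommRingCat.of k))) ⟶ M ⊗ M := lift 1 1
  let H := Limits.pullback f e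
  let x : H ⟶ M := Limits.pullback.fst f e ≫ fst M M
  let y : H ⟶ M := Limits.pullback.fst f e ≫ snd M M
  have hxy : x * y = 1 ∧ y * x = 1 := by
    have h := Limits.pullback.condition (f := f) (g := e)
    have h1 := congrArg (· ≫ fst M M) h
    have h2 := congrArg (· ≫ snd M M) h
    simp only [f, e, Category.assoc, lift_fst, lift_snd, MonObj.comp_mul, MonObj.comp_one] at h1 h2
    exact ⟨h1, h2⟩
  obtain ⟨a, ha⟩ := (hi H x).2 ⟨⟨x, y, hxy.1, hxy.2⟩, rfl⟩
  obtain ⟨v, hv⟩ := (hi G i).1 ⟨𝟙 G, Category.id_comp i⟩
  let b : G ⟶ H := Limits.pullback.lift (lift i (↑v⁻¹ : G ⟶ M)) (toUnit G) (by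
    apply CartesianMonoidalCategory.hom_ext <;>
      simp only [f, e, Category.assoc, lift_fst, lift_snd, MonObj.comp_mul, MonObj.comp_one, ← hv, Units.mul_inv,
        Units.inv_mul])
  have hba : b ≫ a = 𝟙 G := (cancel_mono i).1 (by
    rw [Category.assoc, ha, Category.id_comp, Limits.pullback.lift_fst_assoc, lift_fst])
  have hab : a ≫ b = 𝟙 H := by
    apply Limits.pullback.hom_ext
    · rw [Category.assoc, Limits.pullback.lift_fst, Category.id_comp, comp_lift, ha]
      apply CartesianMonoidalCategory.hom_ext
      · rw [lift_fst]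
      · rw [lift_snd]
        have h1 : x * (a ≫ (↑v⁻¹ : G ⟶ M)) = 1 := by
          rw [← ha, ← MonObj.comp_mul, ← hv, Units.mul_inv, MonObj.comp_one]
        exact (left_inv_eq_right_inv hxy.2 h1).symm
    · exact toUnit_unique _ _
  let E : G ≅ H := ⟨b, a, hba, hab⟩
  haveI : IsIso b.left := ((Over.forget _).mapIso E).isIso_hom
  haveI : IsClosedImmersion e.left :=
    Groth.Agent.SGA3xLib.isClosedImmersion_of_section (M ⊗ M).hom e.left (Over.w e)
  haveI : IsClosedImmersion (Limits.pullback.fst f e).left :=
    MorphismProperty.of_isPullback ((IsPullback.of_hasPullback f e).map (Over.forget _)).flip ‹IsClosedImmersion e.left›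
  haveI : LocallyOfFiniteType (M ⊗ M).hom := inferInstanceAs (LocallyOfFiniteType (Limits.pullback.fst M.hom M.hom ≫ M.hom))
  haveI : QuasiCompact (M ⊗ M).hom := inferInstanceAs (QuasiCompact (Limits.pullback.fst M.hom M.hom ≫ M.hom))
  have hG : G.hom = b.left ≫ (Limits.pullback.fst f e).left ≫ (M ⊗ M).hom := by
    rw [Over.w, Over.w]
  rw [hG]
  exact ⟨inferInstance, inferInstance⟩

end Groth.Agent.S18830
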