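import Groth.Statements.S18817
import Groth.Agent.AlgGrpLib.UnitsEtale
import Groth.Agent.S18830

set_option backward.isDefEq.respectTransparency.types false

set_option autoImplicit false
universe u
open CategoryTheory MonoidalCategory CartesianMonoidalCategory MonObj AlgebraicGeometry
open AlgGrp

namespace Groth.Agent.S18817

/-- Let k be a field and M an algebraic monoid over k, i.e. a monoid object in k-schemes whose
underlying scheme is of finite type over k, and assume M is geometrically integral. Let i : G → M be
the group of units of M: a monomorphism of k-schemes such that, for every k-scheme T, a T-valued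
point of M factors through i if and only if it is invertible in the monoid M(T). Then i is an open
immersion. -/
theorem result (k : Type u) [Field k]
    (M G : Over (Spec (CommRingCat.of k))) [MonObj M] [LocallyOfFiniteType M.hom] [QuasiCompact M.hom]
    [GeometricallyIntegral M.hom] (i : G ⟶ M) [Mono i]
    (hi : ∀ (T : Over (Spec (CommRingCat.of k))) (m : T ⟶ M), (∃ g : T ⟶ G, g ≫ i = m) ↔ IsUnit m) :
    IsOpenImmersion i.left := by
  obtain ⟨hG, -⟩ := Groth.Agent.S18830.result k M G i hi
  haveI := Groth.Agent.AlgGrpLib.ExactSeqBasics.locallyOfFinitePresentation_left i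
  haveI : Mono i.left := (Over.forget _).map_mono i
  have hs : Smooth i.left := (Groth.Agent.S1488.result i.left).2 ⟨inferInstance, fun A _ I hI a b hab => by
    let T : Over (Spec (CommRingCat.of k)) := Over.mk (b ≫ M.hom)
    let T₀ : Over (Spec (CommRingCat.of k)) := Over.mk (Spec.map (CommRingCat.ofHom (Ideal.Quotient.mk I)) ≫ b ≫ M.hom)
    let j : T₀ ⟶ T := Over.homMk (Spec.map (CommRingCat.ofHom (Ideal.Quotient.mk I)))
    let m : T ⟶ M := Over.homMk b
    let a' : T₀ ⟶ G := Over.homMk a (by
      show a ≫ G.hom = _ ≫ b ≫ M.hom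
      rw [reassoc_of% hab, Over.w i])
    have hj : j ≫ m = a' ≫ i := Over.OverMorphism.ext hab
    have hu : IsUnit m := Groth.Agent.AlgGrpLib.UnitsEtale.isUnit_of_thick j
      (Groth.Agent.AlgGrpLib.UnitsEtale.isFiniteOrderThickening_mk I hI) m ((hi T₀ _).1 ⟨a', hj.symm⟩)
    obtain ⟨g, hg⟩ := (hi T m).2 hu
    have hja : j ≫ g = a' := (cancel_mono i).1 (by rw [Category.assoc, hg, hj])
    exact ⟨g.left, congrArg Over.Hom.left hja, congrArg Over.Hom.left hg⟩⟩
  haveI := hs
  exact IsOpenImmersion.of_flat_of_mono i.left

end Groth.Agent.S18817
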