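import Groth.Statements.S18820
import Mathlib.AlgebraicGeometry.PullbackCarrier

set_option autoImplicit false
universe u
open CategoryTheory MonoidalCategory CartesianMonoidalCategory AlgebraicGeometry
open AlgGrp

namespace Groth.Agent.S18820

/-- Let k be a field, M a k-scheme (in the source a monoid k-scheme) acting on a k-scheme X through a :
M ×_k X → X, and z : Z → X a closed immersion which is surjective (a closed subscheme defined by an
ideal all of whose sections are nilpotent, e.g. the reduction of X), stable under the action: a_Z :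
M ×_k Z → Z satisfies (id_M × z) followed by a = a_Z followed by z. For an open subset U of X the
following are equivalent: (i) U is stable, i.e. a maps M ×_k U into U; (ii) U ∩ Z is stable, i.e.
a_Z maps M ×_k (U ∩ Z) into U ∩ Z. (The monoid axioms of the source play no role and are not
assumed.) -/
theorem result (k : Type u) [Field k]
    (M X Z : Over (Spec (CommRingCat.of k))) (a : M ⊗ X ⟶ X) (aZ : M ⊗ Z ⟶ Z) (z : Z ⟶ X)
    [IsClosedImmersion z.left] [Surjective z.left] (hz : (M ◁ z) ≫ a = aZ ≫ z) (U : X.left.Opens) :
    (CartesianMonoidalCategory.snd M X).left ⁻¹ᵁ U ≤ a.left ⁻¹ᵁ U ↔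
      (CartesianMonoidalCategory.snd M Z).left ⁻¹ᵁ (z.left ⁻¹ᵁ U) ≤ aZ.left ⁻¹ᵁ (z.left ⁻¹ᵁ U) := by
  constructor
  · intro h q hq
    have h1 : z.left (aZ.left q) = a.left ((M ◁ z).left q) := by
      rw [← Scheme.Hom.comp_apply, ← Scheme.Hom.comp_apply, ← Over.comp_left, ← Over.comp_left, hz]
    show z.left (aZ.left q) ∈ U
    rw [h1]
    refine h ?_
    show (snd M X).left ((M ◁ z).left q) ∈ U
    rw [← Scheme.Hom.comp_apply, ← Over.comp_left, whiskerLeft_snd, Over.comp_left, Scheme.Hom.comp_apply]
    exact hq
  · intro h p hp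
    obtain ⟨q, hq⟩ : ∃ q, (M ◁ z).left q = p := by
      obtain ⟨y, hy⟩ := z.left.surjective ((snd M X).left p)
      have hw : z.left ≫ X.hom = Z.hom := Over.w z
      have hsq : IsPullback (M ◁ z).left (snd M Z).left (snd M X).left z.left := by
        refine IsPullback.of_right (h₁₂ := (fst M X).left) (h₂₂ := X.hom) (v₁₃ := M.hom) ?_ ?_
          (IsPullback.of_hasPullback M.hom X.hom).flip.flip
        · rw [← Over.comp_left, whiskerLeft_fst, hw]
          exact IsPullback.of_hasPullback M.hom Z.hom
        · rw [← Over.comp_left, ← Over.comp_left, whiskerLeft_snd]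
      exact (Scheme.exists_preimage_of_isPullback hsq p y hy.symm).imp fun q hq => hq.1
    subst hq
    show a.left ((M ◁ z).left q) ∈ U
    rw [← Scheme.Hom.comp_apply, ← Over.comp_left, hz, Over.comp_left, Scheme.Hom.comp_apply]
    refine h ?_
    show z.left ((snd M Z).left q) ∈ U
    rw [← Scheme.Hom.comp_apply, ← Over.comp_left, ← whiskerLeft_snd, Over.comp_left, Scheme.Hom.comp_apply]
    exact hp

end Groth.Agent.S18820
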