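import Groth.Statements.S18821
import Mathlib.AlgebraicGeometry.Morphisms.Affine

set_option autoImplicit false
universe u
open CategoryTheory MonoidalCategory CartesianMonoidalCategory MonObj AlgebraicGeometry
open AlgGrp

namespace Groth.Agent.S18821
open CategoryTheory.Limits

/-- Let k be a commutative ring and M a monoid k-scheme (a monoid object in k-schemes). Then the group
k-functor of units T ↦ M(T)^× is representable by a k-scheme: there are a k-scheme G and a
monomorphism i : G → M such that, for every k-scheme T, a T-valued point of M factors through i if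
and only if it is invertible in the monoid M(T). If moreover M is affine then G is affine. -/
theorem result (k : Type u) [CommRing k]
    (M : Over (Spec (CommRingCat.of k))) [MonObj M] :
    ∃ (G : Over (Spec (CommRingCat.of k))) (i : G ⟶ M), Mono i ∧
      (∀ (T : Over (Spec (CommRingCat.of k))) (m : T ⟶ M), (∃ g : T ⟶ G, g ≫ i = m) ↔ IsUnit m) ∧
      (IsAffine M.left → IsAffine G.left) := by
  let Δ : M ⊗ M ⟶ M ⊗ M := lift μ[M] (lift (snd M M) (fst M M) ≫ μ[M])
  let G := pullback Δ (lift η[M] η[M])
  let p : G ⟶ M ⊗ M := pullback.fst Δ (lift η[M] η[M])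
  have hp : ∀ {T : Over (Spec (CommRingCat.of k))} (g : T ⟶ G),
      ((g ≫ p) ≫ fst M M) * ((g ≫ p) ≫ snd M M) = 1 ∧ ((g ≫ p) ≫ snd M M) * ((g ≫ p) ≫ fst M M) = 1 := by
    intro T g
    have h : g ≫ p ≫ Δ = g ≫ pullback.snd Δ (lift η[M] η[M]) ≫ lift η[M] η[M] :=
      congrArg (g ≫ ·) pullback.condition
    rw [← Category.assoc] at h
    have h1 := congrArg (· ≫ fst M M) h
    have h2 := congrArg (· ≫ snd M M) h
    simp only [Δ, Category.assoc, lift_fst, lift_snd] at h1 h2
    rw [Hom.mul_def, Hom.mul_def, Hom.one_def, ← toUnit_unique (g ≫ pullback.snd Δ (lift η[M] η[M])) (toUnit T)]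
    constructor
    · rw [← comp_lift, lift_fst_snd, Category.comp_id, Category.assoc, Category.assoc]
      exact h1
    · rw [← comp_lift, Category.assoc, Category.assoc, Category.assoc]
      exact h2
  refine ⟨G, p ≫ fst M M, ⟨fun {T} a b hab => ?_⟩, fun T m => ⟨?_, ?_⟩, fun hM => ?_⟩
  · simp only [← Category.assoc] at hab
    refine pullback.hom_ext (CartesianMonoidalCategory.hom_ext _ _ hab ?_) (toUnit_unique _ _)
    exact left_inv_eq_right_inv (hab ▸ (hp a).2) (hp b).1
  · rintro ⟨g, rfl⟩
    rw [← Category.assoc]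
    exact isUnit_iff_exists.2 ⟨_, (hp g).1, (hp g).2⟩
  · intro hm
    obtain ⟨m', h1, h2⟩ := isUnit_iff_exists.1 hm
    refine ⟨pullback.lift (lift m m') (toUnit T) ?_, ?_⟩
    · apply CartesianMonoidalCategory.hom_ext
      · simp only [Δ, Category.assoc, lift_fst]
        rw [← Hom.mul_def, h1, Hom.one_def]
      · simp only [Δ, Category.assoc, lift_snd]
        rw [comp_lift_assoc, lift_fst, lift_snd, ← Hom.mul_def, h2, Hom.one_def]
    · rw [← Category.assoc, pullback.lift_fst, lift_fst]
  · haveI := hM
    haveI : IsAffineHom M.hom := inferInstance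
    haveI : IsAffine (M ⊗ M).left := by
      haveI : IsAffineHom (Limits.pullback.fst M.hom M.hom) := inferInstance
      exact isAffine_of_isAffineHom (Limits.pullback.fst M.hom M.hom)
    haveI : IsAffine (𝟙_ (Over (Spec (CommRingCat.of k)))).left :=
      inferInstanceAs (IsAffine (Spec (CommRingCat.of k)))
    have hP := (IsPullback.of_hasPullback Δ (lift η[M] η[M])).map (Over.forget _)
    let e : G.left ≅ Limits.pullback Δ.left (lift η[M] η[M]).left := hP.isoPullback
    exact IsAffine.of_isIso e.hom

end Groth.Agent.S18821
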