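import Groth.Statements.S18822
import Groth.Agent.Misc15.OverSubcanonical
-- import your own Groth.Agent.* helpers here

set_option autoImplicit false
universe u
open CategoryTheory MonoidalCategory CartesianMonoidalCategory MonObj AlgebraicGeometry Opposite
open Magnet

namespace Groth.Agent.S18822

/-- Let k be a commutative ring, M a monoid k-scheme and X a k-scheme with an action a of M. Then the
fixed-point subpresheaf X^M of X, whose T-valued points are the k-morphisms x : T → X such that g ·
(x ∘ t) = x ∘ t for every k-scheme T', every t : T' → T and every T'-valued point g of M, is a sheaf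
for the Zariski topology on k-schemes (the topology induced on schemes over Spec k). -/
theorem result (k : Type u) [CommRing k]
    (M X : Over (Spec (CommRingCat.of k))) [MonObj M] (a : Magnet.MonAct M X) :
    Presheaf.IsSheaf (Scheme.zariskiTopology.over (Spec (CommRingCat.of k))) (Magnet.MonAct.fixedPsh a) := by
  set J := Scheme.zariskiTopology.over (Spec (CommRingCat.of k))
  have := Groth.Agent.Misc15.OverSubcanonical.subcanonical_over Scheme.zariskiTopology (Spec (CommRingCat.of k))
  rw [isSheaf_iff_isSheaf_of_type]
  intro T R hR x hx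
  have hX := GrothendieckTopology.Subcanonical.isSheaf_of_isRepresentable (J := J) (yoneda.obj X)
  let y : Presieve.FamilyOfElements (yoneda.obj X) R.arrows := fun W f hf => (x f hf).1
  have hy : y.Compatible := by
    intro W₁ W₂ W g₁ g₂ f₁ f₂ h₁ h₂ hc
    exact congrArg Subtype.val (hx g₁ g₂ h₁ h₂ hc)
  obtain ⟨z, hz, hz'⟩ := hX R hR y hy
  let z₀ : T ⟶ X := z
  refine ⟨⟨z₀, fun T' t g => ?_⟩, fun W f hf => Subtype.ext (hz f hf), fun w hw => Subtype.ext (hz' w.1 fun W f hf => congrArg Subtype.val (hw f hf))⟩
  apply (hX (R.pullback t) (J.pullback_stable t hR)).isSeparatedFor.ext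
  intro W h hh
  show h ≫ lift g (t ≫ z₀) ≫ a.act = h ≫ t ≫ z₀
  have h1 : (h ≫ t) ≫ z₀ = (x (h ≫ t) hh).1 := hz _ hh
  rw [comp_lift_assoc, ← Category.assoc h t, h1]
  have h2 := (x (h ≫ t) hh).2 W (𝟙 W) (h ≫ g)
  simp only [Category.id_comp] at h2
  exact h2

end Groth.Agent.S18822
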