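import Groth.Statements.S18823
import Groth.Agent.AlgGrpLib.AntiAffine
set_option backward.isDefEq.respectTransparency.types false

set_option autoImplicit false
universe u
open CategoryTheory MonoidalCategory CartesianMonoidalCategory AlgebraicGeometry
open AlgGrp

namespace Groth.Agent.S18823

/-- Let k be a field, X a separated k-scheme, M a k-scheme (in the source a monoid k-scheme) acting on X
through a : M ×_k X → X, and i : G → M a morphism of k-schemes which is a scheme-theoretically
dominant open immersion: no nonzero quasi-coherent ideal of O_M restricts to zero on G (for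
quasi-compact i this is the usual schematic density, O_M → i_*O_G injective; in the source G is the
group of units of M, open and schematically dense). For a k-scheme T and a T-valued point x of X, x
is fixed under M, i.e. a ∘ (id_M × x) = x ∘ pr_T on M ×_k T, if and only if x is fixed under G, i.e.
a ∘ (i × x) = x ∘ pr_T on G ×_k T. Thus the fixed-point subpresheaves X^M and X^G of X are equal.
(The published statement has no separatedness assumption on X and reduces to points landing in an
affine open; the step asserting that the equalizer of the two maps M ×_k T → X is closed uses that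
the target is separated, so X is taken separated here, the case the printed argument establishes.
The monoid structure and the action axioms play no role in that argument and are not assumed.) -/
theorem result (k : Type u) [Field k]
    (M G X : Over (Spec (CommRingCat.of k))) [IsSeparated X.hom] (a : M ⊗ X ⟶ X) (i : G ⟶ M)
    [IsOpenImmersion i.left] [IsSchemeTheoreticallyDominant i.left]
    (T : Over (Spec (CommRingCat.of k))) (x : T ⟶ X) :
    (M ◁ x) ≫ a = CartesianMonoidalCategory.snd M T ≫ x ↔
      (G ◁ x) ≫ (i ▷ X) ≫ a = CartesianMonoidalCategory.snd G T ≫ x := by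
  constructor
  · intro h
    rw [← Category.assoc, whisker_exchange i x, Category.assoc, h, ← Category.assoc, whiskerRight_snd]
  intro h
  let w : T ⊗ M ⟶ M ⊗ T := lift (snd T M) (fst T M)
  obtain ⟨Z, t, ht, hZ⟩ := Groth.Agent.AlgGrpLib.exists_locus T (w ≫ (M ◁ x) ≫ a) (fst T M ≫ x)
  have e : (T ◁ i) ≫ w = lift (snd T G) (fst T G) ≫ (i ▷ T) := by
    refine CartesianMonoidalCategory.hom_ext _ _ ?_ ?_ <;> simp [w]
  obtain ⟨z, hz⟩ := (hZ G i).2 (by
    rw [reassoc_of% e, whiskerLeft_fst_assoc, ← whisker_exchange_assoc, h, lift_snd_assoc])
  have hker : t.left.ker ≤ (𝟙 M.left : M.left ⟶ M.left).ker := by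
    have h1 : t.left.ker ≤ i.left.ker := by rw [← hz]; exact Scheme.Hom.le_ker_comp z t.left
    rw [i.left.ker_eq_bot] at h1
    exact h1.trans bot_le
  have hh := (hZ M (𝟙 M)).1 ⟨IsClosedImmersion.lift t.left (𝟙 M.left) hker, IsClosedImmersion.lift_fac _ _ _⟩
  simp only [MonoidalCategory.whiskerLeft_id, Category.id_comp] at hh
  have h2 := congrArg (lift (snd M T) (fst M T) ≫ ·) hh
  simp only [← Category.assoc, lift_fst] at h2
  rw [show lift (snd M T) (fst M T) ≫ w = 𝟙 (M ⊗ T) from CartesianMonoidalCategory.hom_ext _ _ (by simp [w]) (by simp [w]),
    Category.id_comp] at h2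
  exact h2

end Groth.Agent.S18823
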