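import Groth.Statements.S18824
import Groth.Agent.AlgGrpLib.ActionShear
import Mathlib.AlgebraicGeometry.PullbackCarrier

set_option autoImplicit false
universe u
open CategoryTheory MonoidalCategory CartesianMonoidalCategory MonObj AlgebraicGeometry
open AlgGrp

namespace Groth.Agent.S18824
open Groth.Agent.AlgGrpLib

/-- Let k be a field, G a locally algebraic group over k (a group k-scheme locally of finite type)
acting on a k-scheme X through a : G ×_k X → X, and U an open subset of X. Let G·U ⊆ X be the image
under a of G ×_k U (the preimage of U under the projection). Then G·U is open in X, contains U, is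
G-stable in the sense that a maps G ×_k (G·U) into G·U, and is the smallest such set: every G-stable
open subset of X containing U contains G·U. -/
theorem result (k : Type u) [Field k]
    (G X : Over (Spec (CommRingCat.of k))) [GrpObj G] [LocallyOfFiniteType G.hom] (a : AlgGrp.Action G X)
    (U : Set ↥X.left) (hU : IsOpen U) :
    IsOpen (a.act.left.base '' ((CartesianMonoidalCategory.snd G X).left.base ⁻¹' U)) ∧
      U ⊆ a.act.left.base '' ((CartesianMonoidalCategory.snd G X).left.base ⁻¹' U) ∧
      a.act.left.base '' ((CartesianMonoidalCategory.snd G X).left.base ⁻¹'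
          (a.act.left.base '' ((CartesianMonoidalCategory.snd G X).left.base ⁻¹' U))) ⊆
        a.act.left.base '' ((CartesianMonoidalCategory.snd G X).left.base ⁻¹' U) ∧
      ∀ W : Set ↥X.left, IsOpen W → U ⊆ W →
        a.act.left.base '' ((CartesianMonoidalCategory.snd G X).left.base ⁻¹' W) ⊆ W →
          a.act.left.base '' ((CartesianMonoidalCategory.snd G X).left.base ⁻¹' U) ⊆ W := by
  haveI : UniversallyOpen a.act.left := act_of_hom a @UniversallyOpen inferInstance
  refine ⟨a.act.left.isOpenMap _ (hU.preimage (snd G X).left.continuous), fun x hx => ?_, ?_, fun W _ hUW hW => ?_⟩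
  · refine ⟨(lift (1 : X ⟶ G) (𝟙 X)).left x, ?_, ?_⟩
    · show (snd G X).left ((lift (1 : X ⟶ G) (𝟙 X)).left x) ∈ U
      rw [← Scheme.Hom.comp_apply, ← Over.comp_left, lift_snd]
      exact hx
    · rw [← Scheme.Hom.comp_apply, ← Over.comp_left, one_act']
      rfl
  · rintro _ ⟨p, ⟨q, hq, hqp⟩, rfl⟩
    obtain ⟨r, hr1, hr2⟩ : ∃ r : ↥(G ⊗ (G ⊗ X)).left, (G ◁ a.act).left r = p ∧ (snd G (G ⊗ X)).left r = q := by
      have hw : a.act.left ≫ X.hom = (G ⊗ X).hom := Over.w a.act
      have hsq : IsPullback (G ◁ a.act).left (snd G (G ⊗ X)).left (snd G X).left a.act.left := by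
        refine IsPullback.of_right (h₁₂ := (fst G X).left) (h₂₂ := X.hom) (v₁₃ := G.hom) ?_ ?_
          (IsPullback.of_hasPullback G.hom X.hom)
        · rw [← Over.comp_left, whiskerLeft_fst, hw]
          exact IsPullback.of_hasPullback G.hom (G ⊗ X).hom
        · rw [← Over.comp_left, ← Over.comp_left, whiskerLeft_snd]
      exact Scheme.exists_preimage_of_isPullback hsq p q hqp.symm
    refine ⟨(lift (fst G (G ⊗ X) * (snd G (G ⊗ X) ≫ fst G X)) (snd G (G ⊗ X) ≫ snd G X)).left r, ?_, ?_⟩
    · show (snd G X).left _ ∈ U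
      rw [← Scheme.Hom.comp_apply, ← Over.comp_left, lift_snd, Over.comp_left, Scheme.Hom.comp_apply, hr2]
      exact hq
    · have e : lift (fst G (G ⊗ X) * (snd G (G ⊗ X) ≫ fst G X)) (snd G (G ⊗ X) ≫ snd G X) ≫ a.act =
          (G ◁ a.act) ≫ a.act := by
        rw [← act_act, ← comp_lift, lift_fst_snd, Category.comp_id]
        congr 1
      rw [← hr1, ← Scheme.Hom.comp_apply, ← Scheme.Hom.comp_apply, ← Over.comp_left, ← Over.comp_left, e]
  · exact (Set.image_mono (Set.preimage_mono hUW)).trans hW

end Groth.Agent.S18824
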