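import Groth.Statements.S18826
import Groth.Agent.AlgGrpLib.OrbitLC
-- import your own Groth.Agent.* helpers here

set_option autoImplicit false
universe u
open CategoryTheory MonoidalCategory CartesianMonoidalCategory MonObj AlgebraicGeometry
open AlgGrp

namespace Groth.Agent.S18826

open Groth.Agent.AlgGrpLib.OrbitLC CategoryTheory.Limits

set_option backward.isDefEq.respectTransparency.types false in
/-- Restriction of a base change. -/
theorem restrict_pullback {A B X Y : Scheme.{u}} {h : A ⟶ X} {g : A ⟶ B} {f : X ⟶ Y} {r : B ⟶ Y}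
    (sq : IsPullback h g f r) (W : B.Opens) (U : Y.Opens) (q : (W : Scheme.{u}) ⟶ (U : Scheme.{u}))
    (hq : q ≫ U.ι = W.ι ≫ r) :
    ∃ h' : (g ⁻¹ᵁ W : Scheme.{u}) ⟶ (f ⁻¹ᵁ U : Scheme.{u}), IsPullback h' (g ∣_ W) (f ∣_ U) q := by
  have big : IsPullback ((g ⁻¹ᵁ W).ι ≫ h) (g ∣_ W) f (W.ι ≫ r) :=
    (isPullback_morphismRestrict g W).flip.paste_horiz sq
  rw [← hq] at big
  have hU := (isPullback_morphismRestrict f U).flip
  exact ⟨hU.lift ((g ⁻¹ᵁ W).ι ≫ h) (g ∣_ W ≫ q) (by rw [Category.assoc]; exact big.w.trans rfl),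
    IsPullback.of_right (by rw [hU.lift_fst]; exact big) (hU.lift_snd _ _ _) hU⟩


/-- Let k be a field, G a locally algebraic group over k (a group k-scheme locally of finite type)
acting on k-schemes X and Y, and f : X → Y a G-equivariant k-morphism. Let P be a property of
morphisms of schemes which is local on the target for the Zariski topology, stable under base
change, and descends along flat surjective universally open morphisms (the published hypothesis is
descent along fpqc morphisms; the printed argument descends only along the restriction G ×_k U → G·U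
of the action, which is flat, surjective and universally open). Then there is a largest open subset
V of Y such that the restriction f⁻¹(V) → V of f has P, and this V is G-stable: the action G ×_k Y →
Y maps G ×_k V into V. -/
theorem result (k : Type u) [Field k]
    (G X Y : Over (Spec (CommRingCat.of k))) [GrpObj G] [LocallyOfFiniteType G.hom]
    (aX : AlgGrp.Action G X) (aY : AlgGrp.Action G Y) (f : X ⟶ Y) (hf : (G ◁ f) ≫ aY.act = aX.act ≫ f)
    (P : MorphismProperty Scheme.{u}) [IsZariskiLocalAtTarget P] [P.IsStableUnderBaseChange]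
    [P.DescendsAlong (@Flat ⊓ @Surjective ⊓ @UniversallyOpen)] :
    ∃ V : Y.left.Opens, P (f.left ∣_ V) ∧ (∀ V' : Y.left.Opens, P (f.left ∣_ V') → V' ≤ V) ∧
      (CartesianMonoidalCategory.snd G Y).left ⁻¹ᵁ V ≤ aY.act.left ⁻¹ᵁ V := by
  classical
  let I := {W : Y.left.Opens // P (f.left ∣_ W)}
  let V : Y.left.Opens := ⨆ w : I, w.1
  have hV : P (f.left ∣_ V) := by
    refine IsZariskiLocalAtTarget.of_iSup_eq_top (P := P) (fun w : I => V.ι ⁻¹ᵁ w.1) ?_ fun w => ?_
    · rw [eq_top_iff]
      rintro ⟨y, hy⟩ -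
      obtain ⟨w, hw⟩ := TopologicalSpace.Opens.mem_iSup.1 hy
      exact TopologicalSpace.Opens.mem_iSup.2 ⟨w, hw⟩
    · rw [P.arrow_mk_iso_iff (morphismRestrictRestrict f.left V (V.ι ⁻¹ᵁ w.1))]
      have e : V.ι ''ᵁ (V.ι ⁻¹ᵁ w.1) = w.1 := by
        rw [Scheme.Hom.image_preimage_eq_opensRange_inf, Scheme.Opens.opensRange_ι]
        exact inf_eq_right.2 (le_iSup (fun w : I => w.1) w)
      rw [e]
      exact w.2
  refine ⟨V, hV, fun V' hV' => le_iSup (fun w : I => w.1) ⟨V', hV'⟩, ?_⟩
  -- the two base change squares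
  have sqS : IsPullback (snd G X).left (G ◁ f).left f.left (snd G Y).left := by
    refine IsPullback.of_bot (v₂₁ := (fst G Y).left) (v₂₂ := Y.hom) (h₃₁ := G.hom) ?_ ?_
      ((IsPullback.of_hasPullback G.hom Y.hom).flip)
    · rw [← Over.comp_left, whiskerLeft_fst, Over.w f]
      exact (IsPullback.of_hasPullback G.hom X.hom).flip
    · rw [← Over.comp_left, ← Over.comp_left, whiskerLeft_snd]
  haveI : IsIso (swapHom aX) := ⟨swapHom aX, swapHom_swapHom aX, swapHom_swapHom aX⟩
  haveI : IsIso (swapHom aY) := ⟨swapHom aY, swapHom_swapHom aY, swapHom_swapHom aY⟩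
  haveI : IsIso (swapHom aX).left := inferInstanceAs (IsIso ((Over.forget _).map (swapHom aX)))
  haveI : IsIso (swapHom aY).left := inferInstanceAs (IsIso ((Over.forget _).map (swapHom aY)))
  have hsw : swapHom aX ≫ (G ◁ f) = (G ◁ f) ≫ swapHom aY := by
    apply CartesianMonoidalCategory.hom_ext
    · simp only [Category.assoc, whiskerLeft_fst, swapHom, lift_fst, GrpObj.comp_inv]
    · simp only [Category.assoc, whiskerLeft_snd, reassoc_of% (swapHom_snd aX), swapHom_snd]
      exact hf.symm
  have sqA : IsPullback aX.act.left (G ◁ f).left f.left aY.act.left := by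
    rw [← swapHom_snd aX, ← swapHom_snd aY, Over.comp_left, Over.comp_left]
    refine IsPullback.paste_horiz (IsPullback.of_horiz_isIso ⟨?_⟩) sqS
    rw [← Over.comp_left, ← Over.comp_left, hsw]
  -- the open
  let W : (G ⊗ Y).left.Opens := (CartesianMonoidalCategory.snd G Y).left ⁻¹ᵁ V
  have hPW : P ((G ◁ f).left ∣_ W) := by
    obtain ⟨h', hh⟩ := restrict_pullback sqS W V ((snd G Y).left ∣_ V) (morphismRestrict_ι _ _)
    exact MorphismProperty.of_isPullback hh hV
  let U : Y.left.Opens := ⟨aY.act.left '' (W : Set (G ⊗ Y).left), isOpenMap_act aY _ W.2⟩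
  have hr : Set.range ⇑(W.ι ≫ aY.act.left) ⊆ Set.range ⇑U.ι := by
    rw [Scheme.Opens.range_ι]
    rintro _ ⟨w, rfl⟩
    exact ⟨w.1, w.2, rfl⟩
  let q := IsOpenImmersion.lift U.ι (W.ι ≫ aY.act.left) hr
  have hq : q ≫ U.ι = W.ι ≫ aY.act.left := IsOpenImmersion.lift_fac _ _ _
  haveI : Surjective q := ⟨fun y => by
    obtain ⟨w, hw, hwy⟩ := y.2
    refine ⟨⟨w, hw⟩, U.ι.isOpenEmbedding.injective ?_⟩
    exact (Scheme.Hom.comp_apply q U.ι _).symm.trans
      ((congrArg (fun g : (W : Scheme.{u}) ⟶ Y.left => g ⟨w, hw⟩) hq).trans hwy)⟩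
  haveI : Flat (snd G Y).left := inferInstanceAs (Flat (pullback.snd G.hom Y.hom))
  haveI : UniversallyOpen (snd G Y).left :=
    inferInstanceAs (UniversallyOpen (pullback.snd G.hom Y.hom))
  have hact : aY.act.left = (swapHom aY).left ≫ (snd G Y).left := by rw [← Over.comp_left, swapHom_snd]
  haveI : Flat aY.act.left := hact ▸ inferInstance
  haveI : UniversallyOpen aY.act.left := hact ▸ inferInstance
  haveI hqp : Flat q ∧ UniversallyOpen q := by
    have sq : IsPullback q (𝟙 (W : Scheme.{u})) U.ι (q ≫ U.ι) := by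
      refine IsPullback.of_vert_isIso_mono ⟨?_⟩
      rw [Category.id_comp]
    haveI : Flat (q ≫ U.ι) := hq ▸ inferInstance
    haveI : UniversallyOpen (q ≫ U.ι) := hq ▸ inferInstance
    exact ⟨MorphismProperty.of_isPullback sq.flip ‹Flat (q ≫ U.ι)›,
      MorphismProperty.of_isPullback sq.flip ‹UniversallyOpen (q ≫ U.ι)›⟩
  obtain ⟨h', hh⟩ := restrict_pullback sqA W U q hq
  have hU : P (f.left ∣_ U) := MorphismProperty.DescendsAlong.of_isPullback
    (Q := @Flat ⊓ @Surjective ⊓ @UniversallyOpen) hh.flip ⟨⟨hqp.1, ‹Surjective q›⟩, hqp.2⟩ hPW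
  intro w hw
  exact le_iSup (fun w : I => w.1) ⟨U, hU⟩ (⟨w, hw, rfl⟩ : aY.act.left w ∈ U)

end Groth.Agent.S18826
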