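import Groth.Statements.S18829
import Groth.Agent.HopfLib.ReductiveExtra
import Mathlib.RingTheory.HopfAlgebra.MonoidAlgebra
import Mathlib.RingTheory.Bialgebra.Equiv

set_option autoImplicit false
universe u
open scoped TensorProduct
open HopfRep

namespace Groth.Agent.S18829

/-- Let k be a field and A a finitely generated commutative Hopf algebra over k, the coordinate ring of
an affine algebraic group T. Suppose T is a torus: for some algebraically closed field extension K
of k the base change K ⊗_k A is isomorphic as a K-bialgebra to the group algebra over K of a free
abelian group ℤ^n (T_K is a split torus of rank n). Then T is linearly reductive in the sense that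
every finite-dimensional A-comodule is semisimple. (The source's definition of a torus asks for such
an isomorphism over every algebraically closed extension; one suffices for the printed argument. The
source's notion of a linearly reductive algebraic group also includes smoothness of T over k, which
this row does not assert.) -/
theorem result (k K A : Type u) [Field k] [Field K]
    [Algebra k K] [IsAlgClosed K] [CommRing A] [HopfAlgebra k A] [Algebra.FiniteType k A] (n : ℕ)
    (e : (K ⊗[k] A) ≃ₐc[K] MonoidAlgebra K (Multiplicative (Fin n → ℤ))) :
    HopfRep.IsLinearlyReductive k A := by
  classical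
  let γ : MonoidAlgebra K (Multiplicative (Fin n → ℤ)) →ₗ[K] K :=
    (Finsupp.lapply (1 : Multiplicative (Fin n → ℤ))).comp (MonoidAlgebra.coeffLinearEquiv K).toLinearMap
  have hγ : Groth.Agent.HopfLib.IsIntegral γ := fun a => by
    induction a using MonoidAlgebra.induction_linear with
    | zero => simp
    | add f g hf hg => simp only [map_add, add_smul, hf, hg]
    | single m r =>
      rw [MonoidAlgebra.comul_single, CommSemiring.comul_apply, TensorProduct.map_tmul,
        Groth.Agent.HopfLib.sliceL_tmul]
      by_cases h : m = 1
      · subst h
        simp [γ, MonoidAlgebra.one_def, MonoidAlgebra.smul_single]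
      · simp [γ, h]
  let β : K ⊗[k] A →ₗ[K] K := γ ∘ₗ (e.toAlgEquiv.toLinearEquiv.toLinearMap)
  have hβ : Groth.Agent.HopfLib.IsIntegral β := by
    intro x
    apply e.toAlgEquiv.injective
    have h := hγ (e x)
    rw [← CoalgHomClass.map_comp_comul_apply e x] at h
    rw [map_smul, map_one]
    refine Eq.trans ?_ h
    generalize CoalgebraStruct.comul (R := K) x = t
    induction t using TensorProduct.induction_on with
    | zero => simp
    | add p q hp hq => simp only [map_add, hp, hq]
    | tmul y z => simp [β]
  obtain ⟨α, hα, h1⟩ := Groth.Agent.HopfLib.exists_integral_of_baseChange hβ
    (by simp [β, γ, MonoidAlgebra.one_def])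
  exact Groth.Agent.HopfLib.isLinearlyReductive_of_integral hα h1

end Groth.Agent.S18829
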