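import Groth.Statements.S18831
import Groth.Agent.VB5.RankTwo
import Groth.Agent.SGA3cLib.CentralDescent
import Groth.Agent.AbVarLib.GeomIntegralSmooth

set_option autoImplicit false
set_option linter.all false
universe u
open CategoryTheory CategoryTheory.Limits AlgebraicGeometry
open VBCurve

namespace Groth.Agent.S18831

/-- Let X be a smooth projective integral curve over an algebraically closed field k of characteristic
zero, and G a finite locally free O_X-module of rank r ≥ 1 which is slope-semistable, of slope μ =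
deg G / r (deg G = χ(G) − r χ(O_X)). Then dim_k H^0(X, G) ≤ r · max(⌊μ⌋ + 1, 0); in particular a
slope-semistable bundle of negative slope has no nonzero global section. -/
theorem result (k : Type u) [Field k] [IsAlgClosed k] [CharZero k]
    (X : Scheme.{u}) [X.Over (Spec (CommRingCat.of k))]
    [IsIntegral X] [IsProper (X ↘ Spec (CommRingCat.of k))] [Smooth (X ↘ Spec (CommRingCat.of k))]
    (hdim : topologicalKrullDim X = 1)
    (r : ℕ) (hr : 0 < r) (G : X.Modules) (hG : FlatMod.IsFinLocFreeOfRank r G)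
    (hss : ModFun.IsSlopeSemistable k X G r) :
    (Module.finrank k (Coh.HH X G 0) : ℤ) ≤
      (r : ℤ) * max (⌊(Curv2.deg k X G r : ℚ) / (r : ℚ)⌋ + 1) 0 := by
  haveI : GeometricallyConnected (X ↘ Spec (CommRingCat.of k)) :=
    SGA3cLib.CentralDescent.geometricallyConnected_of_isAlgClosed _
  haveI : GeometricallyIntegral (X ↘ Spec (CommRingCat.of k)) := AbVarLib.geometricallyIntegral_of_smooth _
  haveI := CurveRR24.isLocallyNoetherian_of_proper k (X := X)
  have hn := VB5.isIntegrallyClosed_stalk k (X := X)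
  have hs : VB5.SS k G := (VB5.ss_iff k hdim hn hG).2 hss
  let q : ℚ := (Curv2.deg k X G r : ℚ) / (r : ℚ)
  have hr' : (0 : ℚ) < (r : ℚ) := by exact_mod_cast hr
  obtain ⟨n, hn'⟩ : ∃ n : ℕ, (n : ℤ) = max (⌊q⌋ + 1) 0 := ⟨_, Int.toNat_of_nonneg (le_max_right _ _)⟩
  show _ ≤ (r : ℤ) * max (⌊q⌋ + 1) 0
  rw [← hn']
  have hlt : q < ((n : ℤ) : ℚ) := by
    refine lt_of_lt_of_le (Int.lt_floor_add_one q) ?_
    exact_mod_cast hn'.symm ▸ le_max_left (⌊q⌋ + 1) 0
  rw [div_lt_iff₀ hr'] at hlt
  have hd : Curv2.deg k X G r < (n : ℤ) * r := by exact_mod_cast hlt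
  rw [VB5.deg_eq_gdeg k hG] at hd
  exact_mod_cast VB5.h0_le_of_ss k hdim n hG hs hd

end Groth.Agent.S18831
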