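import Groth.Statements.S18840
import Groth.Agent.VB5.SlopeBound
import Groth.Agent.VB5.Elliptic
import Groth.Agent.SGA3cLib.CentralDescent
import Groth.Agent.AbVarLib.GeomIntegralSmooth

set_option autoImplicit false
set_option linter.all false
universe u
open CategoryTheory CategoryTheory.Limits AlgebraicGeometry Polynomial
open VBCurve

namespace Groth.Agent.S18840

/-- Let k be an algebraically closed field of characteristic zero, X a smooth projective integral curve
over k with an ample invertible sheaf L, N ≥ 0 and P a rational polynomial. There is an integer l,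
depending only on X, L, N and P, such that for every vector bundle F of rank r ≥ 1 on X which is a
quotient of O_X^N with Hilbert polynomial P (with respect to L), F is slope-semistable if and only
if dim H^0(X, F'(l)) / r' ≤ dim H^0(X, F(l)) / r for every sub-bundle (finite locally free
submodule) F' ⊂ F of rank r' ≥ 1; here G(l) = G ⊗ L^(⊗l). The source polarises X by a very ample
O_X(1); only the positivity of its degree enters, so an ample L is taken. -/
theorem result (k : Type u) [Field k] [IsAlgClosed k] [CharZero k]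
    (X : Scheme.{u}) [X.Over (Spec (CommRingCat.of k))]
    [IsIntegral X] [IsProper (X ↘ Spec (CommRingCat.of k))] [Smooth (X ↘ Spec (CommRingCat.of k))]
    (hdim : topologicalKrullDim X = 1)
    (L : X.Modules) (hLi : PicF.IsInvertible L) (hL : CohB1.IsAmple L)
    (N : ℕ) (P : ℚ[X]) :
    ∃ l : ℕ, ∀ (r : ℕ) (F : X.Modules) (q : FlatMod.freeMod X N ⟶ F),
      0 < r → FlatMod.IsFinLocFreeOfRank r F → Epi q → ShStab.IsHilbPoly k X L F P →
        (ModFun.IsSlopeSemistable k X F r ↔
          ∀ (F' : X.Modules) (r' : ℕ) (i : F' ⟶ F), Mono i → 0 < r' → FlatMod.IsFinLocFreeOfRank r' F' →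
            (Module.finrank k (Coh.HH X (ShStab.twist X L F' l) 0) : ℚ) / (r' : ℚ) ≤
              (Module.finrank k (Coh.HH X (ShStab.twist X L F l) 0) : ℚ) / (r : ℚ)) := by
  haveI : GeometricallyConnected (X ↘ Spec (CommRingCat.of k)) :=
    SGA3cLib.CentralDescent.geometricallyConnected_of_isAlgClosed _
  haveI : GeometricallyIntegral (X ↘ Spec (CommRingCat.of k)) := AbVarLib.geometricallyIntegral_of_smooth _
  haveI := CurveRR24.isLocallyNoetherian_of_proper k (X := X)
  have hn := VB5.isIntegrallyClosed_stalk k (X := X)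
  classical
  haveI := EulerLib.isNoetherian_of_proper k (X := X)
  let g := Curv2.genus k X
  let δ := Curv2.deg k X L 1
  have hδ : 0 < δ := by
    haveI := LocallyOfFiniteType.jacobsonSpace (X ↘ Spec (CommRingCat.of k))
    obtain ⟨p, -, hp⟩ := nonempty_inter_closedPoints (X := X) Set.univ_nonempty isClosed_univ.isLocallyClosed
    have hI := CurveRR24.isInvertible_ptIdeal_of_normal k hdim hp (hn p)
    obtain ⟨N₀, hN₀⟩ := AmpleLib.eventually_globallyGenerated hL _ (VB5.isCoh_of_line hI)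
    obtain ⟨ι, q, hq⟩ := hN₀ N₀ le_rfl
    have hLn := AmpleLib.isInvertible_tensorPow hLi N₀
    have hT := AmpleLib.isInvertible_tensorMod hI hLn
    let q' : Coherent.freeMod X ι ⟶ _ := q
    haveI : Epi q' := hq
    obtain ⟨i, hi⟩ : ∃ i, Coherent.freeInj i ≫ q' ≠ 0 := by
      by_contra hall
      push Not at hall
      exact VB5.not_isZero_of_grk (PicLib.isFinLocFreeOfRank_one hT) Nat.one_pos
        (IsZero.of_epi_eq_zero q' (Coherent.freeMod_hom_ext fun i => (hall i).trans comp_zero.symm))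
    have h := (VB5.line_map k hdim hn AmpleLib.isInvertible_structureModule hT _ hi).1
    rw [VB5.gdeg_structure k hdim, VB5.gdeg_tensor_line k hdim hI hLn, ← VB5.deg_line k hI, ← VB5.deg_line k hLn,
      CurveRR24.deg_ptIdeal k hp, CurveRR24.finrank_resField k hp, CurveRR24.deg_tensorPow k hdim.le hLi] at h
    push_cast at h
    by_contra hle
    push Not at hle
    nlinarith [mul_nonpos_of_nonneg_of_nonpos (Int.natCast_nonneg N₀) hle]
  by_cases hne : ∃ (r : ℕ) (F : X.Modules), 0 < r ∧ FlatMod.IsFinLocFreeOfRank r F ∧ ShStab.IsHilbPoly k X L F P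
  swap
  · exact ⟨0, fun r F q hr hF _ hP => absurd ⟨r, F, hr, hF, hP⟩ hne⟩
  obtain ⟨r₀, F₀, hr₀, hF₀, hP₀⟩ := hne
  obtain ⟨l, hl⟩ : ∃ l : ℕ, |VB5.gdeg k F₀| + (g : ℤ) * (r₀ + 1) + 2 * g ≤ l :=
    ⟨(|VB5.gdeg k F₀| + (g : ℤ) * (r₀ + 1) + 2 * g).toNat, Int.self_le_toNat _⟩
  refine ⟨l, fun r F q hr hF hq hP => ?_⟩
  haveI := hq
  have tw : ∀ {r : ℕ} {F : X.Modules}, FlatMod.IsFinLocFreeOfRank r F → ∀ m : ℕ,
      VB5.gdeg k (ShStab.twist X L F m) = VB5.gdeg k F + (r : ℤ) * ((m : ℤ) * δ) := fun {r F} hF m => by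
    show VB5.gdeg k (CohB1.tensorMod F _) = _
    rw [VB5.gdeg_twist k hdim hn (AmpleLib.isInvertible_tensorPow hLi m) r hF,
      ← VB5.deg_line k (AmpleLib.isInvertible_tensorPow hLi m), CurveRR24.deg_tensorPow k hdim.le hLi]
  have hev : ∀ {r : ℕ} {F : X.Modules}, FlatMod.IsFinLocFreeOfRank r F → ∀ m : ℕ,
      Curv2.euler k X (ShStab.twist X L F m) = VB5.gdeg k F + (r : ℤ) * ((m : ℤ) * δ) + (r : ℤ) * (1 - (g : ℤ)) :=
    fun {r F} hF m => by
      rw [VB5.euler_eq_gdeg k hdim, tw hF m]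
      show _ + (VB5.grk (CohB1.tensorMod F _) : ℤ) * _ = _
      rw [VB5.grk_twist hF (AmpleLib.isInvertible_tensorPow hLi m)]
  have q0 : Curv2.euler k X (ShStab.twist X L F 0) = Curv2.euler k X (ShStab.twist X L F₀ 0) := by
    exact_mod_cast (hP 0).trans (hP₀ 0).symm
  have q1 : Curv2.euler k X (ShStab.twist X L F 1) = Curv2.euler k X (ShStab.twist X L F₀ 1) := by
    exact_mod_cast (hP 1).trans (hP₀ 1).symm
  rw [hev hF, hev hF₀] at q0 q1
  push_cast at q0 q1
  have hrr : (r : ℤ) = r₀ := mul_right_cancel₀ hδ.ne' (by linarith)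
  rw [hrr] at q0
  have hdd : VB5.gdeg k F = VB5.gdeg k F₀ := by linarith
  rw [← hdd, show r₀ = r from (Int.natCast_inj.1 hrr).symm] at hl
  have hLl := AmpleLib.isInvertible_tensorPow hLi l
  let E := ShStab.twist X L F l
  have hE : FlatMod.IsFinLocFreeOfRank r E := Clifford24.isFinLocFreeOfRank_tensorMod hF hLl
  have hEc := SplitP1.isCoh_of_rank hE
  have hr' : (0 : ℤ) < r := by exact_mod_cast hr
  have hg0 : (0 : ℤ) ≤ g := Int.natCast_nonneg _
  have hlδ : (l : ℤ) ≤ (l : ℤ) * δ := le_mul_of_one_le_right (Int.natCast_nonneg _) hδ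
  have hD : (r : ℤ) * ((g : ℤ) * (r + 1)) ≤ VB5.gdeg k E + r := by
    rw [tw hF]
    nlinarith [neg_abs_le (VB5.gdeg k F), mul_nonneg (sub_nonneg.2 hr') (abs_nonneg (VB5.gdeg k F)),
      mul_le_mul_of_nonneg_left (le_trans hl hlδ) hr'.le, abs_nonneg (VB5.gdeg k F)]
  have h1E : Subsingleton (Coh.HH X E 1) := by
    by_contra h
    obtain ⟨Ω, f, hΩ, hdΩ, hf⟩ := VB5.exists_hom_omega k hdim hEc h
    obtain ⟨M, hM, ⟨e⟩⟩ := CurveRR24.exists_inverse k hLl
    obtain ⟨back⟩ := VB5.nonempty_untwist F hLl hM e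
    let f' := back.inv ≫ SerreDual.tensorRightHom k _ _ M f
    have hf' : f' ≠ 0 := fun h0 => hf (SerreDual.tensorRightHom_injective k _ _ hM (by
      rw [map_zero]; exact (cancel_epi back.inv).1 (h0.trans comp_zero.symm)))
    have hqf : q ≫ f' ≠ 0 := fun h0 => hf' ((cancel_epi q).1 (h0.trans comp_zero.symm))
    obtain ⟨i, hi⟩ : ∃ i, Sigma.ι (fun _ : Fin N => Coh.structureModule X) i ≫ q ≫ f' ≠ 0 := by
      by_contra hall
      push Not at hall
      exact hqf (Sigma.hom_ext _ _ fun i => (hall i).trans comp_zero.symm)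
    have h2 := (VB5.line_map k hdim hn AmpleLib.isInvertible_structureModule
      (AmpleLib.isInvertible_tensorMod hΩ hM) _ hi).1
    rw [VB5.gdeg_structure k hdim, VB5.gdeg_tensor_line k hdim hΩ hM, hdΩ, VB5.gdeg_inverse k hdim hLl hM e,
      ← VB5.deg_line k hLl, CurveRR24.deg_tensorPow k hdim.le hLi] at h2
    have h3 : (0 : ℤ) ≤ (g : ℤ) * (r + 1) := mul_nonneg hg0 (by linarith)
    simp only [g, δ] at hl h3 hlδ
    linarith [abs_nonneg (VB5.gdeg k F)]
  have h0E : (Module.finrank k (Coh.HH X E 0) : ℤ) = VB5.gdeg k E + (r : ℤ) * (1 - (g : ℤ)) := by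
    rw [← (VB5.subsingleton_h1_iff_h0 k hdim hEc).1 h1E, VB5.grk_eq hE]
  constructor
  · intro hss F' r' i hi hr'' hF'
    haveI := hi
    have hssE : VB5.SS k E := ((VB5.ss_iff k hdim hn hF).2 hss).twist k hdim hn hF hLl
    let ι : ShStab.twist X L F' l ⟶ E := AmpleLib.tensorMap i (𝟙 (CohB1.tensorPow L l))
    haveI : Mono ι := EulerLib.mono_tensorMap hLl i
    have hF'E : FlatMod.IsFinLocFreeOfRank r' (ShStab.twist X L F' l) :=
      Clifford24.isFinLocFreeOfRank_tensorMod hF' hLl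
    have h := VB5.h0_sub_le k hdim hr hE hssE hD (A := ShStab.twist X L F' l)
      ι (SplitP1.isCoh_of_rank hF'E)
    rw [VB5.grk_eq hF'E, ← h0E] at h
    rw [div_le_div_iff₀ (by exact_mod_cast hr'') (by exact_mod_cast hr)]
    have h' : (Module.finrank k (Coh.HH X (ShStab.twist X L F' l) 0) : ℤ) * r ≤
        (Module.finrank k (Coh.HH X E 0) : ℤ) * r' := by linarith
    exact_mod_cast h'
  · intro hle F' r' i hi hr'' hF'
    haveI := hi
    have hF'E : FlatMod.IsFinLocFreeOfRank r' (ShStab.twist X L F' l) :=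
      Clifford24.isFinLocFreeOfRank_tensorMod hF' hLl
    have h := hle F' r' i hi hr'' hF'
    rw [div_le_div_iff₀ (by exact_mod_cast hr'') (by exact_mod_cast hr)] at h
    have h' : (Module.finrank k (Coh.HH X (ShStab.twist X L F' l) 0) : ℤ) * r ≤
        (Module.finrank k (Coh.HH X E 0) : ℤ) * r' := by exact_mod_cast h
    have h2 := VB5.gdeg_le_h0_add k hdim (SplitP1.isCoh_of_rank hF'E)
    rw [VB5.grk_eq hF'E, tw hF' l] at h2
    rw [h0E, tw hF l] at h'
    have h3 := mul_le_mul_of_nonneg_right h2 hr'.le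
    rw [VB5.deg_eq_gdeg k hF', VB5.deg_eq_gdeg k hF]
    simp only [g, δ] at h3 h'
    linarith

end Groth.Agent.S18840
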