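import Groth.Statements.S18843
import Groth.Agent.TF7.Simple
import Groth.Agent.TF7.ModifIneq
-- import your own Groth.Agent.* helpers here

set_option autoImplicit false
set_option linter.style.haveILetI false
set_option backward.isDefEq.respectTransparency false
universe u
open CategoryTheory AlgebraicGeometry
open TFOne

namespace Groth.Agent.S18843

/-- Let X be a proper, geometrically reduced scheme of pure dimension one over a field k whose
irreducible components (with their reduced structure) are geometrically integral over k, and let M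
be a torsion-free rank-1 sheaf on X. Let Y and Z be closed subcurves (non-empty unions of
irreducible components) with Y ∪ Z = X which have an irreducible component in common. If the
torsion-free quotients M_Y and M_Z of M on Y and on Z (pinned by their defining property) are both
simple over k, then M is simple over k. -/
theorem result (k : Type u) [Field k] (X : Scheme.{u}) [X.Over (Spec (CommRingCat.of k))] [IsProper (X ↘ Spec (CommRingCat.of k))] [IsReduced X] [GeometricallyReduced (X ↘ Spec (CommRingCat.of k))] (hpure : ∀ C ∈ irreducibleComponents (X : Type u), topologicalKrullDim C = 1) (hgi : ∀ (C : Set X) (hC : C ∈ irreducibleComponents (X : Type u)), GeometricallyIntegral (VecSt.subschι X C (isClosed_of_mem_irreducibleComponents C hC) ≫ (X ↘ Spec (CommRingCat.of k)))) (M : X.Modules) (hM : TFOne.IsTF1 X M) (Y Z : Set X) (hY : IsClosed Y) (hZ : IsClosed Z) (hYs : VecSt.IsSubcurve X Y) (hZs : VecSt.IsSubcurve X Z) (hcov : Y ∪ Z = Set.univ) (hmeet : ∃ C ∈ irreducibleComponents (X : Type u), C ⊆ Y ∩ Z) (GY GZ : X.Modules)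 (πY : M ⟶ GY) (πZ : M ⟶ GZ) (hGY : TFOne.IsQuotOn X M Y GY πY) (hGZ : TFOne.IsQuotOn X M Z GZ πZ) (hsY : TFOne.IsSimple X k (X ↘ Spec (CommRingCat.of k)) GY) (hsZ : TFOne.IsSimple X k (X ↘ Spec (CommRingCat.of k)) GZ) : TFOne.IsSimple X k (X ↘ Spec (CommRingCat.of k)) M := by
  haveI := Groth.Agent.EulerLib.isNoetherian_of_proper (X := X) k
  have hM' := Groth.Agent.TF7.leOne_of_isRkOne hM.2.2
  obtain ⟨C, hC, hCs⟩ := hmeet
  have hgen := hC.1.isGenericPoint_genericPoint (isClosed_of_mem_irreducibleComponents C hC)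
  have hη : hC.1.genericPoint ∈ genericPoints (X : Type u) := by
    show closure _ ∈ irreducibleComponents (X : Type u)
    rw [hgen.def]; exact hC
  obtain ⟨m₀, hm₀⟩ := Groth.Agent.TF7.exists_ne_zero hGY (hCs hgen.mem).1
  refine ⟨fun hz => hm₀ ?_, fun f => ?_⟩
  · haveI := (DerSch.stalkFunctor X hC.1.genericPoint).map_isZero hz |> ModuleCat.isZero_iff_subsingleton.1
    exact Subsingleton.elim _ _
  · obtain ⟨c, hc⟩ := Groth.Agent.TF7.end_eq_scalar_generic k hM' hGY hsY f
    obtain ⟨d, hd⟩ := Groth.Agent.TF7.end_eq_scalar_generic k hM' hGZ hsZ f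
    have hcd : c = d := Groth.Agent.TF7.cst_unique k hη hm₀
      ((hc _ hη (hCs hgen.mem).1 m₀).symm.trans (hd _ hη (hCs hgen.mem).2 m₀))
    refine ⟨c, sub_eq_zero.1 (Groth.Agent.VarietyLib.eq_zero_of_stalks _ fun x v => ?_)⟩
    refine Groth.Agent.TF7.eq_zero_of_generic hM.1.1 hM.2.1 _ fun η hη hs => ?_
    rw [Groth.Agent.TF7.spec_map, Groth.Agent.TF7.map_sub_scalar, sub_eq_zero]
    rcases (hcov.ge (Set.mem_univ η) : η ∈ Y ∪ Z) with h | h
    · exact hc η hη h _
    · rw [hcd]; exact hd η hη h _

end Groth.Agent.S18843
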