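import Groth.Statements.S18848
import Groth.Agent.TF7.SubSemistable
import Groth.Agent.TF7.ModifTF
-- import your own Groth.Agent.* helpers here

set_option autoImplicit false
set_option linter.style.haveILetI false
set_option backward.isDefEq.respectTransparency false
universe u
open CategoryTheory CategoryTheory.Limits AlgebraicGeometry
open TFOne

namespace Groth.Agent.S18848

/-- Let R be a discrete valuation ring with residue field κ, f : X ⟶ Spec R flat and proper, and X_s its
special fibre, assumed reduced of pure dimension one with geometrically integral irreducible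
components over κ. Let I be a coherent R-flat module on X whose restriction I(s) to X_s is
torsion-free rank-1, E a locally free module of rank r > 0 on X with restriction E(s), and d an
integer with χ(I(s)) = d and deg E(s) = -r·d. For a closed subset T of X_s write I(s)_T for the
torsion-free quotient of I(s) on T (pinned by its defining property) and β(T) := r·χ(I(s)_T) +
deg(E(s)|_T) (the source's β cleared of the denominator r). Let Y be a closed subcurve of X_s (a
non-empty union of irreducible components), and let I^Y be the kernel of the composite I ⟶ i_* I(s)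
⟶ i_* I(s)_Y, with restriction I^Y(s) to X_s and quotients I^Y(s)_T and numbers β^Y(T) :=
r·χ(I^Y(s)_T) + deg(E(s)|_T) defined likewise. Assume I(s) is semistable with respect to E(s). Then
I^Y(s) is semistable with respect to E(s) if and only if β(Y) = 0 and I(s)_Y, viewed on the reduced
closed subscheme Y, is semistable with respect to E(s)|_Y. (Here β(Y) = 0 says that E(s)|_Y is a
polarisation for I(s)_Y, the source's implicit requirement for semistability with respect to
E(s)|_Y. The source states the conclusion for semistability of I^Y over Spec R, which it reduces at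
once to the special fibre since I^Y and I agree off Y; it also asserts that I^Y(s) and I(s) are then
Jordan–Hölder equivalent, which is not stated here; it takes f projective.) -/
theorem result (R : Type u) [CommRing R] [IsDomain R] [IsDiscreteValuationRing R] (X : Scheme.{u}) (f : X ⟶ Spec (CommRingCat.of R)) [Flat f] [IsProper f] (Xs : Scheme.{u}) [Xs.Over (Spec (CommRingCat.of (IsLocalRing.ResidueField R)))] (i : Xs ⟶ X) (hsq : IsPullback i (Xs ↘ Spec (CommRingCat.of (IsLocalRing.ResidueField R))) f (Spec.map (CommRingCat.ofHom (IsLocalRing.residue R)))) [IsReduced Xs] (hpure : ∀ C ∈ irreducibleComponents (Xs : Type u), topologicalKrullDim C = 1) (hgi : ∀ (C : Set Xs) (hC : C ∈ irreducibleComponents (Xs : Type u)), GeometricallyIntegral (VecSt.subschι Xs C (isClosed_of_mem_irreducibleComponents C hC) ≫ (Xs ↘ Spec (CommRingCat.of (IsLocalRing.ResidueField R))))) (I : X.Modules) (hIc : Coh.IsCoh I) (hIf : FlatMod.IsFlatOver f I) (hIs : TFOne.IsTF1 Xs ((Scheme.Modules.pullback i).obj I))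 (E : X.Modules) (r : ℕ) (hr : 0 < r) (hE : FlatMod.IsFinLocFreeOfRank r E) (d : ℤ) (hχ : Curv2.euler (IsLocalRing.ResidueField R) Xs ((Scheme.Modules.pullback i).obj I) = d) (hEd : Curv2.deg (IsLocalRing.ResidueField R) Xs ((Scheme.Modules.pullback i).obj E) r = -(r : ℤ) * d) (hss : TFOne.IsSemistable Xs (IsLocalRing.ResidueField R) (Xs ↘ Spec (CommRingCat.of (IsLocalRing.ResidueField R))) ((Scheme.Modules.pullback i).obj I) ((Scheme.Modules.pullback i).obj E) r) (Y : Set Xs) (hY : IsClosed Y) (hYs : VecSt.IsSubcurve Xs Y) (GY : Xs.Modules) (πY : ((Scheme.Modules.pullback i).obj I) ⟶ GY) (hGY : TFOne.IsQuotOn Xs ((Scheme.Modules.pullback i).obj I) Y GY πY) (IY : X.Modules) (hIY : IY = kernel ((Scheme.Modules.pullbackPushforwardAdjunction i).unit.app I ≫ (Scheme.Modules.pushforward i).map πY)) : TFOne.IsSemistable Xs (IsLocalRing.ResidueField R) (Xs ↘ Spec (CommRingCat.of (IsLocalRing.ResidueField R))) ((Scheme.Modules.pullback i).obj IY) ((Scheme.Modules.pullback i).obj E) r ↔ (TFOne.rBeta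 Xs (IsLocalRing.ResidueField R) (Xs ↘ Spec (CommRingCat.of (IsLocalRing.ResidueField R))) Y hY ((Scheme.Modules.pullback i).obj E) r GY = 0 ∧ TFOne.IsSemistable (VecSt.subsch Xs Y hY) (IsLocalRing.ResidueField R) (VecSt.subschι Xs Y hY ≫ (Xs ↘ Spec (CommRingCat.of (IsLocalRing.ResidueField R)))) ((Scheme.Modules.pullback (VecSt.subschι Xs Y hY)).obj GY) ((Scheme.Modules.pullback (VecSt.subschι Xs Y hY)).obj ((Scheme.Modules.pullback i).obj E)) r) := by
  haveI := hGY.1
  obtain ⟨hp, -⟩ := Groth.Agent.TF7.setup f i hsq I πY hIY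
  haveI := hp
  haveI := Groth.Agent.EulerLib.isNoetherian_of_proper (X := Xs) (IsLocalRing.ResidueField R)
  obtain ⟨hNc, S, hμ⟩ := Groth.Agent.TF7.setup_flat f i hsq I hIc hIf πY hGY.2.1 hIY
  have hN := S.isTF1 hIs hGY hNc hμ
  have hE' := Groth.Agent.GrassLib.isFinLocFreeOfRank_pullback i hE
  have hM := Groth.Agent.TF7.leOne_of_isRkOne hIs.2.2
  have h0 : (r : ℤ) * Curv2.euler (IsLocalRing.ResidueField R) Xs ((Scheme.Modules.pullback i).obj I) +
      Curv2.deg (IsLocalRing.ResidueField R) Xs ((Scheme.Modules.pullback i).obj E) r = 0 := by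
    rw [hχ, hEd]; ring
  have hnn := fun (T : Set Xs) (hT : IsClosed T) (hTs : VecSt.IsSubcurve Xs T) (G : Xs.Modules)
    (π : (Scheme.Modules.pullback i).obj I ⟶ G) (h : TFOne.IsQuotOn Xs _ T G π) =>
    Groth.Agent.TF7.rBeta_nonneg (IsLocalRing.ResidueField R) hE' hss h0 hT hTs h
  have hempty : ∀ (W : Set Xs) (hW : IsClosed W), (∀ η ∈ genericPoints (Xs : Type u), η ∉ W) →
      ∀ (G : Xs.Modules) (π : (Scheme.Modules.pullback i).obj I ⟶ G), TFOne.IsQuotOn Xs _ W G π →
      TFOne.rBeta Xs (IsLocalRing.ResidueField R) (Xs ↘ Spec (CommRingCat.of (IsLocalRing.ResidueField R))) W hW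
        ((Scheme.Modules.pullback i).obj E) r G = 0 := fun W hW hn G π h => by
    rw [Groth.Agent.TF7.rBeta_eq, Groth.Agent.TF7.euler_noGeneric (IsLocalRing.ResidueField R) h hn,
      Groth.Agent.TF7.degOn_noGeneric (IsLocalRing.ResidueField R) hpure hE' hW hn, mul_zero, add_zero]
  constructor
  · intro hNs
    refine ⟨?_, Groth.Agent.TF7.isSemistable_sub (IsLocalRing.ResidueField R) hIs hE' hnn hY hYs hGY⟩
    by_cases hu : Y = Set.univ
    · subst hu
      haveI := Groth.Agent.TF7.mono_of_univ (IsLocalRing.ResidueField R) hIs hGY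
      rw [Groth.Agent.TF7.rBeta_eq, Groth.Agent.TF7.degOn_univ (IsLocalRing.ResidueField R) hE',
        ← Groth.Agent.EulerLib.euler_congr (IsLocalRing.ResidueField R) Xs (asIso πY), h0]
    obtain ⟨hY'c, G2, π2, hG2⟩ := Groth.Agent.TF7.exists_quot_components (IsLocalRing.ResidueField R) hN
      (fun C => ¬ C ⊆ Y)
    obtain ⟨hEc, GE, πE, hGE⟩ := Groth.Agent.TF7.exists_quot_components (IsLocalRing.ResidueField R) hIs
      (fun _ => False)
    obtain ⟨GA, πA, hGA, hA⟩ := Groth.Agent.TF7.exists_quot_univ (IsLocalRing.ResidueField R) hIs hE'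
    have mY' : ∀ η ∈ genericPoints (Xs : Type u),
        η ∈ ⋃₀ {C | C ∈ irreducibleComponents (Xs : Type u) ∧ ¬ C ⊆ Y} ↔ η ∉ Y := fun η hη => by
      rw [Groth.Agent.TF7.mem_sUnion_components hη, Groth.Agent.TF7.closure_subset_iff_mem hY]
    have mE : ∀ η ∈ genericPoints (Xs : Type u),
        η ∉ ⋃₀ {C | C ∈ irreducibleComponents (Xs : Type u) ∧ False} :=
      fun η hη h => (Groth.Agent.TF7.mem_sUnion_components hη).1 h
    have eW : ∀ η ∈ genericPoints (Xs : Type u),
        η ∈ ⋃₀ {C | C ∈ irreducibleComponents (Xs : Type u) ∧ False} ↔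
          η ∈ Y ∧ η ∈ ⋃₀ {C | C ∈ irreducibleComponents (Xs : Type u) ∧ ¬ C ⊆ Y} :=
      fun η hη => iff_of_false (mE η hη) fun h => (mY' η hη).1 h.2 h.1
    have eU : ∀ η ∈ genericPoints (Xs : Type u),
        η ∈ (Set.univ : Set Xs) ↔ η ∈ Y ∨ η ∈ ⋃₀ {C | C ∈ irreducibleComponents (Xs : Type u) ∧ ¬ C ⊆ Y} :=
      fun η hη => iff_of_true trivial (or_iff_not_imp_left.2 (mY' η hη).2)
    have q2 := (S.euler_le (IsLocalRing.ResidueField R) (Groth.Agent.TF7.dim_le_one_of_pure hpure) hM hGY hG2 hGE hGA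
      eW eU).2.2 (S.criterion_univ hM hIs.2.1 hIs.1.1 π2 hGA fun _ _ => trivial)
    have e2 := (S.rBeta_le (IsLocalRing.ResidueField R) hpure hr hE' hM hGY hY hY'c hEc isClosed_univ hG2 hGE hGA
      eW eU).2.2 q2
    rw [hA, h0, hempty _ hEc mE GE πE hGE] at e2
    have hY2 := hnn Y hY hYs GY πY hGY
    obtain ⟨η, hη, hηY⟩ : ∃ η ∈ genericPoints (Xs : Type u), η ∉ Y := by
      by_contra! hall
      exact hu (Set.eq_univ_of_univ_subset
        (Groth.Agent.TF7.subset_of_genericPoints (Groth.Agent.TF7.isSubcurve_univ hYs) hY fun η hη _ => hall η hη))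
    obtain ⟨A, hA', ⟨C, hC⟩, hYA⟩ := hYs
    have hgen := (hA' hC).1.isGenericPoint_genericPoint (isClosed_of_mem_irreducibleComponents C (hA' hC))
    have hξ : (hA' hC).1.genericPoint ∈ genericPoints (Xs : Type u) := by
      show closure _ ∈ irreducibleComponents (Xs : Type u)
      rw [hgen.def]; exact hA' hC
    have h2 := hNs.2 _ hY'c (Groth.Agent.TF7.isSubcurve_components ⟨η, hη, (mY' η hη).2 hηY⟩)
      (fun h => (mY' _ hξ).1 (h ▸ trivial) (hYA.ge ⟨C, hC, hgen.mem⟩)) G2 π2 hG2
    linarith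
  · rintro ⟨hY0, -⟩
    refine ⟨hN, fun Z hZ hZs _ GZ πZ hGZ => ?_⟩
    obtain ⟨hWc, GW, πW, hGW⟩ := Groth.Agent.TF7.exists_quot_components (IsLocalRing.ResidueField R) hIs
      (fun C => C ⊆ Y ∩ Z)
    obtain ⟨GU, πU, hGU⟩ := Groth.Agent.TF7.exists_quot_subcurve (IsLocalRing.ResidueField R) hIs
      (hY.union hZ) (Groth.Agent.TF7.isSubcurve_union hYs hZs)
    have mW : ∀ η ∈ genericPoints (Xs : Type u),
        η ∈ ⋃₀ {C | C ∈ irreducibleComponents (Xs : Type u) ∧ C ⊆ Y ∩ Z} ↔ η ∈ Y ∧ η ∈ Z := fun η hη => by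
      rw [Groth.Agent.TF7.mem_sUnion_components hη,
        Groth.Agent.TF7.closure_subset_iff_mem (hY.inter hZ), Set.mem_inter_iff]
    have hle := (S.rBeta_le (IsLocalRing.ResidueField R) hpure hr hE' hM hGY hY hZ hWc (hY.union hZ) hGZ hGW hGU mW
      fun η _ => Iff.rfl).1
    have hU := hnn _ (hY.union hZ) (Groth.Agent.TF7.isSubcurve_union hYs hZs) GU πU hGU
    have hW : 0 ≤ TFOne.rBeta Xs (IsLocalRing.ResidueField R)
        (Xs ↘ Spec (CommRingCat.of (IsLocalRing.ResidueField R))) _ hWc ((Scheme.Modules.pullback i).obj E) r GW := by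
      by_cases he : ∃ η ∈ genericPoints (Xs : Type u),
          η ∈ ⋃₀ {C | C ∈ irreducibleComponents (Xs : Type u) ∧ C ⊆ Y ∩ Z}
      · exact hnn _ hWc (Groth.Agent.TF7.isSubcurve_components he) GW πW hGW
      · exact (hempty _ hWc (fun η hη h => he ⟨η, hη, h⟩) GW πW hGW).ge
    linarith

end Groth.Agent.S18848
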