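import Groth.Statements.S18855
import Groth.Agent.TF7.Decompose
import Groth.Agent.S18853
-- import your own Groth.Agent.* helpers here

set_option autoImplicit false
set_option linter.style.haveILetI false
set_option backward.isDefEq.respectTransparency false
universe u
open CategoryTheory CategoryTheory.Limits AlgebraicGeometry
open TFOne

namespace Groth.Agent.S18855

/-- Let R be a discrete valuation ring with residue field κ, f : X ⟶ Spec R flat and proper, and X_s its
special fibre, assumed reduced of pure dimension one with geometrically integral irreducible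
components over κ. Let I be a coherent R-flat module on X whose restriction I(s) to X_s is
torsion-free rank-1, E a locally free module of rank r > 0 on X with restriction E(s), and d an
integer with χ(I(s)) = d and deg E(s) = -r·d. For a closed subset T of X_s write I(s)_T for the
torsion-free quotient of I(s) on T (pinned by its defining property) and β(T) := r·χ(I(s)_T) +
deg(E(s)|_T) (the source's β cleared of the denominator r). Let Y be a closed subcurve of X_s (a
non-empty union of irreducible components), and let I^Y be the kernel of the composite I ⟶ i_* I(s)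
⟶ i_* I(s)_Y, with restriction I^Y(s) to X_s and quotients I^Y(s)_T and numbers β^Y(T) :=
r·χ(I^Y(s)_T) + deg(E(s)|_T) defined likewise. Assume I(s) is semistable with respect to E(s). Let W
be an irreducible component of X_s; suppose that Y ≠ X_s is the smallest closed subcurve of X_s
containing W with β(Y) = 0, that Z is the smallest closed subcurve containing W with β^Y(Z) = 0, and
let Y' be the union of the irreducible components of X_s not contained in Y. Then Y = Z if and only
if I^Y(s) decomposes at Y: the canonical map I^Y(s) ⟶ I^Y(s)_Y ⊞ I^Y(s)_{Y'} to the direct sum of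
its torsion-free quotients (pinned by their defining property) is an isomorphism. (The source takes
f projective and allows Y = X_s, a case excluded here since decomposition is along proper
subcurves.) -/
theorem result (R : Type u) [CommRing R] [IsDomain R] [IsDiscreteValuationRing R] (X : Scheme.{u}) (f : X ⟶ Spec (CommRingCat.of R)) [Flat f] [IsProper f] (Xs : Scheme.{u}) [Xs.Over (Spec (CommRingCat.of (IsLocalRing.ResidueField R)))] (i : Xs ⟶ X) (hsq : IsPullback i (Xs ↘ Spec (CommRingCat.of (IsLocalRing.ResidueField R))) f (Spec.map (CommRingCat.ofHom (IsLocalRing.residue R)))) [IsReduced Xs] (hpure : ∀ C ∈ irreducibleComponents (Xs : Type u), topologicalKrullDim C = 1) (hgi : ∀ (C : Set Xs) (hC : C ∈ irreducibleComponents (Xs : Type u)), GeometricallyIntegral (VecSt.subschι Xs C (isClosed_of_mem_irreducibleComponents C hC) ≫ (Xs ↘ Spec (CommRingCat.of (IsLocalRing.ResidueField R))))) (I : X.Modules) (hIc : Coh.IsCoh I) (hIf : FlatMod.IsFlatOver f I) (hIs : TFOne.IsTF1 Xs ((Scheme.Modules.pullback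 i).obj I)) (E : X.Modules) (r : ℕ) (hr : 0 < r) (hE : FlatMod.IsFinLocFreeOfRank r E) (d : ℤ) (hχ : Curv2.euler (IsLocalRing.ResidueField R) Xs ((Scheme.Modules.pullback i).obj I) = d) (hEd : Curv2.deg (IsLocalRing.ResidueField R) Xs ((Scheme.Modules.pullback i).obj E) r = -(r : ℤ) * d) (hss : TFOne.IsSemistable Xs (IsLocalRing.ResidueField R) (Xs ↘ Spec (CommRingCat.of (IsLocalRing.ResidueField R))) ((Scheme.Modules.pullback i).obj I) ((Scheme.Modules.pullback i).obj E) r) (Y : Set Xs) (hY : IsClosed Y) (hYs : VecSt.IsSubcurve Xs Y) (GY : Xs.Modules) (πY : ((Scheme.Modules.pullback i).obj I) ⟶ GY) (hGY : TFOne.IsQuotOn Xs ((Scheme.Modules.pullback i).obj I) Y GY πY) (IY : X.Modules) (hIY : IY = kernel ((Scheme.Modules.pullbackPushforwardAdjunction i).unit.app I ≫ (Scheme.Modules.pushforward i).map πY)) (hYne : Y ≠ Set.univ) (W : Set Xs) (hWc : W ∈ irreducibleComponents (Xs : Type u)) (hWY : W ⊆ Y) (hY0 : TFOne.rBeta Xs (IsLocalRing.ResidueField R) (Xs ↘ Spec (CommRingCat.of (IsLocalRing.ResidueField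 R))) Y hY ((Scheme.Modules.pullback i).obj E) r GY = 0) (hYmin : ∀ (T : Set Xs) (hT : IsClosed T), VecSt.IsSubcurve Xs T → W ⊆ T → ∀ (G : Xs.Modules) (π : ((Scheme.Modules.pullback i).obj I) ⟶ G), TFOne.IsQuotOn Xs ((Scheme.Modules.pullback i).obj I) T G π → TFOne.rBeta Xs (IsLocalRing.ResidueField R) (Xs ↘ Spec (CommRingCat.of (IsLocalRing.ResidueField R))) T hT ((Scheme.Modules.pullback i).obj E) r G = 0 → Y ⊆ T) (Z : Set Xs) (hZ : IsClosed Z) (hZs : VecSt.IsSubcurve Xs Z) (hWZ : W ⊆ Z) (GZ1 : Xs.Modules) (πZ1 : ((Scheme.Modules.pullback i).obj IY) ⟶ GZ1) (hGZ1 : TFOne.IsQuotOn Xs ((Scheme.Modules.pullback i).obj IY) Z GZ1 πZ1) (hZ0 : TFOne.rBeta Xs (IsLocalRing.ResidueField R) (Xs ↘ Spec (CommRingCat.of (IsLocalRing.ResidueField R))) Z hZ ((Scheme.Modules.pullback i).obj E) r GZ1 = 0) (hZmin : ∀ (T : Set Xs) (hT : IsClosed T), VecSt.IsSubcurve Xs T → W ⊆ T → ∀ (G : Xs.Modules) (π : ((Scheme.Modules.pullback i).obj IY) ⟶ G), TFOne.IsQuotOn Xs ((Scheme.Modules.pullback i).obj IY)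 T G π → TFOne.rBeta Xs (IsLocalRing.ResidueField R) (Xs ↘ Spec (CommRingCat.of (IsLocalRing.ResidueField R))) T hT ((Scheme.Modules.pullback i).obj E) r G = 0 → Z ⊆ T) (Y' : Set Xs) (hY' : Y' = ⋃₀ {C | C ∈ irreducibleComponents (Xs : Type u) ∧ ¬ C ⊆ Y}) (hY'c : IsClosed Y') (G1 G2 : Xs.Modules) (π1 : ((Scheme.Modules.pullback i).obj IY) ⟶ G1) (π2 : ((Scheme.Modules.pullback i).obj IY) ⟶ G2) (hG1 : TFOne.IsQuotOn Xs ((Scheme.Modules.pullback i).obj IY) Y G1 π1) (hG2 : TFOne.IsQuotOn Xs ((Scheme.Modules.pullback i).obj IY) Y' G2 π2) : Y = Z ↔ IsIso (biprod.lift π1 π2) := by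
  haveI := hGY.1
  obtain ⟨hp, ⟨S⟩⟩ := Groth.Agent.TF7.setup f i hsq I πY hIY
  haveI := hp
  haveI := Groth.Agent.EulerLib.isNoetherian_of_proper (X := Xs) (IsLocalRing.ResidueField R)
  have hE' := Groth.Agent.GrassLib.isFinLocFreeOfRank_pullback i hE
  have hM := Groth.Agent.TF7.leOne_of_isRkOne hIs.2.2
  have mY' : ∀ η ∈ genericPoints (Xs : Type u), η ∈ Y' ↔ η ∉ Y := fun η hη => by
    rw [hY', Groth.Agent.TF7.mem_sUnion_components hη, Groth.Agent.TF7.closure_subset_iff_mem hY]
  have key : ∀ (G : Xs.Modules) (p : (Scheme.Modules.pullback i).obj IY ⟶ G),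
      TFOne.IsQuotOn Xs ((Scheme.Modules.pullback i).obj IY) Y G p →
      (TFOne.rBeta Xs (IsLocalRing.ResidueField R) (Xs ↘ Spec (CommRingCat.of (IsLocalRing.ResidueField R))) Y hY
        ((Scheme.Modules.pullback i).obj E) r G =
      TFOne.rBeta Xs (IsLocalRing.ResidueField R) (Xs ↘ Spec (CommRingCat.of (IsLocalRing.ResidueField R))) Y hY
        ((Scheme.Modules.pullback i).obj E) r GY ↔
      ∀ (x : Xs) (a : (DerSch.stalkFunctor Xs x).obj G),
        ∃ g, (DerSch.stalkFunctor Xs x).map p ((DerSch.stalkFunctor Xs x).map S.μ g) = a) := by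
    intro G p hp'
    haveI := hp'.1
    have e1 := (S.rBeta_le (IsLocalRing.ResidueField R) hpure hr hE' hM hGY hY hY hY hY hp' hGY hGY
      (fun η _ => (and_self_iff).symm) (fun η _ => (or_self_iff).symm)).2
    have e2 := (S.euler_le (IsLocalRing.ResidueField R) (Groth.Agent.TF7.dim_le_one_of_pure hpure) hM hGY hp' hGY hGY
      (fun η _ => (and_self_iff).symm) (fun η _ => (or_self_iff).symm)).2
    refine (Iff.intro (fun h => by linarith) (fun h => by linarith)).trans ((e1.trans e2).trans ⟨?_, ?_⟩)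
    · intro h x a
      obtain ⟨n, rfl⟩ := Groth.Agent.TF7.stalk_surjective p x a
      obtain ⟨g, hg⟩ := h x n (by rw [← Groth.Agent.TF7.map_comp_apply, S.νπ, Groth.Agent.TF7.map_zero_apply])
      exact ⟨g, hg.symm⟩
    · intro h x n _
      obtain ⟨g, hg⟩ := h x ((DerSch.stalkFunctor Xs x).map p n)
      exact ⟨g, hg.symm⟩
  have hYZ : Y ⊆ Z := Groth.Agent.S18853.result R X f Xs i hsq hpure hgi I hIc hIf hIs E r hr hE d hχ hEd hss Y hY hYs
    GY πY hGY IY hIY W hWc hWY hY0 hYmin Z hZ hZs hWZ GZ1 πZ1 hGZ1 hZ0 hZmin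
  rw [S.isIso_lift_iff hM hIs.2.1 hIs.1.1 hGY mY' hG1 hG2]
  refine ⟨fun h x a => ?_, fun h => ?_⟩
  · subst h
    obtain ⟨q, hq, hqE⟩ := Groth.Agent.TF7.exists_factor (S.leOne hM hGY) hGZ1 hG1 fun η _ h => h
    haveI := hqE
    obtain ⟨b, rfl⟩ := Groth.Agent.TF7.stalk_surjective q x a
    obtain ⟨g, rfl⟩ := (key GZ1 πZ1 hGZ1).1 (hZ0.trans hY0.symm) x b
    exact ⟨g, by rw [← hq, Groth.Agent.TF7.map_comp_apply]⟩
  · exact hYZ.antisymm (hZmin Y hY hYs hWY G1 π1 hG1 (((key G1 π1 hG1).2 h).trans hY0))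

end Groth.Agent.S18855
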