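import Groth.Statements.S18851
import Groth.Agent.TF7.Simple2.Semistable
-- import your own Groth.Agent.* helpers here

set_option autoImplicit false
set_option linter.style.haveILetI false
set_option backward.isDefEq.respectTransparency false
universe u
open CategoryTheory CategoryTheory.Limits AlgebraicGeometry
open TFOne

namespace Groth.Agent.S18851

/-- Let R be a discrete valuation ring with fraction field K and residue field κ, f : X ⟶ Spec R flat
and proper with generic fibre X_K (a cartesian square over Spec K ⟶ Spec R with top arrow j) and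
special fibre X_s (a cartesian square over Spec κ ⟶ Spec R), the latter reduced of pure dimension
one with geometrically integral irreducible components over κ. Let I be a relatively torsion-free
rank-1 module on X over Spec R (R-flat, finitely presented, torsion-free rank-1 on every geometric
fibre), E a locally free module of rank r > 0 on X, and d an integer with χ(I(s)) = d and deg E(s) =
-r·d for the restrictions to X_s. If j^* I is simple and semistable with respect to j^* E on every
geometric fibre of X_K over Spec K, then there is a relatively torsion-free rank-1 module I' on X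
over Spec R with j^* I' ≅ j^* I which is both simple and semistable with respect to E on every
geometric fibre of f. (The source's proof starts from an arbitrary extension, the form stated here;
the source takes f projective.) -/
theorem result (R : Type u) [CommRing R] [IsDomain R] [IsDiscreteValuationRing R] (X : Scheme.{u}) (f : X ⟶ Spec (CommRingCat.of R)) [Flat f] [IsProper f] (Xs : Scheme.{u}) [Xs.Over (Spec (CommRingCat.of (IsLocalRing.ResidueField R)))] (i : Xs ⟶ X) (hsq : IsPullback i (Xs ↘ Spec (CommRingCat.of (IsLocalRing.ResidueField R))) f (Spec.map (CommRingCat.ofHom (IsLocalRing.residue R)))) [IsReduced Xs] (hpure : ∀ C ∈ irreducibleComponents (Xs : Type u), topologicalKrullDim C = 1) (hgi : ∀ (C : Set Xs) (hC : C ∈ irreducibleComponents (Xs : Type u)), GeometricallyIntegral (VecSt.subschι Xs C (isClosed_of_mem_irreducibleComponents C hC) ≫ (Xs ↘ Spec (CommRingCat.of (IsLocalRing.ResidueField R))))) (Xg : Scheme.{u}) [Xg.Over (Spec (CommRingCat.of (FractionRing R)))] (j : Xg ⟶ X) (hgen : IsPullback j (Xg ↘ Spec (CommRingCat.of (FractionRing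 R))) f (Spec.map (CommRingCat.ofHom (algebraMap R (FractionRing R))))) (I : X.Modules) (hI : TFOne.IsRelTF1 f I) (E : X.Modules) (r : ℕ) (hr : 0 < r) (hE : FlatMod.IsFinLocFreeOfRank r E) (d : ℤ) (hχ : Curv2.euler (IsLocalRing.ResidueField R) Xs ((Scheme.Modules.pullback i).obj I) = d) (hEd : Curv2.deg (IsLocalRing.ResidueField R) Xs ((Scheme.Modules.pullback i).obj E) r = -(r : ℤ) * d) (hIg1 : TFOne.FibSimple (Xg ↘ Spec (CommRingCat.of (FractionRing R))) ((Scheme.Modules.pullback j).obj I)) (hIg2 : TFOne.FibSemistable (Xg ↘ Spec (CommRingCat.of (FractionRing R))) ((Scheme.Modules.pullback j).obj I) ((Scheme.Modules.pullback j).obj E) r) : ∃ I' : X.Modules, TFOne.IsRelTF1 f I' ∧ Nonempty ((Scheme.Modules.pullback j).obj I' ≅ ((Scheme.Modules.pullback j).obj I)) ∧ TFOne.FibSimple f I' ∧ TFOne.FibSemistable f I' E r := by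
  haveI : IsProper (Xs ↘ Spec (CommRingCat.of (IsLocalRing.ResidueField R))) :=
    MorphismProperty.of_isPullback hsq inferInstance
  haveI := Groth.Agent.EulerLib.isNoetherian_of_proper (X := Xs) (IsLocalRing.ResidueField R)
  have hG := Groth.Agent.TF7.good_self (j := j) hsq hgi hI hχ
  obtain ⟨J₀, hJ₀, hs₀⟩ := Groth.Agent.TF7.exists_semistable_special hsq hpure hgi hgen I E r hr hE d hG hEd hIg2
  have hE' := Groth.Agent.GrassLib.isFinLocFreeOfRank_pullback i hE
  obtain ⟨J, ⟨hJ, hss⟩, hs⟩ := Groth.Agent.TF7.exists_simple_special hsq hgi hgen hIg1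
    (fun J => Groth.Agent.TF7.Good f i j I d J ∧ TFOne.IsSemistable Xs (IsLocalRing.ResidueField R) (Xs ↘ Spec (CommRingCat.of (IsLocalRing.ResidueField R))) ((Scheme.Modules.pullback i).obj J) ((Scheme.Modules.pullback i).obj E) r)
    (fun _ h => h.1) (fun J hJ T hT hTs hT's he G π h => by
      haveI := h.1
      obtain ⟨-, ⟨S⟩⟩ := Groth.Agent.TF7.setup f i hsq J π (IY := kernel ((Scheme.Modules.pullbackPushforwardAdjunction i).unit.app J ≫ (Scheme.Modules.pushforward i).map π)) rfl
      have h0 : (r : ℤ) * Curv2.euler (IsLocalRing.ResidueField R) Xs ((Scheme.Modules.pullback i).obj J) + Curv2.deg (IsLocalRing.ResidueField R) Xs ((Scheme.Modules.pullback i).obj E) r = 0 := by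
        rw [hJ.1.chi, hEd]; ring
      exact ⟨hJ.1.step f i j hgen hsq h, Groth.Agent.TF7.semistable_step hpure hr hE' hJ.2 h0 S
        (hJ.1.step f i j hgen hsq h).tf h hT hTs
        (Groth.Agent.TF7.rBeta_eq_zero_of_indic _ (Groth.Agent.TF7.dim_le_one_of_pure hpure) hE' hJ.2 h0 hT hTs hT's he h)⟩)
    ⟨hJ₀, hs₀⟩
  exact ⟨J, Groth.Agent.TF7.isRelTF1_of_good hsq hpure hgi hgen hI hJ, hJ.gen,
    Groth.Agent.TF7.fibSimple_of_good hsq hpure hgi hgen hJ hs hIg1,
    Groth.Agent.TF7.fibSemistable_of_good hsq hpure hgi hgen hE hJ hss hIg2⟩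

end Groth.Agent.S18851
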