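import Groth.Statements.S18856
import Groth.Agent.TF7.ModifBeta
-- import your own Groth.Agent.* helpers here

set_option autoImplicit false
set_option linter.style.haveILetI false
set_option backward.isDefEq.respectTransparency false
universe u
open CategoryTheory CategoryTheory.Limits AlgebraicGeometry
open TFOne

namespace Groth.Agent.S18856

/-- Let R be a discrete valuation ring with residue field κ, f : X ⟶ Spec R flat and proper, and X_s its
special fibre, assumed reduced of pure dimension one with geometrically integral irreducible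
components over κ. Let I be a coherent R-flat module on X whose restriction I(s) to X_s is
torsion-free rank-1, E a locally free module of rank r > 0 on X with restriction E(s), and d an
integer with χ(I(s)) = d and deg E(s) = -r·d. For a closed subset T of X_s write I(s)_T for the
torsion-free quotient of I(s) on T (pinned by its defining property) and β(T) := r·χ(I(s)_T) +
deg(E(s)|_T) (the source's β cleared of the denominator r). Let Y be a closed subcurve of X_s (a
non-empty union of irreducible components), and let I^Y be the kernel of the composite I ⟶ i_* I(s)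
⟶ i_* I(s)_Y, with restriction I^Y(s) to X_s and quotients I^Y(s)_T and numbers β^Y(T) :=
r·χ(I^Y(s)_T) + deg(E(s)|_T) defined likewise. Let Z be a closed subcurve of X_s, W the union of the
irreducible components of X_s contained in Y ∩ Z, Y' the union of the components not contained in Y,
and V the union of the components contained in Z but not in Y (each possibly empty; the torsion-free
quotient on the empty set is 0). Then the inequality β^Y(Z) + β(Y) ≥ β(W) + β(Y ∪ Z) is an equality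
if and only if χ(I^Y(s)_W) + χ(I^Y(s)_{Y'}) − χ(I^Y(s)_{W ∪ Y'}) = χ(I^Y(s)_W) + χ(I^Y(s)_V) −
χ(I^Y(s)_Z), that is δ(W, Y') = δ(W, V) for δ(A, B) := χ(I^Y(s)_A) + χ(I^Y(s)_B) − χ(I^Y(s)_{A ∪ B})
(note W ∪ V = Z). (The source takes f projective.) -/
theorem result (R : Type u) [CommRing R] [IsDomain R] [IsDiscreteValuationRing R] (X : Scheme.{u}) (f : X ⟶ Spec (CommRingCat.of R)) [Flat f] [IsProper f] (Xs : Scheme.{u}) [Xs.Over (Spec (CommRingCat.of (IsLocalRing.ResidueField R)))] (i : Xs ⟶ X) (hsq : IsPullback i (Xs ↘ Spec (CommRingCat.of (IsLocalRing.ResidueField R))) f (Spec.map (CommRingCat.ofHom (IsLocalRing.residue R)))) [IsReduced Xs] (hpure : ∀ C ∈ irreducibleComponents (Xs : Type u), topologicalKrullDim C = 1) (hgi : ∀ (C : Set Xs) (hC : C ∈ irreducibleComponents (Xs : Type u)), GeometricallyIntegral (VecSt.subschι Xs C (isClosed_of_mem_irreducibleComponents C hC) ≫ (Xs ↘ Spec (CommRingCat.of (IsLocalRing.ResidueField R))))) (I : X.Modules) (hIc : Coh.IsCoh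 I) (hIf : FlatMod.IsFlatOver f I) (hIs : TFOne.IsTF1 Xs ((Scheme.Modules.pullback i).obj I)) (E : X.Modules) (r : ℕ) (hr : 0 < r) (hE : FlatMod.IsFinLocFreeOfRank r E) (d : ℤ) (hχ : Curv2.euler (IsLocalRing.ResidueField R) Xs ((Scheme.Modules.pullback i).obj I) = d) (hEd : Curv2.deg (IsLocalRing.ResidueField R) Xs ((Scheme.Modules.pullback i).obj E) r = -(r : ℤ) * d) (Y : Set Xs) (hY : IsClosed Y) (hYs : VecSt.IsSubcurve Xs Y) (GY : Xs.Modules) (πY : ((Scheme.Modules.pullback i).obj I) ⟶ GY) (hGY : TFOne.IsQuotOn Xs ((Scheme.Modules.pullback i).obj I) Y GY πY) (IY : X.Modules) (hIY : IY = kernel ((Scheme.Modules.pullbackPushforwardAdjunction i).unit.app I ≫ (Scheme.Modules.pushforward i).map πY)) (Z W Y' V : Set Xs) (hZ : IsClosed Z) (hZs : VecSt.IsSubcurve Xs Z) (hW : W = ⋃₀ {C | C ∈ irreducibleComponents (Xs : Type u) ∧ C ⊆ Y ∩ Z}) (hWc : IsClosed W) (hY' : Y' = ⋃₀ {C | C ∈ irreducibleComponents (Xs : Type u) ∧ ¬ C ⊆ Y}) (hY'c : IsClosed Y') (hV : V = ⋃₀ {C |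 C ∈ irreducibleComponents (Xs : Type u) ∧ C ⊆ Z ∧ ¬ C ⊆ Y}) (hVc : IsClosed V) (GZ1 G2 G3 G4 G5 : Xs.Modules) (πZ1 : ((Scheme.Modules.pullback i).obj IY) ⟶ GZ1) (π5 : ((Scheme.Modules.pullback i).obj IY) ⟶ G5) (hG5 : TFOne.IsQuotOn Xs ((Scheme.Modules.pullback i).obj IY) W G5 π5) (π2 : ((Scheme.Modules.pullback i).obj IY) ⟶ G2) (π3 : ((Scheme.Modules.pullback i).obj IY) ⟶ G3) (π4 : ((Scheme.Modules.pullback i).obj IY) ⟶ G4) (hGZ1 : TFOne.IsQuotOn Xs ((Scheme.Modules.pullback i).obj IY) Z GZ1 πZ1) (hG2 : TFOne.IsQuotOn Xs ((Scheme.Modules.pullback i).obj IY) Y' G2 π2) (hG3 : TFOne.IsQuotOn Xs ((Scheme.Modules.pullback i).obj IY) (W ∪ Y') G3 π3) (hG4 : TFOne.IsQuotOn Xs ((Scheme.Modules.pullback i).obj IY) V G4 π4) (GW GU : Xs.Modules) (πW : ((Scheme.Modules.pullback i).obj I) ⟶ GW) (πU : ((Scheme.Modules.pullback i).obj I) ⟶ GU) (hGW : TFOne.IsQuotOn Xs ((Scheme.Modules.pullback i).obj I) W GW πW) (hGU : TFOne.IsQuotOn Xs ((Scheme.Modules.pullback i).obj I) (Y ∪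 Z) GU πU) : TFOne.rBeta Xs (IsLocalRing.ResidueField R) (Xs ↘ Spec (CommRingCat.of (IsLocalRing.ResidueField R))) W hWc ((Scheme.Modules.pullback i).obj E) r GW + TFOne.rBeta Xs (IsLocalRing.ResidueField R) (Xs ↘ Spec (CommRingCat.of (IsLocalRing.ResidueField R))) (Y ∪ Z) (hY.union hZ) ((Scheme.Modules.pullback i).obj E) r GU = TFOne.rBeta Xs (IsLocalRing.ResidueField R) (Xs ↘ Spec (CommRingCat.of (IsLocalRing.ResidueField R))) Z hZ ((Scheme.Modules.pullback i).obj E) r GZ1 + TFOne.rBeta Xs (IsLocalRing.ResidueField R) (Xs ↘ Spec (CommRingCat.of (IsLocalRing.ResidueField R))) Y hY ((Scheme.Modules.pullback i).obj E) r GY ↔ Curv2.euler (IsLocalRing.ResidueField R) Xs G5 + Curv2.euler (IsLocalRing.ResidueField R) Xs G2 - Curv2.euler (IsLocalRing.ResidueField R) Xs G3 = Curv2.euler (IsLocalRing.ResidueField R) Xs G5 + Curv2.euler (IsLocalRing.ResidueField R) Xs G4 - Curv2.euler (IsLocalRing.ResidueField R) Xs GZ1 := by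
  haveI := hGY.1
  obtain ⟨hp, ⟨S⟩⟩ := Groth.Agent.TF7.setup f i hsq I πY hIY
  haveI := hp
  haveI := Groth.Agent.EulerLib.isNoetherian_of_proper (X := Xs) (IsLocalRing.ResidueField R)
  have hE' := Groth.Agent.GrassLib.isFinLocFreeOfRank_pullback i hE
  have hdim := Groth.Agent.TF7.dim_le_one_of_pure hpure
  have hM := Groth.Agent.TF7.leOne_of_isRkOne hIs.2.2
  have mW : ∀ η ∈ genericPoints (Xs : Type u), η ∈ W ↔ η ∈ Y ∧ η ∈ Z := fun η hη => by
    rw [hW, Groth.Agent.TF7.mem_sUnion_components hη,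
      Groth.Agent.TF7.closure_subset_iff_mem (hY.inter hZ), Set.mem_inter_iff]
  have mY' : ∀ η ∈ genericPoints (Xs : Type u), η ∈ Y' ↔ η ∉ Y := fun η hη => by
    rw [hY', Groth.Agent.TF7.mem_sUnion_components hη, Groth.Agent.TF7.closure_subset_iff_mem hY]
  have mV : ∀ η ∈ genericPoints (Xs : Type u), η ∈ V ↔ η ∈ Z ∧ η ∉ Y := fun η hη => by
    rw [hV, Groth.Agent.TF7.mem_sUnion_components hη, Groth.Agent.TF7.closure_subset_iff_mem hY,
      Groth.Agent.TF7.closure_subset_iff_mem hZ]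
  obtain ⟨-, GE, πE, hGE⟩ := Groth.Agent.TF7.exists_quot_components (IsLocalRing.ResidueField R) hIs (fun _ => False)
  obtain ⟨-, GA, πA, hGA⟩ := Groth.Agent.TF7.exists_quot_components (IsLocalRing.ResidueField R) hIs (fun _ => True)
  have mE : ∀ η ∈ genericPoints (Xs : Type u),
      η ∉ ⋃₀ {C | C ∈ irreducibleComponents (Xs : Type u) ∧ False} :=
    fun η hη h => (Groth.Agent.TF7.mem_sUnion_components hη).1 h
  have mA : ∀ η ∈ genericPoints (Xs : Type u),
      η ∈ ⋃₀ {C | C ∈ irreducibleComponents (Xs : Type u) ∧ True} :=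
    fun η hη => (Groth.Agent.TF7.mem_sUnion_components hη).2 trivial
  have hE0 := Groth.Agent.TF7.euler_noGeneric (IsLocalRing.ResidueField R) hGE mE
  have q2 := (S.euler_le (IsLocalRing.ResidueField R) hdim hM hGY hG2 hGE hGA
    (fun η hη => iff_of_false (mE η hη) fun h => (mY' η hη).1 h.2 h.1)
    (fun η hη => iff_of_true (mA η hη) (or_iff_not_imp_left.2 (mY' η hη).2))).2.2
    (S.criterion_univ hM hIs.2.1 hIs.1.1 π2 hGA mA)
  have q3 := (S.euler_le (IsLocalRing.ResidueField R) hdim hM hGY hG3 hGW hGA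
    (fun η hη => by rw [mW η hη, Set.mem_union, mW η hη, mY' η hη]; tauto)
    (fun η hη => iff_of_true (mA η hη) (or_iff_not_imp_left.2 fun h => Or.inr ((mY' η hη).2 h)))).2.2
    (S.criterion_univ hM hIs.2.1 hIs.1.1 π3 hGA mA)
  have q4 := (S.euler_le (IsLocalRing.ResidueField R) hdim hM hGY hG4 hGE hGU
    (fun η hη => iff_of_false (mE η hη) fun h => ((mV η hη).1 h.2).2 h.1)
    (fun η hη => by rw [Set.mem_union, mV η hη]; tauto)).2.2
    (S.criterion_disjoint hM hGY hG4 hGU
      fun η hη h => ⟨((mV η hη).1 h).2, Or.inr ((mV η hη).1 h).1⟩)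
  rw [(S.rBeta_le _ hpure hr hE' hM hGY hY hZ hWc (hY.union hZ) hGZ1 hGW hGU mW fun η _ => Iff.rfl).2]
  constructor <;> intro h <;> linarith

end Groth.Agent.S18856
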