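import Groth.Statements.S18859
import Groth.Agent.NonAb.SchTorsor

set_option autoImplicit false
universe u
open CategoryTheory MonoidalCategory CartesianMonoidalCategory MonObj GrpObj AlgebraicGeometry
open NonAbH1

namespace Groth.Agent.S18859

/-- Let S be a scheme, G a group scheme over S and X → S a G-torsor for the fpqc topology (a
pseudo-torsor under G acquiring sections on the members of some fpqc covering family of S). Then the
functions on S are the G-invariant functions on X: the ring map Γ(S, O_S) → Γ(X, O_X) is injective,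
and a global function s on X lies in its image if and only if the pullbacks of s to G ×_S X along
the action morphism and along the second projection coincide. (The source works over a scheme of
finite type over a field with G the base change of an affine group scheme over that field and states
the equality O_S = (O_X)^G as sheaves on S; applied to the restriction of the torsor over each open
of S, the present global form is that equality.) -/
theorem result {S : Scheme.{u}} {G X : Over S}
    [GrpObj G] (a : AlgGrp.Action G X) (ha : NonAbH1.IsTorsorFor Scheme.fpqcPrecoverage a) :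
    Function.Injective X.hom.appTop.hom ∧
      ∀ s : Γ(X.left, ⊤), s ∈ Set.range X.hom.appTop.hom ↔
        a.act.left.appTop.hom s = (CartesianMonoidalCategory.snd G X).left.appTop.hom s := by
  let R0 : CommRingCat.{u} := CommRingCat.of (ULift.{u} (Polynomial ℤ))
  let toA : ∀ {Y : Scheme.{u}}, Γ(Y, ⊤) → (Y ⟶ Spec R0) := fun {Y} s =>
    Y.toSpecΓ ≫ Spec.map (CommRingCat.ofHom
      ((Polynomial.eval₂RingHom (Int.castRingHom Γ(Y, ⊤)) s).comp ULift.ringEquiv.toRingHom))
  let ofA : ∀ {Y : Scheme.{u}}, (Y ⟶ Spec R0) → Γ(Y, ⊤) := fun {Y} h =>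
    h.appTop.hom ((Scheme.ΓSpecIso R0).inv.hom (ULift.up Polynomial.X))
  have hof : ∀ {Y : Scheme.{u}} (s : Γ(Y, ⊤)), ofA (toA s) = s := by
    intro Y s
    simp only [toA, ofA, Scheme.Hom.comp_appTop, Scheme.toSpecΓ_appTop]
    rw [CommRingCat.comp_apply, ← CommRingCat.comp_apply, ← CommRingCat.comp_apply]
    simp
    exact Polynomial.eval₂_X _ _
  have hnat : ∀ {Y Z : Scheme.{u}} (f : Z ⟶ Y) (s : Γ(Y, ⊤)),
      f ≫ toA s = toA (f.appTop.hom s) := by
    intro Y Z f s
    simp only [toA]
    rw [Scheme.toSpecΓ_naturality_assoc, ← Spec.map_comp]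
    congr 2
    ext : 1
    refine RingHom.ext fun p => ?_
    exact Polynomial.hom_eval₂ p.down (Int.castRingHom _) f.appTop.hom s |>.trans (by
      rw [RingHom.ext_int (f.appTop.hom.comp (Int.castRingHom _)) (Int.castRingHom _)])
  obtain ⟨hinj, hdesc⟩ := NonAbLib.existsUnique_desc ha (Spec R0)
  refine ⟨fun t t' e => ?_, fun s => ⟨?_, fun hs => ?_⟩⟩
  · have : toA t = toA t' := hinj (show X.hom ≫ toA t = X.hom ≫ toA t' by rw [hnat, hnat, e])
    rw [← hof t, this, hof]
  · rintro ⟨t, rfl⟩
    rw [← CommRingCat.comp_apply, ← CommRingCat.comp_apply, ← Scheme.Hom.comp_appTop,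
      ← Scheme.Hom.comp_appTop, Over.w, Over.w]
  · obtain ⟨h, hh⟩ := (hdesc (toA s)).mpr (by rw [hnat, hnat, hs])
    refine ⟨ofA h, ?_⟩
    rw [← hof s, ← hh]
    rfl

end Groth.Agent.S18859
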