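import Groth.Statements.S1886
import Groth.Agent.GrpdLib.StabConj
import Mathlib.AlgebraicGeometry.Morphisms.Separated
import Mathlib.AlgebraicGeometry.Morphisms.QuasiSeparated

set_option autoImplicit false
universe u
open CategoryTheory CategoryTheory.Limits AlgebraicGeometry
open Grpd

namespace Groth.Agent.S1886
open Limits

/-- Let (U, R, s, t, c) be a groupoid scheme over S with stabilizer group scheme G → U and identity
section e : U → G. Then j = (t, s) : R → U ×_S U is separated iff G → U is separated iff e is a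
closed immersion; and j is quasi-separated iff G → U is quasi-separated iff e is quasi-compact. (A
groupoid scheme carries U, R, s, t, c, e, i over S with the groupoid axioms on T-points; 'finite
locally free' is finite, flat and locally of finite presentation; C ⊂ Γ(U) is the ring of functions
a with s♯(a) = t♯(a) and M = Spec C.) -/
theorem result (S : Scheme.{u}) (G : Grpd.GroupoidScheme S) : ((IsSeparated G.j ↔ IsSeparated G.stabilizerToU) ∧ (IsSeparated G.stabilizerToU ↔ IsClosedImmersion G.eStab)) ∧ ((QuasiSeparated G.j ↔ QuasiSeparated G.stabilizerToU) ∧ (QuasiSeparated G.stabilizerToU ↔ QuasiCompact G.eStab)) := by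
  have he1 : G.eStab ≫ G.stabilizerToU = 𝟙 _ := pullback.lift_snd _ _ _
  have he2 : G.eStab ≫ Groth.Agent.GrpdLib.stabArrow G = G.e := pullback.lift_fst _ _ _
  have hsq : IsPullback G.stabilizerToU (Groth.Agent.GrpdLib.stabArrow G) G.diag G.j :=
    (IsPullback.of_hasPullback G.j G.diag).flip
  let α := pullback.fst G.j G.j
  let β := pullback.snd G.j G.j
  have hts : α ≫ G.t = β ≫ G.t ∧ α ≫ G.s = β ≫ G.s := by
    constructor
    · have h := congrArg (· ≫ pullback.fst G.pU G.pU) (pullback.condition (f := G.j) (g := G.j))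
      simpa only [Category.assoc, show G.j ≫ pullback.fst G.pU G.pU = G.t from pullback.lift_fst _ _ _] using h
    · have h := congrArg (· ≫ pullback.snd G.pU G.pU) (pullback.condition (f := G.j) (g := G.j))
      simpa only [Category.assoc, show G.j ≫ pullback.snd G.pU G.pU = G.s from pullback.lift_snd _ _ _] using h
  have hc : α ≫ G.s = (β ≫ G.i) ≫ G.t := hts.2.trans (Groth.Agent.GrpdLib.i_comp_t G β).symm
  let δ : pullback G.j G.j ⟶ G.stabilizer := Groth.Agent.GrpdLib.stabMk G (Groth.Agent.GrpdLib.cmp G α (β ≫ G.i) hc) (by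
    rw [Groth.Agent.GrpdLib.cmp_t, Groth.Agent.GrpdLib.cmp_s, Groth.Agent.GrpdLib.i_comp_s]; exact hts.1)
  have hw : pullback.diagonal G.j ≫ δ = G.t ≫ G.eStab := by
    apply Groth.Agent.GrpdLib.stab_ext
    rw [Category.assoc, Category.assoc, Groth.Agent.GrpdLib.stabMk_arrow, he2, Groth.Agent.GrpdLib.comp_cmp]
    refine (Groth.Agent.GrpdLib.cmp_congr G (α' := 𝟙 G.R) (β' := 𝟙 G.R ≫ G.i) (pullback.lift_fst _ _ _)
      ((Category.assoc _ _ _).symm.trans (congrArg (· ≫ G.i) (pullback.diagonal_snd G.j))) _ (Groth.Agent.GrpdLib.i_comp_t G _).symm).trans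
      ((G.comp_i (𝟙 G.R)).trans (Category.id_comp _))
  have heq : ∀ {T : Scheme.{u}} (x : T ⟶ pullback G.j G.j) (u : T ⟶ G.U), x ≫ δ = u ≫ G.eStab → x ≫ α = x ≫ β := by
    intro T x u hx
    have h1 := congrArg (· ≫ Groth.Agent.GrpdLib.stabArrow G) hx
    simp only [Category.assoc, δ, Groth.Agent.GrpdLib.stabMk_arrow, he2, Groth.Agent.GrpdLib.comp_cmp] at h1
    have k : (x ≫ α) ≫ G.s = (x ≫ β ≫ G.i) ≫ G.t := by rw [Category.assoc, hc]; simp
    have hu : u = (x ≫ β) ≫ G.t := by
      have := congrArg (· ≫ G.t) h1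
      simp only [Groth.Agent.GrpdLib.cmp_t, Category.assoc, G.e_t, Category.comp_id] at this
      rw [← this, Category.assoc, hts.1]
    have k' : (x ≫ α) ≫ G.s = ((x ≫ β) ≫ G.i) ≫ G.t := by rw [Category.assoc x β G.i]; exact k
    have k2 : Groth.Agent.GrpdLib.cmp G (x ≫ α) ((x ≫ β) ≫ G.i) k' ≫ G.s = (x ≫ β) ≫ G.t := by
      rw [Groth.Agent.GrpdLib.cmp_s, Groth.Agent.GrpdLib.i_comp_s]
    have k3 : (x ≫ β) ≫ G.s = (x ≫ α) ≫ G.s := by rw [Category.assoc, ← hts.2, Category.assoc]
    have l1 : Groth.Agent.GrpdLib.cmp G (Groth.Agent.GrpdLib.cmp G (x ≫ α) ((x ≫ β) ≫ G.i) k') (x ≫ β) k2 = x ≫ α := by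
      refine (G.assoc _ _ _ k' (Groth.Agent.GrpdLib.i_comp_s G _)).trans ?_
      refine (Groth.Agent.GrpdLib.cmp_congr G rfl ((G.i_comp (x ≫ β)).trans ?_) _ ?_).trans (G.comp_e (x ≫ α))
      · rw [← Category.assoc, k3, Category.assoc]
      · simp [G.e_t]
    rw [← l1]
    refine (Groth.Agent.GrpdLib.cmp_congr G ((Groth.Agent.GrpdLib.cmp_congr G rfl (Category.assoc x β G.i) k' k).trans
      (h1.trans ?_)) rfl _ ?_).trans (G.e_comp (x ≫ β))
    · rw [hu]; simp only [Category.assoc]
    · simp [G.e_s]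
  have hP : IsPullback G.t (pullback.diagonal G.j) G.eStab δ := by
    refine ⟨⟨hw.symm⟩, ⟨PullbackCone.IsLimit.mk hw.symm (fun c => c.snd ≫ α) (fun c => ?_) (fun c => ?_) (fun c m _ h2 => ?_)⟩⟩
    · have h1 := congrArg (· ≫ G.stabilizerToU) c.condition
      simp only [Category.assoc, he1, Category.comp_id, δ, Groth.Agent.GrpdLib.stabMk_toU,
        Groth.Agent.GrpdLib.cmp_t] at h1
      rw [h1, Category.assoc]
    · apply pullback.hom_ext
      · rw [Category.assoc, pullback.diagonal_fst, Category.comp_id]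
      · rw [Category.assoc, pullback.diagonal_snd, Category.comp_id]
        exact heq c.snd c.fst c.condition.symm
    · rw [← h2, Category.assoc, pullback.diagonal_fst, Category.comp_id]
  refine ⟨⟨⟨fun h => ?_, fun h => ?_⟩, ⟨fun h => ?_, fun h => ?_⟩⟩, ⟨⟨fun h => ?_, fun h => ?_⟩, ⟨fun h => ?_, fun h => ?_⟩⟩⟩
  · exact MorphismProperty.of_isPullback (P := @IsSeparated) hsq.flip h
  · haveI : IsClosedImmersion (G.eStab ≫ G.stabilizerToU) := by rw [he1]; infer_instance
    haveI : IsClosedImmersion G.eStab := IsClosedImmersion.of_comp G.eStab G.stabilizerToU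
    exact ⟨MorphismProperty.of_isPullback hP this⟩
  · haveI : IsClosedImmersion (G.eStab ≫ G.stabilizerToU) := by rw [he1]; infer_instance
    exact IsClosedImmersion.of_comp G.eStab G.stabilizerToU
  · haveI : IsSeparated G.j := ⟨MorphismProperty.of_isPullback hP h⟩
    exact MorphismProperty.of_isPullback (P := @IsSeparated) hsq.flip this
  · exact MorphismProperty.of_isPullback (P := @QuasiSeparated) hsq.flip h
  · haveI : QuasiCompact (G.eStab ≫ G.stabilizerToU) := by rw [he1]; infer_instance
    haveI : QuasiCompact G.eStab := QuasiCompact.of_comp G.eStab G.stabilizerToU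
    exact ⟨MorphismProperty.of_isPullback hP this⟩
  · haveI : QuasiCompact (G.eStab ≫ G.stabilizerToU) := by rw [he1]; infer_instance
    exact QuasiCompact.of_comp G.eStab G.stabilizerToU
  · haveI : QuasiSeparated G.j := ⟨MorphismProperty.of_isPullback hP h⟩
    exact MorphismProperty.of_isPullback (P := @QuasiSeparated) hsq.flip this

end Groth.Agent.S1886
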