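import Groth.Statements.S18863
import Groth.Agent.FlatMor12.TorsorPush
import Groth.Agent.Et18.Descent
import Groth.Agent.H8Lim.Limit
import Groth.Agent.AlgSpLib.FppfLocal
import Groth.Agent.EGA43.InjFibre.InjLimitScheme
import Groth.Agent.CAlgH.RegularColimit
import Mathlib.CategoryTheory.Monoidal.Internal.Limits
import Mathlib.CategoryTheory.Filtered.Connected
import Mathlib.CategoryTheory.Limits.Constructions.Over.Connected
-- import your own Groth.Agent.* helpers here

set_option autoImplicit false
set_option backward.isDefEq.respectTransparency false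
set_option backward.isDefEq.respectTransparency.types false
universe u
open CategoryTheory CategoryTheory.Limits MonoidalCategory CartesianMonoidalCategory MonObj GrpObj AlgebraicGeometry
open NonAbH1

namespace Groth.Agent.S18863


open CategoryTheory Limits AlgebraicGeometry MonoidalCategory CartesianMonoidalCategory MonObj GrpObj in
theorem isLimit_forget_mapCone {k : Type u} [Field k] {I : Type u} [SmallCategory I] [IsCofiltered I]
    (DG : I ⥤ Grp (Over (Spec (CommRingCat.of k)))) [∀ i, IsAffineHom (DG.obj i).X.hom]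
    (cG : Cone DG) (hcG : IsLimit cG) :
    Nonempty (IsLimit ((Grp.forget _).mapCone cG)) := by
  have : IsConnected I := IsCofiltered.isConnected I
  have : ∀ i, IsAffine (((DG ⋙ Grp.forget _) ⋙ Over.forget (Spec (CommRingCat.of k))).obj i) := fun i =>
    isAffine_of_isAffineHom (DG.obj i).X.hom
  have := Groth.Agent.H8Lim.hasLimit_of_forall_isAffine ((DG ⋙ Grp.forget _) ⋙ Over.forget (Spec (CommRingCat.of k)))
  have : HasLimit (DG ⋙ Grp.forget _) := hasLimit_of_created _ (Over.forget (Spec (CommRingCat.of k)))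
  let c := limit.cone (DG ⋙ Grp.forget _)
  have hc : IsLimit c := limit.isLimit _
  let cM := Mon.limitCone (DG ⋙ Grp.forget₂Mon _) c hc
  have hcM : IsLimit cM := Mon.limitConeIsLimit (DG ⋙ Grp.forget₂Mon _) c hc
  let G₀ : Grp (Over (Spec (CommRingCat.of k))) :=
    { X := cM.pt.X
      grp := GrpObj.ofInvertible cM.pt.X fun T g => by
        let n : Cone (DG ⋙ Grp.forget _) :=
          { pt := T
            π := { app := fun i => show T ⟶ (DG.obj i).X from (show T ⟶ (DG.obj i).X from g ≫ (cM.π.app i).hom)⁻¹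
                   naturality := fun i j φ => by
                     have h := congrArg Mon.Hom.hom (cM.w φ)
                     refine (Category.id_comp _).trans ?_
                     show (show T ⟶ (DG.obj j).X from g ≫ (cM.π.app j).hom)⁻¹ =
                       (show T ⟶ (DG.obj i).X from g ≫ (cM.π.app i).hom)⁻¹ ≫ (DG.map φ).hom.hom
                     rw [GrpObj.inv_comp]
                     congr 1
                     exact Eq.trans (congrArg (g ≫ ·) h.symm) (Category.assoc _ _ _).symm } }
        let l : T ⟶ cM.pt.X := hc.lift n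
        have hn : ∀ i, l ≫ (cM.π.app i).hom = (show T ⟶ (DG.obj i).X from g ≫ (cM.π.app i).hom)⁻¹ := fun i =>
          hc.fac n i
        exact ⟨l, hc.hom_ext fun i => by
            show (l * g) ≫ (cM.π.app i).hom = (1 : T ⟶ cM.pt.X) ≫ (cM.π.app i).hom
            rw [MonObj.mul_comp, hn, MonObj.one_comp]
            exact inv_mul_cancel (g ≫ (cM.π.app i).hom : T ⟶ (DG.obj i).X), hc.hom_ext fun i => by
            show (g * l) ≫ (cM.π.app i).hom = (1 : T ⟶ cM.pt.X) ≫ (cM.π.app i).hom
            rw [MonObj.mul_comp, hn, MonObj.one_comp]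
            exact mul_inv_cancel (g ≫ (cM.π.app i).hom : T ⟶ (DG.obj i).X)⟩ }
  let c₀ : Cone DG :=
    { pt := G₀
      π := { app := fun i => Grp.homMk' (cM.π.app i)
             naturality := fun i j φ => by
               apply (Grp.forget₂Mon _).map_injective
               exact cM.π.naturality φ } }
  have hc₀ : IsLimit c₀ := isLimitOfReflects (Grp.forget₂Mon _) (hcM.ofIsoLimit (Cone.ext (Iso.refl _) fun i => (Category.id_comp _).symm))
  exact ⟨hc.ofIsoLimit ((Cone.ext (Iso.refl _) fun i => (Category.id_comp _).symm) ≪≫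
    (Cones.functoriality _ (Grp.forget _)).mapIso (hc₀.uniqueUpToIso hcG))⟩

open CategoryTheory Limits AlgebraicGeometry in
theorem surjective_limit {X : Scheme.{u}} {I : Type u} [SmallCategory I] [IsCofiltered I] (DT : I ⥤ Over X)
    [∀ i, IsAffineHom (DT.obj i).hom] [∀ i, Surjective (DT.obj i).hom] (cT : Cone DT) (hcT : IsLimit cT) :
    Surjective cT.pt.hom := by
  have : IsConnected I := IsCofiltered.isConnected I
  refine ⟨fun x => ?_⟩
  let t := X.fromSpecResidueField x
  let E := (DT ⋙ Over.pullback t) ⋙ Over.forget _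
  have hE : IsLimit ((Over.forget _).mapCone ((Over.pullback t).mapCone cT)) :=
    isLimitOfPreserves _ (isLimitOfPreserves (Over.pullback t) hcT)
  have haff : ∀ i, IsAffine (E.obj i) := fun i =>
    have : IsAffineHom (pullback.snd (DT.obj i).hom t) := MorphismProperty.pullback_snd _ _ inferInstance
    isAffine_of_isAffineHom (pullback.snd (DT.obj i).hom t)
  have : ∀ i, CompactSpace (E.obj i) := fun i => have := haff i; inferInstance
  have : ∀ i, Nonempty (E.obj i) := fun i => by
    have : Surjective (pullback.snd (DT.obj i).hom t) := MorphismProperty.pullback_snd _ _ inferInstance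
    exact ⟨((pullback.snd (DT.obj i).hom t).surjective (IsLocalRing.closedPoint (X.residueField x))).choose⟩
  have : ∀ {i j : I} (φ : i ⟶ j), IsAffineHom (E.map φ) := fun {i j} φ => by
    have := haff i
    have := haff j
    infer_instance
  obtain ⟨w⟩ := Scheme.nonempty_of_isLimit E _ hE
  refine ⟨(pullback.fst cT.pt.hom t) w, ?_⟩
  have e : (pullback.fst cT.pt.hom t ≫ cT.pt.hom) w = (pullback.snd cT.pt.hom t ≫ t) w := by
    rw [pullback.condition]
  rw [Scheme.Hom.comp_apply, Scheme.Hom.comp_apply] at e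
  rw [e]
  exact X.fromSpecResidueField_apply x _

open CategoryTheory Limits AlgebraicGeometry in
theorem flat_limit {X : Scheme.{u}} {I : Type u} [SmallCategory I] [IsCofiltered I] (DT : I ⥤ Over X)
    [∀ i, IsAffineHom (DT.obj i).hom] [∀ i, Flat (DT.obj i).hom] (cT : Cone DT) (hcT : IsLimit cT) :
    IsAffineHom cT.pt.hom ∧ Flat cT.pt.hom := by
  have : IsConnected I := IsCofiltered.isConnected I
  let E := DT ⋙ Over.forget X
  let cE := (Over.forget X).mapCone cT
  have hcE : IsLimit cE := isLimitOfPreserves _ hcT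
  have hE : ∀ {i j : I} (φ : i ⟶ j), IsAffineHom (E.map φ) := fun {i j} φ =>
    have : IsAffineHom ((DT.map φ).left ≫ (DT.obj j).hom) := by rw [Over.w]; infer_instance
    IsAffineHom.of_comp (DT.map φ).left (DT.obj j).hom
  let p : ∀ j, E.obj j ⟶ X := fun j => (DT.obj j).hom
  have : ∀ j, IsAffineHom (p j) := fun j => inferInstanceAs (IsAffineHom (DT.obj j).hom)
  have hp : ∀ {j l} (φ : j ⟶ l), E.map φ ≫ p l = p j := fun φ => Over.w _
  have hp' : ∀ j, cE.π.app j ≫ p j = cT.pt.hom := fun j => Over.w (cT.π.app j)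
  obtain ⟨i₀⟩ := IsCofiltered.nonempty (C := I)
  have : IsAffineHom cT.pt.hom := by
    have := isAffineHom_π_app E cE hcE i₀
    rw [← hp' i₀]
    infer_instance
  refine ⟨this, (HasRingHomProperty.iff_appLE (P := @Flat)).2 fun U V e => ?_⟩
  have hU : IsAffineOpen (cT.pt.hom ⁻¹ᵁ U.1) := U.2.preimage _
  have h1 : (cT.pt.hom.appLE U (cT.pt.hom ⁻¹ᵁ U.1) le_rfl).hom.Flat := by
    show @Module.Flat _ _ _ _ (cT.pt.hom.appLE U (cT.pt.hom ⁻¹ᵁ U.1) le_rfl).hom.toAlgebra.toModule
    have hs := Groth.Agent.EGA43.InjFibre.colimSys_preimage hcE p hp cT.pt.hom hp' U.2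
    letI : ∀ j, Algebra Γ(X, U.1) Γ(E.obj j, p j ⁻¹ᵁ U.1) := fun j =>
      ((p j).appLE U.1 (p j ⁻¹ᵁ U.1) le_rfl).hom.toAlgebra
    letI : Algebra Γ(X, U.1) Γ(cE.pt, cT.pt.hom ⁻¹ᵁ U.1) :=
      (cT.pt.hom.appLE U.1 (cT.pt.hom ⁻¹ᵁ U.1) le_rfl).hom.toAlgebra
    letI : Algebra Γ(X, U.1) Γ(cT.pt.left, cT.pt.hom ⁻¹ᵁ U.1) :=
      (cT.pt.hom.appLE U.1 (cT.pt.hom ⁻¹ᵁ U.1) le_rfl).hom.toAlgebra
    exact Groth.Agent.CAlgH.ColimSys.flat hs fun j =>
      (p j).flat_appLE U.2 (U.2.preimage _) le_rfl
  have h2 : ((𝟙 cT.pt.left : cT.pt.left ⟶ cT.pt.left).appLE (cT.pt.hom ⁻¹ᵁ U.1) V e).hom.Flat :=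
    Flat.flat_appLE (𝟙 _) hU V.2 e
  have h3 := h1.comp h2
  rw [← CommRingCat.hom_comp, Scheme.Hom.appLE_comp_appLE] at h3
  simpa using h3

end Groth.Agent.S18863

namespace Groth.Agent.S18863

/-- Let k be a field and X a quasi-compact k-scheme. Let (G_i)_{i ∈ I} be a cofiltered inverse system of
affine group schemes of finite type over k with limit G in the category of k-group schemes (a limit
cone of homomorphisms G → G_i), and (T_i)_{i ∈ I} an inverse system of X-schemes such that each T_i
is a torsor over X for the fpqc topology under the base change of G_i to X and each transition map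
T_j → T_i is equivariant along G_j → G_i. Let T be a limit of the T_i over X, with an action of the
base change of G to X for which every projection T → T_i is equivariant along G → G_i. Then T is a
torsor over X under the base change of G for the fpqc topology. (The source indexes the system by a
directed partially ordered set and also records that T is pointed over a rational point of X when
all the T_i are; the limit scheme, the limit group and the limit action, which exist and are unique,
are taken here as data.) -/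
theorem result (k : Type u) [Field k]
    (X : Scheme.{u}) [X.Over (Spec (CommRingCat.of k))] [CompactSpace X]
    {I : Type u} [SmallCategory I] [IsCofiltered I]
    (DG : I ⥤ Grp (Over (Spec (CommRingCat.of k))))
    [∀ i, IsAffineHom (DG.obj i).X.hom] [∀ i, LocallyOfFiniteType (DG.obj i).X.hom]
    (cG : Cone DG) (hcG : IsLimit cG)
    (DT : I ⥤ Over X)
    (aT : ∀ i, AlgGrp.Action (Red.bc (X ↘ Spec (CommRingCat.of k)) (DG.obj i).X) (DT.obj i))
    (hT : ∀ i, NonAbH1.IsTorsorFor Scheme.fpqcPrecoverage (aT i))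
    (hDT : ∀ (i j : I) (φ : i ⟶ j), AlgGrp.Action.IsEquivariant (aT i)
      ((aT j).restrict ((Over.pullback (X ↘ Spec (CommRingCat.of k))).map (DG.map φ).hom.hom)) (DT.map φ))
    (cT : Cone DT) (hcT : IsLimit cT)
    (a : AlgGrp.Action (Red.bc (X ↘ Spec (CommRingCat.of k)) cG.pt.X) cT.pt)
    (ha : ∀ i, AlgGrp.Action.IsEquivariant a
      ((aT i).restrict ((Over.pullback (X ↘ Spec (CommRingCat.of k))).map (cG.π.app i).hom.hom)) (cT.π.app i)) :
    NonAbH1.IsTorsorFor Scheme.fpqcPrecoverage a := by
  open NonAbLib Groth.Agent.FlatMor12.TorsorPush in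
  have haG : ∀ i, IsAffineHom (Red.bc (X ↘ Spec (CommRingCat.of k)) (DG.obj i).X).hom := fun i =>
    MorphismProperty.pullback_snd (P := @IsAffineHom) _ _ inferInstance
  have : ∀ i, IsAffineHom (DT.obj i).hom := fun i =>
    NonAbLib.property_hom @IsAffineHom Et18.descends_isAffineHom (hT i) (haG i)
  have : ∀ i, Surjective (DT.obj i).hom := fun i => NonAbLib.surjective_hom (aT i) (hT i)
  have hfl : ∀ i, Flat (DG.obj i).X.hom := fun i => inferInstance
  have : ∀ i, Flat (DT.obj i).hom := fun i =>
    NonAbLib.property_hom @Flat Groth.Agent.AlgSpLib.descends_flat (hT i) (MorphismProperty.pullback_snd (P := @Flat) _ _ (hfl i))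
  obtain ⟨haf, hflat⟩ := flat_limit DT cT hcT
  have := surjective_limit DT cT hcT
  obtain ⟨hG⟩ := isLimit_forget_mapCone DG cG hcG
  have hbG := isLimitOfPreserves (Over.pullback (X ↘ Spec (CommRingCat.of k))) hG
  let m : ∀ i, Red.bc (X ↘ Spec (CommRingCat.of k)) cG.pt.X ⟶ Red.bc (X ↘ Spec (CommRingCat.of k)) (DG.obj i).X :=
    fun i => (Over.pullback (X ↘ Spec (CommRingCat.of k))).map (cG.π.app i).hom.hom
  have hq : ∀ {G G' : Over X} [GrpObj G] [GrpObj G'] {Y Y' : Over X} (u : G ⟶ G') [IsMonHom u]
      (b : AlgGrp.Action G Y) (b' : AlgGrp.Action G' Y') (q : Y ⟶ Y'),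
      AlgGrp.Action.IsEquivariant b (b'.restrict u) q →
      ∀ {T : Over X} (g : T ⟶ G) (x : T ⟶ Y), actPt b g x ≫ q = actPt b' (g ≫ u) (x ≫ q) := by
    intro G G' _ _ Y Y' u _ b b' q h T g x
    refine actPt_equivariant u q ?_ g x
    have h' : b.act ≫ q = (G ◁ q) ≫ (u ▷ Y') ≫ b'.act := h
    rw [h', ← Category.assoc]
    congr 1
    apply CartesianMonoidalCategory.hom_ext <;> simp
  have key : ∀ (T : Over X) (x y : T ⟶ cT.pt), ∃! g, actPt a g x = y := by
    intro T x y
    let n : Cone ((DG ⋙ Grp.forget _) ⋙ Over.pullback (X ↘ Spec (CommRingCat.of k))) :=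
      { pt := T
        π := { app := fun i => dv (hT i).1 (x ≫ cT.π.app i) (y ≫ cT.π.app i)
               naturality := fun i j φ => by
                 refine (Category.id_comp _).trans (dv_unique (hT j).1 ?_)
                 have h := hq _ (aT i) (aT j) (DT.map φ) (hDT i j φ)
                   (dv (hT i).1 (x ≫ cT.π.app i) (y ≫ cT.π.app i)) (x ≫ cT.π.app i)
                 rw [actPt_dv, Category.assoc, Category.assoc, cT.w] at h
                 exact h.symm } }
    refine ⟨hbG.lift n, ?_, fun g hg => hbG.hom_ext fun i => ?_⟩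
    · refine hcT.hom_ext fun i => ?_
      rw [hq (m i) a (aT i) (cT.π.app i) (ha i)]
      have e : hbG.lift n ≫ m i = n.π.app i := hbG.fac n i
      rw [e]
      exact actPt_dv (hT i).1 _ _
    · refine Eq.trans ?_ (hbG.fac n i).symm
      show g ≫ m i = dv (hT i).1 (x ≫ cT.π.app i) (y ≫ cT.π.app i)
      symm
      refine dv_unique (hT i).1 ?_
      rw [← hq (m i) a (aT i) (cT.π.app i) (ha i), hg]
  refine ⟨?_, Presieve.singleton cT.pt.hom, cT.pt.hom.singleton_mem_fpqcPrecoverage, ?_⟩
  · obtain ⟨g, hg, -⟩ := key _ (snd cT.pt cT.pt) (fst cT.pt cT.pt)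
    refine ⟨lift g (snd _ _), ?_, ?_⟩
    · apply CartesianMonoidalCategory.hom_ext
      · rw [Category.assoc, lift_fst, Category.id_comp]
        refine (key _ (snd _ cT.pt) a.act).unique ?_ ?_
        · have := congrArg (lift a.act (snd _ _) ≫ ·) hg
          simpa [lift_fst, lift_snd] using this
        · simp [actPt]
      · simp
    · apply CartesianMonoidalCategory.hom_ext
      · rw [Category.assoc, lift_fst, Category.id_comp]
        exact hg
      · simp
  · rintro S' f ⟨⟩
    exact ⟨𝟙 _, Category.id_comp _⟩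


end Groth.Agent.S18863
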