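import Groth.Statements.S18864
import Mathlib.RingTheory.Bialgebra.Hom
import Mathlib.RingTheory.FiniteType
import Mathlib.LinearAlgebra.TensorProduct.Basic
import Mathlib.RingTheory.Flat.Basic
import Mathlib.LinearAlgebra.FreeModule.Basic
import Mathlib.LinearAlgebra.Basis.VectorSpace

set_option autoImplicit false
universe u v w
open HopfRep

namespace Groth.Agent.S18864
open TensorProduct

/-- Let k be a field and G = lim G_i a pro-algebraic group scheme over k, so that G = Spec A with A the
direct limit of the Hopf algebras A_i of the affine group schemes G_i of finite type; assume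
moreover that the maps A_i → A are injective, so that A is the directed union of the A_i, here given
as injective bialgebra maps A_i → A with directed, jointly covering images. Then every homomorphism
from G to an affine group scheme H = Spec B of finite type over k factors through some projection G
→ G_i: every bialgebra map f : B → A with B finitely generated as a k-algebra is the composite of
A_i → A with a bialgebra map B → A_i for some i. (The published statement allows arbitrary
transition maps in the system; this row assumes each A_i → A injective, the case the printed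
argument treats. The source also states the pro-finite variant with H finite, which is the case of
finite-dimensional A_i and B; finite generation of the A_i is not used.) -/
theorem result (k : Type u) [Field k]
    (A : Type v) [CommRing A] [HopfAlgebra k A] {ι : Type v} (Aι : ι → Type v)
    [∀ i, CommRing (Aι i)] [∀ i, HopfAlgebra k (Aι i)] (emb : ∀ i, Aι i →ₐc[k] A)
    (hinj : ∀ i, Function.Injective (emb i))
    (hdir : ∀ i j, ∃ l, Set.range (emb i) ⊆ Set.range (emb l) ∧ Set.range (emb j) ⊆ Set.range (emb l))
    (hcov : ∀ a : A, ∃ i, a ∈ Set.range (emb i))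
    (B : Type w) [CommRing B] [HopfAlgebra k B] [Algebra.FiniteType k B] (f : B →ₐc[k] A) :
    ∃ (i : ι) (g : B →ₐc[k] Aι i), (emb i).comp g = f := by
  classical
  obtain ⟨s, hs⟩ := (Algebra.FiniteType.out : (⊤ : Subalgebra k B).FG)
  have hfin : ∀ t : Finset A, ∃ i, (t : Set A) ⊆ Set.range (emb i) := by
    intro t
    induction t using Finset.induction_on with
    | empty => obtain ⟨i, -⟩ := hcov 0; exact ⟨i, by simp⟩
    | insert a t _ ih =>
      obtain ⟨i, hi⟩ := ih
      obtain ⟨j, hj⟩ := hcov a
      obtain ⟨l, hl1, hl2⟩ := hdir i j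
      exact ⟨l, by rw [Finset.coe_insert]; exact Set.insert_subset (hl2 hj) (hi.trans hl1)⟩
  obtain ⟨i, hi⟩ := hfin (s.image f)
  have hrange : ∀ b, f b ∈ ((emb i : Aι i →ₐ[k] A)).range := by
    intro b
    have hb : b ∈ Algebra.adjoin k (s : Set B) := hs ▸ Algebra.mem_top
    have hle : Algebra.adjoin k (s : Set B) ≤ (emb i : Aι i →ₐ[k] A).range.comap (f : B →ₐ[k] A) :=
      Algebra.adjoin_le fun x hx => hi (Finset.mem_coe.2 (Finset.mem_image_of_mem f hx))
    exact hle hb
  let g₀ : B →ₐ[k] Aι i := (AlgEquiv.ofInjective (emb i : Aι i →ₐ[k] A) (hinj i)).symm.toAlgHom.comp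
    ((f : B →ₐ[k] A).codRestrict _ hrange)
  have hg₀ : ∀ b, emb i (g₀ b) = f b := fun b =>
    congrArg Subtype.val ((AlgEquiv.ofInjective (emb i : Aι i →ₐ[k] A) (hinj i)).apply_symm_apply ⟨f b, hrange b⟩)
  have hinj2 : Function.Injective (TensorProduct.map (emb i : Aι i →ₗ[k] A) (emb i : Aι i →ₗ[k] A)) := by
    rw [← LinearMap.lTensor_comp_rTensor, LinearMap.coe_comp]
    exact (Module.Flat.lTensor_preserves_injective_linearMap _ (hinj i)).comp
      (Module.Flat.rTensor_preserves_injective_linearMap _ (hinj i))
  refine ⟨i, BialgHom.ofAlgHom g₀ (AlgHom.ext fun b => ?_) (AlgHom.ext fun b => hinj2 ?_), DFunLike.ext _ _ hg₀⟩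
  · show CoalgebraStruct.counit (R := k) (g₀ b) = CoalgebraStruct.counit (R := k) b
    rw [← CoalgHomClass.counit_comp_apply (emb i) (g₀ b), hg₀, CoalgHomClass.counit_comp_apply]
  · show TensorProduct.map (emb i : Aι i →ₗ[k] A) (emb i : Aι i →ₗ[k] A)
        (Algebra.TensorProduct.map g₀ g₀ (CoalgebraStruct.comul (R := k) b)) =
      TensorProduct.map (emb i : Aι i →ₗ[k] A) (emb i : Aι i →ₗ[k] A) (CoalgebraStruct.comul (R := k) (g₀ b))
    rw [show TensorProduct.map (emb i : Aι i →ₗ[k] A) (emb i : Aι i →ₗ[k] A) (CoalgebraStruct.comul (R := k) (g₀ b)) =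
      CoalgebraStruct.comul (R := k) (emb i (g₀ b)) from CoalgHomClass.map_comp_comul_apply (emb i) (g₀ b), hg₀,
      ← CoalgHomClass.map_comp_comul_apply f b]
    generalize CoalgebraStruct.comul (R := k) b = t
    induction t using TensorProduct.induction_on with
    | zero => simp
    | add p q hp hq => simp only [map_add, hp, hq]
    | tmul p q => simp [hg₀]

end Groth.Agent.S18864
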