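import Groth.Statements.S18868
import Groth.Agent.LinkH2.Ring

set_option autoImplicit false
universe u
open Liaison

namespace Groth.Agent.S18868

/-- Let K be a field, R = K[x_0, …, x_n] graded by degree, c ≥ 2, 𝔠 ⊂ R a homogeneous complete
intersection of codimension c, that is a homogeneous ideal of height c generated by c elements g_1,
…, g_c, and I ⊂ R a homogeneous ideal of height c with R/I Cohen–Macaulay which properly contains 𝔠
and has the form I = 𝔠 + fR for some f (so I is an almost complete intersection). Then the linked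
ideal J = 𝔠 : I has height c and R/J is a Gorenstein ring. (A Gorenstein ideal of the notes, one
whose quotient is Cohen–Macaulay with last graded Betti number 1, is rendered as: the quotient ring
is Gorenstein.) -/
theorem result (K : Type u) [Field K] (n c : ℕ) (hc : 2 ≤ c)
    (g : Fin c → MvPolynomial (Fin (n + 1)) K) (f : MvPolynomial (Fin (n + 1)) K) (𝔠 I : Ideal (MvPolynomial (Fin (n + 1)) K)) (h𝔠g : Ideal.span (Set.range g) = 𝔠)
    (h𝔠 : 𝔠.IsHomogeneous (GrSyz.stdGr K (Fin (n + 1)))) (hI : I.IsHomogeneous (GrSyz.stdGr K (Fin (n + 1))))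
    (h𝔠c : 𝔠.height = c) (hIc : I.height = c) [LocCoh.IsCohenMacaulayRing (MvPolynomial (Fin (n + 1)) K ⧸ I)]
    (hlt : 𝔠 < I) (hIf : I = 𝔠 ⊔ Ideal.span {f}) :
    (𝔠.colon (I : Set (MvPolynomial (Fin (n + 1)) K))).height = c ∧
      LocCoh.IsGorensteinRing (MvPolynomial (Fin (n + 1)) K ⧸ 𝔠.colon (I : Set (MvPolynomial (Fin (n + 1)) K))) := by
  classical
  have hcI : 𝔠 ≤ I := hlt.le
  haveI := _root_.Groth.Agent.LinkH2.isGorensteinRing_ci g 𝔠 h𝔠g h𝔠c
  refine ⟨(_root_.Groth.Agent.Liaison28.colon_unmixed h𝔠 hlt.not_ge).1.trans h𝔠c, ?_⟩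
  let mk := Ideal.Quotient.mk 𝔠
  have hIm : I.map mk = Ideal.span {mk f} := by
    rw [hIf, Ideal.map_sup, Ideal.map_quotient_self, bot_sup_eq, Ideal.map_span, Set.image_singleton]
  have hccI : 𝔠.colon ((𝔠.colon (I : Set (MvPolynomial (Fin (n + 1)) K)) : Ideal (MvPolynomial (Fin (n + 1)) K)) :
      Set (MvPolynomial (Fin (n + 1)) K)) = I :=
    _root_.Groth.Agent.Liaison28.colon_colon_eq hcI (hIc.trans h𝔠c.symm)
      (fun p hp => _root_.Groth.Agent.Liaison28.height_eq_height hI hp)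
  have h1 : Submodule.annihilator (Ideal.span {mk f}) = (𝔠.colon (I : Set (MvPolynomial (Fin (n + 1)) K))).map mk := by
    rw [← hIm, _root_.Groth.Agent.LinkH2.annihilator_map_mk]
  have h2 : Submodule.annihilator ((𝔠.colon (I : Set (MvPolynomial (Fin (n + 1)) K))).map mk) = Ideal.span {mk f} := by
    rw [_root_.Groth.Agent.LinkH2.annihilator_map_mk, hccI, hIm]
  haveI : LocCoh.IsCohenMacaulayRing ((MvPolynomial (Fin (n + 1)) K ⧸ 𝔠) ⧸ Ideal.span {mk f}) := by
    rw [← hIm]; exact _root_.Groth.Agent.LinkH2.cm_quot_map hcI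
  haveI := _root_.Groth.Agent.LinkH2.isGorensteinRing_ann_span (mk f) _ h1 h2
  exact _root_.Groth.Agent.SegreDim.gorensteinRing_of_ringEquiv
    (R := (MvPolynomial (Fin (n + 1)) K ⧸ 𝔠) ⧸ (𝔠.colon (I : Set (MvPolynomial (Fin (n + 1)) K))).map mk)
    (DoubleQuot.quotQuotEquivQuotOfLE (_root_.Groth.Agent.LinkH2.le_colon_gen 𝔠 I))

end Groth.Agent.S18868
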