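import Groth.Statements.S18873
import Groth.Agent.LinkH2.Degree

set_option autoImplicit false
universe u
open Liaison

namespace Groth.Agent.S18873

/-- Let K be a field, R = K[x_0, …, x_n] graded by degree, 2 ≤ c ≤ n, 𝔠 ⊂ R a homogeneous ideal of
height c such that R/𝔠 is a Gorenstein ring, I ⊂ R a homogeneous ideal of height c containing 𝔠, and
J = 𝔠 : I. Write h_𝔞(j) = dim_K [R/𝔞]_j for the Hilbert function of R/𝔞. If p_𝔠, p_I, p_J ∈ ℚ[t] are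
polynomials agreeing with h_𝔠, h_I, h_J in all sufficiently large degrees (Hilbert polynomials; R/𝔠
and R/I have dimension n + 1 − c ≥ 1, and so has R/J unless I = 𝔠, when J = R and p_J = 0), then the
coefficients of t^(n−c) satisfy p_J = p_𝔠 − p_I in that degree; multiplying by (n − c)! this says
deg J = deg 𝔠 − deg I. -/
theorem result (K : Type u) [Field K] (n c : ℕ) (hc : 2 ≤ c) (hcn : c ≤ n)
    (𝔠 I : Ideal (MvPolynomial (Fin (n + 1)) K))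
    (h𝔠 : 𝔠.IsHomogeneous (GrSyz.stdGr K (Fin (n + 1)))) (hI : I.IsHomogeneous (GrSyz.stdGr K (Fin (n + 1))))
    [LocCoh.IsGorensteinRing (MvPolynomial (Fin (n + 1)) K ⧸ 𝔠)] (h𝔠c : 𝔠.height = c) (hIc : I.height = c) (h𝔠I : 𝔠 ≤ I)
    (p𝔠 pI pJ : Polynomial ℚ)
    (hp𝔠 : ∃ j₀ : ℕ, ∀ j : ℕ, j₀ ≤ j → (Module.finrank K ↥(Submodule.map (Ideal.Quotient.mkₐ K (𝔠)).toLinearMap (GrSyz.stdGr K (Fin (n + 1)) (j : ℤ))) : ℚ) = p𝔠.eval (j : ℚ))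
    (hpI : ∃ j₀ : ℕ, ∀ j : ℕ, j₀ ≤ j → (Module.finrank K ↥(Submodule.map (Ideal.Quotient.mkₐ K (I)).toLinearMap (GrSyz.stdGr K (Fin (n + 1)) (j : ℤ))) : ℚ) = pI.eval (j : ℚ))
    (hpJ : ∃ j₀ : ℕ, ∀ j : ℕ, j₀ ≤ j → (Module.finrank K ↥(Submodule.map (Ideal.Quotient.mkₐ K (𝔠.colon (I : Set (MvPolynomial (Fin (n + 1)) K)))).toLinearMap (GrSyz.stdGr K (Fin (n + 1)) (j : ℤ))) : ℚ) = pJ.eval (j : ℚ)) :
    pJ.coeff (n - c) = p𝔠.coeff (n - c) - pI.coeff (n - c) := by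
  classical
  obtain ⟨a, ha⟩ := hp𝔠
  obtain ⟨b, hb⟩ := hpI
  obtain ⟨d, hd⟩ := hpJ
  have h := _root_.Groth.Agent.LinkH2.coeff_linked (pc := p𝔠) (pI := pI) (pJ := pJ)
    (_root_.Groth.Agent.LinkH2.isHomogeneous_poly h𝔠) (_root_.Groth.Agent.LinkH2.isHomogeneous_poly hI)
    (_root_.Groth.Agent.LinkH2.isHomogeneous_colon (_root_.Groth.Agent.LinkH2.isHomogeneous_poly h𝔠)
      (_root_.Groth.Agent.LinkH2.isHomogeneous_poly hI)) h𝔠c h𝔠I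
    ⟨a, fun m hm => (ha m hm).symm.trans (_root_.Groth.Agent.LinkH2.hfun_eq_finrank _ m)⟩
    ⟨b, fun m hm => (hb m hm).symm.trans (_root_.Groth.Agent.LinkH2.hfun_eq_finrank _ m)⟩
    ⟨d, fun m hm => (hd m hm).symm.trans (_root_.Groth.Agent.LinkH2.hfun_eq_finrank _ m)⟩
  rwa [show n + 1 - c - 1 = n - c by omega] at h

end Groth.Agent.S18873
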