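import Groth.Statements.S18874
import Groth.Agent.Et18.Descent
import Groth.Agent.H8Lim.StalkLimit
import Groth.Agent.H8Lim.DescentProper
import Groth.Agent.CommAlg6.CompletionEquidim
-- import your own Groth.Agent.* helpers here

set_option autoImplicit false
set_option backward.isDefEq.respectTransparency.types false
universe u
open Lim

namespace Groth.Agent.S18874

open CategoryTheory CategoryTheory.Limits AlgebraicGeometry in
/-- Let S be a quasi-compact scheme whose affine opens have excellent coordinate rings, let X → S and Y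
→ S be quasi-compact, quasi-separated and locally of finite presentation, let f : X → Y be a
morphism over S, let s be a closed point of S and R the completion of the local ring of S at s. If
the base change X ×_S Spec R → Y ×_S Spec R of f is proper, then s has an open neighbourhood W in S
such that X ×_S W → Y ×_S W is proper. (The published statement assumes X and Y only locally of
finite presentation over S; for S the affine line over a field, s the origin, Y = S and X the
disjoint union of S with one reduced point over each closed point other than s, the base change to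
Spec R is an isomorphism while X ×_S W → W is not quasi-compact for any open W ∋ s, so X and Y are
taken of finite presentation over S here, which is what the limit argument of the published proof
uses.) -/
theorem result
    (S : Scheme.{u}) [CompactSpace S] (hS : ∀ U : S.affineOpens, EGA4.IsExcellent Γ(S, U.1))
    {X Y : Scheme.{u}} (f : X ⟶ Y) (g : Y ⟶ S)
    [QuasiCompact g] [QuasiSeparated g] [LocallyOfFinitePresentation g]
    [QuasiCompact (f ≫ g)] [QuasiSeparated (f ≫ g)] [LocallyOfFinitePresentation (f ≫ g)]
    (s : S) (hs : IsClosed ({s} : Set S))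
    (hR : IsProper (Limits.pullback.snd f (Limits.pullback.fst g
      (Spec.map (CommRingCat.ofHom (algebraMap (S.presheaf.stalk s) (EGA4.Cpl (S.presheaf.stalk s)))) ≫
        S.fromSpecStalk s)))) :
    ∃ W : S.Opens, s ∈ W ∧ IsProper (f ∣_ (g ⁻¹ᵁ W)) := by
  classical
  haveI : IsLocallyNoetherian S := ⟨fun U => (hS U).1⟩
  haveI := Groth.Agent.CommAlg6.isLocalHom_completion (S.presheaf.stalk s)
  haveI hff : Module.FaithfullyFlat (S.presheaf.stalk s) (EGA4.Cpl (S.presheaf.stalk s)) :=
    Module.FaithfullyFlat.of_flat_of_isLocalHom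
  let ρ₀ := CommRingCat.ofHom (algebraMap (S.presheaf.stalk s) (EGA4.Cpl (S.presheaf.stalk s)))
  let ρ : Spec (CommRingCat.of (EGA4.Cpl (S.presheaf.stalk s))) ⟶ Spec (S.presheaf.stalk s) := Spec.map ρ₀
  have hρ : (@Surjective ⊓ @Flat ⊓ @QuasiCompact : MorphismProperty Scheme.{u}) ρ := by
    have h := (flat_and_surjective_SpecMap_iff (f := ρ₀)).2 (RingHom.faithfullyFlat_algebraMap_iff.2 hff)
    exact ⟨⟨h.2, h.1⟩, inferInstance⟩
  let σ := S.fromSpecStalk s
  change IsProper (pullback.snd f (pullback.fst g (ρ ≫ σ))) at hR
  -- descend to the local scheme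
  let h : pullback g (ρ ≫ σ) ⟶ pullback g σ :=
    pullback.lift (pullback.fst _ _) (pullback.snd _ _ ≫ ρ) (by rw [Category.assoc]; exact pullback.condition)
  have hh : IsPullback h (pullback.snd g (ρ ≫ σ)) (pullback.snd g σ) ρ :=
    IsPullback.of_right (by rw [pullback.lift_fst]; exact IsPullback.of_hasPullback g (ρ ≫ σ))
      (pullback.lift_snd _ _ _) (IsPullback.of_hasPullback g σ)
  have hhQ : (@Surjective ⊓ @Flat ⊓ @QuasiCompact : MorphismProperty Scheme.{u}) h :=
    MorphismProperty.of_isPullback hh.flip hρ
  let k : pullback f (pullback.fst g (ρ ≫ σ)) ⟶ pullback f (pullback.fst g σ) :=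
    pullback.lift (pullback.fst _ _) (pullback.snd _ _ ≫ h) (by
      rw [Category.assoc, pullback.lift_fst]; exact pullback.condition)
  have hk : IsPullback k (pullback.snd f (pullback.fst g (ρ ≫ σ))) (pullback.snd f (pullback.fst g σ)) h :=
    IsPullback.of_right (by rw [pullback.lift_fst, pullback.lift_fst]; exact IsPullback.of_hasPullback f _)
      (pullback.lift_snd _ _ _) (IsPullback.of_hasPullback f (pullback.fst g σ))
  haveI := Groth.Agent.Et18.descends_isProper.{u}
  have hT : IsProper (pullback.snd f (pullback.fst g σ)) :=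
    MorphismProperty.of_isPullback_of_descendsAlong (P := @IsProper)
      (Q := (@Surjective ⊓ @Flat ⊓ @QuasiCompact : MorphismProperty Scheme.{u})) hk.flip hhQ hR
  -- the limit over affine neighbourhoods
  haveI : ∀ {i j : Groth.Agent.H8Lim.StalkLimit.AffNhd s} (φ : i ⟶ j),
      IsAffineHom ((Groth.Agent.H8Lim.StalkLimit.diagram s).map φ) := fun φ => inferInstance
  let i₀ : Groth.Agent.H8Lim.StalkLimit.AffNhd s := Classical.choice IsCofiltered.nonempty
  let m₀ := Groth.Agent.H8Lim.StalkLimit.incMap s i₀
  haveI : QuasiCompact f := QuasiCompact.of_comp f g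
  haveI : QuasiSeparated f := QuasiSeparated.of_comp f g
  haveI : LocallyOfFiniteType f := locallyOfFiniteType_of_comp f g
  haveI : CompactSpace ↥((Groth.Agent.H8Lim.StalkLimit.diagram s).obj i₀) := inferInstance
  haveI : CompactSpace ↥(pullback g m₀) := QuasiCompact.compactSpace_of_compactSpace (pullback.snd g m₀)
  let κ : Spec (S.presheaf.stalk s) ⟶ (Groth.Agent.H8Lim.StalkLimit.diagram s).obj i₀ :=
    (Groth.Agent.H8Lim.StalkLimit.cone s).π.app i₀
  have hκ : κ ≫ m₀ = σ := Groth.Agent.H8Lim.StalkLimit.cone_incMap s i₀
  let qY : pullback g σ ⟶ pullback g m₀ :=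
    pullback.lift (pullback.fst _ _) (pullback.snd _ _ ≫ κ) (by rw [Category.assoc, hκ]; exact pullback.condition)
  have hY : IsPullback qY (pullback.snd g σ) (pullback.snd g m₀) κ :=
    IsPullback.of_right (by rw [pullback.lift_fst, hκ]; exact IsPullback.of_hasPullback g σ)
      (pullback.lift_snd _ _ _) (IsPullback.of_hasPullback g m₀)
  let qX : pullback f (pullback.fst g σ) ⟶ pullback f (pullback.fst g m₀) :=
    pullback.lift (pullback.fst _ _) (pullback.snd _ _ ≫ qY) (by
      rw [Category.assoc, pullback.lift_fst]; exact pullback.condition)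
  have hX : IsPullback qX (pullback.snd f (pullback.fst g σ)) (pullback.snd f (pullback.fst g m₀)) qY :=
    IsPullback.of_right (by rw [pullback.lift_fst, pullback.lift_fst]; exact IsPullback.of_hasPullback f _)
      (pullback.lift_snd _ _ _) (IsPullback.of_hasPullback f (pullback.fst g m₀))
  obtain ⟨i, φ, Xi, Yi, fi, gi, pY, pX, hYi, hXi, hfi⟩ :=
    Groth.Agent.H8Lim.descends_isProper.exists_stage (Groth.Agent.H8Lim.StalkLimit.isLimitCone s) (i₀ := i₀)
      (g := (show pullback g σ ⟶ (Groth.Agent.H8Lim.StalkLimit.cone s).pt from pullback.snd g σ))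
      hY hX (inferInstance : LocallyOfFiniteType (pullback.snd f (pullback.fst g m₀))) hT
  let mi := Groth.Agent.H8Lim.StalkLimit.incMap s i
  have hY2 : IsPullback (pY ≫ pullback.fst g m₀) gi g mi := by
    have := hYi.paste_horiz (IsPullback.of_hasPullback g m₀)
    rwa [Groth.Agent.H8Lim.StalkLimit.map_incMap s φ] at this
  have hX2 := hXi.paste_horiz (IsPullback.of_hasPullback f (pullback.fst g m₀))
  let p := pY ≫ pullback.fst g m₀
  haveI : IsOpenImmersion p := MorphismProperty.of_isPullback hY2.flip (inferInstance : IsOpenImmersion mi)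
  refine ⟨mi.opensRange, Groth.Agent.H8Lim.StalkLimit.mem_range_incMap s i, ?_⟩
  have hp : p.opensRange = g ⁻¹ᵁ mi.opensRange := by
    apply TopologicalSpace.Opens.ext
    show Set.range p = (g ⁻¹ᵁ mi.opensRange : Set Y)
    rw [show p = hY2.isoPullback.hom ≫ pullback.fst g mi from hY2.isoPullback_hom_fst.symm,
      Scheme.Hom.comp_base, TopCat.coe_comp, Set.range_comp, Set.range_eq_univ.2 hY2.isoPullback.hom.surjective,
      Set.image_univ, IsOpenImmersion.range_pullbackFst]
  rw [← hp, MorphismProperty.arrow_mk_iso_iff @IsProper (morphismRestrictOpensRange f p)]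
  rw [← MorphismProperty.cancel_left_of_respectsIso @IsProper hX2.isoPullback.hom, hX2.isoPullback_hom_snd]
  exact hfi

end Groth.Agent.S18874
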