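import Groth.Statements.S18875
import Groth.Agent.LRTriv.Iso

set_option autoImplicit false
universe u
open HopfRep

namespace Groth.Agent.S18875

open TensorProduct in
/-- Let L be a field and A a complete Noetherian local L-algebra with residue field L (there is a ring
map A → L whose composite with the structure map L → A is the identity of L; it is then surjective
with kernel the maximal ideal). Let B be a commutative Hopf algebra over A, smooth as an A-algebra
(an affine smooth group scheme over Spec A), such that every geometric fibre Ω ⊗_A B has connected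
spectrum and the closed fibre L ⊗_A B is linearly reductive (all of its finite-dimensional comodules
are semisimple). Then the group scheme is isomorphic over A to the constant one on its closed fibre
H: there is an isomorphism of A-bialgebras B ≅ A ⊗_L (L ⊗_A B). (Only the existence of such an
isomorphism is asserted.) -/
theorem result
    (L : Type u) [Field L] (A : Type u) [CommRing A] [IsNoetherianRing A] [IsLocalRing A]
    [IsAdicComplete (IsLocalRing.maximalIdeal A) A] [Algebra L A] [Algebra A L]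
    (hsec : (algebraMap A L).comp (algebraMap L A) = RingHom.id L)
    (B : Type u) [CommRing B] [HopfAlgebra A B] [Algebra.Smooth A B]
    (hconn : ∀ (Ω : Type u) [Field Ω] [IsAlgClosed Ω] [Algebra A Ω],
      ConnectedSpace (PrimeSpectrum (Ω ⊗[A] B)))
    (hlr : HopfRep.IsLinearlyReductive L (L ⊗[A] B)) :
    Nonempty (B ≃ₐc[A] (A ⊗[L] (L ⊗[A] B))) := by
  have : IsScalarTower L A L :=
    IsScalarTower.of_algebraMap_eq fun x => (RingHom.congr_fun hsec x).symm
  have hsur : Function.Surjective (Algebra.ofId A L) := fun l =>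
    ⟨algebraMap L A l, RingHom.congr_fun hsec l⟩
  let I : Ideal A := RingHom.ker (algebraMap A L)
  have hI : I = IsLocalRing.maximalIdeal A :=
    IsLocalRing.eq_maximalIdeal (RingHom.ker_isMaximal_of_surjective _ hsur)
  have : IsAdicComplete I A := by rw [hI]; infer_instance
  let H := L ⊗[A] B
  let π : B → H := fun c => (1 : L) ⊗ₜ[A] c
  let e₁ : L ⊗[A] (A ⊗[L] H) ≃ₐc[L] H :=
    (SGA3bLib.cancelBC (R := L) A L H).trans (Bialgebra.TensorProduct.lid L H)
  let eL : L ⊗[A] B →ₐc[L] L ⊗[A] (A ⊗[L] H) := e₁.symm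
  have he₁ : ∀ h : H, e₁ ((1 : L) ⊗ₜ[A] ((1 : A) ⊗ₜ[L] h)) = h := fun h => by
    show Bialgebra.TensorProduct.lid L H
      (Algebra.TensorProduct.cancelBaseChange L A L L H ((1 : L) ⊗ₜ[A] ((1 : A) ⊗ₜ[L] h))) = h
    rw [Algebra.TensorProduct.cancelBaseChange_tmul, one_smul, Bialgebra.TensorProduct.lid_tmul,
      one_smul]
  have heL : ∀ h : H, eL h = (1 : L) ⊗ₜ[A] ((1 : A) ⊗ₜ[L] h) := fun h =>
    e₁.toAlgEquiv.injective ((e₁.apply_symm_apply h).trans (he₁ h).symm)
  let qe : (A ⧸ I) ≃ₐ[A] L := Ideal.quotientKerAlgEquivOfSurjective (f := Algebra.ofId A L) hsur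
  obtain ⟨φ₀, hφ₀⟩ := IsoTriv.exists_push_bialg (qe.symm : L →ₐ[A] A ⧸ I) eL
  have hφ₀' : ∀ c, φ₀ ((1 : A ⧸ I) ⊗ₜ[A] c) = (1 : A ⧸ I) ⊗ₜ[A] ((1 : A) ⊗ₜ[L] π c) := fun c => by
    rw [hφ₀, heL, IsoTriv.push_tmul, map_one]
  obtain ⟨b, hb⟩ := LRTriv.exists_levels I hlr π φ₀ hφ₀'
  obtain ⟨φ, hφ⟩ := hb.exists_hom hlr
  have hJ : I ≤ Ideal.jacobson ⊥ := hI ▸ IsLocalRing.maximalIdeal_le_jacobson _
  have hS : Function.Surjective φ := by
    refine LRTriv.surjective_of_mod hJ hlr φ fun y => ?_
    induction y using TensorProduct.induction_on with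
    | zero => exact ⟨0, by simp⟩
    | add y z hy hz =>
      obtain ⟨c, hc⟩ := hy
      obtain ⟨d, hd⟩ := hz
      refine ⟨c + d, ?_⟩
      rw [map_add, add_sub_add_comm]
      exact add_mem hc hd
    | tmul a h =>
      obtain ⟨c, rfl⟩ : ∃ c, h = π c := by
        induction h using TensorProduct.induction_on with
        | zero => exact ⟨0, (TensorProduct.tmul_zero _ _).symm⟩
        | add y z hy hz =>
          obtain ⟨c, rfl⟩ := hy
          obtain ⟨d, rfl⟩ := hz
          exact ⟨c + d, (TensorProduct.tmul_add _ _ _).symm⟩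
        | tmul l c =>
          refine ⟨algebraMap L A l • c, ?_⟩
          show l ⊗ₜ[A] c = (1 : L) ⊗ₜ[A] (algebraMap L A l • c)
          rw [← TensorProduct.smul_tmul, Algebra.smul_def, mul_one]
          exact congrArg (· ⊗ₜ[A] c) (RingHom.congr_fun hsec l).symm
      refine ⟨a • c, ?_⟩
      rw [map_smul, show a ⊗ₜ[L] π c = a • ((1 : A) ⊗ₜ[L] π c) by
        rw [TensorProduct.smul_tmul', smul_eq_mul, mul_one], ← smul_sub]
      exact Submodule.smul_mem _ a (by simpa using neg_mem (hφ c))
  have hinj : Function.Injective φ := by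
    refine LRTriv.injective_of_mod hJ hconn φ hS fun c hc => ?_
    have hzero : ∀ x ∈ I • (⊤ : Submodule A (A ⊗[L] H)), (1 : L) ⊗ₜ[A] x = 0 := fun x hx => by
      refine Submodule.smul_induction_on hx (fun a ha z _ => ?_) fun p q hp hq => by
        rw [TensorProduct.tmul_add, hp, hq, add_zero]
      rw [← TensorProduct.smul_tmul, Algebra.smul_def, mul_one,
        show algebraMap A L a = 0 from ha, TensorProduct.zero_tmul]
    have h1 := hzero _ (hφ c)
    rw [hc, zero_sub, TensorProduct.tmul_neg, neg_eq_zero, ← heL] at h1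
    have h2 : π c = 0 := e₁.symm.toAlgEquiv.injective (h1.trans (map_zero eL).symm)
    rw [← LRTriv.one_tmul_eq_zero_iff']
    have h3 := congrArg (qe.symm.toLinearMap.rTensor B) h2
    rwa [LinearMap.rTensor_tmul, map_zero, AlgEquiv.toLinearMap_apply, map_one] at h3
  exact ⟨BialgEquiv.ofBijective φ ⟨hinj, hS⟩⟩

end Groth.Agent.S18875
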