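import Groth.Statements.S18876
import Groth.Agent.Stk19.FibGrpd2
import Groth.Agent.Stk19b.Gerbe.Flat
import Groth.Agent.Stk19b.TorsorPoints
import Groth.Agent.AlgSpLib.Descent

set_option autoImplicit false
universe u
open Gerb

set_option backward.isDefEq.respectTransparency.types false
set_option backward.isDefEq.respectTransparency false

namespace Groth.Agent.S18876
open CategoryTheory AlgebraicGeometry Opposite
open Groth.Agent Groth.Agent.Stk19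

section

variable {S : Scheme.{u}} {𝒳 𝒴 : AlgSt.Cat S}

/-- A covering sieve of a geometric point contains the identity. -/
theorem id_mem {T : Over S} {R : Sieve T} (hR : R ∈ QuotSh.J Scheme.fppfPrecoverage S T)
    (Ω : Type u) [Field Ω] [IsAlgClosed Ω] (e : Spec (CommRingCat.of Ω) ≅ T.left) : R (𝟙 T) := by
  obtain ⟨R', hR', hle⟩ := AlgSpLib.exists_precoverage_of_mem hR
  obtain ⟨T', f, q, hf, hq⟩ := Stk19b.TorsorPoints.exists_point_of_cover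
    Stk19b.TorsorPoints.fppf_le_lft R' hR' Ω e.hom
  have h : (e.inv ≫ q) ≫ f = 𝟙 T.left := by rw [Category.assoc, hq, Iso.inv_hom_id]
  have := R.downward_closed (hle f hf) (Over.homMk (e.inv ≫ q)
    (by show (e.inv ≫ q) ≫ f ≫ T.hom = T.hom; rw [← Category.assoc, h, Category.id_comp]) :
      T ⟶ Over.mk (f ≫ T.hom))
  convert this using 1
  exact (Over.OverMorphism.ext h).symm

/-- A vertical morphism gives an isomorphism of the fibre. -/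
theorem nonempty_fibIso {C : Type*} [Category C] {D : Type*} [Category D] {p : D ⥤ C}
    (hp : FibCat.IsFibGrpd p) {T : C} {a b : p.Fiber T} (φ : a.1 ⟶ b.1) (hφ : p.IsHomLift (𝟙 T) φ) :
    Nonempty (a ≅ b) := by
  have : IsIso φ := fibGrpd_isIso_vert (R := T) hp φ
  haveI : p.IsHomLift (𝟙 T) (asIso φ).hom := hφ
  exact ⟨⟨⟨φ, hφ⟩, ⟨inv φ, IsHomLift.lift_id_inv p T (asIso φ)⟩,
    Functor.Fiber.hom_ext (IsIso.hom_inv_id φ), Functor.Fiber.hom_ext (IsIso.inv_hom_id φ)⟩⟩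

/-- The image of an object of a fibre. -/
abbrev mapFib (F : 𝒳 ⥤ᵇ 𝒴) {T : Over S} (x : 𝒳.p.Fiber T) : 𝒴.p.Fiber T :=
  ⟨F.obj x.1, (F.w_obj x.1).trans x.2⟩

theorem exists_lift {F : 𝒳 ⥤ᵇ 𝒴} (h𝒴 : FibCat.IsFibGrpd 𝒴.p)
    (hF : Gerb.LocSurjObj (QuotSh.J Scheme.fppfPrecoverage S) F) {Ω : Type u} [Field Ω] [IsAlgClosed Ω]
    {T : Over S} (e : Spec (CommRingCat.of Ω) ≅ T.left) (y : 𝒴.p.Fiber T) :
    ∃ x : 𝒳.p.Fiber T, Nonempty (mapFib F x ≅ y) := by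
  obtain ⟨y, rfl⟩ := y
  obtain ⟨R, hR, h⟩ := hF y
  obtain ⟨x, g, hg⟩ := h _ (id_mem hR Ω e)
  exact ⟨⟨x, (F.w_obj x).symm.trans (IsHomLift.domain_eq 𝒴.p (𝟙 _) g)⟩, nonempty_fibIso h𝒴 g hg⟩

theorem lift_iso {F : 𝒳 ⥤ᵇ 𝒴} (h𝒳 : FibCat.IsFibGrpd 𝒳.p)
    (hF : Gerb.LocSurjHom (QuotSh.J Scheme.fppfPrecoverage S) F) {Ω : Type u} [Field Ω] [IsAlgClosed Ω]
    {T : Over S} (e : Spec (CommRingCat.of Ω) ≅ T.left) (x x' : 𝒳.p.Fiber T)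
    (i : mapFib F x ≅ mapFib F x') : Nonempty (x ≅ x') := by
  obtain ⟨x, rfl⟩ := x
  obtain ⟨R, hR, h⟩ := hF x x'.1 i.hom.1 i.hom.2
  obtain ⟨x₀, φ, ψ, hφ, hψ, -⟩ := h _ (id_mem hR Ω e)
  have e₀ : 𝒳.p.obj x₀ = 𝒳.p.obj x := IsHomLift.domain_eq 𝒳.p (𝟙 _) φ
  obtain ⟨i₁⟩ := nonempty_fibIso h𝒳 (a := ⟨x₀, e₀⟩) (b := ⟨x, rfl⟩) φ hφ
  obtain ⟨i₂⟩ := nonempty_fibIso h𝒳 (a := ⟨x₀, e₀⟩) (b := x') ψ hψ
  exact ⟨i₁.symm ≪≫ i₂⟩

theorem sec_eq {M : AlgSp.Sp S} {a b : (AlgSt.ofSp M).obj} (φ : a ⟶ b) {T : Over S}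
    (ha : (AlgSt.ofSp M).p.obj a = T) (hb : (AlgSt.ofSp M).p.obj b = T)
    (hφ : (AlgSt.ofSp M).p.map φ = eqToHom (ha.trans hb.symm)) :
    M.obj.map (eqToHom ha.symm).op a.sec = M.obj.map (eqToHom hb.symm).op b.sec := by
  obtain ⟨A, sa⟩ := a
  obtain ⟨B, sb⟩ := b
  obtain ⟨f, hf⟩ := φ
  change A = T at ha
  change B = T at hb
  change f = eqToHom _ at hφ
  subst ha hb hφ
  dsimp only at hf ⊢
  simp only [eqToHom_refl, op_id, CategoryTheory.Functor.map_id] at hf ⊢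
  simpa using hf.symm

theorem fibSec_congr {M : AlgSp.Sp S} (π : 𝒳 ⥤ᵇ AlgSt.ofSp M) {T : Over S} {x y : 𝒳.p.Fiber T} (i : x ≅ y) :
    AlgSt.fibSec π x = AlgSt.fibSec π y := by
  have := i.hom.2
  refine sec_eq (a := π.obj x.1) (b := π.obj y.1) (π.map i.hom.1) ((π.w_obj x.1).trans x.2) ((π.w_obj y.1).trans y.2) ?_
  refine (based_map π i.hom.1).trans ?_
  rw [IsHomLift.fac' 𝒳.p (𝟙 T) i.hom.1]
  simp

theorem fibSec_nat {M : AlgSp.Sp S} {π π' : 𝒳 ⥤ᵇ AlgSt.ofSp M} (i : π ≅ π') {T : Over S} (x : 𝒳.p.Fiber T) :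
    AlgSt.fibSec π x = AlgSt.fibSec π' x :=
  sec_eq (a := π.obj x.1) (b := π'.obj x.1) (i.hom.toNatTrans.app x.1) ((π.w_obj x.1).trans x.2)
    ((π'.w_obj x.1).trans x.2) ((based_app_map i.hom x.1).trans (by simp))

end



open CategoryTheory AlgebraicGeometry in
/-- Let S be a scheme and F : 𝒳 → 𝒴 a morphism of algebraic stacks over S which makes 𝒳 an fppf gerbe
over 𝒴 and through which every morphism from 𝒳 to an algebraic space factors, uniquely up to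
2-isomorphism. Then 𝒴 admits a coarse moduli space exactly when 𝒳 does, and the two coarse moduli
spaces coincide: for every coarse moduli map π : 𝒴 → M the composite 𝒳 → 𝒴 → M is a coarse moduli
map of 𝒳. (The published statement is about the rigidification F of 𝒳 along a flat finitely
presented subgroup stack of its inertia; only two of its properties are assumed here, that F is a
gerbe and that maps to algebraic spaces factor through F, which is what the published argument uses;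
neither stack is assumed quasi-separated or locally of finite presentation over S, and their
diagonals are not assumed quasi-compact or separated.) -/
theorem result (S : Scheme.{u}) (𝒳 𝒴 : AlgSt.Cat S)
    (h𝒳 : AlgSt.IsAlgStack Scheme.fppfPrecoverage 𝒳) (h𝒴 : AlgSt.IsAlgStack Scheme.fppfPrecoverage 𝒴)
    (F : 𝒳 ⥤ᵇ 𝒴) (hF : Gerb.IsGerbeOver (QuotSh.J Scheme.fppfPrecoverage S) F)
    (huniv : ∀ (N : AlgSp.Sp S), AlgSp.IsAlgSpace N → ∀ φ : 𝒳 ⥤ᵇ AlgSt.ofSp N,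
      ∃ ψ : 𝒴 ⥤ᵇ AlgSt.ofSp N, Nonempty (BasedFunctor.comp F ψ ≅ φ) ∧
        ∀ ψ' : 𝒴 ⥤ᵇ AlgSt.ofSp N, Nonempty (BasedFunctor.comp F ψ' ≅ φ) → Nonempty (ψ' ≅ ψ)) :
    ((∃ (M : AlgSp.Sp S) (π : 𝒴 ⥤ᵇ AlgSt.ofSp M), AlgSt.IsCoarseModuli π) ↔
        ∃ (M : AlgSp.Sp S) (π : 𝒳 ⥤ᵇ AlgSt.ofSp M), AlgSt.IsCoarseModuli π) ∧
      ∀ (M : AlgSp.Sp S) (π : 𝒴 ⥤ᵇ AlgSt.ofSp M), AlgSt.IsCoarseModuli π →
        AlgSt.IsCoarseModuli (BasedFunctor.comp F π) := by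
  have hx := h𝒳.isStack.1
  have hy := h𝒴.isStack.1
  have H : ∀ (M : AlgSp.Sp S) (π : 𝒴 ⥤ᵇ AlgSt.ofSp M), AlgSt.IsCoarseModuli π →
      AlgSt.IsCoarseModuli (BasedFunctor.comp F π) := by
    rintro M π ⟨⟨hM, hcat⟩, hpt⟩
    refine ⟨⟨hM, fun N hN φ => ?_⟩, fun Ω _ _ t => ⟨fun m => ?_, fun x x' hxx => ?_⟩⟩
    · obtain ⟨ψ, ⟨i⟩, hψ⟩ := huniv N hN φ
      obtain ⟨g, ⟨j⟩, hg⟩ := hcat N hN ψ
      refine ⟨g, ⟨(Stk.restr F _).mapIso j ≪≫ i⟩, fun g' hg' => hg g' ?_⟩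
      obtain ⟨k⟩ := hg'
      exact hψ _ ⟨k⟩
    · obtain ⟨y, hy'⟩ := (hpt Ω t).1 m
      obtain ⟨x, ⟨i⟩⟩ := exists_lift hy hF.1 (Iso.refl _) y
      exact ⟨x, (fibSec_congr π i).trans hy'⟩
    · obtain ⟨i⟩ := (hpt Ω t).2 (mapFib F x) (mapFib F x') hxx
      exact lift_iso hx hF.2 (Iso.refl _) x x' i
  refine ⟨⟨fun ⟨M, π, h⟩ => ⟨M, _, H M π h⟩, fun ⟨M, π, ⟨hM, hcat⟩, hpt⟩ => ?_⟩, H⟩
  obtain ⟨ψ, ⟨i⟩, hψ⟩ := huniv M hM π
  refine ⟨M, ψ, ⟨hM, fun N hN φ => ?_⟩, fun Ω _ _ t => ⟨fun m => ?_, fun y y' hyy => ?_⟩⟩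
  · obtain ⟨g, ⟨j⟩, hg⟩ := hcat N hN (BasedFunctor.comp F φ)
    obtain ⟨ψ₀, -, hψ₀⟩ := huniv N hN (BasedFunctor.comp F φ)
    obtain ⟨a⟩ := hψ₀ φ ⟨Iso.refl _⟩
    obtain ⟨b⟩ := hψ₀ (BasedFunctor.comp ψ (AlgSt.ofSpMap g))
      ⟨(postB _ (AlgSt.ofSpMap g)).mapIso i ≪≫ j⟩
    refine ⟨g, ⟨b ≪≫ a.symm⟩, fun g' ⟨k⟩ => hg g' ?_⟩
    exact ⟨(postB _ (AlgSt.ofSpMap g')).mapIso i.symm ≪≫ (Stk.restr F _).mapIso k⟩
  · obtain ⟨x, hx'⟩ := (hpt Ω t).1 m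
    exact ⟨mapFib F x, (fibSec_nat i x).trans hx'⟩
  · obtain ⟨x, ⟨a⟩⟩ := exists_lift hy hF.1 (Iso.refl _) y
    obtain ⟨x', ⟨a'⟩⟩ := exists_lift hy hF.1 (Iso.refl _) y'
    have h : AlgSt.fibSec π x = AlgSt.fibSec π x' :=
      ((fibSec_nat i x).symm.trans (fibSec_congr ψ a)).trans
        (hyy.trans ((fibSec_congr ψ a').symm.trans (fibSec_nat i x')))
    obtain ⟨b⟩ := (hpt Ω t).2 x x' h
    have := b.hom.2
    obtain ⟨c⟩ := nonempty_fibIso hy (a := mapFib F x) (b := mapFib F x') (F.map b.hom.1)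
      (BasedFunctor.preserves_isHomLift F _ b.hom.1)
    exact ⟨a.symm ≪≫ c ≪≫ a'⟩

end Groth.Agent.S18876
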