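import Groth.Statements.S18877
import Groth.Agent.S1339
import Groth.Agent.Coherent.CohBC.PushStructureIso
import Groth.Agent.FlatMorGeomIrr.GeomFibre
import Groth.Agent.H8Lim.ProConsLimit
-- import your own Groth.Agent.* helpers here

set_option autoImplicit false
set_option backward.isDefEq.respectTransparency.types false
universe u
open Lim

namespace Groth.Agent.S18877

open CategoryTheory AlgebraicGeometry in
/-- Let S = lim S_i be a cofiltered limit of Noetherian schemes with affine transition morphisms, let X₀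
→ S_{i₀} be a scheme of finite type over one stage and X → S its base change to the limit. If all
geometric fibres of X → S are connected, then for some stage S_i → S_{i₀} all geometric fibres of
the base change X₀ ×_{S_{i₀}} S_i → S_i are connected. (Connected is read so as to allow the empty
fibre: the underlying space of each geometric fibre is preconnected; the geometric fibre of X₀
×_{S_{i₀}} S_i over Spec Ω → S_i is written as the pullback of X₀ → S_{i₀} along Spec Ω → S_i →
S_{i₀}.) -/
theorem result {I : Type u} [SmallCategory I] [IsCofiltered I]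
    (D : I ⥤ Scheme.{u}) (c : Limits.Cone D) (hc : Limits.IsLimit c)
    [∀ (i j : I) (a : i ⟶ j), IsAffineHom (D.map a)] [∀ i : I, AlgebraicGeometry.IsNoetherian (D.obj i)]
    (i₀ : I) {X₀ : Scheme.{u}} (f₀ : X₀ ⟶ D.obj i₀) [QuasiCompact f₀] [LocallyOfFiniteType f₀]
    {X : Scheme.{u}} (f : X ⟶ c.pt) (q : X ⟶ X₀) (hX : IsPullback q f f₀ (c.π.app i₀))
    (hconn : ∀ (Ω : Type u) [Field Ω] [IsAlgClosed Ω] (t : Spec (CommRingCat.of Ω) ⟶ c.pt),
      PreconnectedSpace ↥(Limits.pullback f t)) :
    ∃ (i : I) (a : i ⟶ i₀), ∀ (Ω : Type u) [Field Ω] [IsAlgClosed Ω] (t : Spec (CommRingCat.of Ω) ⟶ D.obj i),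
      PreconnectedSpace ↥(Limits.pullback f₀ (t ≫ D.map a)) := by
  open Topology in
  classical
  have key : ∀ {α : Type u} [TopologicalSpace α],
      PreconnectedSpace α ↔ ENat.card (_root_.ConnectedComponents α) ≤ 1 := fun {α} _ => by
    rw [ENat.card_le_one_iff_subsingleton]
    refine ⟨fun h => ⟨fun a b => ?_⟩, fun h => ?_⟩
    · obtain ⟨a, rfl⟩ := _root_.ConnectedComponents.surjective_coe a
      obtain ⟨b, rfl⟩ := _root_.ConnectedComponents.surjective_coe b
      exact _root_.ConnectedComponents.coe_eq_coe'.2 (by rw [PreconnectedSpace.connectedComponent_eq_univ]; trivial)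
    · refine preconnectedSpace_iff_connectedComponent.2 fun x => Set.eq_univ_of_forall fun y => ?_
      exact _root_.ConnectedComponents.coe_eq_coe'.1 (Subsingleton.elim _ _)
  haveI : IsLocallyNoetherian X₀ := LocallyOfFiniteType.isLocallyNoetherian f₀
  haveI : QuasiSeparatedSpace X₀ := inferInstance
  haveI : QuasiSeparated f₀ := .of_quasiSeparatedSpace f₀
  haveI : LocallyOfFinitePresentation f₀ := Groth.Agent.Coherent.CohBC.locallyOfFinitePresentation_of_isLocallyNoetherian f₀
  let C : Set (D.obj i₀) := {y | MoreMor.nGeomConnComp f₀ y ≤ 1}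
  have hC : IsConstructible C := by
    have h : C = {y | MoreMor.nGeomConnComp f₀ y = 0} ∪ {y | MoreMor.nGeomConnComp f₀ y = 1} := by
      ext y; exact Order.le_one_iff (α := ℕ∞) (x := MoreMor.nGeomConnComp f₀ y)
    rw [h]
    exact ((Groth.Agent.S1339.result f₀ 0).union (Groth.Agent.S1339.result f₀ 1)).isConstructible
  haveI : ∀ {i j : I} (a : i ⟶ j), IsAffineHom (D.map a) := fun a => inferInstance
  obtain ⟨j, φ, hj⟩ := Groth.Agent.H8Lim.exists_preimage_subset_of_isProConstructible hc
    (P := Set.univ) (C := C) (i := i₀) (fun x => ⟨Set.univ, isOpen_univ, trivial, ∅, fun T hT => hT.elim, by simp⟩) hC (fun p _ => by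
      obtain ⟨Ω, _, _, s, z, hs⟩ := Groth.Agent.FlatMorGeomIrr.exists_algClosed_point p
      show MoreMor.nGeomConnComp f₀ (c.π.app i₀ p) ≤ 1
      rw [← (Groth.Agent.FlatMorGeomIrr.counts_baseChange f₀ f q (c.π.app i₀) hX p).2,
        ← (Groth.Agent.FlatMorGeomIrr.counts_eq_geomFiber f s z hs).2]
      exact key.1 (hconn Ω s))
  refine ⟨j, φ, fun Ω _ _ t => key.2 ?_⟩
  obtain ⟨z⟩ : Nonempty (Spec (CommRingCat.of Ω)) := inferInstance
  rw [(Groth.Agent.FlatMorGeomIrr.counts_eq_geomFiber f₀ (t ≫ D.map φ) z rfl).2, Scheme.Hom.comp_apply]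
  exact hj (Set.mem_univ (D.map φ (t z)))

end Groth.Agent.S18877
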