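import Groth.Statements.S18879
import Groth.Agent.DimLib.Formula

set_option autoImplicit false
set_option backward.isDefEq.respectTransparency.types false
universe u
open CategoryTheory AlgebraicGeometry
open Resolve

namespace Groth.Agent.S18879

open TopologicalSpace

/-- A minimal prime of the section ring of an affine open is a generic point of the scheme. -/
theorem fromSpec_mem_genericPoints {Y : Scheme.{u}} {W : Y.Opens} (hW : IsAffineOpen W)
    (P : PrimeSpectrum Γ(Y, W)) (hP : ∀ Q : PrimeSpectrum Γ(Y, W), Q ≤ P → Q = P) :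
    hW.fromSpec P ∈ genericPoints Y := by
  set η := hW.fromSpec P
  have hη : η ∈ W := by
    have : η ∈ Set.range hW.fromSpec := ⟨P, rfl⟩
    rwa [hW.range_fromSpec] at this
  refine ⟨isIrreducible_singleton.closure, fun C hC hle => ?_⟩
  obtain ⟨z, hz⟩ := QuasiSober.sober hC.closure isClosed_closure
  have hsp : z ⤳ η := hz.specializes (subset_closure (hle (subset_closure (Set.mem_singleton η))))
  have hzW : z ∈ W := hsp.mem_open W.isOpen hη
  obtain ⟨Q, rfl⟩ : z ∈ Set.range hW.fromSpec := by rwa [hW.range_fromSpec]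
  have hQP : @LE.le (PrimeSpectrum Γ(Y, W)) _ Q P := (PrimeSpectrum.le_iff_specializes (R := Γ(Y, W)) Q P).2
    (hW.fromSpec.isOpenEmbedding.isInducing.specializes_iff.1 hsp)
  rw [show Q = P from hP Q hQP] at hz
  intro c hc
  show c ∈ closure {η}
  rw [show closure {η} = closure C from hz.def]
  exact subset_closure hc

set_option maxHeartbeats 1000000 in
theorem height_le_of_minimal_algebraic {A B : Type u} [CommRing A] [IsNoetherianRing A] [CommRing B] (φ : A →+* B)
    (hφ : φ.FiniteType) (q : Ideal B) [q.IsPrime]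
    (halg : ∀ P ∈ minimalPrimes B, ∀ b : B, ∃ a s : A, φ s ∉ P ∧ φ s * b - φ a ∈ P) :
    q.height ≤ (q.comap φ).height := by
  algebraize [φ]
  change q.height ≤ (q.under A).height
  let q0 : PrimeSpectrum B := ⟨q, inferInstance⟩
  rw [PrimeSpectrum.height_eq_orderHeight q0]
  refine Order.height_le fun c hc => ?_
  obtain ⟨P, hP, hPc⟩ := Ideal.exists_minimalPrimes_le (I := (⊥ : Ideal B)) (J := c.head.asIdeal) bot_le
  have hPp : P.IsPrime := hP.1.1
  have hPi : ∀ i, P ≤ (c i).asIdeal := fun i => hPc.trans (c.head_le i)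
  have hPq : P ≤ q := (hPi (Fin.last _)).trans (le_of_eq (congrArg PrimeSpectrum.asIdeal hc))
  let R := A ⧸ P.under A
  let S := B ⧸ P
  have : Algebra.IsAlgebraic R S := ⟨fun x => by
    obtain ⟨b, rfl⟩ := Ideal.Quotient.mk_surjective x
    obtain ⟨a, s, hs, h⟩ := halg P hP b
    refine ⟨Polynomial.C (Ideal.Quotient.mk _ s) * Polynomial.X - Polynomial.C (Ideal.Quotient.mk _ a), ?_, ?_⟩
    · intro h0
      have := congrArg (fun g : Polynomial R => g.coeff 1) h0
      simp at this
      have hsm : s ∈ P.under A := Ideal.Quotient.eq_zero_iff_mem.1 this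
      exact hs hsm
    · simp only [map_sub, map_mul, Polynomial.aeval_C, Polynomial.aeval_X]
      exact Ideal.Quotient.eq_zero_iff_mem.2 h⟩
  have : Algebra.FiniteType R S :=
    have : Algebra.FiniteType A S := Algebra.FiniteType.trans (S := B) inferInstance inferInstance
    Algebra.FiniteType.of_restrictScalars_finiteType A R S
  let mk := Ideal.Quotient.mk P
  have hmk : Function.Surjective mk := Ideal.Quotient.mk_surjective
  have hprime : ∀ i, ((c i).asIdeal.map mk).IsPrime := fun i =>
    Ideal.map_isPrime_of_surjective hmk (by rw [Ideal.mk_ker]; exact hPi i)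
  have hcomap : ∀ I : Ideal B, P ≤ I → (I.map mk).comap mk = I := fun I hI => by
    rw [Ideal.comap_map_of_surjective _ hmk, ← RingHom.ker_eq_comap_bot, Ideal.mk_ker, sup_eq_left]; exact hI
  let c' : LTSeries (PrimeSpectrum S) := LTSeries.mk c.length (fun i => ⟨(c i).asIdeal.map mk, hprime i⟩)
    (fun i j hij => by
      refine lt_of_le_of_ne (Ideal.map_mono (c.strictMono hij).le) fun h => (c.strictMono hij).ne ?_
      have := congrArg (fun I : PrimeSpectrum S => I.asIdeal.comap mk) h
      simp only [hcomap _ (hPi _)] at this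
      exact PrimeSpectrum.ext this)
  let qS : PrimeSpectrum S := ⟨q.map mk, Ideal.map_isPrime_of_surjective hmk (by rw [Ideal.mk_ker]; exact hPq)⟩
  have h1 : (c.length : ℕ∞) ≤ qS.asIdeal.height := by
    have hlast : RelSeries.last c' = qS := by
      apply PrimeSpectrum.ext
      have : (c (Fin.last c.length)).asIdeal = q := congrArg PrimeSpectrum.asIdeal hc
      simp [c', qS, RelSeries.last, LTSeries.mk, this]
    rw [PrimeSpectrum.height_eq_orderHeight qS]
    exact Order.length_le_height (p := c') (x := qS) (le_of_eq hlast)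
  refine h1.trans ?_
  haveI := qS.isPrime
  haveI : (qS.asIdeal.under R).IsPrime := Ideal.IsPrime.comap _
  have h2 := DimLib.height_le_of_isAlgebraic (R := R) (qS.asIdeal.under R) qS.asIdeal
  refine h2.trans ?_
  let pR : PrimeSpectrum R := ⟨qS.asIdeal.under R, inferInstance⟩
  let p0 : PrimeSpectrum A := ⟨q.under A, inferInstance⟩
  show pR.asIdeal.height ≤ p0.asIdeal.height
  rw [PrimeSpectrum.height_eq_orderHeight pR, PrimeSpectrum.height_eq_orderHeight p0]
  have he : PrimeSpectrum.comap (Ideal.Quotient.mk (P.under A)) pR = p0 := PrimeSpectrum.ext (by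
    show ((q.map mk).comap (algebraMap R S)).comap (Ideal.Quotient.mk (P.under A)) = q.comap (algebraMap A B)
    rw [Ideal.comap_comap]
    show (q.map mk).comap (mk.comp (algebraMap A B)) = _
    rw [← Ideal.comap_comap, hcomap q hPq])
  rw [← he]
  have hmono : Monotone (PrimeSpectrum.comap (Ideal.Quotient.mk (P.under A))) := fun a b h => Ideal.comap_mono h
  exact Order.height_le_height_apply_of_strictMono _ (hmono.strictMono_of_injective
    (PrimeSpectrum.comap_injective_of_surjective _ Ideal.Quotient.mk_surjective)) pR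

/-- Let f : Y ⟶ X be a morphism locally of finite type between Noetherian separated schemes which is
birational: it maps the maximal points of Y bijectively onto the maximal points of X, and over every
maximal point of X its fibre is one point with the same residue field. Then for every point y of Y,
the Krull dimension of the local ring of Y at y is at most the Krull dimension of the local ring of
X at f y (the codimension of a point does not increase along f). -/
theorem result {X Y : Scheme.{u}} (f : Y ⟶ X)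
    [IsNoetherian X] [X.IsSeparated] [IsNoetherian Y] [Y.IsSeparated] [LocallyOfFiniteType f]
    (hf : RadPt.IsBirational f) (y : Y) :
    ringKrullDim (Y.presheaf.stalk y) ≤ ringKrullDim (X.presheaf.stalk (f.base y)) := by
  obtain ⟨_, ⟨U, hU, rfl⟩, hfy, -⟩ :=
    X.isBasis_affineOpens.exists_subset_of_mem_open (Set.mem_univ (f.base y)) isOpen_univ
  obtain ⟨_, ⟨W, hW, rfl⟩, hy, hWU⟩ :=
    Y.isBasis_affineOpens.exists_subset_of_mem_open (show y ∈ (f ⁻¹ᵁ U : Set Y) from hfy) (f ⁻¹ᵁ U).isOpen
  have := IsLocallyNoetherian.component_noetherian (X := X) ⟨U, hU⟩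
  letI := TopCat.Presheaf.algebra_section_stalk X.presheaf (⟨f.base y, hfy⟩ : U)
  letI := TopCat.Presheaf.algebra_section_stalk Y.presheaf (⟨y, hy⟩ : W)
  have := hU.isLocalization_stalk ⟨f.base y, hfy⟩
  have := hW.isLocalization_stalk ⟨y, hy⟩
  rw [IsLocalization.AtPrime.ringKrullDim_eq_height (hW.primeIdealOf ⟨y, hy⟩).asIdeal (Y.presheaf.stalk y),
    IsLocalization.AtPrime.ringKrullDim_eq_height (hU.primeIdealOf ⟨f.base y, hfy⟩).asIdeal (X.presheaf.stalk (f.base y))]
  rw [← IsAffineOpen.comap_primeIdealOf_appLE U hU W hW hWU hy]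
  refine WithBot.coe_le_coe.2 (height_le_of_minimal_algebraic _ (LocallyOfFiniteType.finiteType_appLE f hU hW hWU) _ ?_)
  intro P hP b
  let P' : PrimeSpectrum Γ(Y, W) := ⟨P, hP.1.1⟩
  have hgen : hW.fromSpec P' ∈ genericPoints Y :=
    fromSpec_mem_genericPoints hW P' fun Q hQ => PrimeSpectrum.ext (le_antisymm hQ (hP.2 ⟨Q.isPrime, bot_le⟩ hQ))
  have hη : hW.fromSpec P' ∈ W := by
    have : hW.fromSpec P' ∈ Set.range hW.fromSpec := ⟨P', rfl⟩
    rwa [hW.range_fromSpec] at this
  have hzero : ∀ g : Γ(Y, W), Y.evaluation W _ hη g = 0 ↔ g ∈ P := fun g => by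
    rw [Scheme.evaluation_eq_zero_iff_notMem_basicOpen]
    show ¬ P' ∈ hW.fromSpec ⁻¹ᵁ Y.basicOpen g ↔ _
    rw [hW.fromSpec_preimage_basicOpen]
    exact not_not
  have hfη := hWU hη
  obtain ⟨z, hz⟩ := ((hf.2 _ (hf.1.mapsTo hgen)).2 _ rfl).2 (Y.evaluation W _ hη b)
  obtain ⟨w, rfl⟩ := IsLocalRing.residue_surjective z
  letI := TopCat.Presheaf.algebra_section_stalk X.presheaf (⟨_, hfη⟩ : U)
  have := hU.isLocalization_stalk ⟨_, hfη⟩
  obtain ⟨⟨a, s⟩, hw⟩ := IsLocalization.surj (hU.primeIdealOf ⟨_, hfη⟩).asIdeal.primeCompl w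
  have hnat : ∀ g : Γ(X, U), f.residueFieldMap _ (X.evaluation U _ hfη g) = Y.evaluation W _ hη (f.appLE U W hWU g) :=
    fun g => by
    rw [Scheme.evaluation_naturality_apply]
    simp only [Scheme.evaluation, Scheme.Hom.appLE, CommRingCat.comp_apply]
    rw [TopCat.Presheaf.germ_res_apply]
  refine ⟨a, s.1, ?_, ?_⟩
  · intro h
    refine s.2 ?_
    have hc := IsAffineOpen.comap_primeIdealOf_appLE U hU W hW hWU hη
    have hprime : hW.primeIdealOf ⟨_, hη⟩ = P' :=
      hW.fromSpec.isOpenEmbedding.injective (hW.fromSpec_primeIdealOf ⟨_, hη⟩)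
    rw [hprime] at hc
    exact (congrArg (fun I : PrimeSpectrum Γ(X, U) => s.1 ∈ I.asIdeal) hc).mp h
  · rw [← hzero, map_sub, map_mul, ← hnat, ← hnat, sub_eq_zero]
    have h2 := congrArg (fun v => f.residueFieldMap _ (X.residue _ v)) hw
    simp only [map_mul] at h2
    rw [← hz, mul_comm]
    exact h2

end Groth.Agent.S18879
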