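import Groth.Statements.S1888
import Groth.Agent.GrpdLib.Orbits
import Mathlib.AlgebraicGeometry.Morphisms.ClosedImmersion
import Mathlib.AlgebraicGeometry.ResidueField

set_option autoImplicit false
universe u
open CategoryTheory CategoryTheory.Limits AlgebraicGeometry
open Grpd

namespace Groth.Agent.S1888
open Limits Groth.Agent.GrpdLib

/-- Let (U, R, s, t, c) be a groupoid scheme over S with U the spectrum of a field k, and r a point of R
such that both s and t induce isomorphisms from k to κ(r). Then there is an automorphism of the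
scheme R carrying the identity point e to r. (The source's automorphism is x ↦ c(r, x); only the
existence of an automorphism moving e to r is stated here.) (A groupoid scheme carries U, R, s, t,
c, e, i over S with the groupoid axioms on T-points; 'finite locally free' is finite, flat and
locally of finite presentation; C ⊂ Γ(U) is the ring of functions a with s♯(a) = t♯(a) and M = Spec
C.) -/
theorem result (S : Scheme.{u}) (G : Grpd.GroupoidScheme S) (k : Type u) [Field k] (eU : G.U ≅ Spec (CommRingCat.of k)) (r : G.R) (hs : IsIso (G.s.residueFieldMap r)) (ht : IsIso (G.t.residueFieldMap r)) : ∃ φ : G.R ≅ G.R, φ.hom (G.e (eU.inv (IsLocalRing.closedPoint k))) = r := by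
  haveI : Subsingleton G.U := eU.hom.homeomorph.injective.subsingleton
  haveI : IsReduced G.U := isReduced_of_isOpenImmersion eU.hom
  have hU : ∀ u : G.U, IsIso (G.U.fromSpecResidueField u) := fun u => by
    haveI : Surjective (G.U.fromSpecResidueField u) := ⟨fun x => by
      obtain ⟨o⟩ : Nonempty ↥(Spec (G.U.residueField u)) := inferInstanceAs (Nonempty (PrimeSpectrum (G.U.residueField u)))
      exact ⟨o, Subsingleton.elim _ _⟩⟩
    haveI : IsClosedImmersion (G.U.fromSpecResidueField u) :=
      IsClosedImmersion.of_isPreimmersion _ (by rw [Set.range_eq_univ.2 (G.U.fromSpecResidueField u).surjective]; exact isClosed_univ)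
    exact isIso_of_isClosedImmersion_of_surjective _
  haveI := hU (G.s r)
  haveI := hU (G.t r)
  haveI := hs
  haveI := ht
  let p := G.R.fromSpecResidueField r
  haveI : IsIso (p ≫ G.s) := by
    rw [show p ≫ G.s = _ from (Scheme.Hom.SpecMap_residueFieldMap_fromSpecResidueField G.s r).symm]
    infer_instance
  haveI : IsIso (p ≫ G.t) := by
    rw [show p ≫ G.t = _ from (Scheme.Hom.SpecMap_residueFieldMap_fromSpecResidueField G.t r).symm]
    infer_instance
  let σ : G.U ⟶ G.R := inv (p ≫ G.s) ≫ p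
  have hσ : σ ≫ G.s = 𝟙 _ := by rw [Category.assoc, IsIso.inv_hom_id]
  haveI : IsIso (σ ≫ G.t) := by rw [Category.assoc]; infer_instance
  have hσr : ∀ u, σ u = r := fun u => by
    rw [Scheme.Hom.comp_apply]
    exact (G.R.range_fromSpecResidueField r).le ⟨_, rfl⟩
  have c1 : (G.t ≫ σ) ≫ G.s = 𝟙 G.R ≫ G.t := by rw [Category.assoc, hσ, Category.comp_id, Category.id_comp]
  let π := G.t ≫ inv (σ ≫ G.t) ≫ σ
  have c2 : (π ≫ G.i) ≫ G.s = 𝟙 G.R ≫ G.t := by
    rw [i_comp_s, Category.assoc, Category.assoc, IsIso.inv_hom_id, Category.comp_id, Category.id_comp]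
  let φ := cmp G (G.t ≫ σ) (𝟙 G.R) c1
  let ψ := cmp G (π ≫ G.i) (𝟙 G.R) c2
  have hφt : φ ≫ G.t = G.t ≫ σ ≫ G.t := by rw [cmp_t, Category.assoc]
  have hψt : ψ ≫ G.t = G.t ≫ inv (σ ≫ G.t) := by
    rw [cmp_t, i_comp_t, Category.assoc, Category.assoc, hσ, Category.comp_id]
  refine ⟨⟨φ, ψ, ?_, ?_⟩, ?_⟩
  · rw [comp_cmp]
    refine (cmp_congr G (α' := (G.t ≫ σ) ≫ G.i) (β' := φ) ?_ (Category.comp_id _) _ ?_).trans
      (cmp_inv_cmp G (G.t ≫ σ) (𝟙 G.R) c1 _)
    · change φ ≫ (G.t ≫ inv (σ ≫ G.t) ≫ σ) ≫ G.i = _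
      rw [← Category.assoc φ, ← Category.assoc φ, hφt]
      simp only [Category.assoc]
      rw [← Category.assoc σ G.t, IsIso.hom_inv_id_assoc]
    · rw [i_comp_s]
      change _ = φ ≫ G.t
      rw [cmp_t]
  · rw [comp_cmp]
    refine (cmp_congr G (α' := π) (β' := ψ) ?_ (Category.comp_id _) _ ?_).trans
      (cmp_cmp_inv G π (𝟙 G.R) c2 _)
    · rw [← Category.assoc, hψt, Category.assoc]
    · change π ≫ G.s = ψ ≫ G.t
      rw [hψt, Category.assoc, Category.assoc, hσ, Category.comp_id]
  · change (G.e ≫ φ) _ = r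
    rw [comp_cmp]
    have e1 : G.e ≫ G.t ≫ σ = σ := by rw [← Category.assoc, G.e_t, Category.id_comp]
    refine (congrArg (fun (f : G.U ⟶ G.R) => f (eU.inv (IsLocalRing.closedPoint k)))
      ((cmp_congr G (α' := σ) (β' := σ ≫ G.s ≫ G.e) e1 ?_ _ ?_).trans (G.comp_e σ))).trans (hσr _)
    · rw [Category.comp_id, ← Category.assoc, hσ, Category.id_comp]
    · simp [G.e_t]

end Groth.Agent.S1888
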