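import Groth.Statements.S18880
import Groth.Agent.RDPChain13.CodimTwoReduced
-- import your own Groth.Agent.* helpers here

set_option autoImplicit false
universe u
open CategoryTheory AlgebraicGeometry
open Resolve

namespace Groth.Agent.S18880

/-- Let X be a reduced Noetherian separated scheme which is quasi-excellent, in the sense that every
affine open has a quasi-excellent coordinate ring (a Noetherian G-ring with the J-2 property). Then
there are a reduced scheme X' and a morphism f : X' ⟶ X which is projective (X' is isomorphic over X
to the relative Proj of a quasi-coherent graded algebra generated by its degree-one part, of finite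
type), birational (f maps the maximal points of X' bijectively onto those of X, with one-point
fibres and equal residue fields over them), restricts to an isomorphism over every open subset of X
all of whose points have regular local rings (f is an isomorphism outside the singular locus), and
such that the local ring of X' at x is regular whenever the local ring of X at f x has Krull
dimension at most 2. -/
theorem result {X : Scheme.{u}}
    [IsNoetherian X] [X.IsSeparated] [AlgebraicGeometry.IsReduced X]
    (hqe : ∀ U : X.affineOpens, EGA4.IsQuasiExcellent Γ(X, U)) :
    ∃ (X' : Scheme.{u}) (f : X' ⟶ X), AlgebraicGeometry.IsReduced X' ∧ RelProj.IsProjective f ∧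
      RadPt.IsBirational f ∧
      (∀ U : X.Opens, (∀ x : X, x ∈ U → IsRegularLocalRing (X.presheaf.stalk x)) → IsIso (f ∣_ U)) ∧
      ∀ x : X', ringKrullDim (X.presheaf.stalk (f.base x)) ≤ 2 →
        IsRegularLocalRing (X'.presheaf.stalk x) := RDPChain13.exists_regular_over_codim_two_reduced (fun U => S2654.result _ (hqe U))
    fun q => RDPChain13.exists_qe_chart q hqe

end Groth.Agent.S18880
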