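import Groth.Statements.S18881
import Groth.Agent.RDPChain13.CodimTwoProjective
-- import your own Groth.Agent.* helpers here

set_option autoImplicit false
universe u
open CategoryTheory AlgebraicGeometry
open Resolve

namespace Groth.Agent.S18881

/-- Let S be a Noetherian separated scheme and g : X ⟶ S a morphism of finite type, with X reduced,
separated and quasi-excellent (every affine open of X has a quasi-excellent coordinate ring: a
Noetherian G-ring with the J-2 property). Then there are a reduced scheme X' and a projective
birational morphism f : X' ⟶ X (X' is isomorphic over X to the relative Proj of a quasi-coherent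
graded algebra generated by its degree-one part, of finite type; f is bijective on maximal points
with one-point fibres and equal residue fields over them) such that X' is quasi-projective over S,
meaning that f ≫ g is an open immersion followed by a projective morphism, and the local ring of X'
at x is regular whenever the local ring of X at f x has Krull dimension at most 2. -/
theorem result {X S : Scheme.{u}}
    (g : X ⟶ S) [IsNoetherian S] [S.IsSeparated] [IsNoetherian X] [X.IsSeparated] [AlgebraicGeometry.IsReduced X]
    [LocallyOfFiniteType g]
    (hqe : ∀ U : X.affineOpens, EGA4.IsQuasiExcellent Γ(X, U)) :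
    ∃ (X' : Scheme.{u}) (f : X' ⟶ X), AlgebraicGeometry.IsReduced X' ∧ RelProj.IsProjective f ∧
      RadPt.IsBirational f ∧
      (∃ (P : Scheme.{u}) (j : X' ⟶ P) (q : P ⟶ S), IsOpenImmersion j ∧ RelProj.IsProjective q ∧ j ≫ q = f ≫ g) ∧
      ∀ x : X', ringKrullDim (X.presheaf.stalk (f.base x)) ≤ 2 →
        IsRegularLocalRing (X'.presheaf.stalk x) := RDPChain13.exists_quasiProjective_regular_over_codim_two g hqe

end Groth.Agent.S18881
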