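import Groth.Statements.S18884
-- import your own Groth.Agent.* helpers here

set_option autoImplicit false
universe v u w
open CategoryTheory CategoryTheory.Limits
open Desc

set_option backward.isDefEq.respectTransparency.types false
set_option backward.isDefEq.respectTransparency false

namespace Groth.Agent.S18884

/-- Let C be a category with pullbacks equipped with a class W of morphisms, the covers, stable under
base change and under composition. An abelian cosheaf is a functor F : C ⥤ Ab such that for every
cover π : Y ⟶ X the map F(π) is surjective and its kernel is the image of F(p₁) − F(p₂), where p₁,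
p₂ : Y ×_X Y ⟶ Y are the two projections. If D is a full subcategory of C such that every object of
C is the target of a cover whose source lies in D, then the restriction functor from the full
subcategory of abelian cosheaves in C ⥤ Ab to D ⥤ Ab is full and faithful. -/
theorem result {C : Type u} [Category.{v} C]
    [HasPullbacks C] (W : MorphismProperty C) [W.IsStableUnderBaseChange] [W.IsStableUnderComposition]
    (D : ObjectProperty C) (hD : ∀ X : C, ∃ (Y : C) (π : Y ⟶ X), W π ∧ D Y) :
    (ObjectProperty.ι (fun F : C ⥤ AddCommGrpCat.{w} =>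
        ∀ ⦃Y X : C⦄ (π : Y ⟶ X), W π → Function.Surjective (F.map π).hom ∧
          (F.map π).hom.ker = ((F.map (pullback.fst π π)).hom - (F.map (pullback.snd π π)).hom).range) ⋙
      (Functor.whiskeringLeft D.FullSubcategory C AddCommGrpCat.{w}).obj D.ι).Full ∧
    (ObjectProperty.ι (fun F : C ⥤ AddCommGrpCat.{w} =>
        ∀ ⦃Y X : C⦄ (π : Y ⟶ X), W π → Function.Surjective (F.map π).hom ∧
          (F.map π).hom.ker = ((F.map (pullback.fst π π)).hom - (F.map (pullback.snd π π)).hom).range) ⋙
      (Functor.whiskeringLeft D.FullSubcategory C AddCommGrpCat.{w}).obj D.ι).Faithful := by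
  constructor
  · refine ⟨fun {F G} α => ?_⟩
    choose Y π hπ hY using hD
    let α' : ∀ (X : C), D X → ((F.obj.obj X : Type w) →+ G.obj.obj X) :=
      fun X hX => (α.app ⟨X, hX⟩).hom
    have hnat : ∀ {X X' : C} (hX : D X) (hX' : D X') (f : X ⟶ X') (x : F.obj.obj X),
        α' X' hX' ((F.obj.map f).hom x) = (G.obj.map f).hom (α' X hX x) := fun hX hX' f x => by
      have := α.naturality (X := ⟨_, hX⟩) (Y := ⟨_, hX'⟩) (ObjectProperty.homMk f)
      exact congrArg (fun t => t.hom x) this
    have hker : ∀ X (b : F.obj.obj (Y X)), (F.obj.map (π X)).hom b = 0 →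
        (G.obj.map (π X)).hom (α' (Y X) (hY X) b) = 0 := by
      intro X b hb
      have hmem : b ∈ (F.obj.map (π X)).hom.ker := hb
      rw [(F.property (π X) (hπ X)).2] at hmem
      obtain ⟨p, rfl⟩ := hmem
      obtain ⟨z, rfl⟩ := (F.property (π _) (hπ (pullback (π X) (π X)))).1 p
      simp only [AddMonoidHom.sub_apply, map_sub, ← ConcreteCategory.comp_apply, ← Functor.map_comp]
      rw [hnat (hY _) (hY X), hnat (hY _) (hY X)]
      simp only [← ConcreteCategory.comp_apply, ← Functor.map_comp, Category.assoc, pullback.condition,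
        sub_self]
    have hex : ∀ X, ∃ φ : (F.obj.obj X : Type w) →+ G.obj.obj X, ∀ b,
        φ ((F.obj.map (π X)).hom b) = (G.obj.map (π X)).hom (α' (Y X) (hY X) b) := by
      intro X
      choose s hs using (F.property (π X) (hπ X)).1
      have key : ∀ b b', (F.obj.map (π X)).hom b = (F.obj.map (π X)).hom b' →
          (G.obj.map (π X)).hom (α' (Y X) (hY X) b) = (G.obj.map (π X)).hom (α' (Y X) (hY X) b') := by
        intro b b' h
        rw [← sub_eq_zero, ← map_sub, ← map_sub]
        exact hker X _ (by rw [map_sub, h, sub_self])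
      refine ⟨AddMonoidHom.mk' (fun a => (G.obj.map (π X)).hom (α' (Y X) (hY X) (s a))) ?_, ?_⟩
      · intro a b
        simp only [← map_add]
        exact key _ _ (by rw [hs, map_add, hs, hs])
      · intro b
        exact key _ _ (hs _)
    choose φ hφ using hex
    have hφnat : ∀ {X X' : C} (f : X ⟶ X') (a : F.obj.obj X),
        φ X' ((F.obj.map f).hom a) = (G.obj.map f).hom (φ X a) := by
      intro X X' f a
      obtain ⟨b, rfl⟩ := (F.property (π X) (hπ X)).1 a
      have hQ : W (π (pullback (π X ≫ f) (π X')) ≫ pullback.fst (π X ≫ f) (π X')) :=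
        MorphismProperty.comp_mem W _ _ (hπ _) (MorphismProperty.pullback_fst _ _ (hπ X'))
      obtain ⟨q, rfl⟩ := (F.property _ hQ).1 b
      rw [hφ X, hnat (hY _) (hY X)]
      have e : (F.obj.map f).hom ((F.obj.map (π X)).hom
          ((F.obj.map (π (pullback (π X ≫ f) (π X')) ≫ pullback.fst (π X ≫ f) (π X'))).hom q)) =
          (F.obj.map (π X')).hom
          ((F.obj.map (π (pullback (π X ≫ f) (π X')) ≫ pullback.snd (π X ≫ f) (π X'))).hom q) := by
        simp only [← ConcreteCategory.comp_apply, ← Functor.map_comp, Category.assoc, pullback.condition]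
      rw [e, hφ X', hnat (hY _) (hY X')]
      simp only [← ConcreteCategory.comp_apply, ← Functor.map_comp, Category.assoc, pullback.condition]
    refine ⟨ObjectProperty.homMk { app := fun X => AddCommGrpCat.ofHom (φ X), naturality := ?_ }, ?_⟩
    · intro X X' f
      ext a
      exact hφnat f a
    · ext X a
      change φ X.obj a = α' X.obj X.property a
      obtain ⟨b, rfl⟩ := (F.property (π X.obj) (hπ X.obj)).1 a
      rw [hφ, hnat (hY _) X.property]
  · refine ⟨fun {F G} α β h => ?_⟩
    ext X a
    obtain ⟨Y, π, hπ, hY⟩ := hD X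
    obtain ⟨b, rfl⟩ := (F.property π hπ).1 a
    have h' : α.hom.app Y = β.hom.app Y := congrArg (fun t => t.app ⟨Y, hY⟩) h
    have e1 := congrArg (fun t => t.hom b) (α.hom.naturality π)
    have e2 := congrArg (fun t => t.hom b) (β.hom.naturality π)
    simp only [AddCommGrpCat.hom_comp, AddMonoidHom.comp_apply] at e1 e2
    rw [e1, e2, h']

end Groth.Agent.S18884
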