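import Groth.Statements.S18886
import Groth.Agent.RDPChain13.CodimTwo
-- import your own Groth.Agent.* helpers here

set_option autoImplicit false
universe u
open CategoryTheory AlgebraicGeometry
open Resolve

namespace Groth.Agent.S18886

/-- Let X be a Noetherian separated scheme which is normal (every local ring is an integrally closed
domain) and quasi-excellent (every affine open has a quasi-excellent coordinate ring: a Noetherian
G-ring with the J-2 property). Then there is a quasi-coherent ideal sheaf 𝓘 on X, with support
contained in the closure of the set of singular points of codimension 2 (points whose local ring is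
not regular and has Krull dimension 2), such that for every blowing up b : X' ⟶ X of X in 𝓘 (in the
sense of the universal property), b restricts to an isomorphism over every open subset of X all of
whose points have regular local rings, and the local ring of X' at x' is regular whenever the local
ring of X at b x' has Krull dimension at most 2. So for normal X the desingularisation up to
codimension two may be taken to be a single blow-up along a closed subscheme of codimension two. -/
theorem result {X : Scheme.{u}}
    [IsNoetherian X] [X.IsSeparated]
    (hnor : ∀ x : X, IsDomain (X.presheaf.stalk x) ∧ IsIntegrallyClosed (X.presheaf.stalk x))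
    (hqe : ∀ U : X.affineOpens, EGA4.IsQuasiExcellent Γ(X, U)) :
    ∃ 𝓘 : X.IdealSheafData,
      (𝓘.support : Set X) ⊆ closure {x : X | ¬ IsRegularLocalRing (X.presheaf.stalk x) ∧
        ringKrullDim (X.presheaf.stalk x) = 2} ∧
      ∀ (X' : Scheme.{u}) (b : X' ⟶ X), BlowUp.IsBlowUp b 𝓘 →
        (∀ U : X.Opens, (∀ x : X, x ∈ U → IsRegularLocalRing (X.presheaf.stalk x)) → IsIso (b ∣_ U)) ∧
        ∀ x' : X', ringKrullDim (X.presheaf.stalk (b.base x')) ≤ 2 →
          IsRegularLocalRing (X'.presheaf.stalk x') := by
  obtain ⟨I, hsupp, hU, hreg⟩ := RDPChain13.exists_center_regular_over_codim_two hnor fun y => by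
    obtain ⟨V, hV, hyV, -⟩ := exists_isAffineOpen_mem_and_subset (x := y) (U := (⊤ : X.Opens)) trivial
    exact ⟨V, hV, hyV, hqe ⟨V, hV⟩⟩
  refine ⟨I, hsupp, fun X' b hb => ⟨fun U hUreg => ?_, hreg X' b hb⟩⟩
  haveI := SDiv28.isIso_off_center hb
  exact RDPChain13.isIso_restrict_of_le b (hU U hUreg)

end Groth.Agent.S18886
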