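import Groth.Statements.S18887
import Mathlib

set_option autoImplicit false
universe u v
open DblCov

namespace Groth.Agent.S18887


/-- Let A be a commutative ring in which 2 is invertible and B a commutative A-algebra which is free of
rank 2 as an A-module and whose trace form tr : B → A has kernel free of rank 1 over A. Then σ(b) =
tr(b) − b defines an A-algebra endomorphism σ of B with σ ≠ id and σ ∘ σ = id, and the elements
fixed by σ are exactly the image of A in B. -/
theorem result {A : Type u} {B : Type v} [CommRing A] [CommRing B]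
    [Algebra A B] (h2 : IsUnit (2 : A)) [Module.Free A B] [Module.Finite A B]
    (hrk : Module.finrank A B = 2)
    [Module.Free A (LinearMap.ker (Algebra.trace A B))]
    (hker : Module.finrank A (LinearMap.ker (Algebra.trace A B)) = 1) :
    ∃ σ : B →ₐ[A] B, (∀ b : B, σ b = algebraMap A B (Algebra.trace A B b) - b) ∧
      σ ≠ AlgHom.id A B ∧ σ.comp σ = AlgHom.id A B ∧
      ∀ b : B, σ b = b ↔ b ∈ Set.range (algebraMap A B) := by
  obtain _ | _ := subsingleton_or_nontrivial A
  · rw [Module.finrank_subsingleton] at hrk; omega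
  set tr := Algebra.trace A B
  obtain ⟨h, hh⟩ := h2.exists_left_inv
  have hh2 : h * 2 = 1 := hh
  have tr1 : ∀ a : A, tr (algebraMap A B a) = 2 * a := fun a => by
    rw [Algebra.trace_algebraMap, hrk, nsmul_eq_mul]; norm_num
  have : Module.Finite A (LinearMap.ker tr) := Module.finite_of_finrank_eq_succ hker
  obtain ⟨e⟩ : Nonempty (LinearMap.ker tr ≃ₗ[A] A) := ⟨LinearEquiv.ofFinrankEq _ _ (by rw [hker, Module.finrank_self])⟩
  set z : B := (e.symm 1 : LinearMap.ker tr).1 with hzdef
  have hz : tr z = 0 := (e.symm 1).2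
  have hgen : ∀ w, tr w = 0 → ∃ c : A, w = c • z := fun w hw => ⟨e ⟨w, hw⟩, by
    have := congrArg Subtype.val (e.symm_apply_apply ⟨w, hw⟩)
    rw [← mul_one (e ⟨w, hw⟩), ← smul_eq_mul, map_smul] at this
    simpa [hzdef] using this.symm⟩
  have hdec : ∀ b, ∃ c : A, b = algebraMap A B (h * tr b) + c • z := fun b => by
    obtain ⟨c, hc⟩ := hgen (b - algebraMap A B (h * tr b)) (by
      rw [map_sub, tr1, ← mul_assoc, mul_comm 2 h, hh2, one_mul, sub_self])
    exact ⟨c, by rw [← hc]; abel⟩
  obtain ⟨w, hw⟩ : ∃ w : A, z * z = algebraMap A B w := by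
    have := hdec (z*z)
    obtain ⟨c, hc⟩ := this
    -- Cayley-Hamilton
    have CH := (LinearMap.aeval_self_charpoly (Algebra.lmul A B z))
    replace CH : Polynomial.aeval z (Algebra.lmul A B z).charpoly = 0 :=
      Algebra.lmul_injective (R := A) (A := B) ((Polynomial.aeval_algHom_apply (Algebra.lmul A B) z _).symm.trans (CH.trans (map_zero _).symm))
    have hd : (Algebra.lmul A B z).charpoly.natDegree = 2 := by rw [LinearMap.charpoly_natDegree, hrk]
    have hm := LinearMap.charpoly_monic (Algebra.lmul A B z)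
    rw [Polynomial.aeval_eq_sum_range, hd] at CH
    have h1 : (Algebra.lmul A B z).charpoly.coeff 1 = 0 := by
      set b := Module.Free.chooseBasis A B
      have hcard : Fintype.card (Module.Free.ChooseBasisIndex A B) = 2 := by
        rw [← Module.finrank_eq_card_chooseBasisIndex, hrk]
      have : Nonempty (Module.Free.ChooseBasisIndex A B) := Fintype.card_pos_iff.1 (by omega)
      have := Matrix.trace_eq_neg_charpoly_coeff (LinearMap.toMatrix b b (Algebra.lmul A B z))
      rw [LinearMap.charpoly_toMatrix, hcard] at this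
      have ht : tr z = (LinearMap.toMatrix b b (Algebra.lmul A B z)).trace := by
        rw [← LinearMap.trace_eq_matrix_trace A b]; rfl
      rw [← ht, hz] at this
      exact neg_eq_zero.1 this.symm
    have h22 : (Algebra.lmul A B z).charpoly.coeff 2 = 1 := by rw [← hd]; exact hm
    simp only [Finset.sum_range_succ, Finset.sum_range_zero, zero_add, h1, h22, zero_smul, one_smul, add_zero, pow_zero] at CH
    refine ⟨-(Algebra.lmul A B z).charpoly.coeff 0, ?_⟩
    rw [← sq, map_neg, eq_neg_iff_add_eq_zero, add_comm, Algebra.algebraMap_eq_smul_one]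
    exact CH
  let σ : B →ₗ[A] B := (Algebra.linearMap A B).comp tr - LinearMap.id
  have hσ : ∀ b, σ b = algebraMap A B (tr b) - b := fun b => rfl
  have h1 : σ 1 = 1 := by rw [hσ, ← map_one (algebraMap A B), tr1, mul_one, ← map_sub]; norm_num
  have hσa : ∀ a, σ (algebraMap A B a) = algebraMap A B a := fun a => by
    rw [Algebra.algebraMap_eq_smul_one, map_smul, h1]
  have hσz : σ z = -z := by simp [hσ, hz]
  have hmul : ∀ x y, σ (x * y) = σ x * σ y := fun x y => by
    obtain ⟨c, hc⟩ := hdec x
    obtain ⟨d, hd⟩ := hdec y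
    have hl : ∀ (a:A) (c:A), σ (algebraMap A B a + c • z) = algebraMap A B a - c • z := fun a c => by
      rw [map_add, map_smul, hσa, hσz, smul_neg, sub_eq_add_neg]
    have e1 : x * y = algebraMap A B (h * tr x * (h * tr y) + c*d*w) + (h * tr x * d + h * tr y * c) • z := by
      conv_lhs => rw [hc, hd]
      simp only [map_add, map_mul, Algebra.smul_def, ← hw]
      ring
    rw [e1, hl]
    conv_rhs => rw [hc, hd, hl, hl]
    simp only [map_add, map_mul, Algebra.smul_def, ← hw]
    ring
  have hinv : ∀ b, σ (σ b) = b := fun b => by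
    conv_lhs => rw [hσ b, map_sub, hσa, hσ]
    abel
  refine ⟨AlgHom.ofLinearMap σ h1 hmul, hσ, ?_, AlgHom.ext hinv, fun b => ⟨fun hb => ?_, ?_⟩⟩
  · intro hid
    have hzz : σ z = z := DFunLike.congr_fun hid z
    rw [hσz, neg_eq_iff_add_eq_zero] at hzz
    have h3 : ((2:A) • (e.symm 1) : LinearMap.ker tr) = 0 := Subtype.ext (by simpa [two_smul] using hzz)
    rw [← map_smul] at h3
    simp at h3
    exact h2.ne_zero h3
  · obtain ⟨c, hc⟩ := hdec b
    have : (2:A) • (c • z) = 0 := by
      have hb' : σ b = b := hb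
      rw [hc, map_add, map_smul, hσa, hσz] at hb'
      have := add_left_cancel hb'
      rw [smul_neg, neg_eq_iff_add_eq_zero] at this
      rw [two_smul]; exact this
    rw [h2.smul_eq_zero] at this
    exact ⟨h * tr b, (hc.trans (by rw [this, add_zero])).symm⟩
  · rintro ⟨a, rfl⟩
    exact hσa a

end Groth.Agent.S18887
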