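import Groth.Statements.S18888
import Mathlib
import Groth.Prelude

set_option linter.all false

set_option autoImplicit false
universe u v w
open CAlg

open scoped BigOperators

namespace Groth.Agent.S18888

/-- Let A be a unique factorisation domain in which 2 is invertible, with fraction field K, and let L ⊇
K be a quadratic extension field (of degree 2 over K) containing an element y ∉ K whose square is a
squarefree element d of A. Then the integral closure of A in L equals the A-subalgebra A[y]
generated by y. -/
theorem result {A : Type u} {K : Type v} {L : Type w}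
    [CommRing A] [IsDomain A] [UniqueFactorizationMonoid A] [Field K] [Algebra A K] [IsFractionRing A K]
    [Field L] [Algebra K L] [Algebra A L] [IsScalarTower A K L]
    (h2 : IsUnit (2 : A)) (hL : Module.finrank K L = 2)
    (d : A) (hd : Squarefree d) (y : L) (hy : y * y = algebraMap A L d)
    (hyK : y ∉ Set.range (algebraMap K L)) :
    integralClosure A L = Algebra.adjoin A {y} := by
  haveI : FiniteDimensional K L := FiniteDimensional.of_finrank_eq_succ hL
  have hyi : IsIntegral A y := IsIntegral.of_pow two_pos (by rw [pow_two, hy]; exact isIntegral_algebraMap)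
  refine le_antisymm (fun z hz => ?_) (Algebra.adjoin_le (Set.singleton_subset_iff.2 hyi))
  have hli : LinearIndependent K ![(1 : L), y] := by
    rw [LinearIndependent.pair_iff' one_ne_zero]
    intro c hc
    exact hyK ⟨c, by rw [← hc, Algebra.smul_def, mul_one]⟩
  let B : Module.Basis (Fin 2) K L := basisOfLinearIndependentOfCardEqFinrank hli (by simp [hL])
  have hB : ∀ i, B i = ![(1 : L), y] i := fun i => by simp [B]
  obtain ⟨a, b, hzab⟩ : ∃ a b : K, z = algebraMap K L a + b • y :=
    ⟨B.repr z 0, B.repr z 1, by
      conv_lhs => rw [← B.sum_repr z]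
      simp [Fin.sum_univ_two, hB, Algebra.smul_def]⟩
  have htry : Algebra.trace K L y = 0 := by
    rw [Algebra.trace_eq_matrix_trace B, Matrix.trace_fin_two, Algebra.leftMulMatrix_eq_repr_mul, Algebra.leftMulMatrix_eq_repr_mul, hB, hB]
    have e1 : B.repr y = Finsupp.single 1 1 := by rw [← B.repr_self 1, hB]; rfl
    have e2 : B.repr (y * y) = algebraMap A K d • Finsupp.single 0 1 := by
      rw [← B.repr_self 0, ← map_smul, hB, hy, IsScalarTower.algebraMap_apply A K L]
      simp [Algebra.smul_def]
    simp [e1, e2]
  have htr : IsIntegral A (a + a) := by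
    have := Algebra.isIntegral_trace (L := K) (F := L) (show IsIntegral A z from hz)
    rwa [hzab, map_add, map_smul, htry, smul_zero, add_zero, Algebra.trace_algebraMap, hL, two_nsmul] at this
  obtain ⟨a₂, ha₂⟩ := IsIntegrallyClosed.isIntegral_iff.1 htr
  obtain ⟨w, hw⟩ := h2.exists_right_inv
  set a₀ := a₂ * w
  have ha₀ : algebraMap A K a₀ = a := by
    have := congrArg (algebraMap A K) hw
    rw [map_mul, map_one, map_ofNat] at this
    rw [map_mul, ha₂]
    linear_combination a * this
  subst ha₀
  rw [← IsScalarTower.algebraMap_apply] at hzab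
  have hby : IsIntegral A (b • y) := by
    rw [show b • y = z - algebraMap A L a₀ by rw [hzab]; ring]
    exact IsIntegral.sub hz isIntegral_algebraMap
  have hbd : IsIntegral A (b * b * algebraMap A K d) := by
    refine (isIntegral_algebraMap_iff (B := L) (algebraMap K L).injective).1 ?_
    rw [map_mul, map_mul, ← IsScalarTower.algebraMap_apply, ← hy,
      show algebraMap K L b * algebraMap K L b * (y * y) = (b • y) * (b • y) by rw [Algebra.smul_def]; ring]
    exact hby.mul hby
  obtain ⟨c, hc⟩ := IsIntegrallyClosed.isIntegral_iff.1 hbd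
  obtain ⟨p, q, hpq, hb⟩ := IsFractionRing.exists_reduced_fraction (A := A) b
  have hq0 : algebraMap A K q ≠ 0 := IsFractionRing.to_map_ne_zero_of_mem_nonZeroDivisors q.2
  have hbq : b * algebraMap A K q = algebraMap A K p := by rw [← hb, IsLocalization.mk'_spec]
  have he : c * ((q : A) * q) = p * p * d := by
    apply IsFractionRing.injective A K
    rw [map_mul, map_mul, map_mul, map_mul, hc, ← hbq]
    ring
  have hqd : (q : A) * q ∣ d := by
    have hcop : IsRelPrime ((q : A) * q) (p * p) := (hpq.symm.mul_right hpq.symm).mul_left (hpq.symm.mul_right hpq.symm)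
    exact hcop.dvd_of_dvd_mul_left ⟨c, by rw [mul_comm ((q : A) * q), he]⟩
  obtain ⟨q', hq'⟩ := (hd q hqd).exists_right_inv
  have hb' : b = algebraMap A K (p * q') := by
    rw [map_mul, ← hbq, mul_assoc, ← map_mul, hq', map_one, mul_one]
  rw [hzab, hb', algebraMap_smul, Algebra.smul_def]
  exact add_mem (Subalgebra.algebraMap_mem _ _) (mul_mem (Subalgebra.algebraMap_mem _ _) (Algebra.subset_adjoin rfl))

end Groth.Agent.S18888
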