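import Groth.Statements.S18889
import Mathlib.Data.Nat.Prime.Int
import Mathlib.Order.CompletePartialOrder
import Mathlib.RingTheory.Finiteness.ModuleFinitePresentation
import Mathlib.RingTheory.Invariant.Basic
import Mathlib.RingTheory.PicardGroup
import Mathlib.RingTheory.RegularLocalRing.Defs
import Mathlib.RingTheory.TotallySplit
import Mathlib.RingTheory.Trace.Basic
import Mathlib.Tactic

set_option linter.all false

set_option autoImplicit false
universe u v w
open CAlg

open scoped TensorProduct

namespace Groth.Agent.S18889

/-- Let R be a commutative ring, A a commutative R-algebra of finite presentation, and G a finite group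
acting on A by R-algebra automorphisms such that the order of G is invertible in R. Then the ring of
invariants A^G is an R-algebra of finite presentation. (The source takes G to be a group of
automorphisms of A; here G acts through a possibly non-faithful action, which changes nothing since
the invariants and the invertibility of the order only depend on the image of G.) -/
theorem result {R : Type u} {A : Type v} [CommRing R] [CommRing A]
    [Algebra R A] [Algebra.FinitePresentation R A]
    {G : Type w} [Group G] [Finite G] [MulSemiringAction G A] [SMulCommClass G R A]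
    (hG : IsUnit ((Nat.card G : ℕ) : R)) :
    Algebra.FinitePresentation R (FixedPoints.subalgebra R A G) := by
  classical
  cases nonempty_fintype G
  set B := FixedPoints.subalgebra R A G
  haveI : SMulCommClass G B A := ⟨fun g b a => by
    show g • ((b : A) * a) = (b : A) * g • a
    rw [smul_mul', b.2 g]⟩
  haveI : Algebra.IsInvariant B A G := ⟨fun a ha => ⟨⟨a, ha⟩, rfl⟩⟩
  haveI : Algebra.IsIntegral B A := Algebra.IsInvariant.isIntegral B A G
  obtain ⟨gens, hgens⟩ := (inferInstance : Algebra.FiniteType R A).out
  choose q hqm hq0 using fun a : A => Algebra.IsIntegral.isIntegral (R := B) a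
  let c : Finset B := gens.biUnion fun a => (Finset.range ((q a).natDegree + 1)).image (q a).coeff
  let S := MvPolynomial (↥c) R
  let φ : S →ₐ[R] B := MvPolynomial.aeval fun x => (x : B)
  letI : Algebra S B := φ.toRingHom.toAlgebra
  letI : Algebra S A := ((algebraMap B A).comp φ.toRingHom).toAlgebra
  haveI : IsScalarTower S B A := IsScalarTower.of_algebraMap_eq fun _ => rfl
  haveI : IsScalarTower R S B := IsScalarTower.of_algebraMap_eq fun r => (φ.commutes r).symm
  haveI : IsScalarTower R S A := IsScalarTower.of_algebraMap_eq fun r => by
    show algebraMap R A r = algebraMap B A (φ (algebraMap R S r))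
    rw [φ.commutes]; rfl
  haveI : Algebra.FiniteType S A := Algebra.FiniteType.of_restrictScalars_finiteType R S A
  haveI : Algebra.IsIntegral S A := by
    refine Algebra.IsIntegral.mk fun a => ?_
    have ha : a ∈ Algebra.adjoin R (gens : Set A) := hgens ▸ Algebra.mem_top
    suffices Algebra.adjoin R (gens : Set A) ≤ (integralClosure S A).restrictScalars R from this ha
    refine Algebra.adjoin_le fun g hg => ?_
    have hl : q g ∈ Polynomial.lifts (algebraMap S B) := by
      rw [Polynomial.lifts_iff_coeff_lifts]
      intro i
      by_cases hi : i ≤ (q g).natDegree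
      · exact ⟨MvPolynomial.X ⟨(q g).coeff i, Finset.mem_biUnion.mpr ⟨g, hg, Finset.mem_image.mpr ⟨i, Finset.mem_range.mpr (by omega), rfl⟩⟩⟩,
          MvPolynomial.aeval_X _ _⟩
      · exact ⟨0, by rw [map_zero, Polynomial.coeff_eq_zero_of_natDegree_lt (by omega)]⟩
    obtain ⟨p, hp1, -, hp2⟩ := Polynomial.lifts_and_natDegree_eq_and_monic hl (hqm g)
    refine ⟨p, hp2, ?_⟩
    have h := hq0 g
    rw [← hp1, Polynomial.eval₂_map, ← IsScalarTower.algebraMap_eq] at h
    exact h
  haveI : Module.Finite S A := Algebra.IsIntegral.finite
  haveI : Algebra.FinitePresentation S A := Algebra.FinitePresentation.of_restrict_scalars_finitePresentation R S A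
  haveI : Module.FinitePresentation S A := Module.FinitePresentation.of_finite_of_finitePresentation S A
  let u := hG.unit
  let ρ : A →ₗ[S] B :=
    { toFun := fun a => ⟨(↑u⁻¹ : R) • ∑ g : G, g • a, fun h => by
        rw [smul_comm, Finset.smul_sum]
        congr 1
        exact Fintype.sum_equiv (Equiv.mulLeft h) _ _ fun g => (mul_smul h g a).symm⟩
      map_add' := fun a b => Subtype.ext (by simp [smul_add, Finset.sum_add_distrib])
      map_smul' := fun s a => Subtype.ext (by
        show (↑u⁻¹ : R) • ∑ g : G, g • ((φ s : A) * a) = (φ s : A) * ((↑u⁻¹ : R) • ∑ g : G, g • a)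
        rw [mul_smul_comm, Finset.mul_sum]
        congr 1
        exact Finset.sum_congr rfl fun g _ => by rw [smul_mul', (φ s).2 g]) }
  have hρ : ∀ b : B, ρ (b : A) = b := fun b => Subtype.ext (by
    show (↑u⁻¹ : R) • ∑ g : G, g • (b : A) = b
    rw [Finset.sum_congr rfl fun g _ => b.2 g, Finset.sum_const, Finset.card_univ, ← Nat.cast_smul_eq_nsmul R, smul_smul,
      ← Nat.card_eq_fintype_card, show ((Nat.card G : ℕ) : R) = (u : R) from hG.unit_spec.symm, u.inv_mul, one_smul])
  haveI : Module.FinitePresentation S B := by
    refine Module.finitePresentation_of_surjective ρ (fun b => ⟨b, hρ b⟩) ?_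
    let ι : B →ₗ[S] A := (IsScalarTower.toAlgHom S B A).toLinearMap
    have hι : ∀ b : B, ι b = (b : A) := fun b => rfl
    have : LinearMap.ker ρ = LinearMap.range (LinearMap.id - ι ∘ₗ ρ) := by
      ext a
      constructor
      · intro ha; exact ⟨a, by simp [LinearMap.mem_ker.mp ha]⟩
      · rintro ⟨x, rfl⟩; simp [hι, hρ]
    rw [this, LinearMap.range_eq_map]
    exact (Module.Finite.fg_top).map _
  haveI : Algebra.FinitePresentation S B := Algebra.FinitePresentation.of_finitePresentation S B
  exact Algebra.FinitePresentation.trans R S B

end Groth.Agent.S18889
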