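import Groth.Statements.S18890
import Mathlib
import Groth.Prelude

set_option linter.all false

set_option autoImplicit false
universe u v w w'
open CAlg

open TensorProduct

namespace Groth.Agent.S18890

/-- Let R be a commutative ring, G a finite group whose order is invertible in R, M an R-module with an
R-linear action ρ of G and N an arbitrary R-module. Then the natural map M^G ⊗_R N → M ⊗_R N induced
by the inclusion of the invariants is injective, and its image is the submodule of invariants of M
⊗_R N under the action ρ ⊗ 1 (G acting on the first factor). (The source lets G be a group of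
R-automorphisms of M; a possibly non-faithful linear action changes nothing.) -/
theorem result {R : Type u} [CommRing R]
    {G : Type v} [Group G] [Finite G] (hG : IsUnit ((Nat.card G : ℕ) : R))
    {M : Type w} {N : Type w'} [AddCommGroup M] [Module R M] [AddCommGroup N] [Module R N]
    (ρ : Representation R G M) :
    Function.Injective (LinearMap.rTensor N ρ.invariants.subtype) ∧
      LinearMap.range (LinearMap.rTensor N ρ.invariants.subtype) =
        (ρ.tprod (Representation.trivial R G N)).invariants := by
  classical
  haveI := Fintype.ofFinite G
  haveI : Invertible (Fintype.card G : R) := (Nat.card_eq_fintype_card (α := G) ▸ hG).invertible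
  let P : M →ₗ[R] ρ.invariants := LinearMap.codRestrict _ ρ.averageMap (fun m => ρ.averageMap_invariant m)
  have hP : P ∘ₗ ρ.invariants.subtype = LinearMap.id := LinearMap.ext fun m => Subtype.ext (ρ.averageMap_id m.1 m.2)
  constructor
  · refine Function.LeftInverse.injective (g := LinearMap.rTensor N P) fun z => ?_
    rw [← LinearMap.rTensor_comp_apply, hP, LinearMap.rTensor_id, LinearMap.id_apply]
  · have hcomp : ∀ g, (ρ.tprod (Representation.trivial R G N)) g = LinearMap.rTensor N (ρ g) := fun g => by
      apply TensorProduct.ext'
      intro m n; simp [Representation.tprod_apply]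
    apply le_antisymm
    · rintro _ ⟨z, rfl⟩ g
      rw [hcomp, ← LinearMap.rTensor_comp_apply, show ρ g ∘ₗ ρ.invariants.subtype = ρ.invariants.subtype from
        LinearMap.ext fun m => m.2 g]
    · intro z hz
      refine ⟨LinearMap.rTensor N P z, ?_⟩
      rw [← LinearMap.rTensor_comp_apply]
      have e : ρ.invariants.subtype ∘ₗ P = ⅟(Fintype.card G : R) • ∑ g : G, ρ g := by
        apply LinearMap.ext; intro m
        show ρ.averageMap m = _
        simp [Representation.averageMap, GroupAlgebra.average, map_sum]
      have hz' : ∀ g, LinearMap.rTensor N (ρ g) z = z := fun g => by rw [← hcomp]; exact hz g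
      rw [e, LinearMap.rTensor_smul, LinearMap.smul_apply, show LinearMap.rTensor N (∑ g : G, ρ g) = ∑ g : G, LinearMap.rTensor N (ρ g) from
        map_sum (LinearMap.rTensorHom N) _ _, LinearMap.sum_apply, Finset.sum_congr rfl (fun g _ => hz' g), Finset.sum_const,
        Finset.card_univ, ← Nat.cast_smul_eq_nsmul R, smul_smul, invOf_mul_self, one_smul]

end Groth.Agent.S18890
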