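import Groth.Statements.S18898
import Groth.Agent.CurveModel24.Main
-- import your own Groth.Agent.* helpers here

set_option autoImplicit false
universe u
open CategoryTheory CategoryTheory.Limits AlgebraicGeometry
open Curves

set_option backward.isDefEq.respectTransparency.types false
namespace Groth.Agent.S18898

/-- Take an affine base S and a smooth genus-g curve f : X → S over it (proper and smooth, with
geometrically connected fibres of dimension one and genus g). Then there exist an affine scheme S₀
whose ring of global sections is of finite type over ℤ (in particular S₀ is Noetherian), a morphism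
u : S → S₀ which is injective on global sections (so that S₀ is the spectrum of a subring of
O_S(S)), and a smooth curve of genus g, f₀ : X₀ → S₀, together with a cartesian square making f the
base change of f₀ along u. -/
theorem result {X S : Scheme.{u}} (f : X ⟶ S) [IsAffine S]
    [IsProper f] [Smooth f] [GeometricallyConnected f]
    (hdim : ∀ s : S, topologicalKrullDim ↥(f.fiber s) = 1) (g : ℕ)
    (hgen : ∀ s : S, letI : (f.fiber s).Over (Spec (S.residueField s)) := ⟨f.fiberToSpecResidueField s⟩
      Curv2.genus (S.residueField s) (f.fiber s) = g) :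
    ∃ (S₀ X₀ : Scheme.{u}) (f₀ : X₀ ⟶ S₀) (u : S ⟶ S₀) (v : X ⟶ X₀),
      IsAffine S₀ ∧ Algebra.FiniteType ℤ Γ(S₀, ⊤) ∧ Function.Injective (u.appTop).hom ∧
      IsPullback v f f₀ u ∧ IsProper f₀ ∧ Smooth f₀ ∧ GeometricallyConnected f₀ ∧
      (∀ s : S₀, topologicalKrullDim ↥(f₀.fiber s) = 1) ∧
      ∀ s : S₀, letI : (f₀.fiber s).Over (Spec (S₀.residueField s)) := ⟨f₀.fiberToSpecResidueField s⟩
        Curv2.genus (S₀.residueField s) (f₀.fiber s) = g := by
  let f' := f ≫ S.isoSpec.hom
  have hsq : IsPullback (𝟙 X) f f' S.isoSpec.hom := IsPullback.of_horiz_isIso ⟨by simp [f']⟩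
  haveI : IsProper f' := inferInstance
  haveI : Smooth f' := inferInstance
  have hf : ∀ s, Groth.Agent.CurveModel24.IsGenusFibre f g s := fun s =>
    ⟨hdim s, (Groth.Agent.FlatMorGeomIrr.geometricallyConnected_iff_count f s).1
      ((GeometricallyConnected.iff_geometricallyConnected_fiber f).1 ‹_› s),
      (Groth.Agent.CurveModel24.fiberRank_eq_genus f s).trans (hgen s)⟩
  have hf' : ∀ p, Groth.Agent.CurveModel24.IsGenusFibre f' g p := fun p => by
    have h := (Groth.Agent.CurveModel24.isGenusFibre_iff_of_isPullback f' hsq g (S.isoSpec.inv p)).1 (hf _)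
    rwa [← Scheme.Hom.comp_apply, Iso.inv_hom_id] at h
  obtain ⟨A, X₀, f₀, v, hA, hp, hs, hfib, sq⟩ := Groth.Agent.CurveModel24.exists_model_curve f' g hf'
  let a := Spec.map (CommRingCat.ofHom A.val.toRingHom)
  have sq' : IsPullback (𝟙 X ≫ v) f f₀ (S.isoSpec.hom ≫ a) := hsq.paste_horiz sq
  refine ⟨Spec (CommRingCat.of A), X₀, f₀, S.isoSpec.hom ≫ a, 𝟙 X ≫ v, inferInstance, ?_, ?_, sq', hp, hs, ?_,
    fun s => (hfib s).1, fun s => ?_⟩
  · have h := (RingHom.finiteType_algebraMap.2 hA).comp_surjective
      (g := (Scheme.ΓSpecIso (CommRingCat.of A)).inv.hom)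
      (ConcreteCategory.bijective_of_isIso (Scheme.ΓSpecIso (CommRingCat.of A)).inv).2
    rw [RingHom.ext_int ((Scheme.ΓSpecIso (CommRingCat.of A)).inv.hom.comp (algebraMap ℤ A))
      (algebraMap ℤ _)] at h
    exact RingHom.finiteType_algebraMap.1 h
  · have hnat : (Scheme.ΓSpecIso (CommRingCat.of A)).inv ≫ a.appTop =
        CommRingCat.ofHom A.val.toRingHom ≫ (Scheme.ΓSpecIso (CommRingCat.of Γ(S, ⊤))).inv :=
      (Scheme.ΓSpecIso_inv_naturality _).symm
    have hat : a.appTop = (Scheme.ΓSpecIso (CommRingCat.of A)).hom ≫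
        CommRingCat.ofHom A.val.toRingHom ≫ (Scheme.ΓSpecIso (CommRingCat.of Γ(S, ⊤))).inv := by
      rw [← hnat, Iso.hom_inv_id_assoc]
    have hinj : Function.Injective a.appTop.hom := by
      rw [hat]
      exact (ConcreteCategory.bijective_of_isIso (Scheme.ΓSpecIso (CommRingCat.of Γ(S, ⊤))).inv).1.comp
        (Subtype.val_injective.comp (ConcreteCategory.bijective_of_isIso (Scheme.ΓSpecIso (CommRingCat.of A)).hom).1)
    haveI : IsIso S.isoSpec.hom.appTop := inferInstanceAs (IsIso (Scheme.Γ.map S.isoSpec.hom.op))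
    rw [Scheme.Hom.comp_appTop]
    exact (ConcreteCategory.bijective_of_isIso S.isoSpec.hom.appTop).1.comp hinj
  · haveI := hp
    exact (GeometricallyConnected.iff_geometricallyConnected_fiber f₀).2 fun s =>
      (Groth.Agent.FlatMorGeomIrr.geometricallyConnected_iff_count f₀ s).2 (hfib s).2.1
  · haveI := hp
    exact (Groth.Agent.CurveModel24.fiberRank_eq_genus f₀ s).symm.trans (hfib s).2.2

end Groth.Agent.S18898
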