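import Groth.Statements.S18899
import Mathlib.RingTheory.Derivation.Basic
import Mathlib.RingTheory.Flat.Equalizer
import Mathlib.RingTheory.Henselian
import Mathlib.RingTheory.Regular.RegularSequence
import Mathlib.RingTheory.RegularLocalRing.Defs
import Mathlib.RingTheory.SimpleRing.Principal
import Mathlib.RingTheory.Flat.FaithfullyFlat.Algebra
import Mathlib.RingTheory.Ideal.AssociatedPrime.Basic
import Mathlib.RingTheory.HopkinsLevitzki
import Mathlib.RingTheory.Support
import Mathlib.Tactic
import Groth.Agent.CommAlg4.Basic

set_option linter.all false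

set_option autoImplicit false
universe u v w
open CAlg

open Groth.Agent.CommAlg4

namespace Groth.Agent.S18899

/-- Let A be a commutative ring on which a finite group G acts by ring automorphisms, with ring of
invariants A^G, and let K be a field. If two ring homomorphisms f₁, f₂ : A → K have the same
restriction to A^G, then f₂ = f₁ ∘ γ for some γ ∈ G. -/
theorem result {A : Type u} [CommRing A] {G : Type v} [Group G] [Finite G]
    [MulSemiringAction G A] {K : Type w} [Field K] (f₁ f₂ : A →+* K)
    (h : ∀ a : A, (∀ g : G, g • a = a) → f₁ a = f₂ a) :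
    ∃ γ : G, ∀ a : A, f₂ a = f₁ (γ • a) := by
  classical
  cases nonempty_fintype G
  by_contra hne
  push Not at hne
  choose a ha using hne
  let e := Fintype.equivFin G
  let q : Polynomial A := ∑ g : G, Polynomial.monomial (e g).val (a g)
  have hq : ∀ g : G, q.coeff (e g).val = a g := by
    intro g
    simp only [q, Polynomial.finsetSum_coeff, Polynomial.coeff_monomial]
    simp [Fin.val_inj]
  let c : G → Polynomial A →+* Polynomial A := fun g => Polynomial.mapRingHom (MulSemiringAction.toRingHom G A g)
  let P : Polynomial (Polynomial A) := ∏ g : G, (Polynomial.X - Polynomial.C (c g q))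
  have hinv : ∀ i : ℕ, ∀ g : G, c g (P.coeff i) = P.coeff i := by
    intro i g
    rw [← Polynomial.coeff_map]
    congr 1
    simp only [P, Polynomial.map_prod, Polynomial.map_sub, Polynomial.map_X, Polynomial.map_C]
    refine Fintype.prod_equiv (Equiv.mulLeft g) _ _ fun x => ?_
    congr 2
    ext j
    simp [c, mul_smul]
  have heq : P.map (Polynomial.mapRingHom f₁) = P.map (Polynomial.mapRingHom f₂) := by
    ext i j
    simp only [Polynomial.coeff_map, Polynomial.coe_mapRingHom]
    exact h _ fun g => by simpa [c] using congrArg (fun r => Polynomial.coeff r j) (hinv i g)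
  have h2 : (P.map (Polynomial.mapRingHom f₂)).eval (q.map f₂) = 0 := by
    rw [← Polynomial.coe_mapRingHom f₂, Polynomial.eval_map_apply]
    have : P.eval q = 0 := by
      rw [show P = ∏ g : G, (Polynomial.X - Polynomial.C (c g q)) from rfl, Polynomial.eval_prod]
      exact Finset.prod_eq_zero (Finset.mem_univ 1) (by simp [c, Polynomial.ext_iff])
    rw [this, map_zero]
  rw [← heq] at h2
  simp only [P, Polynomial.map_prod, Polynomial.map_sub, Polynomial.map_X, Polynomial.map_C,
    Polynomial.eval_prod, Finset.prod_eq_zero_iff, Finset.mem_univ, true_and] at h2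
  obtain ⟨g, hg⟩ := h2
  simp only [Polynomial.eval_sub, Polynomial.eval_X, Polynomial.eval_C, sub_eq_zero] at hg
  have := congrArg (fun r => Polynomial.coeff r (e g).val) hg
  simp [c, hq] at this
  exact ha g this

end Groth.Agent.S18899
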