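import Groth.Statements.S1890
import Mathlib.AlgebraicGeometry.Morphisms.ClosedImmersion
import Mathlib.AlgebraicGeometry.Morphisms.Immersion

set_option autoImplicit false
universe u
open CategoryTheory CategoryTheory.Limits AlgebraicGeometry
open Grpd

namespace Groth.Agent.S1890

/-- Take a quasi-compact immersion j : V → Spec A and an element f ∈ A such that j⁻¹(D(f)) is affine and
j(V) ∩ V(f) is closed in Spec A. Then V is affine. -/
theorem result (A : Type u) [CommRing A] (V : Scheme.{u}) (j : V ⟶ Spec (CommRingCat.of A)) [IsImmersion j] [QuasiCompact j] (f : A) (haff : IsAffineOpen (j ⁻¹ᵁ PrimeSpectrum.basicOpen f)) (hcl : IsClosed (Set.range ⇑j ∩ PrimeSpectrum.zeroLocus {f})) : IsAffine V := by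
  have hB : IsClosed ((coborder (Set.range j))ᶜ) :=
    (IsImmersion.isLocallyClosed_range).isOpen_coborder.isClosed_compl
  obtain ⟨a, ha⟩ := (PrimeSpectrum.isClosed_iff_zeroLocus_ideal _).1 hB
  obtain ⟨b, hb⟩ := (PrimeSpectrum.isClosed_iff_zeroLocus_ideal _).1 hcl
  have hab : a ⊔ b = ⊤ := by
    rw [← PrimeSpectrum.zeroLocus_empty_iff_eq_top, PrimeSpectrum.zeroLocus_sup, ← ha, ← hb]
    refine Set.eq_empty_iff_forall_notMem.2 fun y hy => hy.1 ?_
    exact subset_coborder hy.2.1
  obtain ⟨g, hg, h, hh, hgh⟩ := Submodule.mem_sup.1 ((Ideal.eq_top_iff_one _).1 hab)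
  haveI : IsAffineHom j := by
    refine isAffineHom_of_forall_exists_isAffineOpen j fun y => ?_
    by_cases hy : g ∈ y.asIdeal
    · -- away from the closed piece
      have hy' : h ∉ y.asIdeal := fun hh' => y.isPrime.ne_top ((Ideal.eq_top_iff_one _).2 (hgh ▸ add_mem hy hh'))
      refine ⟨PrimeSpectrum.basicOpen h, hy', IsAffineOpen.Spec_basicOpen h, ?_⟩
      have hle : j ⁻¹ᵁ PrimeSpectrum.basicOpen h ≤ j ⁻¹ᵁ PrimeSpectrum.basicOpen f := fun v hv hfv => hv (by
        have : j v ∈ PrimeSpectrum.zeroLocus (b : Set A) := hb ▸ ⟨⟨v, rfl⟩, Set.singleton_subset_iff.2 hfv⟩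
        exact this hh)
      let s : Γ(Spec (CommRingCat.of A), ⊤) := (Scheme.ΓSpecIso (CommRingCat.of A)).inv h
      have hs : j ⁻¹ᵁ PrimeSpectrum.basicOpen h = V.basicOpen (j.appTop s) :=
        (congrArg (j ⁻¹ᵁ ·) (basicOpen_eq_of_affine h).symm).trans (Scheme.preimage_basicOpen _ _)
      have e : j ⁻¹ᵁ PrimeSpectrum.basicOpen h =
          V.basicOpen (V.presheaf.map (homOfLE (le_top (a := j ⁻¹ᵁ PrimeSpectrum.basicOpen f))).op (j.appTop s)) := by
        rw [Scheme.basicOpen_res, ← hs, inf_eq_right.2 hle]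
      rw [e]
      exact haff.basicOpen _
    · let U : (Spec (CommRingCat.of A)).Opens := PrimeSpectrum.basicOpen g
      refine ⟨U, hy, IsAffineOpen.Spec_basicOpen g, ?_⟩
      have hsub : Set.range (j ∣_ U) = Subtype.val ⁻¹' (closure (Set.range j)) := by
        refine Set.ext fun z => ⟨?_, ?_⟩
        · rintro ⟨v, rfl⟩
          show ((j ∣_ U) v).1 ∈ closure (Set.range j)
          rw [morphismRestrict_base_coe]
          exact subset_closure ⟨v.1, rfl⟩
        · intro hz
          have hz' : z.1 ∈ coborder (Set.range j) := by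
            by_contra hc
            have : z.1 ∈ PrimeSpectrum.zeroLocus (a : Set A) := ha ▸ hc
            exact z.2 (this hg)
          rw [coborder_eq_union_closure_compl] at hz'
          obtain ⟨v, hv⟩ := hz'.resolve_right (fun h => h hz)
          exact ⟨⟨v, show j v ∈ _ from hv ▸ z.2⟩, Subtype.ext ((morphismRestrict_base_coe j _ _).trans hv)⟩
      haveI : IsPreimmersion (j ∣_ U) := IsZariskiLocalAtTarget.restrict (P := @IsPreimmersion) inferInstance U
      haveI : IsClosedImmersion (j ∣_ U) :=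
        IsClosedImmersion.of_isPreimmersion _ (hsub ▸ isClosed_closure.preimage continuous_subtype_val)
      haveI : IsAffine U.toScheme :=
        IsAffineOpen.Spec_basicOpen g
      exact isAffine_of_isAffineHom (j ∣_ U)
  exact isAffine_of_isAffineHom j

end Groth.Agent.S1890
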