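import Groth.Statements.S18903
import Groth.Agent.S18900
import Groth.Agent.Dbl24.Involution
-- import your own Groth.Agent.* helpers here

set_option autoImplicit false
universe u
open CategoryTheory CategoryTheory.Limits AlgebraicGeometry
open Curves

set_option backward.isDefEq.respectTransparency.types false
set_option maxHeartbeats 1000000
namespace Groth.Agent.S18903

/-- Let S be a scheme on which 2 is invertible and f : X → S a smooth curve of genus g ≥ 2 (proper and
smooth, geometrically connected fibres of dimension one and genus g). The following are equivalent: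
(a) f = h ≫ q for a conic bundle q : P → S (a smooth curve of genus 0) and a double cover h : X → P
(finite, flat, locally of finite presentation, of rank 2 at every point); (b) there are an
S-automorphism σ of X with σ ∘ σ = id and a quotient π : X → P of X by the group generated by σ (π
affine and σ-invariant, with O_P the σ-invariant sections of O_X over every open) such that the
induced morphism P → S is a conic bundle. -/
theorem result {X S : Scheme.{u}} (f : X ⟶ S)
    (h2 : IsUnit (2 : Γ(S, ⊤)))
    [IsProper f] [Smooth f] [GeometricallyConnected f]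
    (hdim : ∀ s : S, topologicalKrullDim ↥(f.fiber s) = 1) (g : ℕ) (hg : 2 ≤ g)
    (hgen : ∀ s : S, letI : (f.fiber s).Over (Spec (S.residueField s)) := ⟨f.fiberToSpecResidueField s⟩
      Curv2.genus (S.residueField s) (f.fiber s) = g) :
    (∃ (P : Scheme.{u}) (q : P ⟶ S) (h : X ⟶ P), h ≫ q = f ∧
        IsProper q ∧ Smooth q ∧ GeometricallyConnected q ∧
        (∀ s : S, topologicalKrullDim ↥(q.fiber s) = 1) ∧
        (∀ s : S, letI : (q.fiber s).Over (Spec (S.residueField s)) := ⟨q.fiberToSpecResidueField s⟩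
          Curv2.genus (S.residueField s) (q.fiber s) = 0) ∧
        IsFinite h ∧ Flat h ∧ LocallyOfFinitePresentation h ∧ ∀ y : P, h.finrank y = 2) ↔
      ∃ (σ : Aut X) (P : Scheme.{u}) (π : X ⟶ P) (q : P ⟶ S), σ.hom ≫ f = f ∧ σ * σ = 1 ∧ π ≫ q = f ∧
        SGA1.IsQuot (Subgroup.zpowers σ).subtype π ∧
        IsProper q ∧ Smooth q ∧ GeometricallyConnected q ∧
        (∀ s : S, topologicalKrullDim ↥(q.fiber s) = 1) ∧
        ∀ s : S, letI : (q.fiber s).Over (Spec (S.residueField s)) := ⟨q.fiberToSpecResidueField s⟩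
          Curv2.genus (S.residueField s) (q.fiber s) = 0 := by
  constructor
  · rintro ⟨P, q, h, hq, hp, hs, hgc, hd, hg0, hfin, hflat, hlfp, hr⟩
    haveI := hfin
    haveI := hflat
    haveI := hlfp
    have h2' : IsUnit (2 : Γ(P, ⊤)) := by
      have h := h2.map q.appTop.hom
      rwa [map_ofNat] at h
    obtain ⟨σ, hσ, hσ2, hquot⟩ := Groth.Agent.S18900.result h hr h2'
    exact ⟨σ, P, h, q, by rw [← hq, ← Category.assoc, hσ], hσ2, hq, hquot, hp, hs, hgc, hd, hg0⟩
  rintro ⟨σ, P, π, q, -, hσ2, hπ, hquot, hp, hs, hgc, hd, hg0⟩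
  refine ⟨P, q, π, hπ, hp, hs, hgc, hd, hg0, ?_⟩
  subst hπ
  haveI := hp
  haveI := hs
  haveI := hquot.affine
  haveI : Finite (Subgroup.zpowers σ) :=
    (isOfFinOrder_iff_pow_eq_one.2 ⟨2, two_pos, by rw [pow_two, hσ2]⟩).finite_zpowers
  let σ' : Subgroup.zpowers σ := ⟨σ, Subgroup.mem_zpowers σ⟩
  have hdich : ∀ a : Subgroup.zpowers σ, a = 1 ∨ a = σ' := by
    rintro ⟨a, ha⟩
    obtain ⟨n, rfl⟩ := Subgroup.mem_zpowers_iff.1 ha
    rcases Int.even_or_odd n with ⟨m, rfl⟩ | ⟨m, rfl⟩
    · exact Or.inl (Subtype.ext (by simp [← two_mul, zpow_mul, zpow_ofNat, pow_two, hσ2]))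
    · exact Or.inr (Subtype.ext (by simp [σ', zpow_add, zpow_mul, zpow_ofNat, pow_two, hσ2]))
  have hord : orderOf σ = 1 ∨ orderOf σ = 2 :=
    (Nat.dvd_prime Nat.prime_two).1 (orderOf_dvd_of_pow_eq_one (by rw [pow_two, hσ2]))
  have hn : IsUnit ((Nat.card (Subgroup.zpowers σ) : ℕ) : Γ(S, ⊤)) := by
    rw [Nat.card_zpowers]
    rcases hord with h | h <;> rw [h] <;> simp [h2]
  have hρ : ∀ a, ((Subgroup.zpowers σ).subtype a).hom ≫ π ≫ q = π ≫ q := fun a => by
    rw [← Category.assoc, hquot.inv a]
  have hne : ∀ s : S, CurveQuot24.bcAct (Subgroup.zpowers σ).subtype (π ≫ q) hρ (S.fromSpecResidueField s) σ' ≠ 1 := by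
    intro s h1
    have hq' := CurveQuot24.isQuot_bc hquot q (S.fromSpecResidueField s) hρ hn
    haveI := Dbl24.isIso_of_trivial hq' fun a => by
      rcases hdich a with rfl | rfl
      exacts [map_one _, h1]
    letI : ((π ≫ q).fiber s).Over (Spec (CommRingCat.of (S.residueField s))) :=
      ⟨(π ≫ q).fiberToSpecResidueField s⟩
    letI : (q.fiber s).Over (Spec (CommRingCat.of (S.residueField s))) := ⟨q.fiberToSpecResidueField s⟩
    haveI : IsProper (q.fiberToSpecResidueField s) :=
      MorphismProperty.pullback_snd (P := @IsProper) _ _ inferInstance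
    haveI : CompactSpace ↥(q.fiber s) := QuasiCompact.compactSpace_of_compactSpace (q.fiberToSpecResidueField s)
    haveI : QuasiSeparatedSpace ↥(q.fiber s) :=
      quasiSeparatedSpace_of_quasiSeparated (q.fiberToSpecResidueField s)
    have sq : IsPullback (CurveQuot24.bcHom π q (S.fromSpecResidueField s) : (π ≫ q).fiber s ⟶ q.fiber s)
        ((π ≫ q).fiber s ↘ Spec (CommRingCat.of (S.residueField s)))
        (q.fiber s ↘ Spec (CommRingCat.of (S.residueField s)))
        (Spec.map (CommRingCat.ofHom (algebraMap (S.residueField s) (S.residueField s)))) := by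
      have e : Spec.map (CommRingCat.ofHom (algebraMap (S.residueField s) (S.residueField s))) = 𝟙 _ := by
        simp
      rw [e]
      exact IsPullback.of_horiz_isIso ⟨by
        rw [Category.comp_id]
        exact CurveQuot24.bcHom_snd π q (S.fromSpecResidueField s)⟩
    have e := (hgen s).symm.trans ((CurveRR24.genus_bc (X := q.fiber s) (X' := (π ≫ q).fiber s) sq).trans (hg0 s))
    omega
  have hcard : ∀ s : S, Nat.card (Subgroup.zpowers σ) = 2 := fun s => by
    rw [Nat.card_zpowers]
    refine hord.resolve_left fun h => hne s ?_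
    have e : σ' = 1 := Subtype.ext (orderOf_eq_one_iff.1 h)
    rw [e, map_one]
  have hinj : ∀ s : S, Function.Injective
      (CurveQuot24.bcAct (Subgroup.zpowers σ).subtype (π ≫ q) hρ (S.fromSpecResidueField s)) := fun s =>
    (injective_iff_map_eq_one _).2 fun a ha => (hdich a).resolve_right fun h => hne s (h ▸ ha)
  haveI : LocallyOfFinitePresentation π := (CurveQuot24.lfp_quotient hquot q hn).2
  haveI := SGA1Quot.isFinite_of_locallyOfFiniteType hquot q
  have fib := fun s : S => Dbl24.fibre_props_of_injective (k := S.residueField s) hquot q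
    (S.fromSpecResidueField s) hρ hn (hdim s) (hinj s)
  haveI hflat : Flat π := FlatMor12.flat_of_fibres π q fun s => by
    have sq := CurveQuot24.bcHom_isPullback π q (S.fromSpecResidueField s)
    haveI := (fib s).2.2.1
    show Flat (pullback.snd π (pullback.fst q (S.fromSpecResidueField s)))
    rw [← sq.isoPullback_inv_snd]
    infer_instance
  refine ⟨inferInstance, hflat, inferInstance, fun y => ?_⟩
  have hy : y ∈ Set.range (pullback.fst q (S.fromSpecResidueField (q y))) := by
    rw [Scheme.Pullback.range_fst, Scheme.range_fromSpecResidueField]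
    rfl
  obtain ⟨y', hy'⟩ := hy
  rw [← hy', ← Scheme.Hom.finrank_of_isPullback _ _ _ _ (CurveQuot24.bcHom_isPullback π q _)]
  exact ((fib (q y)).2.2.2 y').trans (hcard (q y))

end Groth.Agent.S18903
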