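import Groth.Statements.S2335
import Groth.Agent.ValExtLib.Criterion

set_option autoImplicit false
universe u
open CategoryTheory CategoryTheory.Limits AlgebraicGeometry
open EGA2

namespace Groth.Agent.S2335

/-- Let Y be locally Noetherian and f : X → Y of finite type. Then f is proper if and only if for every
discrete valuation ring A with fraction field K and every commutative square Spec K → X, Spec A → Y,
there is exactly one morphism Spec A → X making both triangles commute. -/
theorem result {X Y : Scheme.{u}} [IsLocallyNoetherian Y] (f : X ⟶ Y) [LocallyOfFiniteType f] [QuasiCompact f] :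
    IsProper f ↔ ∀ (A : Type u) [CommRing A] [IsDomain A] [IsDiscreteValuationRing A] (x : (Spec (CommRingCat.of (FractionRing A))) ⟶ X) (y : (Spec (CommRingCat.of A)) ⟶ Y),
      x ≫ f = (Spec.map (CommRingCat.ofHom (algebraMap A (FractionRing A)))) ≫ y → ∃! l : (Spec (CommRingCat.of A)) ⟶ X, l ≫ f = y ∧ (Spec.map (CommRingCat.ofHom (algebraMap A (FractionRing A)))) ≫ l = x := by
  constructor
  · intro _ A _ _ _ x y hxy
    let S : ValuativeCommSq f := { R := A, K := FractionRing A, i₁ := x, i₂ := y, commSq := ⟨hxy⟩ }
    have hE : ValuativeCriterion.Existence f :=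
      ((iff_of_eq (congrFun (congrFun (congrFun UniversallyClosed.eq_valuativeCriterion X) Y) f)).mp
        inferInstance).1
    obtain ⟨l, hl, hl'⟩ := (hE S).exists_lift.some
    have := ValExtLib.isDominant_spec_of_injective
      (CommRingCat.ofHom (algebraMap A (FractionRing A))) (IsFractionRing.injective A (FractionRing A))
    exact ⟨l, ⟨hl', hl⟩, fun l' h' ↦
      ext_of_isDominant_of_isSeparated f (h'.1.trans hl'.symm) _ (h'.2.trans hl.symm)⟩
  · intro H
    have := ValExtLib.isSeparated_of_dvr f fun A _ _ _ g₁ g₂ h h' ↦
      (H A (Spec.map (CommRingCat.ofHom (algebraMap A (FractionRing A))) ≫ g₁) (g₁ ≫ f)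
        (Category.assoc _ _ _)).unique ⟨rfl, rfl⟩ ⟨h.symm, h'.symm⟩
    have := ValExtLib.universallyClosed_of_dvr f fun A _ _ _ x y h ↦ (H A x y h).exists
    exact { }

end Groth.Agent.S2335
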