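import Groth.Statements.S18906
import Groth.Agent.AutCurve24.Families
import Groth.Agent.S2335
import Groth.Agent.FEtDesc.Fpqc
-- import your own Groth.Agent.* helpers here

set_option autoImplicit false
universe u
open CategoryTheory MonoidalCategory CartesianMonoidalCategory MonObj GrpObj AlgebraicGeometry
open Curves

set_option backward.isDefEq.respectTransparency.types false
namespace Groth.Agent.S18906

/-- Let S be a locally Noetherian scheme and X → S a smooth curve of genus g ≥ 2 (proper and smooth,
with geometrically connected fibres of dimension one and genus g) and let the S-group scheme G, with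
its action a, be the automorphism group scheme Aut_S(X): every family of S-automorphisms of X
parametrised by an S-scheme T comes from exactly one T-point of G. Assume, as the source obtains
from the theory of Hilbert schemes, that G → S is quasi-compact, separated and locally of finite
presentation. Then G → S is finite and formally unramified. (The published statement says that
Aut_S(X) is finite, of finite presentation and formally unramified, taking its representability by a
quasi-projective S-scheme and its finite presentation from the literature; here those are hypotheses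
on G and the conclusion is finiteness and unramifiedness. The published statement also allows any
base; this row assumes S locally Noetherian, the case its valuative-criterion argument with discrete
valuation rings covers.) -/
theorem result {S : Scheme.{u}} [IsLocallyNoetherian S] (X : Over S)
    [IsProper X.hom] [Smooth X.hom] [GeometricallyConnected X.hom]
    (hdim : ∀ s : S, topologicalKrullDim ↥(X.hom.fiber s) = 1) (g : ℕ) (hg : 2 ≤ g)
    (hgen : ∀ s : S, letI : (X.hom.fiber s).Over (Spec (S.residueField s)) := ⟨X.hom.fiberToSpecResidueField s⟩
      Curv2.genus (S.residueField s) (X.hom.fiber s) = g)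
    (G : Over S) [GrpObj G] [QuasiCompact G.hom] [IsSeparated G.hom] [LocallyOfFinitePresentation G.hom]
    (a : AlgGrp.Action G X) (hG : AutSch.Represents X G a) :
    IsFinite G.hom ∧ FormallyUnramified G.hom := by
  haveI hfu : FormallyUnramified G.hom := IsoNatLib.Tangent.formallyUnramified_of_tangent G.hom
    fun K _ g₁ g₂ y hcl h₁ h₂ => by
      let u₁ : Over.mk (IsoNatLib.Tangent.proj K ≫ y) ⟶ G := Over.homMk g₁ h₁
      let u₂ : Over.mk (IsoNatLib.Tangent.proj K ≫ y) ⟶ G := Over.homMk g₂ h₂
      let i₀ : Over.mk y ⟶ Over.mk (IsoNatLib.Tangent.proj K ≫ y) := Over.homMk (IsoNatLib.Tangent.clPt K)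
        (by simp only [Over.mk_hom]; rw [← Category.assoc, IsoNatLib.Tangent.clPt_proj]; exact Category.id_comp y)
      have hi₀ : i₀ ≫ u₁ = i₀ ≫ u₂ := Over.OverMorphism.ext hcl
      have h3 : AutSch.famOf a (u₂⁻¹ * u₁) = fst X _ :=
        AutCurve24.eq_fst_of_dual hdim g hg hgen y _ i₀ rfl (by
          rw [← AutSch.famOf_comp, MonObj.comp_mul, GrpObj.comp_inv, hi₀, inv_mul_cancel, AutCurve24.famOf_one])
      have h4 : u₂⁻¹ * u₁ = 1 :=
        ((AutSch.represents_iff G a).1 hG _ (fst X _) (AutCurve24.isAutFamily_fst _)).unique h3
          (AutCurve24.famOf_one a _)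
      exact congrArg CommaMorphism.left (inv_mul_eq_one.1 h4).symm
  haveI : IsProper G.hom := (Groth.Agent.S2335.result G.hom).2 fun A _ _ _ x y hxy => by
    let bK := Spec.map (CommRingCat.ofHom (algebraMap A (FractionRing A)))
    let v : Over.mk (bK ≫ y) ⟶ G := Over.homMk x hxy
    let j : Over.mk (bK ≫ y) ⟶ Over.mk y := Over.homMk bK rfl
    obtain ⟨ψ, hψ, hpb, hu⟩ := AutCurve24.existsUnique_extend hdim g hg hgen y j rfl (AutSch.famOf a v)
      (AutCurve24.isAutFamily_famOf a v)
    have hrep := (AutSch.represents_iff G a).1 hG
    obtain ⟨l, hl, hlu⟩ := hrep _ ψ hψ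
    refine ⟨l.left, ⟨Over.w l, ?_⟩, fun l' hl' => ?_⟩
    · have h5 : j ≫ l = v := (hrep _ (AutSch.famOf a v) (AutCurve24.isAutFamily_famOf a v)).unique
        (by rw [AutSch.famOf_comp, hl, hpb]) rfl
      exact congrArg CommaMorphism.left h5
    · let w : Over.mk y ⟶ G := Over.homMk l' hl'.1
      have h6 : AutSch.famOf a w = ψ := hu _ (by
        rw [← AutSch.famOf_comp]
        congr 1
        exact Over.OverMorphism.ext hl'.2)
      exact congrArg CommaMorphism.left (hlu w h6)
  haveI : LocallyQuasiFinite G.hom := FEtDesc.locallyQuasiFinite_of_formallyUnramified G.hom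
  exact ⟨IsFinite.of_isProper_of_locallyQuasiFinite G.hom, hfu⟩

end Groth.Agent.S18906
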