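import Groth.Statements.S18907
import Groth.Agent.CurveQuot24.Tame
import Groth.Agent.RelVALib.Projective
-- import your own Groth.Agent.* helpers here

set_option autoImplicit false
universe u
open CategoryTheory CategoryTheory.Limits AlgebraicGeometry
open Curves

set_option backward.isDefEq.respectTransparency.types false
namespace Groth.Agent.S18907

/-- Let f : X → S be a projective morphism of schemes (X ≅ Proj of a quasi-coherent graded O_S-algebra
generated in degree one with degree-one part of finite type), G a finite group acting on X by
S-automorphisms, and π : X → Y, with q : Y → S and π ≫ q = f, a quotient of X by G: π is affine and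
G-invariant and over every open of Y the sections of O_Y are exactly the G-invariant sections of
O_X. Then π is surjective, finite, open and closed. If moreover the order of G is invertible in
O_S(S), then: Y is flat over S whenever X is; q is separated; and if f is locally of finite
presentation then q is proper and locally of finite presentation and π is locally of finite
presentation. (The existence of the quotient, parts (1), (2), and the base-change statement (5) of
the source are not stated.) -/
theorem result {X Y S : Scheme.{u}} (f : X ⟶ S)
    (hf : RelProj.IsProjective f)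
    {G : Type u} [Group G] [Finite G] (ρ : G →* Aut X) (hρ : ∀ g : G, (ρ g).hom ≫ f = f)
    (π : X ⟶ Y) (q : Y ⟶ S) (hπ : π ≫ q = f) (hquot : SGA1.IsQuot ρ π) :
    (Surjective π ∧ IsFinite π ∧ IsOpenMap π ∧ IsClosedMap π) ∧
      (IsUnit ((Nat.card G : ℕ) : Γ(S, ⊤)) →
        (Flat f → Flat q) ∧ IsSeparated q ∧
        (LocallyOfFinitePresentation f →
          IsProper q ∧ LocallyOfFinitePresentation q ∧ LocallyOfFinitePresentation π)) := by
  subst hπ
  haveI : IsProper (π ≫ q) := Groth.Agent.RelVALib.isProper_of_isProjective hf
  haveI := Groth.Agent.SGA1Quot.surjective hquot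
  haveI := Groth.Agent.SGA1Quot.isFinite_of_locallyOfFiniteType hquot q
  refine ⟨⟨inferInstance, inferInstance, Groth.Agent.CurveQuot24.isOpenMap hquot, π.isClosedMap⟩, fun hG => ?_⟩
  haveI := Groth.Agent.SGA1Quot.isSeparated_of_comp hquot q
  refine ⟨fun h => Groth.Agent.CurveQuot24.flat_quotient hquot q hG, inferInstance, fun h => ?_⟩
  obtain ⟨hq, hp⟩ := Groth.Agent.CurveQuot24.lfp_quotient hquot q hG
  haveI := hq
  haveI : UniversallyClosed q := UniversallyClosed.of_comp_surjective π q
  exact ⟨{}, hq, hp⟩

end Groth.Agent.S18907
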