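import Groth.Statements.S18908
import Mathlib
import Groth.Prelude
import Groth.Agent.FlatCrit.Tor

set_option linter.all false

set_option autoImplicit false
universe u v w
open scoped TensorProduct
open CAlg

open scoped TensorProduct
open WittVector

namespace Groth.Agent.S18908

/-- Let K ⊇ k be a finite field extension of degree n and Ω ⊇ k an algebraically closed extension. Then
K is separable over k if and only if Ω ⊗_k K is isomorphic, as an Ω-algebra, to the product of n
copies of Ω. (The source says 'for every (some) algebraically closed extension Ω'; the equivalence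
is stated for each fixed Ω, which gives both readings.) -/
theorem result (k : Type u) (K : Type v) (Ω : Type w)
    [Field k] [Field K] [Algebra k K] [FiniteDimensional k K]
    [Field Ω] [Algebra k Ω] [IsAlgClosed Ω] :
    Algebra.IsSeparable k K ↔ Nonempty ((Ω ⊗[k] K) ≃ₐ[Ω] (Fin (Module.finrank k K) → Ω)) := by
  classical
  have hn : Field.finSepDegree k K = Nat.card (K →ₐ[k] Ω) := Field.finSepDegree_eq_of_isAlgClosed k K Ω
  constructor
  · intro hsep
    have hcard : Nat.card (K →ₐ[k] Ω) = Module.finrank k K := hn.symm.trans (Field.finSepDegree_eq_finrank_of_isSeparable k K)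
    let ε : Fin (Module.finrank k K) ≃ (K →ₐ[k] Ω) := (finCongr hcard.symm).trans (Finite.equivFin _).symm
    let Φ : Ω ⊗[k] K →ₐ[Ω] (Fin (Module.finrank k K) → Ω) :=
      Algebra.TensorProduct.lift (Algebra.ofId Ω (Fin (Module.finrank k K) → Ω)) (Pi.algHom k _ fun i => ε i) fun _ _ => Commute.all _ _
    have hΦ : ∀ (c : Ω) (x : K) i, Φ (c ⊗ₜ x) i = c * ε i x := fun c x i => by simp [Φ]
    have hsurj : Function.Surjective Φ.toLinearMap := by
      rw [← LinearMap.range_eq_top]
      by_contra h
      obtain ⟨f, hf, hle⟩ := Submodule.exists_le_ker_of_lt_top _ (lt_top_iff_ne_top.2 h)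
      apply hf
      have hli := (linearIndependent_monoidHom K Ω).comp (fun i => ((ε i : K →ₐ[k] Ω) : K →* Ω))
        (fun i j hij => ε.injective (AlgHom.ext fun x => by simpa using DFunLike.congr_fun hij x))
      have hz := Fintype.linearIndependent_iff.1 hli (fun i => f (Pi.single i 1)) (by
        funext x
        have hx : f (Φ ((1 : Ω) ⊗ₜ x)) = 0 := LinearMap.mem_ker.1 (hle ⟨(1 : Ω) ⊗ₜ x, rfl⟩)
        rw [pi_eq_sum_univ' (Φ ((1 : Ω) ⊗ₜ x)), map_sum] at hx
        simp only [map_smul, hΦ, one_mul, smul_eq_mul] at hx
        rw [Finset.sum_apply, Pi.zero_apply, ← hx]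
        exact Finset.sum_congr rfl fun i _ => mul_comm _ _)
      refine LinearMap.ext fun y => ?_
      rw [pi_eq_sum_univ' y, map_sum]
      simp [hz]
    have hinj : Function.Injective Φ.toLinearMap :=
      (LinearMap.injective_iff_surjective_of_finrank_eq_finrank (by
        rw [Module.finrank_baseChange, Module.finrank_fin_fun])).2 hsurj
    exact ⟨AlgEquiv.ofBijective Φ ⟨hinj, hsurj⟩⟩
  · rintro ⟨e⟩
    rw [← Field.finSepDegree_eq_finrank_iff]
    refine le_antisymm (Field.finSepDegree_le_finrank k K) ?_
    rw [hn]
    let σ : Fin (Module.finrank k K) → (K →ₐ[k] Ω) := fun i =>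
      (((Pi.evalAlgHom Ω _ i).comp e.toAlgHom).restrictScalars k).comp Algebra.TensorProduct.includeRight
    have hσ : Function.Injective σ := by
      intro i j hij
      have hall : ∀ y : Ω ⊗[k] K, e y i = e y j := by
        intro y
        induction y using TensorProduct.induction_on with
        | zero => simp
        | tmul c x =>
          have : c ⊗ₜ[k] x = c • ((1 : Ω) ⊗ₜ[k] x) := by rw [TensorProduct.smul_tmul', smul_eq_mul, mul_one]
          rw [this, map_smul, Pi.smul_apply, Pi.smul_apply]
          exact congrArg _ (AlgHom.congr_fun hij x)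
        | add a b ha hb => rw [map_add, Pi.add_apply, Pi.add_apply, ha, hb]
      by_contra hne
      have := hall (e.symm (Pi.single i 1))
      rw [AlgEquiv.apply_symm_apply, Pi.single_eq_same, Pi.single_eq_of_ne (Ne.symm hne)] at this
      exact one_ne_zero this
    simpa using Nat.card_le_card_of_injective σ hσ

end Groth.Agent.S18908
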