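import Groth.Statements.S18909
import Groth.Agent.CurveQuot24.TameBC
import Groth.Agent.FlatMor12.FibreFlat
import Groth.Agent.FBaseLib.Geom
-- import your own Groth.Agent.* helpers here

set_option autoImplicit false
universe u
open CategoryTheory CategoryTheory.Limits AlgebraicGeometry
open Curves

set_option backward.isDefEq.respectTransparency.types false
namespace Groth.Agent.S18909

/-- Let f : X → S be a smooth curve of genus g ≠ 1 (proper and smooth, geometrically connected fibres of
dimension one and genus g) and G a finite group acting on X by S-automorphisms, faithfully on every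
fibre (rendered: every g ≠ 1 moves some point of each fibre), with the order of G invertible in
O_S(S). Let π : X → Y be a quotient of X by G over S (π affine and G-invariant, O_Y the G-invariant
sections of O_X; the source shows such a quotient exists). Then Y → S is proper and smooth with
geometrically connected fibres of dimension one, and π is a cover of degree |G|: finite, flat,
locally of finite presentation and of rank |G| at every point of Y. -/
theorem result {X Y S : Scheme.{u}} (f : X ⟶ S)
    [IsProper f] [Smooth f] [GeometricallyConnected f]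
    (hdim : ∀ s : S, topologicalKrullDim ↥(f.fiber s) = 1) (g : ℕ) (hg : g ≠ 1)
    (hgen : ∀ s : S, letI : (f.fiber s).Over (Spec (S.residueField s)) := ⟨f.fiberToSpecResidueField s⟩
      Curv2.genus (S.residueField s) (f.fiber s) = g)
    {G : Type u} [Group G] [Finite G] (hG : IsUnit ((Nat.card G : ℕ) : Γ(S, ⊤)))
    (ρ : G →* Aut X) (hρ : ∀ a : G, (ρ a).hom ≫ f = f)
    (hfaith : ∀ (s : S) (a : G), a ≠ 1 → ∃ x : X, f x = s ∧ (ρ a).hom x ≠ x)
    (π : X ⟶ Y) (q : Y ⟶ S) (hπ : π ≫ q = f) (hquot : SGA1.IsQuot ρ π) :
    IsProper q ∧ Smooth q ∧ GeometricallyConnected q ∧ (∀ s : S, topologicalKrullDim ↥(q.fiber s) = 1) ∧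
      IsFinite π ∧ Flat π ∧ LocallyOfFinitePresentation π ∧ ∀ y : Y, π.finrank y = Nat.card G := by
  haveI := hquot.affine
  haveI : IsProper (π ≫ q) := hπ ▸ inferInstance
  haveI : Smooth (π ≫ q) := hπ ▸ inferInstance
  haveI : GeometricallyConnected (π ≫ q) := hπ ▸ inferInstance
  have hρ' : ∀ a : G, (ρ a).hom ≫ π ≫ q = π ≫ q := hπ ▸ hρ
  have hS : IsUnit ((Nat.card G : ℕ) : Γ(S, ⊤)) := hG
  haveI : LocallyOfFinitePresentation q := (CurveQuot24.lfp_quotient hquot q hS).1
  haveI : LocallyOfFinitePresentation π := (CurveQuot24.lfp_quotient hquot q hS).2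
  haveI : Flat q := CurveQuot24.flat_quotient hquot q hS
  haveI := SGA1Quot.surjective hquot
  haveI : IsSeparated q := SGA1Quot.isSeparated_of_comp hquot q
  haveI : UniversallyClosed q := UniversallyClosed.of_comp_surjective π q
  haveI hproper : IsProper q := { }
  haveI := SGA1Quot.isFinite_of_locallyOfFiniteType hquot q
  have fib : ∀ s : S, Smooth (q.fiberToSpecResidueField s) ∧ topologicalKrullDim ↥(q.fiber s) = 1 ∧
      Flat (CurveQuot24.bcHom π q (S.fromSpecResidueField s)) ∧ ∀ y : ↥(q.fiber s),
        (CurveQuot24.bcHom π q (S.fromSpecResidueField s)).finrank y = Nat.card G := fun s =>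
    CurveQuot24.fibre_props (k := S.residueField s) hquot q (S.fromSpecResidueField s) hρ' hS
      (by rw [hπ]; exact hdim s) fun a ha => by
        obtain ⟨x, hx, hmove⟩ := hfaith s a ha
        refine ⟨x, ?_, hmove⟩
        rw [Scheme.Pullback.range_fst, Scheme.range_fromSpecResidueField, Set.mem_preimage, Set.mem_singleton_iff]
        rw [hπ]
        exact hx
  haveI hflat : Flat π := FlatMor12.flat_of_fibres π q fun s => by
    have sq := CurveQuot24.bcHom_isPullback π q (S.fromSpecResidueField s)
    haveI := (fib s).2.2.1
    show Flat (pullback.snd π (pullback.fst q (S.fromSpecResidueField s)))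
    rw [← sq.isoPullback_inv_snd]
    infer_instance
  refine ⟨hproper, Smooth.of_smooth_fiberToSpecResidueField q fun s => (fib s).1,
    ⟨FBaseLib.geometrically_of_surjective_source (P := fun Z : Scheme.{u} => ConnectedSpace Z)
      (fun A B e hs (_ : ConnectedSpace A) => FlatMor12.connectedSpace_of_surjective e) q π
      GeometricallyConnected.geometrically_connectedSpace⟩,
    fun s => (fib s).2.1, inferInstance, hflat, inferInstance, fun y => ?_⟩
  have hy : y ∈ Set.range (pullback.fst q (S.fromSpecResidueField (q y))) := by
    rw [Scheme.Pullback.range_fst, Scheme.range_fromSpecResidueField]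
    rfl
  obtain ⟨y', hy'⟩ := hy
  rw [← hy', ← Scheme.Hom.finrank_of_isPullback _ _ _ _ (CurveQuot24.bcHom_isPullback π q _)]
  exact (fib (q y)).2.2.2 y'

end Groth.Agent.S18909
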