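import Groth.Statements.S18912
import Mathlib.FieldTheory.IsAlgClosed.Basic
-- import your own Groth.Agent.* helpers here

set_option autoImplicit false
set_option backward.isDefEq.respectTransparency false
universe u
open CategoryTheory CategoryTheory.Limits AlgebraicGeometry
open TFNodal

namespace Groth.Agent.S18912

/-- Let k be an algebraically closed field of characteristic zero, X a reduced scheme locally of finite
type over k, F an O_X-module, d ≥ 1 an integer and τ, τ' : F → O_X two O_X-linear maps whose d-th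
symmetric powers agree, in the sense that for every open U and all sections a_1, …, a_d of F over U
the products τ(a_1)⋯τ(a_d) and τ'(a_1)⋯τ'(a_d) coincide in Γ(U, O_X). Then for every point η of X
whose local ring is a field (a generic point of an irreducible component) there is a d-th root of
unity ξ in k such that, for every section a of F over an open containing η, the germ of τ'(a) at η
is ξ times the germ of τ(a). The published statement is for a coherent module on a projective nodal
curve and concludes that τ' = ξ τ with one root of unity ξ on each connected component; that form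
fails for the union of two lines meeting at a node, F the ideal of the node, τ the inclusion and τ'
equal to τ on one line and to −τ on the other (d = 2), so the conclusion is stated here at each
generic point, i.e. per irreducible component, which is what the stalkwise argument yields. -/
theorem result
    (k : Type u) [Field k] [IsAlgClosed k] [CharZero k]
    (X : Scheme.{u}) [X.Over (Spec (CommRingCat.of k))]
    [LocallyOfFiniteType (X ↘ Spec (CommRingCat.of k))] [AlgebraicGeometry.IsReduced X]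
    (F : X.Modules) (τ τ' : F ⟶ Coh.structureModule X) (d : ℕ) (hd : 1 ≤ d)
    (hS : ∀ (U : X.Opens) (a : Fin d → Γ(F, U)),
      (∏ i, (τ.app U (a i) : Γ(X, U)) : Γ(X, U)) = (∏ i, (τ'.app U (a i) : Γ(X, U)) : Γ(X, U)))
    (η : X) (hη : IsField (X.presheaf.stalk η)) :
    ∃ ξ : k, ξ ^ d = 1 ∧ ∀ (U : X.Opens) (hU : η ∈ U) (a : Γ(F, U)),
      (X.presheaf.germ U η hU (τ'.app U a : Γ(X, U)) : X.presheaf.stalk η) =
        Curv2.stalkMap k X η ξ * X.presheaf.germ U η hU (τ.app U a : Γ(X, U)) := by
  classical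
  let K := X.presheaf.stalk η
  letI : Field K := hη.toField
  let t : ∀ (U : X.Opens), η ∈ U → (F ⟶ Coh.structureModule X) → Γ(F, U) → K := fun U hU σ a =>
    (X.presheaf.germ U η hU).hom (show Γ(X, U) from σ.app U a)
  have hres : ∀ (U V : X.Opens) (h : V ≤ U) (hV : η ∈ V) (σ : F ⟶ Coh.structureModule X) (a : Γ(F, U)),
      t V hV σ ((F.presheaf.map (homOfLE h).op).hom a) = t U (h hV) σ a := by
    intro U V h hV σ a
    show (X.presheaf.germ V η hV).hom _ = (X.presheaf.germ U η (h hV)).hom _
    rw [← TopCat.Presheaf.germ_res_apply X.presheaf (homOfLE h) η hV]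
    congr 1
    exact congr($(σ.mapPresheaf.naturality (homOfLE h).op) a)
  have hprod : ∀ (U : X.Opens) (hU : η ∈ U) (a : Fin d → Γ(F, U)),
      ∏ i, t U hU τ (a i) = ∏ i, t U hU τ' (a i) := by
    intro U hU a
    have h := congrArg (X.presheaf.germ U η hU).hom (hS U a)
    simpa only [map_prod] using h
  let c := Curv2.stalkMap k X η
  by_cases h0 : ∀ (U : X.Opens) (hU : η ∈ U) (a : Γ(F, U)), t U hU τ a = 0
  · refine ⟨1, one_pow d, fun U hU a => ?_⟩
    rw [map_one, one_mul]
    show t U hU τ' a = t U hU τ a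
    have h := hprod U hU (fun _ => a)
    simp only [Finset.prod_const, Finset.card_univ, Fintype.card_fin, h0 U hU a, zero_pow (show d ≠ 0 by omega)] at h
    rw [h0 U hU a]
    exact pow_eq_zero_iff (show d ≠ 0 by omega) |>.1 h.symm
  push Not at h0
  obtain ⟨U₀, hU₀, a₀, ha₀⟩ := h0
  let ζ := t U₀ hU₀ τ' a₀ / t U₀ hU₀ τ a₀
  have hpow : t U₀ hU₀ τ a₀ ^ d = t U₀ hU₀ τ' a₀ ^ d := by
    have h := hprod U₀ hU₀ (fun _ => a₀)
    simpa using h
  have ha₀' : t U₀ hU₀ τ' a₀ ≠ 0 := fun h => ha₀ (by
    rw [h, zero_pow (show d ≠ 0 by omega)] at hpow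
    exact pow_eq_zero_iff (show d ≠ 0 by omega) |>.1 hpow)
  have hζ : ζ ^ d = 1 := by
    rw [div_pow, ← hpow, div_self (pow_ne_zero _ ha₀)]
  obtain ⟨ξ, hξ⟩ : ∃ ξ : k, c ξ = ζ := by
    letI : Algebra k K := c.toAlgebra
    have hint : IsIntegral k ζ := ⟨Polynomial.X ^ d - Polynomial.C 1, Polynomial.monic_X_pow_sub_C 1 (by omega), by simp [hζ]⟩
    exact minpoly.mem_range_of_degree_eq_one k ζ
      (IsAlgClosed.degree_eq_one_of_irreducible k (minpoly.irreducible hint))
  refine ⟨ξ, c.injective (by rw [map_pow, hξ, hζ, map_one]), fun U hU b => ?_⟩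
  show t U hU τ' b = c ξ * t U hU τ b
  rw [hξ]
  let V := U₀ ⊓ U
  have hV : η ∈ V := ⟨hU₀, hU⟩
  let a' := (F.presheaf.map (homOfLE (inf_le_left : V ≤ U₀)).op).hom a₀
  let b' := (F.presheaf.map (homOfLE (inf_le_right : V ≤ U)).op).hom b
  obtain ⟨e, rfl⟩ : ∃ e, d = e + 1 := ⟨d - 1, by omega⟩
  have h := hprod V hV (Fin.cons b' (fun _ => a'))
  simp only [Fin.prod_univ_succ, Fin.cons_zero, Fin.cons_succ, Finset.prod_const, Finset.card_univ,
    Fintype.card_fin] at h
  rw [hres U₀ V inf_le_left hV, hres U₀ V inf_le_left hV, hres U V inf_le_right hV, hres U V inf_le_right hV] at h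
  rw [eq_comm, show ζ = t U₀ hU₀ τ' a₀ / t U₀ hU₀ τ a₀ from rfl, div_mul_eq_mul_div, div_eq_iff ha₀]
  apply mul_right_cancel₀ (pow_ne_zero e ha₀)
  calc t U₀ hU₀ τ' a₀ * t U hU τ b * t U₀ hU₀ τ a₀ ^ e = t U₀ hU₀ τ' a₀ * (t U hU τ b * t U₀ hU₀ τ a₀ ^ e) := by ring
    _ = t U₀ hU₀ τ' a₀ * (t U hU τ' b * t U₀ hU₀ τ' a₀ ^ e) := by rw [h]
    _ = t U hU τ' b * t U₀ hU₀ τ' a₀ ^ (e + 1) := by ring
    _ = t U hU τ' b * t U₀ hU₀ τ a₀ ^ (e + 1) := by rw [hpow]
    _ = t U hU τ' b * t U₀ hU₀ τ a₀ * t U₀ hU₀ τ a₀ ^ e := by ring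

end Groth.Agent.S18912
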