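import Groth.Statements.S18913
import Groth.Agent.TFPush7.MonoTwist
import Groth.Agent.TFPush7.DepthTwo
import Groth.Agent.TFNodal7.Main
import Groth.Agent.AssSch12.TensorGlobal
import Groth.Agent.SerreDual.ExtShGeneric
import Groth.Agent.KZeroLib.SigmaCoh
import Groth.Agent.S7688
import Groth.Agent.PicLib.FormalGen

set_option autoImplicit false
set_option linter.style.haveILetI false
set_option backward.isDefEq.respectTransparency false
set_option maxHeartbeats 1000000
universe u
open CategoryTheory CategoryTheory.Limits AlgebraicGeometry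
open IsLocalRing TopologicalSpace Groth.Agent.Coherent Groth.Agent.PicLib Groth.Agent.AmpleLib
open TFNodal

namespace Groth.Agent.S18913

variable {X : Scheme.{u}}

theorem exists_sigma_equiv {P : X.Modules} (hP : PicF.IsInvertible P) (r : ℕ) (x : X) :
    Nonempty (((DerSch.stalkFunctor X x).obj (∐ fun _ : Fin r => P)) ≃ₗ[X.presheaf.stalk x]
      (Fin r → X.presheaf.stalk x)) := by
  obtain ⟨U, hx, s, hs⟩ := exists_isGen hP x
  let eP := LinearEquiv.ofBijective (LinearMap.toSpanSingleton _ _ (P.presheaf.germ U x hx s))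
    (TFPush7.bijective_smul_germ hs hx)
  let f : Fin r → X.Modules := fun _ => P
  exact ⟨((PreservesCoproduct.iso (DerSch.stalkFunctor X x) f) ≪≫ (biproduct.isoCoproduct _).symm ≪≫
      ModuleCat.biproductIsoPi _).toLinearEquiv.trans (LinearEquiv.piCongrRight fun _ => eP.symm)⟩

theorem mem_genericPoints_of_isField {η : X} (h : IsField (X.presheaf.stalk η)) : η ∈ genericPoints X := by
  let _ := h.toField
  obtain ⟨g, hg⟩ := QuasiSober.sober (isIrreducible_irreducibleComponent (x := η)) isClosed_irreducibleComponent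
  have h0 : ringKrullDim (X.presheaf.stalk η) = 0 := ringKrullDim_eq_zero_of_field _
  have hmax : IsMax η := by
    rw [← Order.coheight_eq_zero]
    have := (ringKrullDim_stalk_eq_coheight η).symm.trans h0
    exact_mod_cast this
  have hs : g ⤳ η := hg.specializes mem_irreducibleComponent
  have : g = η := (hs.antisymm (Scheme.le_iff_specializes.1 (hmax (Scheme.le_iff_specializes.2 hs)))).eq
  show closure {η} ∈ irreducibleComponents X
  rw [← this, hg.def]
  exact irreducibleComponent_mem_irreducibleComponents _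

theorem not_isField_of_isClosed [IsNoetherian X] [ConnectedSpace X] (hdim : topologicalKrullDim X = 1) {x : X}
    (hx : IsClosed ({x} : Set X)) : ¬ IsField (X.presheaf.stalk x) := fun h => by
  have h1 := TFNodal7.components_dim_one X hdim _ (mem_genericPoints_of_isField h)
  rw [hx.closure_eq] at h1
  have h0 := topologicalKrullDim_zero_of_discreteTopology ({x} : Set X)
  rw [h1] at h0
  exact absurd h0 (by decide)

/-- Let k be an algebraically closed field of characteristic zero, X a connected reduced proper curve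
over k (a proper k-scheme of dimension one), L an ample invertible O_X-module, F a coherent
O_X-module and r a natural number. Then F is of depth one at every closed point (no closed point of
X is an associated point of F) with stalk free of rank r at every generic point (uniform multirank
r) if and only if there are a natural number m and a monomorphism F → (L^{⊗m})^{⊕r} whose cokernel
has zero stalk at every generic point of X (a torsion cokernel). -/
theorem result
    (k : Type u) [Field k] [IsAlgClosed k] [CharZero k]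
    (X : Scheme.{u}) [X.Over (Spec (CommRingCat.of k))] [IsProper (X ↘ Spec (CommRingCat.of k))]
    [AlgebraicGeometry.IsReduced X] [ConnectedSpace X] (hdim : topologicalKrullDim X = 1)
    (L : X.Modules) (hL : CohB1.IsAmple L)
    (F : X.Modules) (hF : Coh.IsCoh F) (r : ℕ) :
    ((∀ x : X, IsClosed ({x} : Set X) → ¬ Curv2.IsAssPoint F x) ∧
      (∀ η : X, IsField (X.presheaf.stalk η) →
        Nonempty (F.presheaf.stalk η ≃ₗ[X.presheaf.stalk η] (Fin r → X.presheaf.stalk η)))) ↔
    (∃ (m : ℕ) (ι : F ⟶ ∐ fun _ : Fin r => CohB1.tensorPow L m), Mono ι ∧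
      ∀ η : X, IsField (X.presheaf.stalk η) → Subsingleton ((cokernel ι).presheaf.stalk η)) := by
  haveI := CurveRR24.isLocallyNoetherian_of_proper k (X := X)
  haveI : CompactSpace X := QuasiCompact.compactSpace_of_compactSpace (X ↘ Spec (CommRingCat.of k))
  haveI : AlgebraicGeometry.IsNoetherian X := {}
  haveI : X.IsSeparated := EulerLib.isSeparated_of_proper (X := X) k
  have hLi : PicF.IsInvertible L := (isAmple_iff_affGlocus.1 hL).1
  haveI := hF.1
  constructor
  · rintro ⟨hass, hfree⟩
    classical
    have hfin : {η : X | IsField (X.presheaf.stalk η)}.Finite :=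
      (S7688.generic_inter_finite (Y := X)).subset fun η h => mem_genericPoints_of_isField h
    let Z : Finset X := hfin.toFinset
    have hZ : ∀ {η : X}, η ∈ Z ↔ IsField (X.presheaf.stalk η) := fun {η} => hfin.mem_toFinset
    obtain ⟨m₀, -, b, hbZ, -, hWaff⟩ := exists_affine_glocus_finite (U := ⊤) hL _ hfin fun _ _ => trivial
    let B := CohB1.tensorPow L m₀
    have hB : PicF.IsInvertible B := isInvertible_tensorPow hLi m₀
    let W := glocus B b
    have hmemW : ∀ {η : X}, η ∈ Z → η ∈ W := fun h => hbZ (hZ.1 h)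
    haveI := (RefHullLib.isCoh_dual hF (isCoh_structureModule X)).1
    -- separating functions
    have hsep : ∀ η : Z, ∃ c : Γ(X, W), IsUnit (X.presheaf.germ W η.1 (hmemW η.2) c) ∧
        ∀ η' : Z, η' ≠ η → X.presheaf.germ W η'.1 (hmemW η'.2) c = 0 := by
      intro η
      let A : X.Opens := ⟨(closure ((Z.erase η.1 : Finset X) : Set X))ᶜ, isClosed_closure.isOpen_compl⟩
      have hηA : η.1 ∈ A := fun h => by
        rw [← Set.biUnion_of_singleton ((Z.erase η.1 : Finset X) : Set X),
          (Z.erase η.1).finite_toSet.closure_biUnion, Set.mem_iUnion₂] at h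
        obtain ⟨η', hη', hsp⟩ := h
        rw [Finset.mem_coe, Finset.mem_erase] at hη'
        exact hη'.1 (S7688.eq_of_specializes_generic (mem_genericPoints_of_isField (hZ.1 η.2))
          (specializes_iff_mem_closure.2 hsp))
      obtain ⟨c, hcA, hc⟩ := hWaff.exists_basicOpen_le (⟨η.1, hηA⟩ : A) (hmemW η.2)
      refine ⟨c, (X.mem_basicOpen c _ (hmemW η.2)).1 hc, fun η' hne => by_contra fun h0 => ?_⟩
      let _ := (hZ.1 η'.2).toField
      have := hcA ((X.mem_basicOpen c _ (hmemW η'.2)).2 (isUnit_iff_ne_zero.2 h0))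
      exact this (subset_closure (Finset.mem_coe.2 (Finset.mem_erase.2 ⟨fun e => hne (Subtype.ext e), η'.2⟩)))
    choose c hc hc0 using hsep
    let g := fun η : Z => (hfree η.1 (hZ.1 η.2)).some
    have hcoord : ∀ (η : Z) (i : Fin r), ∃ (f : Γ(X, W)) (θ : Γ(RefHull.dual F, W)),
        IsUnit (X.presheaf.germ W η.1 (hmemW η.2) f) ∧ ∀ v, TFPush7.ringVal η.1 (θ.1 ⟨η.1, hmemW η.2⟩ v) =
          X.presheaf.germ W η.1 (hmemW η.2) f * g η v i := by
      intro η i
      obtain ⟨f, θ, hf, hθ⟩ := QCohLoc.exists_smul_stalk_eq_germ (RefHull.dual F) hWaff (hmemW η.2)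
        ((TFPush7.dualEquiv hF η.1).symm ((LinearMap.proj i).comp (g η).toLinearMap))
      refine ⟨f, θ, (X.mem_basicOpen f _ (hmemW η.2)).1 hf, fun v => ?_⟩
      have h1 := congrArg (fun z => TFPush7.dualEquiv hF η.1 z v) hθ
      simp only [map_smul, LinearEquiv.apply_symm_apply, LinearMap.smul_apply, LinearMap.comp_apply,
        LinearMap.proj_apply, smul_eq_mul, LinearEquiv.coe_coe] at h1
      rw [h1]
      simp only [TFPush7.dualEquiv, LinearEquiv.trans_apply, LinearEquiv.ofBijective_apply,
        LinearEquiv.arrowCongr_apply, LinearEquiv.refl_symm, LinearEquiv.refl_apply, RefHull.evalStalk_germ]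
      rfl
    choose f θ hf hθ using hcoord
    let Θ : Fin r → Γ(RefHull.dual F, W) := fun i => ∑ η : Z, c η • θ η i
    have hΘ : ∀ (η : Z) (i : Fin r) v, TFPush7.ringVal η.1 ((Θ i).1 ⟨η.1, hmemW η.2⟩ v) =
        X.presheaf.germ W η.1 (hmemW η.2) (c η) * (X.presheaf.germ W η.1 (hmemW η.2) (f η i) * g η v i) := by
      intro η i v
      let ev : Γ(RefHull.dual F, W) →+ X.presheaf.stalk η.1 := AddMonoidHom.mk'
        (fun t => TFPush7.ringVal η.1 (t.1 ⟨η.1, hmemW η.2⟩ v)) fun t t' => by
          show TFPush7.ringVal η.1 ((t.1 ⟨η.1, hmemW η.2⟩ + t'.1 ⟨η.1, hmemW η.2⟩) v) = _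
          rw [LinearMap.add_apply, map_add]
      have hev : ∀ η' : Z, ev (c η' • θ η' i) = X.presheaf.germ W η.1 (hmemW η.2) (c η') * ev (θ η' i) := fun η' => by
        show TFPush7.ringVal η.1 (X.presheaf.germ W η.1 (hmemW η.2) (c η') • (θ η' i).1 ⟨η.1, hmemW η.2⟩ v) = _
        rw [map_smul, smul_eq_mul]
        rfl
      show ev (∑ η' : Z, c η' • θ η' i) = _
      rw [map_sum, Finset.sum_eq_single η]
      · rw [hev]; exact congrArg _ (hθ η i v)
      · intro η' _ hne
        rw [hev, hc0 η' η (Ne.symm hne), zero_mul]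
      · intro h; exact absurd (Finset.mem_univ η) h
    choose n hn using fun i => TFPush7.exists_hom_twist hF hB b (Θ i)
    let N := Finset.univ.sup n
    have hφ : ∀ i, ∃ φ : F ⟶ CohB1.tensorPow B N, ∀ (y : X) (hy : y ∈ W),
        ∃ γ : (CohB1.tensorPow B N).presheaf.stalk y, Function.Bijective (fun a : X.presheaf.stalk y => a • γ) ∧
          ∀ v, RefHull.stalkMapₗ φ y v = TFPush7.ringVal y ((Θ i).1 ⟨y, hy⟩ v) • γ := fun i => by
      have := hn i (N - n i)
      rwa [Nat.add_sub_cancel' (Finset.le_sup (Finset.mem_univ i))] at this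
    choose φ hφ using hφ
    obtain ⟨e, -⟩ := exists_powPowIso hLi m₀ N
    let ι : F ⟶ ∐ fun _ : Fin r => CohB1.tensorPow L (m₀ * N) :=
      ∑ i, (φ i ≫ e.hom) ≫ Sigma.ι (fun _ : Fin r => CohB1.tensorPow L (m₀ * N)) i
    have hπ : ∀ j, ι ≫ Sigma.desc (fun i => if i = j then 𝟙 _ else 0) = φ j ≫ e.hom := fun j => by
      rw [Preadditive.sum_comp, Finset.sum_eq_single j]
      · simp
      · intro i _ hne; simp [hne]
      · intro h; exact absurd (Finset.mem_univ j) h
    have hinj : ∀ η, η ∈ Z → Function.Injective (RefHull.stalkMapₗ ι η) := fun η hη => by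
      refine (injective_iff_map_eq_zero _).2 fun v hv => (g ⟨η, hη⟩).injective (funext fun i => ?_)
      have h1 : RefHull.stalkMapₗ (φ i ≫ e.hom) η v = 0 := by
        rw [← hπ i, TFPush7.stalkMap_comp, LinearMap.comp_apply, hv, map_zero]
      rw [TFPush7.stalkMap_comp, LinearMap.comp_apply] at h1
      have h2 : RefHull.stalkMapₗ (φ i) η v = 0 := TFPush7.stalkMap_injective_of_mono e.hom η (h1.trans (map_zero _).symm)
      obtain ⟨γ, hγ, hγv⟩ := hφ i η (hmemW hη)
      rw [hγv, hΘ ⟨η, hη⟩ i v] at h2
      have h3 := hγ.1 (h2.trans (zero_smul _ γ).symm)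
      rw [(hc ⟨η, hη⟩).mul_right_eq_zero, (hf ⟨η, hη⟩ i).mul_right_eq_zero] at h3
      rw [map_zero]
      exact h3
    refine ⟨m₀ * N, ι, TFNodal7.mono_of_stk_injective ι fun x => (injective_iff_map_eq_zero _).2 fun v hv => ?_,
      fun η hη => ?_⟩
    · by_contra hv0
      have hKq : Coh.IsQCoh (kernel ι) :=
        (Coherent.isCoh_kernel ι hF (KZeroLib.isCoh_sigma_finite ⟨inferInstance⟩ _ fun _ =>
          isCoh_of_isInvertible (isInvertible_tensorPow hLi _)).1).1
      obtain ⟨w, rfl⟩ := (TFPush7.mem_range_kernel_iff ι x v).2 hv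
      have hsupp : x ∈ CohB1.support (kernel ι) := fun hsub =>
        hv0 (by rw [@Subsingleton.elim _ hsub w 0, map_zero])
      obtain ⟨a, ha, hax⟩ := AssSch12.exists_ass_generalization (kernel ι) hKq hsupp
      have haF : Curv2.IsAssPoint F a := IsAssociatedPrime.map_of_injective ha
        (f := RefHull.stalkMapₗ (kernel.ι ι) a) (TFPush7.stalkMap_injective_of_mono _ a)
      by_cases hag : a ∈ genericPoints X
      · have haZ : a ∈ Z := hZ.2 (by
          haveI : _root_.IsReduced (X.presheaf.stalk a) := inferInstance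
          exact SerreDual.isField_stalk_of_generic hag)
        obtain ⟨hp, z, hz⟩ := (isAssociatedPrime_iff (R := X.presheaf.stalk a)).1 ha
        have h0 : z = 0 := by
          refine TFPush7.stalkMap_injective_of_mono (kernel.ι ι) a (Eq.trans ?_ (map_zero _).symm)
          exact hinj a haZ (((TFPush7.mem_range_kernel_iff ι a _).1 ⟨z, rfl⟩).trans (map_zero _).symm)
        exact hp.ne_top (hz.trans (eq_top_iff.2 fun r _ => by simp [h0]))
      · exact hass a (S7688.isClosed_of_not_generic hdim.le hag) haF
    · let _ := hη.toField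
      obtain ⟨q, -⟩ := TFNodal7.exists_cokernel_stalk ι η
      obtain ⟨s⟩ := exists_sigma_equiv (P := CohB1.tensorPow L (m₀ * N)) (isInvertible_tensorPow hLi _) r η
      obtain ⟨g₀⟩ := hfree η hη
      have hsurj : Function.Surjective (RefHull.stalkMapₗ ι η) := by
        let T : (Fin r → X.presheaf.stalk η) →ₗ[X.presheaf.stalk η] (Fin r → X.presheaf.stalk η) :=
          s.toLinearMap ∘ₗ RefHull.stalkMapₗ ι η ∘ₗ g₀.symm.toLinearMap
        have hT : Function.Surjective T := LinearMap.surjective_of_injective
          (s.injective.comp ((hinj η (hZ.2 hη)).comp g₀.symm.injective))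
        intro y
        obtain ⟨u, hu⟩ := hT (s y)
        exact ⟨g₀.symm u, s.injective hu⟩
      haveI : Subsingleton (ArtFunLib.QuotLift.St (∐ fun _ : Fin r => CohB1.tensorPow L (m₀ * N)) η ⧸
          LinearMap.range (ArtFunLib.QuotLift.stk ι η)) :=
        Submodule.Quotient.subsingleton_iff.2 (LinearMap.range_eq_top.2 hsurj)
      exact q.toEquiv.symm.subsingleton
  · rintro ⟨m, ι, hι, hcok⟩
    haveI := hι
    have hP : PicF.IsInvertible (CohB1.tensorPow L m) := isInvertible_tensorPow hLi m
    refine ⟨fun x hx hass => ?_, fun η hη => ?_⟩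
    · obtain ⟨e⟩ := exists_sigma_equiv hP r x
      obtain ⟨hp, v, hv⟩ := (isAssociatedPrime_iff (R := X.presheaf.stalk x)).1 hass
      have hv0 : v ≠ 0 := fun h => hp.ne_top (hv.trans (eq_top_iff.2 fun r _ => by simp [h]))
      haveI := AssSch12.finite_stalk hF x
      obtain ⟨t, ht, htz⟩ := TFPush7.exists_nzd_of_reduced (not_isField_of_isClosed hdim hx)
      rw [hv, Submodule.mem_colon_singleton, Submodule.mem_bot] at ht
      apply hv0
      apply TFPush7.stalkMap_injective_of_mono ι x
      apply e.injective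
      have h1 : t • e (RefHull.stalkMapₗ ι x v) = 0 :=
        (map_smul e t (RefHull.stalkMapₗ ι x v)).symm.trans ((congrArg e (((map_smul (RefHull.stalkMapₗ ι x) t v).symm.trans
          (congrArg (RefHull.stalkMapₗ ι x) ht)).trans (map_zero _))).trans (map_zero e))
      rw [map_zero, map_zero]
      funext i
      have h2 := congrFun h1 i
      rw [Pi.smul_apply, smul_eq_mul] at h2
      exact mem_nonZeroDivisors_iff_left.1 htz _ h2
    · obtain ⟨q, -⟩ := TFNodal7.exists_cokernel_stalk ι η
      obtain ⟨e⟩ := exists_sigma_equiv hP r η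
      haveI : Subsingleton (ArtFunLib.QuotLift.St (cokernel ι) η) := hcok η hη
      have hs : Function.Surjective (RefHull.stalkMapₗ ι η) := LinearMap.range_eq_top.1
        (Submodule.Quotient.subsingleton_iff.1 q.toEquiv.subsingleton)
      exact ⟨(LinearEquiv.ofBijective (RefHull.stalkMapₗ ι η)
        ⟨TFPush7.stalkMap_injective_of_mono ι η, hs⟩).trans e⟩

end Groth.Agent.S18913
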