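import Groth.Statements.S18914
import Groth.Agent.TF7.Restrict
import Groth.Agent.TF7.Exist
import Groth.Agent.EulerLib.Additive
-- import your own Groth.Agent.* helpers here

set_option autoImplicit false
set_option linter.style.haveILetI false
set_option backward.isDefEq.respectTransparency false
universe u
open CategoryTheory CategoryTheory.Limits AlgebraicGeometry
open TFNodal

namespace Groth.Agent.S18914

/-- Let k be an algebraically closed field of characteristic zero, X a reduced proper curve over k (a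
proper k-scheme of dimension one), and E, F₁, F₂ coherent O_X-modules that are torsion free (every
stalk is a torsion free module over the local ring: no nonzero element is killed by a
non-zero-divisor). Let q₁ : E → F₁ and q₂ : E → F₂ be epimorphisms, U a dense open subset of X and φ
: F₁|_U ≅ F₂|_U an isomorphism of the restricted quotients, q₁|_U ≫ φ = q₂|_U. Then there is an
isomorphism of quotients ψ : F₁ ≅ F₂, q₁ ≫ ψ = q₂, whose restriction to U is φ. -/
theorem result
    (k : Type u) [Field k] [IsAlgClosed k] [CharZero k]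
    (X : Scheme.{u}) [X.Over (Spec (CommRingCat.of k))] [IsProper (X ↘ Spec (CommRingCat.of k))]
    [AlgebraicGeometry.IsReduced X] (hdim : topologicalKrullDim X = 1)
    (E F₁ F₂ : X.Modules) (hE : Coh.IsCoh E) (hF₁ : Coh.IsCoh F₁) (hF₂ : Coh.IsCoh F₂)
    (htE : TorSh.IsTorsionFree E) (ht₁ : TorSh.IsTorsionFree F₁) (ht₂ : TorSh.IsTorsionFree F₂)
    (q₁ : E ⟶ F₁) (q₂ : E ⟶ F₂) [Epi q₁] [Epi q₂]
    (U : X.Opens) (hU : Dense (U : Set X))
    (φ : F₁.restrict U.ι ≅ F₂.restrict U.ι)
    (hφ : (Scheme.Modules.restrictFunctor U.ι).map q₁ ≫ φ.hom = (Scheme.Modules.restrictFunctor U.ι).map q₂) :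
    ∃ ψ : F₁ ≅ F₂, q₁ ≫ ψ.hom = q₂ ∧ (Scheme.Modules.restrictFunctor U.ι).map ψ.hom = φ.hom := by
  haveI := Groth.Agent.EulerLib.isNoetherian_of_proper (X := X) k
  have hmem : ∀ η ∈ genericPoints (X : Type u), η ∈ U := fun η hη => by
    obtain ⟨y, hy, hyU⟩ := Dense.inter_open_nonempty hU
      (⋃₀ {C | C ∈ irreducibleComponents (X : Type u) ∧ ¬ C = closure {η}})ᶜ
      (by
        rw [isOpen_compl_iff, Set.sUnion_eq_biUnion]
        exact ((TopologicalSpace.NoetherianSpace.finite_irreducibleComponents).subset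
          fun C hC => hC.1).isClosed_biUnion fun C hC => isClosed_of_mem_irreducibleComponents C hC.1)
      ⟨η, fun h => (Groth.Agent.TF7.mem_sUnion_components hη).1 h rfl⟩
    have hy' : η ⤳ y := by
      obtain ⟨η', hη', hs⟩ := Groth.Agent.TF7.exists_genericPoint_specializes y
      rw [specializes_iff_mem_closure] at hs ⊢
      by_contra hn
      exact hy ⟨_, ⟨hη', fun he => hn (he ▸ hs)⟩, hs⟩
    exact hy'.mem_open U.2 hyU
  have key : ∀ (G₁ G₂ : X.Modules) (p₁ : E ⟶ G₁) (p₂ : E ⟶ G₂) (χ : G₁.restrict U.ι ⟶ G₂.restrict U.ι),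
      Epi p₁ → Coh.IsCoh G₂ → TorSh.IsTorsionFree G₂ →
      (Scheme.Modules.restrictFunctor U.ι).map p₁ ≫ χ = (Scheme.Modules.restrictFunctor U.ι).map p₂ →
      ∃ g : G₁ ⟶ G₂, p₁ ≫ g = p₂ := by
    intro G₁ G₂ p₁ p₂ χ hp hc ht hχ
    haveI := hp
    refine ⟨Abelian.epiDesc p₁ p₂ (Groth.Agent.VarietyLib.eq_zero_of_stalks _ fun x v => ?_),
      Abelian.comp_epiDesc _ _ _⟩
    refine Groth.Agent.TF7.eq_zero_of_generic hc.1 ht _ fun η hη hs => ?_
    rw [Groth.Agent.TF7.spec_map]
    refine Groth.Agent.TF7.stalk_map_eq_zero_of_restrict _ U ?_ (hmem η hη) _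
    rw [Functor.map_comp, ← hχ, ← Category.assoc, ← Functor.map_comp, kernel.condition, Functor.map_zero, zero_comp]
  obtain ⟨a, ha⟩ := key F₁ F₂ q₁ q₂ φ.hom inferInstance hF₂ ht₂ hφ
  obtain ⟨b, hb⟩ := key F₂ F₁ q₂ q₁ φ.inv inferInstance hF₁ ht₁ (by rw [← hφ, Category.assoc, φ.hom_inv_id, Category.comp_id])
  refine ⟨⟨a, b, ?_, ?_⟩, ha, ?_⟩
  · rw [← cancel_epi q₁, ← Category.assoc, ha, hb, Category.comp_id]
  · rw [← cancel_epi q₂, ← Category.assoc, hb, ha, Category.comp_id]
  · haveI : Epi ((Scheme.Modules.restrictFunctor U.ι).map q₁) :=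
      ((Scheme.Modules.restrictFunctor U.ι).preservesEpimorphisms_of_isLeftAdjoint).preserves q₁
    rw [← cancel_epi ((Scheme.Modules.restrictFunctor U.ι).map q₁), hφ, ← Functor.map_comp, ha]

end Groth.Agent.S18914
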