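import Groth.Statements.S18915
import Groth.Agent.TFPush7.DepthTwo
import Groth.Agent.SDiv28.IsoCriterion
import Groth.Agent.Props12.Stalks
import Groth.Agent.OmegaLib.StalkCompat
import Groth.Agent.NeronLib.Regular
import Groth.Agent.CycLib28.InterPull
import Groth.Agent.S7688
import Groth.Agent.CAlgH3.RegularLocal

set_option autoImplicit false
set_option linter.style.haveILetI false
set_option backward.isDefEq.respectTransparency false
set_option maxHeartbeats 1000000
universe u
open CategoryTheory CategoryTheory.Limits AlgebraicGeometry IsLocalRing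
open scoped TensorProduct
open TFNodal

namespace Groth.Agent.S18915

/-- Let k be an algebraically closed field of characteristic zero, X a reduced proper curve over k (a
proper k-scheme of dimension one) without isolated points (no closed point is open, i.e. X is
one-dimensional at every point), C a smooth irreducible k-scheme of dimension one and c a closed
point of C. Put Z = X ×_k C with projections p_X and p_C, let Y be a nonempty finite set of closed
points of Z lying over c, and let j : U → Z be the inclusion of the open complement of Y. Then for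
every coherent torsion free O_X-module F (every stalk a torsion free module over the local ring),
the unit map p_X^* F → j_* j^* (p_X^* F) is an isomorphism. -/
theorem result
    (k : Type u) [Field k] [IsAlgClosed k] [CharZero k]
    (X : Scheme.{u}) [X.Over (Spec (CommRingCat.of k))] [IsProper (X ↘ Spec (CommRingCat.of k))]
    [AlgebraicGeometry.IsReduced X] (hdim : topologicalKrullDim X = 1)
    (hpure : ∀ x : X, IsClosed ({x} : Set X) → ¬ IsOpen ({x} : Set X))
    (C : Scheme.{u}) [C.Over (Spec (CommRingCat.of k))] [Smooth (C ↘ Spec (CommRingCat.of k))]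
    [IrreducibleSpace C] (hdimC : topologicalKrullDim C = 1)
    (c : C) (hc : IsClosed ({c} : Set C))
    (Y : Set ↑(pullback (X ↘ Spec (CommRingCat.of k)) (C ↘ Spec (CommRingCat.of k))))
    (hYfin : Y.Finite) (hYne : Y.Nonempty) (hYcl : ∀ z ∈ Y, IsClosed ({z} : Set _))
    (hYc : ∀ z ∈ Y, (pullback.snd (X ↘ Spec (CommRingCat.of k)) (C ↘ Spec (CommRingCat.of k))).base z = c)
    (U : (pullback (X ↘ Spec (CommRingCat.of k)) (C ↘ Spec (CommRingCat.of k))).Opens)
    (hU : (U : Set _) = Yᶜ)
    (F : X.Modules) (hF : Coh.IsCoh F) (htF : TorSh.IsTorsionFree F) :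
    IsIso ((Scheme.Modules.restrictAdjunction U.ι).unit.app
      ((Scheme.Modules.pullback (pullback.fst (X ↘ Spec (CommRingCat.of k)) (C ↘ Spec (CommRingCat.of k)))).obj F)) := by
  let qX := pullback.fst (X ↘ Spec (CommRingCat.of k)) (C ↘ Spec (CommRingCat.of k))
  let qC := pullback.snd (X ↘ Spec (CommRingCat.of k)) (C ↘ Spec (CommRingCat.of k))
  haveI : IsLocallyNoetherian X := LocallyOfFiniteType.isLocallyNoetherian (X ↘ Spec (CommRingCat.of k))
  haveI : Smooth qX := inferInstance
  haveI : IsLocallyNoetherian ↑(pullback (X ↘ Spec (CommRingCat.of k)) (C ↘ Spec (CommRingCat.of k))) :=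
    LocallyOfFiniteType.isLocallyNoetherian qX
  haveI : IsLocallyNoetherian C := LocallyOfFiniteType.isLocallyNoetherian (C ↘ Spec (CommRingCat.of k))
  haveI : JacobsonSpace X := LocallyOfFiniteType.jacobsonSpace (X ↘ Spec (CommRingCat.of k))
  have hcF : Coh.IsCoh ((Scheme.Modules.pullback qX).obj F) := CycLib28.InterSheaf.isCoh_pullback qX hF
  refine SDiv28.isIso_of_stalk_iso_or_two_le_depth _ hcF (RefHullLib.isQCoh_push_restrict _ hcF.1 U) fun z => ?_
  by_cases hzU : z ∈ U
  · exact Or.inl (Coherent.bijective_stalk_restrictUnit _ hzU)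
  have hzY : z ∈ Y := by
    by_contra h
    exact hzU (hU.ge h)
  refine Or.inr ⟨?_, TFPush7.notMem_ass_push_closed _ U (hYcl z hzY) hzU⟩
  have hxc : IsClosed ({qX z} : Set X) := qX.closePoints_subset_preimage_closedPoints (hYcl z hzY)
  let A := X.presheaf.stalk (qX z)
  let B := (pullback (X ↘ Spec (CommRingCat.of k)) (C ↘ Spec (CommRingCat.of k))).presheaf.stalk z
  -- the stalk of `F`
  have hA : ¬ IsField A := fun hf => hpure (qX z) hxc (by
    have hgen : qX z ∈ genericPoints X := by
      let _ := hf.toField
      obtain ⟨η, hη⟩ := QuasiSober.sober (isIrreducible_irreducibleComponent (x := qX z)) isClosed_irreducibleComponent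
      have h0 : ringKrullDim A = 0 := ringKrullDim_eq_zero_of_field A
      have hmax : IsMax (qX z) := by
        rw [← Order.coheight_eq_zero]
        have := (ringKrullDim_stalk_eq_coheight (qX z)).symm.trans h0
        exact_mod_cast this
      have hs : η ⤳ qX z := hη.specializes mem_irreducibleComponent
      have : η = qX z := (hs.antisymm (Scheme.le_iff_specializes.1 (hmax (Scheme.le_iff_specializes.2 hs)))).eq
      show closure {qX z} ∈ irreducibleComponents X
      rw [← this, hη.def]
      exact irreducibleComponent_mem_irreducibleComponents _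
    have hcomp : irreducibleComponent (qX z) = {qX z} := by
      have h1 : closure {qX z} ∈ irreducibleComponents X := hgen
      rw [hxc.closure_eq] at h1
      exact (h1.eq_of_le isIrreducible_irreducibleComponent
        (Set.singleton_subset_iff.2 mem_irreducibleComponent)).symm
    haveI : CompactSpace X := QuasiCompact.compactSpace_of_compactSpace (X ↘ Spec (CommRingCat.of k))
    haveI : AlgebraicGeometry.IsNoetherian X := {}
    have hfin := TopologicalSpace.NoetherianSpace.finite_irreducibleComponents (α := X)
    have e : ({qX z} : Set X) = (⋃₀ (irreducibleComponents X \ {{qX z}}))ᶜ := by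
      ext y
      simp only [Set.mem_singleton_iff, Set.mem_compl_iff, Set.mem_sUnion, not_exists, not_and]
      constructor
      · rintro rfl t ⟨ht, hne⟩ hy
        exact hne (((hcomp ▸ irreducibleComponent_mem_irreducibleComponents (qX z) :
          ({qX z} : Set X) ∈ irreducibleComponents X)).eq_of_le ht.1 (Set.singleton_subset_iff.2 hy)).symm
      · intro h
        by_contra hy
        refine h (irreducibleComponent y) ⟨irreducibleComponent_mem_irreducibleComponents y, fun e' => ?_⟩
          mem_irreducibleComponent
        exact hy (Set.mem_singleton_iff.1 (e'.le mem_irreducibleComponent))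
    rw [e, Set.sUnion_eq_biUnion]
    exact ((hfin.subset Set.sdiff_subset).isClosed_biUnion fun t ht =>
      isClosed_of_mem_irreducibleComponents t ht.1).isOpen_compl)
  haveI : Module.Finite A (F.presheaf.stalk (qX z)) := AssSch12.finite_stalk hF _
  haveI := htF (qX z)
  have hdF : 1 ≤ LocCoh.depth A (F.presheaf.stalk (qX z)) := by
    obtain ⟨t, ht, htz⟩ := TFPush7.exists_nzd_of_reduced hA
    exact TFPush7.one_le_depth_of_regular ht (IsRegular.isSMulRegular
      ⟨fun a b h => mul_cancel_left_mem_nonZeroDivisors htz |>.1 h, fun a b h => mul_cancel_right_mem_nonZeroDivisors htz |>.1 h⟩)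
  -- the fibre
  letI : Algebra A B := (qX.stalkMap z).hom.toAlgebra
  haveI : Module.Flat A B := Flat.stalkMap qX z
  haveI : IsLocalHom (algebraMap A B) := inferInstanceAs (IsLocalHom (qX.stalkMap z).hom)
  let w := qX.asFiber z
  let l : qX.fiber (qX z) ⟶ C := qX.fiberι (qX z) ≫ qC
  haveI : IsIso (X.fromSpecResidueField (qX z) ≫ (X ↘ Spec (CommRingCat.of k))) := by
    rw [← SpecMap_residueFieldIsoBase_inv (X ↘ Spec (CommRingCat.of k)) (qX z) hxc]; infer_instance
  have sq : IsPullback l (qX.fiberToSpecResidueField (qX z)) (C ↘ Spec (CommRingCat.of k))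
      (X.fromSpecResidueField (qX z) ≫ (X ↘ Spec (CommRingCat.of k))) :=
    (IsPullback.of_hasPullback qX (X.fromSpecResidueField (qX z))).paste_horiz
      (IsPullback.of_hasPullback (X ↘ Spec (CommRingCat.of k)) (C ↘ Spec (CommRingCat.of k))).flip
  haveI : IsIso l := sq.isIso_fst_of_isIso
  haveI hreg := NeronLib.isRegularLocalRing_stalk_of_smooth (C ↘ Spec (CommRingCat.of k)) (l w)
  have hlw : l w = c := by
    refine Eq.trans ?_ (hYc z hzY)
    show qC (qX.fiberι _ w) = qC z
    rw [qX.fiberι_asFiber]
  have hCf : ¬ IsField (C.presheaf.stalk (l w)) := fun hf => by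
    rw [hlw] at hf
    have hgen : genericPoint C = c := by
      let _ := hf.toField
      have h0 : ringKrullDim (C.presheaf.stalk c) = 0 := ringKrullDim_eq_zero_of_field _
      have hmax : IsMax c := by
        rw [← Order.coheight_eq_zero]
        have := (ringKrullDim_stalk_eq_coheight c).symm.trans h0
        exact_mod_cast this
      exact ((genericPoint_specializes c).antisymm
        (Scheme.le_iff_specializes.1 (hmax (Scheme.le_iff_specializes.2 (genericPoint_specializes c))))).eq
    have huniv : (Set.univ : Set C) = {c} := by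
      rw [← genericPoint_spec C, hgen, hc.closure_eq]
    haveI : Subsingleton C := Set.subsingleton_univ_iff.1 (huniv ▸ Set.subsingleton_singleton)
    haveI : DiscreteTopology C := Subsingleton.discreteTopology
    have h1 := topologicalKrullDim_zero_of_discreteTopology C
    rw [hdimC] at h1
    exact absurd h1 (by decide)
  obtain ⟨g, hg, hg0⟩ : ∃ g ∈ maximalIdeal (C.presheaf.stalk (l w)), g ≠ 0 := by
    by_contra h
    push Not at h
    exact hCf (isField_iff_maximalIdeal_eq.2 (eq_bot_iff.2 h))
  let φ : C.presheaf.stalk (l w) ⟶ (qX.fiber (qX z)).presheaf.stalk w := l.stalkMap w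
  haveI := CAlgH3.isDomain_of_isRegularLocalRing (C.presheaf.stalk (l w))
  haveI : IsDomain ((qX.fiber (qX z)).presheaf.stalk w) :=
    (asIso φ).commRingCatIsoToRingEquiv.symm.toMulEquiv.isDomain _
  have hdB : 1 ≤ LocCoh.depth B (B ⧸ ((maximalIdeal A).map (algebraMap A B) • (⊤ : Submodule B B))) := by
    have key : ∀ (v : ↑(pullback (X ↘ Spec (CommRingCat.of k)) (C ↘ Spec (CommRingCat.of k)))) (_ : v = z)
        (ψ : _ →+* (qX.fiber (qX z)).presheaf.stalk w), Function.Surjective ψ →
        RingHom.ker ψ = Ideal.map (qX.stalkMap v).hom (maximalIdeal (X.presheaf.stalk (qX v))) → IsLocalHom ψ →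
        1 ≤ LocCoh.depth B (B ⧸ ((maximalIdeal A).map (algebraMap A B) • (⊤ : Submodule B B))) := by
      rintro v rfl ψ hψ hker hloc
      obtain ⟨b, hb⟩ := hψ (φ g)
      have hb0 : φ g ≠ 0 := fun e => hg0 ((ConcreteCategory.bijective_of_isIso φ).1 (e.trans (map_zero _).symm))
      refine TFPush7.one_le_depth_of_regular (t := b) ?_ (fun a₁ a₂ h => ?_)
      · refine (mem_maximalIdeal b).2 fun hu => (mem_maximalIdeal g).1 hg ?_
        exact (isUnit_map_iff φ.hom g).1 (hb ▸ hu.map ψ)
      · obtain ⟨a₁, rfl⟩ := Submodule.Quotient.mk_surjective _ a₁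
        obtain ⟨a₂, rfl⟩ := Submodule.Quotient.mk_surjective _ a₂
        simp only at h
        rw [← Submodule.Quotient.mk_smul, ← Submodule.Quotient.mk_smul, Submodule.Quotient.eq] at h
        rw [Submodule.Quotient.eq]
        have hI : ∀ d : B, d ∈ (maximalIdeal A).map (algebraMap A B) • (⊤ : Submodule B B) ↔ ψ d = 0 := fun d => by
          rw [← RingHom.mem_ker, hker, smul_eq_mul, Ideal.mul_top]
          rfl
        rw [hI] at h ⊢
        rw [smul_eq_mul, smul_eq_mul, ← mul_sub, map_mul, hb] at h
        exact (mul_eq_zero.1 h).resolve_left hb0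
    obtain ⟨h1, h2⟩ := Props12.stalkMap_fiberι qX (qX z) w
    exact key _ (qX.fiberι_asFiber z) _ h1 h2 inferInstance
  obtain ⟨E, -⟩ := OmegaLib.exists_pullback_stalk_equiv qX F z
  show (2 : ℕ∞) ≤ LocCoh.depth B ((DerSch.stalkFunctor _ z).obj ((Scheme.Modules.pullback qX).obj F))
  rw [← CAlgH3.depth_congr E]
  refine le_of_le_of_eq ?_ (CommAlg6.depth_tensor_eq (A := A) (B := B) B (F.presheaf.stalk (qX z))).symm
  exact le_trans (by norm_num) (add_le_add hdF hdB)

end Groth.Agent.S18915
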