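import Groth.Statements.S18916
import Groth.Agent.RefHullLib.Eval
import Mathlib.AlgebraicGeometry.Stalk
import Groth.Agent.VarietyLib.Dual
-- import your own Groth.Agent.* helpers here

set_option autoImplicit false
set_option backward.isDefEq.respectTransparency false
universe u
open CategoryTheory CategoryTheory.Limits AlgebraicGeometry
open TFNodal

namespace Groth.Agent.S18916

/-- Let k be an algebraically closed field of characteristic zero, X a reduced proper curve over k (a
proper k-scheme of dimension one) without isolated points (no closed point is open, i.e. X is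
one-dimensional at every point) and F a coherent O_X-module. Then the dual 𝓗om(F, O_X) is torsion
free: no closed point of X is an associated point of it. -/
theorem result
    (k : Type u) [Field k] [IsAlgClosed k] [CharZero k]
    (X : Scheme.{u}) [X.Over (Spec (CommRingCat.of k))] [IsProper (X ↘ Spec (CommRingCat.of k))]
    [AlgebraicGeometry.IsReduced X] (hdim : topologicalKrullDim X = 1)
    (hpure : ∀ x : X, IsClosed ({x} : Set X) → ¬ IsOpen ({x} : Set X))
    (F : X.Modules) (hF : Coh.IsCoh F) (x : X) (hx : IsClosed ({x} : Set X)) :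
    ¬ Curv2.IsAssPoint (RefHull.dual F) x := by
  classical
  haveI : IsLocallyNoetherian X := LocallyOfFiniteType.isLocallyNoetherian (X ↘ Spec (CommRingCat.of k))
  haveI : CompactSpace X := (quasiCompact_iff_compactSpace (X ↘ Spec (CommRingCat.of k))).1 inferInstance
  haveI : IsNoetherian X := ⟨⟩
  let A := X.presheaf.stalk x
  haveI : _root_.IsReduced A := inferInstance
  haveI : IsNoetherianRing A := inferInstance
  obtain ⟨y, hy, hyx⟩ : ∃ y : X, y ≠ x ∧ y ⤳ x := by
    by_contra h
    push Not at h
    refine hpure x hx ?_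
    let T := {C ∈ irreducibleComponents X | x ∉ C}
    have hT : T.Finite := TopologicalSpace.NoetherianSpace.finite_irreducibleComponents.subset fun C hC => hC.1
    have hc : ({x} : Set X) = (⋃₀ T)ᶜ := by
      ext z
      constructor
      · rintro rfl ⟨C, hC, hzC⟩
        exact hC.2 hzC
      · intro hz
        by_contra hne
        obtain ⟨C, hC, hzC⟩ : ∃ C ∈ irreducibleComponents X, z ∈ C :=
          ⟨irreducibleComponent z, irreducibleComponent_mem_irreducibleComponents z, mem_irreducibleComponent⟩
        have hxC : x ∈ C := by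
          by_contra hn
          exact hz ⟨C, ⟨hC, hn⟩, hzC⟩
        obtain ⟨g, hg⟩ := QuasiSober.sober hC.1 (isClosed_of_mem_irreducibleComponents C hC)
        have hgx : g = x := by
          by_contra hn
          exact h g hn (hg.specializes hxC)
        have : z ∈ closure ({x} : Set X) := hgx ▸ hg.def.ge hzC
        rw [hx.closure_eq] at this
        exact hne this
    rw [hc, Set.sUnion_eq_biUnion]
    exact (Set.Finite.isClosed_biUnion (f := fun C => C) hT fun C hC => isClosed_of_mem_irreducibleComponents C hC.1).isOpen_compl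
  obtain ⟨p, hp⟩ : y ∈ Set.range (X.fromSpecStalk x) := by
    rw [Scheme.range_fromSpecStalk]; exact hyx
  have hpm : p ≠ IsLocalRing.closedPoint A := fun h => hy (by rw [← hp, h, Scheme.fromSpecStalk_closedPoint])
  obtain ⟨r, hrm, hr⟩ : ∃ r ∈ IsLocalRing.maximalIdeal A, ∀ q ∈ minimalPrimes A, r ∉ q := by
    by_contra h
    push Not at h
    have hfin : (minimalPrimes A).Finite := minimalPrimes.finite_of_isNoetherianRing A
    have hle : (IsLocalRing.maximalIdeal A : Set A) ⊆ ⋃ q ∈ hfin.toFinset, (q : Set A) := fun r hr => by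
      obtain ⟨q, hq, hrq⟩ := h r hr
      exact Set.mem_biUnion (hfin.mem_toFinset.2 hq) hrq
    obtain ⟨q, hq, hmq⟩ := (Ideal.subset_union_prime ⊥ ⊥ fun q hq _ _ => (hfin.mem_toFinset.1 hq).1.1).1 hle
    have hq' := hfin.mem_toFinset.1 hq
    have hqm : q = IsLocalRing.maximalIdeal A :=
      ((IsLocalRing.maximalIdeal.isMaximal A).eq_of_le hq'.1.1.ne_top hmq).symm
    have h2 := hq'.2 ⟨p.2, bot_le⟩ (hqm.symm ▸ IsLocalRing.le_maximalIdeal p.2.ne_top)
    exact hpm (PrimeSpectrum.ext (le_antisymm (IsLocalRing.le_maximalIdeal p.2.ne_top) (le_of_eq_of_le (show (IsLocalRing.closedPoint A).asIdeal = q from hqm.symm) h2)))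
  have hrreg : IsRegular r := by
    rw [isRegular_iff_mem_nonZeroDivisors, mem_nonZeroDivisors_iff_right]
    intro a ha
    have : a ∈ sInf (⊥ : Ideal A).minimalPrimes := by
      rw [Ideal.mem_sInf]
      intro q hq
      exact (hq.1.1.mem_or_mem (show a * r ∈ q by rw [ha]; exact zero_mem q)).resolve_right (hr q hq)
    rw [Ideal.sInf_minimalPrimes, ← Ideal.zero_eq_bot, ← nilradical, nilradical_eq_zero] at this
    exact this
  haveI : Module.IsTorsionFree A ((RefHull.dual F).presheaf.stalk x) := by
    refine Groth.Agent.RefHullLib.isTorsionFree_homSh ?_ (fun z => ?_) x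
    · haveI : F.IsQuasicoherent := hF.1
      exact Groth.Agent.Coherent.locallyFinGen_of_isFT F hF.2
    · refine ⟨fun {r} hr => fun a b hab => ?_⟩
      have hb := Groth.Agent.VarietyLib.gen_germ_bijective (Groth.Agent.AmpleLib.isGen_oneSec (⊤ : X.Opens)) (p := z) trivial
      obtain ⟨c, rfl⟩ := hb.2 a
      obtain ⟨d, rfl⟩ := hb.2 b
      have hcd : r * c = r * d := hb.1 (by simpa [mul_smul] using hab)
      exact congrArg (fun t => t • _) (hr.left hcd)
  intro hass
  obtain ⟨hprime, θ, hθ⟩ := Submodule.isAssociatedPrime_def.1 hass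
  have hrθ : r ∈ (Submodule.colon (⊥ : Submodule A ((RefHull.dual F).presheaf.stalk x)) {θ}).radical := hθ ▸ hrm
  obtain ⟨N, hN⟩ := hrθ
  rw [Submodule.mem_colon_singleton, Submodule.mem_bot] at hN
  have hθ0 : θ = 0 := (hrreg.pow N).isSMulRegular (M := (RefHull.dual F).presheaf.stalk x) (hN.trans (smul_zero _).symm)
  exact hprime.ne_top (hθ.trans (by
    rw [hθ0, Submodule.colon_singleton_zero, Ideal.radical_top]))

end Groth.Agent.S18916
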