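import Groth.Statements.S18917
import Groth.Agent.EulerLib.PartsStab
import Groth.Agent.Coherent.CohBC.HomSheaf
-- import your own Groth.Agent.* helpers here

set_option autoImplicit false
set_option backward.isDefEq.respectTransparency.types false
universe u
open CategoryTheory CategoryTheory.Limits AlgebraicGeometry
open VBCurve Groth.Agent

namespace Groth.Agent.S18917

/-- Let k be an algebraically closed field of characteristic zero, Y a smooth proper k-scheme of
dimension one, possibly disconnected, L an ample invertible O_Y-module (the polarization) and E a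
nonzero finite locally free O_Y-module. For an open and closed U ⊆ Y with inclusion j write E_U =
j_*(E|_U), the part of E supported on U (a direct summand of E), χ for the Euler characteristic over
k and α(M) = χ(M ⊗ L) − χ(M) for the multiplicity. Then E is semistable of dimension one with
respect to L if and only if, for every connected component U of Y with E_U ≠ 0, the module E_U is
semistable of dimension one with respect to L and has the same reduced Hilbert polynomial as E, that
is χ(E_U) · α(E) = χ(E) · α(E_U). (Equality of reduced Hilbert polynomials is the source's condition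
that the slope of E equals the slope of E|_U plus the correction term attached to the component.) -/
theorem result
    (k : Type u) [Field k] [IsAlgClosed k] [CharZero k]
    (Y : Scheme.{u}) [Y.Over (Spec (CommRingCat.of k))] [IsProper (Y ↘ Spec (CommRingCat.of k))]
    [Smooth (Y ↘ Spec (CommRingCat.of k))] (hdim : topologicalKrullDim Y = 1)
    (L : Y.Modules) (hL : CohB1.IsAmple L)
    (E : Y.Modules) (hE : FlatMod.IsFinLocFree E) (hE0 : ¬ IsZero E) :
    ShStab.IsSemistable k Y L E 1 ↔
      ∀ U : Y.Opens, IsClopen (U : Set Y) → _root_.IsConnected (U : Set Y) →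
        ¬ IsZero ((Scheme.Modules.pushforward U.ι).obj (E.restrict U.ι)) →
        ShStab.IsSemistable k Y L ((Scheme.Modules.pushforward U.ι).obj (E.restrict U.ι)) 1 ∧
          Curv2.euler k Y ((Scheme.Modules.pushforward U.ι).obj (E.restrict U.ι)) *
              (Curv2.euler k Y (CohB1.tensorMod E L) - Curv2.euler k Y E) =
            Curv2.euler k Y E *
              (Curv2.euler k Y (CohB1.tensorMod ((Scheme.Modules.pushforward U.ι).obj (E.restrict U.ι)) L) -
                Curv2.euler k Y ((Scheme.Modules.pushforward U.ι).obj (E.restrict U.ι))) := by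
  haveI := Groth.Agent.EulerLib.isNoetherian_of_proper (X := Y) k
  haveI : TopologicalSpace.NoetherianSpace ↥Y := inferInstance
  have hEc : Coh.IsCoh E := Groth.Agent.Coherent.CohBC.isCoh_of_isFinLocFree hE
  have hdeg : ∀ {F : Y.Modules} (hF : Coh.IsCoh F) {R : Polynomial ℚ}, ShStab.IsHilbPoly k Y L F R → R.natDegree ≤ 1 :=
    fun {F} hF {R} hR => (EulerLib.alpha_eq_interDeg k hL.1 hF hR
      (((topologicalKrullDim_subspace_le Y _).trans hdim.le) : _ ≤ ((1 : ℕ) : WithBot ℕ∞))).1
  have hcast : ∀ (F : Y.Modules), Coh.IsCoh F → ∀ P Q : Polynomial ℚ, ShStab.IsHilbPoly k Y L E P →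
      ShStab.IsHilbPoly k Y L F Q → (StabCat.RedEq 1 Q P ↔ Curv2.euler k Y F *
        (Curv2.euler k Y (CohB1.tensorMod E L) - Curv2.euler k Y E) =
        Curv2.euler k Y E * (Curv2.euler k Y (CohB1.tensorMod F L) - Curv2.euler k Y F)) := by
    intro F hF P Q hP hQ
    rw [EulerLib.redEq_one_iff (hdeg hF hQ) (hdeg hEc hP), (EulerLib.eval_zero_one k hQ).1,
      (EulerLib.eval_zero_one k hQ).2, (EulerLib.eval_zero_one k hP).1, (EulerLib.eval_zero_one k hP).2]
    exact_mod_cast Iff.rfl
  constructor
  · intro hs U hU _ hU0
    let W : Y.Opens := ⟨(U : Set Y)ᶜ, hU.1.isOpen_compl⟩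
    have hd : Disjoint (U : Set Y) W := disjoint_compl_right
    have hc : U ⊔ W = ⊤ := TopologicalSpace.Opens.ext (Set.union_compl_self _)
    obtain ⟨h1, h2⟩ := EulerLib.semistable_part k hL hs hd hc hU0
    have hc' : Coh.IsCoh (EulerLib.part U E) := EulerLib.isCoh_part hd hc hEc
    exact ⟨h1, (hcast _ hc' _ _ (EulerLib.isHilbPoly_hp k hL E hEc) (EulerLib.isHilbPoly_hp k hL _ hc')).1
      (h2 (EulerLib.isHilbPoly_hp k hL E hEc) (EulerLib.isHilbPoly_hp k hL _ hc'))⟩
  · intro h
    refine EulerLib.semistable_of_parts k hL hEc hE0 hdim.le (EulerLib.isHilbPoly_hp k hL E hEc) fun y hy => ?_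
    obtain ⟨h1, h2⟩ := h (EulerLib.compOpen y) (EulerLib.isClopen_connectedComponent_of_noetherian y)
      isConnected_connectedComponent hy
    exact ⟨h1, fun Q hQ => (hcast _ h1.1 _ Q (EulerLib.isHilbPoly_hp k hL E hEc) hQ).2 h2⟩

end Groth.Agent.S18917
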