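import Groth.Statements.S18919
import Groth.Agent.TFPush7.IsoNhd
import Groth.Agent.TFPush7.NodeFinite
import Groth.Agent.Models7.PointBlowUp
import Groth.Agent.RamDiv8.Main
import Groth.Agent.KZeroLib.SigmaCoh
import Groth.Agent.CurveRR24.Sky
import Groth.Agent.SDiv28.WeakAssUnit

set_option autoImplicit false
set_option linter.style.haveILetI false
set_option backward.isDefEq.respectTransparency false
set_option maxHeartbeats 1000000
universe u
open CategoryTheory CategoryTheory.Limits AlgebraicGeometry
open TFNodal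

namespace Groth.Agent.S18919

open IsLocalRing TopologicalSpace

local notation "St" => DerSch.stalkFunctor

theorem biprod_shortExact' {X : Scheme.{u}} (A B : X.Modules) :
    (ShortComplex.mk (coprod.inl : A ⟶ A ⨿ B) (coprod.desc 0 (𝟙 B)) (by simp)).ShortExact :=
  ShortComplex.Splitting.shortExact
    { r := coprod.desc (𝟙 A) 0
      s := coprod.inr
      id := by ext <;> simp }

theorem idealStalk {X : Scheme.{u}} {x : X} (hx : IsClosed ({x} : Set X)) :
    Nonempty ((St X x).obj (ClSub.idealMod (Scheme.IdealSheafData.vanishingIdeal (⟨{x}, hx⟩ : Closeds X)))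
      ≃ₗ[X.presheaf.stalk x] maximalIdeal (X.presheaf.stalk x)) := by
  let I := Scheme.IdealSheafData.vanishingIdeal (⟨{x}, hx⟩ : Closeds X)
  haveI : Mono (ClSub.idealModι I) := AmpleLib.mono_idealModι I
  let u : (St X x).obj (Coh.structureModule X) ≃ₗ[X.presheaf.stalk x] X.presheaf.stalk x :=
    (SDiv28.unitStalkEquiv x).symm
  let g : (St X x).obj (ClSub.idealMod I) →ₗ[X.presheaf.stalk x] X.presheaf.stalk x :=
    u.toLinearMap ∘ₗ ((St X x).map (ClSub.idealModι I)).hom
  have hinj : Function.Injective g :=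
    u.injective.comp ((ModuleCat.mono_iff_injective ((St X x).map (ClSub.idealModι I))).1 inferInstance)
  have hr : LinearMap.range g = maximalIdeal (X.presheaf.stalk x) := by
    rw [LinearMap.range_comp, RamDiv8.range_idealModι_stalk, Submodule.map_smul'', Submodule.map_top,
      LinearEquiv.range, Models7.stk_vanishingIdeal_point x hx]
    simp
  exact ⟨(LinearEquiv.ofInjective g hinj).trans (LinearEquiv.ofEq _ _ hr)⟩

/-- Let k be an algebraically closed field of characteristic zero, X a connected proper curve over k (a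
proper k-scheme of dimension one) whose closed points are smooth points or nodes, and F a coherent
torsion free O_X-module (every stalk a torsion free module over the local ring). Let x be a node at
which the stalk F_x is isomorphic, as an O_{X,x}-module, to m_x^{⊕a} ⊕ O_{X,x}^{⊕b} (F of type given
by a and b at x). Then there is an open neighbourhood U of x containing no other node such that F|_U
is isomorphic to I|_U^{⊕a} ⊕ O_U^{⊕b}, where I ⊆ O_X is the ideal sheaf of the reduced closed point
x (existence of an isomorphism; the source produces one whose stalk at x is the given one). The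
published statement assumes F of uniform multirank r with b = r − a; this row allows any a and b,
the argument being local at x. -/
theorem result
    (k : Type u) [Field k] [IsAlgClosed k] [CharZero k]
    (X : Scheme.{u}) [X.Over (Spec (CommRingCat.of k))] [IsProper (X ↘ Spec (CommRingCat.of k))]
    [ConnectedSpace X] (hdim : topologicalKrullDim X = 1) (hnod : Curv2.AtWorstNodal k X)
    (F : X.Modules) (hF : Coh.IsCoh F) (htF : TorSh.IsTorsionFree F)
    (x : X) (hx : Curv2.IsNode k X x) (a b : ℕ)
    (hΦ : Nonempty (F.presheaf.stalk x ≃ₗ[X.presheaf.stalk x]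
      ((Fin a → IsLocalRing.maximalIdeal (X.presheaf.stalk x)) × (Fin b → X.presheaf.stalk x)))) :
    ∃ U : X.Opens, x ∈ U ∧ (∀ y ∈ U, Curv2.IsNode k X y → y = x) ∧
      Nonempty (F.restrict U.ι ≅
        (∐ fun _ : Fin a =>
            (ClSub.idealMod (Scheme.IdealSheafData.vanishingIdeal (⟨{x}, hx.1⟩ : TopologicalSpace.Closeds X))).restrict U.ι) ⨿
          (∐ fun _ : Fin b => Coh.structureModule (↑U : Scheme.{u}))) := by
  haveI := CurveRR24.isLocallyNoetherian_of_proper k (X := X)
  obtain ⟨-, hclosed⟩ := TFPush7.finite_nodes k hdim hnod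
  let O : X.Opens := ⟨{y | Curv2.IsNode k X y ∧ y ≠ x}ᶜ, (hclosed _ fun y hy => hy.1).isOpen_compl⟩
  let I := ClSub.idealMod (Scheme.IdealSheafData.vanishingIdeal (⟨{x}, hx.1⟩ : Closeds X))
  let A : X.Modules := ∐ fun _ : Fin a => I
  let B : X.Modules := ∐ fun _ : Fin b => Coh.structureModule X
  let fI : Fin a → X.Modules := fun _ => I
  let fO : Fin b → X.Modules := fun _ => Coh.structureModule X
  have hA : Coh.IsCoh A := KZeroLib.isCoh_sigma_finite ⟨inferInstance⟩ _ fun _ => CurveRR24.isCoh_idealMod' _
  have hB : Coh.IsCoh B := KZeroLib.isCoh_sigma_finite ⟨inferInstance⟩ _ fun _ => Coherent.isCoh_structureModule X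
  have hAB : Coh.IsCoh (A ⨿ B) :=
    Coherent.isCoh_X₂ (biprod_shortExact' A B) hA hB
  obtain ⟨eI⟩ := idealStalk hx.1
  let eA : (St X x).obj A ≃ₗ[X.presheaf.stalk x] (Fin a → maximalIdeal (X.presheaf.stalk x)) :=
    ((PreservesCoproduct.iso (St X x) fI) ≪≫ (biproduct.isoCoproduct _).symm ≪≫
      ModuleCat.biproductIsoPi _).toLinearEquiv.trans (LinearEquiv.piCongrRight fun _ => eI)
  let eB : (St X x).obj B ≃ₗ[X.presheaf.stalk x] (Fin b → X.presheaf.stalk x) :=
    ((PreservesCoproduct.iso (St X x) fO) ≪≫ (biproduct.isoCoproduct _).symm ≪≫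
      ModuleCat.biproductIsoPi _).toLinearEquiv.trans
        (LinearEquiv.piCongrRight fun _ => (SDiv28.unitStalkEquiv x).symm)
  let eG : (St X x).obj (A ⨿ B) ≃ₗ[X.presheaf.stalk x]
      ((Fin a → maximalIdeal (X.presheaf.stalk x)) × (Fin b → X.presheaf.stalk x)) :=
    ((PreservesColimitPair.iso (St X x) A B).symm ≪≫ (biprod.isoCoprod _ _).symm ≪≫
      ModuleCat.biprodIsoProd _ _).toLinearEquiv.trans (eA.prodCongr eB)
  obtain ⟨e⟩ := hΦ
  obtain ⟨U, hxU, hUO, ⟨E⟩⟩ :=
    TFPush7.exists_nhd_iso_of_stalk_iso hF hAB (e.trans eG.symm) (O := O) (fun h => h.2 rfl)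
  refine ⟨U, hxU, fun y hy hn => by_contra fun hne => hUO hy ⟨hn, hne⟩, ⟨E ≪≫ ?_⟩⟩
  let R := Scheme.Modules.restrictFunctor U.ι
  exact (PreservesColimitPair.iso R A B).symm ≪≫ coprod.mapIso (PreservesCoproduct.iso R fI)
    ((PreservesCoproduct.iso R fO) ≪≫ Sigma.mapIso fun _ =>
      (Scheme.Modules.restrictFunctorIsoPullback U.ι).app _ ≪≫ PicLoc.pullbackStructureIso _)

end Groth.Agent.S18919
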