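import Groth.Statements.S18920
import Mathlib

set_option linter.all false

set_option autoImplicit false
universe u
open CAlg

open IsLocalRing
open scoped TensorProduct

namespace Groth.Agent.S18920

/-- Let M be a commutative monoid, s ≥ 1, and ξ_1, …, ξ_s elements of M with ξ_i ^ (s!/i) = 1 for 1 ≤ i
≤ s (an (s!/i)-th root of unity for each i). Suppose that for every finitely supported function d on
{1, …, s} with Σ_i i · d_i = s! the product ∏_i ξ_i ^ d_i equals 1. Then ξ_1 ^ j = ξ_j for every 1 ≤
j ≤ s. (The source works with roots of unity in the complex numbers.) -/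
theorem result
    {M : Type u} [CommMonoid M] (s : ℕ) (hs : 1 ≤ s) (ξ : ℕ → M)
    (hξ : ∀ i : ℕ, 1 ≤ i → i ≤ s → ξ i ^ (s.factorial / i) = 1)
    (hprod : ∀ d : ℕ →₀ ℕ, (∀ i ∈ d.support, 1 ≤ i ∧ i ≤ s) →
      (d.sum fun i n => i * n) = s.factorial → (d.prod fun i n => ξ i ^ n) = 1)
    (j : ℕ) (hj : 1 ≤ j) (hjs : j ≤ s) :
    ξ 1 ^ j = ξ j := by
  classical
  have hjf : j ≤ s.factorial := le_trans hjs (Nat.self_le_factorial s)
  have h1 : ξ 1 ^ s.factorial = 1 := by simpa using hξ 1 le_rfl hs
  have h2 := hprod (Finsupp.single j 1 + Finsupp.single 1 (s.factorial - j)) (fun i hi => by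
      have := Finsupp.support_add hi
      rcases Finset.mem_union.1 this with h | h <;> have := Finsupp.support_single_subset h <;>
        rw [Finset.mem_singleton] at this <;> subst this <;> omega) (by
      rw [Finsupp.sum_add_index' (fun i => mul_zero i) (fun i a b => mul_add i a b),
        Finsupp.sum_single_index (mul_zero _), Finsupp.sum_single_index (mul_zero _)]
      omega)
  rw [Finsupp.prod_add_index' (fun i => pow_zero _) (fun i a b => pow_add _ a b)] at h2
  have hsing : ∀ a b : ℕ, ((Finsupp.single a b).prod fun i n => ξ i ^ n) = ξ a ^ b := fun a b =>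
    Finsupp.prod_single_index (pow_zero (ξ a))
  rw [hsing, hsing, pow_one] at h2
  calc ξ 1 ^ j = ξ 1 ^ j * (ξ j * ξ 1 ^ (s.factorial - j)) := by rw [h2, mul_one]
    _ = ξ j * ξ 1 ^ (j + (s.factorial - j)) := by rw [pow_add, mul_left_comm]
    _ = ξ j := by rw [Nat.add_sub_cancel' hjf, h1, mul_one]

end Groth.Agent.S18920
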