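import Groth.Statements.S18921
import Groth.Agent.EulerLib.PartsLine
import Groth.Agent.RelVAFib14.Main
import Groth.Agent.WeilFin.Bundle
import Groth.Agent.Coherent.CohBC.HomSheaf
-- import your own Groth.Agent.* helpers here

set_option autoImplicit false
set_option backward.isDefEq.respectTransparency.types false
universe u
open CategoryTheory CategoryTheory.Limits AlgebraicGeometry
open VBCurve Groth.Agent

namespace Groth.Agent.S18921

/-- Let k be an algebraically closed field of characteristic zero, Y a smooth proper k-scheme of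
dimension one, possibly disconnected but with no isolated points (every connected component is a
curve), and L an ample invertible O_Y-module. Say (Y, L) has property P when for any two finite
locally free O_Y-modules E, F with nowhere-zero stalks (support equal to Y) that are semistable of
dimension one with respect to L, the tensor product E ⊗ F is again semistable. If (Y, L) has
property P then for every connected component U of Y, with j : U → Y the inclusion, O_U =
j_*(O_Y|_U) and L_U = j_*(L|_U), the Euler characteristics over k satisfy χ(O_U) · (χ(L) − χ(O_Y)) =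
χ(O_Y) · (χ(L_U) − χ(O_U)); in words, χ(O_U)/deg(L|_U) is the same for all components and equals
χ(O_Y)/deg L. -/
theorem result
    (k : Type u) [Field k] [IsAlgClosed k] [CharZero k]
    (Y : Scheme.{u}) [Y.Over (Spec (CommRingCat.of k))] [IsProper (Y ↘ Spec (CommRingCat.of k))]
    [Smooth (Y ↘ Spec (CommRingCat.of k))] (hdim : topologicalKrullDim Y = 1)
    (hpure : ∀ y : Y, ¬ IsOpen ({y} : Set Y))
    (L : Y.Modules) (hL : CohB1.IsAmple L)
    (hP : ∀ E F : Y.Modules, FlatMod.IsFinLocFree E → FlatMod.IsFinLocFree F →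
      (∀ y : Y, ¬ Subsingleton (E.presheaf.stalk y)) → (∀ y : Y, ¬ Subsingleton (F.presheaf.stalk y)) →
      ShStab.IsSemistable k Y L E 1 → ShStab.IsSemistable k Y L F 1 →
      ShStab.IsSemistable k Y L (CohB1.tensorMod E F) 1)
    (U : Y.Opens) (hUc : IsClopen (U : Set Y)) (hUconn : _root_.IsConnected (U : Set Y)) :
    Curv2.euler k Y ((Scheme.Modules.pushforward U.ι).obj ((Coh.structureModule Y).restrict U.ι)) *
        (Curv2.euler k Y L - Curv2.euler k Y (Coh.structureModule Y)) =
      Curv2.euler k Y (Coh.structureModule Y) *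
        (Curv2.euler k Y ((Scheme.Modules.pushforward U.ι).obj (L.restrict U.ι)) -
          Curv2.euler k Y ((Scheme.Modules.pushforward U.ι).obj ((Coh.structureModule Y).restrict U.ι))) := by
  haveI := EulerLib.isNoetherian_of_proper (X := Y) k
  haveI : TopologicalSpace.NoetherianSpace ↥Y := inferInstance
  obtain ⟨N, hN, hN0⟩ := EulerLib.exists_line_euler_zero k hdim.le hpure
  have hNf : FlatMod.IsFinLocFree N := RelVAFib14.isFinLocFree_of_isInvertible hN
  have hOc : Coh.IsCoh (Coh.structureModule Y) := Groth.Agent.Coherent.isCoh_structureModule Y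
  have hNc := Groth.Agent.Coherent.CohBC.isCoh_of_isFinLocFree hNf
  have hNNf : FlatMod.IsFinLocFree (CohB1.tensorMod N N) := WeilFin.isFinLocFree_tensorMod hNf hNf
  have hNNc := Groth.Agent.Coherent.CohBC.isCoh_of_isFinLocFree hNNf
  have hdeg : ∀ {G : Y.Modules} (hG : Coh.IsCoh G) {R : Polynomial ℚ}, ShStab.IsHilbPoly k Y L G R → R.natDegree ≤ 1 :=
    fun {G} hG {R} hR => (EulerLib.alpha_eq_interDeg k hL.1 hG hR
      (((topologicalKrullDim_subspace_le Y _).trans hdim.le) : _ ≤ ((1 : ℕ) : WithBot ℕ∞))).1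
  have hev : ∀ {G : Y.Modules} (hG : Coh.IsCoh G) {R : Polynomial ℚ}, ShStab.IsHilbPoly k Y L G R →
      R.eval 0 = (Curv2.euler k Y G : ℚ) ∧ StabCat.alpha 1 R =
        ((Curv2.euler k Y (CohB1.tensorMod G L) - Curv2.euler k Y G : ℤ) : ℚ) := fun {G} hG {R} hR => by
    refine ⟨(EulerLib.eval_zero_one k hR).1, ?_⟩
    rw [(EulerLib.alpha_one_of_natDegree_le (hdeg hG hR)).1, (EulerLib.eval_zero_one k hR).1,
      (EulerLib.eval_zero_one k hR).2]
    push_cast
    first | rfl | ring
  obtain ⟨y₀, hy₀⟩ := hUconn.nonempty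
  -- stalks of an invertible module
  have hstalk : ∀ y : Y, ¬ Subsingleton (N.presheaf.stalk y) := by
    intro x hsub
    obtain ⟨V, hxV, g, hg⟩ := Groth.Agent.PicLib.exists_isGen hN x
    haveI := hsub
    obtain ⟨O, hxO, i, j, hij⟩ := N.presheaf.germ_eq (C := Ab) x hxV hxV g (0 : Γ(N, V)) (Subsingleton.elim _ _)
    have h0 : Groth.Agent.Coherent.resM N (leOfHom i) g = 0 := hij.trans (map_zero (N.presheaf.map j.op).hom)
    have h1 := (hg O (leOfHom i)).1 (a₁ := (1 : Γ(Y, O))) (a₂ := (0 : Γ(Y, O))) (by simp only [h0, smul_zero])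
    haveI : Nonempty O := ⟨⟨x, hxO⟩⟩
    exact one_ne_zero h1
  -- `N` is semistable
  have hPN := EulerLib.isHilbPoly_hp k hL N hNc
  have hPN0 : (EulerLib.hp k hL N hNc).eval 0 = 0 :=
    EulerLib.parts_induction k hL (fun P => P.eval 0 = 0) (by simp) (fun P Q hP hQ => by simp [hP, hQ]) hNc
      (fun y Q hQ => by rw [(EulerLib.eval_zero_one k hQ).1, hN0 y]; simp) hPN
  have hcon : ∀ y : Y, IsClopen (EulerLib.compOpen y : Set Y) ∧ _root_.IsConnected (EulerLib.compOpen y : Set Y) :=
    fun y => ⟨EulerLib.isClopen_connectedComponent_of_noetherian y, isConnected_connectedComponent⟩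
  have hNs : ShStab.IsSemistable k Y L N 1 := by
    refine EulerLib.semistable_of_parts k hL hNc (fun h => EulerLib.not_isZero_part (U := EulerLib.compOpen y₀)
      mem_connectedComponent (hstalk y₀) ?_) hdim.le hPN
      fun y _ => ⟨EulerLib.semistable_part_line k hdim.le hpure _ (hcon y).1 (hcon y).2 hL hN, fun Q hQ => ?_⟩
    · obtain ⟨W, hd, hc⟩ := EulerLib.compl_parts y₀
      exact IsZero.of_mono (EulerLib.partIncl hd hc N) h
    · obtain ⟨W, hd, hc⟩ := EulerLib.compl_parts y
      rw [EulerLib.redEq_one_iff (hdeg (EulerLib.isCoh_part hd hc hNc) hQ) (hdeg hNc hPN), hPN0,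
        (EulerLib.eval_zero_one k hQ).1, hN0 y]
      simp
  have hNNs := hP N N hNf hNf hstalk hstalk hNs hNs
  have hPNN := EulerLib.isHilbPoly_hp k hL _ hNNc
  set PNN := EulerLib.hp k hL _ hNNc
  have hαT : 0 < StabCat.alpha 1 PNN := EulerLib.alpha_pos_self k hL hNNc hNNs.2.1 hNNs.2.2.1 hPNN
  set c : ℚ := -(PNN.eval 0) / StabCat.alpha 1 PNN with hc'
  -- the relation on one component
  have hcomp : ∀ y : Y, ∀ {Q : Polynomial ℚ},
      ShStab.IsHilbPoly k Y L (EulerLib.part (EulerLib.compOpen y) (Coh.structureModule Y)) Q →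
        Q.eval 0 = c * StabCat.alpha 1 Q := by
    intro y Q hQ
    obtain ⟨W, hd, hc⟩ := EulerLib.compl_parts y
    have cO := EulerLib.isCoh_part hd hc hOc
    have cN := EulerLib.isCoh_part hd hc hNc
    have cNN := EulerLib.isCoh_part hd hc hNNc
    have sN := EulerLib.semistable_part_line k hdim.le hpure _ (hcon y).1 (hcon y).2 hL hN
    have pN := EulerLib.alpha_pos_self k hL cN sN.2.1 sN.2.2.1 (EulerLib.isHilbPoly_hp k hL _ cN)
    obtain ⟨rE, rF, hr⟩ := EulerLib.euler_parts_tensor k hdim.le (EulerLib.compOpen y) (hcon y).1 (hcon y).2 hNf hNf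
    obtain ⟨h1, h2, h3, h4⟩ := hr L hL.1
    simp only [hN0 y, mul_zero, add_zero, zero_sub] at h1
    simp only [] at h2 h3 h4
    rw [(hev cN (EulerLib.isHilbPoly_hp k hL _ cN)).2, EulerLib.euler_part_tensor k hd hc] at pN
    have pN' : (0 : ℤ) < Curv2.euler k Y (EulerLib.part (EulerLib.compOpen y) (CohB1.tensorMod N L)) -
        Curv2.euler k Y (EulerLib.part (EulerLib.compOpen y) N) := by exact_mod_cast pN
    obtain ⟨hQ0, hQα⟩ := hev cO hQ
    rw [EulerLib.euler_part_tensor k hd hc, EulerLib.euler_congr k Y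
      ((Scheme.Modules.pushforward (EulerLib.compOpen y).ι).mapIso
        ((Scheme.Modules.restrictFunctor (EulerLib.compOpen y).ι).mapIso (Groth.Agent.AmpleLib.unitTensorIso L)))] at hQα
    set χ : ℤ := Curv2.euler k Y (EulerLib.part (EulerLib.compOpen y) (Coh.structureModule Y))
    set d : ℤ := Curv2.euler k Y (EulerLib.part (EulerLib.compOpen y) L) - χ with hd'
    have hrE : (rE : ℚ) ≠ 0 := fun h0 => by
      rw [show rE = 0 from by exact_mod_cast h0] at h2; simp at h2; omega
    have hrF : (rF : ℚ) ≠ 0 := fun h0 => by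
      rw [show rF = 0 from by exact_mod_cast h0] at h3; simp at h3; omega
    have hQNN := EulerLib.isHilbPoly_hp k hL _ cNN
    have hd0 : d ≠ 0 := fun h0 => by rw [h0, mul_zero] at h2; omega
    obtain ⟨a0, a1⟩ := hev cNN hQNN
    rw [EulerLib.euler_part_tensor k hd hc] at a1
    have nNN : ¬ IsZero (EulerLib.part (EulerLib.compOpen y) (CohB1.tensorMod N N)) := fun hz => by
      rw [EulerLib.hilb_zero k hL hz hQNN] at a1
      simp [StabCat.alpha] at a1
      have : (rE : ℤ) * rF * d = 0 := by rw [← h4]; exact_mod_cast a1.symm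
      rcases mul_eq_zero.1 this with h | h
      · rcases mul_eq_zero.1 h with h | h
        · exact hrE (by exact_mod_cast h)
        · exact hrF (by exact_mod_cast h)
      · exact hd0 h
    obtain ⟨-, hred⟩ := EulerLib.semistable_part k hL hNNs hd hc nNN
    have h := (EulerLib.redEq_one_iff (hdeg cNN hQNN) (hdeg hNNc hPNN)).1 (hred hPNN hQNN)
    rw [← (EulerLib.alpha_one_of_natDegree_le (hdeg cNN hQNN)).1,
      ← (EulerLib.alpha_one_of_natDegree_le (hdeg hNNc hPNN)).1, a0, a1, h4, h1] at h
    rw [hQ0, hQα, hc']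
    push_cast at h ⊢
    rw [div_mul_eq_mul_div, eq_div_iff hαT.ne']
    have h' : ((rE : ℚ) * rF) * (-((χ : ℚ) * StabCat.alpha 1 PNN)) = ((rE : ℚ) * rF) * (PNN.eval 0 * (d : ℚ)) := by
      linarith
    have := mul_left_cancel₀ (mul_ne_zero hrE hrF) h'
    linarith
  have hO := EulerLib.isHilbPoly_hp k hL _ hOc
  have htot : (EulerLib.hp k hL _ hOc).eval 0 = c * StabCat.alpha 1 (EulerLib.hp k hL _ hOc) :=
    EulerLib.parts_induction k hL (fun P => P.eval 0 = c * StabCat.alpha 1 P) (by simp [StabCat.alpha])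
      (fun P Q hP hQ => by simp only [Polynomial.eval_add, EulerLib.alpha_add, hP, hQ, mul_add]) hOc hcomp hO
  rw [(hev hOc hO).1, (hev hOc hO).2, EulerLib.euler_congr k Y (Groth.Agent.AmpleLib.unitTensorIso L)] at htot
  have hUy : U = EulerLib.compOpen y₀ := TopologicalSpace.Opens.ext
    (Set.Subset.antisymm (hUconn.isPreconnected.subset_connectedComponent hy₀) (hUc.connectedComponent_subset hy₀))
  obtain ⟨W, hd, hc⟩ := EulerLib.compl_parts y₀
  have cO := EulerLib.isCoh_part hd hc hOc
  have h := hcomp y₀ (EulerLib.isHilbPoly_hp k hL _ cO)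
  rw [(hev cO (EulerLib.isHilbPoly_hp k hL _ cO)).1, (hev cO (EulerLib.isHilbPoly_hp k hL _ cO)).2,
    EulerLib.euler_part_tensor k hd hc,
    EulerLib.euler_congr k Y ((Scheme.Modules.pushforward (EulerLib.compOpen y₀).ι).mapIso
      ((Scheme.Modules.restrictFunctor (EulerLib.compOpen y₀).ι).mapIso (Groth.Agent.AmpleLib.unitTensorIso L)))] at h
  rw [hUy]
  show Curv2.euler k Y (EulerLib.part (EulerLib.compOpen y₀) (Coh.structureModule Y)) * _ =
    _ * (Curv2.euler k Y (EulerLib.part (EulerLib.compOpen y₀) L) -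
      Curv2.euler k Y (EulerLib.part (EulerLib.compOpen y₀) (Coh.structureModule Y)))
  push_cast at h htot
  have hres : ((Curv2.euler k Y (EulerLib.part (EulerLib.compOpen y₀) (Coh.structureModule Y)) : ℤ) : ℚ) *
      ((Curv2.euler k Y L : ℚ) - (Curv2.euler k Y (Coh.structureModule Y) : ℚ)) =
      (Curv2.euler k Y (Coh.structureModule Y) : ℚ) *
        ((Curv2.euler k Y (EulerLib.part (EulerLib.compOpen y₀) L) : ℚ) -
          (Curv2.euler k Y (EulerLib.part (EulerLib.compOpen y₀) (Coh.structureModule Y)) : ℚ)) := by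
    linear_combination ((Curv2.euler k Y L : ℚ) - (Curv2.euler k Y (Coh.structureModule Y) : ℚ)) * h -
      ((Curv2.euler k Y (EulerLib.part (EulerLib.compOpen y₀) L) : ℚ) -
        (Curv2.euler k Y (EulerLib.part (EulerLib.compOpen y₀) (Coh.structureModule Y)) : ℚ)) * htot
  exact_mod_cast hres

end Groth.Agent.S18921
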