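import Groth.Statements.S18922
import Groth.Agent.CycLib28.StalkLocal
import Groth.Agent.Models7.StalkAtPrime
-- import your own Groth.Agent.* helpers here

set_option autoImplicit false
set_option backward.isDefEq.respectTransparency false
universe u
open CategoryTheory CategoryTheory.Limits AlgebraicGeometry
open TFNodal

namespace Groth.Agent.S18922

/-- Let k be an algebraically closed field of characteristic zero, X a reduced proper curve over k (a
proper k-scheme of dimension one) and F a coherent torsion free O_X-module (every stalk a torsion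
free module over the local ring). Let x be a point of X and U an open subset containing x such that
every irreducible component of U passes through x, that is, every point of U whose local ring is a
field specializes to x. Then the map from the sections of F over U to the stalk F_x is injective.
(The source states this for x a node of a connected nodal curve and U inside the union of the
irreducible components through x, meeting no other node.) -/
theorem result
    (k : Type u) [Field k] [IsAlgClosed k] [CharZero k]
    (X : Scheme.{u}) [X.Over (Spec (CommRingCat.of k))] [IsProper (X ↘ Spec (CommRingCat.of k))]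
    [AlgebraicGeometry.IsReduced X] (hdim : topologicalKrullDim X = 1)
    (F : X.Modules) (hF : Coh.IsCoh F) (htF : TorSh.IsTorsionFree F)
    (x : X) (U : X.Opens) (hxU : x ∈ U)
    (hU : ∀ y : X, y ∈ U → IsField (X.presheaf.stalk y) → x ∈ closure ({y} : Set X)) :
    Function.Injective (F.presheaf.germ U x hxU) := by
  classical
  haveI : IsLocallyNoetherian X := LocallyOfFiniteType.isLocallyNoetherian (X ↘ Spec (CommRingCat.of k))
  haveI : Coh.IsQCoh F := hF.1
  refine (injective_iff_map_eq_zero _).2 fun a ha => ?_
  apply TopCat.Presheaf.section_ext (⟨F.presheaf, F.isSheaf⟩ : TopCat.Sheaf Ab X) U a 0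
  intro y hy
  show F.presheaf.germ U y hy a = F.presheaf.germ U y hy 0
  rw [map_zero]
  let A := X.presheaf.stalk y
  let v := F.presheaf.germ U y hy a
  have hq : ∀ q ∈ minimalPrimes A, ∃ r : A, r ∉ q ∧ r • v = 0 := by
    intro q hqm
    haveI : q.IsPrime := hqm.1.1
    let P : PrimeSpectrum A := ⟨q, inferInstance⟩
    let z : X := X.fromSpecStalk y P
    have hzy : z ⤳ y := Groth.Agent.CycLim28.fromSpecStalk_specializes y P
    have hzU : z ∈ U := hzy.mem_open U.isOpen hy
    letI := (X.presheaf.stalkSpecializes hzy).hom.toAlgebra
    haveI hloc : IsLocalization.AtPrime (X.presheaf.stalk z) q := Groth.Agent.Models7.isLocalization_atPrime_fromSpecStalk y P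
    haveI : q.IsPrime := hqm.1.1
    have hfield : IsField (X.presheaf.stalk z) := by
      rw [IsLocalRing.isField_iff_maximalIdeal_eq, eq_bot_iff]
      intro b hb
      have : b ∈ nilradical (X.presheaf.stalk z) := by
        rw [nilradical_eq_sInf, Ideal.mem_sInf]
        intro Q hQ
        haveI : Q.IsPrime := hQ
        have hle : Q.comap (algebraMap A (X.presheaf.stalk z)) ≤ q := fun c hc => by
          by_contra hcq
          exact hQ.ne_top (Ideal.eq_top_of_isUnit_mem _ hc
            (IsLocalization.map_units (X.presheaf.stalk z) (⟨c, hcq⟩ : q.primeCompl)))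
        have heq : Q.comap (algebraMap A (X.presheaf.stalk z)) = q :=
          le_antisymm hle (hqm.2 ⟨inferInstance, bot_le⟩ hle)
        have : Q = IsLocalRing.maximalIdeal (X.presheaf.stalk z) := by
          rw [← IsLocalization.map_comap q.primeCompl (X.presheaf.stalk z) Q,
            ← IsLocalization.map_comap q.primeCompl (X.presheaf.stalk z) (IsLocalRing.maximalIdeal (X.presheaf.stalk z)),
            IsLocalization.AtPrime.comap_maximalIdeal (X.presheaf.stalk z) q]
          exact congrArg _ heq
        rwa [this]
      rwa [nilradical_eq_zero] at this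
    have hzx : z ⤳ x := specializes_iff_mem_closure.2 (hU z hzU hfield)
    have h0 : F.presheaf.germ U z hzU a = 0 := by
      rw [← TopCat.Presheaf.germ_stalkSpecializes_apply F.presheaf hxU hzx a]
      rw [show F.presheaf.germ U x hxU a = 0 from ha, map_zero]
    letI := Module.compHom (F.presheaf.stalk z) (X.presheaf.stalkSpecializes hzy).hom
    obtain ⟨ρ, hρ, hlm⟩ := Groth.Agent.CycLib28.isLocalizedModule_stalkSpecializes hF.1 y P
    haveI := hlm
    have hρv : ρ v = 0 := by
      rw [hρ]
      exact (TopCat.Presheaf.germ_stalkSpecializes_apply F.presheaf hy hzy a).trans h0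
    obtain ⟨⟨r, hr⟩, hrv⟩ := (IsLocalizedModule.eq_zero_iff P.asIdeal.primeCompl ρ).1 hρv
    exact ⟨r, hr, hrv⟩
  obtain ⟨r, hrv, hr⟩ : ∃ r : A, r • v = 0 ∧ ∀ q ∈ minimalPrimes A, r ∉ q := by
    by_contra h
    push Not at h
    have hfin : (minimalPrimes A).Finite := minimalPrimes.finite_of_isNoetherianRing A
    let J : Ideal A := Submodule.colon (⊥ : Submodule A (F.presheaf.stalk y)) {v}
    have hle : (J : Set A) ⊆ ⋃ q ∈ hfin.toFinset, (q : Set A) := fun r hr => by
      obtain ⟨q, hq, hrq⟩ := h r (by rwa [SetLike.mem_coe, Submodule.mem_colon_singleton, Submodule.mem_bot] at hr)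
      exact Set.mem_biUnion (hfin.mem_toFinset.2 hq) hrq
    obtain ⟨q, hqf, hJq⟩ := (Ideal.subset_union_prime ⊥ ⊥ fun q hq _ _ => (hfin.mem_toFinset.1 hq).1.1).1 hle
    obtain ⟨r, hrq, hrv⟩ := hq q (hfin.mem_toFinset.1 hqf)
    exact hrq (hJq (by rw [Submodule.mem_colon_singleton, Submodule.mem_bot]; exact hrv))
  have hrreg : IsRegular r := by
    rw [isRegular_iff_mem_nonZeroDivisors, mem_nonZeroDivisors_iff_right]
    intro b hb
    have : b ∈ sInf (⊥ : Ideal A).minimalPrimes := by
      rw [Ideal.mem_sInf]
      intro q hq
      exact (hq.1.1.mem_or_mem (show b * r ∈ q by rw [hb]; exact zero_mem q)).resolve_right (hr q hq)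
    rw [Ideal.sInf_minimalPrimes, ← Ideal.zero_eq_bot, ← nilradical, nilradical_eq_zero] at this
    exact this
  haveI : Module.IsTorsionFree A (F.presheaf.stalk y) := htF y
  exact hrreg.isSMulRegular (hrv.trans (smul_zero r).symm)

end Groth.Agent.S18922
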