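import Groth.Statements.S18923
import Groth.Agent.EulerLib.PartsEuler
import Groth.Agent.WeilFin.Bundle
import Groth.Agent.Coherent.CohBC.HomSheaf
-- import your own Groth.Agent.* helpers here

set_option autoImplicit false
set_option backward.isDefEq.respectTransparency.types false
universe u
open CategoryTheory CategoryTheory.Limits AlgebraicGeometry
open VBCurve Groth.Agent

namespace Groth.Agent.S18923

/-- Let k be an algebraically closed field of characteristic zero, Y a smooth proper k-scheme of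
dimension one, possibly disconnected but with no isolated points, and L an ample invertible
O_Y-module such that for every connected component U of Y, with j : U → Y, O_U = j_*(O_Y|_U) and L_U
= j_*(L|_U), one has χ(O_U) · (χ(L) − χ(O_Y)) = χ(O_Y) · (χ(L_U) − χ(O_U)) (all correction terms of
the components vanish). Let E and F be finite locally free O_Y-modules with nowhere-zero stalks,
both semistable of dimension one with respect to L, and write α(M) = χ(M ⊗ L) − χ(M). Then χ(E ⊗
F)/α(E ⊗ F) = χ(E)/α(E) + χ(F)/α(F) − χ(O_Y)/(χ(L) − χ(O_Y)) as rational numbers; equivalently the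
slope of E ⊗ F is the sum of the slopes of E and F. The published statement speaks of any two
semistable locally free sheaves; this row takes E and F with nowhere-zero stalks (support all of Y),
without which E ⊗ F can be zero and the slopes undefined. -/
theorem result
    (k : Type u) [Field k] [IsAlgClosed k] [CharZero k]
    (Y : Scheme.{u}) [Y.Over (Spec (CommRingCat.of k))] [IsProper (Y ↘ Spec (CommRingCat.of k))]
    [Smooth (Y ↘ Spec (CommRingCat.of k))] (hdim : topologicalKrullDim Y = 1)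
    (hpure : ∀ y : Y, ¬ IsOpen ({y} : Set Y))
    (L : Y.Modules) (hL : CohB1.IsAmple L)
    (hB : ∀ U : Y.Opens, IsClopen (U : Set Y) → _root_.IsConnected (U : Set Y) →
      Curv2.euler k Y ((Scheme.Modules.pushforward U.ι).obj ((Coh.structureModule Y).restrict U.ι)) * (Curv2.euler k Y L - Curv2.euler k Y (Coh.structureModule Y)) =
        Curv2.euler k Y (Coh.structureModule Y) * (Curv2.euler k Y ((Scheme.Modules.pushforward U.ι).obj (L.restrict U.ι)) - Curv2.euler k Y ((Scheme.Modules.pushforward U.ι).obj ((Coh.structureModule Y).restrict U.ι))))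
    (E F : Y.Modules) (hE : FlatMod.IsFinLocFree E) (hF : FlatMod.IsFinLocFree F)
    (hE0 : ∀ y : Y, ¬ Subsingleton (E.presheaf.stalk y)) (hF0 : ∀ y : Y, ¬ Subsingleton (F.presheaf.stalk y))
    (hEs : ShStab.IsSemistable k Y L E 1) (hFs : ShStab.IsSemistable k Y L F 1) :
    ((Curv2.euler k Y (CohB1.tensorMod E F) : ℚ) /
        ((Curv2.euler k Y (CohB1.tensorMod (CohB1.tensorMod E F) L) - Curv2.euler k Y (CohB1.tensorMod E F) : ℤ) : ℚ)) =
      (Curv2.euler k Y E : ℚ) / ((Curv2.euler k Y (CohB1.tensorMod E L) - Curv2.euler k Y E : ℤ) : ℚ) +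
        (Curv2.euler k Y F : ℚ) / ((Curv2.euler k Y (CohB1.tensorMod F L) - Curv2.euler k Y F : ℤ) : ℚ) -
        (Curv2.euler k Y (Coh.structureModule Y) : ℚ) /
          ((Curv2.euler k Y L - Curv2.euler k Y (Coh.structureModule Y) : ℤ) : ℚ) := by
  haveI := EulerLib.isNoetherian_of_proper (X := Y) k
  haveI : TopologicalSpace.NoetherianSpace ↥Y := inferInstance
  have hEF : FlatMod.IsFinLocFree (CohB1.tensorMod E F) := WeilFin.isFinLocFree_tensorMod hE hF
  have hEc := Groth.Agent.Coherent.CohBC.isCoh_of_isFinLocFree hE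
  have hFc := Groth.Agent.Coherent.CohBC.isCoh_of_isFinLocFree hF
  have hEFc := Groth.Agent.Coherent.CohBC.isCoh_of_isFinLocFree hEF
  have hdeg : ∀ {G : Y.Modules} (hG : Coh.IsCoh G) {R : Polynomial ℚ}, ShStab.IsHilbPoly k Y L G R → R.natDegree ≤ 1 :=
    fun {G} hG {R} hR => (EulerLib.alpha_eq_interDeg k hL.1 hG hR
      (((topologicalKrullDim_subspace_le Y _).trans hdim.le) : _ ≤ ((1 : ℕ) : WithBot ℕ∞))).1
  have hev : ∀ {G : Y.Modules} (hG : Coh.IsCoh G) {R : Polynomial ℚ}, ShStab.IsHilbPoly k Y L G R →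
      R.eval 0 = (Curv2.euler k Y G : ℚ) ∧ StabCat.alpha 1 R =
        ((Curv2.euler k Y (CohB1.tensorMod G L) - Curv2.euler k Y G : ℤ) : ℚ) := fun {G} hG {R} hR => by
    refine ⟨(EulerLib.eval_zero_one k hR).1, ?_⟩
    rw [(EulerLib.alpha_one_of_natDegree_le (hdeg hG hR)).1, (EulerLib.eval_zero_one k hR).1,
      (EulerLib.eval_zero_one k hR).2]
    push_cast
    first | rfl | ring
  have hOc : Coh.IsCoh (Coh.structureModule Y) := Groth.Agent.Coherent.isCoh_structureModule Y
  have hPE := EulerLib.isHilbPoly_hp k hL E hEc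
  have hPF := EulerLib.isHilbPoly_hp k hL F hFc
  set PE := EulerLib.hp k hL E hEc
  set PF := EulerLib.hp k hL F hFc
  set eY : ℚ := (Curv2.euler k Y (Coh.structureModule Y) : ℚ) with heY
  set dY : ℚ := ((Curv2.euler k Y L - Curv2.euler k Y (Coh.structureModule Y) : ℤ) : ℚ) with hdY
  have haE : 0 < StabCat.alpha 1 PE := EulerLib.alpha_pos_self k hL hEc hEs.2.1 hEs.2.2.1 hPE
  have haF : 0 < StabCat.alpha 1 PF := EulerLib.alpha_pos_self k hL hFc hFs.2.1 hFs.2.2.1 hPF
  -- the data on one component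
  have hpart : ∀ y : Y, ∃ rE rF : ℚ, ∃ eU dU : ℚ, 0 < rE ∧ 0 < rF ∧ 0 < dU ∧
      eU * dY = eY * dU ∧
      (∀ {Q : Polynomial ℚ}, ShStab.IsHilbPoly k Y L (EulerLib.part (EulerLib.compOpen y) (Coh.structureModule Y)) Q →
        Q.eval 0 = eU ∧ StabCat.alpha 1 Q = dU) ∧
      (∀ {Q : Polynomial ℚ}, ShStab.IsHilbPoly k Y L (EulerLib.part (EulerLib.compOpen y) (CohB1.tensorMod E F)) Q →
        StabCat.alpha 1 Q = rE * rF * dU ∧ Q.eval 0 =
          (PE.eval 0 / StabCat.alpha 1 PE + PF.eval 0 / StabCat.alpha 1 PF) * (rE * rF * dU) - rE * rF * eU) := by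
    intro y
    obtain ⟨W, hd, hc⟩ := EulerLib.compl_parts y
    have hU := EulerLib.isClopen_connectedComponent_of_noetherian y
    obtain ⟨rE, rF, hr⟩ := EulerLib.euler_parts_tensor k hdim.le (EulerLib.compOpen y) hU isConnected_connectedComponent hE hF
    obtain ⟨h1, h2, h3, h4⟩ := hr L hL.1
    have cE := EulerLib.isCoh_part hd hc hEc
    have cF := EulerLib.isCoh_part hd hc hFc
    have cEF := EulerLib.isCoh_part hd hc hEFc
    have cO := EulerLib.isCoh_part hd hc hOc
    have nE := EulerLib.not_isZero_part (U := EulerLib.compOpen y) (mem_connectedComponent) (hE0 y)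
    have nF := EulerLib.not_isZero_part (U := EulerLib.compOpen y) (mem_connectedComponent) (hF0 y)
    have qE := EulerLib.isHilbPoly_hp k hL _ cE
    have qF := EulerLib.isHilbPoly_hp k hL _ cF
    obtain ⟨sE, redE⟩ := EulerLib.semistable_part k hL hEs hd hc nE
    obtain ⟨sF, redF⟩ := EulerLib.semistable_part k hL hFs hd hc nF
    have pE := EulerLib.alpha_pos_self k hL cE nE sE.2.2.1 qE
    have pF := EulerLib.alpha_pos_self k hL cF nF sF.2.2.1 qF
    set χ : ℤ := Curv2.euler k Y (EulerLib.part (EulerLib.compOpen y) (Coh.structureModule Y))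
    set d : ℤ := Curv2.euler k Y (EulerLib.part (EulerLib.compOpen y) L) - χ
    have aE : StabCat.alpha 1 (EulerLib.hp k hL _ cE) = (rE : ℚ) * d := by
      rw [(hev cE qE).2, EulerLib.euler_part_tensor k hd hc]; exact_mod_cast h2
    have aF : StabCat.alpha 1 (EulerLib.hp k hL _ cF) = (rF : ℚ) * d := by
      rw [(hev cF qF).2, EulerLib.euler_part_tensor k hd hc]; exact_mod_cast h3
    have hd0 : 0 < d := by
      have hLE : (0 : ℤ) < (rE : ℤ) * d := by rw [aE] at pE; exact_mod_cast pE
      exact pos_of_mul_pos_right hLE (Int.natCast_nonneg _)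
    have hrE : 0 < rE := Nat.pos_of_ne_zero fun h0 => by rw [aE, h0] at pE; simp at pE
    have hrF : 0 < rF := Nat.pos_of_ne_zero fun h0 => by rw [aF, h0] at pF; simp at pF
    refine ⟨rE, rF, χ, d, by exact_mod_cast hrE, by exact_mod_cast hrF, by exact_mod_cast hd0, ?_, ?_, ?_⟩
    · have := hB (EulerLib.compOpen y) hU isConnected_connectedComponent
      rw [heY, hdY]
      exact_mod_cast this
    · intro Q hQ
      refine ⟨(hev cO hQ).1, ?_⟩
      rw [(hev cO hQ).2, EulerLib.euler_part_tensor k hd hc,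
        EulerLib.euler_congr k Y ((Scheme.Modules.pushforward (EulerLib.compOpen y).ι).mapIso
          ((Scheme.Modules.restrictFunctor (EulerLib.compOpen y).ι).mapIso (Groth.Agent.AmpleLib.unitTensorIso L)))]
    · intro Q hQ
      have aQ : StabCat.alpha 1 Q = (rE : ℚ) * rF * d := by
        rw [(hev cEF hQ).2, EulerLib.euler_part_tensor k hd hc]; exact_mod_cast h4
      refine ⟨aQ, ?_⟩
      have k1 : (EulerLib.hp k hL _ cE).eval 0 * StabCat.alpha 1 PE = PE.eval 0 * ((rE : ℚ) * d) := by
        rw [← aE]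
        have := congrArg (Polynomial.eval (0 : ℚ)) (redE hPE qE)
        simp only [Polynomial.eval_smul, smul_eq_mul] at this
        linarith
      have k2 : (EulerLib.hp k hL _ cF).eval 0 * StabCat.alpha 1 PF = PF.eval 0 * ((rF : ℚ) * d) := by
        rw [← aF]
        have := congrArg (Polynomial.eval (0 : ℚ)) (redF hPF qF)
        simp only [Polynomial.eval_smul, smul_eq_mul] at this
        linarith
      have h1' : ((Curv2.euler k Y (EulerLib.part (EulerLib.compOpen y) (CohB1.tensorMod E F)) : ℤ) : ℚ) =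
          rF * (EulerLib.hp k hL _ cE).eval 0 + rE * (EulerLib.hp k hL _ cF).eval 0 - rE * rF * χ := by
        rw [(hev cE qE).1, (hev cF qF).1]
        exact_mod_cast h1
      rw [(hev cEF hQ).1, h1', ← div_mul_cancel₀ ((EulerLib.hp k hL _ cE).eval 0) haE.ne',
        ← div_mul_cancel₀ ((EulerLib.hp k hL _ cF).eval 0) haF.ne', div_mul_eq_mul_div, div_mul_eq_mul_div, k1, k2]
      ring
  -- summing over the components
  have hdYpos : 0 < dY := by
    have hP := EulerLib.isHilbPoly_hp k hL _ hOc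
    have key : 0 ≤ StabCat.alpha 1 (EulerLib.hp k hL _ hOc) ∧
        (EulerLib.hp k hL _ hOc = 0 ∨ 0 < StabCat.alpha 1 (EulerLib.hp k hL _ hOc)) := by
      refine EulerLib.parts_induction k hL (fun P => 0 ≤ StabCat.alpha 1 P ∧ (P = 0 ∨ 0 < StabCat.alpha 1 P))
        ⟨by simp [StabCat.alpha], Or.inl rfl⟩ (fun P Q hP hQ => ?_) hOc (fun y Q hQ => ?_) hP
      · refine ⟨by rw [EulerLib.alpha_add]; linarith [hP.1, hQ.1], ?_⟩
        rcases hP.2 with h | h
        · rw [h, zero_add]; exact hQ.2
        · exact Or.inr (by rw [EulerLib.alpha_add]; linarith [hQ.1])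
      · obtain ⟨_, _, _, dU, -, -, hdU, -, hO, -⟩ := hpart y
        rw [(hO hQ).2]
        exact ⟨hdU.le, Or.inr hdU⟩
    rcases key.2 with h | h
    · exfalso
      have hz := (EulerLib.hilb_eq_zero_iff k hL hOc hP).1 h
      obtain ⟨y⟩ : Nonempty ↥Y := by
        by_contra hne
        rw [not_nonempty_iff] at hne
        haveI : IsEmpty (TopologicalSpace.IrreducibleCloseds ↥Y) := ⟨fun A => A.2.1.elim fun a _ => hne.elim a⟩
        rw [topologicalKrullDim, Order.krullDim_eq_bot] at hdim
        exact absurd hdim (by decide)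
      obtain ⟨_, _, _, dU, -, -, hdU, -, hO, -⟩ := hpart y
      obtain ⟨W, hd, hc⟩ := EulerLib.compl_parts y
      have hU : IsZero (EulerLib.part (EulerLib.compOpen y) (Coh.structureModule Y)) :=
        IsZero.of_mono (EulerLib.partIncl hd hc _) hz
      have := (hO (EulerLib.isHilbPoly_zero k hL.1 hU)).2
      simp [StabCat.alpha] at this
      linarith
    · rw [(hev hOc hP).2, EulerLib.euler_congr k Y (Groth.Agent.AmpleLib.unitTensorIso L)] at h
      exact h
  set μ : ℚ := PE.eval 0 / StabCat.alpha 1 PE + PF.eval 0 / StabCat.alpha 1 PF - eY / dY with hμ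
  have hQ := EulerLib.isHilbPoly_hp k hL _ hEFc
  have key : (EulerLib.hp k hL _ hEFc).eval 0 = μ * StabCat.alpha 1 (EulerLib.hp k hL _ hEFc) ∧
      0 ≤ StabCat.alpha 1 (EulerLib.hp k hL _ hEFc) ∧
      (EulerLib.hp k hL _ hEFc = 0 ∨ 0 < StabCat.alpha 1 (EulerLib.hp k hL _ hEFc)) := by
    refine EulerLib.parts_induction k hL
      (fun P => P.eval 0 = μ * StabCat.alpha 1 P ∧ 0 ≤ StabCat.alpha 1 P ∧ (P = 0 ∨ 0 < StabCat.alpha 1 P))
      ⟨by simp [StabCat.alpha], by simp [StabCat.alpha], Or.inl rfl⟩ (fun P Q hP hQ => ?_) hEFc (fun y Q hQ => ?_) hQ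
    · refine ⟨by rw [Polynomial.eval_add, EulerLib.alpha_add, hP.1, hQ.1, mul_add],
        by rw [EulerLib.alpha_add]; linarith [hP.2.1, hQ.2.1], ?_⟩
      rcases hP.2.2 with h | h
      · rw [h, zero_add]; exact hQ.2.2
      · exact Or.inr (by rw [EulerLib.alpha_add]; linarith [hQ.2.1])
    · obtain ⟨rE, rF, eU, dU, hrE, hrF, hdU, hBU, -, hEFU⟩ := hpart y
      obtain ⟨a1, a2⟩ := hEFU hQ
      have hα : 0 < StabCat.alpha 1 Q := by rw [a1]; positivity
      refine ⟨?_, hα.le, Or.inr hα⟩
      rw [a2, a1, hμ]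
      have : eU = eY / dY * dU := by field_simp; linarith
      rw [this]
      ring
  have hne : 0 < StabCat.alpha 1 (EulerLib.hp k hL _ hEFc) := by
    refine key.2.2.resolve_left fun h => ?_
    obtain ⟨y⟩ : Nonempty ↥Y := by
      by_contra hne
      rw [not_nonempty_iff] at hne
      haveI : IsEmpty (TopologicalSpace.IrreducibleCloseds ↥Y) := ⟨fun A => A.2.1.elim fun a _ => hne.elim a⟩
      rw [topologicalKrullDim, Order.krullDim_eq_bot] at hdim
      exact absurd hdim (by decide)
    obtain ⟨rE, rF, eU, dU, hrE, hrF, hdU, -, -, hEFU⟩ := hpart y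
    obtain ⟨W, hd, hc⟩ := EulerLib.compl_parts y
    have hU : IsZero (EulerLib.part (EulerLib.compOpen y) (CohB1.tensorMod E F)) :=
      IsZero.of_mono (EulerLib.partIncl hd hc _) ((EulerLib.hilb_eq_zero_iff k hL hEFc hQ).1 h)
    have := (hEFU (EulerLib.isHilbPoly_zero k hL.1 hU)).1
    have hpos : 0 < rE * rF * dU := by positivity
    simp [StabCat.alpha] at this
    rcases this with (h | h) | h <;> linarith
  rw [← (hev hEFc hQ).2, ← (hev hEFc hQ).1, ← (hev hEc hPE).2, ← (hev hEc hPE).1, ← (hev hFc hPF).2,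
    ← (hev hFc hPF).1, key.1, mul_div_assoc, div_self hne.ne', mul_one]

end Groth.Agent.S18923
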