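import Groth.Statements.S18924
import Groth.Agent.CommAlg4.ResultantTwo
-- import your own Groth.Agent.* helpers here

set_option autoImplicit false
universe u
open ResHyp

namespace Groth.Agent.S18924

/-- Let F be a finite field with q elements and let n ≥ 3 be odd. Count the pairs (f, g) where f is a
binary quadratic form and g a binary form of degree n over F, recorded by their coefficient vectors
of lengths 3 and n + 1 (leading coefficients may vanish), whose resultant — the Sylvester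
determinant of the two coefficient vectors with size parameters 2 and n — equals 1. The number of
such pairs is q ^ (n + 3) - q ^ (n + 1). (The published statement gives q ^ (n + 3) + q ^ (n + 1);
for q = 3 and n = 3 the count is 648, not 810.) -/
theorem result (F : Type u) [Field F] [Fintype F] (n : ℕ)
    (hn : Odd n) (h3 : 3 ≤ n) :
    Nat.card {p : (Fin 3 → F) × (Fin (n + 1) → F) //
      Polynomial.resultant (∑ i : Fin 3, Polynomial.C (p.1 i) * Polynomial.X ^ (i : ℕ))
        (∑ j : Fin (n + 1), Polynomial.C (p.2 j) * Polynomial.X ^ (j : ℕ)) 2 n = 1} =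
      Fintype.card F ^ (n + 3) - Fintype.card F ^ (n + 1) := by
  classical
  obtain ⟨m, hm⟩ := hn
  set R := fun p : (Fin 3 → F) × (Fin (n + 1) → F) =>
    Polynomial.resultant (∑ i : Fin 3, Polynomial.C (p.1 i) * Polynomial.X ^ (i : ℕ))
      (∑ j : Fin (n + 1), Polynomial.C (p.2 j) * Polynomial.X ^ (j : ℕ)) 2 n with hR
  have hscale : ∀ (a b : F) (p : (Fin 3 → F) × (Fin (n + 1) → F)),
      R (a • p.1, b • p.2) = a ^ n * (b ^ 2 * R p) := by
    intro a b p
    have hA : ∀ (k : ℕ) (c : F) (v : Fin k → F),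
        (∑ i : Fin k, Polynomial.C ((c • v) i) * Polynomial.X ^ (i : ℕ)) =
          Polynomial.C c * ∑ i : Fin k, Polynomial.C (v i) * Polynomial.X ^ (i : ℕ) := fun k c v => by
      rw [Finset.mul_sum]
      refine Finset.sum_congr rfl fun i _ => ?_
      simp [mul_assoc]
    show Polynomial.resultant (∑ i : Fin 3, Polynomial.C ((a • p.1) i) * Polynomial.X ^ (i : ℕ))
      (∑ j : Fin (n + 1), Polynomial.C ((b • p.2) j) * Polynomial.X ^ (j : ℕ)) 2 n = _
    rw [hA, hA, Polynomial.resultant_C_mul_left, Polynomial.resultant_C_mul_right]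
  have key : ∀ c : F, c ≠ 0 → c ^ n * (c⁻¹ ^ m) ^ 2 = c := by
    intro c hc
    rw [hm, ← pow_mul, inv_pow, mul_comm m 2, pow_succ]
    field_simp
  have key' : ∀ c : F, c ≠ 0 → c⁻¹ ^ n * (c ^ m) ^ 2 = c⁻¹ := by
    intro c hc
    have := key c⁻¹ (inv_ne_zero hc)
    rwa [inv_inv] at this
  let e : {p // R p ≠ 0} ≃ {c : F // c ≠ 0} × {p // R p = 1} :=
    { toFun := fun p => (⟨R p.1, p.2⟩, ⟨((R p.1)⁻¹ • p.1.1, (R p.1) ^ m • p.1.2), by
        rw [hscale, ← mul_assoc, key' _ p.2, inv_mul_cancel₀ p.2]⟩)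
      invFun := fun s => ⟨(s.1.1 • s.2.1.1, s.1.1⁻¹ ^ m • s.2.1.2), by
        rw [hscale, ← mul_assoc, key _ s.1.2, s.2.2, mul_one]; exact s.1.2⟩
      left_inv := fun p => by
        refine Subtype.ext (Prod.ext ?_ ?_)
        · simp [smul_smul, p.2]
        · simp [smul_smul, ← mul_pow, p.2]
      right_inv := fun s => by
        have h1 : R (s.1.1 • s.2.1.1, s.1.1⁻¹ ^ m • s.2.1.2) = s.1.1 := by
          rw [hscale, ← mul_assoc, key _ s.1.2, s.2.2, mul_one]
        refine Prod.ext (Subtype.ext h1) (Subtype.ext (Prod.ext ?_ ?_))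
        · show (R (s.1.1 • s.2.1.1, s.1.1⁻¹ ^ m • s.2.1.2))⁻¹ • s.1.1 • s.2.1.1 = s.2.1.1
          rw [h1, inv_smul_smul₀ s.1.2]
        · show R (s.1.1 • s.2.1.1, s.1.1⁻¹ ^ m • s.2.1.2) ^ m • s.1.1⁻¹ ^ m • s.2.1.2 = s.2.1.2
          rw [h1, smul_smul, ← mul_pow, mul_inv_cancel₀ s.1.2, one_pow, one_smul] }
  have hc := Nat.card_congr e
  rw [Nat.card_prod, Groth.Agent.CommAlg4.natCard_resultant_ne_zero n (by omega),
    Nat.card_eq_fintype_card (α := {c : F // c ≠ 0}), Fintype.card_subtype_compl,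
    Fintype.card_subtype_eq] at hc
  set q := Fintype.card F with hq
  have h2 : 2 ≤ q := Fintype.one_lt_card
  show Nat.card {p // R p = 1} = _
  refine Nat.eq_of_mul_eq_mul_left (show 0 < q - 1 by omega) (hc.symm.trans ?_)
  obtain ⟨k, rfl⟩ : ∃ k, n = k + 1 := ⟨n - 1, by omega⟩
  rw [Nat.add_sub_cancel]
  have a1 : 1 ≤ q ^ 2 := Nat.one_le_pow _ _ (by omega)
  have a2 : q ^ 2 ≤ q ^ 3 := Nat.pow_le_pow_right (by omega) (by omega)
  have a3 : 1 ≤ q := by omega
  have b1 : q ^ (k + 1 + 1) ≤ q ^ (k + 1 + 3) := Nat.pow_le_pow_right (by omega) (by omega)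
  zify [a1, a2, a3, b1]
  ring

end Groth.Agent.S18924
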