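import Groth.Statements.S18926
import Groth.Agent.FlatMor12.SteinField
import Groth.Agent.FEtStein.General
import Groth.Agent.CohCmpLib.AffineBase
import Groth.Agent.CurveRR24.Sky
import Groth.Agent.Coherent.CohBC.PushStructureIso
-- import your own Groth.Agent.* helpers here

set_option autoImplicit false
universe u
open FinCov

namespace Groth.Agent.S18926

open CategoryTheory CategoryTheory.Limits AlgebraicGeometry in
set_option backward.isDefEq.respectTransparency false in
/-- Let k be a field, Y a proper, geometrically connected and geometrically reduced scheme over k, and ρ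
: X ⟶ Y a finite, flat and surjective morphism. If the zeroth cohomology group of the cokernel of
the O_Y-module map O_Y ⟶ ρ_* O_X has at most one element, then X is geometrically connected over k.
(The published statement assumes Y projective and takes for X one of the finite locally free
Gorenstein covers of degree 3, 4 or 5 that it constructs, with the cokernel identified with a dual
vector bundle; this row assumes only that ρ is finite, flat and surjective and that Y is proper.) -/
theorem result
    (k : Type u) [Field k] (X Y : Scheme.{u}) (g : Y ⟶ Spec (CommRingCat.of k)) (ρ : X ⟶ Y)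
    [IsProper g] [GeometricallyConnected g] [GeometricallyReduced g]
    [IsFinite ρ] [Flat ρ] [Surjective ρ]
    (h0 : Subsingleton (Coh.HH Y (cokernel (ClSub.unitToPush ρ)) 0)) :
    GeometricallyConnected (ρ ≫ g) := by
  let u := ClSub.unitToPush ρ
  have hinj : ∀ U : Y.Opens, Function.Injective (ρ.app U) := by
    intro U a b hab
    refine TopCat.Presheaf.section_ext Y.sheaf U a b fun y hy => ?_
    obtain ⟨x, rfl⟩ := ρ.surjective y
    have hs : Function.Injective (ρ.stalkMap x).hom := by
      algebraize [(ρ.stalkMap x).hom]
      have : Module.FaithfullyFlat (Y.presheaf.stalk (ρ x)) (X.presheaf.stalk x) :=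
        @Module.FaithfullyFlat.of_flat_of_isLocalHom _ _ _ _ _ _ _ (Flat.stalkMap ρ x) (ρ.toLRSHom.prop x)
      exact ‹RingHom.FaithfullyFlat _›.injective
    apply hs
    show ρ.stalkMap x (Y.presheaf.germ U (ρ x) hy a) = ρ.stalkMap x (Y.presheaf.germ U (ρ x) hy b)
    rw [Scheme.Hom.germ_stalkMap_apply, Scheme.Hom.germ_stalkMap_apply, hab]
  haveI : Mono u := by
    refine Functor.mono_of_mono_map (Scheme.Modules.toPresheaf Y) ?_
    haveI : ∀ U, Mono (((Scheme.Modules.toPresheaf Y).map u).app U) := fun U =>
      (AddCommGrpCat.mono_iff_injective _).2 (hinj U.unop)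
    exact NatTrans.mono_of_mono_app _
  have hT : (ShortComplex.mk u (cokernel.π u) (cokernel.condition u)).ShortExact :=
    { exact := ShortComplex.exact_of_g_is_cokernel _ (cokernelIsCokernel u) }
  haveI : Subsingleton Γ(cokernel u, ⊤) := by
    letI : Y.Over (Spec (CommRingCat.of k)) := ⟨g⟩
    exact (Groth.Agent.CurveRR24.hhZero k (cokernel u)).symm.injective.subsingleton
  have hsurj : Function.Surjective ρ.appTop := fun s =>
    Groth.Agent.CohCmpLib.exists_app_eq_of_app_eq_zero' (U := ⊤) hT (s : Γ(X, ρ ⁻¹ᵁ ⊤)) (Subsingleton.elim _ _)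
  haveI : LocallyOfFinitePresentation g :=
    Groth.Agent.Coherent.CohBC.locallyOfFinitePresentation_of_isLocallyNoetherian g
  haveI : Flat g := inferInstance
  have hg : Function.Bijective g.appTop := Groth.Agent.FEtStein.bijective_appTop g
  have hb : Function.Bijective ((ρ ≫ g).appTop.hom.comp (Scheme.ΓSpecIso (CommRingCat.of k)).inv.hom) := by
    rw [Scheme.Hom.comp_appTop, RingHom.coe_comp, CommRingCat.hom_comp, RingHom.coe_comp]
    exact Function.Bijective.comp (Function.Bijective.comp (⟨hinj ⊤, hsurj⟩ : Function.Bijective ρ.appTop) hg)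
      (ConcreteCategory.bijective_of_isIso (Scheme.ΓSpecIso (CommRingCat.of k)).inv)
  rw [Groth.Agent.FlatMor12.SteinGeneral.geometricallyConnected_iff_ring, Groth.Agent.UnivHomeo.isUnivHomeo_iff]
  refine ⟨RingHom.isIntegral_of_surjective _ hb.2, fun K _ g₁ g₂ h => RingHom.ext fun a => ?_, ?_⟩
  · obtain ⟨c, rfl⟩ := hb.2 a
    exact RingHom.congr_fun h c
  · rw [(RingHom.injective_iff_ker_eq_bot _).1 hb.1]
    exact bot_le

end Groth.Agent.S18926
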