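import Groth.Statements.S18927

set_option autoImplicit false
universe u v
open W4c6secantcecovers

namespace Groth.Agent.S18927

open TensorProduct ExteriorAlgebra W4c6secantcecovers in
theorem contr_ιMulti_mul {R : Type u} [CommRing R] {r : ℕ} (j : Fin r) :
    ∀ (n : ℕ) (v : Fin n → Fin r → R) (y : SSLam R r),
      ssContr R r j (ιMulti R n v * y) =
        ssContr R r j (ιMulti R n v) * y + (-1 : R) ^ n • (ιMulti R n v * ssContr R r j y) := by
  intro n
  induction n with
  | zero =>
    intro v y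
    simp [ExteriorAlgebra.ιMulti_zero_apply, ssContr, CliffordAlgebra.contractLeft_one]
  | succ n ih =>
    intro v y
    have h : ∀ b : SSLam R r, ssContr R r j (ι R (v 0) * b) = v 0 j • b - ι R (v 0) * ssContr R r j b :=
      fun b => CliffordAlgebra.contractLeft_ι_mul _ _ b
    rw [ιMulti_succ_apply, mul_assoc, h, ih, h, pow_succ]
    simp only [mul_add, sub_mul, smul_mul_assoc, mul_smul_comm, mul_neg, mul_one, neg_smul, mul_assoc]
    abel

open ExteriorAlgebra in
theorem ιMulti_mul_eq_zero {R : Type u} [CommRing R] {r a b : ℕ} (h : r < a + b)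
    (e : Fin a → Fin r → R) (f : Fin b → Fin r → R) : ιMulti R a e * ιMulti R b f = 0 := by
  have h2 : ιMulti R a e * ιMulti R b f = ιMulti R (a + b) (Fin.append e f) := by
    simp only [ιMulti_apply, ← List.prod_append]
    congr 1
    rw [← List.ofFn_fin_append]
    congr 1
    funext i
    refine Fin.addCases (fun l => ?_) (fun l => ?_) i <;> simp
  rw [h2]
  have h3 : (ιMulti R (a + b) : (Fin r → R) [⋀^Fin (a + b)]→ₗ[R] ExteriorAlgebra R (Fin r → R)) = 0 :=
    Module.Basis.ext_alternating (Pi.basisFun R (Fin r)) fun v hv => by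
      have := Fintype.card_le_of_injective v hv
      simp only [Fintype.card_fin] at this
      omega
  rw [h3]
  rfl


open TensorProduct in
/-- Let R be a commutative ring, E = R^r the free module with its coordinate basis, S = R[X_1, …, X_r]
(the symmetric algebra of E), and N an R-module carrying R-linear operators φ_j (the action of the
j-th basis vector of E) and an R-bilinear form β with β(φ_j n, m) = β(n, φ_j m) for every j. On (ΛE
⊗ S) ⊗ N — all terms Λ^k(S ⊗ E) ⊗ N of the Scheja–Storch complex at once — let δ be the differential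
sending (e_1 ∧ ⋯ ∧ e_k) ⊗ s ⊗ n to Σ_i (-1)^(i-1) (e_1 ∧ ⋯ ê_i ⋯ ∧ e_k) ⊗ x(e_i) s ⊗ n + Σ_i (-1)^i
(e_1 ∧ ⋯ ê_i ⋯ ∧ e_k) ⊗ s ⊗ e_i · n, and pair a term u = ω ⊗ s ⊗ n of degree k with v = η ⊗ t ⊗ m by
⟨u, v⟩_k = (-1)^(k choose 2) β(n, m) · (ω ∧ η) ⊗ s t. Then the differential is adjoint to itself for
this pairing in complementary degrees: for u = (e_0 ∧ ⋯ ∧ e_k) ⊗ s ⊗ n of degree k + 1 ≤ r and v =
(f_1 ∧ ⋯ ∧ f_(r-k)) ⊗ t ⊗ m of degree r - k, ⟨δ u, v⟩_k = ⟨u, δ v⟩_(k+1). (The source takes E
finitely generated projective and N a module over the ambient algebra with a pairing satisfying ⟨f,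
g h⟩ = ⟨g f, h⟩; the proof runs on a basis, which is the form stated here, with the action of E
recorded by the operators φ_j.) -/
theorem result
    (R : Type u) [CommRing R] (r : ℕ) (N : Type v) [AddCommGroup N] [Module R N]
    (φ : Fin r → (N →ₗ[R] N)) (β : N →ₗ[R] N →ₗ[R] R)
    (hβ : ∀ (j : Fin r) (n m : N), β (φ j n) m = β n (φ j m))
    (k : ℕ) (hk : k < r)
    (e : Fin (k + 1) → (Fin r → R)) (f : Fin (r - k) → (Fin r → R))
    (s t : MvPolynomial (Fin r) R) (n m : N) :
    W4c6secantcecovers.ssPair R r N β k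
        (W4c6secantcecovers.ssDelta R r N φ ((ExteriorAlgebra.ιMulti R (k + 1) e ⊗ₜ[R] s) ⊗ₜ[R] n))
        ((ExteriorAlgebra.ιMulti R (r - k) f ⊗ₜ[R] t) ⊗ₜ[R] m) =
      W4c6secantcecovers.ssPair R r N β (k + 1)
        ((ExteriorAlgebra.ιMulti R (k + 1) e ⊗ₜ[R] s) ⊗ₜ[R] n)
        (W4c6secantcecovers.ssDelta R r N φ ((ExteriorAlgebra.ιMulti R (r - k) f ⊗ₜ[R] t) ⊗ₜ[R] m)) := by
  open TensorProduct in
  have key : ∀ j, ssContr R r j (ExteriorAlgebra.ιMulti R (k + 1) e) * ExteriorAlgebra.ιMulti R (r - k) f =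
      (-1 : R) ^ k • (ExteriorAlgebra.ιMulti R (k + 1) e * ssContr R r j (ExteriorAlgebra.ιMulti R (r - k) f)) := by
    intro j
    have h := contr_ιMulti_mul j (k + 1) e (ExteriorAlgebra.ιMulti R (r - k) f)
    rw [ιMulti_mul_eq_zero (by omega) e f, map_zero, pow_succ, mul_neg, mul_one, neg_smul, ← sub_eq_add_neg,
      eq_comm, sub_eq_zero] at h
    exact h
  have hch : (k + 1).choose 2 = k.choose 2 + k := by
    rw [Nat.choose_succ_succ', Nat.choose_one_right, add_comm]
  simp only [ssDelta, LinearMap.coe_sum, Finset.sum_apply, map_sum, LinearMap.sum_apply, LinearMap.add_apply,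
    LinearMap.smul_apply, map_add, map_smul]
  refine Finset.sum_congr rfl fun j _ => ?_
  simp only [ssDKoszul, ssDAct, TensorProduct.map_tmul, LinearMap.id_apply, LinearMap.mulLeft_apply, ssPair, ssPairAux,
    LinearMap.smul_apply, TensorProduct.curry_apply, LinearMap.comp_apply, LinearEquiv.coe_coe,
    TensorProduct.tensorTensorTensorComm_tmul, LinearMap.mul'_apply, TensorProduct.lift.tmul,
    TensorProduct.rid_tmul, Algebra.TensorProduct.tmul_mul_tmul, key, hβ, hch, pow_add]
  simp only [mul_left_comm s, mul_assoc, TensorProduct.smul_tmul', smul_smul, smul_add]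
  congr 3 <;> ring

end Groth.Agent.S18927
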