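import Groth.Statements.S18928
import Mathlib

set_option linter.all false

set_option autoImplicit false
universe u
open DPow

open WittVector

namespace Groth.Agent.S18928

theorem dp_pow_sub {B : Type*} [CommRing B] {I : Ideal B} (hI : DividedPowers I) (p : ℕ) [Fact p.Prime]
    (r : ℕ) (b δ : B) (hδ : δ ∈ I) :
    (b + δ) ^ (p ^ r) - b ^ (p ^ r) ∈ Ideal.span {((p : B) ^ r)} * I := by
  set N := p ^ r with hN
  rw [add_comm b δ, add_pow, Finset.sum_range_succ', pow_zero, one_mul, Nat.sub_zero, Nat.choose_zero_right,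
    Nat.cast_one, mul_one, add_sub_cancel_right]
  refine Ideal.sum_mem _ fun k _ => ?_
  obtain ⟨c, hc⟩ : N ∣ N.descFactorial (k + 1) := by
    rcases Nat.eq_zero_or_pos N with h | h
    · simp [h]
    · obtain ⟨M, hM⟩ := Nat.exists_eq_succ_of_ne_zero h.ne'
      rw [hM, Nat.succ_descFactorial_succ]; exact dvd_mul_right _ _
  rw [← hI.factorial_mul_dpow_eq_pow hδ]
  have : ((k + 1).factorial : B) * hI.dpow (k + 1) δ * b ^ (N - (k + 1)) * (N.choose (k + 1) : B) =
      (p : B) ^ r * ((c : B) * b ^ (N - (k + 1)) * hI.dpow (k + 1) δ) := by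
    have e : (((k + 1).factorial * N.choose (k + 1) : ℕ) : B) = ((N * c : ℕ) : B) := by
      rw [← Nat.descFactorial_eq_factorial_mul_choose, hc]
    push_cast at e
    rw [show (N : B) = (p : B) ^ r by rw [hN]; push_cast; ring] at e
    linear_combination (hI.dpow (k + 1) δ * b ^ (N - (k + 1))) * e
  rw [this]
  exact Ideal.mul_mem_mul (Ideal.mem_span_singleton_self _) (I.mul_mem_left _ (hI.dpow_mem k.succ_ne_zero hδ))

/-- Let B be a commutative ring, I an ideal of B with a divided power structure, p a prime, r a natural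
number, b an element of B and δ an element of I. Then (b + δ)^(p^r) − b^(p^r) lies in the ideal p^r
I. (The source states this for a divided power thickening over the Witt vectors of length n and 0 ≤
r ≤ n; neither restriction is used.) -/
theorem result {B : Type u} [CommRing B] {I : Ideal B}
    (hI : DividedPowers I) (p : ℕ) [Fact p.Prime] (r : ℕ) (b δ : B) (hδ : δ ∈ I) :
    (b + δ) ^ (p ^ r) - b ^ (p ^ r) ∈ Ideal.span {((p : B) ^ r)} * I := by
  exact dp_pow_sub hI p r b δ hδ

end Groth.Agent.S18928
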