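import Groth.Statements.S18929
import Mathlib

set_option linter.all false

set_option autoImplicit false
universe u
open DPow

open WittVector

namespace Groth.Agent.S18929

theorem dp_pow_sub {B : Type*} [CommRing B] {I : Ideal B} (hI : DividedPowers I) (p : ℕ) [Fact p.Prime]
    (r : ℕ) (b δ : B) (hδ : δ ∈ I) :
    (b + δ) ^ (p ^ r) - b ^ (p ^ r) ∈ Ideal.span {((p : B) ^ r)} * I := by
  set N := p ^ r with hN
  rw [add_comm b δ, add_pow, Finset.sum_range_succ', pow_zero, one_mul, Nat.sub_zero, Nat.choose_zero_right,
    Nat.cast_one, mul_one, add_sub_cancel_right]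
  refine Ideal.sum_mem _ fun k _ => ?_
  obtain ⟨c, hc⟩ : N ∣ N.descFactorial (k + 1) := by
    rcases Nat.eq_zero_or_pos N with h | h
    · simp [h]
    · obtain ⟨M, hM⟩ := Nat.exists_eq_succ_of_ne_zero h.ne'
      rw [hM, Nat.succ_descFactorial_succ]; exact dvd_mul_right _ _
  rw [← hI.factorial_mul_dpow_eq_pow hδ]
  have : ((k + 1).factorial : B) * hI.dpow (k + 1) δ * b ^ (N - (k + 1)) * (N.choose (k + 1) : B) =
      (p : B) ^ r * ((c : B) * b ^ (N - (k + 1)) * hI.dpow (k + 1) δ) := by
    have e : (((k + 1).factorial * N.choose (k + 1) : ℕ) : B) = ((N * c : ℕ) : B) := by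
      rw [← Nat.descFactorial_eq_factorial_mul_choose, hc]
    push_cast at e
    rw [show (N : B) = (p : B) ^ r by rw [hN]; push_cast; ring] at e
    linear_combination (hI.dpow (k + 1) δ * b ^ (N - (k + 1))) * e
  rw [this]
  exact Ideal.mul_mem_mul (Ideal.mem_span_singleton_self _) (I.mul_mem_left _ (hI.dpow_mem k.succ_ne_zero hδ))

theorem ghost_eq {B : Type*} [CommRing B] (p : ℕ) [Fact p.Prime] (n : ℕ) (hp : (p : B) ^ n = 0) (x : WittVector p B) :
    WittVector.ghostComponent n x = ∑ i : Fin n, (p : B) ^ (i : ℕ) * (x.coeff i) ^ (p ^ (n - i)) := by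
  rw [ghostComponent_apply, aeval_wittPolynomial, Finset.sum_range_succ, hp, zero_mul, add_zero,
    Finset.sum_range]

/-- Let p be a prime, n a natural number, B a commutative ring in which p^n = 0, and I an ideal of B
equipped with divided powers. There is a ring homomorphism θ from the truncated Witt vectors
W_n(B/I) to B such that, for every Witt vector x over B, θ applied to the truncation of the image of
x in W_n(B/I) equals Σ_{i<n} p^i x_i^(p^(n−i)); in particular this sum depends only on the residues
of x_0, …, x_{n−1} modulo I. (The source works with a divided power thickening of an algebra over a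
perfect field and also checks linearity over the Witt vectors of that field; only the ring
homomorphism is asserted here. θ is unique, the truncation-of-reduction map being surjective.) -/
theorem result (p : ℕ) [Fact p.Prime] (n : ℕ)
    {B : Type u} [CommRing B] (hp : (p : B) ^ n = 0) {I : Ideal B} (hI : DividedPowers I) :
    ∃ θ : TruncatedWittVector p n (B ⧸ I) →+* B, ∀ x : WittVector p B, θ (WittVector.truncate n (WittVector.map (Ideal.Quotient.mk I) x)) =
        ∑ i : Fin n, (p : B) ^ (i : ℕ) * (x.coeff i) ^ (p ^ (n - i)) := by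
  set φ := (WittVector.truncate (p := p) n).comp (WittVector.map (Ideal.Quotient.mk I)) with hφ
  have hs : Function.Surjective φ :=
    (truncate_surjective p n (B ⧸ I)).comp (map_surjective _ Ideal.Quotient.mk_surjective)
  have hker : RingHom.ker φ ≤ RingHom.ker (WittVector.ghostComponent (p := p) (R := B) n) := by
    intro x hx
    have hx' : WittVector.map (Ideal.Quotient.mk I) x ∈ RingHom.ker (WittVector.truncate (p := p) (R := B ⧸ I) n) := hx
    rw [mem_ker_truncate] at hx'
    rw [RingHom.mem_ker, ghost_eq p n hp]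
    refine Finset.sum_eq_zero fun i _ => ?_
    have hi : x.coeff i ∈ I := Ideal.Quotient.eq_zero_iff_mem.mp (by simpa [map_coeff] using hx' i i.2)
    have h := dp_pow_sub hI p (n - i) 0 _ hi
    rw [zero_add, zero_pow (pow_ne_zero _ (Fact.out : p.Prime).ne_zero), sub_zero] at h
    obtain ⟨w, -, hw⟩ := Ideal.mem_span_singleton_mul.mp h
    rw [← hw, ← mul_assoc, ← pow_add, Nat.add_sub_cancel' i.2.le, hp, zero_mul]
  refine ⟨RingHom.liftOfSurjective φ hs ⟨_, hker⟩, fun x => ?_⟩
  rw [← ghost_eq p n hp]
  exact RingHom.liftOfSurjective_comp_apply φ hs ⟨_, hker⟩ x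

end Groth.Agent.S18929
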