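import Groth.Statements.S1893
import Groth.Agent.GrpdLib.Orbits
import Mathlib.AlgebraicGeometry.Morphisms.UniversallyOpen

set_option autoImplicit false
universe u
open CategoryTheory CategoryTheory.Limits AlgebraicGeometry
open Grpd

namespace Groth.Agent.S1893

/-- Let (U, R, s, t, c) be a groupoid scheme over S with s, t quasi-compact and flat and U
quasi-separated, and W ⊆ U a quasi-compact open. Then the saturation t(s⁻¹(W)) can be written as an
intersection of quasi-compact opens of U, indexed by a nonempty set. (A groupoid scheme carries U,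
R, s, t, c, e, i over S with the groupoid axioms on T-points; 'finite locally free' is finite, flat
and locally of finite presentation; C ⊂ Γ(U) is the ring of functions a with s♯(a) = t♯(a) and M =
Spec C.) -/
theorem result (S : Scheme.{u}) (G : Grpd.GroupoidScheme S) [QuasiCompact G.s] [Flat G.s] [QuasiCompact G.t] [Flat G.t] [QuasiSeparatedSpace G.U] (W : G.U.Opens) (hW : IsCompact (W : Set G.U)) : ∃ (ι : Type u) (_ : Nonempty ι) (V : ι → G.U.Opens), (∀ i, IsCompact (V i : Set G.U)) ∧ ⇑G.t '' (⇑G.s ⁻¹' (W : Set G.U)) = ⋂ i, (V i : Set G.U) := by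
  set E := ⇑G.t '' (⇑G.s ⁻¹' (W : Set G.U))
  have hE : IsCompact E := (G.s.isCompact_preimage hW).image G.t.continuous
  have hgen : StableUnderGeneralization E :=
    (W.isOpen.preimage G.s.continuous).stableUnderGeneralization.image (Flat.generalizingMap G.t)
  have hnb : ∀ (O : G.U.Opens), E ⊆ O → ∃ V : G.U.Opens, IsCompact (V : Set G.U) ∧ E ⊆ V ∧ V ≤ O := by
    intro O hO
    choose! A hA hyA hAO using fun y (hy : y ∈ E) => exists_isAffineOpen_mem_and_subset (U := O) (hO hy)
    obtain ⟨T, hT⟩ := hE.elim_finite_subcover (fun y : E => (A y : Set G.U)) (fun y => (A y).isOpen)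
      fun y hy => Set.mem_iUnion.2 ⟨⟨y, hy⟩, hyA y hy⟩
    refine ⟨⟨⋃ y ∈ T, (A y : Set G.U), isOpen_biUnion fun y _ => (A y).isOpen⟩,
      T.isCompact_biUnion fun y _ => (hA y.1 y.2).isCompact, hT, fun z hz => ?_⟩
    obtain ⟨y, -, hz⟩ := Set.mem_iUnion₂.1 hz
    exact hAO y.1 y.2 hz
  obtain ⟨V₀, hV₀, hEV₀, -⟩ := hnb ⊤ fun _ _ => trivial
  refine ⟨{V : G.U.Opens // IsCompact (V : Set G.U) ∧ E ⊆ V}, ⟨⟨V₀, hV₀, hEV₀⟩⟩, fun V => V.1, fun V => V.2.1, ?_⟩
  refine Set.Subset.antisymm (Set.subset_iInter fun V => V.2.2) fun x hx => by_contra fun hxE => ?_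
  let O : G.U.Opens := ⟨(closure {x})ᶜ, isClosed_closure.isOpen_compl⟩
  obtain ⟨V, hV, hEV, hVO⟩ := hnb O fun y hy hyx => hxE (hgen (specializes_iff_mem_closure.2 hyx) hy)
  exact hVO (Set.mem_iInter.1 hx ⟨V, hV, hEV⟩) (subset_closure rfl)

end Groth.Agent.S1893
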