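import Groth.Statements.S18930
import Mathlib

set_option linter.all false

set_option autoImplicit false
universe u
open DPow

open WittVector

namespace Groth.Agent.S18930

theorem theta_mod_p {B : Type*} [CommRing B] (p : ℕ) [Fact p.Prime] (n : ℕ) (hn : 0 < n) (x : WittVector p B) :
    Ideal.Quotient.mk (Ideal.span {(p : B)}) (∑ i : Fin n, (p : B) ^ (i : ℕ) * (x.coeff i) ^ (p ^ (n - i))) =
      (Ideal.Quotient.mk (Ideal.span {(p : B)}) (x.coeff 0)) ^ p ^ n := by
  rw [map_sum, Finset.sum_eq_single (⟨0, hn⟩ : Fin n)]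
  · simp
  · intro i _ hi
    have : (i : ℕ) ≠ 0 := fun h => hi (Fin.ext h)
    have hpz : Ideal.Quotient.mk (Ideal.span {(p : B)}) (p : B) = 0 :=
      Ideal.Quotient.eq_zero_iff_mem.mpr (Ideal.mem_span_singleton_self _)
    rw [map_mul, map_pow, hpz, zero_pow this, zero_mul]
  · simp

/-- Let p be a prime, n ≥ 1, B a commutative ring with p^n = 0 and A = B/pB. Let θ : W_n(A) → B be the
ring homomorphism which sends the reduction of a Witt vector (x_0, …, x_{n−1}) over B to Σ_{i<n} p^i
x_i^(p^(n−i)), let J_n be its kernel and let I_n be the set of a in W_n(A) whose zeroth component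
satisfies a_0^(p^n) = 0. Then J_n + (p) ⊆ I_n. (In the source B is the ring of global sections of a
scheme over the Witt vectors of length n of a perfect field.) -/
theorem result (p : ℕ) [Fact p.Prime] (n : ℕ) (hn : 0 < n)
    {B : Type u} [CommRing B] (hp : (p : B) ^ n = 0)
    (θ : TruncatedWittVector p n (B ⧸ (Ideal.span {(p : B)})) →+* B)
    (hθ : ∀ x : WittVector p B, θ (WittVector.truncate n (WittVector.map (Ideal.Quotient.mk (Ideal.span {(p : B)})) x)) =
        ∑ i : Fin n, (p : B) ^ (i : ℕ) * (x.coeff i) ^ (p ^ (n - i)))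
    (a : TruncatedWittVector p n (B ⧸ (Ideal.span {(p : B)})))
    (ha : a ∈ RingHom.ker θ ⊔ Ideal.span {(p : TruncatedWittVector p n (B ⧸ (Ideal.span {(p : B)})))}) :
    (TruncatedWittVector.coeff ⟨0, hn⟩ a) ^ (p ^ n) = 0 := by
  obtain ⟨k, hk, m, hm, rfl⟩ := Submodule.mem_sup.mp ha
  obtain ⟨c, rfl⟩ := Ideal.mem_span_singleton.mp hm
  obtain ⟨x', hx'⟩ := truncate_surjective p n (B ⧸ Ideal.span {(p : B)}) (k + (p : TruncatedWittVector p n _) * c)
  obtain ⟨x, rfl⟩ := map_surjective (Ideal.Quotient.mk (Ideal.span {(p : B)})) Ideal.Quotient.mk_surjective x'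
  rw [← hx', coeff_truncate, map_coeff]
  rw [← theta_mod_p p n hn x, ← hθ, hx', Ideal.Quotient.eq_zero_iff_mem, map_add, RingHom.mem_ker.mp hk,
    zero_add, map_mul, map_natCast]
  exact Ideal.mul_mem_right _ _ (Ideal.mem_span_singleton_self _)

end Groth.Agent.S18930
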