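import Groth.Statements.S18931
import Mathlib

set_option linter.all false

set_option autoImplicit false
universe u
open DPow

open WittVector

namespace Groth.Agent.S18931

theorem theta_mod_p {B : Type*} [CommRing B] (p : ℕ) [Fact p.Prime] (n : ℕ) (hn : 0 < n) (x : WittVector p B) :
    Ideal.Quotient.mk (Ideal.span {(p : B)}) (∑ i : Fin n, (p : B) ^ (i : ℕ) * (x.coeff i) ^ (p ^ (n - i))) =
      (Ideal.Quotient.mk (Ideal.span {(p : B)}) (x.coeff 0)) ^ p ^ n := by
  rw [map_sum, Finset.sum_eq_single (⟨0, hn⟩ : Fin n)]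
  · simp
  · intro i _ hi
    have : (i : ℕ) ≠ 0 := fun h => hi (Fin.ext h)
    have hpz : Ideal.Quotient.mk (Ideal.span {(p : B)}) (p : B) = 0 :=
      Ideal.Quotient.eq_zero_iff_mem.mpr (Ideal.mem_span_singleton_self _)
    rw [map_mul, map_pow, hpz, zero_pow this, zero_mul]
  · simp

theorem theta_surjective {B : Type*} [CommRing B] (p : ℕ) [Fact p.Prime] (n : ℕ) (hp : (p : B) ^ n = 0)
    (hF : Function.Surjective (fun y : B ⧸ (Ideal.span {(p : B)}) => y ^ p))
    (θ : TruncatedWittVector p n (B ⧸ (Ideal.span {(p : B)})) →+* B)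
    (hθ : ∀ x : WittVector p B, θ (WittVector.truncate n (WittVector.map (Ideal.Quotient.mk (Ideal.span {(p : B)})) x)) =
        ∑ i : Fin n, (p : B) ^ (i : ℕ) * (x.coeff i) ^ (p ^ (n - i))) :
    Function.Surjective θ := by
  rcases Nat.eq_zero_or_pos n with rfl | hn
  · intro b
    rw [pow_zero] at hp
    exact ⟨0, by rw [map_zero, ← mul_one b, hp, mul_zero]⟩
  have step : ∀ b : B, ∃ a c, b = θ a + (p : B) * c := by
    intro b
    have hk : ∀ m, Function.Surjective (fun y : B ⧸ (Ideal.span {(p : B)}) => y ^ p ^ m) := by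
      intro m
      induction m with
      | zero => intro z; exact ⟨z, by simp⟩
      | succ m ih => intro z; obtain ⟨w, hw⟩ := hF z; obtain ⟨u, hu⟩ := ih w; exact ⟨u, by simp only at hu hw ⊢; rw [pow_succ, pow_mul, hu, hw]⟩
    obtain ⟨y, hy⟩ := hk n (Ideal.Quotient.mk _ b)
    obtain ⟨y', rfl⟩ := Ideal.Quotient.mk_surjective y
    have h1 := hθ (teichmuller p y')
    have h2 := theta_mod_p p n hn (teichmuller p y')
    rw [← h1, teichmuller_coeff_zero] at h2
    have h3 : b - θ (truncate n (WittVector.map (Ideal.Quotient.mk (Ideal.span {(p : B)})) (teichmuller p y'))) ∈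
        Ideal.span {(p : B)} := by rw [← Ideal.Quotient.eq, h2]; exact hy.symm
    obtain ⟨c, hc⟩ := Ideal.mem_span_singleton.mp h3
    exact ⟨_, c, by rw [← hc, add_sub_cancel]⟩
  have : ∀ m, ∀ b : B, ∃ a c, b = θ a + (p : B) ^ m * c := by
    intro m
    induction m with
    | zero => intro b; exact ⟨0, b, by simp⟩
    | succ m ih =>
      intro b
      obtain ⟨a, c, rfl⟩ := ih b
      obtain ⟨a', c', rfl⟩ := step c
      exact ⟨a + (p : TruncatedWittVector p n (B ⧸ Ideal.span {(p : B)})) ^ m * a', c', by simp [map_add, map_mul, map_pow, pow_succ]; ring⟩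
  intro b
  obtain ⟨a, c, rfl⟩ := this n b
  exact ⟨a, by rw [hp, zero_mul, add_zero]⟩

/-- Let p be a prime, n ≥ 1, B a commutative ring with p^n = 0 and A = B/pB, and assume that the p-th
power map of A is surjective. Let θ : W_n(A) → B be the ring homomorphism which sends the reduction
of a Witt vector (x_0, …, x_{n−1}) over B to Σ_{i<n} p^i x_i^(p^(n−i)). Then every a in W_n(A) with
a_0^(p^n) = 0 lies in ker θ + (p); together with the reverse inclusion, ker θ + (p) is exactly the
set of such a. (In the source B is the ring of global sections of a scheme over the Witt vectors of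
length n of a perfect field. The printed argument subtracts a single correction term, which suffices
for n ≤ 2; in general one corrects the components one at a time.) -/
theorem result (p : ℕ) [Fact p.Prime]
    (n : ℕ) (hn : 0 < n) {B : Type u} [CommRing B] (hp : (p : B) ^ n = 0)
    (hF : Function.Surjective (fun y : B ⧸ (Ideal.span {(p : B)}) => y ^ p))
    (θ : TruncatedWittVector p n (B ⧸ (Ideal.span {(p : B)})) →+* B)
    (hθ : ∀ x : WittVector p B, θ (WittVector.truncate n (WittVector.map (Ideal.Quotient.mk (Ideal.span {(p : B)})) x)) =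
        ∑ i : Fin n, (p : B) ^ (i : ℕ) * (x.coeff i) ^ (p ^ (n - i)))
    (a : TruncatedWittVector p n (B ⧸ (Ideal.span {(p : B)}))) (ha : (TruncatedWittVector.coeff ⟨0, hn⟩ a) ^ (p ^ n) = 0) :
    a ∈ RingHom.ker θ ⊔ Ideal.span {(p : TruncatedWittVector p n (B ⧸ (Ideal.span {(p : B)})))} := by
  obtain ⟨x', hx'⟩ := truncate_surjective p n (B ⧸ Ideal.span {(p : B)}) a
  obtain ⟨x, rfl⟩ := map_surjective (Ideal.Quotient.mk (Ideal.span {(p : B)})) Ideal.Quotient.mk_surjective x'
  rw [← hx', coeff_truncate, map_coeff] at ha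
  rw [← theta_mod_p p n hn x, ← hθ, hx', Ideal.Quotient.eq_zero_iff_mem, Ideal.mem_span_singleton] at ha
  obtain ⟨w, hw⟩ := ha
  obtain ⟨c, rfl⟩ := theta_surjective p n hp hF θ hθ w
  have h1 : (p : TruncatedWittVector p n (B ⧸ Ideal.span {(p : B)})) * c ∈
      Ideal.span {(p : TruncatedWittVector p n (B ⧸ Ideal.span {(p : B)}))} :=
    Ideal.mul_mem_right _ _ (Ideal.mem_span_singleton_self _)
  have h2 : a - (p : TruncatedWittVector p n (B ⧸ Ideal.span {(p : B)})) * c ∈ RingHom.ker θ := by
    rw [RingHom.mem_ker, map_sub, map_mul, map_natCast, hw, sub_self]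
  have h3 := add_mem (Ideal.mem_sup_left (T := Ideal.span {(p : TruncatedWittVector p n (B ⧸ Ideal.span {(p : B)}))}) h2) (Ideal.mem_sup_right h1)
  rwa [sub_add_cancel] at h3

end Groth.Agent.S18931
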