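import Groth.Statements.S18933
import Groth.Agent.Synt15.RelCI
import Groth.Agent.Synt15.Syntomic
import Groth.Agent.Synt15.SyntAt
-- import your own Groth.Agent.* helpers here

set_option autoImplicit false
universe u
open Synt

namespace Groth.Agent.S18933

/-- Let p be a prime, A a Noetherian commutative ring and m a natural number, and let φ be the A-algebra
endomorphism of the polynomial ring A[T_1, …, T_m] with φ(T_i) = T_i^p. Then φ is syntomic and
faithfully flat (so Spec φ is a covering for the syntomic topology). -/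
theorem result (p : ℕ) [Fact p.Prime]
    (A : Type u) [CommRing A] [IsNoetherianRing A] (m : ℕ)
    (φ : MvPolynomial (Fin m) A →ₐ[A] MvPolynomial (Fin m) A)
    (hφ : ∀ i : Fin m, φ (MvPolynomial.X i) = MvPolynomial.X i ^ p) :
    @Synt.IsSyntomic (MvPolynomial (Fin m) A) _ (MvPolynomial (Fin m) A) _ φ.toRingHom.toAlgebra ∧
      φ.toRingHom.FaithfullyFlat := by
  classical
  have hp : 0 < p := (Fact.out : p.Prime).pos
  let P := MvPolynomial (Fin m) A
  let F : Fin m → MvPolynomial (Fin m) P := fun i => MvPolynomial.X i ^ p - MvPolynomial.C (MvPolynomial.X i : P)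
  let mk : MvPolynomial (Fin m) P →ₐ[P] Synt.RelGCIRing P m m F := Ideal.Quotient.mkₐ P _
  have hX : ∀ i, mk (MvPolynomial.X i) ^ p = algebraMap P (Synt.RelGCIRing P m m F) (MvPolynomial.X i) := fun i => by
    rw [← map_pow, ← mk.commutes, ← sub_eq_zero, ← map_sub]
    exact Ideal.Quotient.eq_zero_iff_mem.2 (Ideal.subset_span ⟨i, rfl⟩)
  haveI : Algebra.IsIntegral P (Synt.RelGCIRing P m m F) := by
    have htop : Algebra.adjoin P (Set.range fun i => mk (MvPolynomial.X i)) = ⊤ := by
      rw [show (Set.range fun i => mk (MvPolynomial.X i)) = mk '' Set.range MvPolynomial.X from Set.range_comp _ _,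
        ← AlgHom.map_adjoin, MvPolynomial.adjoin_range_X, Algebra.map_top, AlgHom.range_eq_top]
      exact Ideal.Quotient.mkₐ_surjective P _
    refine ⟨fun y => ?_⟩
    have hy : y ∈ Algebra.adjoin P (Set.range fun i => mk (MvPolynomial.X i)) := htop ▸ Algebra.mem_top
    refine (Algebra.adjoin_le (S := integralClosure P (Synt.RelGCIRing P m m F)) ?_) hy
    rintro _ ⟨i, rfl⟩
    refine IsIntegral.of_pow hp ?_
    rw [hX]
    exact isIntegral_algebraMap
  haveI : Module.Finite P (Synt.RelGCIRing P m m F) := Algebra.IsIntegral.finite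
  have hF : Synt.IsRelGCI P m m F := fun q hq => by
    refine ⟨le_rfl, ?_⟩
    haveI : Module.Finite q.asIdeal.ResidueField (q.asIdeal.Fiber (Synt.RelGCIRing P m m F)) :=
      Module.Finite.base_change P q.asIdeal.ResidueField (Synt.RelGCIRing P m m F)
    haveI : IsArtinianRing (q.asIdeal.Fiber (Synt.RelGCIRing P m m F)) :=
      IsArtinianRing.of_finite q.asIdeal.ResidueField (q.asIdeal.Fiber (Synt.RelGCIRing P m m F))
    haveI := hq
    rw [Nat.sub_self, Nat.cast_zero]
    exact ringKrullDimZero_iff_ringKrullDim_eq_zero.1 (@Ring.krullDimLE_zero_iff (q.asIdeal.Fiber (Synt.RelGCIRing P m m F)) _ |>.2 fun I hI => (@IsArtinianRing.isPrime_iff_isMaximal (q.asIdeal.Fiber (Synt.RelGCIRing P m m F)) _ _ I).1 hI)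
  let ev : MvPolynomial (Fin m) P →+* P := MvPolynomial.eval₂Hom φ.toRingHom MvPolynomial.X
  have hev : ∀ a ∈ Ideal.span (Set.range F), ev a = 0 := fun a ha => by
    refine (Ideal.span_le.2 ?_ : Ideal.span (Set.range F) ≤ RingHom.ker ev) ha
    rintro _ ⟨i, rfl⟩
    show ev (MvPolynomial.X i ^ p - MvPolynomial.C (MvPolynomial.X i : P)) = 0
    simp [ev, hφ, sub_eq_zero]
  let α : Synt.RelGCIRing P m m F →+* P := Ideal.Quotient.lift _ ev hev
  let β : P →ₐ[A] Synt.RelGCIRing P m m F := MvPolynomial.aeval fun i => mk (MvPolynomial.X i)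
  have hβφ : β.comp φ = IsScalarTower.toAlgHom A P (Synt.RelGCIRing P m m F) :=
    MvPolynomial.algHom_ext fun i => by
      show β (φ (MvPolynomial.X i)) = algebraMap P (Synt.RelGCIRing P m m F) (MvPolynomial.X i)
      rw [hφ, map_pow, show β (MvPolynomial.X i) = mk (MvPolynomial.X i) from MvPolynomial.aeval_X _ i]
      exact hX i
  have hαβ : ∀ x, α (β x) = x := by
    intro x
    induction x using MvPolynomial.induction_on with
    | C a =>
      rw [show β (MvPolynomial.C a) = mk (MvPolynomial.C (MvPolynomial.C a)) from MvPolynomial.aeval_C _ a]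
      show ev (MvPolynomial.C (MvPolynomial.C a)) = _
      simp only [ev, MvPolynomial.eval₂Hom_C]
      exact φ.commutes a
    | add x y hx hy => simp [map_add, hx, hy]
    | mul_X x i hx =>
      rw [map_mul, map_mul, hx]
      congr 1
      rw [show β (MvPolynomial.X i) = mk (MvPolynomial.X i) from MvPolynomial.aeval_X _ i]
      show ev (MvPolynomial.X i) = _
      simp [ev]
  have hβα : β.toRingHom.comp α = RingHom.id _ := Ideal.Quotient.ringHom_ext (MvPolynomial.ringHom_ext (fun r => by
      show β (ev (MvPolynomial.C r)) = mk (MvPolynomial.C r)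
      simp only [ev, MvPolynomial.eval₂Hom_C]
      exact (AlgHom.congr_fun hβφ r).trans (mk.commutes r).symm)
    fun i => by
      show β (ev (MvPolynomial.X i)) = mk (MvPolynomial.X i)
      simp only [ev, MvPolynomial.eval₂Hom_X']
      exact MvPolynomial.aeval_X _ i)
  let e : Synt.RelGCIRing P m m F ≃+* P := RingEquiv.ofRingHom α β.toRingHom (RingHom.ext hαβ) hβα
  have he : ∀ r : P, e (algebraMap P (Synt.RelGCIRing P m m F) r) = φ r := fun r => by
    rw [← mk.commutes]
    show ev (MvPolynomial.C r) = φ r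
    simp only [ev, MvPolynomial.eval₂Hom_C]
    rfl
  have hs : @Synt.IsSyntomic P _ P _ φ.toRingHom.toAlgebra :=
    @Groth.Agent.Synt15.isSyntomic_of_ringEquiv P P (Synt.RelGCIRing P m m F) P _ _ _ _ _ φ.toRingHom.toAlgebra
      (RingEquiv.refl P) e he (Groth.Agent.Synt15.isSyntomic_relGCI hF)
  refine ⟨hs, ?_⟩
  have hinj : Function.Injective φ := by
    rw [show φ = MvPolynomial.expand p from MvPolynomial.algHom_ext fun i => by simp [hφ]]
    exact MvPolynomial.expand_injective hp
  have hint : φ.toRingHom.IsIntegral := fun x => by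
    obtain ⟨y, rfl⟩ := e.surjective x
    obtain ⟨P', hP', hP''⟩ := Algebra.IsIntegral.isIntegral (R := P) y
    refine ⟨P', hP', ?_⟩
    have h1 : e.toRingHom.comp (algebraMap P (Synt.RelGCIRing P m m F)) = φ.toRingHom := RingHom.ext he
    rw [← h1]
    show Polynomial.eval₂ (e.toRingHom.comp (algebraMap P (Synt.RelGCIRing P m m F))) (e.toRingHom y) P' = 0
    rw [← Polynomial.hom_eval₂, hP'', map_zero]
  letI := φ.toRingHom.toAlgebra
  haveI := hs.1
  haveI : Algebra.IsIntegral P P := ⟨hint⟩
  refine RingHom.faithfullyFlat_algebraMap_iff.2 (Module.FaithfullyFlat.of_comap_surjective ?_)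
  intro q
  obtain ⟨Q, -, hQ, hQq⟩ := Ideal.exists_ideal_over_prime_of_isIntegral q.asIdeal (⊥ : Ideal P) (by
    rw [← RingHom.ker_eq_comap_bot,
      (RingHom.injective_iff_ker_eq_bot (algebraMap (MvPolynomial (Fin m) A) P)).1 hinj]
    exact bot_le)
  exact ⟨⟨Q, hQ⟩, PrimeSpectrum.ext hQq⟩

end Groth.Agent.S18933
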