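import Groth.Statements.S18936
import Mathlib.RingTheory.Derivation.Basic
import Mathlib.RingTheory.Flat.Equalizer
import Mathlib.RingTheory.Henselian
import Mathlib.RingTheory.Regular.RegularSequence
import Mathlib.RingTheory.RegularLocalRing.Defs
import Mathlib.RingTheory.SimpleRing.Principal
import Mathlib.RingTheory.Flat.FaithfullyFlat.Algebra
import Mathlib.RingTheory.Ideal.AssociatedPrime.Basic
import Mathlib.RingTheory.HopkinsLevitzki
import Mathlib.RingTheory.Support
import Mathlib.Tactic
import Groth.Agent.CommAlg4.Basic

set_option linter.all false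

set_option autoImplicit false
universe u
open CAlg

open Groth.Agent.CommAlg4

namespace Groth.Agent.S18936

/-- Let A be a Noetherian commutative ring, q a prime ideal of A and f an element of A whose image in
the localization A_q is a non-zero-divisor. Then there is an element b of A not in q such that the
image of f in A[1/b] is a non-zero-divisor. -/
theorem result {A : Type u} [CommRing A] [IsNoetherianRing A]
    (q : Ideal A) [q.IsPrime] (f : A)
    (hf : algebraMap A (Localization.AtPrime q) f ∈ nonZeroDivisors (Localization.AtPrime q)) :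
    ∃ b : A, b ∉ q ∧ algebraMap A (Localization.Away b) f ∈ nonZeroDivisors (Localization.Away b) := by
  classical
  obtain ⟨s, hs⟩ := (IsNoetherian.noetherian (LinearMap.ker (LinearMap.mulLeft A f)) : _)
  have h : ∀ x ∈ s, ∃ c : q.primeCompl, (c:A) * x = 0 := by
    intro x hx
    have hx' : f * x = 0 := by
      have : x ∈ LinearMap.ker (LinearMap.mulLeft A f) := hs ▸ Submodule.subset_span hx
      simpa using this
    have := (mem_nonZeroDivisors_iff.mp hf).1 (algebraMap A _ x) (by rw [← map_mul, hx', map_zero])
    exact (IsLocalization.map_eq_zero_iff q.primeCompl _ x).mp this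
  choose c hc using h
  let b : A := ∏ x ∈ s.attach, (c x.1 x.2 : A)
  have hbq : b ∉ q := by
    simp only [b, Ideal.IsPrime.prod_mem_iff, not_exists, not_and]
    exact fun x _ => (c x.1 x.2).2
  have hb : ∀ x, f * x = 0 → b * x = 0 := by
    intro x hx0
    have hx : x ∈ Submodule.span A (s : Set A) := by rw [hs]; simpa using hx0
    clear hx0
    induction hx using Submodule.span_induction with
    | mem y hy =>
      obtain ⟨d, hd⟩ := Finset.dvd_prod_of_mem (fun x : s => (c x.1 x.2 : A)) (Finset.mem_attach s ⟨y, hy⟩)
      simp only [b]; rw [hd, mul_right_comm, hc, zero_mul]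
    | zero => simp
    | add x y _ _ hx hy => rw [mul_add, hx, hy, add_zero]
    | smul r x _ hx => rw [smul_eq_mul, mul_left_comm, hx, mul_zero]
  refine ⟨b, hbq, mem_nonZeroDivisors_iff_right.mpr fun x hx => ?_⟩
  obtain ⟨⟨a, t⟩, h⟩ := IsLocalization.surj (Submonoid.powers b) x
  obtain ⟨n, hn⟩ := t.2
  have h0 : algebraMap A (Localization.Away b) (a * f) = 0 := by
    rw [map_mul, ← h, mul_right_comm, hx, zero_mul]
  obtain ⟨⟨c, k, rfl⟩, hc⟩ := (IsLocalization.map_eq_zero_iff (Submonoid.powers b) _ _).mp h0
  have h1 : b * (b ^ k * a) = 0 := hb _ (by rw [← hc]; ring)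
  have ha0 : algebraMap A (Localization.Away b) a = 0 := by
    rw [IsLocalization.map_eq_zero_iff (Submonoid.powers b)]
    exact ⟨⟨b ^ (k+1), k+1, rfl⟩, by simpa [pow_succ', mul_assoc] using h1⟩
  rw [ha0] at h
  exact (IsUnit.mul_left_eq_zero (IsLocalization.map_units _ t)).mp h

end Groth.Agent.S18936
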