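import Groth.Statements.S18938
import Groth.Agent.Synt15.Chart
-- import your own Groth.Agent.* helpers here

set_option autoImplicit false
universe u
open Synt

namespace Groth.Agent.S18938

/-- Let A be a Noetherian commutative ring and B a syntomic A-algebra. Then Spec B is covered by basic
opens D(g) with B[1/g] isomorphic, as an A-algebra, to A[T_1, …, T_n]/(P_1, …, P_d) for a regular
sequence P_1, …, P_d (successive non-zero-divisors with nonzero last quotient) in the polynomial
ring A[T_1, …, T_n]. (The source states this for a syntomic scheme over Spec A, syntomic meaning
flat, locally of finite presentation and locally a Koszul-regular immersion into a smooth scheme;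
here syntomic is the ring-map notion with local complete intersection fibres, which agrees with it.) -/
theorem result
    (A : Type u) [CommRing A] [IsNoetherianRing A] (B : Type u) [CommRing B] [Algebra A B]
    (h : Synt.IsSyntomic A B) (q : PrimeSpectrum B) :
    ∃ g : B, g ∉ q.asIdeal ∧
      ∃ (n d : ℕ) (P : Fin d → MvPolynomial (Fin n) A),
        RingTheory.Sequence.IsRegular (MvPolynomial (Fin n) A) (List.ofFn P) ∧
        Nonempty (Localization.Away g ≃ₐ[A] (MvPolynomial (Fin n) A ⧸ Ideal.ofList (List.ofFn P))) := by
  exact Groth.Agent.Synt15.exists_regular_chart h q

end Groth.Agent.S18938
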