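import Groth.Statements.S18939
import Groth.Agent.CAlgH.KoszulRegular


set_option autoImplicit false
universe u
open LCI

namespace Groth.Agent.S18939

/-- Let R be a commutative ring, I a proper ideal of R and f_1, …, f_r a Koszul-regular sequence of
elements of I generating I. Then I/I² is a free R/I-module of rank r, with basis the classes of f_1,
…, f_r. -/
theorem result {R : Type u} [CommRing R] {I : Ideal R} (hI : I ≠ ⊤)
    (r : ℕ) (f : Fin r → I) (hf : LCI.IsKoszulRegularSeq R (List.ofFn (fun i => (f i : R))))
    (hfI : Ideal.span (Set.range (fun i => (f i : R))) = I) :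
    ∃ b : Module.Basis (Fin r) (R ⧸ I) I.Cotangent, ∀ i, b i = I.toCotangent (f i) := by
  exact Groth.Agent.CAlgH.KoszulRegular.exists_basis_cotangent f
    ((Groth.Agent.CAlgH.KoszulRegular.isKoszulRegularSeq_iff _).1 hf) hfI

end Groth.Agent.S18939
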