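import Groth.Statements.S1894
import Groth.Agent.GrpdLib.Orbits
import Groth.Agent.ValCritLib.Refined
import Mathlib.AlgebraicGeometry.Morphisms.UniversallyOpen
import Groth.Agent.S1893

set_option autoImplicit false
universe u
open CategoryTheory CategoryTheory.Limits AlgebraicGeometry
open Grpd

namespace Groth.Agent.S1894

/-- Let (U, R, s, t, c) be a groupoid scheme over S with s, t quasi-compact and flat and U
quasi-separated, and W ⊆ U a quasi-compact open. Then there are an R-invariant open V (s⁻¹V = t⁻¹V)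
and a quasi-compact open W' with W ⊆ V ⊆ W'. (A groupoid scheme carries U, R, s, t, c, e, i over S
with the groupoid axioms on T-points; 'finite locally free' is finite, flat and locally of finite
presentation; C ⊂ Γ(U) is the ring of functions a with s♯(a) = t♯(a) and M = Spec C.) -/
theorem result (S : Scheme.{u}) (G : Grpd.GroupoidScheme S) [QuasiCompact G.s] [Flat G.s] [QuasiCompact G.t] [Flat G.t] [QuasiSeparatedSpace G.U] (W : G.U.Opens) (hW : IsCompact (W : Set G.U)) : ∃ V W' : G.U.Opens, G.s ⁻¹ᵁ V = G.t ⁻¹ᵁ V ∧ IsCompact (W' : Set G.U) ∧ W ≤ V ∧ V ≤ W' := by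
  obtain ⟨ι, ⟨j⟩, Vs, hVs, hE⟩ := Groth.Agent.S1893.result S G W hW
  set E := ⇑G.t '' (⇑G.s ⁻¹' (W : Set G.U))
  have hEj : E ⊆ (Vs j : Set G.U) := hE ▸ Set.iInter_subset _ j
  have hWE : (W : Set G.U) ⊆ E := fun u hu => ⟨G.e u, by
    rw [Set.mem_preimage, ← Scheme.Hom.comp_apply, G.e_s]; exact hu, by
    rw [← Scheme.Hom.comp_apply, G.e_t]; rfl⟩
  have hinvE := Groth.Agent.GrpdLib.saturation_invariant G (W : Set G.U)
  set Z : Set G.U := (Vs j : Set G.U)ᶜ
  set Z' := ⇑G.t '' (⇑G.s ⁻¹' Z)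
  have hinv := Groth.Agent.GrpdLib.saturation_invariant G Z
  have hdisj : ∀ u ∈ Z', u ∉ (W : Set G.U) := by
    rintro _ ⟨r, hr, rfl⟩ hu
    have h1 : r ∈ ⇑G.t ⁻¹' E := hWE hu
    rw [← hinvE] at h1
    exact hr (hEj h1)
  let C : TopologicalSpace.Closeds G.R := ⟨⇑G.s ⁻¹' Z, (Vs j).isOpen.isClosed_compl.preimage G.s.continuous⟩
  let h := (Scheme.IdealSheafData.vanishingIdeal C).subschemeι ≫ G.t
  have hr : Set.range h.base = Z' := by
    change Set.range (G.t.base ∘ (Scheme.IdealSheafData.vanishingIdeal C).subschemeι.base) = _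
    rw [Set.range_comp, Scheme.IdealSheafData.range_subschemeι, Scheme.IdealSheafData.coe_support_vanishingIdeal]
    rfl
  have hcl : ∀ (f g : G.R ⟶ G.U) [Flat f], ⇑f ⁻¹' Z' = ⇑g ⁻¹' Z' → ⇑f ⁻¹' closure Z' ⊆ ⇑g ⁻¹' closure Z' := by
    intro f g _ hfg r hr'
    rw [Set.mem_preimage, ← hr] at hr'
    obtain ⟨z, hz⟩ := Groth.Agent.ValCritLib.exists_specializes_of_mem_closure h _ hr'
    obtain ⟨r', hr'r, hr'z⟩ := Flat.generalizingMap f hz
    have : r' ∈ ⇑f ⁻¹' Z' := by
      change f r' ∈ Z'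
      rw [hr'z, ← hr]
      exact ⟨z, rfl⟩
    rw [hfg] at this
    exact (hr'r.map g.continuous).mem_closed isClosed_closure (subset_closure this)
  refine ⟨⟨(closure Z')ᶜ, isClosed_closure.isOpen_compl⟩, Vs j, ?_, hVs j, ?_, ?_⟩
  · exact TopologicalSpace.Opens.ext (congrArg compl (Set.Subset.antisymm (hcl G.s G.t hinv) (hcl G.t G.s hinv.symm)))
  · intro u hu hu'
    obtain ⟨z, hz, hzW⟩ := mem_closure_iff.1 hu' W W.isOpen hu |>.imp fun z hz => And.intro hz.2 hz.1
    exact hdisj z hz hzW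
  · intro u hu
    by_contra huV
    refine hu (subset_closure ⟨G.e u, ?_, ?_⟩)
    · rw [Set.mem_preimage, ← Scheme.Hom.comp_apply, G.e_s]; exact huV
    · rw [← Scheme.Hom.comp_apply, G.e_t]; rfl

end Groth.Agent.S1894
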