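import Groth.Statements.S18942
import Mathlib

set_option linter.all false

set_option autoImplicit false
universe u
open DPow

open WittVector

namespace Groth.Agent.S18942

/-- Let p be a prime, k a perfect field of characteristic p, n a natural number and x an element of
W_n(k), written here as the truncation of a Witt vector x over k. For any Witt vectors y_0, …,
y_{n−1} over k lifting the components of x under the map y ↦ (y_0)^(p^n) (that is, (y_i)_0^(p^n) =
x_i), one has x = Σ_{i<n} p^i y_i^(p^(n−i)) in W_n(k). -/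
theorem result (p : ℕ) [Fact p.Prime]
    (k : Type u) [Field k] [CharP k p] [PerfectRing k p] (n : ℕ) (x : WittVector p k)
    (y : Fin n → WittVector p k) (hy : ∀ i : Fin n, ((y i).coeff 0) ^ (p ^ n) = x.coeff i) :
    WittVector.truncate n x =
      WittVector.truncate n (∑ i : Fin n, (p : WittVector p k) ^ (i : ℕ) * (y i) ^ (p ^ (n - i))) := by
  rw [← sub_eq_zero, ← map_sub, ← RingHom.mem_ker, mem_ker_truncate, ← mem_span_p_pow_iff_le_coeff_eq_zero,
    Ideal.mem_span_singleton]
  rcases Nat.eq_zero_or_pos n with rfl | hn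
  · simp
  obtain ⟨m, rfl⟩ := Nat.exists_eq_succ_of_ne_zero hn.ne'
  have h1 := dvd_sub_sum_teichmuller_iterateFrobeniusEquiv_coeff x m
  rw [show Finset.Iic m = Finset.range (m + 1) by ext; simp, Finset.sum_range] at h1
  have h2 : (p : WittVector p k) ^ (m + 1) ∣ ∑ i : Fin (m + 1),
      (teichmuller p (((_root_.frobeniusEquiv k p).symm ^ (i : ℕ)) (x.coeff i)) * (p : WittVector p k) ^ (i : ℕ) -
        (p : WittVector p k) ^ (i : ℕ) * (y i) ^ (p ^ (m + 1 - i))) := by
    refine Finset.dvd_sum fun i _ => ?_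
    have hy0 : ((_root_.frobeniusEquiv k p).symm ^ (i : ℕ)) (x.coeff i) = (y i).coeff 0 ^ p ^ (m + 1 - i) := by
      rw [← hy i, show p ^ (m + 1) = p ^ (m + 1 - i) * p ^ (i : ℕ) by rw [← pow_add, Nat.sub_add_cancel i.2.le], pow_mul]
      generalize (y i).coeff 0 ^ p ^ (m + 1 - i) = z
      induction (i : ℕ) generalizing z with
      | zero => simp
      | succ j ih => rw [pow_succ p, pow_succ, RingAut.mul_apply, pow_mul, _root_.frobeniusEquiv_symm_pow k p (z ^ p ^ j)]; exact ih z
    rw [hy0, mul_comm, ← mul_sub, map_pow]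
    have hd : (p : WittVector p k) ∣ teichmuller p ((y i).coeff 0) - y i := by
      rw [← Ideal.mem_span_singleton, ← pow_one (p : WittVector p k), mem_span_p_pow_iff_le_coeff_eq_zero,
        ← le_coeff_eq_iff_le_sub_coeff_eq_zero]
      intro j hj
      rw [Nat.lt_one_iff.mp hj, teichmuller_coeff_zero]
    have h3 := dvd_sub_pow_of_dvd_sub hd (m + 1 - i)
    refine dvd_trans ?_ (mul_dvd_mul_left ((p : WittVector p k) ^ (i : ℕ)) h3)
    rw [← pow_add]
    exact pow_dvd_pow _ (by omega)
  rw [Finset.sum_sub_distrib] at h2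
  have h4 := dvd_add h1 h2
  rwa [sub_add_sub_cancel] at h4

end Groth.Agent.S18942
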