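import Groth.Statements.S18943
import Mathlib
import Groth.Prelude

set_option linter.all false

set_option autoImplicit false
open scoped ContDiff
open CInfGerm

open scoped ContDiff Topology

namespace Groth.Agent.S18943

open MeasureTheory in
theorem hasDerivAt_param (f : ℝ → ℝ) (hf : ContDiff ℝ ∞ f) (n : ℕ) (x : ℝ) :
    HasDerivAt (fun x => ∫ t in (0:ℝ)..1, t ^ n * iteratedDeriv (n + 1) f (t * x))
      (∫ t in (0:ℝ)..1, t ^ (n + 1) * iteratedDeriv (n + 2) f (t * x)) x := by
  have hc : ∀ m, Continuous (iteratedDeriv m f) := fun m => hf.continuous_iteratedDeriv m (by exact_mod_cast le_top)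
  have hd : ∀ m y, HasDerivAt (iteratedDeriv m f) (iteratedDeriv (m + 1) f y) y := fun m y => by
    rw [iteratedDeriv_succ]
    exact ((hf.differentiable_iteratedDeriv m (by exact_mod_cast ENat.natCast_lt_top m)) y).hasDerivAt
  obtain ⟨C, hC⟩ := (isCompact_Icc (a := -(|x| + 1)) (b := |x| + 1)).exists_bound_of_continuousOn (hc (n + 2)).continuousOn
  have hcont : ∀ (m k : ℕ) (y : ℝ), Continuous fun t : ℝ => t ^ m * iteratedDeriv k f (t * y) := fun m k y =>
    (continuous_id.pow m).mul ((hc k).comp (continuous_id.mul continuous_const))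
  refine (intervalIntegral.hasDerivAt_integral_of_dominated_loc_of_deriv_le (𝕜 := ℝ) (μ := MeasureTheory.volume)
    (F := fun x t => t ^ n * iteratedDeriv (n + 1) f (t * x))
    (F' := fun x t => t ^ (n + 1) * iteratedDeriv (n + 2) f (t * x)) (bound := fun _ => C) (s := Metric.ball x 1) (x₀ := x)
    (Metric.ball_mem_nhds x one_pos) (Filter.Eventually.of_forall fun y => (hcont n (n + 1) y).aestronglyMeasurable)
    ((hcont n (n + 1) x).intervalIntegrable 0 1) ((hcont (n + 1) (n + 2) x).aestronglyMeasurable) ?_
    intervalIntegrable_const ?_).2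
  · refine Filter.Eventually.of_forall fun t ht y hy => ?_
    rw [Set.uIoc_of_le zero_le_one, Set.mem_Ioc] at ht
    rw [Metric.mem_ball, Real.dist_eq, abs_lt] at hy
    have hx1 := le_abs_self x
    have hx2 := neg_abs_le x
    have hmem : t * y ∈ Set.Icc (-(|x| + 1)) (|x| + 1) := by constructor <;> nlinarith
    have h1 := hC _ hmem
    rw [norm_mul, norm_pow, Real.norm_eq_abs t, abs_of_pos ht.1]
    calc t ^ (n + 1) * ‖iteratedDeriv (n + 2) f (t * y)‖ ≤ 1 * ‖iteratedDeriv (n + 2) f (t * y)‖ :=
          mul_le_mul_of_nonneg_right (pow_le_one₀ ht.1.le ht.2) (norm_nonneg _)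
      _ ≤ C := by rw [one_mul]; exact h1
  · refine Filter.Eventually.of_forall fun t _ y _ => ?_
    have h1 : HasDerivAt (fun z => t * z) t y := by simpa using (hasDerivAt_id y).const_mul t
    have h2 := ((hd (n + 1) (t * y)).comp y h1).const_mul (t ^ n)
    refine h2.congr_deriv ?_
    ring

/-- Let f be an infinitely differentiable real-valued function on the real line with f(0) = 0. Then f(x)
= x·g(x) for an infinitely differentiable function g. (The source phrases this for germs at 0: the
maximal ideal of the local ring of germs of smooth functions at the origin is generated by the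
coordinate t; the global form stated here is what its argument, smooth extension of f(x)/x across 0,
gives.) -/
theorem result (f : ℝ → ℝ) (hf : ContDiff ℝ ∞ f) (h0 : f 0 = 0) :
    ∃ g : ℝ → ℝ, ContDiff ℝ ∞ g ∧ ∀ x : ℝ, f x = x * g x := by
  let H : ℕ → ℝ → ℝ := fun n x => ∫ t in (0:ℝ)..1, t ^ n * iteratedDeriv (n + 1) f (t * x)
  have hH : ∀ n x, HasDerivAt (H n) (H (n + 1) x) x := hasDerivAt_param f hf
  have hsm : ∀ (m : ℕ) n, ContDiff ℝ m (H n) := by
    intro m
    induction m with
    | zero => intro n; exact contDiff_zero.2 (continuous_iff_continuousAt.2 fun x => (hH n x).continuousAt)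
    | succ m ih =>
      intro n
      rw [Nat.cast_succ, contDiff_succ_iff_deriv]
      exact ⟨fun x => (hH n x).differentiableAt, by simp, by rw [funext fun x => (hH n x).deriv]; exact ih (n + 1)⟩
  refine ⟨H 0, contDiff_infty.2 fun m => hsm m 0, fun x => ?_⟩
  have hd : ∀ y, HasDerivAt f (deriv f y) y := fun y => ((hf.differentiable (by simp)) y).hasDerivAt
  have hc : Continuous (deriv f) := hf.continuous_deriv (by exact_mod_cast le_top)
  have := intervalIntegral.integral_eq_sub_of_hasDerivAt (a := 0) (b := 1) (f := fun t => f (t * x)) (f' := fun t => x * deriv f (t * x))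
    (fun t _ => by
      have h1 : HasDerivAt (fun z => z * x) x t := by simpa using (hasDerivAt_id t).mul_const x
      exact ((hd (t * x)).comp t h1).congr_deriv (mul_comm _ _))
    ((continuous_const.mul (hc.comp (continuous_id.mul continuous_const))).intervalIntegrable 0 1)
  rw [intervalIntegral.integral_const_mul] at this
  simp only [one_mul, zero_mul, h0, sub_zero] at this
  simp only [H, pow_zero, one_mul, zero_add, iteratedDeriv_one]
  exact this.symm

end Groth.Agent.S18943
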