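import Groth.Statements.S18945
import Groth.Agent.Synt15.SyntAt
import Groth.Agent.Synt15.Bridge
import Groth.Agent.CAlgH.CIMorphism
-- import your own Groth.Agent.* helpers here

set_option autoImplicit false
universe u
open CategoryTheory AlgebraicGeometry
open Synt

namespace Groth.Agent.S18945

/-- Let p be a prime, X a scheme and a a global section of the structure sheaf of X. There is a covering
of X for the syntomic topology, that is a jointly surjective family of syntomic morphisms X_i → X,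
such that the restriction of a to each X_i is a p-th power. (The source states the surjectivity of
the p-th power map of the structure sheaf on the small syntomic site of a syntomic scheme over a
perfect field of characteristic p; the covering it uses elsewhere, adjoining a p-th root T^p = a
over affine pieces, gives the statement for every scheme, which is the form given here.) -/
theorem result (p : ℕ) [Fact p.Prime] (X : Scheme.{u}) (a : Γ(X, ⊤)) :
    ∃ 𝒰 : Scheme.Cover.{u} (Scheme.precoverage @Synt.IsSyntomicMor) X,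
      ∀ i : 𝒰.I₀, ∃ b : Γ(𝒰.X i, ⊤), b ^ p = (𝒰.f i).appTop a := by
  classical
  have hp : 0 < p := (Fact.out : p.Prime).pos
  let r : ∀ U : X.affineOpens, Γ(X, U.1) := fun U => X.presheaf.map (homOfLE le_top).op a
  let F : ∀ U : X.affineOpens, Fin 1 → MvPolynomial (Fin 1) Γ(X, U.1) := fun U _ =>
    MvPolynomial.X 0 ^ p - MvPolynomial.C (r U)
  let S : X.affineOpens → CommRingCat.{u} := fun U => CommRingCat.of (Synt.RelGCIRing Γ(X, U.1) 1 1 (F U))
  let φ : ∀ U, Γ(X, U.1) ⟶ S U := fun U =>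
    CommRingCat.ofHom (algebraMap Γ(X, U.1) (Synt.RelGCIRing Γ(X, U.1) 1 1 (F U)))
  have hX : ∀ U : X.affineOpens,
      (Ideal.Quotient.mk (Ideal.span (Set.range (F U))) (MvPolynomial.X 0)) ^ p = φ U (r U) := fun U => by
    rw [← map_pow, ← sub_eq_zero]
    show _ - Ideal.Quotient.mk (Ideal.span (Set.range (F U))) (MvPolynomial.C (r U)) = 0
    rw [← map_sub]
    exact Ideal.Quotient.eq_zero_iff_mem.2 (Ideal.subset_span ⟨0, rfl⟩)
  have hF : ∀ U : X.affineOpens, Synt.IsRelGCI Γ(X, U.1) 1 1 (F U) := fun U q hq => by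
    refine ⟨le_rfl, ?_⟩
    let mk : MvPolynomial (Fin 1) Γ(X, U.1) →ₐ[Γ(X, U.1)] Synt.RelGCIRing Γ(X, U.1) 1 1 (F U) := Ideal.Quotient.mkₐ _ _
    haveI : Algebra.IsIntegral Γ(X, U.1) (Synt.RelGCIRing Γ(X, U.1) 1 1 (F U)) := by
      refine ⟨fun y => ?_⟩
      obtain ⟨x, rfl⟩ := Ideal.Quotient.mkₐ_surjective Γ(X, U.1) _ y
      show IsIntegral Γ(X, U.1) (mk x)
      induction x using MvPolynomial.induction_on with
      | C c => rw [← MvPolynomial.algebraMap_eq, mk.commutes]; exact isIntegral_algebraMap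
      | add x y hx hy => rw [map_add]; exact hx.add hy
      | mul_X x i hx =>
        rw [map_mul]
        refine hx.mul (IsIntegral.of_pow hp ?_)
        rw [Fin.fin_one_eq_zero i]
        show IsIntegral Γ(X, U.1) ((Ideal.Quotient.mk (Ideal.span (Set.range (F U))) (MvPolynomial.X 0)) ^ p)
        rw [hX]
        exact isIntegral_algebraMap
    haveI : Module.Finite Γ(X, U.1) (Synt.RelGCIRing Γ(X, U.1) 1 1 (F U)) := Algebra.IsIntegral.finite
    haveI : Module.Finite q.asIdeal.ResidueField (q.asIdeal.Fiber (Synt.RelGCIRing Γ(X, U.1) 1 1 (F U))) :=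
      Module.Finite.base_change Γ(X, U.1) q.asIdeal.ResidueField (Synt.RelGCIRing Γ(X, U.1) 1 1 (F U))
    haveI : IsArtinianRing (q.asIdeal.Fiber (Synt.RelGCIRing Γ(X, U.1) 1 1 (F U))) :=
      IsArtinianRing.of_finite q.asIdeal.ResidueField (q.asIdeal.Fiber (Synt.RelGCIRing Γ(X, U.1) 1 1 (F U)))
    haveI := hq
    rw [Nat.sub_self, Nat.cast_zero]
    exact ringKrullDimZero_iff_ringKrullDim_eq_zero.1
      (@Ring.krullDimLE_zero_iff (q.asIdeal.Fiber (Synt.RelGCIRing Γ(X, U.1) 1 1 (F U))) _ |>.2 fun I hI =>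
        (@IsArtinianRing.isPrime_iff_isMaximal (q.asIdeal.Fiber (Synt.RelGCIRing Γ(X, U.1) 1 1 (F U))) _ _ I).1 hI)
  let f : ∀ U : X.affineOpens, Spec (S U) ⟶ X := fun U => Spec.map (φ U) ≫ U.2.fromSpec
  have hf : ∀ U, Synt.IsSyntomicMor (f U) := fun U =>
    (Groth.Agent.Synt15.isSyntomicMor_iff _).2 (Groth.Agent.CAlgH.CIMorphism.isCIMorphism_comp _ _
      (Groth.Agent.Synt15.isCIMorphism_of_isStandardSyntomic (f := Spec.map (φ U))
        ⟨Γ(X, U.1), inferInstance, 1, 1, F U, hF U, Iso.refl _, Iso.refl _,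
          by rw [Iso.refl_hom, Iso.refl_hom, Category.id_comp, Category.comp_id]⟩)
      (Groth.Agent.Synt15.isCIMorphism_of_isOpenImmersion _))
  refine ⟨Scheme.Cover.mkOfCovers X.affineOpens (fun U => Spec (S U)) f (fun x => ?_) hf, fun U => ?_⟩
  · obtain ⟨_, ⟨U, hU, rfl⟩, hxU, -⟩ :=
      X.isBasis_affineOpens.exists_subset_of_mem_open (Set.mem_univ x) isOpen_univ
    let U' : X.affineOpens := ⟨U, hU⟩
    obtain ⟨q, hq⟩ := hU.range_fromSpec.ge hxU
    let K := AlgebraicClosure (PrimeSpectrum.asIdeal (R := Γ(X, U)) q).ResidueField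
    obtain ⟨z, hz⟩ := IsAlgClosed.exists_pow_nat_eq (algebraMap Γ(X, U) K (r U')) hp
    let ev : MvPolynomial (Fin 1) Γ(X, U) →ₐ[Γ(X, U)] K := MvPolynomial.aeval fun _ => z
    have hev : ∀ b ∈ Ideal.span (Set.range (F U')), ev b = 0 := fun b hb => by
      refine (Ideal.span_le.2 ?_ : Ideal.span (Set.range (F U')) ≤ RingHom.ker ev) hb
      rintro _ ⟨i, rfl⟩
      show ev (MvPolynomial.X 0 ^ p - MvPolynomial.C (r U')) = 0
      rw [map_sub, map_pow, MvPolynomial.aeval_X, MvPolynomial.aeval_C, hz, sub_self]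
    let ψ : Synt.RelGCIRing Γ(X, U) 1 1 (F U') →ₐ[Γ(X, U)] K := Ideal.Quotient.liftₐ _ ev hev
    refine ⟨U', (⟨RingHom.ker ψ.toRingHom, RingHom.ker_isPrime _⟩ : PrimeSpectrum (S U')), ?_⟩
    show (Spec.map (φ U') ≫ hU.fromSpec) _ = x
    rw [Scheme.Hom.comp_apply, ← hq]
    congr 1
    refine PrimeSpectrum.ext ?_
    show (RingHom.ker ψ.toRingHom).comap (algebraMap Γ(X, U) _) = (PrimeSpectrum.asIdeal (R := Γ(X, U)) q)
    rw [RingHom.comap_ker, show ψ.toRingHom.comp (algebraMap Γ(X, U) _) = algebraMap Γ(X, U) K from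
      ψ.comp_algebraMap, IsScalarTower.algebraMap_eq Γ(X, U) (PrimeSpectrum.asIdeal (R := Γ(X, U)) q).ResidueField K,
      RingHom.ker_comp_of_injective _ (algebraMap (PrimeSpectrum.asIdeal (R := Γ(X, U)) q).ResidueField K).injective, Ideal.ker_algebraMap_residueField]
  · refine ⟨(Scheme.ΓSpecIso (S U)).inv (Ideal.Quotient.mk (Ideal.span (Set.range (F U))) (MvPolynomial.X 0)), ?_⟩
    show (Scheme.ΓSpecIso (S U)).inv.hom _ ^ p = (Spec.map (φ U) ≫ U.2.fromSpec).appTop a
    rw [← RingHom.map_pow]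
    refine (congrArg (Scheme.ΓSpecIso (S U)).inv.hom (hX U)).trans ?_
    show ((φ U) ≫ (Scheme.ΓSpecIso (S U)).inv) (r U) = _
    rw [Scheme.ΓSpecIso_inv_naturality, Scheme.Hom.comp_appTop, CommRingCat.comp_apply, CommRingCat.comp_apply]
    congr 1
    rw [Scheme.Hom.appTop, U.2.fromSpec_app_of_le ⊤ le_top]
    exact (ConcreteCategory.congr_hom ((Spec Γ(X, U.1)).presheaf.map_id _)
      ((Scheme.ΓSpecIso Γ(X, U.1)).inv (r U))).symm

end Groth.Agent.S18945
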