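import Groth.Statements.S18946
import Mathlib.Algebra.MvPolynomial.Monad
import Mathlib.Tactic

set_option autoImplicit false
universe u
open scoped BigOperators
open InvQ

namespace Groth.Agent.S18946

/-- Let k be an algebraically closed field of characteristic zero and n a natural number, and let the
torus of (n+1)-tuples of units of k with product 1 act on the polynomial ring k[t_0, ..., t_n] by
rescaling each variable t_i by the i-th unit. A polynomial is fixed by every such rescaling if and
only if it lies in the k-subalgebra generated by the product t_0 t_1 ... t_n. (This is the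
computation of the ring of functions on affine (n+1)-space invariant under the maximal diagonal
torus of the special linear group, identified with the polynomial ring in the single coordinate t =
t_0 ... t_n of the line it maps to by the product map; invariance is tested on k-valued points of
the torus, which over an infinite field is the same as invariance under the group scheme.) -/
theorem result
    (k : Type u) [Field k] [IsAlgClosed k] [CharZero k] (n : ℕ)
    (f : MvPolynomial (Fin (n + 1)) k) :
    (∀ σ : Fin (n + 1) → kˣ, ∏ i, (σ i : k) = 1 →
        MvPolynomial.aeval (fun i => MvPolynomial.C (σ i : k) * MvPolynomial.X i) f = f) ↔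
      f ∈ Algebra.adjoin k ({∏ i : Fin (n + 1), MvPolynomial.X i} : Set (MvPolynomial (Fin (n + 1)) k)) := by
  classical
  constructor
  · intro h
    rw [MvPolynomial.as_sum f]
    refine Subalgebra.sum_mem _ fun m hm => ?_
    have hcoef : ∀ (σ : Fin (n + 1) → kˣ), MvPolynomial.coeff m (MvPolynomial.aeval (fun i => MvPolynomial.C (σ i : k) * MvPolynomial.X i) f) = (∏ i, (σ i : k) ^ m i) * MvPolynomial.coeff m f := by
      intro σ
      conv_lhs => rw [MvPolynomial.as_sum f, map_sum, MvPolynomial.coeff_sum]
      rw [Finset.sum_eq_single m]
      · rw [MvPolynomial.aeval_monomial, Finsupp.prod_fintype _ _ (fun i => pow_zero _)]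
        simp only [mul_pow, Finset.prod_mul_distrib, ← map_pow, ← map_prod, MvPolynomial.algebraMap_eq]
        rw [← mul_assoc, ← map_mul, MvPolynomial.coeff_C_mul]
        have hmono : (∏ i, (MvPolynomial.X i : MvPolynomial (Fin (n + 1)) k) ^ m i) = MvPolynomial.monomial m 1 := by
          rw [MvPolynomial.monomial_eq, map_one, one_mul, Finsupp.prod_fintype _ _ (fun i => pow_zero _)]
        rw [hmono, MvPolynomial.coeff_monomial, if_pos rfl, mul_one, mul_comm]
      · intro b _ hb
        rw [MvPolynomial.aeval_monomial, Finsupp.prod_fintype _ _ (fun i => pow_zero _)]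
        simp only [mul_pow, Finset.prod_mul_distrib, ← map_pow, ← map_prod, MvPolynomial.algebraMap_eq]
        rw [← mul_assoc, ← map_mul, MvPolynomial.coeff_C_mul]
        have hmono : (∏ i, (MvPolynomial.X i : MvPolynomial (Fin (n + 1)) k) ^ b i) = MvPolynomial.monomial b 1 := by
          rw [MvPolynomial.monomial_eq, map_one, one_mul, Finsupp.prod_fintype _ _ (fun i => pow_zero _)]
        rw [hmono, MvPolynomial.coeff_monomial, if_neg hb, mul_zero]
      · intro h'; exact absurd hm h'
    have heq : ∀ i, m i = m 0 := by
      intro i
      rcases eq_or_ne i 0 with rfl | hi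
      · rfl
      let t : kˣ := Units.mk0 2 two_ne_zero
      let σ : Fin (n + 1) → kˣ := Pi.mulSingle i t * Pi.mulSingle 0 t⁻¹
      have hσ : ∏ j, (σ j : k) = 1 := by
        rw [← Units.coe_prod]
        simp [σ, Finset.prod_mul_distrib]
      have hne : MvPolynomial.coeff m f ≠ 0 := MvPolynomial.mem_support_iff.1 hm
      have hs := hcoef σ
      rw [h σ hσ] at hs
      have h1 : (∏ j, (σ j : k) ^ m j) = 1 := by
        have := mul_right_cancel₀ hne (hs.symm.trans (one_mul _).symm)
        exact this
      have h2 : (∏ j, σ j ^ m j) = 1 := Units.ext (by simpa [Units.coe_prod] using h1)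
      rw [Fintype.prod_eq_mul i 0 hi (fun j hj => by simp [σ, hj.1, hj.2])] at h2
      simp [σ, hi, hi.symm] at h2
      have h3 : t ^ m i = t ^ m 0 := mul_inv_eq_one.1 h2
      have h4 : ((2 ^ m i : ℕ) : k) = ((2 ^ m 0 : ℕ) : k) := by
        push_cast
        simpa [t, Units.ext_iff] using h3
      exact Nat.pow_right_injective le_rfl (Nat.cast_injective h4)
    have : MvPolynomial.monomial m (MvPolynomial.coeff m f) = algebraMap k _ (MvPolynomial.coeff m f) * (∏ i, MvPolynomial.X i) ^ m 0 := by
      rw [MvPolynomial.monomial_eq, Finsupp.prod_fintype _ _ (fun i => pow_zero _), ← Finset.prod_pow, MvPolynomial.algebraMap_eq]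
      exact congrArg _ (Finset.prod_congr rfl fun i _ => by rw [heq i])
    rw [this]
    exact mul_mem (Subalgebra.algebraMap_mem _ _) (pow_mem (Algebra.subset_adjoin (by simp)) _)
  · intro h σ hσ
    induction h using Algebra.adjoin_induction with
    | mem x hx =>
      obtain rfl : x = _ := hx
      simp only [map_prod, MvPolynomial.aeval_X, Finset.prod_mul_distrib]
      rw [← map_prod, hσ, map_one, one_mul]
    | algebraMap r => exact AlgHom.commutes _ r
    | add x y _ _ hx hy => rw [map_add, hx, hy]
    | mul x y _ _ hx hy => rw [map_mul, hx, hy]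

end Groth.Agent.S18946
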