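import Groth.Statements.S18948
import Mathlib

set_option linter.all false

set_option autoImplicit false
universe u v
open CExt

open TensorProduct

namespace Groth.Agent.S18948

/-- Let f : E → G be a surjective homomorphism of groups whose kernel is central in E, and let x ∈ E.
Then f maps the conjugacy class of x bijectively onto the conjugacy class of f(x) if and only if
every element of G commuting with f(x) is the image of some element of E commuting with x. (In the
source E → G is the central extension, with kernel the roots of unity, attached to a Brauer class of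
the classifying stack of a finite tame étale group scheme, and a conjugacy class of E mapping
bijectively onto a given class of G is a marking; the equivalence is stated here for an arbitrary
central extension of abstract groups.) -/
theorem result {E : Type u} {G : Type v} [Group E] [Group G]
    (f : E →* G) (hf : Function.Surjective f) (hker : f.ker ≤ Subgroup.center E) (x : E) :
    Set.BijOn f (MulAction.orbit (ConjAct E) x) (MulAction.orbit (ConjAct G) (f x)) ↔
      ∀ g : G, g * f x = f x * g → ∃ e : E, f e = g ∧ e * x = x * e := by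
  have hmem : ∀ y, y ∈ MulAction.orbit (ConjAct E) x ↔ ∃ a : E, a * x * a⁻¹ = y := fun y =>
    ⟨fun ⟨c, hc⟩ => ⟨ConjAct.ofConjAct c, by rw [← hc]; rfl⟩, fun ⟨a, ha⟩ => ⟨ConjAct.toConjAct a, by rw [← ha]; rfl⟩⟩
  constructor
  · intro h g hg
    obtain ⟨e, rfl⟩ := hf g
    refine ⟨e, rfl, ?_⟩
    have := h.injOn ((hmem _).2 ⟨e, rfl⟩) (MulAction.mem_orbit_self x)
      (by rw [map_mul, map_mul, map_inv, hg, mul_inv_cancel_right])
    exact mul_inv_eq_iff_eq_mul.1 this
  · intro h
    refine ⟨?_, ?_, ?_⟩
    · intro y hy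
      obtain ⟨a, rfl⟩ := (hmem y).1 hy
      exact ⟨ConjAct.toConjAct (f a), by simp [ConjAct.smul_def]⟩
    · intro y hy z hz hyz
      obtain ⟨a, rfl⟩ := (hmem y).1 hy
      obtain ⟨b, rfl⟩ := (hmem z).1 hz
      simp only [map_mul, map_inv] at hyz
      obtain ⟨e, he, hex⟩ := h (f (b⁻¹ * a)) (by
        rw [map_mul, map_inv]
        calc (f b)⁻¹ * f a * f x = (f b)⁻¹ * (f a * f x * (f a)⁻¹) * f a := by group
          _ = (f b)⁻¹ * (f b * f x * (f b)⁻¹) * f a := by rw [hyz]
          _ = f x * ((f b)⁻¹ * f a) := by group)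
      have hz' : e⁻¹ * (b⁻¹ * a) ∈ Subgroup.center E := hker (by simp [MonoidHom.mem_ker, he])
      have hc := Subgroup.mem_center_iff.1 hz' x
      have : b⁻¹ * a * x = x * (b⁻¹ * a) := by
        calc b⁻¹ * a * x = e * (e⁻¹ * (b⁻¹ * a) * x) := by group
          _ = e * (x * (e⁻¹ * (b⁻¹ * a))) := by rw [← hc]
          _ = e * x * (e⁻¹ * (b⁻¹ * a)) := by group
          _ = x * e * (e⁻¹ * (b⁻¹ * a)) := by rw [hex]
          _ = x * (b⁻¹ * a) := by group
      calc a * x * a⁻¹ = b * (b⁻¹ * a * x) * a⁻¹ := by group
        _ = b * (x * (b⁻¹ * a)) * a⁻¹ := by rw [this]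
        _ = b * x * b⁻¹ := by group
    · rintro _ ⟨c, rfl⟩
      obtain ⟨a, ha⟩ := hf (ConjAct.ofConjAct c)
      exact ⟨a * x * a⁻¹, (hmem _).2 ⟨a, rfl⟩, by simp [ConjAct.smul_def, ha]⟩

end Groth.Agent.S18948
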