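import Groth.Statements.S18949
import Mathlib

set_option linter.all false

set_option autoImplicit false
universe u v
open CExt

open TensorProduct

namespace Groth.Agent.S18949

/-- Automorphisms over the base: let f : E → G be a surjective homomorphism of groups with central
kernel A. For every homomorphism χ : G → A the map e ↦ χ(f(e)) · e is an endomorphism of E over G
which is the identity on A; and every endomorphism α of E with f ∘ α = f and α equal to the identity
on A is of this form for exactly one χ. (In the source this identifies the automorphisms of a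
central extension fixing its kernel with Hom(G, A), for extensions of profinite étale group schemes
over a field; stated here for abstract groups.) -/
theorem result {E : Type u} {G : Type v} [Group E] [Group G]
    (f : E →* G) (hf : Function.Surjective f) (hker : f.ker ≤ Subgroup.center E) :
    (∀ χ : G →* f.ker, ∃ α : E →* E, f.comp α = f ∧ (∀ a ∈ f.ker, α a = a) ∧
        ∀ e : E, α e = (χ (f e) : E) * e) ∧
      ∀ α : E →* E, f.comp α = f → (∀ a ∈ f.ker, α a = a) →
        ∃! χ : G →* f.ker, ∀ e : E, α e = (χ (f e) : E) * e := by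
  have hc : ∀ (z : f.ker) (y : E), (z : E) * y = y * z := fun z y => (Subgroup.mem_center_iff.1 (hker z.2) y).symm
  refine ⟨fun χ => ⟨{ toFun := fun e => (χ (f e) : E) * e, map_one' := by simp, map_mul' := fun a b => ?_ }, ?_, ?_, fun _ => rfl⟩, ?_⟩
  · simp only [map_mul, Subgroup.coe_mul]
    rw [mul_assoc, mul_assoc, ← mul_assoc ((χ (f b) : E)) a b, hc (χ (f b)) a]
    simp only [mul_assoc]
  · ext e
    have h1 : f (χ (f e) : E) = 1 := (χ (f e)).2
    show f ((χ (f e) : E) * e) = f e
    rw [map_mul, h1, one_mul]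
  · intro a ha
    show (χ (f a) : E) * a = a
    rw [show f a = 1 from ha, map_one, Subgroup.coe_one, one_mul]
  · intro α hα hfix
    have hd : ∀ e, α e * e⁻¹ ∈ f.ker := fun e => by
      have : f (α e) = f e := DFunLike.congr_fun hα e
      simp [MonoidHom.mem_ker, this]
    have hwd : ∀ a b, f a = f b → α a * a⁻¹ = α b * b⁻¹ := by
      intro a b h
      have hz : b⁻¹ * a ∈ f.ker := by simp [MonoidHom.mem_ker, h]
      calc α a * a⁻¹ = α (b * (b⁻¹ * a)) * a⁻¹ := by rw [mul_inv_cancel_left]
        _ = α b * (b⁻¹ * a) * a⁻¹ := by rw [map_mul, hfix _ hz]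
        _ = α b * b⁻¹ := by group
    let s := Function.surjInv hf
    have hs : ∀ g, f (s g) = g := Function.surjInv_eq hf
    have hmul : ∀ a b, α (a * b) * (a * b)⁻¹ = α a * a⁻¹ * (α b * b⁻¹) := by
      intro a b
      have h1 : (α b * b⁻¹) * a⁻¹ = a⁻¹ * (α b * b⁻¹) := hc ⟨_, hd b⟩ a⁻¹
      calc α (a * b) * (a * b)⁻¹ = α a * ((α b * b⁻¹) * a⁻¹) := by rw [map_mul]; group
        _ = α a * (a⁻¹ * (α b * b⁻¹)) := by rw [h1]
        _ = _ := by group
    let χ : G →* f.ker := MonoidHom.mk' (fun g => ⟨α (s g) * (s g)⁻¹, hd _⟩) fun g h => Subtype.ext (by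
      show α (s (g * h)) * (s (g * h))⁻¹ = α (s g) * (s g)⁻¹ * (α (s h) * (s h)⁻¹)
      rw [← hmul, hwd]
      rw [map_mul, hs, hs, hs])
    refine ⟨χ, fun e => ?_, fun χ' h' => ?_⟩
    · show α e = α (s (f e)) * (s (f e))⁻¹ * e
      rw [hwd (s (f e)) e (hs _)]; group
    · refine MonoidHom.ext fun g => Subtype.ext ?_
      show (χ' g : E) = α (s g) * (s g)⁻¹
      rw [h' (s g), hs]; group

end Groth.Agent.S18949
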