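import Groth.Statements.S18950


set_option autoImplicit false
universe u v
open CExt

namespace Groth.Agent.S18950

/-- Let f : E → G be a homomorphism of groups whose kernel is central in E, let α be an endomorphism of
E with f ∘ α = f which is the identity on the kernel, and let S ⊆ E be a subset fixed pointwise by α
such that f(S) generates G. Then α is the identity. (In the source S is the marking of a marked
central extension of finite tame étale group schemes and the hypothesis is that the marked conjugacy
classes generate G; the conclusion there is that a morphism of marked extensions inducing the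
identity on the kernel and on G is unique.) -/
theorem result {E : Type u} {G : Type v} [Group E] [Group G]
    (f : E →* G) (hker : f.ker ≤ Subgroup.center E) (α : E →* E) (hα : f.comp α = f)
    (hαA : ∀ a ∈ f.ker, α a = a) (S : Set E) (hS : Subgroup.closure (f '' S) = ⊤)
    (hαS : ∀ s ∈ S, α s = s) : α = MonoidHom.id E := by
  have h : Subgroup.closure (S ∪ f.ker) = ⊤ := by
    rw [eq_top_iff]
    intro x _
    have hx : f x ∈ Subgroup.map f (Subgroup.closure S) := by
      rw [MonoidHom.map_closure, hS]; trivial
    obtain ⟨y, hy, hxy⟩ := hx
    have : y⁻¹ * x ∈ f.ker := by simp [MonoidHom.mem_ker, hxy]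
    have h2 : y * (y⁻¹ * x) ∈ Subgroup.closure (S ∪ f.ker) :=
      Subgroup.mul_mem _ (Subgroup.closure_mono Set.subset_union_left hy) (Subgroup.subset_closure (Or.inr this))
    simpa using h2
  apply MonoidHom.eq_of_eqOn_dense h
  rintro x (hx | hx)
  · exact hαS x hx
  · exact hαA x hx

end Groth.Agent.S18950
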