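import Groth.Statements.S18952
import Mathlib.Tactic
-- import your own Groth.Agent.* helpers here

set_option autoImplicit false
universe u
open OrbPic

namespace Groth.Agent.S18952

/-- Let G be a group and C ⊆ G a subset stable under conjugation. Then (χ, w) ↦ χ maps the group of
geometric partial orbifold line bundles with respect to C onto all characters G → ℚ/ℤ, and a pair in
its kernel (χ trivial) has w a conjugation-invariant integer-valued function vanishing at 1 and
outside C: with the inclusion of such functions this is the exact sequence 0 → Hom(C/conj, ℤ) → Pic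
→ Hom(G, ℚ/ℤ) → 0 over a separably closed field. (As in the source after a choice of roots of unity,
the group G stands for the geometric points of a tame finite étale group scheme, characters are
homomorphisms to ℚ/ℤ and weights are class functions on G.) -/
theorem result (G : Type u) [Group G] (C : Set G)
    (hC : ∀ g h : G, g ∈ C → h * g * h⁻¹ ∈ C) :
    (∀ χ : Additive G →+ W4c6brauerbgmalle.QmodZ, ∃ w : G → ℚ, (χ, w) ∈ W4c6brauerbgmalle.picOrb G C) ∧
      (∀ p : (Additive G →+ W4c6brauerbgmalle.QmodZ) × (G → ℚ), p ∈ W4c6brauerbgmalle.picOrb G C → p.1 = 0 →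
        p.2 ∈ W4c6brauerbgmalle.intWeights G C) := by
  classical
  refine ⟨fun χ => ⟨fun g => if g ∈ C ∧ g ≠ 1 then Function.surjInv QuotientAddGroup.mk_surjective (χ (Additive.ofMul g)) else 0,
    ?_, ?_, ?_, ?_⟩, ?_⟩
  · exact if_neg fun h => h.2 rfl
  · exact fun g hg => if_neg fun h => hg h.1
  · intro g h
    have e : h⁻¹ * (h * g * h⁻¹) * h⁻¹⁻¹ = g := by simp [mul_assoc]
    have hc : h * g * h⁻¹ ∈ C ↔ g ∈ C := ⟨fun hm => e ▸ hC _ h⁻¹ hm, hC g h⟩
    have h1 : h * g * h⁻¹ = 1 ↔ g = 1 := conj_eq_one_iff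
    have hχ : χ (Additive.ofMul (h * g * h⁻¹)) = χ (Additive.ofMul g) := by
      rw [ofMul_mul, ofMul_mul, ofMul_inv, map_add, map_add, map_neg]; abel
    simp only [ne_eq, hc, h1, hχ]
  · intro g hg
    show W4c6brauerbgmalle.toQmodZ (if g ∈ C ∧ g ≠ 1 then _ else 0) = _
    by_cases h : g = 1
    · subst h
      rw [if_neg fun h => h.2 rfl, map_zero, ofMul_one, map_zero]
    · rw [if_pos ⟨hg, h⟩]
      exact Function.surjInv_eq QuotientAddGroup.mk_surjective _
  · rintro ⟨χ, w⟩ ⟨h1, h2, h3, h4⟩ (rfl : χ = 0)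
    refine ⟨h1, h2, h3, fun g => ?_⟩
    by_cases hg : g ∈ C
    · obtain ⟨n, hn⟩ := AddSubgroup.mem_zmultiples_iff.1 ((QuotientAddGroup.eq_zero_iff _).1 ((h4 g hg).trans rfl))
      exact ⟨n, by simpa using hn.symm⟩
    · exact ⟨0, by simpa using h2 g hg⟩

end Groth.Agent.S18952
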