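import Groth.Statements.S18953
-- import your own Groth.Agent.* helpers here

set_option autoImplicit false
universe u v
open OrbPic

namespace Groth.Agent.S18953

/-- Let G₁ and G₂ be groups with subsets C₁ ⊆ G₁ and C₂ ⊆ G₂, and let C ⊆ G₁ × G₂ be the union of C₁ ×
{1} and {1} × C₂. Restricting the character and the weight along the two inclusions G₁ → G₁ × G₂ and
G₂ → G₁ × G₂ is a bijection from the geometric partial orbifold line bundles of G₁ × G₂ with respect
to C onto pairs of geometric partial orbifold line bundles of G₁ with respect to C₁ and of G₂ with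
respect to C₂. (As in the source after a choice of roots of unity, each group stands for the
geometric points of a tame finite étale group scheme, characters are homomorphisms to ℚ/ℤ and
weights are class functions; the source states the Galois-equivariant version, which follows by
taking invariants.) -/
theorem result (G₁ : Type u) (G₂ : Type v) [Group G₁] [Group G₂] (C₁ : Set G₁) (C₂ : Set G₂) :
    Set.BijOn
      (fun p : (Additive (G₁ × G₂) →+ W4c6brauerbgmalle.QmodZ) × (G₁ × G₂ → ℚ) =>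
        ((p.1.comp (MonoidHom.toAdditive (MonoidHom.inl G₁ G₂)), fun g => p.2 (g, 1)),
          (p.1.comp (MonoidHom.toAdditive (MonoidHom.inr G₁ G₂)), fun g => p.2 (1, g))))
      (W4c6brauerbgmalle.picOrb (G₁ × G₂) ((fun g => (g, (1 : G₂))) '' C₁ ∪ (fun g => ((1 : G₁), g)) '' C₂))
      ((W4c6brauerbgmalle.picOrb G₁ C₁ : Set _) ×ˢ (W4c6brauerbgmalle.picOrb G₂ C₂ : Set _)) := by
  classical
  refine ⟨?_, ?_, ?_⟩
  · rintro ⟨χ, w⟩ ⟨h1, h2, h3, h4⟩
    refine ⟨⟨h1, fun g hg => ?_, fun g h => ?_, fun g hg => h4 _ (Or.inl ⟨g, hg, rfl⟩)⟩,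
      ⟨h1, fun g hg => ?_, fun g h => ?_, fun g hg => h4 _ (Or.inr ⟨g, hg, rfl⟩)⟩⟩
    · by_cases h : g = 1
      · subst h; exact h1
      · exact h2 _ (by
          rintro (⟨x, hx, e⟩ | ⟨x, -, e⟩) <;> simp only [Prod.mk.injEq] at e
          · exact hg (e.1 ▸ hx)
          · exact h e.1.symm)
    · show w (h * g * h⁻¹, 1) = w (g, 1)
      simpa using h3 (g, 1) (h, 1)
    · by_cases h : g = 1
      · subst h; exact h1
      · exact h2 _ (by
          rintro (⟨x, -, e⟩ | ⟨x, hx, e⟩) <;> simp only [Prod.mk.injEq] at e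
          · exact h e.2.symm
          · exact hg (e.2 ▸ hx))
    · show w (1, h * g * h⁻¹) = w (1, g)
      simpa using h3 (1, g) (1, h)
  · rintro ⟨χ, w⟩ hp ⟨χ', w'⟩ hq h
    simp only [Prod.mk.injEq] at h
    obtain ⟨⟨hχ₁, hw₁⟩, hχ₂, hw₂⟩ := h
    refine Prod.ext ?_ (funext fun g => ?_)
    · ext x
      show χ (Additive.ofMul x) = χ' (Additive.ofMul x)
      rw [show x = (x.1, 1) * (1, x.2) by simp, ofMul_mul, map_add, map_add]
      exact congrArg₂ (· + ·) (DFunLike.congr_fun hχ₁ (Additive.ofMul x.1)) (DFunLike.congr_fun hχ₂ (Additive.ofMul x.2))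
    · show w g = w' g
      by_cases hg : g ∈ (fun g => (g, (1 : G₂))) '' C₁ ∪ (fun g => ((1 : G₁), g)) '' C₂
      · rcases hg with ⟨x, -, rfl⟩ | ⟨x, -, rfl⟩
        · exact congrFun hw₁ x
        · exact congrFun hw₂ x
      · exact (hp.2.1 g hg).trans (hq.2.1 g hg).symm
  · rintro ⟨⟨χ₁, w₁⟩, χ₂, w₂⟩ ⟨h₁, h₂⟩
    obtain ⟨(a1 : w₁ 1 = 0), (a2 : ∀ g, g ∉ C₁ → w₁ g = 0), (a3 : ∀ g h, w₁ (h * g * h⁻¹) = w₁ g),
      (a4 : ∀ g, g ∈ C₁ → W4c6brauerbgmalle.toQmodZ (w₁ g) = χ₁ (Additive.ofMul g))⟩ := h₁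
    obtain ⟨(b1 : w₂ 1 = 0), (b2 : ∀ g, g ∉ C₂ → w₂ g = 0), (b3 : ∀ g h, w₂ (h * g * h⁻¹) = w₂ g),
      (b4 : ∀ g, g ∈ C₂ → W4c6brauerbgmalle.toQmodZ (w₂ g) = χ₂ (Additive.ofMul g))⟩ := h₂
    refine ⟨(χ₁.comp (MonoidHom.toAdditive (MonoidHom.fst G₁ G₂)) + χ₂.comp (MonoidHom.toAdditive (MonoidHom.snd G₁ G₂)),
      fun g => if g.2 = 1 then w₁ g.1 else if g.1 = 1 then w₂ g.2 else 0), ⟨?_, ?_, ?_, ?_⟩, ?_⟩
    · simpa using a1
    · rintro ⟨x, y⟩ hg
      dsimp only
      split_ifs with h h'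
      · subst h; exact a2 x fun hx => hg (Or.inl ⟨x, hx, rfl⟩)
      · subst h'; exact b2 y fun hy => hg (Or.inr ⟨y, hy, rfl⟩)
      · rfl
    · rintro ⟨x, y⟩ ⟨h, k⟩
      simp only [Prod.mk_mul_mk, Prod.inv_mk, conj_eq_one_iff, a3 x h, b3 y k]
    · rintro ⟨x, y⟩ hg
      show W4c6brauerbgmalle.toQmodZ (if y = 1 then w₁ x else if x = 1 then w₂ y else 0) =
        χ₁ (Additive.ofMul x) + χ₂ (Additive.ofMul y)
      rcases hg with ⟨z, hz, e⟩ | ⟨z, hz, e⟩ <;> simp only [Prod.mk.injEq] at e <;> obtain ⟨rfl, rfl⟩ := e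
      · rw [if_pos rfl, ofMul_one, map_zero, add_zero]; exact a4 z hz
      · by_cases h : z = 1
        · subst h
          rw [if_pos rfl, a1, map_zero, ofMul_one, ofMul_one, map_zero, map_zero, add_zero]
        · rw [if_neg h, if_pos rfl, ofMul_one, map_zero, zero_add]; exact b4 z hz
    · refine Prod.ext (Prod.ext ?_ (funext fun g => ?_)) (Prod.ext ?_ (funext fun g => ?_))
      · ext x; simp
      · simp
      · ext x; simp
      · by_cases h : g = 1
        · subst h; simp [a1, b1]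
        · simp [h]

end Groth.Agent.S18953
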