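import Groth.Statements.S18955
import Groth.Agent.Misc15.DominantWhisker
import Groth.Agent.Misc15.AffinePoints
import Groth.Agent.Misc15.ExtendIdeal
-- import your own Groth.Agent.* helpers here

set_option autoImplicit false
universe u
open scoped TensorProduct
open CategoryTheory MonoidalCategory CartesianMonoidalCategory MonObj AlgebraicGeometry Opposite
open Magnet

namespace Groth.Agent.S18955

/-- Let k be a field, M an affine monoid k-scheme (a monoid object in k-schemes with affine underlying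
scheme), G an affine group k-scheme and i : G → M a homomorphism of monoids which is an open
immersion with scheme-theoretically dense image, and let X be an affine k-scheme with an action a of
G. Let D_X be the functor on k-schemes whose value at Y is the set of k-morphisms M ×_k Y → X that
are G-equivariant for G acting on M ×_k Y by left multiplication through i on the first factor and
on X through a. Then D_X is representable by a k-scheme Z, and the canonical map D_X → X
(restriction to the unit section of M) is a closed immersion j : Z → X. (The published statement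
takes G to be the group of units of M, open and schematically dense; here it is assumed only that i
is a homomorphism of monoids and a scheme-theoretically dominant open immersion of affine schemes.) -/
theorem result (k : Type u) [Field k]
    (M G X : Over (Spec (CommRingCat.of k))) [MonObj M] [GrpObj G] [IsAffine M.left] [IsAffine G.left]
    [IsAffine X.left] (i : G ⟶ M) [IsMonHom i] [IsOpenImmersion i.left]
    [IsSchemeTheoreticallyDominant i.left] (a : AlgGrp.Action G X) :
    ∃ (Z : Over (Spec (CommRingCat.of k))) (j : Z ⟶ X)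
      (e : (Magnet.MonAct.eqvHom ((Magnet.MonAct.regular M).restrict i) (Magnet.MonAct.ofAction a)).RepresentableBy Z),
      IsClosedImmersion j.left ∧
      ∀ (T : Over (Spec (CommRingCat.of k))) (z : T ⟶ Z),
        (Magnet.MonAct.eqvHom.evalAt ((Magnet.MonAct.regular M).restrict i) (Magnet.MonAct.ofAction a) η[M]).app
          (op T) (e.homEquiv z) = z ≫ j := by
  classical
  obtain ⟨A, _, _, ⟨eX⟩⟩ := Groth.Agent.Misc15.AffinePoints.exists_sp X
  obtain ⟨B, _, _, ⟨eM⟩⟩ := Groth.Agent.Misc15.AffinePoints.exists_sp M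
  obtain ⟨C, _, _, ⟨eG⟩⟩ := Groth.Agent.Misc15.AffinePoints.exists_sp G
  have hQ := fun (B' C' : Type u) [CommRing B'] [CommRing C'] [Algebra k B'] [Algebra k C'] =>
    Groth.Agent.Misc15.AffinePoints.isIso_Q (R := k) B' C'
  obtain ⟨ιB, hι⟩ := Groth.Agent.Misc15.AffinePoints.pt_surjective (eG.hom ≫ i ≫ eM.inv)
  obtain ⟨θ, hθ⟩ := Groth.Agent.Misc15.AffinePoints.pt_surjective
    (Groth.Agent.Misc15.AffinePoints.Q C A ≫ (eG.hom ⊗ₘ eX.hom) ≫ a.act ≫ eX.inv)
  obtain ⟨I, hI⟩ := Groth.Agent.Misc15.ExtendIdeal.exists_ideal ιB θ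
  have : QuasiCompact i.left := inferInstance
  have hsep : IsSeparated X.hom := inferInstance
  let ρ := (Magnet.MonAct.regular M).restrict i
  let b := Magnet.MonAct.ofAction a
  have hres : ∀ (T : Over (Spec (CommRingCat.of k))) (φ : M ⊗ T ⟶ X),
      Magnet.MonAct.IsEquivariant (ρ.prod (Magnet.MonAct.trivial G T)) b φ →
      (i ▷ T) ≫ φ = (G ◁ (lift (toUnit T ≫ η[M]) (𝟙 T) ≫ φ)) ≫ a.act := by
    intro T φ hφ
    apply Magnet.hom_ext_lift₂
    intro T' g t
    have h1 := (Magnet.MonAct.mem_eqvHom_iff φ).1 hφ T' g 1 t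
    simp only [ρ] at h1
    rw [Magnet.MonAct.lift_restrict_act, Magnet.MonAct.lift_regular_act, _root_.mul_one] at h1
    rw [lift_whiskerRight_assoc, h1, lift_whiskerLeft_assoc, comp_lift_assoc, Category.comp_id,
      ← Category.assoc t (toUnit _), toUnit_unique (t ≫ toUnit _) (toUnit T'), ← Hom.one_def]
    rfl
  have hcancel : ∀ (T : Over (Spec (CommRingCat.of k))) (f g : M ⊗ T ⟶ X), (i ▷ T) ≫ f = (i ▷ T) ≫ g → f = g := by
    intro T f g h
    have := Groth.Agent.Misc15.DominantWhisker.dominant_whiskerRight i T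
    exact Groth.Agent.Misc15.DominantWhisker.cancel (i ▷ T) f g h
  have hequiv : ∀ (T : Over (Spec (CommRingCat.of k))) (φ : M ⊗ T ⟶ X) (x : T ⟶ X),
      (i ▷ T) ≫ φ = (G ◁ x) ≫ a.act → Magnet.MonAct.IsEquivariant (ρ.prod (Magnet.MonAct.trivial G T)) b φ := by
    intro T φ x h
    have := Groth.Agent.Misc15.DominantWhisker.dominant_whiskerRight i T
    have : IsAffineHom i.left := inferInstance
    have : QuasiCompact (i ▷ T).left := Groth.Agent.Misc15.DominantWhisker.quasiCompact_whiskerRight i T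
    have := Groth.Agent.Misc15.DominantWhisker.dominant_whiskerLeft G (i ▷ T)
    apply Groth.Agent.Misc15.DominantWhisker.cancel (G ◁ (i ▷ T))
    apply Magnet.hom_ext_lift₂
    intro T' g z
    rw [← lift_comp_fst_snd z]
    generalize z ≫ fst _ _ = c
    generalize z ≫ snd _ _ = t
    have e : ∀ (c : T' ⟶ G), lift (c ≫ i) t ≫ φ = lift c (t ≫ x) ≫ a.act := fun c => by
      have := congrArg (lift c t ≫ ·) h
      simpa only [lift_whiskerRight_assoc, lift_whiskerLeft_assoc] using this
    simp only [lift_whiskerLeft_assoc, lift_whiskerRight, Magnet.MonAct.lift_prod_act_assoc,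
      Magnet.MonAct.lift_trivial_act, ρ, Magnet.MonAct.lift_restrict_act, Magnet.MonAct.lift_regular_act]
    rw [← MonObj.mul_comp, e, e]
    exact b.lift_mul_act g c (t ≫ x)
  have key : ∀ (R : Type u) [CommRing R] [Algebra k R] (χ : A →ₐ[k] R),
      (∃ ψ : M ⊗ CoactBr.sp k R ⟶ X, (i ▷ _) ≫ ψ = (G ◁ (CoactBr.pt χ ≫ eX.hom)) ≫ a.act) ↔ I ≤ RingHom.ker χ := by
    intro R _ _ χ
    rw [hI R χ]
    have := hQ B R
    have := hQ C R
    let QM := Groth.Agent.Misc15.AffinePoints.Q B R ≫ (eM.hom ⊗ₘ 𝟙 (CoactBr.sp k R))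
    let QG := Groth.Agent.Misc15.AffinePoints.Q C R ≫ (eG.hom ⊗ₘ 𝟙 (CoactBr.sp k R))
    have : IsIso QM := inferInstance
    have : IsIso QG := inferInstance
    have hnat : CoactBr.pt (Algebra.TensorProduct.map ιB (AlgHom.id k R)) ≫ QM = QG ≫ (i ▷ _) := by
      simp only [QM, QG, ← Category.assoc, Groth.Agent.Misc15.AffinePoints.pt_map_comp_Q, hι, CoactBr.pt_id]
      simp only [Category.assoc, ← tensorHom_id, tensorHom_comp_tensorHom, Category.comp_id, Iso.inv_hom_id]
    have hact : CoactBr.pt ((Algebra.TensorProduct.map (AlgHom.id k C) χ).comp θ) ≫ eX.hom =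
        QG ≫ (G ◁ (CoactBr.pt χ ≫ eX.hom)) ≫ a.act := by
      rw [CoactBr.pt_comp, hθ]
      simp only [QG, Category.assoc, Iso.inv_hom_id, Category.comp_id,
        reassoc_of% (Groth.Agent.Misc15.AffinePoints.pt_map_comp_Q (AlgHom.id k C) χ), CoactBr.pt_id]
      rw [← id_tensorHom]
      simp only [tensorHom_comp_tensorHom_assoc, Category.id_comp, Category.comp_id]
    constructor
    · rintro ⟨ψ, hψ⟩ a'
      obtain ⟨ψ₀, hψ₀⟩ := Groth.Agent.Misc15.AffinePoints.pt_surjective (QM ≫ ψ ≫ eX.inv)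
      refine ⟨ψ₀ a', ?_⟩
      have e : CoactBr.pt ((Algebra.TensorProduct.map ιB (AlgHom.id k R)).comp ψ₀) =
          CoactBr.pt ((Algebra.TensorProduct.map (AlgHom.id k C) χ).comp θ) := by
        rw [← cancel_mono eX.hom, hact, CoactBr.pt_comp, hψ₀]
        simp only [Category.assoc, Iso.inv_hom_id, Category.comp_id]
        rw [reassoc_of% hnat, hψ]
      exact DFunLike.congr_fun (CoactBr.pt_injective e) a'
    · intro h
      have hinj : Function.Injective ιB := by
        have : QuasiCompact (CoactBr.pt ιB).left := by rw [hι, Over.comp_left, Over.comp_left]; infer_instance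
        have e : IsSchemeTheoreticallyDominant (CoactBr.pt ιB).left := by
          rw [hι, Over.comp_left, Over.comp_left]
          infer_instance
        have h2 := (CoactBr.pt ιB).left.app_injective (⊤ : (Spec (CommRingCat.of B)).Opens)
        intro x y hxy
        apply (Scheme.ΓSpecIso (CommRingCat.of B)).commRingCatIsoToRingEquiv.symm.injective
        apply h2
        have hn := fun z => congr($(Scheme.ΓSpecIso_inv_naturality (CommRingCat.ofHom ιB.toRingHom)) z)
        exact ((hn x).symm.trans ((congrArg (fun z => (Scheme.ΓSpecIso (CommRingCat.of C)).inv z) hxy).trans (hn y)))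
      have hinj' : Function.Injective (Algebra.TensorProduct.map ιB (AlgHom.id k R)) := by
        have e : (Algebra.TensorProduct.map ιB (AlgHom.id k R)).toLinearMap = LinearMap.rTensor R ιB.toLinearMap := by
          ext c r; simp
        rw [← AlgHom.coe_toLinearMap, e]
        exact Module.Flat.rTensor_preserves_injective_linearMap _ hinj
      let eR := AlgEquiv.ofInjective _ hinj'
      let ψ₀ : A →ₐ[k] B ⊗[k] R := eR.symm.toAlgHom.comp
        (((Algebra.TensorProduct.map (AlgHom.id k C) χ).comp θ).codRestrict _ h)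
      have hψ₀ : (Algebra.TensorProduct.map ιB (AlgHom.id k R)).comp ψ₀ =
          (Algebra.TensorProduct.map (AlgHom.id k C) χ).comp θ := by
        ext a'
        exact congrArg Subtype.val (eR.apply_symm_apply _)
      refine ⟨inv QM ≫ CoactBr.pt ψ₀ ≫ eX.hom, ?_⟩
      rw [← cancel_epi QG, ← reassoc_of% hnat, IsIso.hom_inv_id_assoc, ← reassoc_of% (CoactBr.pt_comp ψ₀ (Algebra.TensorProduct.map ιB (AlgHom.id k R))), hψ₀, hact]
  let Z := CoactBr.sp k (A ⧸ I)
  let mk : A →ₐ[k] A ⧸ I := Ideal.Quotient.mkₐ k I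
  let j : Z ⟶ X := CoactBr.pt mk ≫ eX.hom
  obtain ⟨φu, hφu⟩ := (key (A ⧸ I) mk).2 (by
    intro x hx
    exact Ideal.Quotient.eq_zero_iff_mem.2 hx)
  have hj : IsClosedImmersion j.left := by
    have : IsClosedImmersion (CoactBr.pt mk).left :=
      IsClosedImmersion.spec_of_surjective _ Ideal.Quotient.mk_surjective
    exact IsClosedImmersion.comp (CoactBr.pt mk).left eX.hom.left
  have hmono := Groth.Agent.Misc15.DominantWhisker.mono_of_closedImmersion j
  let φU : (Magnet.MonAct.eqvHom ρ b).obj (op Z) := ⟨φu, hequiv Z φu j hφu⟩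
  have hsecu : lift (toUnit Z ≫ η[M]) (𝟙 Z) ≫ φu = j := by
    show lift (toUnit (CoactBr.sp k (A ⧸ I)) ≫ η[M]) (𝟙 (CoactBr.sp k (A ⧸ I))) ≫ φu = CoactBr.pt mk ≫ eX.hom
    have h1 := congrArg (lift (toUnit (CoactBr.sp k (A ⧸ I)) ≫ η[G]) (𝟙 (CoactBr.sp k (A ⧸ I))) ≫ ·) hφu
    simp only [lift_whiskerRight_assoc, lift_whiskerLeft_assoc, Category.assoc, IsMonHom.one_hom] at h1
    rw [h1, ← Hom.one_def, Category.id_comp]
    exact b.lift_one_act (CoactBr.pt mk ≫ eX.hom)
  have hsec : ∀ (T : Over (Spec (CommRingCat.of k))) (z : T ⟶ Z),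
      lift (toUnit T ≫ η[M]) (𝟙 T) ≫ (M ◁ z) ≫ φu = z ≫ j := by
    intro T z
    rw [← hsecu, lift_whiskerLeft_assoc, comp_lift_assoc, Category.id_comp, Category.comp_id,
      ← Category.assoc z (toUnit Z), toUnit_unique (z ≫ toUnit Z) (toUnit T)]
  have hfac : ∀ (T : Over (Spec (CommRingCat.of k))) (φ : (Magnet.MonAct.eqvHom ρ b).obj (op T)),
      ∃ z : T ⟶ Z, z ≫ j = lift (toUnit T ≫ η[M]) (𝟙 T) ≫ φ.1 := by
    intro T φ
    let x := lift (toUnit T ≫ η[M]) (𝟙 T) ≫ φ.1
    have hloc : ∀ y : T.left, ∃ (U : T.left.Opens), y ∈ U ∧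
        ∃ g : (U : Scheme.{u}) ⟶ Z.left, g ≫ j.left = U.ι ≫ x.left := by
      intro y
      obtain ⟨U, hU, hyU, -⟩ := exists_isAffineOpen_mem_and_subset (U := ⊤) (show y ∈ (⊤ : T.left.Opens) from trivial)
      refine ⟨U, hyU, ?_⟩
      let TU : Over (Spec (CommRingCat.of k)) := Over.mk (U.ι ≫ T.hom)
      have : IsAffine TU.left := hU
      obtain ⟨R, _, _, ⟨eR⟩⟩ := Groth.Agent.Misc15.AffinePoints.exists_sp TU
      let r : CoactBr.sp k R ⟶ T := eR.hom ≫ Over.homMk U.ι rfl
      obtain ⟨χ, hχ⟩ := Groth.Agent.Misc15.AffinePoints.pt_surjective (r ≫ x ≫ eX.inv)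
      have hx : CoactBr.pt χ ≫ eX.hom = r ≫ x := by
        rw [hχ]; simp only [Category.assoc, Iso.inv_hom_id, Category.comp_id]
      have hker : I ≤ RingHom.ker χ := (key R χ).1 ⟨(M ◁ r) ≫ φ.1, by
        rw [← whisker_exchange_assoc, hres T φ.1 φ.2, hx]
        simp only [x, r, MonoidalCategory.whiskerLeft_comp, Category.assoc]⟩
      let χ' : A ⧸ I →ₐ[k] R := Ideal.Quotient.liftₐ I χ fun c hc => hker hc
      have hχ' : χ'.comp mk = χ := AlgHom.ext fun c => rfl
      refine ⟨(eR.inv ≫ CoactBr.pt χ').left, ?_⟩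
      rw [← Over.comp_left]
      show ((eR.inv ≫ CoactBr.pt χ') ≫ CoactBr.pt mk ≫ eX.hom).left = _
      rw [Category.assoc, ← reassoc_of% (CoactBr.pt_comp mk χ'), hχ', hx]
      simp only [r, Category.assoc, Iso.inv_hom_id_assoc, Over.comp_left, Over.homMk_left]
    choose U hyU g hg using hloc
    let 𝒰 := T.left.openCoverOfIsOpenCover U (TopologicalSpace.IsOpenCover.mk
      (top_le_iff.1 fun y _ => TopologicalSpace.Opens.mem_iSup.2 ⟨y, hyU y⟩))
    have hm : Mono j.left := inferInstance
    let z₀ := 𝒰.glueMorphisms g (fun p q => by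
      rw [← cancel_mono j.left, Category.assoc, Category.assoc]
      show _ ≫ g p ≫ j.left = _ ≫ g q ≫ j.left
      rw [hg, hg, ← Category.assoc, ← Category.assoc]
      exact congrArg (· ≫ x.left) Limits.pullback.condition)
    have hz₀ : z₀ ≫ j.left = x.left := 𝒰.hom_ext _ _ fun p => by
      rw [← Category.assoc]
      exact (congrArg (· ≫ j.left) (𝒰.ι_glueMorphisms _ _ p)).trans (hg p)
    refine ⟨Over.homMk z₀ ?_, ?_⟩
    · rw [← Over.w j, ← Category.assoc, hz₀, Over.w x]
    · ext1; exact hz₀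
  refine ⟨Z, j, { homEquiv := fun {T} => Equiv.ofBijective (fun z => (Magnet.MonAct.eqvHom ρ b).map z.op φU) ⟨?_, ?_⟩,
                  homEquiv_comp := fun {T T'} t z => ?_ }, hj, fun T z => hsec T z⟩
  · intro z z' h
    have h' : (M ◁ z) ≫ φu = (M ◁ z') ≫ φu := congrArg Subtype.val h
    rw [← cancel_mono j, ← hsec, ← hsec, h']
  · intro φ
    obtain ⟨z, hz⟩ := hfac T φ
    refine ⟨z, Subtype.ext (hcancel T _ _ ?_)⟩
    show (i ▷ T) ≫ (M ◁ z) ≫ φu = _
    rw [hres T φ.1 φ.2, ← hz, ← whisker_exchange_assoc, hφu]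
    simp only [j, MonoidalCategory.whiskerLeft_comp, Category.assoc]
  · exact ConcreteCategory.congr_hom ((Magnet.MonAct.eqvHom ρ b).map_comp z.op t.op) φU

end Groth.Agent.S18955
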