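import Groth.Statements.S18956
import Mathlib.CategoryTheory.Limits.Types.Pullbacks
import Mathlib.CategoryTheory.Limits.FunctorCategory.Shapes.Pullbacks
import Groth.Agent.Misc15.DominantWhisker
-- import your own Groth.Agent.* helpers here

set_option autoImplicit false
universe u
open CategoryTheory MonoidalCategory CartesianMonoidalCategory MonObj AlgebraicGeometry Opposite
open Magnet

namespace Groth.Agent.S18956

/-- Let k be a field, M an affine monoid k-scheme, G an affine group k-scheme and i : G → M a
homomorphism of monoids which is a quasi-compact open immersion with scheme-theoretically dense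
image. Let X be a k-scheme with an action aX of G, and j : Z → X a closed immersion which is
G-equivariant for an action aZ of G on Z (a closed G-stable subscheme). For a G-scheme W write D_W
for the functor on k-schemes whose value at Y is the set of k-morphisms M ×_k Y → W that are
G-equivariant for G acting on M ×_k Y by left multiplication through i on the first factor. Then the
square of presheaves formed by D_Z → D_X (composition with j), the restrictions D_Z → Z and D_X → X
to the unit section of M, and j is cartesian. (The published statement takes G to be the group of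
units of M, open and schematically dense; here it is assumed only that i is a homomorphism of
monoids and a quasi-compact, scheme-theoretically dominant open immersion.) -/
theorem result (k : Type u) [Field k]
    (M G X Z : Over (Spec (CommRingCat.of k))) [MonObj M] [GrpObj G] [IsAffine M.left] [IsAffine G.left]
    (i : G ⟶ M) [IsMonHom i] [IsOpenImmersion i.left] [QuasiCompact i.left]
    [IsSchemeTheoreticallyDominant i.left]
    (aX : AlgGrp.Action G X) (aZ : AlgGrp.Action G Z) (j : Z ⟶ X) [IsClosedImmersion j.left]
    (hj : Magnet.MonAct.IsEquivariant (Magnet.MonAct.ofAction aZ) (Magnet.MonAct.ofAction aX) j) :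
    IsPullback
      (Magnet.MonAct.eqvHom.postcomp ((Magnet.MonAct.regular M).restrict i) j hj)
      (Magnet.MonAct.eqvHom.evalAt ((Magnet.MonAct.regular M).restrict i) (Magnet.MonAct.ofAction aZ) η[M])
      (Magnet.MonAct.eqvHom.evalAt ((Magnet.MonAct.regular M).restrict i) (Magnet.MonAct.ofAction aX) η[M])
      (yoneda.map j) := by
  have hmono := Groth.Agent.Misc15.DominantWhisker.mono_of_closedImmersion j
  have hevfun : ∀ (T : Over (Spec (CommRingCat.of k))) (g : T ⟶ G), g ≫ i = (g ≫ i) * 1 := fun T g => (_root_.mul_one _).symm
  refine IsPullback.of_forall_isPullback_app fun T => ?_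
  rw [CategoryTheory.Limits.Types.isPullback_iff]
  let sec := lift (toUnit (unop T) ≫ η[M]) (𝟙 (unop T))
  refine ⟨?_, fun φ ψ h => Subtype.ext ((cancel_mono j).1 (congrArg Subtype.val h.1)), fun φ u h => ?_⟩
  · refine ConcreteCategory.hom_ext _ _ fun φ => ?_
    show sec ≫ φ.1 ≫ j = (sec ≫ φ.1) ≫ j
    rw [Category.assoc]
  · let u' : unop T ⟶ Z := u
    have hu : sec ≫ φ.1 = u' ≫ j := h
    have := Groth.Agent.Misc15.DominantWhisker.dominant_whiskerRight i (unop T)
    have hres : (i ▷ unop T) ≫ φ.1 = ((G ◁ u') ≫ aZ.act) ≫ j := by
      apply Magnet.hom_ext_lift₂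
      intro T' g t
      have hφ := (Magnet.MonAct.mem_eqvHom_iff φ.1).1 φ.2 T' g 1 t
      rw [Magnet.MonAct.lift_restrict_act, Magnet.MonAct.lift_regular_act, _root_.mul_one] at hφ
      have e : lift (1 : T' ⟶ M) t ≫ φ.1 = (t ≫ u') ≫ j := by
        rw [Category.assoc, ← hu]
        simp only [sec]
        rw [comp_lift_assoc, Category.comp_id, ← Category.assoc t (toUnit _),
          toUnit_unique (t ≫ toUnit _) (toUnit T'), ← Hom.one_def]
      have hj' := (Magnet.MonAct.isEquivariant_iff _ _ _).1 hj T' g (t ≫ u')
      rw [lift_whiskerRight_assoc, hφ, e, ← hj', Category.assoc, Magnet.MonAct.ofAction_act,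
        lift_whiskerLeft_assoc]
    obtain ⟨ψ, hψ⟩ := Groth.Agent.Misc15.DominantWhisker.exists_factor (i ▷ unop T) j φ.1 _ hres
    refine ⟨⟨ψ, ?_⟩, Subtype.ext hψ, ?_⟩
    · unfold Magnet.MonAct.IsEquivariant
      have h2 := φ.2
      unfold Magnet.MonAct.IsEquivariant at h2 hj
      rw [← cancel_mono j, Category.assoc, Category.assoc, hψ, h2, hj, ← whiskerLeft_comp_assoc, hψ]
    · show sec ≫ ψ = u'
      rw [← cancel_mono j, Category.assoc, hψ, hu]

end Groth.Agent.S18956
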