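import Groth.Statements.S18957
import Groth.Agent.Misc15.MagnetPointsS
-- import your own Groth.Agent.* helpers here

set_option autoImplicit false
universe u
open CategoryTheory MonoidalCategory CartesianMonoidalCategory MonObj AlgebraicGeometry Opposite
open Magnet

namespace Groth.Agent.S18957

/-- Let k be a field, M a monoid k-scheme with an action a on a k-scheme X, G a group k-scheme and i : G
→ M a homomorphism of monoids which is a quasi-compact open immersion with scheme-theoretically
dense image. Let j : Z → X be a closed immersion and b an action of G on Z for which j is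
equivariant, G acting on X through i and a (a closed G-stable subscheme). Then the G-action on Z
extends to an M-action making j equivariant: there is an action c of M on Z such that j is
equivariant for c and a and the restriction of c along i is b. (The published statement takes G to
be the group of units of M, schematically dense in M; here it is assumed only that i is a
homomorphism of monoids and a quasi-compact, scheme-theoretically dominant open immersion.) -/
theorem result (k : Type u) [Field k]
    (M G X Z : Over (Spec (CommRingCat.of k))) [MonObj M] [GrpObj G]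
    (i : G ⟶ M) [IsMonHom i] [IsOpenImmersion i.left] [QuasiCompact i.left]
    [IsSchemeTheoreticallyDominant i.left]
    (a : Magnet.MonAct M X) (b : AlgGrp.Action G Z) (j : Z ⟶ X) [IsClosedImmersion j.left]
    (hj : Magnet.MonAct.IsEquivariant (Magnet.MonAct.ofAction b) (a.restrict i) j) :
    ∃ c : Magnet.MonAct M Z, Magnet.MonAct.IsEquivariant c a j ∧ c.restrict i = Magnet.MonAct.ofAction b := by
  have : Flat Z.hom := inferInstance
  have : Flat (Limits.pullback.fst M.hom Z.hom) := inferInstance
  have e1 : (i ▷ Z).left ≫ Limits.pullback.fst M.hom Z.hom = Limits.pullback.fst G.hom Z.hom ≫ i.left :=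
    Over.whiskerRight_left_fst i
  have e2 : (i ▷ Z).left ≫ Limits.pullback.snd M.hom Z.hom = Limits.pullback.snd G.hom Z.hom :=
    Over.whiskerRight_left_snd i
  have hbig : IsPullback (Limits.pullback.fst G.hom Z.hom) ((i ▷ Z).left ≫ Limits.pullback.snd M.hom Z.hom)
      (i.left ≫ M.hom) Z.hom := by
    rw [e2, Over.w i]
    exact IsPullback.of_hasPullback G.hom Z.hom
  have hsq := IsPullback.of_bot hbig e1.symm (IsPullback.of_hasPullback M.hom Z.hom)
  have hdom : IsSchemeTheoreticallyDominant (i ▷ Z).left := IsSchemeTheoreticallyDominant.of_isPullback hsq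
  let q : M ⊗ Z ⟶ X := (M ◁ j) ≫ a.act
  have hq : (i ▷ Z) ≫ q = b.act ≫ j := by
    have h := hj
    unfold Magnet.MonAct.IsEquivariant at h
    rw [Magnet.MonAct.ofAction_act, Magnet.MonAct.restrict_act] at h
    rw [h]
    simp only [q]
    rw [← whisker_exchange_assoc]
  have hle : j.left.ker ≤ q.left.ker := by
    have h1 : ((i ▷ Z) ≫ q).left.ker = q.left.ker := by
      rw [Over.comp_left, Scheme.Hom.ker_comp, hdom.ker_eq_bot, Scheme.IdealSheafData.map_bot]
    rw [← h1, hq, Over.comp_left]
    exact Scheme.Hom.le_ker_comp _ _
  let act : M ⊗ Z ⟶ Z := Over.homMk (IsClosedImmersion.lift j.left q.left hle) (by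
    rw [← Over.w j, IsClosedImmersion.lift_fac_assoc, Over.w q])
  have hact : act ≫ j = q := by
    ext1
    exact IsClosedImmersion.lift_fac _ _ _
  have : Mono j := by
    have : Mono j.left := inferInstance
    exact (Over.forget _).mono_of_mono_map this
  refine ⟨Magnet.MonAct.mk' act (fun T x => ?_) (fun T g h x => ?_), hact, Magnet.MonAct.ext' ?_⟩
  · rw [← cancel_mono j, Category.assoc, hact]
    simp only [q]
    rw [lift_whiskerLeft_assoc, Magnet.MonAct.lift_one_act]
  · rw [← cancel_mono j, Category.assoc, hact, Category.assoc, hact]
    simp only [q]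
    rw [lift_whiskerLeft_assoc, lift_whiskerLeft_assoc, Magnet.MonAct.lift_mul_act, Category.assoc, hact]
    simp only [q]
    rw [lift_whiskerLeft_assoc]
  · rw [← cancel_mono j, Magnet.MonAct.restrict_act, Category.assoc, Magnet.MonAct.mk'_act, hact, hq]
    rfl

end Groth.Agent.S18957
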