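import Groth.Statements.S18958
import Mathlib.CategoryTheory.Limits.Types.Pullbacks
import Mathlib.CategoryTheory.Limits.FunctorCategory.Shapes.Pullbacks
import Groth.Agent.Misc15.MagnetPointsS
-- import your own Groth.Agent.* helpers here

set_option autoImplicit false
universe u
open CategoryTheory MonoidalCategory CartesianMonoidalCategory MonObj AlgebraicGeometry Opposite
open Magnet

namespace Groth.Agent.S18958

/-- Let k be a field, G a group k-scheme and M a monoid k-scheme with a homomorphism of monoids i : G →
M and a zero o : Spec k → M (m·o = o = o·m for every point m of M). Assume that for every k-scheme T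
whose underlying scheme is the spectrum of a field K, every open subset of M ×_k T which is stable
under G acting by left multiplication through i on the first factor and which contains the zero
section T → M ×_k T is the whole of M ×_k T. Let X be a k-scheme with an action aX of G and j : U →
X an open immersion, G-equivariant for an action aU of G on U (an open G-stable subscheme). For a
G-scheme W write D_W for the functor on k-schemes whose value at Y is the set of k-morphisms M ×_k Y
→ W that are G-equivariant for G acting on M ×_k Y by left multiplication through i on the first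
factor. Then the square of presheaves formed by D_U → D_X (composition with j), the restrictions D_U
→ U and D_X → X to the zero section of M, and j is cartesian. (In the source M is a Kempf monoid
with G its group of units, and the restriction to the zero section is viewed as the retraction of
D_X onto the fixed points X^G; the displayed property of the open G-stable subsets of M over field
extensions is what the argument uses about M, and the square over X^G is cartesian exactly when the
one over X is, U^G being X^G ×_X U.) -/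
theorem result (k : Type u) [Field k]
    (M G X U : Over (Spec (CommRingCat.of k))) [MonObj M] [GrpObj G] (i : G ⟶ M) [IsMonHom i]
    (o : 𝟙_ (Over (Spec (CommRingCat.of k))) ⟶ M)
    (ho : ∀ (T : Over (Spec (CommRingCat.of k))) (m : T ⟶ M), m * (toUnit T ≫ o) = toUnit T ≫ o ∧ (toUnit T ≫ o) * m = toUnit T ≫ o)
    (hM : ∀ (T : Over (Spec (CommRingCat.of k))) (K : Type u) [Field K] (eT : T.left ≅ Spec (CommRingCat.of K))
      (W : (M ⊗ T).left.Opens),
      (CartesianMonoidalCategory.snd G (M ⊗ T)).left ⁻¹ᵁ W ≤
          ((((Magnet.MonAct.regular M).restrict i).prod (Magnet.MonAct.trivial G T)).act).left ⁻¹ᵁ W →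
      (CartesianMonoidalCategory.lift (toUnit T ≫ o) (𝟙 T)).left ⁻¹ᵁ W = ⊤ → W = ⊤)
    (aX : AlgGrp.Action G X) (aU : AlgGrp.Action G U) (j : U ⟶ X) [IsOpenImmersion j.left]
    (hj : Magnet.MonAct.IsEquivariant (Magnet.MonAct.ofAction aU) (Magnet.MonAct.ofAction aX) j) :
    IsPullback
      (Magnet.MonAct.eqvHom.postcomp ((Magnet.MonAct.regular M).restrict i) j hj)
      (Magnet.MonAct.eqvHom.evalAt ((Magnet.MonAct.regular M).restrict i) (Magnet.MonAct.ofAction aU) o)
      (Magnet.MonAct.eqvHom.evalAt ((Magnet.MonAct.regular M).restrict i) (Magnet.MonAct.ofAction aX) o)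
      (yoneda.map j) := by
  classical
  let S := Spec (CommRingCat.of k)
  let ρ := (Magnet.MonAct.regular M).restrict i
  have hmono : Mono j := by
    have : Mono j.left := inferInstance
    exact (Over.forget _).mono_of_mono_map this
  have hrange : ∀ (P V W : Over (Spec (CommRingCat.of k))) (f : V ⟶ W) (z : (P ⊗ W).left),
      (CartesianMonoidalCategory.snd P W).left z ∈ Set.range f.left → z ∈ Set.range (P ◁ f).left := by
    intro P V W f z hz
    rw [show (P ◁ f).left = Limits.pullback.map _ _ _ _ (𝟙 _) f.left (𝟙 _) (by simp) (by simp) from rfl]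
    erw [Scheme.Pullback.range_map]
    exact ⟨⟨(Limits.pullback.fst P.hom W.hom) z, by simp⟩, hz⟩
  have hstab : ∀ (T : Over (Spec (CommRingCat.of k))) (φ : M ⊗ T ⟶ X),
      Magnet.MonAct.IsEquivariant (ρ.prod (Magnet.MonAct.trivial G T)) (Magnet.MonAct.ofAction aX) φ →
      (CartesianMonoidalCategory.snd G (M ⊗ T)).left ⁻¹ᵁ (φ.left ⁻¹ᵁ j.left.opensRange) ≤
        (ρ.prod (Magnet.MonAct.trivial G T)).act.left ⁻¹ᵁ (φ.left ⁻¹ᵁ j.left.opensRange) := by
    intro T φ hφ z hz
    have hz1 : (CartesianMonoidalCategory.snd G X).left ((G ◁ φ).left z) ∈ Set.range j.left := by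
      rw [← Scheme.Hom.comp_apply, ← Over.comp_left, whiskerLeft_snd, Over.comp_left, Scheme.Hom.comp_apply]
      exact hz
    obtain ⟨w, hw⟩ := hrange G U X j _ hz1
    show φ.left ((ρ.prod (Magnet.MonAct.trivial G T)).act.left z) ∈ Set.range j.left
    rw [← Scheme.Hom.comp_apply, ← Over.comp_left, hφ, Over.comp_left, Scheme.Hom.comp_apply, ← hw,
      ← Scheme.Hom.comp_apply, ← Over.comp_left, ← hj, Over.comp_left, Scheme.Hom.comp_apply]
    exact ⟨_, rfl⟩
  refine IsPullback.of_forall_isPullback_app fun T => ?_
  rw [CategoryTheory.Limits.Types.isPullback_iff]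
  refine ⟨?_, fun φ ψ h => ?_, fun φ u h => ?_⟩
  · refine ConcreteCategory.hom_ext _ _ fun φ => ?_
    show lift (toUnit (unop T) ≫ o) (𝟙 (unop T)) ≫ φ.1 ≫ j = (lift (toUnit (unop T) ≫ o) (𝟙 (unop T)) ≫ φ.1) ≫ j
    rw [Category.assoc]
  · exact Subtype.ext ((cancel_mono j).1 (congrArg Subtype.val h.1))
  · let u' : unop T ⟶ U := u
    let sec := lift (toUnit (unop T) ≫ o) (𝟙 (unop T))
    have hu : sec ≫ φ.1 = u' ≫ j := h
    let W := φ.1.left ⁻¹ᵁ j.left.opensRange
    have htop : ∀ z : (M ⊗ unop T).left, z ∈ W := by
      intro z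
      let y := (CartesianMonoidalCategory.snd M (unop T)).left z
      let r : Over.mk ((unop T).left.fromSpecResidueField y ≫ (unop T).hom) ⟶ unop T :=
        Over.homMk ((unop T).left.fromSpecResidueField y) rfl
      obtain ⟨w, hw⟩ := hrange M _ (unop T) r z ⟨IsLocalRing.closedPoint ((unop T).left.residueField y), Scheme.fromSpecResidueField_apply _ _⟩
      have hW' := hM _ ((unop T).left.residueField y) (Iso.refl _) (((M ◁ r) ≫ φ.1).left ⁻¹ᵁ j.left.opensRange)
        (hstab _ _ ((Magnet.MonAct.eqvHom ρ (Magnet.MonAct.ofAction aX)).map r.op φ).2) (by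
          refine top_le_iff.1 fun p _ => ?_
          show ((M ◁ r) ≫ φ.1).left ((lift (toUnit _ ≫ o) (𝟙 _)).left p) ∈ Set.range j.left
          have e : lift (toUnit _ ≫ o) (𝟙 _) ≫ (M ◁ r) ≫ φ.1 = (r ≫ u') ≫ j := by
            rw [Category.assoc, ← hu, lift_whiskerLeft_assoc, comp_lift_assoc, Category.id_comp, Category.comp_id,
              ← Category.assoc r (toUnit _), toUnit_unique (r ≫ toUnit _) (toUnit _)]
          rw [← Scheme.Hom.comp_apply, ← Over.comp_left, e, Over.comp_left, Scheme.Hom.comp_apply]
          exact ⟨_, rfl⟩)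
      have hwmem : w ∈ ((M ◁ r) ≫ φ.1).left ⁻¹ᵁ j.left.opensRange := hW' ▸ trivial
      show φ.1.left z ∈ Set.range j.left
      rw [← hw]
      exact hwmem
    have hsub : Set.range φ.1.left ⊆ Set.range j.left := by
      rintro _ ⟨z, rfl⟩
      exact htop z
    let ψ : M ⊗ unop T ⟶ U := Over.homMk (IsOpenImmersion.lift j.left φ.1.left hsub) (by
      rw [← Over.w j, IsOpenImmersion.lift_fac_assoc, Over.w φ.1])
    have hψ : ψ ≫ j = φ.1 := by
      ext1
      exact IsOpenImmersion.lift_fac _ _ _
    refine ⟨⟨ψ, ?_⟩, Subtype.ext hψ, ?_⟩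
    · unfold Magnet.MonAct.IsEquivariant
      have h2 := φ.2
      unfold Magnet.MonAct.IsEquivariant at h2 hj
      rw [← cancel_mono j, Category.assoc, Category.assoc, hψ, h2, hj, ← whiskerLeft_comp_assoc, hψ]
    · show sec ≫ ψ = u'
      rw [← cancel_mono j, Category.assoc, hψ, hu]

end Groth.Agent.S18958
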