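import Mathlib.CategoryTheory.Endofunctor.Algebra
import Mathlib.CategoryTheory.Limits.Creates
import Mathlib.CategoryTheory.ObjectProperty.FullSubcategory
import Mathlib.CategoryTheory.Limits.Creates

set_option autoImplicit false
universe w' w v u
namespace CategoryTheory
end CategoryTheory
namespace Limits
end Limits
open CategoryTheory Limits
namespace CatLim
end CatLim
open CatLim

namespace Groth.Agent.S18960

/-- Let C be a category and T an endofunctor of C; let C(T) be the category whose objects are pairs (X,
u) with u : T X → X an isomorphism and whose morphisms (X, u) → (Y, w) are the morphisms X → Y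
compatible with u and w — the full subcategory of T-algebras with invertible structure map — and let
π : C(T) → C be the forgetful functor. If T preserves colimits of shape J then π creates colimits of
shape J. (The source assumes T preserves all small colimits and concludes for all small shapes; the
argument is shape by shape.) -/
theorem result {C : Type u} [Category.{v} C] (T : C ⥤ C)
    (J : Type w) [Category.{w'} J] [PreservesColimitsOfShape J T] :
    Nonempty (CreatesColimitsOfShape J
      ((ObjectProperty.ι (fun A : Endofunctor.Algebra T => IsIso A.str)) ⋙ Endofunctor.Algebra.forget T)) := by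
  let P : ObjectProperty (Endofunctor.Algebra T) := fun A => IsIso A.str
  let π := ObjectProperty.ι P ⋙ Endofunctor.Algebra.forget T
  refine ⟨⟨fun {K} => createsColimitOfReflectsIso fun c hc => ?_⟩⟩
  have hTc := isColimitOfPreserves T hc
  haveI : ∀ j, IsIso ((K.obj j).obj.str) := fun j => (K.obj j).property
  let α : (K ⋙ π) ⋙ T ≅ K ⋙ π :=
        NatIso.ofComponents (fun j => @asIso _ _ _ _ ((K.obj j).obj.str) (K.obj j).property) fun {i j} f => (K.map f).hom.h
  let e := hTc.coconePointsIsoOfNatIso hc α
  have he : ∀ j, T.map (c.ι.app j) ≫ e.hom = (K.obj j).obj.str ≫ c.ι.app j :=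
    fun j => by exact hTc.comp_coconePointsIsoOfNatIso_hom hc α j
  let A : P.FullSubcategory := ⟨⟨c.pt, e.hom⟩, inferInstanceAs (IsIso e.hom)⟩
  let cc : Cocone K :=
    { pt := A
      ι := { app := fun j => ObjectProperty.homMk { f := c.ι.app j, h := he j }
             naturality := fun i j f => by
               refine ObjectProperty.hom_ext _ (Endofunctor.Algebra.Hom.ext ?_)
               exact c.ι.naturality f } }
  refine
    { liftedCocone := cc
      validLift := Cocone.ext (Iso.refl _) fun j => Category.comp_id _
      makesColimit :=
        { desc := fun s => ObjectProperty.homMk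
            { f := hc.desc (π.mapCocone s)
              h := ?_ }
          fac := fun s j => ?_
          uniq := fun s m hm => ?_ } }
  · refine hTc.hom_ext fun j => ?_
    have h1 := hc.fac (π.mapCocone s) j
    have h2 := (s.ι.app j).hom.h
    change T.map (c.ι.app j) ≫ T.map (hc.desc (π.mapCocone s)) ≫ s.pt.obj.str =
      T.map (c.ι.app j) ≫ e.hom ≫ hc.desc (π.mapCocone s)
    refine ((T.map_comp_assoc _ _ _).symm.trans ?_).trans (congrArg (fun t => t ≫ hc.desc (π.mapCocone s)) (he j).symm |>.trans (Category.assoc _ _ _))
    refine (congrArg (fun t => T.map t ≫ s.pt.obj.str) h1).trans ?_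
    refine h2.trans ?_
    exact (congrArg ((K.obj j).obj.str ≫ ·) h1).symm.trans (Category.assoc _ _ _).symm
  · exact ObjectProperty.hom_ext _ (Endofunctor.Algebra.Hom.ext (hc.fac (π.mapCocone s) j))
  · refine ObjectProperty.hom_ext _ (Endofunctor.Algebra.Hom.ext ?_)
    exact hc.uniq (π.mapCocone s) m.hom.f fun j =>
      congrArg (fun t => t.hom.f) (hm j)

end Groth.Agent.S18960
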