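import Groth.Statements.S18962
import Mathlib
import Groth.Prelude

set_option linter.all false
set_option maxHeartbeats 1000000

set_option autoImplicit false
universe u
open BBDec

open KaehlerDifferential TensorProduct

namespace Groth.Agent.S18962

/-- Let A be a commutative ring (the base V = Spec A) and B₁, B₂ commutative A-algebras (V-schemes X₁,
X₂) with A-algebra maps σ₁ : B₁ → A and σ₂ : B₂ → A (sections s₁, s₂ of the structure maps, closed
immersions with ideals b₁ = ker σ₁, b₂ = ker σ₂), and let B₂ → B₁ be an A-algebra map (a V-morphism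
f : X₁ → X₂) with σ₁ ∘ (B₂ → B₁) = σ₂ (f s₁ = s₂). Assume B₁ is finitely presented over A and smooth
over A at every prime containing b₁ (r₁ smooth along s₁(V)), B₂ is of finite type over A, and the
induced map b₂/b₂² → b₁/b₁² of conormal modules is bijective. Then B₂ → B₁ is étale at every prime
of B₁ containing b₁ (f étale along s₁(V)). (The published statement puts no finiteness condition on
B₂ over A, and in that generality the conclusion fails: over a field k, the square-zero extension of
k[x] by k[x, 1/x] mapping onto k[y] by x ↦ y, with the zero sections, satisfies every other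
hypothesis and is not étale at the origin. Here B₂ is assumed of finite type over A.) -/
theorem result (A B₁ B₂ : Type u)
    [CommRing A] [CommRing B₁] [CommRing B₂] [Algebra A B₁] [Algebra A B₂] [Algebra B₂ B₁]
    [IsScalarTower A B₂ B₁] [Algebra.FinitePresentation A B₁] [Algebra.FiniteType A B₂]
    (σ₁ : B₁ →ₐ[A] A) (σ₂ : B₂ →ₐ[A] A) (hσ : σ₁.comp (IsScalarTower.toAlgHom A B₂ B₁) = σ₂)
    (hle : RingHom.ker σ₂ ≤ (RingHom.ker σ₁).comap (IsScalarTower.toAlgHom A B₂ B₁))
    (hcot : Function.Bijective
      (Ideal.mapCotangent (RingHom.ker σ₂) (RingHom.ker σ₁) (IsScalarTower.toAlgHom A B₂ B₁) hle))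
    (hsm : ∀ (P : Ideal B₁) [P.IsPrime], RingHom.ker σ₁ ≤ P → Algebra.IsSmoothAt A P)
    (P : Ideal B₁) [P.IsPrime] (hP : RingHom.ker σ₁ ≤ P) : Algebra.IsEtaleAt B₂ P := by
  classical
  set L := Localization.AtPrime P with hLdef
  haveI hL : Algebra.FormallySmooth A L := hsm P hP
  haveI : Algebra.EssFiniteType B₁ L := Algebra.EssFiniteType.of_isLocalization L P.primeCompl
  haveI : Algebra.EssFiniteType A L := Algebra.EssFiniteType.comp A B₁ L
  let m := IsLocalRing.maximalIdeal L
  have hm : ∀ b ∈ RingHom.ker σ₁, algebraMap B₁ L b ∈ m := fun b hb =>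
    (IsLocalization.AtPrime.to_map_mem_maximal_iff L P b).2 (hP hb)
  have hm2 : ∀ c ∈ RingHom.ker σ₂, algebraMap B₂ L c ∈ m := fun c hc => by
    rw [IsScalarTower.algebraMap_apply B₂ B₁ L]
    exact hm _ (hle hc)
  let M := L ⊗[B₂] Ω[B₂⁄A]
  let u : M →ₗ[L] Ω[L⁄A] := KaehlerDifferential.mapBaseChange A B₂ L
  -- the quotient M / mM
  let Wsub : Submodule L M := m • ⊤
  let V := M ⧸ Wsub
  have hmV : ∀ l ∈ m, ∀ v : V, l • v = 0 := fun l hl v => by
    obtain ⟨x, rfl⟩ := Submodule.Quotient.mk_surjective _ v
    rw [← Submodule.Quotient.mk_smul, Submodule.Quotient.mk_eq_zero]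
    exact Submodule.smul_mem_smul hl trivial
  have hmM : ∀ l ∈ m, ∀ x : M, Wsub.mkQ (l • x) = 0 := fun l hl x => by
    rw [map_smul]; exact hmV l hl _
  -- Θ : b₂/b₂² → V
  let Θ0 : (RingHom.ker σ₂ : Ideal B₂) →ₗ[B₂] V :=
    { toFun := fun z => Wsub.mkQ ((1 : L) ⊗ₜ[B₂] D A B₂ (z : B₂))
      map_add' := fun a b => by simp [TensorProduct.tmul_add]
      map_smul' := fun c z => by
        simp only [SetLike.val_smul, smul_eq_mul, Derivation.leibniz, TensorProduct.tmul_add,
          TensorProduct.tmul_smul, RingHom.id_apply, map_add]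
        rw [← algebraMap_smul L (z : B₂) ((1 : L) ⊗ₜ[B₂] D A B₂ c), hmM _ (hm2 _ z.2), add_zero,
          ← algebraMap_smul L c ((1 : L) ⊗ₜ[B₂] D A B₂ (z : B₂)), map_smul, algebraMap_smul] }
  have hΘ0 : (RingHom.ker σ₂ • ⊤ : Submodule B₂ (RingHom.ker σ₂)) ≤ LinearMap.ker Θ0 := by
    rw [Submodule.smul_le]
    intro c hc z _
    rw [LinearMap.mem_ker, map_smul, ← algebraMap_smul L c]
    exact hmV _ (hm2 c hc) _
  let Θ : (RingHom.ker σ₂).Cotangent →ₗ[B₂] V := Submodule.liftQ _ Θ0 hΘ0
  let eC := LinearEquiv.ofBijective _ hcot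
  have hmemk : ∀ x : B₁, x - algebraMap A B₁ (σ₁ x) ∈ RingHom.ker σ₁ := fun x => by
    simp [RingHom.mem_ker]
  let cl : B₁ → (RingHom.ker σ₁).Cotangent := fun x => (RingHom.ker σ₁).toCotangent ⟨_, hmemk x⟩
  have hcl_add : ∀ x y, cl (x + y) = cl x + cl y := fun x y => by
    simp only [cl, ← map_add]
    congr 1
    ext
    simp; abel
  have hcl_smul : ∀ (a : A) x, cl (a • x) = a • cl x := fun a x => by
    simp only [cl, ← LinearMap.map_smul_of_tower]
    congr 1
    ext
    simp [Algebra.smul_def, mul_sub]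
  have hcl_mul : ∀ x y, cl (x * y) = σ₁ x • cl y + σ₁ y • cl x := fun x y => by
    simp only [cl, ← LinearMap.map_smul_of_tower, ← map_add, Ideal.toCotangent_eq]
    simp only [Submodule.coe_add, SetLike.val_smul_of_tower, Algebra.smul_def, map_mul, sq]
    have := Ideal.mul_mem_mul (hmemk x) (hmemk y)
    convert this using 1
    ring
  let ψ0 : B₁ →ₗ[A] V :=
    { toFun := fun x => Θ (eC.symm (cl x))
      map_add' := fun x y => by rw [hcl_add, map_add, map_add]
      map_smul' := fun a x => by
        rw [hcl_smul, map_smul, ← algebraMap_smul B₂ a (eC.symm (cl x)), map_smul, algebraMap_smul, RingHom.id_apply] }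
  have hact : ∀ (x : B₁) (v : V), x • v = σ₁ x • v := fun x v => by
    have h0 : algebraMap B₁ L (x - algebraMap A B₁ (σ₁ x)) • v = 0 := hmV _ (hm _ (hmemk x)) v
    rw [map_sub, sub_smul, sub_eq_zero, ← IsScalarTower.algebraMap_apply, algebraMap_smul, algebraMap_smul] at h0
    exact h0
  let δd : Derivation A B₁ V := Derivation.mk' ψ0 (fun x y => by
    change Θ (eC.symm (cl (x * y))) = _
    rw [hcl_mul, map_add, LinearEquiv.map_smul, LinearEquiv.map_smul, map_add,
      ← algebraMap_smul B₂ (σ₁ x) (eC.symm (cl y)), ← algebraMap_smul B₂ (σ₁ y) (eC.symm (cl x)),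
      LinearMap.map_smul, LinearMap.map_smul, algebraMap_smul, algebraMap_smul, hact, hact]
    rfl)
  let ψ1 : Ω[B₁⁄A] →ₗ[B₁] V := δd.liftKaehlerDifferential
  have hunit : ∀ s : P.primeCompl, IsUnit (algebraMap B₁ (Module.End B₁ V) s) := fun s => by
    rw [Module.End.isUnit_iff]
    obtain ⟨w, hw⟩ := IsLocalization.map_units L s
    constructor
    · intro a b hab
      have hab' : algebraMap B₁ L (s : B₁) • a = algebraMap B₁ L (s : B₁) • b := by
        simpa [Module.algebraMap_end_apply, algebraMap_smul] using hab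
      rw [← hw] at hab'
      simpa [smul_smul] using congr_arg ((↑w⁻¹ : L) • ·) hab'
    · intro v
      refine ⟨(↑w⁻¹ : L) • v, ?_⟩
      rw [Module.algebraMap_end_apply, ← algebraMap_smul L (s : B₁)]
      rw [smul_smul, ← hw, Units.mul_inv, one_smul]
  let ψ2 : Ω[L⁄A] →ₗ[B₁] V :=
    IsLocalizedModule.lift P.primeCompl (KaehlerDifferential.map A A B₁ L) ψ1 hunit
  let ψ : Ω[L⁄A] →ₗ[L] V := ψ2.extendScalarsOfIsLocalization P.primeCompl L
  have hψu : ψ ∘ₗ u = Wsub.mkQ := by
    apply TensorProduct.AlgebraTensorModule.ext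
    intro l ω
    have hl : (l ⊗ₜ[B₂] ω : M) = l • ((1 : L) ⊗ₜ[B₂] ω) := by
      rw [TensorProduct.smul_tmul', smul_eq_mul, mul_one]
    rw [hl, map_smul, map_smul]
    congr 1
    clear hl
    have hω : ω ∈ Submodule.span B₂ (Set.range (D A B₂)) := by
      rw [KaehlerDifferential.span_range_derivation]; trivial
    induction hω using Submodule.span_induction with
    | mem z hz =>
      obtain ⟨c, rfl⟩ := hz
      rw [LinearMap.comp_apply, KaehlerDifferential.mapBaseChange_tmul, one_smul, KaehlerDifferential.map_D,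
        IsScalarTower.algebraMap_apply B₂ B₁ L, ← KaehlerDifferential.map_D A A B₁ L,
        LinearMap.extendScalarsOfIsLocalization_apply', IsLocalizedModule.lift_apply,
        Derivation.liftKaehlerDifferential_comp_D]
      change Θ (eC.symm (cl (algebraMap B₂ B₁ c))) = _
      have hz : c - algebraMap A B₂ (σ₂ c) ∈ RingHom.ker σ₂ := by simp [RingHom.mem_ker]
      have hc : eC ((RingHom.ker σ₂).toCotangent ⟨_, hz⟩) = cl (algebraMap B₂ B₁ c) := by
        change Ideal.mapCotangent _ _ _ _ _ = _
        rw [Ideal.mapCotangent_toCotangent]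
        simp only [cl]
        congr 1
        ext
        simp only [IsScalarTower.coe_toAlgHom', map_sub, ← IsScalarTower.algebraMap_apply]
        rw [← hσ]; rfl
      rw [← hc, LinearEquiv.symm_apply_apply]
      change Wsub.mkQ ((1 : L) ⊗ₜ[B₂] D A B₂ (c - algebraMap A B₂ (σ₂ c))) = _
      rw [map_sub, Derivation.map_algebraMap, sub_zero]
    | zero => simp
    | add x y _ _ hx hy => rw [TensorProduct.tmul_add, map_add, map_add, hx, hy]
    | smul c x _ hx =>
      rw [TensorProduct.tmul_smul, ← algebraMap_smul L c ((1 : L) ⊗ₜ[B₂] x), map_smul, map_smul, hx]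
  -- surjectivity
  have husurj : Function.Surjective u := by
    rw [← LinearMap.range_eq_top, ← top_le_iff]
    refine Submodule.le_of_le_smul_of_le_jacobson_bot Module.Finite.fg_top
      (IsLocalRing.maximalIdeal_le_jacobson _) ?_
    intro ω _
    have hω : ω ∈ Submodule.span L (Set.range (KaehlerDifferential.map A A B₁ L)) := by
      obtain ⟨⟨η, t⟩, h⟩ := IsLocalizedModule.surj P.primeCompl (KaehlerDifferential.map A A B₁ L) ω
      obtain ⟨w, hw⟩ := IsLocalization.map_units L t
      have h2 : (w : L) • ω = KaehlerDifferential.map A A B₁ L η := by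
        rw [hw, algebraMap_smul]; exact h
      have h3 : ω = (↑w⁻¹ : L) • KaehlerDifferential.map A A B₁ L η := by
        rw [← h2, smul_smul, Units.inv_mul, one_smul]
      rw [h3]
      exact Submodule.smul_mem _ _ (Submodule.subset_span ⟨η, rfl⟩)
    refine Submodule.span_le.2 ?_ hω
    rintro _ ⟨η, rfl⟩
    have hη : η ∈ Submodule.span B₁ (Set.range (D A B₁)) := by
      rw [KaehlerDifferential.span_range_derivation]; trivial
    induction hη using Submodule.span_induction with
    | mem z hz =>
      obtain ⟨b, rfl⟩ := hz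
      obtain ⟨z, hz⟩ := hcot.2 (cl b)
      obtain ⟨z, rfl⟩ := Ideal.toCotangent_surjective _ z
      rw [Ideal.mapCotangent_toCotangent, Ideal.toCotangent_eq] at hz
      have hD : ∀ w ∈ RingHom.ker σ₁ ^ 2, D A L (algebraMap B₁ L w) ∈ m • (⊤ : Submodule L Ω[L⁄A]) := by
        intro w hw
        rw [pow_two] at hw
        induction hw using Submodule.mul_induction_on' with
        | mem_mul_mem a ha c hc =>
          rw [map_mul, Derivation.leibniz]
          exact Submodule.add_mem _ (Submodule.smul_mem_smul (hm a ha) trivial)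
            (Submodule.smul_mem_smul (hm c hc) trivial)
        | add a _ c _ ha hc => rw [map_add, map_add]; exact Submodule.add_mem _ ha hc
      have h2 := hD _ hz
      simp only [IsScalarTower.coe_toAlgHom', map_sub, ← IsScalarTower.algebraMap_apply A B₁ L,
        Derivation.map_algebraMap, sub_zero] at h2
      rw [← IsScalarTower.algebraMap_apply B₂ B₁ L] at h2
      rw [SetLike.mem_coe, KaehlerDifferential.map_D, Submodule.mem_sup]
      refine ⟨D A L (algebraMap B₂ L z), ⟨1 ⊗ₜ D A B₂ (z : B₂), ?_⟩, _, (m • (⊤ : Submodule L Ω[L⁄A])).neg_mem h2, by abel⟩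
      rw [show u = KaehlerDifferential.mapBaseChange A B₂ L from rfl, KaehlerDifferential.mapBaseChange_tmul, one_smul, KaehlerDifferential.map_D]
    | zero => simp
    | add x y _ _ hx hy => rw [map_add]; exact add_mem hx hy
    | smul c x _ hx => rw [map_smul, ← algebraMap_smul L c]; exact Submodule.smul_mem _ _ hx
  -- injectivity
  obtain ⟨s, hs⟩ := Module.projective_lifting_property u LinearMap.id husurj
  have huinj : Function.Injective u := by
    rw [← LinearMap.ker_eq_bot]
    let q : M →ₗ[L] M := LinearMap.id - s ∘ₗ u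
    have hq : ∀ x, q x ∈ LinearMap.ker u := fun x => by
      have := LinearMap.congr_fun hs (u x)
      simp only [LinearMap.comp_apply, LinearMap.id_apply] at this
      rw [LinearMap.mem_ker, LinearMap.sub_apply, map_sub, LinearMap.id_apply, LinearMap.comp_apply, this, sub_self]
    have hqid : ∀ x ∈ LinearMap.ker u, q x = x := fun x hx => by
      rw [LinearMap.sub_apply, LinearMap.id_apply, LinearMap.comp_apply, LinearMap.mem_ker.1 hx, map_zero, sub_zero]
    have hker : LinearMap.ker u = LinearMap.range q := le_antisymm (fun x hx => ⟨x, hqid x hx⟩)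
      (by rintro _ ⟨x, rfl⟩; exact hq x)
    have hfg : (LinearMap.ker u).FG := by
      rw [hker, ← Submodule.map_top]
      exact Module.Finite.fg_top.map q
    refine Submodule.eq_bot_of_le_smul_of_le_jacobson_bot m _ hfg ?_ (IsLocalRing.maximalIdeal_le_jacobson _)
    intro x hx
    have h1 : Wsub.mkQ x = 0 := by
      rw [← hψu, LinearMap.comp_apply, LinearMap.mem_ker.1 hx, map_zero]
    rw [Submodule.mkQ_apply, Submodule.Quotient.mk_eq_zero] at h1
    have h2 := Submodule.mem_map_of_mem (f := q) h1
    rw [Submodule.map_smul'', Submodule.map_top, ← hker, hqid x hx] at h2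
    exact h2
  haveI : Algebra.FormallyUnramified B₂ L := ⟨by
    refine subsingleton_of_forall_eq 0 fun ω => ?_
    obtain ⟨η, rfl⟩ := KaehlerDifferential.map_surjective A B₂ L ω
    exact (KaehlerDifferential.exact_mapBaseChange_map A B₂ L η).2 (husurj η)⟩
  haveI : Algebra.FormallySmooth B₂ L := by
    refine { projective_kaehlerDifferential := inferInstance, subsingleton_h1Cotangent := subsingleton_of_forall_eq 0 fun x => ?_ }
    have hδ : Algebra.H1Cotangent.δ A B₂ L x = 0 := by
      apply huinj
      rw [map_zero]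
      exact (Algebra.H1Cotangent.exact_δ_mapBaseChange A B₂ L).apply_apply_eq_zero x
    obtain ⟨y, rfl⟩ := (Algebra.H1Cotangent.exact_map_δ A B₂ L x).1 hδ
    rw [Subsingleton.elim y 0, map_zero]
  exact Algebra.FormallyEtale.iff_formallyUnramified_and_formallySmooth.2 ⟨inferInstance, inferInstance⟩

end Groth.Agent.S18962
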