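import Groth.Statements.S18963
import Groth.Agent.Misc15.MagnetPoints
import Mathlib.AlgebraicGeometry.Morphisms.Flat
import Mathlib.RingTheory.PowerSeries.Inverse

set_option autoImplicit false
universe u
open CategoryTheory MonoidalCategory CartesianMonoidalCategory MonObj AlgebraicGeometry Opposite
open Magnet

namespace Groth.Agent.S18963

open Groth.Agent.Misc15.MagnetPoints

noncomputable section

abbrev Nat' : AddSubmonoid ℤ := AddSubmonoid.multiples (1 : ℤ)

theorem mult_nonneg (n : Nat') : 0 ≤ (n : ℤ) := by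
  obtain ⟨n, m, rfl⟩ := n
  simp

def genN : Nat' := ⟨1, AddSubmonoid.mem_multiples _⟩

/-- the character of `ℕ` with value `τ` at `1` -/
def chN {K : Type u} [CommRing K] (τ : K) : Multiplicative Nat' →* K where
  toFun n := τ ^ (n.toAdd : ℤ).toNat
  map_one' := by simp
  map_mul' a b := by
    rw [← pow_add]
    congr 1
    have ha := mult_nonneg a.toAdd
    have hb := mult_nonneg b.toAdd
    simp only [toAdd_mul, AddSubmonoid.coe_add]
    omega

theorem eq_chN {K : Type u} [CommRing K] (χ : Multiplicative Nat' →* K) :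
    χ = chN (χ (Multiplicative.ofAdd genN)) := by
  apply MonoidHom.ext
  intro n
  obtain ⟨m, hm⟩ := n.toAdd.2
  simp only [nsmul_eq_mul, _root_.mul_one] at hm
  have hn : n = Multiplicative.ofAdd genN ^ m := by
    apply Multiplicative.toAdd.injective
    rw [toAdd_pow, toAdd_ofAdd]
    exact Subtype.ext (by simp [genN, ← hm])
  conv_lhs => rw [hn, map_pow]
  simp only [chN, MonoidHom.coe_mk, OneHom.coe_mk]
  congr 1
  simp [← hm]

/-- the character of `ℤ` with value `s` at `1` -/
def chZ {K : Type u} [CommRing K] (s : Kˣ) : Multiplicative ℤ →* K :=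
  (Units.coeHom K).comp (zpowersHom Kˣ s)

variable {k : Type u} [Field k]

abbrev Pt {K : Type u} [CommRing K] [Algebra k K] (τ : K) :
    CoactBr.sp k K ⟶ AMonS (Spec (CommRingCat.of k)) Nat' := P (k := k) (chN τ)

theorem pt_comp_Pt {K L : Type u} [CommRing K] [CommRing L] [Algebra k K] [Algebra k L] (φ : K →ₐ[k] L) (τ : K) :
    CoactBr.pt φ ≫ Pt τ = Pt (φ τ) := by
  rw [Pt, pt_comp_P]
  congr 1
  ext n
  simp [chN]

theorem nilpotent_point {K : Type u} [CommRing K] [Algebra k K] (τ : K) (hτ : IsNilpotent τ) :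
    ∃ n : ℕ, ∀ m' : CoactBr.sp k K ⟶ AMonS (Spec (CommRingCat.of k)) Nat',
      (Pt τ) ^ (n + 1) * m' = (Pt τ) ^ (n + 1) := by
  have hm : ∀ a b : K, Pt (k := k) a * Pt b = Pt (a * b) := fun a b => by
    rw [Pt, Pt, P_mul]
    congr 1
    ext n
    simp [chN, mul_pow]
  have hp : ∀ (a : K) (n : ℕ), (Pt (k := k) a) ^ (n + 1) = Pt (a ^ (n + 1)) := by
    intro a n
    induction n with
    | zero => simp
    | succ n ih => rw [pow_succ, ih, hm, ← pow_succ]
  obtain ⟨n, hn⟩ := hτ
  refine ⟨n, fun m' => ?_⟩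
  obtain ⟨χ, rfl⟩ := P_surjective m'
  rw [eq_chN χ, hp, show τ ^ (n + 1) = 0 by rw [pow_succ, hn, zero_mul]]
  exact (hm _ _).trans (by rw [zero_mul])

/-- `R[X]_h → R₀⟦X⟧` is injective when `R₀ = R_{g₀}` and `g₀ ∣ h`. -/
theorem injective_toPowerSeries {R : Type u} [CommRing R] (h : Polynomial R) (g₀ : R) (hd : Polynomial.C g₀ ∣ h)
    (R₀ : Type u) [CommRing R₀] [Algebra R R₀] [IsLocalization.Away g₀ R₀]
    (K : Type u) [CommRing K] [Algebra (Polynomial R) K] [IsLocalization.Away h K]
    (θ : K →+* PowerSeries R₀)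
    (hθ : θ.comp (algebraMap (Polynomial R) K) =
      Polynomial.coeToPowerSeries.ringHom.comp (Polynomial.mapRingHom (algebraMap R R₀))) :
    Function.Injective θ := by
  rw [injective_iff_map_eq_zero]
  intro x hx
  obtain ⟨⟨f, s⟩, hs⟩ := IsLocalization.surj (Submonoid.powers h) x
  have hf : (Polynomial.map (algebraMap R R₀) f : PowerSeries R₀) = 0 := by
    have := RingHom.congr_fun hθ f
    simp only [RingHom.comp_apply, Polynomial.coe_mapRingHom, Polynomial.coeToPowerSeries.ringHom_apply] at this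
    rw [← this, ← hs, map_mul, hx, zero_mul]
  have hc : ∀ n, ∃ M : ℕ, g₀ ^ M * f.coeff n = 0 := by
    intro n
    have := congrArg (fun q => Polynomial.coeff q n) (Polynomial.coe_eq_zero_iff.1 hf)
    simp only [Polynomial.coeff_map, Polynomial.coeff_zero] at this
    rw [IsLocalization.map_eq_zero_iff (Submonoid.powers g₀)] at this
    obtain ⟨⟨_, M, rfl⟩, hM⟩ := this
    exact ⟨M, hM⟩
  choose M hM using hc
  have h0 : Polynomial.C g₀ ^ f.support.sup M * f = 0 := by
    ext n
    rw [← map_pow, Polynomial.coeff_C_mul, Polynomial.coeff_zero]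
    by_cases hn : n ∈ f.support
    · have : M n ≤ f.support.sup M := Finset.le_sup hn
      rw [← Nat.sub_add_cancel this, pow_add, _root_.mul_assoc, hM, mul_zero]
    · rw [Polynomial.notMem_support_iff.1 hn, mul_zero]
  obtain ⟨q, hq⟩ := hd
  have h1 : h ^ f.support.sup M * f = 0 := by rw [hq, mul_pow, mul_right_comm, h0, zero_mul]
  have h2 : algebraMap (Polynomial R) K f = 0 := by
    rw [IsLocalization.map_eq_zero_iff (Submonoid.powers h)]
    exact ⟨⟨_, _, rfl⟩, h1⟩
  rw [h2] at hs
  exact (IsLocalization.map_units K s).mul_left_eq_zero.1 hs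

section twist

variable (R : Type u) [CommRing R]

open LaurentPolynomial in
/-- `X ↦ T^e X` as a map `R[X] → R[X][T, T⁻¹]` -/
def twist (e : ℤ) : Polynomial R →+* LaurentPolynomial (Polynomial R) :=
  Polynomial.eval₂RingHom (LaurentPolynomial.C.comp Polynomial.C) (T e * LaurentPolynomial.C Polynomial.X)

open LaurentPolynomial in
theorem laurent_ext {A S : Type u} [CommRing A] [CommRing S] {f g : LaurentPolynomial A →+* S}
    (h : f.comp LaurentPolynomial.C = g.comp LaurentPolynomial.C) (hT : f (T 1) = g (T 1)) : f = g := by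
  apply IsLocalization.ringHom_ext (Submonoid.powers (Polynomial.X : Polynomial A))
  apply Polynomial.ringHom_ext
  · intro r
    simpa [algebraMap_eq_toLaurent] using RingHom.congr_fun h r
  · simpa [algebraMap_eq_toLaurent] using hT

/-- the automorphism `X ↦ T^e X` of `R[X][T, T⁻¹]` -/
def σ (e : ℤ) : LaurentPolynomial (Polynomial R) →+* LaurentPolynomial (Polynomial R) :=
  LaurentPolynomial.eval₂ (twist R e) (LaurentPolynomial.isUnit_T 1).unit

theorem σ_comp (e e' : ℤ) (h : e + e' = 0) : (σ R e).comp (σ R e') = RingHom.id _ := by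
  apply laurent_ext
  · apply Polynomial.ringHom_ext
    · intro r; simp [σ, twist, LaurentPolynomial.eval₂_C]
    · simp [σ, twist, LaurentPolynomial.eval₂_C, LaurentPolynomial.eval₂_T, ← _root_.mul_assoc]
      have hT : ∀ n : ℤ, (((LaurentPolynomial.isUnit_T (R := Polynomial R) 1).unit) ^ n : (LaurentPolynomial (Polynomial R))ˣ).val
          = LaurentPolynomial.T n := by
        intro n
        induction n using Int.induction_on with
        | zero => simp
        | succ n ih =>
          rw [zpow_add_one, Units.val_mul, ih, IsUnit.unit_spec, ← LaurentPolynomial.T_add]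
        | pred n ih =>
          apply (LaurentPolynomial.isUnit_T (R := Polynomial R) 1).mul_right_cancel
          rw [← LaurentPolynomial.T_add, sub_add_cancel, ← ih, zpow_sub_one, Units.val_mul, _root_.mul_assoc,
            IsUnit.val_inv_mul, _root_.mul_one]
      simp only [hT, _root_.mul_assoc]
      rw [← LaurentPolynomial.T_add, show e + e' = 0 by omega, LaurentPolynomial.T_zero, _root_.mul_one]
  · simp [σ, LaurentPolynomial.eval₂_T]

theorem flat_C (A : Type u) [CommRing A] : (LaurentPolynomial.C : A →+* LaurentPolynomial A).Flat :=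
  (RingHom.flat_algebraMap_iff (R := A) (S := LaurentPolynomial A)).2 inferInstance

theorem twist_flat : (twist R 1).Flat := by
  have h1 : (twist R 1) = (σ R 1).comp LaurentPolynomial.C :=
    RingHom.ext fun p => (LaurentPolynomial.eval₂_C _ _ p).symm
  rw [h1]
  refine RingHom.Flat.comp ?_ (RingHom.Flat.of_bijective ?_)
  · exact flat_C (Polynomial R)
  · refine Function.bijective_iff_has_inverse.2 ⟨σ R (-1), fun x => ?_, fun x => ?_⟩
    · have h := RingHom.congr_fun (σ_comp R (-1) 1 (by norm_num)) x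
      rw [RingHom.comp_apply, RingHom.id_apply] at h
      exact h
    · have h := RingHom.congr_fun (σ_comp R 1 (-1) (by norm_num)) x
      rw [RingHom.comp_apply, RingHom.id_apply] at h
      exact h

open LaurentPolynomial in
theorem twist_surjective (h : Polynomial R) (hu : IsUnit (h.eval 0)) (q : PrimeSpectrum (Polynomial R)) :
    ∃ Q : PrimeSpectrum (LaurentPolynomial (Polynomial R)),
      LaurentPolynomial.C h ∉ Q.asIdeal ∧ Q.asIdeal.comap (twist R 1) = q.asIdeal := by
  let κ := q.asIdeal.ResidueField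
  let r : Polynomial R →+* κ := algebraMap _ _
  let G₀ : Polynomial R →+* Polynomial κ :=
    Polynomial.eval₂RingHom (Polynomial.C.comp (r.comp Polynomial.C))
      (Polynomial.C (r Polynomial.X) * Polynomial.X)
  let ρ₀ : Polynomial R →+* LaurentPolynomial κ :=
    ((invert (R := κ)).toRingEquiv.toRingHom.comp Polynomial.toLaurent).comp G₀
  let ρ : LaurentPolynomial (Polynomial R) →+* LaurentPolynomial κ :=
    LaurentPolynomial.eval₂ ρ₀ (LaurentPolynomial.isUnit_T 1).unit
  have hG : G₀ h ≠ 0 := by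
    intro h0
    have e : (Polynomial.evalRingHom (0 : κ)).comp G₀ = r.comp (Polynomial.C.comp (Polynomial.evalRingHom 0)) := by
      apply Polynomial.ringHom_ext <;> simp [G₀]
    have := RingHom.congr_fun e h
    simp only [RingHom.comp_apply, h0, map_zero] at this
    exact (hu.map (r.comp Polynomial.C)).ne_zero this.symm
  refine ⟨⟨RingHom.ker ρ, RingHom.ker_isPrime _⟩, ?_, ?_⟩
  · show ρ (LaurentPolynomial.C h) ≠ 0
    rw [LaurentPolynomial.eval₂_C]
    intro h0
    apply hG
    have h1 : Polynomial.toLaurent (G₀ h) = 0 := (invert (R := κ)).injective (h0.trans (map_zero _).symm)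
    rwa [Polynomial.toLaurent_eq_zero] at h1
  · have e : ρ.comp (twist R 1) = LaurentPolynomial.C.comp r := by
      apply Polynomial.ringHom_ext
      · intro a; simp [ρ, ρ₀, G₀, twist, LaurentPolynomial.eval₂_C]
      · simp [ρ, ρ₀, G₀, twist, LaurentPolynomial.eval₂_C, LaurentPolynomial.eval₂_T]
    rw [RingHom.comap_ker, e, RingHom.ker_comp_of_injective _ (fun x y hxy => by simpa using congrArg (fun p => p.coeff 0) hxy)]
    exact Ideal.ker_algebraMap_residueField q.asIdeal

end twist

/-- morphisms from an affine scheme to an affine scheme agreeing modulo all powers of `X` -/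
theorem eq_of_forall_trunc {L S : Type u} [CommRing L] [CommRing S] (θ : L →+* PowerSeries S)
    (hθ : Function.Injective θ) {T : Scheme.{u}} [IsAffine T] (d₁ d₂ : Spec (CommRingCat.of L) ⟶ T)
    (h : ∀ n : ℕ,
      Spec.map (CommRingCat.ofHom ((Ideal.Quotient.mk (Ideal.span {(PowerSeries.X : PowerSeries S) ^ (n + 1)})).comp θ)) ≫ d₁ =
      Spec.map (CommRingCat.ofHom ((Ideal.Quotient.mk (Ideal.span {(PowerSeries.X : PowerSeries S) ^ (n + 1)})).comp θ)) ≫ d₂) :
    d₁ = d₂ := by
  rw [← cancel_mono T.isoSpec.hom]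
  apply Spec.homEquiv.injective
  ext c
  apply hθ
  ext n
  have hQ := congrArg Spec.preimage (congrArg (· ≫ T.isoSpec.hom) (h n))
  simp only [Category.assoc, Spec.preimage_comp, Spec.preimage_map] at hQ
  have := congr($hQ c)
  simp only [CommRingCat.comp_apply, CommRingCat.hom_ofHom, RingHom.comp_apply] at this
  have hmem := Ideal.Quotient.eq.1 this
  rw [Ideal.mem_span_singleton, PowerSeries.X_pow_dvd_iff] at hmem
  exact sub_eq_zero.1 ((map_sub _ _ _).symm.trans (hmem n (Nat.lt_succ_self n)))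

theorem exists_toPowerSeries (R : Type u) [CommRing R] [Algebra k R] (g : Polynomial R) :
    ∃ θ : Localization.Away (g * Polynomial.C (g.eval 0)) →ₐ[k] PowerSeries (Localization.Away (g.eval 0)),
      Function.Injective θ ∧
      θ (algebraMap (Polynomial R) _ Polynomial.X) = PowerSeries.X := by
  set h := g * Polynomial.C (g.eval 0) with hh
  let c : Polynomial R →+* PowerSeries (Localization.Away (g.eval 0)) :=
    Polynomial.coeToPowerSeries.ringHom.comp
      (Polynomial.mapRingHom (algebraMap R (Localization.Away (g.eval 0))))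
  have hunit : IsUnit (c h) := by
    rw [PowerSeries.isUnit_iff_constantCoeff]
    simp only [c, RingHom.comp_apply, Polynomial.coe_mapRingHom, Polynomial.coeToPowerSeries.ringHom_apply,
      Polynomial.constantCoeff_coe, hh, Polynomial.coeff_zero_eq_eval_zero]
    rw [Polynomial.eval_zero_map, Polynomial.eval_mul, Polynomial.eval_C, map_mul]
    exact (IsLocalization.Away.algebraMap_isUnit _).mul (IsLocalization.Away.algebraMap_isUnit _)
  let θ₀ := IsLocalization.Away.lift (S := Localization.Away h) h hunit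
  have hcomm : ∀ x, θ₀ (algebraMap (Polynomial R) _ x) = c x := fun x => IsLocalization.Away.lift_eq h hunit x
  refine ⟨{ θ₀ with commutes' := fun x => ?_ }, ?_, ?_⟩
  · show θ₀ (algebraMap k _ x) = _
    rw [IsScalarTower.algebraMap_apply k (Polynomial R) (Localization.Away h), hcomm]
    simp [c, PowerSeries.algebraMap_apply, IsScalarTower.algebraMap_apply k R (Localization.Away (g.eval 0)),
      IsScalarTower.algebraMap_apply k R (Polynomial R), Polynomial.algebraMap_eq]
  · exact injective_toPowerSeries h (g.eval 0) (Dvd.intro_left _ rfl) _ _ θ₀ (RingHom.ext hcomm)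
  · show θ₀ _ = _
    rw [hcomm]
    simp [c]

variable (X Y : Over (Spec (CommRingCat.of k))) (a : AlgGrp.Action (Red.DS (Spec (CommRingCat.of k)) ℤ) X)
    (γ₁ γ₂ : (Magnet.attr (Magnet.MonAct.ofAction a) Nat').obj (op Y))

/-- `γ` at a `K`-point `(τ, y)` -/
abbrev ev (γ : (Magnet.attr (Magnet.MonAct.ofAction a) Nat').obj (op Y)) {K : Type u} [CommRing K] [Algebra k K]
    (τ : K) (y : CoactBr.sp k K ⟶ Y) : CoactBr.sp k K ⟶ X :=
  CartesianMonoidalCategory.lift (Pt τ) y ≫ γ.1

theorem pt_comp_ev (γ : (Magnet.attr (Magnet.MonAct.ofAction a) Nat').obj (op Y)) {K L : Type u} [CommRing K]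
    [CommRing L] [Algebra k K] [Algebra k L] (φ : K →ₐ[k] L) (τ : K) (y : CoactBr.sp k K ⟶ Y) :
    CoactBr.pt φ ≫ ev X Y a γ τ y = ev X Y a γ (φ τ) (CoactBr.pt φ ≫ y) := by
  rw [ev, ev, CartesianMonoidalCategory.comp_lift_assoc, pt_comp_Pt]

theorem ev_smul (γ : (Magnet.attr (Magnet.MonAct.ofAction a) Nat').obj (op Y)) {K : Type u} [CommRing K]
    [Algebra k K] (s : Kˣ) (τ : K) (y : CoactBr.sp k K ⟶ Y) :
    ev X Y a γ ((s : K) * τ) y =
      CartesianMonoidalCategory.lift (P (k := k) (chZ s)) (ev X Y a γ τ y) ≫ (Magnet.MonAct.ofAction a).act := by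
  have h := (MonAct.isEquivariant_iff _ _ _).1 γ.2 _ (P (k := k) (chZ s))
    (CartesianMonoidalCategory.lift (Pt τ) y)
  rw [MonAct.lift_prod_act_assoc, MonAct.lift_trivial_act] at h
  rw [ev, ← h]
  unfold Magnet.subAct
  rw [MonAct.lift_restrict_act, MonAct.lift_regular_act, P_comp_map, Pt, Pt, P_mul]
  congr 3
  apply MonoidHom.ext
  intro n
  obtain ⟨m, hm⟩ : ∃ m : ℕ, ((Multiplicative.toAdd n : Nat') : ℤ) = m :=
    ⟨_, (Int.toNat_of_nonneg (mult_nonneg n.toAdd)).symm⟩
  simp [chN, chZ, hm, mul_pow]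

/-- near each point of `{0} × Spec R` the two maps agree -/
theorem exists_agree
    (hnil : ∀ (K : Type u) [CommRing K] [Algebra k K] (τ : K) (y : CoactBr.sp k K ⟶ Y),
      IsNilpotent τ → ev X Y a γ₁ τ y = ev X Y a γ₂ τ y)
    (R : Type u) [CommRing R] [Algebra k R] (j : CoactBr.sp k R ⟶ Y) (p : PrimeSpectrum R) :
    ∃ h : Polynomial R, h.eval 0 ∉ p.asIdeal ∧
      ∀ (K : Type u) [CommRing K] [Algebra k K] (φ : Polynomial R →ₐ[k] K), IsUnit (φ h) →
        ev X Y a γ₁ (φ Polynomial.X) (CoactBr.pt (φ.comp (IsScalarTower.toAlgHom k R (Polynomial R))) ≫ j) =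
        ev X Y a γ₂ (φ Polynomial.X) (CoactBr.pt (φ.comp (IsScalarTower.toAlgHom k R (Polynomial R))) ≫ j) := by
  let ιι := IsScalarTower.toAlgHom k R (Polynomial R)
  let Φ := fun γ => ev X Y a γ (Polynomial.X : Polynomial R) (CoactBr.pt ιι ≫ j)
  have hΦ : ∀ γ {K : Type u} [CommRing K] [Algebra k K] (φ : Polynomial R →ₐ[k] K),
      CoactBr.pt φ ≫ Φ γ = ev X Y a γ (φ Polynomial.X) (CoactBr.pt (φ.comp ιι) ≫ j) := by
    intro γ K _ _ φ
    simp only [Φ]
    rw [pt_comp_ev, CoactBr.pt_comp, Category.assoc]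
  let e0 : Polynomial R →ₐ[k] R := ((Polynomial.aeval (0 : R)).restrictScalars k)
  have h0 : CoactBr.pt e0 ≫ Φ γ₁ = CoactBr.pt e0 ≫ Φ γ₂ := by
    rw [hΦ, hΦ]
    exact hnil _ _ _ (by simp [e0])
  let z : Spec (CommRingCat.of (Polynomial R)) := (CoactBr.pt e0).left p
  have hz : ∀ γ, (Φ γ).left z = (CoactBr.pt e0 ≫ Φ γ).left p := fun γ => rfl
  obtain ⟨_, ⟨W, hW, rfl⟩, hxW, -⟩ := (X.left.isBasis_affineOpens).exists_subset_of_mem_open
    (Set.mem_univ ((Φ γ₁).left z)) isOpen_univ
  let V : (Spec (CommRingCat.of (Polynomial R))).Opens := ((Φ γ₁).left ⁻¹ᵁ W) ⊓ ((Φ γ₂).left ⁻¹ᵁ W)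
  have hzV : z ∈ V := ⟨hxW, by
    show (Φ γ₂).left z ∈ W
    rw [hz, ← h0, ← hz]
    exact hxW⟩
  obtain ⟨_, ⟨g, rfl⟩, hzg, hgV⟩ := PrimeSpectrum.isTopologicalBasis_basic_opens.exists_subset_of_mem_open
    hzV V.isOpen
  have hg0 : g.eval 0 ∉ p.asIdeal := by
    have : g ∉ p.asIdeal.comap e0.toRingHom := hzg
    simpa [e0, Polynomial.coe_aeval_eq_eval] using this
  refine ⟨g * Polynomial.C (g.eval 0), ?_, ?_⟩
  · simpa using fun hh => (p.2.mem_or_mem hh).elim hg0 hg0
  intro K _ _ φ hφ
  set h := g * Polynomial.C (g.eval 0) with hh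
  rw [← hΦ, ← hΦ]
  let L := Localization.Away h
  let ψ : Polynomial R →ₐ[k] L := IsScalarTower.toAlgHom k (Polynomial R) L
  suffices hL : CoactBr.pt ψ ≫ Φ γ₁ = CoactBr.pt ψ ≫ Φ γ₂ by
    let r : L →ₐ[k] K :=
      { IsLocalization.Away.lift (S := L) h (g := φ.toRingHom) hφ with
        commutes' := fun c => by
          show IsLocalization.Away.lift (S := L) h (g := φ.toRingHom) hφ (algebraMap k L c) = _
          rw [IsScalarTower.algebraMap_apply k (Polynomial R) L, IsLocalization.Away.lift_eq]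
          exact φ.commutes c }
    have hr : r.comp ψ = φ := AlgHom.ext fun c => IsLocalization.Away.lift_eq h hφ c
    rw [← hr, CoactBr.pt_comp, Category.assoc, Category.assoc, hL]
  have hr : ∀ γ, γ = γ₁ ∨ γ = γ₂ → Set.range (CoactBr.pt ψ ≫ Φ γ).left ⊆ Set.range (Scheme.Opens.ι W) := by
    intro γ hγ
    rw [Scheme.Opens.range_ι]
    rintro _ ⟨q, rfl⟩
    have h1 : (CoactBr.pt ψ).left q ∈ PrimeSpectrum.basicOpen g := by
      have h2 : (CoactBr.pt ψ).left q ∈ Set.range (PrimeSpectrum.comap (algebraMap (Polynomial R) L)) :=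
        ⟨q, rfl⟩
      rw [PrimeSpectrum.localization_away_comap_range L h] at h2
      exact fun hc => h2 (Ideal.mul_mem_right _ _ hc)
    have h3 := hgV h1
    rcases hγ with rfl | rfl
    exacts [h3.1, h3.2]
  let d₁ : Spec (CommRingCat.of L) ⟶ (Scheme.Opens.toScheme W) :=
    IsOpenImmersion.lift (Scheme.Opens.ι W) _ (hr γ₁ (Or.inl rfl))
  let d₂ : Spec (CommRingCat.of L) ⟶ (Scheme.Opens.toScheme W) :=
    IsOpenImmersion.lift (Scheme.Opens.ι W) _ (hr γ₂ (Or.inr rfl))
  suffices hd : d₁ = d₂ by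
    ext1
    rw [← IsOpenImmersion.lift_fac (Scheme.Opens.ι W) _ (hr γ₁ (Or.inl rfl)),
      ← IsOpenImmersion.lift_fac (Scheme.Opens.ι W) _ (hr γ₂ (Or.inr rfl))]
    exact congrArg (· ≫ (Scheme.Opens.ι W)) hd
  have : IsAffine (Scheme.Opens.toScheme W) := hW
  let R₀ := Localization.Away (g.eval 0)
  obtain ⟨θ, hinj, hθX⟩ := exists_toPowerSeries (k := k) R g
  refine eq_of_forall_trunc θ.toRingHom hinj d₁ d₂ fun n => ?_
  let I : Ideal (PowerSeries R₀) := Ideal.span {(PowerSeries.X : PowerSeries R₀) ^ (n + 1)}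
  let Q := PowerSeries R₀ ⧸ I
  let π : PowerSeries R₀ →ₐ[k] Q := Ideal.Quotient.mkₐ k I
  let χ : Polynomial R →ₐ[k] Q := (π.comp θ).comp ψ
  have hX : IsNilpotent (χ Polynomial.X) := by
    refine ⟨n + 1, ?_⟩
    rw [← map_pow]
    show π (θ (ψ (Polynomial.X ^ (n + 1)))) = 0
    have : θ (ψ (Polynomial.X ^ (n + 1))) = (PowerSeries.X : PowerSeries R₀) ^ (n + 1) := by
      rw [map_pow ψ, map_pow θ]
      exact congrArg (· ^ (n + 1)) hθX
    rw [this]
    exact Ideal.Quotient.eq_zero_iff_mem.2 (Ideal.mem_span_singleton_self _)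
  have hQ : CoactBr.pt (π.comp θ) ≫ CoactBr.pt ψ ≫ Φ γ₁ = CoactBr.pt (π.comp θ) ≫ CoactBr.pt ψ ≫ Φ γ₂ := by
    rw [← reassoc_of% (CoactBr.pt_comp ψ (π.comp θ)), ← reassoc_of% (CoactBr.pt_comp ψ (π.comp θ)), hΦ, hΦ]
    exact hnil _ _ _ hX
  have hQ' : (CoactBr.pt (π.comp θ)).left ≫ d₁ = (CoactBr.pt (π.comp θ)).left ≫ d₂ := by
    rw [← cancel_mono (Scheme.Opens.ι W), Category.assoc, Category.assoc]
    refine ((congrArg ((CoactBr.pt (π.comp θ)).left ≫ ·) (IsOpenImmersion.lift_fac _ _ _)).trans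
      (congrArg CommaMorphism.left hQ)).trans ?_
    exact (congrArg ((CoactBr.pt (π.comp θ)).left ≫ ·) (IsOpenImmersion.lift_fac _ _ _)).symm
  exact hQ'

/-- if `h(0)` is a unit and the maps agree on `Spec R[X]_h`, they agree on `Spec R[X]` -/
theorem agree_of_isUnit (R : Type u) [CommRing R] [Algebra k R] (j : CoactBr.sp k R ⟶ Y) (h : Polynomial R)
    (hu : IsUnit (h.eval 0))
    (hag : ∀ (K : Type u) [CommRing K] [Algebra k K] (φ : Polynomial R →ₐ[k] K), IsUnit (φ h) →
        ev X Y a γ₁ (φ Polynomial.X) (CoactBr.pt (φ.comp (IsScalarTower.toAlgHom k R (Polynomial R))) ≫ j) =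
        ev X Y a γ₂ (φ Polynomial.X) (CoactBr.pt (φ.comp (IsScalarTower.toAlgHom k R (Polynomial R))) ≫ j)) :
    ev X Y a γ₁ (Polynomial.X : Polynomial R) (CoactBr.pt (IsScalarTower.toAlgHom k R (Polynomial R)) ≫ j) =
      ev X Y a γ₂ (Polynomial.X : Polynomial R) (CoactBr.pt (IsScalarTower.toAlgHom k R (Polynomial R)) ≫ j) := by
  let ιι := IsScalarTower.toAlgHom k R (Polynomial R)
  let Lt := LaurentPolynomial (Polynomial R)
  let K := Localization.Away (LaurentPolynomial.C h : Lt)
  have hk : ∀ c : k, algebraMap k K c = algebraMap Lt K (LaurentPolynomial.C (Polynomial.C (algebraMap k R c))) := by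
    intro c
    rw [IsScalarTower.algebraMap_apply k Lt K]
    rfl
  let incl : Polynomial R →ₐ[k] K :=
    { (algebraMap Lt K).comp (LaurentPolynomial.C : Polynomial R →+* Lt) with
      commutes' := fun c => (hk c).symm }
  let ψ : Polynomial R →ₐ[k] K :=
    { (algebraMap Lt K).comp (twist R 1) with
      commutes' := fun c => by
        rw [hk]
        show algebraMap Lt K (twist R 1 (Polynomial.C (algebraMap k R c))) = _
        simp [twist] }
  let s : Kˣ := Units.map (algebraMap Lt K).toMonoidHom (LaurentPolynomial.isUnit_T 1).unit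
  have hX : ψ Polynomial.X = (s : K) * incl Polynomial.X := by
    show algebraMap Lt K (twist R 1 Polynomial.X) = _
    simp [twist, s, incl]
    exact _root_.mul_comm _ _
  have hιι : ψ.comp ιι = incl.comp ιι := by
    ext r
    show algebraMap Lt K (twist R 1 (Polynomial.C r)) = algebraMap Lt K (LaurentPolynomial.C (Polynomial.C r))
    simp [twist]
  have hincl := hag K incl (IsLocalization.Away.algebraMap_isUnit (LaurentPolynomial.C h : Lt))
  have key : ∀ γ, CoactBr.pt ψ ≫ ev X Y a γ (Polynomial.X : Polynomial R) (CoactBr.pt ιι ≫ j) =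
      CartesianMonoidalCategory.lift (P (k := k) (chZ s))
        (ev X Y a γ (incl Polynomial.X) (CoactBr.pt (incl.comp ιι) ≫ j)) ≫ (Magnet.MonAct.ofAction a).act := by
    intro γ
    rw [pt_comp_ev, ← reassoc_of% (CoactBr.pt_comp ιι ψ), hX, hιι, ev_smul]
  have heq := key γ₁
  rw [hincl, ← key γ₂] at heq
  have hflat : Flat (CoactBr.pt ψ).left := by
    show Flat (Spec.map (CommRingCat.ofHom ψ.toRingHom))
    rw [HasRingHomProperty.Spec_iff (P := @Flat)]
    refine RingHom.Flat.comp (twist_flat R) ?_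
    rw [RingHom.flat_algebraMap_iff]
    exact IsLocalization.flat K (Submonoid.powers (LaurentPolynomial.C h : Lt))
  have hsurj : Surjective (CoactBr.pt ψ).left := by
    refine ⟨fun q => ?_⟩
    obtain ⟨Q, hQ, hQq⟩ := twist_surjective R h hu q
    obtain ⟨P', hP'⟩ := (PrimeSpectrum.localization_away_comap_range K (LaurentPolynomial.C h : Lt)).ge hQ
    refine ⟨P', PrimeSpectrum.ext ?_⟩
    show P'.asIdeal.comap ((algebraMap Lt K).comp (twist R 1)) = q.asIdeal
    rw [← Ideal.comap_comap, show P'.asIdeal.comap (algebraMap Lt K) = Q.asIdeal from congrArg PrimeSpectrum.asIdeal hP', hQq]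
  have := Flat.epi_of_flat_of_surjective (CoactBr.pt ψ).left
  ext1
  rw [← cancel_epi (CoactBr.pt ψ).left]
  exact congrArg CommaMorphism.left heq

theorem result' (hnil : ∀ (K : Type u) [CommRing K] [Algebra k K] (τ : K) (y : CoactBr.sp k K ⟶ Y),
      IsNilpotent τ → ev X Y a γ₁ τ y = ev X Y a γ₂ τ y) :
    γ₁ = γ₂ := by
  apply Subtype.ext
  ext1
  set Z : Over (Spec (CommRingCat.of k)) := AMonS (Spec (CommRingCat.of k)) Nat' ⊗ Y
  suffices hloc : ∀ z : Z.left, ∃ U : Z.left.Opens, z ∈ U ∧ U.ι ≫ γ₁.1.left = U.ι ≫ γ₂.1.left by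
    choose U hzU hU using hloc
    refine (Z.left.openCoverOfIsOpenCover U (TopologicalSpace.IsOpenCover.mk ?_)).hom_ext _ _ hU
    exact top_le_iff.1 fun z _ => TopologicalSpace.Opens.mem_iSup.2 ⟨z, hzU z⟩
  intro z
  obtain ⟨U, hU, hyU, -⟩ := exists_isAffineOpen_mem_and_subset (U := ⊤)
    (show (CartesianMonoidalCategory.snd (AMonS (Spec (CommRingCat.of k)) Nat') Y).left z ∈ (⊤ : Y.left.Opens) from trivial)
  letI algR : Algebra k Γ(Y.left, U) := (Spec.preimage (hU.fromSpec ≫ Y.hom)).hom.toAlgebra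
  let j : CoactBr.sp k Γ(Y.left, U) ⟶ Y := Over.homMk hU.fromSpec (Spec.map_preimage _).symm
  let p := hU.primeIdealOf ⟨_, hyU⟩
  obtain ⟨h, hp, hag⟩ := exists_agree X Y a γ₁ γ₂ hnil Γ(Y.left, U) j p
  let R' := Localization.Away (h.eval 0)
  let l := IsScalarTower.toAlgHom k Γ(Y.left, U) R'
  let j' : CoactBr.sp k R' ⟶ Y := CoactBr.pt l ≫ j
  have : IsOpenImmersion (CoactBr.pt l).left := IsOpenImmersion.of_isLocalization (h.eval 0)
  have hj' : IsOpenImmersion j'.left := by
    have h2 : IsOpenImmersion hU.fromSpec := hU.isOpenImmersion_fromSpec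
    exact @IsOpenImmersion.comp _ _ _ (CoactBr.pt l).left hU.fromSpec ‹_› h2
  let mu : Polynomial Γ(Y.left, U) →ₐ[k] Polynomial R' := Polynomial.mapAlgHom l
  have huniv := agree_of_isUnit X Y a γ₁ γ₂ R' j' (mu h) (by
      have : (mu h).eval 0 = algebraMap _ R' (h.eval 0) := by
        show (Polynomial.map l.toRingHom h).eval 0 = _
        rw [Polynomial.eval_zero_map]
        rfl
      rw [this]
      exact IsLocalization.Away.algebraMap_isUnit _) (fun K _ _ φ hφ => by
      have e1 : φ.comp mu Polynomial.X = φ Polynomial.X := by simp [mu]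
      have e2 : CoactBr.pt ((φ.comp mu).comp (IsScalarTower.toAlgHom k _ (Polynomial Γ(Y.left, U)))) ≫ j =
          CoactBr.pt (φ.comp (IsScalarTower.toAlgHom k R' (Polynomial R'))) ≫ j' := by
        rw [← reassoc_of% (CoactBr.pt_comp l (φ.comp (IsScalarTower.toAlgHom k R' (Polynomial R'))))]
        congr 2
        ext r
        simp [mu, l]
      have := hag K (φ.comp mu) hφ
      rwa [e1, e2] at this)
  have hzR : (CartesianMonoidalCategory.snd (AMonS (Spec (CommRingCat.of k)) Nat') Y).left z ∈ j'.left.opensRange := by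
    obtain ⟨p', hp'⟩ := (PrimeSpectrum.localization_away_comap_range R' (h.eval 0)).ge hp
    refine ⟨p', ?_⟩
    show hU.fromSpec (PrimeSpectrum.comap (algebraMap Γ(Y.left, U) R') p') = _
    rw [hp']
    exact hU.fromSpec_primeIdealOf ⟨_, hyU⟩
  obtain ⟨W, hW, hzW, hWs⟩ := exists_isAffineOpen_mem_and_subset
    (show z ∈ ((CartesianMonoidalCategory.snd (AMonS (Spec (CommRingCat.of k)) Nat') Y).left ⁻¹ᵁ j'.left.opensRange)
      from hzR)
  refine ⟨W, hzW, ?_⟩
  suffices hs : hW.fromSpec ≫ γ₁.1.left = hW.fromSpec ≫ γ₂.1.left by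
    have := congrArg (hW.isoSpec.hom ≫ ·) hs
    simpa only [hW.isoSpec_hom, hW.toSpecΓ_fromSpec_assoc] using this
  letI algW : Algebra k Γ(Z.left, W) := (Spec.preimage (hW.fromSpec ≫ Z.hom)).hom.toAlgebra
  let pW : CoactBr.sp k Γ(Z.left, W) ⟶ Z := Over.homMk hW.fromSpec (Spec.map_preimage _).symm
  suffices hs : pW ≫ γ₁.1 = pW ≫ γ₂.1 by exact congrArg CommaMorphism.left hs
  obtain ⟨χ, hχ⟩ := P_surjective (pW ≫ CartesianMonoidalCategory.fst _ _)
  have hrange : Set.range (pW ≫ CartesianMonoidalCategory.snd _ _).left ⊆ Set.range j'.left := by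
    rintro _ ⟨q, rfl⟩
    have : hW.fromSpec q ∈ (W : Set Z.left) := by rw [← hW.range_fromSpec]; exact ⟨q, rfl⟩
    exact hWs this
  let y' := IsOpenImmersion.lift j'.left (pW ≫ CartesianMonoidalCategory.snd _ _).left hrange
  let φ₀ : R' →ₐ[k] Γ(Z.left, W) :=
    { (Spec.preimage y').hom with
      commutes' := fun c => by
        have e : CommRingCat.ofHom (algebraMap k R') ≫ Spec.preimage y' =
            CommRingCat.ofHom (algebraMap k Γ(Z.left, W)) := by
          apply Spec.map_injective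
          rw [Spec.map_comp, Spec.map_preimage]
          calc y' ≫ Spec.map (CommRingCat.ofHom (algebraMap k R'))
              = y' ≫ j'.left ≫ Y.hom := by rw [Over.w j']; rfl
            _ = (pW ≫ CartesianMonoidalCategory.snd _ _).left ≫ Y.hom := by
                rw [IsOpenImmersion.lift_fac_assoc]
            _ = _ := Over.w (pW ≫ CartesianMonoidalCategory.snd _ _)
        exact congr($e c) }
  have hy : CoactBr.pt φ₀ ≫ j' = pW ≫ CartesianMonoidalCategory.snd _ _ := by
    ext1
    show Spec.map (CommRingCat.ofHom φ₀.toRingHom) ≫ j'.left = _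
    rw [show CommRingCat.ofHom φ₀.toRingHom = Spec.preimage y' from rfl, Spec.map_preimage]
    exact @IsOpenImmersion.lift_fac _ _ _ j'.left (pW ≫ CartesianMonoidalCategory.snd _ _).left hj' hrange
  let τ := χ (Multiplicative.ofAdd genN)
  let φ : Polynomial R' →ₐ[k] Γ(Z.left, W) :=
    { Polynomial.eval₂RingHom φ₀.toRingHom τ with
      commutes' := fun c => by
        show Polynomial.eval₂ φ₀.toRingHom τ (Polynomial.C (algebraMap k R' c)) = _
        rw [Polynomial.eval₂_C]
        exact φ₀.commutes c }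
  have key : ∀ γ : (Magnet.attr (Magnet.MonAct.ofAction a) Nat').obj (op Y), pW ≫ γ.1 =
      CoactBr.pt φ ≫ ev X Y a γ (Polynomial.X : Polynomial R')
        (CoactBr.pt (IsScalarTower.toAlgHom k R' (Polynomial R')) ≫ j') := by
    intro γ
    rw [pt_comp_ev, ← reassoc_of% (CoactBr.pt_comp (IsScalarTower.toAlgHom k R' (Polynomial R')) φ),
      show φ Polynomial.X = τ from Polynomial.eval₂_X _ _,
      show φ.comp (IsScalarTower.toAlgHom k R' (Polynomial R')) = φ₀ from
        AlgHom.ext fun r => Polynomial.eval₂_C _ _, hy, ev, Pt, ← eq_chN χ, hχ,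
      CartesianMonoidalCategory.lift_comp_fst_snd]
  rw [key, key, huniv]

end

/-- For the multiplicative monoid of the affine line with unit group G_m (the published statement: any
Kempf monoid M with unit group G), let k be a field, X a k-scheme with an action a of the
multiplicative group G_m = D(ℤ) over k, and Y a k-scheme. Let γ₁ and γ₂ be two k-morphisms A^1 ×_k Y
→ X, where A^1 is the diagonalizable monoid scheme of the non-negative integers (the affine line
under multiplication), that are G_m-equivariant for G_m scaling the first factor — two Y-valued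
points of the Białynicki-Birula functor D_X. Suppose γ₁ and γ₂ agree at every T-valued point (m, t)
of A^1 ×_k Y whose first coordinate m is nilpotent in the monoid A^1(T), i.e. some power of m is
absorbing (equal to its product with any element); equivalently γ₁ and γ₂ agree on all infinitesimal
neighbourhoods of {0} ×_k Y. Then γ₁ = γ₂; that is, the canonical map from D_X to the formal
Białynicki-Birula functor is injective on Y-points. -/
theorem result (k : Type u) [Field k]
    (X Y : Over (Spec (CommRingCat.of k))) (a : AlgGrp.Action (Red.DS (Spec (CommRingCat.of k)) ℤ) X)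
    (γ₁ γ₂ : (Magnet.attr (Magnet.MonAct.ofAction a) (AddSubmonoid.multiples (1 : ℤ))).obj (op Y))
    (h : ∀ (T : Over (Spec (CommRingCat.of k))) (m : T ⟶ Magnet.AMonS (Spec (CommRingCat.of k)) (AddSubmonoid.multiples (1 : ℤ))) (t : T ⟶ Y),
      (∃ n : ℕ, ∀ m' : T ⟶ Magnet.AMonS (Spec (CommRingCat.of k)) (AddSubmonoid.multiples (1 : ℤ)), m ^ (n + 1) * m' = m ^ (n + 1)) →
      CartesianMonoidalCategory.lift m t ≫ γ₁.1 = CartesianMonoidalCategory.lift m t ≫ γ₂.1) :
    γ₁ = γ₂ :=
  result' X Y a γ₁ γ₂ fun K _ _ τ y hτ => h _ _ y (nilpotent_point τ hτ)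

end Groth.Agent.S18963
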