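import Groth.Statements.S18964
import Groth.Agent.Misc15.OverGlue
import Groth.Agent.Misc15.OpenAction
import Groth.Agent.S18955
import Groth.Agent.S18958
import Groth.Agent.S18294
import Mathlib.AlgebraicGeometry.Sites.Fpqc
-- import your own Groth.Agent.* helpers here

set_option autoImplicit false
universe u
open CategoryTheory MonoidalCategory CartesianMonoidalCategory MonObj AlgebraicGeometry Opposite
open Magnet
open Groth.Agent.Misc15

namespace Groth.Agent.S18964

/-- Let k be a field, M an affine monoid k-scheme, G an affine group k-scheme and i : G → M a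
homomorphism of monoids which is an open immersion with scheme-theoretically dense image; let o :
Spec k → M be a zero of M (m·o = o = o·m), and assume that for every k-scheme T whose underlying
scheme is the spectrum of a field, every open subset of M ×_k T which is stable under G acting by
left multiplication through i on the first factor and contains the zero section is the whole of M
×_k T. Let X be a k-scheme with an action aX of G such that the G-stable affine open subsets U of X
cover the fixed points: for every k-scheme T and every G-fixed T-valued point x of X, the preimages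
under x of the G-stable affine opens cover T (equivalently, the open subfunctors U^G cover X^G; this
holds when X is locally linear, i.e. every point has a G-stable affine open neighbourhood). Then the
functor D_X on k-schemes, whose value at Y is the set of k-morphisms M ×_k Y → X that are
G-equivariant for G acting on M ×_k Y by left multiplication through i on the first factor, is
representable by a k-scheme. (In the source M is a Kempf monoid with G its group of units;
affineness of G, density and openness of G in M and the displayed property of G-stable opens over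
field extensions are the consequences of that hypothesis which the argument uses.) -/
theorem result (k : Type u) [Field k]
    (M G X : Over (Spec (CommRingCat.of k))) [MonObj M] [GrpObj G] [IsAffine M.left] [IsAffine G.left]
    (i : G ⟶ M) [IsMonHom i] [IsOpenImmersion i.left] [IsSchemeTheoreticallyDominant i.left]
    (o : 𝟙_ (Over (Spec (CommRingCat.of k))) ⟶ M)
    (ho : ∀ (T : Over (Spec (CommRingCat.of k))) (m : T ⟶ M), m * (toUnit T ≫ o) = toUnit T ≫ o ∧ (toUnit T ≫ o) * m = toUnit T ≫ o)
    (hM : ∀ (T : Over (Spec (CommRingCat.of k))) (K : Type u) [Field K] (eT : T.left ≅ Spec (CommRingCat.of K))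
      (W : (M ⊗ T).left.Opens),
      (CartesianMonoidalCategory.snd G (M ⊗ T)).left ⁻¹ᵁ W ≤
          ((((Magnet.MonAct.regular M).restrict i).prod (Magnet.MonAct.trivial G T)).act).left ⁻¹ᵁ W →
      (CartesianMonoidalCategory.lift (toUnit T ≫ o) (𝟙 T)).left ⁻¹ᵁ W = ⊤ → W = ⊤)
    (aX : AlgGrp.Action G X)
    (hcov : ∀ (T : Over (Spec (CommRingCat.of k))) (x : (Magnet.MonAct.fixedPsh (Magnet.MonAct.ofAction aX)).obj (op T)),
      ⨆ (U : X.left.Opens) (_ : IsAffineOpen U ∧ (CartesianMonoidalCategory.snd G X).left ⁻¹ᵁ U ≤ aX.act.left ⁻¹ᵁ U),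
        x.1.left ⁻¹ᵁ U = ⊤) :
    ∃ Z : Over (Spec (CommRingCat.of k)),
      Nonempty ((Magnet.MonAct.eqvHom ((Magnet.MonAct.regular M).restrict i) (Magnet.MonAct.ofAction aX)).RepresentableBy Z) := by
  classical
  let ρ := (Magnet.MonAct.regular M).restrict i
  let D := Magnet.MonAct.eqvHom ρ (Magnet.MonAct.ofAction aX)
  let β := {U : X.left.Opens // IsAffineOpen U ∧
    (CartesianMonoidalCategory.snd G X).left ⁻¹ᵁ U ≤ aX.act.left ⁻¹ᵁ U}
  choose aU haU' using fun U : β => OpenAction.exists_action aX U.1 U.2.2
  have haU : ∀ U : β, Magnet.MonAct.IsEquivariant (Magnet.MonAct.ofAction (aU U)) (Magnet.MonAct.ofAction aX)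
      (OpenAction.incl U.1) := fun U => haU' U
  have hrep : ∀ U : β, ∃ Z, Nonempty ((Magnet.MonAct.eqvHom ρ (Magnet.MonAct.ofAction (aU U))).RepresentableBy Z) := by
    intro U
    have : IsAffine (OpenAction.obj U.1).left := U.2.1
    obtain ⟨Z, _, e, -⟩ := Groth.Agent.S18955.result k M G (OpenAction.obj U.1) i (aU U)
    exact ⟨Z, ⟨e⟩⟩
  choose Z hZ using hrep
  let e := fun U => (hZ U).some
  let j : ∀ U : β, (yoneda.obj (Z U) : (Over (Spec (CommRingCat.of k)))ᵒᵖ ⥤ Type u) ⟶ D := fun U =>
    { app := fun T => TypeCat.ofHom fun z =>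
        (Magnet.MonAct.eqvHom.postcomp ρ (OpenAction.incl U.1) (haU U)).app T ((e U).homEquiv z)
      naturality := fun T T' t => ConcreteCategory.hom_ext _ _ fun z => by
        refine (congrArg ((Magnet.MonAct.eqvHom.postcomp ρ (OpenAction.incl U.1) (haU U)).app T') ((e U).homEquiv_comp t.unop z)).trans ?_
        exact ConcreteCategory.congr_hom ((Magnet.MonAct.eqvHom.postcomp ρ (OpenAction.incl U.1) (haU U)).naturality t) _ }
  have hfix : ∀ (T : Over (Spec (CommRingCat.of k))) (φ : D.obj (op T)) (T' : Over (Spec (CommRingCat.of k)))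
      (t : T' ⟶ T) (g : T' ⟶ G),
      lift g (t ≫ (Magnet.MonAct.eqvHom.evalAt ρ (Magnet.MonAct.ofAction aX) o).app (op T) φ) ≫ aX.act =
        t ≫ (Magnet.MonAct.eqvHom.evalAt ρ (Magnet.MonAct.ofAction aX) o).app (op T) φ := by
    intro T φ T' t g
    have h1 := (Magnet.MonAct.mem_eqvHom_iff φ.1).1 φ.2 T' g (toUnit T' ≫ o) t
    rw [show lift g (toUnit T' ≫ o) ≫ ρ.act = toUnit T' ≫ o from by
      simp only [ρ, Magnet.MonAct.lift_restrict_act, Magnet.MonAct.lift_regular_act]
      exact (ho T' (g ≫ i)).1] at h1
    rw [Magnet.MonAct.eqvHom.evalAt_app, comp_lift_assoc, Category.comp_id, ← Category.assoc t (toUnit _),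
      toUnit_unique (t ≫ toUnit _) (toUnit T')]
    exact h1.symm
  refine OverGlue.exists_representableBy D (Magnet.MonAct.eqvHom.evalAt ρ (Magnet.MonAct.ofAction aX) o)
    (fun U : β => U.1) (fun T φ => ?_) Z j (fun U T z z' h => ?_) (fun U T z => ?_) (fun U T φ hφ => ?_) ?_
  · refine eq_top_iff.2 fun w _ => ?_
    have h := (hcov T ⟨_, hfix T φ⟩).symm ▸ (TopologicalSpace.Opens.mem_top w)
    obtain ⟨U, hU⟩ := TopologicalSpace.Opens.mem_iSup.1 h
    obtain ⟨hU1, hU2⟩ := TopologicalSpace.Opens.mem_iSup.1 hU
    exact TopologicalSpace.Opens.mem_iSup.2 ⟨⟨U, hU1⟩, hU2⟩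
  · have : Mono (OpenAction.incl U.1) := by
      have : Mono (OpenAction.incl U.1).left := inferInstanceAs (Mono U.1.ι)
      exact (Over.forget _).mono_of_mono_map this
    refine (e U).homEquiv.injective (Subtype.ext ((cancel_mono (OpenAction.incl U.1)).1 ?_))
    exact congrArg Subtype.val h
  · rw [← Scheme.Opens.range_ι U.1]
    let w : T ⟶ OpenAction.obj U.1 :=
      (Magnet.MonAct.eqvHom.evalAt ρ (Magnet.MonAct.ofAction (aU U)) o).app (op T) ((e U).homEquiv z)
    have : ((Magnet.MonAct.eqvHom.evalAt ρ (Magnet.MonAct.ofAction aX) o).app (op T) ((j U).app (op T) z) :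
        T ⟶ X) = w ≫ OpenAction.incl U.1 := by
      show lift (toUnit T ≫ o) (𝟙 T) ≫ ((e U).homEquiv z).1 ≫ OpenAction.incl U.1 =
        (lift (toUnit T ≫ o) (𝟙 T) ≫ ((e U).homEquiv z).1) ≫ OpenAction.incl U.1
      rw [Category.assoc]
    rw [this]
    rintro _ ⟨v, rfl⟩
    exact ⟨w.left v, rfl⟩
  · have : IsOpenImmersion (OpenAction.incl U.1).left := inferInstanceAs (IsOpenImmersion U.1.ι)
    have hpb := ((Groth.Agent.S18958.result k M G X (OpenAction.obj U.1) i o ho hM aX (aU U)
      (OpenAction.incl U.1) (haU U)).app (op T))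
    let x : T ⟶ X := (Magnet.MonAct.eqvHom.evalAt ρ (Magnet.MonAct.ofAction aX) o).app (op T) φ
    let w : T ⟶ OpenAction.obj U.1 := Over.homMk (IsOpenImmersion.lift U.1.ι x.left
      (by rw [Scheme.Opens.range_ι]; exact hφ)) (by
        show _ ≫ U.1.ι ≫ X.hom = _
        rw [IsOpenImmersion.lift_fac_assoc]
        exact Over.w x)
    obtain ⟨ψ, hψ, -⟩ := CategoryTheory.Limits.Types.exists_of_isPullback hpb φ w
      (Over.OverMorphism.ext (IsOpenImmersion.lift_fac _ _ _).symm)
    exact ⟨(e U).homEquiv.symm ψ, (congrArg _ ((e U).homEquiv.apply_symm_apply ψ)).trans hψ⟩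
  · rw [isSheaf_iff_isSheaf_of_type]
    exact Presieve.isSheaf_of_le _ (fun T R hR => (GrothendieckTopology.mem_over_iff _ _).2 (Precoverage.toGrothendieck_mono Scheme.zariskiPrecoverage_le_fppfPrecoverage _ ((GrothendieckTopology.mem_over_iff _ _).1 hR)))
      ((isSheaf_iff_isSheaf_of_type _ _).1 (Groth.Agent.S18294.result _ G M X ρ (Magnet.MonAct.ofAction aX)))

end Groth.Agent.S18964
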