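import Groth.Statements.S18967
import Groth.Agent.EulerLib.SlopeBasic

set_option autoImplicit false
open CategoryTheory CategoryTheory.Limits AlgebraicGeometry Polynomial
universe u
open ShStab

namespace Groth.Agent.S18967

open Groth.Agent.EulerLib Groth.Agent.Coherent StabCat

/-- Let k be an algebraically closed field of characteristic zero, X a smooth projective integral
variety of dimension n ≥ 1 over k polarised by an ample invertible sheaf L, and 0 → F → H → G → 0 a
short exact sequence of O_X-modules with F and G torsion-free coherent (pure of dimension n) and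
slope-semistable with respect to L of the same slope μ. Then H is slope-semistable of slope μ; in
particular this applies to H = F ⊕ G. Slopes are compared through the quantity α_(n−1)/α_n of the
Hilbert polynomials with respect to L, an increasing affine function of the slope det ·
L^(n−1)/rank. -/
theorem result (k : Type u) [Field k] [IsAlgClosed k] [CharZero k]
    (X : Scheme.{u}) [X.Over (Spec (CommRingCat.of k))] [IsIntegral X]
    [IsProper (X ↘ Spec (CommRingCat.of k))] [Smooth (X ↘ Spec (CommRingCat.of k))]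
    (n : ℕ) (hn : 1 ≤ n) (hX : topologicalKrullDim X = (n : WithBot ℕ∞))
    (L : X.Modules) (hLi : PicF.IsInvertible L) (hL : CohB1.IsAmple L)
    (T : ShortComplex X.Modules) (hT : T.ShortExact)
    (hFt : ShStab.IsPure X T.X₁ n) (hGt : ShStab.IsPure X T.X₃ n)
    (hF : ShStab.IsMuSemistable k X L T.X₁ n) (hG : ShStab.IsMuSemistable k X L T.X₃ n)
    (pF pG : ℚ[X]) (hpF : ShStab.IsHilbPoly k X L T.X₁ pF) (hpG : ShStab.IsHilbPoly k X L T.X₃ pG)
    (hμ : StabCat.hatSlope n pF = StabCat.hatSlope n pG) :
    ShStab.IsMuSemistable k X L T.X₂ n ∧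
      ∀ pH : ℚ[X], ShStab.IsHilbPoly k X L T.X₂ pH → StabCat.hatSlope n pH = StabCat.hatSlope n pF := by
  haveI := isNoetherian_of_proper (X := X) k
  haveI := hT.mono_f
  haveI := hT.epi_g
  have h₂ : Coh.IsCoh T.X₂ := isCoh_X₂ hT hF.1 hG.1
  have hd : topologicalKrullDim (CohB1.support T.X₂) ≤ n := hX ▸ topologicalKrullDim_subspace_le X _
  have hP : ShStab.IsPure X T.X₂ n := isPure_of_shortExact hT hd hG.1 hFt hGt
  have hne : ¬ IsZero T.X₂ := fun h => hF.2.1 (IsZero.of_mono T.f h)
  have aF := alpha_pos_self k hL hF.1 hF.2.1 hFt hpF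
  have aG := alpha_pos_self k hL hG.1 hG.2.1 hGt hpG
  have hμ' : alpha (n - 1) pF * alpha n pG = alpha (n - 1) pG * alpha n pF := (div_eq_div_iff aF.ne' aG.ne').1 hμ
  have hsum : ∀ pH : ℚ[X], ShStab.IsHilbPoly k X L T.X₂ pH → pH = pF + pG := fun pH hpH =>
    hilb_ses k hL hT hF.1 h₂ hG.1 hpF hpH hpG
  have hsl : ∀ pH : ℚ[X], ShStab.IsHilbPoly k X L T.X₂ pH → hatSlope n pH = hatSlope n pF := fun pH hpH => by
    rw [hsum pH hpH, hatSlope, hatSlope, alpha_add, alpha_add, div_eq_div_iff (by linarith) aF.ne']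
    linarith
  refine ⟨⟨h₂, hne, hP T.X₂ (𝟙 _) inferInstance h₂ hne, fun W ι hm hW => ?_, fun W ι hm hW pW pH hpW hpH h0 hlt => ?_⟩, hsl⟩
  · haveI := hm
    by_cases hz : IsZero W
    · rw [Set.subset_empty_iff.1 (support_of_isZero hz ∅)]
      have h0 := dim_empty_lt (X := X) 0
      intro e
      revert h0 e
      generalize topologicalKrullDim (∅ : Set X) = a
      intro h0 e
      induction a with
      | bot => simp at e
      | coe a => simp at h0
    · rw [hP W ι hm hW hz]
      norm_cast
      omega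
  · haveI := hm
    have hK := isCoh_kernel (ι ≫ T.g) hW hG.1.1
    let l := hT.exact.lift (kernel.ι (ι ≫ T.g) ≫ ι) (by rw [Category.assoc, kernel.condition])
    haveI : Mono l := by
      haveI : Mono (l ≫ T.f) := by rw [hT.exact.lift_f]; infer_instance
      exact mono_of_mono l T.f
    have hI := isCoh_image (ι ≫ T.g) hW hG.1
    have hK' := isCoh_kernel (Abelian.factorThruImage (ι ≫ T.g)) hW hI.1
    have e := hp_ses k hL (shortExact_kernel (Abelian.factorThruImage (ι ≫ T.g))) hK' hW hI
    have eW : pW = hp k hL _ hK + hp k hL _ hI := by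
      rw [isHilbPoly_unique k hpW (isHilbPoly_hp k hL _ hW)]
      refine e.trans (congrArg (· + _) (hp_congr k hL ?_ _ _))
      exact (kernelIsoOfEq (Abelian.image.fac _).symm ≪≫ kernelCompMono _ (Abelian.image.ι (ι ≫ T.g))).symm
    have h1 := slope_sub k hL hFt hF l hK (isHilbPoly_hp k hL _ hK) hpF
    have h2 := slope_sub k hL hGt hG (Abelian.image.ι (ι ≫ T.g)) hI (isHilbPoly_hp k hL _ hI) hpG
    rw [hsl pH hpH, hatSlope, hatSlope, div_le_div_iff₀ h0 aF, eW, alpha_add, alpha_add]
    refine le_of_mul_le_mul_right ?_ aG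
    set K1 := alpha (n - 1) (hp k hL _ hK)
    set K0 := alpha n (hp k hL _ hK)
    set I1 := alpha (n - 1) (hp k hL _ hI)
    set I0 := alpha n (hp k hL _ hI)
    have hmul : I0 * (alpha (n - 1) pF * alpha n pG) = I0 * (alpha (n - 1) pG * alpha n pF) := by rw [hμ']
    nlinarith [mul_le_mul_of_nonneg_left h2 aF.le, mul_le_mul_of_nonneg_left h1 aG.le, hmul]

end Groth.Agent.S18967
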