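import Groth.Statements.S18968
import Groth.Agent.EulerLib.SlopeBasic
import Groth.Agent.EulerLib.Scalar
import Groth.Agent.EulerLib.DualPure

set_option autoImplicit false
open CategoryTheory CategoryTheory.Limits AlgebraicGeometry Polynomial
universe u
open ShStab

namespace Groth.Agent.S18968

open Groth.Agent.EulerLib Groth.Agent.Coherent StabCat

/-- Let k be an algebraically closed field of characteristic zero, X a smooth projective integral
variety of dimension n ≥ 1 over k polarised by an ample invertible sheaf L, and F a locally free or,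
more generally, reflexive coherent O_X-module which is slope-stable with respect to L. Then End(F)
consists of the homotheties: for every endomorphism φ of F there is c ∈ k with φ(s) = c·s for every
local section s of F. Slope stability is tested through the quantity α_(n−1)/α_n of Hilbert
polynomials with respect to L. -/
theorem result (k : Type u) [Field k] [IsAlgClosed k] [CharZero k]
    (X : Scheme.{u}) [X.Over (Spec (CommRingCat.of k))] [IsIntegral X]
    [IsProper (X ↘ Spec (CommRingCat.of k))] [Smooth (X ↘ Spec (CommRingCat.of k))]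
    (n : ℕ) (hn : 1 ≤ n) (hX : topologicalKrullDim X = (n : WithBot ℕ∞))
    (L : X.Modules) (hLi : PicF.IsInvertible L) (hL : CohB1.IsAmple L)
    (F : X.Modules) (hFr : RefHull.IsReflexive F) (hF : ShStab.IsMuStable k X L F n) (φ : F ⟶ F) :
    ∃ c : k, ∀ (V : X.Opens) (s : F.val.obj (Opposite.op V)),
        (φ.val.app (Opposite.op V)) s =
          (X.ringCatSheaf.obj.map (homOfLE (le_top : V ≤ ⊤)).op
            (Coh.toGlobal (X ↘ Spec (CommRingCat.of k)) c : X.ringCatSheaf.obj.obj (Opposite.op ⊤))) • s := by
  haveI := isNoetherian_of_proper (X := X) k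
  have hp : ShStab.IsPure X F n := isPure_of_isReflexive hFr hX
  obtain ⟨hFc, hF0, hdim, -, hst⟩ := hF
  have key : ∀ ψ : F ⟶ F, ψ ≠ 0 → IsIso ψ := fun ψ hψ => by
    have hI := isCoh_image ψ hFc hFc
    have hI0 := image_ne_zero hψ
    have hF' := isHilbPoly_hp k hL F hFc
    have hI' := isHilbPoly_hp k hL _ hI
    have hαI := alpha_pos_of_sub k hL hp (Abelian.image.ι ψ) hI hI0 hI'
    have hK := isCoh_kernel (Abelian.factorThruImage ψ) hFc hI.1
    have hK' := isHilbPoly_hp k hL _ hK
    have e := hilb_ses k hL (shortExact_kernel (Abelian.factorThruImage ψ)) hK hFc hI hK' hF' hI'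
    have ea := congrArg (alpha n) e
    have eb := congrArg (alpha (n - 1)) e
    rw [alpha_add] at ea eb
    haveI : Mono (Abelian.factorThruImage ψ) := by
      by_contra hn
      have hK0 : ¬ IsZero (kernel (Abelian.factorThruImage ψ)) := fun hz =>
        hn (Preadditive.mono_of_isZero_kernel _ hz)
      have hαK := alpha_pos_of_sub k hL hp (kernel.ι (Abelian.factorThruImage ψ)) hK hK0 hK'
      have h1 := hst _ (kernel.ι (Abelian.factorThruImage ψ)) inferInstance hK _ _ hK' hF' hαK (by linarith)
      have h2 := hst _ (Abelian.image.ι ψ) inferInstance hI _ _ hI' hF' hαI (by linarith)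
      rw [hatSlope, hatSlope, div_lt_div_iff₀ hαK (by linarith)] at h1
      rw [hatSlope, hatSlope, div_lt_div_iff₀ hαI (by linarith)] at h2
      rw [ea, eb] at h1 h2
      linarith
    haveI : Mono ψ := by rw [← Abelian.image.fac ψ]; exact mono_comp _ _
    have hC := isCoh_cokernel ψ hFc.1 hFc
    have e' := hp_ses k hL (shortExact_cokernel ψ) hFc hFc hC
    haveI : Epi ψ := Preadditive.epi_of_isZero_cokernel ψ
      ((hilb_eq_zero_iff k hL hC (isHilbPoly_hp k hL _ hC)).1 (by linear_combination -e'))
    exact isIso_of_mono_of_epi ψ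
  obtain ⟨c, hc⟩ := exists_scalar_not_iso k hFc hF0 φ
  refine ⟨c, fun V s => ?_⟩
  have h0 : φ = smulMod _ (Coh.toGlobal (X ↘ Spec (CommRingCat.of k)) c) :=
    sub_eq_zero.1 (not_not.1 fun h => hc (key _ h))
  subst h0
  exact smulMod_app _ _ V s

end Groth.Agent.S18968
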