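import Groth.Statements.S18973
import Groth.Agent.EulerLib.StabHN
import Groth.Agent.EulerLib.EllQuot

set_option autoImplicit false
open CategoryTheory CategoryTheory.Limits AlgebraicGeometry Polynomial
universe u
open ShStab

namespace Groth.Agent.S18973

open Groth.Agent.EulerLib Groth.Agent.Coherent StabCat

/-- Let k be a field and X an integral scheme, smooth and proper over k, with a closed immersion ι into
projective N-space over k compatible with the structure maps, polarised by the ample O_X(1) =
ι^*O(1); let 1 ≤ ℓ ≤ d. Let E be a nonzero coherent O_X-module, pure of dimension d, with an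
ℓ-Harder–Narasimhan filtration 0 = E_0 ⊂ E_1 ⊂ ⋯ ⊂ E_m = E (factors ℓ-semistable of dimension d,
reduced ℓ-truncated Hilbert polynomials of consecutive factors strictly decreasing), and let F =
E/E_(m−1) be its last factor, the minimal ℓ-destabilising quotient of E. If E → G is another
quotient with G nonzero, coherent and pure of dimension d, such that the Hilbert polynomials of F
and G have the same multiplicity α_d and the same reduced ℓ-truncation p_ℓ, then G and F are
isomorphic as quotients of E: there is an isomorphism F ≅ G carrying the quotient map of F to that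
of G. Here a sheaf is ℓ-semistable of dimension d when it is coherent, nonzero, pure of dimension d,
and p_ℓ(F') ≤ p_ℓ for every coherent submodule F' of multiplicity strictly between 0 and its own,
p_ℓ denoting the reduced truncation of the Hilbert polynomial (with respect to O_X(1)) to the
degrees d − ℓ, …, d. -/
theorem result (k : Type u) [Field k]
    (X : Scheme.{u}) [X.Over (Spec (CommRingCat.of k))] [IsIntegral X]
    [Smooth (X ↘ Spec (CommRingCat.of k))] [IsProper (X ↘ Spec (CommRingCat.of k))]
    (N : ℕ) (ι : X ⟶ CohB1.ProjSpace N k) [IsClosedImmersion ι]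
    (hι : ι ≫ CohB1.ProjSpace.toSpec N k = X ↘ Spec (CommRingCat.of k))
    (hL : CohB1.IsAmple ((Scheme.Modules.pullback ι).obj (Twist.twistProjSpace N k 1)))
    (d ℓ : ℕ) (hℓ : 1 ≤ ℓ) (hℓd : ℓ ≤ d)
    (E : X.Modules) (hE : Coh.IsCoh E) (h0 : ¬ IsZero E) (hp : ShStab.IsPure X E d)
    (s : LTSeries (Subobject E))
    (hs : StabCat.IsHNWith (fun G => ShStab.IsEllSemistable k X ((Scheme.Modules.pullback ι).obj (Twist.twistProjSpace N k 1)) G d ℓ)
      (fun G P => ∃ Q : Polynomial ℚ, ShStab.IsHilbPoly k X ((Scheme.Modules.pullback ι).obj (Twist.twistProjSpace N k 1)) G Q ∧ P = StabCat.topPart ℓ d Q) d E s)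
    (G : X.Modules) (q : E ⟶ G) [Epi q] (hG : Coh.IsCoh G) (hG0 : ¬ IsZero G) (hGp : ShStab.IsPure X G d)
    (pF pG : ℚ[X]) (hpF : ShStab.IsHilbPoly k X ((Scheme.Modules.pullback ι).obj (Twist.twistProjSpace N k 1)) (cokernel s.eraseLast.last.arrow) pF)
    (hpG : ShStab.IsHilbPoly k X ((Scheme.Modules.pullback ι).obj (Twist.twistProjSpace N k 1)) G pG)
    (hα : StabCat.alpha d pF = StabCat.alpha d pG)
    (hred : StabCat.RedEq d (StabCat.topPart ℓ d pF) (StabCat.topPart ℓ d pG)) :
    ∃ φ : (cokernel s.eraseLast.last.arrow) ≅ G, cokernel.π s.eraseLast.last.arrow ≫ φ.hom = q := by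
  haveI := isNoetherian_of_proper (X := X) k
  obtain ⟨hhead, hlast, hSS, hanti⟩ := hs
  set L := (Scheme.Modules.pullback ι).obj (Twist.twistProjSpace N k 1)
  have hfc : ∀ i, Coh.IsCoh (factor s i) := fun i => (hSS i).1
  have hcoh := cohSub_series_coh s hhead hfc
  let J : Fin (s.length + 1) → X.Modules := fun m => Abelian.image ((s m).arrow ≫ q)
  have hJ : ∀ m, Coh.IsCoh (J m) := fun m => isCoh_image _ (hcoh m) hG
  let P : Fin s.length → ℚ[X] := fun i => Groth.Agent.EulerLib.hp k hL _ (hfc i)
  have hPpos : ∀ i, 0 < alpha d (P i) := fun i =>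
    alpha_pos_self k hL (hfc i) (hSS i).2.1 (hSS i).2.2.1 (isHilbPoly_hp k hL _ _)
  have hlen : 0 < s.length := by
    by_contra hn
    refine h0 ?_
    have e : (⊤ : Subobject E) = ⊥ := by
      rw [← hlast, ← hhead]
      exact congrArg s (Fin.ext (by simp only [Fin.val_last, Fin.val_zero]; omega))
    exact ((isZero_zero X.Modules).of_iso Subobject.botCoeIsoZero).of_iso
      ((asIso (⊤ : Subobject E).arrow).symm ≪≫ eqToIso (by rw [e]))
  let i₀ : Fin s.length := ⟨s.length - 1, by omega⟩
  have hdecr : ∀ (i j : Fin s.length), i < j → RedLT d (topPart ℓ d (P j)) (topPart ℓ d (P i)) := by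
    intro i j hij
    obtain ⟨t, ht⟩ : ∃ t, j.val = i.val + 1 + t := ⟨j.val - (i.val + 1), by
      have : i.val < j.val := hij
      omega⟩
    induction t generalizing j with
    | zero => exact hanti i j (by omega) _ _ ⟨_, isHilbPoly_hp k hL _ _, rfl⟩ ⟨_, isHilbPoly_hp k hL _ _, rfl⟩
    | succ t ih =>
      have hjs := j.2
      let j' : Fin s.length := ⟨i.val + 1 + t, by omega⟩
      have h1 := hanti j' j (by simp only [j']; omega) _ _ ⟨_, isHilbPoly_hp k hL _ (hfc j'), rfl⟩
        ⟨_, isHilbPoly_hp k hL _ (hfc j), rfl⟩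
      have h2 := ih (j := j') (by simp only [Fin.lt_def, j']; omega) rfl
      exact redLT_trans_le (by rw [alpha_topPart]; exact hPpos j) (by rw [alpha_topPart]; exact hPpos j')
        (by rw [alpha_topPart]; exact hPpos i) h1 (redLT_iff_le_ne.1 h2).1
  set M := topPart ℓ d (P i₀) with hM
  have hαM : 0 < alpha d M := by rw [hM, alpha_topPart]; exact hPpos i₀
  let T : Fin (s.length + 1) → ℚ[X] := fun m => topPart ℓ d (Groth.Agent.EulerLib.hp k hL _ (hJ m))
  have hT0 : T 0 = 0 := by
    have hz : IsZero (J 0) := by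
      refine IsZero.of_epi (Abelian.factorThruImage ((s 0).arrow ≫ q)) ?_
      exact ((isZero_zero X.Modules).of_iso Subobject.botCoeIsoZero).of_iso
        (eqToIso (by rw [show s 0 = ⊥ from hhead]))
    show topPart ℓ d _ = 0
    rw [hilb_zero k hL hz (isHilbPoly_hp k hL _ _), topPart_zero]
  have step : ∀ i : Fin s.length, ∃ (u : J i.castSucc ⟶ J i.succ) (π : factor s i ⟶ cokernel u), Mono u ∧ Epi π ∧
      u ≫ Abelian.image.ι ((s i.succ).arrow ≫ q) = Abelian.image.ι ((s i.castSucc).arrow ≫ q) := by
    intro i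
    let o := Subobject.ofLE (s i.castSucc) (s i.succ) (le_of_lt (s.step i))
    have ho : o ≫ (s i.succ).arrow ≫ q = (s i.castSucc).arrow ≫ q := by
      rw [← Category.assoc, Subobject.ofLE_arrow]
    have hz : Abelian.image.ι ((s i.castSucc).arrow ≫ q) ≫ cokernel.π (Abelian.image.ι ((s i.succ).arrow ≫ q)) = 0 := by
      rw [← cancel_epi (Abelian.factorThruImage ((s i.castSucc).arrow ≫ q)), Limits.comp_zero, ← Category.assoc,
        Abelian.image.fac, ← ho]
      refine (congrArg (fun t => (o ≫ t) ≫ cokernel.π (Abelian.image.ι ((s i.succ).arrow ≫ q)))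
        (Abelian.image.fac ((s i.succ).arrow ≫ q)).symm).trans ?_
      simp only [Category.assoc, cokernel.condition, Limits.comp_zero]
    let u := Abelian.monoLift (Abelian.image.ι ((s i.succ).arrow ≫ q)) _ hz
    have hu : u ≫ Abelian.image.ι ((s i.succ).arrow ≫ q) = Abelian.image.ι ((s i.castSucc).arrow ≫ q) :=
      Abelian.monoLift_comp _ _ _
    have hw : o ≫ Abelian.factorThruImage ((s i.succ).arrow ≫ q) = Abelian.factorThruImage ((s i.castSucc).arrow ≫ q) ≫ u := by
      rw [← cancel_mono (Abelian.image.ι ((s i.succ).arrow ≫ q)), Category.assoc, Abelian.image.fac, Category.assoc,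
        hu, Abelian.image.fac]
      exact ho
    haveI : Mono (u ≫ Abelian.image.ι ((s i.succ).arrow ≫ q)) := by rw [hu]; infer_instance
    refine ⟨u, cokernel.map o u _ _ hw, mono_of_mono u (Abelian.image.ι ((s i.succ).arrow ≫ q)), ?_, hu⟩
    haveI : Epi (cokernel.π o ≫ cokernel.map o u _ _ hw) := by rw [cokernel.π_desc]; exact epi_comp _ _
    exact epi_of_epi (cokernel.π o) _
  have hdG : topologicalKrullDim (CohB1.support G) ≤ d := dim_le_of_pure k hG hGp
  have key : ∀ m : Fin (s.length + 1), RedLE d M (T m) ∧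
      (m.val < s.length → RedEq d M (T m) → alpha d (T m) = 0) := by
    intro m
    induction m using Fin.induction with
    | zero =>
      rw [hT0]
      refine ⟨?_, fun _ _ => by simp [alpha]⟩
      simp [RedLE, alpha, polyLE_refl]
    | succ i ih =>
      obtain ⟨u, π, hu, hπ, hu'⟩ := step i
      haveI := hu
      haveI := hπ
      have hC := isCoh_cokernel u (hJ i.castSucc).1 (hJ i.succ)
      have e := hp_ses k hL (shortExact_cokernel u) (hJ i.castSucc) (hJ i.succ) hC
      set C := topPart ℓ d (Groth.Agent.EulerLib.hp k hL _ hC)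
      have eT : T i.succ = T i.castSucc + C := by
        show topPart ℓ d _ = _
        rw [e, topPart_add]
      have hαC : 0 ≤ alpha d C := by
        rw [alpha_topPart]
        refine alpha_nonneg k hL hC (isHilbPoly_hp k hL _ _) ?_
        exact ((dim_mono (support_subset_of_epi (cokernel.π u))).trans (dim_sub_le (Abelian.image.ι _) hdG))
      have hαJ : 0 ≤ alpha d (T i.castSucc) := by
        show 0 ≤ alpha d (topPart ℓ d _)
        rw [alpha_topPart]
        exact alpha_nonneg k hL (hJ _) (isHilbPoly_hp k hL _ _) (dim_sub_le (Abelian.image.ι _) hdG)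
      have hq := ell_quot k hL (hSS i) π hC (isHilbPoly_hp k hL _ (hfc i)) (isHilbPoly_hp k hL _ hC)
      have hPi : 0 < alpha d (topPart ℓ d (P i)) := by rw [alpha_topPart]; exact hPpos i
      have hC' : RedLE d M C ∧ (i.val + 1 < s.length → RedEq d M C → alpha d C = 0) := by
        by_cases hi : i.val + 1 < s.length
        · have hlt := hdecr i i₀ (by simp only [Fin.lt_def, i₀]; omega)
          rcases hαC.eq_or_lt with hz | hpos
          · refine ⟨?_, fun _ _ => hz.symm⟩
            obtain ⟨N', hN'⟩ := hq
            refine ⟨N', fun m hm => ?_⟩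
            have := hN' m hm
            simp only [eval_smul, smul_eq_mul] at this ⊢
            rw [← hz, zero_mul] at this ⊢
            exact mul_nonneg hαM.le (nonneg_of_mul_nonneg_right this hPi)
          · have h1 := redLT_trans_le hαM hPi hpos hlt hq
            exact ⟨(redLT_iff_le_ne.1 h1).1, fun _ he => absurd he (redLT_iff_le_ne.1 h1).2⟩
        · refine ⟨?_, fun h => absurd h hi⟩
          rw [hM, show i₀ = i from Fin.ext (by simp only [i₀]; omega)]
          exact hq
      constructor
      · rw [eT]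
        obtain ⟨N1, h1⟩ := ih.1
        obtain ⟨N2, h2⟩ := hC'.1
        refine ⟨max N1 N2, fun x hx => ?_⟩
        have e1 := h1 x ((le_max_left _ _).trans hx)
        have e2 := h2 x ((le_max_right _ _).trans hx)
        simp only [eval_smul, smul_eq_mul, alpha_add, eval_add] at e1 e2 ⊢
        linarith
      · intro hm he
        rw [eT] at he ⊢
        have hi : i.val + 1 < s.length := by simpa using hm
        have hb : RedEq d M C := by
          refine redLE_antisymm hC'.1 ?_
          obtain ⟨N1, h1⟩ := ih.1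
          refine ⟨N1, fun x hx => ?_⟩
          have e1 := h1 x hx
          have e2 := congrArg (fun p : ℚ[X] => p.eval (x : ℚ)) he
          simp only [eval_smul, smul_eq_mul, alpha_add, eval_add] at e1 e2 ⊢
          linarith
        have ha : RedEq d M (T i.castSucc) := by
          show alpha d (T i.castSucc) • M = alpha d M • T i.castSucc
          have e2 : alpha d (T i.castSucc + C) • M = alpha d M • (T i.castSucc + C) := he
          rw [alpha_add, add_smul, smul_add, show alpha d C • M = alpha d M • C from hb] at e2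
          exact add_right_cancel e2
        rw [alpha_add, ih.2 (by simp only [Fin.val_castSucc]; omega) ha, hC'.2 hi hb, add_zero]
  -- the top term and the last proper one
  have hTlast : T (Fin.last _) = topPart ℓ d pG := by
    show topPart ℓ d _ = _
    congr 1
    refine isHilbPoly_unique k (isHilbPoly_iso k ?_ (isHilbPoly_hp k hL _ (hJ _))) hpG
    haveI : IsIso (s (Fin.last _)).arrow := by rw [show s (Fin.last _) = ⊤ from hlast]; infer_instance
    haveI : Epi ((s (Fin.last _)).arrow ≫ q) := epi_comp _ _
    haveI : Epi (Abelian.image.ι ((s (Fin.last _)).arrow ≫ q)) :=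
      epi_of_epi_fac (Abelian.image.fac ((s (Fin.last _)).arrow ≫ q))
    haveI := isIso_of_mono_of_epi (Abelian.image.ι ((s (Fin.last _)).arrow ≫ q))
    exact asIso (Abelian.image.ι ((s (Fin.last _)).arrow ≫ q))
  obtain ⟨u, π', hu, hπ', hu'⟩ := step i₀
  haveI := hu
  haveI := hπ'
  have hsucc : i₀.succ = Fin.last _ := Fin.ext (by simp only [i₀, Fin.val_succ, Fin.val_last]; omega)
  have hel : s.eraseLast.last = s i₀.castSucc := rfl
  set A := s i₀.castSucc with hA
  have hF : Coh.IsCoh (cokernel A.arrow) := isCoh_cokernel _ (hcoh _).1 hE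
  haveI : IsIso (s i₀.succ).arrow := by rw [hsucc, show s (Fin.last _) = ⊤ from hlast]; infer_instance
  have eF : factor s i₀ ≅ cokernel A.arrow :=
    (cokernelCompIsIso (Subobject.ofLE A (s i₀.succ) (le_of_lt (s.step i₀))) (s i₀.succ).arrow).symm ≪≫
      cokernelIsoOfEq (Subobject.ofLE_arrow _)
  have hpF' : pF = P i₀ := isHilbPoly_unique k hpF (isHilbPoly_iso k eF (isHilbPoly_hp k hL _ (hfc i₀)))
  have hzero : A.arrow ≫ q = 0 := by
    by_contra hne
    have hI0 := image_ne_zero hne
    have hpos : 0 < alpha d (T i₀.castSucc) := by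
      show 0 < alpha d (topPart ℓ d _)
      rw [alpha_topPart]
      exact alpha_pos_of_sub k hL hGp (Abelian.image.ι _) (hJ _) hI0 (isHilbPoly_hp k hL _ _)
    refine hpos.ne' ((key i₀.castSucc).2 (by simp only [i₀, Fin.val_castSucc]; omega) ?_)
    have hC := isCoh_cokernel u (hJ i₀.castSucc).1 (hJ i₀.succ)
    have e := hp_ses k hL (shortExact_cokernel u) (hJ i₀.castSucc) (hJ i₀.succ) hC
    have eT : T i₀.succ = T i₀.castSucc + topPart ℓ d (Groth.Agent.EulerLib.hp k hL _ hC) := by
      show topPart ℓ d _ = _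
      rw [e, topPart_add]
    have hq := ell_quot k hL (hSS i₀) π' hC (isHilbPoly_hp k hL _ (hfc i₀)) (isHilbPoly_hp k hL _ hC)
    refine redLE_antisymm (key _).1 ?_
    obtain ⟨N', hN'⟩ := hq
    refine ⟨N', fun x hx => ?_⟩
    have e1 := hN' x hx
    have e2 : alpha d (topPart ℓ d pG) • M = alpha d M • topPart ℓ d pG := by
      rw [hM, ← hpF']
      exact hred
    rw [← hTlast, ← hsucc, eT] at e2
    have e3 := congrArg (fun p : ℚ[X] => p.eval (x : ℚ)) e2
    simp only [eval_smul, smul_eq_mul, alpha_add, eval_add] at e1 e3 ⊢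
    simp only [hM] at e3 ⊢
    linarith
  revert hpF
  rw [hel]
  intro hpF
  let ψ := cokernel.desc A.arrow q hzero
  haveI : Epi ψ := epi_of_epi_fac (cokernel.π_desc A.arrow q hzero)
  have hK := isCoh_kernel ψ hF hG.1
  have e := hilb_ses k hL (shortExact_kernel ψ) hK hF hG (isHilbPoly_hp k hL _ hK) hpF hpG
  haveI : Mono ψ := Preadditive.mono_of_isZero_kernel ψ (by
    by_contra hz
    have hFp : ShStab.IsPure X (cokernel A.arrow) d := isPure_of_mono (hSS i₀).2.2.1 eF.inv
    have h1 := alpha_pos_of_sub k hL hFp (kernel.ι ψ) hK hz (isHilbPoly_hp k hL _ hK)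
    rw [e, alpha_add] at hα
    linarith)
  haveI := isIso_of_mono_of_epi ψ
  exact ⟨asIso ψ, cokernel.π_desc A.arrow q hzero⟩

end Groth.Agent.S18973
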