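import Groth.Statements.S18974
import Mathlib
-- import your own Groth.Agent.* helpers here

set_option autoImplicit false
universe u
open CAlg

namespace Groth.Agent.S18974

/-- Let A be a commutative algebra over the rationals, D a locally nilpotent derivation of A and a an
element with D a = 1; write A' for the quotient of A by the ideal generated by a. Then there is a
ring isomorphism from A onto the polynomial ring A'[Y] which sends every x to the (finite) sum over
n of (1/n!) (class of D^n x) Y^n; its inverse sends Y to a and the constant polynomial on the class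
of x to the sum over n of ((-1)^n/n!) (D^n x) a^n, and under it D corresponds to the derivative
d/dY. (The source says only that A is a ring, in a setting over a field of characteristic zero; the
rational coefficients 1/n! require an algebra over the rationals, which is the hypothesis taken
here. Both sums are written over any range beyond which the iterates of D vanish at x.) -/
theorem result
    (A : Type u) [CommRing A] [Algebra ℚ A] (D : Derivation ℚ A A)
    (hnil : ∀ x : A, ∃ n : ℕ, ((D : A →ₗ[ℚ] A) ^ n) x = 0) (a : A) (ha : D a = 1) :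
    ∃ χ : A ≃+* Polynomial (A ⧸ Ideal.span ({a} : Set A)),
      (∀ (x : A) (N : ℕ), ((D : A →ₗ[ℚ] A) ^ N) x = 0 →
        χ x = ∑ n ∈ Finset.range N,
          ((n.factorial : ℚ)⁻¹ • Polynomial.C (Ideal.Quotient.mk (Ideal.span ({a} : Set A)) (((D : A →ₗ[ℚ] A) ^ n) x))) *
            Polynomial.X ^ n) ∧
      χ.symm Polynomial.X = a ∧
      (∀ (x : A) (N : ℕ), ((D : A →ₗ[ℚ] A) ^ N) x = 0 →
        χ.symm (Polynomial.C (Ideal.Quotient.mk (Ideal.span ({a} : Set A)) x)) =
          ∑ n ∈ Finset.range N, (((-1 : ℚ) ^ n * (n.factorial : ℚ)⁻¹) • ((((D : A →ₗ[ℚ] A) ^ n) x) * a ^ n))) ∧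
      ∀ p : Polynomial (A ⧸ Ideal.span ({a} : Set A)), χ (D (χ.symm p)) = Polynomial.derivative p := by
  classical
  let c : ℕ → A → A := fun n x => (n.factorial : ℚ)⁻¹ • ((D : A →ₗ[ℚ] A) ^ n) x
  have hc0 : ∀ x, c 0 x = x := fun x => by simp [c]
  have hvan : ∀ x N n, ((D : A →ₗ[ℚ] A) ^ N) x = 0 → N ≤ n → c n x = 0 := by
    intro x N n hN hn
    show _ • _ = _
    rw [← Nat.sub_add_cancel hn, pow_add, Module.End.mul_apply, hN, map_zero, smul_zero]
  have hstep : ∀ n x, c n (D x) = (n + 1 : ℚ) • c (n + 1) x := by
    intro n x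
    show _ • _ = _ • _ • _
    rw [smul_smul, pow_succ, Module.End.mul_apply, Nat.factorial_succ, Nat.cast_mul, mul_inv, Nat.cast_succ,
      ← mul_assoc, mul_inv_cancel₀ (show (n : ℚ) + 1 ≠ 0 by positivity), one_mul]
    rfl
  have hDc : ∀ n x, D (c n x) = (n + 1 : ℚ) • c (n + 1) x := by
    intro n x
    rw [← hstep]
    show D (_ • _) = _ • _
    rw [D.map_smul]
    congr 1
    rw [show D x = (D : A →ₗ[ℚ] A) x from rfl, ← Module.End.mul_apply, ← pow_succ, pow_succ']
    rfl
  let N₀ : A → ℕ := fun x => Nat.find (hnil x)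
  let E : A → Polynomial A := fun x => ∑ n ∈ Finset.range (N₀ x), Polynomial.monomial n (c n x)
  have hE : ∀ x n, (E x).coeff n = c n x := by
    intro x n
    simp only [E, Polynomial.finsetSum_coeff, Polynomial.coeff_monomial, Finset.sum_ite_eq', Finset.mem_range]
    split_ifs with h
    · rfl
    · exact (hvan x _ n (Nat.find_spec (hnil x)) (not_lt.1 h)).symm
  have hadd : ∀ x y, E (x + y) = E x + E y := fun x y => Polynomial.ext fun n => by
    simp [hE, c]
  have hder : ∀ x, Polynomial.derivative (E x) = E (D x) := fun x => Polynomial.ext fun n => by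
    rw [Polynomial.coeff_derivative, hE, hE, hstep, Algebra.smul_def, mul_comm, map_add, map_natCast, map_one]
  have hmul : ∀ x y, E (x * y) = E x * E y := by
    suffices ∀ n x y, c n (x * y) = (E x * E y).coeff n from fun x y => Polynomial.ext fun n => by rw [hE, this]
    intro n
    induction n with
    | zero => intro x y; rw [Polynomial.mul_coeff_zero, hE, hE, hc0, hc0, hc0]
    | succ n ih =>
      intro x y
      have h1 : (Polynomial.derivative (E x * E y)).coeff n = (n + 1 : ℚ) • c (n + 1) (x * y) := by
        rw [Polynomial.derivative_mul, hder, hder, Polynomial.coeff_add, ← ih, ← ih, ← hstep, D.leibniz, smul_eq_mul, smul_eq_mul]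
        show _ = c n (x * D y + y * D x)
        simp only [c, map_add, smul_add]
        rw [mul_comm y (D x)]; ring
      rw [Polynomial.coeff_derivative] at h1
      have h2 : (n + 1 : ℚ) • (E x * E y).coeff (n + 1) = (n + 1 : ℚ) • c (n + 1) (x * y) := by
        rw [← h1, Algebra.smul_def, mul_comm, map_add, map_natCast, map_one]
      exact (smul_right_injective A (show (n : ℚ) + 1 ≠ 0 by positivity) h2).symm
  let Eh : A →+* Polynomial A :=
    { toFun := E
      map_one' := Polynomial.ext fun n => by
        rw [hE]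
        cases n with
        | zero => simp [c]
        | succ n => rw [hvan 1 1 (n + 1) (by simp) (by omega)]; simp [Polynomial.coeff_one]
      map_mul' := hmul
      map_zero' := Polynomial.ext fun n => by simp [hE, c]
      map_add' := hadd }
  let s : A →+* A := (Polynomial.evalRingHom (-a)).comp Eh
  have hs_sum : ∀ x M, ((D : A →ₗ[ℚ] A) ^ M) x = 0 → s x = ∑ n ∈ Finset.range M, c n x * (-a) ^ n := by
    intro x M hM
    show (E x).eval (-a) = _
    rw [Polynomial.eval_eq_sum_range' (n := max M ((E x).natDegree + 1)) (by omega)]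
    simp only [hE]
    exact (Finset.sum_subset (Finset.range_subset_range.2 (le_max_left _ _)) fun n _ hn => by
      rw [hvan x M n hM (not_lt.1 (fun h => hn (Finset.mem_range.2 h))), zero_mul]).symm
  have hEa : E a = Polynomial.C a + Polynomial.X := Polynomial.ext fun n => by
    rw [hE]
    match n with
    | 0 => simp [hc0]
    | 1 =>
      simp [c, Polynomial.coeff_C]
      exact ha
    | n + 2 =>
      rw [hvan a 2 (n + 2) (by rw [pow_succ, pow_one, Module.End.mul_apply]; show D (D a) = 0; rw [ha, D.map_one_eq_zero]) (by omega)]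
      simp [Polynomial.coeff_C, Polynomial.coeff_X]
  have hsa : s a = 0 := by show (E a).eval (-a) = 0; simp [hEa]
  -- derivative of an evaluation
  have hDev : ∀ (P : Polynomial A) (t : A), D (P.eval t) =
      (∑ n ∈ Finset.range (P.natDegree + 1), D (P.coeff n) * t ^ n) + (Polynomial.derivative P).eval t * D t := by
    intro P t
    have h2 : (Polynomial.derivative P).eval t = ∑ n ∈ Finset.range (P.natDegree + 1), P.coeff n * n * t ^ (n - 1) := by
      conv_lhs => rw [P.as_sum_range]
      simp [Polynomial.derivative_monomial, Polynomial.eval_finsetSum]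
    rw [h2, Polynomial.eval_eq_sum_range, map_sum, Finset.sum_mul, ← Finset.sum_add_distrib]
    refine Finset.sum_congr rfl fun n _ => ?_
    rw [D.leibniz, D.leibniz_pow, smul_eq_mul, smul_eq_mul, nsmul_eq_mul, smul_eq_mul]
    ring
  have hEval : ∀ (x t : A), (∑ n ∈ Finset.range ((E x).natDegree + 1), D ((E x).coeff n) * t ^ n) = (E (D x)).eval t := by
    intro x t
    rw [← hder, Polynomial.eval_eq_sum_range' (n := (E x).natDegree + 1) (lt_of_le_of_lt (Polynomial.natDegree_derivative_le _) (by omega))]
    refine Finset.sum_congr rfl fun n _ => ?_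
    rw [Polynomial.coeff_derivative, hE, hE, hDc, Algebra.smul_def, map_add, map_natCast, map_one, mul_comm (c (n + 1) x)]
  have hDs : ∀ x, D (s x) = 0 := fun x => by
    show D ((E x).eval (-a)) = 0
    rw [hDev, hEval, hder, D.map_neg, ha]; ring
  have hss : ∀ x, s (s x) = s x := fun x => by
    have : E (s x) = Polynomial.C (s x) := Polynomial.ext fun n => by
      rw [hE]
      cases n with
      | zero => simp [hc0]
      | succ n => rw [hvan (s x) 1 (n + 1) (by rw [pow_one]; exact hDs x) (by omega)]; simp [Polynomial.coeff_C]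
    show (E (s x)).eval (-a) = _
    rw [this, Polynomial.eval_C]
  let π := Ideal.Quotient.mk (Ideal.span ({a} : Set A))
  have hker : ∀ x ∈ Ideal.span ({a} : Set A), s x = 0 := fun x hx => by
    obtain ⟨y, rfl⟩ := Ideal.mem_span_singleton.1 hx
    rw [map_mul, hsa, zero_mul]
  let s' : A ⧸ Ideal.span ({a} : Set A) →+* A := Ideal.Quotient.lift _ s hker
  have hπs : ∀ x, π (s x) = π x := fun x => by
    have hπa : π a = 0 := Ideal.Quotient.eq_zero_iff_mem.2 (Ideal.mem_span_singleton_self a)
    show π ((E x).eval (-a)) = _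
    rw [Polynomial.eval, Polynomial.hom_eval₂, map_neg, hπa, neg_zero, Polynomial.eval₂_at_zero, hE, hc0]
    rfl
  let χ₀ : A →+* Polynomial (A ⧸ Ideal.span ({a} : Set A)) := (Polynomial.mapRingHom π).comp Eh
  let ψ : Polynomial (A ⧸ Ideal.span ({a} : Set A)) →+* A := Polynomial.eval₂RingHom s' a
  have hψχ : ∀ x, ψ (χ₀ x) = ((E x).map s).eval a := fun x => by
    show Polynomial.eval₂ s' a ((E x).map π) = _
    rw [Polynomial.eval₂_map, Polynomial.eval_map]
    rfl
  have hcomm : ∀ x, D (ψ (χ₀ x)) = ψ (χ₀ (D x)) := fun x => by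
    rw [hψχ, hψχ, hDev, ha, mul_one, Polynomial.derivative_map, hder]
    rw [Finset.sum_eq_zero (fun n _ => by rw [Polynomial.coeff_map, hDs, zero_mul]), zero_add]
  have hsid : ∀ y, D y = 0 → s y = y := fun y hy => by
    rw [hs_sum y 1 (by rw [pow_one]; exact hy), Finset.sum_range_one, hc0, pow_zero, mul_one]
  have hleft : ∀ M x, ((D : A →ₗ[ℚ] A) ^ M) x = 0 → ψ (χ₀ x) = x := by
    intro M
    induction M with
    | zero => intro x hx; rw [pow_zero] at hx; rw [show x = 0 from hx, map_zero, map_zero]
    | succ M ih =>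
      intro x hx
      have hD : D (ψ (χ₀ x) - x) = 0 := by
        rw [D.map_sub, hcomm, ih (D x) (by rw [pow_succ, Module.End.mul_apply] at hx; exact hx), sub_self]
      have hs0 : s (ψ (χ₀ x) - x) = 0 := by
        rw [map_sub, hψχ, Polynomial.eval_map, Polynomial.hom_eval₂, hsa, Polynomial.eval₂_at_zero, hE, hc0]
        simp [hss]
      rw [hsid _ hD] at hs0
      exact sub_eq_zero.1 hs0
  have hright : ∀ q, χ₀ (ψ q) = q := by
    intro q
    have : χ₀.comp ψ = RingHom.id _ := by
      refine Polynomial.ringHom_ext (fun y => ?_) ?_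
      · obtain ⟨x, rfl⟩ := Ideal.Quotient.mk_surjective y
        show (E (Polynomial.eval₂ s' a (Polynomial.C (π x)))).map π = Polynomial.C (π x)
        rw [Polynomial.eval₂_C]
        refine Polynomial.ext fun n => ?_
        rw [Polynomial.coeff_map, hE, show s' (π x) = s x from rfl]
        cases n with
        | zero => rw [hc0, Polynomial.coeff_C_zero]; exact hπs x
        | succ n => rw [hvan (s x) 1 (n + 1) (by rw [pow_one]; exact hDs x) (by omega)]; simp [Polynomial.coeff_C]
      · show (E (Polynomial.eval₂ s' a Polynomial.X)).map π = Polynomial.X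
        rw [Polynomial.eval₂_X, hEa]
        simp [show π a = 0 from Ideal.Quotient.eq_zero_iff_mem.2 (Ideal.mem_span_singleton_self a)]
    exact congrArg (fun f : Polynomial (A ⧸ Ideal.span ({a} : Set A)) →+* _ => f q) this
  refine ⟨RingEquiv.ofRingHom χ₀ ψ (RingHom.ext hright) (RingHom.ext fun x => hleft _ x (Nat.find_spec (hnil x))), ?_, ?_, ?_, ?_⟩
  · intro x M hM
    show (E x).map π = _
    refine Polynomial.ext fun n => ?_
    rw [Polynomial.coeff_map, hE, Polynomial.finsetSum_coeff]
    simp only [smul_mul_assoc, Polynomial.coeff_smul, Polynomial.coeff_C_mul_X_pow, smul_ite, smul_zero, Finset.sum_ite_eq, Finset.mem_range]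
    split_ifs with h
    · exact map_rat_smul π _ _
    · rw [hvan x M n hM (not_lt.1 h), map_zero]
  · show Polynomial.eval₂ s' a Polynomial.X = a
    rw [Polynomial.eval₂_X]
  · intro x M hM
    show Polynomial.eval₂ s' a (Polynomial.C (π x)) = _
    rw [Polynomial.eval₂_C, show s' (π x) = s x from rfl, hs_sum x M hM]
    refine Finset.sum_congr rfl fun n _ => ?_
    rw [neg_pow a]
    simp only [c, Algebra.smul_def, map_mul, map_pow, map_neg, map_one]
    ring
  · intro p
    obtain ⟨x, rfl⟩ : ∃ x, χ₀ x = p := ⟨ψ p, hright p⟩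
    show χ₀ (D (ψ (χ₀ x))) = Polynomial.derivative (χ₀ x)
    rw [hleft _ x (Nat.find_spec (hnil x))]
    show (E (D x)).map π = Polynomial.derivative ((E x).map π)
    rw [Polynomial.derivative_map, hder]

end Groth.Agent.S18974
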