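import Groth.Statements.S18976
import Groth.Agent.AlgGrpLib.AssociatedBundle
import Groth.Agent.S18975

set_option autoImplicit false
set_option backward.isDefEq.respectTransparency.types false
universe u
open CategoryTheory MonoidalCategory CartesianMonoidalCategory MonObj AlgebraicGeometry
open GIT

namespace Groth.Agent.S18976

/-- The associated fibre bundle exists. Over an algebraically closed field k of characteristic zero, let
G be an affine group scheme of finite type over k acting on a k-scheme X, let φ : X → Y be a
G-torsor over Y (the square formed by the action, the second projection and φ twice is cartesian,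
and φ acquires sections on the members of some fpqc covering family of Y), and let G act on an
affine k-scheme F. Give X ×_k F the diagonal action. Then there are a k-scheme Q with a morphism to
Y and a morphism q : X ×_k F → Q compatible with the projection to Y such that q is a G-torsor over
Q in the same sense; moreover q is affine and a geometric quotient. (The source writes the torsor
with a right action and lets g act on X × F by (x g⁻¹, g f); with the left action g x := x g⁻¹ this
is the diagonal action used here. The last assertion of the source, on the case where F is a larger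
affine group containing G, is not part of this row.) -/
theorem result
    (k : Type u) [Field k] [IsAlgClosed k] [CharZero k]
    (G X Y F : Over (Spec (CommRingCat.of k))) [GrpObj G] [IsAffine G.left] [LocallyOfFiniteType G.hom]
    (a : AlgGrp.Action G X) (φ : X ⟶ Y)
    (hcart : IsPullback a.act (snd G X) φ φ)
    (hloc : NonAbH1.IsLocallyTrivialFor Scheme.fpqcPrecoverage (Over.mk φ.left : Over Y.left))
    [IsAffine F.left] (b : AlgGrp.Action G F) :
    ∃ (Q : Over (Spec (CommRingCat.of k))) (q : X ⊗ F ⟶ Q) (r : Q ⟶ Y),
      q ≫ r = fst X F ≫ φ ∧
      IsPullback (a.prod b).act (snd G (X ⊗ F)) q q ∧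
      NonAbH1.IsLocallyTrivialFor Scheme.fpqcPrecoverage (Over.mk q.left : Over Q.left) ∧
      IsAffineHom q.left ∧ GIT.IsGeomQuot (a.prod b) q := by
  have hsq : IsPullback a.act.left (snd G X).left φ.left φ.left := (Over.forget _).map_isPullback hcart
  obtain ⟨hA, hgq⟩ := Groth.Agent.S18975.result k G X Y a φ hcart hloc
  haveI := hA
  obtain ⟨R, hR, hsec⟩ := hloc
  obtain ⟨I, Z, g, rfl⟩ := R.exists_eq_ofArrows
  let 𝒰 : Scheme.Cover Scheme.fpqcPrecoverage Y.left := ⟨⟨I, Z, g⟩, hR⟩
  have desc : ∀ (P : MorphismProperty Scheme.{u}) [P.IsStableUnderBaseChange] [P.RespectsIso] [IsZariskiLocalAtTarget P],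
      P.DescendsAlong (@Surjective ⊓ @Flat ⊓ @QuasiCompact : MorphismProperty Scheme.{u}) → P (snd G X).left → P φ.left := by
    intro P _ _ _ hP hsnd
    refine Groth.Agent.Desc19b.of_fpqcCover P hP φ.left 𝒰 fun i => ?_
    obtain ⟨σ, hσ⟩ := hsec (g i) ⟨i⟩
    have h := (IsPullback.of_hasPullback (snd G X).left σ).paste_horiz hsq
    have hσ' : σ ≫ φ.left = g i := hσ
    rw [hσ'] at h
    change P (Limits.pullback.snd φ.left (g i))
    rw [← h.isoPullback_inv_snd, MorphismProperty.cancel_left_of_respectsIso P]
    exact MorphismProperty.pullback_snd _ _ hsnd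
  haveI : Flat φ.left := desc @Flat Groth.Agent.AlgSpLib.descends_flat
    (MorphismProperty.pullback_snd (P := @Flat) G.hom X.hom inferInstance)
  haveI : Surjective φ.left := ⟨hgq.surj⟩
  obtain ⟨W, q, r, hinv, hp, -⟩ := Groth.Agent.AlgGrpLib.AssociatedBundle.exists_bundle a φ hsq b
  haveI : Flat q.left := MorphismProperty.of_isPullback (P := @Flat) hp inferInstance
  haveI : Surjective q.left := MorphismProperty.of_isPullback (P := @Surjective) hp inferInstance
  haveI : IsAffineHom q.left := MorphismProperty.of_isPullback (P := @IsAffineHom) hp inferInstance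
  have hc := Groth.Agent.AlgGrpLib.AssociatedBundle.isPullback_prod a φ hsq b q r hinv hp
  exact ⟨W, q, r, Over.OverMorphism.ext hp.w.symm, hc,
    Groth.Agent.AlgGrpLib.AssociatedBundle.isLocallyTrivialFor_self q.left, inferInstance,
    Groth.Agent.AlgGrpLib.TorsorQuot.isGeomQuot_of_torsor (a.prod b) q hinv ((Over.forget _).map_isPullback hc)⟩

end Groth.Agent.S18976
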