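import Groth.Statements.S18977
import Groth.Agent.Stk19b.Quot.Basic
import Groth.Agent.SGA3cLib.ActionPoints
import Mathlib.AlgebraicGeometry.Sites.Fpqc

set_option autoImplicit false
universe u
open CategoryTheory MonoidalCategory CartesianMonoidalCategory MonObj AlgebraicGeometry
open GIT

namespace Groth.Agent.S18977
open Groth.Agent.SGA3cLib

/-- Composition of torsors. Over an algebraically closed field k of characteristic zero, let G be an
affine group scheme of finite type over k, N a closed normal subgroup scheme which is the kernel of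
a homomorphism q : G → Q, and H a closed subgroup scheme of G which q maps isomorphically onto Q (so
G is the inner semidirect product N H). Let G act on a k-scheme X and let φ₁ : X → Y be a torsor
over Y under the restricted action of N (the square formed by the N-action, the second projection
and φ₁ twice is cartesian, and φ₁ acquires sections on the members of some fpqc covering family of
Y); let Q act on Y so that φ₁ is equivariant along q, and let φ₂ : Y → Z be a Q-torsor over Z in the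
same sense. Then φ₂ ∘ φ₁ is a G-torsor over Z: the square formed by the G-action, the second
projection and φ₂ ∘ φ₁ twice is cartesian, and φ₂ ∘ φ₁ acquires sections fpqc-locally on Z. (The
induced action of the factor group on Y is taken as a datum together with the equivariance of φ₁;
the source's second assertion, that the composite of trivial torsors is trivial, amounts to
composing sections and is not restated.) -/
theorem result
    (k : Type u) [Field k] [IsAlgClosed k] [CharZero k]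
    (G N Q H X Y Z : Over (Spec (CommRingCat.of k))) [GrpObj G] [GrpObj N] [GrpObj Q] [GrpObj H]
    [IsAffine G.left] [LocallyOfFiniteType G.hom]
    (iN : N ⟶ G) [IsMonHom iN] [IsClosedImmersion iN.left] (hnorm : AlgGrp.IsNormalHom iN)
    (q : G ⟶ Q) [IsMonHom q] (hker : AlgGrp.IsKernel iN q)
    (iH : H ⟶ G) [IsMonHom iH] [IsClosedImmersion iH.left] [IsIso (iH ≫ q)]
    (a : AlgGrp.Action G X) (φ₁ : X ⟶ Y)
    (h₁ : IsPullback (a.restrict iN).act (snd N X) φ₁ φ₁)
    (h₁loc : NonAbH1.IsLocallyTrivialFor Scheme.fpqcPrecoverage (Over.mk φ₁.left : Over Y.left))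
    (aY : AlgGrp.Action Q Y) (hequiv : (q ⊗ₘ φ₁) ≫ aY.act = a.act ≫ φ₁)
    (φ₂ : Y ⟶ Z) (h₂ : IsPullback aY.act (snd Q Y) φ₂ φ₂)
    (h₂loc : NonAbH1.IsLocallyTrivialFor Scheme.fpqcPrecoverage (Over.mk φ₂.left : Over Z.left)) :
    IsPullback a.act (snd G X) (φ₁ ≫ φ₂) (φ₁ ≫ φ₂) ∧
      NonAbH1.IsLocallyTrivialFor Scheme.fpqcPrecoverage (Over.mk (φ₁ ≫ φ₂).left : Over Z.left) := by
  have hres : ∀ {T : Over (Spec (CommRingCat.of k))} (n : T ⟶ N) (x : T ⟶ X),
      lift n x ≫ (a.restrict iN).act = smulPt a (n ≫ iN) x := fun n x => by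
    simp [AlgGrp.Action.restrict, smulPt, lift_whiskerRight_assoc]
  have heq : ∀ {T : Over (Spec (CommRingCat.of k))} (g : T ⟶ G) (x : T ⟶ X),
      smulPt a g x ≫ φ₁ = smulPt aY (g ≫ q) (x ≫ φ₁) := fun g x => by
    rw [smulPt, Category.assoc, ← hequiv, lift_map_assoc]
    rfl
  constructor
  · have hw : a.act ≫ φ₁ ≫ φ₂ = snd G X ≫ φ₁ ≫ φ₂ := by
      rw [← reassoc_of% hequiv, h₂.w, tensorHom_snd_assoc]
    refine Groth.Agent.Stk19b.Quot.isPullback_of_existsUnique a _ hw fun p p' hp => ?_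
    obtain ⟨ρ, hρ1, hρ2⟩ : ∃ ρ, smulPt aY ρ (p ≫ φ₁) = p' ≫ φ₁ ∧
        ∀ r, smulPt aY r (p ≫ φ₁) = p' ≫ φ₁ → r = ρ := by
      have hc : (p' ≫ φ₁) ≫ φ₂ = (p ≫ φ₁) ≫ φ₂ := by simpa only [Category.assoc] using hp
      refine ⟨h₂.lift _ _ hc ≫ fst Q Y, ?_, fun r hr => ?_⟩
      · have h' := h₂.lift_snd _ _ hc
        conv_lhs => arg 3; rw [← h']
        rw [smulPt, ← comp_lift, lift_fst_snd, Category.comp_id, h₂.lift_fst]
      · have : lift r (p ≫ φ₁) = h₂.lift _ _ hc :=
          h₂.hom_ext (by rw [h₂.lift_fst]; exact hr) (by rw [h₂.lift_snd, lift_snd])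
        rw [← this, lift_fst]
    let h : _ ⟶ G := ρ ≫ inv (iH ≫ q) ≫ iH
    have hhq : h ≫ q = ρ := by simp [h]
    have hc1 : p' ≫ φ₁ = smulPt a h p ≫ φ₁ := by rw [heq, hhq, hρ1]
    let n := h₁.lift p' (smulPt a h p) hc1 ≫ fst N X
    have hn : smulPt a (n ≫ iN) (smulPt a h p) = p' := by
      rw [← hres]
      conv_lhs => arg 1; arg 2; rw [← h₁.lift_snd p' (smulPt a h p) hc1]
      rw [← comp_lift, lift_fst_snd, Category.comp_id, h₁.lift_fst]
    refine ⟨n ≫ iN * h, ?_, fun g hg => ?_⟩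
    · change smulPt a (n ≫ iN * h) p = p'
      rw [mul_smulPt, hn]
    · have hg' : smulPt a g p = p' := hg
      have hgq : g ≫ q = ρ := hρ2 _ (by rw [← heq, hg'])
      have hker' : (g * h⁻¹) ≫ q = toUnit _ ≫ η[Q] := by
        rw [MonObj.mul_comp, GrpObj.inv_comp, hgq, hhq, mul_inv_cancel, Hom.one_def]
      let n' := hker.lift (g * h⁻¹) (toUnit _) hker'
      have hn' : n' ≫ iN = g * h⁻¹ := hker.lift_fst _ _ _
      have e : lift n' (smulPt a h p) = h₁.lift p' (smulPt a h p) hc1 :=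
        h₁.hom_ext (by rw [h₁.lift_fst, hres, hn', ← mul_smulPt, inv_mul_cancel_right, hg'])
          (by rw [h₁.lift_snd, lift_snd])
      have : n' = n := by
        simp only [n, ← e, lift_fst]
      rw [← this, hn', inv_mul_cancel_right]
  · obtain ⟨R₂, hR₂, hsec₂⟩ := h₂loc
    obtain ⟨R₁, hR₁, hsec₁⟩ := h₁loc
    obtain ⟨I, S₂, g₂, rfl⟩ := R₂.exists_eq_ofArrows
    obtain ⟨J, S₁, g₁, rfl⟩ := R₁.exists_eq_ofArrows
    choose σ hσ using fun i => hsec₂ (g₂ i) ⟨i⟩
    choose τ hτ using fun j => hsec₁ (g₁ j) ⟨j⟩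
    refine ⟨Presieve.ofArrows (fun p : Σ _ : I, J => Limits.pullback (σ p.1) (g₁ p.2))
        (fun p => Limits.pullback.fst (σ p.1) (g₁ p.2) ≫ g₂ p.1),
      Precoverage.comp_mem_coverings (J := Scheme.fpqcPrecoverage) g₂ hR₂ (σ := fun _ => J)
        (fun i j => Limits.pullback.fst (σ i) (g₁ j))
        (fun i => Precoverage.mem_coverings_of_isPullback g₁ hR₁ (σ i) _
          (fun j => Limits.pullback.snd (σ i) (g₁ j)) fun j => IsPullback.of_hasPullback _ _), ?_⟩
    rintro S' f ⟨⟨i, j⟩⟩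
    refine ⟨Limits.pullback.snd (σ i) (g₁ j) ≫ τ j, ?_⟩
    have h1 : τ j ≫ φ₁.left = g₁ j := hτ j
    have h2 : σ i ≫ φ₂.left = g₂ i := hσ i
    change (_ ≫ τ j) ≫ φ₁.left ≫ φ₂.left = _
    rw [Category.assoc, reassoc_of% h1, ← Limits.pullback.condition_assoc, h2]

end Groth.Agent.S18977
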