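import Groth.Statements.S18978
import Groth.Agent.AlgGrpLib.TorsorQuot
import Groth.Agent.Desc19b.CoverLocal
import Groth.Agent.Et18.Descent
import Groth.Agent.AlgSpLib.FppfLocal
import Groth.Agent.NRGIT26.StabFinite
import Groth.Agent.NRGIT26.OrbitQuot

set_option autoImplicit false
set_option backward.isDefEq.respectTransparency.types false
universe u
open CategoryTheory MonoidalCategory CartesianMonoidalCategory MonObj AlgebraicGeometry
open GIT

namespace Groth.Agent.S18978

/-- Over an algebraically closed field k of characteristic zero, let G be an affine group scheme of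
finite type over k with a closed normal subgroup scheme N, the kernel of a surjective homomorphism q
: G → H onto an affine group scheme H of finite type over k (the factor group G/N). Let G act on a
separated k-scheme X of finite type, let φ : X → Y be a torsor over Y under the restricted action of
N (cartesian action square, sections on the members of some fpqc covering family of Y), and let H
act on Y so that φ is equivariant along q. Then for every geometric point x of X (a point with
values in an algebraically closed field Ω) with image y in Y: the G-orbit of x is closed in X_Ω and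
the stabiliser of x in G is finite if and only if the H-orbit of y is closed in Y_Ω and the
stabiliser of y in H is finite. (The induced action of the factor group on Y is taken as a datum
together with the equivariance of φ; the points of the published statement are rendered as geometric
points.) -/
theorem result
    (k : Type u) [Field k] [IsAlgClosed k] [CharZero k]
    (G N H X Y : Over (Spec (CommRingCat.of k))) [GrpObj G] [GrpObj N] [GrpObj H]
    [IsAffine G.left] [LocallyOfFiniteType G.hom]
    (iN : N ⟶ G) [IsMonHom iN] [IsClosedImmersion iN.left] (hnorm : AlgGrp.IsNormalHom iN)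
    (q : G ⟶ H) [IsMonHom q] [Surjective q.left] [IsAffine H.left] [LocallyOfFiniteType H.hom]
    (hker : AlgGrp.IsKernel iN q)
    [LocallyOfFiniteType X.hom] [QuasiCompact X.hom] [IsSeparated X.hom]
    (a : AlgGrp.Action G X) (φ : X ⟶ Y)
    (hcart : IsPullback (a.restrict iN).act (snd N X) φ φ)
    (hloc : NonAbH1.IsLocallyTrivialFor Scheme.fpqcPrecoverage (Over.mk φ.left : Over Y.left))
    (aY : AlgGrp.Action H Y) (hequiv : (q ⊗ₘ φ) ≫ aY.act = a.act ≫ φ)
    (Ω : Type u) [Field Ω] [IsAlgClosed Ω] (P : Over (Spec (CommRingCat.of k)))
    (e : P.left ≅ Spec (CommRingCat.of Ω)) (x : P ⟶ X) :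
    (IsClosed (Set.range (GIT.psi a x).left.base) ∧ IsFinite (GLinSh.stabTo a x)) ↔
      (IsClosed (Set.range (GIT.psi aY (x ≫ φ)).left.base) ∧ IsFinite (GLinSh.stabTo aY (x ≫ φ))) := by
  have : IsAffine N.left := isAffine_of_isAffineHom iN.left
  have : LocallyOfFiniteType N.hom := by
    rw [← Over.w iN]; infer_instance
  have hsq : IsPullback (a.restrict iN).act.left (snd N X).left φ.left φ.left := (Over.forget _).map_isPullback hcart
  obtain ⟨R, hR, hsec⟩ := hloc
  obtain ⟨I, Z, g, rfl⟩ := R.exists_eq_ofArrows
  let 𝒰 : Scheme.Cover Scheme.fpqcPrecoverage Y.left := ⟨⟨I, Z, g⟩, hR⟩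
  have desc : ∀ (P : MorphismProperty Scheme.{u}) [P.IsStableUnderBaseChange] [P.RespectsIso] [IsZariskiLocalAtTarget P],
      P.DescendsAlong (@Surjective ⊓ @Flat ⊓ @QuasiCompact : MorphismProperty Scheme.{u}) → P (snd N X).left → P φ.left := by
    intro P _ _ _ hP hsnd
    refine Groth.Agent.Desc19b.of_fpqcCover P hP φ.left 𝒰 fun i => ?_
    obtain ⟨σ, hσ⟩ := hsec (g i) ⟨i⟩
    have h := (IsPullback.of_hasPullback (snd N X).left σ).paste_horiz hsq
    have hσ' : σ ≫ φ.left = g i := hσ
    rw [hσ'] at h
    change P (Limits.pullback.snd φ.left (g i))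
    rw [← h.isoPullback_inv_snd, MorphismProperty.cancel_left_of_respectsIso P]
    exact MorphismProperty.pullback_snd _ _ hsnd
  haveI hflatG : Flat N.hom := inferInstance
  haveI : IsAffineHom N.hom := inferInstance
  haveI : Surjective N.hom := ⟨fun x => ⟨η[N].left.base x, by
    have h := congrArg (fun t => t.base x) (Over.w η[N])
    exact h⟩⟩
  haveI hA : IsAffineHom φ.left := desc @IsAffineHom Groth.Agent.Et18.descends_isAffineHom
    (MorphismProperty.pullback_snd (P := @IsAffineHom) N.hom X.hom inferInstance)
  haveI : Flat φ.left := desc @Flat Groth.Agent.AlgSpLib.descends_flat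
    (MorphismProperty.pullback_snd (P := @Flat) N.hom X.hom hflatG)
  haveI : Surjective φ.left := desc @Surjective inferInstance
    (MorphismProperty.pullback_snd (P := @Surjective) N.hom X.hom inferInstance)
  have hπ := Groth.Agent.AlgGrpLib.TorsorQuot.isGeomQuot_of_torsor (a.restrict iN) φ hcart.w hsq
  haveI : LocallyOfFiniteType q.left := by
    haveI : LocallyOfFiniteType (q.left ≫ H.hom) := by rw [Over.w q]; infer_instance
    exact locallyOfFiniteType_of_comp q.left H.hom
  haveI : Finite {n : P ⟶ N // lift n x ≫ (a.restrict iN).act = x} := by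
    have : Subsingleton {n : P ⟶ N // lift n x ≫ (a.restrict iN).act = x} := ⟨fun n m => Subtype.ext (by
      have h := hcart.hom_ext (k := lift n.1 x) (l := lift m.1 x) (n.2.trans m.2.symm) (by simp)
      simpa using congrArg (· ≫ fst N X) h)⟩
    infer_instance
  rw [Groth.Agent.NRGIT26.isFinite_stabTo_iff a x e, Groth.Agent.NRGIT26.isFinite_stabTo_iff aY (x ≫ φ) e,
    ← Groth.Agent.NRGIT26.isClosed_iff iN q a (a.restrict iN) rfl φ hπ aY hequiv x,
    ← Groth.Agent.NRGIT26.finite_stab_quotient_iff iN q hker a (a.restrict iN) rfl φ hπ aY hequiv e x]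

end Groth.Agent.S18978
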