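import Groth.Statements.S18982
import Groth.Agent.GQuot15.Basic
import Groth.Agent.S5443
import Groth.Agent.AlgGrpLib.UnipotentPowers
import Groth.Agent.AGFQuot23.Proper
-- import your own Groth.Agent.* helpers here

set_option autoImplicit false
set_option backward.isDefEq.respectTransparency.types false
universe u
open CategoryTheory MonoidalCategory CartesianMonoidalCategory MonObj AlgebraicGeometry Topology
open NRQuot

namespace Groth.Agent.S18982

/-- Fix an algebraically closed field k with characteristic zero. Suppose G is a unipotent group,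
meaning an affine, smooth, connected group scheme of finite type over k with no non-trivial
subtorus, and that G acts on a finite-type k-scheme X. Assume φ : X → Y is a good quotient (φ is
affine and invariant; for each open subset of Y, its functions are precisely the invariant functions
on the preimage; images of invariant closed subsets are closed; and taking images commutes with
intersecting families of invariant closed subsets), where Y is a finite-type k-scheme. Then φ is in
fact a geometric quotient, i.e. its fibres are orbits, which on k-points says: whenever two k-points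
of X map to the same point of Y, some k-point of G carries one onto the other. (Unipotence is
encoded as the absence of a non-trivial subtorus; for smooth connected groups over k the two notions
agree.) -/
theorem result
    (k : Type u) [Field k] [IsAlgClosed k] [CharZero k]
    (G X Y : Over (Spec (CommRingCat.of k))) [GrpObj G] [IsAffine G.left] [LocallyOfFiniteType G.hom]
    [Smooth G.hom] [ConnectedSpace G.left] (hG : Red.HasNoSubtorus k G)
    [LocallyOfFiniteType X.hom] [QuasiCompact X.hom] [LocallyOfFiniteType Y.hom] [QuasiCompact Y.hom]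
    (a : AlgGrp.Action G X) (φ : X ⟶ Y) (h : NRQuot.IsGoodQuot a φ)
    (x₁ x₂ : 𝟙_ (Over (Spec (CommRingCat.of k))) ⟶ X) (hφ : x₁ ≫ φ = x₂ ≫ φ) :
    ∃ g : 𝟙_ (Over (Spec (CommRingCat.of k))) ⟶ G, lift g x₁ ≫ a.act = x₂ := by
  suffices hcl : ∀ x : 𝟙_ (Over (Spec (CommRingCat.of k))) ⟶ X,
      IsClosed (Set.range (a.orbitMap x).left.base) from
    GQuot15.exists_kpt_of_closed h x₁ x₂ hφ (hcl x₁) (hcl x₂)
  intro x
  obtain ⟨V, hV, hyV, -⟩ := exists_isAffineOpen_mem_and_subset (X := Y.left) (U := ⊤)
    (x := GQuot15.ptv (x ≫ φ)) trivial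
  haveI : IsAffineHom φ.left := h.affine
  let W : X.left.Opens := φ.left ⁻¹ᵁ V
  haveI hW : IsAffine (W : Scheme.{u}) := hV.preimage φ.left
  let X₀ : Over (Spec (CommRingCat.of k)) := Over.mk (W.ι ≫ X.hom)
  let j : X₀ ⟶ X := Over.homMk W.ι rfl
  haveI : IsOpenImmersion j.left := inferInstanceAs (IsOpenImmersion W.ι)
  haveI : Mono j := (Over.forget _).mono_of_mono_map (inferInstanceAs (Mono W.ι))
  let Φ : G ⊗ X₀ ⟶ X := (G ◁ j) ≫ a.act
  have hr : Set.range Φ.left.base ⊆ Set.range j.left.base := by
    rintro _ ⟨p, rfl⟩
    show Φ.left.base p ∈ Set.range W.ι.base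
    rw [Scheme.Opens.range_ι]
    have e : Φ ≫ φ = snd G X₀ ≫ j ≫ φ := by
      show ((G ◁ j) ≫ a.act) ≫ φ = _
      rw [Category.assoc, h.inv, whiskerLeft_snd_assoc]
    show φ.left.base (Φ.left.base p) ∈ V
    have e' := congrArg (fun f : G ⊗ X₀ ⟶ Y => f.left.base p) e
    rw [show φ.left.base (Φ.left.base p) = φ.left.base (j.left.base ((snd G X₀).left.base p)) from e']
    exact (((snd G X₀).left.base p) : W).2
  let act₀ : G ⊗ X₀ ⟶ X₀ := Over.homMk (IsOpenImmersion.lift j.left Φ.left hr) (by
    show _ ≫ X₀.hom = _
    rw [← Over.w j, IsOpenImmersion.lift_fac_assoc]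
    exact Over.w Φ)
  have hact : act₀ ≫ j = Φ := Over.OverMorphism.ext (IsOpenImmersion.lift_fac _ _ _)
  let a₀ : AlgGrp.Action G X₀ :=
    { act := act₀
      one_act := by
        rw [← cancel_mono j, Category.assoc, hact]
        show _ ≫ (G ◁ j) ≫ a.act = _
        rw [← whisker_exchange_assoc, a.one_act]
        simp
      mul_act := by
        rw [← cancel_mono j, Category.assoc, hact]
        show _ ≫ (G ◁ j) ≫ a.act = _
        rw [← whisker_exchange_assoc, a.mul_act, Category.assoc, Category.assoc, hact,
          ← MonoidalCategory.whiskerLeft_comp_assoc, hact, MonoidalCategory.whiskerLeft_comp_assoc,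
          associator_naturality_right_assoc] }
  obtain ⟨A, _, _, e, he, hem⟩ := HopfQuot.exists_spec (k := k) G
  haveI := he
  haveI := hem
  haveI := UnipStruct.finiteType_of_iso e
  have hU := AlgGrpLib.NoTorus.isUnipotent_of_hasNoSubtorus hG e
  have hx : Set.range x.left.base ⊆ Set.range j.left.base := by
    rintro _ ⟨t, rfl⟩
    show x.left.base t ∈ Set.range W.ι.base
    rw [Scheme.Opens.range_ι, GQuot15.apply_eq_ptv x t]
    exact hyV
  let x₀ : 𝟙_ (Over (Spec (CommRingCat.of k))) ⟶ X₀ := Over.homMk (IsOpenImmersion.lift j.left x.left hx) (by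
    show _ ≫ X₀.hom = _
    rw [← Over.w j, IsOpenImmersion.lift_fac_assoc]
    exact Over.w x)
  have hx₀ : x₀ ≫ j = x := Over.OverMorphism.ext (IsOpenImmersion.lift_fac _ _ _)
  let a' := AGFQuot23.restrictAction a₀ e
  have hqa : Mor2.IsQuasiAffine X₀.hom := by
    haveI : IsAffine X₀.left := hW
    haveI : IsAffineHom X₀.hom := inferInstance
    refine ⟨inferInstance, fun V hV => ?_⟩
    haveI : IsAffine (X₀.hom ⁻¹ᵁ V : Scheme.{u}) := hV.preimage X₀.hom
    infer_instance
  haveI : LocallyOfFiniteType X₀.hom := inferInstanceAs (LocallyOfFiniteType (W.ι ≫ X.hom))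
  have hc := S5443.result k A hU X₀ hqa a' x₀
  haveI : IsIso e.left := inferInstanceAs (IsIso ((Over.forget _).map e))
  have horb : a'.orbitMap x₀ ≫ j = e ≫ a.orbitMap x := by
    simp only [AlgGrp.Action.orbitMap, Category.assoc, a', AGFQuot23.restrictAction, a₀, hact, Φ]
    rw [lift_whiskerRight_assoc, lift_whiskerLeft_assoc, comp_lift_assoc, Category.assoc, hx₀,
      Category.id_comp, Category.comp_id, ← Category.assoc e (toUnit G),
      toUnit_unique (e ≫ toUnit G) (toUnit _)]
  have hrange : Set.range (a.orbitMap x).left.base = j.left.base '' Set.range (a'.orbitMap x₀).left.base := by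
    rw [← Set.range_comp, ← TopCat.coe_comp, ← Scheme.Hom.comp_base, ← Over.comp_left, horb, Over.comp_left,
      Scheme.Hom.comp_base, TopCat.coe_comp,
      Function.Surjective.range_comp e.left.surjective]
  rw [hrange]
  refine isClosed_of_closure_subset fun z hz => ?_
  have hzW : z ∈ Set.range j.left.base := by
    show z ∈ Set.range W.ι.base
    rw [Scheme.Opens.range_ι]
    show φ.left.base z ∈ V
    rw [GQuot15.apply_closure_orbit h.inv x (show z ∈ closure (Set.range (a.orbitMap x).left.base) by rw [hrange]; exact hz)]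
    exact hyV
  obtain ⟨w, rfl⟩ := hzW
  exact ⟨w, hc.closure_subset ((j.left.isOpenEmbedding.isInducing.closure_eq_preimage_closure_image _).symm ▸ hz), rfl⟩

end Groth.Agent.S18982
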