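import Groth.Statements.S18983
import Mathlib
-- import your own Groth.Agent.* helpers here

set_option autoImplicit false
universe u v w
open CAlg

namespace Groth.Agent.S18983

/-- Let k be a field, Λ an additive commutative group, V a finite-dimensional k-vector space which is
the internal direct sum of subspaces V_μ indexed by Λ (a representation of a torus with character
group Λ), and A a nilpotent endomorphism of V mapping each V_μ into V_{μ+χ} for a fixed χ (the
infinitesimal generator of an action of the additive group on which the torus acts through the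
character χ). Then V has a basis consisting of homogeneous vectors e_{i,l}, 0 ≤ l ≤ n_i, with A
e_{i,0} = 0 and A e_{i,l+1} = e_{i,l}: a weight basis bringing A into Jordan normal form. (The
source states this, over an algebraically closed field of characteristic zero, as a decomposition of
every representation of the semidirect product of the additive group with a torus into twists of
symmetric powers of the standard two-dimensional representation by characters; the first line of its
proof reduces that to the present statement, which is what is proved, and which holds over any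
field.) -/
theorem result
    (k : Type u) [Field k] (Λ : Type v) [AddCommGroup Λ] [DecidableEq Λ]
    (V : Type w) [AddCommGroup V] [Module k V] [FiniteDimensional k V]
    (𝒱 : Λ → Submodule k V) (h𝒱 : DirectSum.IsInternal 𝒱)
    (A : Module.End k V) (hA : IsNilpotent A) (χ : Λ)
    (hhom : ∀ (μ : Λ) (v : V), v ∈ 𝒱 μ → A v ∈ 𝒱 (μ + χ)) :
    ∃ (ι : Type w) (_ : Finite ι) (n : ι → ℕ) (b : Module.Basis (Σ i : ι, Fin (n i + 1)) k V),
      (∀ (i : ι) (l : Fin (n i + 1)), ∃ μ : Λ, b ⟨i, l⟩ ∈ 𝒱 μ) ∧
      (∀ i : ι, A (b ⟨i, 0⟩) = 0) ∧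
      ∀ (i : ι) (l : Fin (n i)), A (b ⟨i, l.succ⟩) = b ⟨i, l.castSucc⟩ := by
  classical
  have : ∀ d : ℕ, ∀ W : Submodule k V, Module.finrank k W ≤ d → (∀ x ∈ W, A x ∈ W) → (W ≤ ⨆ μ, W ⊓ 𝒱 μ) →
      ∃ (ι : Type w) (_ : Fintype ι) (n : ι → ℕ) (e : (Σ i : ι, Fin (n i + 1)) → V),
        LinearIndependent k e ∧ Submodule.span k (Set.range e) = W ∧
        (∀ (i : ι) (l : Fin (n i + 1)), ∃ μ : Λ, e ⟨i, l⟩ ∈ 𝒱 μ) ∧
        (∀ i : ι, A (e ⟨i, 0⟩) = 0) ∧
        ∀ (i : ι) (l : Fin (n i)), A (e ⟨i, l.succ⟩) = e ⟨i, l.castSucc⟩ := by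
    intro d
    induction d with
    | zero =>
      intro W hW _ _
      refine ⟨PEmpty, inferInstance, PEmpty.elim, fun s => s.1.elim, linearIndependent_empty_type, ?_,
        fun i => i.elim, fun i => i.elim, fun i => i.elim⟩
      rw [Submodule.finrank_eq_zero.1 (Nat.le_zero.1 hW), Set.range_eq_empty, Submodule.span_empty]
    | succ d ih =>
      intro W hW hinv hgr
      by_cases hW0 : W = ⊥
      · refine ⟨PEmpty, inferInstance, PEmpty.elim, fun s => s.1.elim, linearIndependent_empty_type, ?_,
          fun i => i.elim, fun i => i.elim, fun i => i.elim⟩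
        rw [hW0, Set.range_eq_empty, Submodule.span_empty]
      have hex : ∃ N, ∀ x ∈ W, (A ^ N) x = 0 := by
        obtain ⟨N, hN⟩ := hA
        exact ⟨N, fun x _ => by rw [hN]; rfl⟩
      obtain ⟨n, hn⟩ : ∃ n, Nat.find hex = n + 1 := by
        refine Nat.exists_eq_succ_of_ne_zero fun h => hW0 ?_
        have := Nat.find_spec hex
        rw [h] at this
        exact (Submodule.eq_bot_iff W).2 fun x hx => by simpa using this x hx
      have htop : ∀ x ∈ W, (A ^ (n + 1)) x = 0 := hn ▸ Nat.find_spec hex
      have hkill : ∀ x ∈ W, ∀ m, n + 1 ≤ m → (A ^ m) x = 0 := by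
        intro x hx m hm
        obtain ⟨c, rfl⟩ := Nat.exists_eq_add_of_le hm
        rw [add_comm, pow_add, Module.End.mul_apply, htop x hx, map_zero]
      obtain ⟨μ, v, hvW, hvμ, hv⟩ : ∃ μ, ∃ v ∈ W, v ∈ 𝒱 μ ∧ (A ^ n) v ≠ 0 := by
        by_contra h
        push Not at h
        refine Nat.find_min hex (m := n) (by omega) ?_
        intro x hx
        have : (⨆ μ, W ⊓ 𝒱 μ) ≤ LinearMap.ker (A ^ n) := iSup_le fun μ y hy => h μ y hy.1 hy.2
        exact this (hgr hx)
      have hpow : ∀ (m : ℕ) (ν : Λ) (x : V), x ∈ 𝒱 ν → (A ^ m) x ∈ 𝒱 (ν + m • χ) := by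
        intro m
        induction m with
        | zero => intro ν x hx; simpa using hx
        | succ m ihm =>
          intro ν x hx
          rw [pow_succ', Module.End.mul_apply, succ_nsmul, ← add_assoc]
          exact hhom _ _ (ihm ν x hx)
      have hpinv : ∀ (m : ℕ), ∀ x ∈ W, (A ^ m) x ∈ W := by
        intro m
        induction m with
        | zero => intro x hx; simpa using hx
        | succ m ihm => intro x hx; rw [pow_succ', Module.End.mul_apply]; exact hinv _ (ihm x hx)
      set ν : Λ := μ + n • χ with hν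
      obtain ⟨ψ, hψ⟩ := Module.Projective.exists_dual_ne_zero k hv
      let dec := LinearEquiv.ofBijective (DirectSum.coeLinearMap 𝒱) h𝒱
      let pr : V →ₗ[k] V := (𝒱 ν).subtype.comp ((DirectSum.component k Λ (fun i => 𝒱 i) ν).comp dec.symm.toLinearMap)
      have hdec : ∀ (ρ : Λ) (x : V) (hx : x ∈ 𝒱 ρ), dec.symm x = DirectSum.lof k Λ (fun i => 𝒱 i) ρ ⟨x, hx⟩ := by
        intro ρ x hx
        refine dec.symm_apply_eq.2 ?_
        show x = DirectSum.coeLinearMap 𝒱 _
        rw [DirectSum.lof_eq_of, DirectSum.coeLinearMap_of]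
      have hprn : ∀ x ∈ 𝒱 ν, pr x = x := by
        intro x hx
        show ((DirectSum.component k Λ (fun i => 𝒱 i) ν (dec.symm x)) : V) = x
        rw [hdec ν x hx, DirectSum.component.lof_self]
      have hpr0 : ∀ ρ, ρ ≠ ν → ∀ x ∈ 𝒱 ρ, pr x = 0 := by
        intro ρ hρ x hx
        show ((DirectSum.component k Λ (fun i => 𝒱 i) ν (dec.symm x)) : V) = 0
        rw [hdec ρ x hx, DirectSum.component.of]
        simp [hρ]
      let φ : V →ₗ[k] k := (ψ ((A ^ n) v))⁻¹ • ψ.comp pr
      have hφv : φ ((A ^ n) v) = 1 := by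
        show (ψ ((A ^ n) v))⁻¹ * ψ (pr ((A ^ n) v)) = 1
        rw [hprn _ (hpow n μ v hvμ), inv_mul_cancel₀ hψ]
      have hφ0 : ∀ ρ, ρ ≠ ν → ∀ x ∈ 𝒱 ρ, φ x = 0 := by
        intro ρ hρ x hx
        show (ψ ((A ^ n) v))⁻¹ * ψ (pr x) = 0
        rw [hpr0 ρ hρ x hx, map_zero, mul_zero]
      let ev : V →ₗ[k] (Fin (n + 1) → k) := LinearMap.pi fun j : Fin (n + 1) => φ.comp (A ^ (j : ℕ))
      let ch : Fin (n + 1) → V := fun l => (A ^ (n - l : ℕ)) v
      let W' : Submodule k V := W ⊓ LinearMap.ker ev
      have hinv' : ∀ x ∈ W', A x ∈ W' := by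
        rintro x ⟨hx, hxe⟩
        refine ⟨hinv x hx, funext fun j => ?_⟩
        show φ ((A ^ (j : ℕ)) (A x)) = 0
        rw [← Module.End.mul_apply, ← pow_succ]
        rcases Nat.lt_or_ge ((j : ℕ) + 1) (n + 1) with h | h
        · exact congrFun hxe ⟨(j : ℕ) + 1, h⟩
        · rw [hkill x hx _ h, map_zero]
      have hgr' : W' ≤ ⨆ μ, W' ⊓ 𝒱 μ := by
        rintro x ⟨hx, hxe⟩
        obtain ⟨f, hf, hfx⟩ := (Submodule.mem_iSup_iff_exists_finsupp _ _).1 (hgr hx)
        refine (Submodule.mem_iSup_iff_exists_finsupp _ _).2 ⟨f, fun ρ => ⟨⟨(hf ρ).1, funext fun j => ?_⟩, (hf ρ).2⟩, hfx⟩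
        show φ ((A ^ (j : ℕ)) (f ρ)) = 0
        by_cases hρ : ρ + (j : ℕ) • χ = ν
        · have hx0 : φ ((A ^ (j : ℕ)) x) = 0 := congrFun hxe j
          rw [← hfx, Finsupp.sum, map_sum, map_sum, Finset.sum_eq_single ρ] at hx0
          · exact hx0
          · intro σ _ hσ
            refine hφ0 (σ + (j : ℕ) • χ) (fun h => hσ ?_) _ (hpow _ _ _ (hf σ).2)
            rw [← hρ] at h
            exact add_right_cancel h
          · intro h
            rw [Finsupp.notMem_support_iff.1 h, map_zero, map_zero]
        · exact hφ0 _ hρ _ (hpow _ _ _ (hf ρ).2)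
      let T : (Fin (n + 1) → k) →ₗ[k] (Fin (n + 1) → k) := ev.comp (Fintype.linearCombination k ch)
      have hT : Function.Injective T := by
        rw [injective_iff_map_eq_zero]
        intro c hc
        by_contra hne
        obtain ⟨l₀, hl₀, hmax⟩ := (Finset.univ.filter fun l => c l ≠ 0).exists_maximal (by
          obtain ⟨l, hl⟩ := Function.ne_iff.1 hne
          exact ⟨l, Finset.mem_filter.2 ⟨Finset.mem_univ _, hl⟩⟩)
        have h := congrFun hc l₀
        simp only [T, LinearMap.comp_apply, ev, LinearMap.pi_apply, Fintype.linearCombination_apply, map_sum,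
          map_smul, Pi.zero_apply, Finset.sum_apply, smul_eq_mul] at h
        rw [Finset.sum_eq_single l₀] at h
        · simp only [ch, ← Module.End.mul_apply, ← pow_add] at h
          rw [show (l₀ : ℕ) + (n - (l₀ : ℕ)) = n by omega, hφv, mul_one] at h
          exact (Finset.mem_filter.1 hl₀).2 h
        · intro l _ hl
          by_cases hcl : c l = 0
          · rw [hcl, zero_mul]
          · have hle : l < l₀ := by
              rcases lt_or_ge l l₀ with hlt | hge
              · exact hlt
              · exact absurd (le_antisymm hge (hmax (Finset.mem_filter.2 ⟨Finset.mem_univ _, hcl⟩) hge)) (Ne.symm hl)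
            simp only [ch, ← Module.End.mul_apply, ← pow_add]
            rw [hkill v hvW _ (by have := hle; rw [Fin.lt_def] at this; omega), map_zero, mul_zero]
        · intro h'; exact absurd (Finset.mem_univ _) h'
      have hTs : Function.Surjective T := LinearMap.injective_iff_surjective.1 hT
      have hchW : ∀ l, ch l ∈ W := fun l => hpinv _ v hvW
      have hne : W' < W := by
        refine lt_of_le_of_ne inf_le_left fun h => ?_
        have hmem : v ∈ W' := h ▸ hvW
        have := congrFun (LinearMap.mem_ker.1 hmem.2) ⟨n, Nat.lt_succ_self n⟩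
        rw [show ev v ⟨n, Nat.lt_succ_self n⟩ = φ ((A ^ n) v) from rfl, hφv] at this
        exact one_ne_zero this
      obtain ⟨ι, _, m, e, hli, hsp, he1, he2, he3⟩ := ih W' (by have := Submodule.finrank_lt_finrank_of_lt hne; omega) hinv' hgr'
      refine ⟨Option ι, inferInstance, fun o => o.elim n m,
        fun s => match s with
          | ⟨none, l⟩ => ch l
          | ⟨some i, l⟩ => e ⟨i, l⟩, ?_, ?_, ?_, ?_, ?_⟩
      · rw [Fintype.linearIndependent_iff]
        intro c hc
        rw [Fintype.sum_sigma, Fintype.sum_option] at hc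
        let c0 : Fin (n + 1) → k := fun l => c ⟨none, l⟩
        have hS : (∑ i : ι, ∑ l, c ⟨some i, l⟩ • e ⟨i, l⟩) ∈ W' := by
          rw [← hsp]
          exact Submodule.sum_mem _ fun i _ => Submodule.sum_mem _ fun l _ =>
            Submodule.smul_mem _ _ (Submodule.subset_span ⟨_, rfl⟩)
        have hc0 : c0 = 0 := by
          apply hT
          rw [map_zero]
          have h := congrArg ev hc
          rw [map_add, map_zero, LinearMap.mem_ker.1 hS.2, add_zero] at h
          simp only [T, LinearMap.comp_apply, Fintype.linearCombination_apply, c0, map_sum, map_smul] at h ⊢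
          exact h
        have hz : ∀ l, c ⟨none, l⟩ = 0 := fun l => congrFun hc0 l
        rw [Finset.sum_eq_zero (fun l _ => by rw [hz l, zero_smul]), zero_add] at hc
        have hrest := Fintype.linearIndependent_iff.1 hli (fun s => c ⟨some s.1, s.2⟩) (by rw [Fintype.sum_sigma]; exact hc)
        rintro ⟨_ | i, l⟩
        · exact hz l
        · exact hrest ⟨i, l⟩
      · refine le_antisymm (Submodule.span_le.2 ?_) ?_
        · rintro _ ⟨⟨_ | i, l⟩, rfl⟩
          · exact hchW l
          · exact (hsp.le (Submodule.subset_span ⟨_, rfl⟩)).1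
        · intro x hx
          obtain ⟨c, hc⟩ := hTs (ev x)
          have hy : x - Fintype.linearCombination k ch c ∈ W' := by
            refine ⟨W.sub_mem hx ?_, ?_⟩
            · rw [Fintype.linearCombination_apply]
              exact Submodule.sum_mem _ fun l _ => W.smul_mem _ (hchW l)
            · show ev (x - _) = 0
              rw [map_sub, ← hc]; exact sub_self _
          rw [← sub_add_cancel x (Fintype.linearCombination k ch c)]
          refine Submodule.add_mem _ ?_ ?_
          · rw [← hsp] at hy
            refine Submodule.span_mono ?_ hy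
            rintro _ ⟨⟨i, l⟩, rfl⟩
            exact ⟨⟨some i, l⟩, rfl⟩
          · rw [Fintype.linearCombination_apply]
            exact Submodule.sum_mem _ fun l _ => Submodule.smul_mem _ _ (Submodule.subset_span ⟨⟨none, l⟩, rfl⟩)
      · rintro (_ | i) l
        · exact ⟨_, hpow _ μ v hvμ⟩
        · exact he1 i l
      · rintro (_ | i)
        · show A ((A ^ (n - 0)) v) = 0
          rw [← Module.End.mul_apply, ← pow_succ', Nat.sub_zero, htop v hvW]
        · exact he2 i
      · rintro (_ | i) l
        · show A ((A ^ (n - (l.succ : Fin (n + 1)).val)) v) = (A ^ (n - (l.castSucc : Fin (n + 1)).val)) v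
          rw [← Module.End.mul_apply, ← pow_succ', Fin.val_succ, Fin.val_castSucc]
          congr 2
          have := l.isLt
          simp only [Option.elim] at this
          omega
        · exact he3 i l
  obtain ⟨ι, _, n, e, hli, hsp, h1, h2, h3⟩ := this (Module.finrank k (⊤ : Submodule k V)) ⊤ le_rfl (fun _ _ => trivial)
    (by rw [← h𝒱.submodule_iSup_eq_top]; exact iSup_mono fun μ => le_inf (le_iSup 𝒱 μ) le_rfl)
  refine ⟨ι, inferInstance, n, Module.Basis.mk hli hsp.ge, fun i l => ?_, fun i => ?_, fun i l => ?_⟩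
  · rw [Module.Basis.mk_apply]; exact h1 i l
  · rw [Module.Basis.mk_apply]; exact h2 i
  · rw [Module.Basis.mk_apply, Module.Basis.mk_apply]; exact h3 i l

end Groth.Agent.S18983
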