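import Groth.Statements.S18986
import Groth.Agent.AlgGrpLib.SolvableSpecial

set_option autoImplicit false
set_option backward.isDefEq.respectTransparency.types false
universe u
open CategoryTheory MonoidalCategory CartesianMonoidalCategory MonObj AlgebraicGeometry
open GIT

namespace Groth.Agent.S18986

/-- Over an algebraically closed field k of characteristic zero, let G be a connected solvable affine
algebraic group (an affine smooth connected group scheme of finite type over k whose groups of
points are solvable of bounded derived length) acting on a k-scheme X, and let φ : X → Y be a
G-torsor over Y: the square formed by the action, the second projection and φ twice is cartesian,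
and φ acquires sections on the members of some fpqc covering family of Y. Then φ is locally trivial:
it acquires sections on the members of some Zariski open covering of Y. -/
theorem result
    (k : Type u) [Field k] [IsAlgClosed k] [CharZero k]
    (G X Y : Over (Spec (CommRingCat.of k))) [GrpObj G] [IsAffine G.left] [LocallyOfFiniteType G.hom]
    [Smooth G.hom] [ConnectedSpace G.left] (hsolv : Red.IsSolvableGrp G)
    (a : AlgGrp.Action G X) (φ : X ⟶ Y)
    (hcart : IsPullback a.act (snd G X) φ φ)
    (hloc : NonAbH1.IsLocallyTrivialFor Scheme.fpqcPrecoverage (Over.mk φ.left : Over Y.left)) :
    NonAbH1.IsLocallyTrivialFor Scheme.zariskiPrecoverage (Over.mk φ.left : Over Y.left) := by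
  obtain ⟨n, hn⟩ := hsolv
  exact Groth.Agent.AlgGrpLib.SolvableSpecial.special_of_derivedSeries n G (hn _) X Y a φ hcart hloc

end Groth.Agent.S18986
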