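import Groth.Statements.S18987
import Groth.Agent.HopfLib.UnipotentLie

set_option autoImplicit false
universe u
open TensorProduct
open HopfRep

namespace Groth.Agent.S18987

/-- In Hopf-algebra form, over an algebraically closed field k of characteristic zero, let A be a
finitely generated commutative Hopf algebra which is unipotent in the fixed-vector sense (the
coordinate ring of a unipotent group U), coacting multiplicatively on a finitely generated
commutative k-algebra R (an action of U on the affine scheme Spec R). Then an element f of R is
invariant if and only if, for every ε-derivation ξ : A → k (every element of the Lie algebra of U),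
applying ξ to the A-factor of the coaction of f gives zero (the infinitesimal action of ξ kills f). -/
theorem result
    (k : Type u) [Field k] [IsAlgClosed k] [CharZero k]
    (A : Type u) [CommRing A] [HopfAlgebra k A] [Algebra.FiniteType k A] (hU : HopfRep.IsUnipotent k A)
    (R : Type u) [CommRing R] [Algebra k R] [Algebra.FiniteType k R]
    [HopfRep.Comod k A R] [GLin.IsCoactAlg k A R] (f : R) :
    f ∈ GLin.invariants k A R ↔
      ∀ ξ : LieHopf.Lie k A,
        LinearMap.lTensor R (ξ.toLinearMap.restrictScalars k) (HopfRep.Comod.coact (k := k) (A := A) f) = 0 := by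
  constructor
  · intro hf ξ
    rw [(GLin.mem_invariants_iff k A R f).1 hf, LinearMap.lTensor_tmul, LinearMap.restrictScalars_apply]
    exact (congrArg (f ⊗ₜ[k] ·) ξ.map_one_eq_zero).trans (tmul_zero _ _)
  · intro h
    rw [GLin.mem_invariants_iff]
    letI := HopfRep.Comod.trivial (k := k) (A := A) k
    have h1 : (HopfLib.logMap hU (AlgHom.id k A)) 1 = 0 := by
      rw [HopfLib.logMap_apply, map_one, Polynomial.coeff_one, if_neg one_ne_zero]
    have hz : (HopfLib.logMap hU (AlgHom.id k A)).lTensor R (HopfRep.Comod.coact (k := k) (A := A) f) = 0 :=
      HopfLib.eq_of_forall_sliceR_eq fun φ => by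
        rw [HopfLib.sliceR_lTensor_logMap, h, map_zero]
        exact map_zero (TensorProduct.rid k R)
    have := HopfLib.coact_map_eq_of_logMap hU (LinearMap.toSpanSingleton k R f) (fun x => by
      rw [LinearMap.toSpanSingleton_apply, map_smul, map_smul, hz, smul_zero]
      show _ = LinearMap.rTensor A _ ((HopfLib.logMap hU (AlgHom.id k A)).lTensor k (x ⊗ₜ[k] (1 : A)))
      rw [LinearMap.lTensor_tmul, h1, tmul_zero, map_zero]) (1 : k)
    rw [LinearMap.toSpanSingleton_apply, one_smul] at this
    rw [this]
    show LinearMap.rTensor A _ ((1 : k) ⊗ₜ[k] (1 : A)) = _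
    rw [LinearMap.rTensor_tmul, LinearMap.toSpanSingleton_apply, one_smul]

end Groth.Agent.S18987
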