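import Groth.Statements.S18989
import Groth.Agent.HopfLib.UnipotentLie

set_option autoImplicit false
universe u
open TensorProduct
open HopfRep

namespace Groth.Agent.S18989

/-- An action of a unipotent group on an affine scheme is determined by its infinitesimal action. Over
an algebraically closed field k of characteristic zero, let A be a finitely generated commutative
Hopf algebra, unipotent in the fixed-vector sense, coacting multiplicatively on two finitely
generated commutative k-algebras R₁ and R₂, and let e : R₁ → R₂ be an algebra isomorphism which
intertwines the two infinitesimal actions: for every ε-derivation ξ : A → k and every f in R₁,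
applying ξ to the A-factor of the coaction of e(f) equals e ⊗ id applied to the same for f. Then e
intertwines the coactions: the coaction of e(f) is (e ⊗ id) of the coaction of f for all f. (With R₁
= R₂ and e the identity this says that two actions with the same infinitesimal action coincide,
which is the printed assertion.) -/
theorem result
    (k : Type u) [Field k] [IsAlgClosed k] [CharZero k]
    (A : Type u) [CommRing A] [HopfAlgebra k A] [Algebra.FiniteType k A] (hU : HopfRep.IsUnipotent k A)
    (R₁ R₂ : Type u) [CommRing R₁] [Algebra k R₁] [Algebra.FiniteType k R₁]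
    [HopfRep.Comod k A R₁] [GLin.IsCoactAlg k A R₁]
    [CommRing R₂] [Algebra k R₂] [Algebra.FiniteType k R₂]
    [HopfRep.Comod k A R₂] [GLin.IsCoactAlg k A R₂]
    (e : R₁ ≃ₐ[k] R₂)
    (h : ∀ (ξ : LieHopf.Lie k A) (f : R₁),
      LinearMap.lTensor R₂ (ξ.toLinearMap.restrictScalars k) (HopfRep.Comod.coact (k := k) (A := A) (e f)) =
        LinearMap.rTensor (LieHopf.K k A) e.toLinearMap
          (LinearMap.lTensor R₁ (ξ.toLinearMap.restrictScalars k) (HopfRep.Comod.coact (k := k) (A := A) f))) :
    ∀ f : R₁, HopfRep.Comod.coact (k := k) (A := A) (e f) =
      LinearMap.rTensor A e.toLinearMap (HopfRep.Comod.coact (k := k) (A := A) f) := by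
  refine fun f => HopfLib.coact_map_eq_of_logMap hU e.toLinearMap (fun x => ?_) f
  refine HopfLib.eq_of_forall_sliceR_eq fun φ => ?_
  rw [HopfLib.sliceR_rTensor, HopfLib.sliceR_lTensor_logMap, HopfLib.sliceR_lTensor_logMap]
  refine (congrArg (TensorProduct.rid k R₂) (h (HopfLib.lieOfLog hU φ) x)).trans ?_
  generalize (HopfLib.lieOfLog hU φ).toLinearMap.restrictScalars k = L
  generalize HopfRep.Comod.coact (k := k) (A := A) x = t
  induction t using TensorProduct.induction_on with
  | zero =>
    rw [map_zero, map_zero]
    exact (map_zero (TensorProduct.rid k R₂)).trans ((congrArg _ (map_zero (TensorProduct.rid k R₁))).trans (map_zero _)).symm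
  | add p q hp hq =>
    rw [map_add, map_add]
    exact (map_add (TensorProduct.rid k R₂) _ _).trans ((congrArg₂ (· + ·) hp hq).trans
      ((congrArg _ (map_add (TensorProduct.rid k R₁) _ _)).trans (map_add _ _ _)).symm)
  | tmul v a => exact (map_smul e.toLinearMap _ v).symm

end Groth.Agent.S18989
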