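import Groth.Statements.S18994
import Mathlib
import Groth.Prelude

set_option linter.all false

set_option autoImplicit false
universe u
open TernForm


namespace Groth.Agent.S18994

/-- Let R be a commutative ring, j ∈ {0, 1, 2}, q a homogeneous polynomial of degree 2 in R[X_0, X_1,
X_2] whose coefficient of X_j^2 is a unit, and n a natural number. Then the family consisting of the
monomials of degree n not divisible by X_j^2 (exponent of X_j at most 1) together with the products
q · m, m running over the monomials of degree n − 2 (indexed by exponents m with |m| + 2 = n), is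
linearly independent over R and spans exactly the homogeneous polynomials of degree n; in particular
it is a basis of that module and the two parts are disjoint. (The published lemma is stated over a
field with the coefficient nonzero, the special case of a field R here; the version over a ring with
the coefficient invertible is what its change-of-basis argument gives — ordering monomials by
decreasing exponent of X_j makes the matrix triangular with diagonal entries 1 and that coefficient
— and is the form used to trivialise the bundle of degree-n forms modulo multiples of q over the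
locus where the coefficient is invertible. The published lemma also allows an arbitrary monomial of
degree 2 in place of X_j^2; for the mixed monomial X_1X_2, the form q = X_1^2 + X_1X_2 + X_2^2 and n
= 3 give the linear relation q·X_1 − q·X_2 = X_1^3 − X_2^3 among members of the family, so the claim
fails there and is stated here for the square of a variable.) -/
theorem result
    (R : Type u) [CommRing R] (j : Fin 3) (q : MvPolynomial (Fin 3) R)
    (hq : q.IsHomogeneous 2) (hqj : IsUnit (q.coeff (Finsupp.single j 2))) (n : ℕ) :
    LinearIndependent R (Sum.elim (fun m : {m : Fin 3 →₀ ℕ // m.degree = n ∧ m j < 2} => MvPolynomial.monomial m.1 (1 : R)) (fun m : {m : Fin 3 →₀ ℕ // m.degree + 2 = n} => q * MvPolynomial.monomial m.1 (1 : R))) ∧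
      Submodule.span R (Set.range (Sum.elim (fun m : {m : Fin 3 →₀ ℕ // m.degree = n ∧ m j < 2} => MvPolynomial.monomial m.1 (1 : R)) (fun m : {m : Fin 3 →₀ ℕ // m.degree + 2 = n} => q * MvPolynomial.monomial m.1 (1 : R)))) = MvPolynomial.homogeneousSubmodule (Fin 3) R n := by
  classical
  let t : Fin 3 →₀ ℕ := Finsupp.single j 2
  have hqe : ∀ e ∈ q.support, e.degree = 2 := fun e he => by
    rw [Finsupp.degree_eq_weight_one]; exact hq (MvPolynomial.mem_support_iff.1 he)
  have hlow : ∀ e ∈ q.support, e ≠ t → e j < 2 := by
    intro e he hne
    by_contra h
    refine hne (le_antisymm ?_ (Finsupp.single_le_iff.2 (by omega))) 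
    intro i
    have h2 := hqe e he
    rw [Finsupp.degree_eq_sum] at h2
    have hjsum : e j + ∑ l ∈ Finset.univ.erase j, e l = 2 := by rw [Finset.add_sum_erase _ _ (Finset.mem_univ j)]; exact h2
    by_cases hi : i = j
    · subst hi; simp [t]; omega
    · have := Finset.single_le_sum (f := fun l => e l) (fun l _ => Nat.zero_le _) (Finset.mem_erase.2 ⟨hi, Finset.mem_univ i⟩)
      omega
  constructor
  · rw [linearIndependent_iff]
    intro l hl
    let a := fun m => l (Sum.inl m)
    let g : MvPolynomial (Fin 3) R := (l.comapDomain Sum.inr Sum.inr_injective.injOn).sum fun m r => MvPolynomial.monomial m.1 r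
    have hsplit : (l.comapDomain Sum.inl Sum.inl_injective.injOn).sum (fun m r => MvPolynomial.monomial m.1 r) + q * g = 0 := by
      rw [Finsupp.linearCombination_apply] at hl
      rw [← hl]
      obtain ⟨⟨l1, l2⟩, rfl⟩ := Finsupp.sumFinsuppEquivProdFinsupp.symm.surjective l
      have e1 : (Finsupp.sumFinsuppEquivProdFinsupp.symm (l1, l2)).comapDomain Sum.inl Sum.inl_injective.injOn = l1 := by
        ext x; simp
      have e2 : (Finsupp.sumFinsuppEquivProdFinsupp.symm (l1, l2)).comapDomain Sum.inr Sum.inr_injective.injOn = l2 := by
        ext x; simp
      simp only [g, e2]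
      rw [e1]
      rw [show Finsupp.sumFinsuppEquivProdFinsupp.symm (l1, l2) = Finsupp.mapDomain Sum.inl l1 + Finsupp.mapDomain Sum.inr l2 from by
        ext (x | x)
        · simp [Finsupp.mapDomain_apply Sum.inl_injective, Finsupp.mapDomain_notin_range]
        · simp [Finsupp.mapDomain_apply Sum.inr_injective, Finsupp.mapDomain_notin_range]]
      rw [Finsupp.sum_add_index' (by simp) (by simp [add_smul]), Finsupp.sum_mapDomain_index (by simp) (by simp [add_smul]),
        Finsupp.sum_mapDomain_index (by simp) (by simp [add_smul]), Finsupp.mul_sum]
      simp [MvPolynomial.smul_monomial, Algebra.smul_def, MvPolynomial.C_mul_monomial, mul_left_comm _ q]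
    have hg : g = 0 := by
      by_contra hg0
      obtain ⟨m, hm, hmax⟩ := g.support.exists_max_image (fun m => m j) (MvPolynomial.support_nonempty.2 hg0)
      have hcoef := congrArg (MvPolynomial.coeff (m + t)) hsplit
      rw [MvPolynomial.coeff_add, MvPolynomial.coeff_zero, Finsupp.sum, MvPolynomial.coeff_sum, Finset.sum_eq_zero (fun x _ => by
        rw [MvPolynomial.coeff_monomial, if_neg]
        intro hx
        have := congrArg (fun e => e j) hx
        have h2 := x.2.2
        simp [t] at this
        omega), zero_add, MvPolynomial.coeff_mul, Finset.sum_eq_single (t, m)] at hcoef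
      · exact MvPolynomial.mem_support_iff.1 hm ((hqj.mul_right_eq_zero).1 hcoef)
      · rintro ⟨e, m'⟩ hem hne
        rw [Finset.HasAntidiagonal.mem_antidiagonal] at hem
        by_contra h0
        have he : e ∈ q.support := MvPolynomial.mem_support_iff.2 (left_ne_zero_of_mul h0)
        have hm' : m' ∈ g.support := MvPolynomial.mem_support_iff.2 (right_ne_zero_of_mul h0)
        have het : e = t := by
          by_contra het
          have := hlow e he het
          have h1 := congrArg (fun e => e j) hem
          have h2 := hmax m' hm'
          simp [t] at h1
          omega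
        subst het
        exact hne (Prod.ext rfl (add_left_cancel (hem.trans (add_comm m t))))
      · intro h; exact absurd (Finset.HasAntidiagonal.mem_antidiagonal.2 (add_comm t m)) h
    have ha : (l.comapDomain Sum.inl Sum.inl_injective.injOn).sum (fun m r => MvPolynomial.monomial m.1 r) = (0 : MvPolynomial (Fin 3) R) := by
      rwa [hg, mul_zero, add_zero] at hsplit
    ext (x | x)
    · have := congrArg (MvPolynomial.coeff x.1) ha
      rw [Finsupp.sum, MvPolynomial.coeff_sum, Finset.sum_eq_single x (fun y _ hy => by rw [MvPolynomial.coeff_monomial, if_neg]; exact fun h => hy (Subtype.ext h))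
        (fun h => by simp at h; simp [h])] at this
      simpa [MvPolynomial.coeff_monomial] using this
    · have := congrArg (MvPolynomial.coeff x.1) hg
      simp only [g] at this
      rw [Finsupp.sum, MvPolynomial.coeff_sum, Finset.sum_eq_single x (fun y _ hy => by rw [MvPolynomial.coeff_monomial, if_neg]; exact fun h => hy (Subtype.ext h))
        (fun h => by simp at h; simp [h])] at this
      simpa [MvPolynomial.coeff_monomial] using this
  · set W := Submodule.span R (Set.range (Sum.elim (fun m : {m : Fin 3 →₀ ℕ // m.degree = n ∧ m j < 2} => MvPolynomial.monomial m.1 (1 : R)) (fun m : {m : Fin 3 →₀ ℕ // m.degree + 2 = n} => q * MvPolynomial.monomial m.1 (1 : R)))) with hW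
    apply le_antisymm
    · rw [hW, Submodule.span_le]
      rintro _ ⟨m | m, rfl⟩
      · exact MvPolynomial.isHomogeneous_monomial 1 m.2.1
      · have := hq.mul (MvPolynomial.isHomogeneous_monomial (1 : R) (rfl : m.1.degree = m.1.degree))
        rw [add_comm, m.2] at this
        exact this
    · have key : ∀ (v : ℕ) (μ : Fin 3 →₀ ℕ), μ j = v → μ.degree = n → MvPolynomial.monomial μ (1 : R) ∈ W := by
        intro v
        induction v using Nat.strong_induction_on with
        | _ v ih =>
          intro μ hv hμ
          by_cases h2 : μ j < 2
          · exact Submodule.subset_span ⟨Sum.inl ⟨μ, hμ, h2⟩, rfl⟩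
          have hle : t ≤ μ := Finsupp.single_le_iff.2 (by omega)
          let m := μ - t
          have hmt : m + t = μ := tsub_add_cancel_of_le hle
          have hmdeg : m.degree + 2 = n := by
            rw [← hμ, ← hmt, map_add, Finsupp.degree_single]
          have hqm : q * MvPolynomial.monomial m (1 : R) ∈ W := Submodule.subset_span ⟨Sum.inr ⟨m, hmdeg⟩, rfl⟩
          obtain ⟨w, hw⟩ := hqj
          have hsum : q * MvPolynomial.monomial m (1 : R) - (w : R) • MvPolynomial.monomial μ (1 : R) =
              ∑ e ∈ q.support.erase t, q.coeff e • MvPolynomial.monomial (e + m) (1 : R) := by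
            conv_lhs => rw [q.as_sum, Finset.sum_mul]
            simp only [MvPolynomial.monomial_mul, mul_one, MvPolynomial.smul_monomial, smul_eq_mul]
            by_cases ht : t ∈ q.support
            · rw [← Finset.add_sum_erase _ _ ht, show t + m = μ by rw [add_comm]; exact hmt, hw]
              ring
            · rw [Finset.erase_eq_of_notMem ht, hw, MvPolynomial.notMem_support_iff.1 ht]
              simp
          have hrest : q * MvPolynomial.monomial m (1 : R) - (w : R) • MvPolynomial.monomial μ (1 : R) ∈ W := by
            rw [hsum]
            refine Submodule.sum_mem _ fun e he => Submodule.smul_mem _ _ ?_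
            obtain ⟨hne, heq⟩ := Finset.mem_erase.1 he
            refine ih ((e + m) j) ?_ (e + m) rfl (by rw [map_add, hqe e heq, add_comm]; exact hmdeg)
            have h1 := hlow e heq hne
            have h3 := congrArg (fun x => x j) hmt
            simp [t] at h3
            simp only [Finsupp.add_apply]
            omega
          have h4 := W.sub_mem hqm hrest
          rw [sub_sub_cancel] at h4
          have h5 := W.smul_mem ((w⁻¹ : Rˣ) : R) h4
          rwa [smul_smul, Units.inv_mul, one_smul] at h5
      intro f hf
      rw [f.as_sum]
      refine Submodule.sum_mem _ fun μ hμ => ?_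
      rw [show MvPolynomial.monomial μ (f.coeff μ) = f.coeff μ • MvPolynomial.monomial μ (1 : R) by rw [MvPolynomial.smul_monomial, smul_eq_mul, mul_one]]
      exact Submodule.smul_mem _ _ (key _ μ rfl (by rw [Finsupp.degree_eq_weight_one]; exact hf (MvPolynomial.mem_support_iff.1 hμ)))

end Groth.Agent.S18994
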