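import Groth.Statements.S18997
import Groth.Agent.GenusZeroT24.Embed

-- import your own Groth.Agent.* helpers here

set_option autoImplicit false
universe u
open CategoryTheory AlgebraicGeometry Limits
open ProjBd

set_option backward.isDefEq.respectTransparency.types false
set_option linter.style.haveILetI false
set_option backward.isDefEq.respectTransparency.types false
set_option maxHeartbeats 1000000
namespace Groth.Agent.S18997

/-- Let π : C → S be a smooth proper morphism of schemes, S locally Noetherian, all of whose geometric
fibres are integral of dimension 1 and of genus 0 (smooth conics), and let T be an O_C-module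
inverse to the module of relative differentials of π, i.e. the relative anticanonical sheaf. Then
(i) π_*T is finite locally free of rank 3; (ii) the adjunction map π^*π_*T → T is an epimorphism;
(iii) for every cartesian square C' = C ×_S S' with projections π' : C' → S' and g' : C' → C over g
: S' → S, the base-change map g^*π_*T → π'_*g'^*T (adjoint to π'^*g^*π_*T ≅ g'^*π^*π_*T → g'^*T) is
an isomorphism; (iv) if (p : P → S, O(1), q) is the projective bundle of rank-one quotients of π_*T,
given through its universal property, and h : C → P over S with h^*O(1) ≅ T identifies h^*q with the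
adjunction map of (ii), then h is a closed immersion (the relative anticanonical embedding as a
conic). (The published statement is made for schemes of finite type over a field and is given with a
pointer to cohomology and base change instead of a proof; the row takes S locally Noetherian, the
setting of that classical input.) -/
theorem result
    {C S : Scheme.{u}} (π : C ⟶ S) [Smooth π] [IsProper π] [IsLocallyNoetherian S]
    (hfib : ∀ (K : Type u) [Field K] [IsAlgClosed K] (x : Spec (CommRingCat.of K) ⟶ S),
      IsIntegral (pullback π x) ∧ topologicalKrullDim ↥(pullback π x) = 1 ∧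
        @Curv2.genus K _ (pullback π x) ⟨pullback.snd π x⟩ = 0)
    (T : C.Modules) (hT : ClSub.IsInverseOf T (Omega.sheaf π)) :
    FlatMod.IsFinLocFreeOfRank 3 ((Scheme.Modules.pushforward π).obj T) ∧
    Epi ((Scheme.Modules.pullbackPushforwardAdjunction π).counit.app T) ∧
    (∀ (S' C' : Scheme.{u}) (g : S' ⟶ S) (π' : C' ⟶ S') (g' : C' ⟶ C) (hsq : IsPullback g' π' π g),
      IsIso (((Scheme.Modules.pullbackPushforwardAdjunction π').homEquiv _ _)
        ((Scheme.Modules.pullbackComp π' g).hom.app _ ≫
          (Scheme.Modules.pullbackCongr hsq.w.symm).hom.app _ ≫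
          (Scheme.Modules.pullbackComp g' π).inv.app _ ≫
          (Scheme.Modules.pullback g').map ((Scheme.Modules.pullbackPushforwardAdjunction π).counit.app T)))) ∧
    (∀ (P : Scheme.{u}) (p : P ⟶ S) (O1 : P.Modules)
      (q : (Scheme.Modules.pullback p).obj ((Scheme.Modules.pushforward π).obj T) ⟶ O1),
      KRR.IsProjBundle p ((Scheme.Modules.pushforward π).obj T) O1 q →
      ∀ (h : C ⟶ P) (hg : h ≫ p = π) (e : (Scheme.Modules.pullback h).obj O1 ≅ T),
        (Scheme.Modules.pullbackCongr hg).inv.app _ ≫ (Scheme.Modules.pullbackComp h p).inv.app _ ≫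
          (Scheme.Modules.pullback h).map q ≫ e.hom = (Scheme.Modules.pullbackPushforwardAdjunction π).counit.app T →
        IsClosedImmersion h) := by
  have hi : ∀ (K : Type u) [Field K] [IsAlgClosed K] (x : Spec (CommRingCat.of K) ⟶ S), ConnectedSpace ↥(pullback π x) :=
    fun K _ _ x => haveI := (hfib K x).1; inferInstance
  haveI := GenusZeroT24.geometricallyConnected_of_algClosed π hi
  refine ⟨GenusZeroT24.push_locFree π hfib hT, GenusZeroT24.epi_counit π hfib hT, ?_, ?_⟩
  · intro S' C' g π' g' hsq
    rw [GenusZeroT24.homEquiv_eq_bc0 π T g π' g' hsq.w]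
    exact GenusZeroT24.isIso_bc0 π hfib hT hsq
  · intro P p O1 q hP h hg e he
    subst hg
    refine GenusZeroT24.isClosedImmersion_embed h p hfib hT hP e ?_
    have hiff := RelVALib.classifies_iff (φ := KRRPBLib.adjunct q) (rfl : h ≫ p = h ≫ p) e
      ((Scheme.Modules.pullbackPushforwardAdjunction (h ≫ p)).counit.app T)
    rw [KRRPBLib.adjunct, Equiv.symm_apply_apply] at hiff
    have hid : ((Scheme.Modules.pullbackPushforwardAdjunction (h ≫ p)).homEquiv
        ((Scheme.Modules.pushforward (h ≫ p)).obj T) T)
        ((Scheme.Modules.pullbackPushforwardAdjunction (h ≫ p)).counit.app T) = 𝟙 _ :=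
      (congrArg _ (Adjunction.homEquiv_symm_id _ T).symm).trans (Equiv.apply_symm_apply _ _)
    exact hid ▸ hiff.1 he

end Groth.Agent.S18997
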