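import Groth.Statements.S18998
import Groth.Agent.CycLib28.FieldExt.Main
import Groth.Prelude.Def_ChowOps

set_option autoImplicit false
universe u
open CategoryTheory AlgebraicGeometry Limits
open Cyc

namespace Groth.Agent.S18998

/-- For a field extension K of k and a scheme X of finite type over k, pullback of cycles along X_K → X
induces an injection of Chow groups with rational coefficients CH_n(X) ⊗ ℚ → CH_n(X_K) ⊗ ℚ.
Concretely: δ is the dimension function on X induced from Spec k and δ_K the one on X_K induced from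
Spec K; if α is an n-cycle on X and some nonzero integer multiple of its flat pullback (relative
dimension 0) to X_K is rationally equivalent to zero as an n-cycle, then some nonzero integer
multiple of α is rationally equivalent to zero. (The published statement takes X a variety, i.e.
integral of finite type; integrality plays no role and is not assumed here.) -/
theorem result (k K : Type u) [Field k] [Field K] [Algebra k K]
    (X : Scheme.{u}) [X.Over (Spec (CommRingCat.of k))]
    [LocallyOfFiniteType (X ↘ Spec (CommRingCat.of k))] [QuasiCompact (X ↘ Spec (CommRingCat.of k))]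
    (δ : X → ℤ) (hδ : Cyc.DeltaCompat (X ↘ Spec (CommRingCat.of k)) δ (fun _ => 0))
    (δK : ↥(Curv2.bc k X K) → ℤ) (hδK : Cyc.DeltaCompat (Curv2.bcSnd k X K) δK (fun _ => 0))
    (n : ℤ) (α : AlgebraicCycle X ℤ) (hα : α ∈ Cyc.Zk X δ n)
    (γ : AlgebraicCycle (Curv2.bc k X K) ℤ) (hγ : ⇑γ = Cyc.pullFun (Curv2.bcFst k X K) δK δ 0 ⇑α)
    (m : ℤ) (hm : m ≠ 0) (h0 : Cyc.RatEquivZero δK n (m • γ)) :
    ∃ m' : ℤ, m' ≠ 0 ∧ Cyc.RatEquivZero δ n (m' • α) := by
  have hf : LocallyOfFiniteType (Curv2.bcSnd k X K) := MorphismProperty.pullback_snd _ _ ‹_›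
  have e1 : δ = Groth.Agent.CycLib28.FieldExt.dfun (X ↘ Spec (CommRingCat.of k)) :=
    Groth.Agent.CycLib28.delta_eq_ptDim _ hδ
  have e2 : δK = Groth.Agent.CycLib28.FieldExt.dfun (Curv2.bcSnd k X K) :=
    Groth.Agent.CycLib28.delta_eq_ptDim _ hδK
  subst e1 e2
  obtain ⟨m', hm', h'⟩ := Groth.Agent.CycLib28.FieldExt.injQ_all (algebraMap k K) X _ _
    (Curv2.bcFst k X K) (Curv2.bcSnd k X K) inferInstance inferInstance (IsPullback.of_hasPullback _ _) n (m • α)
    ((ChowOps.zk X _ n).zsmul_mem hα m) (m • γ)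
    (by rw [Function.locallyFinsuppWithin.coe_zsmul, hγ, Function.locallyFinsuppWithin.coe_zsmul,
      Groth.Agent.CycLib28.FieldExt.pullFun_zsmul _ _ _ _ (fun z hz => Groth.Agent.CycLib28.FieldExt.dfun_generic
        (algebraMap k K) _ _ _ (IsPullback.of_hasPullback _ _) z hz)]) h0
  exact ⟨m' * m, mul_ne_zero hm' hm, by rwa [mul_smul]⟩
end Groth.Agent.S18998
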