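import Groth.Statements.S1902
import Mathlib
import Groth.Agent.CycLib28.P1Subscheme
import Groth.Agent.S0019

set_option autoImplicit false
universe u
open CategoryTheory AlgebraicGeometry
open CategoryTheory.Limits
open Cyc

namespace Groth.Agent.S1902

/-- Let Z → P^1_X be a closed immersion with δP ≤ k + 1 on Z, δP ≤ k at the points of Z lying on Z_0 or
Z_∞, and such that every associated point ζ of Z (a point where the maximal ideal of O_{Z,ζ} is an
associated prime of O_{Z,ζ}) either lies on neither section or has δP(ζ) < k. Then [Z_0]_k ∼_rat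
[Z_∞]_k on X. (The published statement asks the last condition only of embedded points of Z; in that
form it fails when an irreducible component of Z of δ-dimension k lies inside Z_0 or Z_∞ — for X the
spectrum of a field, k = 0 and Z the point 0 of P^1_X one gets [Z_0]_0 = [X] but [Z_∞]_0 = 0 — so
what is required here is that no point of Z_0 ∪ Z_∞ with δP = k is an associated point of Z.) Here
P^1_X → X is the projective line over X with its dimension function δP induced from δ, s₀, s_∞ : X →
P^1_X are the sections at 0 and ∞, and for a closed subscheme Z → P^1_X the closed subschemes Z_0,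
Z_∞ → X are its pullbacks along the two sections. Here a pair (X, δ) satisfying Cyc.IsSetup (X
locally Noetherian with universally catenary local rings, δ a dimension function) plays the role of
a scheme locally of finite type over a fixed base equipped with a dimension function, and
Cyc.DeltaCompat records that the dimension function on P^1_X is the induced one. -/
theorem result (X : Scheme.{u}) (δ : X → ℤ) (hX : Cyc.IsSetup X δ) (δP : ↥(CohB1.ProjSpaceOver 1 X) → ℤ) (hP : Cyc.DeltaCompat (CohB1.ProjSpaceOver.toBase 1 X) δP δ) (k : ℤ) (Z : Scheme.{u}) (ι : Z ⟶ CohB1.ProjSpaceOver 1 X) [IsClosedImmersion ι] (hZ : ∀ z : Z, δP (ι z) ≤ k + 1) (hZ0 : ∀ z : Z, ι z ∈ Set.range ⇑(P1.sect X 0) ∪ Set.range ⇑(P1.sect X 1) → δP (ι z) ≤ k) (hemb : ∀ z : Z, IsAssociatedPrime (IsLocalRing.maximalIdeal (Z.presheaf.stalk z)) (Z.presheaf.stalk z) → ι z ∉ Set.range ⇑(P1.sect X 0) ∪ Set.range ⇑(P1.sect X 1) ∨ δP (ι z) < k) (α β : AlgebraicCycle X ℤ) (hα : ⇑α = Cyc.subschemeFun δ k (pullback.snd ι (P1.sect X 0))) (hβ : ⇑β = Cyc.subschemeFun δ k (pullback.snd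 ι (P1.sect X 1))) : Cyc.RatEquiv δ k α β := by
  haveI := hX.1
  haveI : IsProper (CohB1.ProjSpaceOver.toBase 1 X) := Groth.Agent.RelVALib.isProper_toBase 1 X
  haveI : IsLocallyNoetherian (CohB1.ProjSpaceOver 1 X) :=
    LocallyOfFiniteType.isLocallyNoetherian (CohB1.ProjSpaceOver.toBase 1 X)
  haveI : IsLocallyNoetherian Z := LocallyOfFiniteType.isLocallyNoetherian ι
  haveI hcl : ∀ i, IsClosedImmersion (P1.sect X i) := fun i ↦ by
    have : IsClosedImmersion (P1.sect X i ≫ CohB1.ProjSpaceOver.toBase 1 X) := by
      rw [Groth.Agent.P1Lib24.sect_toBase]; infer_instance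
    exact IsClosedImmersion.of_comp _ (CohB1.ProjSpaceOver.toBase 1 X)
  have hδP := Groth.Agent.CycLib28.isDimFun_of_deltaCompat (CohB1.ProjSpaceOver.toBase 1 X) hX.2.1 hX.2.2 hP
  have hF : Coh.IsCoh ((Coh.push ι).obj (Coh.structureModule Z)) :=
    Groth.Agent.Coherent.isCoh_push_finite ι (Groth.Agent.Coherent.isCoh_structureModule Z)
  have hmem : ∀ p, Nontrivial (((Coh.push ι).obj (Coh.structureModule Z)).presheaf.stalk p) → p ∈ Set.range ι :=
    fun p hp ↦ by_contra fun h ↦ by
      haveI := Groth.Agent.CycLib28.subsingleton_stalk_push ι (Coh.structureModule Z) h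
      exact not_subsingleton _ this
  refine Groth.Agent.CycLib28.p1_sect_ratEquiv δ hX δP hP k _ hF ?_ ?_ ?_
    (fun i ↦ if i = 0 then α else β) (fun i ↦ ?_)
  · intro p hp
    obtain ⟨z, rfl⟩ := hmem p hp
    exact hZ z
  · intro i x hx
    by_contra hlt
    have hr : P1.sect X i x ∈ Set.range ι := hmem _ (by
      by_contra hn
      rw [not_nontrivial_iff_subsingleton] at hn
      haveI := hn
      have hl := Groth.Agent.CycLib28.length_stalk_pullback_closed (P1.sect X i)
        ((Coh.push ι).obj (Coh.structureModule Z)) x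
      have h0 : Module.length ((CohB1.ProjSpaceOver 1 X).presheaf.stalk (P1.sect X i x))
          (((Coh.push ι).obj (Coh.structureModule Z)).presheaf.stalk (P1.sect X i x) ⧸
            (RingHom.ker ((P1.sect X i).stalkMap x).hom • ⊤ : Submodule
              ((CohB1.ProjSpaceOver 1 X).presheaf.stalk (P1.sect X i x))
              (((Coh.push ι).obj (Coh.structureModule Z)).presheaf.stalk (P1.sect X i x)))) = 0 :=
        Module.length_eq_zero_iff.mpr inferInstance
      rw [h0, Module.length_eq_zero_iff] at hl
      exact not_subsingleton _ hl)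
    obtain ⟨z, hz⟩ := hr
    have h1 := hZ0 z (by
      rw [hz]
      fin_cases i
      · exact Or.inl ⟨x, rfl⟩
      · exact Or.inr ⟨x, rfl⟩)
    rw [hz, Groth.Agent.CycLib28.delta_sect hP i x] at h1
    exact hlt h1
  · intro p hp
    obtain ⟨z, rfl⟩ := hmem p (by
      by_contra hn
      rw [not_nontrivial_iff_subsingleton] at hn
      haveI := hn
      exact not_isAssociatedPrime_of_subsingleton hp)
    letI := (ι.stalkMap z).hom.toAlgebra
    obtain ⟨e⟩ := Groth.Agent.CycLib28.exists_stalk_push_equiv ι z
    exact hemb z (Groth.Agent.CycLib28.isAssociatedPrime_maximal_of_equiv (ι.stalkMap_surjective z) e hp)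
  · rw [Groth.Agent.CycLib28.sheafFun_pullback_push_eq]
    fin_cases i
    · exact hα
    · exact hβ
end Groth.Agent.S1902
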