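import Groth.Statements.S1900
import Mathlib
import Groth.Agent.S1902

set_option autoImplicit false
universe u
open CategoryTheory AlgebraicGeometry
open CategoryTheory.Limits
open Cyc

namespace Groth.Agent.S1900

/-- Let W → P^1_X be a closed immersion with W integral of δ-dimension k + 1 (for the dimension function
on P^1_X induced from δ on X), whose generic point lies neither over the zero section nor over the
section at infinity. Let W_0, W_∞ → X be the pullbacks of W along the two sections X → P^1_X (closed
subschemes of X). Then [W_0]_k ∼_rat [W_∞]_k on X. A pair (X, δ) with Cyc.IsSetup plays the role of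
a scheme locally of finite type over a fixed base with a dimension function (X locally Noetherian
with universally catenary local rings, δ a dimension function), and Cyc.DeltaCompat records that the
dimension function upstairs is the induced one. -/
theorem result (X : Scheme.{u}) (δ : X → ℤ) (hX : Cyc.IsSetup X δ) (δP : ↥(CohB1.ProjSpaceOver 1 X) → ℤ) (hP : Cyc.DeltaCompat (CohB1.ProjSpaceOver.toBase 1 X) δP δ) (k : ℤ) (W : Scheme.{u}) [IsIntegral W] (ι : W ⟶ CohB1.ProjSpaceOver 1 X) [IsClosedImmersion ι] (hW : δP (ι (genericPoint W)) = k + 1) (h0 : ι (genericPoint W) ∉ Set.range ⇑(P1.sect X 0)) (h1 : ι (genericPoint W) ∉ Set.range ⇑(P1.sect X 1)) (α β : AlgebraicCycle X ℤ) (hα : ⇑α = Cyc.subschemeFun δ k (pullback.snd ι (P1.sect X 0))) (hβ : ⇑β = Cyc.subschemeFun δ k (pullback.snd ι (P1.sect X 1))) : Cyc.RatEquiv δ k α β := by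
  haveI := hX.1
  haveI : IsProper (CohB1.ProjSpaceOver.toBase 1 X) := Groth.Agent.RelVALib.isProper_toBase 1 X
  haveI : IsLocallyNoetherian (CohB1.ProjSpaceOver 1 X) :=
    LocallyOfFiniteType.isLocallyNoetherian (CohB1.ProjSpaceOver.toBase 1 X)
  have hδP := Groth.Agent.CycLib28.isDimFun_of_deltaCompat (CohB1.ProjSpaceOver.toBase 1 X) hX.2.1 hX.2.2 hP
  have hlt : ∀ w : W, w ≠ genericPoint W → δP (ι w) < k + 1 := fun w hw ↦ hW ▸
    (hδP _ _ ((genericPoint_specializes w).map ι.continuous)
      (fun e ↦ hw (ι.isClosedEmbedding.injective e).symm)).1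
  refine Groth.Agent.S1902.result X δ hX δP hP k W ι (fun w ↦ ?_) (fun w hw ↦ ?_) (fun w hw ↦ ?_) α β hα hβ
  · by_cases h : w = genericPoint W
    · rw [h, hW]
    · exact (hlt w h).le
  · have h : w ≠ genericPoint W := fun h ↦ by
      subst h
      rcases hw with hw | hw
      · exact h0 hw
      · exact h1 hw
    have := hlt w h
    omega
  · have he : w = genericPoint W := by
      obtain ⟨hp, v, hv⟩ := hw
      have hbot : IsLocalRing.maximalIdeal (W.presheaf.stalk w) = ⊥ := by
        by_cases hv0 : v = 0
        · refine absurd ?_ hp.ne_top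
          rw [hv, Ideal.radical_eq_top, eq_top_iff]
          intro a _
          simp [Submodule.mem_colon_singleton, hv0]
        · rw [hv, eq_bot_iff]
          intro a ha
          obtain ⟨n, hn⟩ := ha
          rw [Submodule.mem_colon_singleton, Submodule.mem_bot, smul_eq_mul, mul_eq_zero] at hn
          exact (Submodule.mem_bot _).mpr (IsNilpotent.eq_zero ⟨n, hn.resolve_right hv0⟩)
      obtain ⟨q, hq⟩ := Groth.Agent.CycLim28.exists_fromSpecStalk_eq (genericPoint_specializes w)
      have : q = IsLocalRing.closedPoint (W.presheaf.stalk w) := PrimeSpectrum.ext (by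
        change q.asIdeal = IsLocalRing.maximalIdeal _
        refine le_antisymm (IsLocalRing.le_maximalIdeal q.2.ne_top) ?_
        rw [hbot]
        exact bot_le)
      rw [this, Scheme.fromSpecStalk_closedPoint] at hq
      exact hq
    subst he
    left
    rintro (h | h)
    · exact h0 h
    · exact h1 h
end Groth.Agent.S1900
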