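import Groth.Statements.S19001
import Groth.Agent.FF.Geometric
import Groth.Agent.NormalExtLib.Basic

set_option backward.isDefEq.respectTransparency.types false

set_option autoImplicit false
universe u
open CategoryTheory CategoryTheory.Limits AlgebraicGeometry
open FBase

namespace Groth.Agent.S19001

open scoped TensorProduct in
theorem isField_tensor (k K L : Type u) [Field k] [Field K] [Algebra k K] [Field L] [Algebra k L]
    [FiniteDimensional k L] (hcl : ∀ y : K, IsAlgebraic k y → y ∈ Set.range (algebraMap k K))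
    [_root_.IsReduced (K ⊗[k] L)] : IsField (K ⊗[k] L) := by
  let q := ringExpChar k
  haveI : ExpChar k q := ringExpChar.expChar k
  let M := separableClosure k L
  haveI : FiniteDimensional k M := inferInstance
  haveI : Algebra.IsSeparable k M := separableClosure.isSeparable k L
  have hM : IsField (K ⊗[k] M) := FF.isField_tensor_of_isSeparable hcl M
  letI : Field (K ⊗[k] M) := IsField.toField (R := K ⊗[k] M) hM
  haveI : Nontrivial (K ⊗[k] L) := Module.FaithfullyFlat.lTensor_nontrivial ..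
  have hinjk : Function.Injective (algebraMap k (K ⊗[k] L)) := RingHom.injective _
  haveI : ExpChar (K ⊗[k] L) q := expChar_of_injective_algebraMap hinjk q
  let σ : K ⊗[k] M →ₐ[K] K ⊗[k] L := Algebra.TensorProduct.map (AlgHom.id K K) M.val
  have hpow : ∀ x : K ⊗[k] L, ∃ n : ℕ, x ^ q ^ n ∈ σ.range := by
    intro x
    induction x using TensorProduct.induction_on with
    | zero => exact ⟨0, by simp⟩
    | tmul c l =>
      obtain ⟨n, ⟨m, hm⟩⟩ := IsPurelyInseparable.pow_mem M q l
      refine ⟨n, (c ^ q ^ n) ⊗ₜ m, ?_⟩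
      show Algebra.TensorProduct.map (AlgHom.id K K) M.val _ = _
      rw [Algebra.TensorProduct.map_tmul, Algebra.TensorProduct.tmul_pow, ← hm]
      rfl
    | add a b ha hb =>
      obtain ⟨m, hm⟩ := ha
      obtain ⟨n, hn⟩ := hb
      refine ⟨m + n, ?_⟩
      rw [add_pow_expChar_pow]
      refine add_mem ?_ ?_
      · rw [pow_add, pow_mul]; exact pow_mem hm _
      · rw [add_comm m n, pow_add, pow_mul]; exact pow_mem hn _
  haveI : IsDomain (K ⊗[k] L) := by
    haveI : NoZeroDivisors (K ⊗[k] L) := by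
      constructor
      intro a b hab
      obtain ⟨m, a', ha⟩ := hpow a
      obtain ⟨n, b', hb⟩ := hpow b
      have hz : a' ^ q ^ n * b' ^ q ^ m = 0 := by
        apply (σ.toRingHom).injective
        show σ _ = σ 0
        rw [map_zero, map_mul, map_pow, map_pow, show σ a' = a ^ q ^ m from ha, show σ b' = b ^ q ^ n from hb,
          ← pow_mul, ← pow_mul, mul_comm (q ^ n), ← mul_pow, hab, zero_pow]
        exact (Nat.mul_pos (pow_pos (expChar_pos k q) _) (pow_pos (expChar_pos k q) _)).ne'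
      rcases eq_zero_or_eq_zero_of_mul_eq_zero hz with h | h
      · refine Or.inl (IsReduced.eq_zero a ⟨q ^ m, ?_⟩)
        rw [← show σ a' = a ^ q ^ m from ha, eq_zero_of_pow_eq_zero h, map_zero]
      · refine Or.inr (IsReduced.eq_zero b ⟨q ^ n, ?_⟩)
        rw [← show σ b' = b ^ q ^ n from hb, eq_zero_of_pow_eq_zero h, map_zero]
    exact NoZeroDivisors.to_isDomain _
  exact isField_of_isIntegral_of_isField' (R := K) (Field.toIsField K)

open scoped TensorProduct in
theorem finrank_dvd (k K L M : Type u) [Field k] [Field K] [Field L] [Field M] [Algebra k K] [Algebra k L]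
    [Algebra K M] [Algebra L M] [Algebra k M] [IsScalarTower k K M] [IsScalarTower k L M]
    [FiniteDimensional k L] (hcl : ∀ y : K, IsAlgebraic k y → y ∈ Set.range (algebraMap k K))
    [_root_.IsReduced (K ⊗[k] L)] : Module.finrank k L ∣ Module.finrank K M := by
  letI := (isField_tensor k K L hcl).toField
  let ψ : K ⊗[k] L →ₐ[K] M :=
    Algebra.TensorProduct.lift (Algebra.ofId K M) (IsScalarTower.toAlgHom k L M) fun _ _ => Commute.all _ _
  letI : Algebra (K ⊗[k] L) M := ψ.toRingHom.toAlgebra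
  haveI : IsScalarTower K (K ⊗[k] L) M := IsScalarTower.of_algebraMap_eq fun c => (ψ.commutes c).symm
  rw [← Module.finrank_mul_finrank K (K ⊗[k] L) M, Module.finrank_baseChange]
  exact dvd_mul_right _ _

open AlgebraicGeometry CategoryTheory Opposite TopologicalSpace in
theorem mem_range_of_isIntegral {X : Scheme.{u}} [IsIntegral X] (hX : Pi1.IsNormalScheme X)
    (y : X.functionField) (hy : (X.presheaf.germ ⊤ (genericPoint X) trivial).hom.IsIntegralElem y) :
    ∃ ρ : Γ(X, ⊤), X.presheaf.germ ⊤ (genericPoint X) trivial ρ = y := by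
  have hU : ∀ U : {U : X.affineOpens // genericPoint X ∈ (U : X.Opens)},
      ∃ w : Γ(X, U.1.1), X.presheaf.germ U.1.1 _ U.2 w = y := by
    rintro ⟨⟨U, hU⟩, hUη⟩
    have : Nonempty U := ⟨⟨_, hUη⟩⟩
    have := functionField_isFractionRing_of_isAffineOpen X U hU
    have := NormalExtLib.isIntegrallyClosed_sections hX U hU
    obtain ⟨q, hq, hq0⟩ := hy
    have hint : _root_.IsIntegral Γ(X, U) y := by
      refine ⟨q.map (X.presheaf.map (homOfLE (le_top : U ≤ ⊤)).op).hom, hq.map _, ?_⟩
      rw [Polynomial.eval₂_map]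
      refine Eq.trans ?_ hq0
      congr 1
      exact RingHom.ext fun r => TopCat.Presheaf.germ_res_apply X.presheaf (homOfLE le_top) _ hUη _
    exact IsIntegrallyClosed.isIntegral_iff.mp hint
  choose w hw using hU
  have hcov : (⊤ : X.Opens) ≤ ⨆ U : {U : X.affineOpens // genericPoint X ∈ (U : X.Opens)}, (U.1.1 : X.Opens) :=
    fun z _ => by
      obtain ⟨_, ⟨U, hU, rfl⟩, hzU, -⟩ :=
        X.isBasis_affineOpens.exists_subset_of_mem_open (Set.mem_univ z) isOpen_univ
      exact Opens.mem_iSup.2 ⟨⟨⟨U, hU⟩, (genericPoint_specializes z).mem_open U.isOpen hzU⟩, hzU⟩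
  obtain ⟨ρ, hρ, -⟩ := TopCat.Sheaf.existsUnique_gluing' X.sheaf
    (fun U : {U : X.affineOpens // genericPoint X ∈ (U : X.Opens)} => U.1.1)
    ⊤ (fun U => homOfLE le_top) hcov w fun U U' => by
      have hm : genericPoint X ∈ U.1.1 ⊓ U'.1.1 := ⟨U.2, U'.2⟩
      have : Nonempty (U.1.1 ⊓ U'.1.1 : X.Opens) := ⟨⟨_, hm⟩⟩
      refine X.germToFunctionField_injective (U.1.1 ⊓ U'.1.1) ?_
      exact (TopCat.Presheaf.germ_res_apply X.presheaf _ _ hm _).trans ((hw U).trans
        ((hw U').symm.trans (TopCat.Presheaf.germ_res_apply X.presheaf _ _ hm _).symm))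
  obtain ⟨U₀, hU₀⟩ := Opens.mem_iSup.1 (hcov (show genericPoint X ∈ (⊤ : X.Opens) from trivial))
  refine ⟨ρ, ?_⟩
  rw [← hw U₀, ← hρ U₀]
  exact (TopCat.Presheaf.germ_res_apply X.presheaf (homOfLE le_top) _ U₀.2 ρ).symm

open AlgebraicGeometry CategoryTheory in
theorem residue_bijective {X : Scheme.{u}} [IsIntegral X] (x : X) (hx : x = genericPoint X) :
    Function.Bijective (X.residue x) := by
  subst hx
  letI : Field (X.presheaf.stalk (genericPoint X)) := inferInstanceAs (Field X.functionField)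
  exact ⟨RingHom.injective (X.residue (genericPoint X)).hom, IsLocalRing.residue_surjective⟩

open AlgebraicGeometry CategoryTheory in
theorem algClosedIn {X : Scheme.{u}} [IsIntegral X] (hX : Pi1.IsNormalScheme X) (x : X)
    (hx : x = genericPoint X) (y : X.residueField x) (hy : (X.Γevaluation x).hom.IsIntegralElem y) :
    y ∈ Set.range (X.Γevaluation x) := by
  have hb := residue_bijective x hx
  subst hx
  obtain ⟨z, rfl⟩ := hb.2 y
  obtain ⟨q, hq, hq0⟩ := hy
  obtain ⟨r, rfl⟩ := mem_range_of_isIntegral hX z ⟨q, hq, hb.1 (by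
    refine Eq.trans (Polynomial.hom_eval₂ q (X.presheaf.germ ⊤ (genericPoint X) trivial).hom
      (X.residue (genericPoint X)).hom z) (Eq.trans hq0 (map_zero _).symm))⟩
  exact ⟨r, rfl⟩

open AlgebraicGeometry CategoryTheory Limits in
open scoped TensorProduct in
theorem isReduced_tensor {X : Scheme.{u}} [IsIntegral X] (x : X) (hx : x = genericPoint X)
    (hf : IsField Γ(X, ⊤)) (L : Type u) [Field L] [Algebra Γ(X, ⊤) L]
    [AlgebraicGeometry.IsReduced (pullback X.toSpecΓ (Spec.map (CommRingCat.ofHom (algebraMap Γ(X, ⊤) L))))]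
    [Algebra Γ(X, ⊤) (X.residueField x)]
    (halg : algebraMap Γ(X, ⊤) (X.residueField x) = (X.Γevaluation x).hom) :
    _root_.IsReduced (X.residueField x ⊗[Γ(X, ⊤)] L) := by
  obtain ⟨_, ⟨U, hU, rfl⟩, hxU, -⟩ :=
    X.isBasis_affineOpens.exists_subset_of_mem_open (Set.mem_univ x) isOpen_univ
  letI : Algebra Γ(X, ⊤) Γ(X, U) := (X.presheaf.map (homOfLE (le_top : U ≤ ⊤)).op).hom.toAlgebra
  haveI : Nonempty U := ⟨⟨x, hxU⟩⟩
  let A := Γ(X, U)
  let sA : Spec Γ(X, U) ⟶ Spec Γ(X, ⊤) := Spec.map (CommRingCat.ofHom (algebraMap Γ(X, ⊤) Γ(X, U)))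
  let sL := Spec.map (CommRingCat.ofHom (algebraMap Γ(X, ⊤) L))
  have hfac : hU.fromSpec ≫ X.toSpecΓ = sA := hU.fromSpec_toSpecΓ
  let m : pullback sA sL ⟶ pullback X.toSpecΓ sL :=
    pullback.map _ _ _ _ hU.fromSpec (𝟙 _) (𝟙 _) (by rw [Category.comp_id, hfac]) (by simp)
  haveI : IsOpenImmersion m := inferInstance
  haveI : AlgebraicGeometry.IsReduced (pullback sA sL) := isReduced_of_isOpenImmersion m
  haveI : AlgebraicGeometry.IsReduced (Spec (CommRingCat.of (A ⊗[Γ(X, ⊤)] L))) :=
    isReduced_of_isOpenImmersion (pullbackSpecIso Γ(X, ⊤) A L).inv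
  haveI hAL : _root_.IsReduced (A ⊗[Γ(X, ⊤)] L) :=
    (affine_isReduced_iff (CommRingCat.of (A ⊗[Γ(X, ⊤)] L))).1 inferInstance
  letI := hf.toField
  let g : A →+* X.residueField x := ((X.presheaf.germ U x hxU) ≫ X.residue x).hom
  let gA : A →ₐ[Γ(X, ⊤)] X.residueField x :=
    { g with
      commutes' := fun r => by
        rw [halg]
        exact congrArg (X.residue x) (TopCat.Presheaf.germ_res_apply X.presheaf (homOfLE le_top) x hxU r) }
  have hb := residue_bijective x hx
  have hginj : Function.Injective gA := by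
    subst hx
    exact hb.1.comp (X.germToFunctionField_injective U)
  have hfrac : ∀ c : X.residueField x, ∃ a s : A, s ≠ 0 ∧ gA s * c = gA a := by
    subst hx
    intro c
    obtain ⟨z, rfl⟩ := hb.2 c
    have := functionField_isFractionRing_of_isAffineOpen X U hU
    obtain ⟨⟨a, s, hs⟩, has⟩ := IsLocalization.surj (nonZeroDivisors A) (S := X.functionField) z
    refine ⟨a, s, nonZeroDivisors.ne_zero hs, ?_⟩
    show X.residue _ (X.presheaf.germ U _ hxU s) * X.residue _ z = X.residue _ (X.presheaf.germ U _ hxU a)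
    rw [← map_mul, mul_comm]
    exact congrArg (X.residue _) has
  let τ : A ⊗[Γ(X, ⊤)] L →ₐ[Γ(X, ⊤)] X.residueField x ⊗[Γ(X, ⊤)] L :=
    Algebra.TensorProduct.map gA (AlgHom.id _ L)
  have hτ : Function.Injective τ := Module.Flat.rTensor_preserves_injective_linearMap gA.toLinearMap hginj
  have hclear : ∀ z : X.residueField x ⊗[Γ(X, ⊤)] L, ∃ (s : A) (w : A ⊗[Γ(X, ⊤)] L), s ≠ 0 ∧
      τ (s ⊗ₜ 1) * z = τ w := by
    intro z
    induction z using TensorProduct.induction_on with
    | zero => exact ⟨1, 0, one_ne_zero, by rw [mul_zero, map_zero]⟩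
    | tmul c l =>
      obtain ⟨a, s, hs, h⟩ := hfrac c
      refine ⟨s, a ⊗ₜ l, hs, ?_⟩
      simp only [τ, Algebra.TensorProduct.map_tmul, AlgHom.coe_id, id_eq, Algebra.TensorProduct.tmul_mul_tmul,
        one_mul, h]
    | add z₁ z₂ h₁ h₂ =>
      obtain ⟨s₁, w₁, hs₁, h₁⟩ := h₁
      obtain ⟨s₂, w₂, hs₂, h₂⟩ := h₂
      refine ⟨s₁ * s₂, (s₂ ⊗ₜ 1) * w₁ + (s₁ ⊗ₜ 1) * w₂, mul_ne_zero hs₁ hs₂, ?_⟩
      rw [show ((s₁ * s₂) ⊗ₜ[Γ(X, ⊤)] (1 : L)) = (s₁ ⊗ₜ 1) * (s₂ ⊗ₜ 1) by
        rw [Algebra.TensorProduct.tmul_mul_tmul, one_mul]]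
      simp only [map_add, map_mul, ← h₁, ← h₂]
      ring
  refine ⟨fun z hz => ?_⟩
  obtain ⟨s, w, hs, h⟩ := hclear z
  obtain ⟨n, hn⟩ := hz
  have hw : w = 0 := IsReduced.eq_zero w ⟨n, hτ (by rw [map_pow, ← h, mul_pow, hn, mul_zero, map_zero])⟩
  rw [hw, map_zero] at h
  have hu : IsUnit (τ (s ⊗ₜ 1)) := by
    show IsUnit (gA s ⊗ₜ[Γ(X, ⊤)] (1 : L))
    exact (Ne.isUnit fun e => hs (hginj (e.trans (map_zero gA).symm))).map
      (Algebra.TensorProduct.includeLeft (R := Γ(X, ⊤)) (S := Γ(X, ⊤)) (B := L) :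
        X.residueField x →ₐ[Γ(X, ⊤)] X.residueField x ⊗[Γ(X, ⊤)] L)
  exact hu.mul_right_eq_zero.1 h

/-- Let f : Z → X be a finite surjective morphism of integral schemes proper over a field k, with X
normal, and let d = [k(Z) : k(X)] be its degree on function fields (the residue fields at the
generic point of Z and at its image, the generic point of X). Write k_X = H^0(X, O_X) and k_Z =
H^0(Z, O_Z) (fields, finite over k). If X is geometrically reduced over k_X — X ×_{k_X} E is reduced
for every field E over k_X, i.e. k(X) is separable over k_X — then [k_Z : k_X] divides d. (The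
published statement does not assume that X is geometrically reduced over k_X; without that
hypothesis the divisibility fails: for k_0 = F_p(s, t), X the normal proper curve with function
field k_0(x, y), y^p = s + t x^p, and Z the projective line over k_0(s^{1/p}, t^{1/p}) mapping to X,
one has d = p but [k_Z : k_X] = p^2.) -/
theorem result (k : Type u) [Field k]
    (X Z : Scheme.{u}) [X.Over (Spec (CommRingCat.of k))] [Z.Over (Spec (CommRingCat.of k))]
    [IsIntegral X] [IsIntegral Z]
    [IsProper (X ↘ Spec (CommRingCat.of k))] [IsProper (Z ↘ Spec (CommRingCat.of k))]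
    (hXn : ∀ x : X, IsIntegrallyClosed (X.presheaf.stalk x))
    (f : Z ⟶ X) (hf : f ≫ (X ↘ Spec (CommRingCat.of k)) = Z ↘ Spec (CommRingCat.of k))
    [IsFinite f] [Surjective f]
    (hgr : ∀ (E : Type u) [Field E] (i : Γ(X, ⊤) →+* E),
      AlgebraicGeometry.IsReduced (pullback X.toSpecΓ (Spec.map (CommRingCat.ofHom i)))) :
    letI := f.appTop.hom.toAlgebra;
    letI := (f.residueFieldMap (genericPoint Z)).hom.toAlgebra;
    Module.finrank Γ(X, ⊤) Γ(Z, ⊤) ∣ Module.finrank (X.residueField (f.base (genericPoint Z))) (Z.residueField (genericPoint Z)) := by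
  algebraize [f.appTop.hom, (f.residueFieldMap (genericPoint Z)).hom]
  have hfη : f.base (genericPoint Z) = genericPoint X := by
    haveI : IsDominant f := inferInstance
    exact ((genericPoint_spec Z).image f.continuous).eq (by
      rw [Set.image_univ, f.denseRange.closure_range]; exact genericPoint_spec X)
  have hkX : IsField Γ(X, ⊤) := isField_of_universallyClosed k (X ↘ Spec (CommRingCat.of k))
  have hkZ : IsField Γ(Z, ⊤) := isField_of_universallyClosed k (Z ↘ Spec (CommRingCat.of k))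
  have hfin : f.appTop.hom.Finite := by
    have h := finite_appTop_of_universallyClosed k (Z ↘ Spec (CommRingCat.of k))
    rw [← hf, Scheme.Hom.comp_appTop, CommRingCat.hom_comp] at h
    exact RingHom.Finite.of_comp_finite h
  haveI : Module.Finite Γ(X, ⊤) Γ(Z, ⊤) := hfin
  letI := hkX.toField
  letI := hkZ.toField
  let x : X := f.base (genericPoint Z)
  letI : Algebra Γ(X, ⊤) (X.residueField x) := (X.Γevaluation x).hom.toAlgebra
  letI : Algebra Γ(Z, ⊤) (Z.residueField (genericPoint Z)) := (Z.Γevaluation (genericPoint Z)).hom.toAlgebra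
  letI : Algebra Γ(X, ⊤) (Z.residueField (genericPoint Z)) := (f.appTop ≫ Z.Γevaluation (genericPoint Z)).hom.toAlgebra
  haveI : IsScalarTower Γ(X, ⊤) (X.residueField x) (Z.residueField (genericPoint Z)) :=
    IsScalarTower.of_algebraMap_eq fun r => (Scheme.Γevaluation_naturality_apply f (genericPoint Z) r).symm
  haveI : IsScalarTower Γ(X, ⊤) Γ(Z, ⊤) (Z.residueField (genericPoint Z)) :=
    IsScalarTower.of_algebraMap_eq fun _ => rfl
  haveI := hgr Γ(Z, ⊤) f.appTop.hom
  haveI := isReduced_tensor x hfη hkX Γ(Z, ⊤) rfl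
  refine finrank_dvd Γ(X, ⊤) (X.residueField x) Γ(Z, ⊤) (Z.residueField (genericPoint Z)) fun y hy => ?_
  exact algClosedIn (fun p => ⟨inferInstance, hXn p⟩) x hfη y hy.isIntegral

end Groth.Agent.S19001
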