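import Groth.Statements.S19004
import Mathlib.LinearAlgebra.Vandermonde
import Mathlib.RingTheory.MvPolynomial.Basic
import Mathlib.GroupTheory.Perm.Sign
import Mathlib.Tactic

set_option autoImplicit false
open GIT

namespace Groth.Agent.S19004

/-- For the group PGL(n) acting on the space of n × n matrices the T-quotient is (P^{n−1})^n with Chow
ring ℚ[t_1,…,t_n]/(t_1^n,…,t_n^n), the class c_top(g/t) is the product of all roots t_i − t_j (i ≠
j), and the computation in the proof shows that this product equals n!·t_1^{n−1}⋯t_n^{n−1} in that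
ring. Stated here as the equivalent coefficient identity in ℤ[t_1,…,t_n]: the coefficient of
t_1^{n−1}⋯t_n^{n−1} in the product over ordered pairs i ≠ j of (t_i − t_j) is n!. -/
theorem result (n : ℕ) :
    MvPolynomial.coeff (Finsupp.equivFunOnFinite.symm (fun _ : Fin n => n - 1))
      (∏ i : Fin n, ∏ j ∈ Finset.univ.erase i, (MvPolynomial.X i - MvPolynomial.X j : MvPolynomial (Fin n) ℤ)) = (n.factorial : ℤ) := by
  classical
  have hsplit : (∏ i : Fin n, ∏ j ∈ Finset.univ.erase i, (MvPolynomial.X i - MvPolynomial.X j : MvPolynomial (Fin n) ℤ)) =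
      (Matrix.projVandermonde (1 : Fin n → MvPolynomial (Fin n) ℤ) MvPolynomial.X).det *
        (Matrix.projVandermonde MvPolynomial.X (1 : Fin n → MvPolynomial (Fin n) ℤ)).det := by
    rw [Matrix.det_projVandermonde, Matrix.det_projVandermonde]
    simp only [Pi.one_apply, one_mul, mul_one]
    have e : ∀ i : Fin n, ∏ j ∈ Finset.univ.erase i, (MvPolynomial.X i - MvPolynomial.X j : MvPolynomial (Fin n) ℤ) =
        (∏ j ∈ Finset.Ioi i, (MvPolynomial.X i - MvPolynomial.X j)) * ∏ j ∈ Finset.Iio i, (MvPolynomial.X i - MvPolynomial.X j) := fun i => by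
      rw [← Finset.prod_union (Finset.disjoint_left.2 fun j h1 h2 => lt_asymm (Finset.mem_Ioi.1 h1) (Finset.mem_Iio.1 h2))]
      refine Finset.prod_congr ?_ fun _ _ => rfl
      ext j; simp only [Finset.mem_erase, Finset.mem_univ, and_true, Finset.mem_union, Finset.mem_Ioi, Finset.mem_Iio]
      exact ⟨fun h => (lt_or_gt_of_ne h).symm, fun h => h.elim ne_of_gt ne_of_lt⟩
    simp only [e, Finset.prod_mul_distrib]
    congr 1
    refine Finset.prod_comm' fun i j => by simp
  rw [hsplit, Matrix.det_apply', Matrix.det_apply', Finset.sum_mul_sum, MvPolynomial.coeff_sum]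
  have hmono : ∀ (σ : Equiv.Perm (Fin n)) (F : Fin n → ℕ),
      (∏ j, (MvPolynomial.X (σ j) : MvPolynomial (Fin n) ℤ) ^ F j) = MvPolynomial.monomial (Finsupp.equivFunOnFinite.symm (F ∘ σ.symm)) 1 := by
    intro σ F
    rw [MvPolynomial.monomial_eq, map_one, one_mul, Finsupp.prod_fintype _ _ (fun i => pow_zero _)]
    exact Fintype.prod_equiv σ _ _ fun j => by simp
  have hcard : ∀ σ : Equiv.Perm (Fin n), MvPolynomial.coeff (Finsupp.equivFunOnFinite.symm fun _ : Fin n => n - 1)
      (∑ τ : Equiv.Perm (Fin n),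
        ((Equiv.Perm.sign σ : ℤ) : MvPolynomial (Fin n) ℤ) * (∏ i, Matrix.projVandermonde (1 : Fin n → MvPolynomial (Fin n) ℤ) MvPolynomial.X (σ i) i) *
          (((Equiv.Perm.sign τ : ℤ) : MvPolynomial (Fin n) ℤ) * ∏ i, Matrix.projVandermonde MvPolynomial.X (1 : Fin n → MvPolynomial (Fin n) ℤ) (τ i) i)) = 1 := by
    intro σ
    rw [MvPolynomial.coeff_sum]
    simp only [Matrix.projVandermonde_apply, Pi.one_apply, one_pow, one_mul, mul_one, hmono]
    have e : ∀ τ : Equiv.Perm (Fin n), ((Equiv.Perm.sign σ : ℤ) : MvPolynomial (Fin n) ℤ) * MvPolynomial.monomial (Finsupp.equivFunOnFinite.symm ((fun i => (Fin.rev i : ℕ)) ∘ σ.symm)) 1 *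
        (((Equiv.Perm.sign τ : ℤ) : MvPolynomial (Fin n) ℤ) * MvPolynomial.monomial (Finsupp.equivFunOnFinite.symm ((fun i : Fin n => (i : ℕ)) ∘ τ.symm)) 1) =
        MvPolynomial.C ((Equiv.Perm.sign σ : ℤ) * (Equiv.Perm.sign τ : ℤ)) *
          MvPolynomial.monomial (Finsupp.equivFunOnFinite.symm ((fun i => (Fin.rev i : ℕ)) ∘ σ.symm) + Finsupp.equivFunOnFinite.symm ((fun i : Fin n => (i : ℕ)) ∘ τ.symm)) 1 := fun τ => by
      rw [← one_mul (1 : ℤ), ← MvPolynomial.monomial_mul, one_mul]
      simp only [map_mul, eq_intCast]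
      ring
    simp only [e, MvPolynomial.coeff_C_mul, MvPolynomial.coeff_monomial, mul_ite, mul_one, mul_zero]
    rw [Finset.sum_eq_single σ]
    · rw [if_pos ?_, ← Units.val_mul, Int.units_mul_self, Units.val_one]
      ext x
      simp [Fin.val_rev]
      omega
    · intro τ _ hne
      rw [if_neg]
      intro h
      refine hne (Equiv.ext fun j => ?_)
      have := DFunLike.congr_fun h (τ j)
      simp [Fin.val_rev] at this
      have hj : σ.symm (τ j) = j := Fin.ext (by omega)
      exact ((Equiv.symm_apply_eq σ).1 hj)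
    · intro h; exact absurd (Finset.mem_univ σ) h
  rw [Finset.sum_congr rfl fun σ _ => hcard σ]
  simp [Finset.card_univ, Fintype.card_perm]

end Groth.Agent.S19004
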