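import Groth.Statements.S19005
import Mathlib

set_option linter.all false

set_option autoImplicit false
open scoped TensorProduct
open K2Cent

open TensorProduct

namespace Groth.Agent.S19005

/-- For abelian groups X and M and ε in M with 2ε = 0 (in the source X is the character group of a split
torus and ε is the class of −1 among the units), the map x ↦ (x ⊗ x, −(x ⊗ ε)) into (X ⊗ X) × (X ⊗
M) is quadratic over ℤ, i.e. it underlies an integer quadratic map with exactly these values. -/
theorem result (X M : Type*) [AddCommGroup X]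
    [AddCommGroup M] (ε : M) (hε : 2 • ε = 0) :
    ∃ R : QuadraticMap ℤ X (TensorProduct ℤ X X × TensorProduct ℤ X M),
      ∀ x : X, R x = (x ⊗ₜ[ℤ] x, -(x ⊗ₜ[ℤ] ε)) := by
  refine ⟨{ toFun := fun x => (x ⊗ₜ[ℤ] x, -(x ⊗ₜ[ℤ] ε)), toFun_smul := fun n x => ?_,
            exists_companion' := ⟨LinearMap.mk₂ ℤ (fun x y => (x ⊗ₜ[ℤ] y + y ⊗ₜ[ℤ] x, (0 : TensorProduct ℤ X M))) ?_ ?_ ?_ ?_, fun x y => ?_⟩ }, fun x => rfl⟩
  · have h2 : (2 : ℤ) • (x ⊗ₜ[ℤ] ε) = 0 := by
      rw [TensorProduct.smul_tmul', TensorProduct.smul_tmul, show (2 : ℤ) • ε = 0 by rw [two_zsmul, ← two_nsmul]; exact hε, TensorProduct.tmul_zero]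
    obtain ⟨q, hq⟩ := (Int.even_mul_pred_self n).two_dvd
    refine Prod.ext ?_ ?_
    · simp [TensorProduct.smul_tmul', TensorProduct.tmul_smul, smul_smul]
    · show -((n • x) ⊗ₜ[ℤ] ε) = (n * n) • -(x ⊗ₜ[ℤ] ε)
      rw [← TensorProduct.smul_tmul', show n * n = n + q * 2 by linear_combination hq, smul_neg, add_smul, mul_smul, h2,
        smul_zero, add_zero]
  · intro a b y; simp [TensorProduct.add_tmul, TensorProduct.tmul_add]; abel
  · intro c a y; simp [TensorProduct.smul_tmul', TensorProduct.tmul_smul, smul_add]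
  · intro a b y; simp [TensorProduct.add_tmul, TensorProduct.tmul_add]; abel
  · intro c a y; simp [TensorProduct.smul_tmul', TensorProduct.tmul_smul, smul_add]
  · exact Prod.ext (by simp [TensorProduct.add_tmul, TensorProduct.tmul_add]; abel) (by simp [TensorProduct.add_tmul]; abel)

end Groth.Agent.S19005
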