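import Groth.Statements.S19008
import Groth.Agent.RootDat.IntPairing
import Groth.Agent.RootDat.Length
import Groth.Agent.RootDat.Gram

set_option autoImplicit false
universe u v w x
open RootD Groth.Agent.RootDat

namespace Groth.Agent.S19008

/-- Let P be a finite reduced crystallographic root pairing over an integral domain of characteristic
zero and b a base (simple roots α_i, i in the support of b), with Cartan integers a_ij = ⟨α_i,
α_j^∨⟩. An integer-valued bilinear form C on the lattice with basis the simple coroots is an integer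
matrix C_ij = C(α_i^∨, α_j^∨), and the component of the last map of the complex at the pair (i, j),
i ≠ j, is C ↦ C(α_i^∨, α_j^∨) + C(α_j^∨, s_j(α_i^∨)) = C_ij + C_ji − a_ji C_jj; the pairs (i, j) and
(j, i) index the same component exactly when α_i and α_j are orthogonal. This map is surjective: for
every family of integers d_ij (i ≠ j in the support) with d_ij = d_ji whenever a_ij = 0 there is an
integer matrix C with C_ij + C_ji − a_ji C_jj = d_ij for all i ≠ j in the support. -/
theorem result {ι : Type u} {R : Type v} {M : Type w} {N : Type x} [CommRing R] [IsDomain R] [CharZero R]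
    [AddCommGroup M] [Module R M] [AddCommGroup N] [Module R N] (P : RootPairing ι R M N)
    [Finite ι] [P.IsCrystallographic] [P.IsReduced] (b : P.Base) (d : ι → ι → ℤ)
    (hd : ∀ i ∈ b.support, ∀ j ∈ b.support, i ≠ j → P.pairingIn ℤ i j = 0 → d i j = d j i) :
    ∃ C : ι → ι → ℤ, ∀ i ∈ b.support, ∀ j ∈ b.support, i ≠ j →
      C i j + C j i - P.pairingIn ℤ j i * C j j = d i j := by
  classical
  let := Fintype.ofFinite ι
  set Q := intPairing P with hQ
  set p : ι → ι → ℤ := fun i j => P.pairingIn ℤ i j with hp
  set B : ι → ℤ := fun i => Q.RootForm (Q.root i) (Q.root i) with hB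
  have hpQ : ∀ i j, Q.pairing i j = p i j := intPairing_pairing P
  have hli : LinearIndepOn ℤ Q.root (↑b.support : Set ι) := by
    have h : LinearIndependent ℤ fun i : ↥b.support => P.root i := b.linearIndepOn_root.restrict_scalars' ℤ
    exact LinearIndependent.of_comp (P.rootSpan ℤ).subtype h
  have hpos : ∀ i, 0 < B i := form_root_pos Q
  have hnonpos : ∀ i ∈ b.support, ∀ j ∈ b.support, i ≠ j → p i j ≤ 0 := fun i hi j hj hij =>
    b.pairingIn_le_zero_of_ne (i := i) (j := j) hij hi hj
  -- a short adjacent root has pairing `-1`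
  have hunit : ∀ i ∈ b.support, ∀ j ∈ b.support, i ≠ j → p i j ≠ 0 → B i ≤ B j → p i j = -1 := by
    intro i hi j hj hij h0 hle
    have h₁ := pairing_mul_form Q i j
    have h₂ := pairing_mul_form Q j i
    rw [form_comm Q (Q.root i) (Q.root j), ← h₁, hpQ, hpQ] at h₂
    obtain ⟨h0', h4, hiff⟩ := weight_cases (P := Q) i j
    have hlt : Q.pairing i j * Q.pairing j i < 4 := lt_of_le_of_ne h4 fun e => by
      have hli2 : LinearIndependent ℤ ![Q.root i, Q.root j] := by
        have := hli.comp ![(⟨i, hi⟩ : ↥b.support), ⟨j, hj⟩] (fun a c => by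
          fin_cases a <;> fin_cases c <;> simp [hij, Ne.symm hij])
        convert this using 1
        ext a; fin_cases a <;> rfl
      exact hiff.mp e hli2
    rw [hpQ, hpQ] at hlt
    have hn1 := hnonpos i hi j hj hij
    have hle' : p j i ≤ p i j := by
      have h' : p j i * B i = p i j * B j := h₂
      by_contra hcon
      push Not at hcon
      nlinarith [hpos i, hpos j]
    have h1 : p i j ≤ -1 := by omega
    nlinarith
  have hadj : ∀ i j, p i j = 0 ↔ p j i = 0 := fun i j => by
    rw [← hpQ, ← hpQ]; exact pairing_zero_comm Q i j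
  suffices H : ∀ T : Finset ι, T ⊆ b.support → ∃ c : ι → ℤ, ∀ i ∈ T, ∀ j ∈ T, i ≠ j →
      p i j ≠ 0 → d i j + p j i * c j = d j i + p i j * c i by
    obtain ⟨c, hc⟩ := H b.support subset_rfl
    let o := WellOrderingRel (α := ι)
    refine ⟨fun i j => if i = j then c i else if o i j then d i j + p j i * c j else 0,
      fun i hi j hj hij => ?_⟩
    have hflip : ∀ a b, o a b → ¬ o b a := fun a b h h' => asymm_of o h h'
    simp only [if_neg hij, if_neg (Ne.symm hij), if_true]
    rcases trichotomous_of o i j with h | h | h
    · rw [if_pos h, if_neg (hflip i j h)]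
      simp only [hp]; ring
    · exact absurd h hij
    · rw [if_pos h, if_neg (hflip j i h)]
      by_cases h0 : p i j = 0
      · have h0' : p j i = 0 := (hadj i j).mp h0
        have := hd i hi j hj hij h0
        simp only [hp] at h0 h0' ⊢
        rw [h0, h0']
        linarith
      · have := hc i hi j hj hij h0
        simp only [hp] at this ⊢
        linarith
  intro T hT
  induction T using Finset.strongInduction with
  | _ T ih =>
    rcases T.eq_empty_or_nonempty with rfl | hne
    · exact ⟨0, by simp⟩
    -- a vertex with at most one neighbour in `T`, at least as short as it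
    obtain ⟨k, hk, hgood⟩ : ∃ k ∈ T, ∀ l ∈ T, l ≠ k → p k l ≠ 0 →
        B k ≤ B l ∧ ∀ l' ∈ T, l' ≠ k → p k l' ≠ 0 → l' = l := by
      by_contra! hbad
      let nb : ι → Finset ι := fun k => (T.erase k).filter fun l => p k l ≠ 0
      let x : ↥T → ℤ := fun k => if (nb k).card = 1 then 1 else 2
      have hx : x ≠ 0 := fun h => by
        have := congr_fun h ⟨hne.choose, hne.choose_spec⟩
        simp only [x, Pi.zero_apply] at this
        split at this <;> omega
      have hg := gram_pos (P := Q) T (hli.mono (by exact_mod_cast hT)) x hx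
      have hG := gram_eq (P := Q) T
      set G := (evalMatrix Q T).transpose * evalMatrix Q T
      refine absurd hg (not_lt_of_ge ?_)
      suffices ∀ k : ↥T, (Matrix.mulVec ((2 : ℤ) • G) x) k ≤ 0 by
        have h2 : dotProduct x (Matrix.mulVec ((2 : ℤ) • G) x) ≤ 0 :=
          Finset.sum_nonpos fun k _ => mul_nonpos_of_nonneg_of_nonpos
            (by simp only [x]; split <;> norm_num) (this k)
        rw [Matrix.smul_mulVec, dotProduct_smul, smul_eq_mul] at h2
        linarith
      rintro ⟨k, hk⟩
      rw [← hG]
      show ∑ l : ↥T, B k * Q.pairing (l : ι) k * x l ≤ 0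
      rw [Finset.sum_coe_sort T (fun l => B k * Q.pairing l k *
        (if (nb l).card = 1 then (1 : ℤ) else 2)), ← Finset.add_sum_erase _ _ hk, Q.pairing_same]
      have hterm : ∀ l ∈ T.erase k, p k l = 0 → B k * Q.pairing l k = 0 := fun l _ h => by
        rw [hpQ, (hadj k l).mp h, mul_zero]
      -- each neighbour contributes at most `-(max (B k) (B l))`
      have hbound : ∀ l ∈ nb k, B k * Q.pairing l k ≤ -B k ∧
          (B k ≤ B l → B k * Q.pairing l k ≤ -B l) := by
        intro l hl
        simp only [nb, Finset.mem_filter, Finset.mem_erase] at hl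
        obtain ⟨⟨hlk, hlT⟩, hkl⟩ := hl
        have h₁ := pairing_mul_form Q k l
        have h₂ := pairing_mul_form Q l k
        rw [form_comm Q (Q.root k) (Q.root l), ← h₁, hpQ, hpQ] at h₂
        have hn := hnonpos k (hT hk) l (hT hlT) (Ne.symm hlk)
        have hn' := hnonpos l (hT hlT) k (hT hk) hlk
        have hne' : p l k ≠ 0 := fun e => hkl ((hadj k l).mpr e)
        rw [hpQ]
        have h1 : p l k ≤ -1 := by omega
        refine ⟨by nlinarith [mul_le_mul_of_nonneg_left h1 (hpos k).le], fun _ => ?_⟩
        have h' : p l k * B k = p k l * B l := by linarith [h₂]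
        have h2 : p k l ≠ 0 := fun e => hne' (by
          rw [e, zero_mul] at h'
          exact (mul_eq_zero.mp h').resolve_right (hpos k).ne')
        have h3 : p k l ≤ -1 := by omega
        nlinarith [mul_le_mul_of_nonneg_right h3 (hpos l).le]
      have hrest : ∑ l ∈ T.erase k, B k * Q.pairing l k * (if (nb l).card = 1 then (1 : ℤ) else 2) =
          ∑ l ∈ nb k, B k * Q.pairing l k * (if (nb l).card = 1 then (1 : ℤ) else 2) := by
        refine (Finset.sum_subset (Finset.filter_subset _ _) fun l hl hl' => ?_).symm
        rw [hterm l hl (by simpa [nb, hl] using hl'), zero_mul]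
      rw [hrest]
      obtain ⟨l₀, hl₀T, hl₀k, hkl₀, hbad'⟩ := hbad k hk
      have hl₀ : l₀ ∈ nb k := Finset.mem_filter.mpr ⟨Finset.mem_erase.mpr ⟨hl₀k, hl₀T⟩, hkl₀⟩
      -- a neighbour which is a leaf is longer
      have hleaf : ∀ l ∈ nb k, (nb l).card = 1 → 2 * B k ≤ B l := by
        intro l hl hcard
        simp only [nb, Finset.mem_filter, Finset.mem_erase] at hl
        obtain ⟨⟨hlk, hlT⟩, hkl⟩ := hl
        obtain ⟨m, hmT, hml, hlm, hbad''⟩ := hbad l hlT
        have huniq : ∀ a ∈ T, a ≠ l → p l a ≠ 0 → a = k := fun a ha hal hla =>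
          Finset.card_le_one.mp hcard.le a (Finset.mem_filter.mpr ⟨Finset.mem_erase.mpr ⟨hal, ha⟩, hla⟩)
            k (Finset.mem_filter.mpr ⟨Finset.mem_erase.mpr ⟨Ne.symm hlk, hk⟩,
              fun e => hkl ((hadj k l).mpr e)⟩)
        have hmk := huniq m hmT hml hlm
        subst hmk
        have hlt : B m < B l := by
          by_contra hcon
          obtain ⟨a, ha, hal, hla, hne'⟩ := hbad'' (not_lt.mp hcon)
          exact hne' (huniq a ha hal hla)
        have hu := hunit m (hT hk) l (hT hlT) (Ne.symm hlk) hkl hlt.le
        have h₁ := pairing_mul_form Q m l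
        have h₂ := pairing_mul_form Q l m
        rw [form_comm Q (Q.root m) (Q.root l), ← h₁, hpQ, hpQ, hu] at h₂
        have h' : p l m * B m = -1 * B l := h₂
        have h2' : p l m ≤ -2 := by
          by_contra hc
          have h1 : -1 ≤ p l m := by omega
          nlinarith [mul_le_mul_of_nonneg_right h1 (hpos m).le]
        nlinarith [mul_le_mul_of_nonneg_right h2' (hpos m).le]
      by_cases hcard : (nb k).card = 1
      · -- `k` is a leaf, necessarily longer than its neighbour
        have huniq : ∀ a ∈ T, a ≠ k → p k a ≠ 0 → a = l₀ := fun a ha hak hka =>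
          Finset.card_le_one.mp hcard.le a
            (Finset.mem_filter.mpr ⟨Finset.mem_erase.mpr ⟨hak, ha⟩, hka⟩) l₀ hl₀
        have hlt : B l₀ < B k := by
          by_contra hcon
          obtain ⟨a, ha, hak, hka, hne'⟩ := hbad' (not_lt.mp hcon)
          exact hne' (huniq a ha hak hka)
        have hl0leaf : (nb l₀).card ≠ 1 := fun e => by
          have := hleaf l₀ hl₀ e
          have := hpos k
          omega
        rw [Finset.eq_singleton_iff_unique_mem.mpr ⟨hl₀, fun a ha => by
          simp only [nb, Finset.mem_filter, Finset.mem_erase] at ha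
          exact huniq a ha.1.2 ha.1.1 ha.2⟩, Finset.sum_singleton, if_neg hl0leaf, Finset.card_singleton, if_pos rfl]
        have := (hbound l₀ hl₀).1
        linarith
      · rw [if_neg hcard]
        have h2 : 2 ≤ (nb k).card := by
          have : 0 < (nb k).card := Finset.card_pos.mpr ⟨l₀, hl₀⟩
          omega
        have hle : ∑ l ∈ nb k, B k * Q.pairing l k * (if (nb l).card = 1 then (1 : ℤ) else 2) ≤
            ∑ _l ∈ nb k, (-(2 * B k)) := by
          refine Finset.sum_le_sum fun l hl => ?_
          obtain ⟨hb₁, hb₂⟩ := hbound l hl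
          split
          · rename_i hc
            have := hleaf l hl hc
            have := hb₂ (by have := hpos k; omega)
            rw [mul_one]
            omega
          · linarith
        rw [Finset.sum_const, smul_neg, nsmul_eq_mul] at hle
        have hcast : (2 : ℤ) ≤ (nb k).card := by exact_mod_cast h2
        nlinarith [hpos k]
    obtain ⟨c, hc⟩ := ih (T.erase k) (Finset.erase_ssubset hk) ((Finset.erase_subset _ _).trans hT)
    by_cases hn : ∃ l ∈ T, l ≠ k ∧ p k l ≠ 0
    · obtain ⟨l, hl, hlk, hkl⟩ := hn
      obtain ⟨hle, huniq⟩ := hgood l hl hlk hkl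
      have hu := hunit k (hT hk) l (hT hl) (Ne.symm hlk) hkl hle
      refine ⟨Function.update c k (d l k - d k l - p l k * c l), fun i hi j hj hij h0 => ?_⟩
      by_cases hik : i = k
      · subst hik
        have hjl := huniq j hj (Ne.symm hij) h0
        subst hjl
        rw [Function.update_self, Function.update_of_ne (Ne.symm hij), hu]
        ring
      · by_cases hjk : j = k
        · subst hjk
          have hil := huniq i hi hik fun e => h0 ((hadj i j).mpr e)
          subst hil
          rw [Function.update_self, Function.update_of_ne hik, hu]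
          ring
        · rw [Function.update_of_ne hik, Function.update_of_ne hjk]
          exact hc i (Finset.mem_erase.mpr ⟨hik, hi⟩) j (Finset.mem_erase.mpr ⟨hjk, hj⟩) hij h0
    · push Not at hn
      refine ⟨c, fun i hi j hj hij h0 => ?_⟩
      by_cases hik : i = k
      · subst hik; exact absurd (hn j hj (Ne.symm hij)) h0
      · by_cases hjk : j = k
        · subst hjk; exact absurd ((hadj i j).mpr (hn i hi hik)) h0
        · exact hc i (Finset.mem_erase.mpr ⟨hik, hi⟩) j (Finset.mem_erase.mpr ⟨hjk, hj⟩) hij h0

end Groth.Agent.S19008
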