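import Groth.Statements.S19009
import Groth.Agent.RootDat.Quad

set_option autoImplicit false
universe u v w x
open RootD Groth.Agent.RootDat

namespace Groth.Agent.S19009

/-- Let P be a root pairing over an integral domain R of characteristic zero (roots α acting on the
coweight module N through reflections y ↦ y − ⟨α, y⟩ α^∨), D ⊆ N a submodule containing every coroot
and such that every element of D has a positive integer multiple in the span of the coroots (the
derived part), and Y₀ a complement of D in N. Let Q_d be a quadratic form on N whose restriction to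
D is invariant under all root reflections. Then there is a quadratic form on N, invariant under all
root reflections and agreeing with Q_d on D, if and only if there is an R-bilinear form Φ on N with
Φ(y₀, α^∨) = ⟨α, y₀⟩ Q_d(α^∨) for all y₀ in Y₀ and all roots α. (In the source R = ℤ, N = Y₀ ⊕ Y_der
is the cocharacter lattice of a split reductive group, and the condition is phrased as integrality
on Y₀ × Y_der of the pairing y₀, y ↦ B(q(y₀), y) deduced from the polar form B of Q_d; that pairing
is characterised by the displayed values on coroots, only the values of Φ on Y₀ × D matter, and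
forms take values in R here.) -/
theorem result {ι : Type u} {R : Type v} {M : Type w} {N : Type x} [CommRing R] [IsDomain R] [CharZero R]
    [AddCommGroup M] [Module R M] [AddCommGroup N] [Module R N] (P : RootPairing ι R M N)
    (D Y₀ : Submodule R N) (hD : ∀ i : ι, P.coroot i ∈ D)
    (hDsat : ∀ y ∈ D, ∃ n : ℕ, 0 < n ∧ n • y ∈ Submodule.span R (Set.range P.coroot))
    (hc : IsCompl Y₀ D)
    (Qd : QuadraticMap R N R) (hQd : ∀ i : ι, ∀ y ∈ D, Qd (P.coreflection i y) = Qd y) :
    (∃ Q : QuadraticMap R N R, (∀ (i : ι) (y : N), Q (P.coreflection i y) = Q y) ∧ ∀ y ∈ D, Q y = Qd y) ↔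
      ∃ Φ : N →ₗ[R] N →ₗ[R] R, ∀ y₀ ∈ Y₀, ∀ i : ι,
        Φ y₀ (P.coroot i) = P.root' i y₀ * Qd (P.coroot i) := by
  constructor
  · rintro ⟨Q, hQ, hQd'⟩
    refine ⟨Q.polarBilin, fun y₀ _ i => ?_⟩
    rw [QuadraticMap.polarBilin_apply_apply,
      (invariant_iff Q i ⊤ trivial).mp (fun y _ => hQ i y) y₀ trivial, hQd' _ (hD i)]
  · rintro ⟨Φ, hΦ⟩
    let pY := Submodule.projection Y₀ D hc
    let pD := Submodule.projection D Y₀ hc.symm
    let Q : QuadraticMap R N R := LinearMap.BilinMap.toQuadraticMap (Φ.compl₁₂ pY pD) + Qd.comp pD
    have hQapp : ∀ y, Q y = Φ (pY y) (pD y) + Qd (pD y) := fun y => rfl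
    have hpY : ∀ y, pY y ∈ Y₀ := fun y => Submodule.coe_mem _
    have hpD : ∀ y, pD y ∈ D := fun y => Submodule.coe_mem _
    have hYD : ∀ d ∈ D, pY d = 0 ∧ pD d = d := fun d hd => by
      have hDd : pD d = d := Submodule.projection_apply_of_mem_left hc.symm hd
      refine ⟨?_, hDd⟩
      have := Submodule.projection_add_projection_eq_self hc d
      change pY d + pD d = d at this
      rw [hDd] at this
      simpa using this
    refine ⟨Q, fun i y => ?_, fun d hd => ?_⟩
    · have hdec : pY y + pD y = y := Submodule.projection_add_projection_eq_self hc y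
      obtain ⟨h1, h2⟩ := hYD _ (hD i)
      have a1 : pY (y - P.root' i y • P.coroot i) = pY y := by
        rw [map_sub, map_smul, h1, smul_zero, sub_zero]
      have a2 : pD (y - P.root' i y • P.coroot i) = pD y - P.root' i y • P.coroot i := by
        rw [map_sub, map_smul, h2]
      rw [hQapp, hQapp, RootPairing.coreflection_apply, a1, a2, map_sub, map_smul, hΦ _ (hpY y) i, quad_sub_smul,
        (invariant_iff Qd i D (hD i)).mp (fun z hz => hQd i z hz) _ (hpD y)]
      have e : P.root' i y = P.root' i (pY y) + P.root' i (pD y) := by rw [← map_add, hdec]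
      rw [e, smul_eq_mul]
      ring
    · rw [hQapp, (hYD d hd).1, (hYD d hd).2, map_zero, LinearMap.zero_apply, zero_add]

end Groth.Agent.S19009
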