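import Groth.Statements.S1901
import Mathlib
import Groth.Agent.CycLib28.P1Graph

set_option autoImplicit false
universe u
open CategoryTheory AlgebraicGeometry
open CategoryTheory.Limits
open Cyc

namespace Groth.Agent.S1901

/-- If a k-cycle α on X is rationally equivalent to zero, there is a locally finite family of closed
immersions W_i → P^1_X with W_i integral of δ-dimension k + 1 and generic point over neither
section, such that α = Σ_i ([W_{i,0}]_k − [W_{i,∞}]_k) coefficientwise. A pair (X, δ) with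
Cyc.IsSetup plays the role of a scheme locally of finite type over a fixed base with a dimension
function (X locally Noetherian with universally catenary local rings, δ a dimension function), and
Cyc.DeltaCompat records that the dimension function upstairs is the induced one. -/
theorem result (X : Scheme.{u}) (δ : X → ℤ) (hX : Cyc.IsSetup X δ) (δP : ↥(CohB1.ProjSpaceOver 1 X) → ℤ) (hP : Cyc.DeltaCompat (CohB1.ProjSpaceOver.toBase 1 X) δP δ) (k : ℤ) (α : AlgebraicCycle X ℤ) (hα : α ∈ Cyc.Zk X δ k) (h0 : Cyc.RatEquivZero δ k α) : ∃ (I : Type u) (W : I → Scheme.{u}) (ι : (i : I) → (W i ⟶ CohB1.ProjSpaceOver 1 X)) (_ : ∀ i, IsIntegral (W i)) (_ : ∀ i, IsClosedImmersion (ι i)), (∀ i, δP (ι i (genericPoint (W i))) = k + 1 ∧ ι i (genericPoint (W i)) ∉ Set.range ⇑(P1.sect X 0) ∧ ι i (genericPoint (W i)) ∉ Set.range ⇑(P1.sect X 1)) ∧ (∀ p : ↥(CohB1.ProjSpaceOver 1 X), ∃ U : Set ↥(CohB1.ProjSpaceOver 1 X), IsOpen U ∧ p ∈ U ∧ {i | (Set.range ⇑(ι i) ∩ U).Nonempty}.Finite)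 ∧ ∀ x : X, α x = ∑ᶠ i, (Cyc.subschemeFun δ k (pullback.snd (ι i) (P1.sect X 0)) x - Cyc.subschemeFun δ k (pullback.snd (ι i) (P1.sect X 1)) x) := by
  haveI := hX.1
  obtain ⟨I, ξ, f, hξ, hf, hloc, hsum⟩ := h0
  choose p hp hp0 hb hval hs using fun i ↦ Groth.Agent.CycLib28.exists_graph_point (ξ i) (f i) (hf i)
  have hk : ∀ i, δP (p i) = k + 1 := fun i ↦ by
    rw [Groth.Agent.CycLib28.delta_eq_of_bijective _ hP (p i) (hb i), hp i, hξ i]
  have hgen := fun i ↦ Groth.Agent.CycLib28.genericPoint_clI (p i)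
  refine ⟨I, fun i ↦ (Groth.Agent.AssSch12.clI (p i)).subscheme,
    fun i ↦ (Groth.Agent.AssSch12.clI (p i)).subschemeι, fun i ↦ inferInstance, fun i ↦ inferInstance,
    fun i ↦ ?_, fun q ↦ ?_, fun x ↦ ?_⟩
  · rw [hgen i]
    exact ⟨hk i, hs i 0, hs i 1⟩
  · obtain ⟨U, hU, hqU, hfin⟩ := hloc (CohB1.ProjSpaceOver.toBase 1 X q)
    refine ⟨CohB1.ProjSpaceOver.toBase 1 X ⁻¹' U, hU.preimage (CohB1.ProjSpaceOver.toBase 1 X).continuous, hqU,
      hfin.subset fun i hi ↦ ?_⟩
    obtain ⟨z, hz, hzU⟩ := hi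
    rw [Groth.Agent.Coherent.range_clι] at hz
    exact ⟨CohB1.ProjSpaceOver.toBase 1 X z,
      hp i ▸ (CohB1.ProjSpaceOver.toBase 1 X).continuous.closure_preimage_subset _ (closure_mono (by
        intro w hw
        rw [Set.mem_singleton_iff] at hw
        exact congrArg _ hw) hz), hzU⟩
  · have h := hsum x
    refine h.trans (finsum_congr fun i ↦ ?_)
    rw [Groth.Agent.CycLib28.subschemeFun_sub_eq_divFun hX hP k _ (p i) (hgen i) (hk i) (hp0 i) (hs i) _
      ((map_ne_zero _).mpr (hf i)) (hb i) (hval i) x, Groth.Agent.CycLib28.divFun_congr (hp i)]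
end Groth.Agent.S1901
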