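import Groth.Statements.S19010
import Groth.Agent.RootDat.Quad

set_option autoImplicit false
universe u v w x
open RootD Groth.Agent.RootDat

namespace Groth.Agent.S19010

/-- Let P be a root pairing over an integral domain R of characteristic zero (roots α acting on the
coweight module N through reflections y ↦ y − ⟨α, y⟩ α^∨), D ⊆ N a submodule containing every coroot
and such that every element of D has a positive integer multiple in the span of the coroots (the
derived part), and Y₀ a complement of D in N. Let Q' be a quadratic form on N invariant under all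
root reflections. Then restriction to Y₀ is a bijection from the set of quadratic forms on N that
are invariant under all root reflections and agree with Q' on D onto the set of all quadratic forms
on Y₀. (In the source R = ℤ and N = Y₀ ⊕ Y_der is the cocharacter lattice of a split reductive
group; forms take values in R here.) -/
theorem result {ι : Type u} {R : Type v} {M : Type w} {N : Type x} [CommRing R] [IsDomain R] [CharZero R]
    [AddCommGroup M] [Module R M] [AddCommGroup N] [Module R N] (P : RootPairing ι R M N)
    (D Y₀ : Submodule R N) (hD : ∀ i : ι, P.coroot i ∈ D)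
    (hDsat : ∀ y ∈ D, ∃ n : ℕ, 0 < n ∧ n • y ∈ Submodule.span R (Set.range P.coroot))
    (hc : IsCompl Y₀ D)
    (Q' : QuadraticMap R N R) (hQ' : ∀ (i : ι) (y : N), Q' (P.coreflection i y) = Q' y) :
    Set.BijOn (fun Q : QuadraticMap R N R => Q.comp Y₀.subtype)
      {Q | (∀ (i : ι) (y : N), Q (P.coreflection i y) = Q y) ∧ ∀ y ∈ D, Q y = Q' y} Set.univ := by
  refine ⟨fun Q _ => trivial, fun Q₁ h₁ Q₂ h₂ he => ?_, fun q _ => ?_⟩
  · ext y
    obtain ⟨y₀, hy₀, d, hd, rfl⟩ := Submodule.mem_sup.mp
      (show y ∈ Y₀ ⊔ D by rw [hc.sup_eq_top]; trivial)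
    have heY : Q₁ y₀ = Q₂ y₀ := congr_arg (fun f : QuadraticMap R Y₀ R => f ⟨y₀, hy₀⟩) he
    have hD' : Q₁ d = Q₂ d := (h₁.2 d hd).trans (h₂.2 d hd).symm
    rw [QuadraticMap.map_add Q₁, QuadraticMap.map_add Q₂, heY, hD']
    congr 1
    have hpol : ∀ x ∈ Submodule.span R (Set.range P.coroot),
        QuadraticMap.polar Q₁ y₀ x = QuadraticMap.polar Q₂ y₀ x := by
      intro x hx
      induction hx using Submodule.span_induction with
      | mem x hx =>
        obtain ⟨i, rfl⟩ := hx
        rw [(invariant_iff Q₁ i ⊤ trivial).mp (fun y _ => h₁.1 i y) y₀ trivial,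
          (invariant_iff Q₂ i ⊤ trivial).mp (fun y _ => h₂.1 i y) y₀ trivial,
          h₁.2 _ (hD i), h₂.2 _ (hD i)]
      | zero => simp
      | add x y _ _ hx hy => rw [QuadraticMap.polar_add_right, QuadraticMap.polar_add_right, hx, hy]
      | smul a x _ hx => rw [QuadraticMap.polar_smul_right, QuadraticMap.polar_smul_right, hx]
    obtain ⟨n, hn, hnd⟩ := hDsat d hd
    have := hpol _ hnd
    rw [← Nat.cast_smul_eq_nsmul R, QuadraticMap.polar_smul_right, QuadraticMap.polar_smul_right,
      smul_eq_mul, smul_eq_mul] at this
    exact mul_left_cancel₀ (Nat.cast_ne_zero.mpr hn.ne') this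
  · let pY := Submodule.projectionOnto Y₀ D hc
    let r : QuadraticMap R Y₀ R := q - Q'.comp Y₀.subtype
    refine ⟨Q' + r.comp pY, ⟨fun i y => ?_, fun d hd => ?_⟩, ?_⟩
    · have e : pY (P.coreflection i y) = pY y := by
        rw [RootPairing.coreflection_apply, map_sub, map_smul,
          Submodule.projectionOnto_apply_of_mem_right hc (hD i), smul_zero, sub_zero]
      simp only [QuadraticMap.add_apply, QuadraticMap.comp_apply, hQ' i y, e]
    · simp only [QuadraticMap.add_apply, QuadraticMap.comp_apply,
        show pY d = 0 from Submodule.projectionOnto_apply_of_mem_right hc hd, map_zero, add_zero]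
    · ext ⟨y, hy⟩
      simp only [QuadraticMap.comp_apply, QuadraticMap.add_apply, Submodule.coe_subtype]
      rw [show pY y = ⟨y, hy⟩ from Submodule.projectionOnto_apply_of_mem_left hc hy]
      simp [r, QuadraticMap.sub_apply]

end Groth.Agent.S19010
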