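import Groth.Statements.S19011
import Groth.Agent.RootDat.Length
import Groth.Agent.RootDat.IntPairing
import Groth.Agent.RootDat.Length
import Groth.Agent.RootDat.Comb

set_option autoImplicit false
universe u v w x
open RootD Groth.Agent.RootDat

namespace Groth.Agent.S19011

/-- For a finite reduced crystallographic root pairing over an integral domain of characteristic zero,
the additive group generated by the coroots admits the presentation with one generator [β] for each
root β and the relations [s_α(β)] = [β] − ⟨α, β^∨⟩ [α] for all roots α, β, where ⟨α, β^∨⟩ is the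
Cartan integer. Concretely: the kernel of the ℤ-linear map from the free abelian group on the index
type of the roots to the coweight module sending the generator of index β to the coroot β^∨ is the
subgroup generated by the elements [s_α(β)] − [β] + ⟨α, β^∨⟩ [α]. (The source states this for the
cocharacter lattice of a split semi-simple simply connected group, which is the group generated by
the coroots.) -/
theorem result {ι : Type u} {R : Type v} {M : Type w} {N : Type x} [CommRing R] [IsDomain R] [CharZero R]
    [AddCommGroup M] [Module R M] [AddCommGroup N] [Module R N] (P : RootPairing ι R M N)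
    [Finite ι] [P.IsCrystallographic] [P.IsReduced] :
    LinearMap.ker (Finsupp.linearCombination ℤ (fun i : ι => (P.coroot i : N))) =
      Submodule.span ℤ (Set.range fun p : ι × ι =>
        Finsupp.single (P.reflectionPerm p.1 p.2) (1 : ℤ) - Finsupp.single p.2 1 +
          P.pairingIn ℤ p.1 p.2 • Finsupp.single p.1 1) := by
  classical
  apply le_antisymm
  · intro f hf
    set Q := intPairing P with hQ
    obtain ⟨D₀, hD₀⟩ := exists_simple_sys Q.flip
    set Rel := Submodule.span ℤ (Set.range fun p : ι × ι =>
      Finsupp.single (P.reflectionPerm p.1 p.2) (1 : ℤ) - Finsupp.single p.2 1 +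
        P.pairingIn ℤ p.1 p.2 • Finsupp.single p.1 1) with hRel
    have hmem : ∀ i j, Finsupp.single (P.reflectionPerm i j) (1 : ℤ) - Finsupp.single j 1 +
        P.pairingIn ℤ i j • Finsupp.single i 1 ∈ Rel := fun i j =>
      Submodule.subset_span ⟨(i, j), rfl⟩
    let S : Submodule ℤ (ι →₀ ℤ) := Rel ⊔ Submodule.span ℤ ((fun i => Finsupp.single i (1 : ℤ)) '' D₀)
    have hsimple : ∀ g ∈ reflClosure Q.flip D₀, ∀ j ∈ D₀, Finsupp.single (g • j) (1 : ℤ) ∈ S := by
      intro g hg j hj
      obtain ⟨l, hl, rfl⟩ := exists_word Q.flip hg
      clear hg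
      induction l with
      | nil =>
        rw [wprod_nil, one_smul]
        exact Submodule.mem_sup_right (Submodule.subset_span ⟨j, hj, rfl⟩)
      | cons a l ih =>
        have ih := ih fun b hb => hl b (by simp [hb])
        have ha : a ∈ D₀ := hl a (by simp)
        rw [wprod_cons, mul_smul, refl_smul_idx]
        change Finsupp.single (P.reflectionPerm a (wprod Q.flip l • j)) (1 : ℤ) ∈ S
        set k := wprod Q.flip l • j
        have e : Finsupp.single (P.reflectionPerm a k) (1 : ℤ) =
            (Finsupp.single (P.reflectionPerm a k) (1 : ℤ) - Finsupp.single k 1 +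
              P.pairingIn ℤ a k • Finsupp.single a 1) + Finsupp.single k 1 -
              P.pairingIn ℤ a k • Finsupp.single a 1 := by abel
        rw [e]
        exact sub_mem (add_mem (Submodule.mem_sup_left (hmem a k)) ih)
          (Submodule.smul_mem _ _ (Submodule.mem_sup_right (Submodule.subset_span ⟨a, ha, rfl⟩)))
    have hindiv : ∀ k, RootD.IsIndiv Q.flip k := fun k l hl => by
      -- reducedness of the flipped pairing
      have h1 : Q.flip.pairing k k = 2 := Q.flip.pairing_same k
      rw [← coroot'_root, ← hl, map_smul, coroot'_root, smul_eq_mul] at h1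
      have h2 : Q.flip.pairing l k = 1 := by omega
      have h3 : Q.flip.pairing k l = 4 := by
        rw [← coroot'_root, ← hl, map_smul, coroot'_root, Q.flip.pairing_same, smul_eq_mul]; norm_num
      have h2' : Q.pairing k l = 1 := h2
      have h3' : Q.pairing l k = 4 := h3
      have hdep : ¬ LinearIndependent ℤ ![Q.root k, Q.root l] :=
        (weight_cases (P := Q) k l).2.2.mp (by rw [h2', h3']; norm_num)
      rcases RootPairing.IsReduced.eq_or_eq_neg (P := Q) k l hdep with e | e
      · rw [Q.root.injective e] at h2'
        rw [Q.pairing_same] at h2'; norm_num at h2'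
      · have e' : k = Groth.Agent.RootDat.neg Q l := Q.root.injective (by rw [root_neg, e])
        rw [e', pairing_neg_left, Q.pairing_same] at h2'
        norm_num at h2'
    have hall : ∀ x : ι →₀ ℤ, x ∈ S := fun x => by
      rw [← Finsupp.sum_single x]
      refine Submodule.sum_mem _ fun k _ => ?_
      rw [show Finsupp.single k (x k) = x k • Finsupp.single k (1 : ℤ) by simp]
      obtain ⟨g, hg, j, hj, rfl⟩ := Simple.exists_conj hD₀ (hindiv k)
      exact Submodule.smul_mem _ _ (hsimple g hg j hj)
    obtain ⟨r, hr, g, hg, rfl⟩ := Submodule.mem_sup.mp (hall f)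
    obtain ⟨c, hc, rfl⟩ : ∃ c : ι →₀ ℤ, ↑c.support ⊆ D₀ ∧ c = g := by
      refine ⟨g, (Finsupp.mem_supported ℤ g).mp ?_, rfl⟩
      rwa [Finsupp.supported_eq_span_single]
    have hkerR : r ∈ LinearMap.ker (Finsupp.linearCombination ℤ (fun i : ι => (P.coroot i : N))) := by
      refine Submodule.span_le.mpr ?_ hr
      rintro _ ⟨⟨i, j⟩, rfl⟩
      simp only [SetLike.mem_coe, LinearMap.mem_ker, map_add, map_sub, map_smul,
        Finsupp.linearCombination_single, one_smul]
      rw [← P.reflectionPerm_coroot i j, ← Int.cast_smul_eq_zsmul R]
      rw [show ((P.pairingIn ℤ i j : ℤ) : R) = P.toLinearMap (P.root i) (P.coroot j) from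
        P.algebraMap_pairingIn ℤ i j]
      abel
    rw [LinearMap.mem_ker, map_add, LinearMap.mem_ker.mp hkerR, zero_add] at hf
    have hQ0 : Finsupp.linearCombination ℤ Q.flip.root c = 0 := by
      refine LinearMap.ext fun x => ?_
      apply (algebraMap ℤ R).injective_int
      rw [Finsupp.linearCombination_apply, Finsupp.sum] at hf ⊢
      rw [LinearMap.zero_apply, map_zero, LinearMap.sum_apply, map_sum]
      have := congr_arg (fun n => P.toLinearMap (x : M) n) hf
      simp only [map_sum, map_zero, map_zsmul] at this
      rw [← this]
      refine Finset.sum_congr rfl fun i _ => ?_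
      rw [LinearMap.smul_apply, smul_eq_mul, map_mul, zsmul_eq_mul]
      congr 1
      exact P.algebraMap_coroot'In_apply ℤ i x
    have hc0 : c = 0 := coeff_unique Q.flip hD₀.linInd hc (by simp) (by rw [hQ0, map_zero])
    rw [hc0, add_zero]
    exact hr
  · refine Submodule.span_le.mpr ?_
    rintro _ ⟨⟨i, j⟩, rfl⟩
    simp only [SetLike.mem_coe, LinearMap.mem_ker, map_add, map_sub, map_smul,
      Finsupp.linearCombination_single, one_smul]
    rw [← P.reflectionPerm_coroot i j, ← Int.cast_smul_eq_zsmul R]
    rw [show ((P.pairingIn ℤ i j : ℤ) : R) = P.toLinearMap (P.root i) (P.coroot j) from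
      P.algebraMap_pairingIn ℤ i j]
    abel

end Groth.Agent.S19011
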