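import Groth.Statements.S19012
import Groth.Agent.RootDat.Quad

set_option autoImplicit false
universe u v w x
open RootD Groth.Agent.RootDat

namespace Groth.Agent.S19012

/-- Let P be a finite reduced crystallographic root pairing over a field of characteristic zero which is
irreducible, and b a base. A quadratic form on the coweight module that is invariant under all root
reflections and vanishes on some simple coroot is zero; in other words an invariant form is
determined by its value on a single simple coroot. (The source proves, component by component of the
Dynkin diagram, that an invariant integer-valued form on the coroot lattice with prescribed value on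
the first simple coroot of each component is unique; here the system is irreducible, the coroots
span the coweight module, and forms take values in the base field.) -/
theorem result {ι : Type u} {K : Type v} {M : Type w} {N : Type x} [Field K] [CharZero K]
    [AddCommGroup M] [Module K M] [AddCommGroup N] [Module K N] (P : RootPairing ι K M N)
    [Finite ι] [P.IsCrystallographic] [P.IsReduced] [P.IsIrreducible] (b : P.Base)
    (Q : QuadraticMap K N K) (hQ : ∀ (i : ι) (y : N), Q (P.coreflection i y) = Q y)
    (i₀ : ι) (hi₀ : i₀ ∈ b.support) (h0 : Q (P.coroot i₀) = 0) : Q = 0 := by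
  have hpol : ∀ j y, QuadraticMap.polar Q y (P.coroot j) = P.root' j y * Q (P.coroot j) :=
    fun j y => (invariant_iff Q j ⊤ trivial).mp (fun z _ => hQ j z) y trivial
  let s : Set ι := {i | Q (P.coroot i) = 0}
  have horth : ∀ i ∈ s, ∀ j, j ∉ s → P.IsOrthogonal j i := by
    intro i hi j hj
    have h1 := hpol j (P.coroot i)
    have h2 := hpol i (P.coroot j)
    rw [QuadraticMap.polar_comm, h2, show Q (P.coroot i) = 0 from hi, mul_zero, eq_comm,
      mul_eq_zero] at h1
    have h0 : P.pairing j i = 0 := h1.resolve_right hj
    have : Module.IsReflexive K M := .of_isPerfPair P.toLinearMap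
    exact ⟨h0, P.pairing_eq_zero_iff.mp h0⟩
  have htop : Submodule.span K (P.root '' s) = ⊤ :=
    P.span_root_image_eq_top_of_forall_orthogonal s ⟨i₀, h0⟩ fun j hj i hi =>
      horth i hi j fun hjs => hj (Submodule.subset_span ⟨j, hjs, rfl⟩)
  have hall : ∀ j, Q (P.coroot j) = 0 := fun j => by
    by_contra hj
    have hker : Submodule.span K (P.root '' s) ≤ LinearMap.ker (P.coroot' j) :=
      Submodule.span_le.mpr (by rintro _ ⟨i, hi, rfl⟩; exact (horth i hi j hj).2)
    rw [htop] at hker
    have : P.coroot' j (P.root j) = 0 := hker Submodule.mem_top
    rw [P.root_coroot'_eq_pairing, P.pairing_same] at this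
    exact two_ne_zero this
  have : Nonempty ι := ⟨i₀⟩
  ext y
  have hy : y ∈ Submodule.span K (Set.range P.coroot) := by
    rw [RootPairing.IsRootSystem.span_coroot_eq_top]; trivial
  induction hy using Submodule.span_induction with
  | mem x hx => obtain ⟨i, rfl⟩ := hx; simpa using hall i
  | zero => simp
  | add x y hxs hys hx hy =>
    have : ∀ z ∈ Submodule.span K (Set.range P.coroot), QuadraticMap.polar Q x z = 0 := by
      intro z hz
      induction hz using Submodule.span_induction with
      | mem z hz => obtain ⟨i, rfl⟩ := hz; rw [hpol, hall, mul_zero]
      | zero => simp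
      | add a c _ _ ha hc => rw [QuadraticMap.polar_add_right, ha, hc, add_zero]
      | smul a z _ hz => rw [QuadraticMap.polar_smul_right, hz, smul_zero]
    simp only [QuadraticMap.zero_apply] at hx hy ⊢
    rw [QuadraticMap.map_add Q x y, hx, hy, this y hys, add_zero, add_zero]
  | smul a x _ hx =>
    simp only [QuadraticMap.zero_apply] at hx ⊢
    rw [QuadraticMap.map_smul, hx, smul_zero]

end Groth.Agent.S19012
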