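import Groth.Statements.S19017
import Groth.Agent.S1918
import Groth.Agent.CycLib28.PB.ChernExist
import Groth.Agent.CycLib28.Graph
import Groth.Agent.CycLib28.PushAny
-- import your own Groth.Agent.* helpers here

set_option autoImplicit false
universe u
open CategoryTheory CategoryTheory.Limits AlgebraicGeometry
open IntTh

set_option backward.isDefEq.respectTransparency.types false
namespace Groth.Agent.S19017

/-- Let k be an arbitrary field and X a scheme separated and of finite type over k, with the dimension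
function δ induced from Spec k. Let i_1 : X_1 → X and i_2 : X_2 → X be closed subschemes whose
images cover X, and let Y be their intersection: closed immersions j_1 : Y → X_1, j_2 : Y → X_2 with
i_1 ∘ j_1 = i_2 ∘ j_2 whose image in X is the intersection of the images of X_1 and X_2. Then the
sequence CH_n(Y) → CH_n(X_1) ⊕ CH_n(X_2) → CH_n(X) → 0, with first map γ ↦ (j_{1*}γ, −j_{2*}γ) and
second map the sum of the push-forwards, is exact for every integer n: every n-cycle on X is a sum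
i_{1*}α_1 + i_{2*}α_2 of n-cycles on X_1 and X_2, and whenever such a sum is rationally equivalent
to zero on X there is an n-cycle γ on Y with α_1 rationally equivalent to j_{1*}γ on X_1 and α_2
rationally equivalent to −j_{2*}γ on X_2. (The published statement does not require the two closed
subschemes to cover X; without that requirement the surjectivity fails already for two empty closed
subschemes of a point, and the printed argument uses the covering, so it is assumed here. The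
published statement also calls the sequence one of rings graded by codimension; stated here is the
additive sequence graded by dimension, which is what the printed argument gives.) -/
theorem result (k : Type u) [Field k]
    (X : Scheme.{u}) [X.Over (Spec (CommRingCat.of k))]
    [IsSeparated (X ↘ Spec (CommRingCat.of k))] [LocallyOfFiniteType (X ↘ Spec (CommRingCat.of k))]
    [QuasiCompact (X ↘ Spec (CommRingCat.of k))]
    (δ : X → ℤ) (hδ : Cyc.DeltaCompat (X ↘ Spec (CommRingCat.of k)) δ (fun _ => 0))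
    {X₁ X₂ Y : Scheme.{u}} (i₁ : X₁ ⟶ X) (i₂ : X₂ ⟶ X) [IsClosedImmersion i₁] [IsClosedImmersion i₂]
    (hcov : Set.range i₁ ∪ Set.range i₂ = Set.univ)
    (j₁ : Y ⟶ X₁) (j₂ : Y ⟶ X₂) [IsClosedImmersion j₁] [IsClosedImmersion j₂]
    (hcomm : j₁ ≫ i₁ = j₂ ≫ i₂) (hY : Set.range (j₁ ≫ i₁) = Set.range i₁ ∩ Set.range i₂) (n : ℤ) :
    (∀ α : AlgebraicCycle X ℤ, α ∈ Cyc.Zk X δ n →
      ∃ (α₁ : AlgebraicCycle X₁ ℤ) (α₂ : AlgebraicCycle X₂ ℤ),
        α₁ ∈ Cyc.Zk X₁ (fun x => δ (i₁ x)) n ∧ α₂ ∈ Cyc.Zk X₂ (fun x => δ (i₂ x)) n ∧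
        α = AlgebraicCycle.map i₁ (fun x => δ (i₁ x)) δ α₁ + AlgebraicCycle.map i₂ (fun x => δ (i₂ x)) δ α₂) ∧
    (∀ (α₁ : AlgebraicCycle X₁ ℤ) (α₂ : AlgebraicCycle X₂ ℤ),
      α₁ ∈ Cyc.Zk X₁ (fun x => δ (i₁ x)) n → α₂ ∈ Cyc.Zk X₂ (fun x => δ (i₂ x)) n →
      Cyc.RatEquivZero δ n
        (AlgebraicCycle.map i₁ (fun x => δ (i₁ x)) δ α₁ + AlgebraicCycle.map i₂ (fun x => δ (i₂ x)) δ α₂) →
      ∃ γ : AlgebraicCycle Y ℤ, γ ∈ Cyc.Zk Y (fun y => δ (i₁ (j₁ y))) n ∧
        Cyc.RatEquiv (fun x => δ (i₁ x)) n α₁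
          (AlgebraicCycle.map j₁ (fun y => δ (i₁ (j₁ y))) (fun x => δ (i₁ x)) γ) ∧
        Cyc.RatEquiv (fun x => δ (i₂ x)) n α₂
          (-AlgebraicCycle.map j₂ (fun y => δ (i₁ (j₁ y))) (fun x => δ (i₂ x)) γ)) := by
  have hX := CycLib28.PB.isSetup_of_deltaCompat (X ↘ Spec (CommRingCat.of k)) (CycLib28.isSetup_specField k) hδ
  refine ⟨fun α hα => ?_, fun α₁ α₂ h₁ h₂ h => ?_⟩
  · classical
    let α₁ : AlgebraicCycle X₁ ℤ :=
      { toFun := fun z => α (i₁ z)
        supportWithinDomain' := fun _ _ => Set.mem_univ _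
        supportLocallyFiniteWithinDomain' := fun z _ => by
          obtain ⟨t, ht, hfin⟩ := α.supportLocallyFiniteWithinDomain' (i₁ z) (Set.mem_univ _)
          exact ⟨i₁ ⁻¹' t, i₁.continuous.continuousAt.preimage_mem_nhds ht,
            (hfin.preimage i₁.isClosedEmbedding.injective.injOn).subset fun w hw => ⟨hw.1, hw.2⟩⟩ }
    let α₂ : AlgebraicCycle X₂ ℤ :=
      { toFun := fun z => if i₂ z ∈ Set.range i₁ then 0 else α (i₂ z)
        supportWithinDomain' := fun _ _ => Set.mem_univ _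
        supportLocallyFiniteWithinDomain' := fun z _ => by
          obtain ⟨t, ht, hfin⟩ := α.supportLocallyFiniteWithinDomain' (i₂ z) (Set.mem_univ _)
          refine ⟨i₂ ⁻¹' t, i₂.continuous.continuousAt.preimage_mem_nhds ht,
            (hfin.preimage i₂.isClosedEmbedding.injective.injOn).subset fun w hw => ⟨hw.1, fun h0 => ?_⟩⟩
          refine hw.2 ?_
          show (if i₂ w ∈ Set.range i₁ then 0 else α (i₂ w)) = 0
          rw [show α (i₂ w) = 0 from h0, ite_self] }
    refine ⟨α₁, α₂, fun z hz => hα _ hz, fun z hz => ?_, DFunLike.ext _ _ fun x => ?_⟩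
    · show (if i₂ z ∈ Set.range i₁ then 0 else α (i₂ z)) = 0
      rw [hα _ hz, ite_self]
    show α x = AlgebraicCycle.map i₁ (fun x => δ (i₁ x)) δ α₁ x + AlgebraicCycle.map i₂ (fun x => δ (i₂ x)) δ α₂ x
    by_cases h1 : x ∈ Set.range i₁
    · obtain ⟨z, rfl⟩ := h1
      rw [CycLib28.map_closedImmersion_apply i₁ δ α₁ z]
      by_cases h2 : i₁ z ∈ Set.range i₂
      · obtain ⟨w, hw⟩ := h2
        rw [← hw, CycLib28.map_closedImmersion_apply i₂ δ α₂ w]
        show α (i₂ w) = α (i₁ z) + (if i₂ w ∈ Set.range i₁ then 0 else α (i₂ w))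
        rw [if_pos ⟨z, hw.symm⟩, add_zero, hw]
      · rw [CycLib28.map_closedImmersion_eq_zero i₂ _ δ α₂ _ h2, add_zero]
        rfl
    · obtain ⟨w, rfl⟩ := (Set.mem_union _ _ _).1 (hcov.ge (Set.mem_univ x)) |>.resolve_left h1
      rw [CycLib28.map_closedImmersion_eq_zero i₁ _ δ α₁ _ h1, CycLib28.map_closedImmersion_apply i₂ δ α₂ w,
        zero_add]
      show α (i₂ w) = if i₂ w ∈ Set.range i₁ then 0 else α (i₂ w)
      rw [if_neg h1]
  · classical
    let α₂' : AlgebraicCycle X₂ ℤ := -α₂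
    have hα₂' : ∀ z, α₂' z = (-1) * α₂ z := fun z => by simp [α₂']
    have h' : Cyc.RatEquiv δ n (AlgebraicCycle.map i₁ (fun x => δ (i₁ x)) δ α₁)
        (AlgebraicCycle.map i₂ (fun x => δ (i₂ x)) δ α₂') := by
      have : AlgebraicCycle.map i₁ (fun x => δ (i₁ x)) δ α₁ - AlgebraicCycle.map i₂ (fun x => δ (i₂ x)) δ α₂' =
          AlgebraicCycle.map i₁ (fun x => δ (i₁ x)) δ α₁ + AlgebraicCycle.map i₂ (fun x => δ (i₂ x)) δ α₂ :=
        DFunLike.ext _ _ fun x => by
          show AlgebraicCycle.map i₁ _ δ α₁ x - AlgebraicCycle.map i₂ _ δ α₂' x =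
            AlgebraicCycle.map i₁ _ δ α₁ x + AlgebraicCycle.map i₂ _ δ α₂ x
          rw [CycLib28.map_apply_mul i₂ _ δ α₂ α₂' (-1) hα₂' x]
          ring
      rw [Cyc.RatEquiv, this]
      exact h
    obtain ⟨β, hβ, hr₁, hr₂⟩ := Groth.Agent.S1918.result X δ hX X₁ X₂ i₁ i₂ hcov n α₁ α₂' h₁
      (fun z hz => by rw [hα₂', h₂ z hz, mul_zero]) h'
    let u : Y ⟶ pullback i₁ i₂ := pullback.lift j₁ j₂ hcomm
    have hu₁ : ∀ y, pullback.fst i₁ i₂ (u y) = j₁ y := fun y =>
      congrArg (fun t : Y ⟶ X₁ => t y) (pullback.lift_fst j₁ j₂ hcomm)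
    have hu₂ : ∀ y, pullback.snd i₁ i₂ (u y) = j₂ y := fun y =>
      congrArg (fun t : Y ⟶ X₂ => t y) (pullback.lift_snd j₁ j₂ hcomm)
    haveI : IsClosedImmersion u := by
      haveI : IsClosedImmersion (u ≫ pullback.fst i₁ i₂) := by rw [pullback.lift_fst]; infer_instance
      exact IsClosedImmersion.of_comp u (pullback.fst i₁ i₂)
    have hsurj : ∀ p, ∃ y, u y = p := fun p => by
      have hc : i₁ (pullback.fst i₁ i₂ p) = i₂ (pullback.snd i₁ i₂ p) :=
        congrArg (fun t : pullback i₁ i₂ ⟶ X => t p) (pullback.condition (f := i₁) (g := i₂))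
      obtain ⟨y, hy⟩ := hY.ge ⟨⟨_, rfl⟩, ⟨pullback.snd i₁ i₂ p, hc.symm⟩⟩
      refine ⟨y, (pullback.fst i₁ i₂).isClosedEmbedding.injective (i₁.isClosedEmbedding.injective ?_)⟩
      rw [hu₁]
      exact hy
    let γ : AlgebraicCycle Y ℤ :=
      { toFun := fun y => β (u y)
        supportWithinDomain' := fun _ _ => Set.mem_univ _
        supportLocallyFiniteWithinDomain' := fun z _ => by
          obtain ⟨t, ht, hfin⟩ := β.supportLocallyFiniteWithinDomain' (u z) (Set.mem_univ _)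
          exact ⟨u ⁻¹' t, u.continuous.continuousAt.preimage_mem_nhds ht,
            (hfin.preimage u.isClosedEmbedding.injective.injOn).subset fun w hw => ⟨hw.1, hw.2⟩⟩ }
    have hδ₂ : ∀ y, δ (i₁ (j₁ y)) = δ (i₂ (j₂ y)) := fun y =>
      congrArg δ (congrArg (fun t : Y ⟶ X => t y) hcomm)
    have hpb : (fun z => δ (i₁ (pullback.fst i₁ i₂ z))) = fun z => δ (i₂ (pullback.snd i₁ i₂ z)) :=
      funext fun z => congrArg δ (congrArg (fun t : pullback i₁ i₂ ⟶ X => t z) (pullback.condition (f := i₁) (g := i₂)))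
    refine ⟨γ, fun y hy => hβ _ (by show δ (i₁ (pullback.fst i₁ i₂ (u y))) ≠ n; rw [hu₁]; exact hy), ?_, ?_⟩
    · have e : AlgebraicCycle.map j₁ (fun y => δ (i₁ (j₁ y))) (fun x => δ (i₁ x)) γ =
          AlgebraicCycle.map (pullback.fst i₁ i₂) (fun z => δ (i₁ (pullback.fst i₁ i₂ z))) (fun x => δ (i₁ x)) β :=
        DFunLike.ext _ _ fun z => by
          by_cases hz : z ∈ Set.range j₁
          · obtain ⟨y, rfl⟩ := hz
            rw [CycLib28.map_closedImmersion_apply j₁ (fun x => δ (i₁ x)) γ y, ← hu₁ y,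
              CycLib28.map_closedImmersion_apply (pullback.fst i₁ i₂) (fun x => δ (i₁ x)) β (u y)]
            rfl
          · rw [CycLib28.map_closedImmersion_eq_zero j₁ _ _ γ z hz, CycLib28.map_closedImmersion_eq_zero
              (pullback.fst i₁ i₂) _ _ β z (fun ⟨p, hp⟩ => hz (by obtain ⟨y, rfl⟩ := hsurj p; exact ⟨y, (hu₁ y).symm.trans hp⟩))]
      rw [e]
      exact hr₁
    · have e : -AlgebraicCycle.map j₂ (fun y => δ (i₁ (j₁ y))) (fun x => δ (i₂ x)) γ =
          -AlgebraicCycle.map (pullback.snd i₁ i₂) (fun z => δ (i₁ (pullback.fst i₁ i₂ z))) (fun x => δ (i₂ x)) β := by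
        rw [neg_inj, funext hδ₂, hpb]
        refine DFunLike.ext _ _ fun z => ?_
        by_cases hz : z ∈ Set.range j₂
        · obtain ⟨y, rfl⟩ := hz
          rw [CycLib28.map_closedImmersion_apply j₂ (fun x => δ (i₂ x)) γ y, ← hu₂ y,
            CycLib28.map_closedImmersion_apply (pullback.snd i₁ i₂) (fun x => δ (i₂ x)) β (u y)]
          rfl
        · rw [CycLib28.map_closedImmersion_eq_zero j₂ _ _ γ z hz, CycLib28.map_closedImmersion_eq_zero
            (pullback.snd i₁ i₂) _ _ β z (fun ⟨p, hp⟩ => hz (by obtain ⟨y, rfl⟩ := hsurj p; exact ⟨y, (hu₂ y).symm.trans hp⟩))]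
      rw [Cyc.RatEquiv] at hr₂ ⊢
      rw [e]
      have hneg : ∀ z, (α₂ - -AlgebraicCycle.map (pullback.snd i₁ i₂) (fun z => δ (i₁ (pullback.fst i₁ i₂ z)))
          (fun x => δ (i₂ x)) β) z = -((α₂' - AlgebraicCycle.map (pullback.snd i₁ i₂)
          (fun z => δ (i₁ (pullback.fst i₁ i₂ z))) (fun x => δ (i₂ x)) β) z) := fun z => by
        simp [α₂']
        ring
      haveI := hX.1
      haveI : IsLocallyNoetherian X₂ := LocallyOfFiniteType.isLocallyNoetherian i₂
      exact CycLib28.ratEquivZero_neg (CycLib28.isDimFun_comp_closedImmersion i₂ hX.2.2) hr₂ hneg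

end Groth.Agent.S19017
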