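import Groth.Statements.S19018
import Mathlib
import Groth.Prelude
import Groth.Agent.S0612

set_option linter.all false

set_option autoImplicit false
universe u
open TensorProduct
open SymTen

open TensorProduct Pointwise

namespace Groth.Agent.S19018

/-- Suppose k is a field in which 2 ≠ 0 and R is a commutative k-algebra. Write I for the ideal of the
diagonal, i.e. the kernel of multiplication R ⊗_k R → R, and write S for the subalgebra of R ⊗_k R
consisting of elements invariant under interchanging the two tensor factors. Then, viewed as ideals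
of S, the swap-invariant elements of I^4 form precisely the square of the ideal of swap-invariant
elements of I^2. (The source is stated over the complex numbers; the proof needs only that 2 is
invertible.) -/
theorem result
    (k R : Type u) [Field k] [NeZero (2 : k)] [CommRing R] [Algebra k R] :
    Ideal.comap
        (AlgHom.equalizer ((Algebra.TensorProduct.comm k R R : R ⊗[k] R ≃ₐ[k] R ⊗[k] R) : R ⊗[k] R →ₐ[k] R ⊗[k] R)
          (AlgHom.id k (R ⊗[k] R))).val
        (KaehlerDifferential.ideal k R ^ 4) =
      (Ideal.comap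
        (AlgHom.equalizer ((Algebra.TensorProduct.comm k R R : R ⊗[k] R ≃ₐ[k] R ⊗[k] R) : R ⊗[k] R →ₐ[k] R ⊗[k] R)
          (AlgHom.id k (R ⊗[k] R))).val
        (KaehlerDifferential.ideal k R ^ 2)) ^ 2 := by
  classical
  let σ : R ⊗[k] R →ₐ[k] R ⊗[k] R := (Algebra.TensorProduct.comm k R R : R ⊗[k] R ≃ₐ[k] R ⊗[k] R)
  let S := AlgHom.equalizer σ (AlgHom.id k (R ⊗[k] R))
  let J := KaehlerDifferential.ideal k R
  let v : S →ₐ[k] R ⊗[k] R := S.val
  apply le_antisymm
  swap
  · intro x hx
    rw [sq] at hx
    have : ((J ^ 2).comap v * (J ^ 2).comap v).map v ≤ J ^ 4 := by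
      rw [Ideal.map_mul, show J ^ 4 = J ^ 2 * J ^ 2 by rw [← pow_add]]
      exact Ideal.mul_mono Ideal.map_comap_le Ideal.map_comap_le
    exact this (Ideal.mem_map_of_mem v hx)
  · intro x hx
    have hσ : ∀ y, σ (σ y) = y := fun y => by
      induction y using TensorProduct.induction_on with
      | zero => simp
      | tmul a b => simp [σ]
      | add a b ha hb => simp only [map_add, ha, hb]
    let d : R → R ⊗[k] R := fun a => (1 : R) ⊗ₜ[k] a - a ⊗ₜ[k] (1 : R)
    have hd : ∀ a, σ (d a) = - d a := fun a => by simp [σ, d]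
    have h2 : (2 : k) ≠ 0 := NeZero.ne _
    have hJ2 : ∀ a b, d a * d b ∈ J ^ 2 := fun a b => by
      rw [sq]; exact Ideal.mul_mem_mul (KaehlerDifferential.one_smul_sub_smul_one_mem_ideal k a) (KaehlerDifferential.one_smul_sub_smul_one_mem_ideal k b)
    -- symmetrisation
    have key : ∀ y ∈ J ^ 4, ∀ c : R ⊗[k] R, ∃ z : S, z ∈ ((J ^ 2).comap v) ^ 2 ∧ v z = (2 : k)⁻¹ • (c * y + σ (c * y)) := by
      have h4 : J ^ 4 = Ideal.span (Set.range d * Set.range d * (Set.range d * Set.range d)) := by
        show KaehlerDifferential.ideal k R ^ 4 = _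
        rw [← KaehlerDifferential.span_range_eq_ideal, ← Ideal.span_mul_span', ← Ideal.span_mul_span']
        show (Ideal.span (Set.range d)) ^ 4 = _
        ring
      intro y hy
      rw [h4] at hy
      induction hy using Submodule.span_induction with
      | mem y hy =>
        obtain ⟨_, ⟨_, ⟨a, rfl⟩, _, ⟨b, rfl⟩, rfl⟩, _, ⟨_, ⟨a', rfl⟩, _, ⟨b', rfl⟩, rfl⟩, rfl⟩ := hy
        intro c
        let e := (2 : k)⁻¹ • (c + σ c) * (d a * d b)
        have he : σ e = e := by
          simp [e, hd, hσ, add_comm]
        have he' : σ (d a' * d b') = d a' * d b' := by simp [hd]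
        refine ⟨(⟨e, he⟩ : S) * ⟨d a' * d b', he'⟩, ?_, ?_⟩
        · rw [sq]
          exact Ideal.mul_mem_mul (Ideal.mul_mem_left _ _ (hJ2 a b)) (hJ2 a' b')
        · show e * (d a' * d b') = _
          simp only [e, map_mul, hd, smul_add, add_mul, smul_mul_assoc, mul_assoc]
          congr 2
          ring
      | zero => exact fun c => ⟨0, zero_mem _, by simp⟩
      | add y y' _ _ hy hy' =>
        intro c
        obtain ⟨z, hz, hz'⟩ := hy c
        obtain ⟨w, hw, hw'⟩ := hy' c
        refine ⟨z + w, add_mem hz hw, ?_⟩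
        rw [map_add, hz', hw', ← smul_add, mul_add, map_add]
        congr 1
        abel
      | smul r y _ hy =>
        intro c
        obtain ⟨z, hz, hz'⟩ := hy (c * r)
        exact ⟨z, hz, by rw [hz', smul_eq_mul, mul_assoc]⟩
    obtain ⟨z, hz, hzx⟩ := key _ hx 1
    have : z = x := Subtype.ext (by
      show v z = v x
      rw [hzx, one_mul, show σ (v x) = v x from x.2, ← two_smul k, smul_smul, inv_mul_cancel₀ h2, one_smul])
    exact this ▸ hz

end Groth.Agent.S19018
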