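import Groth.Statements.S19019
import Mathlib.Analysis.SpecialFunctions.Integrals.Basic
import Mathlib.LinearAlgebra.Matrix.PosDef
import Mathlib.Analysis.Matrix.Hermitian
import Mathlib.Topology.Algebra.Module.Cardinality

set_option autoImplicit false
open scoped ComplexOrder
open Toeplitz

namespace Groth.Agent.S19019

open Matrix

/-- orthogonality of characters -/
theorem integral_char (n : ℤ) :
    ∫ y in (0:ℝ)..(2 * Real.pi), Complex.exp (Complex.I * (n : ℂ) * (y : ℂ)) =
      if n = 0 then ((2 * Real.pi : ℝ) : ℂ) else 0 := by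
  split_ifs with h
  · subst h; simp
  · have hc : Complex.I * (n : ℂ) ≠ 0 := mul_ne_zero Complex.I_ne_zero (by exact_mod_cast h)
    rw [integral_exp_mul_complex hc]
    have : Complex.exp (Complex.I * (n : ℂ) * ((2 * Real.pi : ℝ) : ℂ)) = 1 := by
      rw [show Complex.I * (n : ℂ) * ((2 * Real.pi : ℝ) : ℂ) = (n : ℂ) * (2 * Real.pi * Complex.I) by push_cast; ring]
      exact Complex.exp_int_mul_two_pi_mul_I n
    rw [this]; simp

/-- the bilinear expansion -/
theorem integral_symbol (m : ℕ) (s : Finset ℤ) (t : ℤ → ℂ) (x : Fin m → ℂ) :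
    ∫ y in (0:ℝ)..(2 * Real.pi), (∑ k ∈ s, t k * Complex.exp (Complex.I * (k : ℂ) * (y : ℂ))) *
      (Complex.normSq (∑ j : Fin m, x j * Complex.exp (-(Complex.I * ((j : ℕ) : ℂ) * (y : ℂ)))) : ℂ) =
      ((2 * Real.pi : ℝ) : ℂ) * ∑ i : Fin m, ∑ j : Fin m,
        starRingEnd ℂ (x i) * x j * (if ((j : ℤ) - (i : ℤ)) ∈ s then t ((j : ℤ) - (i : ℤ)) else 0) := by
  have hexp : ∀ y : ℝ, (∑ k ∈ s, t k * Complex.exp (Complex.I * (k : ℂ) * (y : ℂ))) *
      (Complex.normSq (∑ j : Fin m, x j * Complex.exp (-(Complex.I * ((j : ℕ) : ℂ) * (y : ℂ)))) : ℂ) =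
      ∑ k ∈ s, ∑ i : Fin m, ∑ j : Fin m, starRingEnd ℂ (x i) * x j * t k *
        Complex.exp (Complex.I * (((k - ((j : ℤ) - (i : ℤ))) : ℤ) : ℂ) * (y : ℂ)) := by
    intro y
    rw [Complex.normSq_eq_conj_mul_self, map_sum, Finset.sum_mul_sum, Finset.sum_mul]
    refine Finset.sum_congr rfl fun k _ => ?_
    rw [Finset.mul_sum]
    refine Finset.sum_congr rfl fun i _ => ?_
    rw [Finset.mul_sum]
    refine Finset.sum_congr rfl fun j _ => ?_
    rw [map_mul, ← Complex.exp_conj]
    simp only [map_neg, map_mul, Complex.conj_I, map_natCast, Complex.conj_ofReal, neg_mul, neg_neg]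
    rw [show Complex.I * (((k - ((j : ℤ) - (i : ℤ))) : ℤ) : ℂ) * (y : ℂ) =
      Complex.I * (k : ℂ) * y + (Complex.I * ((i : ℕ) : ℂ) * y + -(Complex.I * ((j : ℕ) : ℂ) * y)) by
        push_cast; ring, Complex.exp_add, Complex.exp_add]
    ring
  simp only [hexp]
  rw [intervalIntegral.integral_finsetSum fun k _ => (by fun_prop : Continuous _).intervalIntegrable _ _]
  rw [Finset.sum_congr rfl fun k _ =>
    intervalIntegral.integral_finsetSum fun i _ => (by fun_prop : Continuous _).intervalIntegrable _ _]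
  rw [Finset.sum_congr rfl fun k _ => Finset.sum_congr rfl fun i _ =>
    intervalIntegral.integral_finsetSum fun j _ => (by fun_prop : Continuous _).intervalIntegrable _ _]
  simp only [intervalIntegral.integral_const_mul, integral_char]
  rw [Finset.mul_sum, Finset.sum_comm]
  refine Finset.sum_congr rfl fun i _ => ?_
  rw [Finset.mul_sum, Finset.sum_comm]
  refine Finset.sum_congr rfl fun j _ => ?_
  simp only [sub_eq_zero, mul_ite, mul_zero]
  rw [Finset.sum_ite_eq']
  split_ifs <;> ring

/-- Let A be an m × m complex Hermitian Toeplitz matrix, with entries A i j = t (j - i) constant along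
diagonals, and let f(y) = Σ_{-m < k < m} t k · exp(i k y) be the trigonometric polynomial attached
to it. If f has positive real part at every real y outside a countable set, then A is positive
definite (hence nondegenerate). (The source also states the mirror case: f negative off a countable
set gives A negative definite, which is this statement for -A.) -/
theorem result
    (m : ℕ) (t : ℤ → ℂ) (A : Matrix (Fin m) (Fin m) ℂ)
    (hA : ∀ i j : Fin m, A i j = t ((j : ℤ) - (i : ℤ))) (hH : A.IsHermitian)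
    (hpos : Set.Countable {y : ℝ | ¬ 0 < (∑ k ∈ Finset.Ioo (-(m : ℤ)) (m : ℤ),
        t k * Complex.exp (Complex.I * (k : ℂ) * (y : ℂ))).re}) :
    A.PosDef := by
  refine Matrix.PosDef.of_dotProduct_mulVec_pos hH fun x hx => ?_
  have hin : ∀ i j : Fin m, ((j : ℤ) - (i : ℤ)) ∈ Finset.Ioo (-(m : ℤ)) (m : ℤ) := fun i j => by
    rw [Finset.mem_Ioo]; omega
  let F : ℝ → ℂ := fun y => ∑ k ∈ Finset.Ioo (-(m : ℤ)) (m : ℤ), t k * Complex.exp (Complex.I * (k : ℂ) * (y : ℂ))
  let p : ℝ → ℂ := fun y => ∑ j : Fin m, x j * Complex.exp (-(Complex.I * ((j : ℕ) : ℂ) * (y : ℂ)))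
  have hF : Continuous F := by fun_prop
  have hp : Continuous p := by fun_prop
  have hnn : ∀ y, 0 ≤ (F y).re := by
    intro y
    have hd : Dense {y : ℝ | ¬ 0 < (F y).re}ᶜ := Set.Countable.dense_compl ℝ hpos
    have hc : IsClosed {y : ℝ | 0 ≤ (F y).re} := isClosed_le continuous_const (Complex.continuous_re.comp hF)
    exact hc.closure_subset_iff.mpr (fun z hz => le_of_lt (by simpa using hz)) (hd y)
  have hI : ∫ y in (0:ℝ)..(2 * Real.pi), F y * (Complex.normSq (p y) : ℂ) =
      ((2 * Real.pi : ℝ) : ℂ) * (star x ⬝ᵥ A *ᵥ x) := by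
    rw [integral_symbol]
    congr 1
    simp only [dotProduct, mulVec, Pi.star_apply, Finset.mul_sum, if_pos (hin _ _), hA]
    exact Finset.sum_congr rfl fun i _ => Finset.sum_congr rfl fun j _ => by
      rw [RCLike.star_def]; ring
  have hposint : 0 < ∫ y in (0:ℝ)..(2 * Real.pi), (F y).re * Complex.normSq (p y) := by
    refine intervalIntegral.integral_pos (by positivity) (by fun_prop)
      (fun y _ => mul_nonneg (hnn y) (Complex.normSq_nonneg _)) ?_
    by_contra hc
    simp only [not_exists, not_and, not_lt] at hc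
    have hp0 : ∀ y ∈ Set.Ioo (0:ℝ) (2 * Real.pi), p y = 0 := by
      intro y hy
      have hd : Dense {y : ℝ | ¬ 0 < (F y).re}ᶜ := Set.Countable.dense_compl ℝ hpos
      have hcl : IsClosed {y : ℝ | p y = 0} := isClosed_eq hp continuous_const
      have hsub : Set.Ioo (0:ℝ) (2 * Real.pi) ∩ {y : ℝ | ¬ 0 < (F y).re}ᶜ ⊆ {y : ℝ | p y = 0} := by
        rintro z ⟨hz, hz'⟩
        have h1 : 0 < (F z).re := by simpa using hz'
        have h2 := hc z (Set.Ioo_subset_Icc_self hz)
        have h3 : Complex.normSq (p z) ≤ 0 := by nlinarith [Complex.normSq_nonneg (p z)]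
        exact Complex.normSq_eq_zero.mp (le_antisymm h3 (Complex.normSq_nonneg _))
      exact (hcl.closure_subset_iff.mpr hsub) (hd.open_subset_closure_inter isOpen_Ioo hy)
    have hzero : ∀ y ∈ Set.uIcc (0:ℝ) (2 * Real.pi), p y = 0 := by
      rw [Set.uIcc_of_le (by positivity)]
      intro y hy
      rw [← closure_Ioo (by positivity)] at hy
      exact (isClosed_eq hp continuous_const).closure_subset_iff.mpr hp0 hy
    have horth := integral_symbol m {0} (fun _ => 1) x
    rw [intervalIntegral.integral_congr (g := fun _ => (0 : ℂ)) fun y hy => by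
      show _ * (Complex.normSq (p y) : ℂ) = 0
      rw [hzero y hy]; simp] at horth
    rw [intervalIntegral.integral_zero, eq_comm, mul_eq_zero] at horth
    have h2pi : ((2 * Real.pi : ℝ) : ℂ) ≠ 0 := by exact_mod_cast (by positivity : (2 * Real.pi : ℝ) ≠ 0)
    have horth' := horth.resolve_left h2pi
    simp only [Finset.mem_singleton, sub_eq_zero, Nat.cast_inj, ← Fin.ext_iff, mul_ite, mul_one, mul_zero,
      Finset.sum_ite_eq', Finset.mem_univ, if_true, ← Complex.normSq_eq_conj_mul_self] at horth'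
    rw [← Complex.ofReal_sum, Complex.ofReal_eq_zero,
      Finset.sum_eq_zero_iff_of_nonneg fun i _ => Complex.normSq_nonneg _] at horth'
    exact hx (funext fun i => Complex.normSq_eq_zero.mp (horth' i (Finset.mem_univ i)))
  have hreal : (star x ⬝ᵥ A *ᵥ x).im = 0 := by
    have := Matrix.IsHermitian.im_star_dotProduct_mulVec_self hH x
    simpa using this
  have hre : (∫ y in (0:ℝ)..(2 * Real.pi), F y * (Complex.normSq (p y) : ℂ)).re =
      ∫ y in (0:ℝ)..(2 * Real.pi), (F y).re * Complex.normSq (p y) := by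
    rw [← Complex.reCLM_apply, ← ContinuousLinearMap.intervalIntegral_comp_comm _
      ((by fun_prop : Continuous fun y => F y * (Complex.normSq (p y) : ℂ)).intervalIntegrable _ _)]
    exact intervalIntegral.integral_congr fun y _ => by simp
  rw [hI, Complex.re_ofReal_mul] at hre
  rw [Complex.pos_iff]
  refine ⟨?_, hreal.symm⟩
  have h2pi : (0:ℝ) < 2 * Real.pi := by positivity
  nlinarith

end Groth.Agent.S19019
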