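import Groth.Statements.S19022
import Groth.Agent.PicLib.Invertible
import Groth.Agent.Coherent.QcohLocal
import Groth.Agent.QCohLoc.Unit
open Groth.Agent.PicLib Groth.Agent.Coherent AlgebraicGeometry CategoryTheory TopologicalSpace

set_option autoImplicit false
universe u
open CategoryTheory AlgebraicGeometry
open PicF

namespace Groth.Agent.S19022

/-- Let X be a scheme, L an invertible O_X-module and T a finite set of closed points of X that lies in
some affine open of X. Then T lies in an affine open U of X on which L is trivial (L restricted to U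
is isomorphic to the structure sheaf). (The source states this for a smooth quasi-projective complex
surface, where every finite set of points lies in an affine open, and phrases it as: X^n and the
symmetric product S^n X are covered by the opens U^n and S^n U with U affine and L trivial on U; the
printed argument uses only that the finitely many points lie in one affine open, which is taken as
the hypothesis here.) -/
theorem result
    (X : Scheme.{u}) (L : X.Modules) (hL : PicF.IsInvertible L)
    (T : Finset X) (hT : ∀ x ∈ T, IsClosed ({x} : Set X))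
    (hU : ∃ U : X.Opens, IsAffineOpen U ∧ ∀ x ∈ T, x ∈ U) :
    ∃ U : X.Opens, IsAffineOpen U ∧ (∀ x ∈ T, x ∈ U) ∧
      Nonempty (L.restrict U.ι ≅ Coh.structureModule (↑U : Scheme.{u})) := by
  classical
  obtain ⟨U, hUa, hTU⟩ := hU
  have : Coh.IsQCoh L := by
    choose W hW e using hL
    refine isQCoh_of_openImmersion_cover L (fun y : X => (W y).ι) (fun y => ⟨y, by
      rw [Scheme.Opens.opensRange_ι]; exact hW y⟩) fun y => ?_
    have := Groth.Agent.QCohLoc.isQCoh_structureModule (W y : Scheme.{u})
    exact isQCoh_of_iso (e y).some.symm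
  -- an element of `Γ(X, U)` isolating each point, with a generator on its basic open
  have hiso : ∀ x : T, ∃ f : Γ(X, U), (x : X) ∈ X.basicOpen f ∧ (∀ y ∈ T, y ≠ (x : X) → y ∉ X.basicOpen f) ∧
      ∃ g : Γ(L, X.basicOpen f), IsGen L (X.basicOpen f) g := by
    intro x
    obtain ⟨Ux, hx, g, hg⟩ := exists_isGen hL x.1
    have hC : IsClosed (↑(T.erase x.1) : Set X) := by
      rw [← Set.biUnion_of_singleton (↑(T.erase x.1) : Set X)]
      exact Set.Finite.isClosed_biUnion (Finset.finite_toSet _) fun y hy => hT y (Finset.mem_of_mem_erase hy)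
    let V : X.Opens := Ux ⊓ ⟨(↑(T.erase x.1) : Set X)ᶜ, hC.isOpen_compl⟩
    obtain ⟨f, hfV, hxf⟩ := hUa.exists_basicOpen_le (V := V) ⟨x.1, ⟨hx, fun h => (Finset.mem_erase.1 h).1 rfl⟩⟩ (hTU _ x.2)
    exact ⟨f, hxf, fun y hy hne hyf => (hfV hyf).2 (Finset.mem_erase.2 ⟨hne, hy⟩),
      resM L (hfV.trans inf_le_left) g, hg.restrict _⟩
  choose f hxf hfo g hg using hiso
  have hext : ∀ x : T, ∃ (n : ℕ) (t : Γ(L, U)),
      resM L (X.basicOpen_le (f x)) t = res (X.basicOpen_le (f x)) (f x ^ n) • g x :=
    fun x => (localizesOn_of_isQCoh L hUa).exists_pow_smul (f x) (g x)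
  choose n t ht using hext
  let a : Γ(L, U) := ∑ x : T, f x • t x
  -- the coordinate of `a` near a point of `T` is a unit there
  have hloc : ∀ y : T, ∃ V : X.Opens, (y : X) ∈ V ∧ ∃ hVU : V ≤ U, IsGen L V (resM L hVU a) := by
    intro y
    have hle := X.basicOpen_le (f y)
    let c : Γ(X, X.basicOpen (f y)) := (hg y).coef le_rfl (resM L hle a)
    let d : T → Γ(X, X.basicOpen (f y)) := fun x => (hg y).coef le_rfl (resM L hle (t x))
    have hd : ∀ x, d x • g y = resM L hle (t x) := fun x => by
      have := (hg y).coef_spec le_rfl (resM L hle (t x))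
      rwa [resM_self] at this
    have hc : c = ∑ x : T, res hle (f x) * d x := by
      refine (hg y).coef_eq le_rfl ?_
      rw [resM_self, Finset.sum_smul, map_sum]
      exact Finset.sum_congr rfl fun x _ => by rw [mul_smul, hd, resM_smul]
    have hdy : d y = res hle (f y ^ n y) := by
      refine (hg y).coef_eq le_rfl ?_
      rw [resM_self]
      exact (ht y).symm
    let φ : Γ(X, X.basicOpen (f y)) →+* X.presheaf.stalk (y : X) := (X.presheaf.germ _ (y : X) (hxf y)).hom
    have hφ : ∀ r : Γ(X, U), φ (res hle r) = X.presheaf.germ U (y : X) (hTU _ y.2) r := fun r =>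
      X.presheaf.germ_res_apply (homOfLE hle) (y : X) (hxf y) r
    have hy : φ (res hle (f y)) ∉ IsLocalRing.maximalIdeal _ := by
      rw [hφ, IsLocalRing.notMem_maximalIdeal, ← Scheme.mem_basicOpen]
      exact hxf y
    have hother : ∀ x : T, x ≠ y → φ (res hle (f x)) ∈ IsLocalRing.maximalIdeal _ := fun x hx => by
      rw [hφ]
      by_contra hn
      rw [IsLocalRing.notMem_maximalIdeal, ← Scheme.mem_basicOpen] at hn
      exact hfo x y y.2 (fun h => hx (Subtype.ext h).symm) hn
    have hu : IsUnit (φ c) := by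
      rw [← IsLocalRing.notMem_maximalIdeal, hc, map_sum]
      intro hm
      rw [← Finset.sum_erase_add _ _ (Finset.mem_univ y)] at hm
      have h1 : ∑ x ∈ Finset.univ.erase y, φ (res hle (f x) * d x) ∈ IsLocalRing.maximalIdeal _ :=
        Ideal.sum_mem _ fun x hx => by
          rw [map_mul]
          exact Ideal.mul_mem_right _ _ (hother x (Finset.ne_of_mem_erase hx))
      have h2 := (Ideal.add_mem_iff_right _ h1).1 hm
      rw [hdy, map_mul, map_pow, map_pow] at h2
      exact ((IsLocalRing.maximalIdeal.isMaximal _).isPrime.mem_or_mem h2).elim hy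
        fun h => hy ((IsLocalRing.maximalIdeal.isMaximal _).isPrime.mem_of_pow_mem _ h)
    have hle' : X.basicOpen c ≤ X.basicOpen (f y) := X.basicOpen_le c
    refine ⟨X.basicOpen c, (Scheme.mem_basicOpen X c (y : X) (hxf y)).2 hu, hle'.trans hle, ?_⟩
    have hcu : IsUnit (res (X.basicOpen_le c) c) := RingedSpace.isUnit_res_basicOpen _ c
    have hgen := ((hg y).restrict hle').smul_unit hcu.unit
    have : resM L (hle'.trans hle) a = (hcu.unit : Γ(X, X.basicOpen c)) • resM L hle' (g y) := by
      rw [IsUnit.unit_spec, ← resM_resM L hle hle' a, ← (hg y).coef_spec le_rfl (resM L hle a), resM_self, resM_smul]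
    rw [this]
    exact hgen
  choose V hyV hVU hV using hloc
  -- shrink to one basic open
  have hsub : ∀ x : T, ∃ h : Γ(X, U), X.basicOpen h ≤ V x ∧ (x : X) ∈ X.basicOpen h := fun x =>
    hUa.exists_basicOpen_le (V := V x) ⟨x.1, hyV x⟩ (hTU _ x.2)
  choose h hhV hxh using hsub
  let p : T → Ideal Γ(X, U) := fun x =>
    (IsLocalRing.maximalIdeal (X.presheaf.stalk (x : X))).comap (X.presheaf.germ U (x : X) (hTU _ x.2)).hom
  have hp : ∀ (x : T) (r : Γ(X, U)), r ∈ p x ↔ (x : X) ∉ X.basicOpen r := fun x r => by
    rw [Scheme.mem_basicOpen X r (x : X) (hTU _ x.2), Ideal.mem_comap, IsLocalRing.mem_maximalIdeal]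
    rfl
  obtain ⟨F, hFI, hF⟩ : ∃ F ∈ Ideal.span (Set.range h), ∀ x : T, F ∉ p x := by
    rcases isEmpty_or_nonempty T with hE | hE
    · exact ⟨0, zero_mem _, fun x => hE.elim x⟩
    by_contra hc
    push Not at hc
    obtain ⟨x, -, hx⟩ := (Ideal.subset_union_prime (s := (Finset.univ : Finset T)) (f := p)
      (I := Ideal.span (Set.range h)) (Classical.arbitrary _) (Classical.arbitrary _)
      (fun i _ _ _ => Ideal.comap_isPrime _ _)).1 (fun r hr => by
        obtain ⟨x, hx⟩ := hc r hr
        exact Set.mem_biUnion (by simp) hx)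
    exact (hp x (h x)).1 (hx (Ideal.subset_span ⟨x, rfl⟩)) (hxh x)
  have hcover : X.basicOpen F ≤ ⨆ x : T, V x := by
    have : ∀ r ∈ Ideal.span (Set.range h), X.basicOpen r ≤ ⨆ x : T, V x := by
      intro r hr
      induction hr using Submodule.span_induction with
      | mem r hr => obtain ⟨x, rfl⟩ := hr; exact (hhV x).trans (le_iSup V x)
      | zero => simp
      | add r s _ _ h1 h2 =>
        intro z hz
        have hzU : z ∈ U := X.basicOpen_le _ hz
        rw [Scheme.mem_basicOpen X _ z hzU, map_add] at hz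
        rcases IsLocalRing.isUnit_or_isUnit_of_isUnit_add hz with h | h
        · exact h1 ((Scheme.mem_basicOpen X r z hzU).2 h)
        · exact h2 ((Scheme.mem_basicOpen X s z hzU).2 h)
      | smul r s _ h2 => rw [smul_eq_mul, Scheme.basicOpen_mul]; exact inf_le_right.trans h2
    exact this F hFI
  refine ⟨X.basicOpen F, hUa.basicOpen F, fun x hx => not_not.1 fun hn => hF ⟨x, hx⟩ ((hp ⟨x, hx⟩ F).2 hn),
    nonempty_restrict_iso (s := resM L (X.basicOpen_le F) a) ?_⟩
  refine isGen_of_cover (fun x => X.basicOpen F ⊓ V x) (fun x => inf_le_left) (by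
    rw [← inf_iSup_eq]; exact le_inf le_rfl hcover) fun x => ?_
  have := (hV x).restrict (inf_le_right : X.basicOpen F ⊓ V x ≤ V x)
  rw [resM_resM] at this ⊢
  exact this

end Groth.Agent.S19022
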