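import Groth.Statements.S19023
import Mathlib.Tactic.Abel

set_option autoImplicit false
set_option backward.isDefEq.respectTransparency false
set_option backward.defeqAttrib.useBackward true
universe u v
open Filt

namespace Groth.Agent.S19023

/-- Let F be a module with two decreasing filtrations M and N by submodules, indexed by the natural
numbers. Suppose that for some j and l the submodule N (j+1) ⊓ M l maps onto the quotient M l / M
(l+1), that is M l ≤ M (l+1) ⊔ (N (j+1) ⊓ M l). Then for every i ≤ j the map between the graded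
pieces (N i ⊓ M (l+1)) / (N (i+1) ⊓ M (l+1)) → (N i ⊓ M l) / (N (i+1) ⊓ M l) induced by the
inclusion M (l+1) ≤ M l is bijective. (The source states this for two finite decreasing filtrations
of a coherent sheaf on an algebraic variety; the statement concerns only the lattice of subobjects
and is given here for submodules of a module.) -/
theorem result
    (R : Type u) (F : Type v) [Ring R] [AddCommGroup F] [Module R F]
    (M N : ℕ → Submodule R F) (hM : Antitone M) (hN : Antitone N) (j l : ℕ)
    (h : M l ≤ M (l + 1) ⊔ (N (j + 1) ⊓ M l)) (i : ℕ) (hi : i ≤ j) :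
    Function.Bijective
      (Submodule.mapQ ((N (i + 1)).comap (N i ⊓ M (l + 1)).subtype) ((N (i + 1)).comap (N i ⊓ M l).subtype)
        (Submodule.inclusion (inf_le_inf_left (N i) (hM (Nat.le_succ l))))
        (fun x hx => hx)) := by
  have hle : M (l + 1) ≤ M l := hM (Nat.le_succ l)
  refine ⟨?_, ?_⟩
  · rw [← LinearMap.ker_eq_bot, Submodule.mapQ, Submodule.ker_liftQ]
    · rw [eq_bot_iff]
      rintro _ ⟨x, hx, rfl⟩
      simp only [SetLike.mem_coe, LinearMap.mem_ker, LinearMap.comp_apply, Submodule.mkQ_apply,
        Submodule.Quotient.mk_eq_zero] at hx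
      simp only [Submodule.mem_bot, Submodule.mkQ_apply, Submodule.Quotient.mk_eq_zero]
      exact hx
  · intro y
    obtain ⟨⟨y, hyN, hyM⟩, rfl⟩ := Submodule.Quotient.mk_surjective _ y
    obtain ⟨m, hm, n, ⟨hnN, hnM⟩, hmn⟩ := Submodule.mem_sup.1 (h hyM)
    have hn' : n ∈ N (i + 1) := hN (by omega) hnN
    have hm' : m ∈ N i := by
      rw [show m = y - n from eq_sub_of_add_eq hmn]
      exact sub_mem hyN (hN (by omega) hnN)
    refine ⟨Submodule.Quotient.mk ⟨m, hm', hm⟩, ?_⟩
    rw [Submodule.mapQ_apply, Submodule.Quotient.eq]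
    show m - y ∈ N (i + 1)
    rw [show m - y = -n by rw [← hmn]; abel]
    exact neg_mem hn'


end Groth.Agent.S19023
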