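import Groth.Statements.S19025
import Mathlib
import Groth.Prelude

set_option linter.all false

set_option autoImplicit false
universe u
open HigherRestr

open TensorProduct

namespace Groth.Agent.S19025

theorem twist_aux (S : Type u) [CommRing S] (I : Ideal S) (g₀ g₁ : S) (hg : g₁ - g₀ ∈ I) :
    ∀ (N e : ℕ) (y : ℕ → S), (∀ i : ℕ, 1 ≤ i → i ≤ N → (fwdDiff (1 : ℕ))^[N - i] y i ∈ I ^ (N - i + e)) →
    g₀ ^ N * (fwdDiff (1 : ℕ))^[N] y 0 -
        (fwdDiff (1 : ℕ))^[N] (fun j : ℕ => g₀ ^ (N - j) * g₁ ^ j * y j) 0 ∈ I ^ (N + e) := by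
  intro N
  induction N with
  | zero => intro e y _; simp
  | succ N ih =>
    intro e y hy
    have hshift : ∀ (m : ℕ) (f : ℕ → S) (i : ℕ), (fwdDiff (1 : ℕ))^[m] (fun j => f (j + 1)) i = (fwdDiff (1 : ℕ))^[m] f (i + 1) := by
      intro m
      induction m with
      | zero => intro f i; rfl
      | succ m ihm => intro f i; simp only [Function.iterate_succ_apply', fwdDiff, ihm]
    have hloc : ∀ (m : ℕ) (f f' : ℕ → S) (i : ℕ), (∀ j, j ≤ i + m → f j = f' j) →
        (fwdDiff (1 : ℕ))^[m] f i = (fwdDiff (1 : ℕ))^[m] f' i := by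
      intro m
      induction m with
      | zero => intro f f' i h; exact h i le_rfl
      | succ m ihm =>
        intro f f' i h
        simp only [Function.iterate_succ_apply', fwdDiff]
        rw [ihm f f' i fun j hj => h j (by omega), ihm f f' (i + 1) fun j hj => h j (by omega)]
    have h1 := ih (e + 1) (fwdDiff (1 : ℕ) y) (fun i h1 h2 => by
      have := hy i h1 (by omega)
      rw [show N + 1 - i = (N - i) + 1 by omega, Function.iterate_succ_apply] at this
      rwa [show N - i + (e + 1) = N - i + 1 + e by omega])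
    have h2 := ih e (fun j => y (j + 1)) (fun i h1 h2 => by
      rw [hshift]
      have := hy (i + 1) (by omega) (by omega)
      rwa [show N + 1 - (i + 1) = N - i by omega] at this)
    have h3 : (fwdDiff (1 : ℕ))^[N] (fun j => y (j + 1)) 0 ∈ I ^ (N + e) := by
      rw [hshift]
      simpa using hy 1 le_rfl (by omega)
    set T : (ℕ → S) → (ℕ → S) := fun f j => g₀ ^ (N - j) * g₁ ^ j * f j with hT
    have hstep : ∀ j, j ≤ 0 + N → fwdDiff (1 : ℕ) (fun j : ℕ => g₀ ^ (N + 1 - j) * g₁ ^ j * y j) j =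
        (g₀ • T (fwdDiff (1 : ℕ) y) + (g₁ - g₀) • T (fun j => y (j + 1))) j := by
      intro j hj
      simp only [fwdDiff, hT, Pi.add_apply, Pi.smul_apply, smul_eq_mul]
      rw [show N + 1 - (j + 1) = N - j by omega, show N + 1 - j = (N - j) + 1 by omega]
      ring
    rw [Function.iterate_succ_apply, Function.iterate_succ_apply, hloc N _ _ 0 hstep, fwdDiff_iter_add,
      fwdDiff_iter_const_smul, fwdDiff_iter_const_smul]
    simp only [Pi.add_apply, Pi.smul_apply, smul_eq_mul]
    have e1 : g₀ * (g₀ ^ N * (fwdDiff (1 : ℕ))^[N] (fwdDiff (1 : ℕ) y) 0 - (fwdDiff (1 : ℕ))^[N] (T (fwdDiff (1 : ℕ) y)) 0) ∈ I ^ (N + 1 + e) := by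
      rw [show N + 1 + e = N + (e + 1) by omega]; exact Ideal.mul_mem_left _ _ h1
    have e2 : (g₁ - g₀) * (g₀ ^ N * (fwdDiff (1 : ℕ))^[N] (fun j => y (j + 1)) 0 - (fwdDiff (1 : ℕ))^[N] (T (fun j => y (j + 1))) 0) ∈ I ^ (N + 1 + e) := by
      rw [show N + 1 + e = (N + e) + 1 by omega, pow_succ']; exact Ideal.mul_mem_mul hg h2
    have e3 : (g₁ - g₀) * (g₀ ^ N * (fwdDiff (1 : ℕ))^[N] (fun j => y (j + 1)) 0) ∈ I ^ (N + 1 + e) := by
      rw [show N + 1 + e = (N + e) + 1 by omega, pow_succ']; exact Ideal.mul_mem_mul hg (Ideal.mul_mem_left _ _ h3)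
    have := sub_mem (add_mem e1 e2) e3
    convert this using 1
    ring

/-- In abstract form, the estimate its proof establishes. Let S be a commutative ring, I an ideal of S,
g₀ and g₁ elements with g₁ - g₀ ∈ I, N a natural number and y a sequence in S such that, for 1 ≤ i ≤
N, the (N-i)-fold unit-step forward difference of y taken at i lies in I^(N-i). Then g₀^N times the
N-fold forward difference of y at 0, minus the N-fold forward difference at 0 of the twisted
sequence j ↦ g₀^(N-j) g₁^j y_j, lies in I^N. (In the source S is the ring of functions on an affine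
chart of X^n, I the ideal of a pairwise diagonal, g₀ and g₁ the two pullbacks of a transition unit
of L, and y_j the components x_λ along the compositions a₀^(N-j) a₁^j μ; the estimate is what makes
the higher order restrictions D^l_L well defined on ker D^(l-1)_L independently of the
trivialisation.) -/
theorem result
    (S : Type u) [CommRing S] (I : Ideal S) (g₀ g₁ : S) (hg : g₁ - g₀ ∈ I)
    (N : ℕ) (y : ℕ → S)
    (hy : ∀ i : ℕ, 1 ≤ i → i ≤ N → (fwdDiff (1 : ℕ))^[N - i] y i ∈ I ^ (N - i)) :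
    g₀ ^ N * (fwdDiff (1 : ℕ))^[N] y 0 -
        (fwdDiff (1 : ℕ))^[N] (fun j : ℕ => g₀ ^ (N - j) * g₁ ^ j * y j) 0 ∈ I ^ N := by
  exact twist_aux S I g₀ g₁ hg N 0 y hy

end Groth.Agent.S19025
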