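import Groth.Statements.S19027
import Groth.Agent.DualMod3.SubNum
import Groth.Agent.Clifford24.Subcurves.Main
import Groth.Agent.DualMod3.Numerics
-- import your own Groth.Agent.* helpers here

set_option autoImplicit false
universe u
open CategoryTheory CategoryTheory.Limits AlgebraicGeometry
attribute [local instance] HasDerivedCategory.standard
open Curves

set_option backward.isDefEq.respectTransparency false
set_option linter.style.haveILetI false
set_option maxHeartbeats 1000000
open Groth.Agent

namespace Groth.Agent.S19027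

/-- Let k be an algebraically closed field and X a connected reduced Gorenstein curve over k of genus g
≥ 2: X is proper over k, reduced, connected, of dimension one, and its dualizing module ω_X (the
degree −1 cohomology sheaf of f^! O for the structure morphism f, for any choice of the data Rf_* on
D_QCoh with its right adjoint) is invertible; g = dim_k H^1(X, O_X). A connected subcurve Z of X is
a reduced connected closed subscheme of dimension one, deg_Z of a module means the degree of its
pullback to Z, g_Z = dim_k H^1(Z, O_Z), and k_Z is the length (k-dimension of global sections of the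
structure sheaf) of the scheme-theoretic intersection of Z with the reduced closed subscheme
supported on the closure of X ∖ Z. Let L be an invertible module of degree d which is balanced: for
every connected subcurve Z, |deg_Z L − (d/(2g−2)) deg_Z ω_X| ≤ k_Z/2 (written cleared of
denominators). Assume d > 3(g − 1). Under this bound, ampleness of L is equivalent to X being
G-quasistable together with deg_Z L = 1 on each exceptional subcurve Z; here G-quasistable means
that deg_Z ω_X ≥ 0 for every connected subcurve Z and that every exceptional subcurve Z (connected,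
with deg_Z ω_X = 0) is irreducible (for an exceptional subcurve, irreducibility is equivalent to
being a projective line, since such a subcurve has genus zero and meets the rest of X in a scheme of
length two). -/
theorem result (k : Type u) [Field k] [IsAlgClosed k] (X : Scheme.{u}) [X.Over (Spec (CommRingCat.of k))]
    [IsProper (X ↘ (Spec (CommRingCat.of k)))] [AlgebraicGeometry.IsReduced X] [ConnectedSpace X] (hdim : topologicalKrullDim X = 1)
    [DCoh.HasRpush (X ↘ (Spec (CommRingCat.of k)))] (h : DCoh.RpushPreservesQCoh (X ↘ (Spec (CommRingCat.of k)))) [DCoh.HasShriek (X ↘ (Spec (CommRingCat.of k))) h]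
    (OY : DCoh.DQCoh (Spec (CommRingCat.of k)))
    (hOY : Nonempty (OY.obj ≅ DCoh.inD (Spec (CommRingCat.of k)) (Coh.structureModule (Spec (CommRingCat.of k)))))
    (hGor : PicF.IsInvertible (DCoh.dualizingMod (X ↘ (Spec (CommRingCat.of k))) h OY 1)) (hg : 2 ≤ Curv2.genus k X)
    (L : X.Modules) (hL : PicF.IsInvertible L)
    (hbal : ∀ J : X.IdealSheafData, AlgebraicGeometry.IsReduced J.subscheme → ConnectedSpace J.subscheme →
      topologicalKrullDim J.subscheme = 1 →
      |2 * (2 * (Curv2.genus k X : ℤ) - 2) * @Curv2.deg k _ J.subscheme ⟨J.subschemeι ≫ (X ↘ (Spec (CommRingCat.of k)))⟩ ((Scheme.Modules.pullback J.subschemeι).obj L) 1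
          - 2 * Curv2.deg k X L 1 * @Curv2.deg k _ J.subscheme ⟨J.subschemeι ≫ (X ↘ (Spec (CommRingCat.of k)))⟩ ((Scheme.Modules.pullback J.subschemeι).obj (DCoh.dualizingMod (X ↘ (Spec (CommRingCat.of k))) h OY 1)) 1|
        ≤ (2 * (Curv2.genus k X : ℤ) - 2) * (Module.finrank k (Coh.HH X (ClSub.quotMod (J ⊔ (Scheme.IdealSheafData.vanishingIdeal ⟨closure ((J.support : Set X)ᶜ), isClosed_closure⟩))) 0) : ℤ))
    (hd : 3 * ((Curv2.genus k X : ℤ) - 1) < Curv2.deg k X L 1) :
    CohB1.IsAmple L ↔
      ((∀ J : X.IdealSheafData, AlgebraicGeometry.IsReduced J.subscheme → ConnectedSpace J.subscheme →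
      topologicalKrullDim J.subscheme = 1 →
        0 ≤ @Curv2.deg k _ J.subscheme ⟨J.subschemeι ≫ (X ↘ (Spec (CommRingCat.of k)))⟩ ((Scheme.Modules.pullback J.subschemeι).obj (DCoh.dualizingMod (X ↘ (Spec (CommRingCat.of k))) h OY 1)) 1) ∧
      (∀ J : X.IdealSheafData, AlgebraicGeometry.IsReduced J.subscheme → ConnectedSpace J.subscheme →
      topologicalKrullDim J.subscheme = 1 →
        @Curv2.deg k _ J.subscheme ⟨J.subschemeι ≫ (X ↘ (Spec (CommRingCat.of k)))⟩ ((Scheme.Modules.pullback J.subschemeι).obj (DCoh.dualizingMod (X ↘ (Spec (CommRingCat.of k))) h OY 1)) 1 = 0 → IrreducibleSpace J.subscheme) ∧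
      (∀ J : X.IdealSheafData, AlgebraicGeometry.IsReduced J.subscheme → ConnectedSpace J.subscheme →
      topologicalKrullDim J.subscheme = 1 →
        @Curv2.deg k _ J.subscheme ⟨J.subschemeι ≫ (X ↘ (Spec (CommRingCat.of k)))⟩ ((Scheme.Modules.pullback J.subschemeι).obj (DCoh.dualizingMod (X ↘ (Spec (CommRingCat.of k))) h OY 1)) 1 = 0 → @Curv2.deg k _ J.subscheme ⟨J.subschemeι ≫ (X ↘ (Spec (CommRingCat.of k)))⟩ ((Scheme.Modules.pullback J.subschemeι).obj L) 1 = 1)) := by
  obtain ⟨⟨t, hrep⟩, hWe⟩ := DualMod3.dualizing_data k hdim h OY hOY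
  generalize DCoh.dualizingMod (X ↘ (Spec (CommRingCat.of k))) h OY 1 = W at *
  have hdW := DualMod3.deg_dualizing k hdim hWe
  have num := fun (J : X.IdealSheafData) (hJr : AlgebraicGeometry.IsReduced J.subscheme) (hJc : ConnectedSpace J.subscheme)
      (hJ : topologicalKrullDim J.subscheme = 1) => DualMod3.sub_numerics k hdim hGor t hrep hWe J hJ
  constructor
  · intro hamp
    have hd0 : (Curv2.genus k X : ℤ) - 1 ≤ Curv2.deg k X L 1 := by omega
    clear hd
    rename' hd0 => hd
    refine ⟨fun J hJr hJc hJ => ?_, fun J hJr hJc hJ => ?_, fun J hJr hJc hJ => ?_⟩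
    all_goals
      obtain ⟨hw, h0⟩ := num J hJr hJc hJ
      have hb := hbal J hJr hJc hJ
      change _ ≤ (2 * (Curv2.genus k X : ℤ) - 2) * (DualMod3.delta k J : ℤ) at hb
      rw [abs_le] at hb
      obtain ⟨hk1, hk2⟩ := DualMod3.num_amp hg hd hw (fun e => ⟨(h0 e).1, (h0 e).2 L hL⟩) hb
        (DualMod3.deg_sub_pos_of_ample k hamp J hJ)
    · exact hk1
    · intro hw0
      by_contra hirr
      letI : J.subscheme.Over (Spec (CommRingCat.of k)) := ⟨J.subschemeι ≫ (X ↘ (Spec (CommRingCat.of k)))⟩
      haveI : IsProper (J.subscheme ↘ Spec (CommRingCat.of k)) :=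
        inferInstanceAs (IsProper (J.subschemeι ≫ (X ↘ (Spec (CommRingCat.of k)))))
      have h2 := DualMod3.two_le_deg_of_ample k hJ (AmpleLib.isAmple_pullback_of_isAffineHom J.subschemeι hamp) hirr
      have h1 := hk2 hw0
      omega
    · exact hk2
  · rintro ⟨hA, -, hC⟩
    refine DualMod3.isAmple_of_deg_sub_pos k hdim.le hL fun J hJr hJc hJ => ?_
    obtain ⟨hw, h0⟩ := num J hJr hJc hJ
    have hb := hbal J hJr hJc hJ
    change _ ≤ (2 * (Curv2.genus k X : ℤ) - 2) * (DualMod3.delta k J : ℤ) at hb
    rw [abs_le] at hb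
    exact DualMod3.num_amp' hg hd hw (fun e => ⟨(h0 e).1, (h0 e).2 L hL⟩) hb (hA J hJr hJc hJ) (hC J hJr hJc hJ)

end Groth.Agent.S19027
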