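import Groth.Statements.S19033
import Groth.Agent.GraphLib.Cuts

set_option autoImplicit false
universe u
open LabGraph

namespace Groth.Agent.S19033

open LabGraph in
/-- Let X be a quasi-wp-stable curve of genus g ≥ 2 over an algebraically closed field, encoded by a
weighted multigraph: vertices are the irreducible components C_v, with the weight w v and the loops
at v chosen so that w v plus the number of loops at v is the arithmetic genus of C_v; two distinct
components are joined by one edge for each node and by two edges for each tacnode at which they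
meet. For a set Y of vertices (a subcurve) canDeg Y is then deg_Y ω_X = 2 g_Y − 2 + k_Y and cut Y is
k_Y, the length of the intersection of Y with its complementary subcurve; a vertex is exceptional
(weight zero, loopless, exactly two edges to other vertices) exactly when C_v is an exceptional
component; the twist of the indicator function of Y is the multidegree Σ_{C ⊆ Y} C of the degree
class group construction; and the graph is a connected quasistable graph. Let d, d' be properly
balanced multidegrees of the same total degree D (each satisfies the Basic Inequality 2·|K·d_Y −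
D·canDeg Y| ≤ cut Y·K for every Y, where K = 2g − 2 = canDeg of the whole graph, and takes the value
1 on every exceptional vertex), with d strictly balanced: for every nonempty proper Y with d_Y equal
to the upper extreme, i.e. 2(K·d_Y − D·canDeg Y) = K·cut Y, every edge with exactly one endpoint in
Y has an exceptional endpoint. Suppose d' = d + Σ_i twist(1_{Z_i}) for nested vertex sets Z_1 ⊆ ⋯ ⊆
Z_m, each with d at its upper extreme, such that for j < i no edge joins a vertex of Z_j to a vertex
outside Z_i. Then d = d'. (The source assumes only that d − d' lies in the lattice generated by the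
multidegrees of the components and takes the existence of such a nested family from an earlier paper
it cites without proof; this row carries that description as its hypothesis.) -/
theorem result {V E : Type u} [Fintype V] [Fintype E]
    [DecidableEq V] [DecidableEq E] (ends : E → V × V) (w : V → ℕ) (hX : IsQuasistableGraph ends w)
    (hg : 2 ≤ genus ends w) (d d' : V → ℤ) (hD : ∑ v, d v = ∑ v, d' v)
    (hBI : SatisfiesBI ends w d) (hBI' : SatisfiesBI ends w d')
    (hone : ∀ v : V, IsExceptional ends w v → d v = 1) (hone' : ∀ v : V, IsExceptional ends w v → d' v = 1)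
    (hstrict : ∀ Y : Finset V, Y.Nonempty → Y ≠ Finset.univ →
      2 * (canDeg ends w Finset.univ * (∑ v ∈ Y, d v) - (∑ v, d v) * canDeg ends w Y)
          = (cut ends Y : ℤ) * canDeg ends w Finset.univ →
      ∀ e : E, (((ends e).1 ∈ Y ∧ (ends e).2 ∉ Y) ∨ ((ends e).1 ∉ Y ∧ (ends e).2 ∈ Y)) →
        (IsExceptional ends w (ends e).1 ∨ IsExceptional ends w (ends e).2))
    (m : ℕ) (Z : Fin m → Finset V) (hmono : ∀ i j : Fin m, i ≤ j → Z i ⊆ Z j)
    (hext : ∀ i : Fin m, 2 * (canDeg ends w Finset.univ * (∑ v ∈ Z i, d v) - (∑ v, d v) * canDeg ends w (Z i))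
          = (cut ends (Z i) : ℤ) * canDeg ends w Finset.univ)
    (hsep : ∀ i j : Fin m, j < i → ∀ e : E,
      ¬ (((ends e).1 ∈ Z j ∧ (ends e).2 ∉ Z i) ∨ ((ends e).2 ∈ Z j ∧ (ends e).1 ∉ Z i)))
    (hsum : ∀ v : V, d' v = d v + ∑ i : Fin m, twist ends (fun u => if u ∈ Z i then (1 : ℤ) else 0) v) :
    d = d' := by
  classical
  have hK : 0 < canDeg ends w Finset.univ := by rw [Groth.Agent.GraphLib.canDeg_univ]; omega
  let H : V → ℤ := fun u => ∑ i : Fin m, if u ∈ Z i then (1 : ℤ) else 0
  have hH : ∀ v, d' v = d v + twist ends H v := fun v => by
    rw [hsum v, Groth.Agent.GraphLib.twist_sum_fun]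
  -- an exceptional vertex has both neighbours on its own level
  have hexc : ∀ (v : V), IsExceptional ends w v → ∀ (i : Fin m) (e : E) (c : V),
      (ends e = (v, c) ∨ ends e = (c, v)) → c ∈ Z i → v ∈ Z i := by
    intro v hv i e c hec hci
    by_contra hvi
    have hloop : ∀ x : E, (ends x).1 = v → (ends x).2 ≠ v := fun x h1 h2 => hv.2.1 x (Prod.ext h1 h2)
    have hcan : canDeg ends w {v} = 0 := by
      have hc : (endCount ends Finset.univ v : ℤ) = (cut ends {v} : ℤ) := by
        rw [Groth.Agent.GraphLib.cut_eq, endCount, Nat.cast_sum]
        refine Finset.sum_congr rfl fun x _ => ?_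
        have := hloop x
        simp only [Groth.Agent.GraphLib.chi, Finset.mem_singleton]
        by_cases h1 : (ends x).1 = v <;> by_cases h2 : (ends x).2 = v <;> simp_all
      simp [canDeg, hv.1, hc, hv.2.2]
    -- twist at `v` vanishes
    have htw : twist ends H v = 0 := by
      have := hH v
      rw [hone v hv, hone' v hv] at this
      linarith
    set F : Finset E := Finset.univ.filter fun x : E => (ends x).1 = v ∨ (ends x).2 = v with hF
    let oth : E → V := fun x => if (ends x).1 = v then (ends x).2 else (ends x).1
    have htwF : twist ends H v = ∑ x ∈ F, (H (oth x) - H v) := by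
      rw [twist, hF, Finset.sum_filter]
      refine Finset.sum_congr rfl fun x _ => ?_
      have := hloop x
      by_cases h1 : (ends x).1 = v <;> by_cases h2 : (ends x).2 = v <;> simp_all [oth]
    have hcard : F.card = 2 := by
      rw [← hv.2.2, cut, hF]
      congr 1
      ext x
      have := hloop x
      simp only [Finset.mem_filter, Finset.mem_univ, true_and, Finset.mem_singleton]
      tauto
    have heF : e ∈ F := by rw [hF]; rcases hec with h | h <;> simp [h]
    have hoe : oth e = c := by
      rcases hec with h | h <;> simp only [oth, h]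
      · simp
      · have hcv : c ≠ v := fun hcv => hv.2.1 e (by rw [h, hcv])
        simp [hcv]
    obtain ⟨f, hfe, hFf⟩ : ∃ f, f ≠ e ∧ F = {e, f} := by
      obtain ⟨x, y, hxy, hxyF⟩ := Finset.card_eq_two.1 hcard
      rw [hxyF, Finset.mem_insert, Finset.mem_singleton] at heF
      rcases heF with rfl | rfl
      · exact ⟨y, hxy.symm, hxyF⟩
      · exact ⟨x, hxy, by rw [hxyF, Finset.pair_comm]⟩
    rw [htwF, hFf, Finset.sum_pair hfe.symm, hoe] at htw
    have hlt : H v < H c := by
      refine Finset.sum_lt_sum (fun j _ => ?_) ⟨i, Finset.mem_univ i, by simp [hci, hvi]⟩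
      rcases le_total i j with hij | hji
      · simp only [hmono i j hij hci, if_true]; split_ifs <;> simp
      · have : v ∉ Z j := fun h => hvi (hmono j i hji h)
        simp only [this, if_false]; split_ifs <;> simp
    have hbi : oth f ∉ Z i := by
      intro hb
      have : H v ≤ H (oth f) := by
        refine Finset.sum_le_sum fun j _ => ?_
        rcases le_total i j with hij | hji
        · simp only [hmono i j hij hb, if_true]; split_ifs <;> simp
        · have : v ∉ Z j := fun h => hvi (hmono j i hji h)
          simp only [this, if_false]; split_ifs <;> simp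
      linarith
    -- the set `Z i + v` violates the inequality
    have hcut : (cut ends (insert v (Z i)) : ℤ) = cut ends (Z i) := by
      have key : ∀ x ∈ F, Groth.Agent.GraphLib.chi ends (insert v (Z i)) x =
          (if oth x ∈ Z i then 0 else 1) ∧
          Groth.Agent.GraphLib.chi ends (Z i) x = (if oth x ∈ Z i then 1 else 0) := by
        intro x hx
        rw [hF, Finset.mem_filter] at hx
        have := hloop x
        simp only [Groth.Agent.GraphLib.chi, oth, Finset.mem_insert]
        by_cases h1 : (ends x).1 = v <;> by_cases h2 : (ends x).2 = v <;>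
          by_cases h3 : (ends x).1 ∈ Z i <;> by_cases h4 : (ends x).2 ∈ Z i <;> simp_all
      rw [Groth.Agent.GraphLib.cut_eq, Groth.Agent.GraphLib.cut_eq,
        ← Finset.sum_filter_add_sum_filter_not Finset.univ (fun x : E => (ends x).1 = v ∨ (ends x).2 = v),
        ← Finset.sum_filter_add_sum_filter_not Finset.univ (fun x : E => (ends x).1 = v ∨ (ends x).2 = v)
          (Groth.Agent.GraphLib.chi ends (Z i))]
      congr 1
      · rw [← hF, Finset.sum_congr rfl (fun x hx => (key x hx).1), Finset.sum_congr rfl (fun x hx => (key x hx).2),
          hFf, Finset.sum_pair hfe.symm, Finset.sum_pair hfe.symm, hoe, if_pos hci, if_pos hci, if_neg hbi,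
          if_neg hbi]
        norm_num
      · refine Finset.sum_congr rfl fun x hx => ?_
        simp only [Finset.mem_filter, Finset.mem_univ, true_and, not_or] at hx
        simp [Groth.Agent.GraphLib.chi, hx.1, hx.2]
    have hc0 : canDeg ends w (insert v (Z i)) = canDeg ends w (Z i) := by
      rw [canDeg, Finset.sum_insert hvi]
      rw [canDeg, Finset.sum_singleton] at hcan
      rw [hcan, zero_add]
      rfl
    have hb := hBI (insert v (Z i))
    rw [Finset.sum_insert hvi, hone v hv, hc0, hcut] at hb
    have := le_abs_self (canDeg ends w Finset.univ * (1 + ∑ x ∈ Z i, d x) - (∑ x : V, d x) * canDeg ends w (Z i))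
    have := hext i
    linarith
  have hexc' : ∀ (v : V), IsExceptional ends w v → ∀ (i : Fin m) (e : E) (c : V),
      (ends e = (v, c) ∨ ends e = (c, v)) → v ∈ Z i → c ∈ Z i := by
    intro v hv i e c hec hvi
    by_contra hci
    have hlev : ∀ j : Fin m, c ∈ Z j → v ∈ Z j := fun j => hexc v hv j e c hec
    have hlt : H c < H v := by
      refine Finset.sum_lt_sum (fun j _ => ?_) ⟨i, Finset.mem_univ i, by simp [hci, hvi]⟩
      by_cases hc : c ∈ Z j
      · simp [hc, hlev j hc]
      · simp only [hc, if_false]; split_ifs <;> simp
    have htw : twist ends H v = 0 := by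
      have := hH v
      rw [hone v hv, hone' v hv] at this
      linarith
    have : twist ends H v < 0 := by
      rw [twist]
      refine Finset.sum_neg' (fun x _ => ?_) ⟨e, Finset.mem_univ e, ?_⟩
      · have h1 : ∀ c', (ends x = (v, c') ∨ ends x = (c', v)) → H c' ≤ H v := fun c' hc' =>
          Finset.sum_le_sum fun j _ => by
            by_cases hc : c' ∈ Z j
            · simp [hc, hexc v hv j x c' hc' hc]
            · simp only [hc, if_false]; split_ifs <;> simp
        by_cases ha : (ends x).1 = v <;> by_cases hb : (ends x).2 = v
        · simp [ha, hb]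
        · have := h1 (ends x).2 (Or.inl (Prod.ext ha rfl)); simp [ha, hb]; linarith
        · have := h1 (ends x).1 (Or.inr (Prod.ext rfl hb)); simp [ha, hb]; linarith
        · simp [ha, hb]
      · have hne : c ≠ v := fun h => hci (h ▸ hvi)
        rcases hec with h | h <;> simp [h, hne] <;> linarith
    linarith
  have hnocross : ∀ (i : Fin m) (e : E), ((ends e).1 ∈ Z i ↔ (ends e).2 ∈ Z i) := by
    intro i e
    by_cases hun : Z i = Finset.univ
    · simp [hun]
    by_contra hne
    have hne0 : (Z i).Nonempty := by
      by_contra h
      rw [Finset.not_nonempty_iff_eq_empty] at h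
      simp [h] at hne
    have hor := hstrict (Z i) hne0 hun (hext i) e (by tauto)
    rcases hor with hv | hv
    · exact hne ⟨fun h => hexc' _ hv i e _ (Or.inl rfl) h, fun h => hexc _ hv i e _ (Or.inl rfl) h⟩
    · exact hne ⟨fun h => hexc _ hv i e _ (Or.inr rfl) h, fun h => hexc' _ hv i e _ (Or.inr rfl) h⟩
  funext v
  rw [hsum v, Finset.sum_eq_zero fun i _ => ?_, add_zero]
  rw [twist]
  refine Finset.sum_eq_zero fun e _ => ?_
  have := hnocross i e
  by_cases h : (ends e).1 ∈ Z i <;> simp [h, ← this]

end Groth.Agent.S19033
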