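import Groth.Statements.S19034
import Groth.Agent.GraphLib.Cuts

set_option autoImplicit false
universe u
open LabGraph

namespace Groth.Agent.S19034

open LabGraph in
/-- Let σ : Z → X be the contraction of some exceptional components of a quasi-wp-stable curve Z of
genus g ≥ 2 onto a quasi-wp-stable curve X, and d a properly balanced multidegree on X; then the
pull-back d̃ of d to Z (d̃_W = d_{σ(W)} when σ(W) is a curve, d̃ = 0 on contracted components) is
balanced. Encode Z by its weighted multigraph (vertices = irreducible components, weight plus number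
of loops = arithmetic genus of the component, one edge per node and two per tacnode joining distinct
components; canDeg Y = deg_Y ω_Z, cut Y = k_Y, K = canDeg of all vertices = 2g − 2; exceptional
vertex = exceptional component), and let S be the set of contracted components, each an exceptional
vertex. The components of X are the vertices outside S; for a set W of them, the subcurve σ(W) of X
has deg ω_X equal to canDeg Ŵ and k equal to cut Ŵ, where Ŵ is W together with the vertices of S all
of whose edges end in W, and the exceptional components of X are the exceptional vertices outside S.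
So the hypotheses below say that d̃ vanishes on S and that d = d̃|_{V∖S} is properly balanced on X
(Basic Inequality 2·|K·d_W − D·canDeg Ŵ| ≤ cut Ŵ·K for every W disjoint from S, D the total degree,
and value 1 on exceptional vertices outside S); the conclusion is the Basic Inequality for d̃ on Z,
for every set of vertices. -/
theorem result {V E : Type u} [Fintype V] [Fintype E]
    [DecidableEq V] [DecidableEq E] (ends : E → V × V) (w : V → ℕ) (hZ : IsQuasistableGraph ends w)
    (hg : 2 ≤ genus ends w) (S : Finset V) (hS : ∀ v ∈ S, IsExceptional ends w v)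
    (dt : V → ℤ) (hzero : ∀ v ∈ S, dt v = 0)
    (hBI : ∀ W : Finset V, Disjoint W S →
      2 * |canDeg ends w Finset.univ * (∑ v ∈ W, dt v) - (∑ v, dt v) * canDeg ends w (Finset.univ.filter (fun v : V => v ∈ W ∨ (v ∈ S ∧ ∀ e : E, ((ends e).1 = v → (ends e).2 ∈ W) ∧ ((ends e).2 = v → (ends e).1 ∈ W))))|
        ≤ (cut ends (Finset.univ.filter (fun v : V => v ∈ W ∨ (v ∈ S ∧ ∀ e : E, ((ends e).1 = v → (ends e).2 ∈ W) ∧ ((ends e).2 = v → (ends e).1 ∈ W)))) : ℤ) * canDeg ends w Finset.univ)
    (hone : ∀ v : V, v ∉ S → IsExceptional ends w v → dt v = 1) :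
    SatisfiesBI ends w dt := by
  classical
  intro Y
  set hat : Finset V → Finset V := fun W => Finset.univ.filter (fun v : V => v ∈ W ∨ (v ∈ S ∧ ∀ e : E,
    ((ends e).1 = v → (ends e).2 ∈ W) ∧ ((ends e).2 = v → (ends e).1 ∈ W))) with hhat
  set W := Y \ S with hW
  have hloop : ∀ s ∈ S, ∀ x : E, (ends x).1 = s → (ends x).2 ≠ s := fun s hs x h1 h2 => (hS s hs).2.1 x (Prod.ext h1 h2)
  have hnadj : ∀ x : E, ¬ ((ends x).1 ∈ S ∧ (ends x).2 ∈ S) := fun x ⟨h1, h2⟩ =>
    hZ.2 x (fun h => hloop _ h1 x rfl h.symm) ⟨hS _ h1, hS _ h2⟩
  have hcan : ∀ X : Finset V, canDeg ends w X = canDeg ends w (X \ S) := by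
    intro X
    refine (Finset.sum_subset Finset.sdiff_subset fun s hsX hs => ?_).symm
    simp only [Finset.mem_sdiff, not_and, not_not] at hs
    have hs' := hS s (hs hsX)
    have hc : (endCount ends Finset.univ s : ℤ) = (cut ends {s} : ℤ) := by
      rw [Groth.Agent.GraphLib.cut_eq, endCount, Nat.cast_sum]
      refine Finset.sum_congr rfl fun x _ => ?_
      have := hloop s (hs hsX) x
      simp only [Groth.Agent.GraphLib.chi, Finset.mem_singleton]
      by_cases h1 : (ends x).1 = s <;> by_cases h2 : (ends x).2 = s <;> simp_all
    simp [hs'.1, hc, hs'.2.2]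
  have hWS : hat W \ S = W := by
    ext v
    simp only [hhat, hW, Finset.mem_sdiff, Finset.mem_filter, Finset.mem_univ, true_and]
    tauto
  have hsum : ∑ v ∈ Y, dt v = ∑ v ∈ W, dt v :=
    (Finset.sum_subset Finset.sdiff_subset fun v hv hv' => hzero v (by
      simp only [hW, Finset.mem_sdiff, not_and, not_not] at hv'; exact hv' hv)).symm
  have hcut : (cut ends (hat W) : ℤ) ≤ cut ends Y := by
    rw [Groth.Agent.GraphLib.cut_eq, Groth.Agent.GraphLib.cut_eq,
      ← Finset.sum_filter_add_sum_filter_not Finset.univ (fun x : E => (ends x).1 ∈ S ∨ (ends x).2 ∈ S)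
        (Groth.Agent.GraphLib.chi ends Y),
      ← Finset.sum_filter_add_sum_filter_not Finset.univ (fun x : E => (ends x).1 ∈ S ∨ (ends x).2 ∈ S)]
    refine add_le_add ?_ (le_of_eq (Finset.sum_congr rfl fun x hx => ?_))
    swap
    · simp only [Finset.mem_filter, Finset.mem_univ, true_and, not_or] at hx
      simp [Groth.Agent.GraphLib.chi, hhat, hW, hx.1, hx.2]
    let sp : E → V := fun x => if (ends x).1 ∈ S then (ends x).1 else (ends x).2
    let oth : E → V := fun x => if (ends x).1 ∈ S then (ends x).2 else (ends x).1
    rw [← Finset.sum_fiberwise_of_maps_to (g := sp) (t := S) (fun x hx => by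
        simp only [Finset.mem_filter, Finset.mem_univ, true_and] at hx
        simp only [sp]; split_ifs with h <;> tauto),
      ← Finset.sum_fiberwise_of_maps_to (g := sp) (t := S) (fun x hx => by
        simp only [Finset.mem_filter, Finset.mem_univ, true_and] at hx
        simp only [sp]; split_ifs with h <;> tauto)]
    refine Finset.sum_le_sum fun s hs => ?_
    set F := (Finset.univ.filter fun x : E => (ends x).1 ∈ S ∨ (ends x).2 ∈ S).filter fun x => sp x = s with hF
    have hchi : ∀ X : Finset V, ∀ x ∈ F, Groth.Agent.GraphLib.chi ends X x =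
        if s ∈ X then (if oth x ∈ X then 0 else 1) else (if oth x ∈ X then 1 else 0) := by
      intro X x hx
      simp only [hF, Finset.mem_filter, Finset.mem_univ, true_and] at hx
      obtain ⟨hx1, hx2⟩ := hx
      simp only [Groth.Agent.GraphLib.chi, oth]
      simp only [sp] at hx2
      split_ifs at hx2 ⊢ <;> simp_all
    have hothS : ∀ x ∈ F, oth x ∉ S := by
      intro x hx
      simp only [hF, Finset.mem_filter, Finset.mem_univ, true_and] at hx
      have := hnadj x
      simp only [oth]; split_ifs <;> tauto
    have hoW : ∀ x ∈ F, (oth x ∈ hat W ↔ oth x ∈ Y) := fun x hx => by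
      simp [hhat, hW, hothS x hx]
    have hsH : (s ∈ hat W ↔ ∀ x ∈ F, oth x ∈ Y) := by
      have hsW : s ∉ W := by simp [hW, hs]
      simp only [hhat, Finset.mem_filter, Finset.mem_univ, true_and, hsW, false_or, hs]
      constructor
      · intro h x hx
        simp only [hF, Finset.mem_filter, Finset.mem_univ, true_and] at hx
        have := h x
        simp only [sp] at hx
        simp only [oth]
        split_ifs at hx ⊢ <;> simp_all [hW]
      · intro h x
        constructor
        · intro hxs
          have := h x (by simp [hF, sp, hxs, hs])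
          simp only [oth, hxs, hs, if_true] at this
          simp only [hW, Finset.mem_sdiff, this, true_and]
          exact fun hh => hnadj x ⟨hxs ▸ hs, hh⟩
        · intro hxs
          have hn : (ends x).1 ∉ S := fun hh => hnadj x ⟨hh, hxs ▸ hs⟩
          have := h x (by simp [hF, sp, hxs, hs, hn])
          simp only [oth, hn, if_false] at this
          simp [hW, this, hn]
    have hcard : F.card = 2 := by
      rw [← (hS s hs).2.2, cut, hF, Finset.filter_filter]
      congr 1
      ext x
      have h1 := hloop s hs x
      have h2 := hnadj x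
      simp only [Finset.mem_filter, Finset.mem_univ, true_and, Finset.mem_singleton, sp]
      by_cases h : (ends x).1 ∈ S
      · simp only [h, if_true, true_or, true_and]
        constructor
        · intro h'; exact Or.inl ⟨h', h1 h'⟩
        · rintro (⟨h', -⟩ | ⟨-, h'⟩)
          · exact h'
          · exact absurd ⟨h, h' ▸ hs⟩ h2
      · simp only [h, if_false, false_or]
        constructor
        · rintro ⟨-, h'⟩; exact Or.inr ⟨fun e => h (e ▸ hs), h'⟩
        · rintro (⟨h', -⟩ | ⟨-, h'⟩)
          · exact absurd (h' ▸ hs) h
          · exact ⟨h' ▸ hs, h'⟩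
    obtain ⟨p, q, hpq, hFpq⟩ := Finset.card_eq_two.1 hcard
    rw [Finset.sum_congr rfl (hchi (hat W)), Finset.sum_congr rfl (hchi Y)]
    have hp : p ∈ F := by rw [hFpq]; simp
    have hq : q ∈ F := by rw [hFpq]; simp
    rw [hFpq, Finset.sum_pair hpq, Finset.sum_pair hpq]
    simp only [hsH, hoW p hp, hoW q hq]
    simp only [hFpq, Finset.forall_mem_insert, Finset.mem_singleton, forall_eq]
    by_cases h1 : oth p ∈ Y <;> by_cases h2 : oth q ∈ Y <;> by_cases h3 : s ∈ Y <;> simp [h1, h2, h3]
  rw [hsum]
  have h := hBI W Finset.sdiff_disjoint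
  have e : canDeg ends w Y = canDeg ends w (hat W) := by rw [hcan Y, hcan (hat W), hWS]
  rw [e]
  refine h.trans ?_
  have hK : 0 ≤ canDeg ends w Finset.univ := by rw [Groth.Agent.GraphLib.canDeg_univ]; omega
  exact mul_le_mul_of_nonneg_right hcut hK

end Groth.Agent.S19034
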