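import Groth.Statements.S19035
import Mathlib
import Groth.Prelude
import Groth.Agent.CommAlg4.WittTop

set_option linter.all false

set_option autoImplicit false
universe u v w x
open CAlg


namespace Groth.Agent.S19035

/-- Let p be a prime and k a perfect field of characteristic p. Let (A_i) be a directed system of
finitely generated commutative k-algebras, indexed by a nonempty directed preorder, with compatible
k-algebra transition maps, and let B be a finitely generated k-algebra with compatible k-algebra
maps A_i → B which present B as the direct limit of the system (every element of B is the image of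
an element of some A_i, and two elements of some A_i with the same image in B have the same image in
some A_j). Then the p-typical Witt vectors commute with this direct limit: every Witt vector over B
is the image of a Witt vector over some A_i, and two Witt vectors over some A_i with the same image
over B already have the same image over some A_j. (Both finiteness hypotheses matter: for an
arbitrary filtered direct limit of commutative rings either assertion can fail.) -/
theorem result
    (p : ℕ) [Fact p.Prime] (k : Type u) [Field k] [CharP k p] [PerfectRing k p]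
    {ι : Type v} [Preorder ι] [IsDirected ι (· ≤ ·)] [Nonempty ι]
    (A : ι → Type w) [∀ i, CommRing (A i)] [∀ i, Algebra k (A i)]
    [∀ i, Algebra.FiniteType k (A i)]
    (f : ∀ i j, i ≤ j → (A i →ₐ[k] A j))
    (hf : ∀ i j l (hij : i ≤ j) (hjl : j ≤ l) (x : A i),
      f j l hjl (f i j hij x) = f i l (hij.trans hjl) x)
    (B : Type x) [CommRing B] [Algebra k B] [Algebra.FiniteType k B]
    (g : ∀ i, A i →ₐ[k] B)
    (hfg : ∀ i j (hij : i ≤ j) (x : A i), g j (f i j hij x) = g i x)
    (hsurj : ∀ b : B, ∃ i, ∃ x : A i, g i x = b)
    (hinj : ∀ i (x y : A i), g i x = g i y → ∃ j, ∃ hij : i ≤ j, f i j hij x = f i j hij y) :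
    (∀ w : WittVector p B, ∃ i, ∃ v : WittVector p (A i),
        WittVector.map (g i).toRingHom v = w) ∧
    (∀ i (v v' : WittVector p (A i)),
        WittVector.map (g i).toRingHom v = WittVector.map (g i).toRingHom v' →
        ∃ j, ∃ hij : i ≤ j,
          WittVector.map (f i j hij).toRingHom v = WittVector.map (f i j hij).toRingHom v') := by
  classical
  constructor
  · intro w
    obtain ⟨S, hS⟩ := (‹Algebra.FiniteType k B›).out
    choose ix x hx using fun b : S => hsurj b
    obtain ⟨i, hi⟩ := Finset.exists_le (Finset.univ.image ix)
    have hs : Function.Surjective (g i) := by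
      rw [← AlgHom.range_eq_top, eq_top_iff, ← hS, Algebra.adjoin_le_iff]
      intro b hb
      exact ⟨f (ix ⟨b, hb⟩) i (hi _ (Finset.mem_image_of_mem _ (Finset.mem_univ _))) (x ⟨b, hb⟩),
        by rw [AlgHom.toRingHom_eq_coe]; exact (hfg _ _ _ _).trans (hx _)⟩
    choose v hv using fun n => hs (w.coeff n)
    exact ⟨i, WittVector.mk p v, WittVector.ext fun n => by
      rw [WittVector.map_coeff, WittVector.coeff_mk]; exact hv n⟩
  · intro i v v' h
    have : IsNoetherianRing (A i) := Algebra.FiniteType.isNoetherianRing k (A i)
    obtain ⟨T, hT⟩ : (RingHom.ker (g i).toRingHom).FG := IsNoetherian.noetherian _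
    have hker : ∀ t : T, ∃ j, ∃ hij : i ≤ j, f i j hij (t : A i) = 0 := fun t => by
      have ht : g i (t : A i) = g i 0 := by
        rw [map_zero]
        exact (hT ▸ Submodule.subset_span t.2 : (t : A i) ∈ RingHom.ker (g i).toRingHom)
      obtain ⟨j, hij, hj⟩ := hinj i _ _ ht
      exact ⟨j, hij, hj.trans (map_zero _)⟩
    choose jx hij hj using hker
    obtain ⟨j, hjle⟩ := Finset.exists_le (insert i (Finset.univ.image jx))
    have hij' : i ≤ j := hjle i (Finset.mem_insert_self _ _)
    refine ⟨j, hij', WittVector.ext fun n => ?_⟩
    have hle : RingHom.ker (g i).toRingHom ≤ RingHom.ker (f i j hij').toRingHom := by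
      rw [← hT, Ideal.span, Submodule.span_le]
      intro t ht
      show f i j hij' t = 0
      rw [← hf i (jx ⟨t, ht⟩) j (hij ⟨t, ht⟩)
        (hjle _ (Finset.mem_insert_of_mem (Finset.mem_image_of_mem _ (Finset.mem_univ _)))), hj, map_zero]
    have h1 := congrArg (fun z => WittVector.coeff z n) h
    rw [WittVector.map_coeff, WittVector.map_coeff] at h1 ⊢
    exact (RingHom.sub_mem_ker_iff _).mp (hle ((RingHom.sub_mem_ker_iff _).mpr h1))

end Groth.Agent.S19035
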