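import Groth.Statements.S19036
import Mathlib.AlgebraicGeometry.ValuativeCriterion

set_option backward.isDefEq.respectTransparency.types false

set_option linter.style.haveILetI false
set_option autoImplicit false
universe u
open Instab

namespace Groth.Agent.S19036

open CategoryTheory AlgebraicGeometry TopologicalSpace Filter Topology

/-- A morphism from the spectrum of a local ring whose closed point lands in an affine open factors
through its ring of sections. -/
theorem exists_factor {X : Scheme.{u}} {V : X.Opens} (hV : IsAffineOpen V) {A : CommRingCat.{u}} [IsLocalRing A]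
    (l : Spec A ⟶ X) (h : l (IsLocalRing.closedPoint A) ∈ V) :
    ∃ χ : Γ(X, V) ⟶ A, Spec.map χ ≫ hV.fromSpec = l := by
  have htop : l ⁻¹ᵁ V = ⊤ := (IsLocalRing.closedPoint_mem_iff (R := A) _).mp h
  have hr : Set.range l ⊆ Set.range hV.fromSpec := by
    rw [hV.range_fromSpec]
    rintro _ ⟨p, rfl⟩
    have : p ∈ l ⁻¹ᵁ V := htop ▸ trivial
    exact this
  exact ⟨Spec.preimage (IsOpenImmersion.lift hV.fromSpec l hr), by rw [Spec.map_preimage, IsOpenImmersion.lift_fac]⟩

theorem factor_unique {X : Scheme.{u}} {V : X.Opens} (hV : IsAffineOpen V) {A : CommRingCat.{u}}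
    {χ χ' : Γ(X, V) ⟶ A} (h : Spec.map χ ≫ hV.fromSpec = Spec.map χ' ≫ hV.fromSpec) : χ = χ' :=
  Spec.map_injective ((cancel_mono hV.fromSpec).mp h)

open CategoryTheory AlgebraicGeometry in
/-- Let f : X → Y be a morphism of schemes which is locally of finite presentation, and for which the
valuative criterion holds (every valuative square over a valuation ring has exactly one lift). When
X has only finitely many irreducible components, the morphism f is quasi-compact. (The source states
this for algebraic spaces and adds that f is then proper; universal closedness follows from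
quasi-compactness and the existence part by the standard criterion, and separatedness from the
uniqueness part once f is quasi-separated. Only the scheme case and the quasi-compactness conclusion
are stated here.) -/
theorem result
    {X Y : Scheme.{u}} (f : X ⟶ Y) [LocallyOfFinitePresentation f]
    (hf : ValuativeCriterion f) (hX : (irreducibleComponents ↥X).Finite) :
    QuasiCompact f := by
  rw [quasiCompact_iff_forall_isAffineOpen]
  intro U hU
  rw [isCompact_iff_ultrafilter_le_nhds]
  intro F hF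
  have hFU : ∀ᶠ x in (F : Filter X), x ∈ f ⁻¹ᵁ U := Filter.le_principal_iff.mp hF
  have hcov : (⋃ Z ∈ irreducibleComponents ↥X, Z) ∈ (F : Filter X) :=
    Filter.mem_of_superset univ_mem fun x _ => Set.mem_biUnion
      (irreducibleComponent_mem_irreducibleComponents x) mem_irreducibleComponent
  obtain ⟨Z, hZ, hFZ⟩ := (Ultrafilter.finite_biUnion_mem_iff hX).mp hcov
  obtain ⟨η₀, hη⟩ : ∃ η₀, IsGenericPoint η₀ Z :=
    ⟨_, by simpa [(isClosed_of_mem_irreducibleComponents Z hZ).closure_eq] using hZ.1.isGenericPoint_genericPoint_closure⟩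
  obtain ⟨x₀, hx₀⟩ := (hFU.and hFZ).exists
  have hgen : X.fromSpecResidueField η₀ (IsLocalRing.closedPoint (X.residueField η₀)) ∈ f ⁻¹ᵁ U := by
    rw [Scheme.fromSpecResidueField_apply]
    exact (hη.specializes hx₀.2).mem_open (f ⁻¹ᵁ U).2 hx₀.1
  let K := X.residueField η₀
  let i₁ : Spec K ⟶ X := X.fromSpecResidueField η₀
  obtain ⟨φ, hφ⟩ := exists_factor hU (A := K) (i₁ ≫ f) hgen
  have hA : ∀ x : X, ∃ (A : ValuationSubring K) (l : Spec (CommRingCat.of A) ⟶ X), x ∈ Z →
      Spec.map (CommRingCat.ofHom (algebraMap A K)) ≫ l = i₁ ∧ l (IsLocalRing.closedPoint A) = x := by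
    intro x
    by_cases hx : x ∈ Z
    · have hs := hη.specializes hx
      let g : X.presheaf.stalk x ⟶ K := X.presheaf.stalkSpecializes hs ≫ X.residue η₀
      obtain ⟨A, hA, hloc⟩ := IsLocalRing.exists_factor_valuationRing g.hom
      let c : X.presheaf.stalk x ⟶ CommRingCat.of A := CommRingCat.ofHom (g.hom.codRestrict A.toSubring hA)
      refine ⟨A, Spec.map c ≫ X.fromSpecStalk x, fun _ => ⟨?_, ?_⟩⟩
      · rw [← Spec.map_comp_assoc]
        show Spec.map (X.presheaf.stalkSpecializes hs ≫ X.residue η₀) ≫ X.fromSpecStalk x = _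
        rw [Spec.map_comp, Category.assoc, Scheme.SpecMap_stalkSpecializes_fromSpecStalk]
        rfl
      · haveI : IsLocalHom c.hom := hloc
        rw [Scheme.Hom.comp_apply, Spec_closedPoint, Scheme.fromSpecStalk_closedPoint]
    · let c : X.presheaf.stalk η₀ ⟶ CommRingCat.of (⊤ : ValuationSubring K) :=
        CommRingCat.ofHom ((X.residue η₀).hom.codRestrict (⊤ : ValuationSubring K).toSubring fun _ => trivial)
      exact ⟨⊤, Spec.map c ≫ X.fromSpecStalk η₀, fun h => absurd h hx⟩
  choose A l hl using hA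
  have hψ : ∀ x, x ∈ f ⁻¹ᵁ U → x ∈ Z → ∃ ψ : Γ(Y, U) ⟶ CommRingCat.of (A x),
      Spec.map ψ ≫ hU.fromSpec = l x ≫ f ∧ ψ ≫ CommRingCat.ofHom (algebraMap (A x) K) = φ := by
    intro x hxU hxZ
    obtain ⟨ψ, hψ⟩ := exists_factor hU (l x ≫ f) (by rw [Scheme.Hom.comp_apply, (hl x hxZ).2]; exact hxU)
    exact ⟨ψ, hψ, factor_unique hU (by rw [Spec.map_comp, Category.assoc, hψ, ← Category.assoc, (hl x hxZ).1, hφ])⟩
  let O : ValuationSubring K :=
    { carrier := {a | ∀ᶠ x in (F : Filter X), a ∈ A x}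
      zero_mem' := Eventually.of_forall fun x => zero_mem (A x)
      one_mem' := Eventually.of_forall fun x => one_mem (A x)
      add_mem' := fun ha hb => (ha.and hb).mono fun x h => add_mem h.1 h.2
      mul_mem' := fun ha hb => (ha.and hb).mono fun x h => mul_mem h.1 h.2
      neg_mem' := fun ha => ha.mono fun x h => neg_mem h
      mem_or_inv_mem' := fun a => by
        by_cases ha : ∀ᶠ x in (F : Filter X), a ∈ A x
        · exact Or.inl ha
        · exact Or.inr ((Ultrafilter.eventually_not.mpr ha).mono fun x h => ((A x).mem_or_inv_mem a).resolve_left h) }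
  have hφO : ∀ r, φ r ∈ O := fun r => (hFU.and hFZ).mono fun x hx => by
    obtain ⟨ψ, -, hψ'⟩ := hψ x hx.1 hx.2
    rw [← hψ']
    exact (ψ r).2
  let φ' : Γ(Y, U) ⟶ CommRingCat.of O := CommRingCat.ofHom (φ.hom.codRestrict O.toSubring hφO)
  have hsq : CommSq i₁ (Spec.map (CommRingCat.ofHom (algebraMap O K))) f (Spec.map φ' ≫ hU.fromSpec) := ⟨by
    rw [← hφ, ← Spec.map_comp_assoc]; rfl⟩
  obtain ⟨lO, hlO₁, hlO₂⟩ := (hf.existence
    { R := O, K := K, i₁ := i₁, i₂ := Spec.map φ' ≫ hU.fromSpec, commSq := hsq }).exists_lift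
  dsimp only at hlO₁ hlO₂
  have hzU : lO (IsLocalRing.closedPoint O) ∈ f ⁻¹ᵁ U := by
    show f (lO _) ∈ (U : Set Y)
    rw [← Scheme.Hom.comp_apply, hlO₂, Scheme.Hom.comp_apply, ← hU.range_fromSpec]
    exact Set.mem_range_self _
  refine ⟨lO (IsLocalRing.closedPoint O), hzU, le_nhds_iff.mpr fun W hzW hW => ?_⟩
  obtain ⟨V, hV, hzV, hVW⟩ := exists_isAffineOpen_mem_and_subset (X := X)
    (x := lO (IsLocalRing.closedPoint O)) (U := ⟨W, hW⟩ ⊓ (f ⁻¹ᵁ U)) ⟨hzW, hzU⟩
  have e : V ≤ f ⁻¹ᵁ U := hVW.trans inf_le_right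
  obtain ⟨χ, hχ⟩ := exists_factor hV (A := CommRingCat.of O) lO hzV
  have hft : (f.appLE U V e).hom.FiniteType := f.finiteType_appLE hU hV e
  obtain ⟨s, hs⟩ := hft
  have hχφ : f.appLE U V e ≫ χ = φ' := factor_unique hU (by
    rw [Spec.map_comp, Category.assoc, IsAffineOpen.SpecMap_appLE_fromSpec f hU hV e, ← Category.assoc, hχ, hlO₂])
  have hev : ∀ᶠ x in (F : Filter X), x ∈ f ⁻¹ᵁ U ∧ x ∈ Z ∧ ∀ g ∈ s, ((χ g : O) : K) ∈ A x :=
    hFU.and (Filter.Eventually.and hFZ ((Finset.eventually_all s).mpr fun g _ => (χ g).2))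
  refine Filter.mem_of_superset hev ?_
  rintro x ⟨hxU, hxZ, hxs⟩
  obtain ⟨ψ, hψ₁, hψ₂⟩ := hψ x hxU hxZ
  letI := (f.appLE U V e).hom.toAlgebra
  have hall : ∀ g : Γ(X, V), ((χ g : O) : K) ∈ A x := by
    intro g
    have hg : g ∈ Algebra.adjoin Γ(Y, U) (s : Set Γ(X, V)) := hs ▸ trivial
    induction hg using Algebra.adjoin_induction with
    | mem g hg => exact hxs g hg
    | algebraMap r =>
      show ((χ (f.appLE U V e r) : O) : K) ∈ A x
      rw [← CommRingCat.comp_apply, hχφ]
      show φ r ∈ A x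
      rw [← hψ₂]
      exact (ψ r).2
    | add a b _ _ ha hb => rw [map_add]; exact add_mem ha hb
    | mul a b _ _ ha hb => rw [map_mul]; exact mul_mem ha hb
  let χx : Γ(X, V) ⟶ CommRingCat.of (A x) :=
    CommRingCat.ofHom ((O.subtype.comp χ.hom).codRestrict (A x).toSubring hall)
  have hlift : Spec.map χx ≫ hV.fromSpec = l x := by
    have hgen' : Spec.map (CommRingCat.ofHom (algebraMap (A x) K)) ≫ Spec.map χx ≫ hV.fromSpec = i₁ := by
      rw [← hlO₁, ← hχ, ← Spec.map_comp_assoc, ← Spec.map_comp_assoc]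
      rfl
    have hf' : (Spec.map χx ≫ hV.fromSpec) ≫ f = l x ≫ f := by
      rw [← hψ₁, Category.assoc, ← IsAffineOpen.SpecMap_appLE_fromSpec f hU hV e, ← Spec.map_comp_assoc]
      congr 2
      ext r
      show ((χ (f.appLE U V e r) : O) : K) = (ψ r : K)
      rw [← CommRingCat.comp_apply, hχφ]
      show φ r = _
      rw [← hψ₂]
      rfl
    haveI := hf.uniqueness
      { R := A x, K := K, i₁ := i₁, i₂ := l x ≫ f, commSq := ⟨by rw [← Category.assoc, (hl x hxZ).1]⟩ }
    exact congrArg CommSq.LiftStruct.l (Subsingleton.elim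
      (⟨_, hgen', hf'⟩ : CommSq.LiftStruct _) ⟨l x, (hl x hxZ).1, rfl⟩)
  have hxV : x ∈ V := by
    show x ∈ (V : Set X)
    rw [← hV.range_fromSpec, ← (hl x hxZ).2, ← hlift, Scheme.Hom.comp_apply]
    exact Set.mem_range_self _
  exact (hVW hxV).1

end Groth.Agent.S19036
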