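import Groth.Statements.S19037
import Mathlib.Algebra.Polynomial.Laurent
import Mathlib.RingTheory.GradedAlgebra.Basic

set_option autoImplicit false
universe u v
open scoped Polynomial LaurentPolynomial
open Instab

namespace Groth.Agent.S19037

/-- Affine form over a ring R. Let A be a commutative ℤ-graded R-algebra and t an element of degree −1
(so A is a graded algebra over R[t] with t in degree −1), and let ψ : A[1/t] → R[T, T⁻¹] be an
R-algebra map sending t to T which is graded, in the sense that each homogeneous element of degree n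
of A goes to an element of R times T^(−n). Then ψ is obtained by inverting t from an R-algebra map χ
: A → R[T] (compared through the inclusion of R[T] in R[T, T⁻¹]) if and only if ψ kills t·a for
every homogeneous a of degree 1; such a χ is unique. (The source states this for quasi-coherent
graded algebras over an arbitrary base scheme; the statement is local on the base and is given here
over an affine base.) -/
theorem result
    {R : Type u} {A : Type v} [CommRing R] [CommRing A] [Algebra R A]
    (𝒜 : ℤ → Submodule R A) [GradedAlgebra 𝒜] (t : A) (ht : t ∈ 𝒜 (-1))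
    (ψ : Localization.Away t →ₐ[R] R[T;T⁻¹])
    (hψt : ψ (algebraMap A (Localization.Away t) t) = LaurentPolynomial.T 1)
    (hψ : ∀ (n : ℤ) (a : A), a ∈ 𝒜 n →
      ∃ r : R, ψ (algebraMap A (Localization.Away t) a) = LaurentPolynomial.C r * LaurentPolynomial.T (-n)) :
    (∃! χ : A →ₐ[R] R[X], ∀ a : A,
        ψ (algebraMap A (Localization.Away t) a) = Polynomial.toLaurentAlg (χ a)) ↔
      ∀ a ∈ 𝒜 1, ψ (algebraMap A (Localization.Away t) (t * a)) = 0 := by
  classical
  set g : A →ₐ[R] R[T;T⁻¹] := ψ.comp (IsScalarTower.toAlgHom R A (Localization.Away t)) with hg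
  have hgt : g t = LaurentPolynomial.T 1 := hψt
  constructor
  · rintro ⟨χ, hχ, -⟩ a ha
    obtain ⟨r, hr⟩ := hψ 1 a ha
    rw [map_mul, map_mul, hψt, hr]
    have h := hχ a
    rw [hr] at h
    have h0 := congrArg (fun f : R[T;T⁻¹] => f.coeff (-1)) h
    simp only [← LaurentPolynomial.single_eq_C_mul_T] at h0
    rw [Polynomial.toLaurentAlg_apply] at h0
    have h1 : (Polynomial.toLaurent (χ a)).coeff (-1) = 0 := by
      have : (-1 : ℤ) ∉ ((Polynomial.toLaurent (χ a)).coeff).support := by
        rw [LaurentPolynomial.toLaurent_support]; simp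
      exact Finsupp.notMem_support_iff.mp this
    rw [h1, AddMonoidAlgebra.coeff_single, Finsupp.single_eq_same] at h0
    simp [h0]
  · intro hvan
    have hrange : ∀ a : A, g a ∈ (Polynomial.toLaurentAlg (R := R)).range := by
      intro a
      refine DirectSum.Decomposition.inductionOn 𝒜 (by rw [map_zero]; exact zero_mem _) ?_
        (fun x y hx hy => by rw [map_add]; exact add_mem hx hy) a
      intro n x
      obtain ⟨r, hr⟩ := hψ n x x.2
      change g x = _ at hr
      rw [hr]
      rcases le_or_gt n 0 with hn | hn
      · obtain ⟨m, hm⟩ : ∃ m : ℕ, -n = (m : ℤ) := ⟨(-n).toNat, by omega⟩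
        exact ⟨Polynomial.C r * Polynomial.X ^ m, by
          change Polynomial.toLaurent _ = _
          rw [Polynomial.toLaurent_C_mul_X_pow, hm]⟩
      · obtain ⟨m, rfl⟩ : ∃ m : ℕ, n = (m : ℤ) + 1 := ⟨(n - 1).toNat, by omega⟩
        have hmem : t ^ m * (x : A) ∈ 𝒜 1 := by
          have := SetLike.mul_mem_graded (SetLike.pow_mem_graded m ht) x.2
          simpa using this
        have h : g (t * (t ^ m * (x : A))) = 0 := hvan _ hmem
        rw [map_mul, map_mul, map_pow, hgt, hr, LaurentPolynomial.T_pow, ← mul_assoc,
          ← LaurentPolynomial.T_add, mul_left_comm, ← LaurentPolynomial.T_add] at h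
        rw [show (1 + (m : ℤ) * 1) + -((m : ℤ) + 1) = 0 by ring, LaurentPolynomial.T_zero, mul_one] at h
        rw [h, zero_mul]
        exact zero_mem _
    let e := AlgEquiv.ofInjective (Polynomial.toLaurentAlg (R := R)) Polynomial.toLaurent_injective
    refine ⟨(e.symm.toAlgHom).comp (g.codRestrict _ hrange), fun a => ?_, fun χ hχ => ?_⟩
    · exact (congrArg Subtype.val (e.apply_symm_apply ⟨g a, hrange a⟩)).symm
    · ext1 a
      apply Polynomial.toLaurent_injective
      change Polynomial.toLaurentAlg (χ a) = Polynomial.toLaurentAlg (e.symm ⟨g a, hrange a⟩)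
      rw [← hχ a]
      exact (congrArg Subtype.val (e.apply_symm_apply ⟨g a, hrange a⟩)).symm

end Groth.Agent.S19037
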