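import Groth.Statements.S19041
import Groth.Agent.DieuLib.GcMod
open W4c6eohyperellchar2 Groth.Agent.DieuLib

set_option autoImplicit false
universe u
open Dieu

namespace Groth.Agent.S19041

/-- Let `k` be a perfect field of characteristic `2` and `c` a natural number, and consider the explicit
`2c`-dimensional `k`-space on `X_1, …, X_c, Y_1, …, Y_c` with its operators `F` and `V` (`F Y_j =
0`; `F X_j = X_{j/2}` for `j` even and `Y_{c-(j-1)/2}` for `j` odd; `V Y_j = Y_{2j}` when `2j ≤ c`,
else `0`; `V X_j = Y_{2c-2j+1}` when `2j > c`, else `0`). For `j = 2^e l` with `l` odd and `c < 2j ≤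
2c`, and for `j'` with `c < 2j' ≤ 2c` and `n` with `2^n (2c - 2j' + 1) = c - (l-1)/2`, one has
`F^{e+1} X_j + V^{n+1} X_{j'} = 0`. (Stated over any perfect field of characteristic `2`; the source
works over an algebraically closed one.) -/
theorem result (c : ℕ) (k : Type u) [Field k] [CharP k 2] [PerfectRing k 2]
    (j e l : ℕ) (hj : j = 2 ^ e * l) (hl : Odd l) (hjc : j ≤ c) (hcj : c < 2 * j)
    (j' n : ℕ) (hj'c : j' ≤ c) (hcj' : c < 2 * j') (hn : 2 ^ n * (2 * c - 2 * j' + 1) = c - (l - 1) / 2) :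
    (W4c6eohyperellchar2.F c k)^[e + 1] (W4c6eohyperellchar2.X c k j) + (W4c6eohyperellchar2.V c k)^[n + 1] (W4c6eohyperellchar2.X c k j') = 0 := by
  have hl1 : 1 ≤ l := hl.pos
  have hlodd : l % 2 = 1 := Nat.odd_iff.1 hl
  have hFit : ∀ i, 2 ^ i * l ≤ c → (F c k)^[i] (X c k (2 ^ i * l)) = X c k l := by
    intro i
    induction i with
    | zero => simp
    | succ i ih =>
      intro h
      have hpos : 1 ≤ 2 ^ i * l := Nat.mul_pos (Nat.two_pow_pos i) hl.pos
      have heq : 2 ^ (i + 1) * l = 2 * (2 ^ i * l) := by ring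
      rw [heq] at h ⊢
      rw [Function.iterate_succ_apply, F_X (by omega) h, if_pos (by omega)]
      rw [show 2 * (2 ^ i * l) / 2 = 2 ^ i * l by omega]
      exact ih (by omega)
  have hle : l ≤ c := le_trans (Nat.le_mul_of_pos_left l (Nat.two_pow_pos e)) (hj ▸ hjc)
  have hV : ∀ i, i ≤ n → (V c k)^[i + 1] (X c k j') = Y c k (2 ^ i * (2 * c - 2 * j' + 1)) := by
    intro i
    induction i with
    | zero => intro _; simp [V_X (show 1 ≤ j' by omega) hj'c]
    | succ i ih =>
      intro hi
      have hp : 2 ^ i * (2 * c - 2 * j' + 1) ≤ c := by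
        calc 2 ^ i * (2 * c - 2 * j' + 1) ≤ 2 ^ n * (2 * c - 2 * j' + 1) :=
              Nat.mul_le_mul_right _ (Nat.pow_le_pow_right (by norm_num) (by omega))
          _ ≤ c := by omega
      have hp1 : 1 ≤ 2 ^ i * (2 * c - 2 * j' + 1) := Nat.mul_pos (Nat.two_pow_pos i) (by omega)
      rw [Function.iterate_succ_apply', ih (by omega), V_Y hp1 hp]
      congr 1
      ring
  rw [hV n le_rfl, hn, hj, Function.iterate_succ_apply', hFit e (hj ▸ hjc), F_X hl1 hle, if_neg (by omega)]
  exact add_self_eq_zero' _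

end Groth.Agent.S19041
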