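import Groth.Statements.S19042
import Groth.Agent.DieuLib.GcMod
open W4c6eohyperellchar2 Groth.Agent.DieuLib

set_option autoImplicit false
universe u
open Dieu

namespace Groth.Agent.S19042

/-- Let `k` be a perfect field of characteristic `2` and `c` a natural number, and consider the explicit
`2c`-dimensional `k`-space on `X_1, …, X_c, Y_1, …, Y_c` with its operators `F` and `V` (`F Y_j =
0`; `F X_j = X_{j/2}` for `j` even and `Y_{c-(j-1)/2}` for `j` odd; `V Y_j = Y_{2j}` when `2j ≤ c`,
else `0`; `V X_j = Y_{2c-2j+1}` when `2j > c`, else `0`). The vectors `X_j` with `c < 2j ≤ 2c`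
generate it as a module over `k[F, V]`: a `k`-subspace stable under `F` and `V` containing them is
everything. (Stated over any perfect field of characteristic `2`; the source works over an
algebraically closed one.) -/
theorem result (c : ℕ) (k : Type u) [Field k] [CharP k 2] [PerfectRing k 2]
    (N : Submodule k (W4c6eohyperellchar2.GcMod c k))
    (hF : ∀ v ∈ N, W4c6eohyperellchar2.F c k v ∈ N) (hV : ∀ v ∈ N, W4c6eohyperellchar2.V c k v ∈ N)
    (hX : ∀ j : ℕ, c < 2 * j → j ≤ c → W4c6eohyperellchar2.X c k j ∈ N) : N = ⊤ := by
  have hXm : ∀ d n, c - n ≤ d → 1 ≤ n → n ≤ c → X c k n ∈ N := by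
    intro d
    induction d using Nat.strong_induction_on with
    | _ d ih =>
      intro n hd h1 h2
      by_cases hc : c < 2 * n
      · exact hX n hc h2
      · have h3 := ih (c - 2 * n) (by omega) (2 * n) le_rfl (by omega) (by omega)
        have h4 := hF _ h3
        rwa [F_X (by omega) (by omega), if_pos (by omega), show 2 * n / 2 = n by omega] at h4
  have hYm : ∀ m, 1 ≤ m → m ≤ c → Y c k m ∈ N := by
    intro m
    induction m using Nat.strong_induction_on with
    | _ m ih =>
      intro h1 h2
      by_cases hc : 2 * (c - m) + 1 ≤ c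
      · have h4 := hF _ (hXm c (2 * (c - m) + 1) (by omega) (by omega) hc)
        rwa [F_X (by omega) hc, if_neg (by omega), show c - (2 * (c - m) + 1 - 1) / 2 = m by omega] at h4
      · rcases Nat.mod_two_eq_zero_or_one m with hm | hm
        · have h4 := hV _ (ih (m / 2) (by omega) (by omega) (by omega))
          rwa [V_Y (by omega) (by omega), show 2 * (m / 2) = m by omega] at h4
        · have h4 := hV _ (hXm c ((2 * c + 1 - m) / 2) (by omega) (by omega) (by omega))
          rwa [V_X (by omega) (by omega), show 2 * c - 2 * ((2 * c + 1 - m) / 2) + 1 = m by omega] at h4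
  rw [eq_top_iff]
  intro v _
  exact mem_of_basis N v (fun n h1 h2 _ => hXm c n (by omega) h1 h2) (fun n h1 h2 _ => hYm n h1 h2)

end Groth.Agent.S19042
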