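import Groth.Statements.S19043
import Groth.Agent.DieuLib.GcMod
open W4c6eohyperellchar2 Groth.Agent.DieuLib

set_option autoImplicit false
universe u
open Dieu

namespace Groth.Agent.S19043

/-- Let `k` be a perfect field of characteristic `2` and `c` a natural number, and let `M` be the
explicit `2c`-dimensional `k`-space on `X_1, …, X_c, Y_1, …, Y_c` with its operators `F` and `V` (`F
Y_j = 0`; `F X_j = X_{j/2}` for `j` even and `Y_{c-(j-1)/2}` for `j` odd; `V Y_j = Y_{2j}` when `2j
≤ c`, else `0`; `V X_j = Y_{2c-2j+1}` when `2j > c`, else `0`). The classes of the `X_j` with `c <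
2j ≤ 2c` in the quotient of `M` by the `k`-span of `F(M) ∪ V(M)` are linearly independent and span
that quotient. (Stated over any perfect field of characteristic `2`; the source works over an
algebraically closed one.) -/
theorem result (c : ℕ) (k : Type u) [Field k] [CharP k 2] [PerfectRing k 2] :
    LinearIndependent k (fun j : {j : ℕ // c < 2 * j ∧ j ≤ c} =>
        Submodule.mkQ (Submodule.span k (Set.range (W4c6eohyperellchar2.F c k) ∪ Set.range (W4c6eohyperellchar2.V c k))) (W4c6eohyperellchar2.X c k j.1)) ∧
      Submodule.span k (Set.range (fun j : {j : ℕ // c < 2 * j ∧ j ≤ c} =>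
        Submodule.mkQ (Submodule.span k (Set.range (W4c6eohyperellchar2.F c k) ∪ Set.range (W4c6eohyperellchar2.V c k))) (W4c6eohyperellchar2.X c k j.1))) = ⊤ := by
  set W := Submodule.span k (Set.range (F c k) ∪ Set.range (V c k)) with hW
  have hFm : ∀ v, F c k v ∈ W := fun v => Submodule.subset_span (Or.inl ⟨v, rfl⟩)
  have hVm : ∀ v, V c k v ∈ W := fun v => Submodule.subset_span (Or.inr ⟨v, rfl⟩)
  have hz : ∀ w ∈ W, ∀ n, c < 2 * n → coefX w n = 0 := by
    intro w hw
    induction hw using Submodule.span_induction with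
    | mem w hw =>
      intro n hn
      by_cases hr : 1 ≤ n ∧ n ≤ c
      · rcases hw with ⟨v, rfl⟩ | ⟨v, rfl⟩
        · show coefX (F c k v) n = 0
          simp only [coefX, F, dif_pos hr]
          rw [show 2 * (n - 1 + 1) = 2 * n by omega, dif_neg (by omega), zero_pow two_ne_zero]
        · show coefX (V c k v) n = 0
          simp only [coefX, V, dif_pos hr]; rfl
      · exact coefX_eq_zero _ hr
    | zero => intro n _; simp [coefX]
    | add x y _ _ hx hy => intro n hn; rw [coefX_add, hx n hn, hy n hn, add_zero]
    | smul a x _ hx => intro n hn; rw [coefX_smul, hx n hn, mul_zero]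
  constructor
  · haveI : Fintype {j : ℕ // c < 2 * j ∧ j ≤ c} :=
      Fintype.subtype ((Finset.range (c + 1)).filter fun j => c < 2 * j) (fun j => by simp; omega)
    rw [Fintype.linearIndependent_iff]
    intro g hg j
    have h0 : (∑ i, g i • X c k i.1) ∈ W := by
      rw [← Submodule.Quotient.mk_eq_zero, ← Submodule.mkQ_apply, map_sum]
      simpa [map_smul] using hg
    have h1 := hz _ h0 j.1 j.2.1
    let L : GcMod c k →ₗ[k] k :=
      { toFun := fun v => coefX v j.1, map_add' := fun v w => coefX_add v w j.1, map_smul' := fun a v => coefX_smul a v j.1 }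
    change L _ = 0 at h1
    rw [map_sum, Finset.sum_eq_single j] at h1
    · rw [map_smul, show L (X c k j.1) = 1 from (coefX_X _ _).trans (if_pos ⟨rfl, by have := j.2; omega⟩), smul_eq_mul, mul_one] at h1
      exact h1
    · intro i _ hij
      rw [map_smul, show L (X c k i.1) = 0 from (coefX_X _ _).trans (if_neg (fun h => hij (Subtype.ext h.1.symm))), smul_zero]
    · simp
  · rw [eq_top_iff]
    rintro q -
    obtain ⟨v, rfl⟩ := Submodule.mkQ_surjective W q
    set S := Submodule.span k (Set.range (fun j : {j : ℕ // c < 2 * j ∧ j ≤ c} => W.mkQ (X c k j.1)))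
    refine mem_of_basis (S.comap W.mkQ) v (fun n h1 h2 _ => ?_) (fun n h1 h2 _ => ?_)
    · by_cases hc : c < 2 * n
      · exact Submodule.subset_span ⟨⟨n, hc, h2⟩, rfl⟩
      · show W.mkQ _ ∈ S
        have h4 := hFm (X c k (2 * n))
        rw [F_X (by omega) (by omega), if_pos (by omega), show 2 * n / 2 = n by omega] at h4
        rw [Submodule.mkQ_apply, (Submodule.Quotient.mk_eq_zero W).2 h4]
        exact zero_mem _
    · show W.mkQ _ ∈ S
      suffices h4 : Y c k n ∈ W by
        rw [Submodule.mkQ_apply, (Submodule.Quotient.mk_eq_zero W).2 h4]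
        exact zero_mem _
      by_cases hc : 2 * (c - n) + 1 ≤ c
      · have h4 := hFm (X c k (2 * (c - n) + 1))
        rwa [F_X (by omega) hc, if_neg (by omega), show c - (2 * (c - n) + 1 - 1) / 2 = n by omega] at h4
      · rcases Nat.mod_two_eq_zero_or_one n with hm | hm
        · have h4 := hVm (Y c k (n / 2))
          rwa [V_Y (by omega) (by omega), show 2 * (n / 2) = n by omega] at h4
        · have h4 := hVm (X c k ((2 * c + 1 - n) / 2))
          rwa [V_X (by omega) (by omega), show 2 * c - 2 * ((2 * c + 1 - n) / 2) + 1 = n by omega] at h4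

end Groth.Agent.S19043
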