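import Groth.Statements.S19044
import Groth.Agent.CommAlg4.ASPartialFrac
-- import your own Groth.Agent.* helpers here

set_option autoImplicit false
universe u v w
open FunFld

namespace Groth.Agent.S19044

set_option backward.isDefEq.respectTransparency false
set_option synthInstance.maxHeartbeats 100000
open Groth.Agent.FF Groth.Agent.CommAlg4.ASchar2 WithZero

/-- Let `k` be algebraically closed of characteristic `2` and `K = k(x, y)` with `y² + y = f(x)`, `K`
separable of degree `2` over `k(x)`; let `B ⊆ k` be a finite set containing `0` such that `f` has a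
pole of odd order `d_α` at `x = α` for every `α ∈ B` and is integral at all other places of `k(x)`
(so also at infinity), and put `c_α = (d_α - 1)/2`. Then the differentials `z dx` with `z = (x -
α)^{-(j+1)}` (`α ∈ B`, `1 ≤ j ≤ c_α`) and `z = α/(x(x-α))` (`α ∈ B`, `α ≠ 0`) are regular, this
family of `z` is linearly independent over `k`, and every `z` with `z dx` regular is a `k`-linear
combination of them; regularity is read through Laurent expansions over `k` at every place of `K`.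
(Up to sign these are the forms `x_α^{j-1} dx_α` and `x_α^{-1} dx_α - x_0^{-1} dx_0` with `x_α = (x
- α)^{-1}`.) -/
theorem result (k : Type u) (K : Type v)
    [Field k] [IsAlgClosed k] [CharP k 2] [Field K] [Algebra k K] [Algebra (RatFunc k) K] [IsScalarTower k (RatFunc k) K]
    (hK : FunFld.IsFunctionField k K) (hdeg : Module.finrank (RatFunc k) K = 2) [Algebra.IsSeparable (RatFunc k) K]
    (y : K) (hy : y ∉ Set.range (algebraMap (RatFunc k) K)) (f : RatFunc k)
    (heq : y ^ 2 + y = algebraMap (RatFunc k) K f)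
    (B : Finset k) (h0 : (0 : k) ∈ B) (d : k → ℕ) (hd : ∀ α ∈ B, Odd (d α))
    (hpole : ∀ (p : FunFld.Place k (RatFunc k)) (α : k), α ∈ B →
      p.1 ((RatFunc.X : RatFunc k) - RatFunc.C α) < 1 → p.ord f = -(d α : ℤ))
    (hint : ∀ p : FunFld.Place k (RatFunc k), (∀ α ∈ B, 1 ≤ p.1 ((RatFunc.X : RatFunc k) - RatFunc.C α)) → p.1 f ≤ 1)
    (F : FunFld.Place k K → Type w) [∀ P, Field (F P)] [∀ P, Algebra k (F P)] [∀ P, FiniteDimensional k (F P)]
    (φ : ∀ P, K →ₐ[k] LaurentSeries (F P)) (hφ : ∀ P, LocRes.IsExpansionAt P.1 (φ P)) :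
    (∀ i P, LocRes.vDiff (φ P) ((Sum.elim
        (fun a : {a : ↥B × ℕ // 1 ≤ a.2 ∧ 2 * a.2 + 1 ≤ d (a.1 : k)} => algebraMap (RatFunc k) K (((RatFunc.X : RatFunc k) - RatFunc.C (a.1.1 : k))⁻¹ ^ (a.1.2 + 1)))
        (fun b : {b : ↥B // (b : k) ≠ 0} => algebraMap (RatFunc k) K (RatFunc.C (b.1 : k) / ((RatFunc.X : RatFunc k) * ((RatFunc.X : RatFunc k) - RatFunc.C (b.1 : k)))))) i) (algebraMap (RatFunc k) K RatFunc.X) ≤ 1) ∧
    LinearIndependent k (Sum.elim
        (fun a : {a : ↥B × ℕ // 1 ≤ a.2 ∧ 2 * a.2 + 1 ≤ d (a.1 : k)} => algebraMap (RatFunc k) K (((RatFunc.X : RatFunc k) - RatFunc.C (a.1.1 : k))⁻¹ ^ (a.1.2 + 1)))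
        (fun b : {b : ↥B // (b : k) ≠ 0} => algebraMap (RatFunc k) K (RatFunc.C (b.1 : k) / ((RatFunc.X : RatFunc k) * ((RatFunc.X : RatFunc k) - RatFunc.C (b.1 : k)))))) ∧
    ∀ z : K, (∀ P, LocRes.vDiff (φ P) z (algebraMap (RatFunc k) K RatFunc.X) ≤ 1) →
      z ∈ Submodule.span k (Set.range (Sum.elim
        (fun a : {a : ↥B × ℕ // 1 ≤ a.2 ∧ 2 * a.2 + 1 ≤ d (a.1 : k)} => algebraMap (RatFunc k) K (((RatFunc.X : RatFunc k) - RatFunc.C (a.1.1 : k))⁻¹ ^ (a.1.2 + 1)))
        (fun b : {b : ↥B // (b : k) ≠ 0} => algebraMap (RatFunc k) K (RatFunc.C (b.1 : k) / ((RatFunc.X : RatFunc k) * ((RatFunc.X : RatFunc k) - RatFunc.C (b.1 : k))))))) := by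
  classical
  have hf0 : f ≠ 0 := fun h => by
    have h1 : y * (y + 1) = 0 := by rw [mul_add, ← sq, mul_one, heq, h, map_zero]
    rcases mul_eq_zero.mp h1 with h2 | h2
    · exact hy ⟨0, by rw [map_zero, h2]⟩
    · exact hy ⟨-1, by rw [map_neg, map_one]; exact (eq_neg_of_add_eq_zero_left h2).symm⟩
  have hodd : ∀ p : FunFld.Place k (RatFunc k), p.ord f < 0 → Odd (p.ord f) := fun p hp => by
    by_cases h : ∃ α ∈ B, p = placeAt α
    · obtain ⟨α, hα, rfl⟩ := h
      rw [(ord_at hd f hpole hα).1]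
      exact ((Int.odd_coe_nat (d α)).mpr (hd α hα)).neg
    · push Not at h
      exact absurd hp (ord_off f hint hf0 h)
  have D : Data k K y f := ⟨ringChar.eq k 2, hdeg, hy, heq, hodd⟩
  have hell : (FunFld.ell (diffDiv f) : ℤ) = (wDiv f).deg - 1 := by
    rw [D.ell_diffDiv hK, D.genus_eq hK]
  have hspan := span_elt h0 hd f hpole hint hf0 hell
  let T : RatFunc k →ₗ[k] K := (IsScalarTower.toAlgHom k (RatFunc k) K).toLinearMap
  have hfam : (Sum.elim
      (fun a : {a : ↥B × ℕ // 1 ≤ a.2 ∧ 2 * a.2 + 1 ≤ d (a.1 : k)} => algebraMap (RatFunc k) K (((RatFunc.X : RatFunc k) - RatFunc.C (a.1.1 : k))⁻¹ ^ (a.1.2 + 1)))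
      (fun b : {b : ↥B // (b : k) ≠ 0} => algebraMap (RatFunc k) K (RatFunc.C (b.1 : k) / ((RatFunc.X : RatFunc k) * ((RatFunc.X : RatFunc k) - RatFunc.C (b.1 : k)))))) = T ∘ elt B d := by
    funext i
    rcases i with a | b
    · rfl
    · show algebraMap (RatFunc k) K _ = algebraMap (RatFunc k) K _
      refine congrArg _ ?_
      show _ = RatFunc.C (b.1 : k) * (invX 0 * invX (b.1 : k))
      rw [invX, invX, map_zero, sub_zero, div_eq_mul_inv, mul_inv]
  rw [hfam]
  refine ⟨fun i P => ?_, (linearIndependent_elt B d).map' T (LinearMap.ker_eq_bot.mpr (algebraMap (RatFunc k) K).injective),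
    fun z hz => ?_⟩
  · exact (D.regular_iff hK F φ hφ _).mpr ⟨_, hspan ▸ Submodule.subset_span ⟨i, rfl⟩, rfl⟩ P
  · obtain ⟨a, ha, rfl⟩ := (D.regular_iff hK F φ hφ z).mp hz
    rw [← hspan] at ha
    rw [Set.range_comp, Submodule.span_image]
    exact ⟨a, ha, rfl⟩

end Groth.Agent.S19044
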