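import Groth.Statements.S19045
import Groth.Agent.ASAdele24.Basic
-- import your own Groth.Agent.* helpers here

set_option autoImplicit false
universe u v
open FunFld

set_option backward.isDefEq.respectTransparency.types false
open Groth.Agent Groth.Agent.FF Groth.Agent.CommAlg4.ASchar2
namespace Groth.Agent.S19045

/-- Let `k` be algebraically closed of characteristic `2` and `K = k(x, y)` with `y² + y = f(x)`, `K`
separable of degree `2` over `k(x)`; let `B ⊆ k` be a finite set containing `0` such that `f` has a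
pole of odd order `d_β` at `x = β` for every `β ∈ B` and is integral at all other places of `k(x)`.
Then `y` is integral at the places of `K` above `x = ∞` and has order `0` at one of them, and for `α
∈ B` and `j ∈ ℤ` the divisor of poles of `y (x - α)^j` consists of: order `max(d_α - 2j, 0)` at the
place above `α`, order exactly `d_β` above every other `β ∈ B`, order `max(j - ord_P y, 0)` at each
place `P` above `∞`, and nothing elsewhere. -/
theorem result (k : Type u) (K : Type v)
    [Field k] [IsAlgClosed k] [CharP k 2] [Field K] [Algebra k K] [Algebra (RatFunc k) K] [IsScalarTower k (RatFunc k) K]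
    (hK : FunFld.IsFunctionField k K) (hdeg : Module.finrank (RatFunc k) K = 2) [Algebra.IsSeparable (RatFunc k) K]
    (y : K) (hy : y ∉ Set.range (algebraMap (RatFunc k) K)) (f : RatFunc k)
    (heq : y ^ 2 + y = algebraMap (RatFunc k) K f)
    (B : Finset k) (h0 : (0 : k) ∈ B) (d : k → ℕ) (hd : ∀ β ∈ B, Odd (d β))
    (hpole : ∀ (p : FunFld.Place k (RatFunc k)) (β : k), β ∈ B →
      p.1 ((RatFunc.X : RatFunc k) - RatFunc.C β) < 1 → p.ord f = -(d β : ℤ))
    (hint : ∀ p : FunFld.Place k (RatFunc k), (∀ β ∈ B, 1 ≤ p.1 ((RatFunc.X : RatFunc k) - RatFunc.C β)) → p.1 f ≤ 1) :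
    (∀ P : FunFld.Place k K, 1 < P.1 (algebraMap (RatFunc k) K RatFunc.X) → 0 ≤ P.ord y) ∧
    (∃ P : FunFld.Place k K, 1 < P.1 (algebraMap (RatFunc k) K RatFunc.X) ∧ P.ord y = 0) ∧
    ∀ (α : k), α ∈ B → ∀ (j : ℤ) (P : FunFld.Place k K),
      (P.1 ((algebraMap (RatFunc k) K RatFunc.X) - (algebraMap k K α)) < 1 →
        max (-(P.ord (y * ((algebraMap (RatFunc k) K RatFunc.X) - (algebraMap k K α)) ^ j))) 0 = max ((d α : ℤ) - 2 * j) 0) ∧
      (∀ β : k, β ∈ B → β ≠ α → P.1 ((algebraMap (RatFunc k) K RatFunc.X) - (algebraMap k K β)) < 1 →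
        P.ord (y * ((algebraMap (RatFunc k) K RatFunc.X) - (algebraMap k K α)) ^ j) = -(d β : ℤ)) ∧
      (1 < P.1 (algebraMap (RatFunc k) K RatFunc.X) → max (-(P.ord (y * ((algebraMap (RatFunc k) K RatFunc.X) - (algebraMap k K α)) ^ j))) 0 = max (j - P.ord y) 0) ∧
      (P.1 (algebraMap (RatFunc k) K RatFunc.X) ≤ 1 → (∀ β : k, β ∈ B → 1 ≤ P.1 ((algebraMap (RatFunc k) K RatFunc.X) - (algebraMap k K β))) → 0 ≤ P.ord (y * ((algebraMap (RatFunc k) K RatFunc.X) - (algebraMap k K α)) ^ j)) := by
  have s := ASAdele24.setup_mk hK hdeg hy heq hd hpole hint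
  have hy0 : y ≠ 0 := fun h => hy ⟨0, by rw [map_zero, h]⟩
  have hu : ∀ α : k, algebraMap (RatFunc k) K RatFunc.X - algebraMap k K α ≠ 0 := fun α => by
    rw [← ASAdele24.algebraMap_C]
    exact (_root_.map_ne_zero (algebraMap (RatFunc k) K)).mpr (X_sub_C_ne α)
  refine ⟨fun P hP => (val_le_one_iff P hy0).mp (s.at_infinity hP).1, s.exists_unit_infinity,
    fun α hα j P => ⟨fun h => ?_, fun β hβ hne h => ?_, fun h => ?_, fun hX hoff => ?_⟩⟩
  · have ho := s.over_of_lt h
    rw [s.ord_sub_pow, (s.at_pole hα ho).2, s.ord_sub_self hα ho]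
    ring_nf
  · rw [s.ord_sub_pow, (s.at_pole hβ (s.over_of_lt h)).2, s.ord_sub_other hne h]
    ring
  · rw [s.ord_sub_pow, (s.at_infinity h).2 α]
    ring_nf
  · have h1 : P.1 (algebraMap (RatFunc k) K RatFunc.X - algebraMap k K α) ≤ 1 :=
      (P.1.map_sub _ _).trans (max_le hX (by
        rcases eq_or_ne α 0 with rfl | hα0
        · simp
        · exact (val_algebraMap P hα0).le))
    have h2 : P.1 (algebraMap (RatFunc k) K RatFunc.X - algebraMap k K α) = 1 := le_antisymm h1 (hoff α hα)
    have h3 : P.ord (algebraMap (RatFunc k) K RatFunc.X - algebraMap k K α) = 0 := by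
      rw [val_eq_exp_neg_ord P (hu α), ← WithZero.exp_zero, WithZero.exp_inj] at h2
      omega
    rw [s.ord_sub_pow, h3, mul_zero, add_zero]
    exact (val_le_one_iff P hy0).mp (s.good_finite hoff)
end Groth.Agent.S19045
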