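import Groth.Statements.S19048
import Groth.Agent.DieuLib.GcMod
open W4c6eohyperellchar2 Groth.Agent.DieuLib

set_option autoImplicit false
universe u
open Dieu

namespace Groth.Agent.S19048

section
variable {c : ℕ} {k : Type u} [Field k]

theorem mem_Nfil_iff {i : ℕ} {v : GcMod c k} :
    v ∈ Nfil c k i ↔ (∀ n, 1 ≤ n → n ≤ c → i < n → coefY v n = 0) ∧
      (∀ n, 1 ≤ n → n ≤ c → n ≤ 2 * c - i → coefX v n = 0) := by
  refine ⟨fun h => ?_, fun h => ?_⟩
  · induction h using Submodule.span_induction with
    | mem w hw =>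
      rcases hw with ⟨n, hn, rfl⟩ | ⟨n, hn, rfl⟩
      · refine ⟨fun m _ _ hm => ?_, fun m _ _ _ => coefX_Y _ _⟩
        rw [coefY_Y, if_neg]
        rintro ⟨rfl, -⟩
        simp only [Set.mem_Icc] at hn
        omega
      · refine ⟨fun m _ _ _ => coefY_X _ _, fun m _ _ hm => ?_⟩
        rw [coefX_X, if_neg]
        rintro ⟨rfl, -⟩
        simp only [Set.mem_Ioc] at hn
        omega
    | zero => exact ⟨fun _ _ _ _ => by simp [coefY], fun _ _ _ _ => by simp [coefX]⟩
    | add x y _ _ hx hy =>
      exact ⟨fun n a b d => by rw [coefY_add, hx.1 n a b d, hy.1 n a b d, add_zero],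
        fun n a b d => by rw [coefX_add, hx.2 n a b d, hy.2 n a b d, add_zero]⟩
    | smul a x _ hx =>
      exact ⟨fun n a' b d => by rw [coefY_smul, hx.1 n a' b d, mul_zero],
        fun n a' b d => by rw [coefX_smul, hx.2 n a' b d, mul_zero]⟩
  · refine mem_of_basis _ v (fun n h1 h2 hne => ?_) (fun n h1 h2 hne => ?_)
    · refine Submodule.subset_span (Or.inr ⟨n, ⟨?_, h2⟩, rfl⟩)
      by_contra hlt
      exact hne (h.2 n h1 h2 (by omega))
    · refine Submodule.subset_span (Or.inl ⟨n, ⟨h1, ?_⟩, rfl⟩)
      by_contra hlt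
      exact hne (h.1 n h1 h2 (by omega))

theorem finrank_Nfil {i : ℕ} (hi : i ≤ 2 * c) : Module.finrank k (Nfil c k i) = i := by
  let f : (Fin (min i c) → k) × (Fin (i - c) → k) →ₗ[k] GcMod c k :=
    { toFun := fun p =>
        (fun j => if h : 2 * c - i ≤ j.val then p.2 ⟨j.val - (2 * c - i), by omega⟩ else 0,
         fun j => if h : j.val < min i c then p.1 ⟨j.val, h⟩ else 0)
      map_add' := fun p q => by ext j <;> simp <;> split_ifs <;> simp
      map_smul' := fun a p => by ext j <;> simp <;> split_ifs <;> simp }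
  have hinj : Function.Injective f := by
    rw [← LinearMap.ker_eq_bot, LinearMap.ker_eq_bot']
    intro p hp
    refine Prod.ext (funext fun t => ?_) (funext fun t => ?_)
    · have := congrFun (congrArg Prod.snd hp) ⟨t.val, by omega⟩
      simp [f] at this
      exact this (by omega)
    · have := congrFun (congrArg Prod.fst hp) ⟨t.val + (2 * c - i), by omega⟩
      simp [f] at this
      exact this (by omega)
  have hrange : LinearMap.range f = Nfil c k i := by
    refine le_antisymm ?_ ?_
    · rintro _ ⟨p, rfl⟩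
      rw [mem_Nfil_iff]
      refine ⟨fun n h1 h2 h3 => ?_, fun n h1 h2 h3 => ?_⟩
      · simp only [coefY, dif_pos (show 1 ≤ n ∧ n ≤ c from ⟨h1, h2⟩), f, LinearMap.coe_mk, AddHom.coe_mk]
        exact dif_neg (by omega)
      · simp only [coefX, dif_pos (show 1 ≤ n ∧ n ≤ c from ⟨h1, h2⟩), f, LinearMap.coe_mk, AddHom.coe_mk]
        exact dif_neg (by omega)
    · intro v hv
      rw [mem_Nfil_iff] at hv
      refine ⟨(fun t => v.2 ⟨t.val, by omega⟩, fun t => v.1 ⟨t.val + (2 * c - i), by omega⟩), ?_⟩
      refine Prod.ext (funext fun j => ?_) (funext fun j => ?_)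
      · simp only [f, LinearMap.coe_mk, AddHom.coe_mk]
        split_ifs with h
        · exact congrArg v.1 (Fin.ext (by simp; omega))
        · rw [← coefX_apply]; exact (hv.2 _ (by omega) j.2 (by omega)).symm
      · simp only [f, LinearMap.coe_mk, AddHom.coe_mk]
        split_ifs with h
        · rfl
        · rw [← coefY_apply]; exact (hv.1 _ (by omega) j.2 (by omega)).symm
  rw [← hrange, LinearMap.finrank_range_of_inj hinj, Module.finrank_prod, Module.finrank_fin_fun, Module.finrank_fin_fun]
  omega

variable [CharP k 2] [PerfectRing k 2]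

theorem coefY_NV (a : ℕ → k) (v : GcMod c k) {m : ℕ} (h1 : 1 ≤ m) (h2 : m ≤ c) :
    coefY (NV c k a v) m = (frobeniusEquiv k 2).symm (coefY v (2 * m)) +
      ∑ j : Fin c, if (j.val + 1) % 2 = 1 ∧ m + j.val / 2 ≤ c then
        (frobeniusEquiv k 2).symm (v.1 j * a (m + j.val / 2)) else 0 := by
  unfold NV
  rw [coefY, dif_pos ⟨h1, h2⟩]
  simp only [show m - 1 + 1 = m from by omega]

theorem NV_add (a : ℕ → k) (v w : GcMod c k) : NV c k a (v + w) = NV c k a v + NV c k a w := by
  refine Prod.ext (by simp [NV]) (funext fun i => ?_)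
  simp only [NV, Prod.snd_add, Pi.add_apply, coefY_add, Prod.fst_add, add_mul, map_add]
  rw [add_add_add_comm, ← Finset.sum_add_distrib]
  congr 1
  refine Finset.sum_congr rfl fun j _ => ?_
  split_ifs <;> simp

theorem NV_smul (a : ℕ → k) (r : k) (v : GcMod c k) : NV c k a (r • v) = (frobeniusEquiv k 2).symm r • NV c k a v := by
  refine Prod.ext (by simp [NV]) (funext fun i => ?_)
  simp only [NV, Prod.smul_snd, Prod.smul_fst, Pi.smul_apply, smul_eq_mul, coefY_smul, map_mul, mul_add, Finset.mul_sum]
  congr 1
  refine Finset.sum_congr rfl fun j _ => ?_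
  split_ifs <;> simp [mul_assoc]

/-- the image of a submodule under the semilinear map `NV` -/
noncomputable def imageNV (a : ℕ → k) (N : Submodule k (GcMod c k)) : Submodule k (GcMod c k) where
  carrier := NV c k a '' N
  add_mem' := by
    rintro _ _ ⟨v, hv, rfl⟩ ⟨w, hw, rfl⟩
    exact ⟨v + w, N.add_mem hv hw, NV_add a v w⟩
  zero_mem' := ⟨0, N.zero_mem, by
    have := NV_smul a 0 (0 : GcMod c k)
    rw [zero_smul, map_zero, zero_smul] at this
    exact this⟩
  smul_mem' := by
    rintro r _ ⟨v, hv, rfl⟩
    exact ⟨r ^ 2 • v, N.smul_mem _ hv, by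
      rw [NV_smul]
      congr 1
      exact (frobeniusEquiv k 2).symm_apply_eq.2 (frobeniusEquiv_def k 2 r).symm⟩

end


/-- Let `k` be a perfect field of characteristic `2`, `c` a natural number and `a_1, …, a_c ∈ k` with
`a_c ≠ 0`. On the `2c`-dimensional `k`-space with basis `λ_1, …, λ_c, σ_1, …, σ_c` let `F` be
Frobenius-semilinear with `F λ_j = 0`, `F σ_j = σ_{2j}` for `2j ≤ c`, `F σ_j = Σ_{i=j}^{c} a_i
λ_{2i-2j+1}` for `2j > c`, and `V` inverse-Frobenius-semilinear with `V λ_j = λ_{j/2}` (`j` even),
`0` (`j` odd), `V σ_j = 0` (`j` even), `V σ_j = Σ_{i=(j+1)/2}^{c} a_i^{1/2} λ_{i-(j-1)/2}` (`j` odd)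
— the shape of `F` and `V` on the block of the first de Rham cohomology of `y² − y = f(x)` belonging
to a branch point with invariant `d = 2c + 1`, `a_i` the coefficients of the odd polynomial `f_α`.
Put `N_i = ⟨λ_1, …, λ_i⟩` for `i ≤ c` and `N_i = ⟨λ_1, …, λ_c, σ_{2c-i+1}, …, σ_c⟩` for `c ≤ i ≤
2c`. Then for `0 ≤ i ≤ 2c`: `dim N_i = i`, `V(N_i) = N_{⌊i/2⌋}` and `F⁻¹(N_i) = N_{c+⌈i/2⌉}`; so
`(N_i)` is a final filtration with `dim V(N_i) = ⌊i/2⌋`. (The published statement adjoins the `σ_j`
starting from `σ_1`; then `V(N_{c+1})` contains `V σ_1`, whose `λ_c`-coefficient is a square root of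
`a_c ≠ 0`, so it is not `N_{⌊(c+1)/2⌋}` once `c ≥ 2`; adjoining them from `σ_c` downward, as here,
makes both identities hold.) -/
theorem result (c : ℕ) (k : Type u) [Field k] [CharP k 2] [PerfectRing k 2]
    (a : ℕ → k) (ha : a c ≠ 0) (i : ℕ) (hi : i ≤ 2 * c) :
    Module.finrank k (W4c6eohyperellchar2.Nfil c k i) = i ∧
      W4c6eohyperellchar2.NV c k a '' (W4c6eohyperellchar2.Nfil c k i : Set (W4c6eohyperellchar2.GcMod c k)) = (W4c6eohyperellchar2.Nfil c k (i / 2) : Set (W4c6eohyperellchar2.GcMod c k)) ∧
      W4c6eohyperellchar2.NF c k a ⁻¹' (W4c6eohyperellchar2.Nfil c k i : Set (W4c6eohyperellchar2.GcMod c k)) = (W4c6eohyperellchar2.Nfil c k (c + (i + 1) / 2) : Set (W4c6eohyperellchar2.GcMod c k)) := by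
  refine ⟨finrank_Nfil hi, ?_, ?_⟩
  · refine Set.Subset.antisymm ?_ ?_
    · rintro _ ⟨v, hv, rfl⟩
      rw [SetLike.mem_coe, mem_Nfil_iff] at hv ⊢
      refine ⟨fun m h1 h2 h3 => ?_, fun m h1 h2 h3 => ?_⟩
      · rw [coefY_NV a v h1 h2]
        have hy : coefY v (2 * m) = 0 := by
          by_cases h : 2 * m ≤ c
          · exact hv.1 _ (by omega) h (by omega)
          · exact coefY_eq_zero _ (by omega)
        rw [hy, map_zero, zero_add]
        refine Finset.sum_eq_zero fun j _ => ?_
        split_ifs with hj
        · rw [← coefX_apply v j, hv.2 _ (by omega) j.2 (by omega), zero_mul, map_zero]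
        · rfl
      · unfold coefX NV
        rw [dif_pos ⟨h1, h2⟩]
        rfl
    · have key : ∀ m, 1 ≤ m → m ≤ i / 2 → Y c k m ∈ imageNV a (Nfil c k i) := by
        intro m
        induction m using Nat.strong_induction_on with
        | _ m ih =>
          intro h1 h2
          by_cases hc : 2 * m ≤ c
          · refine ⟨Y c k (2 * m), mem_Nfil_iff.2 ⟨fun n _ _ hn => ?_, fun n _ _ _ => coefX_Y _ _⟩, ?_⟩
            · rw [coefY_Y, if_neg (by omega)]
            · refine ext_coef (fun n h1' h2' => ?_) (fun n h1' h2' => ?_)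
              · rw [coefX_Y]; unfold coefX NV; rw [dif_pos ⟨h1', h2'⟩]; rfl
              · rw [coefY_NV a _ h1' h2', coefY_Y, coefY_Y, Finset.sum_eq_zero, add_zero]
                · split_ifs <;> first | omega | simp
                · intro j _
                  split_ifs <;> simp [Y]
          · set j₀ := 2 * (c - m) + 1 with hj₀
            set u := NV c k a (X c k j₀) with hu
            have humem : u ∈ imageNV a (Nfil c k i) :=
              ⟨X c k j₀, mem_Nfil_iff.2 ⟨fun n _ _ _ => coefY_X _ _, fun n _ _ hn => by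
                rw [coefX_X, if_neg (by omega)]⟩, rfl⟩
            have hcoef : ∀ n, 1 ≤ n → n ≤ c → coefY u n =
                if n ≤ m then (frobeniusEquiv k 2).symm (a (n + (c - m))) else 0 := by
              intro n h1' h2'
              rw [hu, coefY_NV a _ h1' h2', coefY_X, map_zero, zero_add, Finset.sum_eq_single ⟨j₀ - 1, by omega⟩]
              · simp only [X]
                rw [if_pos (show j₀ - 1 + 1 = j₀ by omega), one_mul, show (j₀ - 1) / 2 = c - m by omega]
                split_ifs <;> first | rfl | omega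
              · intro j _ hj
                have : j.val + 1 ≠ j₀ := fun h => hj (Fin.ext (by simp; omega))
                simp [X, this]
              · simp
            set w := (frobeniusEquiv k 2).symm (a c) with hw
            have hw0 : w ≠ 0 := by rw [hw, ne_eq, map_eq_zero_iff _ (RingEquiv.injective _)]; exact ha
            have hrest : u - w • Y c k m ∈ imageNV a (Nfil c k i) := by
              refine mem_of_basis _ _ (fun n h1' h2' hne => ?_) (fun n h1' h2' hne => ?_)
              · exfalso; apply hne
                rw [sub_eq_add_neg, ← neg_smul, coefX_add, coefX_smul, coefX_Y, mul_zero, add_zero, hu]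
                unfold coefX NV; rw [dif_pos ⟨h1', h2'⟩]; rfl
              · rw [sub_eq_add_neg, ← neg_smul, coefY_add, coefY_smul, hcoef n h1' h2', coefY_Y] at hne
                rcases lt_trichotomy n m with h | h | h
                · exact ih n h h1' (by omega)
                · subst h
                  exfalso; apply hne
                  rw [if_pos le_rfl, if_pos ⟨rfl, h1', h2'⟩, show n + (c - n) = c by omega, ← hw, mul_one, add_neg_cancel]
                · exfalso; apply hne
                  rw [if_neg (by omega), if_neg (by omega), mul_zero, add_zero]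
            have := Submodule.smul_mem _ w⁻¹ (Submodule.sub_mem _ humem hrest)
            rwa [sub_sub_cancel, smul_smul, inv_mul_cancel₀ hw0, one_smul] at this
      intro v hv
      rw [SetLike.mem_coe, mem_Nfil_iff] at hv
      refine mem_of_basis (imageNV a (Nfil c k i)) v (fun n h1 h2 hne => absurd (hv.2 n h1 h2 (by omega)) hne)
        (fun n h1 h2 hne => key n h1 ?_)
      by_contra hlt
      exact hne (hv.1 n h1 h2 (by omega))
  · ext v
    simp only [Set.mem_preimage, SetLike.mem_coe, mem_Nfil_iff]
    have hNFX : ∀ n, 1 ≤ n → n ≤ c → coefX (NF c k a v) n = if n % 2 = 0 then coefX v (n / 2) ^ 2 else 0 := by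
      intro n h1 h2
      unfold NF
      rw [coefX, dif_pos ⟨h1, h2⟩]
      simp only [show n - 1 + 1 = n from by omega]
    have hNFY : ∀ n, 1 ≤ n → n ≤ c → coefY (NF c k a v) n = if n % 2 = 1 then
        ∑ j : Fin c, (if c < 2 * (j.val + 1) ∧ (j.val + 1) + (n - 1) / 2 ≤ c then
          v.1 j ^ 2 * a ((j.val + 1) + (n - 1) / 2) else 0) else 0 := by
      intro n h1 h2
      unfold NF
      rw [coefY, dif_pos ⟨h1, h2⟩]
      simp only [show n - 1 + 1 = n from by omega]
    constructor
    · rintro ⟨hY, hX⟩
      refine ⟨fun n h1 h2 h3 => absurd h3 (by omega), ?_⟩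
      intro l
      induction l using Nat.strong_induction_on with
      | _ l ih =>
        intro h1 h2 h3
        by_cases hc : 2 * l ≤ c
        · have := hX (2 * l) (by omega) hc (by omega)
          rw [hNFX _ (by omega) hc, if_pos (by omega), show 2 * l / 2 = l by omega] at this
          exact pow_eq_zero_iff two_ne_zero |>.1 this
        · have := hY (2 * (c - l) + 1) (by omega) (by omega) (by omega)
          rw [hNFY _ (by omega) (by omega), if_pos (by omega), Finset.sum_eq_single ⟨l - 1, by omega⟩] at this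
          · rw [if_pos (by simp; omega)] at this
            simp only [show (2 * (c - l) + 1 - 1) / 2 = c - l by omega, show l - 1 + 1 = l by omega,
              show l + (c - l) = c by omega, mul_eq_zero, ha, or_false, pow_eq_zero_iff two_ne_zero] at this
            rw [coefX, dif_pos ⟨h1, h2⟩]
            exact this
          · intro j _ hj
            split_ifs with h
            · have hne : j.val ≠ l - 1 := fun h' => hj (Fin.ext h')
              rw [← coefX_apply v j, ih (j.val + 1) (by omega) (by omega) j.2 (by omega), zero_pow two_ne_zero, zero_mul]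
            · rfl
          · simp
    · rintro ⟨-, hX⟩
      refine ⟨fun n h1 h2 h3 => ?_, fun n h1 h2 h3 => ?_⟩
      · rw [hNFY n h1 h2]
        split_ifs with hn
        · refine Finset.sum_eq_zero fun j _ => ?_
          split_ifs with h
          · rw [← coefX_apply v j, hX _ (by omega) j.2 (by omega), zero_pow two_ne_zero, zero_mul]
          · rfl
        · rfl
      · rw [hNFX n h1 h2]
        split_ifs with hn
        · rw [hX (n / 2) (by omega) (by omega) (by omega), zero_pow two_ne_zero]
        · rfl

end Groth.Agent.S19048
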