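import Groth.Statements.S1905
import Mathlib
import Groth.Agent.CycLib28.FlatRat

set_option autoImplicit false
universe u
open CategoryTheory AlgebraicGeometry
open Cyc

namespace Groth.Agent.S1905

/-- Let f : X → Y be a flat morphism, locally of finite type, of relative dimension r between integral
schemes, and g a nonzero rational function on Y, taken in the residue field at f(η_X) (the generic
point of Y). Then f^*(div_Y g) = div_X(g ∘ f) coefficientwise, where g ∘ f is the image of g in
κ(η_X). A pair (X, δ) with Cyc.IsSetup plays the role of a scheme locally of finite type over a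
fixed base with a dimension function (X locally Noetherian with universally catenary local rings, δ
a dimension function), and Cyc.DeltaCompat records that the dimension function upstairs is the
induced one. -/
theorem result (X Y : Scheme.{u}) [IsIntegral X] [IsIntegral Y] (δX : X → ℤ) (δY : Y → ℤ) (hX : Cyc.IsSetup X δX) (hY : Cyc.IsSetup Y δY) (f : X ⟶ Y) [Flat f] [LocallyOfFiniteType f] (r : ℕ) (hr : Cyc.HasRelDim f r) (hδ : Cyc.DeltaCompat f δX δY) (g : Y.residueField (f (genericPoint X))) (hg : g ≠ 0) : Cyc.pullFun f δX δY r (Cyc.divFun δY (f (genericPoint X)) g) = Cyc.divFun δX (genericPoint X) (f.residueFieldMap (genericPoint X) g) := by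
  have := hY.1
  have : IsLocallyNoetherian X := LocallyOfFiniteType.isLocallyNoetherian f
  have hc := fun x hx => Groth.Agent.CycLib28.delta_of_hasRelDim f hr hδ x hx
  funext x
  rw [Groth.Agent.CycLib28.pullFun_divFun f hX.2.2 hY.2.2 r hc _ g hg x]
  have huniq : ∀ ξ : {ξ : X // Groth.Agent.CycLim28.GenInFibre f ξ ∧ f ξ = f (genericPoint X)}, ξ.1 = genericPoint X :=
    fun ξ ↦ (ξ.2.1 _ ξ.2.2.symm (genericPoint_specializes _)).symm
  have hg0 : Groth.Agent.CycLim28.GenInFibre f (genericPoint X) := fun w _ hw ↦
    (hw.antisymm (genericPoint_specializes w)).eq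
  let ξ₀ : {ξ : X // Groth.Agent.CycLim28.GenInFibre f ξ ∧ f ξ = f (genericPoint X)} := ⟨genericPoint X, hg0, rfl⟩
  rw [finsum_eq_single _ ξ₀ (fun ξ h ↦ absurd (Subtype.ext (huniq ξ)) h)]
  have hl : Groth.Agent.CycLib28.lenFibre f (genericPoint X) = 1 := by
    refine le_antisymm ?_ ?_
    · refine (Module.length_le_of_surjective (R := X.presheaf.stalk (genericPoint X))
        (Submodule.mkQ _) (Submodule.mkQ_surjective _)).trans ?_
      have : IsSimpleModule (X.presheaf.stalk (genericPoint X)) (X.presheaf.stalk (genericPoint X)) :=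
        inferInstanceAs (IsSimpleModule X.functionField X.functionField)
      exact (Module.length_eq_one _ _).le
    · have := Groth.Agent.CycLim28.length_fibre f hg0
      rw [Order.one_le_iff_pos, pos_iff_ne_zero]
      exact fun h0 ↦ this (by change (Groth.Agent.CycLib28.lenFibre f (genericPoint X)).toNat = 0; rw [h0]; rfl)
  change ((Groth.Agent.CycLib28.lenFibre f (genericPoint X)).toNat : ℤ) * _ = _
  rw [hl]
  simp [ξ₀]
end Groth.Agent.S1905
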