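import Groth.Statements.S19051
import Groth.Agent.Mod22.IdealEnd
-- import your own Groth.Agent.* helpers here

set_option autoImplicit false
open CategoryTheory CategoryTheory.Limits AlgebraicGeometry
universe u
open NonPure
open Groth.Agent

namespace Groth.Agent.S19051

/-- Let K be a field and X an integral K-scheme, smooth, proper and geometrically irreducible over K, of
dimension at least 2, with an invertible ample O_X-module L (the polarisation for Hilbert
polynomials) and an integer ℓ ≥ 1. Let A_j (j ∈ J) be sets of closed subschemes of X (quasi-coherent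
ideal sheaves), each member integral and different from X. Assume condition (†)(1) over K — every
nonzero morphism I_{W'} → I_W between the ideal sheaves (as O_X-modules) of members W ∈ A_j, W' ∈
A_{j'} is an isomorphism — and condition (†)(2) over K: for W ∈ A_j, Y ∈ A_{j'} and every coherent
torsion-free O_Y-module G of generic rank one whose Hilbert polynomial is P_{O_Y} − ℓ, every
morphism I_W → i_*G vanishes (I_W the ideal sheaf of W as an O_X-module, i : Y → X the inclusion).
Let F be a sheaf of torsion type: a short exact sequence 0 → i_*G → F → I_W → 0 with W and Y in the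
same A_j and G a coherent torsion-free O_Y-module of generic rank one with Hilbert polynomial
P_{O_Y} − ℓ. If for some W' ∈ A_{j'} there is a nonzero morphism I_{W'} → F, then: the sequence
splits; I_W ≅ I_{W'} (existence of an isomorphism); Hom(I_W, F) is a one-dimensional K-vector space;
and every morphism I_{W'} → F factors through any splitting I_W → F. (In the published statement X
is the base change to K of a fixed smooth projective geometrically connected variety and the A_j are
the K-points of the connected components α_j of a fixed open and closed α ⊆ Hilb(X) whose points are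
geometrically integral and geometrically normal or divisors, with (†) asked over every field
extension; the row keeps exactly what the printed argument uses over K, and makes explicit that
members of α are proper closed subschemes.) -/
theorem result
    (K : Type u) [Field K] (X : Scheme.{u}) [X.Over (Spec (CommRingCat.of K))]
    [IsIntegral X] [Smooth (X ↘ Spec (CommRingCat.of K))] [IsProper (X ↘ Spec (CommRingCat.of K))]
    [GeometricallyIrreducible (X ↘ Spec (CommRingCat.of K))]
    (hdim : 2 ≤ topologicalKrullDim X)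
    (L : X.Modules) (hLi : PicF.IsInvertible L) (hLa : CohB1.IsAmple L)
    (ℓ : ℕ) (hℓ : 0 < ℓ)
    (J : Type u) (A : J → Set X.IdealSheafData)
    (hA : ∀ j, ∀ W ∈ A j, IsIntegral W.subscheme ∧ W ≠ ⊥)
    (dag1 : ∀ j j', ∀ W ∈ A j, ∀ W' ∈ A j', ∀ φ : ClSub.idealMod W' ⟶ ClSub.idealMod W,
      φ ≠ 0 → IsIso φ)
    (dag2 : ∀ j j', ∀ W ∈ A j, ∀ Y ∈ A j', ∀ (hY : IsIntegral Y.subscheme) (G : Y.subscheme.Modules),
      Coh.IsCoh G → TorSh.IsTorsionFree G →
      (haveI := hY
       Module.finrank (Y.subscheme.presheaf.stalk (genericPoint Y.subscheme))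
        (G.presheaf.stalk (genericPoint Y.subscheme)) = 1) →
      (letI : Y.subscheme.Over (Spec (CommRingCat.of K)) := ⟨Y.subschemeι ≫ (X ↘ Spec (CommRingCat.of K))⟩
       ∃ P : Polynomial ℚ,
        ShStab.IsHilbPoly K Y.subscheme ((Scheme.Modules.pullback Y.subschemeι).obj L)
          (Coh.structureModule Y.subscheme) P ∧
        ShStab.IsHilbPoly K Y.subscheme ((Scheme.Modules.pullback Y.subschemeι).obj L) G
          (P - Polynomial.C (ℓ : ℚ))) →
      ∀ φ : ClSub.idealMod W ⟶ (Coh.push Y.subschemeι).obj G, φ = 0)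
    (j : J) (W : X.IdealSheafData) (hW : W ∈ A j) (Y : X.IdealSheafData) (hYA : Y ∈ A j)
    [IsIntegral Y.subscheme] (G : Y.subscheme.Modules) (hGc : Coh.IsCoh G) (hGt : TorSh.IsTorsionFree G)
    (hGr : Module.finrank (Y.subscheme.presheaf.stalk (genericPoint Y.subscheme))
        (G.presheaf.stalk (genericPoint Y.subscheme)) = 1)
    (hGP : letI : Y.subscheme.Over (Spec (CommRingCat.of K)) := ⟨Y.subschemeι ≫ (X ↘ Spec (CommRingCat.of K))⟩
       ∃ P : Polynomial ℚ,
        ShStab.IsHilbPoly K Y.subscheme ((Scheme.Modules.pullback Y.subschemeι).obj L)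
          (Coh.structureModule Y.subscheme) P ∧
        ShStab.IsHilbPoly K Y.subscheme ((Scheme.Modules.pullback Y.subschemeι).obj L) G
          (P - Polynomial.C (ℓ : ℚ)))
    (F : X.Modules) (a : (Coh.push Y.subschemeι).obj G ⟶ F) (q : F ⟶ ClSub.idealMod W)
    (w : a ≫ q = 0) (hex : (ShortComplex.mk a q w).ShortExact)
    (j' : J) (W' : X.IdealSheafData) (hW' : W' ∈ A j')
    (hne : ∃ φ : ClSub.idealMod W' ⟶ F, φ ≠ 0) :
    (∃ σ : ClSub.idealMod W ⟶ F, σ ≫ q = 𝟙 _) ∧
    Nonempty (ClSub.idealMod W ≅ ClSub.idealMod W') ∧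
    Module.Finite K (ClSub.idealMod W ⟶ F) ∧ Module.finrank K (ClSub.idealMod W ⟶ F) = 1 ∧
    (∀ σ : ClSub.idealMod W ⟶ F, σ ≫ q = 𝟙 _ →
      ∀ f : ClSub.idealMod W' ⟶ F, ∃ g : ClSub.idealMod W' ⟶ ClSub.idealMod W, f = g ≫ σ) := by
  have hzero : ∀ (i : J) (V : X.IdealSheafData), V ∈ A i → ∀ φ : ClSub.idealMod V ⟶ (Coh.push Y.subschemeι).obj G,
      φ = 0 := fun i V hV => dag2 i j V hV Y hYA inferInstance G hGc hGt hGr hGP
  haveI := hex.mono_f
  have hfac : ∀ (V : X.IdealSheafData) (f : ClSub.idealMod V ⟶ F), (∃ i, V ∈ A i) → f ≫ q = 0 → f = 0 :=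
    fun V f ⟨i, hV⟩ h => by
      obtain ⟨l, hl⟩ := KernelFork.IsLimit.lift' hex.fIsKernel f h
      rw [← hl, hzero i V hV l, Limits.zero_comp]
  obtain ⟨φ, hφ⟩ := hne
  have hg : φ ≫ q ≠ 0 := fun h => hφ (hfac W' φ ⟨j', hW'⟩ h)
  haveI := dag1 j j' W hW W' hW' (φ ≫ q) hg
  let σ := inv (φ ≫ q) ≫ φ
  have hσ : σ ≫ q = 𝟙 _ := by rw [Category.assoc, IsIso.inv_hom_id]
  obtain ⟨hfin, hrank⟩ := Mod22.IdealEnd.finrank_end K (hA j W hW).2
  let T : (ClSub.idealMod W ⟶ F) →ₗ[K] (ClSub.idealMod W ⟶ ClSub.idealMod W) := Linear.rightComp K _ q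
  have hTi : Function.Injective T := (injective_iff_map_eq_zero T).2 fun f hf => hfac W f ⟨j, hW⟩ hf
  have hTs : Function.Surjective T := fun f => ⟨f ≫ σ, by
    show (f ≫ σ) ≫ q = f
    rw [Category.assoc, hσ, Category.comp_id]⟩
  let e := LinearEquiv.ofBijective T ⟨hTi, hTs⟩
  haveI := hfin
  refine ⟨⟨σ, hσ⟩, ⟨(asIso (φ ≫ q)).symm⟩, Module.Finite.equiv e.symm, e.finrank_eq.trans hrank, fun τ hτ f => ⟨f ≫ q, ?_⟩⟩
  refine sub_eq_zero.1 (hfac W' _ ⟨j', hW'⟩ ?_)
  rw [Preadditive.sub_comp, Category.assoc, hτ, Category.comp_id, sub_self]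

end Groth.Agent.S19051
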