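import Groth.Statements.S19052
import Groth.Agent.Mod22.IdealEnd
import Groth.Agent.EulerLib.FGABridge

-- import your own Groth.Agent.* helpers here

set_option autoImplicit false
open CategoryTheory CategoryTheory.Limits AlgebraicGeometry
universe u
open NonPure

set_option linter.style.haveILetI false
set_option linter.unusedSectionVars false
set_option backward.isDefEq.respectTransparency.types false
set_option maxHeartbeats 1000000

namespace Groth.Agent.S19052

open Groth.Agent Groth.Agent.Coherent Groth.Agent.PicLib Groth.Agent.AmpleLib Groth.Agent.EulerLib Groth.Agent.DimLib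
open Opposite TopologicalSpace Polynomial

/-- A finite subscheme of degree `ℓ` has constant Hilbert polynomial. -/
theorem isHilbPoly_of_deg {X : Scheme.{u}} (k : Type u) [Field k] [X.Over (Spec (CommRingCat.of k))]
    [IsProper (X ↘ Spec (CommRingCat.of k))] {L : X.Modules} (hL : PicF.IsInvertible L) (Z : X.IdealSheafData) (ℓ : ℕ)
    (hZ : Mor2.IsFinLocFreeOfDeg ℓ (Z.subschemeι ≫ (X ↘ Spec (CommRingCat.of k)))) :
    ShStab.IsHilbPoly k X L (ClSub.quotMod Z) (Polynomial.C (ℓ : ℚ)) := by
  haveI := isNoetherian_of_proper (k := k) (X := X)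
  have hQ : Coh.IsCoh (ClSub.quotMod Z) := CurveRR24.isCoh_quotMod Z
  let f := Z.subschemeι ≫ (X ↘ Spec (CommRingCat.of k))
  haveI : IsFinite f := hZ.1.1
  have hsfin : (Z.support : Set X).Finite := by
    rw [← Z.range_subschemeι, ← Set.image_univ]
    exact Set.Finite.image _ ((f.finite_preimage_singleton (IsLocalRing.closedPoint k)).subset
      fun x _ => Subsingleton.elim _ _)
  have hd : topologicalKrullDim (CohB1.support (ClSub.quotMod Z)) ≤ 0 := by
    haveI : Finite Z.subscheme := Set.finite_univ_iff.1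
      ((f.finite_preimage_singleton (IsLocalRing.closedPoint k)).subset fun x _ => Subsingleton.elim _ _)
    haveI := DimLib.discreteTopology_of_finite f
    rw [Mod22.PointsIdeal.support_quotMod, ← Z.range_subschemeι]
    exact (Z.subschemeι.isEmbedding.toHomeomorph.isHomeomorph.topologicalKrullDim_eq _).symm.le.trans
      (topologicalKrullDim_zero_of_discreteTopology _)
  have hdeg : ClDeg 1 (chiCl k (ClSub.quotMod Z)) :=
    finDeg_chiCl k hQ (hd.trans_lt (by exact_mod_cast (show 0 < 1 by omega)))
  intro m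
  rw [euler_twist_eq k hL, Polynomial.eval_C]
  have h0 : chiCl k (ClSub.quotMod Z) (InvCl.mk L hL ^ m * 1) - chiCl k (ClSub.quotMod Z) 1 = 0 :=
    congrFun (show _ = 0 from hdeg.diff (InvCl.mk L hL ^ m)) (Additive.ofMul 1)
  rw [mul_one, sub_eq_zero] at h0
  rw [h0, chiCl_one, IntCM8.euler_eq_h0 k hQ (by rw [Mod22.PointsIdeal.support_quotMod]; exact hsfin),
    (CurveRR24.hhZero k _).finrank_eq]
  haveI : Flat f := hZ.1.2.1
  haveI : IsAffine Z.subscheme := isAffine_of_isAffineHom f
  letI := BddFib.secAlgebra (CommRingCat.of k) f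
  have hfinA : Module.Finite k Γ(Z.subscheme, ⊤) := by
    have := f.finite_appTop
    rw [← RingHom.finite_respectsIso.cancel_left_isIso (Scheme.ΓSpecIso (CommRingCat.of k)).inv,
      ← CommRingCat.hom_comp] at this
    exact RingHom.finite_algebraMap.1 this
  let e : GA (baseHom k X) (ClSub.quotMod Z) ≃ₗ[k] Γ(Z.subscheme, ⊤) :=
    { toFun := fun s => (s : Γ(ClSub.quotMod Z, ⊤))
      invFun := fun s => (s : Γ(ClSub.quotMod Z, ⊤))
      map_add' := fun _ _ => rfl
      map_smul' := fun c s => by
        show _ = algebraMap k Γ(Z.subscheme, ⊤) c * _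
        rfl
      left_inv := fun _ => rfl
      right_inv := fun _ => rfl }
  have h := hZ.2 (IsLocalRing.closedPoint k)
  rw [BddFibLib29.finrank_eq_of_affine k f hfinA] at h
  rw [e.finrank_eq, h]
  norm_cast

/-- Let K be a field and X an integral K-scheme, smooth, proper and geometrically irreducible over K, of
dimension at least 2, with an invertible ample O_X-module L (the polarisation for Hilbert
polynomials) and an integer ℓ ≥ 1. Let A_j (j ∈ J) be sets of closed subschemes of X (quasi-coherent
ideal sheaves), each member integral and different from X. Assume that each A_j contains every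
closed subscheme whose ideal sheaf is isomorphic, as an O_X-module, to the ideal sheaf of a member
of A_j, and condition (†)(2) over K: for W ∈ A_j, Y ∈ A_{j'} and every coherent torsion-free
O_Y-module G of generic rank one whose Hilbert polynomial is P_{O_Y} − ℓ, every morphism I_W → i_*G
vanishes (I_W the ideal sheaf of W as an O_X-module, i : Y → X the inclusion). Let Z ⊆ X be a closed
subscheme finite locally free of degree ℓ over K, so that F = I_Z is a sheaf of ideal type. Then for
every W ∈ A_j the K-vector space Hom(I_W, I_Z) is finite-dimensional of dimension at most one. (In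
the published statement X is the base change to K of a fixed smooth projective geometrically
connected variety and the A_j are the K-points of the connected components α_j of a fixed open and
closed α ⊆ Hilb(X) whose points are geometrically integral and geometrically normal or divisors,
with (†) asked over every field extension; the row keeps exactly what the printed argument uses over
K, and makes explicit that members of α are proper closed subschemes.) -/
theorem result
    (K : Type u) [Field K] (X : Scheme.{u}) [X.Over (Spec (CommRingCat.of K))]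
    [IsIntegral X] [Smooth (X ↘ Spec (CommRingCat.of K))] [IsProper (X ↘ Spec (CommRingCat.of K))]
    [GeometricallyIrreducible (X ↘ Spec (CommRingCat.of K))]
    (hdim : 2 ≤ topologicalKrullDim X)
    (L : X.Modules) (hLi : PicF.IsInvertible L) (hLa : CohB1.IsAmple L)
    (ℓ : ℕ) (hℓ : 0 < ℓ)
    (J : Type u) (A : J → Set X.IdealSheafData)
    (hA : ∀ j, ∀ W ∈ A j, IsIntegral W.subscheme ∧ W ≠ ⊥)
    (hAiso : ∀ j, ∀ W ∈ A j, ∀ W'' : X.IdealSheafData,
      Nonempty (ClSub.idealMod W'' ≅ ClSub.idealMod W) → W'' ∈ A j)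
    (dag2 : ∀ j j', ∀ W ∈ A j, ∀ Y ∈ A j', ∀ (hY : IsIntegral Y.subscheme) (G : Y.subscheme.Modules),
      Coh.IsCoh G → TorSh.IsTorsionFree G →
      (haveI := hY
       Module.finrank (Y.subscheme.presheaf.stalk (genericPoint Y.subscheme))
        (G.presheaf.stalk (genericPoint Y.subscheme)) = 1) →
      (letI : Y.subscheme.Over (Spec (CommRingCat.of K)) := ⟨Y.subschemeι ≫ (X ↘ Spec (CommRingCat.of K))⟩
       ∃ P : Polynomial ℚ,
        ShStab.IsHilbPoly K Y.subscheme ((Scheme.Modules.pullback Y.subschemeι).obj L)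
          (Coh.structureModule Y.subscheme) P ∧
        ShStab.IsHilbPoly K Y.subscheme ((Scheme.Modules.pullback Y.subschemeι).obj L) G
          (P - Polynomial.C (ℓ : ℚ))) →
      ∀ φ : ClSub.idealMod W ⟶ (Coh.push Y.subschemeι).obj G, φ = 0)
    (Z : X.IdealSheafData) (hZ : Mor2.IsFinLocFreeOfDeg ℓ (Z.subschemeι ≫ (X ↘ Spec (CommRingCat.of K))))
    (j : J) (W : X.IdealSheafData) (hW : W ∈ A j) :
    Module.Finite K (ClSub.idealMod W ⟶ ClSub.idealMod Z) ∧
      Module.finrank K (ClSub.idealMod W ⟶ ClSub.idealMod Z) ≤ 1 := by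
  haveI := isNoetherian_of_proper (k := K) (X := X)
  let ιZ := ClSub.idealModι Z
  haveI : Mono ιZ := AmpleLib.mono_idealModι Z
  by_cases hex : ∃ φ : ClSub.idealMod W ⟶ ClSub.idealMod Z, φ ≠ 0
  swap
  · push Not at hex
    haveI : Subsingleton (ClSub.idealMod W ⟶ ClSub.idealMod Z) := ⟨fun a b => (hex a).trans (hex b).symm⟩
    exact ⟨Module.Finite.of_finite, (Module.finrank_zero_of_subsingleton).le.trans zero_le_one⟩
  obtain ⟨φ₁, hφ₁⟩ := hex
  have hO := Coherent.isCoh_structureModule X
  have hOr : ∀ x : X, RefHull.IsReflexiveAt (Coh.structureModule X) x := fun x =>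
    RefHullLib.isReflexiveAt_of_gen (SDiv28.unitStalkEquiv x).bijective
  let η := genericPoint X
  let _ : Field (X.presheaf.stalk η) := inferInstanceAs (Field X.functionField)
  have hWc : Coh.IsCoh (ClSub.idealMod W) := CurveRR24.isCoh_idealMod' W
  have hWt : TorSh.IsTorsionFree (ClSub.idealMod W) :=
    haveI := AmpleLib.mono_idealModι W
    Surf15.isTorsionFree_of_mono (ClSub.idealModι W)
      (Mod22.RankOneSlope.isTorsionFree_of_invertible AmpleLib.isInvertible_structureModule)
  let p := φ₁ ≫ ιZ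
  have hWη : Function.Bijective (RefHull.stalkMapₗ (ClSub.idealModι W) η) :=
    ⟨(haveI := AmpleLib.mono_idealModι W
      (ModuleCat.mono_iff_injective ((DerSch.stalkFunctor X η).map (ClSub.idealModι W))).1 inferInstance),
      Mod22.PointsIdeal.surjective_idealModι_stalk (Mod22.IdealEnd.genericPoint_notMem_support (hA j W hW).2)⟩
  haveI : Mono p := by
    have hinj : Function.Injective (RefHull.stalkMapₗ p η) := by
      let e := (LinearEquiv.ofBijective _ hWη).trans (SDiv28.unitStalkEquiv η).symm
      refine (injective_iff_map_eq_zero _).2 fun v hv => ?_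
      by_contra hv0
      refine hφ₁ ((cancel_mono ιZ).1 ?_)
      rw [Limits.zero_comp]
      refine RefHullLib.hom_ext_genericPoint hO hOr (LinearMap.ext fun w => ?_)
      have hw : w = (e w * (e v)⁻¹) • v := e.injective (by
        rw [map_smul, smul_eq_mul, mul_assoc, inv_mul_cancel₀ (fun h => hv0 (e.map_eq_zero_iff.1 h)), mul_one])
      refine Eq.trans ?_ (stalk_zero_apply w).symm
      rw [hw, map_smul, hv, smul_zero]
      rfl
    refine Preadditive.mono_of_isZero_kernel _ (Mod22.RankOneSlope.isZero_of_torsionFree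
      (isCoh_kernel p hWc hO.1).1 (Surf15.isTorsionFree_of_mono (kernel.ι p) hWt)
      fun h => h (subsingleton_of_forall_eq 0 fun x => ?_))
    have h0 : RefHull.stalkMapₗ p η (RefHull.stalkMapₗ (kernel.ι p) η x) = 0 := by
      rw [← Mod22.RankOneHull.stalkMapₗ_comp, kernel.condition]
      exact stalk_zero_apply _
    exact (ModuleCat.mono_iff_injective ((DerSch.stalkFunctor X η).map (kernel.ι p))).1 inferInstance
      ((hinj (h0.trans (map_zero _).symm)).trans (map_zero _).symm)
  haveI : Coh.IsQCoh (ClSub.idealMod W) := hWc.1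
  obtain ⟨Y, α, hα⟩ := Mod22.PointsIdeal.exists_idealMod_of_mono' p
  have hYA : Y ∈ A j := hAiso j W hW Y ⟨α.symm⟩
  haveI : IsIntegral Y.subscheme := (hA j Y hYA).1
  have hmem : ∀ (I : X.IdealSheafData) (U : X.affineOpens) (f : Γ(X, U.1)), f ∈ I.ideal U ↔
      ∃ c : Γ(ClSub.idealMod I, U.1), (ClSub.idealModι I).app U.1 c = f := fun I U f => by
    rw [← I.ker_subschemeι_app U, RingHom.mem_ker]
    exact (AmpleLib.mem_range_idealModι I U.1 f).symm
  have hYZ : Y ≤ Z := fun U f hf => by
    obtain ⟨c, hc⟩ := (hmem Y U f).1 hf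
    refine (hmem Z U f).2 ⟨φ₁.app U.1 (α.inv.app U.1 c), Eq.trans ?_ hc⟩
    have : α.inv ≫ φ₁ ≫ ιZ = ClSub.idealModι Y := by rw [Iso.inv_comp_eq, hα]
    exact congr(($this).app U.1 c)
  suffices hvan : ∀ φ : ClSub.idealMod W ⟶ ClSub.idealMod Z, (φ ≫ ιZ) ≫ ClSub.toSubscheme Y = 0 by
    have hspan : ∀ φ : ClSub.idealMod W ⟶ ClSub.idealMod Z, ∃ c : K, c • φ₁ = φ := fun φ => by
      let θ : ClSub.idealMod W ⟶ ClSub.idealMod Y := kernel.lift _ (φ ≫ ιZ) (hvan φ)
      have hθ : θ ≫ ClSub.idealModι Y = φ ≫ ιZ := kernel.lift_ι _ _ _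
      obtain ⟨c, hc⟩ := Mod22.IdealEnd.exists_scalar K (hA j W hW).2 (θ ≫ α.inv)
      refine ⟨c, (cancel_mono ιZ).1 ?_⟩
      rw [← hθ, (Iso.comp_inv_eq α).1 hc, Category.assoc, hα, Linear.smul_comp, Linear.smul_comp, Category.id_comp]
    refine ⟨Module.Finite.of_surjective (LinearMap.toSpanSingleton K _ φ₁) hspan, finrank_le_one φ₁ hspan⟩
  intro φ
  let iY := Y.subschemeι
  let Z' := Z.comap iY
  letI : Y.subscheme.Over (Spec (CommRingCat.of K)) := ⟨iY ≫ (X ↘ Spec (CommRingCat.of K))⟩
  haveI : IsProper (Y.subscheme ↘ Spec (CommRingCat.of K)) :=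
    inferInstanceAs (IsProper (iY ≫ (X ↘ Spec (CommRingCat.of K))))
  haveI := isNoetherian_of_proper (k := K) (X := Y.subscheme)
  have hψ : ∀ (U : X.Opens) (c : Γ(ClSub.idealMod W, U)),
      Z.subschemeι.app U (show Γ(X, U) from (φ ≫ ιZ).app U c) = 0 := fun U c =>
    (AmpleLib.mem_range_idealModι Z U _).1 ⟨φ.app U c, rfl⟩
  by_cases hη : genericPoint Y.subscheme ∈ Z'.support
  · have hbot : Z' = ⊥ := by
      by_contra h
      exact Mod22.IdealEnd.genericPoint_notMem_support h hη
    have hle : Z ≤ Y := by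
      refine le_trans (Scheme.IdealSheafData.le_map_iff_comap_le.2 hbot.le) (le_of_eq ?_)
      rw [Scheme.IdealSheafData.map_bot, Scheme.IdealSheafData.ker_subschemeι]
    refine InjMod14.Kosz.hom_ext_affine _ _ fun U c => ?_
    have hf : (show Γ(X, U.1) from (φ ≫ ιZ).app U.1 c) ∈ Y.ideal U :=
      hle U ((hmem Z U _).2 ⟨φ.app U.1 c, rfl⟩)
    rw [← Y.ker_subschemeι_app U, RingHom.mem_ker] at hf
    exact hf
  · let a : Z'.subscheme ⟶ Z.subscheme := IsClosedImmersion.lift Z.subschemeι (Z'.subschemeι ≫ iY) (by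
      rw [Scheme.IdealSheafData.ker_subschemeι]
      exact Scheme.IdealSheafData.le_map_comap Z iY)
    have ha : a ≫ Z.subschemeι = Z'.subschemeι ≫ iY := IsClosedImmersion.lift_fac _ _ _
    let b₀ : Z.subscheme ⟶ Y.subscheme := IsClosedImmersion.lift iY Z.subschemeι (by
      rw [Scheme.IdealSheafData.ker_subschemeι, Scheme.IdealSheafData.ker_subschemeι]; exact hYZ)
    have hb₀ : b₀ ≫ iY = Z.subschemeι := IsClosedImmersion.lift_fac _ _ _
    let b : Z.subscheme ⟶ Z'.subscheme := IsClosedImmersion.lift Z'.subschemeι b₀ (by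
      rw [Scheme.IdealSheafData.ker_subschemeι]
      refine Scheme.IdealSheafData.le_map_iff_comap_le.1 (le_of_eq ?_)
      rw [Scheme.IdealSheafData.map_ker, hb₀, Scheme.IdealSheafData.ker_subschemeι])
    have hb : b ≫ Z'.subschemeι = b₀ := IsClosedImmersion.lift_fac _ _ _
    haveI : IsIso a := ⟨b, by
      rw [← cancel_mono Z'.subschemeι, ← cancel_mono iY, Category.assoc, Category.assoc, reassoc_of% hb, hb₀, ha,
        Category.id_comp], by
      rw [← cancel_mono Z.subschemeι, Category.assoc, ha, reassoc_of% hb, hb₀, Category.id_comp]⟩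
    have hZ' : Mor2.IsFinLocFreeOfDeg ℓ (Z'.subschemeι ≫ (Y.subscheme ↘ Spec (CommRingCat.of K))) := by
      have he : Z'.subschemeι ≫ (Y.subscheme ↘ Spec (CommRingCat.of K)) =
          a ≫ Z.subschemeι ≫ (X ↘ Spec (CommRingCat.of K)) := by
        rw [reassoc_of% ha]; rfl
      obtain ⟨⟨h1, h2, h3⟩, h4⟩ := hZ
      haveI := h1; haveI := h2; haveI := h3
      rw [he]
      refine ⟨⟨inferInstance, inferInstance, inferInstance⟩, fun y => ?_⟩
      rw [Scheme.Hom.finrank_comp_left_of_isIso]
      exact h4 y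
    let G := ClSub.idealMod Z'
    have hGc : Coh.IsCoh G := CurveRR24.isCoh_idealMod' Z'
    haveI := AmpleLib.mono_idealModι Z'
    have hGt : TorSh.IsTorsionFree G := Surf15.isTorsionFree_of_mono (ClSub.idealModι Z')
      (Mod22.RankOneSlope.isTorsionFree_of_invertible AmpleLib.isInvertible_structureModule)
    let ηY := genericPoint Y.subscheme
    have hGr : Module.finrank (Y.subscheme.presheaf.stalk ηY) (G.presheaf.stalk ηY) = 1 :=
      ((LinearEquiv.ofBijective (RefHull.stalkMapₗ (ClSub.idealModι Z') ηY)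
        ⟨(ModuleCat.mono_iff_injective ((DerSch.stalkFunctor Y.subscheme ηY).map (ClSub.idealModι Z'))).1 inferInstance,
          Mod22.PointsIdeal.surjective_idealModι_stalk hη⟩).trans (SDiv28.unitStalkEquiv ηY).symm).finrank_eq.trans
        (Module.finrank_self _)
    have hL' : PicF.IsInvertible ((Scheme.Modules.pullback iY).obj L) := PicLoc.isInvertible_pullback _ hLi
    have hOY := Coherent.isCoh_structureModule Y.subscheme
    obtain ⟨r, hr⟩ := exists_dim_le K (CohB1.support (Coh.structureModule Y.subscheme))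
    obtain ⟨r', hr'⟩ := exists_dim_le K (CohB1.support G)
    obtain ⟨P, hP⟩ := exists_isHilbPoly K hL' hOY hr
    obtain ⟨PG, hPG⟩ := exists_isHilbPoly K hL' hGc hr'
    have hPQ := isHilbPoly_of_deg K hL' Z' ℓ hZ'
    have hsum : P = PG + Polynomial.C (ℓ : ℚ) := isHilbPoly_unique K hP
      (isHilbPoly_add K hL' (CurveRR24.shortExact_ideal Z') hGc hOY (CurveRR24.isCoh_quotMod Z') hPG hPQ)
    rw [show PG = P - Polynomial.C (ℓ : ℚ) by rw [hsum]; ring] at hPG
    have hlim := isLimitOfHasKernelOfPreservesLimit (Coh.push iY) (ClSub.toSubscheme Z')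
    have hc : ((φ ≫ ιZ) ≫ ClSub.toSubscheme Y) ≫ (Coh.push iY).map (ClSub.toSubscheme Z') = 0 := by
      refine Scheme.Modules.hom_ext _ _ fun U => ConcreteCategory.hom_ext _ _ fun c => ?_
      have hcomp : ∀ f : Γ(X, U), Z'.subschemeι.app _ (iY.app U f) = (Z'.subschemeι ≫ iY).app U f := fun f => rfl
      show Z'.subschemeι.app _ (iY.app U (show Γ(X, U) from (φ ≫ ιZ).app U c)) = 0
      rw [hcomp, Scheme.Hom.congr_app ha.symm U, Scheme.Hom.comp_app]
      have key : ∀ {R S T U' : CommRingCat.{u}} (f : R ⟶ S) (g : S ⟶ T) (h : T ⟶ U') (x : R),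
          f x = 0 → h ((f ≫ g) x) = 0 := fun f g h x hx => by
        rw [CommRingCat.comp_apply, hx, map_zero, map_zero]
      exact key _ _ _ _ (hψ U c)
    obtain ⟨l, hl⟩ := KernelFork.IsLimit.lift' hlim _ hc
    rw [dag2 j j W hW Y hYA inferInstance G hGc hGt hGr ⟨P, hP, hPG⟩ l] at hl
    exact hl.symm.trans Limits.zero_comp

end Groth.Agent.S19052
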