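import Groth.Statements.S19053
import Groth.Agent.Mod22.PointsIdeal
import Groth.Agent.CurveRR24.VeryAmple
import Groth.Agent.CurveRR24.AlgClosed
import Groth.Agent.TwistLib.G.Inv
-- import your own Groth.Agent.* helpers here

set_option autoImplicit false
open CategoryTheory CategoryTheory.Limits AlgebraicGeometry
universe u
open NonPure

set_option linter.style.haveILetI false
set_option linter.unusedSectionVars false
set_option backward.isDefEq.respectTransparency.types false
set_option maxHeartbeats 1000000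

namespace Groth.Agent.S19053

open Groth.Agent Groth.Agent.Coherent Groth.Agent.PicLib Groth.Agent.AmpleLib Groth.Agent.EulerLib Groth.Agent.DimLib
open Opposite TopologicalSpace Polynomial

variable {k : Type u} [Field k] [IsAlgClosed k] {X : Scheme.{u}} [X.Over (Spec (CommRingCat.of k))]
  [IsProper (X ↘ Spec (CommRingCat.of k))] [IsIntegral X] [Smooth (X ↘ Spec (CommRingCat.of k))]

variable (k) in
include k in
/-- Off the points of height at least two a rank one module is its hull, so the cokernel is small. -/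
theorem dim_cokernel_bidual_lt {m : ℕ} (hdim : topologicalKrullDim X = ((m + 1 : ℕ) : WithBot ℕ∞))
    {G : X.Modules} (hG : Coh.IsCoh G) :
    topologicalKrullDim (CohB1.support (cokernel (RefHull.bidualMap G))) < (m : ℕ) := by
  haveI := isNoetherian_of_proper (k := k) (X := X)
  let p := X ↘ Spec (CommRingCat.of k)
  let β := RefHull.bidualMap G
  let T := CohB1.support (cokernel β)
  have hRc : Coh.IsCoh (cokernel β) := isCoh_cokernel _ hG.1 (RefHullLib.isCoh_ddual hG)
  have hT : IsClosed T := Coherent.isClosed_support _ (Coherent.locallyFinGen_of_isFT _ hRc.2)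
  have hz : ∀ y : X, Function.Surjective (RefHull.stalkMapₗ β y) → y ∉ T :=
    fun y hy hmem => hmem (subsingleton_of_forall_eq 0 fun x => by
      obtain ⟨d, rfl⟩ := (ModuleCat.epi_iff_surjective
        ((DerSch.stalkFunctor X y).map (cokernel.π β))).1 inferInstance x
      obtain ⟨q, rfl⟩ := hy d
      refine (stalk_comp_apply β (cokernel.π β) q).trans ?_
      rw [cokernel.condition]
      exact stalk_zero_apply _)
  have hη : IsGenericPoint (genericPoint X) (Set.univ : Set X) := genericPoint_spec X
  have hn := topologicalKrullDim_eq_ptDim_of_isGenericPoint p hη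
  rw [(Homeomorph.Set.univ X).isHomeomorph.topologicalKrullDim_eq, hdim] at hn
  have hn' : ptDim p (genericPoint X) = m + 1 := by exact_mod_cast hn.symm
  have hb : ∀ y ∈ T, ptDim p y + 2 ≤ m + 1 := fun y hy => by
    have hyη : genericPoint X ≠ y := fun h =>
      hz y (h ▸ (RefHullLib.bijective_stalk_bidualMap_genericPoint hG).2) hy
    have h1 := ptDim_lt_of_specializes p (genericPoint_specializes y) hyη
    rw [hn'] at h1
    by_contra hlt
    refine hz y (Mod22.RankOneHull.bidual_surjective k hG ?_) hy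
    rw [ringKrullDim_stalk_eq_coheight]
    have hc : Order.coheight y ≤ 1 := by
      refine (Order.coheight_le_coe_iff (n := 1)).2 fun ζ hζ => ?_
      rw [Nat.cast_one, Order.lt_one_iff_nonpos, nonpos_iff_eq_zero, Order.coheight_eq_zero]
      intro z hzζ
      by_contra hzz
      have hne1 : ζ ≠ y := hζ.ne'
      have h2 := ptDim_lt_of_specializes p (show ζ ⤳ y from hζ.le) hne1
      have hne2 : z ≠ ζ := fun h => hzz (h ▸ le_refl z)
      have h3 := ptDim_lt_of_specializes p (show z ⤳ ζ from hzζ) hne2
      have h4 := ptDim_le_of_specializes p (genericPoint_specializes z)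
      omega
    exact_mod_cast hc
  rcases T.eq_empty_or_nonempty with h | ⟨y₀, hy₀⟩
  · show topologicalKrullDim T < _
    rw [h]; exact dim_empty_lt m
  · have hm := hb y₀ hy₀
    show topologicalKrullDim T < _
    rw [topologicalKrullDim_closed_eq_iSup p hT]
    refine lt_of_le_of_lt (iSup_le fun y => ?_ : _ ≤ ((m - 1 : ℕ) : WithBot ℕ∞))
      (by exact_mod_cast (show m - 1 < m by omega))
    have := hb y.1 y.2
    exact WithBot.coe_le_coe.2 (Nat.cast_le.2 (by omega))

variable (k) in
/-- The degree of a class against an ample one. -/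
noncomputable def dg {L : X.Modules} (hL : CohB1.IsAmple L) (m : ℕ) (c : InvCl X) : ℤ :=
  interDeg (Fin.cons c (fun _ : Fin m => InvCl.mk L hL.1)) (chiCl k (Coh.structureModule X))

theorem cls_mk_eq [PicGrp.Law X] {A B : X.Modules} (hA : PicF.IsInvertible A) (hB : PicF.IsInvertible B)
    (h : PicGrp.cls A hA = PicGrp.cls B hB) : InvCl.mk A hA = InvCl.mk B hB := by
  obtain ⟨e⟩ := (PicGrp.cls_eq_cls_iff hA hB).1 h
  exact InvCl.mk_eq hA hB e

/-- A scheme with Picard group `ℤ` has no trivial Picard group. -/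
theorem exists_not_trivial [PicGrp.Law X] (hPic : PicLoc.PicSet X ≃* Multiplicative ℤ) :
    ∃ (A : X.Modules) (hA : PicF.IsInvertible A), PicGrp.cls A hA ≠ 1 := by
  obtain ⟨A, hA, e⟩ := PicGrp.exists_eq_cls (hPic.symm (Multiplicative.ofAdd 1))
  refine ⟨A, hA, fun h => ?_⟩
  have := congrArg hPic (e.trans h)
  rw [MulEquiv.apply_symm_apply, hPic.map_one] at this
  exact one_ne_zero (Multiplicative.ofAdd.injective (this.trans ofAdd_zero.symm))

variable (k) in
/-- With Picard group `ℤ` the degree determines the class. -/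
theorem dg_injective [PicGrp.Law X] (hPic : PicLoc.PicSet X ≃* Multiplicative ℤ) {L : X.Modules}
    (hL : CohB1.IsAmple L) {m : ℕ} (hdim : topologicalKrullDim X = ((m + 1 : ℕ) : WithBot ℕ∞))
    {A B : X.Modules} (hA : PicF.IsInvertible A) (hB : PicF.IsInvertible B)
    (h : dg k hL m (InvCl.mk A hA) = dg k hL m (InvCl.mk B hB)) : Nonempty (A ≅ B) := by
  haveI := isNoetherian_of_proper (k := k) (X := X)
  have hO := Coherent.isCoh_structureModule X
  have hdO : topologicalKrullDim (CohB1.support (Coh.structureModule X)) ≤ ((m + 1 : ℕ) : WithBot ℕ∞) :=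
    (dim_mono (Set.subset_univ _)).trans
      ((Homeomorph.Set.univ X).isHomeomorph.topologicalKrullDim_eq.trans hdim).le
  have hdeg : ClDeg (m + 2) (chiCl k (Coh.structureModule X)) :=
    finDeg_chiCl k hO (hdO.trans_lt (by exact_mod_cast (show m + 1 < m + 2 by omega)))
  have hadd : ∀ a b, dg k hL m (a * b) = dg k hL m a + dg k hL m b := fun a b => interDeg_mul a b _ hdeg
  have hone : dg k hL m 1 = 0 := interDeg_one _ _
  choose R hR hRe using fun c : PicLoc.PicSet X => PicGrp.exists_eq_cls c
  let Φ : PicLoc.PicSet X →* Multiplicative ℤ :=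
    { toFun := fun c => Multiplicative.ofAdd (dg k hL m (InvCl.mk (R c) (hR c)))
      map_one' := by
        have e : InvCl.mk (R 1) (hR 1) = InvCl.mk (Coh.structureModule X) AmpleLib.isInvertible_structureModule :=
          cls_mk_eq _ _ ((hRe 1).symm.trans PicGrp.cls_structureModule_eq_one.symm)
        rw [e]
        exact congrArg Multiplicative.ofAdd hone
      map_mul' := fun c d => by
        have e : InvCl.mk (R (c * d)) (hR (c * d)) = InvCl.mk (R c) (hR c) * InvCl.mk (R d) (hR d) := by
          rw [InvCl.mk_mul]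
          refine cls_mk_eq _ _ ((hRe (c * d)).symm.trans (Subtype.ext ?_))
          conv_lhs => rw [hRe c, hRe d, PicGrp.cls_mul_cls_val]
          rfl
        rw [e, hadd]; rfl }
  have hΦ : ∀ (E : X.Modules) (hE : PicF.IsInvertible E),
      Φ (PicGrp.cls E hE) = Multiplicative.ofAdd (dg k hL m (InvCl.mk E hE)) := fun E hE =>
    congrArg (fun t => Multiplicative.ofAdd (dg k hL m t)) (cls_mk_eq _ _ (hRe _).symm)
  let γ : ℤ := Multiplicative.toAdd (Φ (hPic.symm (Multiplicative.ofAdd 1)))
  have hlin : ∀ c, Multiplicative.toAdd (Φ c) = Multiplicative.toAdd (hPic c) * γ := fun c => by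
    have e : c = hPic.symm (Multiplicative.ofAdd 1) ^ Multiplicative.toAdd (hPic c) := by
      rw [← map_zpow, ← ofAdd_zsmul, smul_eq_mul, mul_one, ofAdd_toAdd, MulEquiv.symm_apply_apply]
    conv_lhs => rw [e, map_zpow, toAdd_zpow, smul_eq_mul]
  have hpos : 0 < dg k hL m (InvCl.mk L hL.1) := by
    have hc : Fin.cons (InvCl.mk L hL.1) (fun _ : Fin m => InvCl.mk L hL.1) = fun _ : Fin (m + 1) => InvCl.mk L hL.1 := by
      funext i
      induction i using Fin.cases <;> rfl
    rw [dg, hc]
    refine interDeg_pos k (m + 1) (fun _ => L) (fun _ => hL) _ hO (le_antisymm hdO ?_)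
    rw [← hdim, ← (Homeomorph.Set.univ X).isHomeomorph.topologicalKrullDim_eq]
    refine dim_mono ?_
    rw [Mod22.RankOneSlope.support_eq_univ hO (Mod22.RankOneSlope.isTorsionFree_of_invertible
      AmpleLib.isInvertible_structureModule) (fun h => by
      have := h.eq_of_src (𝟙 _) 0
      exact one_ne_zero (α := Γ(X, ⊤)) (congrArg (fun φ : Coh.structureModule X ⟶ Coh.structureModule X =>
        φ.app ⊤ (1 : Γ(X, ⊤))) this))]
  have hγ : γ ≠ 0 := fun h0 => by
    have := hlin (PicGrp.cls L hL.1)
    rw [hΦ, toAdd_ofAdd, h0, mul_zero] at this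
    omega
  refine (PicGrp.cls_eq_cls_iff hA hB).1 (hPic.injective (Multiplicative.toAdd.injective ?_))
  have h1 := hlin (PicGrp.cls A hA)
  have h2 := hlin (PicGrp.cls B hB)
  rw [hΦ, toAdd_ofAdd] at h1 h2
  exact mul_right_cancel₀ hγ ((h1.symm.trans h).trans h2)

/-- Let K be an algebraically closed field and Y an integral K-scheme which is smooth, proper and
projective over K (a closed subscheme of some P^n_K), polarised by an invertible ample O_Y-module L,
and whose Picard group is isomorphic to ℤ. Let ℓ ≥ 1 and let G be a coherent torsion-free O_Y-module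
of generic rank one whose Hilbert polynomial with respect to L is P_{O_Y} − ℓ. Then G is isomorphic
to the ideal sheaf of a closed subscheme Z ⊆ Y which is finite locally free of degree ℓ over K (a
length-ℓ subscheme). (This is the assertion proved in the first two steps of the printed proof, for
the members Y of α, which are assumed smooth with Pic(Y) ≅ ℤ there; the surjectivity statement of
the proposition itself rests on the existence of the good moduli space and is not restated.) -/
theorem result
    (K : Type u) [Field K] [IsAlgClosed K] (Y : Scheme.{u}) [Y.Over (Spec (CommRingCat.of K))]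
    [IsIntegral Y] [Smooth (Y ↘ Spec (CommRingCat.of K))] [IsProper (Y ↘ Spec (CommRingCat.of K))]
    (hproj : ∃ (n : ℕ) (ι : Y ⟶ CohB1.ProjSpace n K), IsClosedImmersion ι ∧
      ι ≫ CohB1.ProjSpace.toSpec n K = Y ↘ Spec (CommRingCat.of K))
    (L : Y.Modules) (hLi : PicF.IsInvertible L) (hLa : CohB1.IsAmple L)
    [PicGrp.Law Y] (hPic : Nonempty (PicLoc.PicSet Y ≃* Multiplicative ℤ))
    (ℓ : ℕ) (hℓ : 0 < ℓ)
    (G : Y.Modules) (hGc : Coh.IsCoh G) (hGt : TorSh.IsTorsionFree G)
    (hGr : Module.finrank (Y.presheaf.stalk (genericPoint Y)) (G.presheaf.stalk (genericPoint Y)) = 1)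
    (hGP : ∃ P : Polynomial ℚ, ShStab.IsHilbPoly K Y L (Coh.structureModule Y) P ∧
      ShStab.IsHilbPoly K Y L G (P - Polynomial.C (ℓ : ℚ))) :
    ∃ Z : Y.IdealSheafData, Mor2.IsFinLocFreeOfDeg ℓ (Z.subschemeι ≫ (Y ↘ Spec (CommRingCat.of K))) ∧
      Nonempty (G ≅ ClSub.idealMod Z) := by
  haveI := isNoetherian_of_proper (k := K) (X := Y)
  haveI : JacobsonSpace Y := LocallyOfFiniteType.jacobsonSpace (Y ↘ Spec (CommRingCat.of K))
  obtain ⟨hPic⟩ := hPic
  obtain ⟨P, hPO, hPG⟩ := hGP
  let p := Y ↘ Spec (CommRingCat.of K)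
  have hn : topologicalKrullDim Y = ((ptDim p (genericPoint Y) : ℕ) : WithBot ℕ∞) := by
    rw [← topologicalKrullDim_eq_ptDim_of_isGenericPoint p (genericPoint_spec Y)]
    exact (Homeomorph.Set.univ Y).isHomeomorph.topologicalKrullDim_eq.symm
  rcases hd0 : ptDim p (genericPoint Y) with _ | m
  · exfalso
    obtain ⟨A, hA, hne⟩ := exists_not_trivial hPic
    have hcl := (ptDim_eq_zero_iff p _).1 hd0
    obtain ⟨W, hW, g, hg⟩ := exists_isGen hA (genericPoint Y)
    have htop : W = ⊤ := top_le_iff.1 fun y _ => by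
      have hy : y ∈ closure ({genericPoint Y} : Set Y) := (genericPoint_spec Y).symm ▸ Set.mem_univ y
      rw [hcl.closure_eq] at hy
      exact (Set.mem_singleton_iff.1 hy) ▸ hW
    subst htop
    exact hne ((PicGrp.cls_eq_one_iff hA).2 (TwistLib.nonempty_iso_of_isGen_top hg))
  rw [hd0] at hn
  let D := RefHull.ddual G
  let β := RefHull.bidualMap G
  haveI := Mod22.RankOneHull.mono_bidual hGc hGt
  have hDi : PicF.IsInvertible D := Mod22.RankOneHull.isInvertible_ddual K hGc hGr
  have hDc : Coh.IsCoh D := RefHullLib.isCoh_ddual hGc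
  have hRc : Coh.IsCoh (cokernel β) := isCoh_cokernel _ hGc.1 hDc
  have hRd := dim_cokernel_bidual_lt K hn hGc
  let S : ShortComplex Y.Modules := ShortComplex.mk β (cokernel.π β) (cokernel.condition β)
  have hS : S.ShortExact :=
    { exact := ShortComplex.exact_cokernel β
      mono_f := inferInstanceAs (Mono β)
      epi_g := inferInstanceAs (Epi (cokernel.π β)) }
  let H := InvCl.mk L hLa.1
  let φO := chiCl K (Coh.structureModule Y)
  let c : Fin m → InvCl Y := fun _ => H
  have hDfun : (fun x => φO (InvCl.mk D hDi * x)) = chiCl K G + chiCl K (cokernel β) := by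
    rw [← chiCl_additive K S hS hGc hDc hRc]
    funext x
    show chiCl K _ _ = _
    rw [chiCl_mul, chiCl_congr K (unitTensorIso D : CohB1.tensorMod (Coh.structureModule Y) D ≅ D)]
  have hdgD : dg K hLa m (InvCl.mk D hDi) = if m = 0 then -(ℓ : ℤ) else 0 := by
    have h0 : interDeg c (chiCl K (cokernel β)) = 0 := interDeg_eq_zero c (finDeg_chiCl K hRc hRd)
    rw [dg, interDeg_cons, show (fun x => φO (InvCl.mk D hDi * x) - φO x) =
      (fun x => φO (InvCl.mk D hDi * x)) - φO from rfl, interDeg_sub, hDfun, interDeg_add_fun, h0, add_zero,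
      ← interDeg_sub, interDeg_const_eq]
    have hm : ∀ i : ℕ, (chiCl K G - φO) (H ^ i) = -(ℓ : ℤ) := fun i => by
      have h1 := hPG i
      have h2 := hPO i
      rw [euler_twist_eq K hLa.1] at h1 h2
      rw [Polynomial.eval_sub, Polynomial.eval_C, ← h2] at h1
      have h3 : ((chiCl K G (H ^ i) - φO (H ^ i) : ℤ) : ℚ) = ((-(ℓ : ℤ) : ℤ) : ℚ) := by
        push_cast
        show ((chiCl K G (InvCl.mk L hLa.1 ^ i) : ℤ) : ℚ) - (chiCl K (Coh.structureModule Y) (InvCl.mk L hLa.1 ^ i) : ℤ) = _
        rw [h1]; ring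
      exact_mod_cast h3
    rw [show (fun i : ℕ => (chiCl K G - φO) (H ^ i)) = fun _ => -(ℓ : ℤ) from funext hm]
    cases m with
    | zero => simp
    | succ j =>
      rw [Function.iterate_succ_apply, if_neg (Nat.succ_ne_zero j),
        show fwdDiff 1 (fun _ : ℕ => -(ℓ : ℤ)) = fun _ => (0 : ℤ) from funext fun _ => sub_self _]
      have hz : ∀ i, (fwdDiff 1)^[i] (fun _ : ℕ => (0 : ℤ)) = fun _ => 0 := fun i => by
        induction i with
        | zero => rfl
        | succ i ih => rw [Function.iterate_succ_apply', ih]; exact funext fun _ => sub_self _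
      rw [hz]
  obtain ⟨E, hE, hEdg, π, hπ⟩ : ∃ (E : Y.Modules) (hE : PicF.IsInvertible E),
      dg K hLa m (InvCl.mk E hE) = dg K hLa m (InvCl.mk D hDi) ∧ ∃ π : E ⟶ Coh.structureModule Y, Mono π := by
    by_cases hm : m = 0
    · subst hm
      have hdim1 : topologicalKrullDim Y = 1 := by rw [hn]; rfl
      obtain ⟨x, -, hx⟩ := nonempty_inter_closedPoints (Z := (Set.univ : Set Y)) Set.univ_nonempty
        isClosed_univ.isLocallyClosed
      have hx' : IsClosed ({x} : Set Y) := hx
      let J := CurveRR24.ptIdeal x hx'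
      have hJ : PicF.IsInvertible (ClSub.idealMod J) := CurveRR24.isInvertible_ptIdeal_of_regular K hx'
        (Mod22.RankOneHull.regular K x) (CurveRR24.stalk_dim_eq_one hdim1 hx')
      have hQ := CurveRR24.isCoh_quotMod J
      have hJdg : dg K hLa 0 (InvCl.mk (ClSub.idealMod J) hJ) = -1 := by
        have h1 := congrFun (chiCl_additive K _ (CurveRR24.shortExact_ideal J) (CurveRR24.isCoh_idealMod' J)
          (Coherent.isCoh_structureModule Y) hQ) 1
        rw [Pi.add_apply, chiCl_one, chiCl_one, chiCl_one] at h1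
        have h2 := IntCM8.euler_eq_h0 K hQ ((Set.finite_singleton x).subset (CurveRR24.support_ptQuot hx'))
        have h3 := CurveRR24.finrank_HH_zero_ptQuot hx' K
        rw [CurveRR24.finrank_resField K hx'] at h3
        rw [h3] at h2
        rw [dg, interDeg_cons, interDeg_zero, mul_one]
        show chiCl K _ _ - chiCl K _ _ = _
        rw [← mul_one (InvCl.mk (ClSub.idealMod J) hJ), chiCl_mul, chiCl_one, chiCl_one,
          euler_congr K Y (unitTensorIso (ClSub.idealMod J) :
            CohB1.tensorMod (Coh.structureModule Y) (ClSub.idealMod J) ≅ ClSub.idealMod J)]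
        simp only [Nat.cast_one] at h2
        have h1' : Curv2.euler K Y (Coh.structureModule Y) =
            Curv2.euler K Y (ClSub.idealMod J) + Curv2.euler K Y (ClSub.quotMod J) := h1
        omega
      have hdeg : ClDeg 2 φO := finDeg_chiCl K (Coherent.isCoh_structureModule Y)
        (((dim_mono (Set.subset_univ _)).trans
          ((Homeomorph.Set.univ Y).isHomeomorph.topologicalKrullDim_eq.trans hn).le).trans_lt
          (by exact_mod_cast (show 0 + 1 < 2 by omega)))
      suffices hind : ∀ l : ℕ, ∃ (E : Y.Modules) (hE : PicF.IsInvertible E),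
          dg K hLa 0 (InvCl.mk E hE) = -(l : ℤ) ∧ ∃ π : E ⟶ Coh.structureModule Y, Mono π by
        obtain ⟨E, hE, h1, h2⟩ := hind ℓ
        exact ⟨E, hE, by rw [h1, hdgD, if_pos rfl], h2⟩
      intro l
      induction l with
      | zero => exact ⟨_, AmpleLib.isInvertible_structureModule, by
          rw [Nat.cast_zero, neg_zero]; exact interDeg_one _ _, 𝟙 _, inferInstance⟩
      | succ l ih =>
        obtain ⟨E, hE, hEl, π, hπ⟩ := ih
        haveI := (RamDiv8.twistIncl_spec hE J).1
        refine ⟨CohB1.tensorMod E (ClSub.idealMod J), AmpleLib.isInvertible_tensorMod hE hJ, ?_,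
          RamDiv8.twistIncl E J ≫ π, inferInstance⟩
        rw [← InvCl.mk_mul hE hJ]
        show interDeg (Fin.cons (InvCl.mk E hE * InvCl.mk (ClSub.idealMod J) hJ) _) φO = _
        rw [interDeg_mul _ _ _ hdeg]
        show dg K hLa 0 _ + dg K hLa 0 _ = _
        rw [hEl, hJdg]; push_cast; ring
    · exact ⟨_, AmpleLib.isInvertible_structureModule, by rw [hdgD, if_neg hm]; exact interDeg_one _ _,
        𝟙 _, inferInstance⟩
  obtain ⟨e⟩ := dg_injective K hPic hLa hn hDi hE hEdg.symm
  haveI : Coh.IsQCoh G := hGc.1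
  obtain ⟨Z, ⟨α⟩⟩ := Mod22.PointsIdeal.exists_idealMod_of_mono (β ≫ e.hom ≫ π)
  have hQ : Coh.IsCoh (ClSub.quotMod Z) := CurveRR24.isCoh_quotMod Z
  have hPQ := isHilbPoly_hp K hLa (ClSub.quotMod Z) hQ
  have hsum := hilb_ses K hLa (CurveRR24.shortExact_ideal Z) (CurveRR24.isCoh_idealMod' Z)
    (Coherent.isCoh_structureModule Y) hQ (isHilbPoly_iso K α hPG) hPO hPQ
  have hC : hp K hLa (ClSub.quotMod Z) hQ = Polynomial.C (ℓ : ℚ) := by
    linear_combination (norm := ring_nf) -hsum
  rw [hC] at hPQ
  exact ⟨Z, (Mod22.PointsIdeal.isFinLocFreeOfDeg_of_hilbPoly K hLa Z ℓ hPQ).2, ⟨α⟩⟩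

end Groth.Agent.S19053
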