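import Groth.Statements.S19054
import Groth.Agent.FlatMor12.Cube.Near
import Groth.Agent.FlatMor12.RelAssBC
import Groth.Agent.H8Coh.FibreAss
import Groth.Agent.CycLib28.InterPull
import Groth.Agent.Coherent.CohBC.HomSheaf
import Groth.Agent.AmpleLib.FTIdeal
import Groth.Agent.Coherent.FinitePres
import Groth.Agent.Coherent.SupportPullback
import Groth.Agent.Coherent.ClosedEquiv
import Groth.Agent.DCat.ClosedPush
import Groth.Agent.EGA43.DimFormula.ValFibre
import Groth.Agent.Mod22.RankOneSlope
import Groth.Agent.Mod22.IdealEnd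
import Groth.Agent.SerreDual.ExtShRep
import Groth.Agent.SerreDual.ExtShGeneric
import Groth.Agent.EGA43.UnivOpen.DvrComponents
-- import your own Groth.Agent.* helpers here

set_option autoImplicit false
set_option maxHeartbeats 1000000
set_option backward.isDefEq.respectTransparency.types false
open CategoryTheory CategoryTheory.Limits AlgebraicGeometry
universe u
open NonPure
open Groth.Agent Groth.Agent.FlatMor12.RelAssBC

namespace Groth.Agent.S19054

/-- EGA IV 12.1.1, the algebra: an associated prime specialises into the associated primes of `M / π M`. -/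
theorem hasSoc_quot {A : Type u} [CommRing A] [IsLocalRing A] [IsNoetherianRing A] {M : Type u} [AddCommGroup M]
    [Module A M] [Module.Finite A M] {π : A} (hπ : π ∈ IsLocalRing.maximalIdeal A)
    (hreg : ∀ v : M, π • v = 0 → v = 0) {P : Ideal A} (hP : IsAssociatedPrime P M)
    (hmin : ∀ Q : Ideal A, Q.IsPrime → P ≤ Q → π ∈ Q → Q = IsLocalRing.maximalIdeal A) :
    HasSoc A (M ⧸ (Ideal.span {π} • (⊤ : Submodule A M))) := by
  obtain ⟨hPp, x, hx⟩ := isAssociatedPrime_iff.1 hP
  let N : Submodule A M :=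
    { carrier := {v | ∀ p ∈ P, p • v = 0}
      add_mem' := fun ha hb p hp => by rw [smul_add, ha p hp, hb p hp, add_zero]
      zero_mem' := fun p _ => smul_zero p
      smul_mem' := fun c v hv p hp => by rw [smul_comm, hv p hp, smul_zero] }
  have hxN : x ∈ N := fun p hp => (Submodule.mem_bot A).1 (Submodule.mem_colon_singleton.1 (hx.le hp))
  have hx0 : x ≠ 0 := fun h0 => hPp.ne_top (by
    rw [hx, Ideal.eq_top_iff_one, Submodule.mem_colon_singleton, h0, smul_zero]; exact zero_mem _)
  let J : Submodule A M := Ideal.span {π} • (⊤ : Submodule A M)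
  obtain ⟨v, hvN, hv⟩ : ∃ v ∈ N, v ∉ J := by
    by_contra hno
    push Not at hno
    have hle : N ≤ Ideal.span {π} • N := fun v hv => by
      have hv' := hno v hv
      rw [show J = Ideal.span {π} • (⊤ : Submodule A M) from rfl, Submodule.ideal_span_singleton_smul,
        Submodule.mem_smul_pointwise_iff_exists] at hv'
      obtain ⟨w, -, hw⟩ := hv'
      rw [Submodule.ideal_span_singleton_smul, Submodule.mem_smul_pointwise_iff_exists]
      refine ⟨w, fun p hp => hreg _ ?_, hw⟩
      rw [smul_comm, hw]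
      exact hv p hp
    have hbot := Submodule.eq_bot_of_le_smul_of_le_jacobson_bot (Ideal.span {π}) N
      (IsNoetherian.noetherian N) hle
      ((Ideal.span_le.2 (Set.singleton_subset_iff.2 hπ)).trans (IsLocalRing.maximalIdeal_le_jacobson ⊥))
    exact hx0 ((Submodule.mem_bot A).1 (hbot.le hxN))
  have hv0 : J.mkQ v ≠ 0 := fun h => hv ((Submodule.Quotient.mk_eq_zero J).1 h)
  obtain ⟨Q, hQ, hle⟩ := exists_le_isAssociatedPrime_of_isNoetherianRing A (J.mkQ v) hv0
  have hQm : Q = IsLocalRing.maximalIdeal A := hmin Q hQ.1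
    (fun p hp => hle (Submodule.mem_colon_singleton.2 ((Submodule.mem_bot A).2 (by
      rw [← map_smul, hvN p hp, map_zero]))))
    (hle (Submodule.mem_colon_singleton.2 ((Submodule.mem_bot A).2 (by
      rw [← map_smul]
      exact (Submodule.Quotient.mk_eq_zero J).2
        (Submodule.smul_mem_smul (Ideal.subset_span rfl) Submodule.mem_top)))))
  exact (isAssociatedPrime_iff_hasSoc (O := A) (A := A) Function.surjective_id).1 (hQm ▸ hQ)

theorem hasSoc_of_injective {A : Type u} [CommRing A] [IsLocalRing A] {M N : Type u} [AddCommGroup M] [Module A M]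
    [AddCommGroup N] [Module A N] (l : M →ₗ[A] N) (hl : Function.Injective l) (h : HasSoc A M) : HasSoc A N := by
  obtain ⟨v, hv, hk⟩ := h
  exact ⟨l v, fun h0 => hv (hl (h0.trans (map_zero l).symm)), fun r hr => by rw [← map_smul, hk r hr, map_zero]⟩

/-- A maximal point of the support of a coherent submodule gives a socle. -/
theorem hasSoc_of_maximal {W : Scheme.{u}} [IsLocallyNoetherian W] {S M : W.Modules} (hS : Coh.IsCoh S)
    (i : S ⟶ M) [Mono i] {z : W} (hz : z ∈ CohB1.support S)
    (hmax : ∀ z' : W, z' ⤳ z → z' ∈ CohB1.support S → z' = z) :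
    HasSoc (W.presheaf.stalk z) (M.presheaf.stalk z) := by
  haveI : Nontrivial (S.presheaf.stalk z) := not_subsingleton_iff_nontrivial.1 hz
  obtain ⟨x, hx⟩ := exists_ne (0 : S.presheaf.stalk z)
  obtain ⟨P, hP, hle⟩ := exists_le_isAssociatedPrime_of_isNoetherianRing (W.presheaf.stalk z) x hx
  obtain ⟨hPp, x', hx'⟩ := isAssociatedPrime_iff.1 hP
  let Q : PrimeSpectrum (W.presheaf.stalk z) := ⟨P, hPp⟩
  have hin : W.fromSpecStalk z Q ∈ CohB1.support S := fun hsub => by
    letI := Module.compHom (S.presheaf.stalk (W.fromSpecStalk z Q))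
      (W.presheaf.stalkSpecializes (CycLim28.fromSpecStalk_specializes z Q)).hom
    obtain ⟨ρ, -, hρ⟩ := CycLib28.isLocalizedModule_stalkSpecializes hS.1 z Q
    obtain ⟨s, hs⟩ := (IsLocalizedModule.eq_zero_iff Q.asIdeal.primeCompl ρ).1 (Subsingleton.elim (ρ x') 0)
    exact s.2 (hx'.ge (Submodule.mem_colon_singleton.2 ((Submodule.mem_bot _).2 hs)))
  have hQ : Q = IsLocalRing.closedPoint (W.presheaf.stalk z) := CycLim28.fromSpecStalk_injective z
    ((hmax _ (CycLim28.fromSpecStalk_specializes z Q) hin).trans Scheme.fromSpecStalk_closedPoint.symm)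
  have hPm : P = IsLocalRing.maximalIdeal (W.presheaf.stalk z) := congrArg PrimeSpectrum.asIdeal hQ
  exact hasSoc_of_injective ((DerSch.stalkFunctor W z).map i).hom
    ((ModuleCat.mono_iff_injective ((DerSch.stalkFunctor W z).map i)).1 inferInstance)
    ((isAssociatedPrime_iff_hasSoc (O := W.presheaf.stalk z) Function.surjective_id).1 (hPm ▸ hP))

theorem dim_image {A B : Type u} [TopologicalSpace A] [TopologicalSpace B] {ι : A → B}
    (hι : Topology.IsEmbedding ι) (S : Set A) : topologicalKrullDim ↥(ι '' S) = topologicalKrullDim ↥S :=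
  (IsHomeomorph.topologicalKrullDim_eq _ (hι.homeomorphImage S).isHomeomorph).symm

/-- If all socle points have closures of dimension `d`, the module is pure of dimension `d`. -/
theorem isPure_of_soc {W : Scheme.{u}} [IsLocallyNoetherian W] (M : W.Modules) (d : ℕ)
    (h : ∀ z : W, z ∈ CohB1.support M → HasSoc (W.presheaf.stalk z) (M.presheaf.stalk z) →
      topologicalKrullDim ↥(closure ({z} : Set W)) = (d : WithBot ℕ∞)) :
    ShStab.IsPure W M d := by
  intro S i _ hS h0
  haveI := hS.1
  have hcl : IsClosed (CohB1.support S) := Coherent.isClosed_support _ (Coherent.locallyFinGen_of_isFT _ hS.2)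
  have key : ∀ C ∈ irreducibleComponents ↥(CohB1.support S), topologicalKrullDim ↥C = (d : WithBot ℕ∞) := by
    intro C hC
    have hemb : Topology.IsClosedEmbedding (Subtype.val : ↥(CohB1.support S) → W) := hcl.isClosedEmbedding_subtypeVal
    have hirr : IsIrreducible (Subtype.val '' C) := hC.1.image _ continuous_subtype_val.continuousOn
    have hclC : IsClosed (Subtype.val '' C) := hemb.isClosedMap _ (isClosed_of_mem_irreducibleComponents C hC)
    obtain ⟨z, hzg⟩ := QuasiSober.sober hirr hclC
    obtain ⟨z₀, hz₀, rfl⟩ : ∃ z₀ ∈ C, Subtype.val z₀ = z := hzg.mem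
    have hmax : ∀ z' : W, z' ⤳ (z₀ : W) → z' ∈ CohB1.support S → z' = z₀ := by
      intro z' hz' hz'S
      have hzz : (⟨z', hz'S⟩ : ↥(CohB1.support S)) ⤳ z₀ := (subtype_specializes_iff _ _).2 hz'
      have hsub : C ⊆ closure {(⟨z', hz'S⟩ : ↥(CohB1.support S))} := fun c hc => by
        have : (z₀ : W) ⤳ (c : W) := hzg.specializes (Set.mem_image_of_mem _ hc)
        exact (hzz.trans ((subtype_specializes_iff _ _).2 this)).mem_closure
      have hmem : (⟨z', hz'S⟩ : ↥(CohB1.support S)) ∈ C :=
        hC.2 isIrreducible_singleton.closure hsub (subset_closure rfl)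
      exact (hz'.antisymm (hzg.specializes (Set.mem_image_of_mem _ hmem))).eq
    have hzM : (z₀ : W) ∈ CohB1.support M := fun hsub => z₀.2
      (haveI : Subsingleton ((DerSch.stalkFunctor W (z₀ : W)).obj M : Type u) := hsub
      ((ModuleCat.mono_iff_injective ((DerSch.stalkFunctor W (z₀ : W)).map i)).1 inferInstance).subsingleton)
    rw [← dim_image hemb.isEmbedding C, ← hzg.def]
    exact h _ hzM (hasSoc_of_maximal hS i z₀.2 hmax)
  refine le_antisymm (SerreDual.dim_le_of_components fun C hC => (key C hC).le) ?_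
  obtain ⟨z, hz⟩ : (CohB1.support S).Nonempty := Set.nonempty_iff_ne_empty.2 fun he => h0
    (Groth.Agent.ModStalk.isZero_of_stalks fun x => ModuleCat.isZero_iff_subsingleton.2
      (not_not.1 fun hn => (he.le (show x ∈ CohB1.support S from hn)).elim))
  rw [← key _ (irreducibleComponent_mem_irreducibleComponents (⟨z, hz⟩ : ↥(CohB1.support S)))]
  exact Topology.IsInducing.subtypeVal.topologicalKrullDim_le

/-- Membership of a generisation in a basic open. -/
theorem fromSpecStalk_mem_basicOpen {X : Scheme.{u}} (x : X) (g : Γ(X, ⊤)) (Q : PrimeSpectrum (X.presheaf.stalk x)) :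
    X.fromSpecStalk x Q ∈ X.basicOpen g ↔ X.presheaf.germ ⊤ x trivial g ∉ Q.asIdeal := by
  show Q ∈ (X.fromSpecStalk x) ⁻¹ᵁ X.basicOpen g ↔ _
  rw [Scheme.Hom.preimage_basicOpen]
  show Q ∈ (Spec (X.presheaf.stalk x)).basicOpen ((X.fromSpecStalk x).appTop g) ↔ _
  rw [Scheme.fromSpecStalk_appTop, basicOpen_eq_of_affine']
  show _ ∉ Q.asIdeal ↔ _
  have h : (Scheme.ΓSpecIso (X.presheaf.stalk x)).hom
      ((X.presheaf.germ ⊤ x trivial ≫ (Scheme.ΓSpecIso (X.presheaf.stalk x)).inv ≫
        (Spec (X.presheaf.stalk x)).presheaf.map (homOfLE le_top).op) g) = X.presheaf.germ ⊤ x trivial g := by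
    have e : (Spec (X.presheaf.stalk x)).presheaf.map (homOfLE (le_top : (⊤ : (Spec (X.presheaf.stalk x)).Opens) ≤ ⊤)).op = 𝟙 _ :=
      (Spec (X.presheaf.stalk x)).presheaf.map_id _
    erw [e, Category.comp_id]
    exact Iso.inv_hom_id_apply (Scheme.ΓSpecIso (X.presheaf.stalk x)) _
  exact not_congr (by erw [h])

/-- Stalks of a push along a closed immersion with torsion-free module have socle only at the generic point. -/
theorem eq_image_generic_of_soc {W Y : Scheme.{u}} [IsIntegral Y] (ι : Y ⟶ W) [IsClosedImmersion ι]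
    {A : Y.Modules} (hA : TorSh.IsTorsionFree A) {y : W}
    (h : HasSoc (W.presheaf.stalk y) (((Scheme.Modules.pushforward ι).obj A).presheaf.stalk y)) :
    y = ι (genericPoint Y) := by
  by_cases hy : y ∈ Set.range ι
  swap
  · obtain ⟨v, hv, -⟩ := h
    exact absurd ((DCat.ClosedPush.subsingleton_stalk_push ι A y hy).elim v 0) hv
  obtain ⟨w, rfl⟩ := hy
  obtain ⟨v, hv, hk⟩ := h
  obtain ⟨e, he⟩ := SerreDual.exists_push_stalk ι A w
  haveI := hA w
  have hbot : IsLocalRing.maximalIdeal (Y.presheaf.stalk w) = ⊥ := (Submodule.eq_bot_iff _).2 fun r hr => by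
    obtain ⟨r', rfl⟩ := ι.stalkMap_surjective w r
    have h0 : ι.stalkMap w r' • e v = 0 := by
      rw [← he, hk r' (IsLocalRing.mem_maximalIdeal _ |>.2 fun hu => hr (hu.map _)), map_zero]
    exact (smul_eq_zero.1 h0).resolve_right fun h' => hv (e.map_eq_zero_iff.1 h')
  have hsp : genericPoint Y ⤳ w := genericPoint_specializes w
  obtain ⟨Q, hQ⟩ : genericPoint Y ∈ Set.range (Y.fromSpecStalk w) := by
    rw [Scheme.range_fromSpecStalk]; exact hsp
  have hQc : Q = IsLocalRing.closedPoint (Y.presheaf.stalk w) := PrimeSpectrum.ext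
    (le_antisymm (IsLocalRing.le_maximalIdeal Q.2.ne_top) (hbot.trans_le bot_le))
  rw [← hQ, hQc, Scheme.fromSpecStalk_closedPoint]

theorem main (R : Type u) [CommRing R] [IsDomain R] [IsDiscreteValuationRing R]
    (X : Scheme.{u}) (f : X ⟶ Spec (CommRingCat.of R))
    [IsProper f]
    (hint : ∀ y : ↥(Spec (CommRingCat.of R)), IsIntegral (f.fiber y))
    (F : X.Modules) (hFc : Coh.IsCoh F) (hFfl : FlatMod.IsFlatOver f F)
    (Ys Ws : (f.fiber (IsLocalRing.closedPoint R)).IdealSheafData)
    (hYs : IsIntegral Ys.subscheme) (hYs' : Ys ≠ ⊥) (hWs : IsIntegral Ws.subscheme) (hWs' : Ws ≠ ⊥)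
    (d : ℕ) (hd : topologicalKrullDim ↥Ys.subscheme = d)
    (Gs : Ys.subscheme.Modules) (hGc : Coh.IsCoh Gs) (hGt : TorSh.IsTorsionFree Gs)
    (hGr : haveI := hYs; Module.finrank (Ys.subscheme.presheaf.stalk (genericPoint Ys.subscheme))
        (Gs.presheaf.stalk (genericPoint Ys.subscheme)) = 1)
    (a : (Coh.push Ys.subschemeι).obj Gs ⟶
      (Scheme.Modules.pullback (f.fiberι (IsLocalRing.closedPoint R))).obj F)
    (q : (Scheme.Modules.pullback (f.fiberι (IsLocalRing.closedPoint R))).obj F ⟶
      ClSub.idealMod Ws)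
    (w : a ≫ q = 0) (hex : (ShortComplex.mk a q w).ShortExact)
    (T : X.Modules) (t : T ⟶ F) [Mono t] (hTc : Coh.IsCoh T)
    (hTfl : FlatMod.IsFlatOver f T)
    (hEfl : FlatMod.IsFlatOver f (cokernel t))
    (hTη : letI η : ↥(Spec (CommRingCat.of R)) := genericPoint (Spec (CommRingCat.of R))
      letI Xη := f.fiber η
      letI Tη := (Scheme.Modules.pullback (f.fiberι η)).obj T
      ∀ x : ↥Xη, Module.IsTorsion (Xη.presheaf.stalk x) (Tη.presheaf.stalk x))
    (hEη : TorSh.IsTorsionFree
      ((Scheme.Modules.pullback (f.fiberι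
        (genericPoint (Spec (CommRingCat.of R))))).obj (cokernel t)))
    (hFη : ¬ TorSh.IsTorsionFree
      ((Scheme.Modules.pullback (f.fiberι
        (genericPoint (Spec (CommRingCat.of R))))).obj F)) :
    (∃ (A : Ys.subscheme.Modules) (m : A ⟶ Gs) (e : (Scheme.Modules.pullback (f.fiberι (IsLocalRing.closedPoint R))).obj T ≅
        (Coh.push Ys.subschemeι).obj A),
      Mono m ∧ TorSh.IsTorsionFree A ∧
      (haveI := hYs; Module.finrank (Ys.subscheme.presheaf.stalk (genericPoint Ys.subscheme))
        (A.presheaf.stalk (genericPoint Ys.subscheme)) = 1) ∧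
      e.hom ≫ (Coh.push Ys.subschemeι).map m ≫ a = (Scheme.Modules.pullback (f.fiberι (IsLocalRing.closedPoint R))).map t) ∧
    ShStab.IsPure (f.fiber (IsLocalRing.closedPoint R)) ((Scheme.Modules.pullback (f.fiberι (IsLocalRing.closedPoint R))).obj T) d ∧
    ShStab.IsPure (f.fiber (genericPoint (Spec (CommRingCat.of R)))) ((Scheme.Modules.pullback (f.fiberι (genericPoint (Spec (CommRingCat.of R))))).obj T) d := by
  haveI : IsLocallyNoetherian X := LocallyOfFiniteType.isLocallyNoetherian f
  haveI := isLocallyNoetherian_fiber f (IsLocalRing.closedPoint R)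
  haveI := isLocallyNoetherian_fiber f (genericPoint (Spec (CommRingCat.of R)))
  haveI := hint (IsLocalRing.closedPoint R)
  haveI := hYs
  haveI := hTc.1
  haveI := hFc.1
  let ιs := f.fiberι (IsLocalRing.closedPoint R)
  let Ts := (Scheme.Modules.pullback ιs).obj T
  let Fs := (Scheme.Modules.pullback ιs).obj F
  let ts : Ts ⟶ Fs := (Scheme.Modules.pullback ιs).map t
  have hTfp : CohB1.IsFP T := Coherent.isFP_of_isCoh hTc
  have hFfp : CohB1.IsFP F := Coherent.isFP_of_isCoh hFc
  haveI hts : Mono ts := Quot8.mono_pullback_fiberι f t hFfp hTfp hFfl hEfl (IsLocalRing.closedPoint R)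
  have hTsc : Coh.IsCoh Ts := CycLib28.InterSheaf.isCoh_pullback ιs hTc
  haveI := hTsc.1
  -- the uniformiser
  obtain ⟨π, hπ⟩ := IsDiscreteValuationRing.exists_irreducible R
  let gR : Γ(Spec (CommRingCat.of R), ⊤) := (Scheme.ΓSpecIso (CommRingCat.of R)).inv π
  let g : Γ(X, ⊤) := f.appTop gR
  have hbo : (Spec (CommRingCat.of R)).basicOpen gR = PrimeSpectrum.basicOpen π := by
    rw [basicOpen_eq_of_affine]
  have hmem : ∀ p : ↥(Spec (CommRingCat.of R)), p ∈ (Spec (CommRingCat.of R)).basicOpen gR ↔ p ≠ (IsLocalRing.closedPoint R) := by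
    intro p
    rw [hbo]
    constructor
    · intro h1 h2
      exact h1 (h2 ▸ (IsLocalRing.mem_maximalIdeal π).2 hπ.not_isUnit)
    · intro h1
      rw [EGA43.UnivOpen.eq_genericPoint_of_ne_closedPoint p h1, genericPoint_eq_bot_of_affine]
      show π ∉ (⊥ : Ideal R)
      simpa using hπ.ne_zero
  have hgX : ∀ w : X, w ∈ X.basicOpen g ↔ f w ≠ (IsLocalRing.closedPoint R) := fun w => by
    rw [← hmem (f w), show X.basicOpen g = f ⁻¹ᵁ (Spec (CommRingCat.of R)).basicOpen gR from
      (Scheme.Hom.preimage_basicOpen f gR).symm]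
    rfl
  have hdvr : ∀ w : X, f w = (IsLocalRing.closedPoint R) ∨ f w = (genericPoint (Spec (CommRingCat.of R))) := fun w =>
    (em (f w = (IsLocalRing.closedPoint R))).imp id (EGA43.UnivOpen.eq_genericPoint_of_ne_closedPoint (f w))
  have hne : (genericPoint (Spec (CommRingCat.of R))) ≠ (IsLocalRing.closedPoint R) := EGA43.UnivOpen.genericPoint_ne_closedPoint
  -- regularity and the ideal of the closed fibre at a point over `(IsLocalRing.closedPoint R)`
  have hgerm : ∀ x : X, f.stalkMap x ((Spec (CommRingCat.of R)).presheaf.germ ⊤ (f x) trivial gR) =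
      X.presheaf.germ ⊤ x trivial g := fun x => Scheme.Hom.germ_stalkMap_apply f ⊤ x trivial gR
  have hreg : ∀ x : X, f x = (IsLocalRing.closedPoint R) → ∀ v : T.presheaf.stalk x, X.presheaf.germ ⊤ x trivial g • v = 0 → v = 0 := by
    intro x hx v hv
    letI := FlatMod.moduleStalkOver f T x
    haveI : Module.Flat ((Spec (CommRingCat.of R)).presheaf.stalk (f x)) (T.presheaf.stalk x) := hTfl x
    have h0 : (Spec (CommRingCat.of R)).presheaf.germ ⊤ (f x) trivial gR ≠ 0 := fun h0 => hπ.ne_zero (by
      have h1 := (AlgebraicGeometry.germ_injective_of_isIntegral (Spec (CommRingCat.of R)) (f x)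
        (U := ⊤) trivial) (h0.trans (map_zero _).symm)
      exact (Scheme.ΓSpecIso (CommRingCat.of R)).symm.commRingCatIsoToRingEquiv.injective
        (h1.trans (map_zero _).symm))
    refine Module.Flat.isSMulRegular_of_nonZeroDivisors (M := T.presheaf.stalk x)
      (mem_nonZeroDivisors_of_ne_zero h0) ?_
    show f.stalkMap x ((Spec (CommRingCat.of R)).presheaf.germ ⊤ (f x) trivial gR) • v = _
    rw [hgerm x, hv]
    exact (smul_zero _).symm
  have hJ : ∀ x : X, f x = (IsLocalRing.closedPoint R) → Ideal.map (f.stalkMap x).hom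
      (IsLocalRing.maximalIdeal ((Spec (CommRingCat.of R)).presheaf.stalk (f x))) =
        Ideal.span {X.presheaf.germ ⊤ x trivial g} := by
    intro x hx
    rw [← hgerm x]
    suffices h : IsLocalRing.maximalIdeal ((Spec (CommRingCat.of R)).presheaf.stalk (f x)) =
        Ideal.span {(Spec (CommRingCat.of R)).presheaf.germ ⊤ (f x) trivial gR} by
      rw [h, Ideal.map_span, Set.image_singleton]
    generalize hp : f x = p at hx ⊢
    subst hx
    haveI : (IsLocalRing.closedPoint R).asIdeal.IsPrime := (IsLocalRing.closedPoint R).2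
    haveI : IsLocalRing ((AlgebraicGeometry.Spec.structureSheaf R).presheaf.stalk (IsLocalRing.closedPoint R)) :=
      inferInstanceAs (IsLocalRing ((Spec (CommRingCat.of R)).presheaf.stalk (IsLocalRing.closedPoint R)))
    have h1 := IsLocalization.AtPrime.map_eq_maximalIdeal (R := R) (IsLocalRing.closedPoint R).asIdeal
      ((AlgebraicGeometry.Spec.structureSheaf R).presheaf.stalk (IsLocalRing.closedPoint R))
    refine h1.symm.trans ?_
    show Ideal.map _ (IsLocalRing.maximalIdeal R) = _
    rw [hπ.maximalIdeal_eq, Ideal.map_span, Set.image_singleton]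
    rfl
  -- the special fibre of `T` is generically zero
  let ξ : ↥(f.fiber (IsLocalRing.closedPoint R)) := genericPoint ↥(f.fiber (IsLocalRing.closedPoint R))
  have hξs : f (ιs ξ) = (IsLocalRing.closedPoint R) := (f.range_fiberι (IsLocalRing.closedPoint R)).le ⟨ξ, rfl⟩
  have hfib : ∀ x : X, f x = (IsLocalRing.closedPoint R) → ∃ y : ↥(f.fiber (IsLocalRing.closedPoint R)), ιs y = x := fun x hx => (f.range_fiberι (IsLocalRing.closedPoint R)).ge hx
  have hιinj : Function.Injective ιs := (f.fiberι (IsLocalRing.closedPoint R)).isEmbedding.injective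
  have hTη0 : ∀ w : X, f w = (genericPoint (Spec (CommRingCat.of R))) → (∀ w', w' ⤳ w → f w' = (genericPoint (Spec (CommRingCat.of R))) → w' = w) → w ∉ CohB1.support T := by
    intro w hw hwmax hsupp
    obtain ⟨w₀, rfl⟩ := (f.range_fiberι (genericPoint (Spec (CommRingCat.of R)))).ge hw
    haveI := hint (genericPoint (Spec (CommRingCat.of R)))
    have hw₀ : w₀ = genericPoint ↥(f.fiber (genericPoint (Spec (CommRingCat.of R)))) := ((f.fiberι (genericPoint (Spec (CommRingCat.of R)))).isEmbedding.injective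
      (hwmax _ ((genericPoint_specializes w₀).map (f.fiberι (genericPoint (Spec (CommRingCat.of R)))).continuous)
        ((f.range_fiberι (genericPoint (Spec (CommRingCat.of R)))).le ⟨_, rfl⟩))).symm
    have hsub : w₀ ∈ CohB1.support ((Scheme.Modules.pullback (f.fiberι (genericPoint (Spec (CommRingCat.of R))))).obj T) := by
      rw [Coherent.support_pullback_qcoh (f := f.fiberι (genericPoint (Spec (CommRingCat.of R)))) hTc.1 hTc.2]
      exact hsupp
    subst hw₀
    refine hsub (subsingleton_of_forall_eq 0 fun m => ?_)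
    obtain ⟨r, hr⟩ := @hTη (genericPoint ↥(f.fiber (genericPoint (Spec (CommRingCat.of R))))) m
    have hu : IsUnit (r : (f.fiber (genericPoint (Spec (CommRingCat.of R)))).presheaf.stalk (genericPoint ↥(f.fiber (genericPoint (Spec (CommRingCat.of R)))))) :=
      (show IsUnit (show (f.fiber (genericPoint (Spec (CommRingCat.of R)))).functionField from r.1) from
        isUnit_iff_ne_zero.2 (nonZeroDivisors.ne_zero r.2))
    exact hu.smul_eq_zero.1 hr
  -- socle points of `T` over the generic fibre specialise to socle points of the special fibre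
  have hspec : ∀ z : X, f z = (genericPoint (Spec (CommRingCat.of R))) → HasSoc (X.presheaf.stalk z) (T.presheaf.stalk z) → ∀ x : X, z ⤳ x → f x = (IsLocalRing.closedPoint R) →
      (∀ x', z ⤳ x' → x' ⤳ x → f x' = (IsLocalRing.closedPoint R) → x' = x) → ∀ y : ↥(f.fiber (IsLocalRing.closedPoint R)), ιs y = x →
      HasSoc ((f.fiber (IsLocalRing.closedPoint R)).presheaf.stalk y) (Ts.presheaf.stalk y) := by
    intro z hz hsoc x hzx hx hxmin y hy
    subst hy
    obtain ⟨P, hP⟩ : z ∈ Set.range (X.fromSpecStalk (ιs y)) := by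
      rw [Scheme.range_fromSpecStalk]; exact hzx
    subst hP
    letI := (X.presheaf.stalkSpecializes (CycLim28.fromSpecStalk_specializes (ιs y) P)).hom.toAlgebra
    letI := Module.compHom (T.presheaf.stalk (X.fromSpecStalk (ιs y) P))
      (X.presheaf.stalkSpecializes (CycLim28.fromSpecStalk_specializes (ιs y) P)).hom
    haveI : IsScalarTower (X.presheaf.stalk (ιs y)) (X.presheaf.stalk (X.fromSpecStalk (ιs y) P))
        (T.presheaf.stalk (X.fromSpecStalk (ιs y) P)) := IsScalarTower.of_algebraMap_smul fun _ _ => rfl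
    haveI := CycLib28.isLocalization_fromSpecStalk (ιs y) P
    haveI := P.2
    obtain ⟨ρ, -, hρ⟩ := CycLib28.isLocalizedModule_stalkSpecializes hTc.1 (ιs y) P
    have hass : IsAssociatedPrime P.asIdeal (T.presheaf.stalk (ιs y)) := by
      have h1 : IsLocalRing.maximalIdeal (X.presheaf.stalk (X.fromSpecStalk (ιs y) P)) ∈
          associatedPrimes (X.presheaf.stalk (X.fromSpecStalk (ιs y) P))
            (T.presheaf.stalk (X.fromSpecStalk (ιs y) P)) :=
        (isAssociatedPrime_iff_hasSoc (O := X.presheaf.stalk (X.fromSpecStalk (ιs y) P))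
          Function.surjective_id).2 hsoc
      have h2 := Module.associatedPrimes.comap_mem_associatedPrimes_of_mem_associatedPrimes_of_isLocalizedModule_of_fg
        P.asIdeal.primeCompl ρ _ h1 (IsNoetherian.noetherian _)
      rwa [show Ideal.comap (algebraMap (X.presheaf.stalk (ιs y)) _)
        (IsLocalRing.maximalIdeal (X.presheaf.stalk (X.fromSpecStalk (ιs y) P))) = P.asIdeal from
          (congrArg PrimeSpectrum.asIdeal (CycLib28.eq_comap_closedPoint (ιs y) P)).symm] at h2
    haveI : Module.Finite (X.presheaf.stalk (ιs y)) (T.presheaf.stalk (ιs y)) :=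
      FlatMor12.IsoLocusMod.finite_stalk hTc.2 (ιs y)
    have hgm : X.presheaf.germ ⊤ (ιs y) trivial g ∈ IsLocalRing.maximalIdeal (X.presheaf.stalk (ιs y)) :=
      (IsLocalRing.mem_maximalIdeal _).2 fun hu =>
        ((hgX (ιs y)).1 ((Scheme.mem_basicOpen_top X g (ιs y)).2 hu)) hx
    have hquot := hasSoc_quot hgm (hreg (ιs y) hx) hass fun Q hQ hPQ hgQ => by
      let Q' : PrimeSpectrum (X.presheaf.stalk (ιs y)) := ⟨Q, hQ⟩
      have hQs : f (X.fromSpecStalk (ιs y) Q') = (IsLocalRing.closedPoint R) := by_contra fun h =>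
        (fromSpecStalk_mem_basicOpen (ιs y) g Q').1 ((hgX _).2 h) hgQ
      have h3 := hxmin _ (((PrimeSpectrum.le_iff_specializes P Q').1 hPQ).map
        (X.fromSpecStalk (ιs y)).continuous) (CycLim28.fromSpecStalk_specializes (ιs y) Q') hQs
      exact congrArg PrimeSpectrum.asIdeal
        (CycLim28.fromSpecStalk_injective (ιs y) (h3.trans Scheme.fromSpecStalk_closedPoint.symm))
    refine (mem_relAss_fiberι_iff f T (IsLocalRing.closedPoint R) y).1 ?_
    show IsAssociatedPrime (IsLocalRing.maximalIdeal (X.presheaf.stalk (ιs y)))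
      ((T.presheaf.stalk (ιs y)) ⧸ ((Ideal.map (f.stalkMap (ιs y)).hom _) •
        (⊤ : Submodule (X.presheaf.stalk (ιs y)) (T.presheaf.stalk (ιs y)))))
    rw [hJ (ιs y) hx]
    exact (isAssociatedPrime_iff_hasSoc (O := X.presheaf.stalk (ιs y)) Function.surjective_id).2 hquot
  have hmaxgen : ∀ x : X, x ∈ CohB1.support T → ∃ z : X, z ⤳ x ∧ z ∈ CohB1.support T ∧ f z = (genericPoint (Spec (CommRingCat.of R))) ∧
      HasSoc (X.presheaf.stalk z) (T.presheaf.stalk z) := by
    intro x hx
    have hcl : IsClosed (CohB1.support T) := Coherent.isClosed_support _ (Coherent.locallyFinGen_of_isFT _ hTc.2)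
    obtain ⟨C, hC, hxC⟩ := exists_mem_irreducibleComponents_subset_of_isIrreducible
      ({(⟨x, hx⟩ : ↥(CohB1.support T))} : Set ↥(CohB1.support T)) isIrreducible_singleton
    obtain ⟨z, hzg⟩ := QuasiSober.sober (hC.1.image _ continuous_subtype_val.continuousOn)
      (hcl.isClosedEmbedding_subtypeVal.isClosedMap _ (isClosed_of_mem_irreducibleComponents C hC))
    obtain ⟨z₀, hz₀, rfl⟩ : ∃ z₀ ∈ C, Subtype.val z₀ = z := hzg.mem
    have hmax : ∀ z' : X, z' ⤳ (z₀ : X) → z' ∈ CohB1.support T → z' = z₀ := by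
      intro z' hz' hz'S
      have hsub : C ⊆ closure {(⟨z', hz'S⟩ : ↥(CohB1.support T))} := fun c hc =>
        ((subtype_specializes_iff (⟨z', hz'S⟩ : ↥(CohB1.support T)) c).2
          (hz'.trans (hzg.specializes (Set.mem_image_of_mem _ hc)))).mem_closure
      have hmem : (⟨z', hz'S⟩ : ↥(CohB1.support T)) ∈ C :=
        hC.2 isIrreducible_singleton.closure hsub (subset_closure rfl)
      exact (hz'.antisymm (hzg.specializes (Set.mem_image_of_mem _ hmem))).eq
    have hsoc := hasSoc_of_maximal hTc (𝟙 T) z₀.2 hmax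
    refine ⟨z₀, hzg.specializes ⟨_, hxC rfl, rfl⟩, z₀.2, ?_, hsoc⟩
    refine (hdvr z₀).resolve_left fun h => ?_
    obtain ⟨v, hv, hk⟩ := hsoc
    exact hv (hreg _ h v (hk _ ((IsLocalRing.mem_maximalIdeal _).2 fun hu =>
      (hgX z₀).1 ((Scheme.mem_basicOpen_top X g (z₀ : X)).2 hu) h)))
  have hTsξ : ξ ∉ CohB1.support Ts := by
    intro hξ
    have hξT : ιs ξ ∈ CohB1.support T := by
      rw [Coherent.support_pullback_qcoh (f := ιs) hTc.1 hTc.2] at hξ; exact hξ
    obtain ⟨z, hzx, hzT, hzη, -⟩ := hmaxgen _ hξT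
    refine hTη0 z hzη (fun w hwz hwη => ?_) hzT
    obtain ⟨Q, hQ⟩ : w ∈ Set.range (X.fromSpecStalk (ιs ξ)) := by
      rw [Scheme.range_fromSpecStalk]; exact hwz.trans hzx
    obtain ⟨P, hP⟩ : z ∈ Set.range (X.fromSpecStalk (ιs ξ)) := by
      rw [Scheme.range_fromSpecStalk]; exact hzx
    subst hP; subst hQ
    have hQP : Q.asIdeal ≤ P.asIdeal := (PrimeSpectrum.le_iff_specializes Q P).2
      ((X.fromSpecStalk (ιs ξ)).isEmbedding.isInducing.specializes_iff.1 hwz)
    rcases hQP.eq_or_lt with h | h
    · rw [PrimeSpectrum.ext h]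
    exfalso
    have hgP : X.presheaf.germ ⊤ (ιs ξ) trivial g ∉ P.asIdeal :=
      (fromSpecStalk_mem_basicOpen (ιs ξ) g P).1 ((hgX _).2 (hzη ▸ hne))
    have hgm : X.presheaf.germ ⊤ (ιs ξ) trivial g ∈ IsLocalRing.maximalIdeal (X.presheaf.stalk (ιs ξ)) :=
      (IsLocalRing.mem_maximalIdeal _).2 fun hu =>
        ((hgX (ιs ξ)).1 ((Scheme.mem_basicOpen_top X g (ιs ξ)).2 hu)) hξs
    have hmin : IsLocalRing.maximalIdeal (X.presheaf.stalk (ιs ξ)) ∈
        (Ideal.span {X.presheaf.germ ⊤ (ιs ξ) trivial g}).minimalPrimes := by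
      refine ⟨⟨inferInstance, Ideal.span_le.2 (Set.singleton_subset_iff.2 hgm)⟩, fun J hJ hJle => ?_⟩
      let J' : PrimeSpectrum (X.presheaf.stalk (ιs ξ)) := ⟨J, hJ.1⟩
      have hJs : f (X.fromSpecStalk (ιs ξ) J') = (IsLocalRing.closedPoint R) := by_contra fun h =>
        (fromSpecStalk_mem_basicOpen (ιs ξ) g J').1 ((hgX _).2 h) (hJ.2 (Ideal.subset_span rfl))
      obtain ⟨a', ha'⟩ := hfib _ hJs
      have h1 : a' ⤳ ξ := ιs.isEmbedding.isInducing.specializes_iff.1
        (ha' ▸ CycLim28.fromSpecStalk_specializes (ιs ξ) J')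
      have h2 : X.fromSpecStalk (ιs ξ) J' = ιs ξ := by
        rw [← ha', (h1.antisymm (genericPoint_specializes a')).eq]
      exact (congrArg PrimeSpectrum.asIdeal (CycLim28.fromSpecStalk_injective (ιs ξ)
        (h2.trans Scheme.fromSpecStalk_closedPoint.symm))).ge
    have hht := Ideal.height_le_one_of_isPrincipal_of_mem_minimalPrimes _ _ hmin
    haveI := P.2
    haveI := Q.2
    have h1 := Ideal.height_strict_mono_of_isPrime h
    have h2 := Ideal.height_strict_mono_of_isPrime
      (lt_of_le_of_ne (IsLocalRing.le_maximalIdeal P.2.ne_top) fun e => hgP (e ▸ hgm))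
    have h3 : P.asIdeal.height = 0 := by
      by_contra h0
      exact absurd (h2.trans_le hht) (not_lt.2 (Order.one_le_iff_ne_zero.2 h0))
    exact not_lt_zero (h3 ▸ h1)
  -- the composite to the ideal vanishes
  have hq0 : ts ≫ q = 0 := by
    haveI : Mono (ClSub.idealModι Ws) := AmpleLib.mono_idealModι Ws
    refine (cancel_mono (ClSub.idealModι Ws)).1 ?_
    rw [Limits.zero_comp]
    refine VarietyLib.eq_zero_of_stalks _ fun y v => ?_
    let φ := (ts ≫ q) ≫ ClSub.idealModι Ws
    obtain ⟨Q, hQ⟩ : ξ ∈ Set.range ((f.fiber (IsLocalRing.closedPoint R)).fromSpecStalk y) := by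
      rw [Scheme.range_fromSpecStalk]; exact genericPoint_specializes y
    letI := Module.compHom ((Coh.structureModule (f.fiber (IsLocalRing.closedPoint R))).presheaf.stalk ((f.fiber (IsLocalRing.closedPoint R)).fromSpecStalk y Q))
      ((f.fiber (IsLocalRing.closedPoint R)).presheaf.stalkSpecializes (CycLim28.fromSpecStalk_specializes y Q)).hom
    obtain ⟨ρ, hρ', hρ⟩ := CycLib28.isLocalizedModule_stalkSpecializes
      (Coherent.CohBC.isCoh_of_isFinLocFree (Coherent.isFinLocFree_of_invertible
        (AmpleLib.isInvertible_structureModule))).1 y Q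
    haveI hsub : Subsingleton (Ts.presheaf.stalk ((f.fiber (IsLocalRing.closedPoint R)).fromSpecStalk y Q)) := by
      rw [hQ]; exact not_not.1 hTsξ
    let w₀ : (Coh.structureModule (f.fiber (IsLocalRing.closedPoint R))).presheaf.stalk y := (DerSch.stalkFunctor (f.fiber (IsLocalRing.closedPoint R)) y).map φ v
    have h0 : ρ w₀ = 0 := by
      rw [hρ']
      refine (ConcreteCategory.congr_hom (TopCat.Presheaf.stalkSpecializes_stalkFunctor_map φ.mapPresheaf
        (CycLim28.fromSpecStalk_specializes y Q)) v).symm.trans ?_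
      exact (congrArg _ (hsub.elim _ 0)).trans ((((TopCat.Presheaf.stalkFunctor Ab.{u} ((f.fiber (IsLocalRing.closedPoint R)).fromSpecStalk y Q)).map φ.mapPresheaf).hom).map_zero)
    obtain ⟨r, hr⟩ := (IsLocalizedModule.eq_zero_iff Q.asIdeal.primeCompl ρ).1 h0
    haveI := Mod22.RankOneSlope.isTorsionFree_of_invertible (AmpleLib.isInvertible_structureModule) y
    exact (smul_eq_zero.1 (show (r : (f.fiber (IsLocalRing.closedPoint R)).presheaf.stalk y) • w₀ = 0 from hr)).resolve_left
      fun h => r.2 (h ▸ zero_mem _)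
  obtain ⟨l, hl⟩ := KernelFork.IsLimit.lift' hex.fIsKernel ts hq0
  haveI hlm : Mono l := mono_of_mono_fac hl
  let ιY := Ys.subschemeι
  let A : Ys.subscheme.Modules := (Scheme.Modules.pullback ιY).obj Ts
  let adj := Scheme.Modules.pullbackPushforwardAdjunction ιY
  let m : A ⟶ Gs := (adj.homEquiv Ts Gs).symm l
  have hm : Coherent.clUnit ιY Ts ≫ (Coh.push ιY).map m = l := by
    have := (adj.homEquiv Ts Gs).apply_symm_apply l
    rw [Adjunction.homEquiv_unit] at this
    exact this
  haveI : Mono (Coherent.clUnit ιY Ts) := mono_of_mono_fac hm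
  haveI : Epi (Coherent.clUnit ιY Ts) := Coherent.epi_clUnit ιY
  haveI : IsIso (Coherent.clUnit ιY Ts) := isIso_of_mono_of_epi _
  haveI : Mono m := by
    haveI : Mono ((Coh.push ιY).map m) := by
      rw [show (Coh.push ιY).map m = inv (Coherent.clUnit ιY Ts) ≫ l from (IsIso.eq_inv_comp _).2 hm]
      infer_instance
    haveI : (Coh.push ιY).Faithful := adj.faithful_R_of_epi_counit_app
    exact (Coh.push ιY).mono_of_mono_map inferInstance
  have hAtf : TorSh.IsTorsionFree A := fun w => by
    haveI : Module.IsTorsionFree (Ys.subscheme.presheaf.stalk w)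
        ((DerSch.stalkFunctor Ys.subscheme w).obj Gs : Type u) := hGt w
    exact ((ModuleCat.mono_iff_injective ((DerSch.stalkFunctor Ys.subscheme w).map m)).1
      inferInstance).moduleIsTorsionFree ((DerSch.stalkFunctor Ys.subscheme w).map m).hom
      (fun _ _ => map_smul _ _ _)
  have hsocY : ∀ y : ↥(f.fiber (IsLocalRing.closedPoint R)), HasSoc ((f.fiber (IsLocalRing.closedPoint R)).presheaf.stalk y) (Ts.presheaf.stalk y) →
      y = ιY (genericPoint Ys.subscheme) := fun y hy =>
    eq_image_generic_of_soc ιY hAtf (hasSoc_of_injective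
      ((DerSch.stalkFunctor (f.fiber (IsLocalRing.closedPoint R)) y).map (Coherent.clUnit ιY Ts)).hom
      ((ModuleCat.mono_iff_injective ((DerSch.stalkFunctor (f.fiber (IsLocalRing.closedPoint R)) y).map (Coherent.clUnit ιY Ts))).1
        inferInstance) hy)
  have hrangeY : closure ({ιY (genericPoint Ys.subscheme)} : Set ↥(f.fiber (IsLocalRing.closedPoint R))) = Set.range ιY := by
    rw [← Set.image_singleton, ιY.isClosedEmbedding.closure_image_eq, genericPoint_closure, Set.image_univ]
  have hdimY : topologicalKrullDim ↥(Set.range ιY) = (d : WithBot ℕ∞) := by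
    rw [← Set.image_univ, dim_image ιY.isEmbedding]
    exact (IsHomeomorph.topologicalKrullDim_eq _ (Homeomorph.Set.univ _).isHomeomorph).trans hd
  have hTηne : ∃ z : X, z ∈ CohB1.support T ∧ f z = (genericPoint (Spec (CommRingCat.of R))) := by
    by_contra hno
    push Not at hno
    refine hFη fun w => ?_
    have hse : (ShortComplex.mk t (cokernel.π t) (cokernel.condition t)).ShortExact :=
      { exact := ShortComplex.exact_of_g_is_cokernel _ (cokernelIsCokernel t) }
    have hηe := FlatMor12.Cube.shortExact_fiberι f hse hTfp hFfp hFfl hEfl (genericPoint (Spec (CommRingCat.of R)))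
    haveI : Module.IsTorsionFree ((f.fiber (genericPoint (Spec (CommRingCat.of R)))).presheaf.stalk w)
        ((DerSch.stalkFunctor (f.fiber (genericPoint (Spec (CommRingCat.of R)))) w).obj
          ((Scheme.Modules.pullback (f.fiberι (genericPoint (Spec (CommRingCat.of R))))).obj (cokernel t)) : Type u) := hEη w
    have hT0 : Subsingleton (((Scheme.Modules.pullback (f.fiberι (genericPoint (Spec (CommRingCat.of R))))).obj T).presheaf.stalk w) :=
      not_not.1 fun hn => by
        have : w ∈ CohB1.support ((Scheme.Modules.pullback (f.fiberι (genericPoint (Spec (CommRingCat.of R))))).obj T) := hn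
        rw [Coherent.support_pullback_qcoh (f := f.fiberι (genericPoint (Spec (CommRingCat.of R)))) hTc.1 hTc.2] at this
        exact hno _ this ((f.range_fiberι (genericPoint (Spec (CommRingCat.of R)))).le ⟨w, rfl⟩)
    have hst := hηe.map_of_exact (DerSch.stalkFunctor (f.fiber (genericPoint (Spec (CommRingCat.of R)))) w)
    refine Function.Injective.moduleIsTorsionFree
      ((DerSch.stalkFunctor (f.fiber (genericPoint (Spec (CommRingCat.of R)))) w).map ((Scheme.Modules.pullback (f.fiberι (genericPoint (Spec (CommRingCat.of R))))).map (cokernel.π t))).hom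
      ((injective_iff_map_eq_zero _).2 fun v hv => ?_) (fun _ _ => map_smul _ _ _)
    obtain ⟨u, rfl⟩ := (ShortComplex.moduleCat_exact_iff _).1 hst.exact v hv
    have hu : u = 0 := @Subsingleton.elim _ hT0 u 0
    rw [hu, map_zero]
    rfl
  have hclosed : ∀ z : X, f z = (genericPoint (Spec (CommRingCat.of R))) → ∀ x : X, z ⤳ x → f x = (IsLocalRing.closedPoint R) → ∃ x', x' ⤳ x ∧ z ⤳ x' ∧ f x' = (IsLocalRing.closedPoint R) ∧
      ∀ x'', z ⤳ x'' → x'' ⤳ x' → f x'' = (IsLocalRing.closedPoint R) → x'' = x' := by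
    intro z _ x hzx hx
    let S₀ : Set X := closure {z} ∩ f ⁻¹' {(IsLocalRing.closedPoint R)}
    have hS₀ : IsClosed S₀ := isClosed_closure.inter
      ((IsLocalRing.isClosed_singleton_closedPoint R).preimage f.continuous)
    obtain ⟨C, hC, hxC⟩ := exists_mem_irreducibleComponents_subset_of_isIrreducible
      ({(⟨x, hzx.mem_closure, hx⟩ : ↥S₀)} : Set ↥S₀) isIrreducible_singleton
    obtain ⟨x', hx'g⟩ := QuasiSober.sober (hC.1.image _ continuous_subtype_val.continuousOn)
      (hS₀.isClosedEmbedding_subtypeVal.isClosedMap _ (isClosed_of_mem_irreducibleComponents C hC))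
    obtain ⟨x₀, hx₀, rfl⟩ : ∃ x₀ ∈ C, Subtype.val x₀ = x' := hx'g.mem
    refine ⟨x₀, hx'g.specializes ⟨_, hxC rfl, rfl⟩, specializes_iff_mem_closure.2 x₀.2.1, x₀.2.2,
      fun w hw1 hw2 hw3 => ?_⟩
    let w' : ↥S₀ := ⟨w, hw1.mem_closure, hw3⟩
    have hsub : C ⊆ closure {w'} := fun c hc => ((subtype_specializes_iff w' c).2
      (hw2.trans (hx'g.specializes (Set.mem_image_of_mem _ hc)))).mem_closure
    have hmem : w' ∈ C := hC.2 isIrreducible_singleton.closure hsub (subset_closure rfl)
    exact (hw2.antisymm (hx'g.specializes (Set.mem_image_of_mem _ hmem))).eq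
  have hmeet : ∀ z : X, f z = (genericPoint (Spec (CommRingCat.of R))) → ∃ x : X, z ⤳ x ∧ f x = (IsLocalRing.closedPoint R) := by
    intro z hz
    obtain ⟨x, hx, hxs⟩ : (IsLocalRing.closedPoint R) ∈ f '' closure {z} :=
      (f.isClosedMap _ isClosed_closure).closure_subset_iff.2
        (Set.singleton_subset_iff.2 ⟨z, subset_closure (Set.mem_singleton z), hz⟩)
        (specializes_iff_mem_closure.1 (genericPoint_specializes (IsLocalRing.closedPoint R)))
    exact ⟨x, specializes_iff_mem_closure.2 hx, hxs⟩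
  -- the closed fibre of the closure of a socle point over the generic point
  have hZs : ∀ z : X, f z = (genericPoint (Spec (CommRingCat.of R))) → HasSoc (X.presheaf.stalk z) (T.presheaf.stalk z) →
      closure ({z} : Set X) ∩ f ⁻¹' {(IsLocalRing.closedPoint R)} = ιs '' Set.range ιY ∧
        ιY (genericPoint Ys.subscheme) ∈ CohB1.support Ts := by
    intro z hz hsoc
    have key : ∀ x : X, z ⤳ x → f x = (IsLocalRing.closedPoint R) → ιs (ιY (genericPoint Ys.subscheme)) ⤳ x ∧
        z ⤳ ιs (ιY (genericPoint Ys.subscheme)) ∧ ιY (genericPoint Ys.subscheme) ∈ CohB1.support Ts := by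
      intro x hzx hx
      obtain ⟨x', h1, h2, h3, h4⟩ := hclosed z hz x hzx hx
      obtain ⟨y, rfl⟩ := hfib x' h3
      have hy := hspec z hz hsoc _ h2 h3 h4 y rfl
      obtain rfl := hsocY y hy
      exact ⟨h1, h2, fun hsub => by obtain ⟨v, hv, -⟩ := hy; exact hv (hsub.elim v 0)⟩
    obtain ⟨x, hzx, hx⟩ := hmeet z hz
    refine ⟨Set.ext fun w => ⟨fun hw => ?_, ?_⟩, (key x hzx hx).2.2⟩
    · obtain ⟨hw1, -, -⟩ := key w (specializes_iff_mem_closure.2 hw.1) hw.2
      obtain ⟨b, rfl⟩ := hfib w hw.2
      exact ⟨b, hrangeY ▸ (ιs.isEmbedding.isInducing.specializes_iff.1 hw1).mem_closure, rfl⟩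
    · rintro ⟨b, hb, rfl⟩
      rw [← hrangeY] at hb
      exact ⟨((key x hzx hx).2.1.trans ((specializes_iff_mem_closure.2 hb).map ιs.continuous)).mem_closure,
        (f.range_fiberι (IsLocalRing.closedPoint R)).le ⟨b, rfl⟩⟩
  obtain ⟨z₁, hz₁, hz₁η⟩ := hTηne
  obtain ⟨z₂, -, -, hz₂η, hz₂soc⟩ := hmaxgen z₁ hz₁
  have hgenY := (hZs z₂ hz₂η hz₂soc).2
  have hrank : Module.finrank (Ys.subscheme.presheaf.stalk (genericPoint Ys.subscheme))
      (A.presheaf.stalk (genericPoint Ys.subscheme)) = 1 := by
    have hnt : Nontrivial (A.presheaf.stalk (genericPoint Ys.subscheme)) := by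
      refine not_subsingleton_iff_nontrivial.1 (?_ : genericPoint Ys.subscheme ∈ CohB1.support A)
      rw [Coherent.support_pullback_qcoh (f := ιY) hTsc.1 hTsc.2]
      exact hgenY
    let lin := ((DerSch.stalkFunctor Ys.subscheme (genericPoint Ys.subscheme)).map m).hom
    have hinj : Function.Injective lin := (ModuleCat.mono_iff_injective
      ((DerSch.stalkFunctor Ys.subscheme (genericPoint Ys.subscheme)).map m)).1 inferInstance
    haveI : IsLocallyNoetherian Ys.subscheme := LocallyOfFiniteType.isLocallyNoetherian Ys.subschemeι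
    haveI := hGc.1
    haveI : Module.Finite (Ys.subscheme.presheaf.stalk (genericPoint Ys.subscheme))
        ((DerSch.stalkFunctor Ys.subscheme (genericPoint Ys.subscheme)).obj Gs : Type u) :=
      FlatMor12.IsoLocusMod.finite_stalk hGc.2 _
    haveI : Module.Finite (Ys.subscheme.presheaf.stalk (genericPoint Ys.subscheme))
        (Gs.presheaf.stalk (genericPoint Ys.subscheme)) := FlatMor12.IsoLocusMod.finite_stalk hGc.2 _
    haveI := hAtf (genericPoint Ys.subscheme)
    haveI : IsNoetherian (Ys.subscheme.presheaf.stalk (genericPoint Ys.subscheme))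
        ((DerSch.stalkFunctor Ys.subscheme (genericPoint Ys.subscheme)).obj Gs : Type u) := by
      exact isNoetherian_of_isNoetherianRing_of_finite _ _
    haveI : Module.Finite (Ys.subscheme.presheaf.stalk (genericPoint Ys.subscheme))
        (A.presheaf.stalk (genericPoint Ys.subscheme)) := Module.Finite.of_injective lin hinj
    exact le_antisymm (hGr ▸ LinearMap.finrank_le_finrank_of_injective hinj)
      (Module.finrank_pos (R := Ys.subscheme.presheaf.stalk (genericPoint Ys.subscheme))
        (M := A.presheaf.stalk (genericPoint Ys.subscheme)))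
  refine ⟨⟨A, m, asIso (Coherent.clUnit ιY Ts), inferInstance, hAtf, hrank, ?_⟩, ?_, ?_⟩
  · rw [asIso_hom, ← Category.assoc, hm]; exact hl
  · refine isPure_of_soc Ts d fun y _ hy => ?_
    rw [hsocY y hy, hrangeY, hdimY]
  refine isPure_of_soc _ d fun z₀ _ hz₀ => ?_
  let ιη := f.fiberι (genericPoint (Spec (CommRingCat.of R)))
  have hz : f (ιη z₀) = (genericPoint (Spec (CommRingCat.of R))) := (f.range_fiberι (genericPoint (Spec (CommRingCat.of R)))).le ⟨z₀, rfl⟩
  have hsoc : HasSoc (X.presheaf.stalk (ιη z₀)) (T.presheaf.stalk (ιη z₀)) := by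
    have h1 : IsAssociatedPrime (IsLocalRing.maximalIdeal (X.presheaf.stalk (ιη z₀)))
        ((T.presheaf.stalk (ιη z₀)) ⧸ ((Ideal.map (f.stalkMap (ιη z₀)).hom _) •
          (⊤ : Submodule (X.presheaf.stalk (ιη z₀)) (T.presheaf.stalk (ιη z₀))))) :=
      (mem_relAss_fiberι_iff f T (genericPoint (Spec (CommRingCat.of R))) z₀).2 hz₀
    have h0 : IsLocalRing.maximalIdeal ((Spec (CommRingCat.of R)).presheaf.stalk (f (ιη z₀))) = ⊥ := by
      rw [hz]
      letI : Field ((Spec (CommRingCat.of R)).presheaf.stalk (genericPoint (Spec (CommRingCat.of R)))) :=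
        inferInstanceAs (Field (Spec (CommRingCat.of R)).functionField)
      exact IsLocalRing.maximalIdeal_eq_bot
    rw [h0, Ideal.map_bot, Submodule.bot_smul,
      LinearEquiv.isAssociatedPrime_iff (Submodule.quotEquivOfEqBot ⊥ rfl)] at h1
    exact (isAssociatedPrime_iff_hasSoc (O := X.presheaf.stalk (ιη z₀)) Function.surjective_id).1 h1
  let Z : X.IdealSheafData := Scheme.IdealSheafData.vanishingIdeal ⟨closure {ιη z₀}, isClosed_closure⟩
  let j := Z.subschemeι
  have hj : Set.range j = closure {ιη z₀} := by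
    rw [Scheme.IdealSheafData.range_subschemeι, Scheme.IdealSheafData.coe_support_vanishingIdeal]
    rfl
  haveI : IrreducibleSpace ↥Z.subscheme := by
    have h1 : IsIrreducible (closure ({ιη z₀} : Set X)) := isIrreducible_singleton.closure
    rw [← hj] at h1
    haveI : Nonempty ↥Z.subscheme := by
      obtain ⟨_, b, rfl⟩ := h1.1
      exact ⟨b⟩
    haveI : PreirreducibleSpace ↥Z.subscheme := ⟨by
      intro U V hU hV hU' hV'
      obtain ⟨U', hU'o, rfl⟩ := j.isEmbedding.isInducing.isOpen_iff.1 hU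
      obtain ⟨V', hV'o, rfl⟩ := j.isEmbedding.isInducing.isOpen_iff.1 hV
      obtain ⟨a₁, -, ha₁⟩ := hU'
      obtain ⟨a₂, -, ha₂⟩ := hV'
      obtain ⟨_, ⟨b, rfl⟩, hb⟩ := h1.2 U' V' hU'o hV'o ⟨j a₁, ⟨a₁, rfl⟩, ha₁⟩ ⟨j a₂, ⟨a₂, rfl⟩, ha₂⟩
      exact ⟨b, trivial, hb⟩⟩
    exact ⟨inferInstance⟩
  haveI : IsDominant (j ≫ f) := ⟨fun p => by
    obtain ⟨b, hb⟩ : ιη z₀ ∈ Set.range j := hj.ge (subset_closure rfl)
    refine closure_mono ?_ (specializes_iff_mem_closure.1 (genericPoint_specializes p))
    exact Set.singleton_subset_iff.2 ⟨b, by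
      show f (j b) = (genericPoint (Spec (CommRingCat.of R)))
      rw [hb, hz]⟩⟩
  have hfibre : ∀ p : ↥(Spec (CommRingCat.of R)), topologicalKrullDim ↥((j ≫ f).fiber p) =
      topologicalKrullDim ↥(closure ({ιη z₀} : Set X) ∩ f ⁻¹' {p}) := by
    intro p
    rw [IsHomeomorph.topologicalKrullDim_eq _ ((j ≫ f).fiberHomeo p).isHomeomorph,
      ← dim_image j.isEmbedding, ← hj]
    congr 2 <;>
      exact (Set.image_preimage_eq_range_inter (f := j) (t := f ⁻¹' {p}))
  obtain ⟨x, hzx, hx⟩ := hmeet _ hz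
  obtain ⟨b, hb⟩ : x ∈ Set.range j := hj.ge hzx.mem_closure
  have hdims := EGA43.DimFormula.fiber_dim_eq_of_valuationRing (j ≫ f) b (by
    show f (j b) = (IsLocalRing.closedPoint R)
    rw [hb, hx])
  have h2 := (hfibre _).symm.trans (hdims.trans (hfibre _))
  have h3 := (congrArg (fun S : Set X => topologicalKrullDim ↥S) (hZs _ hz hsoc).1).symm.trans h2
  rw [dim_image ιs.isEmbedding, hdimY] at h3
  rw [h3, ← dim_image ιη.isEmbedding]
  congr 2
  all_goals
    rw [ιη.isEmbedding.isInducing.closure_eq_preimage_closure_image {z₀}, Set.image_singleton,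
      Set.image_preimage_eq_inter_range, f.range_fiberι]

/-- Let R be a discrete valuation ring with closed point s and generic point η, X a smooth proper
projective R-scheme with integral fibres, and F a coherent O_X-module flat over R whose special
fibre F_s is of torsion type — it sits in a short exact sequence 0 → i_*G_s → F_s → I_{W_s} → 0 on
the fibre X_s, where Y_s and W_s are integral closed subschemes of X_s different from X_s, i : Y_s →
X_s is the inclusion, dim Y_s = d and G_s is a coherent torsion-free O_{Y_s}-module of generic rank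
one — while the generic fibre F_η is not torsion-free. Let T ⊆ F be a coherent submodule with T and
F/T flat over R such that T_η is a torsion sheaf and (F/T)_η is torsion-free (so T is the flat
extension of the maximal torsion subsheaf of F_η). Then T_s is isomorphic, compatibly with the maps
to F_s, to i_*A for a torsion-free subsheaf A ⊆ G_s of generic rank one, and T_s and T_η are both
pure of dimension d. (The published construction also asks the determinant of F to be trivial and
Y_s, W_s to lie in one component of the fixed family α; these are not used in the printed proof of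
this lemma and are not assumed.) -/
theorem result (R : Type u) [CommRing R] [IsDomain R] [IsDiscreteValuationRing R]
    (X : Scheme.{u}) [X.Over (Spec (CommRingCat.of R))]
    [IsProper (X ↘ Spec (CommRingCat.of R))] [Smooth (X ↘ Spec (CommRingCat.of R))]
    (hproj : ∃ (m : ℕ) (ι : X ⟶ CohB1.ProjSpace m R), IsClosedImmersion ι ∧
      ι ≫ CohB1.ProjSpace.toSpec m R = X ↘ Spec (CommRingCat.of R))
    (hint : ∀ y : ↥(Spec (CommRingCat.of R)), IsIntegral ((X ↘ Spec (CommRingCat.of R)).fiber y))
    (F : X.Modules) (hFc : Coh.IsCoh F) (hFfl : FlatMod.IsFlatOver (X ↘ Spec (CommRingCat.of R)) F)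
    (Ys Ws : ((X ↘ Spec (CommRingCat.of R)).fiber (IsLocalRing.closedPoint R)).IdealSheafData)
    (hYs : IsIntegral Ys.subscheme) (hYs' : Ys ≠ ⊥) (hWs : IsIntegral Ws.subscheme) (hWs' : Ws ≠ ⊥)
    (d : ℕ) (hd : topologicalKrullDim ↥Ys.subscheme = d)
    (Gs : Ys.subscheme.Modules) (hGc : Coh.IsCoh Gs) (hGt : TorSh.IsTorsionFree Gs)
    (hGr : haveI := hYs; Module.finrank (Ys.subscheme.presheaf.stalk (genericPoint Ys.subscheme))
        (Gs.presheaf.stalk (genericPoint Ys.subscheme)) = 1)
    (a : (Coh.push Ys.subschemeι).obj Gs ⟶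
      (Scheme.Modules.pullback ((X ↘ Spec (CommRingCat.of R)).fiberι (IsLocalRing.closedPoint R))).obj F)
    (q : (Scheme.Modules.pullback ((X ↘ Spec (CommRingCat.of R)).fiberι (IsLocalRing.closedPoint R))).obj F ⟶
      ClSub.idealMod Ws)
    (w : a ≫ q = 0) (hex : (ShortComplex.mk a q w).ShortExact)
    (T : X.Modules) (t : T ⟶ F) [Mono t] (hTc : Coh.IsCoh T)
    (hTfl : FlatMod.IsFlatOver (X ↘ Spec (CommRingCat.of R)) T)
    (hEfl : FlatMod.IsFlatOver (X ↘ Spec (CommRingCat.of R)) (cokernel t))
    (hTη : letI η : ↥(Spec (CommRingCat.of R)) := genericPoint (Spec (CommRingCat.of R))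
      letI Xη := (X ↘ Spec (CommRingCat.of R)).fiber η
      letI Tη := (Scheme.Modules.pullback ((X ↘ Spec (CommRingCat.of R)).fiberι η)).obj T
      ∀ x : ↥Xη, Module.IsTorsion (Xη.presheaf.stalk x) (Tη.presheaf.stalk x))
    (hEη : TorSh.IsTorsionFree
      ((Scheme.Modules.pullback ((X ↘ Spec (CommRingCat.of R)).fiberι
        (genericPoint (Spec (CommRingCat.of R))))).obj (cokernel t)))
    (hFη : ¬ TorSh.IsTorsionFree
      ((Scheme.Modules.pullback ((X ↘ Spec (CommRingCat.of R)).fiberι
        (genericPoint (Spec (CommRingCat.of R))))).obj F)) :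
    letI f := X ↘ Spec (CommRingCat.of R)
    letI s : ↥(Spec (CommRingCat.of R)) := IsLocalRing.closedPoint R
    letI η : ↥(Spec (CommRingCat.of R)) := genericPoint (Spec (CommRingCat.of R))
    (∃ (A : Ys.subscheme.Modules) (m : A ⟶ Gs) (e : (Scheme.Modules.pullback (f.fiberι s)).obj T ≅
        (Coh.push Ys.subschemeι).obj A),
      Mono m ∧ TorSh.IsTorsionFree A ∧
      (haveI := hYs; Module.finrank (Ys.subscheme.presheaf.stalk (genericPoint Ys.subscheme))
        (A.presheaf.stalk (genericPoint Ys.subscheme)) = 1) ∧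
      e.hom ≫ (Coh.push Ys.subschemeι).map m ≫ a = (Scheme.Modules.pullback (f.fiberι s)).map t) ∧
    ShStab.IsPure (f.fiber s) ((Scheme.Modules.pullback (f.fiberι s)).obj T) d ∧
    ShStab.IsPure (f.fiber η) ((Scheme.Modules.pullback (f.fiberι η)).obj T) d := by
  exact main R X (X ↘ Spec (CommRingCat.of R)) hint F hFc hFfl Ys Ws hYs hYs' hWs hWs' d hd Gs hGc hGt hGr a q w hex T t hTc hTfl
    hEfl hTη hEη hFη

end Groth.Agent.S19054
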