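import Groth.Statements.S19055
import Groth.Agent.Mod22.RankOneSlope
import Groth.Agent.Surf15.CurveRestrict
import Groth.Agent.Surf15.NumBridge
import Groth.Agent.Surf15.Divisor
import Groth.Agent.EulerLib.StabBasic
-- import your own Groth.Agent.* helpers here

set_option autoImplicit false
open CategoryTheory CategoryTheory.Limits AlgebraicGeometry
universe u
open NonPure

namespace Groth.Agent.S19055

open CategoryTheory CategoryTheory.Limits AlgebraicGeometry TopologicalSpace
open Groth.Agent.Coherent Groth.Agent.EulerLib Groth.Agent.DimLib Groth.Agent.AmpleLib Groth.Agent.AssSch12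
open Groth.Agent.PicLib Groth.Agent.Mod22 Groth.Agent.Surf15

set_option linter.style.haveILetI false
set_option backward.isDefEq.respectTransparency.types false
set_option maxHeartbeats 1000000

/-- A nonzero map from an invertible module to a torsion-free module of rank one on an integral curve
cannot lower the Euler characteristic. -/
theorem euler_le_of_ne_zero (k : Type u) [Field k] {C : Scheme.{u}} [C.Over (Spec (CommRingCat.of k))]
    [IsProper (C ↘ Spec (CommRingCat.of k))] [IsIntegral C] (hC : topologicalKrullDim C = ((1 : ℕ) : WithBot ℕ∞))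
    {P G : C.Modules} (hP : PicF.IsInvertible P) (hG : Coh.IsCoh G) (hGt : TorSh.IsTorsionFree G)
    (hGr : Module.finrank (C.presheaf.stalk (genericPoint C)) (G.presheaf.stalk (genericPoint C)) = 1)
    (ψ : P ⟶ G) (hψ : ψ ≠ 0) : Curv2.euler k C P ≤ Curv2.euler k C G := by
  haveI := isNoetherian_of_proper (k := k) (X := C)
  haveI := isSeparated_of_proper (X := C) k
  let η := genericPoint C
  let F := DerSch.stalkFunctor C η
  let _ : Field (C.presheaf.stalk η) := inferInstanceAs (Field C.functionField)
  have hPc : Coh.IsCoh P := CohBC.isCoh_of_isFinLocFree (Coherent.isFinLocFree_of_invertible hP)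
  let l : (F.obj P) →ₗ[C.presheaf.stalk η] (F.obj G) := (F.map ψ).hom
  haveI : Module.Finite (C.presheaf.stalk η) (F.obj P) := AssSch12.finite_stalk hPc η
  haveI : Module.Finite (C.presheaf.stalk η) (F.obj G) := AssSch12.finite_stalk hG η
  have hl : l ≠ 0 := fun h => hψ <| by
    have hI : IsZero (Abelian.image ψ) := by
      refine RankOneSlope.isZero_of_torsionFree (isCoh_image ψ hPc hG).1
        (Surf15.isTorsionFree_of_mono (Abelian.image.ι ψ) hGt) fun hη => hη ?_
      refine subsingleton_of_forall_eq 0 fun a => ?_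
      obtain ⟨b, rfl⟩ := (ModuleCat.epi_iff_surjective (F.map (Abelian.factorThruImage ψ))).1 inferInstance a
      refine (ModuleCat.mono_iff_injective (F.map (Abelian.image.ι ψ))).1 inferInstance ?_
      refine ((stalk_comp_apply _ _ _).trans ?_).trans (map_zero _).symm
      rw [Abelian.image.fac]
      exact LinearMap.congr_fun h b
    rw [← Abelian.image.fac ψ, hI.eq_of_tgt (Abelian.factorThruImage ψ) 0, Limits.zero_comp]
  have h1 : Module.finrank (C.presheaf.stalk η) (F.obj P) = 1 := PicTau27.finrank_stalk_invertible hP η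
  have h2 : Module.finrank (C.presheaf.stalk η) (F.obj G) = 1 := hGr
  have hsurj : Function.Surjective l := by
    rw [← LinearMap.range_eq_top]
    apply Submodule.eq_top_of_finrank_eq
    have h3 := Submodule.finrank_le (LinearMap.range l)
    have h4 : Module.finrank (C.presheaf.stalk η) (LinearMap.range l) ≠ 0 := fun h =>
      hl (LinearMap.range_eq_bot.1 (Submodule.finrank_eq_zero.1 h))
    omega
  have hinj : Function.Injective l :=
    (LinearMap.injective_iff_surjective_of_finrank_eq_finrank (h1.trans h2.symm)).2 hsurj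
  haveI : Mono ψ := Preadditive.mono_of_isZero_kernel _ (RankOneSlope.isZero_of_torsionFree
    (isCoh_kernel ψ hPc hG.1).1
    (Surf15.isTorsionFree_of_mono (kernel.ι ψ) (RankOneSlope.isTorsionFree_of_invertible hP))
    fun hη => hη (subsingleton_of_forall_eq 0 fun a => by
      refine (ModuleCat.mono_iff_injective (F.map (kernel.ι ψ))).1 inferInstance
        ((hinj ?_).trans (map_zero _).symm)
      rw [map_zero]
      refine (stalk_comp_apply _ _ _).trans ?_
      rw [kernel.condition]
      exact stalk_zero_apply _))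
  have hQ : Coh.IsCoh (cokernel ψ) := isCoh_cokernel ψ hPc.1 hG
  have hη : η ∉ CohB1.support (cokernel ψ) := fun h => h (subsingleton_of_forall_eq 0 fun a => by
    obtain ⟨b, rfl⟩ := (ModuleCat.epi_iff_surjective (F.map (cokernel.π ψ))).1 inferInstance a
    obtain ⟨c, rfl⟩ := hsurj b
    refine (stalk_comp_apply _ _ _).trans ?_
    rw [cokernel.condition]
    exact stalk_zero_apply _)
  have hlt : topologicalKrullDim (CohB1.support (cokernel ψ)) < ((1 : ℕ) : WithBot ℕ∞) :=
    dim_lt_of_notMem (isClosed_support _ (locallyFinGen_of_isFT _ hQ.2)) (Set.subset_univ _)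
      isClosed_univ (genericPoint_spec C : closure ({η} : Set C) = Set.univ) hη
      ((Homeomorph.Set.univ C).isHomeomorph.topologicalKrullDim_eq.le.trans hC.le)
  have hadd := euler_additive k C _ (shortExact_cokernel ψ) hPc hG hQ
  change Curv2.euler k C G = Curv2.euler k C P + Curv2.euler k C (cokernel ψ) at hadd
  haveI := hQ.1
  have hnn : 0 ≤ Curv2.euler k C (cokernel ψ) := by
    rw [euler_eq_sum k C (cokernel ψ) 0 fun q hq =>
      subsingleton_HH_of_support ⟨_, isClosed_support _ (locallyFinGen_of_isFT _ hQ.2)⟩ _ hQ.1 subset_rfl q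
        (hlt.trans_le (by exact_mod_cast hq))]
    simp
  omega

/-- Let K be an algebraically closed field and X a smooth projective surface over K — an integral
K-scheme, smooth, proper and projective over K, of dimension 2 — polarised by an invertible ample
O_X-module L. Let C₁, C₂ ⊆ X be closed subschemes which are integral of dimension one, with
intersection number I = C₁ · C₂ (computed as χ(O_X) − χ(I_{C₁}) − χ(I_{C₂}) + χ(I_{C₁} ⊗ I_{C₂})),
and let ℓ be a natural number with I < ℓ. If G is a coherent torsion-free O_{C₂}-module of generic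
rank one whose Hilbert polynomial with respect to L|_{C₂} is P_{O_{C₂}} − ℓ, then every morphism of
O_X-modules I_{C₁} → i_*G is zero, i : C₂ → X being the inclusion. (This is the verification, at the
start of the printed proof, that a family of integral curves with constant intersection number I(α)
< ℓ satisfies part (2) of condition (†); the contraction statement of the result itself rests on the
existence of the good moduli space and is not restated.) -/
theorem result
    (K : Type u) [Field K] [IsAlgClosed K] (X : Scheme.{u}) [X.Over (Spec (CommRingCat.of K))]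
    [IsIntegral X] [Smooth (X ↘ Spec (CommRingCat.of K))] [IsProper (X ↘ Spec (CommRingCat.of K))]
    (hproj : ∃ (n : ℕ) (ι : X ⟶ CohB1.ProjSpace n K), IsClosedImmersion ι ∧
      ι ≫ CohB1.ProjSpace.toSpec n K = X ↘ Spec (CommRingCat.of K))
    (hdim : topologicalKrullDim X = 2)
    (L : X.Modules) (hLi : PicF.IsInvertible L) (hLa : CohB1.IsAmple L)
    (C₁ C₂ : X.IdealSheafData) [IsIntegral C₁.subscheme] [IsIntegral C₂.subscheme]
    (hC₁ : topologicalKrullDim ↥C₁.subscheme = 1) (hC₂ : topologicalKrullDim ↥C₂.subscheme = 1)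
    (ℓ : ℕ)
    (hℓ : FGA.intNum K X 2 (fun i : Fin 2 => if i = 0 then ClSub.idealMod C₁ else ClSub.idealMod C₂)
      (Coh.structureModule X) < (ℓ : ℤ))
    (G : C₂.subscheme.Modules) (hGc : Coh.IsCoh G) (hGt : TorSh.IsTorsionFree G)
    (hGr : Module.finrank (C₂.subscheme.presheaf.stalk (genericPoint C₂.subscheme))
        (G.presheaf.stalk (genericPoint C₂.subscheme)) = 1)
    (hGP : letI : C₂.subscheme.Over (Spec (CommRingCat.of K)) := ⟨C₂.subschemeι ≫ (X ↘ Spec (CommRingCat.of K))⟩
       ∃ P : Polynomial ℚ,
        ShStab.IsHilbPoly K C₂.subscheme ((Scheme.Modules.pullback C₂.subschemeι).obj L)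
          (Coh.structureModule C₂.subscheme) P ∧
        ShStab.IsHilbPoly K C₂.subscheme ((Scheme.Modules.pullback C₂.subschemeι).obj L) G
          (P - Polynomial.C (ℓ : ℚ)))
    (φ : ClSub.idealMod C₁ ⟶ (Coh.push C₂.subschemeι).obj G) : φ = 0 := by
  by_contra hφ
  haveI := isNoetherian_of_proper (k := K) (X := X)
  have hX : topologicalKrullDim X = ((2 : ℕ) : WithBot ℕ∞) := hdim
  have hreg : ∀ x : X, IsRegularLocalRing (X.presheaf.stalk x) := fun x =>
    VarietyLib.isRegularLocalRing_stalk_of_smooth K X (X ↘ Spec (CommRingCat.of K)) x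
  have hsupp : ∀ C : X.IdealSheafData, topologicalKrullDim ↥C.subscheme = 1 →
      topologicalKrullDim (C.support : Set X) = ((1 : ℕ) : WithBot ℕ∞) := fun C h => by
    rw [← C.range_subschemeι, ← C.subschemeι.isClosedEmbedding.isEmbedding.toHomeomorph.isHomeomorph.topologicalKrullDim_eq, h]
    rfl
  have hE₁ := isEffCartier_curve K hX hreg C₁ (hsupp C₁ hC₁)
  have hE₂ := isEffCartier_curve K hX hreg C₂ (hsupp C₂ hC₂)
  have hI₁ := FlatMor12.IdealModGen.isInvertible_idealMod C₁ hE₁
  have hI₂ := FlatMor12.IdealModGen.isInvertible_idealMod C₂ hE₂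
  rw [show (fun i : Fin 2 => if i = 0 then ClSub.idealMod C₁ else ClSub.idealMod C₂) =
      ![ClSub.idealMod C₁, ClSub.idealMod C₂] by funext i; fin_cases i <;> simp,
    intNum_eq_B K hX.le hI₁ hI₂] at hℓ
  let i := C₂.subschemeι
  letI : C₂.subscheme.Over (Spec (CommRingCat.of K)) := ⟨i ≫ (X ↘ Spec (CommRingCat.of K))⟩
  haveI : IsProper (C₂.subscheme ↘ Spec (CommRingCat.of K)) :=
    inferInstanceAs (IsProper (i ≫ (X ↘ Spec (CommRingCat.of K))))
  let P' := (Scheme.Modules.pullback i).obj (ClSub.idealMod C₁)
  have hP' : PicF.IsInvertible P' := PicLoc.isInvertible_pullback i hI₁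
  let adj := Scheme.Modules.pullbackPushforwardAdjunction i
  let ψ : P' ⟶ G := (adj.homEquiv _ _).symm φ
  have hψ : ψ ≠ 0 := fun h => hφ (by
    have h' := congrArg (adj.homEquiv _ _) h
    rw [Equiv.apply_symm_apply] at h'
    rw [h', adj.homEquiv_unit, Functor.map_zero, Limits.comp_zero])
  have hle := euler_le_of_ne_zero K hC₂ hP' hGc hGt hGr ψ hψ
  have hdeg := deg_pullback_eq K i hI₁
  rw [C₂.ker_subschemeι, deg_quotMod K hE₂, B_comm K] at hdeg
  simp only [Curv2.deg, Nat.cast_one, one_mul] at hdeg
  obtain ⟨P, hP, hPG⟩ := hGP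
  have e0 : ∀ F : C₂.subscheme.Modules,
      Curv2.euler K C₂.subscheme (ShStab.twist C₂.subscheme ((Scheme.Modules.pullback i).obj L) F 0) =
        Curv2.euler K C₂.subscheme F := fun F =>
    euler_congr K C₂.subscheme (AmpleLib.tensorComm _ _ ≪≫ unitTensorIso F)
  have h1 := hP 0
  have h2 := hPG 0
  rw [e0] at h1 h2
  rw [Polynomial.eval_sub, Polynomial.eval_C, ← h1] at h2
  have h3 : Curv2.euler K C₂.subscheme G =
      Curv2.euler K C₂.subscheme (Coh.structureModule C₂.subscheme) - (ℓ : ℤ) := by exact_mod_cast h2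
  have h4 : B K (InvCl.mk (ClSub.idealMod C₁) hI₁) (clI' C₂ hE₂) =
      B K (InvCl.mk (ClSub.idealMod C₁) hI₁) (InvCl.mk (ClSub.idealMod C₂) hI₂) := rfl
  have hdeg' : Curv2.euler K C₂.subscheme P' - Curv2.euler K C₂.subscheme (Coh.structureModule C₂.subscheme) =
      -B K (InvCl.mk (ClSub.idealMod C₁) hI₁) (clI' C₂ hE₂) := hdeg
  omega

end Groth.Agent.S19055
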