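import Groth.Statements.S19057
import Groth.Agent.Mod22.PointsIdeal
import Groth.Agent.Surf15.HomShIso
import Groth.Agent.Coherent.InternalHomAdj
-- import your own Groth.Agent.* helpers here

set_option autoImplicit false
open CategoryTheory CategoryTheory.Limits AlgebraicGeometry
universe u
open NonPure
open Groth.Agent

namespace Groth.Agent.S19057

theorem nonempty_sheafHom_ddual {X : Scheme.{u}} (W : X.Modules) [DCoh.HasSheafHom W]
    [DCoh.HasSheafHom ((DCoh.sheafHom W).obj (Coh.structureModule X))] :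
    Nonempty ((DCoh.sheafHom ((DCoh.sheafHom W).obj (Coh.structureModule X))).obj (Coh.structureModule X) ≅
      RefHull.ddual W) := by
  obtain ⟨h1⟩ := Surf15.nonempty_homSh_iso W (Coh.structureModule X)
  let e1 : (DCoh.sheafHom W).obj (Coh.structureModule X) ≅ RefHull.dual W :=
    (Coherent.sheafHomIso W).app (Coh.structureModule X) ≪≫ h1.symm
  obtain ⟨h2⟩ := Surf15.nonempty_homSh_iso ((DCoh.sheafHom W).obj (Coh.structureModule X)) (Coh.structureModule X)
  exact ⟨(Coherent.sheafHomIso _).app (Coh.structureModule X) ≪≫ h2.symm ≪≫ RefFun.dualIso e1⟩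

/-- Let K be a field and X an integral K-scheme which is smooth, proper, projective and geometrically
irreducible over K, of dimension at least 2, polarised by an invertible ample O_X-module L; let ℓ ≥
1. Let F be a coherent torsion-free O_X-module whose double dual Hom(Hom(F, O_X), O_X) is isomorphic
to O_X (the sheaf Hom functors Hom(M, −) are taken as right adjoints of M ⊗ −; their existence is
the stated instance hypothesis and holds) and whose Hilbert polynomial with respect to L is P_{O_X}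
− ℓ. Then there is a closed subscheme Z ⊆ X, finite locally free of degree ℓ over K, with F ≅ I_Z,
and Z is unique: two such subschemes of degree ℓ with isomorphic ideal sheaves coincide. (The
published statement is the isomorphism of stacks ψ : Hilb^ℓ(X) × B𝔾_m → Coh^tf(X)_{O_X,P_ℓ}; this
row is its shadow on K-valued points — every torsion-free sheaf with trivial determinant and Hilbert
polynomial P_ℓ is the ideal sheaf of a unique length-ℓ subscheme — with triviality of the
determinant expressed, for a torsion-free sheaf of rank one on a smooth variety, as triviality of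
the reflexive hull.) -/
theorem result
    (K : Type u) [Field K] (X : Scheme.{u}) [X.Over (Spec (CommRingCat.of K))]
    [IsIntegral X] [Smooth (X ↘ Spec (CommRingCat.of K))] [IsProper (X ↘ Spec (CommRingCat.of K))]
    [GeometricallyIrreducible (X ↘ Spec (CommRingCat.of K))]
    (hproj : ∃ (n : ℕ) (ι : X ⟶ CohB1.ProjSpace n K), IsClosedImmersion ι ∧
      ι ≫ CohB1.ProjSpace.toSpec n K = X ↘ Spec (CommRingCat.of K))
    (hdim : 2 ≤ topologicalKrullDim X)
    (L : X.Modules) (hLi : PicF.IsInvertible L) (hLa : CohB1.IsAmple L)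
    (ℓ : ℕ) (hℓ : 0 < ℓ)
    (F : X.Modules) (hFc : Coh.IsCoh F) (hFt : TorSh.IsTorsionFree F)
    [DCoh.HasSheafHom F] [DCoh.HasSheafHom ((DCoh.sheafHom F).obj (Coh.structureModule X))]
    (hdet : Nonempty ((DCoh.sheafHom ((DCoh.sheafHom F).obj (Coh.structureModule X))).obj
      (Coh.structureModule X) ≅ Coh.structureModule X))
    (hFP : ∃ P : Polynomial ℚ, ShStab.IsHilbPoly K X L (Coh.structureModule X) P ∧
      ShStab.IsHilbPoly K X L F (P - Polynomial.C (ℓ : ℚ))) :
    (∃ Z : X.IdealSheafData, Mor2.IsFinLocFreeOfDeg ℓ (Z.subschemeι ≫ (X ↘ Spec (CommRingCat.of K))) ∧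
      Nonempty (F ≅ ClSub.idealMod Z)) ∧
    (∀ Z Z' : X.IdealSheafData, Mor2.IsFinLocFreeOfDeg ℓ (Z.subschemeι ≫ (X ↘ Spec (CommRingCat.of K))) →
      Mor2.IsFinLocFreeOfDeg ℓ (Z'.subschemeι ≫ (X ↘ Spec (CommRingCat.of K))) →
      Nonempty (ClSub.idealMod Z ≅ ClSub.idealMod Z') → Z = Z') := by
  haveI := EulerLib.isNoetherian_of_proper (k := K) (X := X)
  obtain ⟨e⟩ := hdet
  obtain ⟨d⟩ := nonempty_sheafHom_ddual F
  haveI := Mod22.RankOneHull.mono_bidual hFc hFt
  haveI : Coh.IsQCoh F := hFc.1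
  obtain ⟨Z, ⟨α⟩⟩ := Mod22.PointsIdeal.exists_idealMod_of_mono (RefHull.bidualMap F ≫ (d.symm ≪≫ e).hom)
  obtain ⟨P, hPO, hPF⟩ := hFP
  have hQ : Coh.IsCoh (ClSub.quotMod Z) := CurveRR24.isCoh_quotMod Z
  have hPQ := EulerLib.isHilbPoly_hp K hLa (ClSub.quotMod Z) hQ
  have hsum := EulerLib.hilb_ses K hLa (CurveRR24.shortExact_ideal Z) (CurveRR24.isCoh_idealMod' Z)
    (Coherent.isCoh_structureModule X) hQ (EulerLib.isHilbPoly_iso K α hPF) hPO hPQ
  have hC : EulerLib.hp K hLa (ClSub.quotMod Z) hQ = Polynomial.C (ℓ : ℚ) := by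
    linear_combination (norm := ring_nf) -hsum
  rw [hC] at hPQ
  refine ⟨⟨Z, (Mod22.PointsIdeal.isFinLocFreeOfDeg_of_hilbPoly K hLa Z ℓ hPQ).2, ⟨α⟩⟩, fun Z₁ Z₂ h₁ h₂ hiso => ?_⟩
  have hfin : ∀ W : X.IdealSheafData, Mor2.IsFinLocFreeOfDeg ℓ (W.subschemeι ≫ (X ↘ Spec (CommRingCat.of K))) →
      (W.support : Set X).Finite := fun W hW => by
    haveI := hW.1.1
    let f := W.subschemeι ≫ (X ↘ Spec (CommRingCat.of K))
    have h := f.finite_preimage_singleton (IsLocalRing.closedPoint K)
    rw [← W.range_subschemeι, ← Set.image_univ]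
    refine Set.Finite.image _ (h.subset fun x _ => ?_)
    exact Subsingleton.elim _ _
  obtain ⟨β⟩ := hiso
  exact le_antisymm (Mod22.PointsIdeal.le_of_iso K hdim (hfin _ h₁) (hfin _ h₂) β)
    (Mod22.PointsIdeal.le_of_iso K hdim (hfin _ h₂) (hfin _ h₁) β.symm)

end Groth.Agent.S19057
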