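import Groth.Statements.S19059
import Groth.Agent.CurveRR24.GenusOneEmb
-- import your own Groth.Agent.* helpers here

set_option autoImplicit false
universe u
open CategoryTheory CategoryTheory.Limits AlgebraicGeometry Opposite
open Curves

set_option backward.isDefEq.respectTransparency.types false
namespace Groth.Agent.S19059

open Groth.Agent Groth.Agent.Coherent Groth.Agent.PicLib Groth.Agent.AmpleLib Groth.Agent.CurveRR24 in
theorem main (R : Type u) [CommRing R] [IsNoetherianRing R]
    {X : Scheme.{u}} (f : X ⟶ Spec (CommRingCat.of R)) [IsProper f]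
    (L : X.Modules) (hL : PicF.IsInvertible L) (hLa : CohB1.IsAmple L)
    (hng : ∀ n : ℕ, 1 ≤ n → AddSubgroup.closure {t | ∃ (m : (CohB1.tensorPow L n).val.obj (op ⊤)) (s : L.val.obj (op ⊤)), t = SecTwist.tmul (CohB1.tensorPow L n) L ⊤ m s} = ⊤) :
    RelAmple.IsRelVeryAmplePn f L := by
  have hdec : ∀ (n : ℕ) (z : Γ(CohB1.tensorPow L (n + 1), ⊤)),
      ∃ (m : ℕ) (b : Fin m → Γ(L, ⊤)) (w : Fin m → Γ(CohB1.tensorPow L n, ⊤)), z = ∑ i, tmul (w i) (b i) := by
    intro n z
    match n with
    | 0 =>
      refine ⟨1, fun _ => (unitTensorIso L).hom.app ⊤ z, fun _ => (show Γ(Coh.structureModule X, ⊤) from (1 : Γ(X, ⊤))), ?_⟩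
      rw [Fin.sum_univ_one]
      refine (congrArg (fun φ => φ.app ⊤ z) (unitTensorIso L).hom_inv_id).symm.trans ?_
      rfl
    | n + 1 =>
      refine exists_sum_of_mem_span ?_
      have h1 : (show Γ(CohB1.tensorMod (CohB1.tensorPow L (n + 1)) L, ⊤) from z) ∈ AddSubgroup.closure
          {t : Γ(CohB1.tensorMod (CohB1.tensorPow L (n + 1)) L, ⊤) | ∃ (m : Γ(CohB1.tensorPow L (n + 1), ⊤))
            (s : Γ(L, ⊤)), t = tmul m s} :=
        (hng (n + 1) (by omega)).ge (AddSubgroup.mem_top _)
      refine AddSubgroup.closure_le (K := (Submodule.span Γ(X, ⊤) _).toAddSubgroup) |>.2 ?_ h1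
      rintro _ ⟨a, b, rfl⟩
      exact Submodule.subset_span ⟨(a, b), rfl⟩
  refine isRelVeryAmplePn_of_decomp f hLa (fun x => ?_) hdec
  obtain ⟨n, s, hs, -⟩ := hLa.2.2 x
  rw [genLocus_eq_glocus] at hs
  obtain ⟨m, b, w, e⟩ := hdec n (unitVal s ⊤)
  by_contra hcon
  push Not at hcon
  have hn := AmpleLib.isInvertible_tensorPow hL n
  have hT := AmpleLib.isInvertible_tensorMod hn hL
  rw [e] at hs
  refine (mem_glocus_iff_germ hT _ x).1 hs ?_
  rw [map_sum]
  refine Submodule.sum_mem _ fun i _ => ?_
  refine not_not.1 ((mem_glocus_iff_germ hT _ x).not.1 fun h => hcon (b i) ?_)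
  rw [glocus_tmul hn hL] at h
  exact h.2

/-- Let R be a Noetherian ring and f : X ⟶ Spec R a relative curve (proper and smooth, with
geometrically connected fibres of dimension one). Let L be an ample invertible O_X-module which is
normally generated, i.e. for every n ≥ 1 the global sections of L^(n+1) = L^n ⊗ L are additively
generated by the products m ⊗ s of a global section m of L^n and a global section s of L
(equivalently, the n-fold tensor powers of the global sections of L map onto the global sections of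
L^n for all n ≥ 1). Then L is very ample relative to f: there is an immersion i : X ⟶ P^N over Spec
R with L ≅ i^*O(1). (The projectivity of X over Spec R assumed in the source follows here from the
ampleness of L.) -/
theorem result (R : Type u) [CommRing R] [IsNoetherianRing R]
    {X : Scheme.{u}} (f : X ⟶ Spec (CommRingCat.of R)) [IsProper f] [Smooth f] [GeometricallyConnected f]
    (hdim : ∀ s : Spec (CommRingCat.of R), topologicalKrullDim ↥(f.fiber s) = 1)
    (L : X.Modules) (hL : PicF.IsInvertible L) (hLa : CohB1.IsAmple L)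
    (hng : ∀ n : ℕ, 1 ≤ n → AddSubgroup.closure {t | ∃ (m : (CohB1.tensorPow L n).val.obj (op ⊤)) (s : L.val.obj (op ⊤)), t = SecTwist.tmul (CohB1.tensorPow L n) L ⊤ m s} = ⊤) :
    RelAmple.IsRelVeryAmplePn f L := by
  open Groth.Agent Groth.Agent.Coherent Groth.Agent.PicLib Groth.Agent.AmpleLib Groth.Agent.CurveRR24 in
  exact main R f L hL hLa hng

end Groth.Agent.S19059
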