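import Groth.Statements.S19060
import Groth.Agent.CohExch.ChartMain
import Groth.Agent.Coherent.CohBC.Relative

set_option autoImplicit false
universe u
open CategoryTheory CategoryTheory.Limits AlgebraicGeometry Opposite
open Curves

namespace Groth.Agent.S19060

/-- Let R be a Noetherian ring and X a relative curve over Spec R (proper and smooth, with geometrically
connected fibres of dimension one, and projective: X carries an ample invertible module). Let F be a
coherent O_X-module which is flat over Spec R (every stalk is a flat module over the local ring of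
the base). If H^1(X, F) is a projective R-module, then H^0(X, F) is a projective R-module. (The
source says only that F is an O_X-module flat over the base; F is taken coherent here, as the
finiteness of its cohomology over R used there requires.) -/
theorem result (R : Type u) [CommRing R] [IsNoetherianRing R]
    (X : Scheme.{u}) [X.Over (Spec (CommRingCat.of R))] [IsProper (X ↘ Spec (CommRingCat.of R))]
    [Smooth (X ↘ Spec (CommRingCat.of R))] [GeometricallyConnected (X ↘ Spec (CommRingCat.of R))]
    (hdim : ∀ s : Spec (CommRingCat.of R), topologicalKrullDim ↥((X ↘ Spec (CommRingCat.of R)).fiber s) = 1)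
    (hproj : ∃ M : X.Modules, CohB1.IsAmple M)
    (F : X.Modules) (hF : Coh.IsCoh F) (hfl : FlatMod.IsFlatOver (X ↘ Spec (CommRingCat.of R)) F)
    (h1 : Module.Projective R (Coh.HH X F 1)) :
    Module.Projective R (Coh.HH X F 0) := by
  haveI := hF.1
  haveI : IsLocallyNoetherian X := LocallyOfFiniteType.isLocallyNoetherian (X ↘ Spec (CommRingCat.of R))
  obtain ⟨D⟩ := Groth.Agent.Coherent.CohBC.nonempty_perfData (A := R) F hF hfl
  have hff : ∀ i, Module.Finite R (D.P.X i) ∧ Module.Free R (D.P.X i) := D.finite_free_P
  have hfp : CohB1.IsFP F := Groth.Agent.Coherent.isFP_of_isCoh hF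
  have h2 : ∀ y : Spec (CommRingCat.of R), Subsingleton (CohIII.fiberH (X ↘ Spec (CommRingCat.of R)) F y 2) :=
    fun y => Groth.Agent.CohExch.subsingleton_fiberH_of_dim hfp 1 y (le_of_eq (hdim y)) 2 one_lt_two
  have hd2 : ∀ y : PrimeSpectrum R, CohIII.dRank D.P (-((2 : ℕ) : ℤ)) y = 0 :=
    fun y => (D.subsingleton_fiberH_iff hfl y 2).1 (h2 y)
  have hT2 : ∀ M, IsZero (CohIII.T D.P (-((2 : ℕ) : ℤ)) M) :=
    Groth.Agent.Coherent.CohBC.isZero_T_of_dRank D.P D.finite_flat_P _ hd2
  have hc := Groth.Agent.Coherent.CohBC.flat_cokers_of_isZero_T D.P D.finite_flat_P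
    (-1) (-2) (-3) (by omega) (by omega) hT2
  have hA1 : Groth.Agent.CohExch.FlatAt D.P (-1) := hc.1
  haveI : Module.Projective R (D.P.homology (-((1 : ℕ) : ℤ))) := Module.Projective.of_equiv (D.hhHomology 1)
  have hA0 : Groth.Agent.CohExch.FlatAt D.P 0 := by
    have h := Groth.Agent.CohExch.flatAt_succ_of_flat_homology D.P hff (-((1 : ℕ) : ℤ)) hA1 inferInstance
    simpa using h
  have hA1' : Groth.Agent.CohExch.FlatAt D.P (0 + 1) := by
    have h : (CohIII.TFun D.P (1 : ℤ)).PreservesEpimorphisms :=
      Groth.Agent.FlatCxLib.preservesEpi_of_isZero 1 fun M => D.isZero_T_pos 1 one_pos M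
    rw [Groth.Agent.FlatCxLib.preservesEpi_iff_flat (1 : ℤ) 0 D.flat_P (by omega)] at h
    exact h
  haveI := (Groth.Agent.CohExch.projective_homology_of_flatAt D.P hff 0 hA0 hA1').2
  haveI : Module.Projective R (D.P.homology (-((0 : ℕ) : ℤ))) := by simpa using this
  exact Module.Projective.of_equiv (D.hhHomology 0).symm

end Groth.Agent.S19060
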