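import Groth.Statements.S19073
import Groth.Agent.Surf15.Hodge
import Groth.Agent.SerreDual.Projective
-- import your own Groth.Agent.* helpers here

set_option autoImplicit false
universe u
open CategoryTheory CategoryTheory.Limits AlgebraicGeometry
open Surf

namespace Groth.Agent.S19073

/-- Let X be a surface over an algebraically closed field k (an integral scheme of dimension two all of
whose local rings are regular, with a closed immersion into some P^n_k over k), and let L₁, L₂ be
invertible O_X-modules which are numerically equivalent: (L₁·M) = (L₂·M) for every invertible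
O_X-module M, where (L·M) = χ(O_X) − χ(L) − χ(M) + χ(L ⊗ M) is the intersection number. Then χ(X,
L₁) = χ(X, L₂). -/
theorem result (k : Type u) [Field k] [IsAlgClosed k] (X : Scheme.{u}) [X.Over (Spec (CommRingCat.of k))]
    [AlgebraicGeometry.IsIntegral X] (hdim : topologicalKrullDim X = 2) (hreg : ∀ x : X, IsRegularLocalRing (X.presheaf.stalk x))
    (hproj : ∃ (n : ℕ) (ι : X ⟶ CohB1.ProjSpace n k), IsClosedImmersion ι ∧ ι ≫ CohB1.ProjSpace.toSpec n k = (X ↘ (Spec (CommRingCat.of k))))
    (L₁ L₂ : X.Modules) (hL₁ : PicF.IsInvertible L₁) (hL₂ : PicF.IsInvertible L₂)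
    (hnum : ∀ M : X.Modules, PicF.IsInvertible M →
      FGA.intNum k X 2 ![L₁, M] (Coh.structureModule X) = FGA.intNum k X 2 ![L₂, M] (Coh.structureModule X)) :
    Curv2.euler k X L₁ = Curv2.euler k X L₂ := by
  obtain ⟨m, ι, hι, hι'⟩ := hproj
  haveI := hι
  haveI := (Groth.Agent.SerreDual.isProper_and_ample_of_closedImmersion ι hι').1
  have hX : topologicalKrullDim X = ((2 : ℕ) : WithBot ℕ∞) := by rw [hdim]; rfl
  have hH := Groth.Agent.AmpleLib.isAmple_pullback_of_isAffineHom ι
    (Groth.Agent.SerreDual.isAmple_projSpace_one m k)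
  obtain ⟨b, hb⟩ := Groth.Agent.Surf15.exists_inv (Groth.Agent.EulerLib.InvCl.mk L₁ hL₁)
  set a₁ := Groth.Agent.EulerLib.InvCl.mk L₁ hL₁
  set a₂ := Groth.Agent.EulerLib.InvCl.mk L₂ hL₂
  have key : ∀ d, Groth.Agent.Surf15.B k (a₂ * b) d = 0 := by
    intro d
    obtain ⟨M, hM, rfl⟩ := Groth.Agent.EulerLib.InvCl.exists_rep d
    have h := hnum M hM
    rw [Groth.Agent.Surf15.intNum_eq_B k hX.le hL₁ hM, Groth.Agent.Surf15.intNum_eq_B k hX.le hL₂ hM] at h
    rw [Groth.Agent.Surf15.B_mul_left k hX.le, Groth.Agent.Surf15.B_inv_left k hX.le hb]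
    linarith
  have h1 := Groth.Agent.Surf15.chi_eq_one_of_numTrivial k hX hH (a₂ * b) (key _) (key _)
  have h2 := key a₁
  rw [Groth.Agent.Surf15.B, show a₂ * b * a₁ = a₂ by rw [mul_assoc, mul_comm b a₁, hb, mul_one], h1] at h2
  rw [Groth.Agent.Surf15.euler_eq_chiCl k hX.le hL₁, Groth.Agent.Surf15.euler_eq_chiCl k hX.le hL₂]
  linarith

end Groth.Agent.S19073
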