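import Groth.Statements.S19075
import Groth.Agent.HypSq5.GraphClass
-- import your own Groth.Agent.* helpers here

set_option autoImplicit false
set_option backward.isDefEq.respectTransparency.types false
universe u
open CategoryTheory CategoryTheory.Limits AlgebraicGeometry Opposite
open HypSq Groth.Agent
open scoped Groth.Agent.HypSq5

namespace Groth.Agent.S19075

/-- Let k be an algebraically closed field of characteristic ≠ 2 and C a hyperelliptic curve of genus g
≥ 2 over k: C ⟶ Spec k proper and smooth, C connected of dimension one with dim_k H^1(C, O_C) = g,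
with a double cover κ : C ⟶ P^1_k over k (finite, flat, of rank 2 everywhere) and hyperelliptic
involution σ (σ ≫ κ = κ, σ ≠ id). On X = C ×_k C let N be an invertible O_X-module inverse to the
ideal sheaf of the graph Γ_σ = (id, σ) : C ⟶ X, and N_Δ an invertible O_X-module inverse to the
ideal sheaf of the diagonal Δ : C ⟶ X. Then (N·N_Δ) = 2g + 2 (the graph of σ meets the diagonal
transversally in the 2g + 2 fixed points of σ), (L·M) = χ(O_X) − χ(L) − χ(M) + χ(L ⊗ M) denoting the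
intersection number of invertible modules on the surface X. -/
theorem result (k : Type u) [Field k] [IsAlgClosed k] (h2 : (2 : k) ≠ 0)
    (C : Scheme.{u}) [C.Over (Spec (CommRingCat.of k))] [IsProper (C ↘ Spec (CommRingCat.of k))] [Smooth (C ↘ Spec (CommRingCat.of k))] [ConnectedSpace ↥C]
    (hdim : topologicalKrullDim ↥C = 1) (g : ℕ) (hg : 2 ≤ g) (hgen : Curv2.genus k C = g)
    (κ : C ⟶ CohB1.ProjSpace 1 k) (hκ : κ ≫ CohB1.ProjSpace.toSpec 1 k = (C ↘ Spec (CommRingCat.of k)))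
    [IsFinite κ] [Flat κ] (hκ2 : ∀ y : ↥(CohB1.ProjSpace 1 k), κ.finrank y = 2)
    (σ : C ⟶ C) (hσ : σ ≫ κ = κ) (hσ1 : σ ≠ 𝟙 C) (hσp : σ ≫ (C ↘ Spec (CommRingCat.of k)) = (C ↘ Spec (CommRingCat.of k)))
    (N : (pullback (C ↘ Spec (CommRingCat.of k)) (C ↘ Spec (CommRingCat.of k))).Modules) (hN : PicF.IsInvertible N)
    (hNinv : ClSub.IsInverseOf N (ClSub.idealMod (pullback.lift (𝟙 C) σ ((Category.id_comp (C ↘ Spec (CommRingCat.of k))).trans hσp.symm)).ker))
    (ND : (pullback (C ↘ Spec (CommRingCat.of k)) (C ↘ Spec (CommRingCat.of k))).Modules) (hND : PicF.IsInvertible ND)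
    (hNDinv : ClSub.IsInverseOf ND (ClSub.idealMod (pullback.diagonal (C ↘ Spec (CommRingCat.of k))).ker)) :
    letI : (pullback (C ↘ Spec (CommRingCat.of k)) (C ↘ Spec (CommRingCat.of k))).Over (Spec (CommRingCat.of k)) := ⟨pullback.fst (C ↘ Spec (CommRingCat.of k)) (C ↘ Spec (CommRingCat.of k)) ≫ (C ↘ Spec (CommRingCat.of k))⟩
    FGA.intNum k (pullback (C ↘ Spec (CommRingCat.of k)) (C ↘ Spec (CommRingCat.of k))) 2 ![N, ND] (Coh.structureModule (pullback (C ↘ Spec (CommRingCat.of k)) (C ↘ Spec (CommRingCat.of k)))) = 2 * (g : ℤ) + 2 := by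
  subst hgen
  have hg1 : 1 ≤ Curv2.genus k C := by omega
  have h := HypSq5.cR_eq_one k hdim κ hκ hκ2 σ hσ hσ1 hσp hg
  have hn := HypSq5.of_mul_idlG k hdim σ hσp hN hNinv
  have hnd := HypSq5.of_mul_idlG k hdim (𝟙 C) (Category.id_comp _) hND hNDinv
  refine (HypSq5.intNum_eq_BX k hdim hN hND).trans ?_
  rw [HypSq5.BX, mul_comm]
  have e : PicLib.PicM.of hND * PicLib.PicM.of hN = HypSq5.cF k κ 1 := by
    refine PicLib.PicM.mul_right_cancel' ((?_ : _ = (1 : PicLib.PicM (HypSq5.Sq k C))).trans h.symm)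
    rw [mul_mul_mul_comm, hnd, hn, mul_one]
  have hB := HypSq5.BX_graph k hdim σ hσp hn (PicLib.PicM.of hND)
  rw [HypSq5.BX] at hB
  have he := congrArg (fun z => HypSq5.dC k (PicLib.PicM.pull (HypSq5.gr k σ hσp) z)) e
  simp only [map_mul, HypSq5.dC_mul k hdim, HypSq5.pull_gr_cF k hdim κ σ hσp hσ, HypSq5.dC_pow k hdim,
    HypSq5.dC_cL k hdim κ hκ hκ2,
    HypSq5.dC_pull_inv k hdim κ hκ hκ2 σ hσp (HypSq5.pull_gr_idlG k hdim κ hκ hκ2 σ hσ hσp hg1) hg1 hn] at he
  push_cast at he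
  linarith

end Groth.Agent.S19075
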