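import Groth.Statements.S19088
import Groth.Agent.HypSq5.SymSquare
-- import your own Groth.Agent.* helpers here

set_option autoImplicit false
set_option backward.isDefEq.respectTransparency.types false
universe u
open CategoryTheory CategoryTheory.Limits AlgebraicGeometry Opposite
open SymSq Groth.Agent
open scoped Groth.Agent.HypSq5

namespace Groth.Agent.S19088

/-- Let k be an algebraically closed field of characteristic ≠ 2 and C a hyperelliptic curve of genus g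
≥ 2 over k: C ⟶ Spec k proper and smooth, C connected of dimension one with dim_k H^1(C, O_C) = g,
with a double cover κ : C ⟶ P^1_k over k (finite, flat, of rank 2 everywhere) and hyperelliptic
involution σ (σ ≫ κ = κ, σ ≠ id). On X = C ×_k C let L = κ^*O(1), F_m = p_1^*L^m ⊗ p_2^*L^m and N an
invertible O_X-module inverse to the ideal sheaf of the graph Γ_σ = (id, σ) : C ⟶ X. Let S = Sym²(C)
be the symmetric square: π : X ⟶ S is a quotient (affine, invariant, sections of S = invariant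
sections) for the action of the symmetric group on two letters in which the transposition acts by
the swap of the two factors, and q : S ⟶ Spec k its structure morphism with π over Spec k; let N_Δ
be an invertible module on X inverse to the ideal sheaf of the diagonal, x : Spec k ⟶ C a k-point
with A = O_C(x), and MΘ, MΔ, M∇ invertible O_S-modules with π^*MΘ ≅ p_1^*A ⊗ p_2^*A, π^*MΔ ≅ N_Δ ⊗
N_Δ and π^*M∇ ≅ N (the classes Θ_S = π({x} × C), Δ_S = π(Δ) with π^*Δ_S = 2Δ, and ∇_S = π(Γ_σ)).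
Then (Θ_S·Θ_S) = 1, (Θ_S·Δ_S) = 2, (Θ_S·∇_S) = 1, (Δ_S·Δ_S) = 4 − 4g, (∇_S·∇_S) = 1 − g and
(Δ_S·∇_S) = 2g + 2, intersection numbers being (M·M') = χ(O_S) − χ(M) − χ(M') + χ(M ⊗ M'). -/
theorem result (k : Type u) [Field k] [IsAlgClosed k] (h2 : (2 : k) ≠ 0)
    (C : Scheme.{u}) [C.Over (Spec (CommRingCat.of k))] [IsProper (C ↘ Spec (CommRingCat.of k))] [Smooth (C ↘ Spec (CommRingCat.of k))] [ConnectedSpace ↥C]
    (hdim : topologicalKrullDim ↥C = 1) (g : ℕ) (hg : 2 ≤ g) (hgen : Curv2.genus k C = g)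
    (κ : C ⟶ CohB1.ProjSpace 1 k) (hκ : κ ≫ CohB1.ProjSpace.toSpec 1 k = (C ↘ Spec (CommRingCat.of k)))
    [IsFinite κ] [Flat κ] (hκ2 : ∀ y : ↥(CohB1.ProjSpace 1 k), κ.finrank y = 2)
    (σ : C ⟶ C) (hσ : σ ≫ κ = κ) (hσ1 : σ ≠ 𝟙 C) (hσp : σ ≫ (C ↘ Spec (CommRingCat.of k)) = (C ↘ Spec (CommRingCat.of k)))
    (N : (pullback (C ↘ Spec (CommRingCat.of k)) (C ↘ Spec (CommRingCat.of k))).Modules) (hN : PicF.IsInvertible N)
    (hNinv : ClSub.IsInverseOf N (ClSub.idealMod (pullback.lift (𝟙 C) σ ((Category.id_comp (C ↘ Spec (CommRingCat.of k))).trans hσp.symm)).ker))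
    (ND : (pullback (C ↘ Spec (CommRingCat.of k)) (C ↘ Spec (CommRingCat.of k))).Modules) (hND : PicF.IsInvertible ND)
    (hNDinv : ClSub.IsInverseOf ND (ClSub.idealMod (pullback.diagonal (C ↘ Spec (CommRingCat.of k))).ker))
    (x : Spec (CommRingCat.of k) ⟶ C) (hx : x ≫ (C ↘ Spec (CommRingCat.of k)) = 𝟙 (Spec (CommRingCat.of k)))
    (A : C.Modules) (hA : PicF.IsInvertible A) (hAinv : ClSub.IsInverseOf A (ClSub.idealMod x.ker))
    (ρ : ULift.{u} (Equiv.Perm (Fin 2)) →* Aut (pullback (C ↘ Spec (CommRingCat.of k)) (C ↘ Spec (CommRingCat.of k)))) (hρ : (ρ (ULift.up (Equiv.swap 0 1))).hom = (pullbackSymmetry (C ↘ Spec (CommRingCat.of k)) (C ↘ Spec (CommRingCat.of k))).hom)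
    (Sq : Scheme.{u}) (π : (pullback (C ↘ Spec (CommRingCat.of k)) (C ↘ Spec (CommRingCat.of k))) ⟶ Sq) (hπ : SGA1.IsQuot ρ π) (q : Sq ⟶ Spec (CommRingCat.of k)) (hq : π ≫ q = pullback.fst (C ↘ Spec (CommRingCat.of k)) (C ↘ Spec (CommRingCat.of k)) ≫ (C ↘ Spec (CommRingCat.of k)))
    (MΘ MΔ MV : Sq.Modules) (hMΘ : PicF.IsInvertible MΘ) (hMΔ : PicF.IsInvertible MΔ) (hMV : PicF.IsInvertible MV)
    (hΘ : Nonempty ((Scheme.Modules.pullback π).obj MΘ ≅ CohB1.tensorMod ((Scheme.Modules.pullback (pullback.fst (C ↘ Spec (CommRingCat.of k)) (C ↘ Spec (CommRingCat.of k)))).obj A) ((Scheme.Modules.pullback (pullback.snd (C ↘ Spec (CommRingCat.of k)) (C ↘ Spec (CommRingCat.of k)))).obj A)))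
    (hΔ : Nonempty ((Scheme.Modules.pullback π).obj MΔ ≅ CohB1.tensorMod ND ND))
    (hV : Nonempty ((Scheme.Modules.pullback π).obj MV ≅ N)) :
    letI : Sq.Over (Spec (CommRingCat.of k)) := ⟨q⟩
    FGA.intNum k Sq 2 ![MΘ, MΘ] (Coh.structureModule Sq) = 1 ∧ FGA.intNum k Sq 2 ![MΘ, MΔ] (Coh.structureModule Sq) = 2 ∧ FGA.intNum k Sq 2 ![MΘ, MV] (Coh.structureModule Sq) = 1 ∧
      FGA.intNum k Sq 2 ![MΔ, MΔ] (Coh.structureModule Sq) = 4 - 4 * (g : ℤ) ∧ FGA.intNum k Sq 2 ![MV, MV] (Coh.structureModule Sq) = 1 - (g : ℤ) ∧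
      FGA.intNum k Sq 2 ![MΔ, MV] (Coh.structureModule Sq) = 2 * (g : ℤ) + 2 := by
  subst hgen
  have hg1 : 1 ≤ Curv2.genus k C := by omega
  have h := HypSq5.cR_eq_one k hdim κ hκ hκ2 σ hσ hσ1 hσp hg
  have hn := HypSq5.of_mul_idlG k hdim σ hσp hN hNinv
  have hnd := HypSq5.of_mul_idlG k hdim (𝟙 C) (Category.id_comp _) hND hNDinv
  have hΘ' : PicLib.PicM.pull π (PicLib.PicM.of hMΘ) = PicLib.PicM.pull (HypSq5.p₁ k C) (PicLib.PicM.of hA) *
      PicLib.PicM.pull (HypSq5.p₂ k C) (PicLib.PicM.of hA) := by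
    rw [PicLib.PicM.pull_of, PicLib.PicM.pull_of, PicLib.PicM.pull_of, PicLib.PicM.of_mul]
    exact (PicLib.PicM.of_eq_iff _ _).2 hΘ
  have hΔ' : PicLib.PicM.pull π (PicLib.PicM.of hMΔ) = PicLib.PicM.of hND * PicLib.PicM.of hND := by
    rw [PicLib.PicM.pull_of, PicLib.PicM.of_mul]
    exact (PicLib.PicM.of_eq_iff _ _).2 hΔ
  have hV' : PicLib.PicM.pull π (PicLib.PicM.of hMV) = PicLib.PicM.of hN := by
    rw [PicLib.PicM.pull_of]
    exact (PicLib.PicM.of_eq_iff _ _).2 hV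
  have e : PicLib.PicM.of hND * PicLib.PicM.of hN = HypSq5.cF k κ 1 := by
    refine PicLib.PicM.mul_right_cancel' ((?_ : _ = (1 : PicLib.PicM (HypSq5.Sq k C))).trans h.symm)
    rw [mul_mul_mul_comm, hnd, hn, mul_one]
  have he := congrArg (fun z => HypSq5.dC k (PicLib.PicM.pull (HypSq5.gr k σ hσp) z)) e
  have e1 := HypSq5.dC_pull_inv k hdim κ hκ hκ2 (𝟙 C) (Category.id_comp _)
    (HypSq5.pull_diag_idlG k hdim κ hκ hκ2 hg1) hg1 hnd
  have e2 := HypSq5.dC_pull_inv k hdim κ hκ hκ2 σ hσp (HypSq5.pull_gr_idlG k hdim κ hκ hκ2 σ hσ hσp hg1) hg1 hn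
  simp only [map_mul, HypSq5.dC_mul k hdim, HypSq5.pull_gr_cF k hdim κ σ hσp hσ, HypSq5.dC_pow k hdim,
    HypSq5.dC_cL k hdim κ hκ hκ2, e2] at he
  have dA := HypSq5.dC_point k hdim x hx hA hAinv
  have h' : ∀ {M M' : Sq.Modules} (hM : PicF.IsInvertible M) (hM' : PicF.IsInvertible M'),
      letI : Sq.Over (Spec (CommRingCat.of k)) := ⟨q⟩
      2 * FGA.intNum k Sq 2 ![M, M'] (Coh.structureModule Sq) =
      HypSq5.BX k (PicLib.PicM.pull π (PicLib.PicM.of hM)) (PicLib.PicM.pull π (PicLib.PicM.of hM')) :=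
    fun hM hM' => HypSq5.two_intNum k ρ hρ π hπ q hq σ hσ1 hσp h2 hdim hM hM'
  have b1 := h' hMΘ hMΘ
  have b2 := h' hMΘ hMΔ
  have b3 := h' hMΘ hMV
  have b4 := h' hMΔ hMΔ
  have b5 := h' hMV hMV
  have b6 := h' hMΔ hMV
  rw [hΘ', HypSq5.BX_mul_left k hdim, HypSq5.BX_mul_right k hdim, HypSq5.BX_mul_right k hdim,
    HypSq5.BX_fst_fst k hdim, HypSq5.BX_fst_snd k hdim, HypSq5.BX_comm k hdim, HypSq5.BX_fst_snd k hdim,
    HypSq5.BX_snd_snd k hdim, dA] at b1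
  rw [hΘ', hΔ', HypSq5.BX_mul_right k hdim, HypSq5.BX_graph k hdim _ _ hnd, map_mul, HypSq5.dC_mul k hdim,
    HypSq5.pull_gr_fst, HypSq5.pull_gr_snd, PicLib.PicM.pull_id, dA] at b2
  rw [hΘ', hV', HypSq5.BX_graph k hdim _ _ hn, map_mul, HypSq5.dC_mul k hdim,
    HypSq5.pull_gr_fst, HypSq5.pull_gr_snd, HypSq5.dC_pull_sigma k hdim κ hκ hκ2 σ hσ hσp, dA] at b3
  rw [hΔ', HypSq5.BX_mul_left k hdim, HypSq5.BX_mul_right k hdim, HypSq5.BX_graph k hdim _ _ hnd, e1] at b4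
  rw [hV', HypSq5.BX_graph k hdim _ _ hn, e2] at b5
  rw [hΔ', hV', HypSq5.BX_mul_left k hdim, HypSq5.BX_graph k hdim _ _ hn] at b6
  push_cast at *
  refine ⟨?_, ?_, ?_, ?_, ?_, ?_⟩ <;> linarith

end Groth.Agent.S19088
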