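import Groth.Statements.S19091
import Groth.Agent.HypSq5.SymClass
-- import your own Groth.Agent.* helpers here

set_option autoImplicit false
set_option backward.isDefEq.respectTransparency.types false
universe u
open CategoryTheory CategoryTheory.Limits AlgebraicGeometry Opposite
open SymSq Groth.Agent
open scoped Groth.Agent.HypSq5

namespace Groth.Agent.S19091

/-- Let k be an algebraically closed field of characteristic ≠ 2 and C a hyperelliptic curve of genus g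
≥ 2 over k: C ⟶ Spec k proper and smooth, C connected of dimension one with dim_k H^1(C, O_C) = g,
with a double cover κ : C ⟶ P^1_k over k (finite, flat, of rank 2 everywhere) and hyperelliptic
involution σ (σ ≫ κ = κ, σ ≠ id). On X = C ×_k C let L = κ^*O(1), F_m = p_1^*L^m ⊗ p_2^*L^m and N an
invertible O_X-module inverse to the ideal sheaf of the graph Γ_σ = (id, σ) : C ⟶ X. Let S = Sym²(C)
be the symmetric square: π : X ⟶ S is a quotient (affine, invariant, sections of S = invariant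
sections) for the action of the symmetric group on two letters in which the transposition acts by
the swap of the two factors, and q : S ⟶ Spec k its structure morphism with π over Spec k; let N_Δ
be an invertible module on X inverse to the ideal sheaf of the diagonal, x : Spec k ⟶ C a k-point
with A = O_C(x), and MΘ, MΔ, M∇ invertible O_S-modules with π^*MΘ ≅ p_1^*A ⊗ p_2^*A, π^*MΔ ≅ N_Δ ⊗
N_Δ and π^*M∇ ≅ N (the classes Θ_S = π({x} × C), Δ_S = π(Δ) with π^*Δ_S = 2Δ, and ∇_S = π(Γ_σ)).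
Assume moreover that x is a Weierstrass point: σ fixes x. Then 4Θ_S ~ Δ_S + 2∇_S in Pic S: MΘ^4 ≅ MΔ
⊗ M∇^2 (existence of an isomorphism). -/
theorem result (k : Type u) [Field k] [IsAlgClosed k] (h2 : (2 : k) ≠ 0)
    (C : Scheme.{u}) [C.Over (Spec (CommRingCat.of k))] [IsProper (C ↘ Spec (CommRingCat.of k))] [Smooth (C ↘ Spec (CommRingCat.of k))] [ConnectedSpace ↥C]
    (hdim : topologicalKrullDim ↥C = 1) (g : ℕ) (hg : 2 ≤ g) (hgen : Curv2.genus k C = g)
    (κ : C ⟶ CohB1.ProjSpace 1 k) (hκ : κ ≫ CohB1.ProjSpace.toSpec 1 k = (C ↘ Spec (CommRingCat.of k)))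
    [IsFinite κ] [Flat κ] (hκ2 : ∀ y : ↥(CohB1.ProjSpace 1 k), κ.finrank y = 2)
    (σ : C ⟶ C) (hσ : σ ≫ κ = κ) (hσ1 : σ ≠ 𝟙 C) (hσp : σ ≫ (C ↘ Spec (CommRingCat.of k)) = (C ↘ Spec (CommRingCat.of k)))
    (N : (pullback (C ↘ Spec (CommRingCat.of k)) (C ↘ Spec (CommRingCat.of k))).Modules) (hN : PicF.IsInvertible N)
    (hNinv : ClSub.IsInverseOf N (ClSub.idealMod (pullback.lift (𝟙 C) σ ((Category.id_comp (C ↘ Spec (CommRingCat.of k))).trans hσp.symm)).ker))
    (ND : (pullback (C ↘ Spec (CommRingCat.of k)) (C ↘ Spec (CommRingCat.of k))).Modules) (hND : PicF.IsInvertible ND)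
    (hNDinv : ClSub.IsInverseOf ND (ClSub.idealMod (pullback.diagonal (C ↘ Spec (CommRingCat.of k))).ker))
    (x : Spec (CommRingCat.of k) ⟶ C) (hx : x ≫ (C ↘ Spec (CommRingCat.of k)) = 𝟙 (Spec (CommRingCat.of k)))
    (A : C.Modules) (hA : PicF.IsInvertible A) (hAinv : ClSub.IsInverseOf A (ClSub.idealMod x.ker))
    (ρ : ULift.{u} (Equiv.Perm (Fin 2)) →* Aut (pullback (C ↘ Spec (CommRingCat.of k)) (C ↘ Spec (CommRingCat.of k)))) (hρ : (ρ (ULift.up (Equiv.swap 0 1))).hom = (pullbackSymmetry (C ↘ Spec (CommRingCat.of k)) (C ↘ Spec (CommRingCat.of k))).hom)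
    (Sq : Scheme.{u}) (π : (pullback (C ↘ Spec (CommRingCat.of k)) (C ↘ Spec (CommRingCat.of k))) ⟶ Sq) (hπ : SGA1.IsQuot ρ π) (q : Sq ⟶ Spec (CommRingCat.of k)) (hq : π ≫ q = pullback.fst (C ↘ Spec (CommRingCat.of k)) (C ↘ Spec (CommRingCat.of k)) ≫ (C ↘ Spec (CommRingCat.of k)))
    (hxW : x ≫ σ = x)
    (MΘ MΔ MV : Sq.Modules) (hMΘ : PicF.IsInvertible MΘ) (hMΔ : PicF.IsInvertible MΔ) (hMV : PicF.IsInvertible MV)
    (hΘ : Nonempty ((Scheme.Modules.pullback π).obj MΘ ≅ CohB1.tensorMod ((Scheme.Modules.pullback (pullback.fst (C ↘ Spec (CommRingCat.of k)) (C ↘ Spec (CommRingCat.of k)))).obj A) ((Scheme.Modules.pullback (pullback.snd (C ↘ Spec (CommRingCat.of k)) (C ↘ Spec (CommRingCat.of k)))).obj A)))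
    (hΔ : Nonempty ((Scheme.Modules.pullback π).obj MΔ ≅ CohB1.tensorMod ND ND))
    (hV : Nonempty ((Scheme.Modules.pullback π).obj MV ≅ N)) :
    Nonempty (CohB1.tensorPow MΘ 4 ≅ CohB1.tensorMod MΔ (CohB1.tensorPow MV 2)) := by
  subst hgen
  have hn := HypSq5.of_mul_idlG k hdim σ hσp hN hNinv
  have hnd := HypSq5.of_mul_idlG k hdim (𝟙 C) (Category.id_comp _) hND hNDinv
  have hA2 := HypSq5.of_sq_eq_cL k hdim κ hκ hκ2 σ hσ hσ1 hσp hg x hx hxW hA hAinv
  have hΘ' : PicLib.PicM.pull π (PicLib.PicM.of hMΘ) = PicLib.PicM.pull (HypSq5.p₁ k C) (PicLib.PicM.of hA) *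
      PicLib.PicM.pull (HypSq5.p₂ k C) (PicLib.PicM.of hA) := by
    rw [PicLib.PicM.pull_of, PicLib.PicM.pull_of, PicLib.PicM.pull_of, PicLib.PicM.of_mul]
    exact (PicLib.PicM.of_eq_iff _ _).2 hΘ
  have hΔ' : PicLib.PicM.pull π (PicLib.PicM.of hMΔ) = PicLib.PicM.of hND * PicLib.PicM.of hND := by
    rw [PicLib.PicM.pull_of, PicLib.PicM.of_mul]
    exact (PicLib.PicM.of_eq_iff _ _).2 hΔ
  have hV' : PicLib.PicM.pull π (PicLib.PicM.of hMV) = PicLib.PicM.of hN := by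
    rw [PicLib.PicM.pull_of]
    exact (PicLib.PicM.of_eq_iff _ _).2 hV
  have e : PicLib.PicM.of hND * PicLib.PicM.of hN = HypSq5.cF k κ 1 := by
    refine PicLib.PicM.mul_right_cancel'
      ((?_ : _ = (1 : PicLib.PicM (HypSq5.Sq k C))).trans (HypSq5.cR_eq_one k hdim κ hκ hκ2 σ hσ hσ1 hσp hg).symm)
    rw [mul_mul_mul_comm, hnd, hn, mul_one]
  have goal : PicLib.PicM.of hMΘ ^ 4 = PicLib.PicM.of hMΔ * PicLib.PicM.of hMV ^ 2 := by
    refine HypSq5.pull_sq_injective k ρ hρ π hπ ?_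
    rw [map_pow, map_mul, map_pow, hΘ', hΔ', hV', ← pow_two, ← mul_pow, e, HypSq5.cF, pow_one, ← hA2, map_pow,
      map_pow, ← mul_pow, ← pow_mul]
  rw [← PicLib.PicM.of_tensorPow, ← PicLib.PicM.of_tensorPow, PicLib.PicM.of_mul, PicLib.PicM.of_eq_iff] at goal
  exact goal

end Groth.Agent.S19091
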