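import Groth.Statements.S19094
import Mathlib
import Groth.Agent.Misc15.PRank
-- import your own Groth.Agent.* helpers here

set_option autoImplicit false
universe u
open FrobAlg

namespace Groth.Agent.S19094

/-- Let p be a prime, k a finite field of characteristic p and K a finitely generated field extension of
the Laurent series field k((t)) of finite transcendence degree d. Then [K : K^p] = p^(d+1), where
K^p ⊆ K is the subfield of p-th powers (the image of the Frobenius). The case of interest is the
residue field of a generic point of a projective strictly semistable scheme of relative dimension d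
over k[[t]], which is such an extension. -/
theorem result (p : ℕ) [Fact p.Prime]
    (k : Type u) [Field k] [Finite k] [CharP k p]
    (K : Type u) [Field K] [Algebra (LaurentSeries k) K] [CharP K p]
    (hfg : (⊤ : IntermediateField (LaurentSeries k) K).FG)
    (d : ℕ) (hd : Algebra.trdeg (LaurentSeries k) K = d) :
    Module.finrank (↥(frobenius K p).fieldRange) K = p ^ (d + 1) := by
  haveI : CharP (LaurentSeries k) p := RingHom.charP (algebraMap (LaurentSeries k) K) (RingHom.injective _) p
  haveI : CharP (PowerSeries k) p := charP_of_injective_ringHom PowerSeries.C_injective p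
  have hL : WeilLib.rdeg (frobenius (LaurentSeries k) p) = p := by
    rw [Misc15.rdeg_frobenius_fractionRing (R := PowerSeries k), Misc15.rdeg_frobenius_powerSeries]
  have hK := Misc15.rdeg_frobenius_eq (F := LaurentSeries k) (K := K) p
    (by rw [hL]; exact (Fact.out : p.Prime).pos) hfg d hd
  rw [hL, ← pow_succ] at hK
  rw [← hK]
  have e : frobenius K p = (algebraMap (frobenius K p).fieldRange K).comp (frobenius K p).rangeRestrictField := rfl
  conv_rhs => rw [e, WeilLib.rdeg_comp _ _ (RingHom.injective _), WeilLib.rdeg_algebraMap]
  have h1 : WeilLib.rdeg (frobenius K p).rangeRestrictField = 1 :=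
    WeilLib.rdeg_ringEquiv (RingEquiv.ofBijective (frobenius K p).rangeRestrictField
      ⟨RingHom.injective _, fun ⟨y, x, hx⟩ => ⟨x, Subtype.ext hx⟩⟩)
  rw [h1, one_mul]

end Groth.Agent.S19094
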