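import Groth.Statements.S19098
import Groth.Agent.ChGrp24.Points
-- import your own Groth.Agent.* helpers here

set_option autoImplicit false
universe u
open CategoryTheory MonoidalCategory CartesianMonoidalCategory MonObj AlgebraicGeometry
open ChGrp

set_option backward.isDefEq.respectTransparency.types false
open GrpObj
namespace Groth.Agent.S19098

/-- Let S be a scheme, G an S-group scheme acting on an S-scheme X through a, and h an S-point of G. Let
i : Z → G be a homomorphism and ψ : Ψ → G a monomorphism with a G-action on Ψ under which ψ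
intertwines with conjugation, and o an S-point of Ψ over h, such that (Ψ, o) is the homogeneous
space G/Z for the fppf topology through the orbit map g ↦ g h g⁻¹ (so Z is the centralizer of h and
Ψ its conjugacy class). Let incl : X^h → X be a monomorphism whose points are the points of X fixed
by h, with the Z-action restricted from a; let σ : S_Ψ → G ×_S X be a monomorphism whose points are
the pairs (g, x) with g a point of Ψ and g x = x (the part of the global stabilizer over Ψ), with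
the G-action by conjugation on the first entry and by a on the second; and let Φ : G ×_S X^h → S_Ψ
be the morphism (g, x) ↦ (g h g⁻¹, g x). Then Φ makes S_Ψ, with its G-action, the balanced product G
×^Z X^h for the fppf topology: Φ is G-equivariant, it is a Z-torsor for the action z (g, x) = (g
z⁻¹, z x), and it has sections fppf-locally on S_Ψ. (The source works with algebraic spaces of
finite type over the complex numbers and a semisimple conjugacy class Ψ, where the identification of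
Ψ with G/Z comes from the theory of algebraic groups; here that identification is the hypothesis
hhom, the base is arbitrary and X is a scheme.) -/
theorem result
    {S : Scheme.{u}} {G X Z Ψ Xh SΨ : Over S} [GrpObj G] [GrpObj Z]
    (a : AlgGrp.Action G X) (h : 𝟙_ (Over S) ⟶ G)
    (i : Z ⟶ G) [IsMonHom i]
    (ψ : Ψ ⟶ G) [Mono ψ] (aΨ : AlgGrp.Action G Ψ)
    (hψ : aΨ.act ≫ ψ = fst G Ψ * (snd G Ψ ≫ ψ) * (fst G Ψ)⁻¹)
    (o : 𝟙_ (Over S) ⟶ Ψ) (ho : o ≫ ψ = h)
    (hhom : ChGrp.IsHomog Scheme.fppfPrecoverage i aΨ o)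
    (incl : Xh ⟶ X) [Mono incl]
    (hXh : ∀ (T : Over S) (x : T ⟶ X), (∃ y : T ⟶ Xh, y ≫ incl = x) ↔ lift (toUnit T ≫ h) x ≫ a.act = x)
    (aXh : AlgGrp.Action Z Xh) (hincl : AlgGrp.Action.IsEquivariant aXh (a.restrict i) incl)
    (σ : SΨ ⟶ G ⊗ X) [Mono σ]
    (hSΨ : ∀ (T : Over S) (g : T ⟶ G) (x : T ⟶ X),
      (∃ q : T ⟶ SΨ, q ≫ σ = lift g x) ↔ ((∃ y : T ⟶ Ψ, y ≫ ψ = g) ∧ lift g x ≫ a.act = x))
    (aS : AlgGrp.Action G SΨ)
    (hσ : aS.act ≫ σ = lift (fst G SΨ * (snd G SΨ ≫ σ ≫ fst G X) * (fst G SΨ)⁻¹)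
      (lift (fst G SΨ) (snd G SΨ ≫ σ ≫ snd G X) ≫ a.act))
    (Φ : G ⊗ Xh ⟶ SΨ)
    (hΦ : Φ ≫ σ = lift (fst G Xh * (toUnit (G ⊗ Xh) ≫ h) * (fst G Xh)⁻¹)
      (lift (fst G Xh) (snd G Xh ≫ incl) ≫ a.act)) :
    ChGrp.IsBalProd Scheme.fppfPrecoverage i aXh aS Φ := by
  have hfix : ∀ {T : Over S} (x : T ⟶ Xh), lift (toUnit T ≫ h) (x ≫ incl) ≫ a.act = x ≫ incl :=
    fun {T} x => (hXh T (x ≫ incl)).1 ⟨x, rfl⟩
  have horb : ∀ {T : Over S} (g : T ⟶ G), (g ≫ aΨ.orbitMap o) ≫ ψ = g * (toUnit T ≫ h) * g⁻¹ := fun {T} g => by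
    rw [AlgGrp.Action.comp_orbitMap, Category.assoc, hψ, MonObj.comp_mul, MonObj.comp_mul, GrpObj.comp_inv, lift_fst,
      lift_snd_assoc, Category.assoc, ho]
  have hP : ∀ {T : Over S} (g : T ⟶ G) (x : T ⟶ Xh),
      lift g x ≫ Φ ≫ σ = lift (g * (toUnit T ≫ h) * g⁻¹) (lift g (x ≫ incl) ≫ a.act) := fun {T} g x => by
    rw [hΦ]
    simp only [comp_lift, comp_lift_assoc, MonObj.comp_mul, GrpObj.comp_inv, lift_fst, lift_snd_assoc]
    rw [← Category.assoc (lift g x) (toUnit _) h, toUnit_unique (lift g x ≫ toUnit _) (toUnit T)]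
  have hinl : ∀ {T : Over S} (z : T ⟶ Z) (x : T ⟶ Xh),
      (lift z x ≫ aXh.act) ≫ incl = lift (z ≫ i) (x ≫ incl) ≫ a.act := fun {T} z x => by
    rw [Category.assoc, show aXh.act ≫ incl = (Z ◁ incl) ≫ (a.restrict i).act from hincl, lift_whiskerLeft_assoc,
      AlgGrp.Action.lift_restrict_act]
  refine Groth.Agent.ChGrp24.isBalProd_of_points i aXh aS Φ ?_ ?_ ?_ ?_
  · intro T g b x
    rw [← cancel_mono σ, Category.assoc, Category.assoc, hP, hσ]
    simp only [comp_lift, comp_lift_assoc, MonObj.comp_mul, GrpObj.comp_inv, lift_fst, lift_snd_assoc, Category.assoc]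
    rw [reassoc_of% (hP b x), reassoc_of% (hP b x)]
    simp only [lift_fst, lift_snd, _root_.mul_inv_rev, _root_.mul_assoc, AlgGrp.Action.lift_mul_act]
  · intro T z g x
    have hc : (z ≫ i) * (toUnit T ≫ h) * (z ≫ i)⁻¹ = toUnit T ≫ h := by
      have e1 : (z ≫ i) ≫ aΨ.orbitMap o = (1 : T ⟶ G) ≫ aΨ.orbitMap o := by
        obtain ⟨-, hsq, -⟩ := hhom
        have := congrArg (lift (1 : T ⟶ G) z ≫ ·) hsq.w
        simp only [lift_fst_assoc, lift_whiskerLeft_assoc, Category.assoc] at this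
        rw [← Category.assoc (lift (1 : T ⟶ G) (z ≫ i)) μ, ← Hom.mul_def, _root_.one_mul] at this
        exact this.symm
      have e2 := congrArg (· ≫ ψ) e1
      rw [horb, horb, _root_.one_mul, inv_one, _root_.mul_one] at e2
      exact e2
    rw [← cancel_mono σ, Category.assoc, Category.assoc, hP, hP, hinl]
    congr 1
    · calc g * (z ≫ i)⁻¹ * (toUnit T ≫ h) * (g * (z ≫ i)⁻¹)⁻¹
          = g * ((z ≫ i)⁻¹ * ((z ≫ i) * (toUnit T ≫ h) * (z ≫ i)⁻¹) * (z ≫ i)) * g⁻¹ := by rw [hc]; group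
        _ = g * (toUnit T ≫ h) * g⁻¹ := by group
    · rw [← AlgGrp.Action.lift_mul_act, inv_mul_cancel_right]
  · intro T g g' x x' hj
    have e := congrArg (· ≫ σ) hj
    simp only [Category.assoc, hP] at e
    have e1 := congrArg (· ≫ fst G X) e
    have e2 := congrArg (· ≫ snd G X) e
    simp only [lift_fst, lift_snd] at e1 e2
    have eo : g ≫ aΨ.orbitMap o = g' ≫ aΨ.orbitMap o := by
      rw [← cancel_mono ψ, horb, horb, e1]
    obtain ⟨w, hw, hu⟩ := Groth.Agent.ChGrp24.homog_unique hhom eo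
    refine ⟨w⁻¹, ⟨?_, ?_⟩, ?_⟩
    · rw [GrpObj.inv_comp, _root_.inv_inv, hw]
    · rw [← cancel_mono incl, hinl, GrpObj.inv_comp]
      have e3 := congrArg (fun p => lift g'⁻¹ p ≫ a.act) e2
      simp only [← AlgGrp.Action.lift_mul_act, inv_mul_cancel, AlgGrp.Action.lift_one_act] at e3
      rw [e3, show (w ≫ i)⁻¹ = g'⁻¹ * g by rw [← hw]; group]
    · rintro v ⟨hv, -⟩
      rw [← hu v⁻¹ (by show g * _ = g'; rw [GrpObj.inv_comp]; exact hv), _root_.inv_inv]
  · obtain ⟨q₁, hq₁⟩ : ∃ q : SΨ ⟶ Ψ, q ≫ ψ = σ ≫ fst G X :=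
      ((hSΨ SΨ (σ ≫ fst G X) (σ ≫ snd G X)).1 ⟨𝟙 _, by rw [Category.id_comp, ← comp_lift, lift_fst_snd, Category.comp_id]⟩).1
    refine Groth.Agent.ChGrp24.isLocallyTrivialFor_of_lift (aΨ.orbitMap o) hhom.2.2 q₁ Φ fun {W} s g hg => ?_
    have hs := ((hSΨ W (s ≫ σ ≫ fst G X) (s ≫ σ ≫ snd G X)).1 ⟨s, by
      rw [← comp_lift, ← comp_lift, lift_fst_snd, Category.comp_id]⟩).2
    have hg' := congrArg (· ≫ ψ) hg
    rw [horb, Category.assoc, hq₁] at hg'
    rw [← hg'] at hs
    obtain ⟨y, hy⟩ := (hXh W (lift g⁻¹ (s ≫ σ ≫ snd G X) ≫ a.act)).2 (by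
      rw [← AlgGrp.Action.lift_mul_act]
      conv_rhs => rw [← hs, ← AlgGrp.Action.lift_mul_act]
      congr 2
      group)
    refine ⟨lift g y, ?_⟩
    rw [← cancel_mono σ, Category.assoc, hP, hy, ← AlgGrp.Action.lift_mul_act, mul_inv_cancel,
      AlgGrp.Action.lift_one_act, hg', ← comp_lift, ← comp_lift, lift_fst_snd, Category.comp_id]
end Groth.Agent.S19098
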