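import Groth.Statements.S19099
import Groth.Agent.ChGrp24.Points
import Groth.Agent.Stk19b.Quot.Induced
import Groth.Agent.AlgGrpLib.TorsorMap
import Groth.Agent.Et18.Descent
import Groth.Agent.AlgSpLib.FppfLocal
-- import your own Groth.Agent.* helpers here

set_option autoImplicit false
universe u
open CategoryTheory MonoidalCategory CartesianMonoidalCategory MonObj AlgebraicGeometry
open ChGrp

set_option backward.isDefEq.respectTransparency.types false
namespace Groth.Agent.S19099

/-- Let S be a scheme, i : G → Q a monomorphic homomorphism of S-group schemes (a closed subgroup), h an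
S-point of G whose image in Q is central, and X an S-scheme with a G-action a. Let incl : X^h → X be
a monomorphism whose points are the points of X fixed by h, with a G-action making incl equivariant
(X^h is G-stable since h is central in G). Let Y with its Q-action and j : Q ×_S X → Y be the
balanced product Q ×^G X for the fppf topology, Y' with j' : Q ×_S X^h → Y' the balanced product Q
×^G X^h, and m : Y' → Y the morphism under which j' followed by m is Q × incl followed by j. Then m
is a monomorphism, a point of Y factors through m exactly when it is fixed by h acting on Y through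
the Q-action, and m is a closed immersion if incl is one: Q ×^G X^h is the fixed locus of h in Q ×^G
X. (The source states this for a smooth algebraic space X of finite type over the complex numbers,
as an equality of closed subspaces, and argues on closed points; the form here is the one its
computation gives for the fppf quotients over any base, with X a scheme.) -/
theorem result
    {S : Scheme.{u}} {Q G X Xh Y Y' : Over S} [GrpObj Q] [GrpObj G]
    (i : G ⟶ Q) [IsMonHom i] [Mono i]
    (h : 𝟙_ (Over S) ⟶ G)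
    (hcent : ∀ (T : Over S) (q : T ⟶ Q), q * (toUnit T ≫ h ≫ i) = (toUnit T ≫ h ≫ i) * q)
    (a : AlgGrp.Action G X)
    (incl : Xh ⟶ X) [Mono incl]
    (hXh : ∀ (T : Over S) (x : T ⟶ X), (∃ y : T ⟶ Xh, y ≫ incl = x) ↔ lift (toUnit T ≫ h) x ≫ a.act = x)
    (aXh : AlgGrp.Action G Xh) (hincl : AlgGrp.Action.IsEquivariant aXh a incl)
    (aY : AlgGrp.Action Q Y) (j : Q ⊗ X ⟶ Y) (hY : ChGrp.IsBalProd Scheme.fppfPrecoverage i a aY j)
    (aY' : AlgGrp.Action Q Y') (j' : Q ⊗ Xh ⟶ Y') (hY' : ChGrp.IsBalProd Scheme.fppfPrecoverage i aXh aY' j')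
    (m : Y' ⟶ Y) (hm : j' ≫ m = (Q ◁ incl) ≫ j) :
    Mono m ∧
      (∀ (T : Over S) (y : T ⟶ Y), (∃ y' : T ⟶ Y', y' ≫ m = y) ↔ lift (toUnit T ≫ h ≫ i) y ≫ aY.act = y) ∧
      (IsClosedImmersion incl.left → IsClosedImmersion m.left) := by
  haveI : (QuotSh.J Scheme.fppfPrecoverage S).Subcanonical :=
    Groth.Agent.Stk19b.Quot.subcanonical_J _ Scheme.fppfPrecoverage_le_fpqcPrecoverage
  obtain ⟨heq, hcart, hloc⟩ := hY
  obtain ⟨-, hcart', hloc'⟩ := hY'
  have hsp : ∀ {A T : Over S} (p : T ⟶ Q ⊗ A), p = lift (p ≫ fst Q A) (p ≫ snd Q A) := fun p => by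
    rw [← comp_lift, lift_fst_snd, Category.comp_id]
  have hj : ∀ {T : Over S} (g b : T ⟶ Q) (z : T ⟶ X),
      lift g (lift b z ≫ j) ≫ aY.act = lift (g * b) z ≫ j := fun {T} g b z => by
    have e := congrArg (lift g (lift b z) ≫ ·) heq
    rw [← Category.assoc, Groth.Agent.ChGrp24.lift_translate, lift_whiskerLeft_assoc] at e
    exact e.symm
  have hjm : ∀ {T : Over S} (q : T ⟶ Q) (x : T ⟶ Xh), lift q x ≫ j' ≫ m = lift q (x ≫ incl) ≫ j := fun {T} q x => by
    rw [hm, lift_whiskerLeft_assoc]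
  have hfix : ∀ {T : Over S} (q : T ⟶ Q) (x : T ⟶ X),
      lift (toUnit T ≫ h ≫ i) (lift q x ≫ j) ≫ aY.act = lift q (lift (toUnit T ≫ h) x ≫ a.act) ≫ j := fun {T} q x => by
    rw [hj, ← hcent]
    have e := congrArg (lift (toUnit T ≫ h) (lift (q * (toUnit T ≫ h ≫ i)) x) ≫ ·) hcart.w
    rw [ChGrp.lift_twist_act_assoc, lift_snd_assoc, Category.assoc, mul_inv_cancel_right] at e
    exact e.symm
  -- a point of the source over a fixed point is a fixed point
  have hbase : ∀ {T : Over S} (p : T ⟶ Q ⊗ X), lift (toUnit T ≫ h ≫ i) (p ≫ j) ≫ aY.act = p ≫ j →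
      ∃ x' : T ⟶ Xh, x' ≫ incl = p ≫ snd Q X := fun {T} p hp => by
    refine (hXh T _).2 ?_
    rw [hsp p, hfix] at hp
    let l := hcart.lift _ _ hp
    have hl : l = lift (l ≫ fst G (Q ⊗ X)) (lift (p ≫ fst Q X) (p ≫ snd Q X)) := by
      apply CartesianMonoidalCategory.hom_ext
      · rw [lift_fst]
      · rw [lift_snd]; exact hcart.lift_snd _ _ _
    have h1 := hcart.lift_fst _ _ hp
    change l ≫ _ = _ at h1
    rw [hl, ChGrp.lift_twist_act] at h1
    have e1 := congrArg (· ≫ fst Q X) h1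
    have e2 := congrArg (· ≫ snd Q X) h1
    simp only [lift_fst, lift_snd] at e1 e2
    have hl1 : l ≫ fst G (Q ⊗ X) = 1 := by
      rw [← cancel_mono i, MonObj.one_comp]
      exact inv_eq_one.1 (mul_eq_left.1 e1)
    rw [hl1, AlgGrp.Action.lift_one_act] at e2
    exact e2.symm
  have hcov := Groth.Agent.Stk19b.Quot.generate_mem_of_loc j hloc
  have hcov' := Groth.Agent.Stk19b.Quot.generate_mem_of_loc j' hloc'
  haveI hmono : Mono m := by
    refine ⟨fun {T} y₁ y₂ hy => ?_⟩
    have hc := (QuotSh.J Scheme.fppfPrecoverage S).intersection_covering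
      ((QuotSh.J Scheme.fppfPrecoverage S).pullback_stable y₁ hcov')
      ((QuotSh.J Scheme.fppfPrecoverage S).pullback_stable y₂ hcov')
    refine ((GrothendieckTopology.Subcanonical.isSheaf_of_isRepresentable (yoneda.obj Y')) _ hc).isSeparatedFor.ext
      fun W l hl => ?_
    obtain ⟨⟨_, p₁, g₁, hg₁, hp₁⟩, ⟨_, p₂, g₂, hg₂, hp₂⟩⟩ := hl
    obtain ⟨⟩ := hg₁
    obtain ⟨⟩ := hg₂
    show l ≫ y₁ = l ≫ y₂
    rw [← hp₁, ← hp₂]
    have e : (lift (p₁ ≫ fst Q Xh) (p₁ ≫ snd Q Xh ≫ incl)) ≫ j = (lift (p₂ ≫ fst Q Xh) (p₂ ≫ snd Q Xh ≫ incl)) ≫ j := by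
      rw [← Category.assoc p₁, ← Category.assoc p₂, ← hjm, ← hjm, ← hsp, ← hsp, ← Category.assoc, ← Category.assoc,
        hp₁, hp₂, Category.assoc, Category.assoc, hy]
    let w := hcart.lift _ _ e
    have hw : w = lift (w ≫ fst G (Q ⊗ X)) (lift (p₂ ≫ fst Q Xh) (p₂ ≫ snd Q Xh ≫ incl)) := by
      apply CartesianMonoidalCategory.hom_ext
      · rw [lift_fst]
      · rw [lift_snd]; exact hcart.lift_snd _ _ _
    have h1 := hcart.lift_fst _ _ e
    change w ≫ _ = _ at h1
    rw [hw, ChGrp.lift_twist_act] at h1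
    have e1 := congrArg (· ≫ fst Q X) h1
    have e2 := congrArg (· ≫ snd Q X) h1
    simp only [lift_fst, lift_snd] at e1 e2
    have hk : lift (w ≫ fst G (Q ⊗ X)) (p₂ ≫ snd Q Xh) ≫ aXh.act = p₁ ≫ snd Q Xh := by
      rw [← cancel_mono incl, Category.assoc, show aXh.act ≫ incl = (G ◁ incl) ≫ a.act from hincl, lift_whiskerLeft_assoc,
        Category.assoc, Category.assoc]
      exact e2
    have h3 := congrArg (lift (w ≫ fst G (Q ⊗ X)) p₂ ≫ ·) hcart'.w
    rw [lift_snd_assoc, hsp p₂, ChGrp.lift_twist_act_assoc, e1, hk, ← hsp, ← hsp] at h3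
    exact h3
  have hpts : ∀ (T : Over S) (y : T ⟶ Y),
      (∃ y' : T ⟶ Y', y' ≫ m = y) ↔ lift (toUnit T ≫ h ≫ i) y ≫ aY.act = y := by
    intro T y
    constructor
    · rintro ⟨y', rfl⟩
      refine ((GrothendieckTopology.Subcanonical.isSheaf_of_isRepresentable (yoneda.obj Y)) _
        ((QuotSh.J Scheme.fppfPrecoverage S).pullback_stable y' hcov')).isSeparatedFor.ext fun W l hl => ?_
      obtain ⟨_, p, g, hg, hp⟩ := hl
      obtain ⟨⟩ := hg
      show l ≫ lift _ _ ≫ aY.act = l ≫ y' ≫ m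
      rw [comp_lift_assoc, ← Category.assoc l, toUnit_unique (l ≫ toUnit T) (toUnit W), ← Category.assoc l y', ← hp,
        Category.assoc, hsp p, hjm, hfix, (hXh W _).1 ⟨_, rfl⟩]
    · intro hy
      have hc := (QuotSh.J Scheme.fppfPrecoverage S).pullback_stable y hcov
      have hex : ∀ ⦃W : Over S⦄ (l : W ⟶ T), (Sieve.pullback y (Sieve.generate (Presieve.singleton j))).arrows l →
          ∃ y' : W ⟶ Y', y' ≫ m = l ≫ y := by
        rintro W l ⟨_, p, g, hg, hp⟩
        obtain ⟨⟩ := hg
        obtain ⟨x', hx'⟩ := hbase p (by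
          have e := congrArg (l ≫ ·) hy
          simp only [comp_lift_assoc] at e
          rw [← Category.assoc l, toUnit_unique (l ≫ toUnit T) (toUnit W), ← hp] at e
          exact e)
        exact ⟨lift (p ≫ fst Q X) x' ≫ j', by rw [Category.assoc, hjm, hx', ← hsp, hp]⟩
      let fam : Presieve.FamilyOfElements (yoneda.obj Y') (Sieve.pullback y (Sieve.generate (Presieve.singleton j))).arrows :=
        fun W l hl => (hex l hl).choose
      have hfam : ∀ ⦃W : Over S⦄ (l : W ⟶ T) (hl), fam l hl ≫ m = l ≫ y := fun W l hl => (hex l hl).choose_spec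
      obtain ⟨y', hy', -⟩ := (GrothendieckTopology.Subcanonical.isSheaf_of_isRepresentable (yoneda.obj Y')) _ hc fam
        (fun W₁ W₂ Z' g₁ g₂ l₁ l₂ h₁ h₂ e => by
          show g₁ ≫ fam l₁ h₁ = g₂ ≫ fam l₂ h₂
          rw [← cancel_mono m, Category.assoc, Category.assoc, hfam _ h₁, hfam _ h₂, reassoc_of% e])
      refine ⟨y', ((GrothendieckTopology.Subcanonical.isSheaf_of_isRepresentable (yoneda.obj Y)) _ hc).isSeparatedFor.ext
        fun W l hl => ?_⟩
      show l ≫ y' ≫ m = l ≫ y
      rw [← Category.assoc, show l ≫ y' = fam l hl from hy' l hl, hfam _ hl]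
  refine ⟨hmono, hpts, fun hci => ?_⟩
  have hsq : IsPullback (Q ◁ incl) j' j m := by
    have hex : ∀ s : Limits.PullbackCone j m, ∃ p : s.pt ⟶ Q ⊗ Xh, p ≫ (Q ◁ incl) = s.fst := fun s => by
      obtain ⟨x', hx'⟩ := hbase s.fst (by rw [s.condition]; exact (hpts _ _).1 ⟨_, rfl⟩)
      exact ⟨lift (s.fst ≫ fst Q X) x', by rw [lift_whiskerLeft, hx', ← hsp]⟩
    refine ⟨⟨hm.symm⟩, ⟨Limits.PullbackCone.IsLimit.mk _ (fun s => (hex s).choose) (fun s => (hex s).choose_spec)
      (fun s => ?_) (fun s p h1 _ => ?_)⟩⟩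
    · rw [← cancel_mono m, Category.assoc, hm, reassoc_of% (hex s).choose_spec, s.condition]
    · rw [hsp p, hsp (hex s).choose]
      have e := h1.trans (hex s).choose_spec.symm
      have e1 := congrArg (· ≫ fst Q X) e
      have e2 := congrArg (· ≫ snd Q X) e
      simp only [Category.assoc, whiskerLeft_fst, whiskerLeft_snd] at e1 e2
      rw [e1]
      congr 1
      rw [← cancel_mono incl, Category.assoc, Category.assoc]
      exact e2
  have hci' : IsClosedImmersion (Q ◁ incl).left :=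
    MorphismProperty.of_isPullback (Groth.Agent.AlgGrpLib.TorsorMap.isPullback_whiskerLeft incl).flip hci
  have hl : IsPullback (Q ◁ incl).left j'.left j.left m.left := hsq.map (Over.forget S)
  obtain ⟨R, hR, hsec⟩ := hloc
  haveI : MorphismProperty.DescendsAlong @IsClosedImmersion (@Surjective ⊓ @Flat ⊓ @QuasiCompact) :=
    Groth.Agent.Et18.descends_isClosedImmersion.{u}
  haveI : MorphismProperty.IsLocalAtTarget @IsClosedImmersion Scheme.fppfPrecoverage.{u} :=
    Groth.Agent.AlgSpLib.isLocalAtTarget_fppf _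
  refine MorphismProperty.IsLocalAtTarget.of_forall_pullbackSnd hR fun {W g} _ hg => ?_
  obtain ⟨v, hv⟩ := hsec g hg
  change v ≫ j.left = g at hv
  subst hv
  have hbig := ((IsPullback.of_hasPullback v (Q ◁ incl).left).flip).paste_horiz hl.flip
  refine (MorphismProperty.cancel_left_of_respectsIso @IsClosedImmersion hbig.isoPullback.hom _).1 ?_
  rw [hbig.isoPullback_hom_snd]
  exact MorphismProperty.pullback_fst _ _ hci'

end Groth.Agent.S19099
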