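import Groth.Prelude.Def_NonAbH2
import Groth.Prelude.Def_Red
import Groth.Prelude.Def_Omega3
import Mathlib.AlgebraicGeometry.Sites.Fpqc
import Mathlib.AlgebraicGeometry.Morphisms.FiniteType
import Mathlib.Data.Complex.Basic
import Groth.Agent.CohDer1.TorsorOmega

set_option autoImplicit false
namespace CategoryTheory
end CategoryTheory
namespace MonoidalCategory
end MonoidalCategory
namespace CartesianMonoidalCategory
end CartesianMonoidalCategory
namespace MonObj
end MonObj
namespace AlgebraicGeometry
end AlgebraicGeometry
namespace Limits
end Limits
open CategoryTheory MonoidalCategory CartesianMonoidalCategory MonObj AlgebraicGeometry Limits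
namespace Omega
end Omega
open Omega

namespace Groth.Agent.S19101

/-- Over S = Spec ℂ let G be an affine group scheme of finite type, Y a scheme over ℂ, and X a scheme
over Y carrying an action, over Y, of the base change G_Y of G to Y which makes X an fppf torsor
under G over Y. Let g : X ×_Y X → G be the morphism determined by g(h x, x) = h, i.e. the composite
of the inverse of the isomorphism G_Y ×_Y X → X ×_Y X, (h, x) ↦ (h x, x), with the projection to G;
the diagonal X → X ×_Y X and the unit section Spec ℂ → G then form a commutative (indeed cartesian)
square with g and X → Spec ℂ. Then there is a map of conormal sheaves for this square, from the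
pullback to X of the conormal sheaf m_e/m_e² of the unit section (the trivial bundle with fibre the
dual of the Lie algebra 𝔤) to the conormal sheaf of the diagonal, which is the sheaf of relative
differentials Ω_{X/Y}, characterised by sending the class of a local equation of the unit section to
the class of its pullback under g, and this map is an isomorphism: Ω_{X/Y} ≅ O_X ⊗ 𝔤^∨ canonically.
(The source states the dual form T_f = X × 𝔤 for algebraic spaces and moreover as G-equivariant
bundles for the adjoint action; the equivariance is not expressed here, and X, Y are schemes.) -/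
theorem result
    {G Y : Over (Spec (CommRingCat.of ℂ))} [GrpObj G] [IsAffine G.left] [LocallyOfFiniteType G.hom]
    {X : Over Y.left} (a : AlgGrp.Action (Red.bc Y.hom G) X)
    (hX : NonAbH1.IsTorsorFor Scheme.fppfPrecoverage a)
    (g : pullback X.hom X.hom ⟶ G.left)
    (hg : (lift a.act (snd (Red.bc Y.hom G) X)).left ≫ g =
      (fst (Red.bc Y.hom G) X).left ≫ pullback.fst G.hom Y.hom) :
    ∃ φ : (Scheme.Modules.pullback (toUnit (Over.mk (X.hom ≫ Y.hom) : Over (Spec (CommRingCat.of ℂ)))).left).obj
        (Omega.conormal (η[G]).left) ⟶ Omega.conormal (pullback.diagonal X.hom),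
      OmegaSh.IsConormalMap (pullback.diagonal X.hom) (η[G]).left g
        (toUnit (Over.mk (X.hom ≫ Y.hom) : Over (Spec (CommRingCat.of ℂ)))).left φ ∧ IsIso φ := by
  haveI : IsAffineHom G.hom := inferInstance
  exact Groth.Agent.CohDer1.TorsorOmega.exists_isConormalMap_isIso a hX.1 g hg

end Groth.Agent.S19101
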