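import Groth.Statements.S19105
import Groth.Agent.DivCurve29.Divisor

set_option autoImplicit false
open CategoryTheory CategoryTheory.Limits AlgebraicGeometry
universe u
open HilbD

namespace Groth.Agent.S19105

/-- Let f : X ⟶ S be smooth of relative dimension 1, μ a non-empty Young diagram and n a reversed plane
partition of shape μ (a labelling of the cells by naturals, non-decreasing along rows and columns).
Call relative divisor of degree d a closed subscheme of X, given by a quasi-coherent ideal sheaf,
whose projection to S is finite locally free of degree d; sums of divisors are products of ideal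
sheaves. Let edge data of type n be given: a relative divisor Z_00 of degree n_00, for each cell
(i,j) with i ≥ 1 a relative divisor X_ij of degree n_ij − n_{i−1,j} and for each cell with j ≥ 1 a
relative divisor Y_ij of degree n_ij − n_{i,j−1}, such that for every cell with i, j ≥ 1 the divisor
Y_ij + X_{i,j−1} is contained in X_ij + Y_{i−1,j} (containment of ideal sheaves the other way). Then
there is exactly one flag (Z_c)_{c ∈ μ} of relative divisors of degrees n_c, growing along rows and
columns, with corner Z_00 and with Z_ij = Z_{i−1,j} + X_ij and Z_ij = Z_{i,j−1} + Y_ij throughout.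
(The published statement is for X = C × T ⟶ T with C a smooth irreducible quasi-projective complex
curve and T a complex scheme, and identifies, through T-points, the scheme of such flags with the
zero scheme of a section of a vector bundle on the product of symmetric powers that carries the edge
data; the vanishing of the pulled-back section at a T-point amounts to the stated containment of
divisors. Here f is any smooth morphism of relative dimension 1, and neither the bundle nor its
section is formed.) -/
theorem result {X S : Scheme.{u}} (f : X ⟶ S) [SmoothOfRelativeDimension 1 f]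
    (μ : YoungDiagram) (h00 : ((0, 0) : ℕ × ℕ) ∈ μ) (n : ℕ × ℕ → ℕ) (hn : HilbD.IsRevPlanePartition μ n)
    (E : HilbD.DnEdgeData μ X) (hE : E.IsOfType f n)
    (hcomm : ∀ (c : ℕ × ℕ) (hc : c ∈ μ) (hi : 1 ≤ c.1) (hj : 1 ≤ c.2), E.gammaOne c hc hi hj ≤ E.gammaTwo c hc hi hj) :
    ∃! Z : ∀ c : ℕ × ℕ, c ∈ μ → X.IdealSheafData, HilbD.IsDnFlag f μ n Z ∧ E.IsEdgesOf h00 Z := by
  classical
  obtain ⟨hb, hv, hh⟩ := hE
  let vt : ℕ × ℕ → X.IdealSheafData := fun c => if h : c ∈ μ ∧ 1 ≤ c.1 then E.vert c h.1 h.2 else ⊤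
  let hz : ℕ × ℕ → X.IdealSheafData := fun c => if h : c ∈ μ ∧ 1 ≤ c.2 then E.horiz c h.1 h.2 else ⊤
  have vt_eq : ∀ c hc hi, vt c = E.vert c hc hi := fun c hc hi => dif_pos ⟨hc, hi⟩
  have hz_eq : ∀ c hc hj, hz c = E.horiz c hc hj := fun c hc hj => dif_pos ⟨hc, hj⟩
  let row : ℕ → X.IdealSheafData := fun j => Nat.rec E.base (fun j P => P * hz (0, j + 1)) j
  let W : ℕ → ℕ → X.IdealSheafData := fun i j => Nat.rec (row j) (fun i P => P * vt (i + 1, j)) i
  have down : ∀ {c c' : ℕ × ℕ}, c' ∈ μ → c ≤ c' → c ∈ μ := fun h h' => μ.isLowerSet h' h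
  have hup : ∀ i j, ((i, j) : ℕ × ℕ) ≤ (i + 1, j) := fun i j => ⟨Nat.le_succ i, le_rfl⟩
  have hlf : ∀ i j, ((i, j) : ℕ × ℕ) ≤ (i, j + 1) := fun i j => ⟨le_rfl, Nat.le_succ j⟩
  have horiz : ∀ i j, ((i, j + 1) : ℕ × ℕ) ∈ μ → W i (j + 1) = W i j * hz (i, j + 1) := by
    intro i
    induction i with
    | zero => exact fun j _ => rfl
    | succ i ih =>
      intro j hc
      have hc1 : ((i, j + 1) : ℕ × ℕ) ∈ μ := down hc (hup i (j + 1))
      have hc2 : ((i + 1, j) : ℕ × ℕ) ∈ μ := down hc (hlf (i + 1) j)
      have hg : vt (i + 1, j + 1) * hz (i, j + 1) = hz (i + 1, j + 1) * vt (i + 1, j) := by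
        have hle := hcomm (i + 1, j + 1) hc (Nat.le_add_left 1 i) (Nat.le_add_left 1 j)
        have d1 := Groth.Agent.DivCurve29.mul_isDiv f (hv _ hc (Nat.le_add_left 1 i))
          (hh (i, j + 1) hc1 (Nat.le_add_left 1 j))
        have d2 := Groth.Agent.DivCurve29.mul_isDiv f (hh _ hc (Nat.le_add_left 1 j))
          (hv (i + 1, j) hc2 (Nat.le_add_left 1 i))
        simp only [Nat.add_sub_cancel] at d1 d2
        have m1 := hn hc1 hc (hup i (j + 1))
        have m2 := hn (down hc1 (hlf i j)) hc1 (hlf i j)
        have m3 := hn hc2 hc (hlf (i + 1) j)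
        have m4 := hn (down hc1 (hlf i j)) hc2 (hup i j)
        rw [show n (i + 1, j + 1) - n (i + 1, j) + (n (i + 1, j) - n (i, j)) =
          n (i + 1, j + 1) - n (i, j + 1) + (n (i, j + 1) - n (i, j)) by omega] at d2
        rw [vt_eq _ hc (Nat.le_add_left 1 i), hz_eq _ hc1 (Nat.le_add_left 1 j),
          hz_eq _ hc (Nat.le_add_left 1 j), vt_eq _ hc2 (Nat.le_add_left 1 i)]
        exact Groth.Agent.DivCurve29.eq_of_le f hle d1 d2
      show W i (j + 1) * vt (i + 1, j + 1) = W i j * vt (i + 1, j) * hz (i + 1, j + 1)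
      rw [ih j hc1, mul_assoc, mul_assoc, mul_comm (hz (i, j + 1)), hg, mul_comm (hz _)]
  have deg0 : ∀ j, ((0, j) : ℕ × ℕ) ∈ μ → HilbD.IsDivOfDeg f (n (0, j)) (row j) := by
    intro j
    induction j with
    | zero => exact fun _ => hb
    | succ j ih =>
      intro hc
      have h' := down hc (hlf 0 j)
      have d := Groth.Agent.DivCurve29.mul_isDiv f (ih h') (hh _ hc (Nat.le_add_left 1 j))
      simp only [Nat.add_sub_cancel] at d
      rw [show n (0, j) + (n (0, j + 1) - n (0, j)) = n (0, j + 1) by
        have := hn h' hc (hlf 0 j); omega, ← hz_eq _ hc (Nat.le_add_left 1 j)] at d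
      exact d
  have deg : ∀ i j, ((i, j) : ℕ × ℕ) ∈ μ → HilbD.IsDivOfDeg f (n (i, j)) (W i j) := by
    intro i j
    induction i with
    | zero => exact deg0 j
    | succ i ih =>
      intro hc
      have h' := down hc (hup i j)
      have d := Groth.Agent.DivCurve29.mul_isDiv f (ih h') (hv _ hc (Nat.le_add_left 1 i))
      simp only [Nat.add_sub_cancel] at d
      rw [show n (i, j) + (n (i + 1, j) - n (i, j)) = n (i + 1, j) by
        have := hn h' hc (hup i j); omega, ← vt_eq _ hc (Nat.le_add_left 1 i)] at d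
      exact d
  refine ⟨fun c _ => W c.1 c.2, ⟨⟨fun c hc => deg c.1 c.2 hc, ?_⟩, rfl, ?_, ?_⟩, ?_⟩
  · rintro ⟨i, j⟩ ⟨i', j'⟩ _ hc' ⟨hi, hj⟩
    show W i' j' ≤ W i j
    have s1 : ∀ i', i ≤ i' → W i' j ≤ W i j := fun i' h => by
      induction i', h using Nat.le_induction with
      | base => exact le_rfl
      | succ k _ ih => exact (Groth.Agent.DivCurve29.mul_le_left' _ _).trans ih
    have s2 : ∀ j', j ≤ j' → ((i', j') : ℕ × ℕ) ∈ μ → W i' j' ≤ W i' j := fun j' h => by
      induction j', h using Nat.le_induction with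
      | base => exact fun _ => le_rfl
      | succ k _ ih =>
        intro hk
        rw [horiz i' k hk]
        exact (Groth.Agent.DivCurve29.mul_le_left' _ _).trans (ih (down hk (hlf i' k)))
    exact (s2 j' hj hc').trans (s1 i' hi)
  · rintro ⟨_ | i, j⟩ hc hi
    · exact absurd hi (Nat.not_succ_le_zero 0)
    · exact congrArg (W i j * ·) (vt_eq _ hc hi)
  · rintro ⟨i, _ | j⟩ hc hj
    · exact absurd hj (Nat.not_succ_le_zero 0)
    · exact (horiz i j hc).trans (congrArg (W i j * ·) (hz_eq _ hc hj))
  · rintro Z ⟨-, h0, h1, h2⟩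
    funext c hc
    obtain ⟨i, j⟩ := c
    induction i with
    | zero =>
      induction j with
      | zero => exact h0
      | succ j ih =>
        rw [h2 _ hc (Nat.le_add_left 1 j)]
        show _ = row j * hz (0, j + 1)
        rw [hz_eq _ hc (Nat.le_add_left 1 j)]
        exact congrArg (· * _) (ih (down hc (hlf 0 j)))
    | succ i ih =>
      rw [h1 _ hc (Nat.le_add_left 1 i)]
      show _ = W i j * vt (i + 1, j)
      rw [vt_eq _ hc (Nat.le_add_left 1 i)]
      exact congrArg (· * _) (ih (down hc (hup i j)))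

end Groth.Agent.S19105
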