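import Groth.Statements.S19106


set_option autoImplicit false
open HilbD

namespace Groth.Agent.S19106

/-- Let μ be a non-empty Young diagram, V the number of its cells, E the number of unordered pairs of
cells sharing a side (a cell together with the cell immediately below it, or immediately to its
right, both in μ) and Q the number of 2 × 2 blocks of cells of μ (cells c such that the cell
diagonally below-right of c is in μ, the other two corners being in μ automatically). Then V − E + Q
− 1 = 0, stated as V + Q = E + 1 in the naturals. (The empty diagram, for which the count reads 0 −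
0 + 0 − 1, is excluded.) -/
theorem result (μ : YoungDiagram) (hμ : μ ≠ ⊥) :
    μ.cells.card + (μ.cells.filter (fun c => (c.1 + 1, c.2 + 1) ∈ μ)).card =
      (μ.cells.filter (fun c => (c.1 + 1, c.2) ∈ μ)).card + (μ.cells.filter (fun c => (c.1, c.2 + 1) ∈ μ)).card + 1 := by
  classical
  have h00 : ((0, 0) : ℕ × ℕ) ∈ μ := by
    obtain ⟨c, hc⟩ : μ.cells.Nonempty := by
      rw [Finset.nonempty_iff_ne_empty]
      intro h
      exact hμ (YoungDiagram.ext (by simpa using h))
    exact μ.up_left_mem (Nat.zero_le _) (Nat.zero_le _) (show (c.1, c.2) ∈ μ from hc)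
  have e1 : (μ.cells.filter (fun c => (c.1, c.2 + 1) ∈ μ)).card = (μ.cells.filter (fun c => c.2 ≠ 0)).card := by
    refine Finset.card_bij' (fun c _ => (c.1, c.2 + 1)) (fun c _ => (c.1, c.2 - 1)) ?_ ?_ ?_ ?_
    · intro c hc; simp_all
    · intro c hc
      simp only [Finset.mem_filter, YoungDiagram.mem_cells] at hc ⊢
      exact ⟨μ.up_left_mem le_rfl (Nat.sub_le _ _) hc.1, by rw [Nat.sub_add_cancel (Nat.one_le_iff_ne_zero.2 hc.2)]; exact hc.1⟩
    · intro c hc; simp
    · intro c hc; simp only [Finset.mem_filter] at hc; ext <;> simp; omega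
  have e2 : (μ.cells.filter (fun c => (c.1 + 1, c.2 + 1) ∈ μ)).card =
      ((μ.cells.filter (fun c => (c.1 + 1, c.2) ∈ μ)).filter (fun c => c.2 ≠ 0)).card := by
    refine Finset.card_bij' (fun c _ => (c.1, c.2 + 1)) (fun c _ => (c.1, c.2 - 1)) ?_ ?_ ?_ ?_
    · intro c hc
      simp only [Finset.mem_filter, YoungDiagram.mem_cells] at hc ⊢
      exact ⟨⟨μ.up_left_mem (Nat.le_succ _) le_rfl hc.2, hc.2⟩, Nat.succ_ne_zero _⟩
    · intro c hc
      simp only [Finset.mem_filter, YoungDiagram.mem_cells] at hc ⊢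
      exact ⟨μ.up_left_mem le_rfl (Nat.sub_le _ _) hc.1.1, by rw [Nat.sub_add_cancel (Nat.one_le_iff_ne_zero.2 hc.2)]; exact hc.1.2⟩
    · intro c hc; simp
    · intro c hc; simp only [Finset.mem_filter] at hc; ext <;> simp; omega
  have e3 : ((μ.cells.filter (fun c => (c.1 + 1, c.2) ∈ μ)).filter (fun c => ¬ c.2 ≠ 0)).card + 1 =
      (μ.cells.filter (fun c => ¬ c.2 ≠ 0)).card := by
    rw [← Finset.card_erase_add_one (s := μ.cells.filter (fun c => ¬ c.2 ≠ 0)) (a := (0, 0))
      (by simpa using h00)]
    congr 1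
    refine Finset.card_bij' (fun c _ => (c.1 + 1, c.2)) (fun c _ => (c.1 - 1, c.2)) ?_ ?_ ?_ ?_
    · intro c hc
      simp only [Finset.mem_filter, Finset.mem_erase, YoungDiagram.mem_cells, not_not] at hc ⊢
      exact ⟨fun h => Nat.succ_ne_zero _ (congrArg Prod.fst h), hc.1.2, hc.2⟩
    · intro c hc
      simp only [Finset.mem_filter, Finset.mem_erase, YoungDiagram.mem_cells, not_not] at hc ⊢
      have : c.1 ≠ 0 := fun h => hc.1 (Prod.ext h hc.2.2)
      exact ⟨⟨μ.up_left_mem (Nat.sub_le _ _) le_rfl hc.2.1, by rw [Nat.sub_add_cancel (Nat.one_le_iff_ne_zero.2 this)]; exact hc.2.1⟩, hc.2.2⟩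
    · intro c hc; simp
    · intro c hc
      simp only [Finset.mem_filter, Finset.mem_erase, YoungDiagram.mem_cells, not_not] at hc
      have : c.1 ≠ 0 := fun h => hc.1 (Prod.ext h hc.2.2)
      ext <;> simp; omega
  have e4 := Finset.card_filter_add_card_filter_not (s := μ.cells) (fun c => c.2 ≠ 0)
  have e5 := Finset.card_filter_add_card_filter_not (s := μ.cells.filter (fun c => (c.1 + 1, c.2) ∈ μ)) (fun c => c.2 ≠ 0)
  omega

end Groth.Agent.S19106
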