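import Groth.Statements.S19127
import Groth.Agent.HSL15.Core
import Groth.Agent.HSL15.Embed
-- import your own Groth.Agent.* helpers here

set_option autoImplicit false
universe u v
open FrobAlg
open Groth.Agent

namespace Groth.Agent.S19127

/-- Let p be a prime, A a Noetherian local ring of characteristic p with maximal ideal m, and M an
A-module which is cofinite, meaning that every element of M is annihilated by some power of m and
that the socle of M (the elements annihilated by m) is a finitely generated A-module. Let φ : M → M
be an additive map that is semilinear for the Frobenius of A, φ(a x) = a^p φ(x). If φ is locally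
nilpotent, i.e. every element of M is annihilated by some iterate of φ, then φ is nilpotent: one
iterate of φ is zero on all of M. -/
theorem result
    (p : ℕ) [Fact p.Prime] (A : Type u) [CommRing A] [IsNoetherianRing A] [IsLocalRing A] [CharP A p]
    (M : Type v) [AddCommGroup M] [Module A M]
    (htors : LocCoh.IsPowerTorsion (IsLocalRing.maximalIdeal A) M)
    (hsoc : Module.Finite A ↥(LocCoh.torsionBy (IsLocalRing.maximalIdeal A) M))
    (φ : M →ₛₗ[frobenius A p] M)
    (hloc : ∀ x : M, ∃ n : ℕ, (⇑φ)^[n] x = 0) :
    ∃ n : ℕ, ∀ x : M, (⇑φ)^[n] x = 0 := by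
  classical
  obtain ⟨E, _, _, hE⟩ := Matlis6.exists_isHullAt (IsLocalRing.maximalIdeal A)
  obtain ⟨n, ι, hι⟩ := HSL15.exists_embedding hE htors hsoc
  let M' : Submodule A (Fin n → E) := LinearMap.range ι
  let e : M ≃ₗ[A] ↥M' := LinearEquiv.ofInjective ι hι
  let φ' : ↥M' →ₛₗ[frobenius A p] ↥M' :=
    { toFun := fun y => e (φ (e.symm y))
      map_add' := fun a b => by rw [map_add, map_add, map_add]
      map_smul' := fun c a => by rw [map_smul e.symm, φ.map_smulₛₗ, map_smul e] }
  have hit : ∀ (j : ℕ) (y : ↥M'), (⇑φ')^[j] y = e ((⇑φ)^[j] (e.symm y)) := fun j => by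
    induction j with
    | zero => intro y; simp
    | succ j ih =>
      intro y
      rw [Function.iterate_succ_apply', Function.iterate_succ_apply', ih]
      show e (φ (e.symm (e _))) = _
      rw [LinearEquiv.symm_apply_apply]
  obtain ⟨N, hN⟩ := HSL15.nilpotent_core p hE (M := ↥M') (fun y => by
      obtain ⟨i, hi⟩ := htors (e.symm y)
      exact ⟨i, fun a ha => e.symm.injective (by rw [map_smul, hi a ha, map_zero])⟩)
    M'.subtype (Submodule.injective_subtype _) φ' (fun y => by
      obtain ⟨j, hj⟩ := hloc (e.symm y)
      exact ⟨j, by rw [hit, hj, map_zero]⟩)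
  refine ⟨N, fun x => e.injective ?_⟩
  have := hN (e x)
  rw [hit, LinearEquiv.symm_apply_apply] at this
  rw [this, map_zero]

end Groth.Agent.S19127
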