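import Groth.Statements.S19135
import Groth.Agent.DualLib.GammaHDI
import Groth.Agent.DualLib.CxDualityHDI
import Groth.Agent.Matlis6.HullExistence

set_option autoImplicit false
universe u
open CategoryTheory
attribute [local instance] HasDerivedCategory.standard
open Dual

namespace Groth.Agent.S19135

/-- In the case of the spectrum of the base local ring and its closed point, let A be a Noetherian local
ring with maximal ideal m and ω a normalized dualizing complex over A (Hom(k, ω[i]) = 0 in D(A) for
i ≠ 0), assume the total right derived functor RΓ_m of the m-power-torsion functor exists on D(A),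
and let M be an object of D(A) which is bounded with finitely generated cohomology modules. Then
RHom(M, ω) is concentrated in degrees ≥ 0 (Hom(M, ω[i]) = 0 for all i < 0) if and only if RΓ_m M is
concentrated in degrees ≤ 0 (H^i(RΓ_m M) = 0 for all i > 0); and RHom(M, ω) is concentrated in
degrees ≤ 0 if and only if RΓ_m M is concentrated in degrees ≥ 0. In particular M is perverse
coherent (RHom(M, ω) concentrated in degree 0) exactly when its local cohomology at m is
concentrated in degree 0. (The published statement of the two halves, read in cohomological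
indexing, has the inequalities on the local cohomology side exchanged: over a field k with ω = k,
the complex k[1] has RHom(k[1], ω) = k[−1] concentrated in degrees ≥ 0 while its local cohomology
k[1] is concentrated in degree −1, not in degrees ≥ 0. This statement gives the form that local
duality yields, which is the one compatible with the description of the perverse t-structure by
support conditions.) -/
theorem result
    (A : Type u) [CommRing A] [IsLocalRing A] [IsNoetherianRing A]
    (ω : Dual.D A) (hω : Dual.IsDualizing A ω) (hn : Dual.IsNormalized A ω)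
    [DRing.HasRgammaI (IsLocalRing.maximalIdeal A)] (M : Dual.D A)
    (hfin : ∀ i : ℤ, Module.Finite A (Dual.HD A M i))
    (hbd : ∃ a b : ℤ, ∀ i : ℤ, (i < a ∨ b < i) → Subsingleton (Dual.HD A M i)) :
    ((∀ i : ℤ, i < 0 → Subsingleton (M ⟶ ω⟦i⟧)) ↔
      (∀ i : ℤ, 0 < i → Subsingleton (Dual.HD A ((DRing.RgammaI (IsLocalRing.maximalIdeal A)).obj M) i))) ∧
    ((∀ i : ℤ, 0 < i → Subsingleton (M ⟶ ω⟦i⟧)) ↔
      (∀ i : ℤ, i < 0 → Subsingleton (Dual.HD A ((DRing.RgammaI (IsLocalRing.maximalIdeal A)).obj M) i))) := by
  obtain ⟨E₀, _, _, f₀, hf₀⟩ := Groth.Agent.Matlis6.exists_isInjectiveHull A (IsLocalRing.ResidueField A)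
  have hE := Groth.Agent.Matlis6.of_isInjectiveHull_residueField hf₀
  have key : ∀ i j : ℤ, j = -i → (Subsingleton (M ⟶ ω⟦j⟧) ↔
      Subsingleton (Dual.HD A ((DRing.RgammaI (IsLocalRing.maximalIdeal A)).obj M) i)) := by
    intro i j hj
    subst hj
    obtain ⟨Φ⟩ := Groth.Agent.DualLib.CxDuality.nonempty_HDI_equiv hω hn hf₀ M hfin i
    obtain ⟨Ψ⟩ := Groth.Agent.DualLib.GammaHDI.nonempty_HDI_RgammaI (IsLocalRing.maximalIdeal A) M i
    rw [← (Ψ.symm.trans Φ).toEquiv.subsingleton_congr.symm]
    refine ⟨fun h => ⟨fun a b => LinearMap.ext fun x => by rw [Subsingleton.elim x 0, map_zero, map_zero]⟩,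
      fun h => ⟨fun a b => sub_eq_zero.1 (by_contra fun hx => ?_)⟩⟩
    haveI := Groth.Agent.DualLib.CxDuality.finite_hom hω M hfin (-i)
    obtain ⟨m, π, hπ⟩ := Module.Finite.exists_fin' A (M ⟶ ω⟦(-i)⟧)
    let e := π.quotKerEquivOfSurjective hπ
    obtain ⟨φ, hφ⟩ := hE.exists_apply_ne_zero_local (x := e.symm (a - b)) (by
      rw [Ne, LinearEquiv.map_eq_zero_iff]; exact hx)
    exact hφ (by
      have h0 : φ.comp e.symm.toLinearMap = 0 := Subsingleton.elim _ _
      exact LinearMap.congr_fun h0 (a - b))
  constructor
  · exact ⟨fun h i hi => (key i (-i) rfl).1 (h (-i) (by omega)), fun h i hi => (key (-i) i (by omega)).2 (h (-i) (by omega))⟩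
  · exact ⟨fun h i hi => (key i (-i) rfl).1 (h (-i) (by omega)), fun h i hi => (key (-i) i (by omega)).2 (h (-i) (by omega))⟩

end Groth.Agent.S19135
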