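import Groth.Statements.S19138
import Mathlib.Analysis.Convex.StdSimplex
import Mathlib.Analysis.Real.Sqrt
import Mathlib.LinearAlgebra.Matrix.NonsingularInverse
import Mathlib.Tactic.LinearCombination
import Mathlib.LinearAlgebra.Matrix.ToLinearEquiv
import Mathlib.Topology.Instances.Matrix

set_option autoImplicit false
open Instab

namespace Groth.Agent.S19138

open Matrix

theorem eq_zero_of_quad_nonpos {a c δ : ℝ} (hδ : 0 < δ)
    (h : ∀ t : ℝ, |t| < δ → a * t + c * t ^ 2 ≤ 0) : a = 0 := by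
  by_contra ha
  set K := |c| + 1 with hK
  have hKpos : 0 < K := by positivity
  set s := min (δ / 2) (|a| / (2 * K)) with hs
  have hspos : 0 < s := lt_min (half_pos hδ) (by positivity)
  have hs2 : s * K ≤ |a| / 2 := by
    have : s ≤ |a| / (2 * K) := min_le_right _ _
    rw [le_div_iff₀ (by positivity)] at this
    linarith
  have hc : -(s * K) ≤ c * s := by
    nlinarith [neg_abs_le c, hspos.le]
  rcases lt_or_gt_of_ne ha with hn | hp
  · have := h (-s) (by rw [abs_neg, abs_of_pos hspos]; linarith [min_le_left (δ / 2) (|a| / (2 * K))])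
    rw [abs_of_neg hn] at hs2
    nlinarith [mul_pos hspos (neg_pos.mpr hn)]
  · have := h s (by rw [abs_of_pos hspos]; linarith [min_le_left (δ / 2) (|a| / (2 * K))])
    rw [abs_of_pos hp] at hs2
    nlinarith [mul_pos hspos hp]

theorem core {n : ℕ} (lq : Fin n → ℚ) (Bq : Matrix (Fin n) (Fin n) ℚ)
    (l : Fin n → ℝ) (M : Matrix (Fin n) (Fin n) ℝ) (hl : l = fun i => (lq i : ℝ))
    (hM : M = Bq.map (fun r : ℚ => (r : ℝ))) (hsymm : Mᵀ = M)
    (hnn : ∀ y : Fin n → ℝ, 0 ≤ y ⬝ᵥ M *ᵥ y)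
    (hpos : ∀ y : Fin n → ℝ, (∀ i, 0 ≤ y i) → y ≠ 0 → 0 < y ⬝ᵥ M *ᵥ y)
    (hl0 : ∃ y : Fin n → ℝ, (∀ i, 0 ≤ y i) ∧ 0 < l ⬝ᵥ y) :
    ∃ x : Fin n → ℚ, (∀ i, 0 ≤ x i) ∧ x ≠ 0 ∧
      ∀ y : Fin n → ℝ, (∀ i, 0 ≤ y i) → y ≠ 0 →
        l ⬝ᵥ y / Real.sqrt (y ⬝ᵥ M *ᵥ y) ≤
          l ⬝ᵥ (fun i => (x i : ℝ)) /
            Real.sqrt ((fun i => (x i : ℝ)) ⬝ᵥ M *ᵥ (fun i => (x i : ℝ))) := by
  classical
  let f : (Fin n → ℝ) → ℝ := fun y => l ⬝ᵥ y / Real.sqrt (y ⬝ᵥ M *ᵥ y)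
  have hscale : ∀ (c : ℝ) (y : Fin n → ℝ), 0 < c → f (c • y) = f y := by
    intro c y hc
    simp only [f, dotProduct_smul, smul_dotProduct, mulVec_smul, smul_eq_mul]
    rw [← mul_assoc, Real.sqrt_mul (mul_self_nonneg c), Real.sqrt_mul_self hc.le,
      mul_div_mul_left _ _ hc.ne']
  obtain ⟨y₀, hy₀, hly₀⟩ := hl0
  have hy₀0 : y₀ ≠ 0 := by rintro rfl; simp at hly₀
  have hsum : ∀ y : Fin n → ℝ, (∀ i, 0 ≤ y i) → y ≠ 0 → 0 < ∑ i, y i := by
    intro y hy hy0
    obtain ⟨i, hi⟩ := Function.ne_iff.mp hy0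
    exact Finset.sum_pos' (fun j _ => hy j) ⟨i, Finset.mem_univ i, lt_of_le_of_ne (hy i) (Ne.symm hi)⟩
  have hmem : ∀ y : Fin n → ℝ, (∀ i, 0 ≤ y i) → y ≠ 0 →
      (∑ i, y i)⁻¹ • y ∈ stdSimplex ℝ (Fin n) := by
    intro y hy hy0
    refine ⟨fun i => mul_nonneg (inv_nonneg.mpr (hsum y hy hy0).le) (hy i), ?_⟩
    simp only [Pi.smul_apply, smul_eq_mul, ← Finset.mul_sum]
    exact inv_mul_cancel₀ (hsum y hy hy0).ne'
  have hne : ∀ y ∈ stdSimplex ℝ (Fin n), y ≠ 0 := by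
    rintro y hy rfl
    simpa using hy.2
  obtain ⟨w₀, hw₀mem, hw₀max⟩ := (isCompact_stdSimplex (𝕜 := ℝ) (ι := Fin n)).exists_isMaxOn
    ⟨_, hmem y₀ hy₀ hy₀0⟩ (f := f) (by
      refine ContinuousOn.div ?_ ?_ ?_
      · exact (continuous_const.dotProduct continuous_id).continuousOn
      · exact (continuous_id.dotProduct (continuous_const.matrix_mulVec continuous_id)).sqrt.continuousOn
      · exact fun y hy => (Real.sqrt_pos.mpr (hpos y hy.1 (hne y hy))).ne')
  let IsMaxr : (Fin n → ℝ) → Prop := fun z =>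
    (∀ i, 0 ≤ z i) ∧ z ≠ 0 ∧ ∀ y : Fin n → ℝ, (∀ i, 0 ≤ y i) → y ≠ 0 → f y ≤ f z
  let supp : (Fin n → ℝ) → Finset (Fin n) := fun z => Finset.univ.filter (fun i => z i ≠ 0)
  have hex : ∃ k, ∃ z, IsMaxr z ∧ (supp z).card = k := by
    refine ⟨_, w₀, ⟨hw₀mem.1, hne w₀ hw₀mem, fun y hy hy0 => ?_⟩, rfl⟩
    rw [← hscale (∑ i, y i)⁻¹ y (inv_pos.mpr (hsum y hy hy0))]
    exact hw₀max (hmem y hy hy0)
  obtain ⟨z₁, ⟨hz₁, hz₁0, hz₁max⟩, hz₁k⟩ := Nat.find_spec hex
  have hfpos : 0 < f z₁ :=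
    lt_of_lt_of_le (div_pos hly₀ (Real.sqrt_pos.mpr (hpos y₀ hy₀ hy₀0))) (hz₁max y₀ hy₀ hy₀0)
  have hQ₁ := hpos z₁ hz₁ hz₁0
  have hL₁ : 0 < l ⬝ᵥ z₁ := by
    have h := mul_pos hfpos (Real.sqrt_pos.mpr hQ₁)
    simp only [f, div_mul_cancel₀ _ (Real.sqrt_pos.mpr hQ₁).ne'] at h
    exact h
  -- normalise
  set c := l ⬝ᵥ z₁ / (z₁ ⬝ᵥ M *ᵥ z₁) with hc
  have hcpos : 0 < c := div_pos hL₁ hQ₁
  set z := c • z₁ with hzdef
  have hz : ∀ i, 0 ≤ z i := fun i => mul_nonneg hcpos.le (hz₁ i)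
  have hsupp : supp z = supp z₁ := by
    ext i; simp [supp, hzdef, hcpos.ne']
  have hzmax : ∀ y : Fin n → ℝ, (∀ i, 0 ≤ y i) → y ≠ 0 → f y ≤ f z := fun y hy hy0 => by
    rw [hzdef, hscale c z₁ hcpos]; exact hz₁max y hy hy0
  set Q := z ⬝ᵥ M *ᵥ z with hQdef
  have hLQ : l ⬝ᵥ z = Q := by
    simp only [hQdef, hzdef, dotProduct_smul, smul_dotProduct, mulVec_smul, smul_eq_mul, hc]
    field_simp
  have hQ : 0 < Q := by rw [← hLQ, hzdef, dotProduct_smul, smul_eq_mul]; exact mul_pos hcpos hL₁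
  have hsym' : ∀ u v : Fin n → ℝ, u ⬝ᵥ M *ᵥ v = v ⬝ᵥ M *ᵥ u := by
    intro u v
    rw [dotProduct_mulVec, ← mulVec_transpose, hsymm, dotProduct_comm]
  set S := supp z with hS
  have hoff : ∀ i, i ∉ S → z i = 0 := fun i hi => by simpa [hS, supp] using hi
  -- first-order condition
  have hfoc : ∀ i ∈ S, (M *ᵥ z) i = l i := by
    intro i hi
    have hzi : 0 < z i := lt_of_le_of_ne (hz i) (Ne.symm (by simpa [hS, supp] using hi))
    set e : Fin n → ℝ := Pi.single i 1 with he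
    have key : 2 * Q * (l i - (M *ᵥ z) i) * Q = 0 := by
      refine eq_zero_of_quad_nonpos (c := (l i) ^ 2 * Q - Q ^ 2 * M i i)
        (lt_min hzi (show 0 < Q / (|l i| + 1) by positivity)) fun t ht => ?_
      have hyt : ∀ j, 0 ≤ (z + t • e) j := by
        intro j
        by_cases hj : j = i
        · subst hj
          simp only [he, Pi.add_apply, Pi.smul_apply, Pi.single_eq_same, smul_eq_mul, mul_one]
          linarith [neg_abs_le t, lt_of_lt_of_le ht (min_le_left _ _)]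
        · simp [he, hj, hz j]
      have hlt : l ⬝ᵥ (z + t • e) = Q + t * l i := by
        simp [he, dotProduct_add, dotProduct_smul, hLQ, dotProduct_single]
      have hltpos : 0 < Q + t * l i := by
        have h1 : |t| < Q / (|l i| + 1) := lt_of_lt_of_le ht (min_le_right _ _)
        rw [lt_div_iff₀ (by positivity)] at h1
        nlinarith [neg_abs_le (t * l i), abs_mul t (l i), abs_nonneg t]
      have hy0 : z + t • e ≠ 0 := fun h => by
        rw [h, dotProduct_zero] at hlt; linarith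
      have hqt : (z + t • e) ⬝ᵥ M *ᵥ (z + t • e) = Q + 2 * t * (M *ᵥ z) i + t ^ 2 * M i i := by
        rw [mulVec_add, dotProduct_add, add_dotProduct, add_dotProduct, hsym' z (t • e), ← hQdef]
        simp only [he, mulVec_smul, smul_dotProduct, dotProduct_smul, smul_eq_mul,
          single_one_dotProduct, mulVec_single_one, col_apply]
        ring
      have h := hzmax _ hyt hy0
      have hqpos := hpos _ hyt hy0
      simp only [f, hlt, hLQ] at h
      rw [div_le_div_iff₀ (Real.sqrt_pos.mpr hqpos) (Real.sqrt_pos.mpr hQ)] at h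
      have h2 := mul_self_le_mul_self (mul_nonneg hltpos.le (Real.sqrt_nonneg _)) h
      rw [mul_mul_mul_comm, Real.mul_self_sqrt hQ.le, mul_mul_mul_comm, Real.mul_self_sqrt hqpos.le,
        hqt] at h2
      nlinarith [h2]
    have : 2 * Q * (l i - (M *ᵥ z) i) = 0 := (mul_eq_zero.mp key).resolve_right hQ.ne'
    have := (mul_eq_zero.mp this).resolve_left (by positivity)
    linarith
  -- minimal support forces non-degeneracy
  let Aq : Matrix (Fin n) (Fin n) ℚ := Matrix.of fun i j =>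
    if i ∈ S then (if j ∈ S then Bq i j else 0) else (if i = j then 1 else 0)
  let rq : Fin n → ℚ := fun i => if i ∈ S then lq i else 0
  set A : Matrix (Fin n) (Fin n) ℝ := (Rat.castHom ℝ).mapMatrix Aq with hA
  have hAon : ∀ (v : Fin n → ℝ), (∀ i, i ∉ S → v i = 0) → ∀ i ∈ S, (A *ᵥ v) i = (M *ᵥ v) i := by
    intro v hv i hi
    simp only [mulVec, dotProduct]
    refine Finset.sum_congr rfl fun j _ => ?_
    by_cases hj : j ∈ S
    · simp [hA, Aq, hi, hj, hM]
    · simp [hv j hj]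
  have hAoff : ∀ (v : Fin n → ℝ) (i), i ∉ S → (A *ᵥ v) i = v i := by
    intro v i hi
    simp only [mulVec, dotProduct]
    rw [Finset.sum_eq_single i]
    · simp [hA, Aq, hi]
    · intro j _ hj; simp [hA, Aq, hi, Ne.symm hj]
    · simp
  have hdet : A.det ≠ 0 := by
    intro h0
    obtain ⟨w, hw0, hw⟩ := Matrix.exists_mulVec_eq_zero_iff.mpr h0
    have hwoff : ∀ i, i ∉ S → w i = 0 := fun i hi => by rw [← hAoff w i hi, hw]; rfl
    have hwon : ∀ i ∈ S, (M *ᵥ w) i = 0 := fun i hi => by rw [← hAon w hwoff i hi, hw]; rfl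
    have hww : w ⬝ᵥ M *ᵥ w = 0 := Finset.sum_eq_zero fun i _ => by
      by_cases hi : i ∈ S
      · simp [hwon i hi]
      · simp [hwoff i hi]
    have hzw : z ⬝ᵥ M *ᵥ w = 0 := Finset.sum_eq_zero fun i _ => by
      by_cases hi : i ∈ S
      · simp [hwon i hi]
      · simp [hoff i hi]
    have hlw : l ⬝ᵥ w = 0 := by
      rw [← hzw, hsym' z w]
      refine Finset.sum_congr rfl fun i _ => ?_
      by_cases hi : i ∈ S
      · rw [hfoc i hi]; ring
      · simp [hwoff i hi]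
    obtain ⟨v, hv, hv0, j₀, hj₀, hvj⟩ : ∃ v : Fin n → ℝ, (∀ i, i ∉ S → v i = 0) ∧
        (l ⬝ᵥ v = 0 ∧ v ⬝ᵥ M *ᵥ v = 0 ∧ z ⬝ᵥ M *ᵥ v = 0) ∧ ∃ j, j ∈ S ∧ v j < 0 := by
      obtain ⟨j, hj⟩ := Function.ne_iff.mp hw0
      have hjS : j ∈ S := by_contra fun h => hj (hwoff j h)
      rcases lt_or_gt_of_ne hj with h | h
      · exact ⟨w, hwoff, ⟨hlw, hww, hzw⟩, j, hjS, h⟩
      · exact ⟨-w, fun i hi => by simp [hwoff i hi],
          ⟨by simp [hlw], by simp [mulVec_neg, hww], by simp [mulVec_neg, hzw]⟩, j, hjS,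
          by simpa using h⟩
    obtain ⟨hlv, hvv, hzv⟩ := hv0
    obtain ⟨j, hjN, hjmin⟩ := Finset.exists_min_image (Finset.univ.filter fun i => v i < 0)
      (fun i => z i / -v i) ⟨j₀, by simp [hvj]⟩
    have hjv : v j < 0 := (Finset.mem_filter.mp hjN).2
    set t := z j / -v j with ht
    have htnn : 0 ≤ t := div_nonneg (hz j) (by linarith)
    set u := z + t • v with hu
    have hunn : ∀ i, 0 ≤ u i := by
      intro i
      simp only [hu, Pi.add_apply, Pi.smul_apply, smul_eq_mul]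
      by_cases hiv : v i < 0
      · have := hjmin i (Finset.mem_filter.mpr ⟨Finset.mem_univ i, hiv⟩)
        rw [le_div_iff₀ (by linarith)] at this
        linarith
      · exact add_nonneg (hz i) (mul_nonneg htnn (not_lt.mp hiv))
    have hlu : l ⬝ᵥ u = Q := by simp [hu, dotProduct_add, hLQ, hlv]
    have hqu : u ⬝ᵥ M *ᵥ u = Q := by
      rw [hu, mulVec_add, dotProduct_add, add_dotProduct, add_dotProduct, hsym' (t • v) z, ← hQdef,
        mulVec_smul]
      simp [hvv, hzv]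
    have hu0 : u ≠ 0 := fun h => by rw [h, dotProduct_zero] at hlu; linarith
    have humax : IsMaxr u := ⟨hunn, hu0, fun y hy hy0 => by
      have := hzmax y hy hy0
      simp only [f, hlu, hqu, hLQ] at this ⊢
      exact this⟩
    have hlt : (supp u).card < Nat.find hex := by
      rw [← hz₁k, ← hsupp]
      refine Finset.card_lt_card (Finset.ssubset_iff_of_subset ?_ |>.mpr ⟨j, ?_, ?_⟩)
      · intro i hi
        by_contra h
        simp [supp, hu, hv i h, hoff i h] at hi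
      · exact by_contra fun h => hjv.ne (hv j h)
      · simp only [supp, hu, Finset.mem_filter, Pi.add_apply, Pi.smul_apply, smul_eq_mul, not_and,
          not_not, ht]
        intro _
        rw [div_neg, neg_mul, div_mul_cancel₀ _ hjv.ne]
        ring
    exact Nat.find_min hex hlt ⟨u, humax, rfl⟩
  have hdetq : Aq.det ≠ 0 := fun h => hdet (by
    rw [hA, ← RingHom.map_det, h, map_zero])
  set x : Fin n → ℚ := Aq⁻¹ *ᵥ rq with hx
  have hAx : Aq *ᵥ x = rq := by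
    rw [hx, mulVec_mulVec, mul_nonsing_inv _ (isUnit_iff_ne_zero.mpr hdetq), one_mulVec]
  have hxz : (fun i => (x i : ℝ)) = z := by
    have h1 : A *ᵥ z = A *ᵥ (fun i => (x i : ℝ)) := by
      funext i
      have h2 : (A *ᵥ (fun i => (x i : ℝ))) i = ((rq i : ℚ) : ℝ) := by
        rw [← hAx]
        exact ((Rat.castHom ℝ).map_mulVec Aq x i).symm
      rw [h2]
      by_cases hi : i ∈ S
      · rw [hAon z hoff i hi, hfoc i hi, hl]; simp [rq, hi]
      · rw [hAoff z i hi, hoff i hi]; simp [rq, hi]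
    exact (mulVec_injective_of_isUnit ((isUnit_iff_isUnit_det A).mpr (isUnit_iff_ne_zero.mpr hdet)) h1).symm
  refine ⟨x, fun i => ?_, fun h => ?_, fun y hy hy0 => ?_⟩
  · have := congrFun hxz i
    exact_mod_cast this ▸ hz i
  · have : z = 0 := by rw [← hxz, h]; funext i; simp
    rw [this, dotProduct_zero] at hLQ; linarith
  · rw [hxz]; exact hzmax y hy hy0

open Matrix in
/-- Let ℓ ∈ ℚⁿ and let B be a rational n × n matrix whose real quadratic form q(y) = y · (B y) is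
non-negative on ℝⁿ and positive at every non-zero point of the non-negative orthant. If ℓ · y > 0 at
some point of the orthant, then the function ℓ · y / √q(y) on the non-zero points of the orthant
attains its maximum at a point with rational coordinates. (The published lemma says that the
numerical invariant attached to a rational degree-two class and such a norm on graded points attains
its maximum on each rational simplex at a rational point whenever it is positive somewhere on that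
simplex; on one rational simplex that invariant is this function, so this is what is asked there.
The case of a piecewise rational linear norm is not stated here.) -/
theorem result (n : ℕ) (ℓ : Fin n → ℚ)
    (B : Matrix (Fin n) (Fin n) ℚ)
    (hnn : ∀ y : Fin n → ℝ, 0 ≤ y ⬝ᵥ (B.map (fun r : ℚ => (r : ℝ))) *ᵥ y)
    (hpos : ∀ y : Fin n → ℝ, (∀ i, 0 ≤ y i) → y ≠ 0 → 0 < y ⬝ᵥ (B.map (fun r : ℚ => (r : ℝ))) *ᵥ y)
    (hℓ : ∃ y : Fin n → ℝ, (∀ i, 0 ≤ y i) ∧ 0 < (fun i => (ℓ i : ℝ)) ⬝ᵥ y) :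
    ∃ x : Fin n → ℚ, (∀ i, 0 ≤ x i) ∧ x ≠ 0 ∧
      ∀ y : Fin n → ℝ, (∀ i, 0 ≤ y i) → y ≠ 0 →
        (fun i => (ℓ i : ℝ)) ⬝ᵥ y / Real.sqrt (y ⬝ᵥ (B.map (fun r : ℚ => (r : ℝ))) *ᵥ y) ≤
          (fun i => (ℓ i : ℝ)) ⬝ᵥ (fun i => (x i : ℝ)) /
            Real.sqrt ((fun i => (x i : ℝ)) ⬝ᵥ (B.map (fun r : ℚ => (r : ℝ))) *ᵥ (fun i => (x i : ℝ))) := by
  set Bq : Matrix (Fin n) (Fin n) ℚ := Matrix.of fun i j => (B i j + B j i) / 2 with hBq
  have hq : ∀ y : Fin n → ℝ, y ⬝ᵥ (Bq.map (fun r : ℚ => (r : ℝ))) *ᵥ y =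
      y ⬝ᵥ (B.map (fun r : ℚ => (r : ℝ))) *ᵥ y := by
    intro y
    have hsplit : Bq.map (fun r : ℚ => (r : ℝ)) =
        (1/2 : ℝ) • (B.map (fun r : ℚ => (r : ℝ)) + (B.map (fun r : ℚ => (r : ℝ)))ᵀ) := by
      ext i j; simp [hBq]; ring
    rw [hsplit, smul_mulVec, dotProduct_smul, add_mulVec, dotProduct_add, mulVec_transpose,
      dotProduct_comm y (y ᵥ* _), ← dotProduct_mulVec, smul_eq_mul]
    ring
  obtain ⟨x, h1, h2, h3⟩ := core ℓ Bq (fun i => (ℓ i : ℝ)) _ rfl rfl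
    (by ext i j; simp [hBq]; ring) (fun y => hq y ▸ hnn y) (fun y a b => hq y ▸ hpos y a b) hℓ
  exact ⟨x, h1, h2, fun y a b => by simpa only [hq] using h3 y a b⟩

end Groth.Agent.S19138
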