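import Groth.Statements.S19139
import Groth.Agent.Stk19b.Theta.Rings
import Groth.Agent.Stk19b.Theta.Formal

set_option autoImplicit false
universe u
open ThetaS

set_option backward.isDefEq.respectTransparency.types false
set_option backward.isDefEq.respectTransparency false

namespace Groth.Agent.S19139


open CategoryTheory AlgebraicGeometry in
/-- Let S be a scheme, X and Y algebraic stacks over (Sch/S) for the fppf topology, and f : X ⟶ Y a
functor over (Sch/S) that is affine, i.e. representable by algebraic spaces with affine structure
morphisms. If Y is Θ-reductive over S with respect to discrete valuation rings — for every discrete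
valuation ring R with a uniformizer and every Spec R ⟶ S, every functor over (Sch/S) from the
punctured stack Θ_R minus its closed point to Y extends to Θ_R = [A¹_R/G_m], uniquely up to a unique
2-isomorphism — then X is Θ-reductive over S with respect to discrete valuation rings as well. (The
published lemma is stated for stacks over a base algebraic stack and for an arbitrary class of
valuation rings; here the base is a scheme, the class is that of discrete valuation rings, and the
stacks are taken algebraic.) -/
theorem result {S : Scheme.{u}} (𝒳 𝒴 : AlgSt.Cat S) (f : 𝒳 ⥤ᵇ 𝒴)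
    (h𝒳 : AlgSt.IsAlgStack Scheme.fppfPrecoverage 𝒳) (h𝒴 : AlgSt.IsAlgStack Scheme.fppfPrecoverage 𝒴)
    (hf : AlgSt.RepByAlgSpWith (AlgSp.RepWith @IsAffineHom) f)
    (hY : ThetaS.IsThetaComplete Scheme.fppfPrecoverage 𝒴) :
    ThetaS.IsThetaComplete Scheme.fppfPrecoverage 𝒳 := by
  intro R _ _ _ ϖ hϖ h
  have e : CategoryTheory.BasedFunctor.comp f (FibCat.toSelf 𝒴) = FibCat.toSelf 𝒳 := Groth.Agent.Stk19.based_ext f.w
  rw [← e]
  exact Groth.Agent.Stk19b.Theta.liftsUniquely_comp
    (Groth.Agent.Stk19b.Theta.liftsUniquely_thetaIncl h hϖ.ne_zero h𝒳.isStack.1 h𝒴.isStack.1 hf) (hY R ϖ hϖ h)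

end Groth.Agent.S19139
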