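import Groth.Statements.S19145
import Groth.Agent.S19144
import Groth.Agent.S2787
import Groth.Agent.SGA3cLib.UnibranchTwConst
import Groth.Agent.FlatMorWeight.UnibranchOpen
import Groth.Agent.FlatMorWeight.Comp
-- import your own Groth.Agent.* helpers here

set_option autoImplicit false
set_option backward.isDefEq.respectTransparency false
set_option backward.isDefEq.respectTransparency.types false
open CategoryTheory CategoryTheory.Limits AlgebraicGeometry
open CategoryTheory MonoidalCategory CartesianMonoidalCategory MonObj GrpObj AlgebraicGeometry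
universe u
open TwC

namespace Groth.Agent.S19145

theorem epi_residueFieldMap {U S : Scheme.{u}} (g : U ⟶ S) {K : Type u} [Field K]
    (a : Spec (CommRingCat.of K) ⟶ U) [IsPreimmersion (a ≫ g)] (p : Spec (CommRingCat.of K)) :
    Function.Surjective (g.residueFieldMap (a p)).hom := by
  have h1 : Function.Surjective ((a ≫ g).residueFieldMap p).hom := by
    intro z
    obtain ⟨w, rfl⟩ := IsLocalRing.residue_surjective z
    obtain ⟨v, hv⟩ := (a ≫ g).stalkMap_surjective p w
    exact ⟨IsLocalRing.residue _ v, by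
      rw [← hv]
      exact congr($(congrArg CommRingCat.Hom.hom (Scheme.residue_residueFieldMap (a ≫ g) p)) v)⟩
  rw [Scheme.residueFieldMap_comp] at h1
  intro z
  obtain ⟨y, hy⟩ := h1 ((a.residueFieldMap p).hom z)
  exact ⟨y, (a.residueFieldMap p).hom.injective hy⟩

/-- Field points through a given point with trivial residue extension are determined by their image in the base. -/
theorem pt_unique {U S : Scheme.{u}} (g : U ⟶ S) {l : U}
    (hl : Function.Surjective (g.residueFieldMap l).hom) {K : Type u} [Field K]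
    (a b : Spec (CommRingCat.of K) ⟶ U) (ha : a (IsLocalRing.closedPoint K) = l)
    (hb : b (IsLocalRing.closedPoint K) = l) (h : a ≫ g = b ≫ g) : a = b := by
  have key : ∀ c : Spec (CommRingCat.of K) ⟶ U, c (IsLocalRing.closedPoint K) = l →
      ∃ φ : U.residueField l ⟶ CommRingCat.of K, Spec.map φ ≫ U.fromSpecResidueField l = c := by
    rintro c rfl
    exact ⟨_, Scheme.descResidueField_stalkClosedPointTo_fromSpecResidueField K U c⟩
  obtain ⟨φ, rfl⟩ := key a ha
  obtain ⟨ψ, rfl⟩ := key b hb
  rw [Category.assoc, Category.assoc, ← Scheme.Hom.SpecMap_residueFieldMap_fromSpecResidueField,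
    ← Category.assoc, ← Category.assoc, cancel_mono, ← Spec.map_comp, ← Spec.map_comp, Spec.map_inj] at h
  haveI : Epi (g.residueFieldMap l) := ConcreteCategory.epi_of_surjective _ hl
  rw [(cancel_epi _).mp h]

variable {S : Scheme.{u}} [IrreducibleSpace S] {X : Scheme.{u}} (f : X ⟶ S) [Etale f]

theorem exists_gen (x : X) : ∃ l, l ⤳ x ∧ f l = genericPoint S := by
  obtain ⟨w, hw, hwη⟩ := Flat.generalizingMap f (a := x) (genericPoint_specializes (f x))
  exact ⟨w, hw, hwη⟩

variable (hS : ∀ s : S, CAlg2.IsGeomUnibranch (S.presheaf.stalk s))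
include hS

theorem gen_unique {z a b : X} (ha : a ⤳ z) (hb : b ⤳ z) (ea : f a = genericPoint S)
    (eb : f b = genericPoint S) : a = b := by
  have hmax : FlatMorWeight.IsMaximalPt (genericPoint S) := fun z hz =>
    hz.antisymm (genericPoint_specializes z) |>.eq
  exact FlatMorWeight.eq_of_specializes_of_etale f (hS _) ha hb (ea ▸ hmax) (eb ▸ hmax)

theorem isOpen_closure (l : X) (hl : f l = genericPoint S) : IsOpen (closure ({l} : Set X)) := by
  obtain ⟨huniq, hcomp⟩ := Groth.Agent.S2787.result f hS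
  obtain ⟨Z, ⟨hZ, hlZ⟩, -⟩ := huniq l
  obtain ⟨hZo, -⟩ := hcomp Z hZ
  obtain ⟨z, hz⟩ := QuasiSober.sober hZ.1 (isClosed_of_mem_irreducibleComponents Z hZ)
  obtain ⟨l', hl', hfl'⟩ := exists_gen f z
  have h : l' = l := gen_unique f hS (hl'.trans (hz.specializes hlZ)) specializes_rfl hfl' hl
  have hl'Z : l' ∈ Z := hl'.mem_open hZo hz.mem
  have he : z = l := (hz.specializes (h ▸ hl'Z)).antisymm (h ▸ hl') |>.eq
  rw [← he, hz.def]
  exact hZo

omit hS in
theorem eq_of_generic [IsSeparated f] (σ₁ σ₂ : S ⟶ X) (h₁ : σ₁ ≫ f = 𝟙 S) (h₂ : σ₂ ≫ f = 𝟙 S)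
    (h : S.fromSpecResidueField (genericPoint S) ≫ σ₁ = S.fromSpecResidueField (genericPoint S) ≫ σ₂) :
    σ₁ = σ₂ := by
  let m : S ⟶ pullback f f := pullback.lift σ₁ σ₂ (h₁.trans h₂.symm)
  let j := pullback.snd (pullback.diagonal f) m
  haveI : IsOpenImmersion (pullback.diagonal f) := inferInstance
  haveI : IsOpenImmersion j := MorphismProperty.pullback_snd (P := @IsOpenImmersion) _ _ inferInstance
  haveI : IsClosedImmersion j := MorphismProperty.pullback_snd (P := @IsClosedImmersion) _ _ inferInstance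
  have hη : genericPoint S ∈ Set.range j := by
    let r : Spec (S.residueField (genericPoint S)) ⟶ pullback (pullback.diagonal f) m :=
      pullback.lift (S.fromSpecResidueField _ ≫ σ₁) (S.fromSpecResidueField _) (by
        apply pullback.hom_ext
        · simp [m]
        · simpa [m] using h)
    refine ⟨r default, ?_⟩
    rw [← Scheme.Hom.comp_apply, pullback.lift_snd, Scheme.fromSpecResidueField_apply]
  haveI : Surjective j := ⟨fun s => by
    have hc : IsClosed (Set.range j) := j.isClosedEmbedding.isClosed_range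
    exact (genericPoint_specializes s).mem_closed hc hη⟩
  haveI : IsIso j := isIso_iff_isOpenImmersion_and_surjective j |>.mpr ⟨inferInstance, inferInstance⟩
  have hc := pullback.condition (f := pullback.diagonal f) (g := m)
  rw [← cancel_epi j]
  have e₁ : j ≫ σ₁ = pullback.fst (pullback.diagonal f) m := by
    have := congrArg (fun t => t ≫ pullback.fst f f) hc
    simpa [m, j] using this.symm
  have e₂ : j ≫ σ₂ = pullback.fst (pullback.diagonal f) m := by
    have := congrArg (fun t => t ≫ pullback.snd f f) hc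
    simpa [m, j] using this.symm
  rw [e₁, e₂]

omit [Etale f] in
theorem quasiCompact_closure (hX : TwC.IsTwConst TwC.Topology.etale (Over.mk f)) (l : X)
    (hl : f l = genericPoint S) (U : X.Opens) (hU : (U : Set X) = closure {l}) : QuasiCompact (U.ι ≫ f) := by
  classical
  haveI : Etale f := SGA3cLib.UnibranchTwConst.etale_of_twConst _ hX
  haveI : IsClosedImmersion U.ι := by
    refine .of_isPreimmersion _ ?_
    rw [Scheme.Opens.range_ι, hU]
    exact isClosed_closure
  refine IsZariskiLocalAtTarget.of_forall_exists_morphismRestrict fun s => ?_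
  obtain ⟨S', q, hq, ⟨w₀, hw₀⟩, I, ⟨e⟩⟩ := hX s
  haveI : Etale q := hq
  obtain ⟨B, hB, hsB, -⟩ := exists_isAffineOpen_mem_and_subset (U := (⊤ : S.Opens)) (x := s) trivial
  obtain ⟨η₀, hη₀w, hη₀⟩ := exists_gen q w₀
  let C : S'.Opens := ⟨closure {η₀}, isOpen_closure q hS η₀ hη₀⟩
  obtain ⟨V, hV, hwV, hVle⟩ := exists_isAffineOpen_mem_and_subset (U := C ⊓ q ⁻¹ᵁ B) (x := w₀)
    ⟨hη₀w.mem_closure, show q w₀ ∈ B by rw [hw₀]; exact hsB⟩
  have hη₀V : η₀ ∈ V := hη₀w.mem_open V.isOpen hwV
  have hVpre : _root_.IsPreconnected (V : Set S') := by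
    refine isPreconnected_singleton.subset_closure (s := ({η₀} : Set S')) ?_ fun v hv => (hVle hv).1
    simpa using hη₀V
  haveI : IsIso e.inv.left := inferInstanceAs (IsIso ((Over.forget _).map e.inv))
  let pz : I → (S' ⟶ X) := fun i => Sigma.ι (fun _ : I => S') i ≫ e.inv.left ≫ pullback.fst f q
  have hes : e.inv.left ≫ pullback.snd f q = (TwC.const S' I).hom := Over.w e.inv
  have hpz : ∀ i, pz i ≫ f = q := fun i => by
    simp only [pz, Category.assoc, pullback.condition]
    rw [← Category.assoc e.inv.left, hes, ← Category.assoc (Sigma.ι (fun _ : I => S') i),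
      show Sigma.ι (fun _ : I => S') i ≫ (TwC.const S' I).hom = 𝟙 S' from Sigma.ι_desc _ _, Category.id_comp]
  have hUcl : IsClopen (U : Set X) := ⟨hU ▸ isClosed_closure, U.isOpen⟩
  let J : Set I := {i | pz i η₀ ∈ U}
  have hmem : ∀ i, ∀ v ∈ V, pz i v ∈ U → i ∈ J := fun i v hv h =>
    hVpre.subset_isClopen (hUcl.preimage (pz i).continuous) ⟨v, hv, h⟩ hη₀V
  have hJpt : ∀ i ∈ J, pz i η₀ = l := fun i hi => by
    have h2 : f (pz i η₀) = genericPoint S := by rw [← Scheme.Hom.comp_apply, hpz]; exact hη₀
    have h1 : l ⤳ pz i η₀ := specializes_iff_mem_closure.mpr (by rw [← hU]; exact hi)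
    exact gen_unique f hS specializes_rfl h1 h2 hl
  -- finitely many pieces
  have hJ : J.Finite := by
    obtain ⟨A, hA, hlA, hAB⟩ := exists_isAffineOpen_mem_and_subset (U := f ⁻¹ᵁ B) (x := l)
      (show f l ∈ B by rw [hl]; exact (genericPoint_specializes s).mem_open B.isOpen hsB)
    haveI : IsAffine (A : Scheme.{u}) := hA
    haveI : IsAffine (B : Scheme.{u}) := hB
    let gA : (A : Scheme.{u}) ⟶ (B : Scheme.{u}) := f.resLE B A hAB
    haveI : Etale gA := IsZariskiLocalAtSource.resLE (P := @Etale) hAB ‹_›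
    let u0 := S'.fromSpecResidueField η₀
    let c : Spec (S'.residueField η₀) ⟶ (B : Scheme.{u}) := IsOpenImmersion.lift B.ι (u0 ≫ q) (by
      rintro _ ⟨p, rfl⟩
      rw [Scheme.Opens.range_ι, Scheme.Hom.comp_apply, Scheme.fromSpecResidueField_apply]
      exact (hVle hη₀V).2)
    have hex : ∀ i : J, ∃ a : Spec (S'.residueField η₀) ⟶ (A : Scheme.{u}), a ≫ A.ι = u0 ≫ pz i := fun i =>
      ⟨IsOpenImmersion.lift A.ι (u0 ≫ pz i) (by
        rintro _ ⟨p, rfl⟩
        rw [Scheme.Opens.range_ι, Scheme.Hom.comp_apply, Scheme.fromSpecResidueField_apply, hJpt i i.2]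
        exact hlA), IsOpenImmersion.lift_fac _ _ _⟩
    choose a ha using hex
    have hac : ∀ i, a i ≫ gA = c := fun i => by
      rw [← cancel_mono B.ι, Category.assoc, Scheme.Hom.resLE_comp_ι, ← Category.assoc, ha, Category.assoc, hpz,
        IsOpenImmersion.lift_fac]
    let t : J → (Spec (S'.residueField η₀) ⟶ pullback gA c) := fun i =>
      pullback.lift (a i) (𝟙 _) (by rw [hac, Category.id_comp])
    haveI : Etale (pullback.snd gA c) := MorphismProperty.pullback_snd (P := @Etale) _ _ inferInstance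
    haveI : LocallyQuasiFinite (pullback.snd gA c) := FlatMorWeight.locallyQuasiFinite_of_etale _
    haveI : QuasiCompact (pullback.snd gA c) := inferInstance
    let p₀ : Spec (S'.residueField η₀) := IsLocalRing.closedPoint (S'.residueField η₀)
    haveI : Finite ↥(pullback.snd gA c ⁻¹' {p₀}) :=
      ((pullback.snd gA c).finite_preimage_singleton p₀).to_subtype
    have hts : ∀ i, t i ≫ pullback.snd gA c = 𝟙 _ := fun i => pullback.lift_snd _ _ _
    have : Finite J := by
      refine Finite.of_injective (β := ↥(pullback.snd gA c ⁻¹' {p₀}))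
        (fun i => ⟨t i p₀, by show (pullback.snd gA c) (t i p₀) = p₀; rw [← Scheme.Hom.comp_apply, hts]; rfl⟩) ?_
      intro i j hij
      have hp : t i p₀ = t j p₀ := congrArg Subtype.val hij
      haveI : IsPreimmersion (t i ≫ pullback.snd gA c) := by rw [hts]; infer_instance
      have hs := epi_residueFieldMap (pullback.snd gA c) (t i) p₀
      have htij : t i = t j := pt_unique (pullback.snd gA c) hs (t i) (t j) rfl hp.symm ((hts i).trans (hts j).symm)
      have haij : a i = a j := by
        have := congrArg (fun r => r ≫ pullback.fst gA c) htij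
        simpa [t] using this
      have hX' : u0 ≫ Sigma.ι (fun _ : I => S') i.1 ≫ e.inv.left = u0 ≫ Sigma.ι (fun _ : I => S') j.1 ≫ e.inv.left := by
        apply pullback.hom_ext
        · have := ha i
          rw [haij, ha j] at this
          simpa [pz] using this.symm
        · have hd : ∀ k, Sigma.ι (fun _ : I => S') k ≫ e.inv.left ≫ pullback.snd f q = 𝟙 S' := fun k => by
            rw [hes]; exact Sigma.ι_desc _ _
          simp only [Category.assoc]
          erw [hd, hd]
      rw [← Category.assoc, ← Category.assoc, cancel_mono] at hX'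
      have := congrArg (fun r => r p₀) hX'
      simp only [Scheme.Hom.comp_apply] at this
      exact Subtype.ext (congrArg Sigma.fst ((sigmaι_eq_iff (fun _ : I => S') i.1 j.1 (u0 p₀) (u0 p₀)).1 this))
    exact Set.toFinite J
  -- every point of U over the chart lies in one of these pieces
  haveI : IsAffine (V : Scheme.{u}) := hV
  haveI : IsAffine (B : Scheme.{u}) := hB
  have hsV : s ∈ q '' (V : Set S') := ⟨w₀, hwV, hw₀⟩
  let O' : S.Opens := ⟨q '' (V : Set S'), q.isOpenMap _ V.isOpen⟩
  obtain ⟨O, hO, hsO, hOle⟩ := exists_isAffineOpen_mem_and_subset (U := O') (x := s) hsV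
  refine ⟨O, hsO, ?_⟩
  haveI : IsAffine (O : Scheme.{u}) := hO
  rw [quasiCompact_iff_compactSpace]
  refine isCompact_iff_compactSpace.mp ?_
  have hOB : O ≤ B := fun x hx => by
    obtain ⟨v, hv, rfl⟩ := hOle hx
    exact (hVle hv).2
  let qV : (V : Scheme.{u}) ⟶ (B : Scheme.{u}) := q.resLE B V fun v hv => (hVle hv).2
  have hc : IsCompact ((V : Set S') ∩ q ⁻¹' (O : Set S)) := by
    have hOc : IsCompact ((B.ι ⁻¹ᵁ O : (B : Scheme.{u}).Opens) : Set ↥(B : Scheme.{u})) := by
      refine B.ι.isOpenEmbedding.isInducing.isCompact_iff.mpr ?_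
      rw [show B.ι '' ((B.ι ⁻¹ᵁ O : (B : Scheme.{u}).Opens) : Set ↥(B : Scheme.{u})) = (O : Set S) from
        Set.image_preimage_eq_of_subset (by rw [Scheme.Opens.range_ι]; exact hOB)]
      exact hO.isCompact
    have h2 := (qV.isCompact_preimage hOc).image V.ι.continuous
    convert h2 using 1
    ext v
    constructor
    · rintro ⟨hv, hvO⟩
      refine ⟨⟨v, hv⟩, ?_, rfl⟩
      show B.ι (qV ⟨v, hv⟩) ∈ O
      rw [← Scheme.Hom.comp_apply, Scheme.Hom.resLE_comp_ι]
      exact hvO
    · rintro ⟨v, hv, rfl⟩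
      refine ⟨v.2, ?_⟩
      show q (V.ι v) ∈ O
      rw [← Scheme.Hom.comp_apply, ← Scheme.Hom.resLE_comp_ι q (fun v hv => (hVle hv).2), Scheme.Hom.comp_apply]
      exact hv
  have heq : (((U.ι ≫ f) ⁻¹ᵁ O : (U : Scheme.{u}).Opens) : Set ↥(U : Scheme.{u})) =
      U.ι ⁻¹' ⋃ i ∈ J, pz i '' ((V : Set S') ∩ q ⁻¹' (O : Set S)) := by
    ext y
    simp only [Set.mem_preimage, Set.mem_iUnion, Set.mem_image, Set.mem_inter_iff]
    constructor
    · intro hy
      obtain ⟨v, hv, hqv⟩ := hOle (show f (U.ι y) ∈ O from hy)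
      obtain ⟨t, ht1, ht2⟩ := Scheme.Pullback.exists_preimage_pullback (f := f) (g := q) (U.ι y) v hqv.symm
      obtain ⟨i, w, hw⟩ : ∃ (i : I) (w : S'), Sigma.ι (fun _ : I => S') i w = e.hom.left t := by
        obtain ⟨i, w, hw⟩ := (sigmaOpenCover (fun _ : I => S')).exists_eq (e.hom.left t)
        exact ⟨i, w, hw⟩
      have hti : e.inv.left (Sigma.ι (fun _ : I => S') i w) = t := by
        rw [show Sigma.ι (fun _ : I => S') i w = e.hom.left t from hw, ← Scheme.Hom.comp_apply, ← Over.comp_left,
          e.hom_inv_id]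
        rfl
      have hwv : w = v := by
        have h1 := congrArg (fun r : _ ⟶ S' => r (Sigma.ι (fun _ : I => S') i w)) hes
        have h2 : (TwC.const S' I).hom (Sigma.ι (fun _ : I => S') i w) = w :=
          (Scheme.Hom.comp_apply _ _ _).symm.trans
            ((congrArg (fun r : S' ⟶ S' => r w)
              (show Sigma.ι (fun _ : I => S') i ≫ (TwC.const S' I).hom = 𝟙 S' from Sigma.ι_desc _ _)).trans rfl)
        rw [← ht2, ← hti]
        exact (h1.trans h2).symm.trans (Scheme.Hom.comp_apply _ _ _)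
      subst hwv
      have hy' : pz i w = U.ι y := by
        simp only [pz, Scheme.Hom.comp_apply]
        exact (congrArg _ hti).trans ht1
      exact ⟨i, hmem i w hv (by rw [hy']; exact y.2), w, ⟨hv, by rw [hqv]; exact hy⟩, hy'⟩
    · rintro ⟨i, -, v, ⟨-, hv⟩, hvy⟩
      show f (U.ι y) ∈ O
      rw [← hvy, ← Scheme.Hom.comp_apply, hpz]
      exact hv
  rw [heq]
  exact U.ι.isClosedEmbedding.isCompact_preimage (hJ.isCompact_biUnion fun i _ => hc.image (pz i).continuous)

theorem finite_closure [IsSeparated f] (hX : TwC.IsTwConst TwC.Topology.etale (Over.mk f))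
    (hval : ValuativeCriterion f) (l : X) (hl : f l = genericPoint S) :
    ∃ U : X.Opens, (U : Set X) = closure {l} ∧ IsClosed (U : Set X) ∧ IsFinite (U.ι ≫ f) ∧
      Etale (U.ι ≫ f) ∧ Surjective (U.ι ≫ f) := by
  let U : X.Opens := ⟨closure {l}, isOpen_closure f hS l hl⟩
  have hUc : IsClosed (U : Set X) := isClosed_closure
  haveI : IsClosedImmersion U.ι := .of_isPreimmersion _ (by rw [Scheme.Opens.range_ι]; exact hUc)
  haveI := quasiCompact_closure f hS hX l hl U rfl
  haveI : Etale (U.ι ≫ f) := MorphismProperty.comp_mem @Etale _ _ inferInstance inferInstance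
  haveI : UniversallyClosed (U.ι ≫ f) := by
    refine UniversallyClosed.of_valuativeCriterion _ ?_
    intro sq
    obtain ⟨⟨l₁⟩⟩ := hval.existence { R := sq.R, K := sq.K, i₁ := sq.i₁ ≫ U.ι, i₂ := sq.i₂,
                                      commSq := ⟨by rw [Category.assoc]; exact sq.commSq.w⟩ }
    have hex : ValuativeCriterion.Existence U.ι :=
      ((UniversallyClosed.eq_valuativeCriterion ▸ (inferInstance : UniversallyClosed U.ι)) :
        (ValuativeCriterion.Existence ⊓ @QuasiCompact : MorphismProperty Scheme.{u}) U.ι).1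
    obtain ⟨⟨l₂⟩⟩ := hex { R := sq.R, K := sq.K, i₁ := sq.i₁, i₂ := l₁.l, commSq := ⟨l₁.fac_left.symm⟩ }
    exact ⟨⟨⟨l₂.l, l₂.fac_left, by rw [← Category.assoc, l₂.fac_right]; exact l₁.fac_right⟩⟩⟩
  haveI : LocallyQuasiFinite (U.ι ≫ f) := FlatMorWeight.locallyQuasiFinite_of_etale _
  haveI : IsProper (U.ι ≫ f) := ⟨⟩
  haveI hfin : IsFinite (U.ι ≫ f) := IsFinite.of_isProper_of_locallyQuasiFinite _
  refine ⟨U, rfl, hUc, hfin, inferInstance, ⟨fun s => ?_⟩⟩
  have hη : genericPoint S ∈ Set.range (U.ι ≫ f) := ⟨⟨l, subset_closure rfl⟩, by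
    rw [Scheme.Hom.comp_apply]; exact hl⟩
  exact (genericPoint_specializes s).mem_closed ((U.ι ≫ f).isClosedMap.isClosed_range) hη

theorem exists_section [IsSeparated f] (hX : TwC.IsTwConst TwC.Topology.etale (Over.mk f))
    (hval : ValuativeCriterion f) (τ : Spec (S.residueField (genericPoint S)) ⟶ X)
    (hτ : τ ≫ f = S.fromSpecResidueField (genericPoint S)) :
    ∃ σ : S ⟶ X, σ ≫ f = 𝟙 S ∧ S.fromSpecResidueField (genericPoint S) ≫ σ = τ := by
  let p₀ : Spec (S.residueField (genericPoint S)) := IsLocalRing.closedPoint (S.residueField (genericPoint S))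
  have hl : f (τ p₀) = genericPoint S := by
    rw [← Scheme.Hom.comp_apply, hτ, Scheme.fromSpecResidueField_apply]
  obtain ⟨U, hU, hUc, hfin, het, hsurj⟩ := finite_closure f hS hX hval (τ p₀) hl
  haveI := hfin
  haveI := het
  haveI := hsurj
  let g := U.ι ≫ f
  let τU : Spec (S.residueField (genericPoint S)) ⟶ (U : Scheme.{u}) := IsOpenImmersion.lift U.ι τ (by
    rintro _ ⟨p, rfl⟩
    rw [Scheme.Opens.range_ι, Subsingleton.elim p p₀, hU]
    exact subset_closure rfl)
  have hτU : τU ≫ U.ι = τ := IsOpenImmersion.lift_fac _ _ _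
  have hτg : τU ≫ g = S.fromSpecResidueField (genericPoint S) := by
    rw [← Category.assoc, hτU, hτ]
  haveI : IsPreimmersion (τU ≫ g) := by rw [hτg]; infer_instance
  have hres := epi_residueFieldMap g τU p₀
  have hl' : g (τU p₀) = genericPoint S := by
    rw [← Scheme.Hom.comp_apply, hτg, Scheme.fromSpecResidueField_apply]
  have hone : ∀ a : (U : Scheme.{u}), g a = genericPoint S → a = τU p₀ := fun a ha => by
    refine Subtype.ext ?_
    have h1 : τ p₀ ⤳ U.ι a := specializes_iff_mem_closure.mpr (by rw [← hU]; exact a.2)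
    have h2 : U.ι a = τ p₀ := gen_unique f hS specializes_rfl h1 ha hl
    rw [← hτU, Scheme.Hom.comp_apply] at h2
    exact h2
  -- the diagonal is surjective
  haveI : Surjective (pullback.diagonal g) := ⟨fun z => by
    let h' := pullback.fst g g ≫ g
    haveI : Etale (pullback.fst g g) := MorphismProperty.pullback_fst (P := @Etale) _ _ inferInstance
    haveI : Etale h' := MorphismProperty.comp_mem @Etale _ _ inferInstance inferInstance
    obtain ⟨t, htz, ht⟩ := exists_gen h' z
    have ha : pullback.fst g g t = τU p₀ := hone _ ht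
    have hb : pullback.snd g g t = τU p₀ := hone _ (by
      rw [← Scheme.Hom.comp_apply, ← pullback.condition]; exact ht)
    let θ := (pullback g g).fromSpecResidueField t
    have hab : θ ≫ pullback.fst g g = θ ≫ pullback.snd g g := pt_unique g hres _ _
      ((Scheme.Hom.comp_apply _ _ _).trans ((congrArg _ (Scheme.fromSpecResidueField_apply t _)).trans ha))
      ((Scheme.Hom.comp_apply _ _ _).trans ((congrArg _ (Scheme.fromSpecResidueField_apply t _)).trans hb))
      (by rw [Category.assoc, Category.assoc, pullback.condition])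
    have ht' : t ∈ Set.range (pullback.diagonal g) := by
      refine ⟨(θ ≫ pullback.fst g g) default, ?_⟩
      rw [← Scheme.Hom.comp_apply, show (θ ≫ pullback.fst g g) ≫ pullback.diagonal g = θ from by
        apply pullback.hom_ext <;> simp [hab], Scheme.fromSpecResidueField_apply]
    exact htz.mem_closed (pullback.diagonal g).isClosedMap.isClosed_range ht'⟩
  haveI : IsIso (pullback.diagonal g) :=
    isIso_iff_isOpenImmersion_and_surjective _ |>.mpr ⟨inferInstance, inferInstance⟩
  haveI : Mono g := pullback.isIso_diagonal_iff g |>.mp inferInstance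
  haveI : IsOpenImmersion g := IsOpenImmersion.of_flat_of_mono g
  haveI : IsIso g := isIso_iff_isOpenImmersion_and_surjective g |>.mpr ⟨inferInstance, inferInstance⟩
  refine ⟨inv g ≫ U.ι, by rw [Category.assoc]; exact IsIso.inv_hom_id g, ?_⟩
  rw [← hτg, Category.assoc, IsIso.hom_inv_id_assoc, hτU]

end Groth.Agent.S19145

namespace Groth.Agent.S19145

/-- Let S be an irreducible scheme whose local rings are all geometrically unibranch, η its generic
point, and X a quasi-isotrivial twisted constant S-scheme (etale-locally on S isomorphic to a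
constant scheme). Then X is the disjoint union, over the points λ of the generic fibre X_η, of the
closures X(λ) of λ: every point of X lies in the closure of exactly one such λ, each X(λ) is open
and closed in X and, as an open subscheme, is a finite etale cover of S (finite, etale and
surjective); and restricting a section of X ⟶ S to the generic point is a bijection from the
sections of X over S onto the sections of X_η over η. -/
theorem result {S : Scheme.{u}} [IrreducibleSpace S]
    (hS : ∀ s : S, CAlg2.IsGeomUnibranch (S.presheaf.stalk s))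
    (X : Over S) (hX : TwC.IsTwConst TwC.Topology.etale X) :
    (∀ x : X.left, ∃! l : X.left, X.hom.base l = genericPoint S ∧ x ∈ closure ({l} : Set X.left)) ∧
    (∀ l : X.left, X.hom.base l = genericPoint S →
      ∃ U : X.left.Opens, (U : Set X.left) = closure ({l} : Set X.left) ∧ IsClosed (U : Set X.left) ∧
        IsFinite (U.ι ≫ X.hom) ∧ Etale (U.ι ≫ X.hom) ∧ Surjective (U.ι ≫ X.hom)) ∧
    (∀ σ₁ σ₂ : S ⟶ X.left, σ₁ ≫ X.hom = 𝟙 S → σ₂ ≫ X.hom = 𝟙 S →
      S.fromSpecResidueField (genericPoint S) ≫ σ₁ = S.fromSpecResidueField (genericPoint S) ≫ σ₂ → σ₁ = σ₂) ∧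
    (∀ τ : Spec (S.residueField (genericPoint S)) ⟶ X.left, τ ≫ X.hom = S.fromSpecResidueField (genericPoint S) →
      ∃ σ : S ⟶ X.left, σ ≫ X.hom = 𝟙 S ∧ S.fromSpecResidueField (genericPoint S) ≫ σ = τ) := by
  obtain ⟨hsep, het, hval⟩ := Groth.Agent.S19144.result X hX
  haveI := hsep
  haveI := het
  refine ⟨fun x => ?_, fun l hl => finite_closure X.hom hS hX hval l hl,
    fun σ₁ σ₂ h₁ h₂ h => eq_of_generic X.hom σ₁ σ₂ h₁ h₂ h,
    fun τ hτ => exists_section X.hom hS hX hval τ hτ⟩
  obtain ⟨l, hlx, hl⟩ := exists_gen X.hom x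
  refine ⟨l, ⟨hl, hlx.mem_closure⟩, ?_⟩
  rintro l' ⟨hl', hx'⟩
  exact gen_unique X.hom hS (specializes_iff_mem_closure.mpr hx') hlx hl' hl


end Groth.Agent.S19145
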