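import Groth.Statements.S19146
import Groth.Agent.S19144
import Groth.Agent.HenselLib.SchemeFinitePart
import Groth.Agent.HenselLib.SectionsLift
-- import your own Groth.Agent.* helpers here

set_option autoImplicit false
set_option backward.isDefEq.respectTransparency false
set_option backward.isDefEq.respectTransparency.types false
open CategoryTheory AlgebraicGeometry Groth.Agent.HenselLib
open CategoryTheory MonoidalCategory CartesianMonoidalCategory MonObj GrpObj AlgebraicGeometry
universe u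
open TwC

namespace Groth.Agent.S19146

theorem lqf {X Y : Scheme.{u}} (f : X ⟶ Y) [FormallyUnramified f] [LocallyOfFiniteType f] :
    LocallyQuasiFinite f := by
  refine ⟨fun {U} hU {V} hV e => ?_⟩
  algebraize [(f.appLE U V e).hom]
  have h1 : (f.appLE U V e).hom.FormallyUnramified := FormallyUnramified.formallyUnramified_appLE f hU hV e
  have h2 : (f.appLE U V e).hom.FiniteType := LocallyOfFiniteType.finiteType_appLE f hU hV e
  algebraize [(f.appLE U V e).hom]
  exact (inferInstance : Algebra.QuasiFinite Γ(Y, U) Γ(X, V))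

theorem exists_local {R : Type u} [CommRing R] [HenselianLocalRing R] {Y : Scheme.{u}}
    (f : Y ⟶ Spec (CommRingCat.of R)) [Etale f] [IsSeparated f] (x : Y)
    (hx : f x = IsLocalRing.closedPoint R) :
    ∃ V : Y.Opens, x ∈ V ∧ IsClosed (V : Set Y) ∧ (∀ z ∈ V, z ⤳ x) ∧ IsFinite (V.ι ≫ f) ∧
      Etale (V.ι ≫ f) ∧ Surjective (V.ι ≫ f) ∧
      ∃ e : Spec (Y.presheaf.stalk x) ≅ (V : Scheme.{u}), e.hom ≫ V.ι = Y.fromSpecStalk x := by
  haveI : LocallyQuasiFinite f := lqf f
  obtain ⟨U₀, hU₀, hxU₀, -⟩ := exists_isAffineOpen_mem_and_subset (x := x) (U := ⊤) trivial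
  obtain ⟨V₁, -, hxV₁, hfin₁⟩ := SchemeFinite.exists_finite_open f U₀ hU₀ x hxU₀ hx
  have hV₁c : IsClosed (V₁ : Set Y) := SchemeFinite.isClosed_of_isFinite f V₁
  let F : Set Y := (V₁ : Set Y) ∩ f ⁻¹' {IsLocalRing.closedPoint R} ∩ {z | z ≠ x}
  have hFclosed : IsClosed F := by
    have hcl : IsClosed (f ⁻¹' {IsLocalRing.closedPoint R}) :=
      IsClosed.preimage f.continuous (IsLocalRing.isClosed_singleton_closedPoint R)
    haveI : DiscreteTopology ↥(f ⁻¹' {IsLocalRing.closedPoint R}) :=
      (f.isDiscrete_preimage_singleton _).to_subtype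
    have h := hcl.isClosedEmbedding_subtypeVal.isClosedMap _
      (isClosed_discrete ((Subtype.val : ↥(f ⁻¹' {IsLocalRing.closedPoint R}) → Y) ⁻¹' F))
    rwa [Set.image_preimage_eq_of_subset] at h
    intro z hz
    exact ⟨⟨z, hz.1.2⟩, rfl⟩
  let U : Y.Opens := V₁ ⊓ ⟨Fᶜ, hFclosed.isOpen_compl⟩
  obtain ⟨U₁, hU₁, hxU₁, hU₁U⟩ := exists_isAffineOpen_mem_and_subset (x := x) (U := U)
    ⟨hxV₁, fun h => h.2 rfl⟩
  obtain ⟨V, hVU, hxV, hfinV⟩ := SchemeFinite.exists_finite_open f U₁ hU₁ x hxU₁ hx
  have hVc : IsClosed (V : Set Y) := SchemeFinite.isClosed_of_isFinite f V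
  have hone : ∀ z ∈ V, f z = IsLocalRing.closedPoint R → z = x := fun z hz hfz => by
    by_contra hne
    exact (hU₁U (hVU hz)).2 ⟨⟨(hU₁U (hVU hz)).1, hfz⟩, hne⟩
  have hspec : ∀ z ∈ V, z ⤳ x := fun z hz => by
    by_contra hne
    have hcl : closure ({z} : Set Y) = ∅ :=
      SchemeFinite.eq_empty_of_forall f V.ι _ isClosed_closure
        (by
          rw [Scheme.Opens.range_ι]
          exact hVc.closure_subset_iff.mpr (Set.singleton_subset_iff.mpr hz))
        fun w hw hfw => by
          have hwV : w ∈ V := hVc.closure_subset_iff.mpr (Set.singleton_subset_iff.mpr hz) hw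
          rw [hone w hwV hfw] at hw
          exact hne (specializes_iff_mem_closure.mpr hw)
    have : z ∈ closure ({z} : Set Y) := subset_closure rfl
    rw [hcl] at this
    exact this
  haveI hsurj : Surjective (V.ι ≫ f) := by
    constructor
    intro p
    have hgen : GeneralizingMap (V.ι ≫ f) := Flat.generalizingMap _
    obtain ⟨w, -, hw⟩ := hgen (show p ⤳ (V.ι ≫ f) ⟨x, hxV⟩ from by
      rw [Scheme.Hom.comp_apply]
      show p ⤳ f x
      rw [hx]; exact IsLocalRing.specializes_closedPoint _)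
    exact ⟨w, hw⟩
  have hVaff : IsAffineOpen V := by
    have : IsAffine (V : Scheme.{u}) := isAffine_of_isAffineHom (V.ι ≫ f)
    exact this
  refine ⟨V, hxV, hVc, hspec, hfinV, inferInstance, hsurj, ?_⟩
  let P := hVaff.primeIdealOf ⟨x, hxV⟩
  have hunits : P.asIdeal.primeCompl ≤ IsUnit.submonoid Γ(Y, V) := fun a ha => by
    by_contra hau
    obtain ⟨m, hm, ham⟩ := exists_max_ideal_of_mem_nonunits hau
    let z : Spec Γ(Y, V) := ⟨m, hm.isPrime⟩
    have hzV : hVaff.fromSpec z ∈ V := by
      have h : hVaff.fromSpec z ∈ Set.range hVaff.fromSpec := ⟨z, rfl⟩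
      rwa [hVaff.range_fromSpec] at h
    have hP : hVaff.fromSpec P = x := hVaff.fromSpec_primeIdealOf ⟨x, hxV⟩
    have h : hVaff.fromSpec z ⤳ hVaff.fromSpec P := by
      rw [hP]; exact hspec _ hzV
    have h' := (PrimeSpectrum.le_iff_specializes z P).mpr (hVaff.fromSpec.isEmbedding.toIsInducing.specializes_iff.mp h)
    exact ha (h' ham)
  letI : Algebra Γ(Y, V) (Y.presheaf.stalk x) := (Y.presheaf.germ V x hxV).hom.toAlgebra
  haveI : IsLocalization.AtPrime (Y.presheaf.stalk x) P.asIdeal := hVaff.isLocalization_stalk ⟨x, hxV⟩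
  have hbij : Function.Bijective (Y.presheaf.germ V x hxV).hom :=
    (IsLocalization.atUnits Γ(Y, V) P.asIdeal.primeCompl (S := Y.presheaf.stalk x) hunits).bijective
  haveI : IsIso (Y.presheaf.germ V x hxV) := (ConcreteCategory.isIso_iff_bijective _).mpr hbij
  refine ⟨asIso (Spec.map (Y.presheaf.germ V x hxV)) ≪≫ hVaff.isoSpec.symm, ?_⟩
  rw [← hVaff.fromSpecStalk_eq_fromSpecStalk hxV, Iso.trans_hom, Category.assoc, asIso_hom, Iso.symm_hom,
    hVaff.isoSpec_inv_ι]
  rfl

end Groth.Agent.S19146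

namespace Groth.Agent.S19146

/-- Let R be a henselian local ring, s the closed point of S = Spec R, and X a quasi-isotrivial twisted
constant S-scheme (etale-locally on S isomorphic to a constant scheme). Then X is the disjoint
union, over the points x of the closed fibre X_s, of the local schemes X(x) = Spec O_{X,x}: for each
such x the canonical morphism Spec O_{X,x} ⟶ X is an open and closed immersion and X(x) is a finite
etale cover of S (finite, etale, surjective), every point of X lies in X(x) for exactly one x ∈ X_s,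
and restricting a section of X ⟶ S to the closed point is a bijection from the sections of X over S
onto the sections of X_s over s. -/
theorem result (R : Type u) [CommRing R] [HenselianLocalRing R]
    (X : Over (Spec (CommRingCat.of R))) (hX : TwC.IsTwConst TwC.Topology.etale X) :
    (∀ x : X.left, X.hom.base x = IsLocalRing.closedPoint R →
      IsOpenImmersion (X.left.fromSpecStalk x) ∧ IsClosedImmersion (X.left.fromSpecStalk x) ∧
        IsFinite (X.left.fromSpecStalk x ≫ X.hom) ∧ Etale (X.left.fromSpecStalk x ≫ X.hom) ∧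
        Surjective (X.left.fromSpecStalk x ≫ X.hom)) ∧
    (∀ y : X.left, ∃! x : X.left, X.hom.base x = IsLocalRing.closedPoint R ∧
      y ∈ Set.range (X.left.fromSpecStalk x).base) ∧
    (∀ σ₁ σ₂ : Spec (CommRingCat.of R) ⟶ X.left, σ₁ ≫ X.hom = 𝟙 _ → σ₂ ≫ X.hom = 𝟙 _ →
      Spec.map (CommRingCat.ofHom (IsLocalRing.residue R)) ≫ σ₁ = Spec.map (CommRingCat.ofHom (IsLocalRing.residue R)) ≫ σ₂ → σ₁ = σ₂) ∧
    (∀ τ : Spec (CommRingCat.of (IsLocalRing.ResidueField R)) ⟶ X.left,
      τ ≫ X.hom = Spec.map (CommRingCat.ofHom (IsLocalRing.residue R)) →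
      ∃ σ : Spec (CommRingCat.of R) ⟶ X.left, σ ≫ X.hom = 𝟙 _ ∧ Spec.map (CommRingCat.ofHom (IsLocalRing.residue R)) ≫ σ = τ) := by
  obtain ⟨hsep, het, hval⟩ := Groth.Agent.S19144.result X hX
  haveI := hsep
  haveI := het
  refine ⟨fun x hx => ?_, fun y => ?_, fun σ₁ σ₂ h₁ h₂ h => SectionsLift.section_unique X.hom σ₁ σ₂ h₁ h₂ h,
    fun τ hτ => SectionsLift.exists_section X.hom τ hτ⟩
  · obtain ⟨V, hxV, hVc, hspec, hfin, het', hsurj, e, he⟩ := exists_local X.hom x hx
    haveI : IsClosedImmersion V.ι := by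
      refine .of_isPreimmersion _ ?_
      rwa [Scheme.Opens.range_ι]
    rw [← he]
    simp only [Category.assoc]
    exact ⟨inferInstance, inferInstance, inferInstance,
      MorphismProperty.comp_mem @Etale _ _ inferInstance het', inferInstance⟩
  · obtain ⟨x, hyx, hx⟩ := AlgebraicGeometry.ValuativeCriterion.Existence.specializingMap
      X.hom hval.existence (show X.hom y ⤳ IsLocalRing.closedPoint R from
        IsLocalRing.specializes_closedPoint _)
    refine ⟨x, ⟨hx, ?_⟩, ?_⟩
    · rw [Scheme.range_fromSpecStalk]; exact hyx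
    · rintro x' ⟨hx', hy'⟩
      rw [Scheme.range_fromSpecStalk] at hy'
      obtain ⟨V, hxV, hVc, hspec, -⟩ := exists_local X.hom x hx
      have hyV : y ∈ V := (hyx : y ⤳ x).mem_open V.isOpen hxV
      have hx'V : x' ∈ V := (hy' : y ⤳ x').mem_closed hVc hyV
      have hs := hspec x' hx'V
      haveI : LocallyQuasiFinite X.hom := lqf X.hom
      have hcl : IsClosed (X.hom ⁻¹' {IsLocalRing.closedPoint R}) :=
        IsClosed.preimage X.hom.continuous (IsLocalRing.isClosed_singleton_closedPoint R)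
      haveI : DiscreteTopology ↥(X.hom ⁻¹' {IsLocalRing.closedPoint R}) :=
        (X.hom.isDiscrete_preimage_singleton _).to_subtype
      have h2 : (⟨x', hx'⟩ : ↥(X.hom ⁻¹' {IsLocalRing.closedPoint R})) ⤳ ⟨x, hx⟩ :=
        Topology.IsInducing.subtypeVal.specializes_iff.mp hs
      exact congrArg Subtype.val h2.eq


end Groth.Agent.S19146
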