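import Groth.Statements.S19148
import Mathlib
import Groth.Prelude

set_option linter.all false

set_option autoImplicit false
open scoped TensorProduct
universe u v
open FiltMod

open TensorProduct Polynomial

namespace Groth.Agent.S19148

section
variable {R : Type u} [CommRing R] {M : Type v} [AddCommGroup M] [Module R M] [Module.Finite R M] [Module.Projective R M]

theorem le_of_tensorPower_le (F₁ F₂ : Submodule R M) (h₁ : ∃ C : Submodule R M, IsCompl F₁ C)
    (h₂ : ∃ C : Submodule R M, IsCompl F₂ C) (n : ℕ)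
    (hT : LinearMap.range (PiTensorProduct.map (R := R) (fun _ : Fin (n + 1) => F₂.subtype)) ≤
      LinearMap.range (PiTensorProduct.map (R := R) (fun _ : Fin (n + 1) => F₁.subtype))) : F₂ ≤ F₁ := by
  classical
  obtain ⟨C₁, hC₁⟩ := h₁
  obtain ⟨C₂, hC₂⟩ := h₂
  let q : M →ₗ[R] M := LinearMap.id - F₁.subtype.comp (Submodule.projectionOnto F₁ C₁ hC₁)
  have hq : ∀ x ∈ F₁, q x = 0 := fun x hx => by
    show x - (Submodule.projectionOnto F₁ C₁ hC₁ x : M) = 0
    rw [show Submodule.projectionOnto F₁ C₁ hC₁ x = ⟨x, hx⟩ from Submodule.projectionOnto_apply_left hC₁ ⟨x, hx⟩, sub_self]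
  have hqmem : ∀ x, q x = 0 → x ∈ F₁ := fun x hx => by
    have h : x = (Submodule.projectionOnto F₁ C₁ hC₁ x : M) := sub_eq_zero.1 hx
    rw [h]; exact SetLike.coe_mem _
  have hkill : ∀ (φ : Fin n → (M →ₗ[R] R)) (m : Fin (n + 1) → F₂), (∏ i, φ i (m i.succ : M)) • q (m 0 : M) = 0 := by
    intro φ m
    let Φ : MultilinearMap R (fun _ : Fin n => M) R := (MultilinearMap.mkPiAlgebra R (Fin n) R).compLinearMap φ
    let L : M →ₗ[R] MultilinearMap R (fun _ : Fin n => M) M :=
      { toFun := fun x => Φ.smulRight (q x)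
        map_add' := fun x y => by ext m; simp [smul_add]
        map_smul' := fun c x => by ext m; simp [smul_comm c] }
    let Ψ : PiTensorProduct R (fun _ : Fin (n + 1) => M) →ₗ[R] M := PiTensorProduct.lift L.uncurryLeft
    have h0 : Ψ.comp (PiTensorProduct.map (fun _ : Fin (n + 1) => F₁.subtype)) = 0 := by
      apply PiTensorProduct.ext
      ext a
      simp [Ψ, L, hq _ (a 0).2]
    obtain ⟨z, hz⟩ := hT ⟨PiTensorProduct.tprod R m, rfl⟩
    have h1 := LinearMap.congr_fun h0 z
    rw [LinearMap.comp_apply, hz, LinearMap.zero_apply, PiTensorProduct.map_tprod] at h1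
    simpa [Ψ, L, Φ, Fin.tail] using h1
  haveI : Module.Finite R F₂ := Module.Finite.of_surjective _ (Submodule.projectionOnto_surjective hC₂)
  haveI : Module.Projective R F₂ := Module.Projective.of_split F₂.subtype (Submodule.projectionOnto F₂ C₂ hC₂)
    (LinearMap.ext fun x => Submodule.projectionOnto_apply_left hC₂ x)
  obtain ⟨N, f, g, -, -, hfg⟩ := Module.Finite.exists_comp_eq_id_of_projective R F₂
  let ψ : Fin N → (M →ₗ[R] R) := fun i => ((LinearMap.proj i).comp g).comp (Submodule.projectionOnto F₂ C₂ hC₂)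
  have hdual : ∀ x : F₂, x = ∑ i, ψ i (x : M) • f (Pi.single i 1) := fun x => by
    have h : ∀ i, ψ i (x : M) = g x i := fun i => by simp [ψ, Submodule.projectionOnto_apply_left]
    simp only [h, ← map_smul, ← map_sum, ← pi_eq_sum_univ']
    exact (LinearMap.congr_fun hfg x).symm
  have key : ∀ m, m ≤ n → ∀ x : F₂, ∀ (φ : Fin (n - m) → (M →ₗ[R] R)) (y : Fin (n - m) → F₂),
      (∏ i, φ i (y i : M)) • q (x : M) = 0 := by
    intro m
    induction m with
    | zero => exact fun _ x φ y => by simpa using hkill φ (Fin.cons x y)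
    | succ m ih =>
      intro hm x φ y
      obtain ⟨e, he⟩ : ∃ e, n - m = e + 1 ∧ n - (m + 1) = e := ⟨n - (m + 1), by omega, rfl⟩
      have ih' : ∀ (x : F₂) (φ : Fin (e + 1) → (M →ₗ[R] R)) (y : Fin (e + 1) → F₂), (∏ i, φ i (y i : M)) • q (x : M) = 0 := by
        rw [← he.1]; exact ih (by omega)
      revert φ y
      rw [he.2]
      intro φ y
      conv_lhs => rw [hdual x]
      rw [AddSubmonoidClass.coe_finsetSum, map_sum, Finset.smul_sum]
      refine Finset.sum_eq_zero fun i _ => ?_
      rw [Submodule.coe_smul, map_smul, smul_smul, mul_comm]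
      have := ih' (f (Pi.single i 1)) (Fin.cons (ψ i) φ) (Fin.cons x y)
      simpa [Fin.prod_univ_succ] using this
  intro x hx
  refine hqmem x ?_
  have := key n le_rfl ⟨x, hx⟩
  rw [Nat.sub_self] at this
  simpa using this Fin.elim0 Fin.elim0
end

/-- In affine form, let R be a commutative ring, M a finitely generated projective R-module (a finite
locally free sheaf on Spec R), F₁ and F₂ direct summands of M and k ≥ 1. Then the images of F₁^{⊗k}
and F₂^{⊗k} in the k-th tensor power M^{⊗k} are equal if and only if F₁ = F₂. (The source states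
this for local direct factors of a finite locally free sheaf on a scheme; equality of subsheaves
being local, this is the affine case with global direct summands, to which it reduces.) -/
theorem result {R : Type u} [CommRing R] {M : Type v} [AddCommGroup M] [Module R M]
    [Module.Finite R M] [Module.Projective R M] (F₁ F₂ : Submodule R M)
    (h₁ : ∃ C : Submodule R M, IsCompl F₁ C) (h₂ : ∃ C : Submodule R M, IsCompl F₂ C) (k : ℕ) (hk : 1 ≤ k) :
    LinearMap.range (PiTensorProduct.map (R := R) (fun _ : Fin k => F₁.subtype)) =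
      LinearMap.range (PiTensorProduct.map (R := R) (fun _ : Fin k => F₂.subtype)) ↔ F₁ = F₂ := by
  obtain ⟨n, rfl⟩ : ∃ n, k = n + 1 := ⟨k - 1, by omega⟩
  exact ⟨fun h => le_antisymm (le_of_tensorPower_le F₂ F₁ h₂ h₁ n h.le) (le_of_tensorPower_le F₁ F₂ h₁ h₂ n h.ge), fun h => by subst h; rfl⟩

end Groth.Agent.S19148
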