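import Groth.Statements.S19149
import Groth.Agent.SmoothLib.Quotient
import Mathlib.RingTheory.Ideal.Cotangent
import Mathlib.RingTheory.Smooth.Basic
import Mathlib.RingTheory.Support

set_option autoImplicit false
universe u
open GrpSch

namespace Groth.Agent.S19149

open TensorProduct

/-- If `J ∩ I² = IJ` and `I/(J + I²)` is projective over the base, the conormal map of `A/J` is
injective on the fibres at points of the unit section. -/
theorem injective_conormal {R A : Type u} [CommRing R] [CommRing A] [Algebra R A] (ε : A →ₐ[R] R)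
    (J : Ideal A) (hJI : J ≤ RingHom.ker ε) (h2 : J ⊓ RingHom.ker ε ^ 2 = RingHom.ker ε * J)
    [Module.Projective R (↥(RingHom.ker ε) ⧸ Submodule.comap (RingHom.ker ε).subtype (J ⊔ RingHom.ker ε ^ 2))]
    (q : Ideal A) [q.IsPrime] (hq : RingHom.ker ε ≤ q) (z : q.ResidueField ⊗[A] J)
    (hz : LinearMap.lTensor q.ResidueField
      ((RingHom.ker ε).toCotangent ∘ₗ Submodule.inclusion hJI) z = 0) : z = 0 := by
  let I : Ideal A := RingHom.ker ε
  let K := q.ResidueField
  let c : J →ₗ[A] I.Cotangent := I.toCotangent ∘ₗ Submodule.inclusion hJI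
  let m : J →ₗ[A] K ⊗[A] J := TensorProduct.mk A K J 1
  have hIK : ∀ a ∈ I, ∀ w : K ⊗[A] J, a • w = 0 := fun a ha w => by
    rw [algebra_compatible_smul K a w, Ideal.algebraMap_residueField_eq_zero.mpr (hq ha), zero_smul]
  have hker : LinearMap.ker c ≤ LinearMap.ker m := by
    intro x hx
    rw [LinearMap.mem_ker] at hx ⊢
    have hx2 : (x : A) ∈ J ⊓ I ^ 2 := ⟨x.2, (Ideal.toCotangent_eq_zero I _).1 hx⟩
    rw [h2] at hx2
    have hx3 : x ∈ I • (⊤ : Submodule A J) := (Submodule.mem_smul_top_iff I J x).2 hx2
    refine Submodule.smul_induction_on hx3 (fun a ha y _ => ?_) (fun y z hy hz => ?_)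
    · rw [map_smul, hIK a ha]
    · rw [map_add, hy, hz, add_zero]
  let C := Submodule.comap I.subtype (J ⊔ I ^ 2)
  let P := ↥I ⧸ C
  haveI : Module.Projective R P := inferInstanceAs (Module.Projective R
    (↥(RingHom.ker ε) ⧸ Submodule.comap (RingHom.ker ε).subtype (J ⊔ RingHom.ker ε ^ 2)))
  let π : I.Cotangent →ₗ[A] P := (I • (⊤ : Submodule A I)).mapQ C LinearMap.id (by
    rw [Submodule.smul_le]
    intro a ha y _
    show a * (y : A) ∈ J ⊔ I ^ 2
    exact Submodule.mem_sup_right (by rw [pow_two]; exact Ideal.mul_mem_mul ha y.2))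
  have hπ : ∀ x : I, π (I.toCotangent x) = C.mkQ x := fun x => rfl
  obtain ⟨σ, hσ⟩ := Module.projective_lifting_property (π.restrictScalars R) LinearMap.id (fun p => by
    obtain ⟨x, rfl⟩ := C.mkQ_surjective p
    exact ⟨_, hπ x⟩)
  have hεsm : ∀ (a : A) (y : I.Cotangent), a • y = ε a • y := fun a y => by
    obtain ⟨y, rfl⟩ := I.toCotangent_surjective y
    rw [← algebraMap_smul A (ε a) (I.toCotangent y), ← sub_eq_zero, ← sub_smul, ← map_smul,
      Ideal.toCotangent_eq_zero, pow_two]
    refine Ideal.mul_mem_mul ?_ y.2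
    show a - algebraMap R A (ε a) ∈ RingHom.ker ε
    rw [RingHom.mem_ker, map_sub, AlgHom.commutes, Algebra.algebraMap_self_apply, sub_self]
  have hεP : ∀ (a : A) (p : P), a • p = ε a • p := fun a p => by
    obtain ⟨x, rfl⟩ := C.mkQ_surjective p
    rw [← hπ, ← map_smul, hεsm, LinearMap.map_smul_of_tower]
  let σA : P →ₗ[A] I.Cotangent :=
    { toFun := σ
      map_add' := σ.map_add
      map_smul' := fun a p => by rw [hεP, map_smul, RingHom.id_apply, hεsm] }
  have hσA : ∀ p, π (σA p) = p := fun p => LinearMap.congr_fun hσ p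
  have hrange : ∀ y, y - σA (π y) ∈ LinearMap.range c := by
    intro y
    obtain ⟨x, hx⟩ := I.toCotangent_surjective (y - σA (π y))
    have h0 : π (I.toCotangent x) = 0 := by rw [hx, map_sub, hσA, sub_self]
    rw [hπ, Submodule.mkQ_apply, Submodule.Quotient.mk_eq_zero] at h0
    obtain ⟨j, hj, w, hw, hjw⟩ := Submodule.mem_sup.1 h0
    refine ⟨⟨j, hj⟩, ?_⟩
    rw [← hx]
    refine (I.toCotangent_eq.2 ?_)
    show j - (x : A) ∈ I ^ 2
    rw [show (x : A) = j + w from hjw.symm, sub_add_cancel_left]
    exact neg_mem hw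
  let ρ : I.Cotangent →ₗ[A] K ⊗[A] J := (LinearMap.ker c).liftQ m hker ∘ₗ c.quotKerEquivRange.symm.toLinearMap ∘ₗ
    (LinearMap.id - σA ∘ₗ π).codRestrict (LinearMap.range c) hrange
  have hρ : ∀ x, ρ (c x) = m x := fun x => by
    have hπc : π (c x) = 0 := by
      show π (I.toCotangent _) = 0
      rw [hπ, Submodule.mkQ_apply, Submodule.Quotient.mk_eq_zero]
      exact Submodule.mem_sup_left x.2
    have e : (LinearMap.id - σA ∘ₗ π).codRestrict (LinearMap.range c) hrange (c x) = ⟨c x, ⟨x, rfl⟩⟩ :=
      Subtype.ext (by simp [hπc])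
    show (LinearMap.ker c).liftQ m hker (c.quotKerEquivRange.symm _) = _
    rw [e]
    refine (congrArg ((LinearMap.ker c).liftQ m hker) (c.quotKerEquivRange_symm_apply_image x ⟨x, rfl⟩)).trans ?_
    rfl
  let back : K ⊗[A] I.Cotangent →ₗ[A] K ⊗[A] J := TensorProduct.lift (LinearMap.mk₂ A (fun (s : K) y => s • ρ y)
    (fun s t y => add_smul s t _) (fun a s y => smul_assoc a s _) (fun s y y' => by rw [map_add, smul_add])
    (fun a s y => by rw [map_smul, smul_comm]))
  have hback : ∀ w : K ⊗[A] J, back (LinearMap.lTensor K c w) = w := by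
    intro w
    induction w using TensorProduct.induction_on with
    | zero => simp
    | add p q hp hq => rw [map_add, map_add, hp, hq]
    | tmul s x =>
      rw [LinearMap.lTensor_tmul]
      show s • ρ (c x) = _
      rw [hρ]
      show s • ((1 : K) ⊗ₜ[A] x) = _
      rw [TensorProduct.smul_tmul', smul_eq_mul, mul_one]
  rw [← hback z, show LinearMap.lTensor K c z = 0 from hz, map_zero]


/-- In affine form, let R be a commutative ring, A a smooth R-algebra with an augmentation ε : A → R
(the unit section of G = Spec A over S = Spec R), I = ker ε its augmentation ideal, and J ⊆ I an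
ideal (defining a closed subscheme H of G through the unit section) such that (1) J is finitely
generated, (2) J ∩ I² = I·J in A, and (3) I/(J + I²) is a finitely generated projective R-module
(finite locally free on S). Then H = Spec (A/J) is smooth over S at every point of the unit section:
for every prime P of A/J containing the image of I, the localization (A/J)_P is formally smooth over
R. (The source states this for G an affine smooth group scheme over a scheme S and H a closed
subgroup, concluding that the neutral component H° is a smooth open subgroup scheme; that conclusion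
is smoothness of H along the unit section, which is the statement here in affine form; the group
structure is not used.) -/
theorem result (R A : Type u) [CommRing R] [CommRing A] [Algebra R A]
    [Algebra.Smooth R A] (ε : A →ₐ[R] R) (J : Ideal A) (hJI : J ≤ RingHom.ker ε)
    (h1 : J.FG)
    (h2 : J ⊓ RingHom.ker ε ^ 2 = RingHom.ker ε * J)
    (h3 : Module.Finite R (↥(RingHom.ker ε) ⧸ Submodule.comap (RingHom.ker ε).subtype (J ⊔ RingHom.ker ε ^ 2)) ∧
      Module.Projective R (↥(RingHom.ker ε) ⧸ Submodule.comap (RingHom.ker ε).subtype (J ⊔ RingHom.ker ε ^ 2)))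
    (P : Ideal (A ⧸ J)) [P.IsPrime] (hP : (RingHom.ker ε).map (Ideal.Quotient.mk J) ≤ P) :
    Algebra.IsSmoothAt R P := by
  classical
  haveI := h3.2
  let I : Ideal A := RingHom.ker ε
  let q : Ideal A := P.comap (Ideal.Quotient.mk J)
  have hIq : I ≤ q := fun a ha => hP (Ideal.mem_map_of_mem _ ha)
  let K := q.ResidueField
  haveI : Algebra.IsSmoothAt R q := by
    haveI : Algebra.FormallyEtale A (Localization.AtPrime q) := .of_isLocalization q.primeCompl
    exact Algebra.FormallySmooth.comp R A (Localization.AtPrime q)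
  refine (Groth.Agent.SmoothLib.isSmoothAt_quotient_iff J h1 P q rfl).2 ?_
  haveI : Module.Finite A J := Module.Finite.iff_fg.2 h1
  -- generators of the fibre
  let mJ : J → K ⊗[A] J := fun x => (1 : K) ⊗ₜ[A] x
  have hspan : Submodule.span K (Set.range mJ) = ⊤ := by
    rw [eq_top_iff]
    intro w hw
    clear hw
    induction w using TensorProduct.induction_on with
    | zero => simp
    | add a b ha hb => exact Submodule.add_mem _ ha hb
    | tmul c x =>
      rw [show c ⊗ₜ[A] x = c • mJ x by rw [TensorProduct.smul_tmul', smul_eq_mul, mul_one]]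
      exact Submodule.smul_mem _ _ (Submodule.subset_span ⟨x, rfl⟩)
  obtain ⟨bs, hbsub, hbspan, hbli⟩ := exists_linearIndependent K (Set.range mJ)
  haveI : Finite bs := hbli.finite
  haveI := Fintype.ofFinite bs
  choose g hg using fun b : bs => hbsub b.2
  let s : Finset A := Finset.univ.image fun b : bs => (g b : A)
  have hsJ : (↑s : Set A) ⊆ (J : Set A) := fun a ha => by
    obtain ⟨b, -, rfl⟩ := Finset.mem_image.1 (Finset.mem_coe.1 ha)
    exact (g b).2
  refine ⟨s, hsJ, ?_, ?_⟩
  · -- Nakayama
    let N' : Submodule A J := Submodule.span A (Set.range g)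
    have hsub : Subsingleton (K ⊗[A] (J ⧸ N')) := by
      have hsurj : Function.Surjective (N'.mkQ.baseChange K) := LinearMap.lTensor_surjective K N'.mkQ_surjective
      refine subsingleton_of_forall_eq 0 fun y => ?_
      obtain ⟨w, rfl⟩ := hsurj y
      have hw : w ∈ Submodule.span K bs := by rw [hbspan, hspan]; trivial
      induction hw using Submodule.span_induction with
      | mem b hb =>
        show N'.mkQ.baseChange K ((⟨b, hb⟩ : bs) : K ⊗[A] J) = 0
        rw [← hg ⟨b, hb⟩]
        show (1 : K) ⊗ₜ[A] N'.mkQ (g ⟨b, hb⟩) = 0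
        rw [Submodule.mkQ_apply, (Submodule.Quotient.mk_eq_zero N').2 (Submodule.subset_span ⟨_, rfl⟩),
          TensorProduct.tmul_zero]
      | zero => simp
      | add a b _ _ ha hb => rw [map_add, ha, hb, add_zero]
      | smul c a _ ha => rw [map_smul, ha, smul_zero]
    have hns : (⟨q, inferInstance⟩ : PrimeSpectrum A) ∉ Module.support A (J ⧸ N') := by
      rw [Module.mem_support_iff_nontrivial_residueField_tensorProduct]
      exact not_nontrivial_iff_subsingleton.2 hsub
    rw [Module.notMem_support_iff'] at hns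
    refine le_antisymm (Ideal.map_le_iff_le_comap.2 fun x hx => ?_) (Ideal.span_le.2 ?_)
    · obtain ⟨t, ht, htx⟩ := hns (N'.mkQ ⟨x, hx⟩)
      rw [← map_smul, Submodule.mkQ_apply, Submodule.Quotient.mk_eq_zero] at htx
      have hmem : t * x ∈ Ideal.span (↑s : Set A) := by
        have h := Submodule.apply_mem_span_image_of_mem_span J.subtype htx
        refine Submodule.span_mono ?_ h
        rintro _ ⟨_, ⟨b, rfl⟩, rfl⟩
        exact Finset.mem_coe.2 (Finset.mem_image.2 ⟨b, Finset.mem_univ _, rfl⟩)
      have h := Ideal.mem_map_of_mem (algebraMap A (Localization.AtPrime q)) hmem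
      rw [map_mul, Ideal.map_span] at h
      exact (Ideal.unit_mul_mem_iff_mem _
        (IsLocalization.map_units (Localization.AtPrime q) (⟨t, ht⟩ : q.primeCompl))).1 h
    · rintro _ ⟨a, ha, rfl⟩
      exact Ideal.mem_map_of_mem _ (hsJ ha)
  · -- the derivation `a ↦ a - ε a`
    have hmemI : ∀ a : A, a - algebraMap R A (ε a) ∈ I := fun a => by
      show _ ∈ RingHom.ker ε
      rw [RingHom.mem_ker, map_sub, AlgHom.commutes, Algebra.algebraMap_self_apply, sub_self]
    let δ : Derivation R A I.Cotangent :=
      Derivation.mk'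
        { toFun := fun a => I.toCotangent ⟨_, hmemI a⟩
          map_add' := fun a b => by
            rw [← map_add]; congr 1; ext; simp; ring
          map_smul' := fun r a => by
            rw [RingHom.id_apply, ← algebraMap_smul A r (I.toCotangent _), ← map_smul]; congr 1; ext
            simp [Algebra.smul_def, map_mul]; ring }
        (fun a b => by
          show I.toCotangent ⟨_, hmemI (a * b)⟩ =
            a • I.toCotangent ⟨_, hmemI b⟩ + b • I.toCotangent ⟨_, hmemI a⟩
          rw [← map_smul, ← map_smul, ← map_add, I.toCotangent_eq, pow_two]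
          convert neg_mem (Ideal.mul_mem_mul (hmemI a) (hmemI b)) using 1
          simp [map_mul]; ring)
    let Ψ : K ⊗[A] KaehlerDifferential R A →ₗ[K] K ⊗[A] I.Cotangent :=
      δ.liftKaehlerDifferential.baseChange K
    let cK : K ⊗[A] J →ₗ[K] K ⊗[A] I.Cotangent := (I.toCotangent ∘ₗ Submodule.inclusion hJI).baseChange K
    have hinj : LinearMap.ker cK = ⊥ := LinearMap.ker_eq_bot'.2 fun z hz =>
      injective_conormal ε J hJI h2 q hIq z hz
    have hli : LinearIndependent K (fun b : bs => cK (b : K ⊗[A] J)) := hbli.map' cK hinj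
    have hΨ : ∀ x : J, Ψ ((1 : K) ⊗ₜ[A] KaehlerDifferential.D R A (x : A)) = cK (mJ x) := fun x => by
      show (1 : K) ⊗ₜ[A] δ.liftKaehlerDifferential (KaehlerDifferential.D R A (x : A)) = _
      rw [Derivation.liftKaehlerDifferential_comp_D]
      show (1 : K) ⊗ₜ[A] I.toCotangent ⟨_, hmemI x⟩ = (1 : K) ⊗ₜ[A] I.toCotangent _
      congr 2
      ext
      show (x : A) - algebraMap R A (ε x) = x
      rw [show ε (x : A) = 0 from hJI x.2, map_zero, sub_zero]
    have hmem : ∀ a : s, ∃ b : bs, (g b : A) = a := fun a => by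
      obtain ⟨b, -, hb⟩ := Finset.mem_image.1 a.2
      exact ⟨b, hb⟩
    choose bi hbi using hmem
    refine LinearIndependent.of_comp Ψ ?_
    have e : (Ψ ∘ fun a : s => (1 : K) ⊗ₜ[A] KaehlerDifferential.D R A (a : A)) =
        fun a : s => cK ((bi a : bs) : K ⊗[A] J) := funext fun a => by
      show Ψ ((1 : K) ⊗ₜ[A] KaehlerDifferential.D R A (a : A)) = _
      rw [← hbi a, hΨ]
      exact congrArg cK (hg _)
    rw [e]
    exact hli.comp bi fun a a' h => Subtype.ext (by rw [← hbi a, ← hbi a', h])

end Groth.Agent.S19149
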