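import Groth.Statements.S19154
import Mathlib

set_option linter.all false

set_option autoImplicit false
open scoped TensorProduct
universe u v w
open FiltMod

open Submodule TensorProduct

namespace Groth.Agent.S19154

theorem baseChange_iSup {R : Type*} [CommRing R] {M : Type*} [AddCommGroup M] [Module R M] (A : Type*) [CommRing A]
    [Algebra R A] {ι : Sort*} (p : ι → Submodule R M) :
    (⨆ i, p i).baseChange A = ⨆ i, (p i).baseChange A := by
  refine le_antisymm ?_ (iSup_le fun i => baseChange_mono A (le_iSup p i))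
  rw [baseChange_eq_span, span_le]
  rintro _ ⟨m, hm, rfl⟩
  induction hm using Submodule.iSup_induction' with
  | mem i x hx => exact (le_iSup (fun i => (p i).baseChange A) i) (tmul_mem_baseChange_of_mem 1 hx)
  | zero => simp
  | add x y _ _ hx hy => rw [map_add]; exact add_mem hx hy

theorem baseChange_gt {R : Type*} [CommRing R] {M : Type*} [AddCommGroup M] [Module R M] (A : Type*) [CommRing A]
    [Algebra R A] {Γ : Type*} [LinearOrder Γ] (F : Γ → Submodule R M) (γ : Γ) :
    (⨆ η ∈ Set.Ioi γ, F η).baseChange A = ⨆ η ∈ Set.Ioi γ, (F η).baseChange A := by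
  simp only [baseChange_iSup]

/-- If the `G γ` complement the strict parts, finite sums behave triangularly. -/
theorem eq_zero_of_sum {R : Type*} [CommRing R] {M : Type*} [AddCommGroup M] [Module R M] {Γ : Type*} [LinearOrder Γ]
    (F G : Γ → Submodule R M) (hGF : ∀ γ, G γ ≤ F γ)
    (hdisj : ∀ γ x, x ∈ G γ → x ∈ (⨆ η ∈ Set.Ioi γ, F η : Submodule R M) → x = 0) (γ : Γ) :
    ∀ (s : Finset Γ) (g : Γ → M), (∀ η ∈ s, g η ∈ G η) → ∑ η ∈ s, g η ∈ F γ → ∀ η ∈ s, η < γ → g η = 0 := by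
  classical
  intro s
  induction s using Finset.induction_on_min with
  | empty => intros; simp_all
  | insert a s ha ih =>
    intro g hg hsum
    have hnot : a ∉ s := fun h => (ha a h).false
    rw [Finset.sum_insert hnot] at hsum
    have h0 : a < γ → g a = 0 := by
      intro haγ
      refine hdisj a _ (hg a (Finset.mem_insert_self a s)) ?_
      rw [← add_sub_cancel_right (g a) (∑ η ∈ s, g η)]
      refine sub_mem ?_ (sum_mem fun η hη => ?_)
      · exact (le_iSup₂ (f := fun η (_ : η ∈ Set.Ioi a) => F η) γ haγ) hsum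
      · exact (le_iSup₂ (f := fun η' (_ : η' ∈ Set.Ioi a) => F η') η (ha η hη)) (hGF η (hg η (Finset.mem_insert_of_mem hη)))
    intro η hη hlt
    rcases Finset.mem_insert.mp hη with rfl | hη
    · exact h0 hlt
    · have haγ : a < γ := (ha η hη).trans hlt
      rw [h0 haγ, zero_add] at hsum
      exact ih g (fun η' h' => hg η' (Finset.mem_insert_of_mem h')) hsum η hη hlt

/-- Sum of jumps of a filtration inside a subspace. -/
theorem sum_jump_le {k : Type*} [Field k] {V : Type*} [AddCommGroup V] [Module k V] [FiniteDimensional k V]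
    {Γ : Type*} [LinearOrder Γ] (Φ : Γ → Submodule k V) (S : Submodule k V) :
    ∀ (s : Finset Γ) (T : Submodule k V), (∀ η ∈ s, Φ η ≤ T) →
      ∀ (hS : ∀ γ ∈ s, Φ γ ≤ S ⊔ ⨆ η ∈ Set.Ioi γ, Φ η) (hmono : ∀ γ ∈ s, (⨆ η ∈ Set.Ioi γ, Φ η) ≤ Φ γ),
      ∑ γ ∈ s, (Module.finrank k (Φ γ) - Module.finrank k ↥(⨆ η ∈ Set.Ioi γ, Φ η)) ≤ Module.finrank k ↥(S ⊓ T) := by
  classical
  intro s
  induction s using Finset.induction_on_min with
  | empty => intros; simp
  | insert a s ha ih =>
    intro T hT hS hmono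
    rw [Finset.sum_insert fun h => (ha a h).false]
    set P : Submodule k V := ⨆ η ∈ Set.Ioi a, Φ η with hP
    have h1 := ih P (fun η hη => le_iSup₂ (f := fun η' (_ : η' ∈ Set.Ioi a) => Φ η') η (ha η hη))
      (fun γ h => hS γ (Finset.mem_insert_of_mem h)) (fun γ h => hmono γ (Finset.mem_insert_of_mem h))
    have hPa : P ≤ Φ a := hmono a (Finset.mem_insert_self a s)
    have e1 : (S ⊓ Φ a) ⊔ P = Φ a := by
      refine le_antisymm (sup_le inf_le_right hPa) ?_
      rw [inf_comm, inf_sup_assoc_of_le S hPa]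
      exact le_inf le_rfl (hS a (Finset.mem_insert_self a s))
    have e2 : (S ⊓ Φ a) ⊓ P = S ⊓ P := by rw [inf_assoc, inf_eq_right.mpr hPa]
    have h2 := Submodule.finrank_sup_add_finrank_inf_eq (S ⊓ Φ a) P
    rw [e1, e2] at h2
    have h3 : Module.finrank k ↥(S ⊓ Φ a) ≤ Module.finrank k ↥(S ⊓ T) :=
      Submodule.finrank_mono (inf_le_inf_left S (hT a (Finset.mem_insert_self a s)))
    have h4 := Submodule.finrank_mono hPa
    omega

theorem exists_splitting_of_gr {Γ : Type w} [LinearOrder Γ]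
    {R : Type u} [CommRing R] {M : Type v} [AddCommGroup M] [Module R M] [Module.Finite R M]
    (F : Γ → Submodule R M) (hF : Antitone F)
    (hgr : ∀ γ, Module.Projective R (↥(F γ) ⧸ Submodule.comap (F γ).subtype (⨆ η ∈ Set.Ioi γ, F η)))
    (hdim : ∀ p : PrimeSpectrum R,
        Module.finrank p.asIdeal.ResidueField (p.asIdeal.ResidueField ⊗[R] M) =
          ∑ᶠ γ, (Module.finrank p.asIdeal.ResidueField ↥((F γ).baseChange p.asIdeal.ResidueField) -
            Module.finrank p.asIdeal.ResidueField ↥(⨆ η ∈ Set.Ioi γ, (F η).baseChange p.asIdeal.ResidueField))) :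
    ∃ G : Γ → Submodule R M, DirectSum.IsInternal G ∧ ∀ γ, F γ = ⨆ η ∈ Set.Ici γ, G η := by
  classical
  have hsec : ∀ γ, ∃ s : (↥(F γ) ⧸ Submodule.comap (F γ).subtype (⨆ η ∈ Set.Ioi γ, F η)) →ₗ[R] ↥(F γ),
      (Submodule.mkQ _).comp s = LinearMap.id := fun γ => by
    haveI := hgr γ
    exact Module.projective_lifting_property _ LinearMap.id (Submodule.mkQ_surjective _)
  choose s hs using hsec
  let G : Γ → Submodule R M := fun γ => LinearMap.range ((F γ).subtype.comp (s γ))
  have hGF : ∀ γ, G γ ≤ F γ := by rintro γ _ ⟨y, rfl⟩; exact (s γ y).2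
  have hdisj : ∀ γ x, x ∈ G γ → x ∈ (⨆ η ∈ Set.Ioi γ, F η : Submodule R M) → x = 0 := by
    rintro γ _ ⟨y, rfl⟩ h
    have h1 : (Submodule.mkQ _) (s γ y) = y := LinearMap.congr_fun (hs γ) y
    have h2 : (Submodule.mkQ (Submodule.comap (F γ).subtype (⨆ η ∈ Set.Ioi γ, F η))) (s γ y) = 0 :=
      (Submodule.Quotient.mk_eq_zero _).mpr h
    rw [h2] at h1
    rw [← h1, map_zero]
  have hle : ∀ γ, F γ ≤ G γ ⊔ ⨆ η ∈ Set.Ioi γ, F η := by
    intro γ x hx
    let y := Submodule.mkQ (Submodule.comap (F γ).subtype (⨆ η ∈ Set.Ioi γ, F η)) ⟨x, hx⟩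
    refine Submodule.mem_sup.mpr ⟨_, ⟨y, rfl⟩, x - (F γ).subtype (s γ y), ?_, by simp⟩
    have h2 : (⟨x, hx⟩ : ↥(F γ)) - s γ y ∈ Submodule.comap (F γ).subtype (⨆ η ∈ Set.Ioi γ, F η) := by
      rw [← Submodule.Quotient.mk_eq_zero, Submodule.Quotient.mk_sub, sub_eq_zero]
      exact (LinearMap.congr_fun (hs γ) y).symm
    exact h2
  have htop : ⨆ γ, G γ = ⊤ := by
    set N := ⨆ γ, G γ with hN
    rw [← Submodule.Quotient.subsingleton_iff (p := N), ← Module.support_eq_empty_iff (R := R), Set.eq_empty_iff_forall_notMem]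
    intro p hp
    rw [Module.mem_support_iff_nontrivial_residueField_tensorProduct] at hp
    let κ := p.asIdeal.ResidueField
    let Φ : Γ → Submodule κ (κ ⊗[R] M) := fun γ => (F γ).baseChange κ
    let S : Submodule κ (κ ⊗[R] M) := N.baseChange κ
    have hS : ∀ γ, Φ γ ≤ S ⊔ ⨆ η ∈ Set.Ioi γ, Φ η := by
      intro γ
      refine (baseChange_mono κ ((hle γ).trans (sup_le_sup (le_iSup G γ) le_rfl))).trans ?_
      rw [show N ⊔ (⨆ η ∈ Set.Ioi γ, F η) = ⨆ b : Bool, cond b N (⨆ η ∈ Set.Ioi γ, F η) from sup_eq_iSup ..,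
        baseChange_iSup]
      refine iSup_le fun b => ?_
      cases b
      · simp only [cond_false, baseChange_gt]; exact le_sup_right
      · exact le_sup_left
    have hmono : ∀ γ, (⨆ η ∈ Set.Ioi γ, Φ η) ≤ Φ γ := fun γ =>
      iSup₂_le fun η hη => baseChange_mono κ (hF (le_of_lt (Set.mem_Ioi.mp hη)))
    have hST : S = ⊤ := by
      refine Submodule.eq_top_of_finrank_eq (le_antisymm (Submodule.finrank_le S) ?_)
      rw [hdim p]
      set j := fun γ => Module.finrank κ ↥(Φ γ) - Module.finrank κ ↥(⨆ η ∈ Set.Ioi γ, Φ η) with hj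
      show ∑ᶠ γ, j γ ≤ _
      by_cases hfin : (Function.support j).Finite
      · rw [finsum_eq_sum _ hfin]
        have := sum_jump_le Φ S hfin.toFinset ⊤ (fun _ _ => le_top) (fun γ _ => hS γ) (fun γ _ => hmono γ)
        rwa [inf_top_eq] at this
      · rw [finsum_of_infinite_support hfin]; exact Nat.zero_le _
    have hsurj : Function.Surjective ((N.subtype).baseChange κ) := LinearMap.range_eq_top.mp hST
    have h0 : ∀ z : κ ⊗[R] (M ⧸ N), z = 0 := by
      intro z
      induction z using TensorProduct.induction_on with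
      | zero => rfl
      | add a b ha hb => rw [ha, hb, add_zero]
      | tmul a m =>
        obtain ⟨m, rfl⟩ := Submodule.mkQ_surjective N m
        obtain ⟨y, hy⟩ := hsurj (a ⊗ₜ m)
        rw [← LinearMap.baseChange_tmul, ← hy, ← LinearMap.comp_apply, ← LinearMap.baseChange_comp,
          show N.mkQ.comp N.subtype = 0 from LinearMap.ext fun n => (Submodule.Quotient.mk_eq_zero N).mpr n.2]
        simp
    exact not_subsingleton _ (⟨fun a b => (h0 a).trans (h0 b).symm⟩ : Subsingleton (κ ⊗[R] (M ⧸ N)))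
  have hrepr : ∀ m : M, ∃ (t : Finset Γ) (g : Γ → M), (∀ η ∈ t, g η ∈ G η) ∧ ∑ η ∈ t, g η = m := by
    intro m
    obtain ⟨d, hd⟩ := (Submodule.mem_iSup_iff_exists_dfinsupp G m).mp (htop.symm ▸ Submodule.mem_top)
    refine ⟨d.support, fun η => (d η : M), fun η _ => (d η).2, ?_⟩
    rw [← hd, DFinsupp.lsum_apply_apply, DFinsupp.sumAddHom_apply, DFinsupp.sum]
    rfl
  refine ⟨G, ⟨fun a b hab => ?_, fun m => ?_⟩, fun γ => le_antisymm (fun x hx => ?_) ?_⟩
  · rw [← sub_eq_zero]
    refine DFinsupp.ext fun η => ?_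
    by_contra hne
    set c := a - b with hc
    have hc0 : (DirectSum.coeAddMonoidHom G) c = 0 := by rw [hc, map_sub, hab, sub_self]
    have hmem : η ∈ DFinsupp.support c := DFinsupp.mem_support_iff.mpr hne
    have hsum : ∑ i ∈ DFinsupp.support c, ((c i : G i) : M) = 0 := by
      rw [← hc0, DirectSum.coeAddMonoidHom_eq_dfinsuppSum, DFinsupp.sum]
    obtain ⟨γ0, hγ0⟩ : ∃ γ0 : Γ, η < γ0 ∨ ∀ i ∈ DFinsupp.support c, i ≤ η := by
      by_cases h : ∀ i ∈ DFinsupp.support c, i ≤ η
      · exact ⟨η, Or.inr h⟩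
      · push Not at h
        obtain ⟨i, -, hi⟩ := h
        exact ⟨i, Or.inl hi⟩
    rcases hγ0 with hlt | hmax
    · refine hne (Subtype.ext ?_)
      exact eq_zero_of_sum F G hGF hdisj γ0 _ (fun i => ((c i : G i) : M)) (fun i _ => (c i).2) (hsum ▸ zero_mem _) η hmem hlt
    · refine hne (Subtype.ext ?_)
      rw [← Finset.add_sum_erase _ _ hmem, Finset.sum_eq_zero, add_zero] at hsum
      · exact hsum
      · intro i hi
        rw [Finset.mem_erase] at hi
        exact eq_zero_of_sum F G hGF hdisj η _ (fun i => ((c i : G i) : M)) (fun i _ => (c i).2)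
          (by
            have : ∑ i ∈ DFinsupp.support c, ((c i : G i) : M) = 0 := by
              rw [← hc0, DirectSum.coeAddMonoidHom_eq_dfinsuppSum, DFinsupp.sum]
            rw [this]; exact zero_mem _) i hi.2 (lt_of_le_of_ne (hmax i hi.2) hi.1)
  · obtain ⟨t, g, hg, rfl⟩ := hrepr m
    refine ⟨∑ η ∈ t.attach, DirectSum.of (fun i => ↥(G i)) η.1 ⟨g η.1, hg η.1 η.2⟩, ?_⟩
    rw [map_sum, ← Finset.sum_attach t g]
    exact Finset.sum_congr rfl fun η _ => DirectSum.coeAddMonoidHom_of G η.1 _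
  · obtain ⟨t, g, hg, rfl⟩ := hrepr x
    refine sum_mem fun η hη => ?_
    rcases lt_or_ge η γ with h | h
    · rw [eq_zero_of_sum F G hGF hdisj γ t g hg hx η hη h]; exact zero_mem _
    · exact (le_iSup₂ (f := fun i (_ : i ∈ Set.Ici γ) => G i) η h) (hg η hη)
  · exact iSup₂_le fun η hη => (hGF η).trans (hF hη)

theorem gr_of_splitting {Γ : Type w} [LinearOrder Γ]
    {R : Type u} [CommRing R] {M : Type v} [AddCommGroup M] [Module R M] [Module.Finite R M] [Module.Projective R M]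
    (F : Γ → Submodule R M) (G : Γ → Submodule R M) (hG : DirectSum.IsInternal G)
    (hFG : ∀ γ, F γ = ⨆ η ∈ Set.Ici γ, G η) :
    (∀ γ, Module.Finite R (↥(F γ) ⧸ Submodule.comap (F γ).subtype (⨆ η ∈ Set.Ioi γ, F η)) ∧
        Module.Projective R (↥(F γ) ⧸ Submodule.comap (F γ).subtype (⨆ η ∈ Set.Ioi γ, F η))) ∧
      ∀ p : PrimeSpectrum R,
        Module.finrank p.asIdeal.ResidueField (p.asIdeal.ResidueField ⊗[R] M) =
          ∑ᶠ γ, (Module.finrank p.asIdeal.ResidueField ↥((F γ).baseChange p.asIdeal.ResidueField) -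
            Module.finrank p.asIdeal.ResidueField ↥(⨆ η ∈ Set.Ioi γ, (F η).baseChange p.asIdeal.ResidueField)) := by
  classical
  let e := LinearEquiv.ofBijective (DirectSum.coeLinearMap G) hG
  let π : ∀ γ, M →ₗ[R] ↥(G γ) := fun γ => (DirectSum.component R Γ (fun i => ↥(G i)) γ).comp (e.symm : M →ₗ[R] _)
  have hπs : ∀ γ (x : M) (hx : x ∈ G γ), π γ x = ⟨x, hx⟩ := fun γ x hx => hG.ofBijective_coeLinearMap_of_mem hx
  have hπn : ∀ γ η (x : M), η ≠ γ → x ∈ G η → π γ x = 0 := fun γ η x hne hx =>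
    hG.ofBijective_coeLinearMap_of_mem_ne hne hx
  have hP : ∀ γ, (⨆ η ∈ Set.Ioi γ, F η) = ⨆ η ∈ Set.Ioi γ, G η := fun γ => by
    refine le_antisymm (iSup₂_le fun η hη => ?_) (iSup₂_le fun η hη => ?_)
    · rw [hFG]
      exact iSup₂_le fun i hi => le_iSup₂ (f := fun i (_ : i ∈ Set.Ioi γ) => G i) i (lt_of_lt_of_le hη hi)
    · refine le_trans ?_ (le_iSup₂ (f := fun i (_ : i ∈ Set.Ioi γ) => F i) η hη)
      rw [hFG]
      exact le_iSup₂ (f := fun i (_ : i ∈ Set.Ici η) => G i) η (le_refl η)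
  have hsplit : ∀ γ, F γ = G γ ⊔ ⨆ η ∈ Set.Ioi γ, G η := fun γ => by
    rw [hFG]
    refine le_antisymm (iSup₂_le fun η hη => ?_) (sup_le (le_iSup₂ (f := fun i (_ : i ∈ Set.Ici γ) => G i) γ (le_refl γ)) ?_)
    · rcases (Set.mem_Ici.mp hη).lt_or_eq with h | rfl
      · exact le_sup_of_le_right (le_iSup₂ (f := fun i (_ : i ∈ Set.Ioi γ) => G i) η h)
      · exact le_sup_left
    · exact iSup₂_le fun η hη => le_iSup₂ (f := fun i (_ : i ∈ Set.Ici γ) => G i) η (le_of_lt hη)
  have hπP : ∀ γ, (⨆ η ∈ Set.Ioi γ, G η) ≤ LinearMap.ker (π γ) := fun γ =>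
    iSup₂_le fun η hη x hx => hπn γ η x (ne_of_gt hη) hx
  constructor
  · intro γ
    haveI hfG : Module.Finite R ↥(G γ) :=
      Module.Finite.of_surjective (π γ) fun x => ⟨x, hπs γ x x.2⟩
    haveI hpG : Module.Projective R ↥(G γ) := Module.Projective.of_split (G γ).subtype (π γ)
      (LinearMap.ext fun x => hπs γ x x.2)
    have hker : LinearMap.ker ((π γ).comp (F γ).subtype) = Submodule.comap (F γ).subtype (⨆ η ∈ Set.Ioi γ, F η) := by
      rw [hP]
      refine le_antisymm (fun x hx => ?_) (fun x hx => hπP γ hx)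
      have hx' : (x : M) ∈ G γ ⊔ ⨆ η ∈ Set.Ioi γ, G η := hsplit γ ▸ x.2
      obtain ⟨a, ha, b, hb, hab⟩ := Submodule.mem_sup.mp hx'
      have hx0 : π γ (x : M) = 0 := hx
      rw [← hab, map_add, hπs γ a ha, LinearMap.mem_ker.mp (hπP γ hb), add_zero] at hx0
      show (x : M) ∈ (⨆ η ∈ Set.Ioi γ, G η : Submodule R M)
      rw [← hab, show a = 0 from congrArg Subtype.val hx0, zero_add]
      exact hb
    have hsurj : Function.Surjective ((π γ).comp (F γ).subtype) := fun x =>
      ⟨⟨x, (hsplit γ).symm ▸ Submodule.mem_sup_left x.2⟩, hπs γ x x.2⟩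
    let e' : (↥(F γ) ⧸ Submodule.comap (F γ).subtype (⨆ η ∈ Set.Ioi γ, F η)) ≃ₗ[R] ↥(G γ) :=
      (Submodule.quotEquivOfEq _ _ hker.symm).trans (LinearMap.quotKerEquivOfSurjective _ hsurj)
    exact ⟨Module.Finite.equiv e'.symm, Module.Projective.of_equiv e'.symm⟩
  · intro p
    let κ := p.asIdeal.ResidueField
    let H : Γ → Submodule κ (κ ⊗[R] M) := fun γ => (G γ).baseChange κ
    let ρ : ∀ γ, (κ ⊗[R] M) →ₗ[κ] (κ ⊗[R] M) := fun γ => ((G γ).subtype.comp (π γ)).baseChange κ
    have hρs : ∀ γ, ∀ v ∈ H γ, ρ γ v = v := by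
      rintro γ _ ⟨z, rfl⟩
      rw [← LinearMap.comp_apply, ← LinearMap.baseChange_comp, LinearMap.comp_assoc,
        show (π γ).comp (G γ).subtype = LinearMap.id from LinearMap.ext fun x => hπs γ x x.2, LinearMap.comp_id]
    have hρn : ∀ γ η, η ≠ γ → H η ≤ LinearMap.ker (ρ γ) := by
      rintro γ η hne _ ⟨z, rfl⟩
      rw [LinearMap.mem_ker, ← LinearMap.comp_apply, ← LinearMap.baseChange_comp,
        show ((G γ).subtype.comp (π γ)).comp (G η).subtype = 0 from LinearMap.ext fun x => by simp [hπn γ η x hne x.2]]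
      simp
    have hind : ∀ γ (X : Submodule κ (κ ⊗[R] M)), X ≤ LinearMap.ker (ρ γ) →
        Module.finrank κ ↥(H γ ⊔ X) = Module.finrank κ ↥(H γ) + Module.finrank κ ↥X := by
      intro γ X hX
      have h := Submodule.finrank_sup_add_finrank_inf_eq (H γ) X
      have hb : H γ ⊓ X = ⊥ := by
        rw [eq_bot_iff]
        rintro v ⟨h1, h2⟩
        rw [Submodule.mem_bot, ← hρs γ v h1]
        exact hX h2
      rw [hb, finrank_bot, add_zero] at h
      exact h
    have hΦ : ∀ γ, (⨆ η ∈ Set.Ioi γ, (F η).baseChange κ) = ⨆ η ∈ Set.Ioi γ, H η := fun γ => by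
      rw [← baseChange_gt, hP, baseChange_gt]
    have hF' : ∀ γ, (F γ).baseChange κ = H γ ⊔ ⨆ η ∈ Set.Ioi γ, H η := fun γ => by
      rw [hsplit γ, sup_eq_iSup, baseChange_iSup, ← baseChange_gt, sup_eq_iSup]
      exact iSup_congr fun b => by cases b <;> rfl
    have hjump : ∀ γ, Module.finrank κ ↥((F γ).baseChange κ) - Module.finrank κ ↥(⨆ η ∈ Set.Ioi γ, (F η).baseChange κ) =
        Module.finrank κ ↥(H γ) := fun γ => by
      rw [hΦ, hF', hind γ (⨆ η ∈ Set.Ioi γ, H η) (iSup₂_le fun η hη => hρn γ η (ne_of_gt hη)), Nat.add_sub_cancel]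
    show _ = ∑ᶠ γ, _
    rw [finsum_congr hjump]
    obtain ⟨t, ht⟩ : ∃ t : Finset Γ, ⨆ γ ∈ t, G γ = ⊤ := by
      obtain ⟨b, hb⟩ := Module.finite_def.mp (inferInstance : Module.Finite R M)
      have hm : ∀ m : M, ∃ t : Finset Γ, m ∈ ⨆ γ ∈ t, G γ := fun m =>
        Submodule.exists_finset_of_mem_iSup G (hG.submodule_iSup_eq_top.symm ▸ Submodule.mem_top)
      choose tt htt using hm
      refine ⟨b.biUnion tt, eq_top_iff.mpr ?_⟩
      rw [← hb, Submodule.span_le]
      exact fun m hm => SetLike.le_def.mp (biSup_mono (f := G) (fun γ hγ => Finset.mem_biUnion.mpr ⟨m, hm, hγ⟩)) (htt m)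
    have htopH : (⨆ γ ∈ t, H γ) = ⊤ := by
      have h := congrArg (Submodule.baseChange κ) ht
      rw [baseChange_top] at h
      simpa only [baseChange_iSup] using h
    have hzero : ∀ γ ∉ t, H γ = ⊥ := by
      intro γ hγ
      have h1 : (⊤ : Submodule κ (κ ⊗[R] M)) ≤ LinearMap.ker (ρ γ) :=
        htopH ▸ iSup₂_le fun η hη => hρn γ η (fun h => hγ (h ▸ hη))
      rw [eq_bot_iff]
      intro v hv
      rw [Submodule.mem_bot, ← hρs γ v hv]
      exact h1 Submodule.mem_top
    rw [finsum_eq_sum_of_support_subset _ (s := t) (fun γ hγ => by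
      by_contra h
      exact hγ (by simp [hzero γ h]))]
    have hsum : ∀ u : Finset Γ, Module.finrank κ ↥(⨆ γ ∈ u, H γ) = ∑ γ ∈ u, Module.finrank κ ↥(H γ) := by
      intro u
      induction u using Finset.induction_on with
      | empty => simp
      | insert a u ha ih =>
        rw [Finset.iSup_insert, Finset.sum_insert ha, hind a _ (iSup₂_le fun η hη => hρn a η (fun h => ha (h ▸ hη))), ih]
    rw [← hsum t, htopH, finrank_top]

/-- (1) ⇔ (4): in affine form, let Γ be a non-trivial totally ordered commutative group, R a commutative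
ring, M a finitely generated projective R-module (a finite locally free sheaf on X = Spec R) and F a
non-increasing Γ-indexed family of submodules of M; write F^γ_+ for the sum of the F^η with η > γ
and Gr^γ = F^γ/F^γ_+. Then the following are equivalent: (1) there is a Γ-grading M = ⊕_γ G_γ by
submodules (internal direct sum) with F^γ = Σ_{η ≥ γ} G_η for every γ; (4) every Gr^γ is finitely
generated projective over R and, for every prime p of R, dim_{κ(p)} (κ(p) ⊗ M) = Σ_γ dim_{κ(p)} Gr^γ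
of the image filtration on κ(p) ⊗ M (whose γ-th term F_x^γ is the image of κ(p) ⊗ F^γ; dim Gr^γ is
written as dim F_x^γ − dim F_x^γ_+, and the sum has finitely many non-zero terms). (The source's
conditions (2), (3) are the Zariski- and fpqc-local forms of (1) on a general scheme; its further
assertions on F^γ ⊗ κ(x) are not stated.) -/
theorem result
    {Γ : Type w} [AddCommGroup Γ] [LinearOrder Γ] [IsOrderedAddMonoid Γ] [Nontrivial Γ]
    {R : Type u} [CommRing R] {M : Type v} [AddCommGroup M] [Module R M] [Module.Finite R M] [Module.Projective R M]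
    (F : Γ → Submodule R M) (hF : Antitone F)
    (Fp : Γ → Submodule R M) (hFp : ∀ γ, Fp γ = ⨆ η ∈ Set.Ioi γ, F η) :
    (∃ G : Γ → Submodule R M, DirectSum.IsInternal G ∧ ∀ γ, F γ = ⨆ η ∈ Set.Ici γ, G η) ↔
    ((∀ γ, Module.Finite R (↥(F γ) ⧸ Submodule.comap (F γ).subtype (Fp γ)) ∧
        Module.Projective R (↥(F γ) ⧸ Submodule.comap (F γ).subtype (Fp γ))) ∧
      ∀ (p : PrimeSpectrum R) (Fx : Γ → Submodule p.asIdeal.ResidueField (p.asIdeal.ResidueField ⊗[R] M)),
        (∀ γ, Fx γ = LinearMap.range ((F γ).subtype.baseChange p.asIdeal.ResidueField)) →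
        Module.finrank p.asIdeal.ResidueField (p.asIdeal.ResidueField ⊗[R] M) =
          ∑ᶠ γ, (Module.finrank p.asIdeal.ResidueField ↥(Fx γ) -
            Module.finrank p.asIdeal.ResidueField ↥(⨆ η ∈ Set.Ioi γ, Fx η))) := by
  obtain rfl : Fp = fun γ => ⨆ η ∈ Set.Ioi γ, F η := funext hFp
  constructor
  · rintro ⟨G, hG, hFG⟩
    obtain ⟨h1, h2⟩ := gr_of_splitting F G hG hFG
    refine ⟨h1, fun p Fx hFx => ?_⟩
    obtain rfl : Fx = fun γ => (F γ).baseChange p.asIdeal.ResidueField := funext hFx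
    exact h2 p
  · rintro ⟨h1, h2⟩
    exact exists_splitting_of_gr F hF (fun γ => (h1 γ).2) fun p =>
      h2 p (fun γ => (F γ).baseChange p.asIdeal.ResidueField) fun γ => rfl

end Groth.Agent.S19154
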