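import Groth.Statements.S19155
import Groth.Agent.RootDat.Dominant

set_option autoImplicit false
open RootPairing
open RootD Groth.Agent.RootDat

namespace Groth.Agent.S19155

/-- Let P be a root datum (root pairing over ℤ with finitely many roots, roots in M), S a system of
positive roots, Γ a non-trivial totally ordered commutative group and f : M → Γ additive. Call f
dominant when f(α) ≥ 0 for every positive root α. Then the dominant maps form a fundamental domain
for the Weyl group W acting on Hom(M, Γ) through M: there is w ∈ W with f ∘ w dominant, and if f and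
f ∘ w are both dominant (w ∈ W) then f ∘ w = f. -/
theorem result {ι M N : Type*} [AddCommGroup M] [AddCommGroup N]
    (P : RootPairing ι ℤ M N) [Finite ι] (S : Set ι) (hS : RootD.IsPosSys P S)
    {Γ : Type*} [AddCommGroup Γ] [LinearOrder Γ] [IsOrderedAddMonoid Γ] [Nontrivial Γ] (f : M →+ Γ) :
    (∃ g : P.Aut, g ∈ P.weylGroup ∧ ∀ i ∈ S, 0 ≤ f (RootPairing.Equiv.weightHom P g (P.root i))) ∧
    (∀ g : P.Aut, g ∈ P.weylGroup → (∀ i ∈ S, 0 ≤ f (P.root i)) →
      (∀ i ∈ S, 0 ≤ f (RootPairing.Equiv.weightHom P g (P.root i))) →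
      ∀ m : M, f (RootPairing.Equiv.weightHom P g m) = f m) := by
  classical
  have := finite_weylGroup P
  let := Fintype.ofFinite ι
  obtain ⟨D, ⟨hD, hDS⟩, -⟩ := existsUnique_simple hS
  obtain rfl := (Simple.subset_iff hD hS).mp hDS
  refine ⟨?_, fun g hg h₁ h₂ m => dominant_unique hD f hg h₁ h₂ m⟩
  obtain ⟨h, -, hh⟩ := Simple.exists_fun hD
  obtain ⟨m₀, hm₀⟩ := exists_weight_sign P h
  obtain ⟨⟨g, hg⟩, hmax⟩ := Finite.exists_max fun g : P.weylGroup => f ((g : P.Aut) • m₀)
  refine ⟨g, hg, fun k hk => ?_⟩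
  refine natSpan_nonneg P (S := D) (f.comp (DistribMulAction.toAddMonoidHom M g)) (fun i hi => ?_) hk
  show 0 ≤ f (g • P.root i)
  have := hmax ⟨g * RootPairing.Equiv.reflection P i, mul_mem hg (P.reflection_mem_weylGroup i)⟩
  simp only [mul_smul, reflection_apply', smul_sub, map_sub, sub_le_self_iff, smul_comm g,
    map_zsmul] at this
  have hpos : 0 < P.coroot' i m₀ := (hm₀ i).mpr ((hh i).mp (Simple.pos_of_mem hi))
  by_contra hneg
  have hh := zsmul_pos (neg_pos.mpr (lt_of_not_ge hneg)) hpos
  rw [smul_neg, neg_pos] at hh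
  exact absurd this (not_le_of_gt hh)

end Groth.Agent.S19155
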