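import Groth.Statements.S19156
import Groth.Agent.RootDat.Dominant

set_option autoImplicit false
open RootPairing
open RootD Groth.Agent.RootDat

namespace Groth.Agent.S19156

/-- Let P be a root datum (root pairing over ℤ with finitely many roots indexed by ι), S a system of
positive roots, Γ a non-trivial totally ordered commutative group and f : M → Γ additive. Then f is
dominant (non-negative on the positive roots) if and only if, for every w in the Weyl group, f − f ∘
w is a combination m ↦ Σ_{α ∈ S} ⟨m, α∨⟩ c_α of the positive coroots with coefficients c_α ≥ 0 in Γ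
(f ∘ w is strongly dominated by f); and f is dominant if and only if f(w m) ≤ f(m) for every w ∈ W
and every dominant weight m (weak dominance). -/
theorem result {ι M N : Type*} [AddCommGroup M] [AddCommGroup N]
    (P : RootPairing ι ℤ M N) [Fintype ι] (S : Set ι) (hS : RootD.IsPosSys P S)
    {Γ : Type*} [AddCommGroup Γ] [LinearOrder Γ] [IsOrderedAddMonoid Γ] [Nontrivial Γ] (f : M →+ Γ) :
    ((∀ i ∈ S, 0 ≤ f (P.root i)) ↔
      ∀ g : P.Aut, g ∈ P.weylGroup → ∃ c : ι → Γ, (∀ i, 0 ≤ c i) ∧ (∀ i, i ∉ S → c i = 0) ∧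
        ∀ m : M, f m - f (RootPairing.Equiv.weightHom P g m) = ∑ i, (P.coroot' i m) • c i) ∧
    ((∀ i ∈ S, 0 ≤ f (P.root i)) ↔
      ∀ g : P.Aut, g ∈ P.weylGroup → ∀ m : M, (∀ i ∈ S, 0 ≤ P.coroot' i m) →
        f (RootPairing.Equiv.weightHom P g m) ≤ f m) := by
  classical
  obtain ⟨D, ⟨hD, hDS⟩, -⟩ := existsUnique_simple hS
  obtain rfl := (Simple.subset_iff hD hS).mp hDS
  have first : (∀ i ∈ RootD.posOf P D, 0 ≤ f (P.root i)) → ∀ g : P.Aut, g ∈ P.weylGroup →
      ∃ c : ι → Γ, (∀ i, 0 ≤ c i) ∧ (∀ i, i ∉ RootD.posOf P D → c i = 0) ∧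
        ∀ m : M, f m - f (RootPairing.Equiv.weightHom P g m) = ∑ i, (P.coroot' i m) • c i := by
    intro hf g hg
    obtain ⟨c, hc, hc₀, he⟩ := sub_smul_expansion hD f hf hg
    exact ⟨c, hc, fun i hi => hc₀ i fun e => hi (Simple.pos_of_mem e), he⟩
  have second : (∀ g : P.Aut, g ∈ P.weylGroup → ∀ m : M,
      (∀ i ∈ RootD.posOf P D, 0 ≤ P.coroot' i m) → f (RootPairing.Equiv.weightHom P g m) ≤ f m) →
      ∀ i ∈ RootD.posOf P D, 0 ≤ f (P.root i) := by
    intro h k hk
    refine natSpan_nonneg P (S := D) f (fun i hi => ?_) hk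
    obtain ⟨h₀, -, hh⟩ := Simple.exists_fun hD
    obtain ⟨m₀, hm₀⟩ := exists_weight_sign P h₀
    have hnn : ∀ j ∈ RootD.posOf P D, 0 ≤ P.coroot' j m₀ := fun j hj =>
      ((hm₀ j).mpr ((hh j).mp hj)).le
    have h' := h (RootPairing.Equiv.reflection P i) (P.reflection_mem_weylGroup i) m₀ hnn
    rw [show RootPairing.Equiv.weightHom P (RootPairing.Equiv.reflection P i) m₀ =
      RootPairing.Equiv.reflection P i • m₀ from rfl, reflection_apply', map_sub, sub_le_self_iff,
      map_zsmul] at h'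
    have hpos : 0 < P.coroot' i m₀ := (hm₀ i).mpr ((hh i).mp (Simple.pos_of_mem hi))
    by_contra hneg
    have hh := zsmul_pos (neg_pos.mpr (lt_of_not_ge hneg)) hpos
    rw [smul_neg, neg_pos] at hh
    exact absurd h' (not_le_of_gt hh)
  refine ⟨⟨first, fun h => second fun g hg m hm => ?_⟩,
    ⟨fun hf g hg m hm => smul_le_of_dominant hD f hf hg m hm, second⟩⟩
  obtain ⟨c, hc, hc₀, he⟩ := h g hg
  rw [← sub_nonneg, he m]
  refine Finset.sum_nonneg fun i _ => ?_
  by_cases hi : i ∈ RootD.posOf P D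
  · exact zsmul_nonneg (hc i) (hm i hi)
  · simp [hc₀ i hi]

end Groth.Agent.S19156
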