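import Groth.Statements.S19157
import Mathlib

set_option linter.all false

set_option autoImplicit false
open scoped TensorProduct
universe u v w
open FiltMod


namespace Groth.Agent.S19157

section
variable {Γ : Type w} [AddCommGroup Γ] [LinearOrder Γ] [IsOrderedAddMonoid Γ]
    {R : Type u} [CommRing R] {M : Type v} [AddCommGroup M] [Module R M]

/-- Projections of a splitting of a filtration, with finite support. -/
theorem exists_proj [Module.Finite R M] {F : Γ → Submodule R M}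
    (h : ∃ G : Γ → Submodule R M, DirectSum.IsInternal G ∧ ∀ γ, F γ = ⨆ η ∈ Set.Ici γ, G η) :
    ∃ (e : Γ → M →ₗ[R] M) (s : Finset Γ), (∀ y, y = ∑ η ∈ s, e η y) ∧ (∀ η y, e η y ∈ F η) ∧
      (∀ γ, ∀ y ∈ F γ, ∀ η, η < γ → e η y = 0) ∧ ∀ γ y, (∀ η ∈ s, η < γ → e η y = 0) → y ∈ F γ := by
  classical
  obtain ⟨G, hG, hGF⟩ := h
  letI := hG.chooseDecomposition
  let e : Γ → (M →ₗ[R] M) := fun η =>
    (G η).subtype ∘ₗ DirectSum.component R Γ (fun i => G i) η ∘ₗ (DirectSum.decomposeLinearEquiv G).toLinearMap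
  have he : ∀ η y, e η y = (DirectSum.decompose G y η : M) := fun η y => rfl
  obtain ⟨t, ht⟩ := (Module.Finite.fg_top : (⊤ : Submodule R M).FG)
  let s : Finset Γ := t.biUnion fun y => (DirectSum.decompose G y).support
  have hs : ∀ y ν, ν ∉ s → e ν y = 0 := by
    intro y ν hν
    have : Submodule.span R (t : Set M) ≤ LinearMap.ker (e ν) := Submodule.span_le.2 fun z hz => by
      rw [SetLike.mem_coe, LinearMap.mem_ker, he]
      by_contra hne
      exact hν (Finset.mem_biUnion.2 ⟨z, hz, DFinsupp.mem_support_iff.2 fun h0 => hne (by rw [h0]; rfl)⟩)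
    exact this (by rw [ht]; trivial)
  have hsum : ∀ y, y = ∑ η ∈ s, e η y := by
    intro y
    conv_lhs => rw [← DirectSum.sum_support_decompose G y]
    refine Finset.sum_subset (fun η hη => ?_) (fun η _ hη => ?_)
    · by_contra hη'
      exact DFinsupp.mem_support_iff.1 hη (Subtype.ext (hs y η hη'))
    · rw [DFinsupp.notMem_support_iff.1 hη]; rfl
  have hGle : ∀ η γ, γ ≤ η → G η ≤ F γ := fun η γ hle => by
    rw [hGF]; exact le_iSup₂ (f := fun ν (_ : ν ∈ Set.Ici γ) => G ν) η hle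
  refine ⟨e, s, hsum, fun η y => hGle η η le_rfl (by rw [he]; exact Submodule.coe_mem _), fun γ y hy η hη => ?_,
    fun γ y hy => ?_⟩
  · have : (⨆ ν ∈ Set.Ici γ, G ν) ≤ LinearMap.ker (e η) := iSup₂_le fun ν hν z hz => by
      rw [LinearMap.mem_ker, he, DirectSum.decompose_of_mem_ne G hz (ne_of_gt (lt_of_lt_of_le hη hν))]
    rw [hGF] at hy
    exact this hy
  · rw [hsum y]
    refine Submodule.sum_mem _ fun η hη => ?_
    rcases lt_or_ge η γ with h | h
    · rw [hy η hη h]; exact Submodule.zero_mem _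
    · exact hGle η γ h (by rw [he]; exact Submodule.coe_mem _)

/-- A product of functionals killing the filtered pieces. -/
theorem prod_eq_zero_of_mem {k : ℕ} (F₁ F₂ : Γ → Submodule R M) (e : Γ → M →ₗ[R] M)
    (he : ∀ γ, ∀ y ∈ F₂ γ, ∀ η, η < γ → e η y = 0)
    (h : ∀ γ : Γ,
      (⨆ c : {c : Fin k → Γ // ∑ i, c i = γ}, LinearMap.range (PiTensorProduct.map (R := R) (fun i => (F₁ (c.1 i)).subtype))) ≤
      (⨆ c : {c : Fin k → Γ // ∑ i, c i = γ}, LinearMap.range (PiTensorProduct.map (R := R) (fun i => (F₂ (c.1 i)).subtype))))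
    (c ν : Fin k → Γ) (hlt : ∑ i, ν i < ∑ i, c i) (y : Fin k → M) (hy : ∀ i, y i ∈ F₁ (c i))
    (φ : Fin k → Module.Dual R M) : ∏ i, φ i (e (ν i) (y i)) = 0 := by
  classical
  let L : PiTensorProduct R (fun _ : Fin k => M) →ₗ[R] R :=
    PiTensorProduct.lift ((MultilinearMap.mkPiAlgebra R (Fin k) R).compLinearMap fun i => φ i ∘ₗ e (ν i))
  have hmem : PiTensorProduct.tprod R y ∈
      ⨆ c' : {c' : Fin k → Γ // ∑ i, c' i = ∑ i, c i}, LinearMap.range (PiTensorProduct.map (R := R) (fun i => (F₂ (c'.1 i)).subtype)) := by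
    refine h _ (Submodule.mem_iSup_of_mem ⟨c, rfl⟩ ⟨PiTensorProduct.tprod R fun i => ⟨y i, hy i⟩, ?_⟩)
    simp [PiTensorProduct.map_tprod]
  have hker : (⨆ c' : {c' : Fin k → Γ // ∑ i, c' i = ∑ i, c i},
      LinearMap.range (PiTensorProduct.map (R := R) (fun i => (F₂ (c'.1 i)).subtype))) ≤ LinearMap.ker L := by
    refine iSup_le fun c' => ?_
    rw [LinearMap.range_le_ker_iff]
    refine PiTensorProduct.ext (MultilinearMap.ext fun z => ?_)
    simp only [LinearMap.compMultilinearMap_apply, LinearMap.comp_apply, PiTensorProduct.map_tprod, L, PiTensorProduct.lift.tprod,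
      MultilinearMap.compLinearMap_apply, MultilinearMap.mkPiAlgebra_apply, LinearMap.zero_apply]
    have hlt' : ∑ i, ν i < ∑ i, c'.1 i := c'.2.symm ▸ hlt
    obtain ⟨i, -, hi⟩ := Finset.exists_lt_of_sum_lt hlt'
    exact Finset.prod_eq_zero (Finset.mem_univ i) (by rw [Submodule.subtype_apply, he _ _ (z i).2 _ hi, map_zero])
  simpa [L] using hker hmem

theorem le_of_tensor_le [Module.Finite R M] [Module.Projective R M] (F₁ F₂ : Γ → Submodule R M)
    (h₁ : ∃ G : Γ → Submodule R M, DirectSum.IsInternal G ∧ ∀ γ, F₁ γ = ⨆ η ∈ Set.Ici γ, G η)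
    (h₂ : ∃ G : Γ → Submodule R M, DirectSum.IsInternal G ∧ ∀ γ, F₂ γ = ⨆ η ∈ Set.Ici γ, G η)
    (j : ℕ)
    (h : ∀ γ : Γ,
      (⨆ c : {c : Fin (j + 1) → Γ // ∑ i, c i = γ}, LinearMap.range (PiTensorProduct.map (R := R) (fun i => (F₁ (c.1 i)).subtype))) =
      (⨆ c : {c : Fin (j + 1) → Γ // ∑ i, c i = γ}, LinearMap.range (PiTensorProduct.map (R := R) (fun i => (F₂ (c.1 i)).subtype)))) :
    ∀ γ, F₁ γ ≤ F₂ γ := by
  classical
  obtain ⟨e₁, s₁, hsum₁, heF₁, hlow₁, -⟩ := exists_proj h₁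
  obtain ⟨e₂, s₂, hsum₂, heF₂, hlow₂, hmem₂⟩ := exists_proj h₂
  obtain ⟨n, π, hπ⟩ := Module.Finite.exists_fin' R M
  obtain ⟨σ, hσ⟩ := Module.projective_lifting_property π LinearMap.id hπ
  let φd : Fin n → Module.Dual R M := fun i => LinearMap.proj i ∘ₗ σ
  have hdual : ∀ w : M, w = ∑ i, φd i w • π (Pi.single i 1) := fun w => by
    conv_lhs => rw [show w = π (σ w) from (LinearMap.congr_fun hσ w).symm, pi_eq_sum_univ' (σ w), map_sum]
    exact Finset.sum_congr rfl fun i _ => by rw [map_smul]; rfl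
  intro γ x hx
  refine hmem₂ γ x fun η _ hη => ?_
  set z := e₂ η x with hz
  suffices hann : (Submodule.span R {z}).annihilator = ⊤ by
    have : (1 : R) ∈ (Submodule.span R {z}).annihilator := by rw [hann]; trivial
    simpa [Submodule.mem_annihilator_span_singleton] using this
  by_contra hne
  obtain ⟨P, hP, hle⟩ := Ideal.exists_le_maximal _ hne
  have hPz : ∀ r : R, r • z = 0 → r ∈ P := fun r hr => hle ((Submodule.mem_annihilator_span_singleton z r).2 hr)
  let Small : M → Prop := fun w => ∀ φ : Module.Dual R M, φ w ∈ P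
  have hsm_sum : ∀ (t : Finset Γ) (f : Γ → M), (∀ a ∈ t, Small (f a)) → Small (∑ a ∈ t, f a) := fun t f hf φ => by
    rw [map_sum]; exact Submodule.sum_mem _ fun a ha => hf a ha φ
  have hfield : ∀ c, ∀ y ∈ F₂ c, ∀ ν, ν < c → Small (e₁ ν y) := fun c y hy ν hν φ => by
    refine hP.isPrime.mem_of_pow_mem (j + 1) ?_
    have := prod_eq_zero_of_mem F₂ F₁ e₁ hlow₁ (fun δ => (h δ).ge) (fun _ => c) (fun _ => ν)
      (by simp only [Finset.sum_const]; exact nsmul_lt_nsmul_right (by simp) hν) (fun _ => y) (fun _ => hy) (fun _ => φ)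
    rw [Finset.prod_const, Finset.card_univ, Fintype.card_fin] at this
    rw [this]; exact Submodule.zero_mem _
  by_cases hT : (s₁.filter fun μ => ∃ y ∈ F₁ μ, ¬ Small y).Nonempty
  swap
  · have hsmall : ∀ w, Small w := fun w => by
      rw [hsum₁ w]
      refine hsm_sum _ _ fun μ hμ => ?_
      by_contra hns
      exact hT ⟨μ, Finset.mem_filter.2 ⟨hμ, _, heF₁ μ w, hns⟩⟩
    have hPM : (⊤ : Submodule R M) ≤ P • ⊤ := fun w _ => by
      rw [hdual w]; exact Submodule.sum_mem _ fun i _ => Submodule.smul_mem_smul (hsmall w _) trivial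
    obtain ⟨r, hr, hr0⟩ := Submodule.exists_sub_one_mem_and_smul_eq_zero_of_fg_of_le_smul P ⊤ Module.Finite.fg_top hPM
    have h1 : r ∈ P := hPz r (hr0 z trivial)
    exact hP.ne_top ((Ideal.eq_top_iff_one P).2 (by simpa using P.sub_mem h1 hr))
  obtain ⟨hμs, y, hy, hns⟩ := Finset.mem_filter.1 (Finset.max'_mem _ hT)
  set μ := (s₁.filter fun μ => ∃ y ∈ F₁ μ, ¬ Small y).max' hT
  have hbig : ∀ ν ∈ s₁, μ < ν → ∀ w ∈ F₁ ν, Small w := fun ν hν hlt w hw => by
    by_contra h'
    exact hlt.not_ge (Finset.le_max' _ _ (Finset.mem_filter.2 ⟨hν, w, hw, h'⟩))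
  by_cases hex : ∃ ν ≤ μ, ¬ Small (e₂ ν y)
  swap
  · push Not at hex
    refine hns ?_
    rw [hsum₂ y]
    refine hsm_sum _ _ fun ν _ => ?_
    rcases le_or_gt ν μ with hνμ | hνμ
    · exact hex ν hνμ
    rw [hsum₁ (e₂ ν y)]
    refine hsm_sum _ _ fun α hα => ?_
    rcases lt_or_ge α ν with hαν | hαν
    · exact hfield ν _ (heF₂ ν y) α hαν
    · exact hbig α hα (hνμ.trans_le hαν) _ (heF₁ α _)
  obtain ⟨ν, hνμ, hν⟩ := hex
  simp only [Small, not_forall] at hν
  obtain ⟨ψ, hψ⟩ := hν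
  refine hψ (hP.isPrime.mem_of_pow_mem j (hPz _ ?_))
  rw [hdual z, Finset.smul_sum]
  refine Finset.sum_eq_zero fun i _ => ?_
  rw [smul_smul]
  have := prod_eq_zero_of_mem F₁ F₂ e₂ hlow₂ (fun δ => (h δ).le) (Fin.cons γ fun _ : Fin j => μ) (Fin.cons η fun _ : Fin j => ν)
    (by simp only [Fin.sum_cons, Finset.sum_const]; exact add_lt_add_of_lt_of_le hη (nsmul_le_nsmul_right hνμ _))
    (Fin.cons x fun _ : Fin j => y) (fun i => by induction i using Fin.cases <;> simp [hx, hy]) (Fin.cons (φd i) fun _ : Fin j => ψ)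
  simp only [Fin.prod_univ_succ, Fin.cons_zero, Fin.cons_succ, Finset.prod_const, Finset.card_univ, Fintype.card_fin] at this
  rw [mul_comm, this, zero_smul]
end

/-- In affine form, let Γ be a non-trivial totally ordered commutative group, R a commutative ring, M a
finitely generated projective R-module, k ≥ 1, and F₁, F₂ two Γ-filtrations of M each admitting a
splitting (a grading M = ⊕_γ G_γ by submodules with F^γ = Σ_{η ≥ γ} G_η). If the filtrations they
induce on the k-th tensor power M^{⊗k} coincide, i.e. for every γ the sum over γ₁ + ⋯ + γ_k = γ of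
the images of F₁^{γ₁} ⊗ ⋯ ⊗ F₁^{γ_k} in M^{⊗k} equals the corresponding sum for F₂, then F₁ = F₂.
(The source states this for Γ-filtrations of a finite locally free sheaf on a scheme, which split
Zariski-locally; this is the affine split case to which it reduces.) -/
theorem result
    {Γ : Type w} [AddCommGroup Γ] [LinearOrder Γ] [IsOrderedAddMonoid Γ] [Nontrivial Γ]
    {R : Type u} [CommRing R] {M : Type v} [AddCommGroup M] [Module R M] [Module.Finite R M] [Module.Projective R M]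
    (F₁ F₂ : Γ → Submodule R M)
    (h₁ : ∃ G : Γ → Submodule R M, DirectSum.IsInternal G ∧ ∀ γ, F₁ γ = ⨆ η ∈ Set.Ici γ, G η)
    (h₂ : ∃ G : Γ → Submodule R M, DirectSum.IsInternal G ∧ ∀ γ, F₂ γ = ⨆ η ∈ Set.Ici γ, G η)
    (k : ℕ) (hk : 1 ≤ k)
    (h : ∀ γ : Γ,
      (⨆ c : {c : Fin k → Γ // ∑ i, c i = γ}, LinearMap.range (PiTensorProduct.map (R := R) (fun i => (F₁ (c.1 i)).subtype))) =
      (⨆ c : {c : Fin k → Γ // ∑ i, c i = γ}, LinearMap.range (PiTensorProduct.map (R := R) (fun i => (F₂ (c.1 i)).subtype)))) :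
    F₁ = F₂ := by
  obtain ⟨j, rfl⟩ : ∃ j, k = j + 1 := ⟨k - 1, by omega⟩
  exact funext fun γ => le_antisymm (le_of_tensor_le F₁ F₂ h₁ h₂ j h γ) (le_of_tensor_le F₂ F₁ h₂ h₁ j (fun δ => (h δ).symm) γ)

end Groth.Agent.S19157
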