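import Groth.Statements.S19158
import Mathlib

set_option linter.all false

set_option autoImplicit false
universe u v w
open FiltMod


namespace Groth.Agent.S19158

/-- In affine form, let Γ be a non-trivial totally ordered commutative group, R a commutative ring and
(M_a) a finite family of finitely generated projective R-modules, each carrying a non-increasing
Γ-indexed family of submodules F_a; give M = Π_a M_a the family F^γ = Π_a F_a^γ. Then F is split by
a Γ-grading of M (an internal direct sum decomposition M = ⊕_γ G_γ with F^γ = Σ_{η ≥ γ} G_η for all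
γ) if and only if each F_a is split by a Γ-grading of M_a. (The published statement is for finite
locally free sheaves on a scheme, where a filtration counts as split when it is split by a grading
locally on the scheme; this row is the affine case, in which that is the same as being split by one
global grading.) -/
theorem result
    {Γ : Type w} [AddCommGroup Γ] [LinearOrder Γ] [IsOrderedAddMonoid Γ] [Nontrivial Γ]
    {R : Type u} [CommRing R] {A : Type v} [Fintype A] (M : A → Type v) [∀ a, AddCommGroup (M a)] [∀ a, Module R (M a)]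
    [∀ a, Module.Finite R (M a)] [∀ a, Module.Projective R (M a)]
    (F : ∀ a, Γ → Submodule R (M a)) (hF : ∀ a, Antitone (F a)) :
    (∃ G : Γ → Submodule R (∀ a, M a), DirectSum.IsInternal G ∧
        ∀ γ, Submodule.pi Set.univ (fun a => F a γ) = ⨆ η ∈ Set.Ici γ, G η) ↔
    ∀ a, ∃ G : Γ → Submodule R (M a), DirectSum.IsInternal G ∧ ∀ γ, F a γ = ⨆ η ∈ Set.Ici γ, G η := by
  classical
  have hsingle : ∀ (a : A) (P : ∀ b, Submodule R (M b)) (x : M a), x ∈ P a → Pi.single a x ∈ Submodule.pi Set.univ P := by
    intro a P x hx b _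
    rcases eq_or_ne b a with rfl | h
    · simpa using hx
    · simp [Pi.single_eq_of_ne h]
  constructor
  · rintro ⟨G, hG, hGF⟩ a
    letI := hG.chooseDecomposition
    let e : Γ → ((∀ b, M b) →ₗ[R] (∀ b, M b)) := fun η =>
      (G η).subtype ∘ₗ DirectSum.component R Γ (fun i => G i) η ∘ₗ (DirectSum.decomposeLinearEquiv G).toLinearMap
    have he : ∀ η y, e η y = (DirectSum.decompose G y η : ∀ b, M b) := fun η y => rfl
    have heG : ∀ η y, e η y ∈ G η := fun η y => by rw [he]; exact Submodule.coe_mem _
    have hsupp : ∀ γ, ∀ y ∈ ⨆ η ∈ Set.Ici γ, G η, ∀ ν, ν < γ → e ν y = 0 := by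
      intro γ y hy ν hν
      have : (⨆ η ∈ Set.Ici γ, G η) ≤ LinearMap.ker (e ν) := iSup₂_le fun η hη z hz => by
        rw [LinearMap.mem_ker, he, DirectSum.decompose_of_mem_ne G hz (ne_of_gt (lt_of_lt_of_le hν hη))]
      exact this hy
    obtain ⟨t, ht⟩ := (Module.Finite.fg_top : (⊤ : Submodule R (∀ b, M b)).FG)
    let s : Finset Γ := t.biUnion fun y => (DirectSum.decompose G y).support
    have hs : ∀ y ν, ν ∉ s → e ν y = 0 := by
      intro y ν hν
      have : Submodule.span R (t : Set (∀ b, M b)) ≤ LinearMap.ker (e ν) := Submodule.span_le.2 fun z hz => by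
        rw [SetLike.mem_coe, LinearMap.mem_ker, he]
        by_contra hne
        refine hν (Finset.mem_biUnion.2 ⟨z, hz, DFinsupp.mem_support_iff.2 fun h0 => hne (by rw [h0]; rfl)⟩)
      exact this (by rw [ht]; trivial)
    have hsum : ∀ y, y = ∑ η ∈ s, e η y := by
      intro y
      conv_lhs => rw [← DirectSum.sum_support_decompose G y]
      refine Finset.sum_subset (fun η hη => ?_) (fun η _ hη => ?_)
      · by_contra hη'
        exact DFinsupp.mem_support_iff.1 hη (Subtype.ext (hs y η hη'))
      · rw [DFinsupp.notMem_support_iff.1 hη]; rfl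
    let ι : M a →ₗ[R] (∀ b, M b) := LinearMap.single R M a
    let π : (∀ b, M b) →ₗ[R] M a := LinearMap.proj a
    have hπι : ∀ x, π (ι x) = x := fun x => by simp [π, ι]
    have hι : ∀ γ, ∀ x ∈ F a γ, ι x ∈ ⨆ η ∈ Set.Ici γ, G η := fun γ x hx => by
      rw [← hGF]; exact hsingle a (fun b => F b γ) x hx
    have hπ : ∀ η, ∀ y ∈ G η, π y ∈ F a η := fun η y hy => by
      have : y ∈ Submodule.pi Set.univ (fun b => F b η) := by
        rw [hGF]; exact Submodule.mem_iSup_of_mem η (Submodule.mem_iSup_of_mem (Set.self_mem_Ici) hy)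
      exact this a trivial
    let C : Γ → Submodule R (M a) := fun η => (F a η).map (π ∘ₗ e η ∘ₗ ι)
    have hCF : ∀ η, C η ≤ F a η := fun η => Submodule.map_le_iff_le_comap.2 fun x _ => hπ η _ (heG η _)
    have key : ∀ γ, F a γ ≤ ⨆ η ∈ Set.Ici γ, C η := by
      intro γ
      suffices H : ∀ (n : ℕ) (γ : Γ), (s.filter (γ ≤ ·)).card ≤ n → F a γ ≤ ⨆ η ∈ Set.Ici γ, C η from H _ γ le_rfl
      intro n
      induction n with
      | zero =>
        intro γ hn x hx
        have hempty : ∀ η ∈ s, ¬ γ ≤ η := fun η hη hle =>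
          absurd hn (by rw [Nat.le_zero, Finset.card_eq_zero]; exact Finset.ne_empty_of_mem (Finset.mem_filter.2 ⟨hη, hle⟩))
        rw [← hπι x, hsum (ι x), map_sum]
        exact Submodule.sum_mem _ fun η hη => by simp [hsupp γ _ (hι γ x hx) η (not_le.1 (hempty η hη))]
      | succ n ih =>
        intro γ hn x hx
        by_cases hne : (s.filter (γ ≤ ·)).Nonempty
        swap
        · rw [← hπι x, hsum (ι x), map_sum]
          exact Submodule.sum_mem _ fun η hη => by
            simp [hsupp γ _ (hι γ x hx) η (not_le.1 fun h => hne ⟨η, Finset.mem_filter.2 ⟨hη, h⟩⟩)]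
        let η0 := (s.filter (γ ≤ ·)).min' hne
        have hη0 : η0 ∈ s.filter (γ ≤ ·) := Finset.min'_mem _ hne
        have hγ0 : γ ≤ η0 := (Finset.mem_filter.1 hη0).2
        have hmin : ∀ η ∈ s, γ ≤ η → η0 ≤ η := fun η hη h => Finset.min'_le _ _ (Finset.mem_filter.2 ⟨hη, h⟩)
        have hx0 : x ∈ F a η0 := by
          rw [← hπι x, hsum (ι x), map_sum]
          refine Submodule.sum_mem _ fun η hη => ?_
          by_cases h : γ ≤ η
          · exact hF a (hmin η hη h) (hπ η _ (heG η _))
          · simp [hsupp γ _ (hι γ x hx) η (not_le.1 h)]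
        rw [← hπι x, hsum (ι x), map_sum]
        refine Submodule.sum_mem _ fun η hη => ?_
        rcases lt_trichotomy η η0 with h | h | h
        · have : η < γ := not_le.1 fun h' => (hmin η hη h').not_gt h
          simp [hsupp γ _ (hι γ x hx) η this]
        · rw [h]; exact Submodule.mem_iSup_of_mem η0 (Submodule.mem_iSup_of_mem hγ0 ⟨x, hx0, rfl⟩)
        · have hγη : γ ≤ η := hγ0.trans h.le
          refine (show (⨆ ν ∈ Set.Ici η, C ν) ≤ ⨆ ν ∈ Set.Ici γ, C ν from iSup₂_le fun ν (hν : η ≤ ν) => ?_) (ih η ?_ (hπ η _ (heG η _)))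
          · exact le_iSup₂ (f := fun ν _ => C ν) ν (Set.mem_Ici.2 (hγη.trans hν))
          · have : (s.filter (η ≤ ·)) ⊂ s.filter (γ ≤ ·) := Finset.ssubset_iff_of_subset
              (fun ν hν => Finset.mem_filter.2 ⟨(Finset.mem_filter.1 hν).1, hγη.trans (Finset.mem_filter.1 hν).2⟩) |>.2
              ⟨η0, hη0, fun hh => (Finset.mem_filter.1 hh).2.not_gt h⟩
            exact Nat.le_of_lt_succ ((Finset.card_lt_card this).trans_le hn)
    refine ⟨C, (DirectSum.isInternal_submodule_iff_iSupIndep_and_iSup_eq_top _).2 ⟨?_, ?_⟩,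
      fun γ => le_antisymm (key γ) (iSup₂_le fun η hη => (hCF η).trans (hF a hη))⟩
    · rw [iSupIndep_iff_finsetSum_eq_zero_imp_eq_zero]
      intro T c hc
      induction T using Finset.induction_on_min with
      | empty => simp
      | insert η0 T hlt ih =>
        intro h0
        have hnm : η0 ∉ T := fun h => lt_irrefl _ (hlt _ h)
        rw [Finset.sum_insert hnm] at h0
        obtain ⟨x, hx, hxc⟩ := hc η0 (Finset.mem_insert_self _ _)
        simp only [LinearMap.comp_apply] at hxc
        have hy : ∀ η, η0 < η → ∀ y ∈ F a η, e η0 (ι y) = 0 := fun η hη y hy => hsupp η _ (hι η y hy) η0 hη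
        have e1 : e η0 (ι (c η0)) = 0 := by
          rw [eq_neg_of_add_eq_zero_left h0, map_neg, map_neg, map_sum, map_sum, neg_eq_zero]
          exact Finset.sum_eq_zero fun η hη => hy η (hlt _ hη) _ (hCF η (hc η (Finset.mem_insert_of_mem hη)))
        have e2 : e η0 (ι x) = e η0 (ι (c η0)) := by
          rw [← hxc]
          conv_lhs => rw [← hπι x, hsum (ι x), map_sum, map_sum, map_sum]
          refine Finset.sum_eq_single η0 (fun η _ hne => ?_) (fun h => by simp [hs (ι x) η0 h])
          rcases lt_or_gt_of_ne hne with hlt' | hgt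
          · simp [hsupp η0 _ (hι η0 x hx) η hlt']
          · exact hy η hgt _ (hπ η _ (heG η _))
        have hc0 : c η0 = 0 := by rw [← hxc, e2, e1, map_zero]
        rw [hc0, zero_add] at h0
        intro η hη
        rcases Finset.mem_insert.1 hη with rfl | hη
        · exact hc0
        · exact ih (fun η hη => hc η (Finset.mem_insert_of_mem hη)) h0 η hη
    · refine eq_top_iff.2 fun x _ => ?_
      by_cases hne : s.Nonempty
      · have hx : x ∈ F a (s.min' hne) := by
          rw [← hπι x, hsum (ι x), map_sum]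
          exact Submodule.sum_mem _ fun η hη => hF a (Finset.min'_le _ _ hη) (hπ η _ (heG η _))
        have hle : F a (s.min' hne) ≤ ⨆ η, C η := (key _).trans (iSup₂_le fun η _ => le_iSup C η)
        exact hle hx
      · rw [← hπι x, hsum (ι x), Finset.not_nonempty_iff_eq_empty.1 hne]; simp
  · intro h
    choose G hG hGF using h
    refine ⟨fun η => Submodule.pi Set.univ fun a => G a η, (DirectSum.isInternal_submodule_iff_iSupIndep_and_iSup_eq_top _).2 ⟨?_, ?_⟩, fun γ => ?_⟩
    · rw [iSupIndep_def]
      intro η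
      rw [Submodule.disjoint_def]
      intro x hx hx'
      funext a
      refine Submodule.disjoint_def.1 ((hG a).submodule_iSupIndep η) (x a) (hx a trivial) ?_
      have : (⨆ (ν : Γ) (_ : ν ≠ η), Submodule.pi Set.univ fun b => G b ν) ≤ (⨆ (ν : Γ) (_ : ν ≠ η), G a ν).comap (LinearMap.proj a) :=
        iSup₂_le fun ν hν y hy => Submodule.mem_iSup_of_mem ν (Submodule.mem_iSup_of_mem hν (hy a trivial))
      exact this hx'
    · refine eq_top_iff.2 fun x _ => ?_
      rw [← Finset.univ_sum_single x]
      refine Submodule.sum_mem _ fun a _ => ?_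
      have : ⊤ ≤ (⨆ η, Submodule.pi Set.univ fun b => G b η).comap (LinearMap.single R M a) := by
        rw [← (hG a).submodule_iSup_eq_top]
        exact iSup_le fun η y hy => Submodule.mem_iSup_of_mem η (hsingle a (fun b => G b η) y hy)
      exact this trivial
    · refine le_antisymm (fun x hx => ?_) (iSup₂_le fun η hη y hy a _ => ?_)
      · rw [← Finset.univ_sum_single x]
        refine Submodule.sum_mem _ fun a _ => ?_
        have : F a γ ≤ (⨆ η ∈ Set.Ici γ, Submodule.pi Set.univ fun b => G b η).comap (LinearMap.single R M a) := by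
          rw [hGF a γ]
          exact iSup₂_le fun η hη y hy => Submodule.mem_iSup_of_mem η (Submodule.mem_iSup_of_mem hη (hsingle a (fun b => G b η) y hy))
        exact this (hx a trivial)
      · show y a ∈ F a γ
        rw [hGF a γ]; exact Submodule.mem_iSup_of_mem η (Submodule.mem_iSup_of_mem hη (hy a trivial))

end Groth.Agent.S19158
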