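import Groth.Statements.S19163
import Groth.Agent.SGA3cLib.MTTransporterSub
import Groth.Agent.Cochar26.FibreChar

set_option autoImplicit false
set_option linter.style.haveILetI false
set_option backward.isDefEq.respectTransparency.types false
open CategoryTheory MonoidalCategory CartesianMonoidalCategory MonObj GrpObj AlgebraicGeometry
universe u
open SGA3x

namespace Groth.Agent.S19163

/-- Let Γ be a non-trivial totally ordered commutative group and H ⟶ G a closed immersion of reductive
S-groups (a homomorphism which is a closed immersion). Let A_H with υ_H, resp. A_G with υ_G,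
represent the functor of group homomorphisms D_S(Γ) ⟶ H, resp. D_S(Γ) ⟶ G, and let φ : A_H ⟶ A_G be
the S-morphism induced by composing with H ⟶ G (the universal family over A_H followed by H ⟶ G is
the pull-back of υ_G along φ). Then φ is a closed immersion, locally of finite presentation. -/
theorem result {S : Scheme.{u}}
    (Γ : Type) [AddCommGroup Γ] [LinearOrder Γ] [IsOrderedAddMonoid Γ] [Nontrivial Γ]
    (H G : Over S) [GrpObj H] [GrpObj G] (hH : Red.IsReductive H) (hG : Red.IsReductive G)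
    (k : H ⟶ G) [IsMonHom k] (hk : IsClosedImmersion k.left)
    (AH : Over S) (υH : Red.DS S Γ ⊗ AH ⟶ H) (hAH : AutFam.RepresentsHom (Red.DS S Γ) H AH υH)
    (AG : Over S) (υG : Red.DS S Γ ⊗ AG ⟶ G) (hAG : AutFam.RepresentsHom (Red.DS S Γ) G AG υG)
    (φ : AH ⟶ AG) (hφ : (Red.DS S Γ ◁ φ) ≫ υG = υH ≫ k) :
    IsClosedImmersion φ.left ∧ LocallyOfFinitePresentation φ.left := by
  obtain ⟨haff, hsm, -⟩ := hG
  obtain ⟨-, hsmH, -⟩ := hH
  haveI := hsm
  haveI := hsmH
  haveI := hk
  haveI : Mono k := (Over.forget S).mono_of_mono_map (inferInstanceAs (Mono k.left))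
  haveI : LocallyOfFinitePresentation k.left := by
    haveI : LocallyOfFinitePresentation (k.left ≫ G.hom) := by rw [Over.w k]; infer_instance
    exact EGA43.Limit.locallyOfFinitePresentation_of_comp k.left G.hom
  obtain ⟨T, t, ht, htfp, hT⟩ := SGA3cLib.MTTransporterSub.exists_closed_into (H := Red.DS S Γ)
    (Cochar26.locallyFpqc_DS S Γ) υG k
  haveI := ht
  haveI : Mono t := (Over.forget S).mono_of_mono_map (inferInstanceAs (Mono t.left))
  -- φ factors through T
  obtain ⟨z, hz⟩ : ∃ z : AH ⟶ T, z ≫ t = φ := (hT AH φ).2 fun S'' s x => ⟨lift x s ≫ υH, by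
    rw [Category.assoc, ← hφ, ← Category.assoc, CartesianMonoidalCategory.lift_whiskerLeft]⟩
  -- the family over T has values in H
  obtain ⟨ψ, hψ⟩ := (hT T t).1 ⟨𝟙 T, Category.id_comp t⟩ (Red.DS S Γ ⊗ T) (snd _ _) (fst _ _)
  have hψ' : ψ ≫ k = (Red.DS S Γ ◁ t) ≫ υG := by
    rw [← hψ]
    congr 1
  have hfam : AutFam.IsHomFamily (Red.DS S Γ) H ψ := fun X g₁ g₂ x => by
    rw [← cancel_mono k, MonObj.mul_comp, Category.assoc, Category.assoc, Category.assoc, hψ',
      CartesianMonoidalCategory.lift_whiskerLeft_assoc, CartesianMonoidalCategory.lift_whiskerLeft_assoc,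
      CartesianMonoidalCategory.lift_whiskerLeft_assoc]
    exact hAG.1 X g₁ g₂ (x ≫ t)
  obtain ⟨w, hw, -⟩ := hAH.2 T ψ hfam
  have hwφ : w ≫ φ = t := by
    have hu : AutFam.IsHomFamily (Red.DS S Γ) G ((Red.DS S Γ ◁ t) ≫ υG) := fun X g₁ g₂ x => by
      simp only [CartesianMonoidalCategory.lift_whiskerLeft_assoc]
      exact hAG.1 X g₁ g₂ (x ≫ t)
    refine (hAG.2 T _ hu).unique ?_ rfl
    rw [MonoidalCategory.whiskerLeft_comp, Category.assoc, hφ, ← Category.assoc, hw, hψ']
  have hzw : z ≫ w = 𝟙 AH := by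
    refine (hAH.2 AH υH hAH.1).unique ?_ (by rw [MonoidalCategory.whiskerLeft_id, Category.id_comp])
    rw [← cancel_mono k, Category.assoc, ← hφ, ← MonoidalCategory.whiskerLeft_comp_assoc, Category.assoc, hwφ, hz]
  let e : AH ≅ T := ⟨z, w, hzw, by rw [← cancel_mono t, Category.assoc, hz, hwφ, Category.id_comp]⟩
  haveI : IsIso z := e.isIso_hom
  haveI : IsIso z.left := inferInstanceAs (IsIso ((Over.forget _).map z))
  rw [← hz, Over.comp_left]
  haveI := htfp
  exact ⟨inferInstance, inferInstance⟩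

end Groth.Agent.S19163
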