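import Groth.Statements.S19172
import Groth.Agent.ProComplLib.FICompl

set_option autoImplicit false
universe u v w
open ProCompl

namespace Groth.Agent.S19172

open W4c61motalbduality in
/-- Let i : A → B and p : B → C be continuous homomorphisms of topological abelian groups with p
surjective and open and with the kernel of p equal to the image of i. Then the induced sequence of
completions with respect to open subgroups of finite index, A^∧ → B^∧ → C^∧ → 0, is exact: the map
B^∧ → C^∧ is surjective and its kernel is the image of A^∧. The completion is the group of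
compatible families of residues modulo all open subgroups of finite index. (The published statement
takes i injective, as the first map of an exact sequence 0 → A → B → C → 0 of topological abelian
groups; here it is only assumed that the image of i is the kernel of p, which is all the proof
uses.) -/
theorem result
    {A : Type u} {B : Type v} {C : Type w}
    [AddCommGroup A] [TopologicalSpace A] [IsTopologicalAddGroup A]
    [AddCommGroup B] [TopologicalSpace B] [IsTopologicalAddGroup B]
    [AddCommGroup C] [TopologicalSpace C] [IsTopologicalAddGroup C]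
    (i : A →+ B) (hi : Continuous i) (p : B →+ C) (hp : Continuous p)
    (hpo : IsOpenMap p) (hps : Function.Surjective p) (hex : p.ker = i.range) :
    Function.Surjective (FICompl.map p hp) ∧ (FICompl.map p hp).ker = (FICompl.map i hi).range := by
  refine ⟨fun y => Groth.Agent.ProComplLib.mem_range_map_of_forall p hp y fun W => ?_, le_antisymm (fun y hy => ?_) ?_⟩
  · obtain ⟨c, hc⟩ := QuotientAddGroup.mk_surjective (y.1 W)
    obtain ⟨b, rfl⟩ := hps c
    exact ⟨b, hc⟩
  · refine Groth.Agent.ProComplLib.mem_range_map_of_forall i hi y fun V => ?_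
    obtain ⟨b, hb⟩ := QuotientAddGroup.mk_surjective (y.1 V)
    have := V.finiteIndex'
    let W : OpenFI C := ⟨V.toAddSubgroup.map p, hpo _ V.isOpen',
      ⟨ne_zero_of_dvd_ne_zero this.index_ne_zero (AddSubgroup.index_map_dvd _ hps)⟩⟩
    have h1 : QuotientAddGroup.map (W.comap p hp).toAddSubgroup W.toAddSubgroup p
        (W.comap_le p) (y.1 (W.comap p hp)) = 0 := congrFun (congrArg Subtype.val hy) W
    have h2 := y.2 V (W.comap p hp) (AddSubgroup.le_comap_map p V.toAddSubgroup)
    rw [← hb] at h2
    have h2' : (b : B ⧸ (W.comap p hp).toAddSubgroup) = y.1 (W.comap p hp) := h2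
    have h1' : (p b : C ⧸ W.toAddSubgroup) = 0 :=
      (congrArg (fun q => QuotientAddGroup.map (W.comap p hp).toAddSubgroup W.toAddSubgroup p
        (W.comap_le p) q) h2').trans h1
    rw [QuotientAddGroup.eq_zero_iff] at h1'
    obtain ⟨v, hv, hvb⟩ := h1'
    obtain ⟨a, ha⟩ := AddMonoidHom.mem_range.1
      (hex ▸ (AddMonoidHom.mem_ker (f := p)).2 (show p (-v + b) = 0 by
        rw [map_add, map_neg, hvb, neg_add_cancel]))
    refine ⟨a, (QuotientAddGroup.eq.2 ?_).trans hb⟩
    rw [ha, show -(-v + b) + b = v by abel]
    exact hv
  · rintro _ ⟨x, rfl⟩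
    refine AddMonoidHom.mem_ker.2 (Subtype.ext (funext fun W => ?_))
    change QuotientAddGroup.map _ _ p (W.comap_le p)
      (QuotientAddGroup.map _ _ i ((W.comap p hp).comap_le i) (x.1 ((W.comap p hp).comap i hi))) = 0
    obtain ⟨a, ha⟩ := QuotientAddGroup.mk_surjective (x.1 ((W.comap p hp).comap i hi))
    rw [← ha]
    have : p (i a) = 0 := AddMonoidHom.mem_ker.1 (hex ▸ AddMonoidHom.mem_range.2 ⟨a, rfl⟩)
    exact (congrArg QuotientAddGroup.mk this : (p (i a) : C ⧸ W.toAddSubgroup) = (0 : C))

end Groth.Agent.S19172
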