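import Groth.Statements.S19173
import Groth.Agent.ProComplLib.FICompl
import Groth.Agent.S19171

set_option autoImplicit false
universe u v
open ProCompl

namespace Groth.Agent.S19173

open W4c61motalbduality Topology in
/-- Let B be a Hausdorff, locally compact, totally disconnected topological abelian group generated as a
group by a compact subset, and let i : A → B be an injective continuous homomorphism inducing the
topology of A from that of B (a strict injection) with closed image. Then the map induced by i on
completions with respect to open subgroups of finite index is injective; together with right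
exactness for open surjections this makes 0 → A^∧ → B^∧ → C^∧ → 0 exact for a topological exact
sequence 0 → A → B → C → 0 with such B, strict closed i and open p. -/
theorem result
    {A : Type u} {B : Type v} [AddCommGroup A] [TopologicalSpace A] [IsTopologicalAddGroup A]
    [AddCommGroup B] [TopologicalSpace B] [IsTopologicalAddGroup B]
    [T2Space B] [LocallyCompactSpace B] [TotallyDisconnectedSpace B]
    (hcg : ∃ K : Set B, IsCompact K ∧ AddSubgroup.closure K = ⊤)
    (i : A →+ B) (hi : Continuous i) (hinj : Function.Injective i) (hind : IsInducing i)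
    (hcl : IsClosed (Set.range i)) :
    Function.Injective (FICompl.map i hi) := by
  refine (injective_iff_map_eq_zero _).2 fun x hx => Subtype.ext (funext fun U => ?_)
  obtain ⟨a, ha⟩ := QuotientAddGroup.mk_surjective (x.1 U)
  rw [← ha]
  refine (QuotientAddGroup.eq_zero_iff a).2 (by_contra fun haU => ?_)
  obtain ⟨χ, hχ, hχa⟩ := Groth.Agent.ProComplLib.exists_character_of_notMem U.toAddSubgroup haU
  obtain ⟨ψ, hψ, hψi⟩ := Groth.Agent.S19171.result hcg i hi hinj hind hcl χ
    (AddSubgroup.isOpen_mono hχ U.isOpen')
  let V : OpenFI B := ⟨ψ.ker, hψ, Groth.Agent.ProComplLib.finiteIndex_ker_of_compactlyGenerated hcg ψ hψ⟩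
  have h1 : QuotientAddGroup.map (V.comap i hi).toAddSubgroup V.toAddSubgroup i
      (V.comap_le i) (x.1 (V.comap i hi)) = 0 := congrFun (congrArg Subtype.val hx) V
  have h2 := x.2 U (V.comap i hi) (fun z hz => by
    change ψ (i z) = 0
    exact (DFunLike.congr_fun hψi z).trans (AddMonoidHom.mem_ker.1 (hχ hz)))
  rw [← ha] at h2
  have h2' : (a : A ⧸ (V.comap i hi).toAddSubgroup) = x.1 (V.comap i hi) := h2
  have h1' : (i a : B ⧸ V.toAddSubgroup) = 0 :=
    (congrArg (fun q => QuotientAddGroup.map (V.comap i hi).toAddSubgroup V.toAddSubgroup i
      (V.comap_le i) q) h2').trans h1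
  rw [QuotientAddGroup.eq_zero_iff] at h1'
  exact hχa ((DFunLike.congr_fun hψi a).symm.trans (AddMonoidHom.mem_ker.1 h1'))

end Groth.Agent.S19173
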