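import Groth.Statements.S19174
import Groth.Agent.TFPush7.CFHR
import Groth.Agent.TFPush7.P1Deg
import Groth.Agent.Hyper24.BiratH1

set_option linter.style.haveILetI false
set_option backward.isDefEq.respectTransparency false
set_option backward.isDefEq.respectTransparency.types false
set_option maxHeartbeats 1000000

set_option autoImplicit false
universe u
open CategoryTheory CategoryTheory.Limits AlgebraicGeometry
open Curves

namespace Groth.Agent.S19174

open Groth.Agent.Coherent Groth.Agent.PicLib Groth.Agent.AmpleLib Groth.Agent.EulerLib Groth.Agent.CurveRR24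
  Groth.Agent.TFPush7

theorem isZero_quotMod_top (X : Scheme.{u}) : IsZero (ClSub.quotMod (⊤ : X.IdealSheafData)) :=
  isZero_of_support_eq_empty (Set.eq_empty_of_subset_empty
    ((support_quotMod_subset _).trans (by rw [Scheme.IdealSheafData.support_top]; rfl)))

variable (k : Type u) [Field k] {C : Scheme.{u}} [C.Over (Spec (CommRingCat.of k))]
  [IsProper (C ↘ (Spec (CommRingCat.of k)))]

/-- A subcurve has at most the genus of the curve. -/
theorem genus_le (hdim : topologicalKrullDim C ≤ 1) (J : C.IdealSheafData) :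
    @Curv2.genus k _ J.subscheme ⟨J.subschemeι ≫ (C ↘ (Spec (CommRingCat.of k)))⟩ ≤ Curv2.genus k C := by
  letI : J.subscheme.Over (Spec (CommRingCat.of k)) := ⟨J.subschemeι ≫ (C ↘ (Spec (CommRingCat.of k)))⟩
  haveI := EulerLib.isNoetherian_of_proper k (X := C)
  haveI : IsProper (J.subscheme ↘ Spec (CommRingCat.of k)) :=
    inferInstanceAs (IsProper (J.subschemeι ≫ (C ↘ (Spec (CommRingCat.of k)))))
  haveI := EulerLib.isNoetherian_of_proper k (X := J.subscheme)
  haveI : Coh.IsQCoh (Coh.structureModule J.subscheme) := isQCoh_structureModule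
  haveI : Epi (ClSub.toSubscheme J) := CurveRR24.epi_toSubscheme _
  show Module.finrank k (Coh.HH J.subscheme (Coh.structureModule J.subscheme) 1) ≤ _
  rw [(SerreDual.hpush J.subschemeι k rfl (Coh.structureModule J.subscheme) 1).finrank_eq]
  refine Hyper24.finrank_h1_le_of_finite_cokernel k hdim (ClSub.toSubscheme J) (isCoh_structureModule C)
    (isCoh_quotMod J) Set.finite_empty (fun z hz => hz.elim) ?_
  exact support_of_isZero (isZero_cokernel_of_epi (ClSub.toSubscheme J)) ∅

/-- Nonvanishing of `H¹` gives a subcurve of small degree. -/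
theorem exists_sub [IsReduced C] [ConnectedSpace C] [IsAlgClosed k] (hdim : topologicalKrullDim C = 1)
    {L : C.Modules} (hL : PicF.IsInvertible L) (h : Nontrivial (Coh.HH C L 1)) :
    ∃ J : C.IdealSheafData, IsReduced J.subscheme ∧ ConnectedSpace J.subscheme ∧ topologicalKrullDim J.subscheme = 1 ∧
      @Curv2.deg k _ J.subscheme ⟨J.subschemeι ≫ (C ↘ Spec (CommRingCat.of k))⟩
          ((Scheme.Modules.pullback J.subschemeι).obj L) 1 ≤
        2 * (@Curv2.genus k _ J.subscheme ⟨J.subschemeι ≫ (C ↘ Spec (CommRingCat.of k))⟩ : ℤ) - 2 := by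
  obtain ⟨ω, t, hω, hrep⟩ := CFHR.exists_pair k C hdim.le
  haveI := EulerLib.isNoetherian_of_proper k (X := C)
  let Z : C.IdealSheafData := ⊤
  have hZ : topologicalKrullDim (Z.support : Set C) ≤ 0 := by
    rw [Scheme.IdealSheafData.support_top]
    haveI : IsEmpty (TopologicalSpace.IrreducibleCloseds ((⊥ : TopologicalSpace.Closeds C) : Set C)) :=
      ⟨fun Z => let ⟨z, _⟩ := Z.isIrreducible'.1; z.2⟩
    rw [topologicalKrullDim, Order.krullDim_eq_bot]
    exact bot_le
  have hT : ClSub.toSubscheme Z = 0 := (isZero_quotMod_top C).eq_of_tgt _ _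
  have hι : IsIso (ClSub.idealModι Z) := kernel.ι_of_zero hT
  have e : CohB1.tensorMod (ClSub.idealMod Z) L ≅ L :=
    Coherent.tensorIso (@asIso _ _ _ _ (ClSub.idealModι Z) hι) (Iso.refl _) ≪≫ unitTensorIso L
  have h1 : Nontrivial (Coh.HH C (CohB1.tensorMod (ClSub.idealMod Z) L) 1) :=
    (HHCongr k e 1).toEquiv.nontrivial
  obtain ⟨J, hJr, hJc, hJd, hJ⟩ := CFHR.exists_subcurve k hrep hω hdim Z hL hZ h1
  refine ⟨J, hJr, hJc, hJd, hJ.trans (le_of_eq ?_)⟩
  letI : J.subscheme.Over (Spec (CommRingCat.of k)) := ⟨J.subschemeι ≫ (C ↘ Spec (CommRingCat.of k))⟩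
  haveI : IsProper (J.subscheme ↘ Spec (CommRingCat.of k)) :=
    inferInstanceAs (IsProper (J.subschemeι ≫ (C ↘ (Spec (CommRingCat.of k)))))
  haveI := hJr
  haveI := hJc
  haveI : Subsingleton (Coh.HH C (ClSub.quotMod (Z ⊔ J)) 0) := by
    rw [show Z ⊔ J = ⊤ from top_sup_eq _]
    exact subsingleton_HH_of_isZero (isZero_quotMod_top C) 0
  rw [Module.finrank_zero_of_subsingleton, euler_structure k hJd.le, h0_structure k]
  push_cast
  ring

/-- Let k be an algebraically closed field of characteristic zero and C a proper reduced connected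
one-dimensional scheme over k with at-worst-nodal singularities and dim_k H^1(C, O_C) = 1 (a
connected nodal curve of arithmetic genus one). Let π : C → P^1_k be a morphism over k contracting
no connected subcurve of arithmetic genus one: for every reduced connected one-dimensional closed
subscheme Y of C on which π is constant, dim_k H^1(Y, O_Y) = 0. Then H^1(C, π^*O(1)) = 0 and H^1(C,
π^*O(2)) = 0, where O(d) is the d-th twisting sheaf of P^1_k. -/
theorem result (k : Type u) [Field k] [IsAlgClosed k] [CharZero k]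
    (C : Scheme.{u}) [C.Over (Spec (CommRingCat.of k))] [IsProper (C ↘ (Spec (CommRingCat.of k)))]
    [AlgebraicGeometry.IsReduced C] [ConnectedSpace C] (hdim : topologicalKrullDim C = 1)
    (hC : Curv2.AtWorstNodal k C) (hg : Curv2.genus k C = 1)
    (π : C ⟶ CohB1.ProjSpace 1 k) (hπ : π ≫ CohB1.ProjSpace.toSpec 1 k = C ↘ (Spec (CommRingCat.of k)))
    (hcontr : ∀ J : C.IdealSheafData, AlgebraicGeometry.IsReduced J.subscheme → ConnectedSpace J.subscheme →
      topologicalKrullDim J.subscheme = 1 →
      (∀ x y : J.subscheme, (J.subschemeι ≫ π).base x = (J.subschemeι ≫ π).base y) →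
      @Curv2.genus k _ J.subscheme ⟨J.subschemeι ≫ (C ↘ (Spec (CommRingCat.of k)))⟩ = 0) :
    Subsingleton (Coh.HH C ((Scheme.Modules.pullback π).obj (Twist.twistProjSpace 1 k 1)) 1) ∧
      Subsingleton (Coh.HH C ((Scheme.Modules.pullback π).obj (Twist.twistProjSpace 1 k 2)) 1) := by
  have key : ∀ d : ℤ, d = 1 ∨ d = 2 →
      Subsingleton (Coh.HH C ((Scheme.Modules.pullback π).obj (Twist.twistProjSpace 1 k d)) 1) := by
    intro d hd
    by_contra hns
    rw [not_subsingleton_iff_nontrivial] at hns
    have h1 := Surf15.isInvertible_twist_one_field k 1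
    have hL : PicF.IsInvertible ((Scheme.Modules.pullback π).obj (Twist.twistProjSpace 1 k d)) := by
      rcases hd with rfl | rfl
      · exact PicLoc.isInvertible_pullback π h1
      · obtain ⟨e⟩ := P1Deg.twistTwoIso (k := k) (n := 1)
        exact PicLoc.isInvertible_pullback π (glocus_isInvertible_of_iso e (isInvertible_tensorMod h1 h1))
    obtain ⟨J, hJr, hJc, hJd, hJ⟩ := exists_sub k hdim hL hns
    letI : J.subscheme.Over (Spec (CommRingCat.of k)) := ⟨J.subschemeι ≫ (C ↘ Spec (CommRingCat.of k))⟩
    haveI : IsProper (J.subscheme ↘ Spec (CommRingCat.of k)) :=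
      inferInstanceAs (IsProper (J.subschemeι ≫ (C ↘ (Spec (CommRingCat.of k)))))
    haveI := hJr
    haveI := hJc
    let r := J.subschemeι ≫ π
    have ec := (Scheme.Modules.pullbackComp J.subschemeι π).app (Twist.twistProjSpace 1 k d)
    have hdd : Curv2.deg k J.subscheme ((Scheme.Modules.pullback r).obj (Twist.twistProjSpace 1 k d)) 1 ≤
        2 * (Curv2.genus k J.subscheme : ℤ) - 2 := by
      refine le_trans (le_of_eq ?_) hJ
      rw [Curv2.deg, Curv2.deg]
      congr 1
      exact euler_congr k _ ec.symm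
    have h0 : 0 ≤ Curv2.deg k J.subscheme ((Scheme.Modules.pullback r).obj (Twist.twistProjSpace 1 k 1)) 1 := by
      rw [← P1Deg.deg_structure_mk k (PicLoc.isInvertible_pullback r h1)]
      haveI := EulerLib.isNoetherian_of_proper k (X := J.subscheme)
      exact P1Deg.deg_cl1_nonneg k hJd.le r (isCoh_structureModule _)
    have h01 : Curv2.deg k J.subscheme ((Scheme.Modules.pullback r).obj (Twist.twistProjSpace 1 k 1)) 1 ≤
        2 * (Curv2.genus k J.subscheme : ℤ) - 2 := by
      rcases hd with rfl | rfl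
      · exact hdd
      · rw [P1Deg.deg_twist_two k hJd.le r] at hdd
        omega
    have hgle : Curv2.genus k J.subscheme ≤ 1 := hg ▸ genus_le k hdim.le J
    have hconst := P1Deg.constant_of_deg_nonpos k hJd.le r (by omega)
    have hg0 : Curv2.genus k J.subscheme = 0 := hcontr J hJr hJc hJd hconst
    omega
  exact ⟨key 1 (Or.inl rfl), key 2 (Or.inr rfl)⟩

end Groth.Agent.S19174
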