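import Groth.Statements.S19176
import Mathlib
import Groth.Prelude
import Groth.Agent.S19448

set_option linter.all false

set_option autoImplicit false
universe u
open PlaneCurve

open Polynomial

namespace Groth.Agent.S19176

theorem finrank_quot_pow_pow (k : Type u) [Field k] (a b : ℕ) :
    Module.finrank k (MvPolynomial (Fin 2) k ⧸ Ideal.span ({MvPolynomial.X 0 ^ a, MvPolynomial.X 1 ^ b} : Set (MvPolynomial (Fin 2) k))) = a * b := by
  classical
  let d : Fin a × Fin b → (Fin 2 →₀ ℕ) := fun ij => Finsupp.single 0 (ij.1 : ℕ) + Finsupp.single 1 (ij.2 : ℕ)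
  have hd : ∀ ij, d ij 0 = ij.1 ∧ d ij 1 = ij.2 := fun ij => ⟨by simp [d], by simp [d]⟩
  have hdinj : Function.Injective d := fun x y h => by
    have h0 := congrArg (fun e => e 0) h
    have h1 := congrArg (fun e => e 1) h
    simp only [(hd x).1, (hd y).1, (hd x).2, (hd y).2] at h0 h1
    exact Prod.ext (Fin.ext h0) (Fin.ext h1)
  let I : Ideal (MvPolynomial (Fin 2) k) := Ideal.span ({MvPolynomial.X 0 ^ a, MvPolynomial.X 1 ^ b} : Set (MvPolynomial (Fin 2) k))
  let L : MvPolynomial (Fin 2) k →ₗ[k] (Fin a × Fin b → k) := LinearMap.pi fun ij => MvPolynomial.lcoeff k (d ij)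
  have hI : I = Ideal.span ((fun e => MvPolynomial.monomial e (1 : k)) '' {Finsupp.single 0 a, Finsupp.single 1 b}) := by
    show Ideal.span _ = _
    rw [Set.image_insert_eq, Set.image_singleton, MvPolynomial.X_pow_eq_monomial, MvPolynomial.X_pow_eq_monomial]
  have hker : LinearMap.ker L = I.restrictScalars k := by
    ext f
    rw [Submodule.restrictScalars_mem, hI, MvPolynomial.mem_ideal_span_monomial_image, LinearMap.mem_ker]
    constructor
    · intro hf e he
      by_cases h0 : a ≤ e 0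
      · exact ⟨_, Or.inl rfl, Finsupp.single_le_iff.2 h0⟩
      by_cases h1 : b ≤ e 1
      · exact ⟨_, Or.inr rfl, Finsupp.single_le_iff.2 h1⟩
      exfalso
      have h := congrFun hf (⟨e 0, by omega⟩, ⟨e 1, by omega⟩)
      have he' : d (⟨e 0, by omega⟩, ⟨e 1, by omega⟩) = e := by
        ext i; fin_cases i
        · exact (hd _).1
        · exact (hd _).2
      refine MvPolynomial.mem_support_iff.1 he ?_
      have h' : MvPolynomial.coeff (d (⟨e 0, by omega⟩, ⟨e 1, by omega⟩)) f = 0 := h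
      rwa [he'] at h'
    · intro hf
      funext ij
      show MvPolynomial.coeff (d ij) f = 0
      by_contra hne
      obtain ⟨s, hs, hle⟩ := hf _ (MvPolynomial.mem_support_iff.2 hne)
      rcases hs with rfl | rfl
      · have := Finsupp.single_le_iff.1 hle
        rw [(hd ij).1] at this
        exact absurd this (not_le.2 ij.1.isLt)
      · have := Finsupp.single_le_iff.1 hle
        rw [(hd ij).2] at this
        exact absurd this (not_le.2 ij.2.isLt)
  have hsurj : Function.Surjective L := fun v => by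
    refine ⟨∑ ij, MvPolynomial.monomial (d ij) (v ij), funext fun kl => ?_⟩
    show MvPolynomial.coeff (d kl) _ = v kl
    rw [MvPolynomial.coeff_sum, Finset.sum_eq_single kl (fun ij _ hne => by rw [MvPolynomial.coeff_monomial, if_neg (hdinj.ne hne)]) (by simp), MvPolynomial.coeff_monomial, if_pos rfl]
  have e1 := (LinearMap.quotKerEquivOfSurjective L hsurj).finrank_eq
  rw [hker, Module.finrank_fintype_fun_eq_card, Fintype.card_prod, Fintype.card_fin, Fintype.card_fin] at e1
  rw [← e1]
  exact ((Submodule.Quotient.restrictScalarsEquiv k I).finrank_eq).symm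

open MvPolynomial in
/-- Let k be a field of characteristic p (p = 0 allowed) and F = y² − x³ in k[x, y] (x the variable of
index 0, y of index 1). The singular subscheme of the plane curve F = 0, cut out by F and its two
partial derivatives, is finite over k of degree 4 when p = 2, of degree 3 when p = 3, and of degree
2 otherwise: the k-dimension of k[x, y]/(F, ∂F/∂x, ∂F/∂y) is that number. (The source phrases this
through the complete local ring of a cusp; the row is the computation for the standard cusp y² =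
x³.) -/
theorem result (k : Type u) [Field k] (p : ℕ) [CharP k p] :
    Module.finrank k (MvPolynomial (Fin 2) k ⧸ Ideal.span
      ({X 1 ^ 2 - X 0 ^ 3, pderiv 0 (X 1 ^ 2 - X 0 ^ 3), pderiv 1 (X 1 ^ 2 - X 0 ^ 3)} :
        Set (MvPolynomial (Fin 2) k))) = (if p = 2 then 4 else if p = 3 then 3 else 2) := by
  have hd0 : MvPolynomial.pderiv 0 (MvPolynomial.X 1 ^ 2 - MvPolynomial.X 0 ^ 3 : MvPolynomial (Fin 2) k) = MvPolynomial.C (-3 : k) * MvPolynomial.X 0 ^ 2 := by
    rw [map_sub, MvPolynomial.pderiv_pow, MvPolynomial.pderiv_pow, MvPolynomial.pderiv_X_self, MvPolynomial.pderiv_X_of_ne (by decide)]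
    rw [map_neg, map_ofNat]; push_cast; ring
  have hd1 : MvPolynomial.pderiv 1 (MvPolynomial.X 1 ^ 2 - MvPolynomial.X 0 ^ 3 : MvPolynomial (Fin 2) k) = MvPolynomial.C (2 : k) * MvPolynomial.X 1 := by
    rw [map_sub, MvPolynomial.pderiv_pow, MvPolynomial.pderiv_pow, MvPolynomial.pderiv_X_self, MvPolynomial.pderiv_X_of_ne (by decide)]
    rw [map_ofNat]; push_cast; ring
  rw [hd0, hd1]
  generalize hP : (MvPolynomial.X 1 ^ 2 - MvPolynomial.X 0 ^ 3 : MvPolynomial (Fin 2) k) = F
  have h23 : ∀ r : ℕ, r.Prime → (r : k) = 0 → p = r := fun r hr h => by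
    have hdvd := (CharP.cast_eq_zero_iff k p r).1 h
    rcases hr.eq_one_or_self_of_dvd p hdvd with h1 | h1
    · exact absurd h1 (CharP.char_ne_one k p)
    · exact h1
  have hm : ∀ (c : k) (f : MvPolynomial (Fin 2) k) (J : Ideal (MvPolynomial (Fin 2) k)), c ≠ 0 → MvPolynomial.C c * f ∈ J → f ∈ J := fun c f J hc h => by
    have := J.mul_mem_left (MvPolynomial.C c⁻¹) h
    rwa [← mul_assoc, ← MvPolynomial.C_mul, inv_mul_cancel₀ hc, MvPolynomial.C_1, one_mul] at this
  let x : MvPolynomial (Fin 2) k := MvPolynomial.X 0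
  let y : MvPolynomial (Fin 2) k := MvPolynomial.X 1
  show Module.finrank k (MvPolynomial (Fin 2) k ⧸ Ideal.span ({F, MvPolynomial.C (-3 : k) * x ^ 2, MvPolynomial.C (2 : k) * y} : Set (MvPolynomial (Fin 2) k))) = _
  have hF : F = y ^ 2 - x ^ 3 := hP.symm
  have hsub : ∀ z ∈ ({F, MvPolynomial.C (-3 : k) * x ^ 2, MvPolynomial.C (2 : k) * y} : Set (MvPolynomial (Fin 2) k)),
      z ∈ Ideal.span ({F, MvPolynomial.C (-3 : k) * x ^ 2, MvPolynomial.C (2 : k) * y} : Set (MvPolynomial (Fin 2) k)) := fun z hz => Ideal.subset_span hz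
  generalize hJ : Ideal.span ({F, MvPolynomial.C (-3 : k) * x ^ 2, MvPolynomial.C (2 : k) * y} : Set (MvPolynomial (Fin 2) k)) = J
  have eq_of : ∀ a b : ℕ, x ^ a ∈ J → y ^ b ∈ J → (∀ z ∈ ({F, MvPolynomial.C (-3 : k) * x ^ 2, MvPolynomial.C (2 : k) * y} : Set (MvPolynomial (Fin 2) k)), z ∈ Ideal.span ({x ^ a, y ^ b} : Set (MvPolynomial (Fin 2) k))) → Module.finrank k (MvPolynomial (Fin 2) k ⧸ J) = a * b := by
    intro a b hx hy hle
    have : J = Ideal.span ({x ^ a, y ^ b} : Set (MvPolynomial (Fin 2) k)) := le_antisymm (hJ ▸ Ideal.span_le.2 hle)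
      (Ideal.span_le.2 (by rintro z (rfl | rfl) <;> assumption))
    rw [this]
    exact finrank_quot_pow_pow k a b
  have hFJ : F ∈ J := hJ ▸ hsub F (Or.inl rfl)
  have hxJ : MvPolynomial.C (-3 : k) * x ^ 2 ∈ J := hJ ▸ hsub _ (Or.inr (Or.inl rfl))
  have hyJ : MvPolynomial.C (2 : k) * y ∈ J := hJ ▸ hsub _ (Or.inr (Or.inr rfl))
  split_ifs with h2 h3
  · have hz2 : (2 : k) = 0 := by have := CharP.cast_eq_zero k p; rw [h2] at this; exact_mod_cast this
    have hx : x ^ 2 ∈ J := hm (-3) _ _ (fun h => absurd (h23 3 Nat.prime_three (by exact_mod_cast (neg_eq_zero.1 h : (3 : k) = 0))) (by omega)) hxJ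
    have hy : y ^ 2 ∈ J := by
      have := J.add_mem hFJ (J.mul_mem_left x hx)
      rwa [hF, show y ^ 2 - x ^ 3 + x * x ^ 2 = y ^ 2 by ring] at this
    refine eq_of 2 2 hx hy ?_
    rintro z (rfl | rfl | rfl)
    · exact Ideal.mem_span_pair.2 ⟨-x, 1, by rw [hF]; ring⟩
    · exact Ideal.mul_mem_left _ _ (Ideal.subset_span (Or.inl rfl))
    · rw [hz2, map_zero, zero_mul]; exact zero_mem _
  · have hz3 : (3 : k) = 0 := by have := CharP.cast_eq_zero k p; rw [h3] at this; exact_mod_cast this
    have hy : y ∈ J := hm 2 _ _ (fun h => absurd (h23 2 Nat.prime_two (by exact_mod_cast h)) h2) hyJ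
    have hx : x ^ 3 ∈ J := by
      have := J.sub_mem (J.mul_mem_left y hy) hFJ
      rwa [hF, show y * y - (y ^ 2 - x ^ 3) = x ^ 3 by ring] at this
    refine eq_of 3 1 hx (by rwa [pow_one]) ?_
    rintro z (rfl | rfl | rfl)
    · exact Ideal.mem_span_pair.2 ⟨-1, y, by rw [hF]; ring⟩
    · rw [hz3, neg_zero, map_zero, zero_mul]; exact zero_mem _
    · exact Ideal.mul_mem_left _ _ (Ideal.subset_span (Or.inr (pow_one y).symm))
  · have hy : y ∈ J := hm 2 _ _ (fun h => h2 (h23 2 Nat.prime_two (by exact_mod_cast h))) hyJ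
    have hx : x ^ 2 ∈ J := hm (-3) _ _ (fun h => h3 (h23 3 Nat.prime_three (by exact_mod_cast (neg_eq_zero.1 h : (3 : k) = 0)))) hxJ
    refine eq_of 2 1 hx (by rwa [pow_one]) ?_
    rintro z (rfl | rfl | rfl)
    · exact Ideal.mem_span_pair.2 ⟨-x, y, by rw [hF]; ring⟩
    · exact Ideal.mul_mem_left _ _ (Ideal.subset_span (Or.inl rfl))
    · exact Ideal.mul_mem_left _ _ (Ideal.subset_span (Or.inr (pow_one y).symm))

end Groth.Agent.S19176
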