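import Groth.Statements.S19177
import Mathlib.RingTheory.Etale.Weakly
import Mathlib.RingTheory.HopkinsLevitzki
import Mathlib.RingTheory.LocalRing.Pullback
import Mathlib.RingTheory.PicardGroup
import Mathlib.RingTheory.TotallySplit
import Mathlib.RingTheory.WittVector.Basic
import Mathlib.Tactic
import Groth.Agent.CommAlg4.Nilpotent

set_option linter.all false

set_option autoImplicit false
universe u
open CAlg

open Groth.Agent.CommAlg4

namespace Groth.Agent.S19177

/-- Let S → R be a homomorphism of commutative rings making R a finitely generated projective S-module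
of rank 2 at every prime of S (the affine form of a finite locally free morphism of degree 2). Then
the cokernel of the (injective) structure map S → R, the S-module R/S, is a projective S-module of
rank 1 at every prime of S (locally free of rank 1). -/
theorem result
    (S R : Type u) [CommRing S] [CommRing R] [Algebra S R] [Module.Finite S R] [Module.Projective S R]
    (h2 : ∀ p : PrimeSpectrum S, Module.rankAtStalk (R := S) R p = 2) :
    Module.Projective S (R ⧸ LinearMap.range (Algebra.linearMap S R)) ∧
      ∀ p : PrimeSpectrum S,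
        Module.rankAtStalk (R := S) (R ⧸ LinearMap.range (Algebra.linearMap S R)) p = 1 := by
  let J : Ideal S := LinearMap.range (LinearMap.applyₗ (1 : R) : (R →ₗ[S] S) →ₗ[S] S)
  have hJ : J = ⊤ := by
    by_contra hne
    obtain ⟨m, hm, hle⟩ := Ideal.exists_le_maximal J hne
    obtain ⟨s, hs⟩ := Module.projective_def'.mp (inferInstance : Module.Projective S R)
    have h1 : (1 : R) ∈ m • (⊤ : Submodule S R) := by
      have := congrArg (fun f : R →ₗ[S] R => f 1) hs
      simp only [LinearMap.comp_apply, LinearMap.id_apply, Finsupp.linearCombination_apply] at this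
      rw [← this]
      refine Submodule.sum_mem _ fun i _ => Submodule.smul_mem_smul (hle ?_) trivial
      exact ⟨(Finsupp.lapply i).comp s, rfl⟩
    have htop : m • (⊤ : Submodule S R) = ⊤ := by
      rw [Ideal.smul_top_eq_map, Submodule.restrictScalars_eq_top_iff, Ideal.eq_top_iff_one]
      rwa [Ideal.smul_top_eq_map] at h1
    obtain ⟨r, hr1, hr⟩ := Submodule.exists_sub_one_mem_and_smul_eq_zero_of_fg_of_le_smul m ⊤ Module.Finite.fg_top htop.ge
    have hsub : Subsingleton (LocalizedModule m.primeCompl R) := by
      rw [LocalizedModule.subsingleton_iff]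
      refine fun x => ⟨r, fun h => hm.ne_top ((Ideal.eq_top_iff_one _).mpr ?_), hr x trivial⟩
      simpa using sub_mem h hr1
    have h0 : Module.rankAtStalk (R := S) R ⟨m, hm.isPrime⟩ = 0 := by
      simp [Module.rankAtStalk, Module.finrank_zero_of_subsingleton]
    rw [h2] at h0; exact two_ne_zero h0
  obtain ⟨ψ, hψ⟩ := (hJ ▸ trivial : (1 : S) ∈ J)
  have hψ1 : ψ 1 = 1 := hψ
  let π : R →ₗ[S] R := LinearMap.id - (Algebra.linearMap S R).comp ψ
  have hker : LinearMap.range (Algebra.linearMap S R) ≤ LinearMap.ker π := by
    rintro _ ⟨a, rfl⟩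
    simp [π, Algebra.algebraMap_eq_smul_one, hψ1]
  let σ := (LinearMap.range (Algebra.linearMap S R)).liftQ π hker
  have hσ : (LinearMap.range (Algebra.linearMap S R)).mkQ ∘ₗ σ = LinearMap.id := by
    refine Submodule.linearMap_qext _ (LinearMap.ext fun x => ?_)
    simp [σ, π, (Submodule.Quotient.mk_eq_zero _).mpr (LinearMap.mem_range_self (Algebra.linearMap S R) (ψ x))]
  haveI hproj : Module.Projective S (R ⧸ LinearMap.range (Algebra.linearMap S R)) := .of_split σ _ hσ
  refine ⟨hproj, fun p => ?_⟩
  let f : R →ₗ[S] S × (R ⧸ LinearMap.range (Algebra.linearMap S R)) := ψ.prod (LinearMap.range (Algebra.linearMap S R)).mkQ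
  have hf : Function.Bijective f := by
    constructor
    · rw [← LinearMap.ker_eq_bot, LinearMap.ker_eq_bot']
      intro x hx
      have hx1 : ψ x = 0 := congrArg Prod.fst hx
      obtain ⟨a, rfl⟩ := (Submodule.Quotient.mk_eq_zero _).mp (congrArg Prod.snd hx)
      simp [Algebra.algebraMap_eq_smul_one, hψ1] at hx1
      simp [hx1]
    · rintro ⟨a, q⟩
      obtain ⟨x, rfl⟩ := Submodule.mkQ_surjective _ q
      refine ⟨x - algebraMap S R (ψ x) + algebraMap S R a, ?_⟩
      ext
      · simp [f, Algebra.algebraMap_eq_smul_one, hψ1]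
      · have e1 := (Submodule.Quotient.mk_eq_zero _).mpr (LinearMap.mem_range_self (Algebra.linearMap S R) (ψ x))
        have e2 := (Submodule.Quotient.mk_eq_zero _).mpr (LinearMap.mem_range_self (Algebra.linearMap S R) a)
        simp only [Algebra.linearMap_apply] at e1 e2
        simp [f, e1, e2]
  have := congrFun (Module.rankAtStalk_eq_of_equiv (LinearEquiv.ofBijective f hf)) p
  rw [h2] at this
  have hnS : Nontrivial S := ⟨⟨0, 1, fun h => p.2.ne_top ((Ideal.eq_top_iff_one _).mpr (h ▸ p.asIdeal.zero_mem))⟩⟩
  simp [Module.rankAtStalk_prod] at this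
  omega

end Groth.Agent.S19177
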