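import Groth.Statements.S19178
import Mathlib

set_option autoImplicit false
universe u
open Curves

namespace Groth.Agent.S19178

/-- For every field k and every choice of coefficients a₁, a₂, a₃, a₄, a₆ in k, the homogeneous
Weierstrass cubic Y²Z + a₁XYZ + a₃YZ² − (X³ + a₂X²Z + a₄XZ² + a₆Z³) is an irreducible polynomial in
k[X, Y, Z]. Applied to all fields, this says every fibre of the Weierstrass family over the affine
space of coefficients is geometrically integral. -/
theorem result (k : Type u) [Field k]
    (W : WeierstrassCurve k) :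
    Irreducible (WeierstrassCurve.Projective.polynomial W) := by
  set e := MvPolynomial.finSuccEquiv k 2
  rw [← MulEquiv.irreducible_iff e.toMulEquiv]
  let c₂ : MvPolynomial (Fin 2) k := MvPolynomial.C W.a₂ * MvPolynomial.X 1
  let c₁ : MvPolynomial (Fin 2) k := MvPolynomial.C W.a₄ * MvPolynomial.X 1 ^ 2 - MvPolynomial.C W.a₁ * MvPolynomial.X 0 * MvPolynomial.X 1
  let c₀ : MvPolynomial (Fin 2) k := MvPolynomial.C W.a₆ * MvPolynomial.X 1 ^ 3 - MvPolynomial.X 0 ^ 2 * MvPolynomial.X 1 - MvPolynomial.C W.a₃ * MvPolynomial.X 0 * MvPolynomial.X 1 ^ 2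
  let g : Polynomial (MvPolynomial (Fin 2) k) := Polynomial.X ^ 3 + (Polynomial.C c₂ * Polynomial.X ^ 2 + Polynomial.C c₁ * Polynomial.X + Polynomial.C c₀)
  have hC : ∀ a : k, e (MvPolynomial.C a) = Polynomial.C (MvPolynomial.C a) := fun a => e.commutes a
  have h0 : e (MvPolynomial.X 0) = Polynomial.X := MvPolynomial.finSuccEquiv_X_zero
  have h1 : e (MvPolynomial.X 1) = Polynomial.C (MvPolynomial.X 0) := MvPolynomial.finSuccEquiv_X_succ (j := 0)
  have h2' : e (MvPolynomial.X 2) = Polynomial.C (MvPolynomial.X 1) := MvPolynomial.finSuccEquiv_X_succ (j := 1)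
  have heq : e (WeierstrassCurve.Projective.polynomial W) = -g := by
    rw [WeierstrassCurve.Projective.polynomial]
    simp only [map_add, map_sub, map_mul, map_pow, hC, h0, h1, h2', g, c₂, c₁, c₀, show (0 : Fin 3) = 0 from rfl]
    ring
  show Irreducible (e (WeierstrassCurve.Projective.polynomial W))
  rw [heq]
  have hdeg : (Polynomial.C c₂ * Polynomial.X ^ 2 + Polynomial.C c₁ * Polynomial.X + Polynomial.C c₀).degree < 3 := by
    refine lt_of_le_of_lt Polynomial.degree_quadratic_le (by norm_num)
  have hgm : g.Monic := Polynomial.monic_X_pow_add hdeg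
  have hgd : g.natDegree = 3 := by
    refine Polynomial.natDegree_eq_of_degree_eq_some ?_
    rw [Polynomial.degree_add_eq_left_of_degree_lt (by rw [Polynomial.degree_X_pow]; exact hdeg), Polynomial.degree_X_pow]
  refine Associated.irreducible (Associated.neg_right (Associated.refl g)) ?_
  rw [hgm.irreducible_iff_roots_eq_zero_of_degree_le_three (by omega) (by omega), Multiset.eq_zero_iff_forall_notMem]
  intro r hr
  have hr' := (Polynomial.mem_roots hgm.ne_zero).mp hr
  let φ : MvPolynomial (Fin 2) k →ₐ[k] TrivSqZeroExt (Polynomial k) (Polynomial k) :=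
    MvPolynomial.aeval ![TrivSqZeroExt.inl Polynomial.X, TrivSqZeroExt.inr 1]
  have hev := congrArg φ hr'
  simp only [g, c₂, c₁, c₀, Polynomial.eval_add, Polynomial.eval_pow, Polynomial.eval_X, Polynomial.eval_mul, Polynomial.eval_C,
    map_add, map_sub, map_mul, map_pow, map_zero] at hev
  simp only [φ, MvPolynomial.aeval_X, MvPolynomial.aeval_C, Matrix.cons_val_zero, Matrix.cons_val_one] at hev
  set s := (MvPolynomial.aeval ![TrivSqZeroExt.inl Polynomial.X, (TrivSqZeroExt.inr 1 : TrivSqZeroExt (Polynomial k) (Polynomial k))]) r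
  have hf := congrArg TrivSqZeroExt.fst hev
  simp [sq, pow_succ, TrivSqZeroExt.algebraMap_eq_inl'] at hf
  have hs := congrArg TrivSqZeroExt.snd hev
  simp [sq, pow_succ, TrivSqZeroExt.algebraMap_eq_inl', hf] at hs

end Groth.Agent.S19178
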