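import Groth.Statements.S19179
import Groth.Agent.JetDeg19179.Thick
import Groth.Agent.S1612
import Groth.Agent.PrinLib.Affine
import Groth.Agent.PicTau27.CurveAlg
import Groth.Agent.Inters29.PullIdeal
import Groth.Agent.GenSmoothLib.OmegaFree

set_option autoImplicit false
set_option linter.style.haveILetI false
set_option backward.isDefEq.respectTransparency false
set_option backward.isDefEq.respectTransparency.types false
set_option maxHeartbeats 1000000
universe u
open CategoryTheory CategoryTheory.Limits AlgebraicGeometry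
open PrinPart

namespace Groth.Agent.S19179

open Groth.Agent Groth.Agent.Coherent Groth.Agent.PicLib Groth.Agent.AmpleLib Groth.Agent.EulerLib Groth.Agent.CurveRR24

/-- Degree of the jet module: this is the computation carried out in the proof. Let k be a field and X a
smooth proper integral scheme of dimension 1 over k whose space of global functions is
one-dimensional, of genus g (the k-dimension of H¹(X, O_X)); let L be an invertible O_X-module of
degree d and m ≥ 0. The module of principal parts of order m of L relative to X → Spec k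
(pushforward to the first factor of the pullback of L to the m-th infinitesimal neighbourhood of the
diagonal) is locally free of rank m + 1, and its degree, computed as for a locally free module of
rank m + 1, equals (m + 1) d + (2g − 2) · m (m + 1)/2. (The source uses this to count the inflection
points of a non-degenerate map to projective (m+1)−1-space given by m + 1 sections of L: when
finite, the inflection subscheme has this degree.) -/
theorem result (k : Type u) [Field k] (X : Scheme.{u})
    [X.Over (Spec (CommRingCat.of k))] [IsIntegral X]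
    [IsProper (X ↘ (Spec (CommRingCat.of k)))] [Smooth (X ↘ (Spec (CommRingCat.of k)))]
    (hdim : topologicalKrullDim X = 1)
    (h0 : Module.finrank k (Coh.HH X (Coh.structureModule X) 0) = 1)
    (L : X.Modules) (hL : PicF.IsInvertible L) (m : ℕ) :
    Curv2.deg k X (PrinPart.PMod (X ↘ (Spec (CommRingCat.of k))) m L) (m + 1) =
      (m + 1 : ℤ) * Curv2.deg k X L 1 +
        (2 * (Curv2.genus k X : ℤ) - 2) * ((m * (m + 1) / 2 : ℕ) : ℤ) := by
  let f := X ↘ Spec (CommRingCat.of k)
  haveI : SmoothOfRelativeDimension 1 f :=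
    GenSmoothLib.smoothOfRelativeDimension_toField f (d := 1) (by rw [hdim]; rfl)
  haveI : X.IsSeparated := isSeparated_of_proper (X := X) k
  let Δ := pullback.diagonal f
  let ι := Δ.coborderRange.ι
  have hcl : IsClosed (Set.range Δ) := Δ.isClosedEmbedding.isClosed_range
  haveI : Surjective ι := ⟨fun y => by
    have hy : y ∈ Set.range ι := by
      rw [Scheme.Opens.range_ι]
      show y ∈ coborder (Set.range Δ)
      rw [hcl.coborder_eq]
      trivial
    exact hy⟩
  haveI : IsIso ι := (isIso_iff_isOpenImmersion_and_epi_base ι).2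
    ⟨inferInstance, (TopCat.epi_iff_surjective _).2 ι.surjective⟩
  let s := PrinPart.diagCl f
  have hsι : s ≫ ι = Δ := Scheme.Hom.liftCoborder_ι _
  letI : (Δ.coborderRange : Scheme.{u}).Over (Spec (CommRingCat.of k)) := ⟨ι ≫ pullback.fst f f ≫ f⟩
  haveI : IsProper ((Δ.coborderRange : Scheme.{u}) ↘ Spec (CommRingCat.of k)) := by
    show IsProper (ι ≫ pullback.fst f f ≫ f); infer_instance
  have hs : s ≫ ((Δ.coborderRange : Scheme.{u}) ↘ Spec (CommRingCat.of k)) = f := by
    show s ≫ ι ≫ pullback.fst f f ≫ f = f
    rw [← Category.assoc, hsι, pullback.diagonal_fst_assoc]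
  have hJeq : Δ.ker.comap ι = s.ker := by
    have h : IsPullback s (𝟙 X) ι Δ := IsPullback.of_vert_isIso ⟨by rw [hsι, Category.id_comp]⟩
    refine (Scheme.IdealSheafData.ker_fst_of_isClosedImmersion _ _).symm.trans ?_
    conv_rhs => rw [← h.isoPullback_hom_fst]
    rw [Scheme.Hom.ker_comp_of_isIso]
  have hJ : BlowUp.IsEffCartierIdeal s.ker := by
    haveI := smoothOfRelativeDimension_isStableUnderBaseChange.{u} 1
    haveI : SmoothOfRelativeDimension 1 (pullback.snd f f) :=
      MorphismProperty.pullback_snd (P := @SmoothOfRelativeDimension 1) _ _ ‹_›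
    haveI : SmoothOfRelativeDimension (0 + 1) (ι ≫ pullback.snd f f) := inferInstance
    refine DivCurve29.isEffCartier (ι ≫ pullback.snd f f) _ ?_
    have e : s.ker.subschemeι ≫ ι ≫ pullback.snd f f = inv s.toImage := by
      apply (cancel_epi s.toImage).1
      rw [IsIso.hom_inv_id, s.toImage_imageι_assoc, reassoc_of% hsι, pullback.diagonal_snd]
    rw [e]
    exact ⟨inferInstance, inferInstance, inferInstance⟩
  let M := (Scheme.Modules.pullback (ι ≫ pullback.snd f f)).obj L
  have hM : PicF.IsInvertible M := PicLoc.isInvertible_pullback _ hL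
  -- the restrictions to the diagonal
  obtain ⟨eM⟩ : Nonempty ((Scheme.Modules.pullback s).obj M ≅ L) :=
    ⟨(Scheme.Modules.pullbackComp s (ι ≫ pullback.snd f f) ≪≫
      Scheme.Modules.pullbackCongr (show s ≫ ι ≫ pullback.snd f f = 𝟙 X by
        rw [← Category.assoc, hsι, pullback.diagonal_snd]) ≪≫ Scheme.Modules.pullbackId X).app L⟩
  have hI := FlatMor12.IdealModGen.isInvertible_idealMod _ hJ
  obtain ⟨eI⟩ : Nonempty ((Scheme.Modules.pullback s).obj (ClSub.idealMod s.ker) ≅ Omega.sheaf f) := by
    obtain ⟨e⟩ := Inters29.nonempty_pullback_idealMod_iso ι Δ.ker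
      (PicTau27.isEffCartier_diagonal (k := k) (C := X)) (by rw [hJeq]; exact hJ)
    rw [← hJeq]
    exact ⟨(Scheme.Modules.pullback s).mapIso e.symm ≪≫
      (Scheme.Modules.pullbackComp s ι ≪≫ Scheme.Modules.pullbackCongr hsι).app _⟩
  have hΩ := (S1612.result k X ⟨inferInstance, inferInstance, inferInstance, hdim⟩ h0).2
  have hdegI : ∀ j : ℕ, Curv2.deg k X ((Scheme.Modules.pullback s).obj
      (CohB1.tensorPow (ClSub.idealMod s.ker) j)) 1 = j * (2 * (Curv2.genus k X : ℤ) - 2) := by
    intro j
    induction j with
    | zero =>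
      obtain ⟨p0⟩ := exists_pullStructureIso s
      show Curv2.deg k X ((Scheme.Modules.pullback s).obj (Coh.structureModule _)) 1 = _
      rw [deg_congr k p0, deg_structure]; simp
    | succ j ih =>
      obtain ⟨e⟩ := exists_pullTensorIso s (isInvertible_tensorPow hI j) hI
      show Curv2.deg k X ((Scheme.Modules.pullback s).obj
        (CohB1.tensorMod (CohB1.tensorPow (ClSub.idealMod s.ker) j) (ClSub.idealMod s.ker))) 1 = _
      rw [deg_congr k e, deg_tensor k hdim.le (PicLoc.isInvertible_pullback s (isInvertible_tensorPow hI j))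
        (PicLoc.isInvertible_pullback s hI), ih, deg_congr k eI, hΩ]
      push_cast; ring
  have hterm : ∀ j : ℕ, Curv2.euler k X ((Scheme.Modules.pullback s).obj (JetDeg19179.tw s M j)) =
      Curv2.deg k X L 1 + j * (2 * (Curv2.genus k X : ℤ) - 2) +
        Curv2.euler k X (Coh.structureModule X) := by
    intro j
    obtain ⟨e⟩ := exists_pullTensorIso s hM (isInvertible_tensorPow hI j)
    have h := deg_tensor k hdim.le (PicLoc.isInvertible_pullback s hM)
      (PicLoc.isInvertible_pullback s (isInvertible_tensorPow hI j))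
    rw [hdegI, deg_congr k eM, ← deg_congr k e] at h
    rw [← h, Curv2.deg]
    push_cast; ring
  -- the neighbourhood
  letI : (s.ker ^ (m + 1)).subscheme.Over (Spec (CommRingCat.of k)) :=
    ⟨(s.ker ^ (m + 1)).subschemeι ≫ ((Δ.coborderRange : Scheme.{u}) ↘ Spec (CommRingCat.of k))⟩
  have hN := PicLoc.isInvertible_pullback (s.ker ^ (m + 1)).subschemeι hM
  let eN : (Scheme.Modules.pullback (PrinPart.pr2 f m)).obj L ≅
      (Scheme.Modules.pullback (s.ker ^ (m + 1)).subschemeι).obj M :=
    (Scheme.Modules.pullbackCongr (show PrinPart.pr2 f m = (s.ker ^ (m + 1)).subschemeι ≫ ι ≫ pullback.snd f f from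
      Category.assoc _ _ _) ≪≫ (Scheme.Modules.pullbackComp _ _).symm).app L
  haveI := isQCoh_of_isInvertible (PicLoc.isInvertible_pullback (PrinPart.pr2 f m) hL)
  have hpush := AbCubeLib.euler_push k (X := X) (X' := (s.ker ^ (m + 1)).subscheme) (PrinPart.pr1 f m)
    (by
      show PrinPart.pr1 f m ≫ f = (s.ker ^ (m + 1)).subschemeι ≫ ι ≫ pullback.fst f f ≫ f
      simp only [PrinPart.pr1, PrinPart.nbhdι, PrinPart.infNbhdι, Category.assoc]
      rfl)
    ((Scheme.Modules.pullback (PrinPart.pr2 f m)).obj L)
  have hmain := JetDeg19179.euler_thick k s hs hJ hM m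
  rw [← euler_congr k _ eN] at hmain
  rw [hmain] at hpush
  rw [Curv2.deg]
  show Curv2.euler k X ((Coh.push (PrinPart.pr1 f m)).obj ((Scheme.Modules.pullback (PrinPart.pr2 f m)).obj L)) - _ = _
  rw [← hpush, Finset.sum_congr rfl (fun j _ => hterm j)]
  have hsum : (∑ j ∈ Finset.range (m + 1), (j : ℤ)) = ((m * (m + 1) / 2 : ℕ) : ℤ) := by
    rw [← Nat.cast_sum, Finset.sum_range_id, Nat.mul_comm, Nat.add_sub_cancel]
  simp only [Finset.sum_add_distrib, Finset.sum_const, Finset.card_range, ← Finset.sum_mul, hsum]
  push_cast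
  ring

end Groth.Agent.S19179
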