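import Groth.Statements.S19180
import Groth.Agent.Coherent.FiniteType
import Groth.Agent.Coherent.ProjSpaceCoh
import Groth.Agent.CAlgH3.ModCohSeq

set_option autoImplicit false
universe u
open Coherent

open CategoryTheory AlgebraicGeometry Opposite Groth.Agent.Coherent
set_option backward.isDefEq.respectTransparency false
set_option backward.isDefEq.respectTransparency.types false

namespace Groth.Agent.S19180

open CategoryTheory AlgebraicGeometry in
/-- Let R be a local ring and m ≥ 1, and consider the projective line P¹_R with its structure sheaf O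
and twisting sheaf O(m). For every O-module F and every short exact sequence 0 → O(m) → F → O → 0 of
O-modules, the surjection F → O admits a section; consequently F is isomorphic to O(m) ⊕ O. -/
theorem result (R : Type u) [CommRing R] [IsLocalRing R]
    (m : ℕ) (hm : 1 ≤ m) (F : (CohB1.ProjSpace 1 R).Modules)
    (i : Twist.twistProjSpace 1 R (m : ℤ) ⟶ F) (p : F ⟶ Coh.structureModule (CohB1.ProjSpace 1 R))
    (w : i ≫ p = 0) (hex : (ShortComplex.mk i p w).ShortExact) :
    ∃ s : Coh.structureModule (CohB1.ProjSpace 1 R) ⟶ F, s ≫ p = 𝟙 _ := by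
  have hv : Groth.Agent.CAlgH3.ModCohSeq.V (Twist.twistProjSpace 1 R (m : ℤ)) 1 :=
    Groth.Agent.Coherent.subsingleton_HH_twist (n := 1) (R := R) (d := (m : ℤ)) 1 (by omega) (by omega)
  obtain ⟨a, ha⟩ := Groth.Agent.CAlgH3.ModCohSeq.surjective_top hex hv (1 : Γ(CohB1.ProjSpace 1 R, ⊤))
  refine ⟨unitDesc F a, ?_⟩
  ext V (r : Γ(CohB1.ProjSpace 1 R, V))
  refine (app_unit (unitDesc F a ≫ p) r).trans ?_
  have h : unitVal (unitDesc F a ≫ p) V = (1 : Γ(CohB1.ProjSpace 1 R, V)) := by
    show p.app V (unitVal (unitDesc F a) V) = _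
    rw [unitVal_unitDesc]
    refine (app_resM p le_top a).trans ?_
    refine (congrArg (resM _ le_top) ha).trans ?_
    exact map_one ((CohB1.ProjSpace 1 R).presheaf.map (homOfLE (le_top : V ≤ ⊤)).op).hom
  rw [h]
  exact mul_one r

end Groth.Agent.S19180
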