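import Groth.Statements.S19181
import Mathlib
import Groth.Prelude
import Groth.Agent.CAlgMisc2.Normal

set_option linter.all false

set_option autoImplicit false
universe u
open CAlg

open AlgebraicGeometry CategoryTheory DirectSum

namespace Groth.Agent.S19181

section
open Polynomial
theorem mem_of_pow_mul_mem {R : Type*} [CommRing R] (g : MvPolynomial (Fin 2) R)
    (q : R[X]) (hq : MvPolynomial.aeval ![(0 : R[X]), X] g = q) (hreg : IsSMulRegular R[X] q)
    (s : MvPolynomial (Fin 2) R) (h : MvPolynomial.X 0 * s ∈ Ideal.span {g}) : s ∈ Ideal.span {g} := by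
  let π : MvPolynomial (Fin 2) R →ₐ[R] R[X] := MvPolynomial.aeval ![(0 : R[X]), X]
  let i : R[X] →ₐ[R] MvPolynomial (Fin 2) R := Polynomial.aeval (MvPolynomial.X 1)
  have hker : ∀ z, MvPolynomial.X 0 ∣ z - i (π z) := by
    intro z
    induction z using MvPolynomial.induction_on with
    | C a => simp [π, i]
    | add a b ha hb =>
      rw [map_add, map_add, add_sub_add_comm]; exact dvd_add ha hb
    | mul_X a l ha =>
      obtain ⟨c, hc⟩ := ha
      rw [map_mul, map_mul]
      fin_cases l
      · exact ⟨a, by simp [π, i]; ring⟩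
      · exact ⟨c * MvPolynomial.X 1, by
          simp [π, i] at hc ⊢
          linear_combination MvPolynomial.X (1 : Fin 2) * hc⟩
  obtain ⟨c, hc⟩ := Ideal.mem_span_singleton.1 h
  have h0 : π c = 0 := by
    have := congrArg π hc
    rw [map_mul, map_mul, show π (MvPolynomial.X 0) = 0 by simp [π], zero_mul, show π g = q from hq] at this
    exact (isSMulRegular_iff_right_eq_zero_of_smul.1 hreg) _ (show q • π c = 0 from this.symm)
  obtain ⟨d, hd⟩ := hker c
  rw [h0, map_zero, sub_zero] at hd
  refine Ideal.mem_span_singleton.2 ⟨d, ?_⟩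
  subst hd
  have hX : IsLeftRegular (MvPolynomial.X 0 : MvPolynomial (Fin 2) R) := fun u v huv => by
    ext m
    have := congrArg (MvPolynomial.coeff (m + Finsupp.single 0 1)) huv
    rw [add_comm m] at this
    simpa [MvPolynomial.coeff_X_mul] using this
  exact hX (show MvPolynomial.X 0 * s = MvPolynomial.X 0 * (g * d) by rw [hc]; ring)

theorem sat_iff {R : Type*} [CommRing R] (g : MvPolynomial (Fin 2) R)
    (q : R[X]) (hq : MvPolynomial.aeval ![(0 : R[X]), X] g = q) (hreg : IsSMulRegular R[X] q) (s : MvPolynomial (Fin 2) R) :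
    (∃ n : ℕ, MvPolynomial.X 0 ^ n * s ∈ Ideal.span {MvPolynomial.X 0 ^ 2 * g}) ↔ s ∈ Ideal.span {g} := by
  constructor
  · rintro ⟨n, hn⟩
    have h1 : MvPolynomial.X 0 ^ n * s ∈ Ideal.span {g} :=
      Ideal.mem_span_singleton.2 ((dvd_mul_left g _).trans (Ideal.mem_span_singleton.1 hn))
    clear hn
    induction n generalizing s with
    | zero => simpa using h1
    | succ n ih =>
      exact mem_of_pow_mul_mem g q hq hreg s (ih (MvPolynomial.X 0 * s) (by rw [← mul_assoc, ← pow_succ]; exact h1))
  · intro hs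
    obtain ⟨c, rfl⟩ := Ideal.mem_span_singleton.1 hs
    exact ⟨2, Ideal.mem_span_singleton.2 ⟨c, by ring⟩⟩
end

open MvPolynomial in
/-- Let R be a commutative ring, a₁, a₂ ∈ R, and C ⊂ A²_R the curve y² + a₁xy = x³ + a₂x², blown up at
the section x = y = 0. In the chart where x = yα (variables y = X 0, α = X 1) the equation of C
becomes y²·g₁ with g₁ = 1 + a₁α − yα³ − a₂α², and the y-saturation of the ideal (y²g₁) is (g₁): for
s ∈ R[y, α], some yⁿs lies in (y²g₁) if and only if s ∈ (g₁). In the chart where y = xβ (variables x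
= X 0, β = X 1) the equation becomes x²·g₂ with g₂ = β² + a₁β − x − a₂, and some xⁿs lies in (x²g₂)
if and only if s ∈ (g₂). In other words the strict transform of C is cut out by g₁, resp. g₂, in the
two charts. -/
theorem result (R : Type u) [CommRing R] (a₁ a₂ : R) :
    (∀ s : MvPolynomial (Fin 2) R,
      (∃ n : ℕ, X 0 ^ n * s ∈ Ideal.span ({X 0 ^ 2 * (1 + C a₁ * X 1 - X 0 * X 1 ^ 3 - C a₂ * X 1 ^ 2)} :
        Set (MvPolynomial (Fin 2) R))) ↔
      s ∈ Ideal.span ({1 + C a₁ * X 1 - X 0 * X 1 ^ 3 - C a₂ * X 1 ^ 2} : Set (MvPolynomial (Fin 2) R))) ∧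
    (∀ s : MvPolynomial (Fin 2) R,
      (∃ n : ℕ, X 0 ^ n * s ∈ Ideal.span ({X 0 ^ 2 * (X 1 ^ 2 + C a₁ * X 1 - X 0 - C a₂)} :
        Set (MvPolynomial (Fin 2) R))) ↔
      s ∈ Ideal.span ({X 1 ^ 2 + C a₁ * X 1 - X 0 - C a₂} : Set (MvPolynomial (Fin 2) R))) := by
  refine ⟨fun s => sat_iff _ (1 + Polynomial.C a₁ * Polynomial.X - Polynomial.C a₂ * Polynomial.X ^ 2) (by simp) ?_ s,
    fun s => sat_iff _ (Polynomial.X ^ 2 + Polynomial.C a₁ * Polynomial.X - Polynomial.C a₂) (by simp) ?_ s⟩
  · rw [isSMulRegular_iff_right_eq_zero_of_smul]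
    intro z hz
    rw [smul_eq_mul] at hz
    ext n
    induction n using Nat.strong_induction_on with
    | _ n ih =>
      have := congrArg (fun f => Polynomial.coeff f n) hz
      simp only [sub_mul, add_mul, one_mul, mul_assoc, Polynomial.coeff_add, Polynomial.coeff_sub, Polynomial.coeff_C_mul, Polynomial.coeff_zero] at this
      rcases n with _ | n
      · simpa [Polynomial.coeff_X_mul_zero, Polynomial.coeff_X_pow_mul'] using this
      rcases n with _ | n
      · have h0 := ih 0 (by norm_num)
        simpa [Polynomial.coeff_X_mul, Polynomial.coeff_X_pow_mul', h0] using this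
      · have h0 := ih n (by omega)
        have h1 := ih (n + 1) (by omega)
        simpa [Polynomial.coeff_X_mul, Polynomial.coeff_X_pow_mul', h0, h1] using this
  · have hm : (Polynomial.X ^ 2 + Polynomial.C a₁ * Polynomial.X - Polynomial.C a₂ : Polynomial R).Monic := by monicity!
    exact hm.isRegular.left

end Groth.Agent.S19181
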