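import Groth.Statements.S19182
import Mathlib
import Groth.Prelude

set_option linter.all false

set_option autoImplicit false
universe u
open CAlg


namespace Groth.Agent.S19182

open MvPolynomial in
/-- Let R be a commutative ring and a₁, a₂ ∈ R. The two affine charts of the blow-up of the plane curve
y² + a₁xy = x³ + a₂x² at the section x = y = 0, with coordinate rings R[y, α]/(1 + a₁α − yα³ − a₂α²)
and R[x, β]/(β² + a₁β − x − a₂) (variables indexed 0 and 1 in this order), are smooth R-algebras
(formally smooth of finite presentation). This is the local computation behind the statement that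
the blow-up of a Weierstrass curve along a section through its singular locus is a smooth proper
curve of genus 0. -/
theorem result (R : Type u) [CommRing R] (a₁ a₂ : R) :
    Algebra.Smooth R (MvPolynomial (Fin 2) R ⧸
      Ideal.span ({1 + C a₁ * X 1 - X 0 * X 1 ^ 3 - C a₂ * X 1 ^ 2} : Set (MvPolynomial (Fin 2) R))) ∧
    Algebra.Smooth R (MvPolynomial (Fin 2) R ⧸
      Ideal.span ({X 1 ^ 2 + C a₁ * X 1 - X 0 - C a₂} : Set (MvPolynomial (Fin 2) R))) := by
  constructor
  · let g : MvPolynomial (Fin 2) R := 1 + MvPolynomial.C a₁ * MvPolynomial.X 1 - MvPolynomial.X 0 * MvPolynomial.X 1 ^ 3 - MvPolynomial.C a₂ * MvPolynomial.X 1 ^ 2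
    let A := MvPolynomial (Fin 2) R ⧸ Ideal.span {g}
    let X' : Fin 2 → A := fun i => Ideal.Quotient.mk _ (MvPolynomial.X i)
    have hg : (1 : A) + algebraMap R A a₁ * X' 1 - X' 0 * X' 1 ^ 3 - algebraMap R A a₂ * X' 1 ^ 2 = 0 := by
      have h0 : Ideal.Quotient.mk (Ideal.span {g}) g = 0 := Ideal.Quotient.eq_zero_iff_mem.2 (Ideal.mem_span_singleton_self g)
      simp only [g, map_sub, map_add, map_mul, map_pow, map_one] at h0
      exact h0
    let T := Localization.Away (Polynomial.X : Polynomial R)
    let Y : T := algebraMap (Polynomial R) T Polynomial.X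
    obtain ⟨uY, huY⟩ : IsUnit Y := IsLocalization.Away.algebraMap_isUnit _
    let toT : MvPolynomial (Fin 2) R →ₐ[R] T :=
      MvPolynomial.aeval ![(1 + algebraMap R T a₁ * Y - algebraMap R T a₂ * Y ^ 2) * (↑uY⁻¹ : T) ^ 3, Y]
    have hu : (↑uY⁻¹ : T) * Y = 1 := by rw [← huY, Units.inv_mul]
    let F : A →ₐ[R] T := Ideal.Quotient.liftₐ _ toT (fun z hz => by
      obtain ⟨c, rfl⟩ := Ideal.mem_span_singleton.1 hz
      rw [map_mul]
      have : toT g = 0 := by
        simp only [g, toT, map_sub, map_add, map_mul, map_pow, map_one, MvPolynomial.aeval_X, MvPolynomial.aeval_C, Matrix.cons_val_zero, Matrix.cons_val_one]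
        linear_combination -(1 + algebraMap R T a₁ * Y - algebraMap R T a₂ * Y ^ 2) * ((↑uY⁻¹ * Y) ^ 2 + ↑uY⁻¹ * Y + 1) * hu
      rw [this, zero_mul])
    have hyu : IsUnit (X' 1) := IsUnit.of_mul_eq_one (X' 0 * X' 1 ^ 2 + algebraMap R A a₂ * X' 1 - algebraMap R A a₁) (by linear_combination -hg)
    let G0 : Polynomial R →ₐ[R] A := Polynomial.aeval (X' 1)
    let G : T →ₐ[R] A := IsLocalization.liftAlgHom (M := Submonoid.powers (Polynomial.X : Polynomial R)) (f := G0) (by
      rintro ⟨_, k, rfl⟩
      rw [map_pow]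
      exact (show IsUnit (G0 Polynomial.X) by simp only [G0, Polynomial.aeval_X]; exact hyu).pow k)
    have hGY : G Y = X' 1 := by
      show G (algebraMap (Polynomial R) T Polynomial.X) = _
      simp [G, G0, T]
    have hGu : X' 1 * G (↑uY⁻¹ : T) = 1 := by rw [← hGY, ← map_mul, mul_comm, hu, map_one]
    have h1 : G.comp F = AlgHom.id R A := Ideal.Quotient.algHom_ext _ (MvPolynomial.algHom_ext fun i => by
      show G (toT (MvPolynomial.X i)) = X' i
      fin_cases i
      · simp only [toT, Fin.zero_eta, MvPolynomial.aeval_X, Matrix.cons_val_zero, map_mul, map_sub, map_add, map_pow, map_one, AlgHom.commutes, hGY]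
        linear_combination G (↑uY⁻¹ : T) ^ 3 * hg + X' 0 * ((X' 1 * G (↑uY⁻¹ : T)) ^ 2 + X' 1 * G (↑uY⁻¹ : T) + 1) * hGu
      · simpa [toT] using hGY)
    have h2 : F.comp G = AlgHom.id R T := by
      refine IsLocalization.algHom_ext (Submonoid.powers (Polynomial.X : Polynomial R)) (Polynomial.algHom_ext ?_)
      show F (G Y) = Y
      rw [hGY]
      show toT (MvPolynomial.X 1) = Y
      simp [toT]
    haveI : Algebra.Smooth (Polynomial R) T := Algebra.Smooth.of_isLocalization_Away (Polynomial.X : Polynomial R)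
    haveI : Algebra.Smooth R (Polynomial R) := ⟨inferInstance, inferInstance⟩
    haveI : Algebra.Smooth R T := Algebra.Smooth.comp R (Polynomial R) T
    exact Algebra.Smooth.of_equiv (AlgEquiv.ofAlgHom F G h2 h1).symm
  · let g : MvPolynomial (Fin 2) R := MvPolynomial.X 1 ^ 2 + MvPolynomial.C a₁ * MvPolynomial.X 1 - MvPolynomial.X 0 - MvPolynomial.C a₂
    let A := MvPolynomial (Fin 2) R ⧸ Ideal.span {g}
    let toT : MvPolynomial (Fin 2) R →ₐ[R] Polynomial R :=
      MvPolynomial.aeval ![Polynomial.X ^ 2 + Polynomial.C a₁ * Polynomial.X - Polynomial.C a₂, Polynomial.X]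
    let F : A →ₐ[R] Polynomial R := Ideal.Quotient.liftₐ _ toT (fun z hz => by
      obtain ⟨c, rfl⟩ := Ideal.mem_span_singleton.1 hz
      rw [map_mul]
      have : toT g = 0 := by simp [g, toT]
      rw [this, zero_mul])
    let G : Polynomial R →ₐ[R] A := Polynomial.aeval (Ideal.Quotient.mk _ (MvPolynomial.X 1))
    have h1 : G.comp F = AlgHom.id R A := Ideal.Quotient.algHom_ext _ (MvPolynomial.algHom_ext fun i => by
      show G (toT (MvPolynomial.X i)) = Ideal.Quotient.mk _ (MvPolynomial.X i)
      fin_cases i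
      · simp only [toT, G, Fin.zero_eta, MvPolynomial.aeval_X, Matrix.cons_val_zero, map_sub, map_add, map_mul, map_pow, Polynomial.aeval_X, Polynomial.aeval_C]
        rw [← Ideal.Quotient.mk_algebraMap, ← Ideal.Quotient.mk_algebraMap, ← map_pow, ← map_mul, ← map_add, ← map_sub, Ideal.Quotient.eq]
        exact Ideal.mem_span_singleton.2 ⟨1, by simp [g, MvPolynomial.algebraMap_eq]; ring⟩
      · simp [toT, G])
    have h2 : F.comp G = AlgHom.id R (Polynomial R) := Polynomial.algHom_ext (by
      show F (G Polynomial.X) = Polynomial.X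
      simp only [G, Polynomial.aeval_X]
      show toT (MvPolynomial.X 1) = Polynomial.X
      simp [toT])
    haveI : Algebra.Smooth R (Polynomial R) := ⟨inferInstance, inferInstance⟩
    exact Algebra.Smooth.of_equiv (AlgEquiv.ofAlgHom F G h2 h1).symm

end Groth.Agent.S19182
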