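import Groth.Statements.S19183
import Mathlib.RingTheory.Etale.Weakly
import Mathlib.RingTheory.HopkinsLevitzki
import Mathlib.RingTheory.LocalRing.Pullback
import Mathlib.RingTheory.PicardGroup
import Mathlib.RingTheory.TotallySplit
import Mathlib.RingTheory.WittVector.Basic
import Mathlib.Tactic
import Groth.Agent.CommAlg4.Nilpotent

set_option linter.all false

set_option autoImplicit false
universe u
open CAlg

open Groth.Agent.CommAlg4

namespace Groth.Agent.S19183

/-- Let A be a non-zero commutative ring and f ∈ A a non-zero-divisor. The fibre product A ×_{A/(f)} A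
of two copies of A over A/(f) — the A-submodule of A × A of pairs (x, y) with x − y ∈ (f), which is
the coordinate ring of two copies of Spec A glued along the Cartier divisor f = 0 — is a free
A-module of rank 2. (This is what makes the gluing of two copies of a curve along an effective
Cartier divisor finite locally free of degree 2 over the curve.) -/
theorem result (A : Type u) [CommRing A] [Nontrivial A]
    (f : A) (hf : f ∈ nonZeroDivisors A) :
    Module.Free A (Submodule.comap (LinearMap.fst A A A - LinearMap.snd A A A) (Ideal.span ({f} : Set A))) ∧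
      Module.finrank A (Submodule.comap (LinearMap.fst A A A - LinearMap.snd A A A) (Ideal.span ({f} : Set A))) = 2 := by
  let l : (A × A) →ₗ[A] A × A := (LinearMap.fst A A A + f • LinearMap.snd A A A).prod (LinearMap.fst A A A)
  have hl : ∀ x, l x ∈ Submodule.comap (LinearMap.fst A A A - LinearMap.snd A A A) (Ideal.span ({f} : Set A)) := by
    intro x; exact Ideal.mem_span_singleton.mpr ⟨x.2, by simp [l]⟩
  let g := l.codRestrict _ hl
  have hg : Function.Bijective g := by
    constructor
    · intro a b h
      have h2 : a.1 = b.1 := congrArg (fun z => z.1.2) h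
      have h1 : a.1 + f * a.2 = b.1 + f * b.2 := congrArg (fun z => z.1.1) h
      refine Prod.ext h2 ?_
      rwa [h2, add_right_inj, mul_cancel_left_mem_nonZeroDivisors hf] at h1
    · rintro ⟨⟨a, b⟩, h⟩
      obtain ⟨c, hc⟩ := Ideal.mem_span_singleton.mp h
      exact ⟨(b, c), Subtype.ext (Prod.ext (by simp [g, l] at hc ⊢; rw [← hc]; ring) rfl)⟩
  let e := LinearEquiv.ofBijective g hg
  exact ⟨Module.Free.of_equiv e, by rw [← e.finrank_eq]; simp⟩

end Groth.Agent.S19183
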