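import Groth.Statements.S19184
import Mathlib.Algebra.Module.StablyFree.Basic
import Mathlib.Algebra.Order.Ring.Star
import Mathlib.Data.Int.ConditionallyCompleteOrder
import Mathlib.Order.CompletePartialOrder
import Mathlib.RingTheory.Flat.TorsionFree
import Mathlib.RingTheory.LaurentSeries
import Mathlib.RingTheory.LocalRing.Pullback
import Mathlib.RingTheory.SimpleRing.Principal
import Mathlib.RingTheory.TotallySplit
import Mathlib.Topology.Algebra.Module.ModuleTopology
import Mathlib.Topology.Instances.Matrix
import Mathlib.Tactic

set_option linter.all false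

set_option autoImplicit false
universe u
open CAlg


namespace Groth.Agent.S19184

open Polynomial in
/-- Let S be a commutative ring, a, b ∈ S, f = x² + ax + b ∈ S[x] and R = S[x]/(f), a free S-algebra of
rank 2. Let A ⊂ S[x] be the S-subalgebra of polynomials whose class in R lies in the image of S → R;
it is the fibre product S[x] ×_R S, the coordinate ring of the affine line over S with the degree-2
subscheme Spec R collapsed onto Spec S. Then A is a free S-module and S[x] is a finitely generated
A-module. -/
theorem result (S : Type u) [CommRing S] (a b : S) :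
    Module.Free S ((⊥ : Subalgebra S (S[X] ⧸ Ideal.span ({X ^ 2 + C a * X + C b} : Set S[X]))).comap
        (Ideal.Quotient.mkₐ S (Ideal.span ({X ^ 2 + C a * X + C b} : Set S[X])))) ∧
      Module.Finite ((⊥ : Subalgebra S (S[X] ⧸ Ideal.span ({X ^ 2 + C a * X + C b} : Set S[X]))).comap
        (Ideal.Quotient.mkₐ S (Ideal.span ({X ^ 2 + C a * X + C b} : Set S[X])))) S[X] := by
  classical
  rcases subsingleton_or_nontrivial S with hS | hS
  · have : Subsingleton (Polynomial S) := inferInstance
    refine ⟨Module.Free.of_subsingleton' S _, ⟨⟨∅, Subsingleton.elim _ _⟩⟩⟩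
  set q : Polynomial S := Polynomial.X ^ 2 + Polynomial.C a * Polynomial.X + Polynomial.C b with hq
  set J := Ideal.span ({q} : Set (Polynomial S))
  set B := (⊥ : Subalgebra S (Polynomial S ⧸ J)).comap (Ideal.Quotient.mkₐ S J) with hB
  have hmon : q.Monic := by rw [hq]; monicity!
  have hdeg : q.natDegree = 2 := by rw [hq]; compute_degree!
  have hmem : ∀ x, x ∈ B ↔ ∃ c : S, q ∣ x - Polynomial.C c := by
    intro x
    simp only [hB, Subalgebra.mem_comap, Algebra.mem_bot, Set.mem_range, Ideal.Quotient.mkₐ_eq_mk]
    refine exists_congr fun c => ?_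
    rw [eq_comm, ← Ideal.mem_span_singleton, ← Ideal.Quotient.eq]
    rfl
  constructor
  · let l : (S × Polynomial S) →ₗ[S] Polynomial S :=
      (Algebra.linearMap S (Polynomial S)).coprod ((LinearMap.mulLeft S q))
    have hl : ∀ x, l x ∈ B.toSubmodule := fun x => (hmem _).mpr ⟨x.1, x.2, by simp [l]⟩
    let g := l.codRestrict _ hl
    have hgb : Function.Bijective g := by
      constructor
      · rw [injective_iff_map_eq_zero]
        rintro ⟨c, x⟩ h
        have h' : Polynomial.C c + q * x = 0 := by
          have := congrArg Subtype.val h
          simpa [g, l] using this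
        have hx : x = 0 := by
          by_contra hx
          have h2 : (q * x).natDegree = 2 + x.natDegree := by rw [hmon.natDegree_mul' hx, hdeg]
          rw [eq_neg_of_add_eq_zero_right h', Polynomial.natDegree_neg, Polynomial.natDegree_C] at h2
          omega
        subst hx
        simp at h'
        simp [h']
      · rintro ⟨x, hx⟩
        obtain ⟨c, y, hy⟩ := (hmem x).mp hx
        exact ⟨(c, y), Subtype.ext (by simp [g, l, ← hy])⟩
    exact Module.Free.of_equiv (LinearEquiv.ofBijective g hgb)
  · refine ⟨⟨{1, Polynomial.X}, eq_top_iff.mpr fun x _ => ?_⟩⟩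
    set M := Submodule.span B (({1, Polynomial.X} : Finset (Polynomial S)) : Set (Polynomial S))
    have hqB : q ∈ B := (hmem q).mpr ⟨0, by simp⟩
    have hM : ∀ r ∈ M, ∀ c : B, (c : Polynomial S) * r ∈ M := fun r hr c => M.smul_mem c hr
    have hC : ∀ c : S, ∀ r ∈ M, Polynomial.C c * r ∈ M := fun c r hr => hM r hr ⟨Polynomial.C c, B.algebraMap_mem c⟩
    have h1 : (1 : Polynomial S) ∈ M := Submodule.subset_span (by simp)
    have hXm : (Polynomial.X : Polynomial S) ∈ M := Submodule.subset_span (by simp)
    have hX2 : Polynomial.X * Polynomial.X ∈ M := by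
      have e : Polynomial.X * Polynomial.X = q * 1 + Polynomial.C (-a) * Polynomial.X + Polynomial.C (-b) * 1 := by
        rw [hq]; simp; ring
      rw [e]
      exact add_mem (add_mem (hM 1 h1 ⟨q, hqB⟩) (hC _ _ hXm)) (hC _ _ h1)
    have hXmul : ∀ r ∈ M, Polynomial.X * r ∈ M := by
      intro r hr
      induction hr using Submodule.span_induction with
      | mem y hy =>
        simp only [Finset.coe_insert, Finset.coe_singleton, Set.mem_insert_iff, Set.mem_singleton_iff] at hy
        rcases hy with rfl | rfl
        · simpa using hXm
        · exact hX2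
      | zero => simp
      | add p r _ _ hp hr => rw [mul_add]; exact add_mem hp hr
      | smul c p _ hp => rw [show Polynomial.X * (c • p) = c • (Polynomial.X * p) from mul_smul_comm c _ p]; exact M.smul_mem c hp
    induction x using Polynomial.induction_on with
    | C c => simpa using hC c 1 h1
    | add p r hp hr => exact add_mem (hp trivial) (hr trivial)
    | monomial n c ih =>
      have h := hXmul _ (ih trivial)
      rwa [show Polynomial.X * (Polynomial.C c * Polynomial.X ^ n) = Polynomial.C c * Polynomial.X ^ (n + 1) by ring] at h

end Groth.Agent.S19184
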