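import Groth.Statements.S19185
import Mathlib
-- import your own Groth.Agent.* helpers here

set_option autoImplicit false
universe u
open Curves

namespace Groth.Agent.S19185

/-- Let k be a field, n ≥ 3, q a binary quadratic form and ξ a binary form of degree n over k, given by
coefficient vectors (q_i the coefficient of x^i y^(2−i), ξ_j that of x^j y^(n−j)), not both zero.
The pair (q, ξ) is a global section of O(2) ⊕ O(n) on P¹_k, i.e. of the line bundle of class e + nf
on the Hirzebruch surface F_{n−2} = P(O ⊕ O(n−2)) → P¹_k, and cuts out the curve W : q·u + ξ·v = 0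
there ([u : v] the fibre coordinates). Over the two standard opens of P¹ (t = x/y, s = y/x) and the
two opens u ≠ 0, v ≠ 0 of the fibres, W is covered by four affine charts with coordinate rings k[t,
w]/(q(t,1) + ξ(t,1)·w), k[t, w]/(q(t,1)·w + ξ(t,1)), k[s, w]/(q(1,s) + ξ(1,s)·w) and k[s,
w]/(q(1,s)·w + ξ(1,s)) (variables indexed 0 for t or s and 1 for w). Then W is smooth over k — all
four chart algebras are smooth k-algebras — if and only if the resultant of q and ξ (the Sylvester
determinant of the two coefficient vectors with size parameters 2 and n) is nonzero. (The published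
statement is over a general base scheme B, for a section (q, ξ) vanishing on no fibre, with 'the
resultant is a unit on B' in place of 'nonzero'; its proof reduces at once to the statement over a
field given here, which is the case B = Spec k.) -/
theorem result (k : Type u) [Field k] (n : ℕ) (hn : 3 ≤ n)
    (q : Fin 3 → k) (ξ : Fin (n + 1) → k) (hqξ : q ≠ 0 ∨ ξ ≠ 0) :
    (Algebra.Smooth k (MvPolynomial (Fin 2) k ⧸ Ideal.span ({(∑ i : Fin 3, MvPolynomial.C (q i) * MvPolynomial.X 0 ^ (i : ℕ)) + (∑ j : Fin (n + 1), MvPolynomial.C (ξ j) * MvPolynomial.X 0 ^ (j : ℕ)) * MvPolynomial.X 1} : Set (MvPolynomial (Fin 2) k))) ∧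
      Algebra.Smooth k (MvPolynomial (Fin 2) k ⧸ Ideal.span ({(∑ i : Fin 3, MvPolynomial.C (q i) * MvPolynomial.X 0 ^ (i : ℕ)) * MvPolynomial.X 1 + (∑ j : Fin (n + 1), MvPolynomial.C (ξ j) * MvPolynomial.X 0 ^ (j : ℕ))} : Set (MvPolynomial (Fin 2) k))) ∧
      Algebra.Smooth k (MvPolynomial (Fin 2) k ⧸ Ideal.span ({(∑ i : Fin 3, MvPolynomial.C (q i) * MvPolynomial.X 0 ^ (2 - (i : ℕ))) + (∑ j : Fin (n + 1), MvPolynomial.C (ξ j) * MvPolynomial.X 0 ^ (n - (j : ℕ))) * MvPolynomial.X 1} : Set (MvPolynomial (Fin 2) k))) ∧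
      Algebra.Smooth k (MvPolynomial (Fin 2) k ⧸ Ideal.span ({(∑ i : Fin 3, MvPolynomial.C (q i) * MvPolynomial.X 0 ^ (2 - (i : ℕ))) * MvPolynomial.X 1 + (∑ j : Fin (n + 1), MvPolynomial.C (ξ j) * MvPolynomial.X 0 ^ (n - (j : ℕ)))} : Set (MvPolynomial (Fin 2) k)))) ↔
    Polynomial.resultant (∑ i : Fin 3, Polynomial.C (q i) * Polynomial.X ^ (i : ℕ))
      (∑ j : Fin (n + 1), Polynomial.C (ξ j) * Polynomial.X ^ (j : ℕ)) 2 n ≠ 0 := by
  classical
  let K := AlgebraicClosure k
  set F : Polynomial k := ∑ i : Fin 3, Polynomial.C (q i) * Polynomial.X ^ (i : ℕ) with hF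
  set G : Polynomial k := ∑ j : Fin (n + 1), Polynomial.C (ξ j) * Polynomial.X ^ (j : ℕ) with hG
  let Fr : Polynomial k := ∑ i : Fin 3, Polynomial.C (q i) * Polynomial.X ^ (2 - (i : ℕ))
  let Gr : Polynomial k := ∑ j : Fin (n + 1), Polynomial.C (ξ j) * Polynomial.X ^ (n - (j : ℕ))
  have hFc : ∀ i : Fin 3, F.coeff i = q i := fun i => by
    simp [hF, Polynomial.finsetSum_coeff, Polynomial.coeff_X_pow, ← Fin.ext_iff]
  have hGc : ∀ i : Fin (n + 1), G.coeff i = ξ i := fun i => by
    simp [hG, Polynomial.finsetSum_coeff, Polynomial.coeff_X_pow, ← Fin.ext_iff]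
  have hF2 : F.coeff 2 = q 2 := hFc 2
  have hGn : G.coeff n = ξ (Fin.last n) := hGc (Fin.last n)
  have hFd : F.natDegree ≤ 2 := Polynomial.natDegree_sum_le_of_forall_le _ _ fun i _ =>
    (Polynomial.natDegree_C_mul_X_pow_le _ _).trans (by omega)
  have hGd : G.natDegree ≤ n := Polynomial.natDegree_sum_le_of_forall_le _ _ fun i _ =>
    (Polynomial.natDegree_C_mul_X_pow_le _ _).trans (by omega)
  have hFG : F ≠ 0 ∨ G ≠ 0 := by
    rcases hqξ with h | h
    · obtain ⟨i, hi⟩ := Function.ne_iff.1 h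
      exact Or.inl fun h0 => hi (by rw [← hFc, h0]; simp)
    · obtain ⟨i, hi⟩ := Function.ne_iff.1 h
      exact Or.inr fun h0 => hi (by rw [← hGc, h0]; simp)
  let com : Polynomial k → Polynomial k → Prop := fun A B =>
    ∃ x : K, Polynomial.aeval x A = 0 ∧ Polynomial.aeval x B = 0
  -- the eight charts
  let ch : Polynomial k → Polynomial k → MvPolynomial (Fin 2) k := fun A B =>
    Polynomial.aeval (MvPolynomial.X 0) A + Polynomial.aeval (MvPolynomial.X 0) B * MvPolynomial.X 1
  have hder : ∀ (A : Polynomial k) (i : Fin 2), MvPolynomial.pderiv i (Polynomial.aeval (MvPolynomial.X 0) A) =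
      if i = 0 then Polynomial.aeval (MvPolynomial.X (0 : Fin 2) : MvPolynomial (Fin 2) k) (Polynomial.derivative A) else 0 := by
    intro A i
    rw [Derivation.map_aeval, MvPolynomial.pderiv_X]
    by_cases h : i = 0
    · subst h; simp
    · rw [if_neg h, Pi.single_eq_of_ne (Ne.symm h), smul_zero]
  have hdx : ∀ A B, MvPolynomial.pderiv 0 (ch A B) = ch (Polynomial.derivative A) (Polynomial.derivative B) := by
    intro A B
    simp [ch, hder, MvPolynomial.pderiv_X, MvPolynomial.pderiv_mul]
    ring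
  have hdy : ∀ A B, MvPolynomial.pderiv 1 (ch A B) = Polynomial.aeval (MvPolynomial.X 0) B := by
    intro A B
    simp [ch, hder, MvPolynomial.pderiv_X, MvPolynomial.pderiv_mul]
  -- Jacobian criterion for a plane curve
  have hjac : ∀ f : MvPolynomial (Fin 2) k, f ≠ 0 →
      (Algebra.Smooth k (MvPolynomial (Fin 2) k ⧸ Ideal.span ({f} : Set (MvPolynomial (Fin 2) k))) ↔
        Ideal.span {f, MvPolynomial.pderiv 0 f, MvPolynomial.pderiv 1 f} = ⊤) := by
    intro f hf
    set I := Ideal.span ({f} : Set (MvPolynomial (Fin 2) k))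
    let π : MvPolynomial (Fin 2) k →ₐ[k] MvPolynomial (Fin 2) k ⧸ I := Ideal.Quotient.mkₐ k I
    have hker : RingHom.ker π.toRingHom = I := Ideal.Quotient.mkₐ_ker k I
    let J : Ideal (MvPolynomial (Fin 2) k) := RingHom.ker π.toRingHom ^ 2
    let mk2 := Ideal.Quotient.mkₐ k J
    have hJ : J = Ideal.span {f ^ 2} := by
      show RingHom.ker π.toRingHom ^ 2 = _
      rw [hker, Ideal.span_singleton_pow]
    have hf2 : mk2 (f ^ 2) = 0 := Ideal.Quotient.eq_zero_iff_mem.2 (hJ ▸ Ideal.mem_span_singleton_self _)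
    -- first-order Taylor expansion
    have taylor : ∀ (w : Fin 2 → MvPolynomial (Fin 2) k) (g : MvPolynomial (Fin 2) k),
        MvPolynomial.aeval (fun i => mk2 (MvPolynomial.X i + f * w i)) g =
          mk2 (g + f * (w 0 * MvPolynomial.pderiv 0 g + w 1 * MvPolynomial.pderiv 1 g)) := by
      intro w g
      induction g using MvPolynomial.induction_on with
      | C a =>
        rw [MvPolynomial.aeval_C, MvPolynomial.pderiv_C, MvPolynomial.pderiv_C, mul_zero, mul_zero, add_zero, mul_zero,
          add_zero]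
        exact (mk2.commutes a).symm
      | add g g' hg hg' => rw [map_add, hg, hg', ← map_add]; congr 1; simp only [map_add]; ring
      | mul_X g i hg =>
        rw [map_mul, hg, MvPolynomial.aeval_X, ← map_mul, MvPolynomial.pderiv_mul, MvPolynomial.pderiv_mul,
          MvPolynomial.pderiv_X, MvPolynomial.pderiv_X, ← sub_eq_zero, ← map_sub]
        rw [show mk2 = Ideal.Quotient.mkₐ k J from rfl, Ideal.Quotient.mkₐ_eq_mk, Ideal.Quotient.eq_zero_iff_mem, hJ,
          Ideal.mem_span_singleton]
        fin_cases i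
        · exact ⟨(w 0 * MvPolynomial.pderiv 0 g + w 1 * MvPolynomial.pderiv 1 g) * w 0, by simp; ring⟩
        · exact ⟨(w 0 * MvPolynomial.pderiv 0 g + w 1 * MvPolynomial.pderiv 1 g) * w 1, by simp; ring⟩
    rw [Ideal.eq_top_iff_one]
    constructor
    · intro h
      haveI := h.formallySmooth
      obtain ⟨σ, hσ⟩ := (Algebra.FormallySmooth.iff_split_surjection π Ideal.Quotient.mk_surjective).1 inferInstance
      have hlift : ∀ i, ∃ w, σ (π (MvPolynomial.X i)) = mk2 (MvPolynomial.X i + f * w) := by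
        intro i
        obtain ⟨b, hb⟩ := Ideal.Quotient.mk_surjective (σ (π (MvPolynomial.X i)))
        have h1 : π b = π (MvPolynomial.X i) := by
          have := DFunLike.congr_fun hσ (π (MvPolynomial.X i))
          rw [AlgHom.comp_apply, AlgHom.id_apply, ← hb] at this
          exact this
        obtain ⟨w, hw⟩ := Ideal.mem_span_singleton'.1 (show b - MvPolynomial.X i ∈ I from (Ideal.Quotient.eq).1 h1)
        refine ⟨w, ?_⟩
        rw [← hb, mul_comm, hw, add_sub_cancel]
        rfl
      choose w hw using hlift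
      have h1 := DFunLike.congr_fun (MvPolynomial.algHom_ext (f := σ.comp π)
        (g := MvPolynomial.aeval (fun i => mk2 (MvPolynomial.X i + f * w i))) (fun i => by
          rw [AlgHom.comp_apply, MvPolynomial.aeval_X]; exact hw i)) f
      rw [AlgHom.comp_apply, taylor, show π f = 0 from Ideal.Quotient.eq_zero_iff_mem.2 (Ideal.mem_span_singleton_self f),
        map_zero, eq_comm, show mk2 = Ideal.Quotient.mkₐ k J from rfl, Ideal.Quotient.mkₐ_eq_mk,
        Ideal.Quotient.eq_zero_iff_mem, hJ, Ideal.mem_span_singleton'] at h1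
      obtain ⟨c, hc⟩ := h1
      have h2 : c * f = 1 + (w 0 * MvPolynomial.pderiv 0 f + w 1 * MvPolynomial.pderiv 1 f) :=
        mul_left_cancel₀ hf (by linear_combination hc)
      rw [show (1 : MvPolynomial (Fin 2) k) = c * f + (-w 0) * MvPolynomial.pderiv 0 f + (-w 1) * MvPolynomial.pderiv 1 f by
        linear_combination -h2]
      refine Submodule.add_mem _ (Submodule.add_mem _ ?_ ?_) ?_ <;>
        exact Ideal.mul_mem_left _ _ (Ideal.subset_span (by simp))
    · intro h
      simp only [Ideal.mem_span_insert, Ideal.mem_span_singleton'] at h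
      obtain ⟨a, z, ⟨b, z', ⟨c, rfl⟩, rfl⟩, hz⟩ := h
      let ψ : MvPolynomial (Fin 2) k →ₐ[k] MvPolynomial (Fin 2) k ⧸ J :=
        MvPolynomial.aeval (fun i => mk2 (MvPolynomial.X i + f * (![-b, -c] : Fin 2 → MvPolynomial (Fin 2) k) i))
      have hψf : ψ f = 0 := by
        show MvPolynomial.aeval _ f = _
        rw [taylor, show f + f * ((![-b, -c] : Fin 2 → MvPolynomial (Fin 2) k) 0 * MvPolynomial.pderiv 0 f +
          (![-b, -c] : Fin 2 → MvPolynomial (Fin 2) k) 1 * MvPolynomial.pderiv 1 f) = a * f ^ 2 by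
            simp only [Matrix.cons_val_zero, Matrix.cons_val_one, Matrix.head_cons]
            linear_combination f * hz]
        rw [map_mul, hf2, mul_zero]
      let σ : (MvPolynomial (Fin 2) k ⧸ I) →ₐ[k] MvPolynomial (Fin 2) k ⧸ J := Ideal.Quotient.liftₐ I ψ (fun x hx => by
        obtain ⟨d, rfl⟩ := Ideal.mem_span_singleton'.1 hx
        rw [map_mul, hψf, mul_zero])
      refine ⟨Algebra.FormallySmooth.of_split π σ (Ideal.Quotient.algHom_ext k (MvPolynomial.algHom_ext fun i => ?_)),
        Algebra.FinitePresentation.quotient ⟨{f}, by simp [I]⟩⟩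
      show π.kerSquareLift (σ (Ideal.Quotient.mk I (MvPolynomial.X i))) = Ideal.Quotient.mk I (MvPolynomial.X i)
      rw [show σ (Ideal.Quotient.mk I (MvPolynomial.X i)) = ψ (MvPolynomial.X i) from rfl, MvPolynomial.aeval_X]
      show π (MvPolynomial.X i + f * _) = Ideal.Quotient.mk I (MvPolynomial.X i)
      rw [map_add, map_mul, show π f = 0 from Ideal.Quotient.eq_zero_iff_mem.2 (Ideal.mem_span_singleton_self f),
        zero_mul, add_zero]
      rfl
  -- smoothness of a chart by points over the algebraic closure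
  have hchne : ∀ A B, A ≠ 0 ∨ B ≠ 0 → ch A B ≠ 0 := by
    intro A B h h0
    let e : MvPolynomial (Fin 2) k →ₐ[k] Polynomial (Polynomial k) :=
      MvPolynomial.aeval ![Polynomial.C Polynomial.X, Polynomial.X]
    have he : e (ch A B) = Polynomial.C A + Polynomial.C B * Polynomial.X := by
      have : ∀ A : Polynomial k, e (Polynomial.aeval (MvPolynomial.X 0) A) = Polynomial.C A := by
        intro A
        rw [← Polynomial.aeval_algHom_apply, show e (MvPolynomial.X 0) = Polynomial.C Polynomial.X by simp [e]]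
        show Polynomial.aeval ((Polynomial.CAlgHom (R := k) (A := Polynomial k)) Polynomial.X) A = _
        rw [Polynomial.aeval_algHom_apply, Polynomial.aeval_X_left_apply]; rfl
      simp [ch, this, e]
    rw [h0, map_zero] at he
    have c0 := congrArg (fun p => Polynomial.coeff p 0) he
    have c1 := congrArg (fun p => Polynomial.coeff p 1) he
    simp at c0 c1
    exact h.elim (fun h => h c0.symm) (fun h => h c1.symm)
  have heval : ∀ (x y : K) (A : Polynomial k),
      MvPolynomial.aeval ![x, y] (Polynomial.aeval (MvPolynomial.X (0 : Fin 2) : MvPolynomial (Fin 2) k) A) =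
        Polynomial.aeval x A := by
    intro x y A
    rw [← Polynomial.aeval_algHom_apply, MvPolynomial.aeval_X]; rfl
  have hsm : ∀ A B, A ≠ 0 ∨ B ≠ 0 →
      (Algebra.Smooth k (MvPolynomial (Fin 2) k ⧸ Ideal.span ({ch A B} : Set (MvPolynomial (Fin 2) k))) ↔
        ¬ ∃ x y : K, Polynomial.aeval x A = 0 ∧ Polynomial.aeval x B = 0 ∧
          Polynomial.aeval x (Polynomial.derivative A) + Polynomial.aeval x (Polynomial.derivative B) * y = 0) := by
    intro A B hAB
    rw [hjac _ (hchne A B hAB), hdx, hdy]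
    set I := Ideal.span {ch A B, ch (Polynomial.derivative A) (Polynomial.derivative B), Polynomial.aeval (MvPolynomial.X 0) B}
    constructor
    · rintro h ⟨x, y, hA, hB, hd⟩
      have : I ≤ RingHom.ker (MvPolynomial.aeval ![x, y] : MvPolynomial (Fin 2) k →ₐ[k] K) := by
        rw [Ideal.span_le]
        rintro _ (rfl | rfl | rfl) <;> simp [ch, RingHom.mem_ker, heval, hA, hB, hd]
      rw [h, top_le_iff] at this
      exact RingHom.ker_ne_top _ this
    · intro h
      by_contra hI
      have hz : (MvPolynomial.zeroLocus K I).Nonempty := by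
        by_contra he
        rw [Set.not_nonempty_iff_eq_empty] at he
        have h2 := MvPolynomial.vanishingIdeal_zeroLocus_eq_radical (K := K) I
        rw [he] at h2
        apply hI
        rw [← Ideal.radical_eq_top, ← h2, eq_top_iff]
        intro p _
        rw [MvPolynomial.mem_vanishingIdeal_iff]
        simp
      obtain ⟨v, hv⟩ := hz
      have hv' : v = ![v 0, v 1] := by ext i; fin_cases i <;> rfl
      have e1 : MvPolynomial.aeval v (ch A B) = 0 := hv _ (Ideal.subset_span (by simp))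
      have e2 : MvPolynomial.aeval v (ch (Polynomial.derivative A) (Polynomial.derivative B)) = 0 :=
        hv _ (Ideal.subset_span (by simp))
      have e3 : MvPolynomial.aeval v (Polynomial.aeval (MvPolynomial.X (0 : Fin 2) : MvPolynomial (Fin 2) k) B) = 0 :=
        hv _ (Ideal.subset_span (by simp))
      rw [hv'] at e1 e2 e3
      simp [ch, heval] at e1 e2 e3
      rw [e3, zero_mul, add_zero] at e1
      exact h ⟨v 0, v 1, e1, e3, e2⟩
  have hpair : ∀ A B, A ≠ 0 ∨ B ≠ 0 →
      ((Algebra.Smooth k (MvPolynomial (Fin 2) k ⧸ Ideal.span ({ch A B} : Set (MvPolynomial (Fin 2) k))) ∧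
        Algebra.Smooth k (MvPolynomial (Fin 2) k ⧸ Ideal.span ({ch B A} : Set (MvPolynomial (Fin 2) k)))) ↔
      ¬ com A B) := by
    intro A B hAB
    rw [hsm A B hAB, hsm B A hAB.symm]
    constructor
    · rintro ⟨h1, h2⟩ ⟨x, hA, hB⟩
      by_cases hb : Polynomial.aeval x (Polynomial.derivative B) = 0
      · by_cases ha : Polynomial.aeval x (Polynomial.derivative A) = 0
        · exact h1 ⟨x, 0, hA, hB, by rw [ha, hb]; ring⟩
        · exact h2 ⟨x, 0, hB, hA, by rw [hb]; ring⟩
      · exact h1 ⟨x, -Polynomial.aeval x (Polynomial.derivative A) / Polynomial.aeval x (Polynomial.derivative B),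
          hA, hB, by rw [mul_comm, div_mul_cancel₀ _ hb]; ring⟩
    · intro h
      exact ⟨fun ⟨x, _, hA, hB, _⟩ => h ⟨x, hA, hB⟩, fun ⟨x, _, hB, hA, _⟩ => h ⟨x, hA, hB⟩⟩
  have hrev : ∀ (m : ℕ) (c : Fin (m + 1) → k) (x : K), x ≠ 0 →
      Polynomial.aeval x (∑ i : Fin (m + 1), Polynomial.C (c i) * Polynomial.X ^ (m - (i : ℕ))) =
        x ^ m * Polynomial.aeval x⁻¹ (∑ i : Fin (m + 1), Polynomial.C (c i) * Polynomial.X ^ (i : ℕ)) := by
    intro m c x hx
    simp only [map_sum, map_mul, Polynomial.aeval_C, map_pow, Polynomial.aeval_X]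
    rw [Finset.mul_sum]
    refine Finset.sum_congr rfl fun i _ => ?_
    rw [pow_sub₀ x hx (Nat.lt_succ_iff.1 i.isLt), inv_pow]
    ring
  have hrev0 : ∀ (m : ℕ) (c : Fin (m + 1) → k),
      Polynomial.aeval (0 : K) (∑ i : Fin (m + 1), Polynomial.C (c i) * Polynomial.X ^ (m - (i : ℕ))) =
        algebraMap k K (c (Fin.last m)) := by
    intro m c
    simp only [map_sum, map_mul, Polynomial.aeval_C, map_pow, Polynomial.aeval_X]
    rw [Finset.sum_eq_single (Fin.last m)]
    · simp
    · intro i _ hi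
      rw [zero_pow (by
        have : (i : ℕ) ≠ m := fun h => hi (Fin.ext h)
        omega), mul_zero]
    · simp
  have hrevne : Fr ≠ 0 ∨ Gr ≠ 0 := by
    have key : ∀ (m : ℕ) (c : Fin (m + 1) → k) (i : Fin (m + 1)),
        (∑ j : Fin (m + 1), Polynomial.C (c j) * Polynomial.X ^ (m - (j : ℕ))).coeff (m - i) = c i := by
      intro m c i
      rw [Polynomial.finsetSum_coeff, Finset.sum_eq_single i]
      · simp
      · intro j _ hj
        rw [Polynomial.coeff_C_mul_X_pow, if_neg]
        intro h; apply hj; ext; omega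
      · simp
    rcases hqξ with h | h
    · obtain ⟨i, hi⟩ := Function.ne_iff.1 h
      exact Or.inl fun h0 => hi (by rw [← key 2 q i]; exact (congrArg (Polynomial.coeff · (2 - (i : ℕ))) h0).trans (Polynomial.coeff_zero _))
    · obtain ⟨i, hi⟩ := Function.ne_iff.1 h
      exact Or.inr fun h0 => hi (by rw [← key n ξ i]; exact (congrArg (Polynomial.coeff · (n - (i : ℕ))) h0).trans (Polynomial.coeff_zero _))
  -- translate the charts
  have eF : (∑ i : Fin 3, MvPolynomial.C (q i) * MvPolynomial.X 0 ^ (i : ℕ) : MvPolynomial (Fin 2) k) =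
      Polynomial.aeval (MvPolynomial.X 0) F := by simp [hF, MvPolynomial.algebraMap_eq]
  have eG : (∑ j : Fin (n + 1), MvPolynomial.C (ξ j) * MvPolynomial.X 0 ^ (j : ℕ) : MvPolynomial (Fin 2) k) =
      Polynomial.aeval (MvPolynomial.X 0) G := by simp [hG, MvPolynomial.algebraMap_eq]
  have eFr : (∑ i : Fin 3, MvPolynomial.C (q i) * MvPolynomial.X 0 ^ (2 - (i : ℕ)) : MvPolynomial (Fin 2) k) =
      Polynomial.aeval (MvPolynomial.X 0) Fr := by simp [Fr, MvPolynomial.algebraMap_eq]
  have eGr : (∑ j : Fin (n + 1), MvPolynomial.C (ξ j) * MvPolynomial.X 0 ^ (n - (j : ℕ)) : MvPolynomial (Fin 2) k) =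
      Polynomial.aeval (MvPolynomial.X 0) Gr := by simp [Gr, MvPolynomial.algebraMap_eq]
  rw [eF, eG, eFr, eGr,
    add_comm (Polynomial.aeval (MvPolynomial.X 0) F * MvPolynomial.X 1),
    add_comm (Polynomial.aeval (MvPolynomial.X 0) Fr * MvPolynomial.X 1),
    ← and_assoc]
  rw [hpair F G hFG, hpair Fr Gr hrevne]
  -- the resultant
  have hcom : com Fr Gr ↔ (F.coeff 2 = 0 ∧ G.coeff n = 0) ∨ ∃ x : K, x ≠ 0 ∧ Polynomial.aeval x F = 0 ∧ Polynomial.aeval x G = 0 := by
    constructor
    · rintro ⟨x, h1, h2⟩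
      by_cases hx : x = 0
      · left
        subst hx
        rw [hrev0 2 q] at h1; rw [hrev0 n ξ] at h2
        rw [hF2, hGn]
        exact ⟨(algebraMap k K).injective (h1.trans (map_zero _).symm), (algebraMap k K).injective (h2.trans (map_zero _).symm)⟩
      · right
        rw [hrev 2 q x hx] at h1; rw [hrev n ξ x hx] at h2
        exact ⟨x⁻¹, inv_ne_zero hx, (mul_eq_zero.1 h1).resolve_left (pow_ne_zero _ hx),
          (mul_eq_zero.1 h2).resolve_left (pow_ne_zero _ hx)⟩
    · rintro (⟨h1, h2⟩ | ⟨x, hx, h1, h2⟩)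
      · exact ⟨0, (hrev0 2 q).trans (by rw [show q (Fin.last 2) = q 2 from rfl, ← hF2, h1, map_zero]),
          (hrev0 n ξ).trans (by rw [← hGn, h2, map_zero])⟩
      · refine ⟨x⁻¹, ?_, ?_⟩
        · rw [hrev 2 q _ (inv_ne_zero hx), inv_inv, h1, mul_zero]
        · rw [hrev n ξ _ (inv_ne_zero hx), inv_inv, h2, mul_zero]
  have hres : F.resultant G 2 n = 0 ↔ (F.coeff 2 = 0 ∧ G.coeff n = 0) ∨ com F G := by
    by_cases hF0 : F = 0
    · rw [hF0, Polynomial.resultant_zero_left, zero_pow (by omega : n ≠ 0), zero_mul]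
      simp only [true_iff, Polynomial.coeff_zero, true_and]
      by_cases hd : G.natDegree = 0
      · exact Or.inl (Polynomial.coeff_eq_zero_of_natDegree_lt (by omega))
      · obtain ⟨x, hx⟩ := IsAlgClosed.exists_aeval_eq_zero K G (fun h => hd (Polynomial.natDegree_eq_of_degree_eq_some h))
        exact Or.inr ⟨x, by simp [hF0], hx⟩
    obtain ⟨a, ha⟩ : ∃ a, 2 = F.natDegree + a := ⟨2 - F.natDegree, by omega⟩
    obtain ⟨b, hb⟩ : ∃ b, n = G.natDegree + b := ⟨n - G.natDegree, by omega⟩
    have hcop : com F G ↔ ¬ IsCoprime F G := by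
      constructor
      · rintro ⟨x, h1, h2⟩ ⟨u, v, huv⟩
        simpa [h1, h2] using congrArg (Polynomial.aeval x) huv
      · intro h
        have hg : ¬ IsUnit (EuclideanDomain.gcd F G) := fun hu => h (EuclideanDomain.gcd_isUnit_iff.1 hu)
        obtain ⟨x, hx⟩ := IsAlgClosed.exists_aeval_eq_zero K (EuclideanDomain.gcd F G) (fun h0 =>
          hg (Polynomial.isUnit_iff_degree_eq_zero.2 h0))
        exact ⟨x, Polynomial.aeval_eq_zero_of_dvd_aeval_eq_zero (EuclideanDomain.gcd_dvd_left F G) hx,
          Polynomial.aeval_eq_zero_of_dvd_aeval_eq_zero (EuclideanDomain.gcd_dvd_right F G) hx⟩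
    conv_lhs => rw [show F.resultant G 2 n = F.resultant G (F.natDegree + a) (G.natDegree + b) by rw [← ha, ← hb]]
    rw [Polynomial.resultant_add_left_deg _ _ _ _ _ le_rfl, Polynomial.resultant_add_right_deg _ _ _ _ _ le_rfl, ← hb]
    simp only [mul_eq_zero, pow_eq_zero_iff', neg_eq_zero, one_ne_zero, false_and, false_or,
      Polynomial.resultant_eq_zero_iff, hcop, Polynomial.coeff_natDegree, Polynomial.leadingCoeff_eq_zero, hF0,
      ne_eq, not_false_eq_true, true_or, true_and]
    constructor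
    · rintro (⟨h1, h2⟩ | h)
      · exact Or.inl ⟨Polynomial.coeff_eq_zero_of_natDegree_lt (by omega), h1⟩
      · exact Or.inr h
    · rintro (⟨h1, h2⟩ | h)
      · refine Or.inl ⟨h2, fun ha0 => hF0 ?_⟩
        rw [← Polynomial.leadingCoeff_eq_zero, Polynomial.leadingCoeff, show F.natDegree = 2 by omega, h1]
      · exact Or.inr h
  rw [ne_eq, hres, hcom, ← not_or]
  refine not_congr ⟨?_, ?_⟩
  · rintro (h | h | ⟨x, _, h1, h2⟩)
    · exact Or.inr h
    · exact Or.inl h
    · exact Or.inr ⟨x, h1, h2⟩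
  · rintro (h | h)
    · exact Or.inr (Or.inl h)
    · exact Or.inl h

end Groth.Agent.S19185
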