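import Groth.Statements.S19186
import Mathlib

set_option autoImplicit false
universe u
open OneMot

namespace Groth.Agent.S19186

theorem coprime_bij {A B : Type*} [AddCommGroup A] [AddCommGroup B] (f : A →+ B) (P L : ℤ) (hc : IsCoprime P L)
    (hker : ∀ a : A, f a = 0 → P • a = 0) (hcoker : ∀ b : B, ∃ a : A, f a = P • b) :
    (∀ b : B, L • b = 0 → ∃! a : A, L • a = 0 ∧ f a = b) ∧ (∀ a : A, (∃ b' : B, f a = L • b') → ∃ a' : A, a = L • a') ∧ (∀ b : B, ∃ (a : A) (b' : B), b = f a + L • b') := by
  obtain ⟨u, v, huv⟩ := hc.mul_left hc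
  choose g hg using hcoker
  refine ⟨fun b hb => ?_, ?_, fun b => ?_⟩
  · have hb1 : (u * (P * P)) • b = b := by
      calc (u * (P * P)) • b = (u * (P*P)) • b + v • (L • b) := by rw [hb, smul_zero, add_zero]
        _ = b := by rw [← mul_smul, ← add_smul, huv, one_smul]
    have h0 : P • (L • g b) = 0 := hker _ (by rw [map_zsmul, hg, smul_comm, hb, smul_zero])
    refine ⟨(u * P) • g b, ⟨?_, ?_⟩, ?_⟩
    · rw [← mul_smul, show L * (u * P) = u * P * L by ring, mul_smul, mul_smul, h0, smul_zero]
    · rw [map_zsmul, hg, ← mul_smul, mul_assoc, hb1]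
    · rintro a ⟨ha, hab⟩
      set c := a - (u * P) • g b with hcd
      have h1 : P • c = 0 := hker _ (by
        rw [hcd, map_sub, map_zsmul, hab, hg, ← mul_smul, mul_assoc, hb1, sub_self])
      have h2 : L • c = 0 := by
        rw [hcd, smul_sub, ha, ← mul_smul, show L * (u * P) = u * P * L by ring, mul_smul, mul_smul, h0, smul_zero, sub_zero]
      have : c = 0 := by
        calc c = (u * (P * P) + v * L) • c := by rw [huv, one_smul]
          _ = 0 := by simp [add_smul, mul_smul, h1, h2]
      exact sub_eq_zero.1 this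
  · rintro a ⟨b', hb'⟩
    have h0 : P • (P • a - L • g b') = 0 := hker _ (by
      rw [map_sub, map_zsmul, map_zsmul, hb', hg, smul_comm, sub_self])
    rw [smul_sub, sub_eq_zero] at h0
    refine ⟨(u * P) • g b' + v • a, ?_⟩
    calc a = (u * (P * P) + v * L) • a := by rw [huv, one_smul]
      _ = _ := by rw [add_smul, mul_smul, mul_smul, h0]; simp only [smul_add, ← mul_smul]; ring_nf
  · refine ⟨(u * P) • g b, v • b, ?_⟩
    rw [map_zsmul, hg, ← mul_smul, ← mul_smul, mul_assoc, ← add_smul, mul_comm L, huv, one_smul]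


/-- Let p and ℓ be distinct prime numbers, r and n natural numbers, and f : A → B a homomorphism of
abelian groups whose kernel and cokernel are annihilated by p^r (f a = 0 implies p^r • a = 0, and
every p^r • b lies in the image of f). Then f induces a bijection between the ℓ^n-torsion subgroups
of A and B and a bijection A/ℓ^n A → B/ℓ^n B. Spelled out without quotients: every ℓ^n-torsion
element of B has exactly one ℓ^n-torsion preimage; an element of A whose image is an ℓ^n-multiple is
itself an ℓ^n-multiple; and every element of B is the sum of an image and an ℓ^n-multiple. -/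
theorem result {A B : Type u} [AddCommGroup A] [AddCommGroup B] (f : A →+ B) (p ℓ r n : ℕ) (hp : p.Prime) (hl : ℓ.Prime) (hne : ℓ ≠ p) (hker : ∀ a : A, f a = 0 → p ^ r • a = 0) (hcoker : ∀ b : B, ∃ a : A, f a = p ^ r • b) : (∀ b : B, ℓ ^ n • b = 0 → ∃! a : A, ℓ ^ n • a = 0 ∧ f a = b) ∧ (∀ a : A, (∃ b' : B, f a = ℓ ^ n • b') → ∃ a' : A, a = ℓ ^ n • a') ∧ (∀ b : B, ∃ (a : A) (b' : B), b = f a + ℓ ^ n • b') := by
  simp only [← natCast_zsmul] at hker hcoker ⊢
  exact coprime_bij f _ _ (Nat.isCoprime_iff_coprime.2 (Nat.Coprime.pow _ _ ((Nat.coprime_primes hp hl).2 hne.symm))) hker hcoker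

end Groth.Agent.S19186
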