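import Groth.Statements.S19187

set_option autoImplicit false
universe u
open Cpct

namespace Groth.Agent.S19187

open CategoryTheory AlgebraicGeometry in
/-- Let k be a field, X̄ and Ȳ schemes proper over Spec k, j : X → X̄ an open immersion with dense image
and v : Y → Ȳ an open immersion (compactifications of X and Y), f : X → Y a proper morphism and f̄ :
X̄ → Ȳ a morphism over Spec k with f̄ ∘ j = v ∘ f. Then the preimage under f̄ of the open v(Y) is
the open j(X); equivalently, the complement of X in X̄ is the preimage of the complement of Y in Ȳ.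
(The base field k is arbitrary: no perfectness assumption is needed.) -/
theorem result {k : Type u} [Field k] {X Y Xb Yb : Scheme.{u}} (a : Xb ⟶ Spec (CommRingCat.of k)) (b : Yb ⟶ Spec (CommRingCat.of k)) [IsProper a] [IsProper b] (j : X ⟶ Xb) [IsOpenImmersion j] (hj : Dense (Set.range j.base)) (v : Y ⟶ Yb) [IsOpenImmersion v] (f : X ⟶ Y) [IsProper f] (fb : Xb ⟶ Yb) (hfb : fb ≫ b = a) (hsq : j ≫ fb = f ≫ v) : fb ⁻¹ᵁ v.opensRange = j.opensRange := by
  haveI : IsSeparated b := inferInstance
  haveI : IsProper (fb ≫ b) := hfb ▸ inferInstance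
  haveI : IsSeparated fb := IsSeparated.of_comp fb b
  set U := v.opensRange
  have hle : j.opensRange ≤ fb ⁻¹ᵁ U := by
    rintro _ ⟨x, rfl⟩
    exact ⟨f x, by rw [← Scheme.Hom.comp_apply, ← hsq, Scheme.Hom.comp_apply]⟩
  let V : Xb.Opens := fb ⁻¹ᵁ U
  let e : Y ⟶ (U : Scheme.{u}) := IsOpenImmersion.lift U.ι v (by rw [Scheme.Opens.range_ι]; rfl)
  let l : X ⟶ (V : Scheme.{u}) := IsOpenImmersion.lift V.ι j (by
    rw [Scheme.Opens.range_ι]; exact fun y hy => hle hy)
  have hl : l ≫ V.ι = j := IsOpenImmersion.lift_fac _ _ _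
  have hcomp : l ≫ (fb ∣_ U) = f ≫ e := by
    rw [← cancel_mono U.ι, Category.assoc, morphismRestrict_ι, ← Category.assoc, hl, hsq,
      Category.assoc, IsOpenImmersion.lift_fac]
  haveI : IsIso e := by
    haveI : IsOpenImmersion e := by
      haveI : IsOpenImmersion (e ≫ U.ι) := by rw [IsOpenImmersion.lift_fac]; infer_instance
      exact IsOpenImmersion.of_comp e U.ι
    haveI : Surjective e := ⟨fun y => by
      obtain ⟨z, hz⟩ := y.2
      exact ⟨z, U.ι.isOpenEmbedding.injective (by
        rw [← Scheme.Hom.comp_apply, IsOpenImmersion.lift_fac]; exact hz)⟩⟩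
    exact (isIso_iff_isOpenImmersion_and_epi_base e).2 ⟨inferInstance, (TopCat.epi_iff_surjective _).2 e.surjective⟩
  haveI : IsSeparated (fb ∣_ U) := IsZariskiLocalAtTarget.restrict ‹IsSeparated fb› U
  haveI : IsProper (l ≫ (fb ∣_ U)) := by rw [hcomp]; infer_instance
  haveI : IsProper l := IsProper.of_comp l (fb ∣_ U)
  refine TopologicalSpace.Opens.ext (Set.Subset.antisymm (fun y hy => ?_) fun y hy => hle hy)
  have hmem : (⟨y, hy⟩ : V) ∈ closure (Set.range l) := by
    have hd : Dense (V.ι ⁻¹' Set.range j) := hj.preimage V.ι.isOpenEmbedding.isOpenMap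
    refine closure_mono ?_ (hd _)
    rintro z ⟨w, hw⟩
    exact ⟨w, V.ι.isOpenEmbedding.injective (by rw [← Scheme.Hom.comp_apply, hl]; exact hw)⟩
  rw [l.isClosedMap.isClosed_range.closure_eq] at hmem
  obtain ⟨w, hw⟩ := hmem
  exact ⟨w, by rw [← hl, Scheme.Hom.comp_apply, hw]; rfl⟩

end Groth.Agent.S19187
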