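import Groth.Prelude.Def_W4c6blochformula0cycCech
import Mathlib.Algebra.BigOperators.Fin
import Mathlib.Algebra.BigOperators.Module
import Mathlib.Algebra.BigOperators.GroupWithZero.Action
import Groth.Prelude.Def_W4c6blochformula0cycCech
import Mathlib.Algebra.BigOperators.Fin
import Mathlib.Algebra.BigOperators.Module
import Mathlib.Algebra.BigOperators.GroupWithZero.Action

set_option autoImplicit false
universe u
namespace CategoryTheory
end CategoryTheory
namespace Opposite
end Opposite
namespace TopologicalSpace
end TopologicalSpace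
open CategoryTheory Opposite TopologicalSpace
namespace CohTop
end CohTop
open CohTop

namespace Groth.Agent.S19193

open W4c6blochformula0cyc in
/-- Let `F` be a presheaf of abelian groups on a topological space `X`, `U` a family of opens of `X`
indexed by a finite type, and suppose given, for every open `V` and every index `α`, an additive map
`E V α : F(V ∩ U_α) → F(V)` such that for every nonempty tuple of indices `t`, with `V = U_{t_0} ∩ ⋯
∩ U_{t_m}`: (i) `∑_α E V α (f|_{V ∩ U_α}) = f` for all `f ∈ F(V)`, and (ii) `(E V α g)|_{V ∩ U_β} =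
E (V ∩ U_β) α (g|_{V ∩ U_β ∩ U_α})` for all indices `α, β` and all `g ∈ F(V ∩ U_α)`. Then the
operator `H` on ordered Čech cochains, `(H f)_t = ∑_α E (U_t) α (f_{(α, t)})`, satisfies `H (δ f) +
δ (H f) = f` for every Čech cochain `f` on tuples of length at least `2`, i.e. in every Čech degree
`≥ 1`. (The published statement takes a flasque sheaf on an open cover and extension maps attached
to pairs of finite intersections; this row takes any presheaf, any finite family of opens, and maps
that may depend on the index, none of which the printed argument needs. The published statement also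
asserts the identity in every degree of the Čech complex without augmentation term, and allows an
infinite index set with finitely supported sums; in Čech degree `0`, where that complex has no term
below and the identity reads `H (δ f) = f`, it fails in general — for the one-member cover of a
point and the constant presheaf `ℤ` with `E` the identity, `δ f` vanishes on the pair while `f` need
not — so it is stated here from degree `1` on, i.e. for cochains on tuples of length at least `2`
(the whole-space term on the empty tuple carried by the cochain groups used here plays no role), and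
for a finite index type.) -/
theorem result {X : Type u} [TopologicalSpace X]
    {ι : Type u} [Fintype ι] (F : (Opens X)ᵒᵖ ⥤ AddCommGrpCat.{u}) (U : ι → Opens X)
    (E : ∀ (V : Opens X) (α : ι), F.obj (op (V ⊓ U α)) →+ F.obj (op V))
    (h2 : ∀ (m : ℕ) (t : Fin (m + 1) → ι) (f : F.obj (op (cechOpen U t))),
      ∑ α, E (cechOpen U t) α (res F inf_le_left f) = f)
    (h3 : ∀ (m : ℕ) (t : Fin (m + 1) → ι) (α β : ι) (g : F.obj (op (cechOpen U t ⊓ U α))),
      res F inf_le_left (E (cechOpen U t) α g) =
        E (cechOpen U t ⊓ U β) α (res F (inf_le_inf_right (U α) inf_le_left) g))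
    (n : ℕ) (f : Cochain F U (n + 2)) :
    homotopy F U E (n + 2) (delta F U (n + 2) f) + delta F U (n + 1) (homotopy F U E (n + 1) f) = f := by
  have res_res : ∀ {A B C : Opens X} (h : B ≤ A) (h' : C ≤ B) (h'' : C ≤ A) (x : F.obj (op A)),
      res F h' (res F h x) = res F h'' x := fun h h' h'' x => by
    simp only [res, ← ConcreteCategory.comp_apply, ← Functor.map_comp]
    rfl
  have fcongr : ∀ {k : ℕ} (g : Cochain F U k) {s s' : Fin k → ι} (e : s = s') {V : Opens X}
      (h : V ≤ cechOpen U s) (h' : V ≤ cechOpen U s'), res F h (g s) = res F h' (g s') := by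
    intro k g s s' e V h h'
    subst e
    rfl
  funext t
  have ht : ∀ k : Fin (n + 2), cechOpen U t = cechOpen U (t ∘ k.succAbove) ⊓ U (t k) := fun k =>
    le_antisymm (le_inf (cechOpen_le_comp U t k) (iInf_le (fun i => U (t i)) k))
      (le_iInf fun i => by
        rcases Fin.eq_self_or_eq_succAbove k i with rfl | ⟨j, rfl⟩
        · exact inf_le_right
        · exact inf_le_left.trans (iInf_le (fun i => U (t (k.succAbove i))) j))
  have hE : ∀ (W V : Opens X) (α β : ι), (∀ g, res F inf_le_left (E W α g) =
      E (W ⊓ U β) α (res F (inf_le_inf_right (U α) inf_le_left) g)) → V = W ⊓ U β → ∀ (hle : V ≤ W) (g : F.obj (op (W ⊓ U α))),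
      res F hle (E W α g) = E V α (res F (inf_le_inf_right (U α) hle) g) := by
    intro W V α β h hV hle g
    subst hV
    exact h g
  rw [Pi.add_apply]
  change (∑ α, E (cechOpen U t) α (res F (inf_le_cechOpen_cons U t α)
      (∑ j : Fin (n + 2 + 1), ((-1 : ℤ) ^ (j : ℕ)) • res F (cechOpen_le_comp U (Fin.cons α t) j)
        (f ((Fin.cons α t : Fin (n + 2 + 1) → ι) ∘ j.succAbove))))) +
    (∑ k : Fin (n + 1 + 1), ((-1 : ℤ) ^ (k : ℕ)) • res F (cechOpen_le_comp U t k)
      (∑ α, E (cechOpen U (t ∘ k.succAbove)) α (res F (inf_le_cechOpen_cons U (t ∘ k.succAbove) α)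
        (f (Fin.cons α (t ∘ k.succAbove)))))) = f t
  have e2 : ∀ (k : Fin (n + 1 + 1)), res F (cechOpen_le_comp U t k)
      (∑ α, E (cechOpen U (t ∘ k.succAbove)) α (res F (inf_le_cechOpen_cons U (t ∘ k.succAbove) α)
        (f (Fin.cons α (t ∘ k.succAbove))))) =
      ∑ α, E (cechOpen U t) α (res F ((inf_le_inf_right (U α) (cechOpen_le_comp U t k)).trans
        (inf_le_cechOpen_cons U (t ∘ k.succAbove) α)) (f (Fin.cons α (t ∘ k.succAbove)))) := fun k => by
    rw [map_sum]
    refine Finset.sum_congr rfl fun α _ => ?_
    rw [hE _ _ α (t k) (fun g => h3 n (t ∘ k.succAbove) α (t k) g) (ht k) (cechOpen_le_comp U t k), res_res]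
  have e1 : ∀ α, res F (inf_le_cechOpen_cons U t α)
      (∑ j : Fin (n + 2 + 1), ((-1 : ℤ) ^ (j : ℕ)) • res F (cechOpen_le_comp U (Fin.cons α t) j)
        (f ((Fin.cons α t : Fin (n + 2 + 1) → ι) ∘ j.succAbove))) =
      res F inf_le_left (f t) - ∑ k : Fin (n + 1 + 1), ((-1 : ℤ) ^ (k : ℕ)) •
        res F ((inf_le_inf_right (U α) (cechOpen_le_comp U t k)).trans
          (inf_le_cechOpen_cons U (t ∘ k.succAbove) α)) (f (Fin.cons α (t ∘ k.succAbove))) := fun α => by
    rw [Fin.sum_univ_succ, map_add, map_sum, sub_eq_add_neg, ← Finset.sum_neg_distrib]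
    congr 1
    · simp only [Fin.val_zero, pow_zero, one_zsmul]
      rw [res_res _ _ ((inf_le_cechOpen_cons U t α).trans (cechOpen_le_comp U _ 0))]
      exact fcongr f (funext fun i => by simp) _ _
    · refine Finset.sum_congr rfl fun k _ => ?_
      have e : ∀ (h : cechOpen U t ⊓ U α ≤ cechOpen U ((Fin.cons α t : Fin (n + 2 + 1) → ι) ∘ k.succ.succAbove)),
          res F h (f ((Fin.cons α t : Fin (n + 2 + 1) → ι) ∘ k.succ.succAbove)) =
          res F ((inf_le_inf_right (U α) (cechOpen_le_comp U t k)).trans
            (inf_le_cechOpen_cons U (t ∘ k.succAbove) α)) (f (Fin.cons α (t ∘ k.succAbove))) := fun h =>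
        fcongr f (funext fun i => by refine Fin.cases ?_ (fun i => ?_) i <;> simp [Fin.succ_succAbove_succ]) _ _
      rw [map_zsmul, res_res _ _ ((inf_le_cechOpen_cons U t α).trans (cechOpen_le_comp U _ k.succ)), e,
        Fin.val_succ, pow_succ, mul_neg_one, neg_smul]
  simp only [e1, e2, map_sub, map_sum, map_zsmul, Finset.sum_sub_distrib, Finset.smul_sum]
  rw [h2 (n + 1) t (f t), Finset.sum_comm, sub_add_cancel]

end Groth.Agent.S19193
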