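import Groth.Statements.S19195
import Mathlib
import Groth.Agent.FlatMorSlice.Regular

set_option linter.all false

set_option autoImplicit false
universe u
open TensorProduct
open RelS1

open scoped TensorProduct

namespace Groth.Agent.S19195

section
variable {A B M : Type u} [CommRing A] [CommRing B] [Algebra A B] [AddCommGroup M] [Module B M] [Module A M] [IsScalarTower A B M]

theorem flat_localizedModule [Module.Flat A M] (S : Submonoid B) : Module.Flat A (LocalizedModule S M) := by
  rw [Module.Flat.iff_lTensor_injective']
  intro I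
  have h : Function.Injective (TensorProduct.AlgebraTensorModule.lTensor B M I.subtype) :=
    Module.Flat.lTensor_preserves_injective_linearMap (M := M) I.subtype I.injective_subtype
  have := IsLocalizedModule.map_injective S (TensorProduct.AlgebraTensorModule.rTensor A I (LocalizedModule.mkLinearMap S M))
    (TensorProduct.AlgebraTensorModule.rTensor A A (LocalizedModule.mkLinearMap S M)) _ h
  rwa [IsLocalizedModule.map_lTensor] at this

/-- An element of `M` dying in `κ(p) ⊗ M` lies in `p M` up to an element outside `p`. -/
theorem exists_smul_mem_of_tmul_eq_zero (p : Ideal A) [p.IsPrime] (m : M)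
    (h : ((1 : p.ResidueField) ⊗ₜ[A] m : p.ResidueField ⊗[A] M) = 0) :
    ∃ s ∉ p, s • m ∈ p • (⊤ : Submodule A M) := by
  let j : (A ⧸ p) →ₗ[A] p.ResidueField := (IsScalarTower.toAlgHom A (A ⧸ p) p.ResidueField).toLinearMap
  haveI : IsLocalizedModule p.primeCompl j := by
    refine isLocalizedModule_iff_isLocalization.2 ?_
    have e : Algebra.algebraMapSubmonoid (A ⧸ p) p.primeCompl = nonZeroDivisors (A ⧸ p) := by
      ext x
      rw [mem_nonZeroDivisors_iff_ne_zero]
      constructor
      · rintro ⟨y, hy, rfl⟩ h0
        exact hy (Ideal.Quotient.eq_zero_iff_mem.1 h0)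
      · intro hx
        obtain ⟨y, rfl⟩ := Ideal.Quotient.mk_surjective x
        exact ⟨y, fun hy => hx (Ideal.Quotient.eq_zero_iff_mem.2 hy), rfl⟩
    rw [e]
    exact inferInstanceAs (IsFractionRing (A ⧸ p) p.ResidueField)
  have h1 : TensorProduct.AlgebraTensorModule.rTensor A M j ((Ideal.Quotient.mk p 1) ⊗ₜ[A] m) = 0 := by
    rw [← h]; simp [j]
  obtain ⟨⟨s, hs⟩, hsm⟩ := (IsLocalizedModule.eq_zero_iff p.primeCompl (TensorProduct.AlgebraTensorModule.rTensor A M j)).1 h1
  refine ⟨s, hs, ?_⟩
  have := congrArg (TensorProduct.quotTensorEquivQuotSMul M p) hsm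
  rw [map_zero, Submonoid.smul_def, ← TensorProduct.tmul_smul, TensorProduct.quotTensorEquivQuotSMul_mk_tmul, one_smul] at this
  exact (Submodule.Quotient.mk_eq_zero _).1 this

/-- The fibre of a `B`-module over `p`, mapped to `κ(p) ⊗ M`. -/
theorem tmul_eq_zero_of_fibre (p : Ideal A) [p.IsPrime] (m : M)
    (h : ((1 : B ⊗[A] p.ResidueField) ⊗ₜ[B] m : (B ⊗[A] p.ResidueField) ⊗[B] M) = 0) :
    ((1 : p.ResidueField) ⊗ₜ[A] m : p.ResidueField ⊗[A] M) = 0 := by
  let g : B →ₗ[B] p.ResidueField →ₗ[A] (M →ₗ[B] (M ⊗[A] p.ResidueField)) :=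
    LinearMap.toSpanSingleton B _
      { toFun := fun x =>
          { toFun := fun z => z ⊗ₜ[A] x, map_add' := fun z z' => TensorProduct.add_tmul z z' x,
            map_smul' := fun b z => TensorProduct.smul_tmul' b z x }
        map_add' := fun x y => LinearMap.ext fun z => TensorProduct.tmul_add z x y
        map_smul' := fun c x => LinearMap.ext fun z => TensorProduct.tmul_smul c z x }
  let Φ := TensorProduct.lift (TensorProduct.AlgebraTensorModule.lift g)
  have := congrArg (fun z => TensorProduct.comm A M p.ResidueField (Φ z)) h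
  simp only [Φ, g, Algebra.TensorProduct.one_def, TensorProduct.lift.tmul, TensorProduct.AlgebraTensorModule.lift_tmul, LinearMap.toSpanSingleton_apply, one_smul, map_zero] at this
  simpa using (show TensorProduct.comm A M p.ResidueField (m ⊗ₜ[A] (1 : p.ResidueField)) = 0 from this)
end

/-- Let A be a commutative ring, B a finitely presented A-algebra and M a finitely presented B-module
which is flat over A. Suppose that for every prime p of A, with residue field κ(p), the fibre module
(B ⊗_A κ(p)) ⊗_B M over the fibre ring B ⊗_A κ(p) satisfies Serre's condition (S_1) in the form: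
each of its associated primes is a minimal prime of its annihilator. Let a be an element of B whose
image a ⊗ 1 in every fibre ring B ⊗_A κ(p) lies in no minimal prime of the annihilator of the fibre
module. Then a is a non-zero-divisor on M. (Since all hypotheses are preserved by base change of A
and by passing to affine opens, this expresses that a flat finitely presented sheaf with (S_1)
fibres is pure relative to the base after every base change. The published statement is an
equivalence for sheaves on a locally finitely presented morphism, quantified over all base changes;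
this row states its direct implication in affine form.) -/
theorem result (A B M : Type u) [CommRing A] [CommRing B] [Algebra A B]
    [Algebra.FinitePresentation A B] [AddCommGroup M] [Module B M] [Module A M]
    [IsScalarTower A B M] [Module.FinitePresentation B M] [Module.Flat A M]
    (hS1 : ∀ (p : Ideal A) [p.IsPrime],
      associatedPrimes (B ⊗[A] p.ResidueField) ((B ⊗[A] p.ResidueField) ⊗[B] M) ⊆
        (Module.annihilator (B ⊗[A] p.ResidueField) ((B ⊗[A] p.ResidueField) ⊗[B] M)).minimalPrimes)
    (a : B)
    (ha : ∀ (p : Ideal A) [p.IsPrime],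
      ∀ P ∈ (Module.annihilator (B ⊗[A] p.ResidueField) ((B ⊗[A] p.ResidueField) ⊗[B] M)).minimalPrimes,
        a ⊗ₜ[A] (1 : p.ResidueField) ∉ P) :
    IsSMulRegular M a := by
  rw [isSMulRegular_iff_right_eq_zero_of_smul]
  intro m hm
  suffices hann : (Submodule.span B {m}).annihilator = ⊤ by
    have : (1 : B) ∈ (Submodule.span B {m}).annihilator := by rw [hann]; trivial
    simpa [Submodule.mem_annihilator_span_singleton] using this
  by_contra hne
  obtain ⟨Q, hQ, hle⟩ := Ideal.exists_le_maximal _ hne
  let q : PrimeSpectrum B := ⟨Q, hQ.isPrime⟩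
  let p : Ideal A := Q.comap (algebraMap A B)
  haveI : p.IsPrime := Ideal.comap_isPrime _ Q
  have hfib : Groth.Agent.EGA43.InjFibre.FibInjAt A B (LinearMap.lsmul B M a) q := by
    intro z hz
    obtain ⟨c, hc, hcz⟩ := hz
    let R := B ⊗[A] p.ResidueField
    let F := R ⊗[B] M
    haveI : IsNoetherianRing (p.ResidueField ⊗[A] B) := Algebra.FiniteType.isNoetherianRing p.ResidueField _
    haveI : IsNoetherianRing R :=
      isNoetherianRing_of_ringEquiv _ (Algebra.TensorProduct.comm A p.ResidueField B).toRingEquiv
    have hreg : IsSMulRegular F (a ⊗ₜ[A] (1 : p.ResidueField) : R) := by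
      by_contra hnr
      have hmem : (a ⊗ₜ[A] (1 : p.ResidueField) : R) ∈ ⋃ P ∈ associatedPrimes R F, (P : Set R) := by
        rw [biUnion_associatedPrimes_eq_compl_regular R F]; exact hnr
      obtain ⟨P, hP, hPa⟩ := Set.mem_iUnion₂.1 hmem
      exact ha p P (hS1 p hP) hPa
    have h0 : ((1 : R) ⊗ₜ[B] (a • c • z) : F) = 0 := by
      have hmem : a • c • z ∈ p • (⊤ : Submodule A M) := by rw [smul_comm]; exact hcz
      refine Submodule.smul_induction_on hmem (fun r hr y _ => ?_) (fun x y hx hy => by rw [TensorProduct.tmul_add, hx, hy, add_zero])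
      have e : (algebraMap B R) (algebraMap A B r) = 0 := by
        rw [← IsScalarTower.algebraMap_apply A B R, Algebra.TensorProduct.algebraMap_apply, Algebra.algebraMap_eq_smul_one,
          TensorProduct.smul_tmul, ← Algebra.algebraMap_eq_smul_one, Ideal.algebraMap_residueField_eq_zero.2 hr, TensorProduct.tmul_zero]
      rw [← algebraMap_smul B r y, TensorProduct.tmul_smul, ← algebraMap_smul R, e, zero_smul]
    have h1 : ((1 : R) ⊗ₜ[B] (c • z) : F) = 0 := by
      refine hreg.right_eq_zero_of_smul ?_
      show algebraMap B R a • ((1 : R) ⊗ₜ[B] (c • z) : F) = 0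
      rw [algebraMap_smul, ← TensorProduct.tmul_smul]
      exact h0
    obtain ⟨s, hs, hsz⟩ := exists_smul_mem_of_tmul_eq_zero p (c • z) (tmul_eq_zero_of_fibre p (c • z) h1)
    refine ⟨algebraMap A B s * c, fun h => (hQ.isPrime.mem_or_mem h).elim hs hc, ?_⟩
    rw [mul_smul, algebraMap_smul]
    exact hsz
  obtain ⟨c, hc, hkill, -⟩ := Groth.Agent.FlatMorSlice.exists_regular_step (A := A) a q (flat_localizedModule _) hfib
  obtain ⟨k, hk⟩ := hkill m hm
  exact hc (hQ.isPrime.mem_of_pow_mem k (hle ((Submodule.mem_annihilator_span_singleton m (c ^ k)).2 hk)))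

end Groth.Agent.S19195
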