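import Groth.Statements.S19196
import Mathlib
import Groth.Prelude

set_option linter.all false

set_option autoImplicit false
universe u
open RelS1


namespace Groth.Agent.S19196

/-- Let R be a Noetherian commutative ring and N a finitely generated R-module which fails Serre's
condition (S_1), in the sense that some associated prime of N is not a minimal prime of the
annihilator of N. Then there exist an element a of R lying in no minimal prime of the annihilator of
N and a nonzero element b of N with a • b = 0; thus the basic open set D(a) meets the support of N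
densely while restriction to it is not injective on N. -/
theorem result (R N : Type u) [CommRing R] [IsNoetherianRing R]
    [AddCommGroup N] [Module R N] [Module.Finite R N]
    (h : ¬ associatedPrimes R N ⊆ (Module.annihilator R N).minimalPrimes) :
    ∃ (a : R) (b : N), (∀ P ∈ (Module.annihilator R N).minimalPrimes, a ∉ P) ∧ b ≠ 0 ∧ a • b = 0 := by
  classical
  obtain ⟨P, hP, hPmin⟩ := Set.not_subset.1 h
  have hfin := (Module.annihilator R N).finite_minimalPrimes_of_isNoetherianRing R
  have hnot : ¬ ((P : Set R) ⊆ ⋃ Q ∈ ↑hfin.toFinset, ((Q : Ideal R) : Set R)) := by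
    intro hs
    obtain ⟨Q, hQ, hPQ⟩ := (Ideal.subset_union_prime (f := id) ⊥ ⊥ (fun Q hQ _ _ => (hfin.mem_toFinset.1 hQ).1.1)).1 hs
    have hQ' := hfin.mem_toFinset.1 hQ
    have hann := hP.annihilator_le
    rw [Submodule.annihilator_top] at hann
    exact hPmin (le_antisymm (hQ'.2 ⟨hP.isPrime, hann⟩ hPQ) hPQ ▸ hQ')
  obtain ⟨a, haP, ha⟩ := Set.not_subset.1 hnot
  obtain ⟨hprime, b, hb⟩ := (isAssociatedPrime_iff_exists_injective_linearMap P N).1 hP |>.imp id fun ⟨f, hf⟩ =>
    (⟨f (Ideal.Quotient.mk P 1), f, hf, rfl⟩ : ∃ b, ∃ f : R ⧸ P →ₗ[R] N, Function.Injective f ∧ b = f (Ideal.Quotient.mk P 1))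
  obtain ⟨f, hf, rfl⟩ := hb
  refine ⟨a, f (Ideal.Quotient.mk P 1), fun Q hQ haQ => ha (Set.mem_biUnion (hfin.mem_toFinset.2 hQ) haQ), ?_, ?_⟩
  · rw [ne_eq, map_eq_zero_iff f hf, Ideal.Quotient.eq_zero_iff_mem]
    exact (Ideal.ne_top_iff_one P).1 hprime.ne_top
  · rw [← map_smul, map_eq_zero_iff f hf, Algebra.smul_def, Ideal.Quotient.algebraMap_eq, ← map_mul, mul_one,
      Ideal.Quotient.eq_zero_iff_mem]
    exact haP

end Groth.Agent.S19196
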