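import Groth.Statements.S19198
import Groth.Agent.ModelLib7.IsoOfGeneric
import Groth.Agent.ModelLib7.IsoSpread
import Groth.Agent.ModelLib7.SpecialFibre
import Groth.Agent.Props12.Stalks
-- import your own Groth.Agent.* helpers here

set_option autoImplicit false
set_option backward.isDefEq.respectTransparency false
universe u
open CategoryTheory AlgebraicGeometry
open Models

namespace Groth.Agent.S19198

/-- Form over the valuation ring: let R be a discrete valuation ring with a uniformizer ϖ, let C → Spec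
R be flat and locally of finite type, f : X → C proper, and Z → X a closed immersion with Z flat
over R such that the composite Z → C restricts to an isomorphism over the generic fibre, the
preimage of the open set D(ϖ) of Spec R. Then for every point c of C whose local ring is an
integrally closed domain of Krull dimension one (a codimension-one point at which C is normal, for
instance a generic point of the closed fibre lying in the smooth locus), there is an open
neighbourhood V of c over which Z → C is an isomorphism. (The published statement, that the closed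
fibre of such a Z maps isomorphically onto the closed fibre of C over every generic point of its
smooth locus, also after a finite extension of R, follows by restriction to the closed fibre and
flat descent.) -/
theorem result (R : Type u) [CommRing R] [IsDomain R]
    [IsDiscreteValuationRing R] {C X Z : Scheme.{u}} (πC : C ⟶ Spec (CommRingCat.of R)) [Flat πC]
    [LocallyOfFiniteType πC] (f : X ⟶ C) [IsProper f] (i : Z ⟶ X) [IsClosedImmersion i]
    [Flat ((i ≫ f) ≫ πC)] (ϖ : R) (hϖ : Irreducible ϖ)
    (hgen : IsIso ((i ≫ f) ∣_ (πC ⁻¹ᵁ (PrimeSpectrum.basicOpen ϖ))))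
    (c : C) (hdom : IsDomain (C.presheaf.stalk c)) (hnorm : IsIntegrallyClosed (C.presheaf.stalk c))
    (hdim : ringKrullDim (C.presheaf.stalk c) = 1) :
    ∃ V : C.Opens, c ∈ V ∧ IsIso ((i ≫ f) ∣_ V) := by
  let h : Z ⟶ C := i ≫ f
  haveI : IsProper h := inferInstanceAs (IsProper (i ≫ f))
  haveI : IsNoetherianRing R := inferInstance
  haveI : IsLocallyNoetherian C := LocallyOfFiniteType.isLocallyNoetherian πC
  let W : C.Opens := πC ⁻¹ᵁ (PrimeSpectrum.basicOpen ϖ)
  haveI : IsIso (h ∣_ W) := hgen
  by_cases hcW : c ∈ W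
  · exact ⟨W, hcW, hgen⟩
  haveI := hdom
  haveI := hnorm
  haveI : IsDiscreteValuationRing (C.presheaf.stalk c) := ModelLib7.isDVR_of_dim_one _ hdim
  let O := C.presheaf.stalk c
  let gc : Spec O ⟶ C := C.fromSpecStalk c
  haveI : Flat gc := Props12.flat_fromSpecStalk c
  obtain ⟨φ, hφ⟩ : ∃ φ : CommRingCat.of R ⟶ O, Spec.map φ = gc ≫ πC := ⟨_, Spec.map_preimage _⟩
  have hφflat : φ.hom.Flat := (Flat.SpecMap_iff (f := φ)).1 (hφ ▸ inferInstance)
  have hφϖ : φ.hom ϖ ≠ 0 := by
    intro h0
    letI := φ.hom.toAlgebra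
    haveI : Module.Flat R O := hφflat
    have hz : (ϖ • (1 : O)) = ϖ • (0 : O) := by
      rw [smul_zero, Algebra.smul_def, mul_one]; exact h0
    exact one_ne_zero ((Module.Flat.isSMulRegular_of_isRegular (M := O) (isRegular_of_ne_zero hϖ.ne_zero)) hz)
  let D' : (Spec O).Opens := gc ⁻¹ᵁ W
  have hD' : D' = PrimeSpectrum.basicOpen (φ.hom ϖ) := by
    show (gc ≫ πC) ⁻¹ᵁ PrimeSpectrum.basicOpen ϖ = _
    rw [← hφ]; rfl
  -- the lift of the generic point
  let K := FractionRing O
  let j : Spec (CommRingCat.of K) ⟶ Spec O := Spec.map (CommRingCat.ofHom (algebraMap O K))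
  have hj : Set.range (j ≫ gc) ⊆ Set.range W.ι := by
    rintro _ ⟨a, rfl⟩
    rw [Scheme.Opens.range_ι, Scheme.Hom.comp_apply]
    show j a ∈ D'
    rw [hD']
    show algebraMap O K (φ.hom ϖ) ∉ (a : PrimeSpectrum K).asIdeal
    exact fun hm => a.2.ne_top (Ideal.eq_top_of_isUnit_mem _ hm
      (((map_ne_zero_iff _ (IsFractionRing.injective O K)).2 hφϖ).isUnit))
  let jW := IsOpenImmersion.lift W.ι (j ≫ gc) hj
  let i₁ : Spec (CommRingCat.of K) ⟶ Z := jW ≫ inv (h ∣_ W) ≫ (h ⁻¹ᵁ W).ι
  have hi₁ : i₁ ≫ h = j ≫ gc := by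
    simp only [i₁, Category.assoc]
    rw [← morphismRestrict_ι, IsIso.inv_hom_id_assoc]
    exact IsOpenImmersion.lift_fac _ _ _
  have hex : ValuativeCriterion.Existence h :=
    (show (ValuativeCriterion.Existence ⊓ @QuasiCompact) h by
      rw [← UniversallyClosed.eq_valuativeCriterion]; infer_instance).1
  obtain ⟨⟨l, hl₁, hl₂⟩⟩ := (hex ⟨O, K, i₁, gc, ⟨hi₁⟩⟩).exists_lift
  let q := Limits.pullback.snd h gc
  let s : Spec O ⟶ Limits.pullback h gc := Limits.pullback.lift l (𝟙 _) (by rw [Category.id_comp]; exact hl₂)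
  have hsq : s ≫ q = 𝟙 _ := Limits.pullback.lift_snd _ _ _
  haveI : IsClosedImmersion (s ≫ q) := by rw [hsq]; infer_instance
  haveI : IsClosedImmersion s := IsClosedImmersion.of_comp s q
  let p : Limits.pullback h gc ⟶ Spec (CommRingCat.of R) := q ≫ gc ≫ πC
  haveI : Flat p := by
    have e : p = Limits.pullback.fst h gc ≫ (h ≫ πC) := by
      simp only [p, q]; rw [← Limits.pullback.condition_assoc]
    rw [e]
    haveI : Flat (h ≫ πC) := ‹Flat ((i ≫ f) ≫ πC)›
    haveI : Flat (Limits.pullback.fst h gc) := MorphismProperty.pullback_fst _ _ inferInstance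
    infer_instance
  -- the morphism is an isomorphism over `D'`
  haveI : IsIso (q ∣_ D') := by
    let m : D'.toScheme ⟶ W.toScheme := gc ∣_ W
    have hbig : IsPullback ((q ⁻¹ᵁ D').ι ≫ Limits.pullback.fst h gc) (q ∣_ D') h (m ≫ W.ι) := by
      rw [morphismRestrict_ι]
      exact (isPullback_morphismRestrict q D').flip.paste_horiz (IsPullback.of_hasPullback h gc)
    let sq := (isPullback_morphismRestrict h W).flip
    have hm : IsPullback (sq.lift ((q ⁻¹ᵁ D').ι ≫ Limits.pullback.fst h gc) ((q ∣_ D') ≫ m)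
        (hbig.w.trans (Category.assoc _ _ _).symm)) (q ∣_ D') (h ∣_ W) m := by
      refine IsPullback.of_right ?_ (sq.lift_snd _ _ _) sq
      rw [sq.lift_fst]; exact hbig
    exact MorphismProperty.of_isPullback (P := MorphismProperty.isomorphisms Scheme.{u}) hm ‹IsIso (h ∣_ W)›
  haveI : IsIso (s ∣_ (q ⁻¹ᵁ D')) := by
    have e : IsIso ((s ≫ q) ∣_ D') := by rw [hsq]; infer_instance
    rw [morphismRestrict_comp] at e
    exact IsIso.of_isIso_comp_right _ (q ∣_ D')
  have hb : q ⁻¹ᵁ D' = (Limits.pullback h gc).basicOpen (Coh.toGlobal p ϖ) := by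
    exact (congrArg (fun V : (Spec (CommRingCat.of R)).Opens => p ⁻¹ᵁ V)
      (basicOpen_eq_of_affine (R := CommRingCat.of R) ϖ)).symm.trans (Scheme.preimage_basicOpen p _)
  haveI : IsIso (s ∣_ (Limits.pullback h gc).basicOpen (Coh.toGlobal p ϖ)) := hb ▸ ‹IsIso (s ∣_ (q ⁻¹ᵁ D'))›
  haveI : IsIso s := ModelLib7.isIso_of_isIso_restrict_basicOpen s (Coh.toGlobal p ϖ) fun x a ha => by
    have hf := ModelLib7.flat_germ_toGlobal p x
    letI := ((((Limits.pullback h gc).presheaf.germ ⊤ x trivial).hom).comp (Coh.toGlobal p)).toAlgebra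
    haveI : Module.Flat R ((Limits.pullback h gc).presheaf.stalk x) := hf
    apply Module.Flat.isSMulRegular_of_isRegular (M := (Limits.pullback h gc).presheaf.stalk x) (isRegular_of_ne_zero hϖ.ne_zero)
    show ϖ • a = ϖ • (0 : (Limits.pullback h gc).presheaf.stalk x)
    rw [smul_zero, Algebra.smul_def]
    exact ha
  haveI : IsIso q := by
    haveI : IsIso (s ≫ q) := by rw [hsq]; infer_instance
    exact IsIso.of_isIso_comp_left s q
  exact ModelLib7.exists_isIso_nhd_of_isIso_pullback_fromSpecStalk h c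

end Groth.Agent.S19198
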