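import Groth.Statements.S19202
import Mathlib.AlgebraicGeometry.IdealSheaf.Subscheme
import Mathlib.AlgebraicGeometry.Morphisms.Flat
import Mathlib.RingTheory.Flat.TorsionFree

set_option autoImplicit false
universe u
open CategoryTheory AlgebraicGeometry
open FlatMor

namespace Groth.Agent.S19202

/-- Flatness of a closed subscheme from its affine pieces. -/
theorem flat_subscheme {R : CommRingCat.{u}} {Y : Scheme.{u}} (I : Y.IdealSheafData) (q : Y ⟶ Spec R)
    (ψ : ∀ U : Y.affineOpens, R ⟶ Γ(Y, U)) (hψ : ∀ U, Spec.map (ψ U) = U.2.fromSpec ≫ q)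
    (h : ∀ U : Y.affineOpens, (ψ U ≫ CommRingCat.ofHom (Ideal.Quotient.mk (I.ideal U))).hom.Flat) :
    Flat (I.subschemeι ≫ q) := by
  refine IsZariskiLocalAtSource.of_openCover (P := @Flat) I.subschemeCover.openCover fun U => ?_
  show Flat (I.subschemeCover.f U ≫ I.subschemeι ≫ q)
  rw [← Category.assoc, Scheme.IdealSheafData.subschemeCover_map_subschemeι]
  have := (Flat.SpecMap_iff).2 (h U)
  rw [Spec.map_comp, hψ] at this
  rw [← IsAffineOpen.isoSpec_inv_ι, ← Category.assoc, Category.assoc, ← Category.assoc] at this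
  exact this

/-- A section vanishing on every smaller affine open is zero. -/
theorem zero_of_affine {X : Scheme.{u}} {O : X.Opens} (s : Γ(X, O))
    (h : ∀ (W : X.Opens) (_ : IsAffineOpen W) (hle : W ≤ O), X.presheaf.map (homOfLE hle).op s = 0) : s = 0 := by
  refine TopCat.Presheaf.section_ext X.sheaf O s 0 fun x hx => ?_
  obtain ⟨W, hW, hxW, hWO⟩ := exists_isAffineOpen_mem_and_subset (x := x) (U := O) hx
  show X.presheaf.germ O x hx s = X.presheaf.germ O x hx 0
  rw [← TopCat.Presheaf.germ_res_apply X.presheaf (homOfLE hWO) x hxW, ← TopCat.Presheaf.germ_res_apply X.presheaf (homOfLE hWO) x hxW]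
  rw [h W hW hWO]
  simp only [map_zero]

/-- Let R be a Dedekind domain, X and Y schemes over Spec R with X flat over Spec R, and f : X → Y a
morphism over Spec R. Then the scheme-theoretic image of f, i.e. the closed subscheme of Y cut out
by the kernel ideal sheaf of f, is flat over Spec R. (The published statement takes the base to be a
non-singular curve and f proper; this row takes the spectrum of any Dedekind domain and any morphism
f over it.) -/
theorem result (R : Type u) [CommRing R] [IsDedekindDomain R]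
    {X Y : Scheme.{u}} (p : X ⟶ Spec (CommRingCat.of R)) (q : Y ⟶ Spec (CommRingCat.of R))
    (f : X ⟶ Y) (w : f ≫ q = p) [Flat p] : Flat (f.imageι ≫ q) := by
  have hψ : ∀ U : Y.affineOpens, ∃ ψ : CommRingCat.of R ⟶ Γ(Y, U), Spec.map ψ = U.2.fromSpec ≫ q :=
    fun U => ⟨Spec.preimage _, Spec.map_preimage _⟩
  choose ψ hψ using hψ
  have hres : ∀ {U V : Y.affineOpens} (h : V.1 ≤ U.1), ψ U ≫ Y.presheaf.map (homOfLE h).op = ψ V := by
    intro U V h
    apply Spec.map_injective
    rw [Spec.map_comp, hψ, hψ, ← Category.assoc]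
    congr 1
    exact U.2.map_fromSpec V.2 (homOfLE h).op
  have hker : ∀ (r : R), r ≠ 0 → ∀ (U : Y.affineOpens) (a : Γ(Y, U)),
      f.app U.1 (ψ U r * a) = 0 → f.app U.1 a = 0 := by
    intro r hr U a ha
    refine zero_of_affine _ fun W hW hWU => ?_
    have hb : f.appLE U.1 W hWU (ψ U r) * f.appLE U.1 W hWU a = 0 := by
      rw [← map_mul]
      show (f.app U.1 ≫ X.presheaf.map _) _ = 0
      rw [CommRingCat.comp_apply, ha, map_zero]
    have hfl : (ψ U ≫ f.appLE U.1 W hWU).hom.Flat := by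
      rw [← Flat.SpecMap_iff, Spec.map_comp, hψ, ← Category.assoc,
        U.2.SpecMap_appLE_fromSpec f hW hWU, Category.assoc, w]
      infer_instance
    algebraize [(ψ U ≫ f.appLE U.1 W hWU).hom]
    exact (Module.Flat.isSMulRegular_of_isRegular (R := R) (M := Γ(X, W)) (r := r) (isRegular_of_ne_zero hr))
      (show r • f.appLE U.1 W hWU a = r • 0 by rw [smul_zero, Algebra.smul_def]; exact hb)
  have hsat : ∀ (r : R), r ≠ 0 → ∀ (U : Y.affineOpens) (a : Γ(Y, U)),
      ψ U r * a ∈ f.ker.ideal U → a ∈ f.ker.ideal U := by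
    intro r hr
    let J : ∀ U : Y.affineOpens, Ideal Γ(Y, U) := fun U =>
      Submodule.comap (LinearMap.mulLeft Γ(Y, U) (ψ U r)) (f.ker.ideal U)
    have hJ : ∀ (U : Y.affineOpens) (g : Γ(Y, U)), (J U).map (Y.presheaf.map (homOfLE <| Y.basicOpen_le g).op).hom =
        J (Y.affineBasicOpen g) := by
      intro U g
      let ρ := (Y.presheaf.map (homOfLE <| Y.basicOpen_le g).op).hom
      have hρ : ρ (ψ U r) = ψ (Y.affineBasicOpen g) r :=
        congr($(hres (U := U) (V := Y.affineBasicOpen g) (Y.basicOpen_le g)) r)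
      have hI := f.ker.map_ideal_basicOpen U g
      let _ : Algebra Γ(Y, U) Γ(Y, Y.basicOpen g) := ρ.toAlgebra
      have : IsLocalization.Away g Γ(Y, Y.basicOpen g) := U.2.isLocalization_basicOpen g
      refine le_antisymm (Ideal.map_le_iff_le_comap.2 fun a (ha : ψ U r * a ∈ f.ker.ideal U) => ?_) fun b hb => ?_
      · have h0 : ρ (ψ U r * a) ∈ f.ker.ideal (Y.affineBasicOpen g) := hI ▸ Ideal.mem_map_of_mem ρ ha
        rw [map_mul, hρ] at h0
        exact h0
      · obtain ⟨⟨a, s⟩, ha⟩ := IsLocalization.surj (Submonoid.powers g) (show Γ(Y, Y.basicOpen g) from b)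
        have h1 : ρ (ψ U r * a) ∈ (f.ker.ideal U).map ρ := by
          rw [map_mul, hρ, show ρ a = b * ρ s from ha.symm, ← mul_assoc, hI]
          exact Ideal.mul_mem_right _ _ hb
        obtain ⟨t, ht, hta⟩ := (IsLocalization.algebraMap_mem_map_algebraMap_iff (Submonoid.powers g)
          Γ(Y, Y.basicOpen g) (f.ker.ideal U) (ψ U r * a)).1 h1
        refine (Ideal.mul_unit_mem_iff_mem _ (IsLocalization.map_units Γ(Y, Y.basicOpen g) (⟨t, ht⟩ * s))).1 ?_
        have h2 : t * a ∈ J U := by
          show ψ U r * (t * a) ∈ f.ker.ideal U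
          rwa [← mul_assoc, mul_comm (ψ U r) t, mul_assoc]
        have := Ideal.mem_map_of_mem ρ h2
        rw [map_mul, show ρ a = b * ρ s from ha.symm] at this
        show b * ρ (t * s) ∈ _
        rwa [map_mul, mul_left_comm]
    let 𝒥 : Y.IdealSheafData := { ideal := J, map_ideal_basicOpen := hJ }
    have hle : 𝒥 ≤ f.ker := Scheme.IdealSheafData.le_ofIdeals_iff.2 fun U a (ha : a ∈ J U) =>
      hker r hr U a (f.ideal_ker_le U ha)
    exact fun U a ha => hle U (show a ∈ J U from ha)
  refine flat_subscheme f.ker q ψ hψ fun U => ?_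
  algebraize [(ψ U ≫ CommRingCat.ofHom (Ideal.Quotient.mk (f.ker.ideal U))).hom]
  show Module.Flat R (Γ(Y, U) ⧸ f.ker.ideal U)
  rw [IsDedekindDomain.flat_iff_torsion_eq_bot, eq_bot_iff]
  rintro x ⟨⟨r, hr⟩, hrx⟩
  obtain ⟨a, rfl⟩ := Ideal.Quotient.mk_surjective x
  change r • Ideal.Quotient.mk (f.ker.ideal U) a = 0 at hrx
  rw [Algebra.smul_def] at hrx
  have h1 : Ideal.Quotient.mk (f.ker.ideal U) (ψ U r * a) = 0 := by rw [map_mul]; exact hrx
  exact (Submodule.mem_bot R).2 (Ideal.Quotient.eq_zero_iff_mem.2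
    (hsat r (nonZeroDivisors.ne_zero hr) U a (Ideal.Quotient.eq_zero_iff_mem.1 h1)))

end Groth.Agent.S19202
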