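import Groth.Statements.S19203
import Groth.Agent.NumTriv23.FieldExt
import Groth.Agent.H0Growth23.Stable
import Groth.Agent.Desc19b.GGFpqc
import Groth.Agent.AmpleLib.GenLocus
import Groth.Agent.NumTriv23.Basic
import Mathlib

set_option autoImplicit false
universe u
open CategoryTheory AlgebraicGeometry
open Coh

open CategoryTheory AlgebraicGeometry Groth.Agent Groth.Agent.Coherent
set_option backward.isDefEq.respectTransparency false
set_option backward.isDefEq.respectTransparency.types false

namespace Groth.Agent.S19203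

/-- Let X be a scheme proper over a field k with dim X = r, and L an invertible O_X-module generated by
its global sections. Then for each i ≥ 1 the dimensions dim_k H^i(X, L^{⊗n}) are O(n^{r-1}): there
is a real constant C with dim_k H^i(X, L^{⊗n}) ≤ C·n^{r-1} for every n ≥ 1. (For r = 0 the exponent
r − 1 is read as 0; k is any field.) -/
theorem result (k : Type u) [Field k] (X : Scheme.{u})
    [X.Over (Spec (CommRingCat.of k))] [IsProper (X ↘ (Spec (CommRingCat.of k)))]
    (r : ℕ) (hdim : topologicalKrullDim X = r)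
    (L : X.Modules) (hL : PicF.IsInvertible L) (hgen : Curv2.IsGloballyGenerated L)
    (i : ℕ) (hi : 1 ≤ i) :
    ∃ C : ℝ, ∀ n : ℕ, 1 ≤ n →
      (Module.finrank k (Coh.HH X (CohB1.tensorPow L n) i) : ℝ) ≤ C * (n : ℝ) ^ (r - 1) := by
  let K : Type u := AlgebraicClosure k
  letI := NumTriv23.overBC (X := X) k K
  haveI : IsProper ((Curv2.bc k X K) ↘ Spec (CommRingCat.of K)) := NumTriv23.isProper_bc k K
  haveI := EulerLib.isNoetherian_of_proper (X := X) k
  haveI := EulerLib.isNoetherian_of_proper (X := Curv2.bc k X K) K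
  let g := Curv2.bcFst k X K
  let L' : (Curv2.bc k X K).Modules := (Scheme.Modules.pullback g).obj L
  have hL' : PicF.IsInvertible L' := PicLoc.isInvertible_pullback _ hL
  have hgg : Curv2.IsGloballyGenerated L' := Desc19b.isGloballyGenerated_pullback g hgen
  have hB : W4c5asymptcohfn.stableBaseLocus (Curv2.bc k X K) L' = ∅ := by
    refine Set.eq_empty_of_forall_notMem fun x hx => ?_
    obtain ⟨b, hb⟩ := NumTriv23.exists_mem_glocus_of_gg hL' hgg x
    let e : L' ≅ CohB1.tensorPow L' 1 := (AmpleLib.unitTensorIso L').symm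
    have h := Set.mem_iInter.1 hx 0 (unitDesc (CohB1.tensorPow L' 1) (e.hom.app ⊤ b))
    rw [AmpleLib.genLocus_eq_glocus, unitVal_unitDesc, PicLib.resM_self, AmpleLib.glocus_map_iso] at h
    exact h hb
  have hd0 : topologicalKrullDim ↥(W4c5asymptcohfn.stableBaseLocus (Curv2.bc k X K) L') ≤ ((0 : ℕ) : WithBot ℕ∞) := by
    rw [hB]
    haveI : IsEmpty (∅ : Set (Curv2.bc k X K)) := inferInstance
    haveI : IsEmpty (TopologicalSpace.IrreducibleCloseds (∅ : Set (Curv2.bc k X K))) := ⟨fun Z => IsEmpty.false Z.isIrreducible'.1.some⟩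
    exact le_of_eq_of_le Order.krullDim_eq_bot bot_le
  have hdim' := NumTriv23.dim_bc k K hdim
  obtain ⟨C, hC⟩ := H0Growth23.exists_bound_stable K hL' hd0 r _ (isCoh_structureModule (Curv2.bc k X K))
    (lt_of_le_of_lt ((topologicalKrullDim_subspace_le _ _).trans hdim'.le)
      (by exact_mod_cast (show r < 0 + 1 + r by omega))) i (by omega)
  refine ⟨((C * 2 ^ r : ℕ) : ℝ), fun n hn => ?_⟩
  have h := hC n
  have he : H0Growth23.hh K (Coh.structureModule (Curv2.bc k X K)) i (EulerLib.InvCl.mk L' hL' ^ n) =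
      Module.finrank k (Coh.HH X (CohB1.tensorPow L n) i) := by
    rw [← H0Growth23.hh_structure k i _ (AmpleLib.isInvertible_tensorPow hL n), ← NumTriv23.hh_bc k K i,
      EulerLib.InvCl.mk_tensorPow hL n, map_pow, VarietyLib.pullHom_mk g hL]
  rw [he] at h
  have h' : H0Growth23.bnd r n ≤ 2 ^ r * n ^ (r - 1) := by
    rcases r with _ | r
    · exact Nat.zero_le _
    · show (1 + n) ^ r ≤ _
      calc (1 + n) ^ r ≤ (2 * n) ^ r := Nat.pow_le_pow_left (by omega) r
        _ ≤ _ := by rw [mul_pow, Nat.add_sub_cancel]; exact Nat.mul_le_mul_right _ (Nat.pow_le_pow_right (by omega) (Nat.le_succ r))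
  have h'' : Module.finrank k (Coh.HH X (CohB1.tensorPow L n) i) ≤ C * 2 ^ r * n ^ (r - 1) :=
    h.trans (le_of_le_of_eq (Nat.mul_le_mul_left _ h') (by ring))
  exact_mod_cast h''


end Groth.Agent.S19203
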