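import Groth.Statements.S19208
import Groth.Agent.EGA41Lib.HilbertSamuel
import Mathlib.Analysis.Polynomial.Basic

set_option autoImplicit false
universe u
open Filter
open LocAlg

namespace Groth.Agent.S19208

/-- Let O be a Noetherian local ring of Krull dimension r containing a field, with maximal ideal m. The
zeroth flat multiplicity e_0(O), the supremum over m-primary ideals I of e(I)/(r!·length(O/I)) with
e(I) the Samuel multiplicity, is at least 1: for every ε > 0 there is an m-primary ideal I (I ⊆ m,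
m^N ⊆ I for some N) whose multiplicity e(I), the limit of r!·length(O/I^n)/n^r, satisfies e(I) ≥ (1
− ε)·r!·length(O/I). (The same statement for the power-series rings O[[t_1, …, t_k]] is the bound
e_k(O) ≥ 1 for the k-th flat multiplicity.) -/
theorem result (O : Type u) [CommRing O] [IsNoetherianRing O]
    [IsLocalRing O] (K : Type u) [Field K] [Algebra K O] (r : ℕ) (hr : ringKrullDim O = r)
    (ε : ℝ) (hε : 0 < ε) :
    ∃ (I : Ideal O) (e : ℝ), I ≤ IsLocalRing.maximalIdeal O ∧
      (∃ N : ℕ, IsLocalRing.maximalIdeal O ^ N ≤ I) ∧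
      Tendsto (fun n : ℕ => (r.factorial : ℝ) * ((Module.length O (O ⧸ I ^ n)).toNat : ℝ) / (n : ℝ) ^ r)
        atTop (nhds e) ∧
      (1 - ε) * ((r.factorial : ℝ) * ((Module.length O (O ⧸ I)).toNat : ℝ)) ≤ e := by
  open IsLocalRing in
  obtain ⟨P, ⟨N, hP⟩, hdeg⟩ := Groth.Agent.EGA41Lib.HS.exists_polynomial_degree (A := O) (M := O)
  rw [Module.supportDim_self_eq_ringKrullDim, hr] at hdeg
  have hdeg' : P.natDegree = r := by exact_mod_cast hdeg
  let m := IsLocalRing.maximalIdeal O
  have hlen : ∀ n, N ≤ n → ((Module.length O (O ⧸ m ^ n)).toNat : ℚ) = P.eval (n : ℚ) := by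
    intro n hn
    obtain ⟨ℓ, h1, h2⟩ := hP n hn
    have e : Ring.jacobson O ^ n • (⊤ : Submodule O O) = m ^ n := by
      rw [IsLocalRing.ringJacobson_eq_maximalIdeal, Ideal.smul_eq_mul, Ideal.mul_top]
    rw [(Submodule.quotEquivOfEq _ _ e).length_eq] at h1
    rw [h1, ← h2]; simp
  let Pr := P.map (algebraMap ℚ ℝ)
  have hlenR : ∀ n, N ≤ n → ((Module.length O (O ⧸ m ^ n)).toNat : ℝ) = Pr.eval (n : ℝ) := fun n hn => by
    have h := congrArg (fun q : ℚ => (q : ℝ)) (hlen n hn)
    simp only [Rat.cast_natCast] at h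
    rw [h, Polynomial.eval_map, show (n : ℝ) = algebraMap ℚ ℝ (n : ℚ) by simp, Polynomial.eval₂_at_apply]
    rfl
  have hpos : ∀ n, max N 1 ≤ n → (1 : ℝ) ≤ Pr.eval (n : ℝ) := by
    intro n hn
    obtain ⟨ℓ, h1, -⟩ := hP n (le_trans (le_max_left _ _) hn)
    rw [← hlenR n (le_trans (le_max_left _ _) hn)]
    have e : Ring.jacobson O ^ n • (⊤ : Submodule O O) = m ^ n := by
      rw [IsLocalRing.ringJacobson_eq_maximalIdeal, Ideal.smul_eq_mul, Ideal.mul_top]
    rw [(Submodule.quotEquivOfEq _ _ e).length_eq] at h1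
    haveI : Nontrivial (O ⧸ m ^ n) := Ideal.Quotient.nontrivial_iff.2 fun h =>
      (IsLocalRing.maximalIdeal.isMaximal O).ne_top (top_le_iff.1 (h ▸ Ideal.pow_le_self (by
        have := le_trans (le_max_right N 1) hn; omega)))
    have h2 : (0 : ℕ∞) < Module.length O (O ⧸ m ^ n) := Module.length_pos
    rw [h1] at h2 ⊢
    simp only [ENat.toNat_natCast]
    exact_mod_cast h2
  have hP0 : Pr ≠ 0 := fun h => by
    have := hpos (max N 1) le_rfl
    rw [h, Polynomial.eval_zero] at this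
    linarith
  have hPd : Pr.natDegree = r := by rw [Polynomial.natDegree_map]; exact hdeg'
  have hdegR : Pr.degree = (Polynomial.X ^ r : Polynomial ℝ).degree := by
    rw [Polynomial.degree_eq_natDegree hP0, Polynomial.degree_X_pow, hPd]
  let c := Pr.leadingCoeff
  have hlim : Tendsto (fun n : ℕ => Pr.eval (n : ℝ) / (n : ℝ) ^ r) atTop (nhds c) := by
    have h := (Polynomial.div_tendsto_leadingCoeff_div_of_degree_eq Pr (Polynomial.X ^ r) hdegR).comp
      (tendsto_natCast_atTop_atTop (R := ℝ))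
    simpa [Function.comp_def] using h
  have hc : 0 < c := by
    refine lt_of_le_of_ne (ge_of_tendsto hlim ?_) (Polynomial.leadingCoeff_ne_zero.2 hP0).symm
    filter_upwards [Filter.eventually_ge_atTop (max N 1)] with n hn
    have := hpos n hn
    positivity
  obtain ⟨K, hK⟩ : ∃ K : ℕ, (max N 1 ≤ K) ∧ (1 - ε) * (Pr.eval (K : ℝ) / (K : ℝ) ^ r) ≤ c := by
    have h : Tendsto (fun n : ℕ => (1 - ε) * (Pr.eval (n : ℝ) / (n : ℝ) ^ r)) atTop (nhds ((1 - ε) * c)) :=
      hlim.const_mul _
    have h1 := h.eventually (eventually_le_nhds (show (1 - ε) * c < c by nlinarith))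
    obtain ⟨K, h2, h3⟩ := ((Filter.eventually_ge_atTop (max N 1)).and h1).exists
    exact ⟨K, h2, h3⟩
  have hK1 : 1 ≤ K := le_trans (le_max_right _ _) hK.1
  refine ⟨m ^ K, (r.factorial : ℝ) * c * (K : ℝ) ^ r, Ideal.pow_le_self (by omega), ⟨K, le_rfl⟩, ?_, ?_⟩
  · have hm : Tendsto (fun n : ℕ => K * n) atTop atTop :=
      tendsto_atTop_mono (fun n => Nat.le_mul_of_pos_left n hK1) tendsto_id
    have h := ((hlim.comp hm).const_mul ((r.factorial : ℝ) * (K : ℝ) ^ r))
    rw [show (r.factorial : ℝ) * (K : ℝ) ^ r * c = (r.factorial : ℝ) * c * (K : ℝ) ^ r by ring] at h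
    refine h.congr' ?_
    filter_upwards [Filter.eventually_ge_atTop (max N 1)] with n hn
    have hn' : N ≤ K * n := le_trans (le_trans (le_max_left _ _) hn) (Nat.le_mul_of_pos_left n hK1)
    have hKr : (0 : ℝ) < (K : ℝ) ^ r := by positivity
    have hnr : (0 : ℝ) < (n : ℝ) ^ r := by
      have : 0 < n := le_trans (le_max_right N 1) hn
      positivity
    show (r.factorial : ℝ) * (K : ℝ) ^ r * (Pr.eval ((K * n : ℕ) : ℝ) / ((K * n : ℕ) : ℝ) ^ r) = _
    rw [← pow_mul, hlenR _ hn', Nat.cast_mul, mul_pow]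
    field_simp
  · rw [hlenR K (le_trans (le_max_left _ _) hK.1)]
    have hKr : (0 : ℝ) < (K : ℝ) ^ r := by positivity
    have h1 := hK.2
    rw [← mul_div_assoc, div_le_iff₀ hKr] at h1
    have h2 : (0 : ℝ) ≤ (r.factorial : ℝ) := by positivity
    nlinarith [mul_le_mul_of_nonneg_left h1 h2]

end Groth.Agent.S19208
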