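import Groth.Statements.S19209
import Mathlib
import Groth.Prelude

set_option linter.all false

set_option autoImplicit false
universe u
open Curves

open scoped BigOperators

namespace Groth.Agent.S19209

theorem chain_aux (n : ℕ) (p : ℕ → ℝ) (hpn : p n = 0) : ∀ d a : ℕ, a + d = n →
    ∃ (l : ℕ) (s : ℕ → ℕ), s 0 = a ∧ s l = n ∧ (∀ k : ℕ, k < l → s k < s (k + 1)) ∧
      ∑ k ∈ Finset.range l, ((s (k + 1) : ℝ) - s k) * (p (s k) + p (s (k + 1))) ≤ ∑ i ∈ Finset.Ico a n, (p i + p (i + 1)) ∧
      ∑ k ∈ Finset.range l, ((s (k + 1) : ℝ) - s k) * (p (s k) + p (s (k + 1))) ≤ ((n : ℝ) - a) * p a := by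
  intro d
  induction d using Nat.strong_induction_on with
  | _ d ih =>
    intro a had
    rcases Nat.eq_zero_or_pos d with rfl | hd
    · rw [add_zero] at had; subst had
      exact ⟨0, fun _ => a, rfl, rfl, by simp, by simp, by simp⟩
    obtain ⟨b, hb, hbmax⟩ := Finset.exists_max_image (Finset.Ioc a n) (fun b => (p a - p b) / ((b : ℝ) - a))
      (Finset.nonempty_Ioc.2 (by omega))
    rw [Finset.mem_Ioc] at hb
    set m := (p a - p b) / ((b : ℝ) - a) with hm
    have hba : (0 : ℝ) < (b : ℝ) - a := by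
      have : (a : ℝ) < b := by exact_mod_cast hb.1
      linarith
    have hmb : m * ((b : ℝ) - a) = p a - p b := div_mul_cancel₀ _ hba.ne'
    have hline : ∀ i, a ≤ i → i ≤ n → p a - m * ((i : ℝ) - a) ≤ p i := by
      intro i h1 h2
      rcases eq_or_lt_of_le h1 with rfl | h1
      · simp
      have hia : (0 : ℝ) < (i : ℝ) - a := by
        have : (a : ℝ) < i := by exact_mod_cast h1
        linarith
      have := (div_le_iff₀ hia).1 (hbmax i (Finset.mem_Ioc.2 ⟨h1, h2⟩))
      linarith
    obtain ⟨l, s, hs0, hsl, hsm, hS1, hS2⟩ := ih (n - b) (by omega) b (by omega)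
    refine ⟨l + 1, fun k => if k = 0 then a else s (k - 1), rfl, by simpa using hsl, fun k hk => ?_, ?_, ?_⟩
    · rcases k with _ | k
      · simpa [hs0] using hb.1
      · simpa using hsm k (by omega)
    all_goals
      rw [Finset.sum_range_succ']
      simp only [Nat.add_eq_zero_iff, one_ne_zero, and_false, if_false, Nat.add_sub_cancel, if_pos, hs0, zero_add,
        Nat.sub_self]
    · rw [← Finset.sum_Ico_consecutive _ hb.1.le hb.2, add_comm]
      refine add_le_add ?_ hS1
      have e1 : ∀ c : ℕ, a + c ≤ n → (c : ℝ) * (2 * p a - m * c) ≤ ∑ i ∈ Finset.Ico a (a + c), (p i + p (i + 1)) := by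
        intro c
        induction c with
        | zero => simp
        | succ c ihc =>
          intro hc
          rw [← Nat.add_assoc, Finset.sum_Ico_succ_top (by omega)]
          have h1 := hline (a + c) (by omega) (by omega)
          have h2 := hline (a + c + 1) (by omega) (by omega)
          have h3 := ihc (by omega)
          push_cast at h1 h2 ⊢
          linarith
      have := e1 (b - a) (by omega)
      rw [Nat.add_sub_cancel' hb.1.le, Nat.cast_sub hb.1.le] at this
      calc ((b : ℝ) - a) * (p a + p b) = ((b : ℝ) - a) * (2 * p a - m * ((b : ℝ) - a)) := by rw [hmb]; ring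
        _ ≤ _ := this
    · have h1 := hline n (by omega) le_rfl
      rw [hpn] at h1
      have h2 : p b * ((n : ℝ) - a) ≤ p a * ((n : ℝ) - b) := by
        have h3 := mul_le_mul_of_nonneg_left h1 hba.le
        have h4 : ((b : ℝ) - a) * (p a - m * ((n : ℝ) - a)) = ((b : ℝ) - a) * p a - (p a - p b) * ((n : ℝ) - a) := by
          rw [← hmb]; ring
        linarith
      linarith

/-- Let n ≥ 1 and let p_0 ≥ p_1 ≥ … ≥ p_n = 0 be real numbers. Then some chain 0 = s_0 < s_1 < … < s_l =
n satisfies Σ_{k<l} (p_{s_k} − p_{s_{k+1}})·(s_k + s_{k+1}) ≤ (2n/(n+1))·(p_0 + p_1 + … + p_n).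
Equivalently the minimum of these sums over all chains, which is twice the area under the Newton
polygon (lower convex hull) of the points (k, p_k), is at most 2n/(n+1) times the sum of the
weights. -/
theorem result (n : ℕ) (hn : 1 ≤ n) (p : ℕ → ℝ)
    (hp : ∀ i j : ℕ, i ≤ j → j ≤ n → p j ≤ p i) (hpn : p n = 0) :
    ∃ (l : ℕ) (s : ℕ → ℕ), s 0 = 0 ∧ s l = n ∧ (∀ k : ℕ, k < l → s k < s (k + 1)) ∧
      (∑ k ∈ Finset.range l, (p (s k) - p (s (k + 1))) * ((s k : ℝ) + (s (k + 1) : ℝ))) ≤
        2 * (n : ℝ) / ((n : ℝ) + 1) * ∑ i ∈ Finset.range (n + 1), p i := by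
  obtain ⟨l, s, hs0, hsl, hsm, hS1, hS2⟩ := chain_aux n p hpn n 0 (zero_add n)
  refine ⟨l, s, hs0, hsl, hsm, ?_⟩
  have e : ∑ k ∈ Finset.range l, (p (s k) - p (s (k + 1))) * ((s k : ℝ) + (s (k + 1) : ℝ)) =
      ∑ k ∈ Finset.range l, ((s (k + 1) : ℝ) - s k) * (p (s k) + p (s (k + 1))) := by
    have h0 : ∑ k ∈ Finset.range l, (2 * (s (k + 1) : ℝ) * p (s (k + 1)) - 2 * (s k : ℝ) * p (s k)) = 0 := by
      rw [Finset.sum_range_sub (fun k => 2 * (s k : ℝ) * p (s k)) l, hs0, hsl, hpn]; simp
    rw [← sub_eq_zero, ← Finset.sum_sub_distrib, ← neg_eq_zero, ← h0, ← Finset.sum_neg_distrib]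
    exact Finset.sum_congr rfl fun k _ => by ring
  have hT : ∑ i ∈ Finset.Ico 0 n, (p i + p (i + 1)) = 2 * (∑ i ∈ Finset.range (n + 1), p i) - p 0 := by
    rw [Nat.Ico_zero_eq_range, Finset.sum_add_distrib, two_mul]
    conv_rhs => rw [Finset.sum_range_succ p n, hpn, add_zero]
    have := Finset.sum_range_succ' p n
    rw [Finset.sum_range_succ p n, hpn, add_zero] at this
    linarith
  rw [e, div_mul_eq_mul_div, le_div_iff₀ (by positivity)]
  rw [hT] at hS1
  rw [Nat.cast_zero, sub_zero] at hS2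
  have := mul_le_mul_of_nonneg_left hS1 (Nat.cast_nonneg (α := ℝ) n)
  linarith

end Groth.Agent.S19209
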