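import Groth.Statements.S19210
import Mathlib.Tactic
import Mathlib.Algebra.Ring.GeomSum
import Mathlib.Algebra.BigOperators.Intervals

set_option autoImplicit false
universe u
open LocAlg

namespace Groth.Agent.S19210

/-- For natural numbers j ≤ r, the sums Σ_{i=0}^{n−1} (n − i)^{r−j} i^j equal n^{r+1}·(r − j)!·j!/(r +
1)! up to O(n^r): there is a real constant C with |Σ_{i<n} (n − i)^{r−j} i^j − ((r − j)!·j!/(r +
1)!)·n^{r+1}| ≤ C·n^r for all n ≥ 1. -/
theorem result (r j : ℕ) (hj : j ≤ r) :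
    ∃ C : ℝ, ∀ n : ℕ, 1 ≤ n →
      |(∑ i ∈ Finset.range n, ((n : ℝ) - (i : ℝ)) ^ (r - j) * (i : ℝ) ^ j) -
          ((r - j).factorial : ℝ) * (j.factorial : ℝ) / ((r + 1).factorial : ℝ) * (n : ℝ) ^ (r + 1)| ≤
        C * (n : ℝ) ^ r := by
  suffices H : ∀ a j : ℕ, ∃ C : ℝ, ∀ n : ℕ, 1 ≤ n →
      |(∑ i ∈ Finset.range n, ((n : ℝ) - (i : ℝ)) ^ a * (i : ℝ) ^ j) -
          (a.factorial : ℝ) * (j.factorial : ℝ) / ((a + j + 1).factorial : ℝ) * (n : ℝ) ^ (a + j + 1)| ≤
        C * (n : ℝ) ^ (a + j) by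
    obtain ⟨C, hC⟩ := H (r - j) j
    rw [Nat.sub_add_cancel hj] at hC
    exact ⟨C, hC⟩
  intro a
  induction a with
  | zero =>
    intro j
    refine ⟨1, fun n _ => ?_⟩
    have hp : (0 : ℝ) < (j : ℝ) + 1 := by positivity
    have hstep : ∀ i : ℕ, ((j : ℝ) + 1) * (i : ℝ) ^ j ≤ ((i : ℝ) + 1) ^ (j + 1) - (i : ℝ) ^ (j + 1) ∧
        ((i : ℝ) + 1) ^ (j + 1) - (i : ℝ) ^ (j + 1) ≤ ((j : ℝ) + 1) * ((i : ℝ) + 1) ^ j := by
      intro i
      have hg := geom_sum₂_mul ((i : ℝ) + 1) (i : ℝ) (j + 1)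
      rw [show (i : ℝ) + 1 - i = 1 by ring, mul_one] at hg
      rw [← hg]
      constructor
      · calc ((j : ℝ) + 1) * (i : ℝ) ^ j = ∑ l ∈ Finset.range (j + 1), (i : ℝ) ^ j := by simp
          _ ≤ _ := Finset.sum_le_sum fun l hl => by
            have hl' := Finset.mem_range.1 hl
            conv_lhs => rw [show j = l + (j + 1 - 1 - l) by omega, pow_add]
            gcongr
            linarith
      · calc _ ≤ ∑ l ∈ Finset.range (j + 1), ((i : ℝ) + 1) ^ j := Finset.sum_le_sum fun l hl => by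
              have hl' := Finset.mem_range.1 hl
              conv_rhs => rw [show j = l + (j + 1 - 1 - l) by omega, pow_add]
              gcongr
              linarith
          _ = _ := by simp
    have htel : ∑ i ∈ Finset.range n, (((i : ℝ) + 1) ^ (j + 1) - (i : ℝ) ^ (j + 1)) = (n : ℝ) ^ (j + 1) := by
      have h := Finset.sum_range_sub (fun i : ℕ => (i : ℝ) ^ (j + 1)) n
      push_cast at h
      rw [h]; simp
    let S := ∑ i ∈ Finset.range n, (i : ℝ) ^ j
    have hlo : ((j : ℝ) + 1) * S ≤ (n : ℝ) ^ (j + 1) := by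
      rw [← htel, Finset.mul_sum]
      exact Finset.sum_le_sum fun i _ => (hstep i).1
    have hsucc : ∑ i ∈ Finset.range n, ((i : ℝ) + 1) ^ j ≤ S + (n : ℝ) ^ j := by
      have h1 := Finset.sum_range_succ' (fun i : ℕ => (i : ℝ) ^ j) n
      have h2 := Finset.sum_range_succ (fun i : ℕ => (i : ℝ) ^ j) n
      push_cast at h1
      have h0 : (0 : ℝ) ≤ (0 : ℝ) ^ j := by positivity
      linarith
    have hhi : (n : ℝ) ^ (j + 1) ≤ ((j : ℝ) + 1) * (S + (n : ℝ) ^ j) := by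
      rw [← htel]
      refine (Finset.sum_le_sum fun i _ => (hstep i).2).trans ?_
      rw [← Finset.mul_sum]
      exact mul_le_mul_of_nonneg_left hsucc hp.le
    have hc : ((0 : ℕ).factorial : ℝ) * (j.factorial : ℝ) / ((0 + j + 1).factorial : ℝ) = 1 / ((j : ℝ) + 1) := by
      have : (j.factorial : ℝ) ≠ 0 := by positivity
      rw [zero_add, Nat.factorial_succ]
      push_cast
      field_simp
      simp
    simp only [pow_zero, one_mul, hc]
    rw [zero_add, abs_le, one_div_mul_eq_div]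
    constructor
    · have : (n : ℝ) ^ (j + 1) / ((j : ℝ) + 1) ≤ S + (n : ℝ) ^ j := by
        rw [div_le_iff₀ hp]; linarith
      linarith
    · have : S ≤ (n : ℝ) ^ (j + 1) / ((j : ℝ) + 1) := by
        rw [le_div_iff₀ hp]; linarith
      have h0 : (0 : ℝ) ≤ (n : ℝ) ^ j := by positivity
      linarith
  | succ a ih =>
    intro j
    obtain ⟨C₁, h₁⟩ := ih j
    obtain ⟨C₂, h₂⟩ := ih (j + 1)
    refine ⟨C₁ + C₂, fun n hn => ?_⟩
    have e1 : ∑ i ∈ Finset.range n, ((n : ℝ) - (i : ℝ)) ^ (a + 1) * (i : ℝ) ^ j =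
        (n : ℝ) * (∑ i ∈ Finset.range n, ((n : ℝ) - (i : ℝ)) ^ a * (i : ℝ) ^ j) -
          ∑ i ∈ Finset.range n, ((n : ℝ) - (i : ℝ)) ^ a * (i : ℝ) ^ (j + 1) := by
      rw [Finset.mul_sum, ← Finset.sum_sub_distrib]
      exact Finset.sum_congr rfl fun i _ => by ring
    have hc : ((a + 1).factorial : ℝ) * (j.factorial : ℝ) / ((a + 1 + j + 1).factorial : ℝ) =
        (a.factorial : ℝ) * (j.factorial : ℝ) / ((a + j + 1).factorial : ℝ) -
          (a.factorial : ℝ) * ((j + 1).factorial : ℝ) / ((a + (j + 1) + 1).factorial : ℝ) := by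
      rw [show a + 1 + j + 1 = (a + j + 1) + 1 by ring, show a + (j + 1) + 1 = (a + j + 1) + 1 by ring,
        Nat.factorial_succ (a + j + 1), Nat.factorial_succ a, Nat.factorial_succ j]
      push_cast
      have : ((a + j + 1).factorial : ℝ) ≠ 0 := by positivity
      field_simp
      ring
    have g1 := abs_le.1 (h₁ n hn)
    have g2 := abs_le.1 (h₂ n hn)
    rw [e1, hc, abs_le]
    have hn0 : (0 : ℝ) ≤ n := Nat.cast_nonneg n
    have p1 : (n : ℝ) ^ (a + 1 + j + 1) = (n : ℝ) * (n : ℝ) ^ (a + j + 1) := by ring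
    have p2 : (n : ℝ) ^ (a + (j + 1) + 1) = (n : ℝ) * (n : ℝ) ^ (a + j + 1) := by ring
    have p3 : (n : ℝ) ^ (a + 1 + j) = (n : ℝ) * (n : ℝ) ^ (a + j) := by ring
    have p4 : (n : ℝ) ^ (a + (j + 1)) = (n : ℝ) * (n : ℝ) ^ (a + j) := by ring
    rw [p2, p4] at g2
    rw [p1, p3]
    have m1 := mul_le_mul_of_nonneg_left g1.1 hn0
    have m2 := mul_le_mul_of_nonneg_left g1.2 hn0
    constructor <;> linarith

end Groth.Agent.S19210
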