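import Groth.Statements.S19212
import Groth.Agent.Diag.Omega
import Mathlib.Tactic.Module
import Mathlib.Tactic.Abel
import Mathlib.Algebra.CharP.Defs
import Mathlib.Tactic.FieldSimp
import Mathlib.Algebra.CharP.Algebra
import Mathlib.Tactic.NormNum


set_option autoImplicit false
universe u v
open TensorProduct
open DiagIdeal

namespace Groth.Agent.S19212

/-- Let k be an algebraically closed field of characteristic zero and A a smooth k-algebra which is a
domain. Let the symmetric group on three letters permute the factors of A ⊗ A ⊗ A (it is generated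
by the swap of the first two factors and the swap of the last two), let r : A ⊗ (A ⊗ A) → A ⊗ A be
the k-linear map a ⊗ b ⊗ c ↦ ab ⊗ c, and let D : A ⊗ A → Ω_{A/k} be the k-linear map a ⊗ b ↦ 2a·db −
b·da. Then an element y of A ⊗ A satisfies D y = 0 if and only if y = r x for some x fixed by both
swaps, and D is surjective. (This is exactness at the last two places of the four-term right
resolution of the invariants of the ideal of the big diagonal on the symmetric cube of X = Spec A,
namely invariant functions on X³, then functions on X × X through restriction to a diagonal, then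
one-forms on X; exactness at the first two places is immediate. The published statement is the sheaf
version on the symmetric cube of a smooth complex variety of any dimension; an algebraically closed
field of characteristic zero is used here.) -/
theorem result (k : Type u) [Field k] [IsAlgClosed k] [CharZero k]
    (A : Type v) [CommRing A] [Algebra k A] [Algebra.Smooth k A] [IsDomain A]
    (r : A ⊗[k] (A ⊗[k] A) →ₗ[k] A ⊗[k] A)
    (hr : ∀ a b c : A, r (a ⊗ₜ[k] (b ⊗ₜ[k] c)) = (a * b) ⊗ₜ[k] c)
    (D : A ⊗[k] A →ₗ[k] Ω[A⁄k])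
    (hD : ∀ a b : A, D (a ⊗ₜ[k] b) = (2 : A) • (a • KaehlerDifferential.D k A b) - b • KaehlerDifferential.D k A a) :
    (∀ y : A ⊗[k] A, D y = 0 ↔ ∃ x : A ⊗[k] (A ⊗[k] A),
        TensorProduct.leftComm k A A A x = x ∧
        LinearMap.lTensor A (TensorProduct.comm k A A).toLinearMap x = x ∧ r x = y) ∧
    Function.Surjective D := by
  have hk2 : (2 : k) ≠ 0 := two_ne_zero
  have hk3 : (3 : k) ≠ 0 := by norm_num
  have hk6 : (6 : k) ≠ 0 := by norm_num
  let σ₁ : A ⊗[k] (A ⊗[k] A) →ₗ[k] A ⊗[k] (A ⊗[k] A) := (TensorProduct.leftComm k A A A).toLinearMap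
  let σ₂ : A ⊗[k] (A ⊗[k] A) →ₗ[k] A ⊗[k] (A ⊗[k] A) :=
    LinearMap.lTensor A (TensorProduct.comm k A A).toLinearMap
  let W : Submodule k (A ⊗[k] A) :=
    (LinearMap.ker (σ₁ - LinearMap.id) ⊓ LinearMap.ker (σ₂ - LinearMap.id)).map r
  have hW : ∀ y, y ∈ W ↔ ∃ x, σ₁ x = x ∧ σ₂ x = x ∧ r x = y := by
    intro y
    simp [W, sub_eq_zero, and_assoc]
  -- the generators of `W`
  have hgen : ∀ a b c : A, (a * b) ⊗ₜ[k] c + (b * c) ⊗ₜ[k] a + (c * a) ⊗ₜ[k] b ∈ W := by
    intro a b c
    rw [hW]
    refine ⟨(2 : k)⁻¹ • (a ⊗ₜ (b ⊗ₜ c) + a ⊗ₜ (c ⊗ₜ b) + b ⊗ₜ (a ⊗ₜ c) + b ⊗ₜ (c ⊗ₜ a)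
      + c ⊗ₜ (a ⊗ₜ b) + c ⊗ₜ (b ⊗ₜ a)), ?_, ?_, ?_⟩
    · simp only [σ₁, map_smul, map_add, LinearEquiv.coe_coe, TensorProduct.leftComm_tmul]
      congr 1; abel
    · simp only [σ₂, map_smul, map_add, LinearMap.lTensor_tmul, LinearEquiv.coe_coe,
        TensorProduct.comm_tmul]
      congr 1; abel
    · simp only [map_smul, map_add, hr, mul_comm b a, mul_comm c a, mul_comm c b]
      rw [inv_smul_eq_iff₀ hk2]
      module
  -- `D` kills `W`
  have hzero : ∀ y ∈ W, D y = 0 := by
    intro y hy
    obtain ⟨x, h₁, h₂, rfl⟩ := (hW y).1 hy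
    let S := LinearMap.id + σ₁ + σ₂ + σ₁ ∘ₗ σ₂ + σ₂ ∘ₗ σ₁ + σ₁ ∘ₗ σ₂ ∘ₗ σ₁
    have hS : D ∘ₗ r ∘ₗ S = 0 := by
      refine TensorProduct.ext' fun a t => ?_
      induction t using TensorProduct.induction_on with
      | zero => simp
      | add s t hs ht => rw [TensorProduct.tmul_add, map_add, hs, ht]; simp
      | tmul b c =>
        simp only [S, σ₁, σ₂, LinearMap.comp_apply, LinearMap.add_apply, LinearMap.id_apply,
          map_add, LinearMap.lTensor_tmul, LinearEquiv.coe_coe, TensorProduct.leftComm_tmul,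
          TensorProduct.comm_tmul, hr, hD, Derivation.leibniz, smul_add, LinearMap.zero_apply]
        module
    have h := LinearMap.congr_fun hS x
    have hx : S x = (6 : k) • x := by
      simp only [S, LinearMap.comp_apply, LinearMap.add_apply, LinearMap.id_apply, h₁, h₂]
      module
    simpa [hx, hk6] using h
  -- the inverse of `D`
  let e₀ : A →ₗ[k] A →ₗ[k] A ⊗[k] A :=
    (3 : k)⁻¹ • (TensorProduct.mk k A A - (LinearMap.mul k A).compr₂ ((TensorProduct.mk k A A).flip 1))
  have he₀ : ∀ a b, e₀ a b = (3 : k)⁻¹ • (a ⊗ₜ[k] b - (a * b) ⊗ₜ[k] (1 : A)) := fun a b => by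
    simp [e₀]
  obtain ⟨g, hg⟩ := Diag.exists_linearMap_omega (e₀.compr₂ W.mkQ) fun a x y => by
    simp only [LinearMap.compr₂_apply, Submodule.mkQ_apply, ← Submodule.Quotient.mk_add,
      Submodule.Quotient.eq, he₀]
    rw [← smul_add, ← smul_sub]
    refine W.smul_mem _ ?_
    convert sub_mem (hgen a (x * y) 1) (hgen a x y) using 1
    simp only [mul_one, one_mul, mul_assoc, mul_comm y x, mul_comm y a]
    abel
  have hgD : ∀ y, g (D y) = W.mkQ y := by
    intro y
    induction y using TensorProduct.induction_on with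
    | zero => simp
    | add s t hs ht => rw [map_add, map_add, hs, ht, map_add]
    | tmul a b =>
      rw [hD, two_smul, map_sub, map_add, hg, hg, LinearMap.compr₂_apply, LinearMap.compr₂_apply,
        ← map_add, ← map_sub, Submodule.mkQ_apply, Submodule.mkQ_apply, Submodule.Quotient.eq,
        he₀, he₀]
      convert W.smul_mem (-(3 : k)⁻¹) (hgen a b 1) using 1
      simp only [mul_one, one_mul, mul_comm b a]
      match_scalars <;> field_simp <;> ring
  refine ⟨fun y => ⟨fun hy => ?_, fun hx => hzero y ((hW y).2 hx)⟩, ?_⟩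
  · exact (hW y).1 ((Submodule.Quotient.mk_eq_zero W).1 (by
      rw [← Submodule.mkQ_apply, ← hgD, hy, map_zero]))
  · refine Diag.surjective_of_smul_D D fun a b => ⟨e₀ a b, ?_⟩
    rw [he₀, map_smul, map_sub, hD, hD, inv_smul_eq_iff₀ hk3]
    simp only [Derivation.map_one_eq_zero, Derivation.leibniz, smul_zero, smul_add]
    match_scalars <;> simp [map_ofNat] <;> ring

end Groth.Agent.S19212
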