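import Groth.Statements.S19213
import Groth.Agent.Diag.Omega
import Mathlib.Tactic.Module
import Mathlib.Tactic.Abel
import Mathlib.Algebra.CharP.Defs
import Mathlib.Tactic.FieldSimp
import Mathlib.Algebra.CharP.Algebra
import Mathlib.LinearAlgebra.Prod


set_option autoImplicit false
universe u v
open TensorProduct
open DiagIdeal

namespace Groth.Agent.S19213

/-- Let k be an algebraically closed field of characteristic zero and A a smooth k-algebra which is a
domain. Let r₁₂, r₂₃ : A ⊗ (A ⊗ A) → A ⊗ A be the k-linear maps a ⊗ u ⊗ v ↦ au ⊗ v and a ⊗ u ⊗ v ↦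
uv ⊗ a (restriction to the diagonal of factors 1, 2, resp. 2, 3, the repeated coordinate written
first), let m : A ⊗ A → A be multiplication, and let ψ : (A ⊗ A) × (A ⊗ A) → Ω_{A/k} be the k-linear
map with ψ(a ⊗ u, b ⊗ v) = 2a·du − v·db. Then for p, q in A ⊗ A with m p = m q one has ψ(p, q) = 0
if and only if (p, q) = (r₁₂ x, r₂₃ x) for some x fixed by the swap of the last two tensor factors;
and every element of Ω_{A/k} is ψ(p, q) for some pair with m p = m q. (This is exactness at the last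
two places of the right resolution, on the symmetric cube of X = Spec A, of the invariants of the
ideal of the big diagonal under the transposition of the last two factors; exactness at the first
two places is immediate. The published statement is the sheaf version for a smooth complex variety
of any dimension; an algebraically closed field of characteristic zero is used here.) -/
theorem result (k : Type u) [Field k] [IsAlgClosed k] [CharZero k]
    (A : Type v) [CommRing A] [Algebra k A] [Algebra.Smooth k A] [IsDomain A]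
    (r₁₂ r₂₃ : A ⊗[k] (A ⊗[k] A) →ₗ[k] A ⊗[k] A)
    (h₁₂ : ∀ a u v : A, r₁₂ (a ⊗ₜ[k] (u ⊗ₜ[k] v)) = (a * u) ⊗ₜ[k] v)
    (h₂₃ : ∀ a u v : A, r₂₃ (a ⊗ₜ[k] (u ⊗ₜ[k] v)) = (u * v) ⊗ₜ[k] a)
    (ψ : (A ⊗[k] A) × (A ⊗[k] A) →ₗ[k] Ω[A⁄k])
    (hψ : ∀ a u b v : A, ψ (a ⊗ₜ[k] u, b ⊗ₜ[k] v) =
      (2 : A) • (a • KaehlerDifferential.D k A u) - v • KaehlerDifferential.D k A b) :
    (∀ p q : A ⊗[k] A, LinearMap.mul' k A p = LinearMap.mul' k A q →
      (ψ (p, q) = 0 ↔ ∃ x : A ⊗[k] (A ⊗[k] A),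
        LinearMap.lTensor A (TensorProduct.comm k A A).toLinearMap x = x ∧ r₁₂ x = p ∧ r₂₃ x = q)) ∧
    (∀ ω : Ω[A⁄k], ∃ p q : A ⊗[k] A, LinearMap.mul' k A p = LinearMap.mul' k A q ∧ ψ (p, q) = ω) := by
  have hk2 : (2 : k) ≠ 0 := two_ne_zero
  let σ : A ⊗[k] (A ⊗[k] A) →ₗ[k] A ⊗[k] (A ⊗[k] A) :=
    LinearMap.lTensor A (TensorProduct.comm k A A).toLinearMap
  let W : Submodule k ((A ⊗[k] A) × (A ⊗[k] A)) :=
    (LinearMap.ker (σ - LinearMap.id)).map (r₁₂.prod r₂₃)
  have hW : ∀ z, z ∈ W ↔ ∃ x, σ x = x ∧ r₁₂ x = z.1 ∧ r₂₃ x = z.2 := by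
    intro z
    simp [W, sub_eq_zero, Prod.ext_iff]
  have hgen : ∀ a u v : A,
      ((a * u) ⊗ₜ[k] v + (a * v) ⊗ₜ[k] u, (u * v) ⊗ₜ[k] a + (u * v) ⊗ₜ[k] a) ∈ W := by
    intro a u v
    rw [hW]
    refine ⟨a ⊗ₜ (u ⊗ₜ v) + a ⊗ₜ (v ⊗ₜ u), ?_, ?_, ?_⟩
    · simp only [σ, map_add, LinearMap.lTensor_tmul, LinearEquiv.coe_coe, TensorProduct.comm_tmul]
      abel
    · simp only [map_add, h₁₂]
    · simp only [map_add, h₂₃, mul_comm v u]
  have hzero : ∀ z ∈ W, ψ z = 0 := by
    intro z hz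
    obtain ⟨x, hx, e₁, e₂⟩ := (hW z).1 hz
    have hS : ψ ∘ₗ r₁₂.prod r₂₃ ∘ₗ (LinearMap.id + σ) = 0 := by
      refine TensorProduct.ext' fun a t => ?_
      induction t using TensorProduct.induction_on with
      | zero => simp [← Prod.zero_eq_mk]
      | add s t hs ht => rw [TensorProduct.tmul_add, map_add, hs, ht]; simp
      | tmul u v =>
        simp only [σ, LinearMap.comp_apply, LinearMap.add_apply, LinearMap.id_apply,
          map_add, LinearMap.coe_prod, Function.prod_apply, LinearMap.lTensor_tmul, LinearEquiv.coe_coe,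
          TensorProduct.comm_tmul, h₁₂, h₂₃, hψ, Derivation.leibniz, smul_add, LinearMap.zero_apply]
        module
    have h := LinearMap.congr_fun hS x
    have hz' : r₁₂.prod r₂₃ x = z := Prod.ext e₁ e₂
    simp only [LinearMap.comp_apply, LinearMap.add_apply, LinearMap.id_apply, hx,
      LinearMap.zero_apply] at h
    rw [← two_smul k x, map_smul, map_smul, hz'] at h
    simpa [hk2] using h
  have hψ₁ : ∀ a u : A, ψ (a ⊗ₜ[k] u, 0) = (2 : A) • (a • KaehlerDifferential.D k A u) := by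
    intro a u
    have h := hψ a u 0 0
    simpa using h
  have hψ₂ : ∀ b v : A, ψ (0, b ⊗ₜ[k] v) = -(v • KaehlerDifferential.D k A b) := by
    intro b v
    have h := hψ 0 0 b v
    simpa using h
  let e₀ : A →ₗ[k] A →ₗ[k] (A ⊗[k] A) × (A ⊗[k] A) :=
    ((2 : k)⁻¹ • (TensorProduct.mk k A A -
      (LinearMap.mul k A).compr₂ ((TensorProduct.mk k A A).flip 1))).compr₂ (LinearMap.inl k _ _)
  have he₀ : ∀ a u, e₀ a u = ((2 : k)⁻¹ • (a ⊗ₜ[k] u - (a * u) ⊗ₜ[k] (1 : A)), 0) := fun a u => by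
    simp [e₀]
  obtain ⟨g, hg⟩ := Diag.exists_linearMap_omega (e₀.compr₂ W.mkQ) fun a x y => by
    simp only [LinearMap.compr₂_apply, Submodule.mkQ_apply, ← Submodule.Quotient.mk_add,
      Submodule.Quotient.eq, he₀]
    convert W.smul_mem (2 : k)⁻¹ (sub_mem (hgen a (x * y) 1) (hgen a x y)) using 1
    ext <;> simp [mul_assoc, mul_comm y x] <;> module
  let ι₁ : A →ₗ[k] (A ⊗[k] A) × (A ⊗[k] A) :=
    LinearMap.inl k _ _ ∘ₗ (TensorProduct.mk k A A).flip 1
  -- every pair is, modulo `W`, the image of its form plus a multiple of the unit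
  have hkey : g ∘ₗ ψ = W.mkQ - (W.mkQ ∘ₗ ι₁) ∘ₗ
      (LinearMap.mul' k A ∘ₗ LinearMap.fst k _ _ - LinearMap.mul' k A ∘ₗ LinearMap.snd k _ _) := by
    refine LinearMap.prod_ext (TensorProduct.ext' fun a u => ?_) (TensorProduct.ext' fun b v => ?_)
    · simp only [LinearMap.comp_apply, LinearMap.inl_apply, hψ₁, two_smul, map_add, hg,
        LinearMap.compr₂_apply, LinearMap.sub_apply, LinearMap.fst_apply, LinearMap.snd_apply,
        map_zero, sub_zero, LinearMap.mul'_apply, ι₁, LinearMap.flip_apply, TensorProduct.mk_apply]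
      rw [← map_add, ← map_sub]
      refine congrArg W.mkQ ?_
      rw [he₀]
      ext <;> simp <;> match_scalars <;> field_simp <;> ring
    · simp only [LinearMap.comp_apply, LinearMap.inr_apply, hψ₂, map_neg, hg,
        LinearMap.compr₂_apply, LinearMap.sub_apply, LinearMap.fst_apply, LinearMap.snd_apply,
        map_zero, zero_sub, LinearMap.mul'_apply, ι₁, LinearMap.flip_apply, TensorProduct.mk_apply]
      simp only [Submodule.mkQ_apply, sub_neg_eq_add, ← Submodule.Quotient.mk_neg]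
      rw [← Submodule.Quotient.mk_sub, Submodule.Quotient.eq, he₀]
      convert W.smul_mem (-(2 : k)⁻¹) (hgen v b 1) using 1
      ext <;> simp [mul_comm b v] <;> match_scalars <;> field_simp <;> ring
  refine ⟨fun p q hpq => ⟨fun h => ?_, fun h => hzero _ ((hW _).2 h)⟩, fun ω => ?_⟩
  · refine (hW (p, q)).1 ((Submodule.Quotient.mk_eq_zero W).1 ?_)
    have hk := LinearMap.congr_fun hkey (p, q)
    simpa [h, hpq] using hk.symm
  · let N : Submodule k ((A ⊗[k] A) × (A ⊗[k] A)) := LinearMap.ker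
      (LinearMap.mul' k A ∘ₗ LinearMap.fst k _ _ - LinearMap.mul' k A ∘ₗ LinearMap.snd k _ _)
    have hN : ∀ a u, e₀ a u ∈ N := fun a u => by simp [N, he₀]
    obtain ⟨⟨⟨p, q⟩, hm⟩, rfl⟩ := Diag.surjective_of_smul_D (ψ ∘ₗ N.subtype)
      (fun a u => ⟨⟨e₀ a u, hN a u⟩, by
        show ψ (e₀ a u) = _
        rw [he₀,
          show ((2 : k)⁻¹ • (a ⊗ₜ[k] u - (a * u) ⊗ₜ[k] (1 : A)), (0 : A ⊗[k] A)) =
            (2 : k)⁻¹ • (((a ⊗ₜ[k] u), (0 : A ⊗[k] A)) - (((a * u) ⊗ₜ[k] (1 : A)), 0)) by simp,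
          map_smul, map_sub, hψ₁, hψ₁, inv_smul_eq_iff₀ hk2]
        simp only [Derivation.map_one_eq_zero, smul_zero, sub_zero]
        match_scalars <;> simp [map_ofNat] <;> ring⟩) ω
    exact ⟨p, q, by simpa [N, sub_eq_zero] using hm, rfl⟩

end Groth.Agent.S19213
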