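import Groth.Statements.S19214
import Groth.Agent.VarietyLib.SmoothStalk
import Groth.Agent.CAlgH3.RegularCore
import Groth.Agent.CommAlg6.QuotRegular
-- import your own Groth.Agent.* helpers here

set_option autoImplicit false
set_option backward.isDefEq.respectTransparency false
set_option backward.isDefEq.respectTransparency.types false
universe u v
open TensorProduct
open DiagIdeal

namespace Groth.Agent.S19214


section Regularity

open IsLocalRing

theorem isRegular_atPrime_of_smooth {k : Type u} {S : Type v} [Field k] [CommRing S] [Algebra k S]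
    [Algebra.Smooth k S] (p : Ideal S) [p.IsPrime] : IsRegularLocalRing (Localization.AtPrime p) := by
  let k' := ULift.{v} k
  let S' := ULift.{u} S
  letI : Field k' := ULift.field
  letI : Algebra k' S' :=
    ((algebraMap k S').comp (ULift.ringEquiv : k' ≃+* k).toRingHom).toAlgebra
  haveI : @IsScalarTower k k' S' Algebra.toSMul Algebra.toSMul Algebra.toSMul := .of_algebraMap_eq fun x => rfl
  haveI : Algebra.Smooth k S' := Algebra.Smooth.of_equiv (ULift.algEquiv.symm : S ≃ₐ[k] S')
  haveI : Algebra.FormallyUnramified k k' :=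
    Algebra.FormallyUnramified.of_surjective (Algebra.ofId k k') (fun x => ⟨x.down, rfl⟩)
  haveI : Algebra.Smooth k' S' :=
    { formallySmooth := Algebra.FormallySmooth.of_restrictScalars k k' S'
      finitePresentation := Algebra.FinitePresentation.of_restrict_scalars_finitePresentation k k' S' }
  let e : S' ≃+* S := ULift.ringEquiv
  haveI := Groth.Agent.VarietyLib.isRegularLocalRing_of_smooth k' S' (p.comap e.toRingHom)
  exact IsRegularLocalRing.of_ringEquiv
    (IsLocalization.ringEquivOfRingEquiv (Localization.AtPrime (p.comap e.toRingHom))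
      (Localization.AtPrime p) e (M := (p.comap e.toRingHom).primeCompl) (T := p.primeCompl) (by
        ext x
        constructor
        · rintro ⟨y, hy, rfl⟩; exact hy
        · intro hx; exact ⟨e.symm x, by simpa [Ideal.primeCompl] using hx, e.apply_symm_apply x⟩))

end Regularity

section Koszul

variable {S : Type*} [CommRing S] {I : Ideal S}

theorem smul_tmul_eq {u : S} (hu : u ∈ I) (t : I ⊗[S] I) (h : LinearMap.mul' S S (TensorProduct.map I.subtype I.subtype t) = 0) :
    u • t = 0 := by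
  have key : ∀ t : I ⊗[S] I, ∃ w : I, (w : S) = LinearMap.mul' S S (TensorProduct.map I.subtype I.subtype t) ∧
      u • t = (⟨u, hu⟩ : I) ⊗ₜ[S] w := by
    intro t
    induction t using TensorProduct.induction_on with
    | zero => exact ⟨0, by simp, by simp⟩
    | tmul a b =>
      refine ⟨(a : S) • b, by simp [mul_comm], ?_⟩
      rw [TensorProduct.smul_tmul', TensorProduct.tmul_smul, TensorProduct.smul_tmul']
      congr 1; ext; simp [mul_comm]
    | add x y hx hy =>
      obtain ⟨w, hw, hx⟩ := hx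
      obtain ⟨z, hz, hy⟩ := hy
      exact ⟨w + z, by simp [hw, hz], by rw [smul_add, hx, hy, TensorProduct.tmul_add]⟩
  obtain ⟨w, hw, he⟩ := key t
  have : w = 0 := Subtype.ext (hw.trans h)
  rw [he, this, TensorProduct.tmul_zero]

variable {P : Ideal S} [P.IsPrime] {n : ℕ} (f : ℕ → I)

theorem exists_mul_eq_sum {L : Type*} [CommRing L] [Algebra S L] [IsLocalization P.primeCompl L] {m : ℕ} {x : S}
    (hx : algebraMap S L x ∈ Ideal.span ((fun i => algebraMap S L (f i)) '' ↑(Finset.range m))) :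
    ∃ u ∉ P, ∃ e : ℕ → S, u * x = ∑ i ∈ Finset.range m, e i * f i := by
  classical
  have hx' : algebraMap S L x ∈ (Ideal.span ((fun i => (f i : S)) '' ↑(Finset.range m))).map (algebraMap S L) := by
    rw [Ideal.map_span, ← Set.image_comp]; exact hx
  obtain ⟨u, hu, hmem⟩ := (IsLocalization.algebraMap_mem_map_algebraMap_iff P.primeCompl L _ _).1 hx'
  obtain ⟨e, he⟩ := (Submodule.mem_span_image_finset_iff_exists_fun S).1 hmem
  refine ⟨u, hu, fun i => if h : i ∈ Finset.range m then e ⟨i, h⟩ else 0, ?_⟩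
  rw [← he, ← Finset.sum_coe_sort (Finset.range m)]
  refine Finset.sum_congr rfl fun i _ => ?_
  simp [Finset.mem_range.1 i.2]

theorem koszul {L : Type*} [CommRing L] [Algebra S L] [IsLocalization P.primeCompl L]
    (hreg : ∀ m < n, ∀ g : L, algebraMap S L (f m) * g ∈
      Ideal.span ((fun i => algebraMap S L (f i)) '' ↑(Finset.range m)) →
      g ∈ Ideal.span ((fun i => algebraMap S L (f i)) '' ↑(Finset.range m))) :
    ∀ m ≤ n, ∀ g : ℕ → I, (∑ i ∈ Finset.range m, (f i : S) * g i) = 0 →
      ∃ u ∉ P, u • ∑ i ∈ Finset.range m, (f i ⊗ₜ[S] g i + g i ⊗ₜ[S] f i) = 0 := by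
  intro m
  induction m with
  | zero => exact fun _ g _ => ⟨1, fun h => Ideal.IsPrime.ne_top ‹_› ((Ideal.eq_top_iff_one _).2 h), by simp⟩
  | succ m ih =>
    intro hm g hrel
    rw [Finset.sum_range_succ] at hrel
    have h1 : algebraMap S L (f m) * algebraMap S L (g m) ∈
        Ideal.span ((fun i => algebraMap S L (f i)) '' ↑(Finset.range m)) := by
      rw [← map_mul, show (f m : S) * g m = -∑ i ∈ Finset.range m, (f i : S) * g i from
        eq_neg_of_add_eq_zero_right hrel, map_neg, map_sum]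
      refine neg_mem (Submodule.sum_mem _ fun i hi => ?_)
      rw [map_mul]
      exact Ideal.mul_mem_right _ _ (Ideal.subset_span ⟨i, hi, rfl⟩)
    obtain ⟨u, hu, e, he⟩ := exists_mul_eq_sum (P := P) f (hreg m hm _ h1)
    have he' : u • g m = ∑ i ∈ Finset.range m, e i • f i := by
      ext; simpa [smul_eq_mul] using he
    obtain ⟨v, hv, hz⟩ := ih (Nat.le_of_succ_le hm) (fun i => u • g i + e i • f m) (by
      have : ∑ i ∈ Finset.range m, (f i : S) * ((u • g i + e i • f m : I) : S) =
          u * ((∑ i ∈ Finset.range m, (f i : S) * g i) + f m * g m) := by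
        rw [mul_add, ← mul_left_comm (f m : S) u, he, Finset.mul_sum, Finset.mul_sum,
          ← Finset.sum_add_distrib]
        refine Finset.sum_congr rfl fun i _ => ?_
        simp only [Submodule.coe_add, Submodule.coe_smul, smul_eq_mul]
        ring
      rw [this, hrel, mul_zero])
    refine ⟨v * u, Ideal.IsPrime.mul_notMem ‹_› hv hu, ?_⟩
    rw [mul_smul]
    convert hz using 2
    rw [Finset.sum_range_succ, smul_add, Finset.smul_sum, smul_add, ← TensorProduct.tmul_smul,
      TensorProduct.smul_tmul', he', TensorProduct.tmul_sum, TensorProduct.sum_tmul,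
      ← Finset.sum_add_distrib, ← Finset.sum_add_distrib]
    refine Finset.sum_congr rfl fun i _ => ?_
    simp only [TensorProduct.tmul_add, TensorProduct.add_tmul, smul_add, TensorProduct.tmul_smul,
      TensorProduct.smul_tmul']
    abel

theorem symm_ker {L : Type*} [CommRing L] [Algebra S L] [IsLocalization P.primeCompl L]
    (hreg : ∀ m < n, ∀ g : L, algebraMap S L (f m) * g ∈
      Ideal.span ((fun i => algebraMap S L (f i)) '' ↑(Finset.range m)) →
      g ∈ Ideal.span ((fun i => algebraMap S L (f i)) '' ↑(Finset.range m)))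
    (hgen : ∀ x ∈ I, algebraMap S L x ∈ Ideal.span ((fun i => algebraMap S L (f i)) '' ↑(Finset.range n)))
    (t : I ⊗[S] I) (h : LinearMap.mul' S S (TensorProduct.map I.subtype I.subtype t) = 0) :
    ∃ u ∉ P, u • (t + TensorProduct.comm S I I t) = 0 := by
  have key : ∀ t : I ⊗[S] I, ∃ u ∉ P, ∃ g : ℕ → I, u • t = ∑ i ∈ Finset.range n, f i ⊗ₜ[S] g i := by
    intro t
    induction t using TensorProduct.induction_on with
    | zero => exact ⟨1, fun h => Ideal.IsPrime.ne_top ‹_› ((Ideal.eq_top_iff_one _).2 h), 0, by simp⟩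
    | tmul a b =>
      obtain ⟨u, hu, e, he⟩ := exists_mul_eq_sum (P := P) f (hgen a a.2)
      refine ⟨u, hu, fun i => e i • b, ?_⟩
      have he' : u • a = ∑ i ∈ Finset.range n, e i • f i := by ext; simpa [smul_eq_mul] using he
      rw [TensorProduct.smul_tmul', he', TensorProduct.sum_tmul]
      exact Finset.sum_congr rfl fun i _ => TensorProduct.smul_tmul _ _ _
    | add x y hx hy =>
      obtain ⟨u, hu, g, hx⟩ := hx
      obtain ⟨v, hv, g', hy⟩ := hy
      refine ⟨u * v, Ideal.IsPrime.mul_notMem ‹_› hu hv, fun i => v • g i + u • g' i, ?_⟩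
      rw [smul_add, mul_comm, mul_smul, hx, mul_comm, mul_smul, hy, Finset.smul_sum, Finset.smul_sum,
        ← Finset.sum_add_distrib]
      exact Finset.sum_congr rfl fun i _ => by rw [TensorProduct.tmul_add, TensorProduct.tmul_smul, TensorProduct.tmul_smul]
  obtain ⟨u, hu, g, hg⟩ := key t
  obtain ⟨v, hv, hz⟩ := koszul (P := P) (L := L) f hreg n le_rfl g (by
    have := congrArg (fun z => LinearMap.mul' S S (TensorProduct.map I.subtype I.subtype z)) hg
    simp only [map_smul, h, smul_zero, map_sum, TensorProduct.map_tmul, LinearMap.mul'_apply,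
      Submodule.subtype_apply] at this
    exact this.symm)
  refine ⟨v * u, Ideal.IsPrime.mul_notMem ‹_› hv hu, ?_⟩
  rw [mul_smul, smul_add, ← map_smul, hg, map_sum, ← Finset.sum_add_distrib]
  simpa using hz

end Koszul

section Diagonal

variable (k : Type u) [Field k] (A : Type v) [CommRing A] [Algebra k A] [Algebra.Smooth k A]

open IsLocalRing in
theorem exists_local_regular (P : Ideal (A ⊗[k] A)) [P.IsPrime] (hP : KaehlerDifferential.ideal k A ≤ P) :
    ∃ (n : ℕ) (f : ℕ → KaehlerDifferential.ideal k A),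
      (∀ m < n, ∀ g : Localization.AtPrime P, algebraMap _ _ (f m : A ⊗[k] A) * g ∈
        Ideal.span ((fun i => algebraMap _ (Localization.AtPrime P) (f i : A ⊗[k] A)) '' ↑(Finset.range m)) →
        g ∈ Ideal.span ((fun i => algebraMap _ (Localization.AtPrime P) (f i : A ⊗[k] A)) '' ↑(Finset.range m))) ∧
      ∀ x ∈ KaehlerDifferential.ideal k A, algebraMap _ (Localization.AtPrime P) x ∈
        Ideal.span ((fun i => algebraMap _ (Localization.AtPrime P) (f i : A ⊗[k] A)) '' ↑(Finset.range n)) := by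
  classical
  haveI : Algebra.Smooth k (A ⊗[k] A) := Algebra.Smooth.comp k A (A ⊗[k] A)
  set L := Localization.AtPrime P
  set I := KaehlerDifferential.ideal k A
  set J := I.map (algebraMap (A ⊗[k] A) L) with hJ
  haveI : IsRegularLocalRing L := isRegular_atPrime_of_smooth (k := k) P
  haveI hq : (P.map (Ideal.Quotient.mk I)).IsPrime :=
    Ideal.map_isPrime_of_surjective Ideal.Quotient.mk_surjective (by rwa [Ideal.mk_ker])
  obtain ⟨e⟩ := Groth.Agent.CommAlg6.localization_quotient_ringEquiv I P hP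
  haveI : Algebra.Smooth k ((A ⊗[k] A) ⧸ I) := Algebra.Smooth.of_equiv
    (Ideal.quotientKerAlgEquivOfSurjective (f := Algebra.TensorProduct.lmul' k (S := A))
      (fun a => ⟨a ⊗ₜ 1, by simp⟩)).symm
  haveI := isRegular_atPrime_of_smooth (k := k) (P.map (Ideal.Quotient.mk I))
  haveI : IsRegularLocalRing (L ⧸ J) := IsRegularLocalRing.of_ringEquiv (R := Localization.AtPrime (P.map (Ideal.Quotient.mk I))) e
  obtain ⟨rs, hlen, hmax, c, hc, hIc⟩ :=
    Groth.Agent.CAlgH3.exists_sop_of_regular_quotient _ L rfl J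
  have hreg := Groth.Agent.CAlgH3.isRegular_of_ofList_eq_maximalIdeal rs hmax hlen
  have hch : ∀ i : ℕ, ∃ (a : I) (t : A ⊗[k] A), IsUnit (algebraMap _ L t) ∧ (i < c →
      algebraMap _ L t * rs.getD i 0 = algebraMap _ L (a : A ⊗[k] A)) := by
    intro i
    by_cases hi : i < c
    · have hir : i < rs.length := by omega
      have hmem : rs.getD i 0 ∈ J := by
        rw [hIc, List.getD_eq_getElem _ _ hir]
        exact Ideal.subset_span (List.mem_take_iff_getElem.2 ⟨i, by simp; omega, rfl⟩)
      obtain ⟨⟨a, t⟩, ht⟩ := (IsLocalization.mem_map_algebraMap_iff P.primeCompl L).1 hmem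
      exact ⟨a, t, IsLocalization.map_units L t, fun _ => by rw [mul_comm]; exact ht⟩
    · exact ⟨0, 1, by simp, fun h => absurd h hi⟩
  choose f t ht hf using hch
  have hspan : ∀ m ≤ c, Ideal.span ((fun i => algebraMap _ L (f i : A ⊗[k] A)) '' ↑(Finset.range m)) =
      Ideal.ofList (rs.take m) := by
    intro m hm
    refine le_antisymm (Ideal.span_le.2 ?_) (Ideal.span_le.2 ?_)
    · rintro _ ⟨i, hi, rfl⟩
      have hi : i < m := Finset.mem_range.1 hi
      simp only [SetLike.mem_coe, ← hf i (by omega)]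
      rw [List.getD_eq_getElem _ _ (by omega : i < rs.length)]
      exact Ideal.mul_mem_left _ _ (Ideal.subset_span (List.mem_take_iff_getElem.2 ⟨i, by simp; omega, rfl⟩))
    · intro r hr
      obtain ⟨i, hi, rfl⟩ := List.mem_take_iff_getElem.1 hr
      have hic : i < c := by omega
      rw [← List.getD_eq_getElem _ 0, SetLike.mem_coe, ← Ideal.unit_mul_mem_iff_mem _ (ht i), hf i hic]
      exact Ideal.subset_span ⟨i, Finset.mem_coe.2 (Finset.mem_range.2 (by omega)), rfl⟩
  refine ⟨c, f, fun m hm g hg => ?_, fun x hx => ?_⟩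
  · rw [hspan m hm.le] at hg ⊢
    have hmr : m < rs.length := by omega
    rw [← hf m hm, List.getD_eq_getElem _ _ hmr, mul_assoc, Ideal.unit_mul_mem_iff_mem _ (ht m)] at hg
    have hr := hreg.regular_mod_prev m hmr
    rw [smul_eq_mul, Ideal.mul_top] at hr
    have h0 := hr (a₁ := Submodule.Quotient.mk g) (a₂ := 0) (by
      simp only [smul_zero]
      exact (Submodule.Quotient.mk_eq_zero _).2 hg)
    exact (Submodule.Quotient.mk_eq_zero _).1 h0
  · rw [hspan c le_rfl, ← hIc]
    exact Ideal.mem_map_of_mem _ hx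

theorem diag_symm_ker (t : (KaehlerDifferential.ideal k A) ⊗[A ⊗[k] A] (KaehlerDifferential.ideal k A))
    (h : LinearMap.mul' (A ⊗[k] A) (A ⊗[k] A) (TensorProduct.map (KaehlerDifferential.ideal k A).subtype
      (KaehlerDifferential.ideal k A).subtype t) = 0) :
    t + TensorProduct.comm _ _ _ t = 0 := by
  set w := t + TensorProduct.comm _ _ _ t with hw
  let 𝔞 : Ideal (A ⊗[k] A) := LinearMap.ker (LinearMap.toSpanSingleton _ _ w)
  have hmem : ∀ u, u ∈ 𝔞 ↔ u • w = 0 := fun u => Iff.rfl
  by_contra hne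
  have h1 : 𝔞 ≠ ⊤ := fun h1 => hne (by simpa using (hmem 1).1 (h1 ▸ Submodule.mem_top))
  obtain ⟨P, hP, hle⟩ := Ideal.exists_le_maximal 𝔞 h1
  by_cases hIP : KaehlerDifferential.ideal k A ≤ P
  · obtain ⟨n, f, hreg, hgen⟩ := exists_local_regular k A P hIP
    obtain ⟨u, hu, h0⟩ := symm_ker (P := P) (L := Localization.AtPrime P) f hreg hgen t h
    exact hu (hle ((hmem u).2 h0))
  · obtain ⟨u, hu, hu'⟩ := Set.not_subset.1 hIP
    refine hu' (hle ((hmem u).2 ?_))
    rw [hw, smul_add, ← map_smul, smul_tmul_eq hu t h, map_zero, add_zero]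

end Diagonal

section Main

variable {k : Type u} [Field k] {A : Type v} [CommRing A] [Algebra k A]

local notation "SS" => A ⊗[k] A
local notation "RR" => (⨂[k] _ : Fin 3, A)
local notation "JJ" => KaehlerDifferential.ideal k A

def jj (i : Fin 3) : A →ₐ[k] RR := PiTensorProduct.singleAlgHom (R := k) (A := fun _ : Fin 3 => A) i

theorem inter_mem {B C : Type*} [CommRing B] [CommRing C] (τ : C →+* B) (π : B →+* C)
    (hs : ∀ c, π (τ c) = c) {K : Ideal B} (hK : ∀ r, r - τ (π r) ∈ K) (I : Ideal C)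
    {x : B} (hx : x ∈ I.map τ) (hπ : π x = 0) : x ∈ K * I.map τ := by
  have key : x - τ (π x) ∈ K * I.map τ := by
    refine Submodule.span_induction (p := fun y _ => y - τ (π y) ∈ K * I.map τ) ?_ (by simp) ?_ ?_ hx
    · rintro _ ⟨c, hc, rfl⟩; simp [hs]
    · intro y z _ _ hy hz
      rw [map_add, map_add, show y + z - (τ (π y) + τ (π z)) = (y - τ (π y)) + (z - τ (π z)) by ring]
      exact add_mem hy hz
    · intro r y hy' hy
      rw [smul_eq_mul, map_mul, map_mul, show r * y - τ (π r) * τ (π y) =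
        (r - τ (π r)) * y + τ (π r) * (y - τ (π y)) by ring]
      exact add_mem (Ideal.mul_mem_mul (hK r) hy') (Ideal.mul_mem_left _ _ hy)
  simpa [hπ] using key

def pr {T : Type*} [CommRing T] [Algebra k T] (φ : Fin 3 → (A →ₐ[k] T)) : RR →ₐ[k] T :=
  PiTensorProduct.liftAlgHom
    ((MultilinearMap.mkPiAlgebra k (Fin 3) T).compLinearMap fun i => (φ i).toLinearMap)
    (by simp) (fun x y => by simp [Finset.prod_mul_distrib])

theorem pr_jj {T : Type*} [CommRing T] [Algebra k T] (φ : Fin 3 → (A →ₐ[k] T)) (i : Fin 3) (a : A) :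
    pr φ (jj i a) = φ i a := by
  fin_cases i <;> simp [pr, jj, PiTensorProduct.liftAlgHom_apply, PiTensorProduct.singleAlgHom_apply, Fin.prod_univ_three, MonoidHom.mulSingle_apply]

theorem hK {T : Type*} [CommRing T] [Algebra k T] (τ : T →ₐ[k] RR) (π : RR →ₐ[k] T) (K : Ideal RR)
    (h : ∀ i a, jj i a - τ (π (jj i a)) ∈ K) (r : RR) : r - τ (π r) ∈ K := by
  have : (Ideal.Quotient.mkₐ k K).comp (τ.comp π) = Ideal.Quotient.mkₐ k K :=
    PiTensorProduct.algHom_ext fun i => AlgHom.ext fun a => by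
      exact ((Ideal.Quotient.eq).2 (h i a)).symm
  exact (Ideal.Quotient.eq).1 (DFunLike.congr_fun this r).symm

def tau (i j : Fin 3) : SS →ₐ[k] RR := Algebra.TensorProduct.lift (jj i) (jj j) (fun _ _ => Commute.all _ _)

def II (i j : Fin 3) : Ideal RR := Ideal.span (Set.range fun a : A => jj i a - jj j a)

theorem sub_mem_II (i j : Fin 3) (a : A) : jj i a - jj j a ∈ II (k := k) (A := A) i j :=
  Ideal.subset_span ⟨a, rfl⟩

theorem II_eq_map (i j : Fin 3) : II (k := k) (A := A) i j = (JJ).map (tau i j).toRingHom := by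
  rw [← KaehlerDifferential.span_range_eq_ideal, Ideal.map_span]
  refine le_antisymm (Ideal.span_le.2 ?_) (Ideal.span_le.2 ?_)
  · rintro _ ⟨a, rfl⟩
    refine (Ideal.neg_mem_iff _).1 (Ideal.subset_span ⟨_, ⟨a, rfl⟩, ?_⟩)
    simp [tau]
  · rintro _ ⟨_, ⟨a, rfl⟩, rfl⟩
    refine (Ideal.neg_mem_iff _).1 (Ideal.subset_span ⟨a, ?_⟩)
    simp [tau]

theorem map_II_eq_zero {i j : Fin 3} {φ : Fin 3 → (A →ₐ[k] SS)} (h : φ i = φ j) {x : RR}
    (hx : x ∈ II i j) : pr φ x = 0 := by
  refine (Ideal.span_le.2 ?_ : II i j ≤ RingHom.ker (pr φ)) hx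
  rintro _ ⟨a, rfl⟩
  simp [RingHom.mem_ker, pr_jj, h]

theorem main [Algebra.Smooth k A] [CharZero k] (x : RR)
    (hx : ∀ σ : Equiv.Perm (Fin 3), PiTensorProduct.reindex k (fun _ : Fin 3 => A) σ x = x)
    (h01 : x ∈ II 0 1) (h02 : x ∈ II 0 2) (h12 : x ∈ II 1 2) :
    x ∈ II (k := k) (A := A) 0 1 * II 0 2 * II 1 2 := by
  classical
  let l : A →ₐ[k] SS := Algebra.TensorProduct.includeLeft
  let r : A →ₐ[k] SS := Algebra.TensorProduct.includeRight
  set τ : SS →ₐ[k] RR := tau 0 1 with hτ
  set τ' : SS →ₐ[k] RR := tau 0 2 with hτ'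
  let π : RR →ₐ[k] SS := pr ![l, r, r]
  let π' : RR →ₐ[k] SS := pr ![l, r, l]
  have sec : ∀ (i j : Fin 3) (φ : Fin 3 → (A →ₐ[k] SS)), φ i = l → φ j = r → ∀ c, pr φ (tau i j c) = c := by
    intro i j φ hi hj c
    have : (pr φ).comp (tau i j) = AlgHom.id k SS :=
      Algebra.TensorProduct.ext (AlgHom.ext fun a => by simp [tau, pr_jj, hi, l])
        (AlgHom.ext fun a => by simp [tau, pr_jj, hj, r])
    exact DFunLike.congr_fun this c
  have hs : ∀ c, π (τ c) = c := sec 0 1 _ rfl rfl
  have hs' : ∀ c, π (τ' c) = c := sec 0 2 _ rfl rfl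
  have hs'' : ∀ c, π' (τ c) = c := sec 0 1 _ rfl rfl
  have hK23 : ∀ z, z - τ (π z) ∈ II (k := k) (A := A) 1 2 := hK _ _ _ fun i a => by
    fin_cases i
    · simp [π, τ, tau, pr_jj, l]
    · simp [π, τ, tau, pr_jj, r]
    · simpa [π, τ, tau, pr_jj, r] using (Ideal.neg_mem_iff _).2 (sub_mem_II (k := k) 1 2 a)
  have hK23' : ∀ z, z - τ' (π z) ∈ II (k := k) (A := A) 1 2 := hK _ _ _ fun i a => by
    fin_cases i
    · simp [π, τ', tau, pr_jj, l]
    · simpa [π, τ', tau, pr_jj, r] using sub_mem_II (k := k) 1 2 a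
    · simp [π, τ', tau, pr_jj, r]
  have hK13 : ∀ z, z - τ (π' z) ∈ II (k := k) (A := A) 0 2 := hK _ _ _ fun i a => by
    fin_cases i
    · simp [π', τ, tau, pr_jj, l]
    · simp [π', τ, tau, pr_jj, r]
    · simpa [π', τ, tau, pr_jj, l] using (Ideal.neg_mem_iff _).2 (sub_mem_II (k := k) 0 2 a)
  have e01 : II (k := k) (A := A) 0 1 = (JJ).map τ.toRingHom := II_eq_map 0 1
  have e02 : II (k := k) (A := A) 0 2 = (JJ).map τ'.toRingHom := II_eq_map 0 2
  set P3 : Ideal RR := II 0 1 * II 0 2 * II 1 2 with hP3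
  have hπ'x : π' x = 0 := map_II_eq_zero (i := 0) (j := 2) (φ := ![l, r, l]) (by simp) h02
  have hprod : x ∈ II (k := k) (A := A) 0 1 * II 0 2 := by
    rw [mul_comm, e01]
    exact inter_mem τ.toRingHom π'.toRingHom hs'' hK13 _ (by rwa [← e01]) hπ'x
  have hτmem : ∀ a : JJ, τ (a : SS) ∈ II (k := k) (A := A) 0 1 := fun a => by rw [e01]; exact Ideal.mem_map_of_mem _ a.2
  have hτmem' : ∀ a : JJ, τ' (a : SS) ∈ II (k := k) (A := A) 0 2 := fun a => by rw [e02]; exact Ideal.mem_map_of_mem _ a.2
  letI : Algebra SS (RR ⧸ P3) := ((Ideal.Quotient.mk P3).comp τ.toRingHom).toAlgebra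
  have hsmul : ∀ (c : SS) (z : RR), c • (Ideal.Quotient.mk P3 z) = Ideal.Quotient.mk P3 (τ c * z) :=
    fun c z => by rw [Algebra.smul_def]; rfl
  let Φ₂ : JJ →ₗ[SS] JJ →ₗ[SS] (RR ⧸ P3) := LinearMap.mk₂ SS
    (fun a b => Ideal.Quotient.mk P3 (τ (a : SS) * τ' (b : SS)))
    (fun a a' b => by simp [add_mul]) (fun c a b => by rw [hsmul, Submodule.coe_smul, smul_eq_mul, map_mul τ, mul_assoc])
    (fun a b b' => by simp [mul_add])
    (fun c a b => by
      rw [hsmul, Ideal.Quotient.eq]
      simp only [Submodule.coe_smul, smul_eq_mul, map_mul]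
      have h2 : τ' c - τ c ∈ II (k := k) (A := A) 1 2 := by simpa [hs'] using hK23 (τ' c)
      have := Ideal.mul_mem_mul (Ideal.mul_mem_mul (hτmem a) (hτmem' b)) h2
      rw [← hP3] at this
      convert this using 1; ring)
  let Φ : JJ ⊗[SS] JJ →ₗ[SS] (RR ⧸ P3) := TensorProduct.lift Φ₂
  let μ : JJ ⊗[SS] JJ →ₗ[SS] SS := LinearMap.mul' SS SS ∘ₗ TensorProduct.map (JJ).subtype (JJ).subtype
  have hrep : ∀ y ∈ II (k := k) (A := A) 0 1 * II 0 2, ∃ t, Φ t = Ideal.Quotient.mk P3 y ∧ μ t = π y := by
    intro y hy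
    refine Submodule.mul_induction_on hy (fun p hp q hq => ?_) ?_
    · have hp' : π p ∈ JJ := by
        rw [e01] at hp
        have := Ideal.mem_map_of_mem π.toRingHom hp
        rwa [Ideal.map_map, show π.toRingHom.comp τ.toRingHom = RingHom.id SS from RingHom.ext hs,
          Ideal.map_id] at this
      have hq' : π q ∈ JJ := by
        rw [e02] at hq
        have := Ideal.mem_map_of_mem π.toRingHom hq
        rwa [Ideal.map_map, show π.toRingHom.comp τ'.toRingHom = RingHom.id SS from RingHom.ext hs',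
          Ideal.map_id] at this
      refine ⟨(⟨π p, hp'⟩ : JJ) ⊗ₜ[SS] ⟨π q, hq'⟩, ?_, by simp [μ]⟩
      have h1 : p - τ (π p) ∈ II (k := k) (A := A) 1 2 * II 0 1 := by
        rw [e01]
        refine inter_mem τ.toRingHom π.toRingHom hs hK23 _ ?_ (by simp [hs])
        exact sub_mem (by rwa [← e01]) (Ideal.mem_map_of_mem _ hp')
      have h2 : q - τ' (π q) ∈ II (k := k) (A := A) 1 2 * II 0 2 := by
        rw [e02]
        refine inter_mem τ'.toRingHom π.toRingHom hs' hK23' _ ?_ (by simp [hs'])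
        exact sub_mem (by rwa [← e02]) (Ideal.mem_map_of_mem _ hq')
      simp only [Φ, Φ₂, TensorProduct.lift.tmul, LinearMap.mk₂_apply]
      symm
      rw [Ideal.Quotient.eq, show p * q - τ (π p) * τ' (π q) =
        (p - τ (π p)) * q + τ (π p) * (q - τ' (π q)) by ring]
      refine add_mem ?_ ?_
      · have := Ideal.mul_mem_mul h1 hq
        rw [hP3]
        rwa [mul_comm (II (k := k) (A := A) 1 2), mul_assoc, mul_comm (II (k := k) (A := A) 1 2),
          ← mul_assoc] at this
      · have := Ideal.mul_mem_mul (hτmem ⟨_, hp'⟩) h2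
        rw [hP3]
        rwa [mul_comm (II (k := k) (A := A) 1 2), ← mul_assoc] at this
    · rintro y z ⟨t, ht, ht'⟩ ⟨t', h', h''⟩
      exact ⟨t + t', by rw [map_add, map_add, ht, h'], by rw [map_add, map_add, ht', h'']⟩
  obtain ⟨t, ht, hμ⟩ := hrep x hprod
  have hπx : π x = 0 := map_II_eq_zero (i := 1) (j := 2) (φ := ![l, r, r]) (by simp) h12
  rw [hπx] at hμ
  let σ : RR →ₐ[k] RR := pr ![jj 0, jj 2, jj 1]
  have hσx : σ x = x := by
    have : σ.toLinearMap = (PiTensorProduct.reindex k (fun _ : Fin 3 => A) (Equiv.swap 1 2)).toLinearMap := by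
      refine PiTensorProduct.ext (MultilinearMap.ext fun z => ?_)
      have hz : PiTensorProduct.tprod k z = ∏ i, jj (k := k) i (z i) := by
        simp only [jj, PiTensorProduct.singleAlgHom_apply]
        exact (congrArg _ (Finset.univ_prod_mulSingle z)).symm.trans
          (map_prod (PiTensorProduct.tprodMonoidHom (R := k) (A := fun _ : Fin 3 => A)) _ _)
      have hz' : ∏ i, jj (k := k) i (z ((Equiv.swap (1 : Fin 3) 2).symm i)) =
          PiTensorProduct.tprod k (fun i => z ((Equiv.swap (1 : Fin 3) 2).symm i)) := by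
        simp only [jj, PiTensorProduct.singleAlgHom_apply]
        exact ((congrArg _ (Finset.univ_prod_mulSingle fun i => z ((Equiv.swap (1 : Fin 3) 2).symm i))).symm.trans
          (map_prod (PiTensorProduct.tprodMonoidHom (R := k) (A := fun _ : Fin 3 => A)) _ _)).symm
      simp only [LinearMap.compMultilinearMap_apply, LinearEquiv.coe_toLinearMap,
        PiTensorProduct.reindex_tprod, AlgHom.toLinearMap_apply, ← hz']
      rw [hz, map_prod]
      simp [σ, pr_jj, Fin.prod_univ_three, Equiv.swap_apply_def]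
      ring
    exact (DFunLike.congr_fun this x).trans (hx _)
  have hστ : ∀ c, σ (τ c) = τ' c := by
    intro c
    have : σ.comp τ = τ' := Algebra.TensorProduct.ext (AlgHom.ext fun a => by simp [σ, τ, τ', tau, pr_jj])
      (AlgHom.ext fun a => by simp [σ, τ, τ', tau, pr_jj])
    exact DFunLike.congr_fun this c
  have hστ' : ∀ c, σ (τ' c) = τ c := by
    intro c
    have : σ.comp τ' = τ := Algebra.TensorProduct.ext (AlgHom.ext fun a => by simp [σ, τ, τ', tau, pr_jj])
      (AlgHom.ext fun a => by simp [σ, τ, τ', tau, pr_jj])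
    exact DFunLike.congr_fun this c
  have hσP : P3 ≤ P3.comap σ.toRingHom := by
    rw [hP3, ← Ideal.map_le_iff_le_comap, Ideal.map_mul, Ideal.map_mul]
    have m01 : (II (k := k) (A := A) 0 1).map σ.toRingHom ≤ II 0 2 := by
      rw [II, Ideal.map_span, Ideal.span_le]; rintro _ ⟨_, ⟨a, rfl⟩, rfl⟩
      simpa [σ, pr_jj] using sub_mem_II (k := k) 0 2 a
    have m02 : (II (k := k) (A := A) 0 2).map σ.toRingHom ≤ II 0 1 := by
      rw [II, Ideal.map_span, Ideal.span_le]; rintro _ ⟨_, ⟨a, rfl⟩, rfl⟩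
      simpa [σ, pr_jj] using sub_mem_II (k := k) 0 1 a
    have m12 : (II (k := k) (A := A) 1 2).map σ.toRingHom ≤ II 1 2 := by
      rw [II, Ideal.map_span, Ideal.span_le]; rintro _ ⟨_, ⟨a, rfl⟩, rfl⟩
      simpa [σ, pr_jj, II] using (Ideal.neg_mem_iff _).2 (sub_mem_II (k := k) 1 2 a)
    refine (Ideal.mul_mono (Ideal.mul_mono m01 m02) m12).trans ?_
    rw [mul_comm (II (k := k) (A := A) 0 2)]
  let σq : (RR ⧸ P3) →+* (RR ⧸ P3) := Ideal.quotientMap P3 σ.toRingHom hσP
  have hcomm : ∀ t, σq (Φ t) = Φ (TensorProduct.comm SS JJ JJ t) := by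
    intro t
    induction t using TensorProduct.induction_on with
    | zero => simp
    | tmul a b =>
      simp only [Φ, Φ₂, TensorProduct.lift.tmul, LinearMap.mk₂_apply, TensorProduct.comm_tmul, σq,
        Ideal.quotientMap_mk, AlgHom.toRingHom_eq_coe, RingHom.coe_coe, map_mul, hστ, hστ']
      exact mul_comm _ _
    | add y z hy hz => rw [map_add, map_add, hy, hz, map_add, map_add]
  have hsum : Φ t + Φ (TensorProduct.comm SS JJ JJ t) = 0 := by
    rw [← map_add, diag_symm_ker k A t hμ, map_zero]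
  rw [← hcomm, ht] at hsum
  have h2x : x + x ∈ P3 := by
    rw [← Ideal.Quotient.eq_zero_iff_mem, map_add]
    convert hsum using 2
    simp [σq, Ideal.quotientMap_mk, hσx]
  have hu : IsUnit (2 : RR) := by
    have := (isUnit_iff_ne_zero.2 (two_ne_zero : (2 : k) ≠ 0)).map (algebraMap k RR)
    rwa [map_ofNat] at this
  exact (Ideal.unit_mul_mem_iff_mem _ hu).1 (by rwa [two_mul])

end Main

end Groth.Agent.S19214

namespace Groth.Agent.S19214

/-- n = 3, affine form: let k be an algebraically closed field of characteristic zero and A a smooth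
k-algebra which is a domain. In the triple tensor power of A over k, indexed by Fin 3, let I_{ij} be
the ideal generated by the elements a_i − a_j (a ∈ A put in factor i, resp. j, and 1 elsewhere), the
ideal of the diagonal of factors i and j. Then every element fixed by all permutations of the three
factors and lying in I₁₂ ∩ I₁₃ ∩ I₂₃ lies in the product I₁₂ I₁₃ I₂₃: on the symmetric cube of Spec
A the invariants of the product of the three diagonal ideals and of their intersection coincide.
(The published statement is the sheaf version for a smooth complex variety; an algebraically closed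
field of characteristic zero is used here.) -/
theorem result (k : Type u) [Field k] [IsAlgClosed k] [CharZero k]
    (A : Type v) [CommRing A] [Algebra k A] [Algebra.Smooth k A] [IsDomain A]
    (x : ⨂[k] _ : Fin 3, A)
    (hx : ∀ σ : Equiv.Perm (Fin 3), PiTensorProduct.reindex k (fun _ : Fin 3 => A) σ x = x)
    (hmem : ∀ p : Fin 3 × Fin 3, p.1 < p.2 → x ∈ Ideal.span (Set.range fun a : A =>
        PiTensorProduct.singleAlgHom (R := k) (A := fun _ : Fin 3 => A) p.1 a -
        PiTensorProduct.singleAlgHom (R := k) (A := fun _ : Fin 3 => A) p.2 a)) :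
    x ∈ ∏ p ∈ Finset.univ.filter (fun p : Fin 3 × Fin 3 => p.1 < p.2), Ideal.span (Set.range fun a : A =>
        PiTensorProduct.singleAlgHom (R := k) (A := fun _ : Fin 3 => A) p.1 a -
        PiTensorProduct.singleAlgHom (R := k) (A := fun _ : Fin 3 => A) p.2 a) := by
  have hset : (Finset.univ.filter fun p : Fin 3 × Fin 3 => p.1 < p.2) = {((0 : Fin 3), (1 : Fin 3)), (0, 2), (1, 2)} := by
    decide
  rw [hset, Finset.prod_insert (by decide), Finset.prod_insert (by decide), Finset.prod_singleton,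
    ← mul_assoc]
  exact main x hx (hmem (0, 1) (by decide)) (hmem (0, 2) (by decide)) (hmem (1, 2) (by decide))


end Groth.Agent.S19214
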