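import Groth.Statements.S19216
import Mathlib

set_option linter.all false

set_option autoImplicit false
universe u
open SymRep

open TensorProduct

namespace Groth.Agent.S19216

/-- Let k be a field of characteristic zero and r, s ≥ 1. Realise the standard representation of the
symmetric group on a finite set T as the hyperplane of functions T → k with sum zero, the group
acting by precomposition with the inverse. Then the standard representation of the symmetric group
of Fin r ⊕ Fin s, restricted to the subgroup S_r × S_s, is isomorphic to the direct sum of the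
standard representations of S_r and of S_s and of a one-dimensional trivial representation: there is
a k-linear map E from functions on Fin r ⊕ Fin s to triples (function on Fin r, function on Fin s,
scalar), compatible with the actions of S_r × S_s (trivial on the scalar), which maps the sum-zero
hyperplane bijectively onto the product of the two sum-zero hyperplanes and k. (The published
statement is over the complex numbers; a field of characteristic zero is used here. The published
statement also gives the analogous decomposition for any number of blocks, which follows by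
induction; only the two-block case is stated here.) -/
theorem result (k : Type u) [Field k] [CharZero k]
    (r s : ℕ) (hr : 1 ≤ r) (hs : 1 ≤ s) :
    ∃ E : (Fin r ⊕ Fin s → k) →ₗ[k] (Fin r → k) × (Fin s → k) × k,
      (∀ (σ : Equiv.Perm (Fin r)) (τ : Equiv.Perm (Fin s)) (f : Fin r ⊕ Fin s → k),
        E (f ∘ ⇑(Equiv.sumCongr σ τ).symm) = ((E f).1 ∘ ⇑σ.symm, (E f).2.1 ∘ ⇑τ.symm, (E f).2.2)) ∧
      Set.BijOn E {f | ∑ i, f i = 0}
        ({g : Fin r → k | ∑ i, g i = 0} ×ˢ ({h : Fin s → k | ∑ i, h i = 0} ×ˢ Set.univ)) := by
  have hr' : (r : k) ≠ 0 := Nat.cast_ne_zero.2 (by omega)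
  have hs' : (s : k) ≠ 0 := Nat.cast_ne_zero.2 (by omega)
  let Ef : (Fin r ⊕ Fin s → k) → (Fin r → k) × (Fin s → k) × k := fun f =>
    (fun i => f (Sum.inl i) - (∑ a, f (Sum.inl a)) / r, fun j => f (Sum.inr j) - (∑ b, f (Sum.inr b)) / s, ∑ a, f (Sum.inl a))
  let E : (Fin r ⊕ Fin s → k) →ₗ[k] (Fin r → k) × (Fin s → k) × k :=
    { toFun := Ef
      map_add' := fun f g => by
        refine Prod.ext (funext fun i => ?_) (Prod.ext (funext fun j => ?_) ?_) <;>
          simp [Ef, Finset.sum_add_distrib] <;> ring
      map_smul' := fun c f => by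
        refine Prod.ext (funext fun i => ?_) (Prod.ext (funext fun j => ?_) ?_) <;>
          simp [Ef, ← Finset.mul_sum] <;> ring }
  refine ⟨E, fun σ τ f => ?_, ?_⟩
  · have h1 : ∑ a, f (Sum.inl (σ.symm a)) = ∑ a, f (Sum.inl a) := Equiv.sum_comp σ.symm (fun a => f (Sum.inl a))
    have h2 : ∑ b, f (Sum.inr (τ.symm b)) = ∑ b, f (Sum.inr b) := Equiv.sum_comp τ.symm (fun b => f (Sum.inr b))
    refine Prod.ext (funext fun i => ?_) (Prod.ext (funext fun j => ?_) ?_) <;> simp [E, Ef, h1, h2]
  · refine ⟨?_, ?_, ?_⟩
    · intro f _
      refine ⟨?_, ?_, trivial⟩ <;> simp [E, Ef, Finset.sum_sub_distrib] <;> field_simp <;> ring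
    · intro f hf g hg h
      simp only [Set.mem_setOf_eq, Fintype.sum_sum_type] at hf hg
      have h3 : ∑ a, f (Sum.inl a) = ∑ a, g (Sum.inl a) := congrArg (fun z => z.2.2) h
      have h4 : ∑ b, f (Sum.inr b) = ∑ b, g (Sum.inr b) := by linear_combination hf - hg - h3
      funext z
      rcases z with i | j
      · have h1 := congrFun (congrArg Prod.fst h) i
        simp only [E, Ef, LinearMap.coe_mk, AddHom.coe_mk, h3] at h1
        exact sub_left_injective h1
      · have h1 := congrFun (congrArg (fun z => z.2.1) h) j
        simp only [E, Ef, LinearMap.coe_mk, AddHom.coe_mk, h4] at h1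
        exact sub_left_injective h1
    · rintro ⟨g, h, a⟩ ⟨hg, hh, -⟩
      simp only [Set.mem_setOf_eq] at hg hh
      refine ⟨Sum.elim (fun i => g i + a / r) (fun j => h j - a / s), ?_, ?_⟩
      · simp [Finset.sum_add_distrib, Finset.sum_sub_distrib, hg, hh]; field_simp; ring
      · refine Prod.ext (funext fun i => ?_) (Prod.ext (funext fun j => ?_) ?_) <;>
          simp [E, Ef, Finset.sum_add_distrib, Finset.sum_sub_distrib, hg, hh] <;> field_simp <;> ring

end Groth.Agent.S19216
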