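import Groth.Statements.S19217
import Groth.Agent.VarietyLib.SmoothStalk
import Groth.Agent.VarietyLib.GeomField
import Groth.Agent.CAlgH3.RegularCore
import Groth.Agent.CommAlg6.QuotRegular
import Groth.Agent.QReg6.Regular
import Groth.Agent.LocCoh.DepthLocal
import Groth.Agent.LocCoh.Depth
-- import your own Groth.Agent.* helpers here

set_option autoImplicit false
set_option backward.isDefEq.respectTransparency false
set_option backward.isDefEq.respectTransparency.types false
universe u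
open TensorProduct CategoryTheory CategoryTheory.Limits
open DiagIdeal

namespace Groth.Agent.S19217


section Tensor

variable {k : Type u} [Field k] {A : Type u} [CommRing A] [Algebra k A]

local notation "RT" n:max => (⨂[k] _ : Fin n, A)

def jj {n : ℕ} (i : Fin n) : A →ₐ[k] RT n :=
  PiTensorProduct.singleAlgHom (R := k) (A := fun _ : Fin n => A) i

def pr {n : ℕ} {T : Type u} [CommRing T] [Algebra k T] (φ : Fin n → (A →ₐ[k] T)) : RT n →ₐ[k] T :=
  PiTensorProduct.liftAlgHom
    ((MultilinearMap.mkPiAlgebra k (Fin n) T).compLinearMap fun i => (φ i).toLinearMap)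
    (by simp) (fun x y => by simp [Finset.prod_mul_distrib])

theorem pr_jj {n : ℕ} {T : Type u} [CommRing T] [Algebra k T] (φ : Fin n → (A →ₐ[k] T)) (i : Fin n) (a : A) :
    pr φ (jj i a) = φ i a := by
  classical
  simp only [pr, jj, PiTensorProduct.liftAlgHom_apply, PiTensorProduct.singleAlgHom_apply,
    PiTensorProduct.lift.tprod, MultilinearMap.compLinearMap_apply, MultilinearMap.mkPiAlgebra_apply,
    MonoidHom.mulSingle_apply, AlgHom.toLinearMap_apply]
  rw [Finset.prod_eq_single i (fun j _ hj => by rw [Pi.mulSingle_eq_of_ne hj, map_one])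
    (fun h => absurd (Finset.mem_univ i) h), Pi.mulSingle_eq_same]

theorem hom_ext {n : ℕ} {T : Type u} [CommRing T] [Algebra k T] {f g : RT n →ₐ[k] T}
    (h : ∀ i a, f (jj i a) = g (jj i a)) : f = g :=
  PiTensorProduct.algHom_ext fun i => AlgHom.ext fun a => h i a

def succEquiv (n : ℕ) : RT (n + 1) ≃ₐ[k] A ⊗[k] RT n :=
  AlgEquiv.ofAlgHom
    (pr (Fin.cases Algebra.TensorProduct.includeLeft fun i => Algebra.TensorProduct.includeRight.comp (jj i)))
    (Algebra.TensorProduct.lift (jj 0) (pr fun i => jj i.succ) fun _ _ => Commute.all _ _)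
    (Algebra.TensorProduct.ext (AlgHom.ext fun a => by simp [pr_jj])
      (hom_ext fun i a => by simp [pr_jj]))
    (hom_ext fun i a => by cases i using Fin.cases <;> simp [pr_jj])

def zeroEquiv : RT 0 ≃ₐ[k] k :=
  AlgEquiv.ofAlgHom (pr fun i => i.elim0) (Algebra.ofId k _) (AlgHom.ext fun c => by simp)
    (hom_ext fun i => i.elim0)

theorem smooth_pow [Algebra.Smooth k A] : ∀ n, Algebra.Smooth k (RT n) := by
  intro n
  induction n with
  | zero => exact Algebra.Smooth.of_equiv zeroEquiv.symm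
  | succ n ih =>
    haveI : Algebra.Smooth k (A ⊗[k] RT n) := Algebra.Smooth.comp k A (A ⊗[k] RT n)
    exact Algebra.Smooth.of_equiv (succEquiv n).symm

theorem isDomain_pow [IsAlgClosed k] [IsDomain A] : ∀ n, IsDomain (RT n) := by
  intro n
  induction n with
  | zero => exact (zeroEquiv (k := k) (A := A)).toMulEquiv.isDomain k
  | succ n ih =>
    haveI := Groth.Agent.VarietyLib.isDomain_tensor_of_isAlgClosed k A (RT n)
    exact (succEquiv (k := k) (A := A) n).toMulEquiv.isDomain _

theorem jj_ne {a : A} (ha : ∀ c : k, a ≠ c • (1 : A)) [Nontrivial A] {n : ℕ} {x y : Fin n} (h : x ≠ y) :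
    jj (k := k) x a ≠ jj y a := by
  classical
  intro he
  let φ : Fin n → (A →ₐ[k] A ⊗[k] A) := fun i =>
    if i = x then Algebra.TensorProduct.includeLeft else Algebra.TensorProduct.includeRight
  have h1 := congrArg (pr φ) he
  simp only [pr_jj, φ, if_pos rfl, if_neg h.symm, Algebra.TensorProduct.includeLeft_apply,
    Algebra.TensorProduct.includeRight_apply] at h1
  have hspan : a ∉ Submodule.span k {(1 : A)} := fun hm => by
    obtain ⟨c, hc⟩ := Submodule.mem_span_singleton.1 hm
    exact ha c hc.symm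
  obtain ⟨f, hfa, hf⟩ := Submodule.exists_dual_map_eq_bot_of_notMem hspan inferInstance
  have hf1 : f 1 = 0 := by
    have : f 1 ∈ (Submodule.span k {(1 : A)}).map f := ⟨1, Submodule.mem_span_singleton_self 1, rfl⟩
    rw [hf] at this
    exact (Submodule.mem_bot k).1 this
  obtain ⟨e, he1, -⟩ := Submodule.exists_dual_map_eq_bot_of_notMem
    (p := (⊥ : Submodule k A)) (x := (1 : A)) (by simp) inferInstance
  have h2 := congrArg (LinearMap.mul' k k ∘ₗ TensorProduct.map f e) h1
  simp [hf1, hfa, he1] at h2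

theorem exists_nonscalar (hdim : ringKrullDim A = 2) : ∃ a : A, ∀ c : k, a ≠ c • (1 : A) := by
  by_contra! hcon
  have hs : Function.Surjective (algebraMap k A) := fun a => by
    obtain ⟨c, hc⟩ := hcon a
    exact ⟨c, by rw [hc, Algebra.algebraMap_eq_smul_one]⟩
  have := ringKrullDim_le_of_surjective _ hs
  rw [hdim, ringKrullDim_eq_zero_of_field] at this
  exact absurd this (by norm_num)

def II {n : ℕ} (i j : Fin n) : Ideal (RT n) := Ideal.span (Set.range fun a : A => jj i a - jj j a)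

theorem sub_mem_II {n : ℕ} (i j : Fin n) (a : A) : jj i a - jj j a ∈ II (k := k) i j :=
  Ideal.subset_span ⟨a, rfl⟩

theorem II_ne_bot [Nontrivial A] (hdim : ringKrullDim A = 2) {n : ℕ} {i j : Fin n} (h : i ≠ j) :
    II (k := k) (A := A) i j ≠ ⊥ := by
  obtain ⟨a, ha⟩ := exists_nonscalar (k := k) hdim
  intro he
  have := sub_mem_II (k := k) i j a
  rw [he, Ideal.mem_bot, sub_eq_zero] at this
  exact jj_ne ha h this

/-- `II i j` is the kernel of a retraction onto a smaller tensor power. -/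
theorem exists_retraction {m : ℕ} (i' : Fin m) (j : Fin (m + 1)) :
    ∃ π : RT (m + 1) →ₐ[k] RT m, Function.Surjective π ∧
      RingHom.ker π = II (j.succAbove i') j ∧ (∀ a, π (jj j a) = jj i' a) ∧
      ∀ (x : Fin m) (a : A), π (jj (j.succAbove x) a) = jj x a := by
  let π : RT (m + 1) →ₐ[k] RT m := pr (j.insertNth (α := fun _ => A →ₐ[k] RT m) (jj i') jj)
  let τ : RT m →ₐ[k] RT (m + 1) := pr fun x => jj (j.succAbove x)
  have hj : ∀ a, π (jj j a) = jj i' a := fun a => by simp [π, pr_jj]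
  have hx : ∀ (x : Fin m) (a : A), π (jj (j.succAbove x) a) = jj x a := fun x a => by simp [π, pr_jj]
  have hτ : ∀ (x : Fin m) (a : A), τ (jj x a) = jj (j.succAbove x) a := fun x a => by simp [τ, pr_jj]
  have hs : π.comp τ = AlgHom.id k _ := hom_ext fun x a => by simp [hτ, hx]
  refine ⟨π, fun y => ⟨τ y, DFunLike.congr_fun hs y⟩, le_antisymm ?_ ?_, hj, hx⟩
  · intro y hy
    have hq : (Ideal.Quotient.mkₐ k (II (j.succAbove i') j)).comp (τ.comp π) =
        Ideal.Quotient.mkₐ k (II (k := k) (A := A) (j.succAbove i') j) := by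
      refine hom_ext fun x a => ?_
      cases x using j.succAboveCases with
      | x =>
        simp only [AlgHom.comp_apply, hj, hτ, Ideal.Quotient.mkₐ_eq_mk]
        exact Ideal.Quotient.eq.2 (sub_mem_II _ _ a)
      | p x => simp [hx, hτ]
    have := DFunLike.congr_fun hq y
    simp only [AlgHom.comp_apply, RingHom.mem_ker.1 hy, map_zero, Ideal.Quotient.mkₐ_eq_mk] at this
    exact Ideal.Quotient.eq_zero_iff_mem.1 this.symm
  · rw [II, Ideal.span_le]
    rintro _ ⟨a, rfl⟩
    simp [RingHom.mem_ker, hj, hx]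

theorem II_isPrime [IsAlgClosed k] [IsDomain A] {n : ℕ} {i j : Fin n} (h : i ≠ j) :
    (II (k := k) (A := A) i j).IsPrime := by
  obtain ⟨m, rfl⟩ : ∃ m, n = m + 1 := ⟨n - 1, by have := i.pos; omega⟩
  obtain ⟨i', rfl⟩ := Fin.exists_succAbove_eq h
  obtain ⟨π, -, hker, -, -⟩ := exists_retraction (k := k) (A := A) i' j
  haveI := isDomain_pow (k := k) (A := A) m
  rw [← hker]
  exact RingHom.ker_isPrime _

theorem II_smooth_quotient [Algebra.Smooth k A] {n : ℕ} {i j : Fin n} (h : i ≠ j) :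
    Algebra.Smooth k (RT n ⧸ II (k := k) (A := A) i j) := by
  obtain ⟨m, rfl⟩ : ∃ m, n = m + 1 := ⟨n - 1, by have := i.pos; omega⟩
  obtain ⟨i', rfl⟩ := Fin.exists_succAbove_eq h
  obtain ⟨π, hs, hker, -, -⟩ := exists_retraction (k := k) (A := A) i' j
  haveI := smooth_pow (k := k) (A := A) m
  exact Algebra.Smooth.of_equiv ((Ideal.quotientKerAlgEquivOfSurjective hs).symm.trans
    (Ideal.quotientEquivAlgOfEq k hker))

theorem not_II_le [Nontrivial A] (hdim : ringKrullDim A = 2) {n : ℕ} {i j c d : Fin n} (hij : i < j)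
    (hcd : c < d) (hne : (i, j) ≠ (c, d)) : ¬ II (k := k) (A := A) c d ≤ II i j := by
  obtain ⟨m, rfl⟩ : ∃ m, n = m + 1 := ⟨n - 1, by have := i.pos; omega⟩
  obtain ⟨i', hi'⟩ := Fin.exists_succAbove_eq hij.ne
  obtain ⟨π, -, hker, hj, hx⟩ := exists_retraction (k := k) (A := A) i' j
  obtain ⟨a, ha⟩ := exists_nonscalar (k := k) hdim
  rw [hi'] at hker
  intro hle
  have h0 : π (jj c a - jj d a) = 0 := by
    rw [← RingHom.mem_ker, hker]; exact hle (sub_mem_II c d a)
  rw [map_sub, sub_eq_zero] at h0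
  by_cases hc : c = j
  · subst hc
    obtain ⟨d', hd'⟩ := Fin.exists_succAbove_eq hcd.ne'
    rw [hj, ← hd', hx] at h0
    refine jj_ne ha (fun e => ?_) h0
    have : i = d := by rw [← hi', ← hd', e]
    exact absurd (this ▸ hij) (not_lt.2 hcd.le)
  obtain ⟨c', hc'⟩ := Fin.exists_succAbove_eq hc
  by_cases hd : d = j
  · subst hd
    rw [← hc', hx, hj] at h0
    refine jj_ne ha (fun e => ?_) h0
    apply hne
    have : i = c := by rw [← hi', ← hc', e]
    rw [this]
  · obtain ⟨d', hd'⟩ := Fin.exists_succAbove_eq hd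
    rw [← hc', ← hd', hx, hx] at h0
    exact jj_ne ha (fun e => hcd.ne (by rw [← hc', ← hd', e])) h0

end Tensor

section Symbolic

variable {k : Type u} [Field k] {S : Type u} [CommRing S] [Algebra k S] [Algebra.Smooth k S]

theorem mem_pow_of_mul_mem (I : Ideal S) [I.IsPrime] [Algebra.Smooth k (S ⧸ I)] {y : S} (hy : y ∉ I)
    (l : ℕ) {x : S} (hxy : x * y ∈ I ^ l) : x ∈ I ^ l := by
  classical
  haveI : IsNoetherianRing S := Algebra.FiniteType.isNoetherianRing k S
  let 𝔟 : Ideal S := (I ^ l).colon {x}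
  suffices h : 𝔟 = ⊤ by
    have h1 : (1 : S) ∈ 𝔟 := h ▸ Submodule.mem_top
    simpa [𝔟] using Submodule.mem_colon_singleton.1 h1
  by_contra hne
  obtain ⟨P, hP, hle⟩ := Ideal.exists_le_maximal 𝔟 hne
  suffices ∃ u ∉ P, u * x ∈ I ^ l by
    obtain ⟨u, hu, hux⟩ := this
    exact hu (hle (Submodule.mem_colon_singleton.2 hux))
  by_cases hIP : I ≤ P
  swap
  · obtain ⟨u, hu, hu'⟩ := Set.not_subset.1 hIP
    exact ⟨u ^ l, fun h => hu' (hP.isPrime.mem_of_pow_mem _ h),
      Ideal.mul_mem_right _ _ (Ideal.pow_mem_pow hu l)⟩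
  set L := Localization.AtPrime P
  haveI : IsRegularLocalRing L := Groth.Agent.VarietyLib.isRegularLocalRing_of_smooth k S P
  haveI : (P.map (Ideal.Quotient.mk I)).IsPrime :=
    Ideal.map_isPrime_of_surjective Ideal.Quotient.mk_surjective (by rwa [Ideal.mk_ker])
  obtain ⟨e⟩ := Groth.Agent.CommAlg6.localization_quotient_ringEquiv I P hIP
  haveI := Groth.Agent.VarietyLib.isRegularLocalRing_of_smooth k (S ⧸ I) (P.map (Ideal.Quotient.mk I))
  set J := I.map (algebraMap S L) with hJ
  haveI : IsRegularLocalRing (L ⧸ J) :=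
    IsRegularLocalRing.of_ringEquiv (R := Localization.AtPrime (P.map (Ideal.Quotient.mk I))) e
  obtain ⟨rs, hlen, hmax, c, hc, hIc⟩ :=
    Groth.Agent.CAlgH3.exists_sop_of_regular_quotient _ L rfl J
  have hreg := Groth.Agent.CAlgH3.isRegular_of_ofList_eq_maximalIdeal rs hmax hlen
  let f : Fin c → L := fun i => rs[(i : ℕ)]'(by omega)
  have himg : ∀ m : Fin c, f '' Set.Iio m = {r | r ∈ rs.take m} := by
    intro m
    ext r
    simp only [Set.mem_image, Set.mem_Iio, Set.mem_setOf_eq, List.mem_take_iff_getElem, f]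
    constructor
    · rintro ⟨i, hi, rfl⟩; exact ⟨i, by simp; omega, rfl⟩
    · rintro ⟨i, hi, rfl⟩; exact ⟨⟨i, by simp at hi; omega⟩, Fin.mk_lt_of_lt_val (by simp at hi; omega), rfl⟩
  have hrange : Ideal.span (Set.range f) = J := by
    rw [hIc, Ideal.ofList]
    congr 1
    ext r
    simp only [Set.mem_range, Set.mem_setOf_eq, List.mem_take_iff_getElem, f]
    constructor
    · rintro ⟨i, rfl⟩; exact ⟨i, by simp; omega, rfl⟩
    · rintro ⟨i, hi, rfl⟩; exact ⟨⟨i, by simp at hi; omega⟩, rfl⟩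
  have hq : CAlgX.IsQuasiRegular f := Groth.Agent.QReg6.isQuasiRegular_of_regular fun m a ha => by
    rw [himg] at ha ⊢
    have hr := hreg.regular_mod_prev m (by omega)
    rw [smul_eq_mul, Ideal.mul_top] at hr
    have h0 := hr (a₁ := Submodule.Quotient.mk a) (a₂ := 0) (by
      simp only [smul_zero]
      refine (Submodule.Quotient.mk_eq_zero _).2 ?_
      simp only [smul_eq_mul]
      rwa [mul_comm])
    exact (Submodule.Quotient.mk_eq_zero _).1 h0
  have hd : Disjoint (P.primeCompl : Set S) I := Set.disjoint_left.2 fun z hz hz' => hz (hIP hz')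
  haveI hJp : J.IsPrime := IsLocalization.isPrime_of_isPrime_disjoint P.primeCompl L I ‹_› hd
  have hyJ : algebraMap S L y ∉ J := fun h => hy <| by
    rw [← IsLocalization.comap_map_of_isPrime_disjoint P.primeCompl L (I := I) ‹_› hd]; exact h
  have h1 : algebraMap S L x * algebraMap S L y ∈ Ideal.span (Set.range f) ^ l := by
    rw [hrange, hJ, ← Ideal.map_pow, ← map_mul]; exact Ideal.mem_map_of_mem _ hxy
  have h2 := Groth.Agent.QReg6.mem_pow_of_mul_mem_pow hq _ (fun a ha => by
    rw [hrange] at ha ⊢; exact (hJp.mem_or_mem ha).resolve_right hyJ) l _ h1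
  rw [hrange, hJ, ← Ideal.map_pow] at h2
  exact (IsLocalization.algebraMap_mem_map_algebraMap_iff P.primeCompl L _ _).1 h2

end Symbolic

section Main

variable {k : Type u} [Field k] [IsAlgClosed k] {A : Type u} [CommRing A] [Algebra k A]
  [Algebra.Smooth k A] [IsDomain A]

theorem main (hdim : ringKrullDim A = 2) (n : ℕ) (ℓ : Fin n × Fin n → ℕ)
    (𝔞 : Ideal (⨂[k] _ : Fin n, A))
    (h𝔞 : 𝔞 = ⨅ pq ∈ Finset.univ.filter (fun pq : (Fin n × Fin n) × (Fin n × Fin n) =>
        pq.1.1 < pq.1.2 ∧ pq.2.1 < pq.2.2 ∧ pq.1 ≠ pq.2), II pq.1.1 pq.1.2 ⊔ II pq.2.1 pq.2.2)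
    (M : Submodule (⨂[k] _ : Fin n, A) (⨂[k] _ : Fin n, A))
    (hM : M = ⨅ p ∈ Finset.univ.filter (fun p : Fin n × Fin n => p.1 < p.2),
      (II (k := k) (A := A) p.1 p.2) ^ (ℓ p)) :
    Subsingleton (_root_.LocCoh.H 𝔞 0 M) ∧ Subsingleton (_root_.LocCoh.H 𝔞 1 M) := by
  classical
  set R := ⨂[k] _ : Fin n, A
  haveI : Algebra.Smooth k R := smooth_pow n
  haveI : IsDomain R := isDomain_pow n
  haveI : IsNoetherianRing R := Algebra.FiniteType.isNoetherianRing k R
  have hle : ∀ P : Ideal R, P.IsPrime → 𝔞 ≤ P → ∃ pq : (Fin n × Fin n) × (Fin n × Fin n),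
      (pq.1.1 < pq.1.2 ∧ pq.2.1 < pq.2.2 ∧ pq.1 ≠ pq.2) ∧ II pq.1.1 pq.1.2 ⊔ II pq.2.1 pq.2.2 ≤ P := by
    intro P hP h
    rw [h𝔞, ← Finset.inf_eq_iInf] at h
    obtain ⟨pq, hpq, h'⟩ := hP.inf_le'.1 h
    exact ⟨pq, (Finset.mem_filter.1 hpq).2, h'⟩
  have hnot : ∀ p : Fin n × Fin n, p.1 < p.2 → ∃ y ∈ 𝔞, y ∉ II (k := k) (A := A) p.1 p.2 := by
    intro p hp
    refine Set.not_subset.1 fun h => ?_
    haveI := II_isPrime (k := k) (A := A) hp.ne
    obtain ⟨pq, ⟨h1, h2, h3⟩, h4⟩ := hle _ inferInstance h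
    by_cases hq : p = pq.1
    · exact not_II_le hdim hp h2 (fun e => h3 (by rw [← hq]; exact e)) (le_sup_right.trans h4)
    · exact not_II_le hdim hp h1 (fun e => hq e) (le_sup_left.trans h4)
  have hH0R : Subsingleton (_root_.LocCoh.H 𝔞 0 R) ∧ Subsingleton (_root_.LocCoh.H 𝔞 1 R) := by
    have h2 : (2 : ℕ∞) ≤ 𝔞.height := by
      rw [Ideal.height_eq_inf_minimalPrimes]
      refine le_iInf₂ fun P hP => ?_
      haveI : P.IsPrime := hP.1.1
      obtain ⟨pq, ⟨h1, h2, h3⟩, h4⟩ := hle P hP.1.1 hP.1.2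
      haveI := II_isPrime (k := k) (A := A) h1.ne
      have hlt : II pq.1.1 pq.1.2 < P := lt_of_le_of_ne (le_sup_left.trans h4) fun e =>
        not_II_le hdim h1 h2 h3 (e ▸ le_sup_right.trans h4)
      have hbot : (⊥ : Ideal R) < II pq.1.1 pq.1.2 := bot_lt_iff_ne_bot.2 (II_ne_bot hdim h1.ne)
      haveI : (⊥ : Ideal R).IsPrime := Ideal.isPrime_bot
      have e1 := Ideal.height_strict_mono_of_isPrime hbot
      have e2 := Ideal.height_strict_mono_of_isPrime hlt
      have e3 : (1 : ℕ∞) ≤ (II (k := k) (A := A) pq.1.1 pq.1.2).height :=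
        Order.one_le_iff_pos.2 (lt_of_le_of_lt bot_le e1)
      calc (2 : ℕ∞) = 1 + 1 := by norm_num
        _ ≤ (II (k := k) (A := A) pq.1.1 pq.1.2).height + 1 := by gcongr
        _ ≤ P.height := Order.add_one_le_of_lt e2
    have hCM : _root_.LocCoh.IsCohenMacaulayRing R :=
      ⟨fun p hp => by
        haveI := Groth.Agent.VarietyLib.isRegularLocalRing_of_smooth k R p
        exact Groth.Agent.CAlgH3.isCohenMacaulayLocalRing_of_regular _⟩
    have h3 : ((2 : ℕ) : ℕ∞) ≤ _root_.LocCoh.idealDepth 𝔞 R := by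
      by_cases ht : 𝔞 = ⊤
      · rw [_root_.LocCoh.idealDepth, if_pos (by rw [ht, smul_eq_mul, Ideal.mul_top])]
        exact le_top
      · rw [(Groth.Agent.LocCoh.isCohenMacaulayRing_iff_idealDepth R).1 hCM 𝔞 ht]
        exact_mod_cast h2
    rw [Groth.Agent.LocCoh.natCast_le_idealDepth_iff_H] at h3
    exact ⟨h3 0 (by norm_num), h3 1 (by norm_num)⟩
  have hq : Subsingleton (_root_.LocCoh.H 𝔞 0 (R ⧸ M)) := by
    rw [Groth.Agent.LocCoh.subsingleton_H0_iff, eq_bot_iff]
    intro z hz
    obtain ⟨x, rfl⟩ := Submodule.Quotient.mk_surjective M z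
    obtain ⟨N, hN⟩ := hz
    rw [Submodule.mem_bot, Submodule.Quotient.mk_eq_zero, hM]
    simp only [Submodule.mem_iInf]
    intro p hp
    have hp' : p.1 < p.2 := (Finset.mem_filter.1 hp).2
    obtain ⟨y, hy, hy'⟩ := hnot p hp'
    haveI := II_isPrime (k := k) (A := A) hp'.ne
    haveI := II_smooth_quotient (k := k) (A := A) hp'.ne
    refine mem_pow_of_mul_mem (k := k) _ (fun h => hy' ((Ideal.IsPrime.mem_of_pow_mem inferInstance N h))) (ℓ p)
      (y := y ^ N) ?_
    have h1 := hN _ (Ideal.pow_mem_pow hy N)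
    rw [← Submodule.Quotient.mk_smul, Submodule.Quotient.mk_eq_zero, hM] at h1
    simp only [Submodule.mem_iInf] at h1
    rw [mul_comm]
    exact h1 p hp
  obtain ⟨hR0, hR1⟩ := hH0R
  refine ⟨(Groth.Agent.LocCoh.Hmap_zero_injective (I := 𝔞) M.injective_subtype M.mkQ_surjective
    (LinearMap.exact_subtype_mkQ M)).subsingleton, ?_⟩
  exact Groth.Agent.LocCoh.subsingleton_left_succ (I := 𝔞) M.injective_subtype M.mkQ_surjective
    (LinearMap.exact_subtype_mkQ M) 0

end Main

end Groth.Agent.S19217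

namespace Groth.Agent.S19217

/-- Let k be an algebraically closed field of characteristic zero and A a smooth k-algebra which is a
domain of Krull dimension 2 (an affine piece of a smooth surface). In the n-fold tensor power R of A
over k, indexed by Fin n, let I_p (p = (i, j), i < j) be the ideal generated by the a_i − a_j, a ∈
A, the ideal of the diagonal of factors i and j; let M be the intersection of the powers I_p ^ ℓ(p)
over all p with i < j, for arbitrary exponents ℓ; and let 𝔞 be the intersection, over all pairs of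
distinct index pairs p ≠ q, of I_p + I_q (an ideal cutting out the locus W where two distinct
pairwise diagonals meet, of codimension 4). Then the local cohomology modules of M with support in 𝔞
vanish in degrees 0 and 1; equivalently M, as a sheaf on Spec R, coincides with the direct image of
its restriction to the complement of W. (The source states this for the product of copies of a
smooth quasi-projective complex surface, as the equality of the direct image from the complement of
W of the restricted product of the powers of the diagonal ideals with the intersection of those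
powers; the two sheaves agree away from W, where the diagonals are pairwise disjoint.) -/
theorem result (k : Type u) [Field k] [IsAlgClosed k] [CharZero k]
    (A : Type u) [CommRing A] [Algebra k A] [Algebra.Smooth k A] [IsDomain A]
    (hdim : ringKrullDim A = 2) (n : ℕ) (ℓ : Fin n × Fin n → ℕ)
    (I : Fin n × Fin n → Ideal (⨂[k] _ : Fin n, A))
    (hI : ∀ p, I p = Ideal.span (Set.range fun a : A =>
        PiTensorProduct.singleAlgHom (R := k) (A := fun _ : Fin n => A) p.1 a -
        PiTensorProduct.singleAlgHom (R := k) (A := fun _ : Fin n => A) p.2 a))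
    (𝔞 : Ideal (⨂[k] _ : Fin n, A))
    (h𝔞 : 𝔞 = ⨅ pq ∈ Finset.univ.filter (fun pq : (Fin n × Fin n) × (Fin n × Fin n) =>
        pq.1.1 < pq.1.2 ∧ pq.2.1 < pq.2.2 ∧ pq.1 ≠ pq.2), I pq.1 ⊔ I pq.2)
    (M : Submodule (⨂[k] _ : Fin n, A) (⨂[k] _ : Fin n, A))
    (hM : M = ⨅ p ∈ Finset.univ.filter (fun p : Fin n × Fin n => p.1 < p.2), (I p) ^ (ℓ p)) :
    IsZero ((localCohomology 𝔞 0).obj (ModuleCat.of (⨂[k] _ : Fin n, A) M)) ∧
    IsZero ((localCohomology 𝔞 1).obj (ModuleCat.of (⨂[k] _ : Fin n, A) M)) := by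
  obtain rfl : I = fun p => II p.1 p.2 := funext hI
  obtain ⟨h0, h1⟩ := main hdim n ℓ 𝔞 h𝔞 M hM
  exact ⟨@ModuleCat.isZero_of_subsingleton _ _ _ h0, @ModuleCat.isZero_of_subsingleton _ _ _ h1⟩


end Groth.Agent.S19217
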