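import Groth.Statements.S19218


set_option autoImplicit false
universe u v
open TensorProduct
open DiagIdeal

namespace Groth.Agent.S19218

/-- Let k be an algebraically closed field of characteristic zero and A a smooth k-algebra which is a
domain of Krull dimension 2. In the n-fold tensor power R of A over k, indexed by Fin n, let I_p (p
= (i, j), i < j) be the ideal generated by the a_i − a_j, a ∈ A, and let I be the intersection of
the I_p, the ideal of the big diagonal. Assume that for every s ≥ 0 the power I ^ s is the
intersection of the powers I_p ^ s (a property of the big diagonal of a smooth surface that the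
source takes from the literature). Then for m ≥ 1 every element of R fixed by all permutations of
the n factors and lying in I ^ (2m − 1) lies in I ^ (2m): on the symmetric product the invariants of
the odd power and of the next even power of the ideal of the big diagonal coincide. (The source
states the sheaf version for a smooth quasi-projective complex surface, using the displayed property
of the powers without restating it as a hypothesis.) -/
theorem result (k : Type u) [Field k] [IsAlgClosed k] [CharZero k]
    (A : Type v) [CommRing A] [Algebra k A] [Algebra.Smooth k A] [IsDomain A]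
    (hdim : ringKrullDim A = 2) (n : ℕ)
    (I : Fin n × Fin n → Ideal (⨂[k] _ : Fin n, A))
    (hI : ∀ p, I p = Ideal.span (Set.range fun a : A =>
        PiTensorProduct.singleAlgHom (R := k) (A := fun _ : Fin n => A) p.1 a -
        PiTensorProduct.singleAlgHom (R := k) (A := fun _ : Fin n => A) p.2 a))
    (IΔ : Ideal (⨂[k] _ : Fin n, A))
    (hIΔ : IΔ = ⨅ p ∈ Finset.univ.filter (fun p : Fin n × Fin n => p.1 < p.2), I p)
    (hpow : ∀ s : ℕ, IΔ ^ s = ⨅ p ∈ Finset.univ.filter (fun p : Fin n × Fin n => p.1 < p.2), (I p) ^ s)
    (m : ℕ) (hm : 1 ≤ m) (x : ⨂[k] _ : Fin n, A)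
    (hx : ∀ σ : Equiv.Perm (Fin n), PiTensorProduct.reindex k (fun _ : Fin n => A) σ x = x)
    (hmem : x ∈ IΔ ^ (2 * m - 1)) :
    x ∈ IΔ ^ (2 * m) := by
  classical
  rw [hpow] at hmem ⊢
  rw [Submodule.mem_iInf] at hmem ⊢
  intro p
  rw [Submodule.mem_iInf]
  intro hp
  have hxp : x ∈ I p ^ (2 * m - 1) := (Submodule.mem_iInf _).1 (hmem p) hp
  obtain ⟨i, j⟩ := p
  let R := ⨂[k] _ : Fin n, A
  let ι : Fin n → A →ₐ[k] R := fun l => PiTensorProduct.singleAlgHom (R := k) (A := fun _ : Fin n => A) l
  let e := Equiv.swap i j
  let f : MultilinearMap k (fun _ : Fin n => A) R := (PiTensorProduct.tprod k).domDomCongr e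
  have hf : ∀ v, f v = PiTensorProduct.tprod k (fun l => v (e l)) := fun v => rfl
  let s : R →ₐ[k] R := PiTensorProduct.liftAlgHom f (by rw [hf]; rfl)
    (fun v w => by rw [hf, hf, hf, PiTensorProduct.tprod_mul_tprod]; rfl)
  have hs : ∀ v, s (PiTensorProduct.tprod k v) = PiTensorProduct.tprod k (fun l => v (e l)) := fun v =>
    (PiTensorProduct.lift.tprod v : PiTensorProduct.lift f (PiTensorProduct.tprod k v) = f v)
  have hsx : s x = x := by
    have h : (PiTensorProduct.reindex k (fun _ : Fin n => A) e).toLinearMap = s.toLinearMap := by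
      refine PiTensorProduct.ext (MultilinearMap.ext fun v => ?_)
      show PiTensorProduct.reindex k (fun _ : Fin n => A) e (PiTensorProduct.tprod k v) = s (PiTensorProduct.tprod k v)
      rw [hs, PiTensorProduct.reindex_tprod]
      simp [e, Equiv.symm_swap]
    exact (DFunLike.congr_fun h x).symm.trans (hx e)
  have hsι : ∀ l a, s (ι l a) = ι (e l) a := fun l a => by
    show s (PiTensorProduct.tprod k (MonoidHom.mulSingle (fun _ : Fin n => A) l a)) =
      PiTensorProduct.tprod k (MonoidHom.mulSingle (fun _ : Fin n => A) (e l) a)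
    rw [hs]
    congr 1
    funext t
    simp only [MonoidHom.mulSingle_apply, Pi.mulSingle_apply]
    have : e t = l ↔ t = e l := by simp [e, Equiv.swap_apply_eq_iff]
    simp only [this]
  let J : Ideal R := I (i, j)
  have hJ : J = Ideal.span (Set.range fun a : A => ι i a - ι j a) := hI (i, j)
  have hgen : ∀ a, ι i a - ι j a ∈ J := fun a => hJ ▸ Ideal.subset_span ⟨a, rfl⟩
  have hmod : ∀ r, s r - r ∈ J := by
    intro r
    rw [← Ideal.Quotient.mk_eq_mk_iff_sub_mem]
    have h : (Ideal.Quotient.mkₐ k J).comp s = Ideal.Quotient.mkₐ k J := by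
      refine PiTensorProduct.algHom_ext fun l => AlgHom.ext fun a => ?_
      show Ideal.Quotient.mk J (s (ι l a)) = Ideal.Quotient.mk J (ι l a)
      rw [hsι, Ideal.Quotient.mk_eq_mk_iff_sub_mem]
      rcases eq_or_ne l i with rfl | hli
      · rw [Equiv.swap_apply_left, ← neg_sub]; exact J.neg_mem (hgen a)
      · rcases eq_or_ne l j with rfl | hlj
        · rw [Equiv.swap_apply_right]; exact hgen a
        · rw [Equiv.swap_apply_of_ne_of_ne hli hlj, sub_self]; exact J.zero_mem
    exact DFunLike.congr_fun h r
  have hanti : ∀ g ∈ J, s g + g ∈ J ^ 2 := by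
    intro g hg
    rw [hJ] at hg
    induction hg using Submodule.span_induction with
    | mem g hg =>
      obtain ⟨a, rfl⟩ := hg
      rw [map_sub, hsι, hsι, Equiv.swap_apply_left, Equiv.swap_apply_right, sub_add_sub_cancel', sub_self]
      exact Submodule.zero_mem _
    | zero => simp
    | add a b _ _ ha hb =>
      rw [map_add, add_add_add_comm]; exact add_mem ha hb
    | smul r g hg hg2 =>
      have hgJ : g ∈ J := hJ ▸ hg
      rw [smul_eq_mul, map_mul, show s r * s g + r * g = s r * (s g + g) - (s r - r) * g by ring]
      exact sub_mem (Ideal.mul_mem_left _ _ hg2) (by rw [pow_two]; exact Ideal.mul_mem_mul (hmod r) hgJ)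
  have hkey : ∀ d : ℕ, ∀ y ∈ J ^ d, s y - (-1) ^ d * y ∈ J ^ (d + 1) := by
    intro d
    induction d with
    | zero => intro y _; simpa using hmod y
    | succ d ih =>
      intro y hy
      rw [pow_succ] at hy
      refine Submodule.mul_induction_on hy (fun a ha g hg => ?_) fun a b ha hb => ?_
      · rw [map_mul, show s a * s g - (-1) ^ (d + 1) * (a * g) =
          (s a - (-1) ^ d * a) * s g + (-1) ^ d * (a * (s g + g)) by ring]
        refine add_mem ?_ (Ideal.mul_mem_left _ _ ?_)
        · rw [pow_succ J (d + 1)]
          refine Ideal.mul_mem_mul (ih a ha) ?_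
          have := add_mem (hmod g) hg
          simpa using this
        · rw [show d + 1 + 1 = d + 2 from rfl, pow_add J d 2]
          exact Ideal.mul_mem_mul ha (hanti g hg)
      · rw [map_add, mul_add, add_sub_add_comm]; exact add_mem ha hb
  have h2 := hkey (2 * m - 1) x hxp
  rw [hsx, Odd.neg_one_pow (⟨m - 1, by omega⟩ : Odd (2 * m - 1)), neg_one_mul, sub_neg_eq_add,
    show 2 * m - 1 + 1 = 2 * m by omega] at h2
  have hinv : algebraMap k R (2 : k)⁻¹ * (x + x) = x := by
    rw [← two_mul, ← mul_assoc, show (2 : R) = algebraMap k R 2 from (map_ofNat _ 2).symm, ← map_mul,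
      inv_mul_cancel₀ two_ne_zero, map_one, one_mul]
  rw [← hinv]
  exact Ideal.mul_mem_left _ _ h2

end Groth.Agent.S19218
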