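import Groth.Statements.S19221
import Mathlib
-- import your own Groth.Agent.* helpers here

set_option autoImplicit false
universe u
open SymRep

namespace Groth.Agent.S19221

/-- Integral model of the cycle vectors. -/
def zI (c : Fin 2) (i j l : Fin 4) (c' : Fin 2) (a b : Fin 4) : ℤ :=
  if c' = c then
    ((if a = i ∧ b = j then 1 else 0) + (if a = j ∧ b = l then 1 else 0) + (if a = l ∧ b = i then 1 else 0)
      - (if a = j ∧ b = i then 1 else 0) - (if a = l ∧ b = j then 1 else 0) - (if a = i ∧ b = l then 1 else 0))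
  else 0

/-- The four vectors of the chorded 4-cycle. -/
def cyc : Fin 4 → Fin 2 × Fin 4 × Fin 4 × Fin 4 := ![(0, 0, 1, 2), (1, 0, 1, 2), (0, 0, 2, 3), (1, 0, 2, 3)]

/-- Four test coordinates. -/
def crd : Fin 4 → Fin 2 × Fin 4 × Fin 4 := ![(0, 0, 1), (0, 0, 2), (1, 0, 1), (1, 0, 2)]

def MI (σ : Equiv.Perm (Fin 4)) : Matrix (Fin 4) (Fin 4) ℤ := fun t i =>
  zI (cyc t).1 (cyc t).2.1 (cyc t).2.2.1 (cyc t).2.2.2 (crd i).1 (σ.symm (crd i).2.1) (σ.symm (crd i).2.2)

theorem sum_det : (∑ σ : Equiv.Perm (Fin 4), (MI σ).det) = -12 := by decide +kernel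


/-- Let k be a field of characteristic zero and F the k-space of functions Fin 2 → Fin 4 → Fin 4 → k,
with the symmetric group of Fin 4 acting through P σ f c a b = f c (σ⁻¹ a) (σ⁻¹ b). The signed edge
vectors of the complete graph on four vertices live in F as the functions antisymmetric in the two
vertex arguments, and for a colour c and an oriented 3-cycle i → j → l → i the cycle vector z c i j
l is the function equal, in colour c, to +1 at (i,j), (j,l), (l,i), to −1 at (j,i), (l,j), (i,l) and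
to 0 elsewhere (and 0 in the other colour); these cycle vectors span k² ⊗ (cycle space), the
representation written C² ⊗ q in the published text. Let Γ be the graph with edges 01, 02, 03, 12,
23 (a 4-cycle with one chord), whose cycle space is spanned by the cycles (0,1,2) and (0,2,3), and
let ω be the product in the exterior algebra of F of the four vectors z 0 0 1 2, z 1 0 1 2, z 0 0 2
3, z 1 0 2 3 (a generator of the top exterior power of k² ⊗ q_Γ). Then ω is fixed by the stabiliser
of Γ in the symmetric group (generated by the transpositions (0 2) and (1 3)), and the sum over all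
24 permutations σ of the images of ω under the maps induced by P σ is nonzero: the projection of ω
to the invariants of the fourth exterior power of k² ⊗ q_{K₄} does not vanish. (The published
statement is over the complex numbers; a field of characteristic zero is used here. The published
statement also asserts that this map is an isomorphism onto the one-dimensional space of
S₄-invariants of the fourth exterior power of k² ⊗ q_{K₄}; only its non-vanishing is stated here.) -/
theorem result (k : Type u) [Field k] [CharZero k]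
    (P : Equiv.Perm (Fin 4) → ((Fin 2 → Fin 4 → Fin 4 → k) →ₗ[k] (Fin 2 → Fin 4 → Fin 4 → k)))
    (hP : ∀ (σ : Equiv.Perm (Fin 4)) (f : Fin 2 → Fin 4 → Fin 4 → k) (c : Fin 2) (a b : Fin 4),
      P σ f c a b = f c (σ.symm a) (σ.symm b))
    (z : Fin 2 → Fin 4 → Fin 4 → Fin 4 → (Fin 2 → Fin 4 → Fin 4 → k))
    (hz : ∀ (c : Fin 2) (i j l : Fin 4) (c' : Fin 2) (a b : Fin 4), z c i j l c' a b =
      if c' = c then
        ((if a = i ∧ b = j then 1 else 0) + (if a = j ∧ b = l then 1 else 0) + (if a = l ∧ b = i then 1 else 0)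
          - (if a = j ∧ b = i then 1 else 0) - (if a = l ∧ b = j then 1 else 0) - (if a = i ∧ b = l then 1 else 0))
      else 0)
    (ω : ExteriorAlgebra k (Fin 2 → Fin 4 → Fin 4 → k))
    (hω : ω = ExteriorAlgebra.ι k (z 0 0 1 2) * ExteriorAlgebra.ι k (z 1 0 1 2) *
      ExteriorAlgebra.ι k (z 0 0 2 3) * ExteriorAlgebra.ι k (z 1 0 2 3)) :
    ExteriorAlgebra.map (P (Equiv.swap 0 2)) ω = ω ∧
    ExteriorAlgebra.map (P (Equiv.swap 1 3)) ω = ω ∧
    (∑ σ : Equiv.Perm (Fin 4), ExteriorAlgebra.map (P σ) ω) ≠ 0 := by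
  classical
  subst hω
  have hzI : ∀ c i j l c' a b, z c i j l c' a b = ((zI c i j l c' a b : ℤ) : k) := by
    intro c i j l c' a b
    rw [hz, zI]
    simp only [apply_ite (Int.cast : ℤ → k), Int.cast_add, Int.cast_sub, Int.cast_one, Int.cast_zero]
  have htr : ∀ (σ : Equiv.Perm (Fin 4)) c i j l i' j' l', (∀ c' a b, zI c i j l c' (σ.symm a) (σ.symm b) = - zI c i' j' l' c' a b) →
      P σ (z c i j l) = - z c i' j' l' := by
    intro σ c i j l i' j' l' h
    funext c' a b
    rw [hP, Pi.neg_apply, Pi.neg_apply, Pi.neg_apply, hzI, hzI, h, Int.cast_neg]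
  have anti : ∀ x y : Fin 2 → Fin 4 → Fin 4 → k, ExteriorAlgebra.ι k x * ExteriorAlgebra.ι k y = - (ExteriorAlgebra.ι k y * ExteriorAlgebra.ι k x) := by
    intro x y
    rw [eq_neg_iff_add_eq_zero]
    exact ExteriorAlgebra.ι_add_mul_swap x y
  refine ⟨?_, ?_, ?_⟩
  · rw [map_mul, map_mul, map_mul, ExteriorAlgebra.map_apply_ι, ExteriorAlgebra.map_apply_ι, ExteriorAlgebra.map_apply_ι, ExteriorAlgebra.map_apply_ι,
      htr (Equiv.swap 0 2) 0 0 1 2 0 1 2 (by decide +kernel), htr (Equiv.swap 0 2) 1 0 1 2 0 1 2 (by decide +kernel),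
      htr (Equiv.swap 0 2) 0 0 2 3 0 2 3 (by decide +kernel), htr (Equiv.swap 0 2) 1 0 2 3 0 2 3 (by decide +kernel)]
    simp only [map_neg, neg_mul, mul_neg, neg_neg]
  · rw [map_mul, map_mul, map_mul, ExteriorAlgebra.map_apply_ι, ExteriorAlgebra.map_apply_ι, ExteriorAlgebra.map_apply_ι, ExteriorAlgebra.map_apply_ι,
      htr (Equiv.swap 1 3) 0 0 1 2 0 2 3 (by decide +kernel), htr (Equiv.swap 1 3) 1 0 1 2 0 2 3 (by decide +kernel),
      htr (Equiv.swap 1 3) 0 0 2 3 0 1 2 (by decide +kernel), htr (Equiv.swap 1 3) 1 0 2 3 0 1 2 (by decide +kernel)]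
    simp only [map_neg, neg_mul, mul_neg, neg_neg]
    -- move the first pair behind the second
    have sw : ∀ x y w : Fin 2 → Fin 4 → Fin 4 → k, ExteriorAlgebra.ι k x * (ExteriorAlgebra.ι k y * ExteriorAlgebra.ι k w) = ExteriorAlgebra.ι k y * ExteriorAlgebra.ι k w * ExteriorAlgebra.ι k x := by
      intro x y w
      rw [← mul_assoc, anti x y, neg_mul, mul_assoc, anti x w, mul_neg, neg_neg, ← mul_assoc]
    rw [mul_assoc (ExteriorAlgebra.ι k (z 0 0 2 3) * ExteriorAlgebra.ι k (z 1 0 2 3)),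
      mul_assoc (ExteriorAlgebra.ι k (z 0 0 1 2) * ExteriorAlgebra.ι k (z 1 0 1 2))]
    rw [mul_assoc (ExteriorAlgebra.ι k (z 0 0 2 3)) (ExteriorAlgebra.ι k (z 1 0 2 3)), sw (z 1 0 2 3), ← mul_assoc,
      sw (z 0 0 2 3), mul_assoc]
  · let Lc : Fin 4 → (Fin 2 → Fin 4 → Fin 4 → k) →ₗ[k] k := fun i =>
      { toFun := fun f => f (crd i).1 (crd i).2.1 (crd i).2.2, map_add' := fun _ _ => rfl, map_smul' := fun _ _ => rfl }
    let D : (Fin 2 → Fin 4 → Fin 4 → k) [⋀^Fin 4]→ₗ[k] k :=
      (Matrix.detRowAlternating : (Fin 4 → k) [⋀^Fin 4]→ₗ[k] k).compLinearMap (LinearMap.pi Lc)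
    intro h0
    have hev : ∀ σ : Equiv.Perm (Fin 4), ExteriorAlgebra.liftAlternating (Pi.single 4 D : ∀ i, (Fin 2 → Fin 4 → Fin 4 → k) [⋀^Fin i]→ₗ[k] k)
        (ExteriorAlgebra.map (P σ) (ExteriorAlgebra.ι k (z 0 0 1 2) * ExteriorAlgebra.ι k (z 1 0 1 2) *
          ExteriorAlgebra.ι k (z 0 0 2 3) * ExteriorAlgebra.ι k (z 1 0 2 3))) = (((MI σ).det : ℤ) : k) := by
      intro σ
      have hw : ExteriorAlgebra.map (P σ) (ExteriorAlgebra.ι k (z 0 0 1 2) * ExteriorAlgebra.ι k (z 1 0 1 2) *
          ExteriorAlgebra.ι k (z 0 0 2 3) * ExteriorAlgebra.ι k (z 1 0 2 3)) =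
          ExteriorAlgebra.ιMulti k 4 (fun t => P σ (z (cyc t).1 (cyc t).2.1 (cyc t).2.2.1 (cyc t).2.2.2)) := by
        rw [ExteriorAlgebra.ιMulti_apply]
        simp [cyc, List.ofFn_succ, mul_assoc]
      rw [hw, ExteriorAlgebra.liftAlternating_apply_ιMulti, Pi.single_eq_same]
      rw [Int.cast_det]
      simp only [D, AlternatingMap.compLinearMap_apply]
      refine congrArg Matrix.det ?_
      ext t i
      show (P σ (z (cyc t).1 (cyc t).2.1 (cyc t).2.2.1 (cyc t).2.2.2)) (crd i).1 (crd i).2.1 (crd i).2.2 = ((MI σ t i : ℤ) : k)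
      rw [hP, hzI]
      rfl
    have := congrArg (ExteriorAlgebra.liftAlternating (Pi.single 4 D : ∀ i, (Fin 2 → Fin 4 → Fin 4 → k) [⋀^Fin i]→ₗ[k] k)) h0
    rw [map_sum, map_zero, Finset.sum_congr rfl fun σ _ => hev σ, ← Int.cast_sum, sum_det] at this
    norm_num at this

end Groth.Agent.S19221
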