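import Groth.Statements.S19223
import Groth.Agent.GalCoh.Averaging
import Mathlib.RepresentationTheory.Homological.GroupCohomology.LongExactSequence
import Mathlib.RingTheory.Henselian

set_option autoImplicit false
set_option backward.isDefEq.respectTransparency false
attribute [local instance] Units.mulDistribMulActionRight
open GalCoh
open CategoryTheory

namespace Groth.Agent.S19223

theorem exists_preimage {k G : Type} [CommRing k] [Group G] {X : ShortComplex (Rep k G)} (hX : X.Exact)
    (y : X.X₂) (hy : X.g.hom y = 0) : ∃ z, X.f.hom z = y :=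
  (ShortComplex.moduleCat_exact_iff _).mp (hX.map (forget₂ (Rep k G) (ModuleCat k))) y hy


/-- For a strictly henselian local ring R whose residue field k has characteristic p ≥ 0, and a finite
group G of order prime to p acting on R by ring automorphisms (hence on the unit groups R^× and
k^×), consider the homomorphism H^n(G, R^×) → H^n(G, k^×) induced by the reduction map. It is
bijective for every n ≥ 2; it is also bijective for n = 1 provided that p = 0 or the only p-power
root of unity in R is 1. (The reduction map on cohomology is pinned by its values on units; groups,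
rings and modules are taken in the lowest universe, as integral coefficients in the group-cohomology
library require.) -/
theorem result (R : Type) [CommRing R]
    [HenselianLocalRing R] [IsSepClosed (IsLocalRing.ResidueField R)] (p : ℕ) [CharP (IsLocalRing.ResidueField R) p]
    (G : Type) [Group G] [Finite G] [MulSemiringAction G R] (hp : ¬ p ∣ Nat.card G)
    (φ : Rep.ofMulDistribMulAction G Rˣ ⟶ Rep.ofMulDistribMulAction G (IsLocalRing.ResidueField R)ˣ)
    (hφ : ∀ x : Rˣ, Additive.toMul (φ.hom (Additive.ofMul x)) = Units.map (IsLocalRing.residue R).toMonoidHom x)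
    (n : ℕ) (hn : 1 ≤ n) (h1 : n = 1 → p ≠ 0 → ∀ (ζ : Rˣ) (m : ℕ), ζ ^ p ^ m = 1 → ζ = 1) :
    Function.Bijective ((groupCohomology.functor ℤ G n).map φ).hom := by
  set N := Nat.card G with hN
  have hNu : IsUnit (N : R) := by
    rw [← IsLocalRing.residue_ne_zero_iff_isUnit, map_natCast, Ne, CharP.cast_eq_zero_iff _ p]
    exact hp
  have hker : ∀ x : Rˣ, φ.hom (Additive.ofMul x) = 0 ↔ IsLocalRing.residue R (x : R) = 1 := fun x => by
    refine Iff.trans ⟨fun h => (hφ x).symm.trans (congrArg Additive.toMul h),
      fun h => Additive.toMul.injective ((hφ x).trans h)⟩ ?_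
    exact Units.ext_iff
  have hroot : ∀ x : Rˣ, IsLocalRing.residue R (x : R) = 1 →
      ∃ y : Rˣ, y ^ N = x ∧ IsLocalRing.residue R (y : R) = 1 := by
    intro x hx
    obtain ⟨a, ha, ha1⟩ := HenselianLocalRing.is_henselian (Polynomial.X ^ N - Polynomial.C (x : R))
      (Polynomial.monic_X_pow_sub_C _ Nat.card_pos.ne') 1 (by
        rw [← IsLocalRing.residue_eq_zero_iff]; simp [hx]) (by simpa [Polynomial.derivative_X_pow] using hNu)
    have ha' : IsLocalRing.residue R a = 1 := by
      rwa [← IsLocalRing.residue_eq_zero_iff, map_sub, map_one, sub_eq_zero] at ha1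
    have hau : IsUnit a := (IsLocalRing.residue_ne_zero_iff_isUnit a).mp (by rw [ha']; exact one_ne_zero)
    refine ⟨hau.unit, Units.ext ?_, ha'⟩
    rw [Polynomial.IsRoot, Polynomial.eval_sub, Polynomial.eval_pow, Polynomial.eval_X, Polynomial.eval_C, sub_eq_zero] at ha
    simpa using ha
  have huniq : ∀ x : Rˣ, IsLocalRing.residue R (x : R) = 1 → x ^ N = 1 → x = 1 := by
    intro x hx hxN
    have hgeom := geom_sum_mul (x : R) N
    rw [← Units.val_pow_eq_pow_val, hxN, Units.val_one, sub_self] at hgeom
    have hu : IsUnit (∑ i ∈ Finset.range N, (x : R) ^ i) := by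
      rw [← IsLocalRing.residue_ne_zero_iff_isUnit, map_sum]
      simp only [map_pow, hx, one_pow, Finset.sum_const, Finset.card_range, nsmul_eq_mul, mul_one]
      rw [Ne, CharP.cast_eq_zero_iff _ p]
      exact hp
    exact Units.ext (sub_eq_zero.mp (hu.mul_right_eq_zero.mp hgeom))
  let S : ShortComplex (Rep ℤ G) := ShortComplex.mk (Limits.kernel.ι φ) φ (Limits.kernel.condition φ)
  have hsurj : Function.Surjective φ.hom := by
    intro y
    obtain ⟨x, hx⟩ := IsLocalRing.residue_surjective (R := R) ((Additive.toMul y : (IsLocalRing.ResidueField R)ˣ) : IsLocalRing.ResidueField R)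
    have hu : IsUnit x := (IsLocalRing.residue_ne_zero_iff_isUnit x).mp (by rw [hx]; exact Units.ne_zero _)
    refine ⟨Additive.ofMul hu.unit, Additive.toMul.injective ?_⟩
    rw [hφ]
    exact Units.ext hx
  haveI : Epi φ := (Rep.epi_iff_surjective φ).mpr hsurj
  have hex : S.Exact := ShortComplex.exact_of_f_is_kernel _ (Limits.kernelIsKernel φ)
  have hS : S.ShortExact := ShortComplex.ShortExact.mk' hex inferInstance ‹_›
  have hpre : ∀ y : Rep.ofMulDistribMulAction G Rˣ, φ.hom y = 0 → ∃ z, (Limits.kernel.ι φ).hom z = y := by
    intro y hy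
    exact exists_preimage hex y hy
  have hi : Function.Injective (Limits.kernel.ι φ).hom := (Rep.mono_iff_injective _).mp inferInstance
  have hbij : Function.Bijective fun a : (Limits.kernel φ : Rep ℤ G) => Nat.card G • a := by
    refine ⟨fun a b hab => ?_, fun a => ?_⟩
    · refine hi (sub_eq_zero.mp ?_)
      rw [← map_sub]
      set c := (Limits.kernel.ι φ).hom (a - b) with hc
      have h1 : N • c = 0 := by rw [hc, ← map_nsmul, nsmul_sub, sub_eq_zero.mpr hab, map_zero]
      have h2 : φ.hom c = 0 := by
        have := congrArg (fun f => f.hom (a - b)) (Limits.kernel.condition φ)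
        simpa [hc] using this
      exact Additive.toMul.injective ((huniq (Additive.toMul c) ((hker _).mp h2)
        (congrArg Additive.toMul h1)).trans toMul_zero.symm)
    · set c := (Limits.kernel.ι φ).hom a with hc
      have h2 : φ.hom c = 0 := by
        have := congrArg (fun f => f.hom a) (Limits.kernel.condition φ)
        simpa [hc] using this
      obtain ⟨y, hy, hy1⟩ := hroot (Additive.toMul c) ((hker _).mp h2)
      obtain ⟨z, hz⟩ := hpre (Additive.ofMul y) ((hker y).mpr hy1)
      refine ⟨z, hi ?_⟩
      show (Limits.kernel.ι φ).hom (N • z) = c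
      rw [map_nsmul, hz]
      exact congrArg Additive.ofMul hy
  have hK : ∀ i : ℕ, 0 < i → Limits.IsZero (groupCohomology S.X₁ i) := fun i hi =>
    @ModuleCat.isZero_of_subsingleton _ _ _ (GalCoh.subsingleton_of_bijective_card _ hbij i hi)
  show Function.Bijective ((S.map (groupCohomology.functor ℤ G n)).g).hom
  haveI : Mono (S.map (groupCohomology.functor ℤ G n)).g :=
    (groupCohomology.mapShortComplex₂_exact hS n).mono_g ((hK n hn).eq_of_src _ _)
  haveI : Epi (S.map (groupCohomology.functor ℤ G n)).g :=
    (groupCohomology.mapShortComplex₃_exact hS (i := n) (j := n + 1) rfl).epi_f ((hK (n + 1) n.succ_pos).eq_of_tgt _ _)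
  exact ⟨(ModuleCat.mono_iff_injective _).mp inferInstance, (ModuleCat.epi_iff_surjective _).mp inferInstance⟩

end Groth.Agent.S19223
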