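import Groth.Statements.S19224
import Groth.Agent.GalCoh.Averaging
import Mathlib.RepresentationTheory.Homological.GroupCohomology.LongExactSequence
import Mathlib.RingTheory.RootsOfUnity.AlgebraicallyClosed
import Mathlib.FieldTheory.IsSepClosed

set_option autoImplicit false
set_option backward.isDefEq.respectTransparency false
open GalCoh
open CategoryTheory groupCohomology

namespace Groth.Agent.S19224

/-- Let Q be a finite group such that H^3(Q, ℤ) = 0 for the trivial action, and let k be a separably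
closed field of characteristic p ≥ 0 with p not dividing the order of Q. Then H^2(Q, k^×) = 0, where
Q acts trivially on the units of k. (Groups and fields are taken in the lowest universe, as integral
coefficients in the group-cohomology library require.) -/
theorem result (Q : Type) [Group Q] [Finite Q]
    (hQ : Subsingleton (groupCohomology (Rep.trivial ℤ Q ℤ) 3)) (k : Type) [Field k] [IsSepClosed k]
    (p : ℕ) [CharP k p] (hp : ¬ p ∣ Nat.card Q) :
    Subsingleton (groupCohomology (Rep.trivial ℤ Q (Additive kˣ)) 2) := by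
  classical
  set N := Nat.card Q with hN
  have hN0 : N ≠ 0 := Nat.card_pos.ne'
  haveI : NeZero N := ⟨hN0⟩
  haveI : NeZero (N : k) := ⟨fun h => hp ((CharP.cast_eq_zero_iff k p N).mp h)⟩
  obtain ⟨ζ₀, hζ₀⟩ := HasEnoughRootsOfUnity.exists_primitiveRoot k N
  let ζ : kˣ := (hζ₀.isUnit hN0).unit
  obtain ⟨η₀, hη₀⟩ := IsSepClosed.exists_pow_nat_eq (ζ₀ : k) N
  have hη0 : η₀ ≠ 0 := fun h => hζ₀.ne_zero hN0 (by rw [← hη₀, h, zero_pow hN0])
  let η : kˣ := Units.mk0 η₀ hη0
  have hηζ : η ^ N = ζ := Units.ext (by simp [η, ζ, hη₀])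
  let U : Rep ℤ Q := Rep.trivial ℤ Q (Additive kˣ)
  let Z : Rep ℤ Q := Rep.trivial ℤ Q ℤ
  let lin : kˣ → (Z ⟶ U) := fun u =>
    (Rep.trivialFunctor ℤ Q).map (ModuleCat.ofHom (LinearMap.toSpanSingleton ℤ (Additive kˣ) (Additive.ofMul u)))
  have hlin : ∀ (u : kˣ) (a : ℤ), (lin u).hom a = a • Additive.ofMul u := fun _ _ => rfl
  let μ : U ⟶ U := N • 𝟙 U
  have hμ : ∀ x : Additive kˣ, μ.hom x = N • x := fun _ => rfl
  let ι := Limits.kernel.ι μ
  let S : ShortComplex (Rep ℤ Q) := ShortComplex.mk ι μ (Limits.kernel.condition μ)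
  haveI : Epi μ := (Rep.epi_iff_surjective μ).mpr fun x => by
    obtain ⟨z, hz⟩ := IsSepClosed.exists_pow_nat_eq ((Additive.toMul (x : Additive kˣ) : kˣ) : k) N
    have hz0 : z ≠ 0 := fun h => (Additive.toMul (x : Additive kˣ) : kˣ).ne_zero (by rw [← hz, h, zero_pow hN0])
    exact ⟨Additive.ofMul (Units.mk0 z hz0), Additive.toMul.injective (Units.ext hz)⟩
  have hex : S.Exact := ShortComplex.exact_of_f_is_kernel _ (Limits.kernelIsKernel μ)
  have hS : S.ShortExact := ShortComplex.ShortExact.mk' hex inferInstance ‹_›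
  have hζN : lin ζ ≫ μ = 0 := Rep.hom_ext (Representation.IntertwiningMap.ext (LinearMap.ext fun (a : ℤ) => by
    show N • (a • Additive.ofMul ζ) = 0
    rw [← natCast_zsmul _ N, smul_comm, natCast_zsmul, show N • Additive.ofMul ζ = Additive.ofMul (ζ ^ N) from rfl,
      show ζ ^ N = 1 from Units.ext (by simp [ζ, hζ₀.pow_eq_one]), ofMul_one, smul_zero]))
  let π : Z ⟶ Limits.kernel μ := Limits.kernel.lift μ (lin ζ) hζN
  have hπι : π ≫ ι = lin ζ := Limits.kernel.lift_ι _ _ _
  have hι : Function.Injective ι.hom := (Rep.mono_iff_injective _).mp inferInstance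
  haveI : Epi π := (Rep.epi_iff_surjective π).mpr fun z => by
    have h0 : μ.hom (ι.hom z) = 0 := by
      show (ι ≫ μ).hom z = 0
      rw [Limits.kernel.condition μ]; rfl
    let y : Additive kˣ := ι.hom z
    have h1 : ((Additive.toMul y : kˣ) : k) ^ N = 1 := by
      rw [← Units.val_pow_eq_pow_val, show (Additive.toMul y) ^ N = 1 from
        congrArg Additive.toMul h0, Units.val_one]
    obtain ⟨i, -, hi⟩ := hζ₀.eq_pow_of_pow_eq_one h1
    refine ⟨(i : ℤ), hι ?_⟩
    have h2 : ι.hom (π.hom (i : ℤ)) = (lin ζ).hom (i : ℤ) := congrArg (fun f => f.hom (i : ℤ)) hπι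
    rw [h2, hlin, natCast_zsmul]
    exact Additive.toMul.injective (Units.ext (by show _ = ((Additive.toMul y : kˣ) : k); simp [ζ, hi]))
  let T : ShortComplex (Rep ℤ Q) := ShortComplex.mk (Limits.kernel.ι π) π (Limits.kernel.condition π)
  have hTex : T.Exact := ShortComplex.exact_of_f_is_kernel _ (Limits.kernelIsKernel π)
  have hT : T.ShortExact := ShortComplex.ShortExact.mk' hTex inferInstance ‹_›
  -- the kernel of `π` is a copy of `ℤ`
  have hker : Subsingleton (groupCohomology T.X₁ 3) := by
    let m : Z ⟶ Z := N • 𝟙 Z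
    have hm : m ≫ π = 0 := by
      refine (cancel_mono ι).mp ?_
      rw [Category.assoc, hπι, Limits.zero_comp]
      refine Rep.hom_ext (Representation.IntertwiningMap.ext (LinearMap.ext fun (a : ℤ) => ?_))
      show ((N • a : ℤ)) • Additive.ofMul ζ = 0
      rw [nsmul_eq_mul, mul_smul, natCast_zsmul, show N • (a • Additive.ofMul ζ) = (0 : Additive kˣ) from
        congrArg (fun f => f.hom a) hζN]
    let j : Z ⟶ Limits.kernel π := Limits.kernel.lift π m hm
    have hj : ∀ a : ℤ, (Limits.kernel.ι π).hom (j.hom a) = N • a := fun a =>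
      congrArg (fun f => f.hom a) (Limits.kernel.lift_ι π m hm)
    haveI : Mono j := (Rep.mono_iff_injective j).mpr fun a b hab => by
      have h : N • (a : ℤ) = N • (b : ℤ) := (hj a).symm.trans ((congrArg _ hab).trans (hj b))
      simpa [hN0] using h
    haveI : Epi j := (Rep.epi_iff_surjective j).mpr fun z => by
      have h0 : π.hom ((Limits.kernel.ι π).hom z) = 0 := by
        show (Limits.kernel.ι π ≫ π).hom z = 0
        rw [Limits.kernel.condition π]; rfl
      obtain ⟨b, hb⟩ : ∃ b : ℤ, (Limits.kernel.ι π).hom z = b := ⟨_, rfl⟩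
      have h1 : b • Additive.ofMul ζ = 0 := by
        rw [← hlin ζ b, ← hb, ← hπι]
        show ι.hom (π.hom _) = 0
        rw [h0, map_zero]
      have hord : (orderOf ζ : ℤ) ∣ b := by
        rw [orderOf_dvd_iff_zpow_eq_one]; exact congrArg Additive.toMul h1
      rw [show orderOf ζ = N by
        rw [← orderOf_units, show ((ζ : kˣ) : k) = ζ₀ from rfl]; exact hζ₀.eq_orderOf.symm] at hord
      obtain ⟨c, hc⟩ := hord
      refine ⟨c, (Rep.mono_iff_injective (Limits.kernel.ι π)).mp inferInstance ?_⟩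
      rw [hj, hb, hc, nsmul_eq_mul]
    haveI : IsIso j := isIso_of_mono_of_epi j
    haveI : Subsingleton ((groupCohomology.functor ℤ Q 3).obj Z) := hQ
    exact ((groupCohomology.functor ℤ Q 3).mapIso (asIso j)).toLinearEquiv.toEquiv.symm.subsingleton
  haveI : Epi (T.map (groupCohomology.functor ℤ Q 2)).g :=
    (groupCohomology.mapShortComplex₃_exact hT (i := 2) (j := 3) rfl).epi_f
      ((@ModuleCat.isZero_of_subsingleton _ _ _ hker).eq_of_tgt _ _)
  let F := cochainsFunctor ℤ Q ⋙ HomologicalComplex.homologyFunctor _ _ 2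
  have hμ0 : ((groupCohomology.functor ℤ Q 2).map μ) = 0 := by
    show F.map (N • 𝟙 U) = 0
    rw [F.map_nsmul, F.map_id]
    ext x
    exact GalCoh.card_nsmul_eq_zero U 2 two_pos x
  haveI : Epi (S.map (groupCohomology.functor ℤ Q 2)).f :=
    (groupCohomology.mapShortComplex₂_exact hS 2).epi_f hμ0
  have hzero : (groupCohomology.functor ℤ Q 2).map π ≫ (groupCohomology.functor ℤ Q 2).map ι = 0 := by
    rw [← Functor.map_comp, hπι, show lin ζ = N • lin η from Rep.hom_ext (Representation.IntertwiningMap.ext (LinearMap.ext fun (a : ℤ) => by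
      show a • Additive.ofMul ζ = N • (a • Additive.ofMul η)
      rw [← natCast_zsmul _ N, smul_comm, natCast_zsmul, ← hηζ]; rfl))]
    show F.map (N • lin η) = 0
    rw [F.map_nsmul]
    ext x
    exact GalCoh.card_nsmul_eq_zero U 2 two_pos _
  refine subsingleton_of_forall_eq 0 fun y => ?_
  obtain ⟨x, rfl⟩ := (ModuleCat.epi_iff_surjective (S.map (groupCohomology.functor ℤ Q 2)).f).mp inferInstance y
  obtain ⟨w, rfl⟩ := (ModuleCat.epi_iff_surjective (T.map (groupCohomology.functor ℤ Q 2)).g).mp inferInstance x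
  exact congrArg (fun f => f.hom w) hzero

end Groth.Agent.S19224
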