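import Groth.Statements.S19227
import Groth.Agent.GalEt.Torsion
import Groth.Agent.EtLimit.Units
import Groth.Agent.SDiv28.Norm.LocFree

/-!
The norm `f_* G_m → G_m` of a finite locally free morphism of degree `d`, composed with the pullback of units,
is multiplication by `d`; direct images along finite morphisms do not change cohomology.
-/

set_option autoImplicit false
set_option linter.all false
set_option backward.isDefEq.respectTransparency.types false
set_option backward.isDefEq.respectTransparency false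
set_option synthInstance.maxHeartbeats 400000
set_option maxHeartbeats 1000000
universe u
open CategoryTheory CategoryTheory.Limits CategoryTheory.Abelian AlgebraicGeometry Opposite TopologicalSpace
open Groth.Agent.GrpdLib Groth.Agent.SDiv28.Norm
open Dix

namespace Groth.Agent.S19227

/-- Pushout squares of affine pieces: the norm commutes with base change. -/
theorem affNorm_baseChange {P T P' T' : Scheme.{u}} (π : P ⟶ T) [IsFinite π] [Flat π] [LocallyOfFinitePresentation π]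
    (π' : P' ⟶ T') [IsFinite π'] [Flat π'] [LocallyOfFinitePresentation π']
    {g : P' ⟶ P} {q : T' ⟶ T} (H : IsPullback g π' π q)
    {V : T.Opens} (hV : IsAffineOpen V) {W : T'.Opens} (hW : IsAffineOpen W) (hWV : W ≤ q ⁻¹ᵁ V)
    (hgW : π' ⁻¹ᵁ W ≤ g ⁻¹ᵁ (π ⁻¹ᵁ V)) (s : Γ(P, π ⁻¹ᵁ V)) :
    q.appLE V W hWV (affNorm π hV s) = affNorm π' hW (g.appLE (π ⁻¹ᵁ V) (π' ⁻¹ᵁ W) hgW s) := by
  have hUY : π' ⁻¹ᵁ W = g ⁻¹ᵁ (π ⁻¹ᵁ V) ⊓ π' ⁻¹ᵁ W := (inf_eq_right.2 hgW).symm
  have hpo := ((isIso_pushoutSection_iff H hWV le_rfl hUY).1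
    (isIso_pushoutSection_of_isAffineOpen H hWV le_rfl hUY hV hW (hV.preimage π))).flip
  letI : Algebra Γ(T, V) Γ(P, π ⁻¹ᵁ V) := (π.app V).hom.toAlgebra
  letI : Algebra Γ(T, V) Γ(T', W) := (q.appLE V W hWV).hom.toAlgebra
  letI : Algebra Γ(T', W) Γ(P', π' ⁻¹ᵁ W) := (π'.app W).hom.toAlgebra
  letI : Algebra Γ(P, π ⁻¹ᵁ V) Γ(P', π' ⁻¹ᵁ W) := (g.appLE (π ⁻¹ᵁ V) (π' ⁻¹ᵁ W) hgW).hom.toAlgebra
  letI : Algebra Γ(T, V) Γ(P', π' ⁻¹ᵁ W) :=
    ((π.app V) ≫ g.appLE (π ⁻¹ᵁ V) (π' ⁻¹ᵁ W) hgW).hom.toAlgebra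
  haveI : IsScalarTower Γ(T, V) Γ(P, π ⁻¹ᵁ V) Γ(P', π' ⁻¹ᵁ W) := IsScalarTower.of_algebraMap_eq' rfl
  have h : q.appLE V W hWV ≫ π'.app W = π.app V ≫ g.appLE (π ⁻¹ᵁ V) (π' ⁻¹ᵁ W) hgW := by
    rw [Scheme.Hom.app_eq_appLE, Scheme.Hom.app_eq_appLE, Scheme.Hom.appLE_comp_appLE,
      Scheme.Hom.appLE_comp_appLE]
    simp only [H.w]
  haveI : IsScalarTower Γ(T, V) Γ(T', W) Γ(P', π' ⁻¹ᵁ W) :=
    IsScalarTower.of_algebraMap_eq' (congrArg CommRingCat.Hom.hom h).symm
  haveI : Algebra.IsPushout Γ(T, V) Γ(T', W) Γ(P, π ⁻¹ᵁ V) Γ(P', π' ⁻¹ᵁ W) := by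
    rw [← CommRingCat.isPushout_iff_isPushout]
    rw [← π.app_eq_appLE, ← π'.app_eq_appLE] at hpo
    exact hpo
  change algebraMap Γ(T, V) Γ(T', W) ((presV π hV).norm s) =
    (presV π' hW).norm (algebraMap Γ(P, π ⁻¹ᵁ V) Γ(P', π' ⁻¹ᵁ W) s)
  rw [← ProjPres.norm_baseChange (L := Γ(T', W)) (P := Γ(P', π' ⁻¹ᵁ W))]
  exact ProjPres.norm_algEquiv _ _ AlgEquiv.refl _

theorem normHom_baseChange {P T P' T' : Scheme.{u}} (π : P ⟶ T) [IsFinite π] [Flat π] [LocallyOfFinitePresentation π]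
    (π' : P' ⟶ T') [IsFinite π'] [Flat π'] [LocallyOfFinitePresentation π']
    {g : P' ⟶ P} {q : T' ⟶ T} (H : IsPullback g π' π q) (s : Γ(P, ⊤)) :
    q.appTop (normHom π ⊤ s) = normHom π' ⊤ (g.appTop s) := by
  refine TopCat.Presheaf.section_ext T'.sheaf ⊤ _ _ fun y hy => ?_
  obtain ⟨V, hV, hyV, -⟩ := exists_isAffineOpen_mem_and_subset (X := T) (x := q y) (U := ⊤) trivial
  obtain ⟨W, hW, hyW, hWV⟩ := exists_isAffineOpen_mem_and_subset (X := T') (x := y) (U := q ⁻¹ᵁ V) hyV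
  have hgW : π' ⁻¹ᵁ W ≤ g ⁻¹ᵁ (π ⁻¹ᵁ V) := by
    rw [← Scheme.Hom.comp_preimage, H.w, Scheme.Hom.comp_preimage]
    exact π'.preimage_mono hWV
  have key : T'.presheaf.map (homOfLE (le_top : W ≤ ⊤)).op (q.appTop (normHom π ⊤ s)) =
      T'.presheaf.map (homOfLE (le_top : W ≤ ⊤)).op (normHom π' ⊤ (g.appTop s)) := by
    have e₁ := normFun_spec π (U := ⊤) s hV le_top
    have e₂ := normFun_spec π' (U := ⊤) (g.appTop s) hW le_top
    have e₃ : T'.presheaf.map (homOfLE (le_top : W ≤ ⊤)).op (q.appTop (normHom π ⊤ s)) =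
        q.appLE V W hWV (T.presheaf.map (homOfLE (le_top : V ≤ ⊤)).op (normHom π ⊤ s)) := by
      show (q.appTop ≫ T'.presheaf.map _) _ = (T.presheaf.map _ ≫ q.appLE V W hWV) _
      rw [Scheme.Hom.map_appLE, Scheme.Hom.appTop, Scheme.Hom.app_eq_appLE, Scheme.Hom.appLE_map]
    have e₄ : P'.presheaf.map (homOfLE (π'.preimage_mono (le_top : W ≤ ⊤))).op (g.appTop s) =
        g.appLE (π ⁻¹ᵁ V) (π' ⁻¹ᵁ W) hgW (P.presheaf.map (homOfLE (π.preimage_mono (le_top : V ≤ ⊤))).op s) := by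
      show (g.appTop ≫ P'.presheaf.map _) _ = (P.presheaf.map _ ≫ g.appLE _ _ hgW) _
      rw [Scheme.Hom.map_appLE, Scheme.Hom.appTop, Scheme.Hom.app_eq_appLE]
      exact ConcreteCategory.congr_hom (Scheme.Hom.appLE_map (f := g) _ _) _
    refine e₃.trans ((congrArg _ e₁).trans ((affNorm_baseChange π π' H hV hW hWV hgW _).trans ?_))
    rw [← e₄]
    exact e₂.symm
  have := congrArg (T'.presheaf.germ W y hyW) key
  rwa [TopCat.Presheaf.germ_res_apply, TopCat.Presheaf.germ_res_apply] at this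

variable {X Y : Scheme.{u}} (f : X ⟶ Y)

theorem isPullback_bc {U U' : Y.Etale} (g : U' ⟶ U) :
    IsPullback ((EtCoh.bc f).map g).left (pullback.fst U'.hom f) (pullback.fst U.hom f) g.left := by
  have e1 : ((EtCoh.bc f).map g).left ≫ pullback.fst U.hom f = pullback.fst U'.hom f ≫ g.left :=
    pullback.lift_fst _ _ _
  have e2 : ((EtCoh.bc f).map g).left ≫ pullback.snd U.hom f = pullback.snd U'.hom f :=
    pullback.lift_snd _ _ _
  refine IsPullback.of_right ?_ e1 (IsPullback.of_hasPullback U.hom f).flip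
  rw [e2]
  have hw : g.left ≫ U.hom = U'.hom := Over.w g.hom
  exact hw.symm ▸ (IsPullback.of_hasPullback U'.hom f).flip

/-- Pullback of units. -/
noncomputable def unitPull : EtCoh.Gm Y ⟶ (EtCoh.push f).obj (EtCoh.Gm X) :=
  ⟨{ app := fun U => EtCoh.ΓUnits.map (pullback.fst U.unop.hom f).op
     naturality := fun U U' g => ConcreteCategory.hom_ext _ _ fun x => EtLimit.units_ext (by
       have h := congrArg (fun k : pullback U'.unop.hom f ⟶ U.unop.left => k.appTop)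
         (isPullback_bc f g.unop).w
       simp only [Scheme.Hom.comp_appTop] at h
       exact (ConcreteCategory.congr_hom h _).symm) }⟩

variable [IsFinite f] [Flat f] [LocallyOfFinitePresentation f]

instance (U : Y.Etale) : IsFinite (pullback.fst U.hom f) :=
  MorphismProperty.pullback_fst (P := @IsFinite) _ _ inferInstance

instance (U : Y.Etale) : Flat (pullback.fst U.hom f) :=
  MorphismProperty.pullback_fst (P := @Flat) _ _ inferInstance

instance (U : Y.Etale) : LocallyOfFinitePresentation (pullback.fst U.hom f) :=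
  MorphismProperty.pullback_fst (P := @LocallyOfFinitePresentation) _ _ inferInstance

/-- The norm on units over one étale `Y`-scheme. -/
noncomputable def normApp (U : Y.Etale) :
    EtCoh.ΓUnits.obj (op (pullback U.hom f)) →+ EtCoh.ΓUnits.obj (op U.left) :=
  AddMonoidHom.mk'
    (fun x => EtLimit.ofUnit (Units.map (normHom (pullback.fst U.hom f) ⊤) (EtLimit.unitOf x)))
    (fun x y => EtLimit.units_ext ((normHom (pullback.fst U.hom f) ⊤).map_mul _ _))

/-- The norm. -/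
noncomputable def normSh : (EtCoh.push f).obj (EtCoh.Gm X) ⟶ EtCoh.Gm Y :=
  ⟨{ app := fun U => AddCommGrpCat.ofHom (normApp f U.unop)
     naturality := fun U U' g => ConcreteCategory.hom_ext _ _ fun x => by
       refine EtLimit.units_ext ?_
       change (normHom (pullback.fst U'.unop.hom f) ⊤)
           (Units.val (EtLimit.unitOf (EtCoh.ΓUnits.map ((EtCoh.bc f).map g.unop).left.op x))) =
         Units.val (EtLimit.unitOf (EtCoh.ΓUnits.map g.unop.left.op (normApp f U.unop x)))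
       refine Eq.trans ?_ (EtLimit.unitOf_map g.unop.left (normApp f U.unop x)).symm
       exact (normHom_baseChange (pullback.fst U.unop.hom f) (pullback.fst U'.unop.hom f) (isPullback_bc f g.unop) _).symm }⟩

theorem normHom_pull {P T : Scheme.{u}} (π : P ⟶ T) [IsFinite π] [Flat π] [LocallyOfFinitePresentation π]
    (d : ℕ) (hd : ∀ y : T, π.finrank y = d) (a : Γ(T, ⊤)) : normHom π ⊤ (π.appTop a) = a ^ d := by
  refine eq_of_affine fun V hV h => ?_
  letI := (π.app V).hom.toAlgebra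
  haveI := (finite_projective_app π hV).1
  haveI := (finite_projective_app π hV).2
  refine (normFun_spec π _ hV h).trans ?_
  rw [map_pow]
  refine (congrArg (affNorm π hV) ?_).trans (norm_algebraMap (presV π hV) d (rankAtStalk_app π d hd hV) _)
  exact (ConcreteCategory.congr_hom (π.naturality (homOfLE h).op) a).symm

theorem unitOf_nsmul {Z : Scheme.{u}} (n : ℕ) (x : EtCoh.ΓUnits.obj (op Z)) :
    (EtLimit.unitOf (n • x) : Γ(Z, ⊤)) = (EtLimit.unitOf x : Γ(Z, ⊤)) ^ n := by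
  rw [← Units.val_pow_eq_pow_val]
  congr 1

theorem normApp_pull (d : ℕ) (hd1 : 1 ≤ d) (hd : ∀ y : Y, f.finrank y = d) (U : Y.Etale)
    (x : EtCoh.ΓUnits.obj (op U.left)) :
    normApp f U (EtCoh.ΓUnits.map (pullback.fst U.hom f).op x) = d • x := by
  refine EtLimit.units_ext (Eq.trans ?_ (unitOf_nsmul d x).symm)
  exact normHom_pull (pullback.fst U.hom f) d (fun y =>
    (Scheme.Hom.finrank_of_isPullback _ _ _ _ (IsPullback.of_hasPullback U.hom f).flip y).trans (hd _))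
    (EtLimit.unitOf x : Γ(U.left, ⊤))

theorem unitPull_normSh (d : ℕ) (hd1 : 1 ≤ d) (hd : ∀ y : Y, f.finrank y = d) :
    unitPull f ≫ normSh f = d • 𝟙 (EtCoh.Gm Y) := by
  refine Sheaf.hom_ext (NatTrans.ext (funext fun U => ConcreteCategory.hom_ext _ _ fun x => ?_))
  refine (normApp_pull f d hd1 hd U.unop x).trans ?_
  have : ∀ n : ℕ, ((n • 𝟙 (EtCoh.Gm Y)).hom.app U).hom x = n • x := fun n => by
    induction n with
    | zero => simp
    | succ n ih => rw [succ_nsmul, succ_nsmul, ← ih]; rfl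
  exact (this d).symm

/-- Let f : X → Y be a finite locally free morphism of schemes of constant degree d ≥ 1. If the
cohomological Brauer group Br'(X) is a torsion group, then so is Br'(Y). -/
theorem result (X Y : Scheme.{u}) (f : X ⟶ Y) (d : ℕ) (hd : 1 ≤ d)
    (hf : Mor2.IsFinLocFreeOfDeg d f) (hX : IsAddTorsion (Dix.BrCoh X)) :
    IsAddTorsion (Dix.BrCoh Y) := by
  obtain ⟨⟨_, _, _⟩, hrk⟩ := hf
  intro a
  obtain ⟨m, hm, h0⟩ := isOfFinAddOrder_iff_nsmul_eq_zero.1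
    (GalEt.isAddTorsion_H_push_closed f (EtCoh.Gm X) 2 hX (Ext.comp a (Ext.mk₀ (unitPull f)) (add_zero 2)))
  refine isOfFinAddOrder_iff_nsmul_eq_zero.2 ⟨m * d, Nat.mul_pos hm hd, ?_⟩
  have h1 : Ext.comp (Ext.comp a (Ext.mk₀ (unitPull f)) (add_zero 2)) (Ext.mk₀ (normSh f)) (add_zero 2) = d • a := by
    rw [Ext.comp_assoc_of_second_deg_zero, Ext.mk₀_comp_mk₀, unitPull_normSh f d hd hrk]
    have : Ext.mk₀ (d • 𝟙 (EtCoh.Gm Y)) = d • Ext.mk₀ (𝟙 (EtCoh.Gm Y)) :=
      map_nsmul (Ext.addEquiv₀ (X := EtCoh.Gm Y) (Y := EtCoh.Gm Y)).symm.toAddMonoidHom d _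
    rw [this]
    exact (map_nsmul (Ext.precomp a (EtCoh.Gm Y) (add_zero 2)) d _).trans (congrArg (d • ·) (Ext.comp_mk₀_id a))
  rw [mul_comm, mul_nsmul, ← h1]
  refine (map_nsmul ((Ext.mk₀ (normSh f)).postcomp (EtCoh.const Y ℤ) (add_zero 2)) m _).symm.trans ?_
  rw [h0, map_zero]

end Groth.Agent.S19227
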