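import Groth.Statements.S19228
import Groth.Agent.MuExt.Pairing
import Groth.Agent.RedQuotLib.Criterion

set_option autoImplicit false
universe u
open CategoryTheory MonoidalCategory CartesianMonoidalCategory MonObj GrpObj AlgebraicGeometry
open GrpSch

set_option backward.isDefEq.respectTransparency.types false

namespace Groth.Agent.S19228

open CategoryTheory.Limits

theorem comm_central {Γ : Type*} [Group Γ] (g h u v : Γ) (cu : ∀ x, u * x = x * u) (cv : ∀ x, v * x = x * v) :
    g * u * (h * v) * (g * u)⁻¹ * (h * v)⁻¹ = g * h * g⁻¹ * h⁻¹ := by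
  have e1 : u * (h * v) * u⁻¹ = h * v := by rw [cu, mul_inv_cancel_right]
  have e2 : v * g⁻¹ * v⁻¹ = g⁻¹ := by rw [cv, mul_inv_cancel_right]
  calc g * u * (h * v) * (g * u)⁻¹ * (h * v)⁻¹
      = g * (u * (h * v) * u⁻¹) * g⁻¹ * (h * v)⁻¹ := by group
    _ = g * (h * v) * g⁻¹ * (h * v)⁻¹ := by rw [e1]
    _ = g * h * (v * g⁻¹ * v⁻¹) * h⁻¹ := by group
    _ = g * h * g⁻¹ * h⁻¹ := by rw [e2]

/-- Let R be a strictly henselian local ring and n ≥ 1, and let E be a group scheme over Spec R which is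
an extension of μ_n = D(ℤ/n) by the multiplicative group G_m = D(ℤ): there are homomorphisms i : G_m
→ E and q : E → μ_n with q flat, surjective and locally of finite presentation (an epimorphism of
fppf sheaves), i a kernel of q, and i(G_m) central in E. Then E is commutative: any two points of E
with values in an R-scheme commute. (The published statement speaks of an extension of abelian fppf
sheaves and also asserts that E is representable; its argument, through the commutator pairing, is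
for an extension of sheaves of groups with G_m central, which is what this row assumes, with E a
group scheme from the start, so only commutativity is stated. Centrality of G_m is essential: when 2
is invertible the orthogonal group O_2 is a non-commutative extension of μ_2 by G_m = SO_2.) -/
theorem result (R : Type u) [CommRing R] [HenselianLocalRing R]
    [IsSepClosed (IsLocalRing.ResidueField R)] (n : ℕ) (hn : 1 ≤ n)
    (E : Over (Spec (CommRingCat.of R))) [GrpObj E]
    (i : Red.diag R ℤ ⟶ E) [IsMonHom i] (q : E ⟶ Red.diag R (ZMod n)) [IsMonHom q]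
    (hker : AlgGrp.IsKernel i q) (hq : Flat q.left ∧ Surjective q.left ∧ LocallyOfFinitePresentation q.left)
    (hcent : ∀ (T : Over (Spec (CommRingCat.of R))) (g : T ⟶ E) (t : T ⟶ Red.diag R ℤ), g * (t ≫ i) = (t ≫ i) * g)
    (T : Over (Spec (CommRingCat.of R))) (g h : T ⟶ E) : g * h = h * g := by
  obtain ⟨e, he⟩ := MuExt.exists_iso_DS R (ZMod n)
  haveI : IsMonHom e.hom := he
  let q' : E ⟶ Red.DS (Spec (CommRingCat.of R)) (ZMod n) := q ≫ e.hom
  haveI : IsMonHom q' := inferInstanceAs (IsMonHom (q ≫ e.hom))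
  have hcov : RedQuotLib.IsFppfCov q' :=
    RedQuotLib.IsFppfCov.comp ⟨hq.2.1, hq.1, hq.2.2⟩ (RedQuotLib.IsFppfCov.of_isIso e.hom)
  haveI : Mono i := by
    haveI : Mono η[Red.diag R (ZMod n)] :=
      ⟨fun a b _ => CartesianMonoidalCategory.isTerminalTensorUnit.hom_ext a b⟩
    exact ⟨fun a b h => hker.hom_ext h (toUnit_unique _ _)⟩
  haveI : IsSeparated (Red.diag R ℤ).hom := by
    show IsSeparated (Spec.map _)
    infer_instance
  haveI : LocallyOfFiniteType (Red.diag R ℤ).hom := by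
    obtain ⟨e', -⟩ := MuExt.exists_iso_DS R ℤ
    haveI := SGA3cLib.TrivLocus.locallyOfFinitePresentation_DS (Spec (CommRingCat.of R)) ℤ
    haveI : IsIso e'.hom.left := inferInstanceAs (IsIso ((Over.forget _).map e'.hom))
    rw [← Over.w e'.hom]
    infer_instance
  have hG'c : ∀ (X : Over (Spec (CommRingCat.of R))) (a b : X ⟶ Red.DS (Spec (CommRingCat.of R)) (ZMod n)),
      a * b = b * a := fun X a b => SGA3cLib.CentralEq.ds_comm a b
  have hk : ∀ {X : Over (Spec (CommRingCat.of R))} (a : X ⟶ E), a ≫ q' = 1 →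
      ∃ h : X ⟶ Red.diag R ℤ, a = h ≫ i := by
    intro X a ha
    have h1 : a ≫ q = 1 := by
      rw [← cancel_mono e.hom, MonObj.one_comp (f := e.hom), Category.assoc]
      exact ha
    exact ⟨hker.lift a (toUnit X) (h1.trans rfl), (hker.lift_fst _ _ _).symm⟩
  have hc1 : ∀ {X : Over (Spec (CommRingCat.of R))} (u : X ⟶ Red.diag R ℤ) (x : X ⟶ E),
      (u ≫ i) * x = x * (u ≫ i) := fun u x => (hcent _ x u).symm
  have hshift : ∀ {W : Over (Spec (CommRingCat.of R))} (a b : W ⟶ E), a ≫ q' = b ≫ q' →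
      ∃ u : W ⟶ Red.diag R ℤ, b = a * (u ≫ i) := by
    intro W a b hab
    obtain ⟨u, hu⟩ := hk (a⁻¹ * b) (by
      rw [MonObj.mul_comp _ _ q', GrpObj.inv_comp _ q', hab]
      exact inv_mul_cancel _)
    exact ⟨u, by rw [← hu, mul_inv_cancel_left]⟩
  let com : E ⊗ E ⟶ E := fst E E * snd E E * (fst E E)⁻¹ * (snd E E)⁻¹
  have hcom : ∀ {X : Over (Spec (CommRingCat.of R))} (g h : X ⟶ E), lift g h ≫ com = g * h * g⁻¹ * h⁻¹ := by
    intro X g h
    simp only [com, MonObj.comp_mul, GrpObj.comp_inv, lift_fst, lift_snd]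
  obtain ⟨com', hcom'⟩ := hk com (by
    simp only [com]
    rw [MonObj.mul_comp _ _ q', MonObj.mul_comp _ _ q', MonObj.mul_comp _ _ q', GrpObj.inv_comp _ q', GrpObj.inv_comp _ q']
    rw [hG'c _ (fst E E ≫ q') (snd E E ≫ q'), _root_.mul_assoc (snd E E ≫ q'), mul_inv_cancel, _root_.mul_one, mul_inv_cancel])
  have hqq := hcov.tensor hcov
  obtain ⟨c, hc⟩ := hqq.exists_desc com' (fun {W} a b hab => by
    rw [← cancel_mono i, Category.assoc, Category.assoc, ← hcom', ← lift_comp_fst_snd a, ← lift_comp_fst_snd b,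
      hcom, hcom]
    have h1 := congrArg (fun f => f ≫ fst _ _) hab
    have h2 := congrArg (fun f => f ≫ snd _ _) hab
    simp only [Category.assoc, tensorHom_fst, tensorHom_snd] at h1 h2
    simp only [← Category.assoc] at h1 h2
    obtain ⟨u, hu⟩ := hshift _ _ h1
    obtain ⟨v, hv⟩ := hshift _ _ h2
    rw [hu, hv]
    exact (comm_central _ _ _ _ (hc1 u) (hc1 v)).symm)
  have hval : ∀ {X : Over (Spec (CommRingCat.of R))} (g h : X ⟶ E),
      (lift (g ≫ q') (h ≫ q') ≫ c) ≫ i = g * h * g⁻¹ * h⁻¹ := by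
    intro X g h
    rw [← lift_map, Category.assoc _ (q' ⊗ₘ q') c, hc, Category.assoc, ← hcom', hcom]
  have hsymm : ∀ (X : Over (Spec (CommRingCat.of R))) (a b : X ⟶ Red.DS (Spec (CommRingCat.of R)) (ZMod n)),
      lift b a ≫ c = (lift a b ≫ c)⁻¹ := by
    suffices h : lift (snd _ _) (fst _ _) ≫ c = (lift (fst _ _) (snd _ _) ≫ c)⁻¹ by
      intro X a b
      have := lift a b ≫= h
      simpa only [← Category.assoc, comp_lift, GrpObj.comp_inv, lift_fst, lift_snd] using this
    haveI := hqq.epi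
    rw [← cancel_epi (q' ⊗ₘ q'), GrpObj.comp_inv, ← Category.assoc, ← Category.assoc, comp_lift, comp_lift,
      tensorHom_fst, tensorHom_snd, ← cancel_mono i, GrpObj.inv_comp, hval, hval]
    group
  have hdiag : ∀ (X : Over (Spec (CommRingCat.of R))) (a : X ⟶ Red.DS (Spec (CommRingCat.of R)) (ZMod n)),
      lift a a ≫ c = 1 := by
    suffices h : lift (𝟙 _) (𝟙 _) ≫ c = 1 by
      intro X a
      have := a ≫= h
      simpa only [← Category.assoc, comp_lift, MonObj.comp_one, Category.comp_id] using this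
    haveI := hcov.epi
    rw [← cancel_epi q', ← Category.assoc, comp_lift, MonObj.comp_one, Category.comp_id, ← cancel_mono i,
      MonObj.one_comp, show lift q' q' = lift (𝟙 E ≫ q') (𝟙 E ≫ q') by rw [Category.id_comp], hval]
    group
  have hmul : ∀ (X : Over (Spec (CommRingCat.of R))) (a b b' : X ⟶ Red.DS (Spec (CommRingCat.of R)) (ZMod n)),
      lift a (b * b') ≫ c = (lift a b ≫ c) * (lift a b' ≫ c) := by
    suffices h : lift (fst (Red.DS (Spec (CommRingCat.of R)) (ZMod n)) ((Red.DS (Spec (CommRingCat.of R)) (ZMod n)) ⊗ (Red.DS (Spec (CommRingCat.of R)) (ZMod n)))) ((snd (Red.DS (Spec (CommRingCat.of R)) (ZMod n)) ((Red.DS (Spec (CommRingCat.of R)) (ZMod n)) ⊗ (Red.DS (Spec (CommRingCat.of R)) (ZMod n))) ≫ fst (Red.DS (Spec (CommRingCat.of R)) (ZMod n)) (Red.DS (Spec (CommRingCat.of R)) (ZMod n))) * (snd (Red.DS (Spec (CommRingCat.of R)) (ZMod n)) ((Red.DS (Spec (CommRingCat.of R)) (ZMod n)) ⊗ (Red.DS (Spec (CommRingCat.of R)) (ZMod n))) ≫ snd (Red.DS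 (Spec (CommRingCat.of R)) (ZMod n)) (Red.DS (Spec (CommRingCat.of R)) (ZMod n)))) ≫ c =
        (lift (fst (Red.DS (Spec (CommRingCat.of R)) (ZMod n)) ((Red.DS (Spec (CommRingCat.of R)) (ZMod n)) ⊗ (Red.DS (Spec (CommRingCat.of R)) (ZMod n)))) (snd (Red.DS (Spec (CommRingCat.of R)) (ZMod n)) ((Red.DS (Spec (CommRingCat.of R)) (ZMod n)) ⊗ (Red.DS (Spec (CommRingCat.of R)) (ZMod n))) ≫ fst (Red.DS (Spec (CommRingCat.of R)) (ZMod n)) (Red.DS (Spec (CommRingCat.of R)) (ZMod n))) ≫ c) *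
          (lift (fst (Red.DS (Spec (CommRingCat.of R)) (ZMod n)) ((Red.DS (Spec (CommRingCat.of R)) (ZMod n)) ⊗ (Red.DS (Spec (CommRingCat.of R)) (ZMod n)))) (snd (Red.DS (Spec (CommRingCat.of R)) (ZMod n)) ((Red.DS (Spec (CommRingCat.of R)) (ZMod n)) ⊗ (Red.DS (Spec (CommRingCat.of R)) (ZMod n))) ≫ snd (Red.DS (Spec (CommRingCat.of R)) (ZMod n)) (Red.DS (Spec (CommRingCat.of R)) (ZMod n))) ≫ c) by
      intro X a b b'
      have := lift a (lift b b') ≫= h
      simpa only [← Category.assoc, comp_lift, MonObj.comp_mul, lift_fst, lift_snd, lift_snd_assoc] using this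
    haveI := (hcov.tensor hqq).epi
    rw [← cancel_epi (q' ⊗ₘ (q' ⊗ₘ q')), MonObj.comp_mul, ← Category.assoc, ← Category.assoc, ← Category.assoc,
      comp_lift, comp_lift, comp_lift, MonObj.comp_mul]
    simp only [tensorHom_fst, tensorHom_snd_assoc, tensorHom_snd, Category.assoc, tensorHom_fst_assoc]
    simp only [← Category.assoc]
    rw [← cancel_mono i, MonObj.mul_comp, ← MonObj.mul_comp _ _ q', hval, hval, hval]
    set g := fst E (E ⊗ E)
    set h := snd E (E ⊗ E) ≫ fst E E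
    set h' := snd E (E ⊗ E) ≫ snd E E
    obtain ⟨w, hw⟩ := hk (g * h' * g⁻¹ * h'⁻¹) (by
      rw [MonObj.mul_comp _ _ q', MonObj.mul_comp _ _ q', MonObj.mul_comp _ _ q', GrpObj.inv_comp _ q', GrpObj.inv_comp _ q',
        hG'c _ (g ≫ q') (h' ≫ q'), _root_.mul_assoc (h' ≫ q'), mul_inv_cancel, _root_.mul_one, mul_inv_cancel])
    calc g * (h * h') * g⁻¹ * (h * h')⁻¹ = (g * h * g⁻¹) * (g * h' * g⁻¹ * h'⁻¹) * h⁻¹ := by group
      _ = (g * h * g⁻¹) * (h⁻¹ * (g * h' * g⁻¹ * h'⁻¹)) := by rw [_root_.mul_assoc, hw, hc1 w h⁻¹]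
      _ = (g * h * g⁻¹ * h⁻¹) * (g * h' * g⁻¹ * h'⁻¹) := by group
  have hcone : c = 1 := MuExt.pairing_trivial hn c ⟨hmul, hsymm, hdiag⟩
  have h1 := hval g h
  rw [hcone, MonObj.comp_one, MonObj.one_comp i, eq_comm, mul_inv_eq_one, mul_inv_eq_iff_eq_mul] at h1
  exact h1

end Groth.Agent.S19228
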