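import Groth.Statements.S19230
import Mathlib
import Groth.Agent.CommAlg4.SigmaLinGen

set_option linter.all false

set_option autoImplicit false
universe u v
open SigmaLin

open Groth.Agent.CommAlg4

namespace Groth.Agent.S19230

/-- Let k be a field, σ a surjective ring endomorphism of k, V a finite-dimensional k-vector space and T
: V → V additive with T (c • v) = σ c • T v. Then the set of vectors killed by some iterate of T is
a k-subspace on which a single iterate of T vanishes, it is a complement of the intersection over n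
of the k-spans of the images of the n-th iterates, and T restricts to a bijection of that
intersection onto itself. -/
theorem result
    (k : Type u) [Field k] (σ : k →+* k) (hσ : Function.Surjective σ)
    (V : Type v) [AddCommGroup V] [Module k V] [FiniteDimensional k V] (T : V →ₛₗ[σ] V) :
    (∃ W : Submodule k V, (W : Set V) = {v : V | ∃ n : ℕ, (⇑T)^[n] v = 0} ∧
      (∃ N : ℕ, ∀ v ∈ W, (⇑T)^[N] v = 0) ∧
      IsCompl W (⨅ n : ℕ, Submodule.span k (Set.range ((⇑T)^[n])))) ∧
    Set.BijOn (⇑T) (⋂ n : ℕ, (Submodule.span k (Set.range ((⇑T)^[n])) : Set V))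
      (⋂ n : ℕ, (Submodule.span k (Set.range ((⇑T)^[n])) : Set V)) := by
  refine ⟨⟨SigmaLinGen.nil T, rfl, SigmaLinGen.exists_bound T, ?_⟩, ?_⟩
  · refine ⟨?_, ?_⟩
    · rw [Submodule.disjoint_def]
      rintro x ⟨n, hn⟩ hx
      exact SigmaLinGen.injOn_core T hx hn
    · rw [codisjoint_iff, eq_top_iff]
      intro v _
      obtain ⟨u, hu, hz⟩ := SigmaLinGen.exists_decomp T hσ v
      exact Submodule.mem_sup.mpr ⟨v - u, hz, u, hu, sub_add_cancel v u⟩
  · rw [← Submodule.coe_iInf]
    refine ⟨fun v hv => SigmaLinGen.map_core T hv, fun a ha b hb h => ?_, fun v hv => ?_⟩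
    · refine sub_eq_zero.mp (SigmaLinGen.injOn_core T (n := 1) (sub_mem ha hb) ?_)
      simp [h]
    · obtain ⟨w, hw, e⟩ := SigmaLinGen.surjOn_core T hσ hv
      exact ⟨w, hw, e⟩

end Groth.Agent.S19230
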