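import Groth.Statements.S19236
import Mathlib
import Groth.Agent.CommAlg4.SigmaLinGen

set_option linter.all false

set_option autoImplicit false
universe u v
open SigmaLin

open Groth.Agent.CommAlg4

namespace Groth.Agent.S19236

section
variable {p : ℕ} {R : Type u} [CommRing R] [IsLocalRing R] (hmax : IsLocalRing.maximalIdeal R = Ideal.span {(p : R)})
  {σ : R →+* R} {σbar : IsLocalRing.ResidueField R →+* IsLocalRing.ResidueField R}
  (hσbar : ∀ r : R, σbar (IsLocalRing.residue R r) = IsLocalRing.residue R (σ r))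

include hmax hσbar

theorem exists_reduction {M : Type v} [AddCommGroup M] [Module R M] [Module.Finite R M] (T : M →ₛₗ[σ] M) :
    ∃ (V : Type v) (_ : AddCommGroup V) (_ : Module (IsLocalRing.ResidueField R) V)
      (_ : FiniteDimensional (IsLocalRing.ResidueField R) V) (q : M →+ V) (Tb : V →ₛₗ[σbar] V),
      Function.Surjective q ∧ (∀ (r : R) m, q (r • m) = IsLocalRing.residue R r • q m) ∧
      (∀ m, Tb (q m) = q (T m)) ∧ ∀ m, q m = 0 → ∃ x : M, m = (p : R) • x := by
  let N : Submodule R M := IsLocalRing.maximalIdeal R • ⊤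
  letI : Module (IsLocalRing.ResidueField R) (M ⧸ N) :=
    (inferInstance : Module (R ⧸ IsLocalRing.maximalIdeal R) (M ⧸ (IsLocalRing.maximalIdeal R • (⊤ : Submodule R M))))
  haveI : IsScalarTower R (IsLocalRing.ResidueField R) (M ⧸ N) :=
    (inferInstance : IsScalarTower R (R ⧸ IsLocalRing.maximalIdeal R) (M ⧸ (IsLocalRing.maximalIdeal R • (⊤ : Submodule R M))))
  haveI : Module.Finite (IsLocalRing.ResidueField R) (M ⧸ N) := Module.Finite.of_restrictScalars_finite R _ _
  have hN : ∀ m : M, m ∈ N ↔ ∃ x, m = (p : R) • x := fun m => by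
    simp only [N, hmax, Submodule.ideal_span_singleton_smul, Submodule.mem_smul_pointwise_iff_exists, Submodule.mem_top, true_and, eq_comm]
  have hT : N ≤ N.comap T := fun m hm => by
    obtain ⟨x, rfl⟩ := (hN m).mp hm
    exact (hN _).mpr ⟨T x, by rw [T.map_smulₛₗ, map_natCast]⟩
  have hsmul : ∀ (r : R) (x : M ⧸ N), IsLocalRing.residue R r • x = r • x := fun r x =>
    (algebraMap_smul (IsLocalRing.ResidueField R) r x)
  let Tb : (M ⧸ N) →ₛₗ[σbar] (M ⧸ N) :=
    { toFun := N.mapQ N T hT
      map_add' := map_add _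
      map_smul' := fun c x => by
        obtain ⟨r, rfl⟩ := IsLocalRing.residue_surjective c
        rw [hσbar, hsmul, hsmul, LinearMap.map_smulₛₗ] }
  exact ⟨M ⧸ N, inferInstance, inferInstance, inferInstance, N.mkQ.toAddMonoidHom, Tb, Submodule.mkQ_surjective N,
    fun r m => (map_smul N.mkQ r m).trans (hsmul r (N.mkQ m)).symm, fun m => rfl, fun m hm => (hN m).mp ((Submodule.Quotient.mk_eq_zero N).mp hm)⟩

variable (h2 : SigmaLinGen.H2 σbar) (h3 : ∀ c : IsLocalRing.ResidueField R, ∃ y : IsLocalRing.ResidueField R, σbar y - y + c = 0)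
  (hsurj : Function.Surjective σbar) {n : ℕ} (hn : (p : R) ^ n = 0)

include h2 h3 hsurj hn

theorem surj_sub {M : Type v} [AddCommGroup M] [Module R M] [Module.Finite R M] (T : M →ₛₗ[σ] M) :
    Function.Surjective (fun m : M => m - T m) := by
  obtain ⟨V, _, _, _, q, Tb, hq, hqs, hTb, hker⟩ := exists_reduction hmax hσbar T
  have step : ∀ m : M, ∃ a x : M, m = (a - T a) + (p : R) • x := fun m => by
    obtain ⟨v, hv⟩ := SigmaLinGen.surjective_sub Tb hsurj h2 h3 (q m)
    obtain ⟨a, rfl⟩ := hq v
    obtain ⟨x, hx⟩ := hker (m - (a - T a)) (by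
      simp only [map_sub, ← hTb]; exact sub_eq_zero.mpr hv.symm)
    exact ⟨a, x, by rw [← hx, add_sub_cancel]⟩
  have all : ∀ j : ℕ, ∀ m : M, ∃ a x : M, m = (a - T a) + (p : R) ^ j • x := by
    intro j
    induction j with
    | zero => exact fun m => ⟨0, m, by simp⟩
    | succ j ih =>
      intro m
      obtain ⟨a, x, rfl⟩ := ih m
      obtain ⟨b, y, rfl⟩ := step x
      refine ⟨a + (p : R) ^ j • b, y, ?_⟩
      rw [map_add, T.map_smulₛₗ, map_pow, map_natCast, pow_succ, smul_add, smul_sub, smul_smul]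
      abel
  intro m
  obtain ⟨a, x, rfl⟩ := all n m
  exact ⟨a, by simp [hn]⟩

theorem fixed_fg (hlift : ∀ x : IsLocalRing.ResidueField R, σbar x = x → ∃ r : R, σ r = r ∧ IsLocalRing.residue R r = x) :
    ∀ (j : ℕ) (M : Type v) [AddCommGroup M] [Module R M] [Module.Finite R M] (T : M →ₛₗ[σ] M),
      (∀ m : M, (p : R) ^ j • m = 0) → ∃ (r : ℕ) (s : Fin r → M), (∀ i, T (s i) = s i) ∧
        ∀ m : M, T m = m → ∃ c : Fin r → R, (∀ i, σ (c i) = c i) ∧ m = ∑ i, c i • s i := by
  intro j
  induction j with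
  | zero =>
    intro M _ _ _ T h0
    refine ⟨0, fun i => i.elim0, fun i => i.elim0, fun m _ => ⟨fun i => i.elim0, fun i => i.elim0, ?_⟩⟩
    simpa using h0 m
  | succ j ih =>
    intro M _ _ _ T h0
    let P : Submodule R M := LinearMap.range (LinearMap.lsmul R M (p : R))
    haveI : Module.Finite R P := Module.Finite.range _
    have hP : ∀ m, m ∈ P ↔ ∃ x, (p : R) • x = m := fun m => Iff.rfl
    have hPT : ∀ m ∈ P, T m ∈ P := fun m hm => by
      obtain ⟨x, rfl⟩ := (hP m).mp hm
      exact (hP _).mpr ⟨T x, by rw [T.map_smulₛₗ, map_natCast]⟩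
    let TP : P →ₛₗ[σ] P :=
      { toFun := fun x => ⟨T x, hPT x x.2⟩
        map_add' := fun x y => Subtype.ext (map_add T x.1 y.1)
        map_smul' := fun c x => Subtype.ext (T.map_smulₛₗ c x.1) }
    obtain ⟨r₁, s₁, hs₁, hr₁⟩ := ih P TP (fun m => Subtype.ext (by
      obtain ⟨x, hx⟩ := (hP m.1).mp m.2
      show (p : R) ^ j • (m : M) = 0
      rw [← hx, smul_smul, ← pow_succ]; exact h0 x))
    obtain ⟨V, _, _, _, q, Tb, hq, hqs, hTb, hker⟩ := exists_reduction hmax hσbar T
    obtain ⟨r₂, b, hb, hrepr⟩ := SigmaLinGen.fixed_repr Tb h2 h3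
    have hlft : ∀ i, ∃ s : M, T s = s ∧ q s = b i := fun i => by
      obtain ⟨s, hs⟩ := hq (b i)
      obtain ⟨x, hx⟩ := hker (T s - s) (by rw [map_sub, ← hTb, hs, hb, sub_self])
      obtain ⟨z, hz⟩ := surj_sub hmax hσbar h2 h3 hsurj hn T x
      refine ⟨s + (p : R) • z, ?_, ?_⟩
      · rw [map_add, T.map_smulₛₗ, map_natCast, ← sub_eq_zero]
        have : T s + (p : R) • T z - (s + (p : R) • z) = (T s - s) - (p : R) • (z - T z) := by rw [smul_sub]; abel
        rw [this, hx, show z - T z = x from hz, sub_self]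
      · rw [map_add, hqs, hs, (IsLocalRing.residue_eq_zero_iff (p : R)).mpr (hmax ▸ Ideal.mem_span_singleton_self _),
          zero_smul, add_zero]
    choose s₂ hs₂ hq₂ using hlft
    refine ⟨r₂ + r₁, Fin.append s₂ (fun i => (s₁ i : M)), fun i => ?_, fun m hm => ?_⟩
    · refine Fin.addCases (fun i => ?_) (fun i => ?_) i
      · rw [Fin.append_left]; exact hs₂ i
      · rw [Fin.append_right]; exact congrArg Subtype.val (hs₁ i)
    · obtain ⟨cb, hcb, hm'⟩ := hrepr (q m) (by rw [hTb, hm])
      choose c hc hcr using fun i => hlift (cb i) (hcb i)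
      obtain ⟨x, hx⟩ := hker (m - ∑ i, c i • s₂ i) (by
        rw [map_sub, map_sum, hm', sub_eq_zero]
        exact Finset.sum_congr rfl fun i _ => by rw [hqs, hcr, hq₂])
      have hfix : T (m - ∑ i, c i • s₂ i) = m - ∑ i, c i • s₂ i := by
        simp only [map_sub, map_sum, T.map_smulₛₗ, hc, hs₂, hm]
      obtain ⟨c₁, hc₁, he⟩ := hr₁ ⟨m - ∑ i, c i • s₂ i, (hP _).mpr ⟨x, hx.symm⟩⟩ (Subtype.ext hfix)
      refine ⟨Fin.append c c₁, fun i => ?_, ?_⟩
      · refine Fin.addCases (fun i => ?_) (fun i => ?_) i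
        · rw [Fin.append_left]; exact hc i
        · rw [Fin.append_right]; exact hc₁ i
      · have he' := congrArg Subtype.val he
        simp only [AddSubmonoidClass.coe_finsetSum, SetLike.val_smul] at he'
        rw [Fin.sum_univ_add]
        simp only [Fin.append_left, Fin.append_right]
        rw [← he', add_sub_cancel]

end

/-- Let p be a prime number and R a local ring whose maximal ideal is generated by p and in which p^n =
0 for some n. Let σ be a ring endomorphism of R and σ̄ the induced endomorphism of the residue field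
k = R/(p); assume σ̄ is surjective, that for every m and every tuple (b_0, …, b_m) in k, not all
zero, the equation x = Σ_{i=0}^{m} σ̄^{i+1}(x) σ̄^{i}(b_{m-i}) has a nonzero solution x in k, that
for every c in k there is y with σ̄(y) − y + c = 0, and that every element of k fixed by σ̄ is the
residue of an element of R fixed by σ. Let M be a finitely generated R-module and T : M → M additive
with T (r • m) = σ r • T m. Then the T-fixed elements of M form a finitely generated module over the
ring of σ-fixed elements of R: there are finitely many T-fixed elements such that every T-fixed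
element is a linear combination of them with σ-fixed coefficients. -/
theorem result
    (p : ℕ) [Fact p.Prime] (R : Type u) [CommRing R] [IsLocalRing R]
    (hmax : IsLocalRing.maximalIdeal R = Ideal.span {(p : R)}) (n : ℕ) (hn : (p : R) ^ n = 0)
    (σ : R →+* R) (σbar : IsLocalRing.ResidueField R →+* IsLocalRing.ResidueField R)
    (hσbar : ∀ r : R, σbar (IsLocalRing.residue R r) = IsLocalRing.residue R (σ r))
    (hsurj : Function.Surjective σbar)
    (h2 : ∀ (n : ℕ) (b : Fin (n + 1) → IsLocalRing.ResidueField R), b ≠ 0 →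
      ∃ x : IsLocalRing.ResidueField R, x ≠ 0 ∧ x = ∑ i : Fin (n + 1), (⇑σbar)^[i.val + 1] x * (⇑σbar)^[i.val] (b (Fin.rev i)))
    (h3 : ∀ c : IsLocalRing.ResidueField R, ∃ y : IsLocalRing.ResidueField R, σbar y - y + c = 0)
    (M : Type v) [AddCommGroup M] [Module R M] [Module.Finite R M] (T : M →ₛₗ[σ] M)
    (hlift : ∀ x : IsLocalRing.ResidueField R, σbar x = x → ∃ r : R, σ r = r ∧ IsLocalRing.residue R r = x) :
    ∃ s : Finset M, (∀ m ∈ s, T m = m) ∧
      ∀ m : M, T m = m → ∃ c : M → R, (∀ x ∈ s, σ (c x) = c x) ∧ m = ∑ x ∈ s, c x • x := by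
  classical
  obtain ⟨r, s, hs, hr⟩ := fixed_fg hmax hσbar h2 h3 hsurj hn hlift n M T (fun m => by rw [hn, zero_smul])
  refine ⟨Finset.univ.image s, fun m hm => ?_, fun m hm => ?_⟩
  · obtain ⟨i, -, rfl⟩ := Finset.mem_image.mp hm; exact hs i
  · obtain ⟨c, hc, rfl⟩ := hr m hm
    refine ⟨fun x => ∑ i ∈ Finset.univ.filter (fun i => s i = x), c i, fun x _ => by simp [map_sum, hc], ?_⟩
    rw [← Finset.sum_fiberwise_of_maps_to (t := Finset.univ.image s) (g := s) (fun i hi => Finset.mem_image_of_mem s hi)]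
    refine Finset.sum_congr rfl fun x _ => ?_
    rw [Finset.sum_smul]
    exact Finset.sum_congr rfl fun i hi => by rw [(Finset.mem_filter.mp hi).2]

end Groth.Agent.S19236
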