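import Groth.Statements.S19240
import Groth.Agent.S14929
import Groth.Agent.UnivHomeo.Scheme
import Groth.Agent.LVFrob.Basic
import Groth.Agent.NormalExtLib.Basic
import Mathlib.AlgebraicGeometry.ZariskisMainTheorem
import Mathlib.FieldTheory.PurelyInseparable.Exponent

set_option autoImplicit false
universe u
open FrobSch

namespace Groth.Agent.S19240

open CategoryTheory CategoryTheory.Limits AlgebraicGeometry
open Groth.Agent Groth.Agent.UnivHomeo

theorem iterate_frob (p : ℕ) [Fact p.Prime] (X : Scheme.{u}) [FrobSch.IsCharP X p] (n : ℕ) :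
    (fun g : X ⟶ X => g ≫ FrobSch.frob X p)^[n] (𝟙 X) = LVFrob.FN p X n := by
  induction n with
  | zero => rfl
  | succ n ih => rw [Function.iterate_succ_apply', ih]; rfl

/-- A finite purely inseparable extension has degree a power of p and exponent at most that. -/
theorem exists_pow {K L : Type u} [Field K] [Field L] (p : ℕ) [Fact p.Prime] [CharP K p] (φ : K →+* L)
    (hfin : φ.Finite) (hpi : φ.IsPurelyInseparable) :
    ∃ n : ℕ, @Module.finrank K L _ _ φ.toAlgebra.toModule = p ^ n ∧ ∀ z : L, ∃ y : K, φ y = z ^ p ^ n := by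
  letI : Algebra K L := φ.toAlgebra
  haveI : Module.Finite K L := hfin
  haveI : IsPurelyInseparable K L := hpi
  haveI : ExpChar K p := ExpChar.prime Fact.out
  obtain ⟨n, hn⟩ := IsPurelyInseparable.finrank_eq_pow K L p
  refine ⟨n, hn, fun z => ?_⟩
  obtain ⟨m, y, hm⟩ := IsPurelyInseparable.minpoly_eq_X_pow_sub_C K p z
  have hle : p ^ m ≤ p ^ n := by
    have h := minpoly.natDegree_le (A := K) z
    rwa [hm, Polynomial.natDegree_X_pow_sub_C, hn] at h
  have hmn : m ≤ n := (Nat.pow_le_pow_iff_right (Fact.out : p.Prime).one_lt).1 hle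
  have hz : z ^ p ^ m = algebraMap K L y := by
    have h := minpoly.aeval K z
    rw [hm] at h
    simpa [sub_eq_zero] using h
  exact ⟨y ^ p ^ (n - m), by
    rw [← RingHom.algebraMap_toAlgebra φ, map_pow, ← hz, ← pow_mul, ← pow_add, Nat.add_sub_cancel' hmn]⟩

theorem bijective_residue {X : Scheme.{u}} [IsIntegral X] (x : X) (hx : x = genericPoint X) :
    Function.Bijective (X.residue x) := by
  subst hx
  exact ⟨RingHom.injective (R := X.functionField) (X.residue (genericPoint X)).hom, X.residue_surjective _⟩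

/-- The function field map of a universally injective, locally quasi-finite dominant morphism. -/
theorem fieldMap {X Y : Scheme.{u}} [IsIntegral X] [IsIntegral Y] (u : X ⟶ Y)
    [UniversallyInjective u] [LocallyQuasiFinite u] (e : u (genericPoint X) = genericPoint Y) :
    (Y.presheaf.stalkSpecializes (specializes_of_eq e) ≫ u.stalkMap (genericPoint X)).hom.Finite ∧
    (Y.presheaf.stalkSpecializes (specializes_of_eq e) ≫ u.stalkMap (genericPoint X)).hom.IsPurelyInseparable := by
  let η := genericPoint X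
  let φ : Y.functionField →+* X.functionField :=
    (Y.presheaf.stalkSpecializes (specializes_of_eq e) ≫ u.stalkMap η).hom
  let ψ : Y.presheaf.stalk (u η) →+* X.functionField := (u.stalkMap η).hom
  let s : Y.functionField →+* Y.presheaf.stalk (u η) := (Y.presheaf.stalkSpecializes (specializes_of_eq e)).hom
  have hs : Function.Bijective s := by
    haveI : IsIso (Y.presheaf.stalkSpecializes (specializes_of_eq e)) :=
      (TopCat.Presheaf.stalkCongr Y.presheaf (Inseparable.of_eq e)).isIso_inv
    exact ConcreteCategory.bijective_of_isIso (Y.presheaf.stalkSpecializes (specializes_of_eq e))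
  refine ⟨?_, ?_⟩
  · show φ.Finite
    have hq : φ.QuasiFinite := by
      have h1 : ψ.QuasiFinite := u.quasiFiniteAt η
      exact h1.comp (RingHom.QuasiFinite.of_finite (RingHom.Finite.of_surjective s hs.2))
    letI := φ.toAlgebra
    haveI : Algebra.QuasiFinite Y.functionField X.functionField := hq
    exact Module.Finite.of_quasiFinite
  · show φ.IsPurelyInseparable
    have hpi : (u.residueFieldMap η).hom.IsPurelyInseparable :=
      ((List.TFAE.out (tfae_universallyInjective u) 0 2 (a := _) (b := _) rfl rfl).1 inferInstance).2 η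
    let eY : Y.functionField ≃+* Y.residueField (u η) :=
      RingEquiv.ofBijective ((Y.residue (u η)).hom.comp s) ((bijective_residue _ e).comp hs)
    let eX : X.functionField ≃+* X.residueField η := RingEquiv.ofBijective (X.residue η).hom (bijective_residue _ rfl)
    have hcomm : (eX : X.functionField →+* X.residueField η).comp φ =
        (u.residueFieldMap η).hom.comp (eY : Y.functionField →+* Y.residueField (u η)) := by
      ext z
      exact (congrArg (fun g => g.hom (s z)) (Scheme.residue_residueFieldMap (f := u) η)).symm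
    let q := ringExpChar Y.functionField
    haveI : ExpChar Y.functionField q := inferInstance
    haveI : ExpChar (Y.residueField (u η)) q := expChar_of_injective_ringHom (f := (eY : Y.functionField →+* Y.residueField (u η))) eY.injective q
    letI := φ.toAlgebra
    refine (isPurelyInseparable_iff_pow_mem Y.functionField q).2 fun z => ?_
    letI := (u.residueFieldMap η).hom.toAlgebra
    obtain ⟨m, w, hw⟩ := (isPurelyInseparable_iff_pow_mem (Y.residueField (u η)) q).1 hpi (eX z)
    refine ⟨m, eY.symm w, eX.injective ?_⟩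
    have := RingHom.congr_fun hcomm (eY.symm w)
    simp only [RingHom.comp_apply, RingEquiv.coe_toRingHom, RingEquiv.apply_symm_apply] at this
    rw [map_pow]
    exact this.trans hw

/-- A universal homeomorphism stays one after cancelling a universal homeomorphism on the left. -/
theorem univHomeo_of_comp {X Y Z : Scheme.{u}} (f : X ⟶ Y) (g : Y ⟶ Z)
    (hf : FlatMor.IsUnivHomeo f) (hfg : FlatMor.IsUnivHomeo (f ≫ g)) : FlatMor.IsUnivHomeo g := by
  intro Y' Z' i₁ i₂ g' h
  let h' : IsPullback (pullback.fst f i₁) (pullback.snd f i₁) f i₁ := IsPullback.of_hasPullback f i₁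
  have h1 := hf (pullback.fst f i₁) i₁ (pullback.snd f i₁) h'.flip
  have h2 : IsHomeomorph (pullback.snd f i₁ ≫ g') := hfg (pullback.fst f i₁) i₂ _ (h'.flip.paste_horiz h)
  let e1 := h1.homeomorph
  have h3 : (g' : Y' → Z') = (pullback.snd f i₁ ≫ g' : _ → Z') ∘ e1.symm := by
    funext y
    show g' y = g' (pullback.snd f i₁ (e1.symm y))
    exact congrArg g' (e1.apply_symm_apply y).symm
  show IsHomeomorph g'
  rw [h3]
  exact h2.comp e1.symm.isHomeomorph

theorem univHomeo_FN (p : ℕ) [Fact p.Prime] (X : Scheme.{u}) [FrobSch.IsCharP X p] (n : ℕ) :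
    FlatMor.IsUnivHomeo (LVFrob.FN p X n) := by
  obtain ⟨-, hi, hr⟩ := S14929.result p X
  haveI := hi
  haveI : UniversallyInjective (FrobSch.frob X p) :=
    (List.TFAE.out (tfae_universallyInjective (FrobSch.frob X p)) 2 0 (a := _) (b := _) rfl rfl).1 ⟨fun a b h => h, hr⟩
  haveI : Surjective (FrobSch.frob X p) := ⟨fun x => ⟨x, rfl⟩⟩
  have h : IsIntegralHom (LVFrob.FN p X n) ∧ UniversallyInjective (LVFrob.FN p X n) ∧ Surjective (LVFrob.FN p X n) := by
    induction n with
    | zero => exact ⟨inferInstanceAs (IsIntegralHom (𝟙 _)), inferInstanceAs (UniversallyInjective (𝟙 _)),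
        inferInstanceAs (Surjective (𝟙 _))⟩
    | succ n ih =>
      obtain ⟨_, i2, _⟩ := ih
      haveI : UniversallyInjective (LVFrob.FN p X n ≫ FrobSch.frob X p) := MorphismProperty.comp_mem _ _ _ i2 inferInstance
      exact ⟨inferInstanceAs (IsIntegralHom (_ ≫ _)), inferInstanceAs (UniversallyInjective (_ ≫ _)),
        inferInstanceAs (Surjective (_ ≫ _))⟩
  obtain ⟨_, _, _⟩ := h
  exact isUnivHomeo_of_integral_univInjective_surjective _

theorem isIso_FN_spec (p : ℕ) [Fact p.Prime] (K : Type u) [Field K] [CharP K p] [PerfectRing K p]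
    [FrobSch.IsCharP (Spec (CommRingCat.of K)) p] (n : ℕ) : IsIso (LVFrob.FN p (Spec (CommRingCat.of K)) n) := by
  induction n with
  | zero => exact inferInstanceAs (IsIso (𝟙 _))
  | succ m ih =>
    haveI : IsIso (FrobSch.frob (Spec (CommRingCat.of K)) p) := by
      haveI : IsIso (Spec.map (CommRingCat.ofHom (frobenius K p))) := isIso_SpecMap_iff.2 (bijective_frobenius K p)
      have h : FrobSch.frob (Spec (CommRingCat.of K)) p = Spec.map (CommRingCat.ofHom (frobenius K p)) := by
        refine AlgebraicGeometry.ext_of_isAffine ?_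
        rw [← cancel_epi (Scheme.ΓSpecIso (CommRingCat.of K)).inv, ← cancel_mono (Scheme.ΓSpecIso (CommRingCat.of K)).hom]
        simp only [Category.assoc, Scheme.ΓSpecIso_naturality, Iso.inv_hom_id_assoc]
        ext r
        show (Scheme.ΓSpecIso (CommRingCat.of K)).hom
          ((FrobSch.frob (Spec (CommRingCat.of K)) p).appTop ((Scheme.ΓSpecIso (CommRingCat.of K)).inv r)) = r ^ p
        rw [FrobSch.frob_appTop, map_pow]
        simp
      rw [h]; infer_instance
    rw [LVFrob.FN]; infer_instance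

/-- The p^n-th power Frobenius of the source factors through u. -/
theorem exists_factor (p : ℕ) [Fact p.Prime] {X Y : Scheme.{u}} [IsIntegral X] [IsIntegral Y]
    [FrobSch.IsCharP X p] [X.IsSeparated] (hY : Pi1.IsNormalScheme Y) (u : X ⟶ Y) [IsFinite u] [Surjective u]
    (e : u (genericPoint X) = genericPoint Y) (n : ℕ)
    (hpow : ∀ z : X.functionField, ∃ y : Y.functionField,
      (Y.presheaf.stalkSpecializes (specializes_of_eq e) ≫ u.stalkMap (genericPoint X)).hom y = z ^ p ^ n) :
    ∃ v : Y ⟶ X, u ≫ v = LVFrob.FN p X n := by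
  have key : ∀ (U : Y.Opens), IsAffineOpen U → ∀ b : Γ(X, u ⁻¹ᵁ U), ∃ a : Γ(Y, U), (u.app U).hom a = b ^ p ^ n := by
    intro U hU b
    by_cases hne : Nonempty U
    swap
    · have hb : u ⁻¹ᵁ U = ⊥ := TopologicalSpace.Opens.ext (Set.eq_empty_iff_forall_notMem.2 fun x hx => hne ⟨⟨u x, hx⟩⟩)
      haveI : Subsingleton Γ(X, u ⁻¹ᵁ U) := by rw [hb]; infer_instance
      exact ⟨0, Subsingleton.elim _ _⟩
    · have hη : genericPoint Y ∈ U :=
        ((genericPoint_spec Y).mem_open_set_iff U.isOpen).mpr (by obtain ⟨⟨y, hy⟩⟩ := hne; exact ⟨y, trivial, hy⟩)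
      have hξ : genericPoint X ∈ u ⁻¹ᵁ U := by show u (genericPoint X) ∈ U; rw [e]; exact hη
      haveI : Nonempty (u ⁻¹ᵁ U : X.Opens) := ⟨⟨_, hξ⟩⟩
      set φ := (Y.presheaf.stalkSpecializes (specializes_of_eq e) ≫ u.stalkMap (genericPoint X)).hom
      have hcomm : ∀ a : Γ(Y, U), φ (Y.germToFunctionField U a) = X.germToFunctionField (u ⁻¹ᵁ U) ((u.app U).hom a) := by
        intro a
        show (u.stalkMap (genericPoint X)).hom ((Y.presheaf.stalkSpecializes (specializes_of_eq e)).hom
          (Y.presheaf.germ U (genericPoint Y) hη a)) = X.presheaf.germ (u ⁻¹ᵁ U) (genericPoint X) hξ ((u.app U).hom a)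
        erw [TopCat.Presheaf.germ_stalkSpecializes_apply, Scheme.Hom.germ_stalkMap_apply]

      haveI := NormalExtLib.isIntegrallyClosed_sections hY U hU
      haveI : IsFractionRing Γ(Y, U) Y.functionField := functionField_isFractionRing_of_isAffineOpen Y U hU
      obtain ⟨y, hy⟩ := hpow (X.germToFunctionField (u ⁻¹ᵁ U) b)
      have hint : (u.app U).hom.IsIntegral := Scheme.Hom.isIntegral_app u U hU
      have hyint : IsIntegral Γ(Y, U) y := by
        obtain ⟨P, hP, hP0⟩ := hint (b ^ p ^ n)
        refine ⟨P, hP, φ.injective ?_⟩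
        rw [map_zero, Polynomial.hom_eval₂, hy, ← map_pow,
          show φ.comp (algebraMap Γ(Y, U) Y.functionField) =
            (X.germToFunctionField (u ⁻¹ᵁ U)).hom.comp (u.app U).hom from RingHom.ext hcomm,
          ← Polynomial.hom_eval₂, hP0, map_zero]
      obtain ⟨a, ha⟩ := IsIntegrallyClosed.isIntegral_iff.1 hyint
      refine ⟨a, X.germToFunctionField_injective (u ⁻¹ᵁ U) ?_⟩
      rw [map_pow, ← hy, ← hcomm]
      exact congrArg φ ha
  -- local factorisations
  have loc : ∀ U : Y.affineOpens, ∃ w : (U.1 : Scheme.{u}) ⟶ X,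
      (u ∣_ U.1) ≫ w = (u ⁻¹ᵁ U.1).ι ≫ LVFrob.FN p X n := by
    intro U
    by_cases hne : Nonempty U.1
    · obtain ⟨y₀⟩ := hne
      obtain ⟨x₀, hx₀⟩ := u.surjective y₀.1
      haveI : Nonempty (u ⁻¹ᵁ U.1 : X.Opens) := ⟨⟨x₀, by show u x₀ ∈ U.1; rw [hx₀]; exact y₀.2⟩⟩
      have hV : IsAffineOpen (u ⁻¹ᵁ U.1) := U.2.preimage u
      have hinj : Function.Injective (u.app U.1).hom := by
        haveI : IsDominant u := inferInstance
        intro a a' h
        rw [← sub_eq_zero] at h ⊢
        rw [← map_sub] at h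
        by_contra h0
        have hη : genericPoint Y ∈ U.1 := ((genericPoint_spec Y).mem_open_set_iff U.1.isOpen).mpr (by simpa using ⟨y₀.1, y₀.2⟩)
        have hξ : genericPoint X ∈ u ⁻¹ᵁ U.1 := by show u (genericPoint X) ∈ U.1; rw [e]; exact hη
        apply h0
        haveI : Nonempty U.1 := ⟨y₀⟩
        apply Y.germToFunctionField_injective U.1
        apply ((Y.presheaf.stalkSpecializes (specializes_of_eq e) ≫ u.stalkMap (genericPoint X)).hom).injective
        rw [map_zero, map_zero]
        show (u.stalkMap (genericPoint X)).hom ((Y.presheaf.stalkSpecializes (specializes_of_eq e)).hom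
          (Y.presheaf.germ U.1 (genericPoint Y) hη (a - a'))) = 0
        erw [TopCat.Presheaf.germ_stalkSpecializes_apply, Scheme.Hom.germ_stalkMap_apply, h, map_zero]
      let ψf : Γ(X, u ⁻¹ᵁ U.1) → Γ(Y, U.1) := fun b => (key U.1 U.2 b).choose
      have hψ : ∀ b, (u.app U.1).hom (ψf b) = b ^ p ^ n := fun b => (key U.1 U.2 b).choose_spec
      haveI hcp : CharP Γ(X, u ⁻¹ᵁ U.1) p := (CharP.charP_iff_prime_eq_zero Fact.out).2 (FrobSch.natCast_eq_zero_app X p _)
      haveI : ExpChar Γ(X, u ⁻¹ᵁ U.1) p := ExpChar.prime Fact.out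
      let ψ : Γ(X, u ⁻¹ᵁ U.1) →+* Γ(Y, U.1) :=
        { toFun := ψf
          map_one' := hinj (by rw [hψ, map_one, one_pow])
          map_mul' := fun a b => hinj (by rw [map_mul, hψ, hψ, hψ, mul_pow])
          map_zero' := hinj (by rw [hψ, map_zero, zero_pow (pow_ne_zero _ (Fact.out : p.Prime).ne_zero)])
          map_add' := fun a b => hinj (by rw [map_add, hψ, hψ, hψ, add_pow_expChar_pow]) }
      refine ⟨U.2.isoSpec.hom ≫ Spec.map (CommRingCat.ofHom ψ) ≫ hV.fromSpec, ?_⟩
      have hc : CommRingCat.ofHom ψ ≫ u.app U.1 = (LVFrob.FN p X n).appLE (u ⁻¹ᵁ U.1) (u ⁻¹ᵁ U.1) (LVFrob.FN_preimage p n _).ge := by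
        ext b
        exact (hψ b).trans (LVFrob.FN_appLE p n _ _ b).symm
      rw [← cancel_epi hV.isoSpec.inv]
      simp only [← Category.assoc]
      simp only [Category.assoc, IsAffineOpen.isoSpec_inv_ι_assoc]
      rw [← IsAffineOpen.SpecMap_appLE_fromSpec (LVFrob.FN p X n) hV hV (LVFrob.FN_preimage p n _).ge, ← hc, Spec.map_comp,
        Category.assoc]
      have : hV.isoSpec.inv ≫ (u ∣_ U.1) ≫ U.2.isoSpec.hom = Spec.map (u.app U.1) := by
        rw [← cancel_mono U.2.isoSpec.inv, Category.assoc, Category.assoc, Iso.hom_inv_id, Category.comp_id,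
          ← cancel_mono U.1.ι, Category.assoc, morphismRestrict_ι, Category.assoc, IsAffineOpen.isoSpec_inv_ι_assoc,
          Scheme.Hom.app_eq_appLE]
        refine (IsAffineOpen.SpecMap_appLE_fromSpec u U.2 hV le_rfl).symm.trans ?_
        exact congrArg (Spec.map _ ≫ ·) (IsAffineOpen.isoSpec_inv_ι U.2).symm
      rw [reassoc_of% this]
    · haveI : IsEmpty (U.1 : Scheme.{u}) := ⟨fun x => hne ⟨⟨x.1, x.2⟩⟩⟩
      haveI : IsEmpty ((u ⁻¹ᵁ U.1 : X.Opens) : Scheme.{u}) := ⟨fun x => hne ⟨⟨u x.1, x.2⟩⟩⟩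
      exact ⟨isInitialOfIsEmpty.to _, isInitialOfIsEmpty.hom_ext _ _⟩
  choose w hw using loc
  let 𝒰 := Y.openCoverOfIsOpenCover (fun U : Y.affineOpens => U.1) (iSup_affineOpens_eq_top Y)
  have hag : ∀ i j, pullback.fst (𝒰.f i) (𝒰.f j) ≫ w i = pullback.snd (𝒰.f i) (𝒰.f j) ≫ w j := by
    intro i j
    show pullback.fst i.1.ι j.1.ι ≫ w i = pullback.snd i.1.ι j.1.ι ≫ w j
    haveI : IsReduced (pullback i.1.ι j.1.ι) := isReduced_of_isOpenImmersion (pullback.fst i.1.ι j.1.ι)
    let q := pullback.fst i.1.ι j.1.ι ≫ i.1.ι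
    let c := pullback.fst u q
    let d := pullback.snd u q
    haveI : Surjective d := inferInstance
    have hw' : c ≫ u = d ≫ q := pullback.condition
    let l₁ := (IsPullback.of_hasPullback u i.1.ι)
    have h1 : d ≫ pullback.fst i.1.ι j.1.ι ≫ w i = c ≫ LVFrob.FN p X n := by
      let l := (isPullback_morphismRestrict u i.1).flip.lift c (d ≫ pullback.fst i.1.ι j.1.ι) (by rw [hw', Category.assoc])
      have e1 : l ≫ (u ⁻¹ᵁ i.1).ι = c := IsPullback.lift_fst _ _ _ _
      have e2 : l ≫ (u ∣_ i.1) = d ≫ pullback.fst i.1.ι j.1.ι := IsPullback.lift_snd _ _ _ _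
      rw [← reassoc_of% e2]
      exact (congrArg (l ≫ ·) (hw i)).trans (by rw [reassoc_of% e1])
    have h2 : d ≫ pullback.snd i.1.ι j.1.ι ≫ w j = c ≫ LVFrob.FN p X n := by
      let l := (isPullback_morphismRestrict u j.1).flip.lift c (d ≫ pullback.snd i.1.ι j.1.ι)
        (by rw [hw', Category.assoc]; exact congrArg (d ≫ ·) pullback.condition)
      have e1 : l ≫ (u ⁻¹ᵁ j.1).ι = c := IsPullback.lift_fst _ _ _ _
      have e2 : l ≫ (u ∣_ j.1) = d ≫ pullback.snd i.1.ι j.1.ι := IsPullback.lift_snd _ _ _ _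
      rw [← reassoc_of% e2]
      exact (congrArg (l ≫ ·) (hw j)).trans (by rw [reassoc_of% e1])
    exact ext_of_isDominant d (h1.trans h2.symm)
  refine ⟨Scheme.Cover.glueMorphisms 𝒰 w hag, ?_⟩
  refine (X.openCoverOfIsOpenCover (fun U : Y.affineOpens => u ⁻¹ᵁ U.1) ?_).hom_ext _ _ fun U => ?_
  · refine eq_top_iff.2 fun x _ => ?_
    obtain ⟨U, hU⟩ := TopologicalSpace.Opens.mem_iSup.1 ((iSup_affineOpens_eq_top Y).ge (show u x ∈ ⊤ from trivial))
    exact TopologicalSpace.Opens.mem_iSup.2 ⟨U, hU⟩
  · show (u ⁻¹ᵁ U.1).ι ≫ u ≫ _ = (u ⁻¹ᵁ U.1).ι ≫ _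
    rw [← morphismRestrict_ι_assoc]
    refine Eq.trans ?_ (hw U)
    exact congrArg ((u ∣_ U.1) ≫ ·) (Scheme.Cover.ι_glueMorphisms 𝒰 w hag U)

open CategoryTheory CategoryTheory.Limits AlgebraicGeometry in
/-- Let k be a perfect field of characteristic p > 0 and let u : X ⟶ Y be a k-morphism between integral
k-schemes (separated, of finite type and quasi-projective over k) which is a universal
homeomorphism, and assume Y is normal. Then the degree of the function field of X over that of Y is
p ^ n for some natural number n, and for this n there is a universal homeomorphism v : Y ⟶ X^{(n)},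
where X^{(n)} is the base change of X along the n-th power of the Frobenius of Spec k, such that v
is a k-morphism, u followed by v is the n-th relative Frobenius of X over k (its composite with the
projection X^{(n)} ⟶ X is the n-th power of the absolute Frobenius of X) and v followed by the base
change of u is the n-th relative Frobenius of Y over k (the composite of v with the projection to X
and with u is the n-th power of the absolute Frobenius of Y). -/
theorem result
    (p : ℕ) [Fact p.Prime] (k : Type u) [Field k] [CharP k p] [PerfectField k]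
    {X Y : Scheme.{u}} (fX : X ⟶ Spec (CommRingCat.of k)) (fY : Y ⟶ Spec (CommRingCat.of k))
    [IsIntegral X] [IsIntegral Y] [FrobSch.IsCharP X p] [FrobSch.IsCharP Y p]
    [IsSeparated fX] [IsSeparated fY] [LocallyOfFiniteType fX] [LocallyOfFiniteType fY]
    (hqX : ∃ (N : ℕ) (i : X ⟶ CohB1.ProjSpace N k), IsImmersion i ∧ i ≫ CohB1.ProjSpace.toSpec N k = fX)
    (hqY : ∃ (N : ℕ) (i : Y ⟶ CohB1.ProjSpace N k), IsImmersion i ∧ i ≫ CohB1.ProjSpace.toSpec N k = fY)
    (hY : Pi1.IsNormalScheme Y)
    (u : X ⟶ Y) (hu : u ≫ fY = fX) (huniv : FlatMor.IsUnivHomeo u)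
    (e : u (genericPoint X) = genericPoint Y) :
    ∃ n : ℕ,
      @Module.finrank Y.functionField X.functionField _ _
          (Y.presheaf.stalkSpecializes (specializes_of_eq e) ≫ u.stalkMap (genericPoint X)).hom.toAlgebra.toModule = p ^ n ∧
      ∃ v : Y ⟶ pullback fX ((fun g : Spec (CommRingCat.of k) ⟶ Spec (CommRingCat.of k) => g ≫ FrobSch.frob (Spec (CommRingCat.of k)) p)^[n] (𝟙 (Spec (CommRingCat.of k)))),
        FlatMor.IsUnivHomeo v ∧
        v ≫ pullback.snd fX ((fun g : Spec (CommRingCat.of k) ⟶ Spec (CommRingCat.of k) => g ≫ FrobSch.frob (Spec (CommRingCat.of k)) p)^[n] (𝟙 (Spec (CommRingCat.of k)))) = fY ∧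
        u ≫ v ≫ pullback.fst fX ((fun g : Spec (CommRingCat.of k) ⟶ Spec (CommRingCat.of k) => g ≫ FrobSch.frob (Spec (CommRingCat.of k)) p)^[n] (𝟙 (Spec (CommRingCat.of k)))) =
          (fun g : X ⟶ X => g ≫ FrobSch.frob X p)^[n] (𝟙 X) ∧
        v ≫ pullback.fst fX ((fun g : Spec (CommRingCat.of k) ⟶ Spec (CommRingCat.of k) => g ≫ FrobSch.frob (Spec (CommRingCat.of k)) p)^[n] (𝟙 (Spec (CommRingCat.of k)))) ≫ u =
          (fun g : Y ⟶ Y => g ≫ FrobSch.frob Y p)^[n] (𝟙 Y) := by
  haveI : UniversallyClosed u := universallyClosed_of_isUnivHomeo huniv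
  haveI : UniversallyInjective u := universallyInjective_of_isUnivHomeo huniv
  haveI : Surjective u := surjective_of_isUnivHomeo huniv
  haveI : LocallyOfFiniteType (u ≫ fY) := by rw [hu]; infer_instance
  haveI : IsSeparated (u ≫ fY) := by rw [hu]; infer_instance
  haveI : LocallyOfFiniteType u := locallyOfFiniteType_of_comp u fY
  haveI : IsSeparated u := IsSeparated.of_comp u fY
  haveI : IsProper u := { }
  haveI : IsFinite u := IsFinite.of_isProper_of_locallyQuasiFinite u
  haveI : X.IsSeparated := ⟨by rw [← terminal.comp_from fX]; infer_instance⟩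
  haveI : CharP Y.functionField p := by
    haveI : Nonempty (⊤ : Y.Opens) := ⟨⟨genericPoint Y, trivial⟩⟩
    have h := congrArg (Y.germToFunctionField ⊤).hom (FrobSch.IsCharP.natCast_eq_zero (X := Y) (p := p))
    exact (CharP.charP_iff_prime_eq_zero Fact.out).2 (by simpa using h)
  obtain ⟨hfin, hpi⟩ := fieldMap u e
  obtain ⟨n, hn, hpow⟩ := exists_pow p _ hfin hpi
  refine ⟨n, hn, ?_⟩
  rw [iterate_frob p X n, iterate_frob p Y n]
  obtain ⟨v, hv⟩ := exists_factor p hY u e n hpow
  haveI : PerfectRing k p := inferInstance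
  haveI := isIso_FN_spec p k n
  generalize hF : ((fun g : Spec (CommRingCat.of k) ⟶ Spec (CommRingCat.of k) =>
    g ≫ FrobSch.frob (Spec (CommRingCat.of k)) p)^[n] (𝟙 (Spec (CommRingCat.of k)))) = F
  have hF' : F = LVFrob.FN p (Spec (CommRingCat.of k)) n := hF.symm.trans (iterate_frob p _ n)
  haveI : IsIso F := by rw [hF']; infer_instance
  haveI : IsReduced Y := inferInstance
  have hw : v ≫ fX = fY ≫ F := by
    refine ext_of_isDominant u ?_
    rw [reassoc_of% hv, hF', ← Category.assoc u, hu, LVFrob.FN_comm]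
  have hvu : v ≫ u = LVFrob.FN p Y n := by
    haveI : Y.IsSeparated := ⟨by rw [← terminal.comp_from fY]; infer_instance⟩
    refine ext_of_isDominant u ?_
    rw [reassoc_of% hv, LVFrob.FN_comm]
  refine ⟨pullback.lift v fY hw, ?_, pullback.lift_snd _ _ _, ?_, ?_⟩
  · haveI : IsIso (pullback.fst fX F) := inferInstance
    have h1 : FlatMor.IsUnivHomeo v := univHomeo_of_comp u v huniv (by rw [hv]; exact univHomeo_FN p X n)
    have h2 : pullback.lift v fY hw = v ≫ inv (pullback.fst fX F) := by rw [IsIso.eq_comp_inv, pullback.lift_fst]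
    rw [h2]
    haveI : FlatMor.IsUnivHomeo.{u}.RespectsIso := MorphismProperty.universally_respectsIso _
    exact (MorphismProperty.cancel_right_of_respectsIso FlatMor.IsUnivHomeo.{u} v _).2 h1
  · rw [pullback.lift_fst, hv]
  · rw [pullback.lift_fst_assoc, hvu]

end Groth.Agent.S19240
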