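import Groth.Statements.S19243
import Groth.Agent.CohDer1.RLimMods.Lim
-- import your own Groth.Agent.* helpers here

set_option autoImplicit false
universe u
open CohTop

namespace Groth.Agent.S19243

open CategoryTheory CategoryTheory.Limits TopologicalSpace Opposite in
/-- Let X be a topological space with a sheaf of (not necessarily commutative) rings R, E = (E_n)_{n ≥
0} an inverse system of R-modules indexed by the natural numbers and B a basis of the topology of X.
Write R^i lim for the i-th right derived functor of the limit functor from ℕ-indexed inverse systems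
of R-modules to R-modules (the limit functor is additive and the category of inverse systems has
injective resolutions; both facts are carried as instance hypotheses). (1) If H^i(U, E_n) = 0 for
every U in B, every n and every i ≥ 1, then R^i lim E = 0 for every i ≥ 2. (2) If in addition, for
every U in B, the inverse system of abelian groups (H^0(U, E_n))_n satisfies the Mittag-Leffler
condition, then R^i lim E = 0 for every i ≥ 1. (The source states this for a ringed space, with a
commutative structure sheaf, and indexes the system by the integers n ≥ 1; commutativity plays no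
role.) -/
theorem result
    (X : TopCat.{u}) (R : Sheaf (Opens.grothendieckTopology X) RingCat.{u})
    [(lim : (ℕᵒᵖ ⥤ SheafOfModules.{u} R) ⥤ SheafOfModules.{u} R).Additive]
    [HasInjectiveResolutions (ℕᵒᵖ ⥤ SheafOfModules.{u} R)]
    (E : ℕᵒᵖ ⥤ SheafOfModules.{u} R) (B : Set (Opens X)) (hB : Opens.IsBasis B)
    (ha : ∀ U ∈ B, ∀ (n i : ℕ), 1 ≤ i →
      Subsingleton (CohTop.HU ((SheafOfModules.toSheaf R).obj (E.obj (op n))) i U)) :
    (∀ i : ℕ, 2 ≤ i →
      IsZero (((lim : (ℕᵒᵖ ⥤ SheafOfModules.{u} R) ⥤ SheafOfModules.{u} R).rightDerived i).obj E)) ∧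
    ((∀ U ∈ B, (E ⋙ SheafOfModules.toSheaf R ⋙
        (sheafSections (Opens.grothendieckTopology X) AddCommGrpCat.{u}).obj (op U) ⋙
          forget AddCommGrpCat.{u}).IsMittagLeffler) →
      ∀ i : ℕ, 1 ≤ i →
        IsZero (((lim : (ℕᵒᵖ ⥤ SheafOfModules.{u} R) ⥤ SheafOfModules.{u} R).rightDerived i).obj E)) := by
  haveI : EnoughInjectives (SheafOfModules.{u} R) := Groth.Agent.S0485.result (Opens.grothendieckTopology X) R
  let Res : InjectiveResolution E := injectiveResolution E
  have hcov : ∀ V : Opens X, ∃ T ∈ Opens.grothendieckTopology X V, ∀ ⦃W : Opens X⦄ (g : W ⟶ V), T g →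
      ∃ (V' : Opens X) (_ : V' ∈ B) (a : W ⟶ V') (b : V' ⟶ V), a ≫ b = g := by
    intro V
    refine ⟨{ arrows := fun W _ => ∃ V', V' ∈ B ∧ W ≤ V' ∧ V' ≤ V
              downward_closed := fun {W W'} f hf g => by
                obtain ⟨V', h1, h2, h3⟩ := hf
                exact ⟨V', h1, le_trans (leOfHom g) h2, h3⟩ }, fun x hx => ?_, fun W g hg => ?_⟩
    · obtain ⟨V', h1, h2, h3⟩ := Opens.isBasis_iff_nbhd.1 hB hx
      exact ⟨V', homOfLE h3, ⟨V', h1, le_rfl, h3⟩, h2⟩
    · obtain ⟨V', h1, h2, h3⟩ := hg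
      exact ⟨V', h1, homOfLE h2, homOfLE h3, rfl⟩
  have hU : ∀ U ∈ B, ∀ n i : ℕ, Subsingleton
      (CohSite.HU ((SheafOfModules.toSheaf R).obj (E.obj (op n))) (i + 1) U) :=
    fun U hUB n i => ha U hUB n (i + 1) (Nat.le_add_left 1 i)
  have key : ∀ i : ℕ, (((lim : (ℕᵒᵖ ⥤ SheafOfModules.{u} R) ⥤ SheafOfModules.{u} R).mapHomologicalComplex
      (ComplexShape.up ℕ)).obj Res.cocomplex).ExactAt (i + 1) →
      IsZero (((lim : (ℕᵒᵖ ⥤ SheafOfModules.{u} R) ⥤ SheafOfModules.{u} R).rightDerived (i + 1)).obj E) :=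
    fun i h => ((HomologicalComplex.exactAt_iff_isZero_homology _ _).1 h).of_iso (Res.isoRightDerivedObj _ (i + 1))
  have h2 : ∀ i : ℕ, 2 ≤ i →
      IsZero (((lim : (ℕᵒᵖ ⥤ SheafOfModules.{u} R) ⥤ SheafOfModules.{u} R).rightDerived i).obj E) := fun i hi => by
    obtain ⟨k, rfl⟩ : ∃ k, i = k + 1 + 1 := ⟨i - 2, by omega⟩
    exact key _ (Groth.Agent.CohDer1.RLimMods.exactAt_lim R Res (k + 1) B hcov fun V hV =>
      Groth.Agent.CohDer1.RLimMods.exists_lim_preimage_succ R Res V (hU V hV) k)
  refine ⟨h2, fun hML i hi => ?_⟩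
  rcases Nat.lt_or_ge i 2 with h | h
  · obtain rfl : i = 0 + 1 := by omega
    exact key _ (Groth.Agent.CohDer1.RLimMods.exactAt_lim R Res 0 B hcov fun V hV =>
      Groth.Agent.CohDer1.RLimMods.exists_lim_preimage_zero R Res V (hU V hV) (hML V hV))
  · exact h2 i h
end Groth.Agent.S19243
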