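import Groth.Statements.S19244
import Mathlib.CategoryTheory.Abelian.SerreClass.Localization
-- import your own Groth.Agent.* helpers here

set_option autoImplicit false
set_option linter.style.haveILetI false
universe v v' u u'
open HomAlg3

namespace Groth.Agent.S19244

open CategoryTheory in
/-- Let A be an abelian category and let P be the class of bounded-torsion objects of A, those X with n
• 𝟙_X = 0 for some nonzero integer n; assume P is a Serre class. Let L : A ⥤ D be an additive
functor to a preadditive category exhibiting D as the localization of A at the morphisms whose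
kernel and cokernel are in P (so D is the quotient category A_ℚ = A ⧸ A_{b-tor}; the source assumes
A well-powered, which guarantees that this quotient exists). Then for all objects X, Y of A: (1) for
every nonzero integer n, multiplication by n is bijective on Hom_D(L X, L Y), so that this group is
naturally a ℚ-vector space; (2) a morphism f : X ⟶ Y satisfies L f = 0 if and only if n • f = 0 for
some nonzero integer n; (3) for every g : L X ⟶ L Y there are a nonzero integer n and f : X ⟶ Y with
n • g = L f. Equivalently, the natural map Hom_A(X, Y) ⊗_ℤ ℚ → Hom_D(L X, L Y) is an isomorphism. -/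
theorem result
    {A : Type u} [Category.{v} A] [Abelian A] {D : Type u'} [Category.{v'} D] [Preadditive D]
    (P : ObjectProperty A) (hP : ∀ X : A, P X ↔ ∃ n : ℤ, n ≠ 0 ∧ n • (𝟙 X) = 0) [P.IsSerreClass]
    (L : A ⥤ D) [L.Additive] [L.IsLocalization P.isoModSerre] (X Y : A) :
    (∀ n : ℤ, n ≠ 0 → Function.Bijective (fun g : L.obj X ⟶ L.obj Y => n • g)) ∧
    (∀ f : X ⟶ Y, L.map f = 0 ↔ ∃ n : ℤ, n ≠ 0 ∧ n • f = 0) ∧
    (∀ g : L.obj X ⟶ L.obj Y, ∃ (n : ℤ) (f : X ⟶ Y), n ≠ 0 ∧ n • g = L.map f) := by
  haveI inv : P.isoModSerre.IsInvertedBy L := Localization.inverts L P.isoModSerre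
  have hn : ∀ (Z : A) (n : ℤ), n ≠ 0 → P.isoModSerre (n • 𝟙 Z) := fun Z n hn => by
    refine ⟨(hP _).2 ⟨n, hn, ?_⟩, (hP _).2 ⟨n, hn, ?_⟩⟩
    · rw [← cancel_mono (Limits.kernel.ι (n • 𝟙 Z)), Limits.zero_comp]
      have e := Limits.kernel.condition (n • 𝟙 Z)
      simpa [Preadditive.comp_zsmul, Preadditive.zsmul_comp] using e
    · rw [← cancel_epi (Limits.cokernel.π (n • 𝟙 Z)), Limits.comp_zero]
      have e := Limits.cokernel.condition (n • 𝟙 Z)
      rw [Preadditive.zsmul_comp, Category.id_comp] at e
      rw [Preadditive.comp_zsmul, Category.comp_id]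
      exact e
  refine ⟨fun n hn0 => ?_, fun f => ?_, fun g => ?_⟩
  · haveI : IsIso (L.map (n • 𝟙 X)) := inv _ (hn X n hn0)
    have e : ∀ g : L.obj X ⟶ L.obj Y, n • g = L.map (n • 𝟙 X) ≫ g := fun g => by
      simp [Functor.map_zsmul, Preadditive.zsmul_comp]
    refine ⟨fun a b h => ?_, fun b => ⟨CategoryTheory.inv (L.map (n • 𝟙 X)) ≫ b, ?_⟩⟩
    · rwa [← cancel_epi (L.map (n • 𝟙 X)), ← e, ← e]
    · show n • _ = _
      rw [e, IsIso.hom_inv_id_assoc]
  · rw [CategoryTheory.ObjectProperty.SerreClassLocalization.map_eq_zero_iff L P, hP]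
    refine exists_congr fun n => and_congr_right fun _ => ⟨fun h => ?_, fun h => ?_⟩
    · have e := congrArg (fun t => Abelian.factorThruImage f ≫ t ≫ Abelian.image.ι f) h
      simpa [Preadditive.zsmul_comp, Preadditive.comp_zsmul] using e
    · rw [← cancel_epi (Abelian.factorThruImage f), ← cancel_mono (Abelian.image.ι f)]
      simpa [Preadditive.zsmul_comp, Preadditive.comp_zsmul] using h
  · obtain ⟨φ, hφ⟩ := Localization.exists_rightFraction L P.isoModSerre g
    obtain ⟨X', s, hs, h, rfl⟩ := φ.cases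
    obtain ⟨a, ha0, ha⟩ := (hP _).1 hs.1
    obtain ⟨b, hb0, hb⟩ := (hP _).1 hs.2
    obtain ⟨u, hu⟩ := Limits.KernelFork.IsLimit.lift' (Limits.kernelIsKernel (Limits.cokernel.π s)) (b • 𝟙 X) (by
      have e := congrArg (fun t => Limits.cokernel.π s ≫ t) hb
      simpa [Preadditive.zsmul_comp, Preadditive.comp_zsmul] using e)
    obtain ⟨v, hv⟩ := Limits.CokernelCofork.IsColimit.desc' (Limits.cokernelIsCokernel (Limits.kernel.ι s)) (a • 𝟙 X') (by
      have e := congrArg (fun t => t ≫ Limits.kernel.ι s) ha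
      simpa [Preadditive.zsmul_comp, Preadditive.comp_zsmul] using e)
    have hv' : v ≫ s = a • ((Abelian.coimageIsoImage s).hom ≫ Abelian.image.ι s) := by
      rw [← cancel_epi (Abelian.coimage.π s)]
      have e : Abelian.coimage.π s ≫ v = a • 𝟙 X' := hv
      rw [reassoc_of% e, Preadditive.comp_zsmul]
      simp [Preadditive.zsmul_comp]
    let t := u ≫ (Abelian.coimageIsoImage s).inv ≫ v
    have ht : t ≫ s = (a * b) • 𝟙 X := by
      have e : u ≫ Abelian.image.ι s = b • 𝟙 X := hu
      simp only [t, Category.assoc, hv', Preadditive.comp_zsmul, Iso.inv_hom_id_assoc]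
      rw [e, mul_smul]
    refine ⟨a * b, t ≫ h, mul_ne_zero ha0 hb0, ?_⟩
    haveI : IsIso (L.map s) := inv _ hs
    rw [hφ]
    show (a * b) • (CategoryTheory.inv (L.map s) ≫ L.map h) = L.map (t ≫ h)
    have e : L.map t = (a * b) • CategoryTheory.inv (L.map s) := by
      rw [← cancel_mono (L.map s), ← L.map_comp, ht, Preadditive.zsmul_comp, IsIso.inv_hom_id, Functor.map_zsmul, L.map_id]
    rw [L.map_comp, e, Preadditive.zsmul_comp]

end Groth.Agent.S19244

#print axioms Groth.Agent.S19244.result
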