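import Groth.Statements.S19253
import Groth.Agent.CommAlg4.AcyclicUnit
-- import your own Groth.Agent.* helpers here

set_option autoImplicit false
universe w w' v u
open CategoryTheory CategoryTheory.Limits
open CohDer

namespace Groth.Agent.S19253

/-- (iii) ⇒ (iv): let A be a Grothendieck abelian category and F : A ⥤ Ab an additive left exact functor
such that every right derived functor RⁿF, n ≥ 0, preserves small filtered colimits; let RF : D(A) ⥤
D(Ab) be the total right derived functor of F on unbounded derived categories (its existence is an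
instance hypothesis). If RF preserves countable direct sums (countable direct sums in D(A) being
assumed to exist), then for every cochain complex K all of whose terms are F-acyclic (RⁱF(Kᵐ) = 0
for i > 0 and all m) the canonical map F(K) ⟶ RF(K) is an isomorphism in D(Ab). -/
theorem result
    {A : Type u} [Category.{v} A] [Abelian A] [IsGrothendieckAbelian.{v} A] [HasDerivedCategory.{w} A]
    [HasDerivedCategory.{w'} AddCommGrpCat.{v}]
    (F : A ⥤ AddCommGrpCat.{v}) [F.Additive] [PreservesFiniteLimits F]
    (hcolim : ∀ (n : ℕ) (J : Type v) [SmallCategory J] [IsFiltered J], PreservesColimitsOfShape J (F.rightDerived n))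
    [(F.mapHomotopyCategory (ComplexShape.up ℤ) ⋙ DerivedCategory.Qh).HasRightDerivedFunctor
      (HomotopyCategory.quasiIso A (ComplexShape.up ℤ))]
    [HasColimitsOfShape (Discrete ℕ) (DerivedCategory A)]
    [PreservesColimitsOfShape (Discrete ℕ) ((F.mapHomotopyCategory (ComplexShape.up ℤ) ⋙ DerivedCategory.Qh).totalRightDerived
      DerivedCategory.Qh (HomotopyCategory.quasiIso A (ComplexShape.up ℤ)))]
    (K : CochainComplex A ℤ) (hK : ∀ (m : ℤ) (i : ℕ), 0 < i → IsZero ((F.rightDerived i).obj (K.X m))) :
    IsIso (((F.mapHomotopyCategory (ComplexShape.up ℤ) ⋙ DerivedCategory.Qh).totalRightDerivedUnit DerivedCategory.Qh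
      (HomotopyCategory.quasiIso A (ComplexShape.up ℤ))).app ((HomotopyCategory.quotient A (ComplexShape.up ℤ)).obj K)) := by
  let e : Discrete (ULift.{v} ℕ) ≌ Discrete ℕ := Discrete.equivalence Equiv.ulift
  let h := Groth.Agent.DCat.enoughKInj_of_isGrothendieckAbelian (A := A)
  haveI : PreservesColimitsOfShape (Discrete ℕ) (DerivedCategory.Q (C := A)) :=
    haveI := Groth.Agent.DCat.RHomExist.preservesCoproducts_Q (A := A) (ULift.{v} ℕ)
    preservesColimitsOfShape_of_equiv e _
  obtain ⟨_, _⟩ : ∃ (_ : (Groth.Agent.CommAlg4.AcyclicUnit.RD F).CommShift ℤ),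
      (Groth.Agent.CommAlg4.AcyclicUnit.RD F).IsTriangulated := by
    let i := (Groth.Agent.DCat.rfIso h (F.mapHomotopyCategory (ComplexShape.up ℤ) ⋙ DerivedCategory.Qh)).symm
    letI := Functor.CommShift.ofIso i ℤ
    haveI : NatTrans.CommShift i.hom ℤ := Functor.CommShift.ofIso_compatibility i ℤ
    exact ⟨inferInstance, Functor.isTriangulated_of_iso i⟩
  refine Groth.Agent.CommAlg4.AcyclicUnit.isIso_unit_of_sums F (Groth.Agent.DCat.seqMono_of_exact) (fun i => ?_)
    (fun M => ?_) K hK
  · haveI := Groth.Agent.DQCoh.preservesCoproducts_homologyFunctor (A := AddCommGrpCat.{v}) (ULift.{v} ℕ) i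
    haveI : PreservesColimitsOfShape (Discrete ℕ) (DerivedCategory.homologyFunctor AddCommGrpCat.{v} i) :=
      preservesColimitsOfShape_of_equiv e _
    infer_instance
  · obtain ⟨I, f, h1, h2, -, h3⟩ := Groth.Agent.DCat.exists_kInj_res M
    exact ⟨I, f, h1, h2, h3⟩

end Groth.Agent.S19253
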