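import Groth.Statements.S19258
import Groth.Agent.ProComplLib.Basic

set_option autoImplicit false
universe u
open PontDual

namespace Groth.Agent.S19258

/-- Let G and G' be abelian groups such that every element of G' has finite order, and let β : G' →
Hom(G, ℚ/ℤ) be an injective homomorphism (equivalently a pairing G' × G → ℚ/ℤ with no left kernel).
Endow G with the weak topology defined by G': the coarsest topology for which every character β(f),
f ∈ G', is continuous when ℚ/ℤ carries the discrete topology. Then every homomorphism χ : G → ℚ/ℤ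
that is continuous for this topology on G and the discrete topology on ℚ/ℤ equals β(f) for some f ∈
G', so that β is a bijection from G' onto the group of continuous characters of G. -/
theorem result
    (G : Type u) (G' : Type u) [AddCommGroup G] [AddCommGroup G'] (hG' : IsAddTorsion G')
    (β : G' →+ (G →+ AddCircle (1 : ℚ))) (hβ : Function.Injective β)
    (χ : G →+ AddCircle (1 : ℚ))
    (hχ : @Continuous G (AddCircle (1 : ℚ)) (⨅ f' : G', TopologicalSpace.induced (fun x : G => β f' x) ⊥) ⊥ χ) :
    ∃ f' : G', β f' = χ := by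
  classical
  let := (⨅ f' : G', TopologicalSpace.induced (fun x : G => β f' x) ⊥ : TopologicalSpace G)
  obtain ⟨s, hs⟩ : ∃ s : Finset G', ∀ x : G, (∀ f ∈ s, β f x = 0) → χ x = 0 := by
    letI : TopologicalSpace (AddCircle (1 : ℚ)) := ⊥
    haveI : DiscreteTopology (AddCircle (1 : ℚ)) := ⟨rfl⟩
    have hnh : χ ⁻¹' {0} ∈ nhds (0 : G) :=
      ((isOpen_discrete {(0 : AddCircle (1 : ℚ))}).preimage hχ).mem_nhds (map_zero χ)
    rw [nhds_iInf, Filter.mem_iInf_finite] at hnh
    obtain ⟨s, hs⟩ := hnh
    refine ⟨s, fun x hx => ?_⟩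
    have hm : x ∈ χ ⁻¹' {0} := by
      have hp : pure x ≤ ⨅ f ∈ s, @nhds G (TopologicalSpace.induced (fun x : G => β f x) ⊥) 0 := by
        refine le_iInf₂ fun f hf => ?_
        rw [nhds_induced, nhds_discrete, Filter.comap_pure, Filter.le_principal_iff,
          Filter.mem_pure]
        exact (hx f hf).trans (map_zero (β f)).symm
      exact Filter.mem_pure.1 (hp hs)
    exact hm
  let S := AddSubgroup.closure (↑s : Set G')
  have : AddGroup.FG S := AddGroup.closure_finite_fg _
  haveI : Finite S := AddCommGroup.finite_of_fg_torsion _ fun x =>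
    (AddSubmonoid.isOfFinAddOrder_coe).1 (hG' x)
  haveI : Fintype S := Fintype.ofFinite S
  let ev : G →+ (S →+ AddCircle (1 : ℚ)) := (β.comp S.subtype).flip
  have hev : ev.ker ≤ χ.ker := fun x hx => hs x fun f hf =>
    DFunLike.congr_fun (hx : ev x = 0) ⟨f, AddSubgroup.subset_closure hf⟩
  obtain ⟨Φ, hΦ⟩ := Groth.Agent.ProComplLib.exists_extend ev.range.subtype Subtype.val_injective
    ((QuotientAddGroup.lift ev.ker χ hev).comp
      (QuotientAddGroup.quotientKerEquivRange ev).symm.toAddMonoidHom)
  obtain ⟨f, hf⟩ := Groth.Agent.ProComplLib.bidual_surjective Φ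
  refine ⟨f.1, AddMonoidHom.ext fun x => ?_⟩
  have h1 := DFunLike.congr_fun hΦ (ev.rangeRestrict x)
  simp only [AddMonoidHom.coe_comp, AddSubgroup.coe_subtype, Function.comp_apply,
    AddEquiv.coe_toAddMonoidHom] at h1
  have h2 : (QuotientAddGroup.quotientKerEquivRange ev).symm (ev.rangeRestrict x) = (x : G ⧸ ev.ker) :=
    (AddEquiv.symm_apply_eq _).2 rfl
  rw [h2] at h1
  exact ((hf (ev x)).trans h1 :)

end Groth.Agent.S19258
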