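import Groth.Statements.S19262
import Groth.Agent.ExtFilt28.Main
import Groth.Agent.ExtPowEx28.Basic
import Groth.Agent.ExtPowEx28.Pull
import Groth.Agent.KvbLam28.Basic
import Groth.Agent.Hurwitz24.Sequence
import Groth.Agent.OmegaLib.Stalk
import Groth.Agent.OmegaLib.StalkCompat
import Groth.Agent.LiftObs29.Bridge
import Groth.Agent.BoxRes17.Generator
import Groth.Agent.Lef23.PairVanish
import Groth.Agent.MorProj.InvTensor
import Groth.Prelude.Def_FrameBundle
-- import your own Groth.Agent.* helpers here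

set_option autoImplicit false
set_option linter.style.haveILetI false
set_option backward.isDefEq.respectTransparency.types false
set_option maxHeartbeats 1000000
universe u
open CategoryTheory CategoryTheory.Limits AlgebraicGeometry
open Coh

namespace Groth.Agent.S19262

open CategoryTheory CategoryTheory.Limits Opposite TopologicalSpace
open Groth.Agent.Coherent Groth.Agent.PicLib Groth.Agent.AmpleLib Groth.Agent.ExtFilt28

attribute [local instance] Limits.HasBinaryBiproducts.of_hasBinaryProducts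
attribute [local instance] hasFiniteBiproducts

theorem finite_kaehler {Z R : Type u} [CommRing Z] [CommRing R] [Algebra Z R] (p : ℕ) (hp : (p : R) = 0)
    (hF : ∃ (m : ℕ) (b : Fin m → R), ∀ x : R, ∃ c : Fin m → R, x = ∑ i, c i ^ p * b i) :
    Module.Finite R (Ω[R⁄Z]) := by
  obtain ⟨m, b, hb⟩ := hF
  let v := fun i => KaehlerDifferential.D Z R (b i)
  classical
  refine ⟨⟨Finset.univ.image v, ?_⟩⟩
  rw [eq_top_iff, ← KaehlerDifferential.span_range_derivation, Submodule.span_le]
  rintro _ ⟨x, rfl⟩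
  obtain ⟨c, rfl⟩ := hb x
  rw [map_sum]
  refine Submodule.sum_mem _ fun i _ => ?_
  rw [Derivation.leibniz, Derivation.leibniz_pow]
  rw [show p • (c i ^ (p - 1) • KaehlerDifferential.D Z R (c i)) = 0 by
    rw [← Nat.cast_smul_eq_nsmul R, hp, zero_smul], smul_zero, add_zero]
  refine Submodule.smul_mem _ _ (Submodule.subset_span ?_)
  simp [v]

theorem isFinLocFree_omega_field (k : Type u) [Field k] (p : ℕ) [Fact p.Prime] [CharP k p]
    (hF : (frobenius k p).Finite) :
    FlatMod.IsFinLocFree (Omega.sheaf (specULiftZIsTerminal.from (Spec (CommRingCat.of k)))) := by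
  let q := specULiftZIsTerminal.from (Spec (CommRingCat.of k))
  haveI : QuasiSeparated q := inferInstance
  haveI : Coh.IsQCoh (Omega.sheaf q) :=
    MorProj.isQCoh_omega q
  have e : (⊤ : (Spec (CommRingCat.of k)).Opens) ≤ q ⁻¹ᵁ ⊤ := le_top
  letI := (q.appLE ⊤ ⊤ e).hom.toAlgebra
  let σ : Γ(Spec (CommRingCat.of k), ⊤) ≃+* k := (Scheme.ΓSpecIso (CommRingCat.of k)).commRingCatIsoToRingEquiv
  haveI : Module.Finite Γ(Spec (CommRingCat.of k), ⊤) (Ω[Γ(Spec (CommRingCat.of k), ⊤)⁄Γ(Spec (CommRingCat.of (ULift.{u} ℤ)), ⊤)]) := by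
    refine finite_kaehler p (σ.injective (by rw [map_natCast, map_zero, CharP.cast_eq_zero])) ?_
    obtain ⟨m, b, hb⟩ := @Module.Finite.exists_fin k k _ _ (frobenius k p).toAlgebra.toModule hF
    refine ⟨m, fun i => σ.symm (b i), fun x => ?_⟩
    obtain ⟨c, hc⟩ : ∃ c : Fin m → k, ∑ i, frobenius k p (c i) * b i = σ x := by
      letI := (frobenius k p).toAlgebra.toModule
      have hm : σ x ∈ Submodule.span k (Set.range b) := hb.ge trivial
      exact (Submodule.mem_span_range_iff_exists_fun k).1 hm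
    refine ⟨fun i => σ.symm (c i), σ.injective ?_⟩
    have hc' : ∑ i, frobenius k p (c i) * b i = σ x := hc
    rw [map_sum, ← hc']
    refine Finset.sum_congr rfl fun i _ => ?_
    rw [map_mul, map_pow, RingEquiv.apply_symm_apply, RingEquiv.apply_symm_apply]
    rfl
  obtain ⟨ψ, -⟩ := OmegaLib.exists_omega_sections_equiv q e (isAffineOpen_top _) (isAffineOpen_top _)
  haveI : Module.Finite Γ(Spec (CommRingCat.of k), ⊤) Γ(Omega.sheaf q, ⊤) := Module.Finite.equiv ψ
  haveI : Module.Projective Γ(Spec (CommRingCat.of k), ⊤) Γ(Omega.sheaf q, ⊤) := by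
    letI := (MulEquiv.isField (Field.toIsField k) σ.toMulEquiv).toField
    infer_instance
  exact fun x => by
    obtain ⟨W, m, hW, he⟩ := CohExch.exists_free_nhd_of_sections (Omega.sheaf q) (isAffineOpen_top _) (y := x) trivial
    exact ⟨W, m, hW, he⟩

theorem shortExact_omega {k : Type u} [Field k] {X : Scheme.{u}} (f : X ⟶ Spec (CommRingCat.of k)) [Smooth f]
    [QuasiSeparated f] [QuasiSeparated (f ≫ specULiftZIsTerminal.from (Spec (CommRingCat.of k)))] :
    ∃ (c : (Scheme.Modules.pullback f).obj (Omega.sheaf (specULiftZIsTerminal.from (Spec (CommRingCat.of k)))) ⟶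
        Omega.sheaf (f ≫ specULiftZIsTerminal.from (Spec (CommRingCat.of k)))) (S : ShortComplex X.Modules),
      S.ShortExact ∧ S.X₁ = (Scheme.Modules.pullback f).obj (Omega.sheaf (specULiftZIsTerminal.from (Spec (CommRingCat.of k)))) ∧
      S.X₂ = Omega.sheaf (f ≫ specULiftZIsTerminal.from (Spec (CommRingCat.of k))) ∧ S.X₃ = Omega.sheaf f := by
  let q := specULiftZIsTerminal.from (Spec (CommRingCat.of k))
  let p := f ≫ q
  haveI : QuasiSeparated q := inferInstance
  obtain ⟨c, hc, ⟨e⟩⟩ := Hurwitz24.exists_omega_sequence (f := f) (p := p) (q := q) rfl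
  haveI : Mono c := OmegaLib.mono_of_stalks_injective c fun x => by
    letI := (f.stalkMap x).hom.toAlgebra
    let T : (Spec (CommRingCat.of (ULift.{u} ℤ))).Opens := ⊤
    have hT : IsAffineOpen T := isAffineOpen_top _
    letI : Algebra Γ(Spec (CommRingCat.of (ULift.{u} ℤ)), T) ((Spec (CommRingCat.of k)).presheaf.stalk (f x)) :=
      ((Spec (CommRingCat.of (ULift.{u} ℤ))).presheaf.germ T (q (f x)) trivial ≫ q.stalkMap (f x)).hom.toAlgebra
    letI : Algebra Γ(Spec (CommRingCat.of (ULift.{u} ℤ)), T) (X.presheaf.stalk x) :=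
      (((Spec (CommRingCat.of (ULift.{u} ℤ))).presheaf.germ T (q (f x)) trivial ≫ q.stalkMap (f x)) ≫ f.stalkMap x).hom.toAlgebra
    haveI : IsScalarTower Γ(Spec (CommRingCat.of (ULift.{u} ℤ)), T) ((Spec (CommRingCat.of k)).presheaf.stalk (f x))
        (X.presheaf.stalk x) := IsScalarTower.of_algebraMap_eq fun _ => rfl
    haveI : Algebra.FormallySmooth ((Spec (CommRingCat.of k)).presheaf.stalk (f x)) (X.presheaf.stalk x) :=
      OmegaLib.formallySmooth_stalkMap (Omega15.isFormallySmoothHom_of_smooth f) x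
    obtain ⟨E₂, hE₂⟩ := OmegaLib.exists_omega_stalk_equiv p hT x trivial fun r => by
      show f.stalkMap x (q.stalkMap (f x) _) = (f ≫ q).stalkMap x _
      rw [Scheme.Hom.stalkMap_comp]
      rfl
    obtain ⟨E₁, hE₁⟩ := OmegaLib.exists_stalk_compat (OmegaLib.isUniversal_dOmega q) hc hT x trivial
      (fun _ => rfl) E₂ hE₂
    intro a b hab
    obtain ⟨a, rfl⟩ := E₁.surjective a
    obtain ⟨b, rfl⟩ := E₁.surjective b
    rw [hE₁, hE₁] at hab
    exact congrArg E₁ (OmegaLib.mapBaseChange_injective _ _ _ (E₂.injective hab))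
  refine ⟨c, ShortComplex.mk c (cokernel.π c ≫ e.hom) (by simp), ?_, rfl, rfl, rfl⟩
  exact ShortComplex.shortExact_of_iso
    (ShortComplex.isoMk (S₁ := ShortComplex.mk c (cokernel.π c) (cokernel.condition c))
      (S₂ := ShortComplex.mk c (cokernel.π c ≫ e.hom) (by simp)) (Iso.refl _) (Iso.refl _) e (by simp) (by simp))
    { exact := ShortComplex.exact_of_g_is_cokernel _ (cokernelIsCokernel c), mono_f := ‹_›, epi_g := inferInstance }

theorem subsingleton_middle {X : Scheme.{u}} {S : ShortComplex X.Modules} (hS : S.ShortExact) (i : ℕ)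
    (h₁ : Subsingleton (Coh.HH X S.X₁ i)) (h₃ : Subsingleton (Coh.HH X S.X₃ i)) :
    Subsingleton (Coh.HH X S.X₂ i) := by
  refine subsingleton_of_forall_eq 0 fun x => ?_
  obtain ⟨y, hy⟩ := Abelian.Ext.covariant_sequence_exact₂ _ (toAb_shortExact hS) x (h₃.elim _ _)
  rw [← hy, h₁.elim y 0]
  exact Abelian.Ext.zero_comp ..

theorem subsingleton_free_tensor {X : Scheme.{u}} (A : X.Modules) (r q : ℕ) (h : Subsingleton (Coh.HH X A q)) :
    Subsingleton (Coh.HH X (CohB1.tensorMod A (FlatMod.freeMod X r)) q) :=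
  Lef23.subsingleton_HH_iso (AmpleLib.tensorIso (Iso.refl A) (biproduct.isoCoproduct fun _ : Fin r => Coh.structureModule X)) q
    (Lef23.subsingleton_HH_tensor_biproduct A (fun _ : Fin r => Coh.structureModule X) q fun _ =>
      Lef23.subsingleton_HH_iso (tensorComm A (Coh.structureModule X) ≪≫ unitTensorIso A).symm q h)

/-- Let k be a field of characteristic p > 0 whose Frobenius endomorphism is finite, X a scheme smooth
over k of relative dimension N with an ample invertible module L and a tensor-inverse M of L, and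
assume (X, L) is a Kodaira pair: for every q ≥ 0 and every O_X-module Ω which is a q-th exterior
power of the module of relative differentials Ω_{X/k}, H^i(X, Ω ⊗ M^{⊗ n}) = 0 for all n ≥ 1 and all
i with i + q ≤ N - 1. Then for every q ≥ 0, every O_X-module Ω' which is a q-th exterior power of
the module of absolute differentials Ω_{X/Z}, every n ≥ 1 and every i with i + q ≤ N - 1, one has
H^i(X, Ω' ⊗ M^{⊗ n}) = 0. -/
theorem result
    (k : Type u) [Field k] (p : ℕ) [Fact p.Prime] [CharP k p] (hF : (frobenius k p).Finite)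
    (X : Scheme.{u}) (f : X ⟶ Spec (CommRingCat.of k)) (N : ℕ) [SmoothOfRelativeDimension N f]
    (L M : X.Modules) (hamp : CohB1.IsAmple L) (hM : ClSub.IsInverseOf M L)
    (hkod : ∀ (q : ℕ) (Ω : X.Modules), ExtPow.IsExtPow q (Omega.sheaf f) Ω → ∀ n i : ℕ, 1 ≤ n → i + q + 1 ≤ N → Subsingleton (Coh.HH X (CohB1.tensorMod Ω (CohB1.tensorPow M n)) i))
    (q : ℕ) (Ω' : X.Modules) (hΩ' : ExtPow.IsExtPow q (Omega.sheaf (specULiftZIsTerminal.from X)) Ω')
    (n i : ℕ) (hn : 1 ≤ n) (hi : i + q + 1 ≤ N) :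
    Subsingleton (Coh.HH X (CohB1.tensorMod Ω' (CohB1.tensorPow M n)) i) := by
  haveI : Smooth f := SmoothOfRelativeDimension.smooth N f
  haveI : IsLocallyNoetherian X := LocallyOfFiniteType.isLocallyNoetherian f
  haveI : QuasiSeparatedSpace X := inferInstance
  haveI : QuasiSeparated f := inferInstance
  haveI : QuasiSeparated (f ≫ specULiftZIsTerminal.from (Spec (CommRingCat.of k))) := inferInstance
  have hp : specULiftZIsTerminal.from X = f ≫ specULiftZIsTerminal.from (Spec (CommRingCat.of k)) :=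
    specULiftZIsTerminal.hom_ext _ _
  rw [hp] at hΩ'
  obtain ⟨c, S, hS, hS₁, hS₂, hS₃⟩ := shortExact_omega f
  have hk := isFinLocFree_omega_field k p hF
  have h₁ : FlatMod.IsFinLocFree S.X₁ := hS₁ ▸ DCat.PullPerf.isFinLocFree_pullback f hk
  have h₃ : FlatMod.IsFinLocFree S.X₃ := hS₃ ▸ LiftObs29.isFinLocFree_omega f
  have h₂ : FlatMod.IsFinLocFree S.X₂ := isFinLocFree_extension hS h₁ h₃
  choose Lk hLkf hLk using fun a => ExtPowEx28.exists_isExtPow hk a
  let L' := fun a => (Scheme.Modules.pullback f).obj (Lk a)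
  have hL'f : ∀ a, FlatMod.IsFinLocFree (L' a) := fun a => DCat.PullPerf.isFinLocFree_pullback f (hLkf a)
  have hL' : ∀ a, ExtPow.IsExtPow a S.X₁ (L' a) := fun a => hS₁ ▸ ExtPowEx28.isExtPow_pullback_vb f hk (hLk a)
  choose L'' hL''f hL'' using fun a => ExtPowEx28.exists_isExtPow h₃ a
  choose Λ hLf hL using fun a => ExtPowEx28.exists_isExtPow h₂ a
  haveI : ∀ a, Coh.IsQCoh (L' a) := fun a => CAlgH3.LocFreeFactor.isQCoh_of_finLocFree (hL'f a)
  haveI : ∀ a, Coh.IsQCoh (L'' a) := fun a => CAlgH3.LocFreeFactor.isQCoh_of_finLocFree (hL''f a)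
  haveI : ∀ a, Coh.IsQCoh (Λ a) := fun a => CAlgH3.LocFreeFactor.isQCoh_of_finLocFree (hLf a)
  choose φ' c' using hL'
  choose φ'' c'' using id hL''
  choose φ cφ using id hL
  have hLi : PicF.IsInvertible L := (isAmple_iff_affGlocus.1 hamp).1
  have hMi : PicF.IsInvertible M := MorProj.isInvertible_of_tensor_iso hM.some
  have hP := isInvertible_tensorPow hMi n
  let P := CohB1.tensorPow M n
  have hpiece : ∀ a b, b ≤ q → Subsingleton (Coh.HH X (CohB1.tensorMod (CohB1.tensorMod (L' a) (L'' b)) P) i) := by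
    intro a b hb
    obtain ⟨r, ⟨er⟩⟩ := BoxRes17.exists_iso_free_field k (Lk a) (CohBC.isCoh_of_isFinLocFree (hLkf a))
    let e' : L' a ≅ FlatMod.freeMod X r := (Scheme.Modules.pullback f).mapIso er ≪≫ FrB.pullbackFreeIso f r
    have hA : Subsingleton (Coh.HH X (CohB1.tensorMod (L'' b) P) i) :=
      hkod b (L'' b) (hS₃ ▸ hL'' b) n i hn (by omega)
    let α := DCat.TensorAssoc.assocIso (FlatMod.freeMod X r) (L'' b) P
    exact Lef23.subsingleton_HH_iso
      ((tensorComm _ _) ≪≫ α.symm ≪≫ AmpleLib.tensorIso (AmpleLib.tensorIso e'.symm (Iso.refl _)) (Iso.refl _)) i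
      (subsingleton_free_tensor (CohB1.tensorMod (L'' b) P) r i hA)
  have hfil : ∀ (j a : ℕ) (h : a + j = q),
      Subsingleton (Coh.HH X (CohB1.tensorMod (Fil φ' φ c' cφ h) P) i) := by
    intro j
    induction j with
    | zero =>
      intro a h
      haveI := isIso_toQ_zero hS h₁ h₃ φ' φ φ'' c' cφ c'' h
      exact Lef23.subsingleton_HH_iso
        (AmpleLib.tensorIso (asIso (toQ hS h₁ h₃ φ' φ φ'' c' cφ c'' h)).symm (Iso.refl _)) i (hpiece a 0 (by omega))
    | succ j ih =>
      intro a h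
      have h' : a + 1 + j = q := by omega
      obtain ⟨w, hw⟩ := exists_step hS h₁ h₃ φ' φ φ'' c' cφ c'' h h'
      exact subsingleton_middle (EulerLib.twistSeq_shortExact hP hw) i (ih (a + 1) h') (hpiece a (j + 1) (by omega))
  have hsurj : Epi (muH φ' φ c' cφ (zero_add q)) := epi_of_locally_surjective _ fun W a y hy => by
    obtain ⟨V, hyV, hVW, -⟩ := exists_good hS h₁ h₃ W y hy
    obtain ⟨b, hb⟩ := muSec_zero_surjective φ' φ (V := V) (resM _ hVW a)
    exact ⟨V.1, hVW, hyV, b, (muH_app φ' φ c' cφ (zero_add q) V b).trans hb⟩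
  haveI : IsIso (Abelian.image.ι (muH φ' φ c' cφ (zero_add q))) := by
    haveI : Epi (Abelian.image.ι (muH φ' φ c' cφ (zero_add q))) :=
      epi_of_epi_fac (Abelian.image.fac (muH φ' φ c' cφ (zero_add q)))
    exact isIso_of_mono_of_epi _
  obtain ⟨eΩ⟩ := KvbLam28.exists_iso_of_isExtPow (hS₂ ▸ hL q : ExtPow.IsExtPow q _ (Λ q)) hΩ'
  exact Lef23.subsingleton_HH_iso
    (AmpleLib.tensorIso (asIso (Abelian.image.ι (muH φ' φ c' cφ (zero_add q))) ≪≫ eΩ) (Iso.refl P)) i
    (hfil q 0 (zero_add q))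

end Groth.Agent.S19262
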