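import Groth.Statements.S19264
import Groth.Agent.WittFilLib.Basic

set_option autoImplicit false
universe u
open WittFil

namespace Groth.Agent.S19264

/-- Let A be a unique factorisation domain of characteristic p, x_1, …, x_r pairwise non-associate prime
elements of A, B = A[1/(x_1⋯x_r)] with u_i the unit of B defined by x_i, n ∈ ℤ^r and m ≥ 0. The
restriction map from truncated p-typical Witt vectors of length m+1 to those of length m over B
(forgetting the last coordinate) maps the filtered piece cut out by ∏ u_i ^ n_i onto the filtered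
piece cut out by ∏ u_i ^ ⌊n_i / p⌋; that is, the image is exactly that piece. (The other parts of
the exact sequence, injectivity of the (m-fold) Verschiebung from the fractional ideal generated by
(∏ u_i ^ n_i)⁻¹ and exactness in the middle, are immediate from the definition and are not restated.
The published setting is a regular local ring; only unique factorisation is used.) -/
theorem result (p : ℕ) [Fact p.Prime] {A B : Type u} [CommRing A] [IsDomain A]
    [UniqueFactorizationMonoid A] [CharP A p] [CommRing B] [Algebra A B] {r : ℕ} (x : Fin r → A)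
    (hx : ∀ i, Prime (x i)) (hxa : ∀ i j, Associated (x i) (x j) → i = j)
    [IsLocalization.Away (∏ i, x i) B] (u : Fin r → Bˣ)
    (hu : ∀ i, (u i : B) = algebraMap A B (x i)) (n : Fin r → ℤ) (m : ℕ) :
    (TruncatedWittVector.truncate (Nat.le_succ m)) '' WittFil.fil p (m + 1) (A := A) (WittFil.zmon u n) =
      WittFil.fil p m (A := A) (WittFil.zmon u (fun i => n i / (p : ℤ))) := by
  obtain ⟨h0, hsf, hsfi, hdiv⟩ := WittFilLib.ufd_hyps hx hxa
  have hp0 : 0 < p := (Fact.out : p.Prime).pos
  set k : Fin r → ℤ := fun i => n i / (p : ℤ) with hk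
  let r' : Fin r → ℕ := fun i => (n i % (p : ℤ)).toNat
  have hr' : ∀ i, (r' i : ℤ) = n i % (p : ℤ) := fun i =>
    Int.toNat_of_nonneg (Int.emod_nonneg _ (by exact_mod_cast hp0.ne'))
  have hn : n = (fun i => (p : ℤ) * k i) + fun i => ((r' i : ℕ) : ℤ) := by
    funext i; rw [Pi.add_apply, hr']; exact (Int.mul_ediv_add_emod _ _).symm
  have hexp : ∀ j : Fin m, p ^ (m + 1 - 1 - (j : ℕ)) = p ^ (m - 1 - (j : ℕ)) * p := fun j => by
    rw [← pow_succ]; congr 1; have := j.2; omega
  ext y
  constructor
  · rintro ⟨a, ha, rfl⟩ j
    obtain ⟨X, rfl⟩ := WittVector.truncate_surjective p (m + 1) B a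
    have h := ha j.castSucc
    rw [WittVector.coeff_truncate, Fin.val_castSucc, hexp, pow_mul] at h
    rw [TruncatedWittVector.truncate_wittVector_truncate, WittVector.coeff_truncate]
    exact WittFilLib.floor_mem h0 hsf hsfi hdiv hu _ hp0 n h
  · intro hy
    let a : TruncatedWittVector p (m + 1) B :=
      TruncatedWittVector.mk p (Fin.snoc (fun j => y.coeff j) 0)
    refine ⟨a, fun j => ?_, ?_⟩
    · rw [TruncatedWittVector.coeff_mk]
      refine Fin.lastCases ?_ (fun j => ?_) j
      · rw [Fin.snoc_last, zero_pow (pow_ne_zero _ hp0.ne'), zero_mul]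
        exact Subring.zero_mem _
      · rw [Fin.snoc_castSucc, Fin.val_castSucc, hexp, pow_mul]
        conv => arg 2; rw [hn, WittFilLib.zmon_add, WittFilLib.zmon_smul,
          WittFilLib.zmon_nat x u hu, ← mul_assoc, ← mul_pow]
        exact Subring.mul_mem _ (Subring.pow_mem _ (hy j) _) ⟨_, rfl⟩
    · obtain ⟨X, hX⟩ := WittVector.truncate_surjective p (m + 1) B a
      rw [← hX, TruncatedWittVector.truncate_wittVector_truncate]
      ext j
      rw [WittVector.coeff_truncate]
      have := congrArg (TruncatedWittVector.coeff j.castSucc) hX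
      rw [WittVector.coeff_truncate, TruncatedWittVector.coeff_mk, Fin.snoc_castSucc] at this
      exact this

end Groth.Agent.S19264
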