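import Groth.Statements.S19268
import Groth.Agent.WittFilLib.One
import Mathlib.RingTheory.PowerSeries.NoZeroDivisors

set_option autoImplicit false
universe u
open WittFil

namespace Groth.Agent.S19268

/-- Let S be an integral domain of characteristic p, A = S[[π]] the power series ring, B = A[1/π] with u
the unit of B given by π, and let m > s ≥ 0 and i be an integer with s = 0 or p ∤ i; put n = p ^
(m−1−s) · i. For e in B write fil(e) for the set of truncated p-typical Witt vectors of length m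
over B whose j-th coordinate y_j satisfies y_j ^ (p ^ (m−1−j)) · e ∈ A for all j, and for a Witt
vector c over S let Φ(c) ∈ W_m(B) be the length-m truncation of V^s(c · [u ^ i]) (V the
Verschiebung, [ ] the Teichmüller map, c mapped to B). Then Φ induces a bijection from the
length-(m−s) truncated Witt vectors of S onto the graded piece fil(u^(−n)) / fil(u^(−n−1)): (1) Φ(c)
lies in fil(u^(−n)) for every c; (2) Φ(c) lies in fil(u^(−n−1)) exactly when the length-(m−s)
truncation of c is zero; (3) every element of fil(u^(−n)) is congruent to some Φ(c) modulo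
fil(u^(−n−1)). (Published for S a regular local Noetherian F-finite F_p-algebra; the argument uses
only that S is a domain.) -/
theorem result (p : ℕ) [Fact p.Prime] {S B : Type u} [CommRing S]
    [IsDomain S] [CharP S p] [CommRing B] [Algebra (PowerSeries S) B] [Algebra S B]
    [IsScalarTower S (PowerSeries S) B] [IsLocalization.Away (PowerSeries.X : PowerSeries S) B]
    (u : Bˣ) (hu : (u : B) = algebraMap (PowerSeries S) B PowerSeries.X) (m s : ℕ) (hs : s < m)
    (i : ℤ) (hsi : s = 0 ∨ ¬ ((p : ℤ) ∣ i)) :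
    (∀ c : WittVector p S,
        WittFil.vShiftTeich p m s ((u ^ i : Bˣ) : B) c ∈
          WittFil.fil p m (A := PowerSeries S) ((u ^ (-((p : ℤ) ^ (m - 1 - s) * i)) : Bˣ) : B)) ∧
      (∀ c : WittVector p S,
        WittFil.vShiftTeich p m s ((u ^ i : Bˣ) : B) c ∈
            WittFil.fil p m (A := PowerSeries S) ((u ^ (-((p : ℤ) ^ (m - 1 - s) * i) - 1) : Bˣ) : B) ↔
          WittVector.truncate (m - s) c = 0) ∧
      (∀ y ∈ WittFil.fil p m (A := PowerSeries S) ((u ^ (-((p : ℤ) ^ (m - 1 - s) * i)) : Bˣ) : B),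
        ∃ c : WittVector p S,
          y - WittFil.vShiftTeich p m s ((u ^ i : Bˣ) : B) c ∈
            WittFil.fil p m (A := PowerSeries S)
              ((u ^ (-((p : ℤ) ^ (m - 1 - s) * i) - 1) : Bˣ) : B)) := by
  classical
  have hprime : Prime (PowerSeries.X : PowerSeries S) := PowerSeries.X_prime
  have hsf := WittFilLib.sqfree_of_prime hprime
  have h0 := hprime.ne_zero
  have hp0 : 0 < p := (Fact.out : p.Prime).pos
  have hinj : Function.Injective (algebraMap (PowerSeries S) B) :=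
    WittFilLib.algebraMap_injective (π := PowerSeries.X) h0
  set N : ℤ := (p : ℤ) ^ (m - 1 - s) * i with hN
  set cN : B := ((u ^ (-N) : Bˣ) : B) with hcN
  set cN' : B := ((u ^ (-N - 1) : Bˣ) : B) with hcN'
  have hstep : algebraMap (PowerSeries S) B PowerSeries.X * cN' = cN := by
    rw [hcN, hcN', ← hu, ← Units.val_mul, ← zpow_one_add]
    congr 2; ring
  -- for `j ≥ s` the index is a multiple of the exponent
  have hmult : ∀ j : Fin m, s ≤ (j : ℕ) →
      ((p ^ (m - 1 - (j : ℕ)) : ℕ) : ℤ) * (i * (p : ℤ) ^ ((j : ℕ) - s)) = N := fun j hj => by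
    rw [hN]; push_cast
    rw [mul_left_comm, ← pow_add, mul_comm]
    congr 2
    have := j.2; omega
  -- for `j < s` it is not
  have hndvd : ∀ j : Fin m, (j : ℕ) < s → ¬ (((p ^ (m - 1 - (j : ℕ)) : ℕ) : ℤ) ∣ N) := fun j hj hd => by
    rcases hsi with rfl | hi
    · omega
    · refine hi ?_
      rw [hN, show m - 1 - (j : ℕ) = (m - 1 - s) + (s - (j : ℕ)) by omega, pow_add] at hd
      push_cast at hd
      have := (mul_dvd_mul_iff_left (pow_ne_zero _ (by exact_mod_cast hp0.ne' : (p : ℤ) ≠ 0))).1 hd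
      exact (dvd_pow_self (p : ℤ) (by omega)).trans this
  -- the coordinate conditions
  have hlt : ∀ (j : Fin m), (j : ℕ) < s → ∀ g : B,
      g ^ p ^ (m - 1 - (j : ℕ)) * cN ∈ (algebraMap (PowerSeries S) B).range →
      g ^ p ^ (m - 1 - (j : ℕ)) * cN' ∈ (algebraMap (PowerSeries S) B).range := fun j hj g hg =>
    WittFilLib.sharpen (π := PowerSeries.X) hprime hu g (Nat.pow_pos hp0) (-N)
      (fun h => hndvd j hj (Int.dvd_neg.1 h)) hg
  have hge : ∀ (j : Fin m), s ≤ (j : ℕ) → ∀ g : B,
      (g ^ p ^ (m - 1 - (j : ℕ)) * cN ∈ (algebraMap (PowerSeries S) B).range ↔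
        ∃ h : PowerSeries S, algebraMap (PowerSeries S) B h =
          g * ((u ^ (-(i * (p : ℤ) ^ ((j : ℕ) - s))) : Bˣ) : B)) := fun j hj g => by
    have hpow : cN = ((u ^ (-(i * (p : ℤ) ^ ((j : ℕ) - s))) : Bˣ) : B) ^ p ^ (m - 1 - (j : ℕ)) := by
      rw [hcN, ← Units.val_pow_eq_pow_val, ← zpow_natCast (u ^ (-(i * (p : ℤ) ^ ((j : ℕ) - s)))),
        ← zpow_mul, ← hmult j hj]
      congr 2; ring
    constructor
    · intro hg
      obtain ⟨h, hh⟩ := WittFilLib.floor_one (π := PowerSeries.X) hprime hu g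
        (Nat.pow_pos hp0) (-N) hg
      refine ⟨h, hh.trans ?_⟩
      rw [← hmult j hj, ← mul_neg, Int.mul_ediv_cancel_left _ (by exact_mod_cast (Nat.pow_pos hp0).ne')]
    · rintro ⟨h, hh⟩
      refine ⟨h ^ p ^ (m - 1 - (j : ℕ)), ?_⟩
      rw [map_pow, hh, mul_pow, hpow]
  have hshift : ∀ (c : WittVector p S) (j : Fin m), s ≤ (j : ℕ) →
      (WittFil.vShiftTeich p m s ((u ^ i : Bˣ) : B) c).coeff j *
          ((u ^ (-(i * (p : ℤ) ^ ((j : ℕ) - s))) : Bˣ) : B) =
        algebraMap (PowerSeries S) B (PowerSeries.C (c.coeff ((j : ℕ) - s))) := fun c j hj => by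
    rw [WittFilLib.vShiftTeich_coeff, if_neg (not_lt.2 hj), mul_assoc, ← Units.val_pow_eq_pow_val,
      ← Units.val_mul, ← zpow_natCast (u ^ i), ← zpow_mul, ← zpow_add,
      show i * ((p ^ ((j : ℕ) - s) : ℕ) : ℤ) + -(i * (p : ℤ) ^ ((j : ℕ) - s)) = 0 by push_cast; ring,
      zpow_zero, Units.val_one, mul_one, IsScalarTower.algebraMap_apply S (PowerSeries S) B]
    rfl
  have h1 : ∀ c : WittVector p S,
      WittFil.vShiftTeich p m s ((u ^ i : Bˣ) : B) c ∈ WittFil.fil p m (A := PowerSeries S) cN := by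
    intro c j
    by_cases hj : (j : ℕ) < s
    · rw [WittFilLib.vShiftTeich_coeff, if_pos hj, zero_pow (pow_ne_zero _ hp0.ne'), zero_mul]
      exact Subring.zero_mem _
    · exact (hge j (not_lt.1 hj) _).2 ⟨_, (hshift c j (not_lt.1 hj)).symm⟩
  refine ⟨h1, fun c => ⟨fun h => ?_, fun h j => ?_⟩, fun y hy => ?_⟩
  · ext k
    rw [WittVector.coeff_truncate, TruncatedWittVector.coeff_zero]
    have hk := k.2
    set j : Fin m := ⟨(k : ℕ) + s, by omega⟩ with hjdef
    have hjk : (j : ℕ) - s = k := by simp [hjdef]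
    obtain ⟨b, hb⟩ := h j
    have hs' : s ≤ (j : ℕ) := by simp [hjdef]
    have hgeq := (hshift c j hs')
    rw [hjk] at hgeq
    set q := p ^ (m - 1 - (j : ℕ))
    have hq : ((u ^ (-(i * (p : ℤ) ^ (k : ℕ))) : Bˣ) : B) ^ q = cN := by
      rw [hcN, ← Units.val_pow_eq_pow_val, ← zpow_natCast, ← zpow_mul, ← hmult j hs', hjk]
      congr 2; ring
    have hX : PowerSeries.X ∣ (PowerSeries.C (c.coeff k)) ^ q := ⟨b, hinj (by
      rw [map_pow, ← hgeq, mul_pow, hq, map_mul, hb, ← hstep]; ring)⟩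
    have := hprime.dvd_of_dvd_pow hX
    rwa [PowerSeries.X_dvd_iff, PowerSeries.constantCoeff_C] at this
  · rw [WittFilLib.vShiftTeich_coeff]
    by_cases hj : (j : ℕ) < s
    · rw [if_pos hj, zero_pow (pow_ne_zero _ hp0.ne'), zero_mul]
      exact Subring.zero_mem _
    · have hjm := j.2
      have := congrArg (TruncatedWittVector.coeff ⟨(j : ℕ) - s, by omega⟩) h
      rw [WittVector.coeff_truncate, TruncatedWittVector.coeff_zero] at this
      rw [if_neg hj, show c.coeff ((j : ℕ) - s) = 0 from this, map_zero, zero_mul,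
        zero_pow (pow_ne_zero _ hp0.ne'), zero_mul]
      exact Subring.zero_mem _
  · let σ := WittFilLib.setting (A := PowerSeries S) (B := B) (π := PowerSeries.X) h0 hsf
    obtain ⟨X, rfl⟩ := WittVector.truncate_surjective p m B y
    -- a root compatible with the coordinates
    obtain ⟨t, ht⟩ : ∃ t : σ.L, t ^ p ^ s = σ.φ ((u ^ (-i) : Bˣ) : B) :=
      IsAlgClosed.exists_pow_nat_eq _ (Nat.pow_pos hp0)
    have hroot : σ.IsRoot (p := p) m t cN := by
      show t ^ p ^ (m - 1) = _
      rw [show p ^ (m - 1) = p ^ s * p ^ (m - 1 - s) by rw [← pow_add]; congr 1; omega, pow_mul, ht,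
        ← map_pow, ← Units.val_pow_eq_pow_val, hcN, ← zpow_natCast, ← zpow_mul]
      congr 3; rw [hN]; push_cast; ring
    have htj : ∀ j : Fin m, s ≤ (j : ℕ) →
        t ^ p ^ (j : ℕ) = σ.φ ((u ^ (-(i * (p : ℤ) ^ ((j : ℕ) - s))) : Bˣ) : B) := fun j hj => by
      rw [show p ^ (j : ℕ) = p ^ s * p ^ ((j : ℕ) - s) by rw [← pow_add, Nat.add_sub_cancel' hj],
        pow_mul, ht, ← map_pow, ← Units.val_pow_eq_pow_val, ← zpow_natCast, ← zpow_mul]
      congr 3; push_cast; ring
    choose h hh using fun (k : ℕ) =>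
      show ∃ h : PowerSeries S, ∀ (hk : k + s < m), algebraMap (PowerSeries S) B h =
          X.coeff (k + s) * ((u ^ (-(i * (p : ℤ) ^ k)) : Bˣ) : B) from
        if hk : k + s < m then by
          obtain ⟨h, hh⟩ := (hge ⟨k + s, hk⟩ (by simp) _).1 (hy ⟨k + s, hk⟩)
          rw [WittVector.coeff_truncate] at hh
          exact ⟨h, fun _ => by simpa using hh⟩
        else ⟨0, fun h' => absurd h' hk⟩
    refine ⟨WittVector.mk p fun k => PowerSeries.constantCoeff (h k), ?_⟩
    set c : WittVector p S := WittVector.mk p fun k => PowerSeries.constantCoeff (h k) with hcdef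
    obtain ⟨Y, hY⟩ := WittVector.truncate_surjective p m B
      (WittFil.vShiftTeich p m s ((u ^ i : Bˣ) : B) c)
    rw [← hY]
    refine WittFilLib.sub_mem_of_congr (π := PowerSeries.X) σ
      (IsLocalization.Away.algebraMap_isUnit _) hsf hinj m hstep hroot hy (hY ▸ h1 c) fun j => ?_
    have hYj : Y.coeff (j : ℕ) = (WittFil.vShiftTeich p m s ((u ^ i : Bˣ) : B) c).coeff j := by
      rw [← hY, WittVector.coeff_truncate]
    by_cases hj : (j : ℕ) < s
    · have hz : Y.coeff (j : ℕ) = 0 := by rw [hYj, WittFilLib.vShiftTeich_coeff, if_pos hj]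
      obtain ⟨b, hb⟩ := hlt j hj _ (hy j)
      rw [WittVector.coeff_truncate] at hb
      refine ⟨p ^ (m - 1 - (j : ℕ)), algebraMap (PowerSeries S) σ.L b, isIntegral_algebraMap, ?_⟩
      rw [hz, map_zero, zero_mul, sub_zero, WittFilLib.scaled_pow σ hroot, ← hstep, mul_left_comm,
        map_mul, AlgHom.commutes, ← hb, AlgHom.commutes]
    · rw [not_lt] at hj
      have hjm := j.2
      obtain ⟨d, hd⟩ : PowerSeries.X ∣
          h ((j : ℕ) - s) - PowerSeries.C (PowerSeries.constantCoeff (h ((j : ℕ) - s))) := by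
        rw [PowerSeries.X_dvd_iff]; simp
      refine ⟨1, algebraMap (PowerSeries S) σ.L d, isIntegral_algebraMap, ?_⟩
      have e1 := hh ((j : ℕ) - s) (by omega)
      rw [Nat.sub_add_cancel hj] at e1
      rw [pow_one, htj j hj, ← map_mul, ← map_mul, ← map_sub, ← e1, hYj, hshift c j hj,
        hcdef, WittVector.coeff_mk, ← map_sub, hd, AlgHom.commutes, map_mul]

end Groth.Agent.S19268
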