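import Groth.Statements.S19270
import Groth.Agent.CAlgH.FieldSmooth
import Mathlib.Tactic
import Groth.Agent.CAlgH.FieldSmooth

set_option linter.all false

set_option autoImplicit false
universe u
open CAlg

open IsLocalRing

namespace Groth.Agent.S19270

variable (p : ℕ) [Fact p.Prime] {A : Type u} [CommRing A]

theorem exists_derivation_cotangent [IsLocalRing A] [CharP A p] :
    ∃ D : Derivation ℤ A (maximalIdeal A).Cotangent,
      ∀ x : maximalIdeal A, D (x : A) = (maximalIdeal A).toCotangent x := by
  let m := maximalIdeal A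
  let : Algebra (ZMod p) A := ZMod.algebra A p
  have : Algebra.FormallySmooth (ZMod p) (A ⧸ m) := by
    let := Ideal.Quotient.field m
    exact Groth.Agent.CAlgH.formallySmooth_of_perfectField_any (ZMod p) (A ⧸ m)
  let B := A ⧸ m ^ 2
  have hnil : IsNilpotent m.cotangentIdeal := ⟨2, Ideal.cotangentIdeal_square m⟩
  have hle : m.cotangentIdeal = m.map (Ideal.Quotient.mk (m ^ 2)) :=
    le_antisymm (fun z hz => by
      obtain ⟨a, ha, rfl⟩ := hz
      exact Ideal.mem_map_of_mem _ ha) (Ideal.map_le_iff_le_comap.mpr fun a ha => ⟨a, ha, rfl⟩)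
  let g : (A ⧸ m) →ₐ[ZMod p] B ⧸ m.cotangentIdeal :=
    Ideal.Quotient.liftₐ m ((Ideal.Quotient.mkₐ (ZMod p) m.cotangentIdeal).comp
      (Ideal.Quotient.mkₐ (ZMod p) (m ^ 2))) (fun a ha =>
        Ideal.Quotient.eq_zero_iff_mem.mpr ⟨a, ha, rfl⟩)
  let s := Algebra.FormallySmooth.lift m.cotangentIdeal hnil g
  let q := Ideal.Quotient.mk (m ^ 2)
  let σ : A →+* B := s.toRingHom.comp (Ideal.Quotient.mk m)
  have hmem : ∀ a, q a - σ a ∈ m.cotangentIdeal := fun a => by
    rw [← Ideal.Quotient.eq]
    exact (Algebra.FormallySmooth.mk_lift m.cotangentIdeal hnil g (Ideal.Quotient.mk m a)).symm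
  let E := m.cotangentEquivIdeal
  let L : A →ₗ[ℤ] m.Cotangent :=
    (AddMonoidHom.mk' (fun a => E.symm ⟨q a - σ a, hmem a⟩) (fun a b => by
      rw [← map_add]; congr 1; apply Subtype.ext; simp only [map_add, Submodule.coe_add]; abel)).toIntLinearMap
  refine ⟨Derivation.mk' L fun a b => ?_, fun x => ?_⟩
  · show E.symm _ = a • E.symm _ + b • E.symm _
    rw [← map_smul, ← map_smul, ← map_add]
    congr 1
    apply Subtype.ext
    show q (a * b) - σ (a * b) = q a * (q b - σ b) + q b * (q a - σ a)
    have h2 : (q a - σ a) * (q b - σ b) = 0 := by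
      have := Ideal.mul_mem_mul (hmem a) (hmem b)
      rwa [← pow_two, Ideal.cotangentIdeal_square, Ideal.mem_bot] at this
    rw [map_mul, map_mul]
    linear_combination -h2
  · show E.symm _ = _
    rw [← Ideal.cotangentEquivIdeal_symm_apply m x.1 x.2]
    congr 1
    apply Subtype.ext
    have : σ x.1 = 0 := by
      show s (Ideal.Quotient.mk m x.1) = 0
      rw [Ideal.Quotient.eq_zero_iff_mem.mpr x.2, map_zero]
    show q x.1 - σ x.1 = q x.1
    rw [this, sub_zero]

open TensorProduct in
theorem exists_basis_extending [IsLocalRing A] {M : Type u} [AddCommGroup M] [Module A M]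
    [Module.Free A M] [Module.Finite A M] {N : ℕ} (w : Fin N → M)
    (f : M →ₗ[A] (maximalIdeal A).Cotangent)
    (h : LinearIndependent (A ⧸ maximalIdeal A) (fun i => f (w i))) :
    ∃ (ι : Type u) (b : Module.Basis ι A M) (e : Fin N ↪ ι), ∀ i, b (e i) = w i := by
  classical
  let k := A ⧸ maximalIdeal A
  let : Field k := Ideal.Quotient.field _
  let mk1 := TensorProduct.mk A k M 1
  let F : (k ⊗[A] M) →ₗ[k] (maximalIdeal A).Cotangent :=
    TensorProduct.AlgebraTensorModule.lift
      ((LinearMap.toSpanSingleton k (M →ₗ[A] (maximalIdeal A).Cotangent) f))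
  have hind : LinearIndependent k (fun i => mk1 (w i)) := by
    refine LinearIndependent.of_comp F ?_
    have e : (⇑F ∘ fun i => mk1 (w i)) = fun i => f (w i) := funext fun i => by simp [F, mk1]
    rw [e]; exact h
  let b₀ := Module.Basis.sumExtend hind
  choose lift hlift using fun z : k ⊗[A] M =>
    TensorProduct.mk_surjective A M k Ideal.Quotient.mk_surjective z
  let v : _ → M := fun i => Sum.elim w (fun j => lift (b₀ (Sum.inr j))) i
  have hv : ∀ i, mk1 (v i) = b₀ i := by
    rintro (i | j)
    · show mk1 (w i) = _
      simp [b₀, Module.Basis.sumExtend]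
      rfl
    · exact hlift _
  have hbij : Function.Bijective (Finsupp.linearCombination A v) := by
    refine Module.IsLocalRing.linearCombination_bijective_of_flat v ?_
    have : ⇑(TensorProduct.mk A k M 1) ∘ v = ⇑b₀ := funext hv
    show Function.Bijective (Finsupp.linearCombination k (⇑(TensorProduct.mk A k M 1) ∘ v))
    rw [this]
    rw [← b₀.coe_repr_symm]
    exact b₀.repr.symm.bijective
  let b := Module.Basis.mk (R := A) (v := v) hbij.1
    (by rw [← Finsupp.range_linearCombination, LinearMap.range_eq_top.mpr hbij.2])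
  exact ⟨_, b.reindex Equiv.ulift.{u}.symm, ⟨fun i => ⟨Sum.inl i⟩, fun i j h => by simpa using h⟩,
    fun i => by
      rw [Module.Basis.reindex_apply]
      show b (Sum.inl i) = w i
      exact Module.Basis.mk_apply _ _ (Sum.inl i)⟩

theorem indep_cotangent [IsRegularLocalRing A] {N : ℕ} (x : Fin N → A)
    (hx : Ideal.span (Set.range x) = maximalIdeal A) (hN : ringKrullDim A = (N : WithBot ℕ∞)) :
    LinearIndependent (A ⧸ maximalIdeal A) (fun i => (maximalIdeal A).toCotangent
      ⟨x i, hx ▸ Ideal.subset_span ⟨i, rfl⟩⟩) := by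
  let g := fun i => (maximalIdeal A).toCotangent ⟨x i, hx ▸ Ideal.subset_span ⟨i, rfl⟩⟩
  have hsp : ⊤ ≤ Submodule.span (ResidueField A) (Set.range g) := by
    have h1 : Submodule.span A (Set.range g) = ⊤ := by
      have hg : Set.range g = (maximalIdeal A).toCotangent ''
          (Set.range fun i => (⟨x i, hx ▸ Ideal.subset_span ⟨i, rfl⟩⟩ : maximalIdeal A)) := by
        rw [← Set.range_comp]; rfl
      rw [hg, Submodule.span_image, show Submodule.span A (Set.range fun i =>
          (⟨x i, hx ▸ Ideal.subset_span ⟨i, rfl⟩⟩ : maximalIdeal A)) = ⊤ from ?_, Submodule.map_top,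
        LinearMap.range_eq_top.mpr (Ideal.toCotangent_surjective _)]
      apply Submodule.map_injective_of_injective (maximalIdeal A).injective_subtype
      rw [← Submodule.span_image, ← Set.range_comp, Submodule.map_top, Submodule.range_subtype]
      exact hx
    intro z _
    exact Submodule.span_subset_span A (ResidueField A) _ (h1 ▸ Submodule.mem_top)
  have hfr : Module.finrank (ResidueField A) (CotangentSpace A) = N := by
    have h2 := IsRegularLocalRing.spanFinrank_maximalIdeal (R := A)
    rw [hN, spanFinrank_maximalIdeal_eq_finrank_cotangentSpace] at h2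
    exact_mod_cast h2
  exact linearIndependent_of_top_le_span_of_card_eq_finrank hsp (by rw [Fintype.card_fin]; exact hfr.symm)

open IsLocalRing in
/-- Let A be a regular local ring of prime characteristic p, of Krull dimension N, with maximal ideal
generated by x_1, …, x_N, and assume that the module Ω_A of absolute Kähler differentials of A
(differentials relative to ℤ, equivalently relative to the prime field) is a free A-module of finite
rank. Then dx_1, …, dx_N are part of a basis of Ω_A: there exist a basis b of Ω_A and an injection e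
of the indices 1, …, N into the index type of b with b (e i) = d(x_i) for all i. (In the published
statement A is a regular local F-finite algebra over the prime field and the freeness and finiteness
of Ω_A form the first assertion, taken there from the literature; here they are hypotheses.) -/
theorem result (p : ℕ) [Fact p.Prime]
    {A : Type u} [CommRing A] [IsRegularLocalRing A] [CharP A p]
    [Module.Free A (KaehlerDifferential ℤ A)] [Module.Finite A (KaehlerDifferential ℤ A)]
    {N : ℕ} (x : Fin N → A) (hx : Ideal.span (Set.range x) = maximalIdeal A)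
    (hN : ringKrullDim A = (N : WithBot ℕ∞)) :
    ∃ (ι : Type u) (b : Module.Basis ι A (KaehlerDifferential ℤ A)) (e : Fin N ↪ ι),
      ∀ i : Fin N, b (e i) = KaehlerDifferential.D ℤ A (x i) := by
  obtain ⟨D, hD⟩ := exists_derivation_cotangent p (A := A)
  refine exists_basis_extending _ D.liftKaehlerDifferential ?_
  have e : (fun i => D.liftKaehlerDifferential (KaehlerDifferential.D ℤ A (x i))) =
      fun i => (maximalIdeal A).toCotangent ⟨x i, hx ▸ Ideal.subset_span ⟨i, rfl⟩⟩ := by
    funext i
    rw [Derivation.liftKaehlerDifferential_comp_D]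
    exact hD ⟨x i, _⟩
  rw [e]
  exact indep_cotangent x hx hN

end Groth.Agent.S19270
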