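import Groth.Statements.S19272
import Groth.Agent.WittFilLib.Basic

set_option autoImplicit false
universe u
open WittFil

namespace Groth.Agent.S19272

/-- Let A be a unique factorisation domain of characteristic p, x_1, …, x_r pairwise non-associate prime
elements of A, B = A[1/(x_1⋯x_r)] with u_i the unit of B defined by x_i, m ≥ 0, and n ∈ ℤ^r with n_i
< 0 for every i. Then every truncated p-typical Witt vector of length m over B lying in the filtered
piece cut out by ∏ u_i ^ n_i (every coordinate y_j has y_j ^ (p ^ (m−1−j)) · ∏ u_i ^ n_i in the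
image of A) has all its coordinates in the image of the ideal (x_1⋯x_r)·A. (The published item,
stated for the filtered de Rham–Witt pieces in all degrees over a regular local ring, says only that
such vectors have all coordinates in A; this row states the divisibility of every coordinate by
x_1⋯x_r that its proof establishes, in degree zero, for a unique factorisation domain in place of a
regular local ring.) -/
theorem result (p : ℕ) [Fact p.Prime] {A B : Type u} [CommRing A] [IsDomain A]
    [UniqueFactorizationMonoid A] [CharP A p] [CommRing B] [Algebra A B] {r : ℕ} (x : Fin r → A)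
    (hx : ∀ i, Prime (x i)) (hxa : ∀ i j, Associated (x i) (x j) → i = j)
    [IsLocalization.Away (∏ i, x i) B] (u : Fin r → Bˣ)
    (hu : ∀ i, (u i : B) = algebraMap A B (x i)) (m : ℕ) (n : Fin r → ℤ) (hn : ∀ i, n i < 0)
    (a : TruncatedWittVector p m B) (ha : a ∈ WittFil.fil p m (A := A) (WittFil.zmon u n))
    (j : Fin m) :
    ∃ b : A, TruncatedWittVector.coeff j a = algebraMap A B ((∏ i, x i) * b) := by
  obtain ⟨h0, hsf, hsfi, hdiv⟩ := WittFilLib.ufd_hyps hx hxa
  set P := p ^ (m - 1 - (j : ℕ))
  have hP : 0 < P := Nat.pow_pos (Fact.out : p.Prime).pos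
  obtain ⟨z, hz⟩ := WittFilLib.floor_mem h0 hsf hsfi hdiv hu _ hP n (ha j)
  let e : Fin r → ℕ := fun i => (-(n i / (P : ℤ))).toNat
  have hk : ∀ i, n i / (P : ℤ) < 0 := fun i =>
    Int.ediv_neg_of_neg_of_pos (hn i) (by exact_mod_cast hP)
  have he : (fun i => n i / (P : ℤ)) + (fun i => ((e i : ℕ) : ℤ)) = 0 := by
    funext i
    have := hk i
    simp only [Pi.add_apply, Pi.zero_apply, e]
    omega
  obtain ⟨q, hq⟩ : ∏ i, x i ∣ ∏ i, x i ^ e i :=
    Finset.prod_dvd_prod_of_dvd _ _ fun i _ => dvd_pow_self _ (by have := hk i; simp only [e]; omega)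
  refine ⟨q * z, ?_⟩
  rw [← mul_assoc, ← hq, map_mul, hz, ← WittFilLib.zmon_nat x u hu, mul_left_comm,
    ← WittFilLib.zmon_add, add_comm (fun i => ((e i : ℕ) : ℤ)), he]
  simp [WittFil.zmon]

end Groth.Agent.S19272
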