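import Groth.Statements.S19273
import Mathlib
-- import your own Groth.Agent.* helpers here

set_option autoImplicit false
universe u
open CAlg

namespace Groth.Agent.S19273

open KaehlerDifferential in
/-- Let A be an integral domain of prime characteristic p, x_1, …, x_N elements of A, r ≤ N, B =
A[1/(x_1⋯x_r)] with u_i the unit of B defined by x_i for i ≤ r, and suppose that the module Ω_A of
absolute Kähler differentials of A is free with a basis b indexed by {1, …, N} ⊔ ι whose i-th vector
is d(x_i) for i ≤ N. Then the module of logarithmic 1-forms — the A-submodule of Ω_B spanned by the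
image of Ω_A and the forms u_i⁻¹ · d(x_i), i ≤ r — is a free A-module: it has a basis indexed by {1,
…, N} ⊔ ι whose vector at i ≤ r is u_i⁻¹ · d(x_i), at r < i ≤ N is d(x_i), and at k ∈ ι is the image
of b_k. (In the published statement A is a regular local F-finite algebra over the prime field with
maximal ideal (x_1, …, x_N), the basis of Ω_A comes from the preceding lemma, and the assertion
covers the logarithmic q-forms for all q together with their identification with the log de Rham
complex of the log ring; only the degree-one freeness is stated here, from the properties of A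
actually used.) -/
theorem result (p : ℕ) [Fact p.Prime]
    {A B : Type u} [CommRing A] [IsDomain A] [CharP A p] [CommRing B] [Algebra A B] {r N : ℕ}
    (hr : r ≤ N) (x : Fin N → A) [IsLocalization.Away (∏ i : Fin r, x (Fin.castLE hr i)) B]
    (u : Fin r → Bˣ) (hu : ∀ i, (u i : B) = algebraMap A B (x (Fin.castLE hr i)))
    {ι : Type u} (b : Module.Basis (Fin N ⊕ ι) A (Ω[A⁄ℤ])) (hb : ∀ i, b (Sum.inl i) = D ℤ A (x i)) :
    ∃ e : Module.Basis (Fin N ⊕ ι) A
        (W4c6katofilta.logForms1 (fun i : Fin r => x (Fin.castLE hr i)) u),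
      (∀ i : Fin r, (e (Sum.inl (Fin.castLE hr i)) : Ω[B⁄ℤ]) =
          ((u i)⁻¹ : Bˣ) • KaehlerDifferential.map ℤ ℤ A B (D ℤ A (x (Fin.castLE hr i)))) ∧
      (∀ i : Fin N, r ≤ (i : ℕ) →
          (e (Sum.inl i) : Ω[B⁄ℤ]) = KaehlerDifferential.map ℤ ℤ A B (D ℤ A (x i))) ∧
      (∀ k : ι, (e (Sum.inr k) : Ω[B⁄ℤ]) = KaehlerDifferential.map ℤ ℤ A B (b (Sum.inr k))) := by
  classical
  have hπ : (∏ i : Fin r, x (Fin.castLE hr i)) ≠ 0 := by
    refine Finset.prod_ne_zero_iff.2 fun i _ h0 => ?_
    have := hb (Fin.castLE hr i)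
    rw [h0, map_zero] at this
    exact b.ne_zero _ this
  have hM : Submonoid.powers (∏ i : Fin r, x (Fin.castLE hr i)) ≤ nonZeroDivisors A :=
    powers_le_nonZeroDivisors_of_noZeroDivisors hπ
  have hAB : Function.Injective (algebraMap A B) := IsLocalization.injective B hM

  let m : Ω[A⁄ℤ] →ₗ[A] Ω[B⁄ℤ] := KaehlerDifferential.map ℤ ℤ A B
  haveI : IsLocalizedModule (Submonoid.powers (∏ i : Fin r, x (Fin.castLE hr i))) m :=
    KaehlerDifferential.isLocalizedModule_map ℤ _ _ _
  -- scalars
  let c : Fin N ⊕ ι → Bˣ := Sum.elim (fun i => if h : (i : ℕ) < r then (u ⟨i, h⟩)⁻¹ else 1) (fun _ => 1)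
  let e : Fin N ⊕ ι → Ω[B⁄ℤ] := fun t => c t • m (b t)
  let bB : Module.Basis (Fin N ⊕ ι) B (Ω[B⁄ℤ]) := b.ofIsLocalizedModule B (Submonoid.powers (∏ i : Fin r, x (Fin.castLE hr i))) m
  have hbB : ∀ t, bB t = m (b t) := fun t => by simp [bB]
  have hli : LinearIndependent A e := by
    have h1 : LinearIndependent B e := by
      have := bB.linearIndependent.units_smul c
      rwa [show (c • ⇑bB) = e from funext fun t => by simp [e, hbB]] at this
    exact h1.restrict_scalars (by
      intro a a' h
      exact hAB (by simpa [Algebra.smul_def] using h))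
  have hspan : W4c6katofilta.logForms1 (fun i : Fin r => x (Fin.castLE hr i)) u = Submodule.span A (Set.range e) := by
    refine le_antisymm (Submodule.span_le.2 (Set.union_subset ?_ ?_)) (Submodule.span_le.2 ?_)
    · rintro _ ⟨w, rfl⟩
      rw [← b.linearCombination_repr w, Finsupp.linearCombination_apply]
      show m _ ∈ _
      rw [map_finsuppSum]
      refine Submodule.sum_mem _ fun t _ => ?_
      dsimp only
      rw [map_smul]
      refine Submodule.smul_mem _ _ ?_
      by_cases ht : ∃ i : Fin r, t = Sum.inl (Fin.castLE hr i)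
      · obtain ⟨i, rfl⟩ := ht
        have : m (b (Sum.inl (Fin.castLE hr i))) = x (Fin.castLE hr i) • e (Sum.inl (Fin.castLE hr i)) := by
          simp only [e, c, Sum.elim_inl, Fin.val_castLE, i.2, dif_pos, Units.smul_def]
          rw [← algebraMap_smul B (x (Fin.castLE hr i)), smul_smul, ← hu, Fin.eta, Units.mul_inv, one_smul]
        rw [this]
        exact Submodule.smul_mem _ _ (Submodule.subset_span ⟨_, rfl⟩)
      · have hc : c t = 1 := by
          rcases t with i | k
          · have hi : ¬ (i : ℕ) < r := fun h => ht ⟨⟨i, h⟩, rfl⟩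
            simp [c, hi]
          · rfl
        exact Submodule.subset_span ⟨t, by simp [e, hc]⟩
    · rintro _ ⟨i, rfl⟩
      refine Submodule.subset_span ⟨Sum.inl (Fin.castLE hr i), ?_⟩
      simp [e, c, i.2, hb, m]
    · rintro _ ⟨t, rfl⟩
      rcases t with i | k
      · by_cases hi : (i : ℕ) < r
        · refine Submodule.subset_span (Or.inr ⟨⟨i, hi⟩, ?_⟩)
          simp [e, c, hi, hb, m]
        · refine Submodule.subset_span (Or.inl ⟨b (Sum.inl i), ?_⟩)
          simp [e, c, hi, m]
      · refine Submodule.subset_span (Or.inl ⟨b (Sum.inr k), ?_⟩)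
        simp [e, c, m]
  refine ⟨(Module.Basis.span hli).map (LinearEquiv.ofEq _ _ hspan.symm), fun i => ?_, fun i hi => ?_, fun k => ?_⟩
  all_goals rw [Module.Basis.map_apply, LinearEquiv.coe_ofEq_apply, Module.Basis.span_apply]
  · simp [e, c, i.2, hb, m]
  · simp [e, c, not_lt.2 hi, hb, m]
  · simp [e, c, m]

end Groth.Agent.S19273
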