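import Groth.Statements.S19274
import Groth.Agent.WittFilLib.One
import Mathlib.RingTheory.WittVector.Domain

set_option autoImplicit false
universe u
open WittFil

namespace Groth.Agent.S19274

/-- Let A be a unique factorisation domain of characteristic p, x a prime element of A, B = A[1/x] with
u the unit of B defined by x, m ≥ 1, and n an integer NOT divisible by p^m. For e in B and k ≥ 0
write fil_k(e) for the set of truncated p-typical Witt vectors of length k over B whose j-th
coordinate y_j satisfies y_j ^ (p ^ (k−1−j)) · e ∈ A for all j < k (the filtered piece; fil_k(u^n)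
is the piece of index n). Then fil_{m+1}(u^n) is contained in fil_{m+1}(u^(n−1)) + V(fil_m(u^n))
(the reverse inclusion is immediate): every a in fil_{m+1}(u^n) can be written a = b + V(y) with b
in fil_{m+1}(u^(n−1)) and y a Witt vector over B whose length-m truncation lies in fil_m(u^n), V(y)
being truncated to length m+1. (In the source A is a henselian discrete valuation ring, n = p^r·l >
1 with p not dividing l, and the condition reads m ≥ r + 1.) -/
theorem result (p : ℕ) [Fact p.Prime]
    {A B : Type u} [CommRing A] [IsDomain A] [UniqueFactorizationMonoid A] [CharP A p]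
    [CommRing B] [Algebra A B] (x : A) (hx : Prime x) [IsLocalization.Away x B] (u : Bˣ)
    (hu : (u : B) = algebraMap A B x) (m : ℕ) (hm : 0 < m) (n : ℤ) (hn : ¬ ((p : ℤ) ^ m ∣ n)) :
    ∀ a ∈ WittFil.fil p (m + 1) (A := A) ((u ^ n : Bˣ) : B),
      ∃ b ∈ WittFil.fil p (m + 1) (A := A) ((u ^ (n - 1) : Bˣ) : B),
        ∃ y : WittVector p B,
          WittVector.truncate m y ∈ WittFil.fil p m (A := A) ((u ^ n : Bˣ) : B) ∧
            a = b + WittVector.truncate (m + 1) (WittVector.verschiebung y) := by
  intro a ha
  obtain ⟨X, rfl⟩ := WittVector.truncate_surjective p (m + 1) B a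
  refine ⟨WittVector.truncate (m + 1) (WittVector.init 1 X), fun j => ?_, X.shift 1, fun j => ?_, ?_⟩
  · rw [WittVector.coeff_truncate]
    refine Fin.cases ?_ (fun j => ?_) j
    · have h := ha 0
      rw [WittVector.coeff_truncate] at h
      simp only [Fin.val_zero, Nat.sub_zero, Nat.add_sub_cancel] at h ⊢
      rw [show (WittVector.init 1 X).coeff 0 = X.coeff 0 by simp [WittVector.init, WittVector.select]]
      exact WittFilLib.sharpen (π := x) hx hu _ (Nat.pow_pos (Fact.out : p.Prime).pos) n
        (by rwa [Nat.cast_pow]) h
    · rw [show (WittVector.init 1 X).coeff ((j.succ : Fin (m + 1)) : ℕ) = 0 by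
        simp [WittVector.init, WittVector.select]]
      rw [zero_pow (pow_ne_zero _ (Fact.out : p.Prime).ne_zero), zero_mul]
      exact Subring.zero_mem _
  · have h := ha j.succ
    rw [WittVector.coeff_truncate, Fin.val_succ,
      show m + 1 - 1 - ((j : ℕ) + 1) = m - 1 - (j : ℕ) by omega] at h
    rw [WittVector.coeff_truncate, WittVector.shift_coeff, add_comm]
    exact h
  · rw [← map_add]
    congr 1
    have h1 := WittVector.init_add_tail X 1
    have h2 : WittVector.tail 1 X = WittVector.verschiebung (X.shift 1) := by
      ext k
      cases k with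
      | zero => simp [WittVector.tail, WittVector.select, WittVector.verschiebung_coeff_zero]
      | succ k =>
        simp [WittVector.tail, WittVector.select, WittVector.verschiebung_coeff_succ,
          WittVector.shift_coeff, add_comm]
    rw [← h2, h1]

end Groth.Agent.S19274
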