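import Groth.Statements.S19279
import Groth.Agent.CycQuotLib.Pi
open W4c6equivkfinstab CycQuotLib

set_option autoImplicit false
universe u v
open GrpAlg

namespace Groth.Agent.S19279

/-- Let `M` be a commutative group, `B₀` a subgroup of finite index and `Λ` a commutative ring in which
the index of `B₀` is invertible. Then the `Λ[M]`-linear map from `Λ[M ⧸ B₀]` to the product, over
the subgroups `B ⊇ B₀` with `M ⧸ B` cyclic, of the localizations of `Λ[M ⧸ B₀]` at the
multiplicative subsets of `Λ[M]` of elements with image `1` in `Λ[M ⧸ B]/(Φ_{|M/B|})`, with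
components the localization maps, is bijective. (In terms of group schemes: for a finite closed
subgroup T' = D(M/B₀) of the diagonalizable group with character group `M`, the representation ring
of T' with coefficients in `Λ` is the product of its localizations at the dual cyclic subgroups of
T'. The published statement has a split torus and `Λ = ℤ[1/|T'|]`; here `M` is any commutative group
and `Λ` any commutative ring in which the order of T' is invertible.) -/
theorem result (Λ : Type u) [CommRing Λ]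
    (M : Type v) [AddCommGroup M] (B₀ : AddSubgroup M) [B₀.FiniteIndex]
    (hu : IsUnit ((B₀.index : ℕ) : Λ)) :
    Function.Bijective (LinearMap.pi (R := AddMonoidAlgebra Λ M)
      fun B : {B : AddSubgroup M // B₀ ≤ B ∧ IsAddCyclic (M ⧸ B)} =>
        LocalizedModule.mkLinearMap (W4c6equivkfinstab.locSubmonoid Λ M B.1)
          (AddMonoidAlgebra Λ (M ⧸ B₀))) := by
  have hN : IsUnit ((Nat.card (M ⧸ B₀) : ℕ) : Λ) := hu
  set π := QuotientAddGroup.mk' B₀
  have hπ : Function.Surjective π := QuotientAddGroup.mk'_surjective B₀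
  have hmap : ∀ t : AddMonoidAlgebra Λ M,
      AddMonoidAlgebra.mapDomainRingHom Λ π t = quotMap Λ M B₀ t := fun t => rfl
  have hidx : ∀ B : {B : AddSubgroup M // B₀ ≤ B ∧ IsAddCyclic (M ⧸ B)},
      IsAddCyclic ((M ⧸ B₀) ⧸ B.1.map π) ∧ (B.1.map π).comap π = B.1 := by
    intro B
    have h : (B.1.map π).comap π = B.1 :=
      AddSubgroup.comap_map_eq_self (by rw [QuotientAddGroup.ker_mk']; exact B.2.1)
    refine ⟨(isAddCyclic_comap_iff π hπ _).1 ?_, h⟩
    exact (show ∀ C C' : AddSubgroup M, C = C' → IsAddCyclic (M ⧸ C') → IsAddCyclic (M ⧸ C) from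
      fun C C' e hc => by subst e; exact hc) _ _ h B.2.2
  -- elements of the localizing submonoid act as `1` on the corresponding component
  have hS : ∀ (B : {B : AddSubgroup M // B₀ ≤ B ∧ IsAddCyclic (M ⧸ B)}) (t : AddMonoidAlgebra Λ M),
      t ∈ locSubmonoid Λ M B.1 ↔
        cycQuotMap Λ (M ⧸ B₀) (B.1.map π) (quotMap Λ M B₀ t) = 1 := by
    intro B t
    show cycQuotMap Λ M B.1 t = 1 ↔ _
    rw [← sub_eq_zero, ← map_one (cycQuotMap Λ M B.1), ← map_sub]
    rw [(show ∀ (C C' : AddSubgroup M), C = C' → ∀ x,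
      (cycQuotMap Λ M C x = 0 ↔ cycQuotMap Λ M C' x = 0) from
      fun C C' e x => by subst e; rfl) _ _ (hidx B).2.symm,
      cycQuotMap_comap π hπ, map_sub, map_sub, map_one, map_one, hmap, sub_eq_zero]
  obtain ⟨hinj, hsurj⟩ := bijective_pi (M ⧸ B₀) hN
  constructor
  · rw [← LinearMap.ker_eq_bot, LinearMap.ker_eq_bot']
    intro z hz
    refine eq_zero_of_forall (M ⧸ B₀) hN z fun B' hB' => ?_
    have hle : B₀ ≤ B'.comap π := by
      intro x hx
      simp [π, (QuotientAddGroup.eq_zero_iff x).2 hx]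
    let B : {B : AddSubgroup M // B₀ ≤ B ∧ IsAddCyclic (M ⧸ B)} :=
      ⟨B'.comap π, hle, (isAddCyclic_comap_iff π hπ B').2 hB'⟩
    have hBB' : B.1.map π = B' := AddSubgroup.map_comap_eq_self_of_surjective hπ B'
    have h0 := congrFun hz B
    rw [Pi.zero_apply, LinearMap.pi_apply, LocalizedModule.mkLinearMap_apply,
      ← LocalizedModule.zero_mk 1, LocalizedModule.mk_eq] at h0
    obtain ⟨u, hu'⟩ := h0
    simp only [one_smul, smul_zero, Submonoid.smul_def] at hu'
    rw [smul_quot_def] at hu'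
    have h1 := (hS B u).1 u.2
    replace h1 := (show ∀ C C' : AddSubgroup (M ⧸ B₀), C = C' → ∀ x,
      cycQuotMap Λ (M ⧸ B₀) C x = 1 → cycQuotMap Λ (M ⧸ B₀) C' x = 1 from
      fun C C' e x hx => by subst e; exact hx) _ _ hBB' _ h1
    simpa [h1] using congrArg (cycQuotMap Λ (M ⧸ B₀) B') hu'
  · intro y
    choose zs hzs using fun B => LocalizedModule.induction_on
      (β := fun a => ∃ p : AddMonoidAlgebra Λ (M ⧸ B₀) × locSubmonoid Λ M B.1,
        LocalizedModule.mk p.1 p.2 = a) (fun m s => ⟨(m, s), rfl⟩) (y B)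
    obtain ⟨z, hz⟩ := hsurj fun B' => cycQuotMap Λ (M ⧸ B₀) B'.1
      (zs ⟨B'.1.comap π, fun x hx => by simp [π, (QuotientAddGroup.eq_zero_iff x).2 hx],
        (isAddCyclic_comap_iff π hπ B'.1).2 B'.2⟩).1
    refine ⟨z, funext fun B => ?_⟩
    rw [LinearMap.pi_apply, LocalizedModule.mkLinearMap_apply, ← hzs B, LocalizedModule.mk_eq]
    classical
    obtain ⟨ε, hε⟩ := hsurj (Pi.single ⟨B.1.map π, (hidx B).1⟩ 1)
    obtain ⟨t, rfl⟩ := quotMap_surjective B₀ ε
    have ht : t ∈ locSubmonoid Λ M B.1 := by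
      rw [hS]
      have := congrFun hε ⟨B.1.map π, (hidx B).1⟩
      rwa [Pi.single_eq_same] at this
    refine ⟨⟨t, ht⟩, hinj (funext fun C => ?_)⟩
    simp only [Submonoid.smul_def, one_smul, OneMemClass.coe_one, smul_quot_def, RingHom.pi_apply,
      map_mul]
    by_cases hC : C = ⟨B.1.map π, (hidx B).1⟩
    · subst hC
      rw [(hS B _).1 ((zs B).2).2, one_mul]
      congr 1
      have h1 := congrFun hz ⟨B.1.map π, (hidx B).1⟩
      simp only [RingHom.pi_apply] at h1
      rw [h1]
      have h2 : ∀ B₁ B₂ : {B : AddSubgroup M // B₀ ≤ B ∧ IsAddCyclic (M ⧸ B)},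
          B₁.1 = B₂.1 → (zs B₁).1 = (zs B₂).1 := fun B₁ B₂ e => by rw [Subtype.ext e]
      exact congrArg (cycQuotMap Λ (M ⧸ B₀) (B.1.map π)) (h2 ⟨_, _⟩ B (hidx B).2)
    · have := congrFun hε C
      rw [Pi.single_eq_of_ne hC, RingHom.pi_apply] at this
      rw [this, zero_mul, zero_mul]

end Groth.Agent.S19279
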