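import Groth.Statements.S19280
import Groth.Agent.HopfLib.GLnConj

set_option autoImplicit false
universe u
open CategoryTheory MonoidalCategory CartesianMonoidalCategory MonObj GrpObj AlgebraicGeometry
open AlgGrp

namespace Groth.Agent.S19280
open CoactBr Groth.Agent.HopfLib.SpPoints Groth.Agent.HopfLib.GLnDiag Groth.Agent.HopfLib.GLnConj

set_option maxHeartbeats 1000000 in
/-- Let `k` be a field with an algebraic closure `K`, `m ≥ 0`, `n > 0`, and let `σ`, `τ` be closed
subgroup schemes of `GL_{m,k}`, each isomorphic as a `k`-group scheme to `μ_n = D(ℤ/n)`. If after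
base change to `K` there are a `K`-point `g` of `GL_m` and an isomorphism `σ_K ≅ τ_K` through which
conjugation by `g` carries the inclusion of `σ_K` to that of `τ_K`, then there are already a
`k`-rational point of `GL_{m,k}` and an isomorphism `σ ≅ τ` with the same property. (This is the
first of the two rationality conditions, stated for all dual cyclic subgroups rather than only for
those with a fixed point on a given algebraic space, which is what the printed argument establishes
and which gives the printed statement for every action of `GL_m`.) -/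
theorem result (k : Type u) [Field k]
    (K : Type u) [Field K] [Algebra k K] [IsAlgClosure k K] (m n : ℕ) (hn : 0 < n)
    (σ τ : Over (Spec (CommRingCat.of k))) [GrpObj σ] [GrpObj τ]
    (i : σ ⟶ CoactBr.sp k (CoordGrp.GLn m k)) (j : τ ⟶ CoactBr.sp k (CoordGrp.GLn m k))
    [IsMonHom i] [IsMonHom j] (hi : IsClosedImmersion i.left) (hj : IsClosedImmersion j.left)
    (hσ : Red.IsSplitTorusWith (ZMod n) σ) (hτ : Red.IsSplitTorusWith (ZMod n) τ)
    (h : ∃ (g : 𝟙_ (Over (Spec (CommRingCat.of K))) ⟶
        Red.bc (Spec.map (CommRingCat.ofHom (algebraMap k K))) (CoactBr.sp k (CoordGrp.GLn m k)))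
      (φ : Red.bc (Spec.map (CommRingCat.ofHom (algebraMap k K))) σ ≅
        Red.bc (Spec.map (CommRingCat.ofHom (algebraMap k K))) τ),
      AGF.conjBy g ((Over.pullback (Spec.map (CommRingCat.ofHom (algebraMap k K)))).map i) =
        φ.hom ≫ (Over.pullback (Spec.map (CommRingCat.ofHom (algebraMap k K)))).map j) :
    ∃ (g : 𝟙_ (Over (Spec (CommRingCat.of k))) ⟶ CoactBr.sp k (CoordGrp.GLn m k)) (φ : σ ≅ τ),
      AGF.conjBy g i = φ.hom ≫ j := by
  classical
  haveI : NeZero n := ⟨hn.ne'⟩
  obtain ⟨g, φ, h⟩ := h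
  obtain ⟨eσ, heσ⟩ := exists_splitIso (k := k) hσ
  obtain ⟨eτ, heτ⟩ := exists_splitIso (k := k) hτ
  haveI : IsMonHom (eσ.hom ≫ i) := inferInstance
  haveI : IsMonHom (eτ.hom ≫ j) := inferInstance
  obtain ⟨gi, χ, hgi, hPi⟩ := exists_diag (mat (eσ.hom ≫ i)) (isUnit_det_mat _) (map_comul_mat _)
  obtain ⟨gj, ψ, hgj, hPj⟩ := exists_diag (mat (eτ.hom ≫ j)) (isUnit_det_mat _) (map_comul_mat _)
  haveI : Mono i := by
    haveI := hi
    exact Over.mono_of_mono_left i
  haveI : Mono j := by
    haveI := hj
    exact Over.mono_of_mono_left j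
  have hgenσ := closure_eq_top hgi hPi fun Q _ a b hab => by
    apply pt_injective
    rw [← cancel_mono (eσ.hom ≫ i)]
    apply mat_injective
    rw [mat_pt_comp, mat_pt_comp]; exact hab
  have hgenτ := closure_eq_top hgj hPj fun Q _ a b hab => by
    apply pt_injective
    rw [← cancel_mono (eτ.hom ≫ j)]
    apply mat_injective
    rw [mat_pt_comp, mat_pt_comp]; exact hab
  -- the hypothesis, evaluated at the universal `K[M]`-point
  let incl : MonoidAlgebra k (Multiplicative (ZMod n)) →ₐ[k] MonoidAlgebra K (Multiplicative (ZMod n)) :=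
    MonoidAlgebra.mapAlgHom _ (Algebra.ofId k K)
  let x := up (K := K) (pt incl ≫ eσ.hom)
  let w := algOf (down (x ≫ φ.hom) ≫ eτ.inv)
  let G : Matrix (Fin m) (Fin m) K := mat (down (unitIso.hom ≫ g))
  have hG : IsUnit G.det := isUnit_det_mat _
  have h1 : (mat (eτ.hom ≫ j)).map w * G.map C = G.map C * (mat (eσ.hom ≫ i)).map incl := by
    have h' := congrArg (fun y => down (x ≫ y)) h
    simp only [comp_conjBy, ← Category.assoc] at h'
    have hb : down x ≫ i = pt incl ≫ eσ.hom ≫ i := by rw [down_up, Category.assoc]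
    have hc : down (x ≫ φ.hom) ≫ j = pt w ≫ eτ.hom ≫ j := by
      rw [pt_algOf, Category.assoc, Iso.inv_hom_id_assoc]
    have ha : mat (down (toUnit (sp K (MonoidAlgebra K (Multiplicative (ZMod n)))) ≫ g)) = G.map C := by
      rw [toUnit_eq, Category.assoc, down_pt_comp, mat_pt_comp]
      rfl
    have h'' := congrArg (fun y => mat (y * down (toUnit (sp K (MonoidAlgebra K (Multiplicative (ZMod n)))) ≫ g))) h'
    rw [← down_mul, inv_mul_cancel_right, down_mul, down_map, down_map, hb, hc, mat_mul, mat_mul, mat_pt_comp,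
      mat_pt_comp, ha] at h''
    exact h''.symm
  -- the matrices are diagonal in suitable bases
  let d : Fin m → MonoidAlgebra K (Multiplicative (ZMod n)) := fun a => w (MonoidAlgebra.single (ψ a) 1)
  let G' : Matrix (Fin m) (Fin m) K := (gj.map (algebraMap k K))⁻¹ * G * gi.map (algebraMap k K)
  have hgiK : IsUnit (gi.map (algebraMap k K)).det := by
    have := hgi.map (algebraMap k K); rwa [RingHom.map_det] at this
  have hgjK : IsUnit (gj.map (algebraMap k K)).det := by
    have := hgj.map (algebraMap k K); rwa [RingHom.map_det] at this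
  have hG' : IsUnit G'.det := by
    rw [Matrix.det_mul, Matrix.det_mul]
    exact (((Matrix.isUnit_nonsing_inv_det_iff).2 hgjK).mul hG).mul hgiK
  have h2 : G'.map C * D (F := K) χ = Matrix.diagonal d * G'.map C := by
    let Gi := (gi.map (algebraMap k K)).map (C (F := K) (M := Multiplicative (ZMod n)))
    let Gj := (gj.map (algebraMap k K)).map (C (F := K) (M := Multiplicative (ZMod n)))
    have hi' : (mat (eσ.hom ≫ i)).map incl * Gi = Gi * D (F := K) χ := by
      have := congrArg (fun A : Matrix (Fin m) (Fin m) _ => A.map incl) hPi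
      simp only [Matrix.map_mul] at this
      have e1 : (gi.map (C (F := k))).map incl = Gi := by
        ext a b : 1
        simp [Gi, incl]
      have e2 : (D (F := k) χ).map incl = D (F := K) χ := by
        rw [show (D (F := k) χ).map incl = _ from map_D_eq incl.toRingHom χ]
        congr 1
        funext a
        simp [incl]
      rwa [e1, e2] at this
    have hj' : (mat (eτ.hom ≫ j)).map w * Gj = Gj * Matrix.diagonal d := by
      have := congrArg (fun A : Matrix (Fin m) (Fin m) _ => A.map w) hPj
      simp only [Matrix.map_mul] at this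
      have e1 : (gj.map (C (F := k))).map w = Gj := by
        ext a b : 1
        simp only [Gj, Matrix.map_apply, C, AlgHom.commutes]
        rw [← IsScalarTower.algebraMap_apply]
      rwa [e1, show (D (F := k) ψ).map w = Matrix.diagonal d from map_D_eq w.toRingHom ψ] at this
    have hGj : Gj * G'.map C = G.map C * Gi := by
      rw [← Matrix.map_mul, ← Matrix.map_mul]
      congr 1
      rw [← Matrix.mul_assoc, ← Matrix.mul_assoc, Matrix.mul_nonsing_inv _ hgjK, Matrix.one_mul]
    have hu : IsUnit Gj := by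
      rw [Matrix.isUnit_iff_isUnit_det]
      have := hgjK.map (C (F := K) (M := Multiplicative (ZMod n))); rwa [RingHom.map_det] at this
    apply hu.mul_left_cancel
    rw [← Matrix.mul_assoc, hGj, ← Matrix.mul_assoc Gj, ← hj', Matrix.mul_assoc _ Gj, hGj,
      Matrix.mul_assoc (G.map C), ← hi', ← Matrix.mul_assoc, ← Matrix.mul_assoc, h1]
  obtain ⟨π, hπ⟩ : ∃ π : Equiv.Perm (Fin m), ∀ a, d (π a) = MonoidAlgebra.single (χ a) 1 := by
    clear_value G' d
    exact exists_perm (m := m) (R := MonoidAlgebra K (Multiplicative (ZMod n))) (K := K) C G' hG'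
      (fun a => MonoidAlgebra.single (χ a) 1) d h2
  -- the automorphism of the character group
  have hw : ∀ c, ∃ c', w (MonoidAlgebra.single c 1) = MonoidAlgebra.single c' 1 := by
    intro c
    have hc : c ∈ Subgroup.closure (Set.range ψ) := hgenτ ▸ Subgroup.mem_top c
    induction hc using Subgroup.closure_induction with
    | mem y hy => obtain ⟨a, rfl⟩ := hy; exact ⟨_, by simpa [d] using hπ (π.symm a)⟩
    | one => exact ⟨1, by simp [← MonoidAlgebra.one_def]⟩
    | mul y z _ _ hy hz =>
      obtain ⟨y', hy'⟩ := hy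
      obtain ⟨z', hz'⟩ := hz
      exact ⟨y' * z', by
        rw [← _root_.mul_one (1 : k), ← MonoidAlgebra.single_mul_single, map_mul, hy', hz',
          MonoidAlgebra.single_mul_single, _root_.mul_one]⟩
    | inv y _ hy =>
      obtain ⟨y', hy'⟩ := hy
      refine ⟨y'⁻¹, left_inv_eq_right_inv (a := MonoidAlgebra.single y' (1 : K)) ?_ ?_⟩
      · rw [← hy', ← map_mul, MonoidAlgebra.single_mul_single, inv_mul_cancel, _root_.mul_one,
          ← MonoidAlgebra.one_def, map_one]
      · rw [MonoidAlgebra.single_mul_single, mul_inv_cancel, _root_.mul_one, MonoidAlgebra.one_def]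
  choose α hα using hw
  let αh : Multiplicative (ZMod n) →* Multiplicative (ZMod n) := MonoidHom.mk' α fun a b => by
    apply MonoidAlgebra.single_left_injective (R := K) one_ne_zero
    show MonoidAlgebra.single _ (1 : K) = MonoidAlgebra.single _ 1
    have := hα (a * b)
    rw [← _root_.mul_one (1 : k), ← MonoidAlgebra.single_mul_single, map_mul, hα, hα,
      MonoidAlgebra.single_mul_single, _root_.mul_one] at this
    exact this.symm
  have hχψ : ∀ a, αh (ψ (π a)) = χ a := fun a =>
    MonoidAlgebra.single_left_injective (R := K) one_ne_zero ((hα _).symm.trans (hπ a))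
  have hsurj : Function.Surjective αh := by
    intro c
    have hc : c ∈ αh.range := by
      refine (Subgroup.closure_le _).2 ?_ (hgenσ ▸ Subgroup.mem_top c)
      rintro _ ⟨a, rfl⟩
      exact ⟨_, hχψ a⟩
    exact hc
  let α' : Multiplicative (ZMod n) ≃* Multiplicative (ZMod n) :=
    MulEquiv.ofBijective αh ⟨Finite.injective_iff_surjective.2 hsurj, hsurj⟩
  let φ₀ : σ ≅ τ := eσ.symm ≪≫ spIso (MonoidAlgebra.domCongr k k α') ≪≫ eτ
  let g₀ : Matrix (Fin m) (Fin m) k := gj * π⁻¹.permMatrix k * gi⁻¹
  have hg₀ : IsUnit g₀.det := by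
    rw [Matrix.det_mul, Matrix.det_mul]
    refine (hgj.mul ?_).mul ((Matrix.isUnit_nonsing_inv_det_iff).2 hgi)
    rw [Matrix.det_permutation]
    exact (Units.isUnit (Equiv.Perm.sign π⁻¹)).map (Int.castRingHom k)
  obtain ⟨p₀, hp₀⟩ := exists_mat (k := k) g₀ hg₀
  refine ⟨unitIso.inv ≫ p₀, φ₀, ?_⟩
  rw [← cancel_epi eσ.hom, comp_conjBy]
  apply mat_injective
  have hu : IsUnit (g₀.map (C (M := Multiplicative (ZMod n)))) := by
    rw [Matrix.isUnit_iff_isUnit_det]
    have := hg₀.map (C (F := k) (M := Multiplicative (ZMod n))); rwa [RingHom.map_det] at this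
  apply hu.mul_right_cancel
  have hp : mat (toUnit (sp k (MonoidAlgebra k (Multiplicative (ZMod n)))) ≫ unitIso.inv ≫ p₀) = g₀.map C := by
    rw [mat_toUnit_comp, Iso.hom_inv_id_assoc, hp₀]
  conv_lhs => rw [← hp, mat_conj, hp]
  have hR : eσ.hom ≫ φ₀.hom ≫ j = pt (MonoidAlgebra.domCongr k k α').toAlgHom ≫ eτ.hom ≫ j := by
    simp [φ₀, spIso]
  rw [hR, mat_pt_comp]
  -- the matrix identity over `k`
  have hj₀ : (mat (eτ.hom ≫ j)).map (MonoidAlgebra.domCongr k k α').toAlgHom * gj.map C =
      gj.map C * D (fun a => αh (ψ a)) := by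
    have := congrArg (fun A : Matrix (Fin m) (Fin m) _ => A.map (MonoidAlgebra.domCongr k k α').toAlgHom) hPj
    simp only [Matrix.map_mul] at this
    have e1 : (gj.map (C (F := k) (M := Multiplicative (ZMod n)))).map (MonoidAlgebra.domCongr k k α').toAlgHom =
        gj.map C := by
      ext a b : 1
      exact (MonoidAlgebra.domCongr k k α').toAlgHom.commutes (gj a b)
    have e2 : (D (F := k) ψ).map (MonoidAlgebra.domCongr k k α').toAlgHom = D (fun a => αh (ψ a)) := by
      rw [show (D (F := k) ψ).map (MonoidAlgebra.domCongr k k α').toAlgHom = _ from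
        map_D_eq (MonoidAlgebra.domCongr k k α').toAlgHom.toRingHom ψ]
      congr 1
      funext a
      simp [α']
      try rfl
    rwa [e1, e2] at this
  have hP : (π⁻¹.permMatrix k).map C * D (F := k) χ =
      D (F := k) (fun a => αh (ψ a)) * (π⁻¹.permMatrix k).map C := by
    rw [map_perm_mul_D]
    congr 2
    funext a
    rw [← hχψ]
    simp
  have hgg : g₀.map (C (M := Multiplicative (ZMod n))) * gi.map C = gj.map C * (π⁻¹.permMatrix k).map C := by
    rw [← Matrix.map_mul, ← Matrix.map_mul]
    congr 1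
    rw [Matrix.mul_assoc, Matrix.nonsing_inv_mul _ hgi, Matrix.mul_one]
  have hui : IsUnit (gi.map (C (M := Multiplicative (ZMod n)))) := by
    rw [Matrix.isUnit_iff_isUnit_det]
    have := hgi.map (C (F := k) (M := Multiplicative (ZMod n))); rwa [RingHom.map_det] at this
  apply hui.mul_right_cancel
  rw [Matrix.mul_assoc, hPi, ← Matrix.mul_assoc, hgg, Matrix.mul_assoc, hP, ← Matrix.mul_assoc,
    ← hj₀, Matrix.mul_assoc, ← hgg, ← Matrix.mul_assoc]

end Groth.Agent.S19280
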