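import Groth.Statements.S19281
import Groth.Agent.HopfLib.GLnConj

set_option autoImplicit false
universe u
open CategoryTheory MonoidalCategory CartesianMonoidalCategory MonObj GrpObj AlgebraicGeometry
open AlgGrp

open scoped TensorProduct
namespace Groth.Agent.S19281
open CoactBr Groth.Agent.HopfLib.SpPoints Groth.Agent.HopfLib.GLnDiag Groth.Agent.HopfLib.GLnConj

/-- Let `k` be a field with an algebraic closure `K`, `m ≥ 0`, `n > 0`, and let `σ'` be a closed
subgroup scheme of the base change of `GL_{m,k}` to `K` which is isomorphic as a `K`-group scheme to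
`μ_n = D(ℤ/n)`. Then there are a closed subgroup scheme `σ` of `GL_{m,k}` isomorphic to `μ_n` over
`k`, a `K`-point `g` of `GL_m` and an isomorphism `σ' ≅ σ_K` through which conjugation by `g`
carries the inclusion of `σ'` to the base change of the inclusion of `σ`. (This is the second
rationality condition, stated for all dual cyclic subgroups rather than only for those with a fixed
point on a given algebraic space, which is what the printed argument establishes and which gives the
printed statement for every action of `GL_m`.) -/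
theorem result (k : Type u) [Field k]
    (K : Type u) [Field K] [Algebra k K] [IsAlgClosure k K] (m n : ℕ) (hn : 0 < n)
    (σ' : Over (Spec (CommRingCat.of K))) [GrpObj σ']
    (i' : σ' ⟶ Red.bc (Spec.map (CommRingCat.ofHom (algebraMap k K))) (CoactBr.sp k (CoordGrp.GLn m k)))
    [IsMonHom i'] (hi' : IsClosedImmersion i'.left) (hσ' : Red.IsSplitTorusWith (ZMod n) σ') :
    ∃ (σ : Over (Spec (CommRingCat.of k))) (_ : GrpObj σ) (i : σ ⟶ CoactBr.sp k (CoordGrp.GLn m k))
      (_ : IsMonHom i), IsClosedImmersion i.left ∧ Red.IsSplitTorusWith (ZMod n) σ ∧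
      ∃ (g : 𝟙_ (Over (Spec (CommRingCat.of K))) ⟶
          Red.bc (Spec.map (CommRingCat.ofHom (algebraMap k K))) (CoactBr.sp k (CoordGrp.GLn m k)))
        (φ : σ' ≅ Red.bc (Spec.map (CommRingCat.ofHom (algebraMap k K))) σ),
        AGF.conjBy g i' = φ.hom ≫ (Over.pullback (Spec.map (CommRingCat.ofHom (algebraMap k K)))).map i := by
  classical
  haveI : NeZero n := ⟨hn.ne'⟩
  obtain ⟨e', he'⟩ := exists_splitIso (k := K) hσ'
  haveI : Mono i' := by
    haveI := hi'
    exact Over.mono_of_mono_left i'
  haveI : IsMonHom (e'.hom ≫ i') := inferInstance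
  let q := down (e'.hom ≫ i')
  have hΔ : (mat q).map (Bialgebra.comulAlgHom K (MonoidAlgebra K (Multiplicative (ZMod n)))) =
      (mat q).map (Algebra.TensorProduct.includeLeft : _ →ₐ[K] MonoidAlgebra K (Multiplicative (ZMod n)) ⊗[K]
          MonoidAlgebra K (Multiplicative (ZMod n))) *
        (mat q).map (Algebra.TensorProduct.includeRight : _ →ₐ[K] MonoidAlgebra K (Multiplicative (ZMod n)) ⊗[K]
          MonoidAlgebra K (Multiplicative (ZMod n))) := by
    have h := congrArg (fun y => mat (down y)) (MonObj.mul_comp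
      (pt (Algebra.TensorProduct.includeLeft : _ →ₐ[K] MonoidAlgebra K (Multiplicative (ZMod n)) ⊗[K]
          MonoidAlgebra K (Multiplicative (ZMod n))))
      (pt Algebra.TensorProduct.includeRight) (e'.hom ≫ i'))
    simp only [pt_includeLeft_mul_includeRight, down_mul, mat_mul, down_pt_comp, mat_pt_comp] at h
    exact h
  obtain ⟨g, χ, hg, hP⟩ := exists_diag (F := K) (mat q) (isUnit_det_mat _) hΔ
  have hgen := closure_eq_top hg hP fun Q _ a b hab => by
    apply pt_injective
    rw [← cancel_mono (e'.hom ≫ i')]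
    apply down_injective
    apply mat_injective
    rw [down_pt_comp, down_pt_comp, mat_pt_comp, mat_pt_comp]
    exact hab
  obtain ⟨i, hi, hcl, hmat⟩ := exists_diagHom k χ hgen
  haveI := hi
  refine ⟨sp k (MonoidAlgebra k (Multiplicative (ZMod n))), inferInstance, i, hi, hcl, isSplit_sp (ZMod n), ?_⟩
  obtain ⟨eb, -, heb⟩ := exists_bcIso k K (Multiplicative (ZMod n))
  obtain ⟨p, hp⟩ := exists_mat (k := k) g⁻¹ ((Matrix.isUnit_nonsing_inv_det_iff).2 hg)
  refine ⟨unitIso.inv ≫ up p, e'.symm ≪≫ eb, ?_⟩
  rw [← cancel_epi e'.hom, comp_conjBy]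
  simp only [Iso.trans_hom, Iso.symm_hom, Category.assoc, Iso.hom_inv_id_assoc]
  apply down_injective
  apply mat_injective
  rw [down_map, heb, mat_pt_comp, hmat, down_mul, down_mul]
  have ha : mat (down (toUnit (sp K (MonoidAlgebra K (Multiplicative (ZMod n)))) ≫ unitIso.inv ≫ up p)) =
      g⁻¹.map C := by
    rw [toUnit_eq, Category.assoc, Iso.hom_inv_id_assoc, down_pt_comp, down_up, mat_pt_comp, hp]
    rfl
  have hD : (D (F := k) χ).map (MonoidAlgebra.mapAlgHom (Multiplicative (ZMod n)) (Algebra.ofId k K)) =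
      D (F := K) χ := by
    rw [show (D (F := k) χ).map (MonoidAlgebra.mapAlgHom (Multiplicative (ZMod n)) (Algebra.ofId k K)) = _ from
      map_D_eq (MonoidAlgebra.mapAlgHom (Multiplicative (ZMod n)) (Algebra.ofId k K)).toRingHom χ]
    congr 1
    funext a
    simp
  rw [hD]
  have hu : IsUnit (g⁻¹.map (C (F := K) (M := Multiplicative (ZMod n)))) := by
    rw [Matrix.isUnit_iff_isUnit_det]
    have := ((Matrix.isUnit_nonsing_inv_det_iff).2 hg).map (C (F := K) (M := Multiplicative (ZMod n)))
    rwa [RingHom.map_det] at this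
  have hug : IsUnit (g.map (C (F := K) (M := Multiplicative (ZMod n)))) := by
    rw [Matrix.isUnit_iff_isUnit_det]
    have := hg.map (C (F := K) (M := Multiplicative (ZMod n)))
    rwa [RingHom.map_det] at this
  apply hu.mul_right_cancel
  conv_lhs => rw [← ha, ← mat_mul, ← down_mul, ← down_mul, ← down_mul, inv_mul_cancel_right, down_mul, mat_mul, ha]
  apply hug.mul_right_cancel
  rw [Matrix.mul_assoc, hP, Matrix.mul_assoc, ← Matrix.map_mul, Matrix.nonsing_inv_mul _ hg,
    ← Matrix.mul_assoc, ← Matrix.map_mul, Matrix.nonsing_inv_mul _ hg, Matrix.map_one _ (map_zero C) (map_one C),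
    Matrix.one_mul, Matrix.mul_one]

end Groth.Agent.S19281
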