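import Groth.Statements.S19284
import Groth.Agent.CommAlg4.GaloisFrobenius
-- import your own Groth.Agent.* helpers here

set_option autoImplicit false
universe u
open NumberField

namespace Groth.Agent.S19284

open NumberField IsDedekindDomain in
set_option maxHeartbeats 1600000 in
/-- Let L/K be a finite extension of number fields and Ω an algebraic closure of K. Suppose that L/K is
almost abelian in the non-abelian way: for some prime number p there is a bijection between the set
of K-embeddings L → Ω and Z/p under which every K-automorphism of Ω acts by an affine transformation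
x ↦ a x + b with a ≠ 0, and L/K is not an abelian extension (it is not Galois with commutative
automorphism group). Then there is an intermediate extension K ⊂ E ⊂ Ω contained in the normal
closure of L, Galois over K with nontrivial cyclic group, such that for every finite place w of K
which is unramified in L (every prime of the integers of L above w has ramification index 1), either
E admits a K-algebra embedding into the completion K_w (since E/K is Galois: w splits completely in
E) or L admits a K-algebra embedding into K_w (L has a place of degree 1 over w). (Only finite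
places are treated here.) -/
theorem result (K L Ω : Type u) [Field K] [NumberField K]
    [Field L] [NumberField L] [Algebra K L] [Field Ω] [Algebra K Ω] [IsAlgClosure K Ω]
    (p : ℕ) (hp : p.Prime) (e : (L →ₐ[K] Ω) ≃ ZMod p)
    (haff : ∀ σ : Ω ≃ₐ[K] Ω, ∃ a b : ZMod p, a ≠ 0 ∧
      ∀ φ : L →ₐ[K] Ω, e (σ.toAlgHom.comp φ) = a * e φ + b)
    (hnab : IsGalois K L → ∃ σ τ : L ≃ₐ[K] L, σ * τ ≠ τ * σ) :
    ∃ E : IntermediateField K Ω, E ≤ IntermediateField.normalClosure K L Ω ∧
      FiniteDimensional K E ∧ IsGalois K E ∧ IsCyclic (E ≃ₐ[K] E) ∧ 1 < Module.finrank K E ∧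
      ∀ w : IsDedekindDomain.HeightOneSpectrum (NumberField.RingOfIntegers K),
        (∀ P : Ideal (NumberField.RingOfIntegers L), P.IsPrime → P.LiesOver w.asIdeal →
          P.ramificationIdx (NumberField.RingOfIntegers K) = 1) →
        Nonempty (E →ₐ[K] w.adicCompletion K) ∨ Nonempty (L →ₐ[K] w.adicCompletion K) := by
  classical
  haveI : Fact p.Prime := ⟨hp⟩
  haveI : CharZero Ω := charZero_of_injective_algebraMap (algebraMap K Ω).injective
  haveI : IsAlgClosed Ω := IsAlgClosure.isAlgClosed K
  haveI : Algebra.IsAlgebraic K Ω := IsAlgClosure.isAlgebraic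
  haveI : IsGalois K Ω := IsAlgClosure.isGalois K Ω
  haveI : FiniteDimensional K L := FiniteDimensional.right ℚ K L
  let N : IntermediateField K Ω := IntermediateField.normalClosure K L Ω
  haveI : FiniteDimensional K N := normalClosure.is_finiteDimensional K L Ω
  haveI : Normal K N := normalClosure.normal K L Ω
  haveI : IsGalois K N := ⟨⟩
  haveI : NumberField N := NumberField.of_module_finite K N
  let res : (L →ₐ[K] Ω) → (L →ₐ[K] N) := fun φ => φ.codRestrict N.toSubalgebra
    (fun x => AlgHom.fieldRange_le_normalClosure φ ⟨x, rfl⟩)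
  let e' : (L →ₐ[K] N) ≃ ZMod p :=
    { toFun := fun ψ => e (N.val.comp ψ)
      invFun := fun z => res (e.symm z)
      left_inv := fun ψ => by
        apply AlgHom.ext; intro x; apply Subtype.ext
        show ((e.symm (e (N.val.comp ψ))) x : Ω) = _
        rw [Equiv.symm_apply_apply]; rfl
      right_inv := fun z => by
        have : N.val.comp (res (e.symm z)) = e.symm z := AlgHom.ext fun x => rfl
        show e (N.val.comp (res (e.symm z))) = z
        rw [this, Equiv.apply_symm_apply] }
  have haff' : ∀ τ : N ≃ₐ[K] N, ∃ a b : ZMod p, a ≠ 0 ∧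
      ∀ ψ : L →ₐ[K] N, e' (τ.toAlgHom.comp ψ) = a * e' ψ + b := fun τ => by
    obtain ⟨a, b, ha, h⟩ := haff (τ.liftNormal Ω)
    refine ⟨a, b, ha, fun ψ => ?_⟩
    have h1 := h (N.val.comp ψ)
    have h2 : (τ.liftNormal Ω).toAlgHom.comp (N.val.comp ψ) = N.val.comp (τ.toAlgHom.comp ψ) :=
      AlgHom.ext fun x => AlgEquiv.liftNormal_commutes τ Ω (ψ x)
    rw [h2] at h1
    exact h1
  choose a b ha hab using haff'
  have hcomp : ∀ (σ τ : N ≃ₐ[K] N) (ψ : L →ₐ[K] N),
      (σ * τ).toAlgHom.comp ψ = σ.toAlgHom.comp (τ.toAlgHom.comp ψ) := fun σ τ ψ => rfl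
  have hmul : ∀ σ τ, a (σ * τ) = a σ * a τ := fun σ τ => by
    have h0 := hab (σ * τ) (e'.symm 0)
    have h1 := hab (σ * τ) (e'.symm 1)
    rw [hcomp, hab, hab, Equiv.apply_symm_apply] at h0 h1
    linear_combination (h0 - h1)
  have hinj : ∀ τ : N ≃ₐ[K] N, (∀ ψ : L →ₐ[K] N, τ.toAlgHom.comp ψ = ψ) → τ = 1 := fun τ hτ => by
    let F : IntermediateField K N := IntermediateField.fixedField (Subgroup.zpowers τ)
    have hle : N ≤ IntermediateField.lift F := by
      refine normalClosure_le_iff.2 fun φ => ?_
      rintro _ ⟨x, rfl⟩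
      have hx : res φ x ∈ F := by
        rw [IntermediateField.mem_fixedField_iff]
        intro g hg
        have hst : τ ∈ MulAction.stabilizer (N ≃ₐ[K] N) (res φ x) := DFunLike.congr_fun (hτ (res φ)) x
        exact (Subgroup.zpowers_le.2 hst hg : g • res φ x = res φ x)
      exact (IntermediateField.mem_lift (res φ x)).2 hx
    refine AlgEquiv.ext fun x => ?_
    have hx : x ∈ F := (IntermediateField.mem_lift x).1 (hle x.2)
    exact (IntermediateField.mem_fixedField_iff _ _).1 hx τ (Subgroup.mem_zpowers τ)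
  have ha1 : a 1 = 1 := by
    have := hmul 1 1
    rw [mul_one] at this
    exact mul_right_cancel₀ (ha 1) (this.symm.trans (one_mul _).symm)
  let f : (N ≃ₐ[K] N) →* (ZMod p)ˣ :=
    { toFun := fun σ => Units.mk0 (a σ) (ha σ)
      map_one' := Units.ext ha1
      map_mul' := fun σ τ => Units.ext (hmul σ τ) }
  have hnontriv : f.ker ≠ ⊤ := fun htop => by
    have h1 : ∀ σ, a σ = 1 := fun σ => congrArg Units.val (f.mem_ker.1 (htop ▸ Subgroup.mem_top σ))
    have hcomm : ∀ σ τ : N ≃ₐ[K] N, σ * τ = τ * σ := fun σ τ => by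
      have : (τ * σ)⁻¹ * (σ * τ) = 1 := hinj _ fun ψ => by
        have h2 : (σ * τ).toAlgHom.comp ψ = (τ * σ).toAlgHom.comp ψ := e'.injective (by
          rw [hcomp, hcomp, hab, hab, hab, hab, h1, h1]; ring)
        rw [hcomp, h2, ← hcomp, inv_mul_cancel]
        exact AlgHom.ext fun x => rfl
      exact (inv_mul_eq_one.1 this).symm
    let ψ0 : L →ₐ[K] N := e'.symm 0
    have hfree : Function.Injective (fun σ : N ≃ₐ[K] N => e' (σ.toAlgHom.comp ψ0)) := fun σ τ h => by
      have hb : b σ = b τ := by
        simpa [hab, h1] using h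
      have h2 : τ⁻¹ * σ = 1 := hinj _ fun ψ => by
        have h3 : σ.toAlgHom.comp ψ = τ.toAlgHom.comp ψ := e'.injective (by
          rw [hab, hab, h1, h1, hb])
        rw [hcomp, h3, ← hcomp, inv_mul_cancel]
        exact AlgHom.ext fun x => rfl
      exact (inv_mul_eq_one.1 h2).symm
    have hdim : Module.finrank K N ≤ Module.finrank K L := by
      rw [← IsGalois.card_aut_eq_finrank K N, ← AlgHom.card K L Ω, ← Nat.card_eq_fintype_card, Nat.card_congr e]
      exact Nat.card_le_card_of_injective _ hfree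
    have hinj0 : Function.Injective ψ0.toLinearMap := ψ0.toRingHom.injective
    have heq : Module.finrank K L = Module.finrank K N :=
      le_antisymm (LinearMap.finrank_le_finrank_of_injective hinj0) hdim
    have hbij : Function.Bijective ψ0 :=
      ⟨hinj0, (LinearMap.injective_iff_surjective_of_finrank_eq_finrank (f := ψ0.toLinearMap) heq).1 hinj0⟩
    let E0 : L ≃ₐ[K] N := AlgEquiv.ofBijective ψ0 hbij
    obtain ⟨σ, τ, hne⟩ := hnab (IsGalois.of_algEquiv E0.symm)
    refine hne (E0.autCongr.injective ?_)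
    rw [map_mul, map_mul]
    exact hcomm _ _
  let E0 : IntermediateField K N := IntermediateField.fixedField f.ker
  haveI : IsGalois K E0 := IsGalois.of_fixedField_normal_subgroup f.ker
  have hcyc : IsCyclic (E0 ≃ₐ[K] E0) := by
    let g : (E0 ≃ₐ[K] E0) ≃* (N ≃ₐ[K] N) ⧸ f.ker := (IsGalois.normalAutEquivQuotient f.ker).symm
    exact isCyclic_of_injective ((QuotientGroup.kerLift f).comp g.toMonoidHom)
      ((QuotientGroup.kerLift_injective f).comp g.injective)
  have hrank : 1 < Module.finrank K E0 := by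
    by_contra hcon
    have h1 : Module.finrank K E0 = 1 := le_antisymm (not_lt.1 hcon) Module.finrank_pos
    have h2 : E0 = ⊥ := IntermediateField.finrank_eq_one_iff.1 h1
    exact hnontriv (by rw [← IntermediateField.fixingSubgroup_fixedField f.ker,
      show IntermediateField.fixedField f.ker = ⊥ from h2, IntermediateField.fixingSubgroup_bot])
  let eE := IntermediateField.liftAlgEquiv E0
  refine ⟨IntermediateField.lift E0, IntermediateField.lift_le E0, eE.toLinearEquiv.finiteDimensional,
    IsGalois.of_algEquiv eE, (MulEquiv.isCyclic (AlgEquiv.autCongr eE)).1 hcyc,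
    eE.toLinearEquiv.finrank_eq ▸ hrank, fun w hw => ?_⟩
  haveI := w.isPrime
  have hun : ∀ (Q : Ideal (𝓞 N)) [Q.IsPrime] [Q.LiesOver w.asIdeal], Q.ramificationIdx (𝓞 K) = 1 := fun Q _ _ =>
    Groth.Agent.CommAlg4.GaloisFrobenius.ramificationIdx_eq_one_of_inertia w Q fun σ hσ =>
      hinj σ fun ψ => Groth.Agent.CommAlg4.GaloisFrobenius.inertia_fixes w hw Q σ hσ ψ
  obtain ⟨⟨Q, hQ1, hQ2⟩⟩ := (inferInstance : Nonempty (Ideal.primesOver w.asIdeal (𝓞 N)))
  haveI := hQ1; haveI := hQ2
  haveI : Finite (𝓞 N ⧸ Q) := Ring.HasFiniteQuotients.finiteQuotient (Ideal.ne_bot_of_liesOver_of_ne_bot w.ne_bot Q)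
  let σ : N ≃ₐ[K] N := arithFrobAt (𝓞 K) (N ≃ₐ[K] N) Q
  have hσ : IsArithFrobAt (𝓞 K) σ Q := IsArithFrobAt.arithFrobAt (𝓞 K) (N ≃ₐ[K] N) Q
  by_cases hA : σ ∈ f.ker
  · left
    haveI : NumberField E0 := NumberField.of_module_finite K E0
    obtain ⟨φ⟩ := Groth.Agent.CommAlg4.GaloisFrobenius.nonempty_algHom_of_frobenius_fixes w Q E0.val σ hσ
      (AlgHom.ext fun x => (IntermediateField.mem_fixedField_iff _ _).1 x.2 σ hA) (fun P hP hPw => by
        haveI := hP; haveI := hPw
        obtain ⟨⟨R, hR1, hR2⟩⟩ := (inferInstance : Nonempty (Ideal.primesOver P (𝓞 N)))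
        haveI := hR1; haveI := hR2
        haveI : R.LiesOver w.asIdeal := Ideal.LiesOver.trans R P w.asIdeal
        exact Nat.dvd_one.1 (hun R ▸ Ideal.ramificationIdx_below_dvd P R))
    exact ⟨φ.comp eE.symm.toAlgHom⟩
  · right
    have ha' : a σ ≠ 1 := fun h => hA (f.mem_ker.2 (Units.ext h))
    refine Groth.Agent.CommAlg4.GaloisFrobenius.nonempty_algHom_of_frobenius_fixes w Q
      (e'.symm (b σ / (1 - a σ))) σ hσ (e'.injective ?_) hw
    rw [hab, Equiv.apply_symm_apply]
    have : (1 : ZMod p) - a σ ≠ 0 := sub_ne_zero.2 (Ne.symm ha')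
    field_simp
    ring

end Groth.Agent.S19284
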