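import Groth.Statements.S19285
import Groth.Agent.CommAlg4.PlaceMaps
import Groth.Agent.CommAlg4.UnramifiedNorm
-- import your own Groth.Agent.* helpers here

set_option autoImplicit false
universe u
open scoped TensorProduct
open NumberField

namespace Groth.Agent.S19285

section Helpers

open NumberField IsDedekindDomain WithZero Module Filter Topology Groth.Agent.CommAlg4

open scoped TensorProduct Classical NumberField.LiesOver

variable {k : Type u} [Field k] [NumberField k]

theorem finite_gt_one {K : Type u} [Field K] [NumberField K] (x : K) :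
    {W : HeightOneSpectrum (𝓞 K) | ¬ W.valuation K x ≤ 1}.Finite := by
  obtain ⟨a, b, hb, rfl⟩ := IsFractionRing.div_surjective (A := 𝓞 K) x
  have hb0 : b ≠ 0 := nonZeroDivisors.ne_zero hb
  refine (Ideal.finite_factors (I := Ideal.span {b}) (by simpa using hb0)).subset fun W hW => Ideal.dvd_span_singleton.2 ?_
  by_contra hbW
  refine hW ?_
  rw [map_div₀, HeightOneSpectrum.valuation_of_algebraMap, HeightOneSpectrum.valuation_of_algebraMap,
    (W.intValuation_eq_one_iff_mem_primeCompl b).2 hbW, div_one]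
  exact W.intValuation_le_one a

theorem isOpen_ball_exp (v : HeightOneSpectrum (𝓞 k)) (c : v.adicCompletion k) (N : ℤ) :
    IsOpen {y : v.adicCompletion k | Valued.v (y - c) ≤ exp N} := by
  obtain ⟨g, hg⟩ : ∃ g : k, v.valuation k g = exp N := by
    obtain ⟨π, hπ⟩ := v.valuation_exists_uniformizer k
    exact ⟨π ^ (-N), by rw [map_zpow₀, hπ, ← exp_zsmul]; simp⟩
  have hr : Valued.v.restrict (algebraMap k (v.adicCompletion k) g) ≠ 0 := by
    rw [Ne, map_eq_zero, map_eq_zero]
    rintro rfl
    simp at hg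
    exact exp_ne_zero hg.symm
  have h := (Valued.isOpen_closedBall (v.adicCompletion k) hr).preimage
    (continuous_id.sub (continuous_const (y := c)))
  convert h using 1
  ext y
  simp [SplitCompletion.valued_algebraMap, hg]

theorem exists_solver (n : ℕ) (hn : 1 ≤ n) (kf : Fin n → Type u) [∀ i, Field (kf i)] [∀ i, NumberField (kf i)]
    [∀ i, Algebra k (kf i)] (a : (i : Fin n) → kf i) (ha : ∀ i, IntermediateField.adjoin k {a i} = ⊤)
    (hdist : ∀ i j, i ≠ j → minpoly k (a i) ≠ minpoly k (a j)) (hdeg : ∑ i, Module.finrank k (kf i) ≤ 2) :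
    ∃ (A₀ C₀ : k) (eA eC : (i : Fin n) → kf i),
      (∀ lam : (i : Fin n) → kf i, ∀ i, algebraMap k (kf i) (A₀ + ∑ j, Algebra.trace k (kf j) (eA j * lam j)) -
          algebraMap k (kf i) (C₀ + ∑ j, Algebra.trace k (kf j) (eC j * lam j)) * a i = lam i) ∧
      ∀ s : k, A₀ + ∑ j, Algebra.trace k (kf j) (eA j * (algebraMap k (kf j) s - a j)) = s ∧
          C₀ + ∑ j, Algebra.trace k (kf j) (eC j * (algebraMap k (kf j) s - a j)) = 1 := by
  have hpos : ∀ i, 1 ≤ finrank k (kf i) := fun i => finrank_pos
  by_cases hone : ∑ i, finrank k (kf i) = 1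
  · -- one rational generator
    have hn1 : n = 1 := by
      have h1 := Finset.card_nsmul_le_sum Finset.univ (fun i => finrank k (kf i)) 1 fun i _ => hpos i
      simp at h1
      omega
    subst hn1
    have h0 : finrank k (kf 0) = 1 := by simpa using hone
    have hsurj : ∀ x : kf 0, algebraMap k (kf 0) (Algebra.trace k (kf 0) x) = x := fun x => by
      obtain ⟨c, hc⟩ := (finrank_eq_one_iff_of_nonzero' (1 : kf 0) one_ne_zero).1 h0 x
      rw [← hc, ← Algebra.algebraMap_eq_smul_one, Algebra.trace_algebraMap, h0, one_smul]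
    refine ⟨Algebra.trace k (kf 0) (a 0), 1, fun _ => 1, fun _ => 0, fun lam i => ?_, fun s => ⟨?_, by simp⟩⟩
    · rw [Fin.eq_zero i]
      simp [hsurj]
    · simp [Algebra.trace_algebraMap, h0]
  have htwo : ∑ i, finrank k (kf i) = 2 := by
    have h1 := Finset.card_nsmul_le_sum Finset.univ (fun i => finrank k (kf i)) 1 fun i _ => hpos i
    simp at h1
    omega
  let Λ : k × k →ₗ[k] ((i : Fin n) → kf i) := LinearMap.pi fun i =>
    (Algebra.linearMap k (kf i)).comp (LinearMap.fst k k k) -
      ((LinearMap.mulRight k (a i)).comp (Algebra.linearMap k (kf i))).comp (LinearMap.snd k k k)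
  have hΛ : ∀ A C i, Λ (A, C) i = algebraMap k (kf i) A - algebraMap k (kf i) C * a i := fun A C i => rfl
  have hinj : Function.Injective Λ := by
    rw [← LinearMap.ker_eq_bot, LinearMap.ker_eq_bot']
    rintro ⟨A, C⟩ h
    have h' : ∀ i, algebraMap k (kf i) A - algebraMap k (kf i) C * a i = 0 := fun i => congrFun h i
    rcases eq_or_ne C 0 with rfl | hC
    · have h1 := h' ⟨0, hn⟩
      simp at h1
      simp [h1]
    exfalso
    have haq : ∀ i, a i = algebraMap k (kf i) (A / C) := fun i => by
      rw [map_div₀, eq_div_iff (by simpa using hC), mul_comm]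
      exact (sub_eq_zero.1 (h' i)).symm
    have hfin : ∀ i, finrank k (kf i) = 1 := fun i => by
      have htop : (⊥ : IntermediateField k (kf i)) = ⊤ := by
        rw [← ha i, eq_comm, IntermediateField.adjoin_simple_eq_bot_iff]
        exact ⟨A / C, (haq i).symm⟩
      rw [← IntermediateField.finrank_top', ← htop, IntermediateField.finrank_bot]
    have hn2 : n = 2 := by simpa [hfin] using htwo
    subst hn2
    refine hdist 0 1 (by decide) ?_
    rw [haq, haq, minpoly.eq_X_sub_C (kf 0), minpoly.eq_X_sub_C (kf 1)]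
  let Φ := (LinearEquiv.ofBijective Λ ⟨hinj, (LinearMap.injective_iff_surjective_of_finrank_eq_finrank (by
    rw [Module.finrank_prod, Module.finrank_self, Module.finrank_pi_fintype, htwo])).1 hinj⟩).symm
  have hfun : ∀ φ : ((i : Fin n) → kf i) →ₗ[k] k, ∃ e : (i : Fin n) → kf i,
      ∀ lam, φ lam = ∑ i, Algebra.trace k (kf i) (e i * lam i) := fun φ => by
    refine ⟨fun i => ((Algebra.traceForm k (kf i)).toDual (traceForm_nondegenerate k (kf i))).symm
      (φ.comp (LinearMap.single k kf i)), fun lam => ?_⟩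
    conv_lhs => rw [← Finset.univ_sum_single lam, map_sum]
    refine Finset.sum_congr rfl fun i _ => ?_
    have h1 := LinearMap.BilinForm.apply_toDual_symm_apply (B := Algebra.traceForm k (kf i))
      (hB := traceForm_nondegenerate k (kf i)) (φ.comp (LinearMap.single k kf i)) (lam i)
    rw [Algebra.traceForm_apply] at h1
    exact h1.symm
  obtain ⟨eA, heA⟩ := hfun ((LinearMap.fst k k k).comp Φ.toLinearMap)
  obtain ⟨eC, heC⟩ := hfun ((LinearMap.snd k k k).comp Φ.toLinearMap)
  refine ⟨0, 0, eA, eC, fun lam i => ?_, fun s => ?_⟩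
  · rw [zero_add, zero_add, ← heA lam, ← heC lam, ← hΛ]
    exact congrFun (Φ.symm_apply_apply lam) i
  · have h1 : Φ (fun j => algebraMap k (kf j) s - a j) = (s, 1) := by
      rw [LinearEquiv.symm_apply_eq]
      funext j
      show _ = Λ (s, 1) j
      rw [hΛ, map_one, one_mul]
    rw [zero_add, zero_add, ← heA, ← heC]
    simp [h1]

variable {K L : Type u} [Field K] [NumberField K] [Field L] [NumberField L] [Algebra k K] [Algebra K L]
  [Algebra k L] [IsScalarTower k K L]

/-- The point of `F₀ ⊗ K` attached to a map of completions, and transfer of the target. -/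
theorem exists_target {F₀ F : Type u} [Field F₀] [Algebra k F₀] [Field F] [Algebra K F] [Algebra k F] [IsScalarTower k K F]
    (ι : F₀ →+* F) (hι : ∀ c : k, ι (algebraMap k F₀ c) = algebraMap K F (algebraMap k K c)) (b a : K) (t : F₀) :
    letI := (Algebra.TensorProduct.map (AlgHom.id k F₀) (IsScalarTower.toAlgHom k K L)).toRingHom.toAlgebra
    (∃ x : F₀ ⊗[k] L, IsUnit x ∧ Algebra.norm (F₀ ⊗[k] K) x =
        (1 : F₀) ⊗ₜ[k] b * (t ⊗ₜ[k] (1 : K) - (1 : F₀) ⊗ₜ[k] a)) →
      ∃ ξ : F ⊗[K] L, Algebra.norm F ξ = algebraMap K F b * (ι t - algebraMap K F a) := by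
  letI := (Algebra.TensorProduct.map (AlgHom.id k F₀) (IsScalarTower.toAlgHom k K L)).toRingHom.toAlgebra
  rintro ⟨x, -, hx⟩
  let ιₐ : F₀ →ₐ[k] F := { ι with commutes' := fun c => (hι c).trans (IsScalarTower.algebraMap_apply k K F c).symm }
  let π : F₀ ⊗[k] K →ₐ[k] F := Algebra.TensorProduct.lift ιₐ (IsScalarTower.toAlgHom k K F) fun _ _ => mul_comm _ _
  have hlift : ∀ (c : F₀) (e : K), π (c ⊗ₜ[k] e) = ι c * algebraMap K F e := fun c e =>
    Algebra.TensorProduct.lift_tmul _ _ _ _ _
  have hπ : ∀ e : K, π ((1 : F₀) ⊗ₜ[k] e) = algebraMap K F e := fun e => by rw [hlift, map_one, one_mul]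
  obtain ⟨ξ, hξ⟩ := PlaceMaps.exists_norm_transfer π.toRingHom hπ x
  refine ⟨ξ, hξ.trans ?_⟩
  rw [hx]
  show π _ = _
  rw [map_mul, map_sub, hπ, hπ, hlift, map_one, mul_one]

theorem not_dvd_different (W : HeightOneSpectrum (𝓞 K)) (P : Ideal (𝓞 L)) [P.IsPrime] [P.LiesOver W.asIdeal]
    (he : P.ramificationIdx (𝓞 K) = 1) : ¬ P ∣ differentIdeal (𝓞 K) (𝓞 L) := by
  haveI := W.isMaximal
  haveI : (P.under (𝓞 K)).IsMaximal := by rw [← Ideal.over_def P W.asIdeal]; exact W.isMaximal
  haveI : Finite (𝓞 K ⧸ P.under (𝓞 K)) := by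
    rw [← Ideal.over_def P W.asIdeal]; exact Ideal.finiteQuotientOfFreeOfNeBot _ W.ne_bot
  haveI : Finite (P.under (𝓞 K)).ResidueField :=
    Finite.of_surjective _ (P.under (𝓞 K)).bijective_algebraMap_quotient_residueField.2
  exact not_dvd_differentIdeal_iff.2 (Ideal.ramificationIdx_eq_one_iff.1 he)

instance tower_completion {K : Type u} [Field K] [Algebra k K] (W : InfinitePlace K) : IsScalarTower k K W.Completion :=
  IsScalarTower.of_algebraMap_eq fun x => by
    apply InfinitePlace.Completion.ext
    rw [InfinitePlace.Completion.algebraMap_toCompletion, InfinitePlace.Completion.algebraMap_toCompletion,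
      UniformSpace.Completion.algebraMap_def, UniformSpace.Completion.algebraMap_def]
    simp [WithAbs.algebraMap_right_apply]

theorem norm_completion (w : InfinitePlace k) (x : k) : ‖algebraMap k w.Completion x‖ = w x := by
  have h1 : InfinitePlace.Completion.extensionEmbedding w (algebraMap k w.Completion x) = w.embedding x :=
    InfinitePlace.Completion.extensionEmbedding_coe w _
  rw [← (InfinitePlace.Completion.isometry_extensionEmbedding (v := w)).norm_map_of_map_zero (map_zero _), h1,
    InfinitePlace.norm_embedding_eq]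

theorem abs_trace_le (w : InfinitePlace k) (x : K) (r : ℝ) (hr : ∀ W : InfinitePlace K, W.comap (algebraMap k K) = w → W x ≤ r) :
    w (Algebra.trace k K x) ≤ finrank k K * r := by
  letI := w.embedding.toAlgebra
  rw [← InfinitePlace.norm_embedding_eq, show w.embedding (Algebra.trace k K x) = algebraMap k ℂ (Algebra.trace k K x) from rfl,
    trace_eq_sum_embeddings]
  refine (norm_sum_le_of_le _ (n := fun _ => r) fun τ _ => ?_).trans (le_of_eq ?_)
  · refine le_trans (le_of_eq ?_) (hr (InfinitePlace.mk τ.toRingHom) ?_)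
    · rfl
    · rw [InfinitePlace.comap_mk, show τ.toRingHom.comp (algebraMap k K) = w.embedding from τ.comp_algebraMap,
        InfinitePlace.mk_embedding]
  · rw [Finset.sum_const, Finset.card_univ, AlgHom.card, nsmul_eq_mul]

end Helpers

set_option maxHeartbeats 4000000 in
/-- A conjectured statement on locally split values of the polynomials t − a_i holds unconditionally
when the degrees [k_i : k] sum to at most 2. Precisely: let k be a number field, n ≥ 1, and for each
i let k_i = k(a_i) be a finite extension generated by a_i, the minimal polynomials of the a_i over k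
being pairwise distinct and the degrees [k_i : k] summing to at most 2; let L_i/k_i be finite
extensions and b_i ∈ k_i nonzero. Let S_f, S_∞ be finite sets of finite and infinite places of k
such that S_∞ contains every real place and S_f contains every finite place of k below a finite
place of some k_i at which b_i is not a unit or below a prime of some L_i ramified over k_i. For v ∈
S_f ∪ S_∞ let t_v ∈ k_v, with an open neighbourhood U_v, be such that for every i the element b_i
(t_v − a_i) of k_v ⊗_k k_i is the norm of a unit of the (k_v ⊗_k k_i)-algebra k_v ⊗_k L_i. Then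
there is t_0 ∈ k whose image lies in U_v for all v ∈ S_f ∪ S_∞ and such that for every i and every
finite place w of k_i at which t_0 − a_i has positive valuation, either w lies above a place of S_f
or L_i admits a k_i-algebra embedding into the completion (k_i)_w (a place of L_i of degree 1 over
w). -/
theorem result (k : Type u) [Field k] [NumberField k]
    (n : ℕ) (hn : 1 ≤ n)
    (kf : Fin n → Type u) [∀ i, Field (kf i)] [∀ i, NumberField (kf i)] [∀ i, Algebra k (kf i)]
    (Lf : Fin n → Type u) [∀ i, Field (Lf i)] [∀ i, NumberField (Lf i)] [∀ i, Algebra (kf i) (Lf i)]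
    [∀ i, Algebra k (Lf i)] [∀ i, IsScalarTower k (kf i) (Lf i)]
    (a : (i : Fin n) → kf i) (ha : ∀ i, IntermediateField.adjoin k {a i} = ⊤)
    (hdist : ∀ i j, i ≠ j → minpoly k (a i) ≠ minpoly k (a j))
    (hdeg : ∑ i, Module.finrank k (kf i) ≤ 2)
    (b : (i : Fin n) → kf i) (hb : ∀ i, b i ≠ 0)
    (Sf : Finset (IsDedekindDomain.HeightOneSpectrum (NumberField.RingOfIntegers k)))
    (Si : Finset (NumberField.InfinitePlace k))
    (hSreal : ∀ w : NumberField.InfinitePlace k, w.IsReal → w ∈ Si)
    (hSb : ∀ i, ∀ W : IsDedekindDomain.HeightOneSpectrum (NumberField.RingOfIntegers (kf i)),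
      W.valuation (kf i) (b i) ≠ 1 → ∃ v ∈ Sf, W.asIdeal.LiesOver v.asIdeal)
    (hSram : ∀ i, ∀ Q : Ideal (NumberField.RingOfIntegers (Lf i)), Q.IsPrime → Q ≠ ⊥ →
      Q.ramificationIdx (NumberField.RingOfIntegers (kf i)) ≠ 1 → ∃ v ∈ Sf, Q.LiesOver v.asIdeal)
    (tf : (v : IsDedekindDomain.HeightOneSpectrum (NumberField.RingOfIntegers k)) → v.adicCompletion k)
    (ti : (w : NumberField.InfinitePlace k) → w.Completion)
    (htf : ∀ i, ∀ v ∈ Sf,
      letI := (Algebra.TensorProduct.map (AlgHom.id k (v.adicCompletion k))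
        (IsScalarTower.toAlgHom k (kf i) (Lf i))).toRingHom.toAlgebra
      ∃ x : (v.adicCompletion k) ⊗[k] Lf i, IsUnit x ∧
        Algebra.norm ((v.adicCompletion k) ⊗[k] kf i) x =
          (1 : v.adicCompletion k) ⊗ₜ[k] b i * (tf v ⊗ₜ[k] (1 : kf i) - (1 : v.adicCompletion k) ⊗ₜ[k] a i))
    (hti : ∀ i, ∀ w ∈ Si,
      letI := (Algebra.TensorProduct.map (AlgHom.id k w.Completion)
        (IsScalarTower.toAlgHom k (kf i) (Lf i))).toRingHom.toAlgebra
      ∃ x : w.Completion ⊗[k] Lf i, IsUnit x ∧
        Algebra.norm (w.Completion ⊗[k] kf i) x =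
          (1 : w.Completion) ⊗ₜ[k] b i * (ti w ⊗ₜ[k] (1 : kf i) - (1 : w.Completion) ⊗ₜ[k] a i))
    (Uf : (v : IsDedekindDomain.HeightOneSpectrum (NumberField.RingOfIntegers k)) → Set (v.adicCompletion k))
    (hUf : ∀ v ∈ Sf, IsOpen (Uf v) ∧ tf v ∈ Uf v)
    (Ui : (w : NumberField.InfinitePlace k) → Set w.Completion)
    (hUi : ∀ w ∈ Si, IsOpen (Ui w) ∧ ti w ∈ Ui w) :
    ∃ t₀ : k, (∀ v ∈ Sf, algebraMap k (v.adicCompletion k) t₀ ∈ Uf v) ∧
      (∀ w ∈ Si, algebraMap k w.Completion t₀ ∈ Ui w) ∧
      ∀ i, ∀ W : IsDedekindDomain.HeightOneSpectrum (NumberField.RingOfIntegers (kf i)),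
        W.valuation (kf i) (algebraMap k (kf i) t₀ - a i) < 1 →
          (∃ v ∈ Sf, W.asIdeal.LiesOver v.asIdeal) ∨ Nonempty (Lf i →ₐ[kf i] W.adicCompletion (kf i)) := by
  classical
  obtain ⟨A₀, C₀, eA, eC, hsol, hnorm1⟩ := exists_solver n hn kf a ha hdist hdeg
  -- the finite set of places to control
  obtain ⟨v₁, -, -⟩ := Groth.Agent.CommAlg4.NormApprox.exists_split_place k k ∅
  let Sig : Finset (IsDedekindDomain.HeightOneSpectrum (NumberField.RingOfIntegers k)) :=
    Sf ∪ ((finite_gt_one C₀).toFinset ∪ ({v₁} ∪ (Finset.univ : Finset (Fin n)).biUnion fun i =>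
      (finite_gt_one (eC i)).toFinset.image (Groth.Agent.CommAlg4.PlaceMaps.below (k := k))))
  open Groth.Agent.CommAlg4 NumberField IsDedekindDomain WithZero Module Topology in
  -- a field splitting everything, and a split place
  let Ω := AlgebraicClosure k
  let jf : (i : Fin n) → Lf i →ₐ[k] Ω := fun i => IsAlgClosed.lift
  let M : IntermediateField k Ω := ⨆ i, IntermediateField.normalClosure k (Lf i) Ω
  haveI : NumberField M := NumberField.of_module_finite k M
  have hjM : ∀ i x, jf i x ∈ M := fun i x =>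
    le_iSup (fun i => IntermediateField.normalClosure k (Lf i) Ω) i ((jf i).fieldRange_le_normalClosure ⟨x, rfl⟩)
  obtain ⟨v₀, hv₀, ⟨φ₀⟩⟩ := Groth.Agent.CommAlg4.NormApprox.exists_split_place k M Sig
  have hιex : ∀ i (W : IsDedekindDomain.HeightOneSpectrum (NumberField.RingOfIntegers (kf i))),
      ∃ ι : (Groth.Agent.CommAlg4.PlaceMaps.below (k := k) W).adicCompletion k →+* W.adicCompletion (kf i), Continuous ι ∧
        ∀ x : k, ι (algebraMap k _ x) = algebraMap (kf i) _ (algebraMap k (kf i) x) := fun i W =>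
    Groth.Agent.CommAlg4.PlaceMaps.exists_completion_map _ W
  choose ι hιc hι using hιex
  open Groth.Agent.CommAlg4 NumberField IsDedekindDomain WithZero Module Topology in
  have hsplit₀ : ∀ i (W : HeightOneSpectrum (𝓞 (kf i))), PlaceMaps.below (k := k) W = v₀ →
      Nonempty (Lf i →ₐ[kf i] W.adicCompletion (kf i)) := fun i W hW => by
    subst hW
    let ιₐ : (PlaceMaps.below (k := k) W).adicCompletion k →ₐ[k] W.adicCompletion (kf i) :=
      { ι i W with commutes' := fun c => (hι i W c).trans (IsScalarTower.algebraMap_apply k (kf i) _ c).symm }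
    exact PlaceMaps.nonempty_algHom_of_normal (ιₐ.comp φ₀) ((jf i).codRestrict M.toSubalgebra (hjM i))
  open Groth.Agent.CommAlg4 NumberField IsDedekindDomain WithZero Module Topology in
  have hbunit : ∀ i (W : HeightOneSpectrum (𝓞 (kf i))), PlaceMaps.below (k := k) W ∉ Sf → W.valuation (kf i) (b i) = 1 := by
    intro i W hW
    by_contra h
    obtain ⟨v, hv, hWv⟩ := hSb i W h
    exact hW (PlaceMaps.eq_below v W ▸ hv)
  open Groth.Agent.CommAlg4 NumberField IsDedekindDomain WithZero Module Topology in
  -- local data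
  have hlocal : ∀ v : HeightOneSpectrum (𝓞 k), ∃ (T : v.adicCompletion k) (U : Set (v.adicCompletion k)), v ∈ Sig →
      (IsOpen U ∧ T ∈ U) ∧
      (∀ i (W : HeightOneSpectrum (𝓞 (kf i))) (hWv : W.asIdeal.LiesOver v.asIdeal)
          (ι' : v.adicCompletion k →+* W.adicCompletion (kf i)),
          (∀ x : k, ι' (algebraMap k _ x) = algebraMap (kf i) _ (algebraMap k (kf i) x)) → ∀ R : ℕ,
        ∃ ξ : W.adicCompletion (kf i) ⊗[kf i] Lf i, Valued.v (Algebra.norm (W.adicCompletion (kf i)) ξ -
          algebraMap (kf i) _ (b i) * (ι' T - algebraMap (kf i) _ (a i))) ≤ exp (-(R : ℤ))) ∧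
      (v ∈ Sf → U = Uf v) ∧
      (v ∉ Sf → ∀ t : k, algebraMap k (v.adicCompletion k) t ∈ U → ∀ i (W : HeightOneSpectrum (𝓞 (kf i))),
        W.asIdeal.LiesOver v.asIdeal → ¬ W.valuation (kf i) (algebraMap k (kf i) t - a i) < 1) := by
    intro v
    by_cases hvS : v ∈ Sf
    · refine ⟨tf v, Uf v, fun _ => ⟨hUf v hvS, fun i W hWv ι' hι' R => ?_, fun _ => rfl, fun h => absurd hvS h⟩⟩
      obtain ⟨ξ, hξ⟩ := exists_target ι' hι' (b i) (a i) (tf v) (htf i v hvS)
      exact ⟨ξ, by rw [hξ, sub_self, map_zero]; exact zero_le⟩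
    obtain ⟨π, hπ0, hπ, hπ'⟩ := NormApprox.exists_generator v
    have hfin : ∀ i, ({W : HeightOneSpectrum (𝓞 (kf i)) | PlaceMaps.below (k := k) W = v}).Finite := fun i => PlaceMaps.finite_above v
    let P : ℕ := ∏ i, finrank (kf i) (Lf i)
    have hP : 0 < P := Finset.prod_pos fun i _ => finrank_pos
    let j : ℕ := (Finset.univ.sup fun i => (hfin i).toFinset.sup fun W => (log (W.valuation (kf i) (a i))).natAbs) + 1
    let pk : k := algebraMap (𝓞 k) k π
    have hpk0 : pk ≠ 0 := by simpa [pk] using hπ0
    let c₁ : k := (pk ^ j)⁻¹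
    let s : k := c₁ ^ P
    have hs0 : s ≠ 0 := pow_ne_zero _ (inv_ne_zero (pow_ne_zero _ hpk0))
    have hWs : ∀ i (W : HeightOneSpectrum (𝓞 (kf i))), W.asIdeal.LiesOver v.asIdeal →
        1 ≤ W.valuation (kf i) (algebraMap k (kf i) s) ∧ W.valuation (kf i) (a i) < W.valuation (kf i) (algebraMap k (kf i) s) := by
      intro i W hWv
      have h1 : W.intValuation (algebraMap (𝓞 k) (𝓞 (kf i)) π) < 1 :=
        (W.intValuation_lt_one_iff_mem _).2 ((NormApprox.mem_of_mem_algebraMap (v := v) (P := W.asIdeal)).2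
          ((v.intValuation_lt_one_iff_mem π).1 hπ))
      have h2 := NormApprox.le_exp_neg W (by simpa using hπ0) h1 (j * P)
      have h3 : exp ((j * P : ℕ) : ℤ) ≤ W.valuation (kf i) (algebraMap k (kf i) s) := by
        simp only [s, c₁, pk, inv_pow, ← pow_mul, map_inv₀, map_pow]
        rw [← IsScalarTower.algebraMap_apply (𝓞 k) k (kf i), IsScalarTower.algebraMap_apply (𝓞 k) (𝓞 (kf i)) (kf i),
          HeightOneSpectrum.valuation_of_algebraMap, ← map_pow]
        rw [exp_neg] at h2
        exact (le_inv_comm₀ exp_pos (zero_lt_iff.2 (W.intValuation_ne_zero _ (pow_ne_zero _ (by simpa using hπ0))))).2 h2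
      have hj1 : 1 ≤ j * P := Nat.mul_pos (Nat.succ_pos _) hP
      refine ⟨le_trans ?_ h3, lt_of_lt_of_le ?_ h3⟩
      · rw [← exp_zero, exp_le_exp]; omega
      rcases eq_or_ne (W.valuation (kf i) (a i)) 0 with h | h
      · rw [h]; exact exp_pos
      rw [← exp_log h, exp_lt_exp]
      have h4 : (log (W.valuation (kf i) (a i))).natAbs < j :=
        Nat.lt_succ_of_le ((Finset.le_sup (f := fun W => (log (W.valuation (kf i) (a i))).natAbs)
          ((hfin i).mem_toFinset.2 (PlaceMaps.eq_below v W).symm)).trans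
            (Finset.le_sup (f := fun i => (hfin i).toFinset.sup fun W => (log (W.valuation (kf i) (a i))).natAbs) (Finset.mem_univ i)))
      have h5 : j ≤ j * P := Nat.le_mul_of_pos_right j hP
      omega
    refine ⟨algebraMap k _ s, {z | Valued.v z = Valued.v (algebraMap k (v.adicCompletion k) s)}, fun _ =>
      ⟨⟨?_, rfl⟩, fun i W hWv ι' hι' R => ?_, fun h => absurd h hvS, fun _ t ht i W hWv => ?_⟩⟩
    · rw [isOpen_iff_mem_nhds]
      intro z hz
      have hne : Valued.v z ≠ 0 := by
        rw [show Valued.v z = _ from hz, SplitCompletion.valued_algebraMap]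
        exact (map_ne_zero (v.valuation k)).2 hs0
      exact Filter.mem_of_superset (Valued.locally_const hne) fun y hy => Eq.trans (show Valued.v y = Valued.v z from hy) hz
    · -- approximate norms
      have hWv' := (PlaceMaps.eq_below v W)
      let β : kf i := b i * (1 - a i / algebraMap k (kf i) s)
      have hβ : W.valuation (kf i) β = 1 := by
        rw [map_mul, hbunit i W (hWv' ▸ hvS), one_mul]
        refine Valuation.map_one_sub_of_lt (v := W.valuation (kf i)) ?_
        rw [map_div₀, div_lt_one₀ (zero_lt_iff.2 ((map_ne_zero (W.valuation (kf i))).2 (by simpa using hs0)))]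
        exact (hWs i W hWv).2
      let sK : kf i := algebraMap k (kf i) s
      obtain ⟨u, hu⟩ := UnramifiedNorm.exists_norm_congr (L := Lf i) W (fun Q hQ hQW => not_dvd_different W Q (by
        by_contra hne
        have hQbot : Q ≠ ⊥ := fun h => W.ne_bot (by
          rw [hQW.over, h]
          exact Ideal.comap_bot_of_injective _ (FaithfulSMul.algebraMap_injective (𝓞 (kf i)) (𝓞 (Lf i))))
        obtain ⟨v', hv', hQv'⟩ := hSram i Q hQ hQbot hne
        apply hvS
        have : v' = v := HeightOneSpectrum.ext (by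
          rw [hQv'.over, hWv.over, hQW.over]
          exact (Ideal.under_under Q).symm)
        exact this ▸ hv')) β hβ (R + (log (W.valuation (kf i) sK)).natAbs)
      let x : Lf i := algebraMap (kf i) (Lf i) (algebraMap k (kf i) (c₁ ^ (P / finrank (kf i) (Lf i)))) * u
      have hNx : Algebra.norm (kf i) x = sK * Algebra.norm (kf i) u := by
        rw [map_mul, Algebra.norm_algebraMap, ← map_pow, ← pow_mul,
          Nat.div_mul_cancel (Finset.dvd_prod_of_mem _ (Finset.mem_univ i))]
      refine ⟨(1 : W.adicCompletion (kf i)) ⊗ₜ[kf i] x, ?_⟩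
      have hnx : Algebra.norm (W.adicCompletion (kf i)) ((1 : W.adicCompletion (kf i)) ⊗ₜ[kf i] x) =
          algebraMap (kf i) _ (Algebra.norm (kf i) x) := by
        let bb := finBasis (kf i) (Lf i)
        rw [← NormApprox.normForm_tensor bb, ← NormApprox.normForm_repr bb]
        congr 1
        funext l
        rw [Algebra.TensorProduct.basis_repr_tmul, one_smul, Finsupp.mapRange_apply]
      rw [hnx, hι', ← map_sub, ← map_mul, ← map_sub, SplitCompletion.valued_algebraMap, hNx]
      rw [show sK * Algebra.norm (kf i) u - b i * (algebraMap k (kf i) s - a i) = sK * (Algebra.norm (kf i) u - β) by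
        have : sK ≠ 0 := by simpa [sK] using hs0
        simp only [β, mul_sub, mul_one]
        rw [show sK * (b i * (a i / algebraMap k (kf i) s)) = b i * (sK * (a i / sK)) from mul_left_comm _ _ _,
          mul_div_cancel₀ _ this]
        simp only [sK]
        ring, map_mul]
      refine (mul_le_mul' le_rfl hu).trans ?_
      rw [← exp_log ((map_ne_zero (W.valuation (kf i))).2 (show sK ≠ 0 by simpa [sK] using hs0)), ← exp_add, exp_le_exp,
        log_exp]
      omega
    · haveI := hWv
      rw [Set.mem_ofPred_eq, SplitCompletion.valued_algebraMap, SplitCompletion.valued_algebraMap] at ht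
      have h1 : W.valuation (kf i) (algebraMap k (kf i) t) = W.valuation (kf i) (algebraMap k (kf i) s) := by
        rw [← PlaceMaps.valuation_algebraMap v W, ← PlaceMaps.valuation_algebraMap v W, ht]
      rw [Valuation.map_sub_eq_of_lt_left _ (h1 ▸ (hWs i W hWv).2), h1]
      exact not_lt.2 (hWs i W hWv).1
  choose T UT hT using hlocal
  open Groth.Agent.CommAlg4 NumberField IsDedekindDomain WithZero Module Topology in
  -- continuity of the quotient at finite places
  have hquot : ∀ v : HeightOneSpectrum (𝓞 k), ∃ N : ℕ, v ∈ Sig → ∀ y z : v.adicCompletion k,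
      Valued.v (y - T v) ≤ exp (-(N : ℤ)) → Valued.v (z - 1) ≤ exp (-(N : ℤ)) → y / z ∈ UT v ∧ z ≠ 0 := by
    intro v
    by_cases hv : v ∈ Sig
    · have hcont : ContinuousAt (fun p : v.adicCompletion k × v.adicCompletion k => p.1 / p.2) (T v, 1) :=
        continuousAt_fst.div continuousAt_snd one_ne_zero
      have h1 : {p : v.adicCompletion k × v.adicCompletion k | p.1 / p.2 ∈ UT v} ∈ 𝓝 (T v, (1 : v.adicCompletion k)) :=
        hcont.preimage_mem_nhds ((hT v hv).1.1.mem_nhds (by simpa using (hT v hv).1.2))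
      rw [nhds_prod_eq, Filter.mem_prod_iff] at h1
      obtain ⟨s₁, hs₁, s₂, hs₂, hsub⟩ := h1
      obtain ⟨N₁, hN₁⟩ := SplitCompletion.exists_ball_subset v hs₁
      obtain ⟨N₂, hN₂⟩ := SplitCompletion.exists_ball_subset v hs₂
      refine ⟨N₁ + N₂ + 1, fun _ y z hy hz => ⟨?_, ?_⟩⟩
      · exact hsub (Set.mk_mem_prod (hN₁ y (hy.trans (exp_le_exp.2 (by omega)))) (hN₂ z (hz.trans (exp_le_exp.2 (by omega)))))
      · rintro rfl
        rw [zero_sub, Valuation.map_neg, map_one, ← exp_zero, exp_le_exp] at hz
        omega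
    · exact ⟨0, fun h => absurd h hv⟩
  choose Nv hNv using hquot
  choose π hπ0 hπ hπ' using Groth.Agent.CommAlg4.NormApprox.exists_generator (k := k)
  open Groth.Agent.CommAlg4 NumberField IsDedekindDomain WithZero Module Topology in
  -- radii
  have hRex : ∀ i (W : HeightOneSpectrum (𝓞 (kf i))), ∃ R : ℕ, ∀ z : kf i, W.valuation (kf i) z ≤ exp (-(R : ℤ)) →
      W.valuation (kf i) (z / b i * eA i) ≤ W.valuation (kf i) (algebraMap k (kf i)
        (algebraMap (𝓞 k) k (π (PlaceMaps.below (k := k) W) ^ Nv (PlaceMaps.below (k := k) W)))) ∧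
      W.valuation (kf i) (z / b i * eC i) ≤ W.valuation (kf i) (algebraMap k (kf i)
        (algebraMap (𝓞 k) k (π (PlaceMaps.below (k := k) W) ^ Nv (PlaceMaps.below (k := k) W)))) := by
    intro i W
    set p := algebraMap k (kf i) (algebraMap (𝓞 k) k (π (PlaceMaps.below (k := k) W) ^ Nv (PlaceMaps.below (k := k) W))) with hp
    have hp0 : W.valuation (kf i) p ≠ 0 := by
      rw [map_ne_zero]
      simpa [hp] using fun h => absurd h (hπ0 _)
    refine ⟨(log (W.valuation (kf i) (eA i) / W.valuation (kf i) (b i) / W.valuation (kf i) p)).natAbs +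
      (log (W.valuation (kf i) (eC i) / W.valuation (kf i) (b i) / W.valuation (kf i) p)).natAbs, fun z hz => ?_⟩
    have key : ∀ (e : kf i) (R : ℕ), (log (W.valuation (kf i) e / W.valuation (kf i) (b i) / W.valuation (kf i) p)).natAbs ≤ R →
        W.valuation (kf i) z ≤ exp (-(R : ℤ)) → W.valuation (kf i) (z / b i * e) ≤ W.valuation (kf i) p := fun e R hR hz => by
      have hbne : W.valuation (kf i) (b i) ≠ 0 := (map_ne_zero _).2 (hb i)
      rcases eq_or_ne (W.valuation (kf i) e) 0 with he | he
      · rw [map_mul, he, mul_zero]; exact zero_le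
      rw [map_mul, map_div₀]
      have h1 : W.valuation (kf i) z * (W.valuation (kf i) e / W.valuation (kf i) (b i) / W.valuation (kf i) p) ≤ 1 := by
        refine (mul_le_mul' hz le_rfl).trans ?_
        rw [← exp_log (div_ne_zero (div_ne_zero he hbne) hp0), ← exp_add, ← exp_zero, exp_le_exp]
        omega
      rw [← mul_div_assoc, div_le_one₀ (zero_lt_iff.2 hp0)] at h1
      refine le_trans (le_of_eq ?_) h1
      rw [div_mul_eq_mul_div, mul_div_assoc]
    exact ⟨key _ _ (Nat.le_add_right _ _) hz, key _ _ (Nat.le_add_left _ _) hz⟩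
  choose R hR using hRex
  let above : (i : Fin n) → (v : IsDedekindDomain.HeightOneSpectrum (NumberField.RingOfIntegers k)) →
      Finset (IsDedekindDomain.HeightOneSpectrum (NumberField.RingOfIntegers (kf i))) := fun i v =>
    (Groth.Agent.CommAlg4.PlaceMaps.finite_above (K := kf i) v).toFinset
  open Groth.Agent.CommAlg4 NumberField IsDedekindDomain WithZero Module Topology in
  -- rational approximations of the finite targets
  have hsv : ∀ v : HeightOneSpectrum (𝓞 k), ∃ s : k, v ∈ Sig → Valued.v (algebraMap k _ s - T v) ≤ exp (-(Nv v : ℤ)) ∧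
      ∀ i (W : HeightOneSpectrum (𝓞 (kf i))) (h : PlaceMaps.below (k := k) W = v),
        Valued.v (algebraMap (kf i) _ (b i) * (algebraMap (kf i) (W.adicCompletion (kf i)) (algebraMap k (kf i) s) -
          ι i W (h.symm ▸ T v))) ≤ exp (-(R i W : ℤ)) := by
    intro v
    by_cases hv : v ∈ Sig
    · let C : (i : Fin n) → HeightOneSpectrum (𝓞 (kf i)) → Set (v.adicCompletion k) := fun i W =>
        if h : PlaceMaps.below (k := k) W = v then
          {z | Valued.v (algebraMap (kf i) _ (b i) * (ι i W (h.symm ▸ z) - ι i W (h.symm ▸ T v))) ≤ exp (-(R i W : ℤ))}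
        else Set.univ
      let O : Set (v.adicCompletion k) := {z | Valued.v (z - T v) ≤ exp (-(Nv v : ℤ))} ∩ ⋂ i, ⋂ W ∈ above i v, C i W
      have hO : IsOpen O := by
        refine (isOpen_ball_exp v (T v) _).inter (isOpen_iInter_of_finite fun i => isOpen_biInter_finset fun W hW => ?_)
        have h : PlaceMaps.below (k := k) W = v := (PlaceMaps.finite_above v).mem_toFinset.1 hW
        subst h
        simp only [C, dif_pos]
        have h := (isOpen_ball_exp W 0 (-(R i W : ℤ))).preimage (f := fun z => algebraMap (kf i) _ (b i) *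
          (ι i W z - ι i W (T (PlaceMaps.below W)))) (continuous_const.mul ((hιc i W).sub continuous_const))
        simpa [Set.preimage] using h
      have hOT : T v ∈ O := by
        refine ⟨by simp, Set.mem_iInter.2 fun i => Set.mem_iInter₂.2 fun W hW => ?_⟩
        have h : PlaceMaps.below (k := k) W = v := (PlaceMaps.finite_above v).mem_toFinset.1 hW
        simp [C, h]
      obtain ⟨s, hs⟩ := (HeightOneSpectrum.denseRange_algebraMap k v).exists_mem_open hO ⟨_, hOT⟩
      refine ⟨s, fun _ => ⟨hs.1, fun i W h => ?_⟩⟩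
      have h1 := Set.mem_iInter₂.1 (Set.mem_iInter.1 hs.2 i) W ((PlaceMaps.finite_above v).mem_toFinset.2 h)
      subst h
      simp only [C, dif_pos, Set.mem_ofPred_eq] at h1
      rwa [hι] at h1
    · exact ⟨0, fun h => absurd h hv⟩
  choose sv hsv using hsv
  open Groth.Agent.CommAlg4 NumberField IsDedekindDomain WithZero Module Topology in
  -- continuity at infinite places
  have hquoti : ∀ w : InfinitePlace k, ∃ ε : ℝ, 0 < ε ∧ (w ∈ Si → ∀ y z : w.Completion,
      ‖y - ti w‖ < ε → ‖z - 1‖ < ε → y / z ∈ Ui w) := by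
    intro w
    by_cases hw : w ∈ Si
    · have hcont : ContinuousAt (fun p : w.Completion × w.Completion => p.1 / p.2) (ti w, 1) :=
        continuousAt_fst.div continuousAt_snd one_ne_zero
      have h1 : {p : w.Completion × w.Completion | p.1 / p.2 ∈ Ui w} ∈ 𝓝 (ti w, (1 : w.Completion)) :=
        hcont.preimage_mem_nhds ((hUi w hw).1.mem_nhds (by simpa using (hUi w hw).2))
      obtain ⟨ε, hε, hsub⟩ := Metric.mem_nhds_iff.1 h1
      refine ⟨ε, hε, fun _ y z hy hz => hsub (?_ : ((y, z) : w.Completion × w.Completion) ∈ Metric.ball (ti w, 1) ε)⟩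
      rw [← ball_prod_same]
      exact ⟨by rwa [Metric.mem_ball, dist_eq_norm], by rwa [Metric.mem_ball, dist_eq_norm]⟩
    · exact ⟨1, one_pos, fun h => absurd h hw⟩
  choose ε hε hεU using hquoti
  let Mx : ℝ := (∑ i, ∑ W : NumberField.InfinitePlace (kf i), (W (eA i) + W (eC i)) / W (b i)) + 1
  have hMx : 0 < Mx := add_pos_of_nonneg_of_pos (Finset.sum_nonneg fun i _ => Finset.sum_nonneg fun W _ =>
    div_nonneg (add_nonneg (apply_nonneg W _) (apply_nonneg W _)) (apply_nonneg W _)) one_pos
  let rw' : NumberField.InfinitePlace k → ℝ := fun w => ε w / (16 * Mx)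
  have hrw : ∀ w, 0 < rw' w := fun w => div_pos (hε w) (by positivity)
  open Groth.Agent.CommAlg4 NumberField IsDedekindDomain WithZero Module Topology NumberField.LiesOver in
  have hιi : ∀ i (W : InfinitePlace (kf i)), ∃ ι' : (W.comap (algebraMap k (kf i))).Completion →+* W.Completion,
      Continuous ι' ∧ ∀ x : k, ι' (algebraMap k _ x) = algebraMap (kf i) _ (algebraMap k (kf i) x) := fun i W => by
    haveI : W.1.LiesOver (W.comap (algebraMap k (kf i))).1 := ⟨rfl⟩
    exact ⟨completionMap, continuous_completionMap, fun x =>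
      (IsScalarTower.algebraMap_apply k (W.comap (algebraMap k (kf i))).Completion W.Completion x).symm.trans
        (IsScalarTower.algebraMap_apply k (kf i) W.Completion x)⟩
  choose ιi hιic hιi using hιi
  open Groth.Agent.CommAlg4 NumberField IsDedekindDomain WithZero Module Topology in
  have hsw : ∀ w : InfinitePlace k, ∃ s : k, w ∈ Si → ‖algebraMap k _ s - ti w‖ < ε w / 2 ∧
      ∀ i (W : InfinitePlace (kf i)) (h : W.comap (algebraMap k (kf i)) = w),
        ‖algebraMap (kf i) _ (b i) * (algebraMap (kf i) W.Completion (algebraMap k (kf i) s) - ιi i W (h.symm ▸ ti w))‖ < rw' w := by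
    intro w
    by_cases hw : w ∈ Si
    · let C : (i : Fin n) → InfinitePlace (kf i) → Set w.Completion := fun i W =>
        if h : W.comap (algebraMap k (kf i)) = w then
          {z | ‖algebraMap (kf i) _ (b i) * (ιi i W (h.symm ▸ z) - ιi i W (h.symm ▸ ti w))‖ < rw' w}
        else Set.univ
      let O : Set w.Completion := {z | ‖z - ti w‖ < ε w / 2} ∩ ⋂ i, ⋂ W, C i W
      have hO : IsOpen O := by
        refine (isOpen_lt (continuous_id.sub continuous_const).norm continuous_const).inter
          (isOpen_iInter_of_finite fun i => isOpen_iInter_of_finite fun W => ?_)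
        by_cases h : W.comap (algebraMap k (kf i)) = w
        · subst h
          simp only [C, dif_pos]
          exact isOpen_lt (continuous_const.mul ((hιic i W).sub continuous_const)).norm continuous_const
        · simp [C, h]
      have hOT : ti w ∈ O := by
        refine ⟨by simpa using hε w, Set.mem_iInter₂.2 fun i W => ?_⟩
        by_cases h : W.comap (algebraMap k (kf i)) = w <;> simp [C, h, hrw w]
      obtain ⟨s, hs⟩ := (InfinitePlace.Completion.denseRange_coe w).exists_mem_open hO ⟨_, hOT⟩
      refine ⟨WithAbs.equiv w.1 s, fun _ => ⟨hs.1, fun i W h => ?_⟩⟩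
      have h1 := Set.mem_iInter₂.1 hs.2 i W
      subst h
      simp only [C, dif_pos, Set.mem_ofPred_eq] at h1
      rw [← hιi i W]
      exact h1
    · exact ⟨0, fun h => absurd h hw⟩
  choose sw hsw using hsw
  open Groth.Agent.CommAlg4 NumberField IsDedekindDomain WithZero Module Topology in
  -- the global values
  have hlam : ∀ i, ∃ l : kf i,
      (∀ W : HeightOneSpectrum (𝓞 (kf i)), PlaceMaps.below (k := k) W ∈ Sig →
        W.valuation (kf i) (l - b i * (algebraMap k (kf i) (sv (PlaceMaps.below (k := k) W)) - a i)) ≤ exp (-(R i W : ℤ))) ∧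
      (∀ W : InfinitePlace (kf i), W.comap (algebraMap k (kf i)) ∈ Si →
        W (l - b i * (algebraMap k (kf i) (sw (W.comap (algebraMap k (kf i)))) - a i)) ≤ 2 * rw' (W.comap (algebraMap k (kf i)))) ∧
      (∀ W : HeightOneSpectrum (𝓞 (kf i)), PlaceMaps.below (k := k) W ∉ Sig → PlaceMaps.below (k := k) W ≠ v₀ →
        W.valuation (kf i) l ≤ 1 ∧ (W.valuation (kf i) l < 1 → Nonempty (Lf i →ₐ[kf i] W.adicCompletion (kf i)))) := by
    intro i
    let SigK : Finset (HeightOneSpectrum (𝓞 (kf i))) := Sig.biUnion (above i)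
    have hmem : ∀ W, W ∈ SigK ↔ PlaceMaps.below (k := k) W ∈ Sig := fun W => by simp [SigK, above]
    obtain ⟨W₀, hW₀⟩ := PlaceMaps.exists_above (K := kf i) v₀
    have hξ : ∀ W : HeightOneSpectrum (𝓞 (kf i)), ∃ ξ : W.adicCompletion (kf i) ⊗[kf i] Lf i, PlaceMaps.below (k := k) W ∈ Sig →
        Valued.v (Algebra.norm (W.adicCompletion (kf i)) ξ - algebraMap (kf i) _ (b i) *
          (ι i W (T (PlaceMaps.below W)) - algebraMap (kf i) _ (a i))) ≤ exp (-(R i W : ℤ)) := fun W => by
      by_cases hW : PlaceMaps.below (k := k) W ∈ Sig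
      · obtain ⟨ξ, hξ⟩ := (hT _ hW).2.1 i W inferInstance (ι i W) (hι i W) (R i W)
        exact ⟨ξ, fun _ => hξ⟩
      · exact ⟨0, fun h => absurd h hW⟩
    choose ξ hξ using hξ
    obtain ⟨l, -, hl1, hl2, hl3, hl4⟩ := NormApprox.exists_near (kf i) (Lf i) SigK
      (Finset.univ.filter fun W : InfinitePlace (kf i) => W.comap (algebraMap k (kf i)) ∈ Si)
      (fun W => Algebra.norm (W.adicCompletion (kf i)) (ξ W))
      (fun W => algebraMap (kf i) _ (b i) * (ιi i W (ti _) - algebraMap (kf i) _ (a i)))
      (fun W _ => ⟨ξ W, rfl⟩)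
      (fun W hW => exists_target (ιi i W) (hιi i W) (b i) (a i) (ti _) (hti i _ (Finset.mem_filter.1 hW).2))
      (fun W => {z | Valued.v (z - Algebra.norm (W.adicCompletion (kf i)) (ξ W)) ≤ exp (-(R i W : ℤ))})
      (fun W _ => ⟨isOpen_ball_exp W _ _, by simp⟩)
      (fun W => Metric.ball (algebraMap (kf i) _ (b i) * (ιi i W (ti _) - algebraMap (kf i) _ (a i))) (rw' (W.comap (algebraMap k (kf i)))))
      (fun W _ => ⟨Metric.isOpen_ball, Metric.mem_ball_self (hrw _)⟩) W₀ (fun h => hv₀ (hW₀ ▸ (hmem _).1 h))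
    refine ⟨l, fun W hW => ?_, fun W hW => ?_, fun W hW hne => ?_⟩
    · have h2 := hl1 W ((hmem W).2 hW)
      have h3 := hξ W hW
      have h4 := (hsv _ hW).2 i W rfl
      rw [← SplitCompletion.valued_algebraMap, map_sub (algebraMap (kf i) (W.adicCompletion (kf i))),
        map_mul (algebraMap (kf i) (W.adicCompletion (kf i))), map_sub (algebraMap (kf i) (W.adicCompletion (kf i)))]
      have h5 : Valued.v (algebraMap (kf i) (W.adicCompletion (kf i)) l - algebraMap (kf i) _ (b i) *
          (ι i W (T (PlaceMaps.below W)) - algebraMap (kf i) _ (a i))) ≤ exp (-(R i W : ℤ)) := by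
        rw [← sub_add_sub_cancel _ (Algebra.norm (W.adicCompletion (kf i)) (ξ W))]
        exact Valuation.map_add_le _ h2 h3
      have h6 : ∀ (x y z c : W.adicCompletion (kf i)), x - algebraMap (kf i) _ (b i) * (y - c) =
          (x - algebraMap (kf i) _ (b i) * (z - c)) - algebraMap (kf i) _ (b i) * (y - z) := fun x y z c => by ring
      rw [h6 _ _ (ι i W (T (PlaceMaps.below W)))]
      exact Valuation.map_sub_le _ h5 h4
    · have h2 := hl2 W (Finset.mem_filter.2 ⟨Finset.mem_univ _, hW⟩)
      rw [Metric.mem_ball, dist_eq_norm] at h2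
      have h4 := (hsw _ hW).2 i W rfl
      rw [← norm_completion, map_sub, map_mul, map_sub]
      have h6 : ∀ (x y z c : W.Completion), x - algebraMap (kf i) _ (b i) * (y - c) =
          (x - algebraMap (kf i) _ (b i) * (z - c)) - algebraMap (kf i) _ (b i) * (y - z) := fun x y z c => by ring
      rw [h6 _ _ (ιi i W (ti _))]
      exact (norm_sub_le _ _).trans (by linarith)
    · have hW' : W ∉ SigK := fun h => hW ((hmem W).1 h)
      have hne' : W ≠ W₀ := fun h => hne (h ▸ hW₀)
      exact ⟨hl3 W hW' hne', hl4 W hW' hne'⟩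
  choose l hl1 hl2 hl3 using hlam
  let lam : (i : Fin n) → kf i := fun i => l i / b i
  let A : k := A₀ + ∑ j, Algebra.trace k (kf j) (eA j * lam j)
  let C : k := C₀ + ∑ j, Algebra.trace k (kf j) (eC j * lam j)
  have hdiff : ∀ (e : (i : Fin n) → kf i) (c₀ : k) (s : k),
      (c₀ + ∑ j, Algebra.trace k (kf j) (e j * lam j)) - (c₀ + ∑ j, Algebra.trace k (kf j) (e j * (algebraMap k (kf j) s - a j))) =
        ∑ j, Algebra.trace k (kf j) ((l j - b j * (algebraMap k (kf j) s - a j)) / b j * e j) := fun e c₀ s => by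
    rw [add_sub_add_left_eq_sub, ← Finset.sum_sub_distrib]
    refine Finset.sum_congr rfl fun j _ => ?_
    rw [← map_sub]
    congr 1
    simp only [lam]
    have := hb j
    field_simp
  open Groth.Agent.CommAlg4 NumberField IsDedekindDomain WithZero Module Topology in
  have hfinite : ∀ v ∈ Sig, algebraMap k (v.adicCompletion k) (A / C) ∈ UT v ∧ C ≠ 0 := by
    intro v hv
    have key : ∀ (e : (i : Fin n) → kf i), (∀ j (W : HeightOneSpectrum (𝓞 (kf j))), PlaceMaps.below (k := k) W = v →
        W.valuation (kf j) ((l j - b j * (algebraMap k (kf j) (sv v) - a j)) / b j * e j) ≤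
          W.valuation (kf j) (algebraMap k (kf j) (algebraMap (𝓞 k) k (π v ^ Nv v)))) →
        v.valuation k (∑ j, Algebra.trace k (kf j) ((l j - b j * (algebraMap k (kf j) (sv v) - a j)) / b j * e j)) ≤
          exp (-(Nv v : ℤ)) := fun e he => by
      refine Valuation.map_sum_le _ fun j _ => ?_
      refine (PlaceMaps.trace_le v (by simpa using fun h => absurd h (hπ0 v)) (he j)).trans ?_
      rw [HeightOneSpectrum.valuation_of_algebraMap]
      exact NormApprox.le_exp_neg v (hπ0 v) (hπ v) _
    have hA : v.valuation k (A - sv v) ≤ exp (-(Nv v : ℤ)) := by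
      conv_lhs => rw [← (hnorm1 (sv v)).1]
      rw [hdiff]
      exact key eA fun j W hW => by
        subst hW
        exact (hR j W _ (hl1 j W hv)).1
    have hC : v.valuation k (C - 1) ≤ exp (-(Nv v : ℤ)) := by
      conv_lhs => rw [← (hnorm1 (sv v)).2]
      rw [hdiff]
      exact key eC fun j W hW => by
        subst hW
        exact (hR j W _ (hl1 j W hv)).2
    obtain ⟨h1, h2⟩ := hNv v hv (algebraMap k _ A) (algebraMap k _ C) (by
      rw [← sub_add_sub_cancel _ (algebraMap k (v.adicCompletion k) (sv v))]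
      refine Valuation.map_add_le _ ?_ (hsv v hv).1
      rw [← map_sub, SplitCompletion.valued_algebraMap]
      exact hA) (by
      rw [← map_one (algebraMap k (v.adicCompletion k)), ← map_sub, SplitCompletion.valued_algebraMap]
      exact hC)
    exact ⟨by rwa [map_div₀], fun h => h2 (by rw [h, map_zero])⟩
  open Groth.Agent.CommAlg4 NumberField IsDedekindDomain WithZero Module Topology in
  have hinfinite : ∀ w ∈ Si, algebraMap k w.Completion (A / C) ∈ Ui w := by
    intro w hw
    have key : ∀ (e : (i : Fin n) → kf i), (∀ j (W : InfinitePlace (kf j)), W (e j) / W (b j) ≤ Mx) →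
        w (∑ j, Algebra.trace k (kf j) ((l j - b j * (algebraMap k (kf j) (sw w) - a j)) / b j * e j)) ≤ 2 * (2 * rw' w * Mx) := fun e he => by
      rw [← norm_completion, map_sum]
      refine (norm_sum_le_of_le _ (n := fun j => (finrank k (kf j) : ℝ) * (2 * rw' w * Mx)) fun j _ => ?_).trans ?_
      · rw [norm_completion]
        refine abs_trace_le w _ _ fun W hW => ?_
        subst hW
        rw [map_mul, map_div₀, div_mul_eq_mul_div, mul_div_assoc]
        exact mul_le_mul (hl2 j W hw) (he j W) (div_nonneg (apply_nonneg W _) (apply_nonneg W _))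
          (by linarith [hrw (W.comap (algebraMap k (kf j)))])
      · rw [← Finset.sum_mul]
        refine mul_le_mul_of_nonneg_right ?_ (by have := hrw w; positivity)
        exact_mod_cast hdeg
    have hMe : ∀ j (W : InfinitePlace (kf j)), W (eA j) / W (b j) ≤ Mx ∧ W (eC j) / W (b j) ≤ Mx := fun j W => by
      have h1 : (W (eA j) + W (eC j)) / W (b j) ≤ Mx := by
        refine le_trans ?_ (le_add_of_nonneg_right zero_le_one)
        refine le_trans ?_ (Finset.single_le_sum (fun i _ => Finset.sum_nonneg fun W _ =>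
          div_nonneg (add_nonneg (apply_nonneg W _) (apply_nonneg W _)) (apply_nonneg W _)) (Finset.mem_univ j))
        exact Finset.single_le_sum (f := fun W : InfinitePlace (kf j) => (W (eA j) + W (eC j)) / W (b j)) (fun W _ =>
          div_nonneg (add_nonneg (apply_nonneg W _) (apply_nonneg W _)) (apply_nonneg W _)) (Finset.mem_univ W)
      rw [add_div] at h1
      exact ⟨by linarith [div_nonneg (apply_nonneg W (eC j)) (apply_nonneg W (b j))],
        by linarith [div_nonneg (apply_nonneg W (eA j)) (apply_nonneg W (b j))]⟩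
    have h16 : 2 * (2 * rw' w * Mx) = ε w / 4 := by
      simp only [rw']
      field_simp
      ring
    have hA : w (A - sw w) ≤ ε w / 4 := by
      conv_lhs => rw [← (hnorm1 (sw w)).1]
      rw [hdiff]
      exact (key eA fun j W => (hMe j W).1).trans_eq h16
    have hC : w (C - 1) ≤ ε w / 4 := by
      conv_lhs => rw [← (hnorm1 (sw w)).2]
      rw [hdiff]
      exact (key eC fun j W => (hMe j W).2).trans_eq h16
    have := hε w
    rw [map_div₀]
    refine hεU w hw _ _ ?_ ?_
    · rw [← sub_add_sub_cancel _ (algebraMap k w.Completion (sw w))]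
      refine lt_of_le_of_lt (norm_add_le _ _) ?_
      rw [← map_sub, norm_completion]
      linarith [(hsw w hw).1]
    · rw [← map_one (algebraMap k w.Completion), ← map_sub, norm_completion]
      linarith
  refine ⟨A / C, fun v hv => ?_, hinfinite, fun i W hW => ?_⟩
  · have hvS : v ∈ Sig := Finset.mem_union_left _ hv
    rw [← (hT v hvS).2.2.1 hv]
    exact (hfinite v hvS).1
  open Groth.Agent.CommAlg4 in
  by_cases hS : PlaceMaps.below (k := k) W ∈ Sf
  · exact Or.inl ⟨_, hS, inferInstance⟩
  open Groth.Agent.CommAlg4 in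
  by_cases hSig : PlaceMaps.below (k := k) W ∈ Sig
  · exact absurd hW ((hT _ hSig).2.2.2 hS (A / C) (hfinite _ hSig).1 i W inferInstance)
  open Groth.Agent.CommAlg4 in
  by_cases hv₀' : PlaceMaps.below (k := k) W = v₀
  · exact Or.inr (hsplit₀ i W hv₀')
  open Groth.Agent.CommAlg4 NumberField IsDedekindDomain WithZero Module Topology in
  have hCle : (PlaceMaps.below (k := k) W).valuation k C ≤ 1 := by
    set v := PlaceMaps.below (k := k) W with hv
    simp only [Sig, Finset.mem_union, not_or, Finset.mem_singleton, Finset.mem_biUnion, Finset.mem_image, not_exists,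
      Set.Finite.mem_toFinset, Finset.mem_univ, true_and, not_and] at hSig
    obtain ⟨-, hC0, hne1, heC⟩ := hSig
    refine Valuation.map_add_le _ (not_not.1 hC0) (Valuation.map_sum_le _ fun j _ => PlaceMaps.trace_le_one v fun W' hW' => ?_)
    rw [map_mul]
    refine mul_le_one' (not_not.1 fun h => heC j W' h hW') ?_
    simp only [lam]
    rw [map_div₀, hbunit j W' (hW' ▸ hS), div_one]
    refine (hl3 j W' ?_ (hW' ▸ hv₀')).1
    rw [hW']
    simp only [Sig, Finset.mem_union, not_or, Finset.mem_singleton, Finset.mem_biUnion, Finset.mem_image, not_exists,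
      Set.Finite.mem_toFinset, Finset.mem_univ, true_and, not_and]
    exact ⟨hS, hC0, hne1, heC⟩
  open Groth.Agent.CommAlg4 in
  refine Or.inr ((hl3 i W hSig hv₀').2 ?_)
  open Groth.Agent.CommAlg4 in
  have hC0 : C ≠ 0 := (hfinite v₁ (Finset.mem_union_right _ (Finset.mem_union_right _ (Finset.mem_union_left _
    (Finset.mem_singleton_self v₁))))).2
  open Groth.Agent.CommAlg4 in
  have hkey : algebraMap k (kf i) (A / C) - a i = lam i / algebraMap k (kf i) C := by
    have hC' : algebraMap k (kf i) C ≠ 0 := by simpa using hC0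
    rw [map_div₀, eq_div_iff hC', sub_mul, div_mul_cancel₀ _ hC', mul_comm (a i)]
    exact hsol lam i
  rw [hkey, map_div₀, div_lt_one₀ (zero_lt_iff.2 ((map_ne_zero _).2 (by simpa using hC0)))] at hW
  have hlt := hW.trans_le (Groth.Agent.CommAlg4.PlaceMaps.algebraMap_le_one _ W hCle)
  simp only [lam] at hlt
  rwa [map_div₀, hbunit i W hS, div_one] at hlt

end Groth.Agent.S19285
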