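import Groth.Statements.S19286
import Groth.Agent.CommAlg4.LocalNorm
-- import your own Groth.Agent.* helpers here

set_option autoImplicit false
universe u
open scoped TensorProduct
open NumberField

namespace Groth.Agent.S19286

section Helpers

open NumberField IsDedekindDomain WithZero Module Filter Topology Groth.Agent.CommAlg4

open scoped TensorProduct Classical

variable {k : Type u} [Field k] [NumberField k]

theorem isOpen_ball_exp (v : HeightOneSpectrum (𝓞 k)) (c : v.adicCompletion k) (N : ℤ) :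
    IsOpen {y : v.adicCompletion k | Valued.v (y - c) ≤ exp N} := by
  obtain ⟨g, hg⟩ : ∃ g : k, v.valuation k g = exp N := by
    obtain ⟨π, hπ⟩ := v.valuation_exists_uniformizer k
    exact ⟨π ^ (-N), by rw [map_zpow₀, hπ, ← exp_zsmul]; simp⟩
  have hr : Valued.v.restrict (algebraMap k (v.adicCompletion k) g) ≠ 0 := by
    rw [Ne, map_eq_zero, map_eq_zero]
    rintro rfl
    simp at hg
    exact exp_ne_zero hg.symm
  have h := (Valued.isOpen_closedBall (v.adicCompletion k) hr).preimage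
    (continuous_id.sub (continuous_const (y := c)))
  convert h using 1
  ext y
  simp [SplitCompletion.valued_algebraMap, hg]

variable {K L : Type u} [Field K] [NumberField K] [Field L] [NumberField L] [Algebra K L]

theorem not_dvd_different (W : HeightOneSpectrum (𝓞 K)) (P : Ideal (𝓞 L)) [P.IsPrime] [P.LiesOver W.asIdeal]
    (he : P.ramificationIdx (𝓞 K) = 1) : ¬ P ∣ differentIdeal (𝓞 K) (𝓞 L) := by
  haveI := W.isMaximal
  haveI : (P.under (𝓞 K)).IsMaximal := by rw [← Ideal.over_def P W.asIdeal]; exact W.isMaximal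
  haveI : Finite (𝓞 K ⧸ P.under (𝓞 K)) := by
    rw [← Ideal.over_def P W.asIdeal]; exact Ideal.finiteQuotientOfFreeOfNeBot _ W.ne_bot
  haveI : Finite (P.under (𝓞 K)).ResidueField :=
    Finite.of_surjective _ (P.under (𝓞 K)).bijective_algebraMap_quotient_residueField.2
  exact not_dvd_differentIdeal_iff.2 (Ideal.ramificationIdx_eq_one_iff.1 he)

theorem moebius_identity {k A : Type*} [Field k] [CommRing A] (j : k →+* A) (b a a' b' T T' D : A) (α β γ δ : k)
    (hD : D = j γ * T + j δ) (hDu : IsUnit D)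
    (hT' : T' * D = j α * T + j β) (hb' : b' = b * (j γ * a + j δ)) (ha' : a' * (j γ * a + j δ) = j α * a + j β)
    (r : A) (hr : r * D = j (α * δ - β * γ)) :
    b' * (T' - a') = b * (T - a) * r := by
  apply hDu.mul_right_cancel
  rw [mul_assoc _ r D, hr, map_sub, map_mul, map_mul, hb']
  linear_combination (b * (j γ * a + j δ)) * hT' - (b * D) * ha' - (b * (j α * a + j β)) * hD

theorem moebius_open {F : Type*} [Field F] [TopologicalSpace F] [IsTopologicalDivisionRing F] [T2Space F]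
    (α β γ δ T : F) (hdet : α * δ - β * γ ≠ 0) (hD : γ * T + δ ≠ 0) (U : Set F) (hU : IsOpen U) (hT : T ∈ U) :
    ∃ U' : Set F, IsOpen U' ∧ (α * T + β) / (γ * T + δ) ∈ U' ∧
      ∀ x ∈ U', α - γ * x ≠ 0 ∧ (δ * x - β) / (α - γ * x) ∈ U := by
  let O : Set F := {x | α - γ * x ≠ 0}
  have hO : IsOpen O := isOpen_ne_fun (by fun_prop) continuous_const
  have hg : ContinuousOn (fun x => (δ * x - β) / (α - γ * x)) O :=
    ContinuousOn.div (by fun_prop) (by fun_prop) fun x hx => hx
  refine ⟨O ∩ (fun x => (δ * x - β) / (α - γ * x)) ⁻¹' U, hg.isOpen_inter_preimage hO hU, ?_, fun x hx => hx⟩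
  have h1 : α - γ * ((α * T + β) / (γ * T + δ)) = (α * δ - β * γ) / (γ * T + δ) := by
    rw [eq_div_iff hD, sub_mul, mul_assoc, div_mul_cancel₀ _ hD]
    ring
  refine ⟨(h1 ▸ div_ne_zero hdet hD : α - γ * ((α * T + β) / (γ * T + δ)) ≠ 0), ?_⟩
  show (δ * ((α * T + β) / (γ * T + δ)) - β) / _ ∈ U
  rw [h1, show δ * ((α * T + β) / (γ * T + δ)) - β = (α * δ - β * γ) * T / (γ * T + δ) by
    rw [eq_div_iff hD, sub_mul, mul_assoc, div_mul_cancel₀ _ hD]; ring,
    div_div_div_cancel_right₀ hD, mul_div_assoc, mul_comm, div_mul_cancel₀ _ hdet]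
  exact hT

set_option maxHeartbeats 1000000 in
theorem moebius_norm {k K L F : Type u} [Field k] [Field K] [Field L] [Algebra k K] [Algebra K L] [Algebra k L]
    [IsScalarTower k K L] [Field F] [Algebra k F] (α β γ δ : k) (a b a' b' : K) (T T' : F)
    (hD : algebraMap k F γ * T + algebraMap k F δ ≠ 0) (hia : algebraMap k K γ * a + algebraMap k K δ ≠ 0)
    (hT' : T' = (algebraMap k F α * T + algebraMap k F β) / (algebraMap k F γ * T + algebraMap k F δ))
    (ha' : a' = (algebraMap k K α * a + algebraMap k K β) / (algebraMap k K γ * a + algebraMap k K δ))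
    (hb' : b' = b * (algebraMap k K γ * a + algebraMap k K δ)) :
    letI := (Algebra.TensorProduct.map (AlgHom.id k F) (IsScalarTower.toAlgHom k K L)).toRingHom.toAlgebra
    (∃ x : F ⊗[k] L, IsUnit x ∧ Algebra.norm (F ⊗[k] K) x =
        (1 : F) ⊗ₜ[k] b * (T ⊗ₜ[k] (1 : K) - (1 : F) ⊗ₜ[k] a)) →
    (∃ y : F ⊗[k] L, IsUnit y ∧ Algebra.norm (F ⊗[k] K) y =
        (algebraMap k F (α * δ - β * γ) / (algebraMap k F γ * T + algebraMap k F δ)) ⊗ₜ[k] (1 : K)) →
    ∃ z : F ⊗[k] L, IsUnit z ∧ Algebra.norm (F ⊗[k] K) z =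
        (1 : F) ⊗ₜ[k] b' * (T' ⊗ₜ[k] (1 : K) - (1 : F) ⊗ₜ[k] a') := by
  letI := (Algebra.TensorProduct.map (AlgHom.id k F) (IsScalarTower.toAlgHom k K L)).toRingHom.toAlgebra
  rintro ⟨x, hx, hxn⟩ ⟨y, hy, hyn⟩
  refine ⟨x * y, hx.mul hy, ?_⟩
  rw [map_mul, hxn, hyn]
  let l : F →ₐ[k] F ⊗[k] K := Algebra.TensorProduct.includeLeft
  let r : K →ₐ[k] F ⊗[k] K := Algebra.TensorProduct.includeRight
  have hl : ∀ c : k, l (algebraMap k F c) = algebraMap k (F ⊗[k] K) c := l.commutes
  have hr : ∀ c : k, r (algebraMap k K c) = algebraMap k (F ⊗[k] K) c := r.commutes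
  refine (moebius_identity (algebraMap k (F ⊗[k] K)) (r b) (r a) (r a') (r b') (l T) (l T')
    (l (algebraMap k F γ * T + algebraMap k F δ)) α β γ δ ?_ ((isUnit_iff_ne_zero.2 hD).map l) ?_ ?_ ?_
    (l (algebraMap k F (α * δ - β * γ) / (algebraMap k F γ * T + algebraMap k F δ))) ?_).symm
  · rw [map_add, map_mul, hl, hl]
  · rw [← map_mul, hT', div_mul_cancel₀ _ hD, map_add, map_mul, hl, hl]
  · rw [hb', map_mul, map_add, map_mul, hr, hr]
  · rw [← hr γ, ← hr δ, ← map_mul, ← map_add, ← map_mul, ha', div_mul_cancel₀ _ hia, map_add, map_mul, hr, hr]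
  · rw [← map_mul, div_mul_cancel₀ _ hD, hl]

end Helpers

set_option maxHeartbeats 2000000 in
/-- Invariance, under a linear change of coordinate on the projective line, of the hypotheses (the data
listed next) of a conjecture on locally split values. Data: k a number field, n ≥ 1, k_i = k(a_i)
with pairwise distinct minimal polynomials, L_i/k_i finite, b_i ∈ k_i nonzero, finite sets S_f ⊇
(finite places below a non-unit place of some b_i or a ramified prime of some L_i/k_i), S_∞ ⊇ real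
places, t_v ∈ k_v for v ∈ S_f ∪ S_∞ with b_i(t_v − a_i) the norm of a unit of k_v ⊗_k L_i over k_v
⊗_k k_i. Let α, β, γ, δ ∈ k with αδ − βγ ≠ 0 satisfy: (i) γa_i + δ ≠ 0 for all i and γt_v + δ ≠ 0
for v ∈ S_f ∪ S_∞; (ii) α is a unit at every finite place outside S_f and αa_i + β is a unit at
every finite place of k_i not above S_f; (iii) for every i and v ∈ S_f ∪ S_∞, (αδ − βγ)/(γt_v + δ)
is the norm of a unit of k_v ⊗_k L_i. Put a'_i = (αa_i + β)/(γa_i + δ), b'_i = b_i(γa_i + δ); let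
S'_f ⊇ S_f be a finite set of finite places containing those where α or γ is not integral and those
below a place of some k_i where a'_i is not integral or b'_i is not a unit; put t'_v = (αt_v +
β)/(γt_v + δ) for v ∈ S_f ∪ S_∞ and t'_v = 0 for v ∈ S'_f ∖ S_f; for t'_0 ∈ k with α ≠ γt'_0 write
t_0 = (δt'_0 − β)/(α − γt'_0). Then: (1) for every i and v ∈ S'_f ∪ S_∞, b'_i(t'_v − a'_i) is the
norm of a unit of k_v ⊗_k L_i over k_v ⊗_k k_i; (2) for v ∈ S_f ∪ S_∞ and every neighbourhood U of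
t_v there is a neighbourhood U' of t'_v such that t'_0 ∈ U' forces t_0 ∈ U; (4) there are
neighbourhoods U'_v of 0 in k_v for v ∈ S'_f ∖ S_f such that whenever t'_0 ∈ U'_v for all such v,
every finite place w of some k_i with w(t_0 − a_i) > 0 either lies above S_f, or does not lie above
S'_f and satisfies w(t'_0 − a'_i) > 0. (The published statement's S' may also contain further
infinite places, and it has a further conclusion on signs at real places; both are omitted here.) -/
theorem result (k : Type u) [Field k] [NumberField k]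
    (n : ℕ) (hn : 1 ≤ n)
    (kf : Fin n → Type u) [∀ i, Field (kf i)] [∀ i, NumberField (kf i)] [∀ i, Algebra k (kf i)]
    (Lf : Fin n → Type u) [∀ i, Field (Lf i)] [∀ i, NumberField (Lf i)] [∀ i, Algebra (kf i) (Lf i)]
    [∀ i, Algebra k (Lf i)] [∀ i, IsScalarTower k (kf i) (Lf i)]
    (a : (i : Fin n) → kf i) (ha : ∀ i, IntermediateField.adjoin k {a i} = ⊤)
    (hdist : ∀ i j, i ≠ j → minpoly k (a i) ≠ minpoly k (a j))
    (b : (i : Fin n) → kf i) (hb : ∀ i, b i ≠ 0)
    (Sf : Finset (IsDedekindDomain.HeightOneSpectrum (NumberField.RingOfIntegers k)))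
    (Si : Finset (NumberField.InfinitePlace k))
    (hSreal : ∀ w : NumberField.InfinitePlace k, w.IsReal → w ∈ Si)
    (hSb : ∀ i, ∀ W : IsDedekindDomain.HeightOneSpectrum (NumberField.RingOfIntegers (kf i)),
      W.valuation (kf i) (b i) ≠ 1 → ∃ v ∈ Sf, W.asIdeal.LiesOver v.asIdeal)
    (hSram : ∀ i, ∀ Q : Ideal (NumberField.RingOfIntegers (Lf i)), Q.IsPrime → Q ≠ ⊥ →
      Q.ramificationIdx (NumberField.RingOfIntegers (kf i)) ≠ 1 → ∃ v ∈ Sf, Q.LiesOver v.asIdeal)
    (tf : (v : IsDedekindDomain.HeightOneSpectrum (NumberField.RingOfIntegers k)) → v.adicCompletion k)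
    (ti : (w : NumberField.InfinitePlace k) → w.Completion)
    (htf : ∀ i, ∀ v ∈ Sf,
      letI := (Algebra.TensorProduct.map (AlgHom.id k (v.adicCompletion k))
        (IsScalarTower.toAlgHom k (kf i) (Lf i))).toRingHom.toAlgebra
      ∃ x : (v.adicCompletion k) ⊗[k] Lf i, IsUnit x ∧
        Algebra.norm ((v.adicCompletion k) ⊗[k] kf i) x =
          (1 : v.adicCompletion k) ⊗ₜ[k] b i * (tf v ⊗ₜ[k] (1 : kf i) - (1 : v.adicCompletion k) ⊗ₜ[k] a i))
    (hti : ∀ i, ∀ w ∈ Si,
      letI := (Algebra.TensorProduct.map (AlgHom.id k w.Completion)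
        (IsScalarTower.toAlgHom k (kf i) (Lf i))).toRingHom.toAlgebra
      ∃ x : w.Completion ⊗[k] Lf i, IsUnit x ∧
        Algebra.norm (w.Completion ⊗[k] kf i) x =
          (1 : w.Completion) ⊗ₜ[k] b i * (ti w ⊗ₜ[k] (1 : kf i) - (1 : w.Completion) ⊗ₜ[k] a i))
    (α β γ δ : k) (hdet : α * δ - β * γ ≠ 0)
    (hia : ∀ i, algebraMap k (kf i) γ * a i + algebraMap k (kf i) δ ≠ 0)
    (hitf : ∀ v ∈ Sf, algebraMap k (v.adicCompletion k) γ * tf v + algebraMap k (v.adicCompletion k) δ ≠ 0)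
    (hiti : ∀ w ∈ Si, algebraMap k w.Completion γ * ti w + algebraMap k w.Completion δ ≠ 0)
    (hiiα : ∀ v : IsDedekindDomain.HeightOneSpectrum (NumberField.RingOfIntegers k), v ∉ Sf → v.valuation k α = 1)
    (hiia : ∀ i, ∀ W : IsDedekindDomain.HeightOneSpectrum (NumberField.RingOfIntegers (kf i)),
      (¬ ∃ v ∈ Sf, W.asIdeal.LiesOver v.asIdeal) →
        W.valuation (kf i) (algebraMap k (kf i) α * a i + algebraMap k (kf i) β) = 1)
    (hiiif : ∀ i, ∀ v ∈ Sf,
      letI := (Algebra.TensorProduct.map (AlgHom.id k (v.adicCompletion k))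
        (IsScalarTower.toAlgHom k (kf i) (Lf i))).toRingHom.toAlgebra
      ∃ y : (v.adicCompletion k) ⊗[k] Lf i, IsUnit y ∧
        Algebra.norm ((v.adicCompletion k) ⊗[k] kf i) y =
          (algebraMap k (v.adicCompletion k) (α * δ - β * γ) /
            (algebraMap k (v.adicCompletion k) γ * tf v + algebraMap k (v.adicCompletion k) δ)) ⊗ₜ[k] (1 : kf i))
    (hiiii : ∀ i, ∀ w ∈ Si,
      letI := (Algebra.TensorProduct.map (AlgHom.id k w.Completion)
        (IsScalarTower.toAlgHom k (kf i) (Lf i))).toRingHom.toAlgebra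
      ∃ y : w.Completion ⊗[k] Lf i, IsUnit y ∧
        Algebra.norm (w.Completion ⊗[k] kf i) y =
          (algebraMap k w.Completion (α * δ - β * γ) /
            (algebraMap k w.Completion γ * ti w + algebraMap k w.Completion δ)) ⊗ₜ[k] (1 : kf i))
    (a' b' : (i : Fin n) → kf i)
    (ha' : ∀ i, a' i = (algebraMap k (kf i) α * a i + algebraMap k (kf i) β) /
      (algebraMap k (kf i) γ * a i + algebraMap k (kf i) δ))
    (hb' : ∀ i, b' i = b i * (algebraMap k (kf i) γ * a i + algebraMap k (kf i) δ))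
    (Sf' : Finset (IsDedekindDomain.HeightOneSpectrum (NumberField.RingOfIntegers k))) (hSS' : Sf ⊆ Sf')
    (hS'αγ : ∀ v : IsDedekindDomain.HeightOneSpectrum (NumberField.RingOfIntegers k), v ∉ Sf' →
      v.valuation k α ≤ 1 ∧ v.valuation k γ ≤ 1)
    (hS'ab : ∀ i, ∀ W : IsDedekindDomain.HeightOneSpectrum (NumberField.RingOfIntegers (kf i)),
      (¬ ∃ v ∈ Sf', W.asIdeal.LiesOver v.asIdeal) → W.valuation (kf i) (a' i) ≤ 1 ∧ W.valuation (kf i) (b' i) = 1)
    (tf' : (v : IsDedekindDomain.HeightOneSpectrum (NumberField.RingOfIntegers k)) → v.adicCompletion k)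
    (htf'S : ∀ v ∈ Sf, tf' v = (algebraMap k (v.adicCompletion k) α * tf v + algebraMap k (v.adicCompletion k) β) /
      (algebraMap k (v.adicCompletion k) γ * tf v + algebraMap k (v.adicCompletion k) δ))
    (htf'S' : ∀ v ∈ Sf', v ∉ Sf → tf' v = 0)
    (ti' : (w : NumberField.InfinitePlace k) → w.Completion)
    (hti' : ∀ w ∈ Si, ti' w = (algebraMap k w.Completion α * ti w + algebraMap k w.Completion β) /
      (algebraMap k w.Completion γ * ti w + algebraMap k w.Completion δ)) :
    (∀ i, ∀ v ∈ Sf',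
      letI := (Algebra.TensorProduct.map (AlgHom.id k (v.adicCompletion k))
        (IsScalarTower.toAlgHom k (kf i) (Lf i))).toRingHom.toAlgebra
      ∃ x : (v.adicCompletion k) ⊗[k] Lf i, IsUnit x ∧
        Algebra.norm ((v.adicCompletion k) ⊗[k] kf i) x =
          (1 : v.adicCompletion k) ⊗ₜ[k] b' i * (tf' v ⊗ₜ[k] (1 : kf i) - (1 : v.adicCompletion k) ⊗ₜ[k] a' i)) ∧
    (∀ i, ∀ w ∈ Si,
      letI := (Algebra.TensorProduct.map (AlgHom.id k w.Completion)
        (IsScalarTower.toAlgHom k (kf i) (Lf i))).toRingHom.toAlgebra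
      ∃ x : w.Completion ⊗[k] Lf i, IsUnit x ∧
        Algebra.norm (w.Completion ⊗[k] kf i) x =
          (1 : w.Completion) ⊗ₜ[k] b' i * (ti' w ⊗ₜ[k] (1 : kf i) - (1 : w.Completion) ⊗ₜ[k] a' i)) ∧
    (∀ v ∈ Sf, ∀ U : Set (v.adicCompletion k), IsOpen U → tf v ∈ U →
      ∃ U' : Set (v.adicCompletion k), IsOpen U' ∧ tf' v ∈ U' ∧
        ∀ t₀' : k, α ≠ γ * t₀' → algebraMap k (v.adicCompletion k) t₀' ∈ U' →
          algebraMap k (v.adicCompletion k) ((δ * t₀' - β) / (α - γ * t₀')) ∈ U) ∧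
    (∀ w ∈ Si, ∀ U : Set w.Completion, IsOpen U → ti w ∈ U →
      ∃ U' : Set w.Completion, IsOpen U' ∧ ti' w ∈ U' ∧
        ∀ t₀' : k, α ≠ γ * t₀' → algebraMap k w.Completion t₀' ∈ U' →
          algebraMap k w.Completion ((δ * t₀' - β) / (α - γ * t₀')) ∈ U) ∧
    (∃ U' : (v : IsDedekindDomain.HeightOneSpectrum (NumberField.RingOfIntegers k)) → Set (v.adicCompletion k),
      (∀ v ∈ Sf', v ∉ Sf → IsOpen (U' v) ∧ (0 : v.adicCompletion k) ∈ U' v) ∧
      ∀ t₀' : k, α ≠ γ * t₀' → (∀ v ∈ Sf', v ∉ Sf → algebraMap k (v.adicCompletion k) t₀' ∈ U' v) →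
        ∀ i, ∀ W : IsDedekindDomain.HeightOneSpectrum (NumberField.RingOfIntegers (kf i)),
          W.valuation (kf i) (algebraMap k (kf i) ((δ * t₀' - β) / (α - γ * t₀')) - a i) < 1 →
            (∃ v ∈ Sf, W.asIdeal.LiesOver v.asIdeal) ∨
            ((¬ ∃ v ∈ Sf', W.asIdeal.LiesOver v.asIdeal) ∧
              W.valuation (kf i) (algebraMap k (kf i) t₀' - a' i) < 1)) := by
  have hne : ∀ (i : Fin n) (v : IsDedekindDomain.HeightOneSpectrum (𝓞 k)), v ∉ Sf →
      ∀ W : IsDedekindDomain.HeightOneSpectrum (𝓞 (kf i)), Groth.Agent.CommAlg4.PlaceMaps.below W = v →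
        ¬ ∃ v' ∈ Sf, W.asIdeal.LiesOver v'.asIdeal := by
    rintro i v hv W hW ⟨v', hv', hlies⟩
    haveI := hlies
    exact hv (hW ▸ Groth.Agent.CommAlg4.PlaceMaps.eq_below v' W ▸ hv')
  refine ⟨fun i v hv => ?_, fun i w hw => ?_, fun v hv U hU hT => ?_, fun w hw U hU hT => ?_, ?_⟩
  · by_cases hvS : v ∈ Sf
    · exact moebius_norm α β γ δ (a i) (b i) (a' i) (b' i) (tf v) (tf' v) (hitf v hvS) (hia i) (htf'S v hvS)
        (ha' i) (hb' i) (htf i v hvS) (hiiif i v hvS)
    · letI := (Algebra.TensorProduct.map (AlgHom.id k (v.adicCompletion k))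
        (IsScalarTower.toAlgHom k (kf i) (Lf i))).toRingHom.toAlgebra
      have hb1 : ∀ W : IsDedekindDomain.HeightOneSpectrum (𝓞 (kf i)), Groth.Agent.CommAlg4.PlaceMaps.below W = v →
          W.valuation (kf i) (-(b i * (algebraMap k (kf i) α * a i + algebraMap k (kf i) β))) = 1 := fun W hW => by
        rw [Valuation.map_neg, map_mul, hiia i W (hne i v hvS W hW),
          show W.valuation (kf i) (b i) = 1 from by_contra fun h => hne i v hvS W hW (hSb i W h), mul_one]
      obtain ⟨x, hxu, hx⟩ := Groth.Agent.CommAlg4.LocalNorm.exists_norm_eq (L := Lf i) v (fun W hW P hP hPW => by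
        haveI := hP; haveI := hPW
        refine not_dvd_different W P (by_contra fun he => ?_)
        obtain ⟨v', hv', hlies⟩ := hSram i P hP (Ideal.ne_bot_of_liesOver_of_ne_bot W.ne_bot P) he
        haveI := hlies
        exact hne i v hvS W hW ⟨v', hv', Ideal.LiesOver.tower_bot P W.asIdeal v'.asIdeal⟩) _ hb1
      refine ⟨x, hxu, hx.trans ?_⟩
      have h0 : b' i * a' i = b i * (algebraMap k (kf i) α * a i + algebraMap k (kf i) β) := by
        rw [ha' i, hb' i, mul_assoc, mul_comm (algebraMap k (kf i) γ * a i + _), div_mul_cancel₀ _ (hia i)]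
      rw [htf'S' v hv hvS, TensorProduct.zero_tmul, zero_sub, mul_neg, Algebra.TensorProduct.tmul_mul_tmul,
        one_mul, h0, TensorProduct.tmul_neg]
  · exact moebius_norm α β γ δ (a i) (b i) (a' i) (b' i) (ti w) (ti' w) (hiti w hw) (hia i) (hti' w hw)
      (ha' i) (hb' i) (hti i w hw) (hiiii i w hw)
  · obtain ⟨U', hU', hmem, hU''⟩ := moebius_open (algebraMap k (v.adicCompletion k) α) (algebraMap k _ β)
      (algebraMap k _ γ) (algebraMap k _ δ) (tf v) (by rw [← map_mul, ← map_mul, ← map_sub]; exact (map_ne_zero _).2 hdet)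
      (hitf v hv) U hU hT
    refine ⟨U', hU', htf'S v hv ▸ hmem, fun t₀ _ ht => ?_⟩
    rw [map_div₀, map_sub, map_sub, map_mul, map_mul]
    exact (hU'' _ ht).2
  · obtain ⟨U', hU', hmem, hU''⟩ := moebius_open (algebraMap k w.Completion α) (algebraMap k _ β)
      (algebraMap k _ γ) (algebraMap k _ δ) (ti w) (by rw [← map_mul, ← map_mul, ← map_sub]; exact (map_ne_zero _).2 hdet)
      (hiti w hw) U hU hT
    refine ⟨U', hU', hti' w hw ▸ hmem, fun t₀ _ ht => ?_⟩
    rw [map_div₀, map_sub, map_sub, map_mul, map_mul]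
    exact (hU'' _ ht).2
  choose M1 hM1 using fun (i : Fin n) (W : IsDedekindDomain.HeightOneSpectrum (𝓞 (kf i))) =>
    Groth.Agent.CommAlg4.LocalNorm.exists_exp_mul_le (g := WithZero.exp (-1 : ℤ)) WithZero.exp_ne_zero
      (max (W.valuation (kf i) (algebraMap k (kf i) γ))
        (W.valuation (kf i) (algebraMap k (kf i) δ + algebraMap k (kf i) γ * a i)))
  let Nv : IsDedekindDomain.HeightOneSpectrum (𝓞 k) → ℕ := fun v => Finset.univ.sup fun i =>
    (Groth.Agent.CommAlg4.PlaceMaps.finite_above (K := kf i) v).toFinset.sup (M1 i)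
  refine ⟨fun v => {x | Valued.v (x - 0) ≤ WithZero.exp (-(Nv v : ℤ))}, fun v _ _ => ⟨isOpen_ball_exp v 0 _,
    show Valued.v ((0 : v.adicCompletion k) - 0) ≤ _ by rw [sub_zero, map_zero]; exact zero_le⟩, fun t₀ ht₀ hU i W hW => ?_⟩
  refine or_iff_not_imp_left.2 fun hS => ?_
  set v := Groth.Agent.CommAlg4.PlaceMaps.below (k := k) W with hv
  have hvS : v ∉ Sf := fun h => hS ⟨v, h, inferInstance⟩
  have hA : algebraMap k (kf i) α - algebraMap k (kf i) γ * algebraMap k (kf i) t₀ ≠ 0 := by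
    rw [← map_mul, ← map_sub]
    exact (map_ne_zero _).2 (sub_ne_zero.2 ht₀)
  set num := (algebraMap k (kf i) δ + algebraMap k (kf i) γ * a i) * algebraMap k (kf i) t₀ -
    (algebraMap k (kf i) α * a i + algebraMap k (kf i) β) with hnum
  have hta : algebraMap k (kf i) ((δ * t₀ - β) / (α - γ * t₀)) - a i =
      num / (algebraMap k (kf i) α - algebraMap k (kf i) γ * algebraMap k (kf i) t₀) := by
    rw [map_div₀, map_sub, map_sub, map_mul, map_mul, eq_div_iff hA, sub_mul, div_mul_cancel₀ _ hA, hnum]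
    ring
  have hWα : W.valuation (kf i) (algebraMap k (kf i) α) = 1 := by
    rw [← Groth.Agent.CommAlg4.PlaceMaps.valuation_algebraMap v W, hiiα v hvS, one_pow]
  have hWab := hiia i W hS
  have hmain : ¬ ∃ v ∈ Sf', W.asIdeal.LiesOver v.asIdeal := by
    rintro ⟨v', hv', hlies⟩
    haveI := hlies
    obtain rfl : v' = v := Groth.Agent.CommAlg4.PlaceMaps.eq_below v' W
    have ht : W.valuation (kf i) (algebraMap k (kf i) t₀) ≤ WithZero.exp (-(M1 i W : ℤ)) := by
      have h1 : v.valuation k t₀ ≤ WithZero.exp (-(Nv v : ℤ)) := by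
        have h : Valued.v (algebraMap k (v.adicCompletion k) t₀ - 0) ≤ WithZero.exp (-(Nv v : ℤ)) := hU v hv' hvS
        rwa [sub_zero, Groth.Agent.CommAlg4.SplitCompletion.valued_algebraMap] at h
      rw [← Groth.Agent.CommAlg4.PlaceMaps.valuation_algebraMap v W]
      refine (pow_le_pow_left' h1 _).trans ((pow_le_of_le_one (zero_le (a := _)) ?_ ?_).trans ?_)
      · rw [← WithZero.exp_zero, WithZero.exp_le_exp]; omega
      · exact Ideal.IsDedekindDomain.ramificationIdx'_ne_zero_of_liesOver _ v.ne_bot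
      · rw [WithZero.exp_le_exp, neg_le_neg_iff, Int.ofNat_le]
        exact (Finset.le_sup (f := M1 i) ((Set.Finite.mem_toFinset _).2 hv.symm)).trans
          (Finset.le_sup (f := fun i => (Groth.Agent.CommAlg4.PlaceMaps.finite_above (K := kf i) v).toFinset.sup (M1 i)) (Finset.mem_univ i))
    have hsmall : ∀ x : kf i, W.valuation (kf i) x ≤ max (W.valuation (kf i) (algebraMap k (kf i) γ))
        (W.valuation (kf i) (algebraMap k (kf i) δ + algebraMap k (kf i) γ * a i)) →
        W.valuation (kf i) (x * algebraMap k (kf i) t₀) < 1 := fun x hx => by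
      rw [map_mul, mul_comm]
      refine ((mul_le_mul' ht hx).trans (hM1 i W)).trans_lt ?_
      rw [← WithZero.exp_zero, WithZero.exp_lt_exp]; omega
    rw [hta, map_div₀, hnum, Valuation.map_sub_eq_of_lt_right _ ((hsmall _ (le_max_right _ _)).trans_eq hWab.symm),
      Valuation.map_sub_eq_of_lt_left _ ((hsmall _ (le_max_left _ _)).trans_eq hWα.symm), hWab, hWα, div_one] at hW
    exact lt_irrefl _ hW
  refine ⟨hmain, ?_⟩
  have hv' : v ∉ Sf' := fun h => hmain ⟨v, h, inferInstance⟩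
  obtain ⟨-, hγ⟩ := hS'αγ v hv'
  have hWγ : W.valuation (kf i) (algebraMap k (kf i) γ) ≤ 1 := Groth.Agent.CommAlg4.PlaceMaps.algebraMap_le_one v W hγ
  have hb1 : W.valuation (kf i) (b i) = 1 := by_contra fun h => hS (hSb i W h)
  have hga : W.valuation (kf i) (algebraMap k (kf i) δ + algebraMap k (kf i) γ * a i) = 1 := by
    have h := (hS'ab i W hmain).2
    rwa [hb' i, map_mul, hb1, one_mul, add_comm] at h
  have hden : W.valuation (kf i) (algebraMap k (kf i) α - algebraMap k (kf i) γ * algebraMap k (kf i) t₀) ≤ 1 := by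
    refine Valuation.map_sub_le _ hWα.le ?_
    rw [map_mul]
    refine mul_le_one' hWγ ?_
    by_contra hbig
    rw [not_le] at hbig
    have hn : W.valuation (kf i) num = W.valuation (kf i) (algebraMap k (kf i) t₀) := by
      rw [hnum, Valuation.map_sub_eq_of_lt_left _ (by rw [map_mul, hga, one_mul, hWab]; exact hbig), map_mul, hga, one_mul]
    have hdle : W.valuation (kf i) (algebraMap k (kf i) α - algebraMap k (kf i) γ * algebraMap k (kf i) t₀) ≤
        W.valuation (kf i) (algebraMap k (kf i) t₀) := by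
      refine Valuation.map_sub_le _ (hWα.le.trans hbig.le) ?_
      rw [map_mul]
      exact mul_le_of_le_one_left' hWγ
    rw [hta, map_div₀, hn, div_lt_one₀ (zero_lt_iff.2 ((map_ne_zero _).2 hA))] at hW
    exact not_lt.2 hdle hW
  have hga0 : algebraMap k (kf i) δ + algebraMap k (kf i) γ * a i ≠ 0 := fun h => by rw [h, map_zero] at hga; exact zero_ne_one hga
  have hid : algebraMap k (kf i) t₀ - a' i =
      (algebraMap k (kf i) ((δ * t₀ - β) / (α - γ * t₀)) - a i) *
        ((algebraMap k (kf i) α - algebraMap k (kf i) γ * algebraMap k (kf i) t₀) /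
          (algebraMap k (kf i) δ + algebraMap k (kf i) γ * a i)) := by
    rw [hta, ha' i, hnum, div_mul_div_cancel₀ hA, add_comm (algebraMap k (kf i) γ * a i), eq_div_iff hga0, sub_mul,
      div_mul_cancel₀ _ hga0]
    ring
  rw [hid, map_mul, map_div₀ _ _ (algebraMap k (kf i) δ + algebraMap k (kf i) γ * a i), hga, div_one]
  exact mul_lt_one_of_lt_of_le hW hden

end Groth.Agent.S19286
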