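import Groth.Statements.S19288
import Mathlib.CategoryTheory.Monoidal.Cartesian.Grp
import Mathlib.AlgebraicGeometry.Morphisms.Etale
open CategoryTheory CategoryTheory.Limits AlgebraicGeometry MonoidalCategory CartesianMonoidalCategory MonObj

set_option autoImplicit false
universe u
open CategoryTheory CategoryTheory.Limits MonoidalCategory CartesianMonoidalCategory MonObj AlgebraicGeometry
open AbSch

namespace Groth.Agent.S19288

/-- Let S be a scheme, X a commutative S-group scheme which is etale and separated over S (hence locally
of finite presentation), and P a commutative S-group scheme of finite presentation over S all of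
whose fibres are connected. Then every homomorphism of S-group schemes from P to X is trivial (it
factors through the unit section). -/
theorem result {S : Scheme.{u}} (P X : Over S)
    [GrpObj P] [IsCommMonObj P] [GrpObj X] [IsCommMonObj X]
    [Etale X.hom] [IsSeparated X.hom]
    [QuasiCompact P.hom] [QuasiSeparated P.hom] [LocallyOfFinitePresentation P.hom]
    (hP : ∀ s : S, ConnectedSpace ↥(P.hom.fiber s))
    (f : P ⟶ X) [IsMonHom f] : f = 1 := by
  let e : S ⟶ X.left := η[X].left
  let eP : S ⟶ P.left := η[P].left
  have he : e ≫ X.hom = 𝟙 S := Over.w η[X]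
  have hePw : eP ≫ P.hom = 𝟙 S := Over.w η[P]
  have : IsOpenImmersion e := by
    have : IsOpenImmersion (e ≫ X.hom) := by rw [he]; infer_instance
    have h := (MorphismProperty.hasOfPostcompProperty_iff_le_diagonal (P := @IsOpenImmersion)
      (Q := @Etale)).2 (fun _ _ g (hg : Etale g) => (inferInstance : IsOpenImmersion (pullback.diagonal g)))
    exact h.of_postcomp e X.hom ‹Etale X.hom› this
  have : IsClosedImmersion e := by
    have : IsClosedImmersion (e ≫ X.hom) := by rw [he]; infer_instance
    exact IsClosedImmersion.of_comp e X.hom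
  have hef : eP ≫ f.left = e := congrArg CommaMorphism.left (IsMonHom.one_hom (f := f))
  let W : Set P.left := f.left ⁻¹' Set.range e
  have hW : IsClopen W := ⟨e.isClosedEmbedding.isClosed_range.preimage f.left.continuous,
    e.isOpenEmbedding.isOpen_range.preimage f.left.continuous⟩
  have hall : ∀ x, x ∈ W := by
    intro x
    let s := P.hom x
    have := hP s
    have hpre : IsClopen (P.hom.fiberι s ⁻¹' W) := hW.preimage (P.hom.fiberι s).continuous
    have hmem : ∀ y : P.left, P.hom y = s → ∃ z, P.hom.fiberι s z = y := fun y hy => by
      have := P.hom.range_fiberι s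
      exact this.ge hy
    obtain ⟨z0, hz0⟩ := hmem (eP s) (by rw [← Scheme.Hom.comp_apply, hePw]; rfl)
    have hz0W : z0 ∈ P.hom.fiberι s ⁻¹' W := by
      show f.left (P.hom.fiberι s z0) ∈ Set.range e
      rw [hz0, ← Scheme.Hom.comp_apply, hef]
      exact ⟨s, rfl⟩
    obtain ⟨z, hz⟩ := hmem x rfl
    rw [← hz]
    exact (IsClopen.eq_univ hpre ⟨z0, hz0W⟩).ge (Set.mem_univ z)
  ext
  have hr : Set.range f.left ⊆ Set.range e := by
    rintro _ ⟨x, rfl⟩
    exact hall x
  let l := IsOpenImmersion.lift e f.left hr
  have hl : l ≫ e = f.left := IsOpenImmersion.lift_fac _ _ _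
  have hlP : l = P.hom := by
    have := congrArg (· ≫ X.hom) hl
    simp only [Category.assoc, he, Category.comp_id, Over.w f] at this
    exact this
  rw [← hl, hlP, Hom.one_def, Over.comp_left, Over.toUnit_left]

end Groth.Agent.S19288
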