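import Groth.Statements.S19290
import Groth.Agent.TorusAb27.Basic
-- import your own Groth.Agent.* helpers here

set_option autoImplicit false
set_option linter.style.haveILetI false
set_option backward.isDefEq.respectTransparency.types false
universe u
open CategoryTheory CategoryTheory.Limits MonoidalCategory CartesianMonoidalCategory MonObj AlgebraicGeometry
open AbSch

namespace Groth.Agent.S19290

open CategoryTheory CategoryTheory.Limits MonObj AlgebraicGeometry in
open Groth.Agent in
/-- Let S be a scheme, T an S-torus and A an abelian S-scheme (smooth, proper, with connected fibres).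
Then the S-sheaf of homomorphisms from T to A is trivial: the internal Hom sheaf, on the big fppf
site of S, from the abelian sheaf of points of T to that of A is the zero sheaf. -/
theorem result {S : Scheme.{u}} (T A : Over S)
    [GrpObj T] [IsCommMonObj T] (hT : Red.IsTorus T)
    [GrpObj A] [IsCommMonObj A] [Smooth A.hom] [IsProper A.hom]
    (hA : ∀ s : S, ConnectedSpace ↥(A.hom.fiber s)) :
    IsZero (HomSh.homSh (QuotSh.J Scheme.fppfPrecoverage S) (CGrpSh.pts Scheme.fppfPrecoverage T) (CGrpSh.pts Scheme.fppfPrecoverage A)) := by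
  let J := QuotSh.J Scheme.fppfPrecoverage S
  let F := CGrpSh.pts Scheme.fppfPrecoverage T
  let G := CGrpSh.pts Scheme.fppfPrecoverage A
  haveI : LocallyOfFinitePresentation A.hom := inferInstance
  have key : ∀ (X : Over S) (φ : F.over X ⟶ G.over X), φ = 0 := by
    intro X φ
    let cmp : ∀ (V : Over X), (V.left ⟶ T) → (V.left ⟶ A) := fun V x =>
      (φ.hom.app (Opposite.op V) (ULift.up (Additive.ofMul x))).down.toMul
    have hmul : ∀ (V : Over X) (x y : V.left ⟶ T), cmp V (x * y) = cmp V x * cmp V y := fun V x y =>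
      congrArg (fun z => (ULift.down z).toMul)
        (map_add (φ.hom.app (Opposite.op V)).hom (ULift.up (Additive.ofMul x)) (ULift.up (Additive.ofMul y)))
    have hnat : ∀ {V W : Over X} (t : V ⟶ W) (x : W.left ⟶ T), cmp V (t.left ≫ x) = t.left ≫ cmp W x :=
      fun {V W} t x => congrArg (fun z => (ULift.down z).toMul)
        (ConcreteCategory.congr_hom (φ.hom.naturality (Quiver.Hom.op t)) (ULift.up (Additive.ofMul x)))
    let pts : ∀ (X' : Over X.left), Over X := fun X' =>
      Over.mk (Y := (Over.map X.hom).obj X') (Over.homMk X'.hom rfl)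
    let T' := Red.bc X.hom T
    let x₀ : (Over.map X.hom).obj T' ⟶ T := (Agent.SGA3cLib.BCPoints.pt X.hom T T').symm (𝟙 T')
    let u : T' ⟶ Red.bc X.hom A := Agent.SGA3cLib.BCPoints.pt X.hom A T' (cmp (pts T') x₀)
    have hu : ∀ (X' : Over X.left) (z : X' ⟶ T'),
        z ≫ u = Agent.SGA3cLib.BCPoints.pt X.hom A X'
          (cmp (pts X') ((Agent.SGA3cLib.BCPoints.pt X.hom T X').symm z)) := by
      intro X' z
      rw [← Agent.SGA3cLib.BCPoints.pt_map_comp]
      congr 1
      let t : pts X' ⟶ pts T' := Over.homMk ((Over.map X.hom).map z) (Over.OverMorphism.ext (Over.w z))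
      refine (hnat t x₀).symm.trans (congrArg (cmp (pts X')) ?_)
      apply (Agent.SGA3cLib.BCPoints.pt X.hom T X').injective
      rw [Equiv.apply_symm_apply]
      show Agent.SGA3cLib.BCPoints.pt X.hom T X' ((Over.map X.hom).map z ≫ x₀) = z
      rw [Agent.SGA3cLib.BCPoints.pt_map_comp, Equiv.apply_symm_apply, Category.comp_id]
    haveI : IsMonHom u := Agent.SGA3cLib.BCPoints.isMonHom_of_mul u fun X' a b => by
      rw [hu, hu, hu, ← Agent.SGA3cLib.BCPoints.pt_mul, ← hmul]
      congr 2
      apply (Agent.SGA3cLib.BCPoints.pt X.hom T X').injective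
      rw [Agent.SGA3cLib.BCPoints.pt_mul, Equiv.apply_symm_apply, Equiv.apply_symm_apply, Equiv.apply_symm_apply]
    haveI : IsProper (Red.bc X.hom A).hom := MorphismProperty.pullback_snd (P := @IsProper) A.hom X.hom inferInstance
    haveI : LocallyOfFinitePresentation (Red.bc X.hom A).hom :=
      MorphismProperty.pullback_snd (P := @LocallyOfFinitePresentation) A.hom X.hom inferInstance
    have hu1 : u = 1 := Agent.TorusAb27.eq_one (Agent.TorusAb27.isTorus_bc X.hom T hT) u
    refine Sheaf.hom_ext (NatTrans.ext (funext fun V => AddCommGrpCat.ext fun x => ?_))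
    obtain ⟨V⟩ := V
    obtain ⟨x⟩ := x
    refine ULift.ext _ _ ?_
    show cmp V x.toMul = (1 : V.left ⟶ A)
    let X' : Over X.left := Over.mk V.hom.left
    let κ : V ⟶ pts X' := Over.homMk (Over.homMk (𝟙 _) ((Category.id_comp _).trans (Over.w V.hom)))
      (Over.OverMorphism.ext (Category.id_comp _))
    let κ' : pts X' ⟶ V := Over.homMk (Over.homMk (𝟙 _) ((Category.id_comp _).trans (Over.w V.hom).symm))
      (Over.OverMorphism.ext (Category.id_comp _))
    have hκ : κ.left ≫ κ'.left = 𝟙 V.left := Over.OverMorphism.ext (Category.id_comp _)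
    have h1 := hu X' (Agent.SGA3cLib.BCPoints.pt X.hom T X' (κ'.left ≫ x.toMul))
    rw [hu1, MonObj.comp_one, Equiv.symm_apply_apply] at h1
    have h2 : cmp (pts X') (κ'.left ≫ x.toMul) = 1 := by
      apply (Agent.SGA3cLib.BCPoints.pt X.hom A X').injective
      exact h1.symm.trans (map_one (MonoidHom.mk' (Agent.SGA3cLib.BCPoints.pt X.hom A X')
        (Agent.SGA3cLib.BCPoints.pt_mul X.hom))).symm
    calc cmp V x.toMul = cmp V (κ.left ≫ κ'.left ≫ x.toMul) := by rw [← Category.assoc, hκ, Category.id_comp]
      _ = 1 := by rw [hnat, h2, MonObj.comp_one]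
  refine (Limits.IsZero.iff_id_eq_zero _).2 (Sheaf.hom_ext (NatTrans.ext (funext fun X => AddCommGrpCat.ext fun φ => ?_)))
  exact key _ φ

end Groth.Agent.S19290
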