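import Groth.Statements.S19291
import Groth.Agent.AbSchLib.ConnectedFibres
import Groth.Agent.AbSchLib.RigidityOver
import Groth.Agent.AbSchLib.SmoothReduced
-- import your own Groth.Agent.* helpers here

set_option autoImplicit false
universe u
open CategoryTheory CategoryTheory.Limits MonoidalCategory CartesianMonoidalCategory MonObj AlgebraicGeometry
open AbSch

namespace Groth.Agent.S19291

/-- Let S be a scheme and A, B, C three abelian S-schemes (smooth proper S-group schemes with connected
fibres). Then the group of homomorphisms from A to the S-sheaf of homomorphisms from B to C is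
trivial: on the big fppf site of S, every morphism of abelian sheaves from the sheaf of points of A
to the internal Hom sheaf of the sheaves of points of B and C is zero (equivalently, there is no
non-zero biadditive morphism from A × B to C). -/
theorem result {S : Scheme.{u}} (A B C : Over S)
    [GrpObj A] [IsCommMonObj A] [Smooth A.hom] [IsProper A.hom]
    (hA : ∀ s : S, ConnectedSpace ↥(A.hom.fiber s))
    [GrpObj B] [IsCommMonObj B] [Smooth B.hom] [IsProper B.hom]
    (hB : ∀ s : S, ConnectedSpace ↥(B.hom.fiber s))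
    [GrpObj C] [IsCommMonObj C] [Smooth C.hom] [IsProper C.hom]
    (hC : ∀ s : S, ConnectedSpace ↥(C.hom.fiber s))
    (φ : (CGrpSh.pts Scheme.fppfPrecoverage A) ⟶ HomSh.homSh (QuotSh.J Scheme.fppfPrecoverage S) (CGrpSh.pts Scheme.fppfPrecoverage B) (CGrpSh.pts Scheme.fppfPrecoverage C)) : φ = 0 := by
  let Φ : ∀ (T : Over S) (a : T ⟶ A) (U : Over S) (h : U ⟶ T) (b : U ⟶ B), U ⟶ C := fun T a U h b =>
    (((φ.hom.app (Opposite.op T)) (ULift.up (Additive.ofMul a))).hom.app
      (Opposite.op (Over.mk h)) (ULift.up (Additive.ofMul b))).down.toMul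
  have hT : ∀ (T T' : Over S) (g : T' ⟶ T) (a : T ⟶ A) (U : Over S) (h : U ⟶ T') (b : U ⟶ B),
      Φ T' (g ≫ a) U h b = Φ T a U (h ≫ g) b := by
    intro T T' g a U h b
    exact congrArg (fun z => ((z.hom.app (Opposite.op (Over.mk h))) (ULift.up (Additive.ofMul b))).down.toMul)
      (ConcreteCategory.congr_hom (φ.hom.naturality g.op) (ULift.up (Additive.ofMul a)))
  have hU : ∀ (T : Over S) (a : T ⟶ A) (U U' : Over S) (g : U' ⟶ U) (h : U ⟶ T) (b : U ⟶ B),
      Φ T a U' (g ≫ h) (g ≫ b) = g ≫ Φ T a U h b := by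
    intro T a U U' g h b
    exact congrArg (fun z => z.down.toMul) (ConcreteCategory.congr_hom
      (((φ.hom.app (Opposite.op T)) (ULift.up (Additive.ofMul a))).hom.naturality
        (Over.homMk g rfl : Over.mk (g ≫ h) ⟶ Over.mk h).op) (ULift.up (Additive.ofMul b)))
  have hb : ∀ (T : Over S) (a : T ⟶ A) (U : Over S) (h : U ⟶ T), Φ T a U h 1 = 1 := by
    intro T a U h
    exact congrArg (fun z => z.down.toMul) (map_zero (((φ.hom.app (Opposite.op T))
      (ULift.up (Additive.ofMul a))).hom.app (Opposite.op (Over.mk h))).hom)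
  have ha : ∀ (T : Over S) (U : Over S) (h : U ⟶ T) (b : U ⟶ B), Φ T 1 U h b = 1 := by
    intro T U h b
    exact congrArg (fun z => ((z.hom.app (Opposite.op (Over.mk h))) (ULift.up (Additive.ofMul b))).down.toMul)
      (map_zero (φ.hom.app (Opposite.op T)).hom)
  let m : A ⊗ B ⟶ C := Φ A (𝟙 A) (A ⊗ B) (fst A B) (snd A B)
  have hm : ∀ (T : Over S) (a : T ⟶ A) (U : Over S) (h : U ⟶ T) (b : U ⟶ B),
      Φ T a U h b = lift (h ≫ a) b ≫ m := by
    intro T a U h b
    have e1 := hT A T a (𝟙 A) U h b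
    rw [Category.comp_id] at e1
    have e2 := hU A (𝟙 A) (A ⊗ B) U (lift (h ≫ a) b) (fst A B) (snd A B)
    rw [lift_fst, lift_snd] at e2
    rw [e1, e2]
  have := AbSchLib.geometricallyConnected_of_section A.hom η[A].left (Over.w η[A]) hA
  have := AbSchLib.geometricallyConnected_of_section B.hom η[B].left (Over.w η[B]) hB
  have := AbSchLib.geometricallyReduced_of_smooth A.hom
  have h1 : lift (𝟙 A) (toUnit A ≫ η[B]) ≫ m = toUnit A ≫ η[C] := by
    have := hm A (𝟙 A) A (𝟙 A) (toUnit A ≫ η[B])
    rw [Category.comp_id] at this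
    rw [← this]
    exact hb A (𝟙 A) A (𝟙 A)
  have h2 := AbSchLib.eq_snd_comp_of_axis A B C η[A] η[B] η[C] m h1
  have h3 : lift (toUnit B ≫ η[A]) (𝟙 B) ≫ m = 1 := by
    have := hm B (toUnit B ≫ η[A]) B (𝟙 B) (𝟙 B)
    rw [Category.id_comp] at this
    rw [← this]
    exact ha B B (𝟙 B) (𝟙 B)
  have h4 : m = 1 := by rw [h2, h3, MonObj.comp_one]
  have h5 : ∀ (T : Over S) (a : T ⟶ A) (U : Over S) (h : U ⟶ T) (b : U ⟶ B), Φ T a U h b = 1 := by
    intro T a U h b
    rw [hm, h4, MonObj.comp_one]
  refine Sheaf.hom_ext (NatTrans.ext (funext fun T => AddCommGrpCat.ext fun a => ?_))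
  refine Sheaf.hom_ext (NatTrans.ext (funext fun U => AddCommGrpCat.ext fun b => ?_))
  exact ULift.ext _ _ (congrArg Additive.ofMul
    (h5 T.unop a.down.toMul U.unop.left U.unop.hom b.down.toMul))

end Groth.Agent.S19291
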