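import Groth.Statements.S19306
import Mathlib.Algebra.Module.StablyFree.Basic
import Mathlib.RingTheory.PicardGroup
import Mathlib.RingTheory.PowerSeries.Basic
import Mathlib.RingTheory.TotallySplit
import Mathlib.Tactic

set_option linter.all false

set_option autoImplicit false
universe u
open PowerSeries
open CAlg

open PowerSeries

namespace Groth.Agent.S19306

variable {R : Type u} [CommRing R]

/-- R-linear left inverse of multiplication by `X ^ M` -/
noncomputable def shiftR (M : ℕ) : R⟦X⟧ →ₗ[R] R⟦X⟧ where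
  toFun f := PowerSeries.mk fun k => coeff (k + M) f
  map_add' f g := by ext k; simp
  map_smul' c f := by ext k; simp

theorem shiftR_X_pow_mul (M : ℕ) (f : R⟦X⟧) : shiftR M (X ^ M * f) = f := by
  ext k; simp [shiftR, coeff_X_pow_mul]

theorem decomp (K : ℕ) (f : R⟦X⟧) :
    f = (∑ j ∈ Finset.range K, X ^ j * C (coeff j f)) + X ^ K * shiftR K f := by
  ext k
  rcases lt_or_ge k K with h | h
  · rw [map_add, map_sum, Finset.sum_eq_single k
      (fun j hj hjk => by
        rw [coeff_X_pow_mul']; split_ifs with h2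
        · rw [coeff_C, if_neg (by omega)]
        · rfl)
      (fun hk => absurd (Finset.mem_range.mpr h) hk)]
    rw [coeff_X_pow_mul', if_pos le_rfl, coeff_X_pow_mul', if_neg (by omega)]
    simp
  · rw [map_add, map_sum, Finset.sum_eq_zero (fun j hj => by
      rw [coeff_X_pow_mul']; split_ifs with h2
      · rw [coeff_C, if_neg (by simp only [Finset.mem_range] at hj; omega)]
      · rfl), zero_add, coeff_X_pow_mul', if_pos h]
    simp [shiftR, Nat.sub_add_cancel h]

theorem projective_quotient {n M : ℕ} (Λ : Submodule R⟦X⟧ (Fin n → R⟦X⟧))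
    (hΛ : ∀ v : Fin n → R⟦X⟧, ((PowerSeries.X : R⟦X⟧) ^ M) • v ∈ Λ)
    [Module.Finite R⟦X⟧ Λ] [Module.Projective R⟦X⟧ Λ] :
    Module.Projective R ((Fin n → R⟦X⟧) ⧸ Λ) := by
  obtain ⟨r, π, i, -, -, hπi⟩ := Module.Finite.exists_comp_eq_id_of_projective R⟦X⟧ Λ
  let δ : Λ →ₗ[R] Λ :=
    (π.restrictScalars R) ∘ₗ (LinearMap.compLeft (shiftR M) (Fin r)) ∘ₗ (i.restrictScalars R)
  have hδ : ∀ x : Λ, δ (((X : R⟦X⟧) ^ M) • x) = x := by
    intro x
    show π (fun k => shiftR M (i (((X : R⟦X⟧) ^ M) • x) k)) = x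
    rw [map_smul]
    simp only [Pi.smul_apply, smul_eq_mul, shiftR_X_pow_mul]
    exact LinearMap.congr_fun hπi x
  let e : (Fin n → R⟦X⟧) →ₗ[R] Λ :=
    δ ∘ₗ ((((X : R⟦X⟧) ^ M) • LinearMap.id : (Fin n → R⟦X⟧) →ₗ[R⟦X⟧] (Fin n → R⟦X⟧)).codRestrict Λ hΛ).restrictScalars R
  have he : ∀ v (hv : v ∈ Λ), (e v : Fin n → R⟦X⟧) = v := fun v hv =>
    congrArg Subtype.val ((show e v = δ (((X : R⟦X⟧) ^ M) • (⟨v, hv⟩ : Λ)) from rfl).trans (hδ _))
  let T : (Fin n → R⟦X⟧) →ₗ[R] (Fin n → Fin M → R) :=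
    LinearMap.pi fun a => LinearMap.pi fun j => coeff (R := R) j.1 ∘ₗ LinearMap.proj a
  let s₀ : (Fin n → R⟦X⟧) →ₗ[R] (Fin n → Fin M → R) :=
    T ∘ₗ (LinearMap.id - (Λ.subtype.restrictScalars R) ∘ₗ e)
  let s : ((Fin n → R⟦X⟧) ⧸ Λ) →ₗ[R] (Fin n → Fin M → R) :=
    ((Λ.restrictScalars R).liftQ s₀ (fun v hv => by
      simp only [LinearMap.mem_ker, s₀, LinearMap.comp_apply, LinearMap.sub_apply,
        LinearMap.id_apply, LinearMap.coe_restrictScalars, Submodule.subtype_apply, he v hv,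
        sub_self, map_zero])) ∘ₗ (Submodule.Quotient.restrictScalarsEquiv R Λ).symm.toLinearMap
  let back : (Fin n → Fin M → R) →ₗ[R] ((Fin n → R⟦X⟧) ⧸ Λ) :=
    (Λ.mkQ.restrictScalars R) ∘ₗ
      LinearMap.pi (fun a => ∑ j : Fin M, (LinearMap.toSpanSingleton R R⟦X⟧ ((X : R⟦X⟧) ^ (j : ℕ))) ∘ₗ
        LinearMap.proj j ∘ₗ LinearMap.proj a)
  refine Module.Projective.of_split s back ?_
  apply LinearMap.ext
  intro q
  obtain ⟨v, rfl⟩ := Submodule.Quotient.mk_surjective _ q
  show back (s₀ v) = Submodule.Quotient.mk v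
  set w : Fin n → R⟦X⟧ := v - (e v : Fin n → R⟦X⟧) with hw
  have h1 : back (s₀ v) = Submodule.Quotient.mk (w - ((X : R⟦X⟧) ^ M) • fun a => shiftR M (w a)) := by
    show Submodule.Quotient.mk _ = _
    congr 1
    funext a
    simp only [LinearMap.pi_apply, LinearMap.sum_apply, LinearMap.comp_apply, LinearMap.proj_apply,
      LinearMap.toSpanSingleton_apply, Pi.sub_apply, Pi.smul_apply, smul_eq_mul]
    conv_rhs => rw [eq_sub_of_add_eq' (decomp M (w a)).symm, sub_sub_cancel]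
    rw [Finset.sum_range]
    refine Finset.sum_congr rfl fun j _ => ?_
    rw [PowerSeries.smul_eq_C_mul, mul_comm]
    rfl
  rw [h1, Submodule.Quotient.eq]
  have : w - ((X : R⟦X⟧) ^ M) • (fun a => shiftR M (w a)) - v =
      -((e v : Fin n → R⟦X⟧) + ((X : R⟦X⟧) ^ M) • fun a => shiftR M (w a)) := by
    rw [hw]; abel
  rw [this]
  exact Λ.neg_mem (Λ.add_mem (e v).2 (hΛ _))

/-- extend an endomorphism of `R^m` to `R⟦X⟧^m` -/
noncomputable def liftS {m : ℕ} (f : (Fin m → R) →ₗ[R] (Fin m → R)) :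
    (Fin m → R⟦X⟧) →ₗ[R⟦X⟧] (Fin m → R⟦X⟧) :=
  Matrix.mulVecLin ((LinearMap.toMatrix' f).map (C : R →+* R⟦X⟧))

theorem liftS_comp {m : ℕ} (f g : (Fin m → R) →ₗ[R] (Fin m → R)) (v : Fin m → R⟦X⟧) :
    liftS (f ∘ₗ g) v = liftS f (liftS g v) := by
  simp [liftS, LinearMap.toMatrix'_comp, Matrix.map_mul, Matrix.mulVec_mulVec]

theorem liftS_const {m : ℕ} (f : (Fin m → R) →ₗ[R] (Fin m → R)) (c : Fin m → R) :
    liftS f (fun a => C (c a)) = fun a => C (f c a) := by
  funext a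
  conv_rhs => rw [show f c = (LinearMap.toMatrix' f).mulVec c from (LinearMap.toMatrix'_mulVec f c).symm]
  simp [liftS, Matrix.mulVec, dotProduct]

theorem liftS_zero_map {m : ℕ} (v : Fin m → R⟦X⟧) :
    liftS (0 : (Fin m → R) →ₗ[R] (Fin m → R)) v = 0 := by
  simp [liftS, Matrix.map_zero]

theorem liftS_id {m : ℕ} (v : Fin m → R⟦X⟧) :
    liftS (LinearMap.id : (Fin m → R) →ₗ[R] (Fin m → R)) v = v := by
  simp [liftS]

theorem exists_free_ker {m M : ℕ} {Q : Type u} [AddCommGroup Q] [Module R Q] [Module R⟦X⟧ Q]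
    [IsScalarTower R R⟦X⟧ Q] (p : (Fin m → R) →ₗ[R] Q) (i : Q →ₗ[R] (Fin m → R))
    (hpi : ∀ q, p (i q) = q) (hX : ∀ q : Q, ((X : R⟦X⟧) ^ M) • q = 0) :
    ∃ φ : (Fin m → R⟦X⟧) →ₗ[R⟦X⟧] Q, Function.Surjective φ ∧
      ∃ G : (Fin m → R⟦X⟧) →ₗ[R⟦X⟧] (Fin m → R⟦X⟧), Function.Injective G ∧
        LinearMap.range G = LinearMap.ker φ := by
  classical
  let φ : (Fin m → R⟦X⟧) →ₗ[R⟦X⟧] Q := Fintype.linearCombination R⟦X⟧ fun k => p (Pi.single k 1)
  have hC : ∀ (r : R) (q : Q), (C r : R⟦X⟧) • q = r • q := fun r q => algebraMap_smul R⟦X⟧ r q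
  have hφc : ∀ c : Fin m → R, φ (fun a => C (c a)) = p c := by
    intro c
    conv_rhs => rw [pi_eq_sum_univ' c, map_sum]
    simp [φ, Fintype.linearCombination_apply, hC]
  let Tq : Q →ₗ[R] Q := ((X : R⟦X⟧) • (LinearMap.id : Q →ₗ[R⟦X⟧] Q)).restrictScalars R
  let N : (Fin m → R) →ₗ[R] (Fin m → R) := i ∘ₗ Tq ∘ₗ p
  let e : (Fin m → R) →ₗ[R] (Fin m → R) := LinearMap.id - i ∘ₗ p
  have hpe : ∀ c, p (e c) = 0 := fun c => by simp [e, hpi]
  have hee : e ∘ₗ e = e := by ext c; simp [e, hpi]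
  have hNe : N ∘ₗ e = 0 := by
    apply LinearMap.ext; intro c
    simp [N, LinearMap.comp_apply, hpe]
  have heN : e ∘ₗ N = 0 := by
    apply LinearMap.ext; intro c
    simp [N, e, hpi]
  have hNpow : ∀ j c, p ((N ^ j) c) = ((X : R⟦X⟧) ^ j) • p c := by
    intro j
    induction j with
    | zero => simp
    | succ j ih =>
      intro c
      rw [pow_succ', Module.End.mul_apply, pow_succ', mul_smul, ← ih]
      simp [N, Tq, hpi]
  have hNK : N ^ (M + 1) = 0 := by
    apply LinearMap.ext; intro c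
    rw [pow_succ', Module.End.mul_apply]
    show i (Tq (p ((N ^ M) c))) = 0
    rw [hNpow, hX, map_zero, map_zero]
  let D : (Fin m → R⟦X⟧) →ₗ[R⟦X⟧] (Fin m → R⟦X⟧) := (X : R⟦X⟧) • LinearMap.id - liftS N
  have hφD : ∀ v, φ (D v) = 0 := by
    intro v
    have : φ ∘ₗ D = 0 := by
      apply LinearMap.pi_ext'
      intro k
      apply LinearMap.ext_ring
      have hs : (Pi.single k 1 : Fin m → R⟦X⟧) = fun a => C ((Pi.single k 1 : Fin m → R) a) := by
        funext a; by_cases h : a = k <;> simp [Pi.single_apply, h]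
      simp only [LinearMap.comp_apply, LinearMap.single_apply, LinearMap.zero_apply, hs, D,
        LinearMap.sub_apply, LinearMap.smul_apply, LinearMap.id_apply, map_sub, map_smul,
        liftS_const, hφc]
      simp [N, Tq, hpi]
    exact LinearMap.congr_fun this v
  have hcong : ∀ (j : ℕ) (v : Fin m → R⟦X⟧),
      ((X : R⟦X⟧) ^ j) • v - liftS (N ^ j) v ∈ LinearMap.range D := by
    intro j
    induction j with
    | zero =>
      intro v
      rw [pow_zero, pow_zero, Module.End.one_eq_id, liftS_id, one_smul, sub_self]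
      exact Submodule.zero_mem _
    | succ j ih =>
      intro v
      have h1 := Submodule.smul_mem _ (X : R⟦X⟧) (ih v)
      have h2 : D (liftS (N ^ j) v) ∈ LinearMap.range D := LinearMap.mem_range_self _ _
      convert Submodule.add_mem _ h1 h2 using 1
      rw [pow_succ', pow_succ', mul_smul, Module.End.mul_eq_comp, liftS_comp, smul_sub]
      simp [D]
  let G : (Fin m → R⟦X⟧) →ₗ[R⟦X⟧] (Fin m → R⟦X⟧) := D ∘ₗ (LinearMap.id - liftS e) + liftS e
  have hDe : ∀ v, D (liftS e v) = (X : R⟦X⟧) • liftS e v := by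
    intro v; simp [D, ← liftS_comp, hNe, liftS_zero_map]
  have heD : ∀ v, liftS e (D v) = (X : R⟦X⟧) • liftS e v := by
    intro v; simp [D, ← liftS_comp, heN, liftS_zero_map]
  have heev : ∀ v, liftS e (liftS e v) = liftS e v := fun v => by rw [← liftS_comp, hee]
  have hGe : ∀ v, G (liftS e v) = liftS e v := by intro v; simp [G, heev]
  have hφe : ∀ v, φ (liftS e v) = 0 := by
    intro v
    have : φ ∘ₗ liftS e = 0 := by
      apply LinearMap.pi_ext'
      intro k
      apply LinearMap.ext_ring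
      have hs : (Pi.single k 1 : Fin m → R⟦X⟧) = fun a => C ((Pi.single k 1 : Fin m → R) a) := by
        funext a; by_cases h : a = k <;> simp [Pi.single_apply, h]
      simp only [LinearMap.comp_apply, LinearMap.single_apply, LinearMap.zero_apply, hs,
        liftS_const, hφc, hpe]
    exact LinearMap.congr_fun this v
  refine ⟨φ, fun q => ⟨fun a => C (i q a), by rw [hφc, hpi]⟩, G, ?_, le_antisymm ?_ ?_⟩
  · rw [← LinearMap.ker_eq_bot, LinearMap.ker_eq_bot']
    intro v hv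
    have h1 : liftS e v = 0 := by
      have h := congrArg (liftS e) hv
      simpa [G, heev, heD, map_sub] using h
    have h2 : (X : R⟦X⟧) • v = liftS N v := by
      have : D v = 0 := by simpa [G, h1] using hv
      exact sub_eq_zero.mp (by simpa [D] using this)
    have h3 : ∀ j, ((X : R⟦X⟧) ^ j) • v = liftS (N ^ j) v := by
      intro j
      induction j with
      | zero => rw [pow_zero, pow_zero, Module.End.one_eq_id, liftS_id, one_smul]
      | succ j ih =>
        rw [pow_succ, mul_smul, h2, ← map_smul, ih, ← liftS_comp, ← Module.End.mul_eq_comp, ← pow_succ']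
    have h4 := h3 (M + 1)
    rw [hNK, liftS_zero_map] at h4
    funext a
    have h5 : shiftR (M + 1) (((X : R⟦X⟧) ^ (M + 1)) * v a) = shiftR (M + 1) 0 :=
      congrArg (shiftR (M + 1)) (congrFun h4 a)
    rwa [shiftR_X_pow_mul, map_zero] at h5
  · rintro _ ⟨v, rfl⟩
    simp [G, hφD, hφe]
  · have hDG : LinearMap.range D ≤ LinearMap.range G := by
      rintro _ ⟨v, rfl⟩
      refine ⟨(v - liftS e v) + (X : R⟦X⟧) • liftS e v, ?_⟩
      have : G (v - liftS e v) = D (v - liftS e v) := by simp [G, heev]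
      rw [map_add, map_smul, this, hGe, ← hDe, map_sub, sub_add_cancel]
    intro v hv
    have hsplit : v = (∑ j ∈ Finset.range (M + 1), ((X : R⟦X⟧) ^ j) • (fun a => C (coeff j (v a)))) +
        ((X : R⟦X⟧) ^ (M + 1)) • (fun a => shiftR (M + 1) (v a)) := by
      funext a
      simp only [Pi.add_apply, Finset.sum_apply, Pi.smul_apply, smul_eq_mul]
      exact decomp (M + 1) (v a)
    let c : Fin m → R := ∑ j ∈ Finset.range (M + 1), (N ^ j) (fun a => coeff j (v a))
    have hvc : v - (fun a => C (c a)) ∈ LinearMap.range D := by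
      have hc : (fun a => C (c a)) = ∑ j ∈ Finset.range (M + 1), liftS (N ^ j) (fun a => C (coeff j (v a))) := by
        funext a; simp [c, Finset.sum_apply, map_sum, liftS_const]
      have h6 := hcong (M + 1) (fun a => shiftR (M + 1) (v a))
      rw [hNK, liftS_zero_map, sub_zero] at h6
      rw [hc]
      conv in (v - _) => arg 1; rw [hsplit]
      rw [add_sub_right_comm, ← Finset.sum_sub_distrib]
      exact Submodule.add_mem _ (Submodule.sum_mem _ fun j _ => hcong j _) h6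
    have hc0 : p c = 0 := by
      rw [← hφc]
      obtain ⟨w, hw⟩ := hvc
      have := congrArg φ hw
      rw [hφD, map_sub, LinearMap.mem_ker.mp hv, zero_sub] at this
      exact neg_eq_zero.mp this.symm
    have h7 : (fun a => C (c a)) ∈ LinearMap.range G := by
      refine ⟨liftS e (fun a => C (c a)), ?_⟩
      rw [hGe, liftS_const]
      simp [e, hc0]
    simpa using Submodule.add_mem _ (hDG hvc) h7

theorem finite_quotient_lattice {n M : ℕ} (Λ : Submodule R⟦X⟧ (Fin n → R⟦X⟧))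
    (hΛ : ∀ v : Fin n → R⟦X⟧, ((PowerSeries.X : R⟦X⟧) ^ M) • v ∈ Λ) :
    Module.Finite R ((Fin n → R⟦X⟧) ⧸ Λ) := by
  let back : (Fin n → Fin M → R) →ₗ[R] ((Fin n → R⟦X⟧) ⧸ Λ) :=
    (Λ.mkQ.restrictScalars R) ∘ₗ
      LinearMap.pi (fun a => ∑ j : Fin M, (LinearMap.toSpanSingleton R R⟦X⟧ ((X : R⟦X⟧) ^ (j : ℕ))) ∘ₗ
        LinearMap.proj j ∘ₗ LinearMap.proj a)
  refine Module.Finite.of_surjective back fun q => ?_
  obtain ⟨v, rfl⟩ := Submodule.Quotient.mk_surjective _ q
  refine ⟨fun a j => coeff j.1 (v a), ?_⟩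
  show Submodule.Quotient.mk _ = _
  rw [Submodule.Quotient.eq, show
    (LinearMap.pi (fun a => ∑ j : Fin M, (LinearMap.toSpanSingleton R R⟦X⟧ ((X : R⟦X⟧) ^ (j : ℕ))) ∘ₗ
        LinearMap.proj j ∘ₗ LinearMap.proj a)) (fun a (j : Fin M) => coeff j.1 (v a)) - v =
      -(((X : R⟦X⟧) ^ M) • fun a => shiftR M (v a)) from ?_]
  · exact Λ.neg_mem (hΛ _)
  funext a
  simp only [Pi.sub_apply, Pi.neg_apply, Pi.smul_apply, LinearMap.pi_apply, LinearMap.sum_apply,
    LinearMap.comp_apply, LinearMap.proj_apply, LinearMap.toSpanSingleton_apply, smul_eq_mul]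
  conv_lhs => arg 2; rw [decomp M (v a)]
  rw [Finset.sum_range, ← sub_sub]
  simp [PowerSeries.smul_eq_C_mul, mul_comm]

theorem lattice_of_projective_quotient {n M : ℕ} (Λ : Submodule R⟦X⟧ (Fin n → R⟦X⟧))
    (hΛ : ∀ v : Fin n → R⟦X⟧, ((PowerSeries.X : R⟦X⟧) ^ M) • v ∈ Λ)
    [Module.Projective R ((Fin n → R⟦X⟧) ⧸ Λ)] :
    Module.Finite R⟦X⟧ Λ ∧ Module.Projective R⟦X⟧ Λ := by
  classical
  have := finite_quotient_lattice Λ hΛ
  obtain ⟨m, p, i, -, -, hpi⟩ :=
    Module.Finite.exists_comp_eq_id_of_projective R ((Fin n → R⟦X⟧) ⧸ Λ)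
  obtain ⟨φ, hφ, G, hGi, hGr⟩ := exists_free_ker (M := M) p i (LinearMap.congr_fun hpi) (fun q => by
    obtain ⟨v, rfl⟩ := Submodule.Quotient.mk_surjective _ q
    rw [← Submodule.Quotient.mk_smul, Submodule.Quotient.mk_eq_zero]
    exact hΛ v)
  obtain ⟨α, hα⟩ := Module.projective_lifting_property φ Λ.mkQ hφ
  obtain ⟨β, hβ⟩ := Module.projective_lifting_property Λ.mkQ φ Λ.mkQ_surjective
  have hker : ∀ x, φ x = 0 ↔ x ∈ LinearMap.range G := fun x => by rw [hGr]; rfl
  -- Schanuel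
  let J : Λ →ₗ[R⟦X⟧] (Fin n → R⟦X⟧) × (Fin m → R⟦X⟧) :=
    LinearMap.prod Λ.subtype 0
  let P : (Fin n → R⟦X⟧) × (Fin m → R⟦X⟧) →ₗ[R⟦X⟧] Λ :=
    LinearMap.codRestrict Λ
      (LinearMap.coprod (LinearMap.id - β ∘ₗ α) (β ∘ₗ G))
      (fun z => by
        rw [← Submodule.Quotient.mk_eq_zero, ← Submodule.mkQ_apply]
        have e1 : ∀ w, Λ.mkQ (β w) = φ w := fun w => LinearMap.congr_fun hβ w
        have e2 : ∀ w, φ (α w) = Λ.mkQ w := fun w => LinearMap.congr_fun hα w
        have e3 : φ (G z.2) = 0 := (hker _).mpr (LinearMap.mem_range_self _ _)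
        simp only [LinearMap.coprod_apply, LinearMap.sub_apply, LinearMap.id_apply,
          LinearMap.comp_apply, map_add, map_sub, e1, e2, e3, sub_self, add_zero])
  let Gi := LinearEquiv.ofInjective G hGi
  let αΛ : Λ →ₗ[R⟦X⟧] LinearMap.range G :=
    LinearMap.codRestrict _ (α ∘ₗ Λ.subtype) (fun x => by
      rw [← hker]
      have := LinearMap.congr_fun hα (x : Fin n → R⟦X⟧)
      simp only [LinearMap.comp_apply] at this ⊢
      rw [Submodule.subtype_apply, this, Submodule.mkQ_apply, Submodule.Quotient.mk_eq_zero]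
      exact x.2)
  let J' : Λ →ₗ[R⟦X⟧] (Fin n → R⟦X⟧) × (Fin m → R⟦X⟧) :=
    LinearMap.prod Λ.subtype (Gi.symm.toLinearMap ∘ₗ αΛ)
  have hPJ : P ∘ₗ J' = LinearMap.id := by
    apply LinearMap.ext; intro x; apply Subtype.ext
    have : G (Gi.symm (αΛ x)) = α x := congrArg Subtype.val (Gi.apply_symm_apply (αΛ x))
    simp [P, J', this]
  exact ⟨Module.Finite.of_surjective P (fun x => ⟨J' x, LinearMap.congr_fun hPJ x⟩),
    Module.Projective.of_split J' P hPJ⟩

/-- Let k be a field, R a commutative k-algebra, n, M natural numbers and Λ an R⟦X⟧-submodule of the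
free module R⟦X⟧^n with X^M · R⟦X⟧^n ⊆ Λ. Then Λ is a finitely generated projective R⟦X⟧-module if
and only if the quotient R⟦X⟧^n / Λ is projective as an R-module. (The published statement
identifies, functorially in R, the families of lattices between t^N Λ₀ and t^{-N} Λ₀ in R((t))^n, Λ₀
the standard lattice, with the R⟦t⟧-submodules in that range whose quotient t^{-N} Λ₀ / Λ is
R-projective; after multiplying by t^N this is the pointwise statement here, with 2N replaced by any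
exponent M; a submodule containing X^M · R⟦X⟧^n automatically spans R((X))^n.) -/
theorem result
    (k : Type u) [Field k] (R : Type u) [CommRing R] [Algebra k R] (n M : ℕ)
    (Λ : Submodule R⟦X⟧ (Fin n → R⟦X⟧))
    (hΛ : ∀ v : Fin n → R⟦X⟧, ((PowerSeries.X : R⟦X⟧) ^ M) • v ∈ Λ) :
    (Module.Finite R⟦X⟧ Λ ∧ Module.Projective R⟦X⟧ Λ) ↔
      Module.Projective R ((Fin n → R⟦X⟧) ⧸ Λ) := by
  constructor
  · rintro ⟨h1, h2⟩; exact projective_quotient Λ hΛ
  · intro h; exact lattice_of_projective_quotient Λ hΛ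

end Groth.Agent.S19306
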