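import Groth.Statements.S19307
import Groth.Agent.Sect5.Basic
import Groth.Agent.NonAb.SchTorsor
import Groth.Agent.Et18.Descent
import Groth.Agent.CAlgH.PowerSeriesEval
import Groth.Agent.HenselLib.Lift

set_option autoImplicit false
set_option linter.style.haveILetI false
universe u
open CategoryTheory MonoidalCategory CartesianMonoidalCategory MonObj GrpObj AlgebraicGeometry PowerSeries
open NonAbH1

namespace Groth.Agent.S19307

/-- Let R be a commutative ring, G an affine smooth group scheme over the power series ring R⟦X⟧ and P a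
G-torsor over Spec R⟦X⟧ for the fpqc topology. Then there is an étale and faithfully flat R-algebra
R' such that P has a section over Spec R'⟦X⟧. (The published statement takes R an algebra over a
field and G the base change to R⟦X⟧ of a smooth affine group scheme over the power series ring of
that field; the statement here allows any affine smooth group scheme over R⟦X⟧, to which the
published proof applies unchanged.) -/
theorem result
    (R : Type u) [CommRing R]
    (G : Over (Spec (CommRingCat.of R⟦X⟧))) [GrpObj G] [IsAffine G.left] [Smooth G.hom]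
    (P : Over (Spec (CommRingCat.of R⟦X⟧))) (a : AlgGrp.Action G P)
    (hP : NonAbH1.IsTorsorFor Scheme.fpqcPrecoverage a) :
    ∃ (R' : Type u) (_ : CommRing R') (_ : Algebra R R'),
      Algebra.Etale R R' ∧ Module.FaithfullyFlat R R' ∧
      NonAbH1.HasSectionOver P (Spec.map (CommRingCat.ofHom (PowerSeries.map (algebraMap R R')))) := by
  have hGa : IsAffineHom G.hom := inferInstance
  have haff : IsAffineHom P.hom :=
    NonAbLib.property_hom @IsAffineHom Et18.descends_isAffineHom hP hGa
  have hsm : Smooth P.hom := NonAbLib.property_hom @Smooth inferInstance hP ‹Smooth G.hom›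
  haveI : IsAffine P.left := isAffine_of_isAffineHom P.hom
  haveI : Surjective P.hom := NonAbLib.surjective_hom a hP
  let c : CommRingCat.of R⟦X⟧ ⟶ CommRingCat.of R := CommRingCat.ofHom PowerSeries.constantCoeff
  haveI : Smooth (Limits.pullback.snd P.hom (Spec.map c)) := MorphismProperty.pullback_snd _ _ hsm
  obtain ⟨R', _, _, het, hff, h, hh⟩ :=
    Sect5.exists_ff_etale_section (Limits.pullback.snd P.hom (Spec.map c))
  refine ⟨R', inferInstance, inferInstance, het, hff, ?_⟩
  let C : Type u := Γ(P.left, ⊤)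
  let f : CommRingCat.of R⟦X⟧ ⟶ Γ(P.left, ⊤) := Spec.preimage (P.left.isoSpec.inv ≫ P.hom)
  have hf : Spec.map f = P.left.isoSpec.inv ≫ P.hom := Spec.map_preimage _
  letI : Algebra R⟦X⟧ C := f.hom.toAlgebra
  haveI : Algebra.Smooth R⟦X⟧ C := by
    have h1 : Smooth (Spec.map f) := by rw [hf]; infer_instance
    exact (HasRingHomProperty.Spec_iff (P := @Smooth)).1 h1
  let m : R⟦X⟧ →+* R'⟦X⟧ := PowerSeries.map (algebraMap R R')
  letI : Algebra R⟦X⟧ R'⟦X⟧ := m.toAlgebra
  haveI hcomp : IsAdicComplete (Ideal.span {(PowerSeries.X : R'⟦X⟧)}) R'⟦X⟧ := by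
    have := CAlgH.isAdicComplete_mvPowerSeries Unit R'
    rwa [Set.range_unique] at this
  let σ₀ : C →+* R' := (Spec.preimage (h ≫ Limits.pullback.fst _ _ ≫ P.left.isoSpec.hom)).hom
  have hσ₀ : σ₀.comp f.hom = (algebraMap R R').comp PowerSeries.constantCoeff := by
    have : f ≫ Spec.preimage (h ≫ Limits.pullback.fst _ _ ≫ P.left.isoSpec.hom) =
        c ≫ CommRingCat.ofHom (algebraMap R R') := by
      apply Spec.map_injective
      rw [Spec.map_comp, Spec.map_preimage, hf]
      simp only [Category.assoc, Iso.hom_inv_id_assoc]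
      rw [Limits.pullback.condition, ← Category.assoc, hh, ← Spec.map_comp]
    exact congrArg CommRingCat.Hom.hom this
  let J : Ideal R'⟦X⟧ := Ideal.span {PowerSeries.X}
  have hJc : ∀ a : R'⟦X⟧, Ideal.Quotient.mk J (PowerSeries.C (PowerSeries.constantCoeff a)) =
      Ideal.Quotient.mk J a := fun a => by
    rw [Ideal.Quotient.eq, Ideal.mem_span_singleton, PowerSeries.X_dvd_iff]
    simp
  let σ : C →ₐ[R⟦X⟧] R'⟦X⟧ ⧸ J :=
    { ((Ideal.Quotient.mk J).comp PowerSeries.C).comp σ₀ with
      commutes' := fun a => by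
        show Ideal.Quotient.mk J (PowerSeries.C (σ₀ (f.hom a))) = Ideal.Quotient.mk J (m a)
        rw [← RingHom.comp_apply σ₀, hσ₀, RingHom.comp_apply, ← hJc (m a)]
        congr 2 }
  let σA := Algebra.TensorProduct.lift (Algebra.ofId R'⟦X⟧ (R'⟦X⟧ ⧸ J)) σ fun _ _ => Commute.all _ _
  obtain ⟨τ, -⟩ := HenselLib.exists_lift_of_smooth J σA
  let t : C →+* R'⟦X⟧ :=
    ((τ.restrictScalars R⟦X⟧).comp (Algebra.TensorProduct.includeRight (A := R'⟦X⟧))).toRingHom
  have ht : t.comp f.hom = m := ((τ.restrictScalars R⟦X⟧).comp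
    (Algebra.TensorProduct.includeRight (R := R⟦X⟧) (A := R'⟦X⟧) (B := C))).comp_algebraMap
  refine ⟨Spec.map (CommRingCat.ofHom t) ≫ P.left.isoSpec.inv, ?_⟩
  rw [Category.assoc, ← hf, ← Spec.map_comp]
  exact congrArg Spec.map (CommRingCat.hom_ext ht)

end Groth.Agent.S19307
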