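import Groth.Statements.S19308
import Groth.Agent.FlatMorSlice.Regular
import Groth.Agent.VarietyLib.GeomField
-- import your own Groth.Agent.* helpers here

set_option autoImplicit false
universe u
open TensorProduct
open CAlg

namespace Groth.Agent.S19308

open TensorProduct in
theorem isPrime_map (k : Type u) [Field k] [IsAlgClosed k] (R A : Type u) [CommRing R] [Algebra k R]
    [CommRing A] [IsDomain A] [Algebra k A] (p : Ideal R) [p.IsPrime] :
    (p.map (Algebra.TensorProduct.includeLeftRingHom : R →+* R ⊗[k] A)).IsPrime := by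
  haveI := VarietyLib.isDomain_tensor_of_isAlgClosed k (R ⧸ p) A
  have h := Algebra.TensorProduct.rTensor_ker (R := k) (S := k) (C := A) (Ideal.Quotient.mkₐ k p)
    (Ideal.Quotient.mkₐ_surjective k p)
  have hk : RingHom.ker (Ideal.Quotient.mkₐ k p) = p := Ideal.mk_ker
  rw [hk] at h
  change (p.map (Algebra.TensorProduct.includeLeft : R →ₐ[k] R ⊗[k] A)).IsPrime
  rw [← h]
  exact RingHom.ker_isPrime _

/-- A coefficient of an element of `T ⊗ A`. -/
noncomputable def coef (k : Type u) [Field k] (T A : Type u) [CommRing T] [Algebra k T] [CommRing A]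
    [Algebra k A] (φ : A →ₗ[k] k) : TensorProduct k T A →ₗ[T] T :=
  (TensorProduct.AlgebraTensorModule.rid k T T).toLinearMap ∘ₗ φ.baseChange T

open TensorProduct in
theorem coef_tmul (k : Type u) [Field k] (T A : Type u) [CommRing T] [Algebra k T] [CommRing A]
    [Algebra k A] (φ : A →ₗ[k] k) (t : T) (a : A) : coef k T A φ (t ⊗ₜ a) = φ a • t := by
  simp [coef]

open TensorProduct in
theorem coef_map (k : Type u) [Field k] {R T : Type u} (A : Type u) [CommRing R] [Algebra k R] [CommRing T]
    [Algebra k T] [CommRing A] [Algebra k A] (g : R →ₐ[k] T) (φ : A →ₗ[k] k) (f : R ⊗[k] A) :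
    coef k T A φ (Algebra.TensorProduct.map g (AlgHom.id k A) f) = g (coef k R A φ f) := by
  induction f using TensorProduct.induction_on with
  | zero => simp
  | add x y hx hy => simp only [map_add, hx, hy]
  | tmul t a => simp [coef_tmul]

open TensorProduct in
theorem coef_mem (k : Type u) [Field k] (T A : Type u) [CommRing T] [Algebra k T] [CommRing A]
    [Algebra k A] (φ : A →ₗ[k] k) (p : Ideal T) {x : T ⊗[k] A}
    (hx : x ∈ p.map (Algebra.TensorProduct.includeLeftRingHom : T →+* T ⊗[k] A)) : coef k T A φ x ∈ p := by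
  change x ∈ p.map (algebraMap T (T ⊗[k] A)) at hx
  have hx' : x ∈ p • (⊤ : Submodule T (T ⊗[k] A)) := by
    rw [Ideal.smul_top_eq_map]; exact hx
  refine Submodule.smul_induction_on hx' (fun a ha m _ => ?_) fun a b ha hb => by rw [map_add]; exact add_mem ha hb
  rw [map_smul]
  exact Ideal.mul_mem_right _ _ ha

open TensorProduct in
theorem mem_of_coef (k : Type u) [Field k] (T A : Type u) [CommRing T] [Algebra k T] [CommRing A]
    [Algebra k A] (p : Ideal T) (x : T ⊗[k] A) (h : ∀ φ : A →ₗ[k] k, coef k T A φ x ∈ p) :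
    x ∈ p.map (Algebra.TensorProduct.includeLeftRingHom : T →+* T ⊗[k] A) := by
  classical
  let b := Module.Basis.ofVectorSpace k A
  rw [← (b.baseChange T).linearCombination_repr x, Finsupp.linearCombination_apply, Finsupp.sum]
  refine sum_mem fun i _ => ?_
  have hc : ∀ x, (b.baseChange T).repr x i = coef k T A (b.coord i) x := by
    intro x
    induction x using TensorProduct.induction_on with
    | zero => simp
    | add y z hy hz => simp [hy, hz]
    | tmul t a => simp [coef_tmul]
  rw [hc, Algebra.smul_def]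
  exact Ideal.mul_mem_right _ _ (Ideal.mem_map_of_mem _ (h _))

open TensorProduct in
theorem regular_and_flat (k : Type u) [Field k] [IsAlgClosed k] (T A : Type u) [CommRing T] [Algebra k T]
    [CommRing A] [IsDomain A] [Algebra k A] [Algebra.FiniteType k A] (f : T ⊗[k] A) (φ : A →ₗ[k] k)
    (hc : IsUnit (coef k T A φ f)) :
    f ∈ nonZeroDivisors (T ⊗[k] A) ∧ Module.Flat T (T ⊗[k] A ⧸ Ideal.span {f}) := by
  classical
  haveI : Algebra.FinitePresentation k A := Algebra.FinitePresentation.of_finiteType.1 inferInstance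
  have loc : ∀ q : PrimeSpectrum (T ⊗[k] A), ∃ c ∉ q.asIdeal,
      (∀ x, f * x = 0 → ∃ n : ℕ, c ^ n * x = 0) ∧
      Module.Flat T (LocalizedModule q.asIdeal.primeCompl (T ⊗[k] A ⧸ Ideal.span {f})) := by
    intro q
    let p := q.asIdeal.comap (algebraMap T (T ⊗[k] A))
    have hp : (p.map (algebraMap T (T ⊗[k] A))).IsPrime := isPrime_map k T A p
    have hf : f ∉ p.map (algebraMap T (T ⊗[k] A)) := fun h =>
      (Ideal.IsPrime.ne_top (I := p) inferInstance) (Ideal.eq_top_of_isUnit_mem _ (coef_mem k T A φ p h) hc)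
    have hq : Module.Flat T (LocalizedModule q.asIdeal.primeCompl (T ⊗[k] A)) := by
      haveI : Module.Flat (T ⊗[k] A) (LocalizedModule q.asIdeal.primeCompl (T ⊗[k] A)) :=
        IsLocalization.flat (Localization q.asIdeal.primeCompl) q.asIdeal.primeCompl
      exact Module.Flat.trans T (T ⊗[k] A) _
    obtain ⟨c, hcq, h1, h2⟩ := FlatMorSlice.exists_regular_sequence q hq [f] (by
      rintro i hi x ⟨c, hc', hx⟩
      obtain rfl : i = 0 := by simpa using hi
      simp only [List.take_zero, Ideal.ofList_nil, sup_bot_eq, List.getElem_cons_zero] at hx ⊢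
      refine ⟨c, hc', (hp.mem_or_mem (?_ : f * (c * x) ∈ _)).resolve_left hf⟩
      rw [show f * (c * x) = c * (f * x) by ring]
      exact hx)
    refine ⟨c, hcq, fun x hx => ?_, ?_⟩
    · obtain ⟨n, hn⟩ := h1 0 (by simp) x (by simpa [Ideal.ofList_nil] using hx)
      exact ⟨n, by simpa [Ideal.ofList_nil] using hn⟩
    · exact FlatMorSlice.flat_localized_congr (Submodule.quotEquivOfEq _ _ (Ideal.ofList_singleton f)) _
        (h2 q.asIdeal hcq)
  refine ⟨mem_nonZeroDivisors_iff_right.2 fun x hx => ?_, ?_⟩
  · by_contra hx0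
    let J := Submodule.colon (⊥ : Ideal (T ⊗[k] A)) {x}
    have hJ : J ≠ ⊤ := fun h => hx0 (by
      have h1 : (1 : T ⊗[k] A) ∈ J := h ▸ Submodule.mem_top
      simpa [J, Submodule.mem_colon_singleton] using h1)
    obtain ⟨q, hq, hle⟩ := Ideal.exists_le_maximal _ hJ
    obtain ⟨c, hcq, h1, -⟩ := loc ⟨q, hq.isPrime⟩
    obtain ⟨n, hn⟩ := h1 x (by rw [mul_comm]; exact hx)
    exact hcq (hq.isPrime.mem_of_pow_mem n (hle (by simpa [J, Submodule.mem_colon_singleton] using hn)))
  · exact Module.flat_of_isLocalized_maximal (T ⊗[k] A) (T ⊗[k] A ⧸ Ideal.span {f})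
      (fun P [P.IsMaximal] => LocalizedModule P.primeCompl (T ⊗[k] A ⧸ Ideal.span {f}))
      (fun P [P.IsMaximal] => LocalizedModule.mkLinearMap P.primeCompl _) fun P hP =>
      (loc ⟨P, hP.isPrime⟩).choose_spec.2.2

/-- Let k be an algebraically closed field, A a finitely generated k-algebra which is an integral domain
(an affine variety X = Spec A), Z a finite (possibly empty) set of k-points of A, R a commutative
k-algebra and U an open dense subset of Spec (R ⊗_k A) = X_R containing every point of Z_R and
meeting every fibre of X_R → Spec R. Then locally on Spec R there is a principal relative effective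
Cartier divisor missing Z_R whose complement lies in U: for every prime p of R there are r ∉ p and f
∈ R[1/r] ⊗_k A such that f is a non-zero-divisor, (R[1/r] ⊗_k A)/(f) is flat over R[1/r], f maps to
a unit under every point of Z, and the basic open set D(f) of X_{R[1/r]} maps into U. (The published
statement is for a quasi-projective variety X and asks for relative Cartier divisors D_i over an
open cover of Spec R; this row is the affine case, to which the published proof reduces, where the
divisors produced are principal.) -/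
theorem result
    (k : Type u) [Field k] [IsAlgClosed k]
    (A : Type u) [CommRing A] [Algebra k A] [IsDomain A] [Algebra.FiniteType k A]
    (Z : Finset (A →ₐ[k] k))
    (R : Type u) [CommRing R] [Algebra k R]
    (U : TopologicalSpace.Opens (PrimeSpectrum (TensorProduct k R A)))
    (hU : Dense (U : Set (PrimeSpectrum (TensorProduct k R A))))
    (hZ : ∀ z ∈ Z, ∀ q : PrimeSpectrum R,
      PrimeSpectrum.comap (Algebra.TensorProduct.lift (AlgHom.id k R) ((Algebra.ofId k R).comp z)
        (fun _ _ => Commute.all _ _)).toRingHom q ∈ U)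
    (hsurj : ∀ q : PrimeSpectrum R, ∃ P ∈ U,
      PrimeSpectrum.comap (Algebra.TensorProduct.includeLeftRingHom : R →+* TensorProduct k R A) P = q)
    (p : PrimeSpectrum R) :
    ∃ r : R, r ∉ p.asIdeal ∧
      ∃ f : TensorProduct k (Localization.Away r) A,
        f ∈ nonZeroDivisors (TensorProduct k (Localization.Away r) A) ∧
        Module.Flat (Localization.Away r)
          (TensorProduct k (Localization.Away r) A ⧸ Ideal.span {f}) ∧
        (∀ z ∈ Z, IsUnit (Algebra.TensorProduct.lift (AlgHom.id k (Localization.Away r))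
          ((Algebra.ofId k (Localization.Away r)).comp z) (fun _ _ => Commute.all _ _) f)) ∧
        (∀ P : PrimeSpectrum (TensorProduct k (Localization.Away r) A), f ∉ P.asIdeal →
          PrimeSpectrum.comap (Algebra.TensorProduct.map
            (IsScalarTower.toAlgHom k R (Localization.Away r)) (AlgHom.id k A)).toRingHom P ∈ U) := by
  classical
  -- the closed complement
  obtain ⟨I, hI⟩ : ∃ I : Ideal (TensorProduct k R A), ∀ P : PrimeSpectrum (TensorProduct k R A), P ∈ U ↔ ¬ I ≤ P.asIdeal := by
    obtain ⟨I, hI⟩ := (PrimeSpectrum.isClosed_iff_zeroLocus_ideal _).1 U.2.isClosed_compl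
    refine ⟨I, fun P => ?_⟩
    have := Set.ext_iff.1 hI P
    rw [PrimeSpectrum.mem_zeroLocus, Set.mem_compl_iff, SetLike.coe_subset_coe] at this
    exact not_not.symm.trans (not_congr this)
  let ev : (A →ₐ[k] k) → (TensorProduct k R A →ₐ[k] R) := fun z =>
    Algebra.TensorProduct.lift (AlgHom.id k R) ((Algebra.ofId k R).comp z) (fun _ _ => Commute.all _ _)
  -- the generic point of the fibre over `p`
  let p₀ : Ideal (TensorProduct k R A) := p.asIdeal.map (Algebra.TensorProduct.includeLeftRingHom : R →+* TensorProduct k R A)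
  haveI hp₀ : p₀.IsPrime := isPrime_map k R A p.asIdeal
  have hI₀ : ¬ I ≤ p₀ := by
    obtain ⟨P, hPU, hP⟩ := hsurj p
    refine fun h => (hI P).1 hPU (h.trans (Ideal.map_le_iff_le_comap.2 ?_))
    rw [← hP]
    exact le_rfl
  obtain ⟨f, hfI, hfp, hfz⟩ : ∃ f ∈ I, f ∉ p₀ ∧ ∀ z ∈ Z, ev z f ∉ p.asIdeal := by
    by_contra! h
    let Q : Option (A →ₐ[k] k) → Ideal (TensorProduct k R A) := fun o => o.elim p₀ fun z => p.asIdeal.comap (ev z).toRingHom
    have hsub : (I : Set (TensorProduct k R A)) ⊆ ⋃ o ∈ (↑(insert none (Z.image some)) : Set (Option (A →ₐ[k] k))), (Q o : Set _) := by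
      intro f hf
      rw [Set.mem_iUnion₂]
      by_cases h0 : f ∈ p₀
      · exact ⟨none, by simp, h0⟩
      · obtain ⟨z, hz, hz'⟩ := h f hf h0
        exact ⟨some z, by simp [hz], hz'⟩
    obtain ⟨o, ho, hle⟩ := (Ideal.subset_union_prime none none fun o ho _ _ => by
      cases o with
      | none => exact hp₀
      | some z => exact Ideal.IsPrime.comap _).1 hsub
    simp only [Finset.mem_insert, Finset.mem_image] at ho
    rcases ho with rfl | ⟨z, hz, rfl⟩
    · exact hI₀ hle
    · exact (hI _).1 (hZ z hz p) hle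
  obtain ⟨φ, hφ⟩ : ∃ φ : A →ₗ[k] k, coef k R A φ f ∉ p.asIdeal := by
    by_contra! h
    exact hfp (mem_of_coef k R A p.asIdeal f h)
  refine ⟨coef k R A φ f * ∏ z ∈ Z, ev z f, p.asIdeal.primeCompl.mul_mem hφ
    (p.asIdeal.primeCompl.prod_mem hfz), ?_⟩
  generalize hr : coef k R A φ f * ∏ z ∈ Z, ev z f = r
  let g : R →ₐ[k] Localization.Away r := IsScalarTower.toAlgHom k R (Localization.Away r)
  refine ⟨Algebra.TensorProduct.map g (AlgHom.id k A) f, ?_⟩
  have hu : IsUnit (g r) := IsLocalization.Away.algebraMap_isUnit r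
  have hu : IsUnit (g (coef k R A φ f)) ∧ IsUnit (g (∏ z ∈ Z, ev z f)) := by
    rw [← IsUnit.mul_iff, ← map_mul]
    exact hr.symm ▸ hu
  have hcu : IsUnit (coef k (Localization.Away r) A φ (Algebra.TensorProduct.map g (AlgHom.id k A) f)) := by
    rw [coef_map]; exact hu.1
  obtain ⟨h1, h2⟩ := regular_and_flat k (Localization.Away r) A _ φ hcu
  refine ⟨h1, h2, fun z hz => ?_, fun P hP => ?_⟩
  · have h3 : IsUnit (g (ev z f)) := by
      have := hu.2
      rw [map_prod] at this
      exact IsUnit.prod_iff.1 this z hz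
    convert h3 using 1
    refine DFunLike.congr_fun (?_ : (Algebra.TensorProduct.lift (AlgHom.id k (Localization.Away r))
      ((Algebra.ofId k (Localization.Away r)).comp z) (fun _ _ => Commute.all _ _)).comp
      (Algebra.TensorProduct.map g (AlgHom.id k A)) = g.comp (ev z)) f
    ext x <;> simp [ev]
  · exact (hI _).2 fun hle => hP (hle hfI)

end Groth.Agent.S19308
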