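import Groth.Statements.S19309
-- import your own Groth.Agent.* helpers here

set_option autoImplicit false
universe u
open PowerSeries LaurentSeries
open CAlg

namespace Groth.Agent.S19309

/-- Let k be a field, R a commutative k-algebra, B a finitely presented R⟦X⟧-algebra (an affine scheme V
= Spec B of finite presentation over the disc D_R = Spec R⟦X⟧) and s : B → R((X)) an R⟦X⟧-algebra
map (a section of V over the punctured disc). Then there is an ideal I of R such that for every ring
map φ : R → R', writing θ : R((X)) → R'((X)) for the ring map compatible with R⟦X⟧ → R'⟦X⟧, the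
section s extends to a section over D_{R'} — an R⟦X⟧-algebra map s' : B → R'⟦X⟧ whose composite with
R'⟦X⟧ → R'((X)) is θ ∘ s — if and only if φ kills I. In other words the sub-presheaf of Spec R where
s extends over the disc is the closed subscheme defined by I. -/
theorem result
    (k : Type u) [Field k] (R : Type u) [CommRing R] [Algebra k R]
    (B : Type u) [CommRing B] [Algebra R⟦X⟧ B] [Algebra.FinitePresentation R⟦X⟧ B]
    (s : B →ₐ[R⟦X⟧] R⸨X⸩) :
    ∃ I : Ideal R, ∀ (R' : Type u) [CommRing R'] (φ : R →+* R') (θ : R⸨X⸩ →+* R'⸨X⸩),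
      θ.comp (algebraMap R⟦X⟧ R⸨X⸩) = (algebraMap R'⟦X⟧ R'⸨X⸩).comp (PowerSeries.map φ) →
      ((∃ s' : B →+* R'⟦X⟧, s'.comp (algebraMap R⟦X⟧ B) = PowerSeries.map φ ∧
          (algebraMap R'⟦X⟧ R'⸨X⸩).comp s' = θ.comp s.toRingHom) ↔ I ≤ RingHom.ker φ) := by
  refine ⟨Ideal.span {a | ∃ (b : B) (n : ℤ), n < 0 ∧ (s b).coeff n = a}, fun R' _ φ θ hθ => ?_⟩
  have hθ' : ∀ g : R⟦X⟧, θ (HahnSeries.ofPowerSeries ℤ R g) = HahnSeries.ofPowerSeries ℤ R' (PowerSeries.map φ g) := by
    intro g
    exact congrArg (fun h => h g) hθ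
  have hcoeff : ∀ (f : R⸨X⸩) (n : ℤ), (θ f).coeff n = φ (f.coeff n) := by
    intro f n
    obtain ⟨m, g, hg⟩ : ∃ (m : ℕ) (g : R⟦X⟧), HahnSeries.single (m : ℤ) 1 * f = HahnSeries.ofPowerSeries ℤ R g := by
      rcases le_total 0 f.order with h | h
      · refine ⟨0, PowerSeries.X ^ f.order.natAbs * LaurentSeries.powerSeriesPart f, ?_⟩
        rw [LaurentSeries.X_order_mul_powerSeriesPart (Int.natAbs_of_nonneg h)]
        simp
      · refine ⟨f.order.natAbs, LaurentSeries.powerSeriesPart f, ?_⟩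
        rw [LaurentSeries.ofPowerSeries_powerSeriesPart, Int.ofNat_natAbs_of_nonpos h]
    have hX : θ (HahnSeries.single (m : ℤ) 1) = HahnSeries.single (m : ℤ) 1 := by
      rw [← HahnSeries.ofPowerSeries_X_pow (R := R) m, hθ', map_pow, PowerSeries.map_X,
        HahnSeries.ofPowerSeries_X_pow]
    have h1 : HahnSeries.single (m : ℤ) 1 * θ f = HahnSeries.ofPowerSeries ℤ R' (PowerSeries.map φ g) := by
      rw [← hθ', ← hg, map_mul, hX]
    have e1 := congrArg (fun y => y.coeff (n + m)) h1
    have e2 := congrArg (fun y => y.coeff (n + m)) hg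
    simp only [HahnSeries.coeff_single_mul_add, one_mul] at e1 e2
    rw [e1, e2]
    rcases Int.lt_or_le (n + m) 0 with hn | hn
    · have hz : ∀ {T : Type u} [CommRing T] (G : T⟦X⟧), (HahnSeries.ofPowerSeries ℤ T G).coeff (n + m) = 0 :=
        fun G => HahnSeries.embDomain_notin_image_support (by rintro ⟨i, -, hi⟩; simp at hi; omega)
      rw [hz, hz, map_zero]
    · obtain ⟨i, hi⟩ := Int.eq_ofNat_of_zero_le hn
      rw [hi, HahnSeries.ofPowerSeries_apply_coeff, HahnSeries.ofPowerSeries_apply_coeff, PowerSeries.coeff_map]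
  constructor
  · rintro ⟨s', -, hs'⟩
    rw [Ideal.span_le]
    rintro _ ⟨b, n, hn, rfl⟩
    rw [SetLike.mem_coe, RingHom.mem_ker, ← hcoeff]
    have := congrArg (fun h => h b) hs'
    simp only [RingHom.comp_apply] at this
    show (θ (s.toRingHom b)).coeff n = 0
    rw [← this]
    obtain ⟨j, rfl⟩ : ∃ j : ℕ, n = -((j : ℤ) + 1) := ⟨n.natAbs - 1, by omega⟩
    exact HahnSeries.embDomain_notin_image_support
      (by rintro ⟨i, -, hi⟩; simp at hi; omega)
  · intro hI
    have hinj : Function.Injective (algebraMap R'⟦X⟧ R'⸨X⸩) := HahnSeries.ofPowerSeries_injective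
    have hmem : ∀ b : B, ∃ g : R'⟦X⟧, algebraMap R'⟦X⟧ R'⸨X⸩ g = θ (s b) := by
      intro b
      refine ⟨PowerSeries.mk fun i => (θ (s b)).coeff (i : ℤ), ?_⟩
      ext n
      show (HahnSeries.ofPowerSeries ℤ R' (PowerSeries.mk fun i => (θ (s b)).coeff (i : ℤ))).coeff n = _
      rcases Int.lt_or_le n 0 with hn | hn
      · rw [hcoeff (s b) n, show φ ((s b).coeff n) = 0 from hI (Ideal.subset_span ⟨b, n, hn, rfl⟩)]
        exact HahnSeries.embDomain_notin_image_support (by rintro ⟨i, -, hi⟩; simp at hi; omega)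
      · obtain ⟨i, rfl⟩ := Int.eq_ofNat_of_zero_le hn
        rw [HahnSeries.ofPowerSeries_apply_coeff, PowerSeries.coeff_mk]
    choose γ hγ using hmem
    refine ⟨{ toFun := γ
              map_one' := hinj (by rw [hγ, map_one, map_one, map_one])
              map_mul' := fun a b => hinj (by rw [map_mul, hγ, hγ, hγ, map_mul, map_mul])
              map_zero' := hinj (by rw [hγ, map_zero, map_zero, map_zero])
              map_add' := fun a b => hinj (by rw [map_add, hγ, hγ, hγ, map_add, map_add]) },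
      RingHom.ext fun g => hinj ?_, RingHom.ext hγ⟩
    show algebraMap R'⟦X⟧ R'⸨X⸩ (γ (algebraMap R⟦X⟧ B g)) = _
    rw [hγ, AlgHom.commutes]
    exact congrArg (fun h => h g) hθ

end Groth.Agent.S19309
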