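import Groth.Statements.S19310
import Mathlib.FieldTheory.PurelyInseparable.Exponent
import Mathlib.LinearAlgebra.FreeModule.PID
import Mathlib.RingTheory.Flat.TorsionFree
import Mathlib.RingTheory.Henselian
import Mathlib.RingTheory.MvPolynomial.IrreducibleQuadratic
import Mathlib.RingTheory.PicardGroup
import Mathlib.RingTheory.RegularLocalRing.Defs
import Mathlib.RingTheory.SimpleRing.Principal
import Mathlib.Tactic

set_option linter.all false

set_option autoImplicit false
universe u
open TensorProduct
open CAlg

open scoped TensorProduct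

namespace Groth.Agent.S19310

theorem exists_point_ne_zero (k : Type u) [Field k] [IsAlgClosed k] (κ : Type*) [Field κ] [Algebra k κ]
    (s : Finset κ) : ∃ (C : Subalgebra k κ) (φ : C →ₐ[k] k), (↑s : Set κ) ⊆ C ∧
      ∀ x : C, (x : κ) ∈ s → (x : κ) ≠ 0 → φ x ≠ 0 := by
  classical
  let t : Finset κ := s ∪ s.image (·⁻¹)
  let C := Algebra.adjoin k (t : Set κ)
  haveI : Algebra.FiniteType k C := (Subalgebra.fg_iff_finiteType _).mp ⟨t, rfl⟩
  obtain ⟨m, hm⟩ := Ideal.exists_maximal C
  let F := C ⧸ m
  letI : Field F := Ideal.Quotient.field m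
  haveI : Algebra.FiniteType k F := Algebra.FiniteType.of_surjective (Ideal.Quotient.mkₐ k m) Ideal.Quotient.mk_surjective
  haveI : Module.Finite k F := finite_of_finite_type_of_isJacobsonRing k F
  haveI : Algebra.IsAlgebraic k F := Algebra.IsAlgebraic.of_finite k F
  haveI : IsDomain F := Ideal.Quotient.isDomain m
  let eF : k ≃ₐ[k] F := AlgEquiv.ofBijective (Algebra.ofId k F) IsAlgClosed.algebraMap_bijective_of_isIntegral
  let φ : C →ₐ[k] k := eF.symm.toAlgHom.comp (Ideal.Quotient.mkₐ k m)
  refine ⟨C, φ, fun x hx => Algebra.subset_adjoin (by simp [t, Finset.mem_coe.mp hx]), fun x hx hx0 h0 => ?_⟩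
  have hinv : (x : κ)⁻¹ ∈ C := Algebra.subset_adjoin (by
    simp only [t, Finset.coe_union, Finset.coe_image, Set.mem_union, Set.mem_image]
    exact Or.inr ⟨_, hx, rfl⟩)
  have h1 : x * ⟨_, hinv⟩ = 1 := Subtype.ext (mul_inv_cancel₀ hx0)
  have := congrArg φ h1
  rw [map_mul, h0, zero_mul, map_one] at this
  exact zero_ne_one this

theorem tensor_mul_ne_zero {k : Type u} [Field k] [IsAlgClosed k] {A : Type*} [CommRing A] [Algebra k A]
    [IsDomain A] {ι : Type*} (b : Module.Basis ι k A) (κ : Type*) [Field κ] [Algebra k κ]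
    (x y : κ ⊗[k] A) (hx : x ≠ 0) (hy : y ≠ 0) : x * y ≠ 0 := by
  classical
  let bκ := b.baseChange κ
  obtain ⟨i, hi⟩ := Finsupp.ne_iff.mp (show bκ.repr x ≠ 0 by simpa using hx)
  obtain ⟨j, hj⟩ := Finsupp.ne_iff.mp (show bκ.repr y ≠ 0 by simpa using hy)
  simp only [Finsupp.coe_zero, Pi.zero_apply] at hi hj
  obtain ⟨C, φ, hC, hφ⟩ := exists_point_ne_zero k κ
    ((bκ.repr x).support.image (bκ.repr x) ∪ (bκ.repr y).support.image (bκ.repr y))
  have lift : ∀ z : κ ⊗[k] A, (∀ l, bκ.repr z l ∈ C) →
      ∃ z' : C ⊗[k] A, Algebra.TensorProduct.map C.val (AlgHom.id k A) z' = z ∧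
        ∀ l, ((((b.baseChange C).repr z' l) : C) : κ) = bκ.repr z l := by
    intro z hz
    let c : ι →₀ C := Finsupp.onFinset (bκ.repr z).support (fun l => ⟨bκ.repr z l, hz l⟩) (fun l hl => by
      simp only [Finsupp.mem_support_iff]; intro h; exact hl (Subtype.ext h))
    refine ⟨(b.baseChange C).repr.symm c, ?_, fun l => by simp [c]⟩
    conv_rhs => rw [← bκ.linearCombination_repr z]
    rw [Module.Basis.repr_symm_apply, Finsupp.linearCombination_apply, Finsupp.linearCombination_apply,
      Finsupp.sum, Finsupp.sum, map_sum, Finset.sum_subset (s₁ := c.support) (s₂ := (bκ.repr z).support)]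
    · refine Finset.sum_congr rfl fun l _ => ?_
      simp [c, bκ, Module.Basis.baseChange_apply, TensorProduct.smul_tmul']
    · exact Finsupp.support_onFinset_subset
    · intro l _ hl
      simp [Finsupp.notMem_support_iff.mp hl]
  have hmem : ∀ (z : κ ⊗[k] A), (z = x ∨ z = y) → ∀ l, bκ.repr z l ∈ C := by
    intro z hz l
    by_cases h : bκ.repr z l = 0
    · rw [h]; exact zero_mem C
    · refine hC ?_
      simp only [Finset.coe_union, Finset.coe_image, Set.mem_union, Set.mem_image, Finset.mem_coe, Finsupp.mem_support_iff]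
      rcases hz with rfl | rfl
      · exact Or.inl ⟨l, h, rfl⟩
      · exact Or.inr ⟨l, h, rfl⟩
  obtain ⟨x', hx', hxc⟩ := lift x (hmem x (Or.inl rfl))
  obtain ⟨y', hy', hyc⟩ := lift y (hmem y (Or.inr rfl))
  intro hxy
  have hinj : Function.Injective (Algebra.TensorProduct.map C.val (AlgHom.id k A)) :=
    Module.Flat.rTensor_preserves_injective_linearMap (M := A) C.val.toLinearMap Subtype.val_injective
  have h' : x' * y' = 0 := hinj (by rw [map_mul, map_zero, hx', hy', hxy])
  let Φ : C ⊗[k] A →ₐ[k] A := Algebra.TensorProduct.lift ((Algebra.ofId k A).comp φ) (AlgHom.id k A) fun _ _ => Commute.all _ _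
  have hΦ : ∀ z l, b.repr (Φ z) l = φ ((b.baseChange C).repr z l) := by
    intro z l
    induction z using TensorProduct.induction_on with
    | zero => simp
    | add p q hp hq => simp [hp, hq]
    | tmul c a =>
      simp only [Φ, Algebra.TensorProduct.lift_tmul, AlgHom.comp_apply, AlgHom.id_apply, Module.Basis.baseChange_repr_tmul]
      rw [show (Algebra.ofId k A) (φ c) * a = φ c • a from (Algebra.smul_def _ _).symm, map_smul]
      simp [mul_comm]
  have hne : ∀ (z' : C ⊗[k] A) (z : κ ⊗[k] A) l, (∀ l, ((((b.baseChange C).repr z' l) : C) : κ) = bκ.repr z l) →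
      bκ.repr z l ≠ 0 → (z = x ∨ z = y) → Φ z' ≠ 0 := by
    intro z' z l hl h0 hz h
    refine hφ ((b.baseChange C).repr z' l) ?_ (by rw [hl]; exact h0) (by rw [← hΦ, h, map_zero, Finsupp.coe_zero, Pi.zero_apply])
    rw [hl]
    simp only [Finset.mem_union, Finset.mem_image, Finsupp.mem_support_iff]
    rcases hz with rfl | rfl
    · exact Or.inl ⟨l, h0, rfl⟩
    · exact Or.inr ⟨l, h0, rfl⟩
  have := congrArg Φ h'
  rw [map_mul, map_zero, mul_eq_zero] at this
  exact this.elim (hne x' x i hxc hi (Or.inl rfl)) (hne y' y j hyc hj (Or.inr rfl))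

theorem injective_of_injective_mod {B : Type*} [CommRing B] [IsLocalRing B] {M : Type*} [AddCommGroup M]
    [Module B M] {ι : Type*} (b : Module.Basis ι B M) (u : M →ₗ[B] M)
    (h : ∀ x, (∀ l, b.repr (u x) l ∈ IsLocalRing.maximalIdeal B) → ∀ l, b.repr x l ∈ IsLocalRing.maximalIdeal B) :
    Function.Injective u := by
  classical
  rw [injective_iff_map_eq_zero]
  intro x hx
  let s := (b.repr x).support
  let t := s.biUnion fun i => (b.repr (u (b i))).support
  let V : Matrix t s B := Matrix.of fun l i => b.repr (u (b i)) l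
  let W := IsLocalRing.residue B
  have hcomb : ∀ (c : s → B), ∀ l, b.repr (u (∑ i, c i • b i)) l = ∑ i, c i * b.repr (u (b i)) l := by
    intro c l; simp [map_sum]
  have hker : Function.Injective (V.map W).mulVec := by
    rw [← Matrix.coe_mulVecLin, injective_iff_map_eq_zero]
    intro c hc
    choose c' hc' using fun i => IsLocalRing.residue_surjective (c i)
    have hh := h (∑ i, c' i • b i) fun l => by
      rw [hcomb]
      by_cases hl : l ∈ t
      · rw [← IsLocalRing.residue_eq_zero_iff, map_sum]
        have := congrFun hc ⟨l, hl⟩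
        simp only [Matrix.mulVecLin_apply, Matrix.mulVec, dotProduct, Matrix.map_apply, Pi.zero_apply] at this
        simpa [W, V, hc', mul_comm] using this
      · refine sum_mem fun i _ => ?_
        rw [Finsupp.notMem_support_iff.mp (fun hl' => hl (Finset.mem_biUnion.mpr ⟨_, i.2, hl'⟩)), mul_zero]
        exact zero_mem _
    funext i
    have hi := hh i
    rw [map_sum, Finsupp.finsetSum_apply, Finset.sum_eq_single i (fun a _ ha => by
      rw [map_smul, b.repr_self, Finsupp.smul_apply, Finsupp.single_eq_of_ne (fun e => ha (Subtype.ext e.symm)), smul_zero]) (by simp)] at hi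
    rw [← hc' i, Pi.zero_apply]
    simp at hi
    exact (IsLocalRing.residue_eq_zero_iff _).mpr ((IsLocalRing.mem_maximalIdeal _).mpr hi)
  obtain ⟨L, hL⟩ := LinearMap.exists_leftInverse_of_injective (Matrix.mulVecLin (V.map W)) (LinearMap.ker_eq_bot.mpr hker)
  choose L' hL' using fun (a : s) (l : t) => IsLocalRing.residue_surjective (LinearMap.toMatrix' L a l)
  have hu : IsUnit (Matrix.of L' * V) := by
    rw [Matrix.isUnit_iff_isUnit_det, ← IsLocalRing.residue_ne_zero_iff_isUnit, RingHom.map_det, RingHom.mapMatrix_apply, Matrix.map_mul]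
    have : (Matrix.of L').map W * V.map W = 1 := by
      rw [show (Matrix.of L').map W = LinearMap.toMatrix' L by ext a l; exact hL' a l]
      conv_lhs => rw [← LinearMap.toMatrix'_toLin' (V.map W), Matrix.toLin'_apply', ← LinearMap.toMatrix'_comp, hL, LinearMap.toMatrix'_id]
    rw [this, Matrix.det_one]; exact one_ne_zero
  have hx' : x = ∑ i : s, b.repr x i • b i := by
    conv_lhs => rw [← b.linearCombination_repr x]
    rw [Finsupp.linearCombination_apply, Finsupp.sum, ← Finset.sum_coe_sort]
  have hV : V.mulVec (fun i => b.repr x i) = 0 := by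
    funext l
    have := congrArg (fun z => b.repr z l) hx
    simp only [map_zero, Finsupp.coe_zero, Pi.zero_apply] at this
    rw [hx', hcomb] at this
    simpa [Matrix.mulVec, dotProduct, V, mul_comm] using this
  have h0 : (fun i : s => b.repr x i) = 0 := Matrix.mulVec_injective_of_isUnit hu (by
    rw [← Matrix.mulVec_mulVec, hV, Matrix.mulVec_zero, Matrix.mulVec_zero])
  rw [hx']
  exact Finset.sum_eq_zero fun i _ => by rw [show b.repr x i = 0 from congrFun h0 i, zero_smul]

/-- Let k be an algebraically closed field, A a finitely generated k-algebra which is an integral domain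
(X = Spec A an affine variety), R a commutative k-algebra, possibly non-reduced, and U an open
subset of X_R = Spec (R ⊗_k A) meeting every fibre of X_R → Spec R (a very dense open subset). Then
a regular function on X_R whose restriction to U vanishes is zero: if f ∈ R ⊗_k A maps to 0 in the
localisation (R ⊗_k A)[1/g] for every g with D(g) ⊆ U, then f = 0. (The published statement is that
automorphisms of a torsor under a smooth affine group scheme over X_R which are the identity over a
very dense open subset are the identity, for X a smooth projective curve; its proof reduces this to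
the present assertion about functions, for quasi-projective X; this row is the affine case.) -/
theorem result
    (k : Type u) [Field k] [IsAlgClosed k]
    (A : Type u) [CommRing A] [Algebra k A] [IsDomain A] [Algebra.FiniteType k A]
    (R : Type u) [CommRing R] [Algebra k R]
    (U : TopologicalSpace.Opens (PrimeSpectrum (TensorProduct k R A)))
    (hsurj : ∀ q : PrimeSpectrum R, ∃ P ∈ U,
      PrimeSpectrum.comap (Algebra.TensorProduct.includeLeftRingHom : R →+* TensorProduct k R A) P = q)
    (f : TensorProduct k R A)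
    (hf : ∀ g : TensorProduct k R A, (PrimeSpectrum.basicOpen g : Set (PrimeSpectrum (TensorProduct k R A))) ⊆ U →
      algebraMap (TensorProduct k R A) (Localization.Away g) f = 0) :
    f = 0 := by
  classical
  let b := Module.Free.chooseBasis k A
  let bR := b.baseChange R
  apply bR.repr.injective
  rw [map_zero]
  ext l
  apply eq_zero_of_localization
  intro q hq
  let Q : PrimeSpectrum R := ⟨q, hq.isPrime⟩
  obtain ⟨P, hPU, hPq⟩ := hsurj Q
  obtain ⟨g, hgP, hgU⟩ : ∃ g, P ∈ PrimeSpectrum.basicOpen g ∧ (PrimeSpectrum.basicOpen g : Set (PrimeSpectrum (R ⊗[k] A))) ⊆ U := by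
    obtain ⟨_, ⟨g, rfl⟩, h1, h2⟩ := PrimeSpectrum.isTopologicalBasis_basic_opens.exists_subset_of_mem_open hPU U.isOpen
    exact ⟨g, h1, h2⟩
  obtain ⟨⟨_, n, rfl⟩, hn⟩ := (IsLocalization.map_eq_zero_iff (Submonoid.powers g) (Localization.Away g) f).mp (hf g hgU)
  have hgm : g ^ n ∉ P.asIdeal := fun h => hgP (P.isPrime.mem_of_pow_mem n h)
  let B := Localization.AtPrime q
  let ρ : R ⊗[k] A →ₐ[k] B ⊗[k] A := Algebra.TensorProduct.map (IsScalarTower.toAlgHom k R B) (AlgHom.id k A)
  let bB := b.baseChange B
  have hρ : ∀ z i, bB.repr (ρ z) i = algebraMap R B (bR.repr z i) := by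
    intro z i
    induction z using TensorProduct.induction_on with
    | zero => simp
    | add p r hp hr => simp [hp, hr]
    | tmul c a => simp [ρ, bB, bR, Algebra.smul_def, IsScalarTower.algebraMap_apply k R B]
  let κ := IsLocalRing.ResidueField B
  let σ : B ⊗[k] A →ₐ[k] κ ⊗[k] A := Algebra.TensorProduct.map (IsScalarTower.toAlgHom k B κ) (AlgHom.id k A)
  have hσ : ∀ z i, (b.baseChange κ).repr (σ z) i = algebraMap B κ (bB.repr z i) := by
    intro z i
    induction z using TensorProduct.induction_on with
    | zero => simp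
    | add p r hp hr => simp [hp, hr]
    | tmul c a => simp [σ, bB, Algebra.smul_def, IsScalarTower.algebraMap_apply k B κ]
  have hG : σ (ρ (g ^ n)) ≠ 0 := by
    intro h
    apply hgm
    rw [← bR.linearCombination_repr (g ^ n), Finsupp.linearCombination_apply]
    refine sum_mem fun i _ => ?_
    beta_reduce
    have hi : bR.repr (g ^ n) i ∈ q := by
      have h0 := hσ (ρ (g ^ n)) i
      rw [h, map_zero, Finsupp.coe_zero, Pi.zero_apply, hρ] at h0
      exact (IsLocalization.AtPrime.to_map_mem_maximal_iff B q _).mp (Ideal.Quotient.eq_zero_iff_mem.mp h0.symm)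
    rw [show q = P.asIdeal.comap Algebra.TensorProduct.includeLeftRingHom from (congrArg PrimeSpectrum.asIdeal hPq).symm, Ideal.mem_comap] at hi
    rw [Algebra.smul_def]
    exact Ideal.mul_mem_right _ _ hi
  have hinj : Function.Injective (LinearMap.mulLeft B (ρ (g ^ n))) := by
    refine injective_of_injective_mod bB _ fun z hz => ?_
    have h0 : σ (ρ (g ^ n)) * σ z = 0 := by
      rw [← map_mul]
      apply (b.baseChange κ).repr.injective
      ext i
      rw [hσ, map_zero, Finsupp.coe_zero, Pi.zero_apply]
      exact Ideal.Quotient.eq_zero_iff_mem.mpr (hz i)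
    have hz0 : σ z = 0 := by
      by_contra hz0
      exact tensor_mul_ne_zero b κ _ _ hG hz0 h0
    intro i
    have := hσ z i
    rw [hz0, map_zero, Finsupp.coe_zero, Pi.zero_apply] at this
    exact Ideal.Quotient.eq_zero_iff_mem.mp this.symm
  have hρf : ρ f = 0 := hinj (by
    rw [LinearMap.mulLeft_apply, LinearMap.mulLeft_apply, mul_zero, ← map_mul, hn, map_zero])
  rw [← hρ, hρf, map_zero]; rfl

end Groth.Agent.S19310
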