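import Groth.Statements.S19311
import Groth.Agent.Surf15.MultCurve
-- import your own Groth.Agent.* helpers here

set_option autoImplicit false
universe u
open CategoryTheory CategoryTheory.Limits AlgebraicGeometry
open DecSh

open TopologicalSpace
open Groth.Agent.Coherent Groth.Agent.PicLib Groth.Agent.AmpleLib Groth.Agent.EulerLib Groth.Agent.CurveRR24 Groth.Agent.DimLib Groth.Agent.Surf15
set_option linter.style.haveILetI false
set_option backward.isDefEq.respectTransparency.types false

namespace Groth.Agent.S19311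

/-- Let k be an algebraically closed field of characteristic zero, X a reduced proper k-scheme of
dimension one without isolated points (no point is open), L an ample invertible O_X-module and E a
coherent O_X-module whose stalks are torsion free. Write α(M) = χ(M ⊗ L) − χ(M) for the multiplicity
of a module M. Let T be a tensor field on E of type (a, b) with values in a module D (b maps E^{⊗a}
→ D, not all zero) and let (F•, m) be a weighted filtration of E by coherent subsheaves F_1 ⊂ ⋯ ⊂
F_t with positive rational weights m_i. Then the number μ(F•, m, φ) of the filtration with respect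
to T satisfies |μ| ≤ (Σ_i m_i) · a · (α(E) − 1). (The published lemma is for a nodal curve and a
coherent module of uniform multirank, not necessarily torsion free, with a locally free target D;
this row assumes E torsion free and allows any target. The same bound serves on a smooth possibly
disconnected curve, where the source uses the opposite sign convention for μ.) -/
theorem result
    (k : Type u) [Field k] [IsAlgClosed k] [CharZero k]
    (X : Scheme.{u}) [X.Over (Spec (CommRingCat.of k))] [IsProper (X ↘ Spec (CommRingCat.of k))]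
    [AlgebraicGeometry.IsReduced X] (hdim : topologicalKrullDim X = 1)
    (hpure : ∀ x : X, ¬ IsOpen ({x} : Set X))
    (L : X.Modules) (hL : CohB1.IsAmple L)
    (E : X.Modules) (hE : Coh.IsCoh E) (htf : TorSh.IsTorsionFree E)
    {D : X.Modules} {a b : ℕ} (T : DecSh.TF E a b D)
    (𝓕 : DecSh.WFilt E) (hcoh : ∀ i, Coh.IsCoh ((𝓕.piece i : Subobject E) : X.Modules)) :
    |T.mu k L 𝓕| ≤ (∑ i, 𝓕.wt i) * (a : ℚ) * ((DecSh.mult k X L E : ℚ) - 1) := by
  haveI := isNoetherian_of_proper (X := X) k
  have hX : topologicalKrullDim X ≤ ((1 : ℕ) : WithBot ℕ∞) := hdim.le.trans_eq rfl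
  set αE : ℤ := DecSh.mult k X L E
  have hbd : ∀ i, 1 ≤ DecSh.mult k X L (𝓕.piece i : X.Modules) ∧ DecSh.mult k X L (𝓕.piece i : X.Modules) ≤ αE :=
    fun i => ⟨mult_pos k hX hL hpure (hcoh i) (isTorsionFree_of_mono (𝓕.piece i).arrow htf) (𝓕.piece_nonzero i),
      mult_le k hX hL (𝓕.piece i).arrow (hcoh i) hE⟩
  rw [abs_le, Finset.sum_mul, Finset.sum_mul, ← Finset.sum_neg_distrib]
  constructor
  · obtain ⟨I, -, e⟩ := 𝓕.exists_gam_eq_mu (DecSh.mult k X L E) (fun P => DecSh.mult k X L (P : X.Modules)) T.nv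
    rw [show T.mu k L 𝓕 = _ from e.symm, DecSh.WFilt.gam]
    refine Finset.sum_le_sum fun i _ => ?_
    have h1 : (1 : ℚ) ≤ (DecSh.mult k X L (𝓕.piece i : X.Modules) : ℚ) := by exact_mod_cast (hbd i).1
    have h2 : (DecSh.mult k X L (𝓕.piece i : X.Modules) : ℚ) ≤ (αE : ℚ) := by exact_mod_cast (hbd i).2
    have h3 : (𝓕.nu (DecSh.mult k X L E) (fun P => DecSh.mult k X L (P : X.Modules)) I i : ℚ) ≤ (a : ℚ) := by
      exact_mod_cast (Finset.card_le_univ _).trans_eq (Fintype.card_fin a)
    have hw := (𝓕.wt_pos i).le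
    rw [neg_mul_eq_mul_neg, mul_assoc]
    refine mul_le_mul_of_nonneg_left ?_ hw
    have ha : (0 : ℚ) ≤ a := Nat.cast_nonneg a
    nlinarith [mul_le_mul_of_nonneg_left h1 ha, mul_le_mul_of_nonneg_right h3 (show (0 : ℚ) ≤ (αE : ℚ) by linarith)]
  · refine (𝓕.mu_le_gam _ _ T.nv (𝓕.adm_last T.nv)).trans ?_
    rw [DecSh.WFilt.gam]
    refine Finset.sum_le_sum fun i _ => ?_
    have h1 : (1 : ℚ) ≤ (DecSh.mult k X L (𝓕.piece i : X.Modules) : ℚ) := by exact_mod_cast (hbd i).1
    have hw := (𝓕.wt_pos i).le
    rw [mul_assoc]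
    refine mul_le_mul_of_nonneg_left ?_ hw
    have ha : (0 : ℚ) ≤ a := Nat.cast_nonneg a
    rcases (hbd i).2.lt_or_eq with h | h
    · have h2 : (DecSh.mult k X L (𝓕.piece i : X.Modules) : ℚ) ≤ (αE : ℚ) - 1 := by
        exact_mod_cast (show DecSh.mult k X L (𝓕.piece i : X.Modules) ≤ αE - 1 by omega)
      have hν := Nat.cast_nonneg (α := ℚ) (𝓕.nu (DecSh.mult k X L E) (fun P => DecSh.mult k X L (P : X.Modules))
        (fun _ : Fin a => Fin.last 𝓕.t) i)
      nlinarith [mul_le_mul_of_nonneg_left h2 ha, mul_nonneg hν (show (0 : ℚ) ≤ (αE : ℚ) by linarith)]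
    · have hν : 𝓕.nu (DecSh.mult k X L E) (fun P => DecSh.mult k X L (P : X.Modules))
          (fun _ : Fin a => Fin.last 𝓕.t) i = a := by
        simp [DecSh.WFilt.nu, h, αE]
      rw [hν, show (DecSh.mult k X L E : ℚ) = (αE : ℚ) from rfl, h, sub_self]
      exact mul_nonneg ha (by rw [h] at h1; linarith)

end Groth.Agent.S19311
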