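import Groth.Statements.S19312
import Groth.Agent.Surf15.MultCurve
-- import your own Groth.Agent.* helpers here

set_option autoImplicit false
universe u
open CategoryTheory CategoryTheory.Limits AlgebraicGeometry
open DecSh

open TopologicalSpace
open Groth.Agent.Coherent Groth.Agent.PicLib Groth.Agent.AmpleLib Groth.Agent.EulerLib Groth.Agent.CurveRR24 Groth.Agent.DimLib Groth.Agent.Surf15
set_option linter.style.haveILetI false
set_option backward.isDefEq.respectTransparency.types false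

namespace Groth.Agent.S19312

/-- Let k be an algebraically closed field of characteristic zero, X a reduced proper k-scheme of
dimension one without isolated points, L an ample invertible O_X-module, E a coherent O_X-module
with torsion free stalks, α(M) = χ(M ⊗ L) − χ(M) the multiplicity, and T a tensor field on E of type
(a, b) with values in a module D. Let (F•, m) be a weighted filtration of E by coherent subsheaves
and let (F•¹, m¹) be a sub-filtration of it: its pieces are F¹_j = F_{e(j)} and its weights m¹_j =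
m_{e(j)} for a map e of index sets (necessarily a strictly increasing injection). Then μ(F•, m, φ) ≤
μ(F•¹, m¹, φ) + (Σ_i m_i − Σ_j m¹_j) · a · (α(E) − 1): dropping steps of total weight w raises μ by
at most w · a · (α(E) − 1). (The published lemma is for a nodal curve and a coherent module of
uniform multirank, not necessarily torsion free, with a locally free target D; this row assumes E
torsion free and allows any target. The same inequality serves on a smooth possibly disconnected
curve, where the source uses the opposite sign convention for μ.) -/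
theorem result
    (k : Type u) [Field k] [IsAlgClosed k] [CharZero k]
    (X : Scheme.{u}) [X.Over (Spec (CommRingCat.of k))] [IsProper (X ↘ Spec (CommRingCat.of k))]
    [AlgebraicGeometry.IsReduced X] (hdim : topologicalKrullDim X = 1)
    (hpure : ∀ x : X, ¬ IsOpen ({x} : Set X))
    (L : X.Modules) (hL : CohB1.IsAmple L)
    (E : X.Modules) (hE : Coh.IsCoh E) (htf : TorSh.IsTorsionFree E)
    {D : X.Modules} {a b : ℕ} (T : DecSh.TF E a b D)
    (𝓕 𝓕₁ : DecSh.WFilt E) (e : Fin 𝓕₁.t → Fin 𝓕.t)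
    (hpiece : ∀ j, 𝓕₁.piece j = 𝓕.piece (e j)) (hwt : ∀ j, 𝓕₁.wt j = 𝓕.wt (e j))
    (hcoh : ∀ i, Coh.IsCoh ((𝓕.piece i : Subobject E) : X.Modules)) :
    T.mu k L 𝓕 ≤ T.mu k L 𝓕₁ + ((∑ i, 𝓕.wt i) - ∑ j, 𝓕₁.wt j) * (a : ℚ) * ((DecSh.mult k X L E : ℚ) - 1) := by
  classical
  haveI := isNoetherian_of_proper (X := X) k
  have hX : topologicalKrullDim X ≤ ((1 : ℕ) : WithBot ℕ∞) := hdim.le.trans_eq rfl
  set αE : ℤ := DecSh.mult k X L E
  let α : Subobject E → ℤ := fun P => DecSh.mult k X L (P : X.Modules)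
  have hbd : ∀ i, 1 ≤ α (𝓕.piece i) ∧ α (𝓕.piece i) ≤ αE := fun i =>
    ⟨mult_pos k hX hL hpure (hcoh i) (isTorsionFree_of_mono (𝓕.piece i).arrow htf) (𝓕.piece_nonzero i),
      mult_le k hX hL (𝓕.piece i).arrow (hcoh i) hE⟩
  have hle : ∀ j, 𝓕.mulX αE α j ≤ αE := fun j => by
    induction j using Fin.lastCases with
    | last => simp
    | cast i => simpa using (hbd i).2
  obtain ⟨I₁, hI₁, e₁⟩ := 𝓕₁.exists_gam_eq_mu αE α T.nv
  let ex : Fin (𝓕₁.t + 1) → Fin (𝓕.t + 1) := Fin.lastCases (Fin.last _) fun j => (e j).castSucc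
  have hex : ∀ j, 𝓕.pieceX (ex j) = 𝓕₁.pieceX j ∧ 𝓕.mulX αE α (ex j) = 𝓕₁.mulX αE α j := fun j => by
    induction j using Fin.lastCases with
    | last => simp [ex]
    | cast i => simp [ex, hpiece]
  have hadm : 𝓕.Adm T.nv (fun j => ex (I₁ j)) := by
    simpa only [DecSh.WFilt.Adm, (hex _).1] using hI₁
  refine (𝓕.mu_le_gam αE α T.nv hadm).trans ?_
  rw [show T.mu k L 𝓕₁ = 𝓕₁.gam αE α I₁ from e₁.symm]
  have hinj : Function.Injective e := fun p q h =>
    𝓕₁.piece_strictMono.injective (by rw [hpiece, hpiece, h])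
  have hν : ∀ j, 𝓕.nu αE α (fun l => ex (I₁ l)) (e j) = 𝓕₁.nu αE α I₁ j := fun j => by
    simp only [DecSh.WFilt.nu, (hex _).2, hpiece]
  let g : Fin 𝓕.t → ℚ := fun i => 𝓕.wt i * ((a : ℚ) * (α (𝓕.piece i) : ℚ) -
    (𝓕.nu αE α (fun l => ex (I₁ l)) i : ℚ) * (αE : ℚ))
  have h₁ : 𝓕₁.gam αE α I₁ = ∑ i ∈ Finset.univ.image e, g i := by
    rw [Finset.sum_image hinj.injOn, DecSh.WFilt.gam]
    simp only [g, hν, hpiece, hwt]
  have h₂ : ∑ j, 𝓕₁.wt j = ∑ i ∈ Finset.univ.image e, 𝓕.wt i := by
    rw [Finset.sum_image hinj.injOn]; simp only [hwt]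
  show (∑ i, g i) ≤ _
  rw [h₁, h₂, ← Finset.sum_sdiff (Finset.subset_univ (Finset.univ.image e)),
    ← Finset.sum_sdiff (f := 𝓕.wt) (Finset.subset_univ (Finset.univ.image e)), add_sub_cancel_right,
    Finset.sum_mul, Finset.sum_mul, add_comm]
  refine add_le_add le_rfl (Finset.sum_le_sum fun i _ => ?_)
  simp only [g]
  rw [mul_assoc]
  refine mul_le_mul_of_nonneg_left ?_ (𝓕.wt_pos i).le
  have ha : (0 : ℚ) ≤ a := Nat.cast_nonneg a
  have h1 : (1 : ℚ) ≤ (α (𝓕.piece i) : ℚ) := by exact_mod_cast (hbd i).1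
  rcases (hbd i).2.lt_or_eq with h | h
  · have h2 : (α (𝓕.piece i) : ℚ) ≤ (αE : ℚ) - 1 := by
      exact_mod_cast (show α (𝓕.piece i) ≤ αE - 1 by omega)
    have hn := Nat.cast_nonneg (α := ℚ) (𝓕.nu αE α (fun l => ex (I₁ l)) i)
    nlinarith [mul_le_mul_of_nonneg_left h2 ha, mul_nonneg hn (show (0 : ℚ) ≤ (αE : ℚ) by linarith)]
  · have hn : 𝓕.nu αE α (fun l => ex (I₁ l)) i = a := by
      simp [DecSh.WFilt.nu, h, hle]
    rw [hn, h, sub_self]
    exact mul_nonneg ha (by rw [h] at h1; linarith)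

end Groth.Agent.S19312
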