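import Groth.Statements.S19313
import Groth.Agent.Surf15.MultCurve
-- import your own Groth.Agent.* helpers here

set_option autoImplicit false
universe u
open CategoryTheory CategoryTheory.Limits AlgebraicGeometry
open DecSh

open TopologicalSpace
open Groth.Agent.Coherent Groth.Agent.PicLib Groth.Agent.AmpleLib Groth.Agent.EulerLib Groth.Agent.CurveRR24 Groth.Agent.DimLib Groth.Agent.Surf15
set_option linter.style.haveILetI false
set_option backward.isDefEq.respectTransparency.types false

namespace Groth.Agent.S19313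

/-- Let k be an algebraically closed field of characteristic zero, X a reduced proper k-scheme of
dimension one without isolated points, L an ample invertible O_X-module, E a coherent O_X-module
with torsion free stalks, χ the Euler characteristic over k and α(M) = χ(M ⊗ L) − χ(M) the
multiplicity. Let δ > 0 and let T be a tensor field on E of type (a, b) with values in a module D
which is δ-semistable with respect to L. Then for every nonzero proper coherent subsheaf F ⊂ E (a
monomorphism F → E which is not an isomorphism), α(E) · χ(F) − α(F) · χ(E) ≤ δ · a · (α(E) − α(F)).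
In slope form: χ(F)/α(F) ≤ χ(E)/α(E) + δ a (α(E) − 1)/α(E), so the maximal slope of E is bounded in
terms of a, δ, α(E), χ(E) alone. (The published corollary is for a reduced projective curve with a
very ample polarisation and a locally free D; none of these is used for this inequality.) -/
theorem result
    (k : Type u) [Field k] [IsAlgClosed k] [CharZero k]
    (X : Scheme.{u}) [X.Over (Spec (CommRingCat.of k))] [IsProper (X ↘ Spec (CommRingCat.of k))]
    [AlgebraicGeometry.IsReduced X] (hdim : topologicalKrullDim X = 1)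
    (hpure : ∀ x : X, ¬ IsOpen ({x} : Set X))
    (L : X.Modules) (hL : CohB1.IsAmple L)
    (E : X.Modules) (hE : Coh.IsCoh E) (htf : TorSh.IsTorsionFree E)
    {D : X.Modules} {a b : ℕ} (T : DecSh.TF E a b D)
    (δ : ℚ) (hδ : 0 < δ) (hT : T.IsSemistable k L δ)
    (F : X.Modules) (ι : F ⟶ E) [Mono ι] (hF : Coh.IsCoh F) (hF0 : ¬ IsZero F) (hι : ¬ IsIso ι) :
    (DecSh.mult k X L E : ℚ) * (Curv2.euler k X F : ℚ) - (DecSh.mult k X L F : ℚ) * (Curv2.euler k X E : ℚ)
      ≤ δ * (a : ℚ) * ((DecSh.mult k X L E : ℚ) - (DecSh.mult k X L F : ℚ)) := by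
  haveI := isNoetherian_of_proper (X := X) k
  have hX : topologicalKrullDim X ≤ ((1 : ℕ) : WithBot ℕ∞) := hdim.le.trans_eq rfl
  let P : Subobject E := Subobject.mk ι
  let e : (P : X.Modules) ≅ F := Subobject.underlyingIso ι
  have hP : P ≠ ⊤ := fun h => hι ((Subobject.isIso_iff_mk_eq_top ι).2 h)
  have hP0 : ¬ IsZero (P : X.Modules) := fun h => hF0 (h.of_iso e.symm)
  have hPc : Coh.IsCoh (P : X.Modules) := isCoh_of_iso e.symm hF
  let W := DecSh.WFilt.single P hP hP0
  have h := hT W (fun _ => hPc)
  obtain ⟨I, -, hmu⟩ := W.exists_gam_eq_mu (DecSh.mult k X L E) (fun P => DecSh.mult k X L (P : X.Modules)) T.nv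
  rw [← hmu] at h
  have hν : (W.nu (DecSh.mult k X L E) (fun P => DecSh.mult k X L (P : X.Modules)) I ⟨0, Nat.one_pos⟩ : ℚ) ≤ (a : ℚ) := by
    exact_mod_cast (Finset.card_le_univ _).trans_eq (Fintype.card_fin a)
  have hα : (0 : ℚ) ≤ (DecSh.mult k X L E : ℚ) := by exact_mod_cast mult_nonneg k hX hL hE
  have e1 : DecSh.mult k X L (P : X.Modules) = DecSh.mult k X L F := by
    rw [mult_eq_deg k hL, mult_eq_deg k hL, Surf15.deg_congr k e]
  have e2 : Curv2.euler k X (P : X.Modules) = Curv2.euler k X F := euler_congr k X e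
  have hs : ∀ f : Fin W.t → ℚ, ∑ i, f i = f ⟨0, Nat.one_pos⟩ := fun f => Fin.sum_univ_one (M := ℚ) f
  rw [DecSh.WFilt.msum, DecSh.WFilt.gam, hs, hs] at h
  change 1 * ((DecSh.mult k X L E : ℚ) * (Curv2.euler k X (P : X.Modules) : ℚ) -
    (DecSh.mult k X L (P : X.Modules) : ℚ) * (Curv2.euler k X E : ℚ)) +
    δ * (1 * ((a : ℚ) * (DecSh.mult k X L (P : X.Modules) : ℚ) - _)) ≤ 0 at h
  rw [e1, e2, one_mul, one_mul] at h
  have hh := mul_le_mul_of_nonneg_left (mul_le_mul_of_nonneg_right hν hα) hδ.le
  linarith

end Groth.Agent.S19313
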