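import Groth.Statements.S19315
import Groth.Agent.Surf15.MultCurve
import Groth.Agent.Surf15.LMStable
import Groth.Agent.AbSchLib.SmoothReduced
import Groth.Agent.Clifford24.StableFamily
-- import your own Groth.Agent.* helpers here

set_option autoImplicit false
universe u
open CategoryTheory CategoryTheory.Limits AlgebraicGeometry
open DecSh

open TopologicalSpace
open Groth.Agent.Coherent Groth.Agent.PicLib Groth.Agent.AmpleLib Groth.Agent.EulerLib Groth.Agent.CurveRR24 Groth.Agent.DimLib Groth.Agent.Surf15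
set_option linter.style.haveILetI false
set_option backward.isDefEq.respectTransparency.types false

namespace Groth.Agent.S19315

/-- Let k be an algebraically closed field of characteristic zero, Y a smooth proper k-scheme of
dimension one without isolated points (possibly disconnected), L an ample invertible O_Y-module, χ
the Euler characteristic over k and α(M) = χ(M ⊗ L) − χ(M) the multiplicity. Let E be a locally free
O_Y-module of rank r with a generalized parabolic structure: finitely many effective Cartier ideal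
sheaves I_1, …, I_ν (the divisors D_i) and, for each i, a k-subspace K_i of H⁰(E ⊗ O_{D_i}) whose
quotient has dimension r (K_i is the kernel of the parabolic quotient q_i). Fix rational weights κ_i
with 0 < κ_i < 1, δ > 0, and a tensor field T of type (a, b) on E with values in a module D such
that (E, K, T) is (κ, δ)-semistable with respect to L. Then every nonzero proper coherent subsheaf F
⊂ E satisfies χ(F)/α(F) ≤ χ(E)/α(E) + (a·δ + r·ν). (The source states the bound for the slopes deg/α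
with deg as the constant term of the Hilbert polynomial corrected by the rank; these differ from χ/α
by the same constant on both sides. The published target of the tensor field is det(E)^{⊗c} ⊗ L' and
the D_i are the pairs of points over the nodes; the bound uses neither.) -/
theorem result
    (k : Type u) [Field k] [IsAlgClosed k] [CharZero k]
    (Y : Scheme.{u}) [Y.Over (Spec (CommRingCat.of k))] [IsProper (Y ↘ Spec (CommRingCat.of k))]
    [Smooth (Y ↘ Spec (CommRingCat.of k))] (hdim : topologicalKrullDim Y = 1)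
    (hpure : ∀ y : Y, ¬ IsOpen ({y} : Set Y))
    (L : Y.Modules) (hL : CohB1.IsAmple L)
    (E : Y.Modules) (r : ℕ) (hE : FlatMod.IsFinLocFreeOfRank r E)
    {ν : ℕ} (I : Fin ν → Y.IdealSheafData) (hI : ∀ i, FGA.IsEffCartier (I i))
    (K : ∀ i, Submodule k (ParSh.fibD Y (I i) E))
    (hK : ∀ i, Module.finrank k (ParSh.fibD Y (I i) E ⧸ K i) = r)
    (κ : Fin ν → ℚ) (hκ : ∀ i, 0 < κ i ∧ κ i < 1)
    {D : Y.Modules} {a b : ℕ} (T : DecSh.TF E a b D)
    (δ : ℚ) (hδ : 0 < δ) (hT : T.IsParSemistable k I K κ L δ)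
    (F : Y.Modules) (ι : F ⟶ E) [Mono ι] (hF : Coh.IsCoh F) (hF0 : ¬ IsZero F) (hι : ¬ IsIso ι) :
    (Curv2.euler k Y F : ℚ) / (DecSh.mult k Y L F : ℚ) ≤
      (Curv2.euler k Y E : ℚ) / (DecSh.mult k Y L E : ℚ) + ((a : ℚ) * δ + (r : ℚ) * (ν : ℚ)) := by
  haveI := isNoetherian_of_proper (X := Y) k
  haveI : AlgebraicGeometry.IsReduced Y := AbSchLib.isReduced_of_smooth (Y ↘ Spec (CommRingCat.of k))
  have hX : topologicalKrullDim Y ≤ ((1 : ℕ) : WithBot ℕ∞) := hdim.le.trans_eq rfl
  have hEf : FlatMod.IsFinLocFree E := fun y => let ⟨U, hy, e⟩ := hE y; ⟨U, r, hy, e⟩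
  have hEc : Coh.IsCoh E := CohBC.isCoh_of_isFinLocFree hEf
  have htf : TorSh.IsTorsionFree E := fun y => by
    haveI := hEc.1
    haveI := Props12.free_stalk_of_isFinLocFree E hEf y
    infer_instance
  have hr : 0 < ν → 0 < r := fun hν => by
    rcases Nat.eq_zero_or_pos r with rfl | h
    · exact absurd (IsZero.of_mono ι (Clifford24.isZero_of_rank_zero hE)) hF0
    · exact h
  let P : Subobject E := Subobject.mk ι
  let e : (P : Y.Modules) ≅ F := Subobject.underlyingIso ι
  have hP : P ≠ ⊤ := fun h => hι ((Subobject.isIso_iff_mk_eq_top ι).2 h)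
  have hP0 : ¬ IsZero (P : Y.Modules) := fun h => hF0 (h.of_iso e.symm)
  have hPc : Coh.IsCoh (P : Y.Modules) := isCoh_of_iso e.symm hF
  let W := DecSh.WFilt.single P hP hP0
  have h := hT W (fun _ => hPc)
  obtain ⟨J, -, hmu⟩ := W.exists_gam_eq_mu (DecSh.mult k Y L E) (fun P => DecSh.mult k Y L (P : Y.Modules)) T.nv
  rw [← hmu] at h
  have hν : (W.nu (DecSh.mult k Y L E) (fun P => DecSh.mult k Y L (P : Y.Modules)) J ⟨0, Nat.one_pos⟩ : ℚ) ≤ (a : ℚ) := by
    exact_mod_cast (Finset.card_le_univ _).trans_eq (Fintype.card_fin a)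
  have hαF : (1 : ℚ) ≤ (DecSh.mult k Y L F : ℚ) := by
    exact_mod_cast mult_pos k hX hL hpure hF (isTorsionFree_of_mono ι htf) hF0
  have hle : (DecSh.mult k Y L F : ℚ) ≤ (DecSh.mult k Y L E : ℚ) := by
    exact_mod_cast mult_le k hX hL ι hF hEc
  have e1 : DecSh.mult k Y L (P : Y.Modules) = DecSh.mult k Y L F := by
    rw [mult_eq_deg k hL, mult_eq_deg k hL, Surf15.deg_congr k e]
  have e2 : Curv2.euler k Y (P : Y.Modules) = Curv2.euler k Y F := euler_congr k Y e
  have hs : ∀ f : Fin W.t → ℚ, ∑ i, f i = f ⟨0, Nat.one_pos⟩ := fun f => Fin.sum_univ_one (M := ℚ) f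
  rw [DecSh.WFilt.msum, DecSh.WFilt.gam, hs, hs] at h
  change 1 * ((DecSh.mult k Y L E : ℚ) * DecSh.parChi k I K κ P.arrow -
    (DecSh.mult k Y L (P : Y.Modules) : ℚ) * DecSh.parChi k I K κ (𝟙 E)) +
    δ * (1 * ((a : ℚ) * (DecSh.mult k Y L (P : Y.Modules) : ℚ) - _)) ≤ 0 at h
  rw [e1, one_mul, one_mul] at h
  have hpE : DecSh.parChi k I K κ (𝟙 E) ≤ (Curv2.euler k Y E : ℚ) :=
    sub_le_self _ (Finset.sum_nonneg fun i _ => mul_nonneg (hκ i).1.le (Nat.cast_nonneg _))
  have hpF : (Curv2.euler k Y F : ℚ) - (r : ℚ) * (ν : ℚ) ≤ DecSh.parChi k I K κ P.arrow := by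
    rw [← e2]
    refine sub_le_sub_left ((Finset.sum_le_sum fun i _ => ?_).trans_eq
      (show ∑ _i : Fin ν, (r : ℚ) = (r : ℚ) * (ν : ℚ) by simp [mul_comm])) _
    haveI : Module.Finite k (ParSh.fibD Y (I i) E ⧸ K i) :=
      Module.finite_of_finrank_pos (by rw [hK]; exact hr (i.pos))
    refine (mul_le_of_le_one_left (Nat.cast_nonneg _) (hκ i).2.le).trans ?_
    exact_mod_cast (Submodule.finrank_le _).trans_eq (hK i)
  have hA : (0 : ℚ) < (DecSh.mult k Y L E : ℚ) := by linarith
  have hF' : (0 : ℚ) < (DecSh.mult k Y L F : ℚ) := by linarith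
  rw [div_add' _ _ _ hA.ne', div_le_div_iff₀ hF' hA]
  have s1 := mul_le_mul_of_nonneg_left hpF hA.le
  have s2 := mul_le_mul_of_nonneg_left hpE hF'.le
  have s3 := mul_le_mul_of_nonneg_left (mul_le_mul_of_nonneg_right hν hA.le) hδ.le
  have s4 : 0 ≤ (a : ℚ) * δ * ((DecSh.mult k Y L E : ℚ) * ((DecSh.mult k Y L F : ℚ) - 1) + (DecSh.mult k Y L F : ℚ)) :=
    mul_nonneg (by positivity) (add_nonneg (mul_nonneg hA.le (by linarith)) hF'.le)
  have s5 : 0 ≤ (r : ℚ) * (ν : ℚ) * ((DecSh.mult k Y L E : ℚ) * ((DecSh.mult k Y L F : ℚ) - 1)) :=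
    mul_nonneg (by positivity) (mul_nonneg hA.le (by linarith))
  linarith

end Groth.Agent.S19315
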