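import Groth.Statements.S19314
import Groth.Agent.Surf15.Sectional
import Groth.Agent.Surf15.CurveBdd
-- import your own Groth.Agent.* helpers here

set_option autoImplicit false
universe u
open CategoryTheory CategoryTheory.Limits AlgebraicGeometry
open DecSh

open TopologicalSpace
open Groth.Agent.Coherent Groth.Agent.PicLib Groth.Agent.AmpleLib Groth.Agent.EulerLib Groth.Agent.CurveRR24 Groth.Agent.DimLib Groth.Agent.Surf15
set_option linter.style.haveILetI false
set_option backward.isDefEq.respectTransparency.types false

namespace Groth.Agent.S19314

/-- Let k be an algebraically closed field of characteristic zero, X a reduced proper k-scheme of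
dimension one without isolated points, L an ample invertible O_X-module, χ the Euler characteristic
over k and α(M) = χ(M ⊗ L) − χ(M) the multiplicity. Fix δ > 0, integers α and e, natural numbers a
and b and an O_X-module D. Then the family of coherent O_X-modules F with torsion free stalks, α(F)
= α and χ(F) = e (fixed Hilbert polynomial) for which there is a δ-semistable tensor field of type
(a, b) on F with values in D is bounded: there are a k-scheme T of finite type and a coherent module
on X ×_k T among whose fibres at k-points every member occurs up to isomorphism. (The published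
corollary is for a reduced projective curve with D locally free, in a section whose polarisation is
very ample. The bound on the maximal slope that drives the proof uses none of these, and boundedness
for an ample L follows from the very ample case by passing to a power of L, which rescales all
multiplicities.) -/
theorem result
    (k : Type u) [Field k] [IsAlgClosed k] [CharZero k]
    (X : Scheme.{u}) [X.Over (Spec (CommRingCat.of k))] [IsProper (X ↘ Spec (CommRingCat.of k))]
    [AlgebraicGeometry.IsReduced X] (hdim : topologicalKrullDim X = 1)
    (hpure : ∀ x : X, ¬ IsOpen ({x} : Set X))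
    (L : X.Modules) (hL : CohB1.IsAmple L)
    (δ : ℚ) (hδ : 0 < δ) (α e : ℤ) (a b : ℕ) (D : X.Modules) :
    Pic13.IsBounded k X (fun F => Coh.IsCoh F ∧ TorSh.IsTorsionFree F ∧ DecSh.mult k X L F = α ∧
      Curv2.euler k X F = e ∧ ∃ T : DecSh.TF F a b D, T.IsSemistable k L δ) := by
  haveI := isNoetherian_of_proper (X := X) k
  have hX : topologicalKrullDim X ≤ ((1 : ℕ) : WithBot ℕ∞) := hdim.le.trans_eq rfl
  obtain ⟨ω, t, hω, hrep⟩ := SerreDual.exists_coh_dualizing k hL (d := 1) hX
  obtain ⟨c, hc⟩ := exists_nat_ge (|(e : ℚ)| + δ * (a : ℚ))
  refine isBounded_mono k ?_ (isBounded_slope k hX hL hω hrep c α e)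
  rintro F ⟨hF, htf, hα, he, T, hT⟩
  exact ⟨hF, slope_of_semistable k hdim hpure hL hF htf T hδ hT (by rw [he]; exact hc), hα, he⟩

end Groth.Agent.S19314
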