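import Groth.Statements.S19318
import Groth.Agent.Surf15.ParSectional
-- import your own Groth.Agent.* helpers here

set_option autoImplicit false
universe u
open CategoryTheory CategoryTheory.Limits AlgebraicGeometry
open DecSh

open TopologicalSpace
open Groth.Agent.Coherent Groth.Agent.PicLib Groth.Agent.AmpleLib Groth.Agent.EulerLib Groth.Agent.CurveRR24 Groth.Agent.DimLib Groth.Agent.Surf15
set_option linter.style.haveILetI false
set_option backward.isDefEq.respectTransparency.types false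

namespace Groth.Agent.S19318

/-- Let k be an algebraically closed field of characteristic zero, Y a smooth proper k-scheme of
dimension one without isolated points (possibly disconnected) and L an ample invertible O_Y-module;
write χ for the Euler characteristic over k, M(n) = M ⊗ L^{⊗n}, h⁰(M) = dim_k H⁰(Y, M), α(M) = χ(M ⊗
L) − χ(M). Fix effective Cartier ideal sheaves I_1, …, I_ν (divisors D_j), rational weights 0 < κ_j
< 1, δ > 0, natural numbers r, a, b and an integer d. Then there is n₁ such that for every n > n₁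
the following holds. Let E be locally free of rank r and degree d (χ(E) − r χ(O_Y) = d) with
k-subspaces K_j ⊂ H⁰(E ⊗ O_{D_j}) whose quotients q_j have dimension r, let T be a tensor field of
type (a, b) on E with values in an O_Y-module D such that (E, K, T) is (κ, δ)-semistable with
respect to L, and let (E•, m•) be a weighted filtration of E by coherent subsheaves E_i with weights
m_i. For a subsheaf P ⊆ E put c(P) = Σ_j κ_j · dim q_j(image of H⁰(P ⊗ O_{D_j})), so that the
κ-parabolic Euler characteristic is parχ(P) = χ(P) − c(P); put parh⁰(E_i(n)) = h⁰(E_i(n)) − c(E_i)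
and parχ(E(n)) = χ(E(n)) − c(E). Then Σ_i m_i (α(E) · parh⁰(E_i(n)) − α(E_i) · parχ(E(n))) + δ ·
μ(E•, m•, φ) ≤ 0, with μ taken in the sign convention where δ-semistability reads 'linear part + δ μ
≤ 0' (the source writes this chapter with the opposite signs). (Only the semistable version is
stated; the published target of the tensor field is det(E)^{⊗c} ⊗ L' and the D_j are the pairs of
points over the nodes of the curve being normalised — the argument uses neither.) -/
theorem result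
    (k : Type u) [Field k] [IsAlgClosed k] [CharZero k]
    (Y : Scheme.{u}) [Y.Over (Spec (CommRingCat.of k))] [IsProper (Y ↘ Spec (CommRingCat.of k))]
    [Smooth (Y ↘ Spec (CommRingCat.of k))] (hdim : topologicalKrullDim Y = 1)
    (hpure : ∀ y : Y, ¬ IsOpen ({y} : Set Y))
    (L : Y.Modules) (hL : CohB1.IsAmple L)
    {ν : ℕ} (I : Fin ν → Y.IdealSheafData) (hI : ∀ i, FGA.IsEffCartier (I i))
    (κ : Fin ν → ℚ) (hκ : ∀ i, 0 < κ i ∧ κ i < 1) (δ : ℚ) (hδ : 0 < δ)
    (r a b : ℕ) (d : ℤ) :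
    ∃ n₁ : ℕ, ∀ n : ℕ, n₁ < n → ∀ (E : Y.Modules), FlatMod.IsFinLocFreeOfRank r E → Curv2.deg k Y E r = d →
      ∀ (K : ∀ i, Submodule k (ParSh.fibD Y (I i) E)),
        (∀ i, Module.finrank k (ParSh.fibD Y (I i) E ⧸ K i) = r) →
        ∀ (D : Y.Modules) (T : DecSh.TF E a b D), T.IsParSemistable k I K κ L δ →
          ∀ 𝓕 : DecSh.WFilt E, (∀ i, Coh.IsCoh ((𝓕.piece i : Subobject E) : Y.Modules)) →
            (∑ i, 𝓕.wt i *
              ((DecSh.mult k Y L E : ℚ) *
                  ((Module.finrank k (Coh.HH Y (ShStab.twist Y L ((𝓕.piece i : Subobject E) : Y.Modules) n) 0) : ℚ) -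
                    ((Curv2.euler k Y ((𝓕.piece i : Subobject E) : Y.Modules) : ℚ) -
                      DecSh.parChi k I K κ (𝓕.piece i).arrow)) -
                (DecSh.mult k Y L ((𝓕.piece i : Subobject E) : Y.Modules) : ℚ) *
                  ((Curv2.euler k Y (ShStab.twist Y L E n) : ℚ) -
                    ((Curv2.euler k Y E : ℚ) - DecSh.parChi k I K κ (𝟙 E))))) +
              δ * T.mu k L 𝓕 ≤ 0 := by
  haveI := isNoetherian_of_proper (X := Y) k
  haveI := AbSchLib.isReduced_of_smooth (Y ↘ Spec (CommRingCat.of k))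
  have hX : topologicalKrullDim Y ≤ ((1 : ℕ) : WithBot ℕ∞) := hdim.le.trans_eq rfl
  obtain ⟨ω, t, hω, hrep⟩ := SerreDual.exists_coh_dualizing k hL (d := 1) hX
  set e : ℤ := d + (r : ℤ) * Curv2.euler k Y (Coh.structureModule Y) with he
  set α : ℤ := (r : ℤ) * Curv2.deg k Y L 1 with hα
  obtain ⟨c, hc⟩ := exists_nat_ge (|(e : ℚ)| + (a : ℚ) * δ + (r : ℚ) * (ν : ℚ))
  set N : ℕ := Module.finrank k (Coh.HH Y ω 0)
  obtain ⟨N₀, hN₀⟩ := exists_nat_ge (|(α : ℚ)| * ((c : ℚ) + (N : ℚ)) + |(e : ℚ)| + δ * (a : ℚ) + 1 + 2 * ((r : ℚ) * (ν : ℚ)))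
  refine ⟨N₀, fun n hn E hE hd K hK D T hT 𝓕 hcoh => ?_⟩
  have heE : Curv2.euler k Y E = e := by rw [he, ← hd, Curv2.deg]; ring
  have hαE : DecSh.mult k Y L E = α := mult_bundle k hdim hL hE
  obtain ⟨hEc, htf⟩ := bundle_torsionFree hE
  have hsl := slope_of_parSemistable k hdim hpure hL hE hI hK hκ T hδ hT (by rw [heE]; exact hc)
  refine (sectional_le k hdim hpure hL hEc htf T hδ
    (fun P => (DecSh.mult k Y L E : ℚ) * DecSh.parChi k I K κ P.arrow -
      (DecSh.mult k Y L (P : Y.Modules) : ℚ) * DecSh.parChi k I K κ (𝟙 E))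
    (fun 𝓖 h => hT 𝓖 h) 𝓕 hcoh
    (fun i => Subsingleton (Coh.HH Y (ShStab.twist Y L ((𝓕.piece i : Subobject E) : Y.Modules) n) 1)) _
    (fun i hi => le_of_eq ?_) fun i hi => ?_).1
  · have hh : ((Module.finrank k (Coh.HH Y (ShStab.twist Y L ((𝓕.piece i : Subobject E) : Y.Modules) n) 0) : ℤ) : ℚ) =
        ((Curv2.euler k Y ((𝓕.piece i : Subobject E) : Y.Modules) +
          (n : ℤ) * DecSh.mult k Y L ((𝓕.piece i : Subobject E) : Y.Modules) : ℤ) : ℚ) := by
      rw [h0_eq_euler k hX (isCoh_twistL k hL (hcoh i) n) hi, euler_twist k hX hL (hcoh i)]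
    rw [euler_twist k hX hL hEc]
    push_cast at hh ⊢
    rw [hh]; ring
  · obtain ⟨h1, h2⟩ := piece_bounds k hdim hpure hL hEc htf _ (hcoh i) (𝓕.piece_nonzero i)
    have h := bad_piece_bound k hdim hpure hL hEc htf hω hrep hsl n _ (hcoh i) (𝓕.piece_nonzero i) hi
    rw [hαE, heE] at h
    rw [hαE] at h2 ⊢
    have hn' : (N₀ : ℚ) ≤ (n : ℚ) := by exact_mod_cast hn.le
    have hr : 0 < ν → 0 < r := fun _ => by
      rcases Nat.eq_zero_or_pos r with hr | hr
      · exfalso; rw [hα, hr] at h2; simp at h2; omega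
      · exact hr
    obtain ⟨p1, p2⟩ := parCorr_bounds k K hK hr hκ (𝓕.piece i).arrow
    obtain ⟨q1, q2⟩ := parCorr_bounds k K hK hr hκ (𝟙 E)
    have h' : (α : ℚ) * (Module.finrank k (Coh.HH Y (ShStab.twist Y L ((𝓕.piece i : Subobject E) : Y.Modules) n) 0) : ℚ) -
        (DecSh.mult k Y L ((𝓕.piece i : Subobject E) : Y.Modules) : ℚ) * (Curv2.euler k Y (ShStab.twist Y L E n) : ℚ) ≤
        (α : ℚ) * ((α : ℚ) * ((c : ℚ) + (N : ℚ)) + |(e : ℚ)| - (n : ℚ)) := by
      rw [← Int.cast_abs]; exact_mod_cast h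
    have h1' : (0 : ℚ) ≤ (DecSh.mult k Y L ((𝓕.piece i : Subobject E) : Y.Modules) : ℚ) := by
      exact_mod_cast (by omega : (0 : ℤ) ≤ _)
    have h2' : (DecSh.mult k Y L ((𝓕.piece i : Subobject E) : Y.Modules) : ℚ) ≤ (α : ℚ) := by exact_mod_cast h2
    have hα1 : (1 : ℚ) ≤ (α : ℚ) := by exact_mod_cast h1.trans h2
    rw [abs_of_nonneg (show (0 : ℚ) ≤ (α : ℚ) by linarith)] at hN₀
    have s1 := mul_le_mul_of_nonneg_left p1 (show (0 : ℚ) ≤ (α : ℚ) by linarith)
    have s2 := mul_le_mul_of_nonneg_left q2 h1'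
    have s3 := mul_le_mul_of_nonneg_right h2' (show (0 : ℚ) ≤ (r : ℚ) * (ν : ℚ) by positivity)
    have s4 := mul_le_mul_of_nonneg_left (hN₀.trans hn') (show (0 : ℚ) ≤ (α : ℚ) by linarith)
    nlinarith

end Groth.Agent.S19318
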