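import Groth.Statements.S19321
import Groth.Agent.Surf15.Sectional
import Groth.Agent.Surf15.Threshold
import Groth.Agent.Surf15.CurveBdd
-- import your own Groth.Agent.* helpers here

set_option autoImplicit false
universe u
open CategoryTheory CategoryTheory.Limits AlgebraicGeometry
open DecSh

open TopologicalSpace
open Groth.Agent.Coherent Groth.Agent.PicLib Groth.Agent.AmpleLib Groth.Agent.EulerLib Groth.Agent.CurveRR24 Groth.Agent.DimLib Groth.Agent.Surf15
set_option linter.style.haveILetI false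
set_option backward.isDefEq.respectTransparency.types false

namespace Groth.Agent.S19321

/-- Let k be an algebraically closed field of characteristic zero, X a reduced proper k-scheme of
dimension one without isolated points, and L an ample invertible O_X-module which is very ample
relative to some projective space over k; write χ for the Euler characteristic over k, M(m) = M ⊗
L^{⊗m}, h⁰(M) = dim_k H⁰(X, M), α(M) = χ(M ⊗ L) − χ(M). Fix δ > 0, integers α and e, natural numbers
a, b and a finite locally free O_X-module D. Then there is N₁ such that for every rational number C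
the following family of coherent O_X-modules F′ is bounded: F′ admits a monomorphism with torsion
free cokernel (a saturated subsheaf) into some coherent F with torsion free stalks, α(F) = α, χ(F) =
e, which carries a tensor field T of type (a, b) with values in D that is δ-semistable with respect
to L or satisfies for some m ≥ N₁ the quotient sectional condition Σ_i m_i (α(F/F_i) · χ(F(m)) − α ·
h⁰((F/F_i)(m))) + δ μ ≤ 0 for all weighted filtrations of F by coherent subsheaves; and |χ(F′) −
α(F′) · (e − aδ)/α| ≤ C. (The last condition is the source's |deg F′ − α(F′) μ_s| ≤ C with μ_s =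
(deg F − aδ)/α, rewritten through χ: the correction terms by the rational rank cancel. The published
setting is a reduced projective curve with a very ample polarisation and a locally free D, as here.) -/
theorem result
    (k : Type u) [Field k] [IsAlgClosed k] [CharZero k]
    (X : Scheme.{u}) [X.Over (Spec (CommRingCat.of k))] [IsProper (X ↘ Spec (CommRingCat.of k))]
    [AlgebraicGeometry.IsReduced X] (hdim : topologicalKrullDim X = 1)
    (hpure : ∀ x : X, ¬ IsOpen ({x} : Set X))
    (L : X.Modules) (hL : CohB1.IsAmple L) (hva : RelAmple.IsRelVeryAmplePn (X ↘ Spec (CommRingCat.of k)) L)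
    (δ : ℚ) (hδ : 0 < δ) (α e : ℤ) (a b : ℕ) (D : X.Modules) (hD : FlatMod.IsFinLocFree D) :
    ∃ N₁ : ℕ, ∀ C : ℚ, Pic13.IsBounded k X (fun F' => Coh.IsCoh F' ∧
      (∃ (F : X.Modules) (ι : F' ⟶ F), Mono ι ∧ TorSh.IsTorsionFree (cokernel ι) ∧
        Coh.IsCoh F ∧ TorSh.IsTorsionFree F ∧ DecSh.mult k X L F = α ∧ Curv2.euler k X F = e ∧
          ∃ T : DecSh.TF F a b D, (T.IsSemistable k L δ ∨ ∃ m : ℕ, N₁ ≤ m ∧
            ∀ 𝓕 : DecSh.WFilt F, (∀ i, Coh.IsCoh ((𝓕.piece i : Subobject F) : X.Modules)) →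
              (∑ i, 𝓕.wt i * ((DecSh.mult k X L (cokernel (𝓕.piece i).arrow) : ℚ) *
                  (Curv2.euler k X (ShStab.twist X L F m) : ℚ) -
                (α : ℚ) * (Module.finrank k (Coh.HH X (ShStab.twist X L (cokernel (𝓕.piece i).arrow) m) 0) : ℚ))) +
                δ * T.mu k L 𝓕 ≤ 0)) ∧
      |(Curv2.euler k X F' : ℚ) - (DecSh.mult k X L F' : ℚ) * (((e : ℚ) - (a : ℚ) * δ) / (α : ℚ))| ≤ C) := by
  classical
  haveI := isNoetherian_of_proper (X := X) k
  have hX : topologicalKrullDim X ≤ ((1 : ℕ) : WithBot ℕ∞) := hdim.le.trans_eq rfl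
  obtain ⟨ω, t, hω, hrep⟩ := SerreDual.exists_coh_dualizing k hL (d := 1) hX
  obtain ⟨N₁, hN₁⟩ := exists_threshold k hdim hpure hL hω hrep hδ α e a
  refine ⟨N₁, fun C => ?_⟩
  obtain ⟨c, hc⟩ := exists_nat_ge (|(e : ℚ)| + δ * (a : ℚ))
  set x : ℚ := ((e : ℚ) - (a : ℚ) * δ) / (α : ℚ)
  obtain ⟨M, hM⟩ := exists_nat_ge (|C| + |(α : ℚ)| * |x|)
  refine isBounded_mono k ?_ (isBounded_finset k ((Finset.Icc (0 : ℤ) α) ×ˢ (Finset.Icc (-(M : ℤ)) (M : ℤ)))
    (fun p F' => Coh.IsCoh F' ∧ SlopeLE k L c F' ∧ DecSh.mult k X L F' = p.1 ∧ Curv2.euler k X F' = p.2)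
    fun p _ => isBounded_slope k hX hL hω hrep c p.1 p.2)
  rintro F' ⟨hF', ⟨F, ι, hι, hq, hF, htf, hα, he, T, hT⟩, hC⟩
  haveI := hι
  have hss : T.IsSemistable k L δ := hT.elim id fun ⟨m, hm, h⟩ => (hN₁ m hm F hF htf hα he T).1.2 h
  have hs : SlopeLE k L c F := slope_of_semistable k hdim hpure hL hF htf T hδ hss (by rw [he]; exact hc)
  refine ⟨(DecSh.mult k X L F', Curv2.euler k X F'), ?_, hF', fun G j hj hG => hs G (j ≫ ι) (mono_comp _ _) hG, rfl, rfl⟩
  have h1 := mult_nonneg k hX hL hF'
  have h2 := mult_le k hX hL ι hF' hF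
  rw [hα] at h2
  simp only [Finset.mem_product, Finset.mem_Icc]
  refine ⟨⟨h1, h2⟩, abs_le.1 ?_⟩
  have h3 : |(DecSh.mult k X L F' : ℚ) * x| ≤ |(α : ℚ)| * |x| := by
    rw [abs_mul]
    refine mul_le_mul_of_nonneg_right ?_ (abs_nonneg _)
    rw [abs_of_nonneg (by exact_mod_cast h1)]
    exact le_trans (by exact_mod_cast h2) (le_abs_self _)
  have h4 : |(Curv2.euler k X F' : ℚ)| ≤ (M : ℚ) := by
    have h5 := abs_add_le ((Curv2.euler k X F' : ℚ) - (DecSh.mult k X L F' : ℚ) * x) ((DecSh.mult k X L F' : ℚ) * x)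
    rw [sub_add_cancel] at h5
    linarith [le_abs_self C]
  exact_mod_cast h4

end Groth.Agent.S19321
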