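import Groth.Statements.S19322
import Groth.Agent.CommAlg4.SpSeqPages
import Mathlib.Algebra.Category.ModuleCat.Subobject
-- import your own Groth.Agent.* helpers here

set_option autoImplicit false
set_option linter.style.haveILetI false
universe v u
open CategoryTheory CategoryTheory.Limits
open SpSeq

namespace Groth.Agent.S19322

/-- Let K be a field and E a cohomological spectral sequence of K-vector spaces, pages from r₀,
concentrated in the first quadrant on page r₀ and with all terms of page r₀ finite-dimensional, and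
let H be abutment data for E whose filtration in degree n is finite, H n finite-dimensional. If the
dimensions of the page-r₀ terms E^{s, n-s}, 0 ≤ s ≤ n, add up to the dimension of H n, then every
position of total degree n is stationary from page r₀ on: all differentials into and out of it
vanish on every page. (The printed statement takes r₀ a positive integer and n ≥ 0; neither
restriction is needed.) -/
theorem result
    {K : Type u} [Field K] {r₀ : ℤ}
    (E : CohomologicalSpectralSequence (ModuleCat.{v} K) r₀) (H : ℤ → ModuleCat.{v} K)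
    (a : SpSeq.Abutment E H) (n : ℤ) (hfin : a.IsFinite n)
    (hquad : ∀ pq : ℤ × ℤ, pq.1 < 0 ∨ pq.2 < 0 → IsZero ((E.page r₀ le_rfl).X pq))
    (hfd : ∀ pq : ℤ × ℤ, Module.Finite K ((E.page r₀ le_rfl).X pq))
    (hH : Module.Finite K (H n))
    (hsum : ∑ s ∈ Finset.Icc (0 : ℤ) n, Module.finrank K ((E.page r₀ le_rfl).X (s, n - s)) =
      Module.finrank K (H n)) :
    ∀ s : ℤ, SpSeq.StationaryAt E (s, n - s) r₀ := by
  classical
  -- one step
  have spot : ∀ (S : ShortComplex (ModuleCat.{v} K)) [Module.Finite K S.X₂],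
      Module.Finite K S.homology ∧ Module.finrank K S.homology ≤ Module.finrank K S.X₂ ∧
        (Module.finrank K S.homology = Module.finrank K S.X₂ → S.f = 0 ∧ S.g = 0) := by
    intro S _
    let e := S.moduleCatHomologyIso.toLinearEquiv
    haveI : IsNoetherian K S.X₂ := isNoetherian_of_isNoetherianRing_of_finite K _
    let Z := LinearMap.ker S.g.hom
    let B := LinearMap.range S.moduleCatToCycles
    have h1 := Submodule.finrank_le Z
    have h2 : Module.finrank K (Z ⧸ B) + Module.finrank K B = Module.finrank K Z := B.finrank_quotient_add_finrank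
    have he : Module.finrank K S.homology = Module.finrank K (Z ⧸ B) := e.finrank_eq
    haveI : IsNoetherian K Z := isNoetherian_submodule' _
    haveI : Module.Finite K Z := Module.IsNoetherian.finite K Z
    refine ⟨Module.Finite.of_surjective (M := Z) (e.symm.toLinearMap ∘ₗ B.mkQ)
      (e.symm.surjective.comp B.mkQ_surjective), by omega, fun h => ?_⟩
    have hB : B = ⊥ := Submodule.finrank_eq_zero.1 (by omega)
    have hZ : Z = ⊤ := Submodule.eq_top_of_finrank_eq (by omega)
    refine ⟨?_, ModuleCat.hom_ext (LinearMap.ker_eq_top.1 hZ)⟩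
    ext x
    exact congrArg Subtype.val ((Submodule.eq_bot_iff B).1 hB _ ⟨x, rfl⟩)
  have step : ∀ (r : ℤ) (hr : r₀ ≤ r) (pq : ℤ × ℤ), Module.Finite K ((E.page r hr).X pq) →
      Module.Finite K ((E.page (r + 1) (by omega)).X pq) ∧
      Module.finrank K ((E.page (r + 1) (by omega)).X pq) ≤ Module.finrank K ((E.page r hr).X pq) ∧
      (Module.finrank K ((E.page (r + 1) (by omega)).X pq) = Module.finrank K ((E.page r hr).X pq) →
        (E.page r hr).d (pq - (r, 1 - r)) pq = 0 ∧ (E.page r hr).d pq (pq + (r, 1 - r)) = 0) := by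
    intro r hr pq hf
    haveI : Module.Finite K ((E.page r hr).sc pq).X₂ := hf
    obtain ⟨h1, h2, h3⟩ := spot ((E.page r hr).sc pq)
    let e := (E.iso r (r + 1) pq rfl hr).toLinearEquiv
    haveI : Module.Finite K ((E.page r hr).homology pq) := h1
    refine ⟨Module.Finite.equiv (M := (E.page r hr).homology pq) e, ?_, fun h => ?_⟩
    · rw [← e.finrank_eq]
      exact h2
    · obtain ⟨hf0, hg0⟩ := h3 (e.finrank_eq.trans h)
      have hp : (ComplexShape.up' (⟨r, 1 - r⟩ : ℤ × ℤ)).prev pq = pq - (r, 1 - r) := ComplexShape.prev_eq' _ (by simp)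
      have hn : (ComplexShape.up' (⟨r, 1 - r⟩ : ℤ × ℤ)).next pq = pq + (r, 1 - r) := ComplexShape.next_eq' _ (by simp)
      constructor
      · rw [← hp]
        exact hf0
      · rw [← hn]
        exact hg0
  have fin : ∀ (r : ℤ) (hr : r₀ ≤ r) (pq : ℤ × ℤ), Module.Finite K ((E.page r hr).X pq) := by
    intro r hr
    induction r, hr using Int.leInduction with
    | base => exact hfd
    | succ r hr ih => exact fun pq => (step r hr pq (ih pq)).1
  have mono' : ∀ (pq : ℤ × ℤ) (r : ℤ) (hr : r₀ ≤ r) (k : ℤ) (hk : r ≤ k),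
      Module.finrank K ((E.page k (hr.trans hk)).X pq) ≤ Module.finrank K ((E.page r hr).X pq) := by
    intro pq r hr k hk
    induction k, hk using Int.leInduction with
    | base => exact le_rfl
    | succ k hk ih => exact (step k (hr.trans hk) pq (fin k _ pq)).2.1.trans ih
  -- the abutment
  obtain ⟨⟨a₀, ha⟩, ⟨b₀, hb⟩⟩ := hfin
  let F := a.fil n
  let g : ℤ → ℕ := fun p => Module.finrank K (SpSeq.grPiece (A := ModuleCat.{v} K) (a.fil n) (a.anti n) p)
  let d : ℤ → ℕ := fun p => Module.finrank K (F p : ModuleCat.{v} K)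
  haveI : ∀ p, Module.Finite K (F p : ModuleCat.{v} K) := fun p =>
    Module.Finite.of_injective (F p).arrow.hom ((ModuleCat.mono_iff_injective _).1 inferInstance)
  have hd : ∀ p, d p = d (p + 1) + g p := fun p => by
    let i := (F (p + 1)).ofLE (F p) (a.anti n (Int.le_add_one le_rfl))
    have h1 := (LinearMap.range i.hom).finrank_quotient_add_finrank
    have h2 : Module.finrank K (LinearMap.range i.hom) = d (p + 1) :=
      LinearMap.finrank_range_of_inj ((ModuleCat.mono_iff_injective i).1 inferInstance)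
    have h3 : g p = Module.finrank K (_ ⧸ LinearMap.range i.hom) :=
      (ModuleCat.cokernelIsoRangeQuotient i).toLinearEquiv.finrank_eq
    simp only [d] at h1 h2 ⊢
    omega
  have tele : ∀ (p : ℤ) (t : ℕ), d p = d (p + t) + ∑ s ∈ Finset.Ico p (p + t), g s := by
    intro p t
    induction t with
    | zero => simp
    | succ t ih =>
      push_cast
      rw [← add_assoc, ← Finset.insert_Ico_right_eq_Ico_add_one (by omega), Finset.sum_insert (by simp), ih, hd (p + t)]
      ring
  have hgr : ∀ s, g s = Module.finrank K ((E.page (a.rk (s, n - s)) (a.stat _).1).X (s, n - s)) := fun s => by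
    obtain ⟨e⟩ := Groth.Agent.CommAlg4.SpSeqPages.gr_congr E a (show (s, n - s).1 + (s, n - s).2 = n by simp) s
    exact (a.β (s, n - s) ≪≫ e).toLinearEquiv.finrank_eq.symm
  have hz : ∀ s, s ∉ Finset.Icc (0 : ℤ) n → IsZero ((E.page r₀ le_rfl).X (s, n - s)) := fun s hs =>
    hquad _ (by simp at hs ⊢; omega)
  have hg0 : ∀ s, s ∉ Finset.Icc (0 : ℤ) n → g s = 0 := fun s hs => by
    rw [hgr]
    exact Module.finrank_eq_zero_of_rank_eq_zero (by
      haveI := ModuleCat.subsingleton_of_isZero (Groth.Agent.CommAlg4.SpSeqPages.isZero_page E r₀ le_rfl _ (hz s hs) _ (a.stat (s, n - s)).1)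
      exact rank_subsingleton' K _)
  have total : Module.finrank K (H n) = ∑ s ∈ Finset.Icc (0 : ℤ) n, g s := by
    obtain ⟨p, hp1, hp2⟩ : ∃ p, p ≤ a₀ ∧ p ≤ 0 := ⟨min a₀ 0, min_le_left _ _, min_le_right _ _⟩
    obtain ⟨t, ht1, ht2⟩ : ∃ t : ℕ, b₀ ≤ p + t ∧ n < p + t :=
      ⟨(max b₀ (n + 1) - p).toNat, by have := le_max_left b₀ (n + 1); omega, by have := le_max_right b₀ (n + 1); omega⟩
    have hp : F p = ⊤ := top_le_iff.1 (ha ▸ a.anti n hp1)
    have hq : F (p + t) = ⊥ := le_bot_iff.1 (hb ▸ a.anti n ht1)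
    have h1 : d p = Module.finrank K (H n) := by
      haveI : IsIso (F p).arrow := (Subobject.isIso_arrow_iff_eq_top _).2 hp
      exact (asIso (F p).arrow).toLinearEquiv.finrank_eq
    have h2 : d (p + t) = 0 := by
      haveI := ModuleCat.subsingleton_of_isZero ((Limits.isZero_zero (ModuleCat.{v} K)).of_iso
        (eqToIso (congrArg (fun S : Subobject (H n) => (S : ModuleCat.{v} K)) hq) ≪≫ Subobject.botCoeIsoZero))
      exact Module.finrank_zero_of_subsingleton
    rw [← h1, tele p t, h2, zero_add]
    exact (Finset.sum_subset (fun s hs => by simp at hs ⊢; omega) fun s _ hs => hg0 s hs).symm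
  -- conclusion
  intro s
  refine ⟨le_rfl, fun r hr _ => ?_⟩
  by_cases hs : s ∈ Finset.Icc (0 : ℤ) n
  · rcases le_or_gt (a.rk (s, n - s)) r with h | h
    · exact (a.stat (s, n - s)).2 r hr h
    have hle : ∀ x ∈ Finset.Icc (0 : ℤ) n, g x ≤ Module.finrank K ((E.page r₀ le_rfl).X (x, n - x)) := fun x _ => by
      rw [hgr]
      exact mono' (x, n - x) r₀ le_rfl _ (a.stat (x, n - x)).1
    have heq := (Finset.sum_eq_sum_iff_of_le hle).1 (by rw [← total, hsum]) s hs
    rw [hgr] at heq
    refine (step r hr _ (fin r hr _)).2.2 (le_antisymm (step r hr _ (fin r hr _)).2.1 ?_)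
    calc Module.finrank K ((E.page r hr).X (s, n - s)) ≤ _ := mono' _ r₀ le_rfl r hr
      _ = _ := heq.symm
      _ ≤ _ := mono' _ (r + 1) (by omega) _ h
  · have h0 := Groth.Agent.CommAlg4.SpSeqPages.isZero_page E r₀ le_rfl _ (hz s hs) r hr
    exact ⟨h0.eq_of_tgt _ _, h0.eq_of_src _ _⟩

end Groth.Agent.S19322

#print axioms Groth.Agent.S19322.result
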