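import Groth.Statements.S19326
import Groth.Agent.HopfLib.Comod

set_option autoImplicit false
universe u
open TensorProduct
open GLin

namespace Groth.Agent.S19326

/-- Let k be a field, M a finite abelian group and D = Spec k[M] the finite diagonalizable group scheme
it defines, acting on an affine k-scheme U = Spec R through a multiplicative coaction R → R ⊗ k[M];
write R_a for the weight space of a ∈ M (elements with coaction f ⊗ a). For an ideal J of R the
induced action of D on the closed subscheme V(J) is trivial, meaning that the coaction followed by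
reduction modulo J equals f ↦ (f mod J) ⊗ 1, exactly when J contains the ideal generated by the
weight spaces R_a for a ≠ 0; in other words that ideal defines the largest closed subscheme of U on
which D acts trivially. (The printed setting has U smooth, which plays no role here and is not
assumed; the further assertion that the construction commutes with flat base change on U/D is not
part of this statement.) -/
theorem result
    {k : Type u} [Field k] {M : Type u} [AddCommGroup M] [Finite M]
    {R : Type u} [CommRing R] [Algebra k R] [HopfRep.Comod k (AddMonoidAlgebra k M) R]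
    [GLin.IsCoactAlg k (AddMonoidAlgebra k M) R] (J : Ideal R) :
    (∀ f : R, LinearMap.rTensor (AddMonoidAlgebra k M) (Ideal.Quotient.mkₐ k J).toLinearMap
        (HopfRep.Comod.coact (k := k) (A := AddMonoidAlgebra k M) f) =
        (Ideal.Quotient.mk J f) ⊗ₜ[k] (1 : AddMonoidAlgebra k M)) ↔
      Ideal.span (⋃ (a : M) (_ : a ≠ 0),
        (HopfRep.eigenspace k (AddMonoidAlgebra k M) R (AddMonoidAlgebra.single a 1) : Set R)) ≤ J := by
  classical
  have hΔ : ∀ b : M, CoalgebraStruct.comul (R := k) (AddMonoidAlgebra.single b (1 : k)) =
      AddMonoidAlgebra.single b (1 : k) ⊗ₜ[k] AddMonoidAlgebra.single b (1 : k) := fun b => by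
    simp [AddMonoidAlgebra.comul_single]
  let δ : M → (AddMonoidAlgebra k M →ₗ[k] k) := fun a =>
    Finsupp.lapply a ∘ₗ (AddMonoidAlgebra.coeffLinearEquiv k).toLinearMap
  have hδ : ∀ a b, δ a (AddMonoidAlgebra.single b (1 : k)) = if b = a then 1 else 0 := fun a b => by
    simp [δ, Finsupp.single_apply]
  have hmul : ∀ (g : AddMonoidAlgebra k M →ₗ[k] k) (a : M), Groth.Agent.HopfLib.formMul g (δ a) =
      g (AddMonoidAlgebra.single a 1) • δ a := fun g a => by
    refine LinearMap.ext fun x => ?_
    induction x using AddMonoidAlgebra.induction_linear with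
    | zero => simp
    | add p q hp hq => simp only [map_add, hp, hq]
    | single b c =>
      rw [show AddMonoidAlgebra.single b c = c • AddMonoidAlgebra.single b (1 : k) by simp, map_smul, map_smul]
      congr 1
      simp only [Groth.Agent.HopfLib.formMul, LinearMap.comp_apply, LinearMap.smul_apply]
      rw [show Coalgebra.comul (R := k) (AddMonoidAlgebra.single b (1 : k)) = _ from hΔ b]
      simp only [TensorProduct.map_tmul, LinearMap.mul'_apply, hδ, smul_eq_mul]
      split_ifs with h <;> simp [h]
  have heig : ∀ (a : M) (f : R), Groth.Agent.HopfLib.hit (δ a) f ∈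
      HopfRep.eigenspace k (AddMonoidAlgebra k M) R (AddMonoidAlgebra.single a 1) := fun a f =>
    Groth.Agent.HopfLib.eq_of_forall_sliceR_eq fun g => by
      rw [Groth.Agent.HopfLib.sliceR_tmul, ← Groth.Agent.HopfLib.hit_apply,
        Groth.Agent.HopfLib.hit_hit, hmul, Groth.Agent.HopfLib.hit_smul]
  have hslice : ∀ (a : M) (t : R ⊗[k] AddMonoidAlgebra k M), Groth.Agent.HopfLib.sliceR (δ a)
      (LinearMap.rTensor (AddMonoidAlgebra k M) (Ideal.Quotient.mkₐ k J).toLinearMap t) =
      Ideal.Quotient.mk J (Groth.Agent.HopfLib.sliceR (δ a) t) := fun a t => by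
    rw [Groth.Agent.HopfLib.sliceR_rTensor]; rfl
  constructor
  · intro h
    rw [Ideal.span_le]
    intro f hf
    simp only [Set.mem_iUnion] at hf
    obtain ⟨a, ha, hf⟩ := hf
    have h1 := congrArg (Groth.Agent.HopfLib.sliceR (δ a)) (h f)
    rw [hslice, show HopfRep.Comod.coact (k := k) (A := AddMonoidAlgebra k M) f = _ from hf,
      Groth.Agent.HopfLib.sliceR_tmul, Groth.Agent.HopfLib.sliceR_tmul, AddMonoidAlgebra.one_def,
      hδ, hδ, if_pos rfl, one_smul, if_neg (Ne.symm ha), zero_smul] at h1
    exact Ideal.Quotient.eq_zero_iff_mem.1 h1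
  · intro h f
    have := Fintype.ofFinite M
    refine Groth.Agent.HopfLib.eq_of_forall_sliceR_eq fun g => ?_
    have hg : g = ∑ a, g (AddMonoidAlgebra.single a 1) • δ a := by
      refine LinearMap.ext fun x => ?_
      induction x using AddMonoidAlgebra.induction_linear with
      | zero => simp
      | add p q hp hq => simp only [map_add, hp, hq]
      | single b c =>
        rw [show AddMonoidAlgebra.single b c = c • AddMonoidAlgebra.single b (1 : k) by simp, map_smul, map_smul]
        simp [hδ]
    have hsum : ∀ g' : AddMonoidAlgebra k M →ₗ[k] k, g' = ∑ a, g' (AddMonoidAlgebra.single a 1) • δ a →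
        Ideal.Quotient.mk J (Groth.Agent.HopfLib.hit g' f) =
          g' (AddMonoidAlgebra.single 0 1) • Ideal.Quotient.mk J (Groth.Agent.HopfLib.hit (δ 0) f) := by
      intro g' hg'
      conv_lhs => rw [hg']
      have : Groth.Agent.HopfLib.hit (∑ a, g' (AddMonoidAlgebra.single a 1) • δ a) f =
          ∑ a, g' (AddMonoidAlgebra.single a 1) • Groth.Agent.HopfLib.hit (δ a) f := by
        change (Groth.Agent.HopfLib.orbitMap f) _ = _
        rw [map_sum]
        exact Finset.sum_congr rfl fun a _ => map_smul (Groth.Agent.HopfLib.orbitMap f) _ _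
      rw [this, map_sum, Finset.sum_eq_single (0 : M)]
      · exact map_smul (Ideal.Quotient.mkₐ k J) _ _
      · intro a _ ha
        refine Ideal.Quotient.eq_zero_iff_mem.2 ((J.restrictScalars k).smul_mem _ (h (Ideal.subset_span ?_)))
        simp only [Set.mem_iUnion]
        exact ⟨a, ha, heig a f⟩
      · simp
    have hε : CoalgebraStruct.counit (R := k) (AddMonoidAlgebra.single (0 : M) (1 : k)) = 1 := by
      simp [AddMonoidAlgebra.counit_single]
    have h0 := hsum CoalgebraStruct.counit (by
      refine LinearMap.ext fun x => ?_
      induction x using AddMonoidAlgebra.induction_linear with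
      | zero => simp
      | add p q hp hq => simp only [map_add, hp, hq]
      | single b c =>
        rw [show AddMonoidAlgebra.single b c = c • AddMonoidAlgebra.single b (1 : k) by simp, map_smul, map_smul]
        simp [hδ, AddMonoidAlgebra.counit_single])
    rw [Groth.Agent.HopfLib.hit_counit, hε, one_smul] at h0
    rw [Groth.Agent.HopfLib.sliceR_rTensor, Groth.Agent.HopfLib.sliceR_tmul, h0, AddMonoidAlgebra.one_def,
      ← hsum g hg]
    rfl

end Groth.Agent.S19326
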