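import Groth.Statements.S19328

set_option autoImplicit false
universe u
open CategoryTheory CategoryTheory.Limits AlgebraicGeometry
open ModPair

namespace Groth.Agent.S19328

/-- Let A be a commutative ring such that Spec A is local for fppf coverings, in the sense that for
every scheme X, every jointly surjective family of morphisms to X each of which is flat and of
finite presentation (locally of finite presentation, quasi-compact and quasi-separated), and every
morphism Spec A ⟶ X, the morphism factors through a member of the family. Then the residue field of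
A at every prime ideal is algebraically closed. -/
theorem result (A : Type u) [CommRing A]
    (hloc : ∀ (X : Scheme.{u}) (R : Presieve X),
      R ∈ Scheme.precoverage (@Flat ⊓ @LocallyOfFinitePresentation ⊓ @QuasiCompact ⊓ @QuasiSeparated) X →
      ∀ g : Spec (CommRingCat.of A) ⟶ X,
        ∃ (Y : Scheme.{u}) (v : Y ⟶ X) (h : Spec (CommRingCat.of A) ⟶ Y), R v ∧ h ≫ v = g)
    (p : Ideal A) [p.IsPrime] : IsAlgClosed p.ResidueField := by
  classical
  have hroot : ∀ f : Polynomial A, f.Monic → 0 < f.natDegree → ∃ a, f.eval a = 0 := by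
    intro f hf hd
    haveI : Module.Finite A (AdjoinRoot f) := hf.finite_adjoinRoot
    haveI : Module.Free A (AdjoinRoot f) := hf.free_adjoinRoot
    haveI : Algebra.FinitePresentation A (AdjoinRoot f) :=
      (Algebra.FinitePresentation.quotient (Submodule.fg_span_singleton f) :
        Algebra.FinitePresentation A (Polynomial A ⧸ Ideal.span {f}))
    let φ : CommRingCat.of A ⟶ CommRingCat.of (AdjoinRoot f) :=
      CommRingCat.ofHom (algebraMap A (AdjoinRoot f))
    have hsurj : Function.Surjective (Spec.map φ).base := by
      rcases subsingleton_or_nontrivial A with hA | hA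
      · intro x; exact (x.isPrime.ne_top (Subsingleton.elim _ _)).elim
      haveI : Nontrivial (AdjoinRoot f) :=
        (AdjoinRoot.powerBasis' hf).basis.repr.toEquiv.nontrivial_congr.2
          (by have : Nonempty (Fin (AdjoinRoot.powerBasis' hf).dim) := ⟨⟨0, by simpa using hd⟩⟩; infer_instance)
      haveI : Module.FaithfullyFlat A (AdjoinRoot f) := inferInstance
      exact PrimeSpectrum.comap_surjective_of_faithfullyFlat (A := A) (B := AdjoinRoot f)
    haveI : Flat (Spec.map φ) :=
      (HasRingHomProperty.Spec_iff (P := @Flat)).2 (RingHom.flat_algebraMap_iff.2 inferInstance)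
    haveI : LocallyOfFinitePresentation (Spec.map φ) :=
      (HasRingHomProperty.Spec_iff (P := @LocallyOfFinitePresentation)).2
        (RingHom.finitePresentation_algebraMap.2 inferInstance)
    obtain ⟨Y, v, h, hv, hh⟩ := hloc _ (Presieve.singleton (Spec.map φ))
      ((Scheme.singleton_mem_precoverage_iff _ (Spec.map φ)).2
        ⟨hsurj, ⟨⟨⟨inferInstance, inferInstance⟩, inferInstance⟩, inferInstance⟩⟩) (𝟙 _)
    cases hv
    obtain ⟨ψ, rfl⟩ := Spec.map_surjective h
    rw [← Spec.map_comp, ← Spec.map_id, Spec.map_inj] at hh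
    refine ⟨ψ.hom (AdjoinRoot.root f), ?_⟩
    have h2 := congrArg ψ.hom (AdjoinRoot.eval₂_root f)
    rw [map_zero, Polynomial.hom_eval₂] at h2
    rwa [show ψ.hom.comp (AdjoinRoot.of f) = RingHom.id A from congrArg CommRingCat.Hom.hom hh] at h2
  apply IsAlgClosed.of_exists_root
  intro q hq hirr
  obtain ⟨b, hb⟩ := IsLocalization.exist_integer_multiples (nonZeroDivisors (A ⧸ p)) q.support q.coeff
  obtain ⟨s, hs⟩ := Ideal.Quotient.mk_surjective (b : A ⧸ p)
  have hsne : algebraMap A p.ResidueField s ≠ 0 := by
    rw [IsScalarTower.algebraMap_apply A (A ⧸ p) p.ResidueField, Ideal.Quotient.algebraMap_eq, hs]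
    exact IsLocalization.to_map_ne_zero_of_mem_nonZeroDivisors p.ResidueField le_rfl b.2
  let σ : p.ResidueField := algebraMap A p.ResidueField s
  have hl : q.scaleRoots σ ∈ Polynomial.lifts (algebraMap A p.ResidueField) := by
    rw [Polynomial.lifts_iff_coeff_lifts]
    intro i
    rw [Polynomial.coeff_scaleRoots]
    by_cases hi : i ∈ q.support
    · rcases eq_or_lt_of_le (Polynomial.le_natDegree_of_mem_supp i hi) with rfl | hlt
      · exact ⟨1, by simp [hq.coeff_natDegree]⟩
      · obtain ⟨c, hc⟩ := hb i hi
        obtain ⟨c, rfl⟩ := Ideal.Quotient.mk_surjective c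
        refine ⟨c * s ^ (q.natDegree - i - 1), ?_⟩
        rw [map_mul, map_pow]
        have e : algebraMap A p.ResidueField c = σ * q.coeff i := by
          rw [IsScalarTower.algebraMap_apply A (A ⧸ p) p.ResidueField, Ideal.Quotient.algebraMap_eq, hc,
            Algebra.smul_def, ← hs]
          rfl
        rw [e, mul_comm σ, mul_assoc, ← pow_succ', Nat.sub_add_cancel (by omega)]
    · exact ⟨0, by simp [Polynomial.notMem_support_iff.1 hi]⟩
  obtain ⟨f, hf, hdeg, hm⟩ := Polynomial.lifts_and_degree_eq_and_monic hl
    ((Polynomial.monic_scaleRoots_iff σ).2 hq)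
  have hd : 0 < f.natDegree := by
    rw [Polynomial.natDegree_eq_of_degree_eq hdeg, Polynomial.natDegree_scaleRoots]
    exact hirr.natDegree_pos
  obtain ⟨a, ha⟩ := hroot f hm hd
  refine ⟨algebraMap A p.ResidueField a / σ, ?_⟩
  have h1 : (q.scaleRoots σ).eval (algebraMap A p.ResidueField a) = 0 := by
    rw [← hf, Polynomial.eval_map_apply, ha, map_zero]
  have h2 := Polynomial.scaleRoots_eval₂_mul (p := q) (RingHom.id _) (algebraMap A p.ResidueField a / σ) σ
  rw [RingHom.id_apply, mul_div_cancel₀ _ hsne, Polynomial.eval₂_id, h1, Polynomial.eval₂_id] at h2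
  exact (mul_eq_zero.1 h2.symm).resolve_left (pow_ne_zero _ hsne)

end Groth.Agent.S19328
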