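import Groth.Statements.S19329
import Groth.Agent.ModPairLib.MProd

set_option autoImplicit false
universe u
open CategoryTheory CategoryTheory.Limits AlgebraicGeometry TopologicalSpace
open ModPair Groth.Agent

namespace Groth.Agent.S19329

/-- Let (X, I), (Y, J), (Z, K) be modulus pairs, i.e. schemes with quasi-coherent ideal sheaves of
effective Cartier divisors, and let f : X ⟶ Y and g : Y ⟶ Z satisfy the modulus conditions I ≤
J.comap f and J ≤ K.comap g. Suppose the composite X ⟶ Z is minimal, I = K.comap (f ≫ g). Then f is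
minimal, and there is an open subset U of Y whose inclusion is quasi-compact, which contains the
image of f, and such that U ⟶ Z is minimal for the modulus of Y restricted to U. -/
theorem result {X Y Z : Scheme.{u}}
    (I : X.IdealSheafData) (J : Y.IdealSheafData) (K : Z.IdealSheafData)
    (hI : BlowUp.IsEffCartierIdeal I) (hJ : BlowUp.IsEffCartierIdeal J)
    (hK : BlowUp.IsEffCartierIdeal K) (f : X ⟶ Y) (g : Y ⟶ Z)
    (hf : ModPair.IsAmbient I J f) (hg : ModPair.IsAmbient J K g)
    (hfg : ModPair.IsMinimal I K (f ≫ g)) :
    ModPair.IsMinimal I J f ∧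
      ∃ U : Y.Opens, QuasiCompact U.ι ∧ Set.range f.base ⊆ (U : Set Y) ∧
        ModPair.IsMinimal (J.comap U.ι) K (U.ι ≫ g) := by
  have hfg' : I = (K.comap g).comap f := by rw [← Scheme.IdealSheafData.comap_comp]; exact hfg
  have hIJ : I = J.comap f :=
    le_antisymm hf ((Scheme.IdealSheafData.comap_mono f hg).trans hfg'.ge)
  have hKg : BlowUp.IsEffCartierIdeal (K.comap g) :=
    ModPairLib.isEffCartier_comap_of_dense hK g
      ((ModPairLib.isDenseOpen_interior hJ).mono (ModPairLib.interior_comp hg))
  have hC := ModPairLib.isEffCartier_colon hJ hKg hg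
  have hCm := ModPairLib.colon_mul hKg hg
  set C := ModPairLib.colon J (K.comap g) (ModPairLib.isFiniteType_of_effCartier hKg)
  have := ModPairLib.isAffineHom_interior hC
  refine ⟨hIJ, ModPair.interior C, inferInstance, ?_, ?_⟩
  · have h1 : C.comap f = ⊤ := by
      refine ModPairLib.eq_top_of_mul_eq (E := I) hI ?_
      conv_lhs => rw [hfg', ← ModPairLib.comap_mul, hCm]
      exact hIJ.symm
    rintro _ ⟨x, rfl⟩ hx
    have : x ∈ (C.comap f).support := by rw [Scheme.IdealSheafData.support_comap]; exact hx
    rw [h1, Scheme.IdealSheafData.support_top] at this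
    exact Set.notMem_empty x this
  · have h2 : C.comap (ModPair.interior C).ι = ⊤ :=
      ProjLib.comap_eq_top_of_disjoint C _ (by
        rw [Scheme.Opens.range_ι]; exact disjoint_compl_left)
    show _ = _
    conv_lhs => rw [← hCm]
    rw [ModPairLib.comap_mul, h2, Scheme.IdealSheafData.top_mul, ← Scheme.IdealSheafData.comap_comp]

end Groth.Agent.S19329
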