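import Groth.Statements.S19330
import Groth.Agent.ModPairLib.MProd

set_option autoImplicit false
universe u
open CategoryTheory CategoryTheory.Limits AlgebraicGeometry TopologicalSpace
open ModPair Groth.Agent

namespace Groth.Agent.S19330

/-- Let (S, I) be a modulus pair, i.e. a scheme with the quasi-coherent ideal sheaf of an effective
Cartier divisor, with interior U, and let g_i : V_i ⟶ U be a jointly surjective family of closed
immersions into the interior. Let V̄_i be the scheme-theoretic image of V_i ⟶ U ⟶ S. Then the closed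
immersions V̄_i ⟶ S are jointly surjective, the modulus restricted to each V̄_i is again the ideal
sheaf of an effective Cartier divisor (so that V̄_i ⟶ S is a minimal morphism of modulus pairs), and
the interior of V̄_i is V_i: the canonical morphism V_i ⟶ V̄_i is an open immersion whose image is
the preimage of U. -/
theorem result {S : Scheme.{u}} (I : S.IdealSheafData)
    (hI : BlowUp.IsEffCartierIdeal I) {ι : Type u} (V : ι → Scheme.{u})
    (g : ∀ i, V i ⟶ (ModPair.interior I : Scheme.{u})) [∀ i, IsClosedImmersion (g i)]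
    (hsurj : ∀ u : (ModPair.interior I : Scheme.{u}), ∃ (i : ι) (v : V i), (g i).base v = u) :
    (∀ s : S, ∃ (i : ι) (v : (g i ≫ (ModPair.interior I).ι).image),
        (g i ≫ (ModPair.interior I).ι).imageι.base v = s) ∧
      (∀ i, BlowUp.IsEffCartierIdeal (I.comap (g i ≫ (ModPair.interior I).ι).imageι)) ∧
      ∀ i, IsOpenImmersion (g i ≫ (ModPair.interior I).ι).toImage ∧
        Set.range (g i ≫ (ModPair.interior I).ι).toImage.base =
          (g i ≫ (ModPair.interior I).ι).imageι.base ⁻¹' (ModPair.interior I : Set S) := by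
  have := ModPairLib.isAffineHom_interior hI
  refine ⟨fun s => ?_, fun i => ?_, fun i =>
    ⟨ModPairLib.isOpenImmersion_toImage _ (g i), ModPairLib.range_toImage _ (g i)⟩⟩
  · obtain ⟨U, hsU, f, hf, hfI⟩ := hI s
    obtain ⟨p, hp⟩ : ∃ p : Spec Γ(S, U.1), U.2.fromSpec p = s := by
      rwa [← Set.mem_range, U.2.range_fromSpec]
    have := PrimeSpectrum.isPrime p
    obtain ⟨P, hPmin, hPle⟩ := Ideal.exists_minimalPrimes_le (bot_le : ⊥ ≤ p.asIdeal)
    have hfP : f ∉ P := fun h =>
      Set.disjoint_left.1 (Ideal.disjoint_nonZeroDivisors_of_mem_minimalPrimes hPmin) h hf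
    let P' : Spec Γ(S, U.1) := ⟨P, hPmin.1.1⟩
    have hu : U.2.fromSpec P' ∈ ModPair.interior I := by
      refine ((ModPairLib.inf_interior hfI).ge ?_).2
      have : P' ∈ U.2.fromSpec ⁻¹ᵁ S.basicOpen f := by
        rw [U.2.fromSpec_preimage_basicOpen]
        exact hfP
      exact this
    obtain ⟨i, v, hv⟩ := hsurj ⟨_, hu⟩
    have hspec : U.2.fromSpec P' ⤳ s := hp ▸ ((PrimeSpectrum.le_iff_specializes P' p).1 hPle).map
      U.2.fromSpec.continuous
    refine ⟨i, hspec.mem_closed ((g i ≫ (ModPair.interior I).ι).imageι.isClosedEmbedding.isClosed_range)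
      ⟨(g i ≫ (ModPair.interior I).ι).toImage v, ?_⟩⟩
    rw [← Scheme.Hom.comp_apply, Scheme.Hom.toImage_imageι, Scheme.Hom.comp_apply]
    exact congrArg Subtype.val hv
  · exact ModPairLib.isEffCartier_comap_of_dense hI _ (ModPairLib.isDenseOpen_imageι_preimage _ (g i))

end Groth.Agent.S19330
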