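import Groth.Statements.S19332
import Groth.Agent.FlatMor12.SubtrFlat.Platify
import Mathlib.AlgebraicGeometry.Morphisms.Flat
-- import your own Groth.Agent.* helpers here

set_option autoImplicit false
set_option backward.isDefEq.respectTransparency false
set_option backward.isDefEq.respectTransparency.types false
universe u
open CategoryTheory CategoryTheory.Limits AlgebraicGeometry TopologicalSpace
open ModPair

namespace Groth.Agent.S19332

/-- Let (S, I_S) and (X, I_X) be modulus pairs, i.e. schemes with quasi-coherent ideal sheaves of
effective Cartier divisors, with S and X quasi-compact and quasi-separated, and let f : X ⟶ S be a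
minimal morphism (I_X = I_S.comap f) which is locally of finite type and whose restriction to the
interiors f⁻¹(S°) ⟶ S° is flat and locally of finite presentation. Then there are abstract
admissible blow-ups t : T ⟶ S of (S, I_S) and y : Y ⟶ X of (X, I_X) (minimal, proper, and
isomorphisms over the interiors) and a morphism g : Y ⟶ T with y ≫ f = g ≫ t which is flat, locally
of finite presentation, quasi-compact and quasi-separated; g is then minimal for the pulled-back
moduli. The published statement assumes f only of finite type; this row also assumes X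
quasi-separated. -/
theorem result {X S : Scheme.{u}}
    [CompactSpace S] [QuasiSeparatedSpace S] [CompactSpace X] [QuasiSeparatedSpace X]
    (IS : S.IdealSheafData) (IX : X.IdealSheafData) (hS : BlowUp.IsEffCartierIdeal IS)
    (hX : BlowUp.IsEffCartierIdeal IX) (f : X ⟶ S) (hf : ModPair.IsMinimal IX IS f)
    [LocallyOfFiniteType f] [Flat (f ∣_ ModPair.interior IS)]
    [LocallyOfFinitePresentation (f ∣_ ModPair.interior IS)] :
    ∃ (T : Scheme.{u}) (t : T ⟶ S) (Y : Scheme.{u}) (y : Y ⟶ X) (g : Y ⟶ T),
      BlowUp.IsEffCartierIdeal (IS.comap t) ∧ ModPair.IsAdmBlowup (IS.comap t) IS t ∧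
        BlowUp.IsEffCartierIdeal (IX.comap y) ∧ ModPair.IsAdmBlowup (IX.comap y) IX y ∧
        y ≫ f = g ≫ t ∧ Flat g ∧ LocallyOfFinitePresentation g ∧ QuasiCompact g ∧
        QuasiSeparated g := by
  obtain rfl : IX = IS.comap f := hf
  obtain ⟨T, t, Y, y, g, h, h1, h2, h3, h4, h5, h6, h7, h8, -, -⟩ :=
    Groth.Agent.FlatMor12.SubtrFlat.exists_platification IS hS f hX
  exact ⟨T, t, Y, y, g, h1, h2, h3, h4, h, h5, h6, h7, h8⟩

end Groth.Agent.S19332
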