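import Groth.Statements.S19333
import Mathlib

set_option autoImplicit false
universe u
open ModPair

namespace Groth.Agent.S19333


/-- Let A → B be any homomorphism of commutative rings. An element x of B is integral over A if and only
if for every field K, every valuation subring R of K and every ring homomorphism φ : B → K which
sends the image of A into R, the element φ(x) lies in R. In other words the integral closure of A in
B is the intersection of the subrings R ×_K B taken over all commutative squares A → R ⊆ K ← B with
R a valuation ring of the field K. -/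
theorem result {A B : Type u} [CommRing A]
    [CommRing B] [Algebra A B] (x : B) :
    x ∈ integralClosure A B ↔
      ∀ (K : Type u) [Field K] (R : ValuationSubring K) (φ : B →+* K),
        (∀ a : A, φ (algebraMap A B a) ∈ R) → φ x ∈ R := by
  constructor
  · intro hx K _ R φ hφ
    obtain ⟨p, hm, hp⟩ := hx
    let f : A →+* R := (φ.comp (algebraMap A B)).codRestrict R hφ
    have : IsIntegral R (φ x) := by
      refine ⟨p.map f, hm.map _, ?_⟩
      rw [Polynomial.eval₂_map]
      have := congrArg φ hp
      rw [Polynomial.hom_eval₂, map_zero] at this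
      exact this
    obtain ⟨y, hy⟩ := IsIntegrallyClosed.isIntegral_iff.1 this
    exact hy ▸ y.2
  · intro h
    by_contra hx
    let Bx := Localization.Away x
    let iv : Bx := IsLocalization.Away.invSelf x
    have hiv : algebraMap B Bx x * iv = 1 := IsLocalization.Away.mul_invSelf x
    let S := Algebra.adjoin A {iv}
    let t : S := ⟨iv, Algebra.self_mem_adjoin_singleton _ _⟩
    have hne : Ideal.span {t} ≠ ⊤ := by
      intro e
      apply hx
      obtain ⟨⟨c, hcS⟩, hc⟩ := Ideal.mem_span_singleton'.1 (Ideal.eq_top_iff_one _ |>.1 e)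
      have hc' : c * iv = 1 := congrArg Subtype.val hc
      have hcS' : c ∈ (Algebra.adjoin A {iv}) := hcS
      rw [Algebra.adjoin_singleton_eq_range_aeval] at hcS'
      obtain ⟨p, rfl⟩ := hcS' 
      -- algebraMap x is a root of a monic
      set y := algebraMap B Bx x
      have : IsIntegral A y := by
        refine ⟨Polynomial.X ^ (p.natDegree + 1) - p.reflect p.natDegree, Polynomial.monic_X_pow_sub ?_, ?_⟩
        · refine lt_of_le_of_lt (Polynomial.degree_le_natDegree) ?_
          exact_mod_cast Nat.lt_succ_of_le ((Polynomial.natDegree_reflect_le).trans (by simp))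
        · let inv : Invertible iv := ⟨y, hiv, by rw [mul_comm, hiv]⟩
          have := Polynomial.eval₂_reflect_mul_pow (algebraMap A Bx) iv p.natDegree p le_rfl
          rw [Polynomial.eval₂_sub, Polynomial.eval₂_X_pow, sub_eq_zero]
          calc y ^ (p.natDegree + 1) = y ^ p.natDegree * ((Polynomial.aeval iv p * iv) * y) := by rw [show Polynomial.aeval iv p * iv = 1 from hc', one_mul, pow_succ]
            _ = y ^ p.natDegree * Polynomial.aeval iv p := by rw [mul_assoc, mul_comm iv, hiv, mul_one]
            _ = _ := by
              rw [Polynomial.aeval_def, ← this]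
              show y ^ _ * (Polynomial.eval₂ _ y _ * iv ^ _) = _
              rw [mul_comm, mul_assoc, ← mul_pow, mul_comm iv, hiv, one_pow, mul_one]
      obtain ⟨q, hqm, hq⟩ := this
      rw [IsScalarTower.algebraMap_eq A B Bx, ← Polynomial.hom_eval₂] at hq
      obtain ⟨⟨_, k, rfl⟩, hk⟩ := (IsLocalization.map_eq_zero_iff (Submonoid.powers x) Bx _).1 hq
      refine ⟨Polynomial.X ^ k * q, (Polynomial.monic_X_pow k).mul hqm, ?_⟩
      rw [Polynomial.eval₂_mul, Polynomial.eval₂_X_pow]; exact hk
    obtain ⟨M, hMmax, hM⟩ := Ideal.exists_le_maximal _ hne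
    obtain ⟨q, hqmin, hqM⟩ := Ideal.exists_minimalPrimes_le (I := (⊥ : Ideal S)) (J := M) bot_le
    obtain ⟨Q, hQ, -, hQq⟩ := Ideal.exists_comap_eq_of_mem_minimalPrimes (S.val.toRingHom) q (I := ⊥) (by
      rwa [Ideal.comap_bot_of_injective _ Subtype.val_injective])
    let K := FractionRing (Bx ⧸ Q)
    let ψ : Bx →+* K := (algebraMap (Bx ⧸ Q) K).comp (Ideal.Quotient.mk Q)
    let g : S →+* K := ψ.comp S.val.toRingHom
    have hker : RingHom.ker g ≤ M := by
      intro a ha
      apply hqM
      rw [← hQq]
      rw [RingHom.mem_ker] at ha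
      rw [Ideal.mem_comap]
      exact Ideal.Quotient.eq_zero_iff_mem.1 ((map_eq_zero_iff _ (IsFractionRing.injective (Bx ⧸ Q) K)).1 ha)
    have hne' : M.map g.rangeRestrict ≠ ⊤ := by
      intro e
      apply hMmax.ne_top
      have e2 := Ideal.comap_map_of_surjective g.rangeRestrict g.rangeRestrict_surjective M
      rw [e, Ideal.comap_top] at e2
      rw [eq_top_iff, e2]
      refine sup_le le_rfl (fun a ha => hker ?_)
      rw [RingHom.mem_ker]
      exact congrArg Subtype.val ((Ideal.mem_bot).1 ha)
    obtain ⟨R, hR, hRn⟩ := Ideal.image_subset_nonunits_valuationSubring (A := g.range) _ hne'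
    have hv := h K R (ψ.comp (algebraMap B Bx)) (fun a => hR ⟨⟨algebraMap A Bx a, S.algebraMap_mem a⟩, by simp [g]; rw [IsScalarTower.algebraMap_apply A B Bx]⟩)
    have hn : ψ iv ∈ R.nonunits := hRn ⟨⟨g t, t, rfl⟩, Ideal.mem_map_of_mem g.rangeRestrict (hM (Ideal.mem_span_singleton_self t)), rfl⟩
    have he : ψ (algebraMap B Bx x) * ψ iv = 1 := by rw [← map_mul, hiv, map_one]
    rw [ValuationSubring.mem_nonunits_iff] at hn
    have hl : R.valuation (ψ (algebraMap B Bx x)) ≤ 1 := (R.valuation_le_one_iff _).2 hv
    have := congrArg R.valuation he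
    rw [map_mul, map_one] at this
    exact (lt_of_le_of_lt (mul_le_of_le_one_left' hl) hn).ne this

end Groth.Agent.S19333
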