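import Groth.Statements.S19334
-- import your own Groth.Agent.* helpers here
import Groth.Agent.FSchLib.IdealSheaf
import Mathlib.RingTheory.Valuation.LocalSubring

set_option autoImplicit false
universe u
open CategoryTheory CategoryTheory.Limits AlgebraicGeometry TopologicalSpace
open ModPair

namespace Groth.Agent.S19334

/-- Let (X, I) be a modulus pair, i.e. a scheme X with the quasi-coherent ideal sheaf I of an effective
Cartier divisor. Suppose that for every valuation ring R and every morphism p : Spec R ⟶ X along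
which the divisor of I pulls back to an effective Cartier divisor on Spec R (so that p is a minimal
morphism of modulus pairs for the pulled-back modulus), the pulled-back divisor is empty, I.comap p
= ⊤. Then the divisor of I is empty: I = ⊤. -/
theorem result {X : Scheme.{u}}
    (I : X.IdealSheafData) (hI : BlowUp.IsEffCartierIdeal I)
    (h : ∀ (R : Type u) [CommRing R] [IsDomain R] [ValuationRing R]
      (p : Spec (CommRingCat.of R) ⟶ X), BlowUp.IsEffCartierIdeal (I.comap p) → I.comap p = ⊤) :
    I = ⊤ := by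
  by_contra hne
  obtain ⟨x, hx⟩ : ∃ x : X, x ∈ I.support := by
    by_contra hno
    exact hne ((Scheme.IdealSheafData.support_eq_bot_iff _).1
      (SetLike.ext fun x => ⟨fun hx => (hno ⟨x, hx⟩).elim, fun hx => hx.elim⟩))
  obtain ⟨U, hxU, f, hf, hfI⟩ := hI x
  have hsupp : ∀ z : X, z ∈ U.1 → (z ∈ I.support ↔ z ∉ X.basicOpen f) := fun z hz => by
    rw [Scheme.IdealSheafData.mem_support_iff_of_mem hz, hfI, Scheme.zeroLocus_span,
      Scheme.zeroLocus_singleton]
    rfl
  obtain ⟨q, hq, hqle⟩ := Ideal.exists_minimalPrimes_le (I := (⊥ : Ideal Γ(X, U.1)))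
    (J := (U.2.primeIdealOf ⟨x, hxU⟩).asIdeal) bot_le
  let qp : PrimeSpectrum Γ(X, U.1) := ⟨q, hq.1.1⟩
  let η : X := U.2.fromSpec qp
  have hfq : f ∉ q := fun hfq =>
    Set.disjoint_left.1 (Ideal.disjoint_nonZeroDivisors_of_mem_minimalPrimes hq) hfq hf
  have hηU : η ∈ U.1 := U.2.range_fromSpec.le ⟨qp, rfl⟩
  have hη : η ∈ X.basicOpen f := by
    have : qp ∈ U.2.fromSpec ⁻¹ᵁ X.basicOpen f := by
      rw [U.2.fromSpec_preimage_basicOpen]; exact hfq
    exact this
  have hspec : η ⤳ x := by
    have := ((PrimeSpectrum.le_iff_specializes qp _).1 hqle).map U.2.fromSpec.continuous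
    erw [U.2.fromSpec_primeIdealOf ⟨x, hxU⟩] at this
    exact this
  let s : X.presheaf.stalk x ⟶ X.residueField η := X.presheaf.stalkSpecializes hspec ≫ X.residue η
  obtain ⟨R, hR, hRloc⟩ := IsLocalRing.exists_factor_valuationRing s.hom
  let sR : X.presheaf.stalk x ⟶ CommRingCat.of R := CommRingCat.ofHom (s.hom.codRestrict _ hR)
  let p : Spec (CommRingCat.of R) ⟶ X := Spec.map sR ≫ X.fromSpecStalk x
  have hclosed : p (IsLocalRing.closedPoint R) = x := by
    show X.fromSpecStalk x (Spec.map sR (IsLocalRing.closedPoint R)) = x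
    have : Spec.map sR (IsLocalRing.closedPoint R) = IsLocalRing.closedPoint (X.presheaf.stalk x) :=
      IsLocalRing.comap_closedPoint (S := R) (s.hom.codRestrict R.toSubring hR)
    rw [this, X.fromSpecStalk_closedPoint]
  have hgen : ∃ y, p y = η := by
    refine ⟨Spec.map (CommRingCat.ofHom R.subtype) (IsLocalRing.closedPoint (X.residueField η)), ?_⟩
    have e : Spec.map (CommRingCat.ofHom R.subtype) ≫ p = X.fromSpecResidueField η := by
      have : sR ≫ CommRingCat.ofHom R.subtype = s := rfl
      show Spec.map _ ≫ Spec.map sR ≫ _ = _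
      rw [← Spec.map_comp_assoc, this, Spec.map_comp_assoc, X.SpecMap_stalkSpecializes_fromSpecStalk hspec]
      rfl
    show (Spec.map (CommRingCat.ofHom R.subtype) ≫ p) (IsLocalRing.closedPoint (X.residueField η)) = η
    exact (congrArg (fun g : Spec (X.residueField η) ⟶ X => g (IsLocalRing.closedPoint (X.residueField η))) e).trans
      (X.fromSpecResidueField_apply η _)
  have hpU : (⊤ : (Spec (CommRingCat.of R)).Opens) ≤ p ⁻¹ᵁ U.1 := by
    intro y _
    have hy : y ⤳ IsLocalRing.closedPoint R := IsLocalRing.specializes_closedPoint y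
    exact (hy.map p.continuous).mem_open U.1.isOpen (hclosed ▸ hxU)
  have hmap : (I.comap p).ideal ⟨⊤, isAffineOpen_top _⟩ = Ideal.span {(p.appLE U.1 ⊤ hpU).hom f} := by
    rw [Groth.Agent.FSchLib.ideal_comap_eq_map p I ⟨⊤, isAffineOpen_top _⟩ U hpU, hfI, Ideal.map_span,
      Set.image_singleton]
  have hg : (p.appLE U.1 ⊤ hpU).hom f ≠ 0 := fun h0 => by
    obtain ⟨y, hy⟩ := hgen
    have : y ∈ (I.comap p).support := by
      rw [Scheme.IdealSheafData.mem_support_iff_of_mem (U := ⟨⊤, isAffineOpen_top _⟩) (Set.mem_univ y),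
        hmap, h0, Scheme.zeroLocus_span, Scheme.zeroLocus_singleton, Scheme.basicOpen_zero]
      exact fun h => h.elim
    rw [Scheme.IdealSheafData.support_comap] at this
    exact (hsupp η hηU).1 (hy ▸ this) hη
  have : IsDomain Γ(Spec (CommRingCat.of R), ⊤) :=
    (Scheme.ΓSpecIso (CommRingCat.of R)).commRingCatIsoToRingEquiv.toMulEquiv.isDomain R
  have htop := h R p fun y => ⟨⟨⊤, isAffineOpen_top _⟩, trivial, _,
    mem_nonZeroDivisors_of_ne_zero hg, hmap⟩
  have : IsLocalRing.closedPoint R ∈ (I.comap p).support := by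
    rw [Scheme.IdealSheafData.support_comap]
    show p _ ∈ I.support
    rw [hclosed]; exact hx
  rw [htop, Scheme.IdealSheafData.support_top] at this
  exact this.elim

end Groth.Agent.S19334
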