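import Groth.Statements.S19335
import Groth.Agent.ProjLib.IdealComap
import Mathlib.RingTheory.Valuation.LocalSubring
import Mathlib.RingTheory.Ideal.MinimalPrime.Localization

set_option autoImplicit false
set_option backward.isDefEq.respectTransparency.types false
universe u
open CategoryTheory CategoryTheory.Limits AlgebraicGeometry TopologicalSpace
open ModPair

namespace Groth.Agent.S19335

/-- A valuation ring witnessing that `c` is not a unit, with `a` generic. -/
theorem exists_witness {A : Type u} [CommRing A] (a : A) (ha : a ∈ nonZeroDivisors A) (q : Ideal A) [q.IsPrime] :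
    ∃ (R : Type u) (_ : CommRing R) (_ : IsDomain R) (_ : ValuationRing R) (φ : A →+* R),
      φ a ≠ 0 ∧ (∀ c ∈ q, ¬ IsUnit (φ c)) ∧ ∀ Q : Ideal R, Q.IsPrime → φ a ∉ Q → Q = ⊥ := by
  classical
  obtain ⟨P, hP, hPq⟩ := Ideal.exists_minimalPrimes_le (I := (⊥ : Ideal A)) (J := q) bot_le
  have : P.IsPrime := Ideal.minimalPrimes_isPrime hP
  have haP : a ∉ P := fun h => Set.disjoint_left.mp (Ideal.disjoint_nonZeroDivisors_of_mem_minimalPrimes hP) h ha
  let K := FractionRing (A ⧸ P)
  let ψ : A →+* K := (algebraMap (A ⧸ P) K).comp (Ideal.Quotient.mk P)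
  have hψ : ∀ z, ψ z = 0 ↔ z ∈ P := fun z =>
    (map_eq_zero_iff _ (IsFractionRing.injective (A ⧸ P) K)).trans Ideal.Quotient.eq_zero_iff_mem
  let qb : Ideal ψ.range := q.map ψ.rangeRestrict
  have hker : RingHom.ker ψ.rangeRestrict ≤ q := fun z hz =>
    hPq ((hψ z).1 (congrArg Subtype.val (RingHom.mem_ker.1 hz)))
  have : qb.IsPrime := Ideal.map_isPrime_of_surjective ψ.rangeRestrict_surjective hker
  obtain ⟨O, hO⟩ := (LocalSubring.ofPrime ψ.range qb).exists_le_valuationSubring
  have hAO : ψ.range ≤ O.toSubring := (LocalSubring.le_ofPrime ψ.range qb).trans hO.1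
  let φ0 : A →+* O := ψ.codRestrict O.toSubring fun z => hAO ⟨z, rfl⟩
  have hφq : ∀ c ∈ q, ¬ IsUnit (φ0 c) := by
    intro c hc h
    obtain ⟨h1, hloc⟩ := hO
    have hmem : ψ c ∈ (LocalSubring.ofPrime ψ.range qb).toSubring := LocalSubring.le_ofPrime ψ.range qb ⟨c, rfl⟩
    have hu : IsUnit (⟨ψ c, hmem⟩ : (LocalSubring.ofPrime ψ.range qb).toSubring) :=
      hloc.map_nonunit _ h
    have hu2 : IsUnit (algebraMap ψ.range (LocalSubring.ofPrime ψ.range qb).toSubring (ψ.rangeRestrict c)) := hu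
    exact ((IsLocalization.AtPrime.isUnit_to_map_iff _ qb _).1 hu2) (Ideal.mem_map_of_mem _ hc)
  have hφa : φ0 a ≠ 0 := fun h => haP ((hψ a).1 (congrArg Subtype.val h))
  -- the largest prime avoiding `a`
  have hdisj : Disjoint ((⊥ : Ideal O) : Set O) (Submonoid.powers (φ0 a)) := Set.disjoint_right.2 fun z hz h0 => by
    obtain ⟨n, rfl⟩ := hz
    exact pow_ne_zero n hφa (by simpa using h0)
  obtain ⟨P1, -, hP1⟩ := zorn_le_nonempty₀ {p : Ideal O | Disjoint (p : Set O) (Submonoid.powers (φ0 a))}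
    (fun ch hch hchain x hx => ⟨sSup ch, by
      refine Set.disjoint_left.mpr fun z hz => ?_
      obtain ⟨p, hp, hzp⟩ := (Submodule.mem_sSup_of_directed ⟨x, hx⟩ hchain.directedOn).mp hz
      exact Set.disjoint_left.mp (hch hp) hzp, fun _ => le_sSup⟩) ⊥ hdisj
  have : P1.IsPrime := Ideal.isPrime_of_maximally_disjoint _ _ hP1.1 fun _ => hP1.not_prop_of_gt
  have ha1 : φ0 a ∉ P1 := fun h => Set.disjoint_left.mp hP1.1 h (Submonoid.mem_powers _)
  refine ⟨O ⧸ P1, inferInstance, inferInstance,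
    Function.Surjective.valuationRing (Ideal.Quotient.mk P1) Ideal.Quotient.mk_surjective,
    (Ideal.Quotient.mk P1).comp φ0, fun h => ha1 (Ideal.Quotient.eq_zero_iff_mem.1 h), fun c hc h => ?_, fun Q hQ haQ => ?_⟩
  · obtain ⟨w, hw⟩ := h.exists_right_inv
    obtain ⟨w, rfl⟩ := Ideal.Quotient.mk_surjective w
    have h1 : φ0 c * w - 1 ∈ P1 := Ideal.Quotient.eq.1 ((map_mul _ _ _).trans (hw.trans (map_one _).symm))
    have hmax : φ0 c * w ∈ IsLocalRing.maximalIdeal O := Ideal.mul_mem_right _ _ (hφq c hc)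
    have := Ideal.sub_mem _ hmax (IsLocalRing.le_maximalIdeal (Ideal.IsPrime.ne_top' (I := P1)) h1)
    rw [sub_sub_cancel] at this
    exact this isUnit_one
  · have hd : Disjoint ((Q.comap (Ideal.Quotient.mk P1) : Ideal O) : Set O) (Submonoid.powers (φ0 a)) :=
      Set.disjoint_right.2 fun z hz h0 => by
        obtain ⟨n, rfl⟩ := hz
        have h0 : ((Ideal.Quotient.mk P1).comp φ0 a) ^ n ∈ Q := by
          have := h0; simp only [SetLike.mem_coe, Ideal.mem_comap, map_pow] at this; exact this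
        exact haQ (hQ.mem_of_pow_mem n h0)
    have hle : P1 ≤ Q.comap (Ideal.Quotient.mk P1) := fun z hz => by
      rw [Ideal.mem_comap, Ideal.Quotient.eq_zero_iff_mem.2 hz]; exact Q.zero_mem
    have he := hP1.2 hd hle
    refine eq_bot_iff.2 fun z hz => ?_
    obtain ⟨z, rfl⟩ := Ideal.Quotient.mk_surjective z
    exact (Ideal.mem_bot).2 (Ideal.Quotient.eq_zero_iff_mem.2 (he hz))


/-- Let X be a scheme and I, J quasi-coherent ideal sheaves of effective Cartier divisors D_I ≤ D_J on
X, i.e. J ≤ I. Suppose that for every valuation ring R and every morphism p : Spec R ⟶ X such that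
I.comap p is the ideal sheaf of an effective Cartier divisor on Spec R (so p is a minimal morphism
of modulus pairs for (X, I)) whose open complement consists of the generic point of Spec R only, the
two divisors agree after pull-back, I.comap p = J.comap p. Then I = J. -/
theorem result {X : Scheme.{u}} (I J : X.IdealSheafData)
    (hI : BlowUp.IsEffCartierIdeal I) (hJ : BlowUp.IsEffCartierIdeal J) (hJI : J ≤ I)
    (h : ∀ (R : Type u) [CommRing R] [IsDomain R] [ValuationRing R]
      (p : Spec (CommRingCat.of R) ⟶ X), BlowUp.IsEffCartierIdeal (I.comap p) →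
        (∀ x : Spec (CommRingCat.of R),
          x ∈ (ModPair.interior (I.comap p) : Set (Spec (CommRingCat.of R))) ↔ x.asIdeal = ⊥) →
        I.comap p = J.comap p) :
    I = J := by
  classical
  choose U hxU a ha hU using hI
  refine Scheme.IdealSheafData.ext_of_iSup_eq_top U
    (eq_top_iff.2 fun x _ => TopologicalSpace.Opens.mem_iSup.2 ⟨x, hxU x⟩) fun i => le_antisymm ?_ (hJI (U i))
  rw [hU i, Ideal.span_singleton_le_iff_mem]
  let C : Ideal Γ(X, (U i).1) := ((J.ideal (U i))).colon (Ideal.span {a i})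
  by_contra haJ
  have hC : C ≠ ⊤ := fun h => haJ (by
    have := Submodule.mem_colon.1 ((Ideal.eq_top_iff_one C).1 h) (a i) (Ideal.mem_span_singleton_self _)
    simpa using this)
  obtain ⟨q, hqmax, hCq⟩ := Ideal.exists_le_maximal C hC
  have : q.IsPrime := hqmax.isPrime
  obtain ⟨R, _, _, _, φ, hφa, hφq, hφprime⟩ := exists_witness (a i) (ha i) q
  let p : Spec (CommRingCat.of R) ⟶ X := Spec.map (CommRingCat.ofHom φ) ≫ (U i).2.fromSpec
  have e : (⊤ : (Spec (CommRingCat.of R)).Opens) ≤ p ⁻¹ᵁ (U i).1 := fun z _ =>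
    (U i).2.range_fromSpec.le ⟨_, rfl⟩
  let tR : (Spec (CommRingCat.of R)).affineOpens := ⟨⊤, isAffineOpen_top _⟩
  let eR := (Scheme.ΓSpecIso (CommRingCat.of R)).inv
  have happ : p.appLE (U i).1 ⊤ e = CommRingCat.ofHom φ ≫ eR := by
    rw [← cancel_mono (Scheme.ΓSpecIso (CommRingCat.of R)).hom]
    simp only [eR, Category.assoc, Iso.inv_hom_id, Category.comp_id]
    apply Spec.map_injective
    rw [Spec.map_comp, ← cancel_mono (U i).2.fromSpec, Category.assoc,
      IsAffineOpen.SpecMap_appLE_fromSpec p (U i).2 (isAffineOpen_top _), IsAffineOpen.fromSpec_top,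
      Scheme.isoSpec_Spec_inv, ← Spec.map_comp_assoc, Iso.inv_hom_id, Spec.map_id, Category.id_comp]
  have hIp : (I.comap p).ideal tR = Ideal.span {eR (φ (a i))} := by
    rw [Groth.Agent.ProjLib.comap_ideal_eq I p (U i) tR e, hU i, Ideal.map_span, Set.image_singleton, happ]
    rfl
  have hne : eR (φ (a i)) ≠ 0 := fun hz => hφa ((map_eq_zero_iff _ (ConcreteCategory.bijective_of_isIso eR).1).1 hz)
  have hcart : BlowUp.IsEffCartierIdeal (I.comap p) := by
    intro z
    refine ⟨tR, trivial, eR (φ (a i)), mem_nonZeroDivisors_iff_right.2 fun w hw => ?_, hIp⟩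
    obtain ⟨w, rfl⟩ := (ConcreteCategory.bijective_of_isIso eR).2 w
    rw [← map_mul] at hw
    have := (map_eq_zero_iff _ (ConcreteCategory.bijective_of_isIso eR).1).1 hw
    rw [(mul_eq_zero.1 this).resolve_right hφa, map_zero]
  have hint : ∀ z : Spec (CommRingCat.of R),
      z ∈ (ModPair.interior (I.comap p) : Set (Spec (CommRingCat.of R))) ↔ φ (a i) ∉ z.asIdeal := by
    intro z
    show z ∉ (I.comap p).support ↔ _
    rw [Scheme.IdealSheafData.mem_support_iff_of_mem (U := tR) (show z ∈ (tR : (Spec (CommRingCat.of R)).Opens) from trivial),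
      hIp, Scheme.zeroLocus_span, Scheme.mem_zeroLocus_iff]
    simp only [Set.mem_singleton_iff, forall_eq, not_not]
    show z ∈ (Spec (CommRingCat.of R)).basicOpen ((Scheme.ΓSpecIso (CommRingCat.of R)).inv (φ (a i))) ↔ _
    rw [basicOpen_eq_of_affine]
    rfl
  have hEq := h R p hcart fun z => (hint z).trans
    ⟨fun hz => hφprime _ z.isPrime hz, fun hz hm => hφa (by rw [hz] at hm; exact hm)⟩
  have hJp : (J.comap p).ideal tR ≤ Ideal.span {eR (φ (a i))} * (q.map (φ : _ →+* R)).map eR.hom := by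
    rw [Groth.Agent.ProjLib.comap_ideal_eq J p (U i) tR e, Ideal.map_le_iff_le_comap]
    intro b hb
    obtain ⟨c, rfl⟩ := Ideal.mem_span_singleton.1 ((hU i).le (hJI (U i) hb))
    rw [Ideal.mem_comap, happ]
    show eR (φ (a i * c)) ∈ _
    rw [map_mul, map_mul]
    refine Ideal.mul_mem_mul (Ideal.mem_span_singleton_self _) (Ideal.mem_map_of_mem _ (Ideal.mem_map_of_mem _ (hCq ?_)))
    exact Submodule.mem_colon.2 fun w hw => by
      obtain ⟨d, rfl⟩ := Ideal.mem_span_singleton.1 hw
      rw [smul_eq_mul, ← mul_assoc, mul_comm c]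
      exact Ideal.mul_mem_right _ _ hb
  have hmem : eR (φ (a i)) ∈ Ideal.span {eR (φ (a i))} * (q.map (φ : _ →+* R)).map eR.hom :=
    hJp (by rw [← hEq, hIp]; exact Ideal.mem_span_singleton_self _)
  obtain ⟨w, hw, hw'⟩ := Ideal.mem_span_singleton_mul.1 hmem
  obtain ⟨r, hr, rfl⟩ := (Ideal.mem_map_iff_of_surjective _ (ConcreteCategory.bijective_of_isIso eR).2).1 hw
  rw [← map_mul] at hw'
  have hr1 : r = 1 := mul_left_cancel₀ hφa (((ConcreteCategory.bijective_of_isIso eR).1 hw').trans (mul_one _).symm)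
  have hq : q.map (φ : _ →+* R) ≤ IsLocalRing.maximalIdeal R := Ideal.map_le_iff_le_comap.2 fun c hc => hφq c hc
  exact hq hr (hr1 ▸ isUnit_one)

end Groth.Agent.S19335
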