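import Groth.Statements.S19338
import Mathlib

set_option autoImplicit false
universe w v u
open CategoryTheory
open ModPair

namespace Groth.Agent.S19338


/-- Let C be a category and S a class of morphisms which contains the identities, is closed under
composition, admits a right calculus of fractions, and consists of monomorphisms. Then the sieves
containing a morphism of S are the covering sieves of a Grothendieck topology on C, and for every
such topology J a presheaf of types F on C is a J-sheaf if and only if it is S-local, i.e. F sends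
every morphism of S to a bijection. -/
theorem result {C : Type u} [Category.{v} C]
    (S : MorphismProperty C) [S.HasRightCalculusOfFractions]
    (hmono : ∀ ⦃X Y : C⦄ (s : X ⟶ Y), S s → Mono s) :
    (∃ J : GrothendieckTopology C, ∀ (X : C) (T : Sieve X),
        T ∈ J X ↔ ∃ (Y : C) (s : Y ⟶ X), S s ∧ T s) ∧
      ∀ J : GrothendieckTopology C, (∀ (X : C) (T : Sieve X),
          T ∈ J X ↔ ∃ (Y : C) (s : Y ⟶ X), S s ∧ T s) →
        ∀ F : Cᵒᵖ ⥤ Type w,
          Presheaf.IsSheaf J F ↔ ∀ ⦃X Y : C⦄ (s : X ⟶ Y), S s → IsIso (F.map s.op) := by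
  have ore : ∀ {X Y Z : C} (s : Y ⟶ X), S s → ∀ (f : Z ⟶ X), ∃ (W : C) (t : W ⟶ Z) (g : W ⟶ Y), S t ∧ t ≫ f = g ≫ s := fun {X Y Z} s hs f => by
    obtain ⟨ψ, h⟩ := MorphismProperty.HasRightCalculusOfFractions.exists_rightFraction (.mk f s hs : S.LeftFraction Z Y)
    exact ⟨_, ψ.s, ψ.f, ψ.hs, h⟩
  refine ⟨⟨⟨fun X => {T | ∃ (Y : C) (s : Y ⟶ X), S s ∧ T s}, fun X => ⟨X, 𝟙 X, S.id_mem X, trivial⟩, ?_, ?_⟩, fun _ _ => Iff.rfl⟩, ?_⟩
  · rintro X Z T f ⟨Y, s, hs, hT⟩
    obtain ⟨W, t, g, ht, e⟩ := ore s hs f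
    exact ⟨W, t, ht, by show T (t ≫ f); rw [e]; exact T.downward_closed hT g⟩
  · rintro X T ⟨Y, s, hs, hT⟩ R h
    obtain ⟨Z, t, ht, hR⟩ := h hT
    exact ⟨Z, t ≫ s, S.comp_mem _ _ ht hs, hR⟩
  intro J hJ F
  rw [isSheaf_iff_isSheaf_of_type]
  constructor
  · intro hF X Y s hs
    have := hmono s hs
    have hT := (Presieve.isSheafFor_iff_generate _).2 (hF (Sieve.generate (Presieve.singleton s)) ((hJ _ _).2 ⟨X, s, hs, Sieve.le_generate (Presieve.singleton s) _ _ (Presieve.singleton_self s)⟩))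
    rw [Presieve.isSheafFor_singleton] at hT
    rw [isIso_iff_bijective]
    refine ⟨fun a b e => ?_, fun x => ?_⟩
    · obtain ⟨y, hy, huniq⟩ := hT (F.map s.op a) (fun p₁ p₂ e => by rw [cancel_mono s] at e; rw [e])
      exact (huniq a rfl).trans (huniq b e.symm).symm
    · obtain ⟨y, hy, -⟩ := hT x (fun p₁ p₂ e => by rw [cancel_mono s] at e; rw [e])
      exact ⟨y, hy⟩
  · intro hF X T hT x hx
    obtain ⟨Y, s, hs, hTs⟩ := (hJ _ _).1 hT
    have hb := (isIso_iff_bijective _).1 (hF s hs)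
    obtain ⟨y, hy⟩ := hb.2 (x s hTs)
    refine ⟨y, fun Z f hf => ?_, fun y' hy' => hb.1 ((hy' s hTs).trans hy.symm)⟩
    obtain ⟨W, t, g, ht, e⟩ := ore s hs f
    refine ((isIso_iff_bijective _).1 (hF t ht)).1 ?_
    rw [← hx g t hTs hf e.symm, ← hy, ← FunctorToTypes.map_comp_apply, ← FunctorToTypes.map_comp_apply, ← op_comp, ← op_comp, e]

end Groth.Agent.S19338
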