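import Groth.Statements.S19339
-- import your own Groth.Agent.* helpers here
import Groth.Agent.FlatMorQFSplit.Split
import Groth.Agent.FlatMorSlice.Cover

set_option autoImplicit false
universe u
open CategoryTheory CategoryTheory.Limits AlgebraicGeometry TopologicalSpace
open ModPair

namespace Groth.Agent.S19339

/-- Let X be a scheme and (w_j : W_j ⟶ X) an fppf covering, i.e. a jointly surjective family of
morphisms each of which is flat and of finite presentation (locally of finite presentation,
quasi-compact and quasi-separated). Then it is refined by a family of composites V_k ⟶ U_k ⟶ X in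
which the u_k : U_k ⟶ X are étale morphisms such that every point of X is the image of a point of
some U_k with trivial residue field extension, and the v_k : V_k ⟶ U_k are finite, flat and
surjective: each composite v_k ≫ u_k factors through some w_j. (The covering condition on the family
(u_k) is stated here pointwise, every point lifting to some U_k with the same residue field; a
Nisnevich covering in the stronger sense with members of finite presentation and a finite splitting
stratification is not asserted.) -/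
theorem result {X : Scheme.{u}}
    {ι : Type u} (W : ι → Scheme.{u}) (w : ∀ j, W j ⟶ X)
    (hw : Presieve.ofArrows W w ∈
      Scheme.precoverage (@Flat ⊓ @LocallyOfFinitePresentation ⊓ @QuasiCompact ⊓ @QuasiSeparated) X) :
    ∃ (κ : Type u) (U V : κ → Scheme.{u}) (u : ∀ k, U k ⟶ X) (v : ∀ k, V k ⟶ U k),
      (∀ k, Etale (u k)) ∧
        (∀ x : X, ∃ (k : κ) (y : U k), (u k).base y = x ∧ IsIso ((u k).residueFieldMap y)) ∧
        (∀ k, IsFinite (v k) ∧ Flat (v k) ∧ Surjective (v k)) ∧
        ∀ k, ∃ (j : ι) (r : V k ⟶ W j), r ≫ w j = v k ≫ u k := by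
  rw [Scheme.ofArrows_mem_precoverage_iff] at hw
  obtain ⟨hcov, hprop⟩ := hw
  have key : ∀ x : X, ∃ (U V : Scheme.{u}) (a : U ⟶ X) (b : V ⟶ U) (y : U), Etale a ∧ a y = x ∧
      IsIso (a.residueFieldMap y) ∧ IsFinite b ∧ Flat b ∧ Surjective b ∧
      ∃ (j : ι) (r : V ⟶ W j), r ≫ w j = b ≫ a := by
    intro x
    obtain ⟨j, z, hz⟩ := hcov x
    obtain ⟨⟨⟨hfl, hfp⟩, -⟩, -⟩ := hprop j
    obtain ⟨T, r, -, h1, h2, h3, y, hy⟩ := FlatMorSlice.exists_slice_scheme (w j) z
    obtain ⟨U, g, u, hg, V, v, hfin, hvV, -, hv2, -⟩ :=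
      FlatMorQFSplit.exists_split_unique (r ≫ w j) (hy.trans hz) ((r ≫ w j).quasiFiniteAt y)
    haveI := hg.etale
    let π : V.toScheme ⟶ U := V.ι ≫ pullback.snd (r ≫ w j) g
    haveI : IsFinite π := hfin
    haveI : Flat π := MorphismProperty.comp_mem _ _ _ inferInstance inferInstance
    haveI : LocallyOfFinitePresentation π := MorphismProperty.comp_mem _ _ _ inferInstance inferInstance
    let O : U.Opens := ⟨Set.range π, π.isOpenMap.isOpen_range⟩
    have hu : u ∈ O := ⟨⟨v, hvV⟩, hv2⟩
    refine ⟨O, (π ⁻¹ᵁ O).toScheme, O.ι ≫ g, π ∣_ O, ⟨u, hu⟩, inferInstance, hg.base_eq, ?_, inferInstance,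
      inferInstance, ⟨fun o => ?_⟩, j, (π ⁻¹ᵁ O).ι ≫ V.ι ≫ pullback.fst _ _ ≫ r, ?_⟩
    · rw [Scheme.residueFieldMap_comp]
      haveI : IsIso (g.residueFieldMap (O.ι ⟨u, hu⟩)) :=
        (ConcreteCategory.isIso_iff_bijective _).2 hg.residue_bijective
      exact @IsIso.comp_isIso' _ _ _ _ _ _ _ this inferInstance
    · obtain ⟨a, ha⟩ := o.2
      exact ⟨⟨a, show π a ∈ O from ⟨a, rfl⟩⟩, Subtype.ext ((congrArg (fun q : _ ⟶ U => q _)
        (morphismRestrict_ι π O)).trans ha)⟩
    · simp only [Category.assoc, morphismRestrict_ι_assoc]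
      simp only [π, Category.assoc, pullback.condition]
  choose U V a b y h1 h2 h3 h4 h5 h6 j r h7 using key
  exact ⟨X, U, V, a, b, h1, fun x => ⟨x, y x, h2 x, h3 x⟩, fun k => ⟨h4 k, h5 k, h6 k⟩,
    fun k => ⟨j k, r k, h7 k⟩⟩

end Groth.Agent.S19339
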