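import Groth.Statements.S1934
import Groth.Agent.Stk19b.GrpdFinPart.Main
open Groth.Agent

set_option autoImplicit false
universe u
open CategoryTheory CategoryTheory.Limits AlgebraicGeometry
open Grpd

set_option backward.isDefEq.respectTransparency.types false
set_option backward.isDefEq.respectTransparency false

namespace Groth.Agent.S1934


/-- Let (U, R, s, t, c) be a groupoid scheme over S, p ∈ S and u ∈ U over p, with U → S locally of
finite type, quasi-finite at u (u is isolated in its fibre) and separated, R → S separated, s and t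
flat and locally of finite presentation, and s⁻¹{u} finite. Then there are an étale neighbourhood g
: (S', p') → (S, p) inducing an isomorphism on residue fields and open-and-closed subsets U' ⊆
U_{S'} = U ×_S S', R' ⊆ R_{S'} such that: some point u' of U' lies over u and over p'; for such u'
the fibre of U' over p' is t'(s'⁻¹{u'}) and the fibre of R' over p' is s'⁻¹ of the fibre of U'; U'
and R' are finite over S'; and s', t' (the base changes of s, t) map R' into U'. (Parts (f), (g) —
closure of R' under composition, so that (U', R') is a groupoid scheme — are not restated.) (A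
groupoid scheme carries U, R, s, t, c, e, i over S with the groupoid axioms on T-points; 'finite
locally free' is finite, flat and locally of finite presentation; C ⊂ Γ(U) is the ring of functions
a with s♯(a) = t♯(a) and M = Spec C.) -/
theorem result (S : Scheme.{u}) (G : Grpd.GroupoidScheme S) (p : S) (u : G.U) (hu : G.pU u = p) [LocallyOfFiniteType G.pU] [IsSeparated G.pU] [IsSeparated G.pR] [Flat G.s] [LocallyOfFinitePresentation G.s] [Flat G.t] [LocallyOfFinitePresentation G.t] (hqf : ∃ V : G.U.Opens, u ∈ V ∧ ∀ x ∈ V, G.pU x = p → x = u) (hfin : (⇑G.s ⁻¹' {u}).Finite) : ∃ (S' : Scheme.{u}) (g : S' ⟶ S) (p' : S') (_ : Hens2.IsEtaleNbhd g p' p) (U' : (pullback G.pU g).Opens) (R' : (pullback G.pR g).Opens), IsClosed (U' : Set ↥(pullback G.pU g)) ∧ IsClosed (R' : Set ↥(pullback G.pR g)) ∧ (∃ u' : ↥(pullback G.pU g), u' ∈ U' ∧ pullback.fst G.pU g u' = u ∧ pullback.snd G.pU g u' = p') ∧ (∀ u' : ↥(pullback G.pU g), u' ∈ U' → pullback.fst G.pU g u' = u → pullback.snd G.pU g u' = p' → {x : ↥(pullback G.pU g)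 | x ∈ U' ∧ pullback.snd G.pU g x = p'} = ⇑(pullback.map G.pR g G.pU g G.t (𝟙 S') (𝟙 S) ((Category.comp_id _).trans G.t_over.symm) ((Category.comp_id _).trans (Category.id_comp _).symm)) '' (⇑(pullback.map G.pR g G.pU g G.s (𝟙 S') (𝟙 S) ((Category.comp_id _).trans G.s_over.symm) ((Category.comp_id _).trans (Category.id_comp _).symm)) ⁻¹' {u'})) ∧ {r : ↥(pullback G.pR g) | r ∈ R' ∧ pullback.snd G.pR g r = p'} = ⇑(pullback.map G.pR g G.pU g G.s (𝟙 S') (𝟙 S) ((Category.comp_id _).trans G.s_over.symm) ((Category.comp_id _).trans (Category.id_comp _).symm)) ⁻¹' {x | x ∈ U' ∧ pullback.snd G.pU g x = p'} ∧ IsFinite (U'.ι ≫ pullback.snd G.pU g) ∧ IsFinite (R'.ι ≫ pullback.snd G.pR g) ∧ ⇑(pullback.map G.pR g G.pU g G.s (𝟙 S') (𝟙 S) ((Category.comp_id _).trans G.s_over.symm) ((Category.comp_id _).trans (Category.id_comp _).symm)) '' (R' : Set ↥(pullback G.pR g)) ⊆ U' ∧ ⇑(pullback.map G.pR g G.pU g G.t (𝟙 S') (𝟙 S) ((Category.comp_id _).trans G.t_over.symm) ((Category.comp_id _).trans (Category.id_comp _).symm)) '' (R'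 : Set ↥(pullback G.pR g)) ⊆ U' := by
  obtain ⟨S', g, p', U', R₀, hn, hU, hR⟩ := Stk19b.GrpdFinPart.exists_good G hu hqf hfin
  obtain ⟨h1, h2, h3, h4, h5, h6, h7⟩ := Stk19b.GrpdFinPart.conclusions G hu hn hU hR
  exact ⟨S', g, p', hn, U', _, hU.isClosed, h1, h2, h3, h4, hU.isFinite, h5, h6, h7⟩

end Groth.Agent.S1934
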