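import Groth.Statements.S19340
import Mathlib

set_option autoImplicit false
universe v v' u u'
open CategoryTheory
open ModPair

namespace Groth.Agent.S19340


/-- Let C be a category, S a class of morphisms of C containing the identities, closed under composition
and admitting a right calculus of fractions, and L : C ⥤ D a localization functor for S. Then for
every object X of C the comma category of L under X, whose objects are pairs (Y, L(X) ⟶ L(Y)) and
whose morphisms are morphisms Y ⟶ Y' of C compatible with the structure maps, is cofiltered. The
published statement calls this category filtered; its proof verifies, and this row states,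
cofilteredness. -/
theorem result {C : Type u}
    [Category.{v} C] {D : Type u'} [Category.{v'} D] (S : MorphismProperty C)
    [S.HasRightCalculusOfFractions] (L : C ⥤ D) [L.IsLocalization S] (X : C) :
    IsCofiltered (StructuredArrow (L.obj X) L) := by
  have : Nonempty (StructuredArrow (L.obj X) L) := ⟨StructuredArrow.mk (𝟙 _)⟩
  have : IsCofilteredOrEmpty (StructuredArrow (L.obj X) L) := by
    refine ⟨fun A B => ?_, fun A B f g => ?_⟩
    · obtain ⟨φ, hφ⟩ := Localization.exists_rightFraction L S A.hom
      obtain ⟨ψ, hψ⟩ := Localization.exists_rightFraction L S B.hom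
      obtain ⟨χ, hχ⟩ := MorphismProperty.HasRightCalculusOfFractions.exists_rightFraction (.mk φ.s ψ.s ψ.hs : S.LeftFraction _ _)
      dsimp at hχ
      have : IsIso (L.map (χ.s ≫ φ.s)) := Localization.inverts L S _ (S.comp_mem _ _ χ.hs φ.hs)
      refine ⟨StructuredArrow.mk (inv (L.map (χ.s ≫ φ.s))), StructuredArrow.homMk (χ.s ≫ φ.f) ?_, StructuredArrow.homMk (χ.f ≫ ψ.f) ?_, trivial⟩
      · simp [hφ, MorphismProperty.RightFraction.map]
      · dsimp
        rw [IsIso.inv_comp_eq, hψ, hχ, Functor.map_comp, Functor.map_comp, Category.assoc, MorphismProperty.RightFraction.map_s_comp_map]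
    · obtain ⟨φ, hφ⟩ := Localization.exists_rightFraction L S A.hom
      have e : L.map (φ.f ≫ f.right) = L.map (φ.f ≫ g.right) := by
        simp only [Functor.map_comp, ← MorphismProperty.RightFraction.map_s_comp_map φ L (Localization.inverts L S), ← hφ, Category.assoc, StructuredArrow.w]
      obtain ⟨Z, t, ht, het⟩ := (MorphismProperty.map_eq_iff_precomp L S _ _).1 e
      have : IsIso (L.map (t ≫ φ.s)) := Localization.inverts L S _ (S.comp_mem _ _ ht φ.hs)
      refine ⟨StructuredArrow.mk (inv (L.map (t ≫ φ.s))), StructuredArrow.homMk (t ≫ φ.f) ?_, StructuredArrow.ext _ _ ?_⟩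
      · dsimp
        rw [IsIso.inv_comp_eq, hφ, Functor.map_comp, Functor.map_comp, Category.assoc, MorphismProperty.RightFraction.map_s_comp_map]
      · simpa using het
  exact ⟨⟩

end Groth.Agent.S19340
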