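import Groth.Statements.S19342
-- import your own Groth.Agent.* helpers here
import Groth.Agent.ModPair23.ValLocal

set_option autoImplicit false
universe u
open CategoryTheory CategoryTheory.Limits AlgebraicGeometry TopologicalSpace
open ModPair Groth.Agent.ModPair23

namespace Groth.Agent.S19342

/-- Let P be a modulus pair (a scheme P̄ with the quasi-coherent ideal sheaf of an effective Cartier
divisor) whose total space P̄ is quasi-compact and quasi-separated. Then P is local both for Zariski
coverings of modulus pairs (for every pair X, every jointly surjective family of minimal morphisms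
U_i ⟶ X whose underlying morphisms are quasi-compact open immersions, and every morphism of pairs P
⟶ X, the latter factors through some U_i) and for abstract admissible blow-ups (every P ⟶ X lifts
along every abstract admissible blow-up Q ⟶ X) if and only if (1) P̄ is affine with A = Γ(P̄) a
local ring, (2) the interior P° is affine with local ring of global sections, and, writing p for the
closed point of P° and 𝔮 ⊂ A for its prime ideal, (3) A/𝔮 is a valuation ring and (4) the
localisation map sends 𝔮 bijectively onto the maximal ideal 𝔮A_𝔮 of A_𝔮. Conditions (3) and (4) say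
that the closure of p is the spectrum of a valuation ring and that A is the fibre product A/𝔮
×_{k(𝔮)} A_𝔮, i.e. P̄ is obtained by gluing the closure of p to P° along p. The published statement
allows any modulus pair P; this row assumes the total space P̄ quasi-compact and quasi-separated. -/
theorem result (P : ModPair.Pair.{u})
    [CompactSpace P.total] [QuasiSeparatedSpace P.total] :
    ((∀ (X : ModPair.Pair.{u}) (ι : Type u) (U : ι → ModPair.Pair.{u}) (v : ∀ i, U i ⟶ X),
        (∀ i, ModPair.IsMinimal (U i).mod X.mod (v i).hom ∧ IsOpenImmersion (v i).hom ∧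
          QuasiCompact (v i).hom) →
        (∀ x : X.total, ∃ (i : ι) (y : (U i).total), (v i).hom.base y = x) →
        ∀ g : P ⟶ X, ∃ (i : ι) (h : P ⟶ U i), h ≫ v i = g) ∧
      (∀ (Q X : ModPair.Pair.{u}) (q : Q ⟶ X), ModPair.Pair.admBlowup q →
        ∀ g : P ⟶ X, ∃ h : P ⟶ Q, h ≫ q = g)) ↔
    (IsAffine P.total ∧ IsLocalRing Γ(P.total, ⊤) ∧
      IsAffine (ModPair.interior P.mod : Scheme.{u}) ∧
      IsLocalRing Γ((ModPair.interior P.mod : Scheme.{u}), ⊤) ∧
      ∀ p : (ModPair.interior P.mod : Scheme.{u}),
        IsClosed ({p} : Set (ModPair.interior P.mod : Scheme.{u})) →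
          ValuationRing (Γ(P.total, ⊤) ⧸
            (P.total.toSpecΓ.base ((ModPair.interior P.mod).ι.base p)).asIdeal) ∧
          Set.BijOn (algebraMap Γ(P.total, ⊤) (Localization.AtPrime
              (P.total.toSpecΓ.base ((ModPair.interior P.mod).ι.base p)).asIdeal))
            ((P.total.toSpecΓ.base ((ModPair.interior P.mod).ι.base p)).asIdeal : Set Γ(P.total, ⊤))
            (IsLocalRing.maximalIdeal (Localization.AtPrime
              (P.total.toSpecΓ.base ((ModPair.interior P.mod).ι.base p)).asIdeal) :
              Set (Localization.AtPrime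
                (P.total.toSpecΓ.base ((ModPair.interior P.mod).ι.base p)).asIdeal))) := by
  constructor
  · rintro ⟨hZ, hA⟩
    obtain ⟨h1, h2⟩ := affine_local_of_cover _ (fun W hW hc => zarLocal_cover hZ W hW hc)
    obtain ⟨h3, h4⟩ := interior_affine_local hZ hA
    refine ⟨h1, h2, h3, h4, fun p hp => ?_⟩
    obtain ⟨f, hfn, hf⟩ := exists_generator P.isEffCartier
    have hU := interior_eq_basicOpen hf
    exact valuation_conditions f hfn _ ((mem_basicOpen_iff f _).1 (hU.le p.2))
      (exists_dvd_pow f hU p hp) (dvd_or_dvd hA f hfn hf)
  · rintro ⟨h1, h2, h3, h4, h5⟩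
    refine ⟨zarLocal_of_affine_local, ?_⟩
    obtain ⟨f, hfn, hf⟩ := exists_generator P.isEffCartier
    have hU := interior_eq_basicOpen hf
    let p : (ModPair.interior P.mod : Scheme.{u}) :=
      (ModPair.interior P.mod : Scheme.{u}).isoSpec.inv (IsLocalRing.closedPoint _)
    have hp : IsClosed ({p} : Set (ModPair.interior P.mod : Scheme.{u})) := by
      have := (Scheme.homeoOfIso (ModPair.interior P.mod : Scheme.{u}).isoSpec.symm).isClosedMap _
        (IsLocalRing.isClosed_singleton_closedPoint Γ((ModPair.interior P.mod : Scheme.{u}), ⊤))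
      exact (Set.image_singleton.symm.trans rfl : _) ▸ this
    obtain ⟨h6, h7⟩ := h5 p hp
    haveI : ValuationRing (Γ(P.total, ⊤) ⧸ (P.total.toSpecΓ p.1).asIdeal) := h6
    exact admLocal_of_valuation f hfn hU _ ((mem_basicOpen_iff f _).1 (hU.le p.2))
      (exists_dvd_pow f hU p hp) h7

end Groth.Agent.S19342
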