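import Groth.Statements.S19344
-- import your own Groth.Agent.* helpers here
import Groth.Agent.ModPair23.FppfLocal

set_option autoImplicit false
universe u
open CategoryTheory CategoryTheory.Limits AlgebraicGeometry TopologicalSpace
open ModPair Groth.Agent.ModPair23

namespace Groth.Agent.S19344

/-- Let P be a modulus pair (a scheme P̄ with the quasi-coherent ideal sheaf of an effective Cartier
divisor) whose total space P̄ is quasi-compact and quasi-separated. Call a scheme T fppf-local when
for every scheme X, every jointly surjective family of morphisms to X that are flat and of finite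
presentation (locally of finite presentation, quasi-compact, quasi-separated) and every T ⟶ X, the
latter factors through a member of the family. Then P is local both for fppf coverings of modulus
pairs (families of minimal morphisms U_i ⟶ X whose underlying morphisms form such a family, with the
same factorisation property for morphisms of pairs P ⟶ X) and for abstract admissible blow-ups
(every P ⟶ X lifts along every abstract admissible blow-up Q ⟶ X) if and only if (1) P̄ is
fppf-local, (2) the interior P° is fppf-local, (3) P° is affine with local ring of global sections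
and, writing p for its closed point and 𝔮 ⊂ A = Γ(P̄) for the prime ideal of p, the ring A/𝔮 is a
valuation ring with algebraically closed fraction field, and (4) the localisation map sends 𝔮
bijectively onto the maximal ideal of A_𝔮, i.e. A = A/𝔮 ×_{k(𝔮)} A_𝔮 and P̄ is the gluing of the
closure of p to P° along p. (The affine-local clause in (3) is a consequence of (2) and only serves
to name p.) The published statement allows any modulus pair P; this row assumes the total space P̄
quasi-compact and quasi-separated. -/
theorem result (P : ModPair.Pair.{u})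
    [CompactSpace P.total] [QuasiSeparatedSpace P.total] :
    ((∀ (X : ModPair.Pair.{u}) (ι : Type u) (U : ι → ModPair.Pair.{u}) (v : ∀ i, U i ⟶ X),
        (∀ i, ModPair.IsMinimal (U i).mod X.mod (v i).hom ∧ Flat (v i).hom ∧
          LocallyOfFinitePresentation (v i).hom ∧ QuasiCompact (v i).hom ∧
          QuasiSeparated (v i).hom) →
        (∀ x : X.total, ∃ (i : ι) (y : (U i).total), (v i).hom.base y = x) →
        ∀ g : P ⟶ X, ∃ (i : ι) (h : P ⟶ U i), h ≫ v i = g) ∧
      (∀ (Q X : ModPair.Pair.{u}) (q : Q ⟶ X), ModPair.Pair.admBlowup q →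
        ∀ g : P ⟶ X, ∃ h : P ⟶ Q, h ≫ q = g)) ↔
    ((∀ (X : Scheme.{u}) (R : Presieve X), R ∈ Scheme.precoverage (@Flat ⊓ @LocallyOfFinitePresentation ⊓ @QuasiCompact ⊓ @QuasiSeparated) X →
        ∀ g : P.total ⟶ X, ∃ (Y : Scheme.{u}) (w : Y ⟶ X) (h : P.total ⟶ Y), R w ∧ h ≫ w = g) ∧
      (∀ (X : Scheme.{u}) (R : Presieve X), R ∈ Scheme.precoverage (@Flat ⊓ @LocallyOfFinitePresentation ⊓ @QuasiCompact ⊓ @QuasiSeparated) X →
        ∀ g : (ModPair.interior P.mod : Scheme.{u}) ⟶ X, ∃ (Y : Scheme.{u}) (w : Y ⟶ X) (h : (ModPair.interior P.mod : Scheme.{u}) ⟶ Y), R w ∧ h ≫ w = g) ∧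
      IsAffine (ModPair.interior P.mod : Scheme.{u}) ∧
      IsLocalRing Γ((ModPair.interior P.mod : Scheme.{u}), ⊤) ∧
      ∀ p : (ModPair.interior P.mod : Scheme.{u}),
        IsClosed ({p} : Set (ModPair.interior P.mod : Scheme.{u})) →
          ValuationRing (Γ(P.total, ⊤) ⧸ (P.total.toSpecΓ.base ((ModPair.interior P.mod).ι.base p)).asIdeal) ∧
          IsAlgClosed (FractionRing (Γ(P.total, ⊤) ⧸ (P.total.toSpecΓ.base ((ModPair.interior P.mod).ι.base p)).asIdeal)) ∧
          Set.BijOn (algebraMap Γ(P.total, ⊤) (Localization.AtPrime (P.total.toSpecΓ.base ((ModPair.interior P.mod).ι.base p)).asIdeal))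
            ((P.total.toSpecΓ.base ((ModPair.interior P.mod).ι.base p)).asIdeal : Set Γ(P.total, ⊤))
            (IsLocalRing.maximalIdeal (Localization.AtPrime (P.total.toSpecΓ.base ((ModPair.interior P.mod).ι.base p)).asIdeal) :
              Set (Localization.AtPrime (P.total.toSpecΓ.base ((ModPair.interior P.mod).ι.base p)).asIdeal))) := by
  constructor
  · rintro ⟨hF, hA⟩
    have hE := FppfLocal.etLocal hF
    have hZ := EtLocal.zarLocal hE
    obtain ⟨h1, h2⟩ := affine_local_of_cover _ (fun W hW hc => zarLocal_cover hZ W hW hc)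
    obtain ⟨h3, h4⟩ := interior_affine_local hZ hA
    have hsh := strictlyHenselian_of_etLocal hE
    haveI := hsh.1
    have hFR := freeRetr_of_fppfLocal hF
    have haic := isAIC_of_freeRetr hFR
    obtain ⟨f, hfn, hf⟩ := exists_generator P.isEffCartier
    have hU := interior_eq_basicOpen hf
    have key := fun (p : (ModPair.interior P.mod : Scheme.{u}))
      (hp : IsClosed ({p} : Set (ModPair.interior P.mod : Scheme.{u}))) =>
      valuation_conditions f hfn _ ((mem_basicOpen_iff f _).1 (hU.le p.2))
        (exists_dvd_pow f hU p hp) (dvd_or_dvd hA f hfn hf)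
    let p : (ModPair.interior P.mod : Scheme.{u}) :=
      (ModPair.interior P.mod : Scheme.{u}).isoSpec.inv (IsLocalRing.closedPoint _)
    have hp : IsClosed ({p} : Set (ModPair.interior P.mod : Scheme.{u})) := by
      have := (Scheme.homeoOfIso (ModPair.interior P.mod : Scheme.{u}).isoSpec.symm).isClosedMap _
        (IsLocalRing.isClosed_singleton_closedPoint Γ((ModPair.interior P.mod : Scheme.{u}), ⊤))
      exact (Set.image_singleton.symm.trans rfl : _) ▸ this
    have hB := henselian_interior f hfn hU _ ((mem_basicOpen_iff f _).1 (hU.le p.2))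
      (exists_dvd_pow f hU p hp) (key p hp).2
    haveI := hB
    have hBR : FreeRetr Γ((ModPair.interior P.mod : Scheme.{u}), ⊤) := by
      haveI : IsLocalization.Away f Γ(P.total, P.total.basicOpen f) :=
        (isAffineOpen_top P.total).isLocalization_basicOpen f
      let e : Γ(P.total, P.total.basicOpen f) ≃+* Γ((ModPair.interior P.mod : Scheme.{u}), ⊤) :=
        ((P.total.presheaf.mapIso (eqToIso (congrArg Opposite.op hU))).symm ≪≫
          (Scheme.Opens.topIso _).symm).commRingCatIsoToRingEquiv
      letI := (e.toRingHom.comp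
        (algebraMap Γ(P.total, ⊤) Γ(P.total, P.total.basicOpen f))).toAlgebra
      haveI : IsLocalization.Away f Γ((ModPair.interior P.mod : Scheme.{u}), ⊤) :=
        IsLocalization.isLocalization_of_algEquiv (Submonoid.powers f) (AlgEquiv.ofRingEquiv (f := e) fun x => rfl)
      exact freeRetr_away f hfn hFR _
    have hBs : EtCoh.IsStrictlyHenselianLocalRing Γ((ModPair.interior P.mod : Scheme.{u}), ⊤) := by
      refine ⟨hB, ?_⟩
      haveI := IsAlgClosed.of_exists_root (IsLocalRing.ResidueField Γ((ModPair.interior P.mod : Scheme.{u}), ⊤))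
        fun g hg hirr => isAIC_of_surjective (IsLocalRing.residue _) IsLocalRing.residue_surjective
          (isAIC_of_freeRetr hBR) g hg hirr.natDegree_pos
      infer_instance
    exact ⟨schFppfLocal_of_fppfLocal hF, schFppfLocal_of_freeRetr hBs hBR, h3, h4,
      fun p hp => ⟨(key p hp).1, isAlgClosed_fractionRing _ haic, (key p hp).2⟩⟩
  · rintro ⟨hS, -, h3, h4, h5⟩
    have hF : FppfLocal P := fppfLocal_of_sch hS
    obtain ⟨h1, h2⟩ := affine_local_of_cover _
      (fun W hW hc => zarLocal_cover (EtLocal.zarLocal (FppfLocal.etLocal hF)) W hW hc)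
    refine ⟨hF, ?_⟩
    obtain ⟨f, hfn, hf⟩ := exists_generator P.isEffCartier
    have hU := interior_eq_basicOpen hf
    let p : (ModPair.interior P.mod : Scheme.{u}) :=
      (ModPair.interior P.mod : Scheme.{u}).isoSpec.inv (IsLocalRing.closedPoint _)
    have hp : IsClosed ({p} : Set (ModPair.interior P.mod : Scheme.{u})) := by
      have := (Scheme.homeoOfIso (ModPair.interior P.mod : Scheme.{u}).isoSpec.symm).isClosedMap _
        (IsLocalRing.isClosed_singleton_closedPoint Γ((ModPair.interior P.mod : Scheme.{u}), ⊤))
      exact (Set.image_singleton.symm.trans rfl : _) ▸ this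
    obtain ⟨h6, -, h7⟩ := h5 p hp
    haveI : ValuationRing (Γ(P.total, ⊤) ⧸ (P.total.toSpecΓ p.1).asIdeal) := h6
    exact admLocal_of_valuation f hfn hU _ ((mem_basicOpen_iff f _).1 (hU.le p.2))
      (exists_dvd_pow f hU p hp) h7

end Groth.Agent.S19344
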