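import Groth.Statements.S19346
-- import your own Groth.Agent.* helpers here
import Groth.Agent.ModPair23.ValFinite

set_option autoImplicit false
universe u
open CategoryTheory CategoryTheory.Limits AlgebraicGeometry TopologicalSpace
open ModPair Groth.Agent.ModPair23

namespace Groth.Agent.S19346

/-- Let P be a modulus pair (a scheme P̄ with the quasi-coherent ideal sheaf of an effective Cartier
divisor) whose total space P̄ is quasi-compact and quasi-separated. Then P is local for Zariski
coverings of modulus pairs (jointly surjective families of minimal morphisms U_i ⟶ X whose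
underlying morphisms are quasi-compact open immersions: every morphism of pairs P ⟶ X factors
through some U_i), for finite coverings of modulus pairs (the same with finite underlying morphisms)
— locality for both kinds being locality for the rqfh coverings, their finite composites — and for
abstract admissible blow-ups (every P ⟶ X lifts along every abstract admissible blow-up Q ⟶ X) if
and only if (1) P̄ is affine and A = Γ(P̄) is a local integral domain in which every monic
polynomial of positive degree has a root, (2) the interior P° is affine and Γ(P°) is likewise a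
local integral domain in which every monic polynomial of positive degree has a root, and, writing p
for the closed point of P° and 𝔮 ⊂ A for its prime ideal, (3) A/𝔮 is a valuation ring with
algebraically closed fraction field and (4) the localisation map sends 𝔮 bijectively onto the
maximal ideal of A_𝔮, i.e. A = A/𝔮 ×_{k(𝔮)} A_𝔮 and P̄ is the gluing of the closure of p to P° along
p. The published statement allows any modulus pair P; this row assumes the total space P̄
quasi-compact and quasi-separated. -/
theorem result (P : ModPair.Pair.{u})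
    [CompactSpace P.total] [QuasiSeparatedSpace P.total] :
    ((∀ (X : ModPair.Pair.{u}) (ι : Type u) (U : ι → ModPair.Pair.{u}) (v : ∀ i, U i ⟶ X),
        (∀ i, ModPair.IsMinimal (U i).mod X.mod (v i).hom ∧ IsOpenImmersion (v i).hom ∧ QuasiCompact (v i).hom) →
        (∀ x : X.total, ∃ (i : ι) (y : (U i).total), (v i).hom.base y = x) →
        ∀ g : P ⟶ X, ∃ (i : ι) (h : P ⟶ U i), h ≫ v i = g) ∧
      (∀ (X : ModPair.Pair.{u}) (ι : Type u) (U : ι → ModPair.Pair.{u}) (v : ∀ i, U i ⟶ X),
        (∀ i, ModPair.IsMinimal (U i).mod X.mod (v i).hom ∧ IsFinite (v i).hom) →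
        (∀ x : X.total, ∃ (i : ι) (y : (U i).total), (v i).hom.base y = x) →
        ∀ g : P ⟶ X, ∃ (i : ι) (h : P ⟶ U i), h ≫ v i = g) ∧
      (∀ (Q : ModPair.Pair.{u}) (X : ModPair.Pair.{u}) (q : Q ⟶ X), ModPair.Pair.admBlowup q →
        ∀ g : P ⟶ X, ∃ h : P ⟶ Q, h ≫ q = g)) ↔
    (IsAffine P.total ∧ IsLocalRing Γ(P.total, ⊤) ∧ IsDomain Γ(P.total, ⊤) ∧
      Curves.IsAIC Γ(P.total, ⊤) ∧
      IsAffine (ModPair.interior P.mod : Scheme.{u}) ∧
      IsLocalRing Γ((ModPair.interior P.mod : Scheme.{u}), ⊤) ∧
      IsDomain Γ((ModPair.interior P.mod : Scheme.{u}), ⊤) ∧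
      Curves.IsAIC Γ((ModPair.interior P.mod : Scheme.{u}), ⊤) ∧
      ∀ p : (ModPair.interior P.mod : Scheme.{u}),
        IsClosed ({p} : Set (ModPair.interior P.mod : Scheme.{u})) →
          ValuationRing (Γ(P.total, ⊤) ⧸ (P.total.toSpecΓ.base ((ModPair.interior P.mod).ι.base p)).asIdeal) ∧
          IsAlgClosed (FractionRing (Γ(P.total, ⊤) ⧸ (P.total.toSpecΓ.base ((ModPair.interior P.mod).ι.base p)).asIdeal)) ∧
          Set.BijOn (algebraMap Γ(P.total, ⊤) (Localization.AtPrime (P.total.toSpecΓ.base ((ModPair.interior P.mod).ι.base p)).asIdeal))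
            ((P.total.toSpecΓ.base ((ModPair.interior P.mod).ι.base p)).asIdeal : Set Γ(P.total, ⊤))
            (IsLocalRing.maximalIdeal (Localization.AtPrime (P.total.toSpecΓ.base ((ModPair.interior P.mod).ι.base p)).asIdeal) :
              Set (Localization.AtPrime (P.total.toSpecΓ.base ((ModPair.interior P.mod).ι.base p)).asIdeal))) := by
  constructor
  · rintro ⟨hZ, hF, hA⟩
    obtain ⟨h1, h2⟩ := affine_local_of_cover _ (fun W hW hc => zarLocal_cover hZ W hW hc)
    obtain ⟨h3, h4⟩ := interior_affine_local hZ hA
    obtain ⟨f, hfn, hf⟩ := exists_generator P.isEffCartier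
    have hU := interior_eq_basicOpen hf
    haveI := noZeroDivisors_of_finLocal hF f hfn hf
    haveI : IsDomain Γ(P.total, ⊤) := NoZeroDivisors.to_isDomain _
    have hf0 : f ≠ 0 := nonZeroDivisors.ne_zero hfn
    have h5 : Curves.IsAIC Γ(P.total, ⊤) := isAIC_of_finLocal hF f hf0 hf
    haveI : IsLocalization.Away f Γ(P.total, P.total.basicOpen f) := (isAffineOpen_top P.total).isLocalization_basicOpen f
    let e : Γ(P.total, P.total.basicOpen f) ≃+* Γ((ModPair.interior P.mod : Scheme.{u}), ⊤) :=
      ((P.total.presheaf.mapIso (eqToIso hU).op) ≪≫ (ModPair.interior P.mod).topIso.symm).commRingCatIsoToRingEquiv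
    haveI : IsDomain Γ(P.total, P.total.basicOpen f) :=
      IsLocalization.isDomain_of_le_nonZeroDivisors (M := Submonoid.powers f) _
        (Submonoid.powers_le.2 hfn)
    haveI : IsDomain Γ((ModPair.interior P.mod : Scheme.{u}), ⊤) := e.symm.toMulEquiv.isDomain _
    refine ⟨h1, h2, inferInstance, h5, h3, h4, inferInstance,
      isAIC_of_surjective e.toRingHom e.surjective (isAIC_of_isLocalization (Submonoid.powers f) h5),
      fun p hp => ?_⟩
    obtain ⟨h6, h7⟩ := valuation_conditions f hfn _ ((mem_basicOpen_iff f _).1 (hU.le p.2))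
      (exists_dvd_pow f hU p hp) (dvd_or_dvd hA f hfn hf)
    exact ⟨h6, isAlgClosed_fractionRing _ h5, h7⟩
  · rintro ⟨h1, h2, h3, h4, h5, h6, -, -, h7⟩
    refine ⟨zarLocal_of_affine_local, finLocal_of_aic h1 h2 h3 h4, ?_⟩
    obtain ⟨f, hfn, hf⟩ := exists_generator P.isEffCartier
    have hU := interior_eq_basicOpen hf
    let p : (ModPair.interior P.mod : Scheme.{u}) :=
      (ModPair.interior P.mod : Scheme.{u}).isoSpec.inv (IsLocalRing.closedPoint _)
    have hp : IsClosed ({p} : Set (ModPair.interior P.mod : Scheme.{u})) := by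
      have := (Scheme.homeoOfIso (ModPair.interior P.mod : Scheme.{u}).isoSpec.symm).isClosedMap _
        (IsLocalRing.isClosed_singleton_closedPoint Γ((ModPair.interior P.mod : Scheme.{u}), ⊤))
      exact (Set.image_singleton.symm.trans rfl : _) ▸ this
    obtain ⟨h8, -, h9⟩ := h7 p hp
    haveI : ValuationRing (Γ(P.total, ⊤) ⧸ (P.total.toSpecΓ p.1).asIdeal) := h8
    exact admLocal_of_valuation f hfn hU _ ((mem_basicOpen_iff f _).1 (hU.le p.2))
      (exists_dvd_pow f hU p hp) h9

end Groth.Agent.S19346
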