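import Groth.Statements.S19347
import Groth.Agent.FlatMor12.Boundary
import Groth.Agent.FlatMor12.LocFreeQuot
import Groth.Agent.S17883
import Groth.Agent.KoszPn17.TwistGen
import Groth.Agent.Coherent.AffinenessApps
-- import your own Groth.Agent.* helpers here

set_option autoImplicit false
set_option backward.isDefEq.respectTransparency false
set_option backward.isDefEq.respectTransparency.types false
set_option maxHeartbeats 1000000
set_option synthInstance.maxHeartbeats 100000
universe u
open RigCh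

namespace Groth.Agent.S19347

open AlgebraicGeometry CategoryTheory in
/-- A locally free quotient which restricts to a short exact sequence extends it. -/
theorem exists_extension {X Y : Scheme.{u}} (j : X ⟶ Y) [IsOpenImmersion j] {S : ShortComplex X.Modules}
    (hS : S.ShortExact) {A B : Y.Modules} (q : A ⟶ B) [Epi q] (hA : FlatMod.IsFinLocFree A)
    (hB : FlatMod.IsFinLocFree B) (e₂ : (Scheme.Modules.pullback j).obj A ≅ S.X₂)
    (e₃ : (Scheme.Modules.pullback j).obj B ≅ S.X₃)
    (hc : (Scheme.Modules.pullback j).map q ≫ e₃.hom = e₂.hom ≫ S.g) :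
    ∃ (T : ShortComplex Y.Modules), T.ShortExact ∧
      FlatMod.IsFinLocFree T.X₁ ∧ FlatMod.IsFinLocFree T.X₂ ∧ FlatMod.IsFinLocFree T.X₃ ∧
      ∃ (e₁ : (Scheme.Modules.pullback j).obj T.X₁ ≅ S.X₁) (e₂ : (Scheme.Modules.pullback j).obj T.X₂ ≅ S.X₂)
        (e₃ : (Scheme.Modules.pullback j).obj T.X₃ ≅ S.X₃),
        (Scheme.Modules.pullback j).map T.f ≫ e₂.hom = e₁.hom ≫ S.f ∧
        (Scheme.Modules.pullback j).map T.g ≫ e₃.hom = e₂.hom ≫ S.g := by
  haveI := hS.mono_f
  haveI := Groth.Agent.DCat.PullPerf.preservesFiniteLimits_restrict j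
  haveI : Limits.PreservesFiniteLimits (Scheme.Modules.pullback j) :=
    Limits.preservesFiniteLimits_of_natIso (Scheme.Modules.restrictFunctorIsoPullback j)
  let T : ShortComplex Y.Modules := ShortComplex.mk (Limits.kernel.ι q) q (Limits.kernel.condition q)
  have hT : T.ShortExact :=
    { exact := ShortComplex.exact_of_f_is_kernel _ (Limits.kernelIsKernel q)
      mono_f := inferInstanceAs (Mono (Limits.kernel.ι q))
      epi_g := inferInstanceAs (Epi q) }
  haveI : Mono T.f := hT.mono_f
  let J := Scheme.Modules.pullback j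
  have hJT : (T.map J).Exact := hT.exact.map_of_mono_of_preservesKernel J inferInstance inferInstance
  have hw₁ : (J.map T.f ≫ e₂.hom) ≫ S.g = 0 := by
    rw [Category.assoc, ← hc, ← Category.assoc, ← J.map_comp, T.zero, J.map_zero, Limits.zero_comp]
  have hw₂ : (S.f ≫ e₂.inv) ≫ (T.map J).g = 0 := by
    rw [← cancel_mono e₃.hom, Limits.zero_comp]
    show ((S.f ≫ e₂.inv) ≫ J.map q) ≫ e₃.hom = 0
    rw [Category.assoc, hc, Category.assoc, e₂.inv_hom_id_assoc, S.zero]
  haveI : Mono (J.map T.f) := inferInstance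
  haveI : Mono (T.map J).f := inferInstanceAs (Mono (J.map T.f))
  have l₁ := ShortComplex.Exact.lift_f hS.exact _ hw₁
  have l₂ : hJT.lift _ hw₂ ≫ J.map T.f = S.f ≫ e₂.inv := ShortComplex.Exact.lift_f hJT _ hw₂
  let e₁ : J.obj T.X₁ ≅ S.X₁ :=
    { hom := hS.exact.lift _ hw₁
      inv := hJT.lift _ hw₂
      hom_inv_id := by
        refine (cancel_mono (J.map T.f)).1 ?_
        rw [Category.assoc, l₂, ← Category.assoc, l₁, Category.assoc, Iso.hom_inv_id, Category.id_comp]
        exact Category.comp_id _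
      inv_hom_id := by
        rw [← cancel_mono S.f, Category.assoc, l₁, ← Category.assoc, l₂, Category.assoc, Iso.inv_hom_id,
          Category.id_comp]
        exact Category.comp_id _ }
  exact ⟨T, hT, Groth.Agent.KoszPn17.isFinLocFree_kernel q hA hB, hA, hB, e₁, e₂, e₃, l₁.symm, hc⟩

end Groth.Agent.S19347

namespace Groth.Agent.S19347

open AlgebraicGeometry CategoryTheory in
/-- Let k be a field, X a separated k-scheme of finite type and 0 → F₁ → F₂ → F₃ → 0 a short exact
sequence of finite locally free O_X-modules. Then there are an open immersion j of X, over k, into a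
scheme proper over k, such that the complement of the image of j is the support of an effective
Cartier divisor (a quasi-coherent ideal sheaf which near every point is generated on some affine
open by a single nonzerodivisor), and a short exact sequence 0 → G₁ → G₂ → G₃ → 0 of finite locally
free modules on that scheme whose pullback along j is isomorphic to the given sequence (isomorphisms
on the three terms commuting with the maps). (In the source, compactifications have divisor boundary
by a standing convention, so the divisor clause is part of the published statement, although the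
published proof does not re-verify it for the compactification it constructs. The source assumes k
of positive characteristic; this plays no role in the statement or its proof.) -/
theorem result (k : Type u) [Field k]
    (X : Scheme.{u}) (f : X ⟶ Spec (CommRingCat.of k)) [IsSeparated f] [QuasiCompact f] [LocallyOfFiniteType f]
    (S : ShortComplex X.Modules) (hS : S.ShortExact)
    (h₁ : FlatMod.IsFinLocFree S.X₁) (h₂ : FlatMod.IsFinLocFree S.X₂) (h₃ : FlatMod.IsFinLocFree S.X₃) :
    ∃ (Xb : Scheme.{u}) (j : X ⟶ Xb) (g : Xb ⟶ Spec (CommRingCat.of k)) (E : Xb.IdealSheafData),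
      IsOpenImmersion j ∧ IsProper g ∧ j ≫ g = f ∧
      BlowUp.IsEffCartierIdeal E ∧ (E.support : Set Xb) = (Set.range j.base)ᶜ ∧
      ∃ (T : ShortComplex Xb.Modules), T.ShortExact ∧
        FlatMod.IsFinLocFree T.X₁ ∧ FlatMod.IsFinLocFree T.X₂ ∧ FlatMod.IsFinLocFree T.X₃ ∧
        ∃ (e₁ : (Scheme.Modules.pullback j).obj T.X₁ ≅ S.X₁) (e₂ : (Scheme.Modules.pullback j).obj T.X₂ ≅ S.X₂)
          (e₃ : (Scheme.Modules.pullback j).obj T.X₃ ≅ S.X₃),
          (Scheme.Modules.pullback j).map T.f ≫ e₂.hom = e₁.hom ≫ S.f ∧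
          (Scheme.Modules.pullback j).map T.g ≫ e₃.hom = e₂.hom ≫ S.g := by
  obtain ⟨Y, k, g₀, hk, hkc, -, hg₀, hkg, hext⟩ :=
    Groth.Agent.S17883.result f (fun _ : Unit => S.X₂) (fun _ => h₂)
  obtain ⟨G₀, hG₀, ⟨θ⟩⟩ := hext ()
  haveI : CompactSpace Y := QuasiCompact.compactSpace_of_compactSpace g₀
  haveI : IsLocallyNoetherian Y := LocallyOfFiniteType.isLocallyNoetherian g₀
  haveI : AlgebraicGeometry.IsNoetherian Y := {}
  haveI : QuasiSeparated k := inferInstance
  haveI hG₀q : Coh.IsQCoh G₀ := Groth.Agent.DCat.PullPerf.isQCoh_of_finLocFree hG₀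
  haveI hS₃q : Coh.IsQCoh S.X₃ := Groth.Agent.DCat.PullPerf.isQCoh_of_finLocFree h₃
  haveI := hS.mono_f
  haveI := hS.epi_g
  haveI hG₀fp : SheafOfModules.IsFinitePresentation (R := Y.ringCatSheaf) G₀ :=
    Groth.Agent.Props12.isFP_of_isFinLocFree G₀ hG₀
  have hG₀ft : CohB1.IsFT G₀ := inferInstanceAs (SheafOfModules.IsFiniteType (R := Y.ringCatSheaf) G₀)
  -- the coherent quotient
  let R := Scheme.Modules.restrictFunctor k
  let adj := Scheme.Modules.restrictAdjunction k
  let θR : R.obj G₀ ≅ S.X₂ := (Scheme.Modules.restrictFunctorIsoPullback k).app G₀ ≪≫ θ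
  let v : G₀ ⟶ (Scheme.Modules.pushforward k).obj S.X₃ := adj.homEquiv _ _ (θR.hom ≫ S.g)
  haveI hPq : Coh.IsQCoh ((Scheme.Modules.pushforward k).obj S.X₃) := Groth.Agent.Coherent.isQCoh_push k S.X₃
  let N := Abelian.image v
  let fact : G₀ ⟶ N := Abelian.factorThruImage v
  haveI : Coh.IsQCoh N := Groth.Agent.Coherent.isQCoh_image v
  have hN : CohB1.IsFT N := Groth.Agent.Coherent.isFT_of_epi fact hG₀ft
  let ν : R.obj N ⟶ S.X₃ := R.map (Abelian.image.ι v) ≫ adj.counit.app S.X₃
  haveI := Groth.Agent.DCat.PullPerf.preservesFiniteLimits_restrict k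
  haveI : Mono ν := inferInstance
  have hν : R.map fact ≫ ν = θR.hom ≫ S.g := by
    have := (adj.homEquiv _ _).symm_apply_apply (θR.hom ≫ S.g)
    rw [Adjunction.homEquiv_counit] at this
    simp only [ν, fact, ← Category.assoc, ← Functor.map_comp, Abelian.image.fac]
    exact this
  haveI : Epi ν := by
    haveI : Epi (R.map fact ≫ ν) := by rw [hν]; infer_instance
    exact epi_of_epi (R.map fact) ν
  haveI : IsIso ν := isIso_of_mono_of_epi ν
  -- make the quotient locally free
  let U := k.opensRange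
  let φ := k.isoOpensRange
  have hUι : U.ι = φ.inv ≫ k := (Scheme.Hom.isoOpensRange_inv_comp k).symm
  let eN : N.restrict U.ι ≅ (Scheme.Modules.pullback φ.inv).obj S.X₃ :=
    (Scheme.Modules.restrictFunctorCongr hUι ≪≫ Scheme.Modules.restrictFunctorComp φ.inv k).app N ≪≫
      (Scheme.Modules.restrictFunctor φ.inv).mapIso (asIso ν) ≪≫
      (Scheme.Modules.restrictFunctorIsoPullback φ.inv).app S.X₃
  obtain ⟨I, Y', b, hb, hI, -, G₃, π, hG₃, hπ, hπi⟩ := Groth.Agent.FlatMor12.exists_blowUp_finLocFree_quotient U N hN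
    _ (Groth.Agent.FlatMorAdm.isFinLocFree_pullback φ.inv h₃) eN
  haveI : IsProper b := Groth.Agent.BlowUpLib.isProper_of_isBlowUp hb hI.1
  haveI : CompactSpace Y' := QuasiCompact.compactSpace_of_compactSpace b
  haveI : IsLocallyNoetherian Y' := LocallyOfFiniteType.isLocallyNoetherian b
  haveI := Groth.Agent.ProjLib.isIso_morphismRestrict hb U hI.2
  let c : X ⟶ (b ⁻¹ᵁ U : Y'.Opens) := φ.hom ≫ inv (b ∣_ U)
  let k' : X ⟶ Y' := c ≫ (b ⁻¹ᵁ U).ι
  have hk'b : k' ≫ b = k := by
    simp only [k', c, Category.assoc]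
    rw [← morphismRestrict_ι, IsIso.inv_hom_id_assoc, Scheme.Hom.isoOpensRange_hom_ι]
  obtain ⟨Xb, b₂, j, E, hb₂, hj, hjb, hE, hEs⟩ := Groth.Agent.FlatMor12.exists_boundary_divisor k'
  have hjB : j ≫ b₂ ≫ b = k := by rw [reassoc_of% hjb, hk'b]
  have hgf : j ≫ (b₂ ≫ b ≫ g₀) = f := by
    rw [← hkg, ← hjB]
    simp only [Category.assoc]
  -- the short exact sequence
  obtain ⟨q, hqdef⟩ : ∃ q : (Scheme.Modules.pullback (b₂ ≫ b)).obj G₀ ⟶ (Scheme.Modules.pullback b₂).obj G₃,
      q = (Scheme.Modules.pullback (b₂ ≫ b)).map fact ≫ (Scheme.Modules.pullbackComp b₂ b).inv.app N ≫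
        (Scheme.Modules.pullback b₂).map π := ⟨_, rfl⟩
  haveI : Epi ((Scheme.Modules.pullback b₂).map π) := inferInstance
  haveI : Epi ((Scheme.Modules.pullbackComp b₂ b).inv.app N) := inferInstance
  haveI : Epi ((Scheme.Modules.pullback (b₂ ≫ b)).map fact) := inferInstance
  haveI : Epi q := by rw [hqdef]; exact epi_comp' inferInstance (epi_comp' inferInstance inferInstance)
  -- restriction to `X`
  let J := Scheme.Modules.pullback j
  let η : Scheme.Modules.pullback (b₂ ≫ b) ⋙ J ≅ R :=
    Scheme.Modules.pullbackComp j (b₂ ≫ b) ≪≫ Scheme.Modules.pullbackCongr hjB ≪≫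
      (Scheme.Modules.restrictFunctorIsoPullback k).symm
  haveI hiπ : IsIso (J.map ((Scheme.Modules.pullback b₂).map π)) := by
    haveI : IsIso ((Scheme.Modules.pullback (b ⁻¹ᵁ U).ι).map π) :=
      (NatIso.isIso_map_iff (Scheme.Modules.restrictFunctorIsoPullback (b ⁻¹ᵁ U).ι) π).1 hπi
    have e : Scheme.Modules.pullback b₂ ⋙ J ≅
        Scheme.Modules.pullback (b ⁻¹ᵁ U).ι ⋙ Scheme.Modules.pullback c :=
      Scheme.Modules.pullbackComp j b₂ ≪≫ Scheme.Modules.pullbackCongr hjb ≪≫
        (Scheme.Modules.pullbackComp c (b ⁻¹ᵁ U).ι).symm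
    show IsIso ((Scheme.Modules.pullback b₂ ⋙ J).map π)
    refine (NatIso.isIso_map_iff e π).2 ?_
    show IsIso ((Scheme.Modules.pullback c).map ((Scheme.Modules.pullback (b ⁻¹ᵁ U).ι).map π))
    infer_instance
  let e₀ := asIso (J.map ((Scheme.Modules.pullback b₂).map π))
  let e₄ := J.mapIso ((Scheme.Modules.pullbackComp b₂ b).app N)
  let e₃ : J.obj ((Scheme.Modules.pullback b₂).obj G₃) ≅ S.X₃ :=
    e₀.symm ≪≫ e₄ ≪≫ η.app N ≪≫ asIso ν
  have hcg : J.map q ≫ e₃.hom = (η.app G₀ ≪≫ θR).hom ≫ S.g := by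
    simp only [e₃, e₀, e₄, hqdef, Functor.map_comp, Iso.trans_hom, Iso.symm_hom, asIso_hom, asIso_inv,
      Functor.mapIso_hom, Iso.app_hom, Category.assoc, IsIso.hom_inv_id_assoc]
    rw [← hν]
    have e' : J.map ((Scheme.Modules.pullbackComp b₂ b).inv.app N) ≫
        J.map ((Scheme.Modules.pullbackComp b₂ b).hom.app N) = 𝟙 _ :=
      (J.mapIso ((Scheme.Modules.pullbackComp b₂ b).app N)).inv_hom_id
    refine (congrArg (J.map ((Scheme.Modules.pullback (b₂ ≫ b)).map fact) ≫ ·)
      (((Category.assoc _ _ _).symm.trans (congrArg (fun m => m ≫ η.hom.app N ≫ ν) e')).trans (Category.id_comp _))).trans ?_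
    exact η.hom.naturality_assoc fact ν
  exact ⟨Xb, j, b₂ ≫ b ≫ g₀, E, hj, inferInstance, hgf, hE, hEs, exists_extension j hS q
    (Groth.Agent.FlatMorAdm.isFinLocFree_pullback (b₂ ≫ b) hG₀)
    (Groth.Agent.FlatMorAdm.isFinLocFree_pullback b₂ hG₃) (η.app G₀ ≪≫ θR) e₃ hcg⟩

end Groth.Agent.S19347
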