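import Groth.Statements.S19348
import Mathlib

set_option autoImplicit false
universe u
open RigCh

namespace Groth.Agent.S19348


/-- Let p be a prime and m a natural number, P a commutative ring complete and separated for the p-adic
topology, and I an ideal of P with a divided power structure of level m, that is a sub-ideal J of I
endowed with divided powers such that x ^ (p ^ m) and p * x lie in J for all x in I. Then an element
of P whose class in P / I is invertible is invertible in P. (The source states this for a lift of a
unit to the p-adically completed level-m divided power envelope of a closed immersion; the statement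
here keeps exactly what its argument uses: completeness for p and the level-m divided powers on the
kernel.) -/
theorem result (p : ℕ) [Fact p.Prime] (m : ℕ)
    (P : Type u) [CommRing P] [IsAdicComplete (Ideal.span {(p : P)}) P]
    (I J : Ideal P) (hJ : DividedPowers J) (hJI : J ≤ I)
    (hpow : ∀ x ∈ I, x ^ (p ^ m) ∈ J) (hmul : ∀ x ∈ I, (p : P) * x ∈ J)
    (u : P) (hu : IsUnit (Ideal.Quotient.mk I u)) : IsUnit u := by
  have hp := (Fact.out : p.Prime)
  have hjac := IsAdicComplete.le_jacobson_bot (Ideal.span {(p : P)})
  have hI : I ≤ (⊥ : Ideal P).jacobson := by
    intro x hx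
    have h1 : (x ^ p ^ m) ^ p ∈ Ideal.span {(p : P)} := by
      rw [← hJ.factorial_mul_dpow_eq_pow (hpow x hx) (n := p)]
      apply Ideal.mul_mem_right
      rw [Ideal.mem_span_singleton]
      exact Nat.cast_dvd_cast (Nat.dvd_factorial hp.pos le_rfl)
    rw [← pow_mul] at h1
    exact (Ideal.isRadical_jacobson (I := (⊥ : Ideal P))) ⟨_, hjac h1⟩
  exact isLocalHom_of_le_jacobson_bot I hI |>.map_nonunit u hu

end Groth.Agent.S19348
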