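import Groth.Statements.S19349
import Groth.Agent.FlatMorFlatten.Scheme
import Groth.Agent.ModPairLib.EffCartier
import Groth.Agent.Coherent.CohOps
import Groth.Agent.PrinLib.PullbackFT
-- import your own Groth.Agent.* helpers here

set_option autoImplicit false
set_option backward.isDefEq.respectTransparency false
set_option backward.isDefEq.respectTransparency.types false
universe u
open RigCh

namespace Groth.Agent.S19349

open AlgebraicGeometry CategoryTheory in
/-- Let X be a separated scheme of finite type over a field k, I a quasi-coherent ideal sheaf on X, b :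
X' → X a blowing up of X in I and F a coherent O_X-module. Then any strict transform G of F along b
(an epimorphism from the pullback of F onto G whose kernel consists, affine-locally, of the sections
annihilated by a power of the exceptional ideal) is a coherent module on X': quasi-coherent of
finite type, X' being again of finite type over k. (The source assumes k of positive characteristic;
this plays no role here.) -/
theorem result (k : Type u) [Field k]
    (X : Scheme.{u}) (f : X ⟶ Spec (CommRingCat.of k)) [IsSeparated f] [QuasiCompact f] [LocallyOfFiniteType f]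
    (I : X.IdealSheafData) {X' : Scheme.{u}} (b : X' ⟶ X) (hb : BlowUp.IsBlowUp b I)
    (F : X.Modules) (hF : Coh.IsCoh F) (G : X'.Modules) (π : (Scheme.Modules.pullback b).obj F ⟶ G)
    (hG : BlowUp.IsStrictTransform b I F G π) : Coh.IsCoh G := by
  haveI : Epi π := hG.1
  haveI : Coh.IsQCoh F := hF.1
  obtain ⟨G₀, π₀, hπ₀, hG₀⟩ := Groth.Agent.FlatMorFlatten.exists_isStrictTransform b I F
    (Groth.Agent.ModPairLib.isFiniteType_of_effCartier hb.1)
  obtain ⟨e⟩ := Groth.Agent.FlatMorFlatten.nonempty_iso_strictTransform hG hπ₀ fun y => by
    obtain ⟨U, hU, d, -, hd⟩ := hb.1 y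
    exact ⟨U, hU, d, hd⟩
  exact ⟨Groth.Agent.Coherent.isQCoh_of_iso e, Groth.Agent.Coherent.isFT_of_epi π
    (Groth.Agent.PrinLib.isFT_pullback_of_qcoh b hF.1 hF.2)⟩

end Groth.Agent.S19349
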