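import Groth.Statements.S19350
import Groth.Agent.CAlgH3.StrictFlat
import Groth.Agent.DCat.PullPerf
import Groth.Agent.MeroLib.Torsion
import Groth.Agent.FlatMorAdm.LocFreeApps
-- import your own Groth.Agent.* helpers here

set_option autoImplicit false
set_option backward.isDefEq.respectTransparency false
set_option backward.isDefEq.respectTransparency.types false
universe u
open RigCh

namespace Groth.Agent.S19350

open CategoryTheory AlgebraicGeometry TopologicalSpace in
theorem mono_of_affine {X : Scheme.{u}} {M N : X.Modules} (φ : M ⟶ N)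
    (h : ∀ V : X.affineOpens, Function.Injective (φ.app V.1)) : Mono φ := by
  refine Groth.Agent.MeroLib.mono_of_app_injective φ fun P => (injective_iff_map_eq_zero _).2 fun m hm => ?_
  have hloc : ∀ y : P, ∃ V : X.affineOpens, V.1 ≤ P ∧ y.1 ∈ V.1 := fun y => by
    obtain ⟨V, hV, hy, hVP⟩ := exists_isAffineOpen_mem_and_subset (x := y.1) (U := P) y.2
    exact ⟨⟨V, hV⟩, hVP, hy⟩
  choose V hV hy using hloc
  refine TopCat.Sheaf.eq_of_locally_eq' ⟨M.presheaf, M.isSheaf⟩ (fun y : P => (V y).1) P
    (fun y => homOfLE (hV y)) (fun x hx => Opens.mem_iSup.2 ⟨⟨x, hx⟩, hy ⟨x, hx⟩⟩) _ _ fun y => h (V y) ?_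
  show φ.app (V y).1 (M.presheaf.map (homOfLE (hV y)).op m) = φ.app (V y).1 (M.presheaf.map (homOfLE (hV y)).op 0)
  rw [map_zero (M.presheaf.map (homOfLE (hV y)).op).hom, map_zero]
  exact (ConcreteCategory.congr_hom (φ.mapPresheaf.naturality (homOfLE (hV y)).op) m).trans
    ((congrArg _ hm).trans (map_zero (N.presheaf.map (homOfLE (hV y)).op).hom))

end Groth.Agent.S19350

namespace Groth.Agent.S19350

open AlgebraicGeometry CategoryTheory in
/-- Let X be a separated scheme of finite type over a field k, I a quasi-coherent ideal sheaf on X, b :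
X' → X a blowing up of X in I and F a finite locally free O_X-module. Then for any strict transform
G of F along b (an epimorphism π from the pullback of F onto G whose kernel consists,
affine-locally, of the sections annihilated by a power of the exceptional ideal), π is an
isomorphism and G is finite locally free. (The published statement asserts only that the strict
transform is locally free. The source assumes k of positive characteristic, which plays no role
here.) -/
theorem result (k : Type u) [Field k]
    (X : Scheme.{u}) (f : X ⟶ Spec (CommRingCat.of k)) [IsSeparated f] [QuasiCompact f] [LocallyOfFiniteType f]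
    (I : X.IdealSheafData) {X' : Scheme.{u}} (b : X' ⟶ X) (hb : BlowUp.IsBlowUp b I)
    (F : X.Modules) (hF : FlatMod.IsFinLocFree F) (G : X'.Modules) (π : (Scheme.Modules.pullback b).obj F ⟶ G)
    (hG : BlowUp.IsStrictTransform b I F G π) : IsIso π ∧ FlatMod.IsFinLocFree G := by
  haveI : Epi π := hG.1
  have h1 := Groth.Agent.CAlgH3.StrictFlat.main I b hb F fun s _ => Groth.Agent.DCat.PullPerf.isFlat_of_finLocFree hF s
  haveI : Mono π := mono_of_affine π fun V => (injective_iff_map_eq_zero _).2 fun m hm =>
    (h1.2 V m).2 ((hG.2 V m).1 hm)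
  haveI : IsIso π := isIso_of_mono_of_epi π
  exact ⟨inferInstance, Groth.Agent.FlatMorAdm.isFinLocFree_of_iso (asIso π) (Groth.Agent.FlatMorAdm.isFinLocFree_pullback b hF)⟩

end Groth.Agent.S19350
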