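import Groth.Statements.S19351
import Groth.Agent.FlatMor12.Boundary
import Groth.Agent.S0384
-- import your own Groth.Agent.* helpers here

set_option autoImplicit false
set_option backward.isDefEq.respectTransparency false
set_option backward.isDefEq.respectTransparency.types false
universe u
open RigCh

namespace Groth.Agent.S19351

open AlgebraicGeometry CategoryTheory in
/-- Let φ : X' → X be a morphism of separated schemes of finite type over a field k. Then there are open
immersions j : X → X̄ and j' : X' → X̄' over k into schemes proper over k, whose complements are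
supports of effective Cartier divisors (ideal sheaves locally generated on an affine open by one
nonzerodivisor), together with a proper k-morphism X̄' → X̄ restricting to φ. (Compactifications in
the source are taken with divisor boundary by a standing convention; the second assertion, about
extending a pseudo-divisor, is not included. The source assumes k of positive characteristic; this
plays no role here.) -/
theorem result (k : Type u) [Field k]
    {X X' : Scheme.{u}} (f : X ⟶ Spec (CommRingCat.of k)) [IsSeparated f] [QuasiCompact f] [LocallyOfFiniteType f]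
    (f' : X' ⟶ Spec (CommRingCat.of k)) [IsSeparated f'] [QuasiCompact f'] [LocallyOfFiniteType f']
    (φ : X' ⟶ X) (hφ : φ ≫ f = f') :
    ∃ (Xb Xb' : Scheme.{u}) (j : X ⟶ Xb) (j' : X' ⟶ Xb') (g : Xb ⟶ Spec (CommRingCat.of k))
      (g' : Xb' ⟶ Spec (CommRingCat.of k)) (ψ : Xb' ⟶ Xb) (E : Xb.IdealSheafData) (E' : Xb'.IdealSheafData),
      IsOpenImmersion j ∧ IsOpenImmersion j' ∧ IsProper g ∧ IsProper g' ∧ j ≫ g = f ∧ j' ≫ g' = f' ∧
      IsProper ψ ∧ ψ ≫ g = g' ∧ j' ≫ ψ = φ ≫ j ∧
      BlowUp.IsEffCartierIdeal E ∧ (E.support : Set Xb) = (Set.range j.base)ᶜ ∧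
      BlowUp.IsEffCartierIdeal E' ∧ (E'.support : Set Xb') = (Set.range j'.base)ᶜ := by
  obtain ⟨Y₀, j₀, g₀, hj₀, -, hg₀, hjg₀⟩ := Groth.Agent.S0384.result f
  haveI : IsLocallyNoetherian Y₀ := LocallyOfFiniteType.isLocallyNoetherian g₀
  obtain ⟨Xb, b, j, E, hb, hj, hjb, hE, hEs⟩ := Groth.Agent.FlatMor12.exists_boundary_divisor j₀
  haveI : IsProper (b ≫ g₀) := inferInstance
  have hjg : j ≫ b ≫ g₀ = f := by rw [reassoc_of% hjb, hjg₀]
  haveI : CompactSpace Xb := QuasiCompact.compactSpace_of_compactSpace (b ≫ g₀)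
  haveI : QuasiSeparatedSpace Xb := quasiSeparatedSpace_of_quasiSeparated (b ≫ g₀)
  haveI : IsLocallyNoetherian Xb := LocallyOfFiniteType.isLocallyNoetherian (b ≫ g₀)
  have hφ' : (φ ≫ j) ≫ b ≫ g₀ = f' := by rw [Category.assoc, hjg, hφ]
  haveI : IsSeparated ((φ ≫ j) ≫ b ≫ g₀) := by rw [hφ']; infer_instance
  haveI : IsSeparated (φ ≫ j) := IsSeparated.of_comp (φ ≫ j) (b ≫ g₀)
  haveI : QuasiCompact ((φ ≫ j) ≫ b ≫ g₀) := by rw [hφ']; infer_instance
  haveI : QuasiCompact (φ ≫ j) := QuasiCompact.of_comp (φ ≫ j) (b ≫ g₀)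
  haveI : LocallyOfFiniteType ((φ ≫ j) ≫ b ≫ g₀) := by rw [hφ']; infer_instance
  haveI : LocallyOfFiniteType (φ ≫ j) := locallyOfFiniteType_of_comp (φ ≫ j) (b ≫ g₀)
  obtain ⟨Y₁, j₁, ψ₀, hj₁, -, hψ₀, hjψ₀⟩ := Groth.Agent.S0384.result (φ ≫ j)
  haveI : IsLocallyNoetherian Y₁ := LocallyOfFiniteType.isLocallyNoetherian ψ₀
  obtain ⟨Xb', b', j', E', hb', hj', hjb', hE', hEs'⟩ := Groth.Agent.FlatMor12.exists_boundary_divisor j₁
  refine ⟨Xb, Xb', j, j', b ≫ g₀, (b' ≫ ψ₀) ≫ b ≫ g₀, b' ≫ ψ₀, E, E', hj, hj', inferInstance,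
    inferInstance, hjg, ?_, inferInstance, rfl, ?_, hE, hEs, hE', hEs'⟩
  · rw [Category.assoc, reassoc_of% hjb', reassoc_of% hjψ₀, hjg, hφ]
  · rw [reassoc_of% hjb', hjψ₀]

end Groth.Agent.S19351
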