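import Groth.Statements.S19352
import Groth.Agent.Surf15.Hodge
import Groth.Agent.SerreDual.Projective
import Groth.Agent.CurveRR24.AlgClosed
-- import your own Groth.Agent.* helpers here

set_option autoImplicit false
universe u
open CategoryTheory CategoryTheory.Limits AlgebraicGeometry
open Surf

namespace Groth.Agent.S19352

/-- Let k be an algebraically closed field and X a nonsingular projective surface over k, namely an
integral scheme, smooth over k, of dimension two, given with a closed immersion ι into a projective
space P^n_k over k, and let H = ι^* O(1) be the invertible module of a hyperplane section. If L is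
an invertible O_X-module (the module of a divisor D) with dim_k H^0(X, L) > 1, then (L·H) > 0. Here
(A·B) denotes the intersection number of two invertible modules, the alternating sum χ(O_X) − χ(A) −
χ(B) + χ(A ⊗ B) of Euler characteristics (cohomology in degrees at most two); for two invertible
modules this agrees with the same sum formed from their inverses. -/
theorem result (k : Type u) [Field k] [IsAlgClosed k]
    (X : Scheme.{u}) [X.Over (Spec (CommRingCat.of k))] [AlgebraicGeometry.IsIntegral X]
    [Smooth (X ↘ Spec (CommRingCat.of k))] (hdim : topologicalKrullDim X = 2)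
    (n : ℕ) (ι : X ⟶ CohB1.ProjSpace n k) [IsClosedImmersion ι]
    (hι : ι ≫ CohB1.ProjSpace.toSpec n k = X ↘ Spec (CommRingCat.of k))
    (L : X.Modules) (hL : PicF.IsInvertible L)
    (hsec : 1 < Module.finrank k (Coh.HH X L 0)) :
    0 < FGA.intNum k X 2 ![L, (Scheme.Modules.pullback ι).obj (Twist.twistProjSpace n k 1)] (Coh.structureModule X) := by
  haveI := (Groth.Agent.SerreDual.isProper_and_ample_of_closedImmersion ι hι).1
  have hX : topologicalKrullDim X = ((2 : ℕ) : WithBot ℕ∞) := by rw [hdim]; rfl
  have hH := Groth.Agent.AmpleLib.isAmple_pullback_of_isAffineHom ι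
    (Groth.Agent.SerreDual.isAmple_projSpace_one n k)
  rw [Groth.Agent.Surf15.intNum_eq_B k hX.le hL hH.1]
  haveI : Nontrivial (Coh.HH X L 0) := by
    rcases subsingleton_or_nontrivial (Coh.HH X L 0) with h | h
    · rw [Module.finrank_zero_of_subsingleton] at hsec
      omega
    · exact h
  obtain ⟨s, hs⟩ := Groth.Agent.CurveRR24.exists_ne_zero_of_nontrivial k ‹Nontrivial (Coh.HH X L 0)›
  rcases Groth.Agent.Surf15.B_sec k hX hL hs hH with h | ⟨⟨e⟩⟩
  · exact h
  · exfalso
    rw [Groth.Agent.CurveRR24.finrank_HH_congr k e 0, Groth.Agent.CurveRR24.h0_structure] at hsec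
    omega

end Groth.Agent.S19352
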