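import Groth.Statements.S19356
import Groth.Agent.AbVarLib.PositiveInvolution
open Groth.Agent.AbVarLib

set_option autoImplicit false
universe u
open AbVar

namespace Groth.Agent.S19356

/-- Let R be a finite-dimensional ℚ-algebra with a ℚ-linear involution x ↦ x† (an anti-automorphism of
order two) and a ℚ-linear functional σ with σ(x x†) > 0 for every x ≠ 0; this is the positivity of
the involution, σ being the trace of R over ℚ in the case of the endomorphism algebra of an abelian
variety with a Rosati involution, and the trace on a cohomology group in the case of an algebra of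
correspondences with the adjoint for a Weil form. Let α ∈ R with α α† = q for a rational number q.
Then α† lies in the subalgebra ℚ[α], and for every ℚ-algebra homomorphism ρ : ℚ[α] → ℂ one has ρ(α†)
= the complex conjugate of ρ(α) and |ρ(α)|² = q. (The published statement is for the endomorphism
algebra of an abelian variety with a Rosati involution, with σ its trace over ℚ and q an integer;
the form given here, for an arbitrary ℚ-linear functional σ positive on every x x† with x ≠ 0 and
rational q, is what its proof establishes.) -/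
theorem result (R : Type u) [Ring R] [Algebra ℚ R]
    [Module.Finite ℚ R] [StarRing R] [StarModule ℚ R]
    (σ : R →ₗ[ℚ] ℚ) (hpos : ∀ x : R, x ≠ 0 → 0 < σ (x * star x))
    (α : R) (q : ℚ) (hα : α * star α = algebraMap ℚ R q) :
    ∃ hmem : star α ∈ Algebra.adjoin ℚ ({α} : Set R),
      ∀ ρ : Algebra.adjoin ℚ ({α} : Set R) →ₐ[ℚ] ℂ,
        ρ ⟨star α, hmem⟩ = starRingEnd ℂ (ρ ⟨α, Algebra.self_mem_adjoin_singleton ℚ α⟩) ∧
          ‖ρ ⟨α, Algebra.self_mem_adjoin_singleton ℚ α⟩‖ ^ 2 = (q : ℝ) := by
  set A := Algebra.adjoin ℚ ({α} : Set R)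
  have : Module.Finite ℚ A := FiniteDimensional.finiteDimensional_submodule (Subalgebra.toSubmodule A)
  have hmem : star α ∈ A := by
    rcases eq_or_ne q 0 with rfl | hq
    · have : α = 0 := by
        by_contra hc
        have := hpos α hc
        rw [hα, map_zero, map_zero] at this
        exact this.false
      simp [this]
    · let ψ : A →ₗ[ℚ] A := LinearMap.mulLeft ℚ ⟨α, Algebra.self_mem_adjoin_singleton ℚ α⟩
      have hu : α * ((q⁻¹ : ℚ) • star α) = 1 := by
        rw [mul_smul_comm, hα, Algebra.algebraMap_eq_smul_one, smul_smul, inv_mul_cancel₀ hq, one_smul]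
      have hu' : ((q⁻¹ : ℚ) • star α) * α = 1 := by
        have : IsArtinianRing R := IsArtinianRing.of_finite ℚ R
        exact mul_eq_one_comm.1 hu
      have hinj : Function.Injective ψ := fun a b h => by
        have h' : α * (a : R) = α * b := congrArg Subtype.val h
        have := congrArg (((q⁻¹ : ℚ) • star α) * ·) h'
        simp only [← mul_assoc, hu', one_mul] at this
        exact Subtype.ext this
      obtain ⟨b, hb⟩ := LinearMap.injective_iff_surjective.1 hinj 1
      have hb' : α * (b : R) = 1 := congrArg Subtype.val hb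
      have : (b : R) = (q⁻¹ : ℚ) • star α := (left_inv_eq_right_inv hu' hb').symm
      have h2 : q • (b : R) = star α := by rw [this, smul_smul, mul_inv_cancel₀ hq, one_smul]
      exact h2 ▸ A.smul_mem b.2 q
  refine ⟨hmem, fun ρ => ?_⟩
  obtain ⟨p, hp⟩ := (AlgHom.mem_range _).1 ((Algebra.adjoin_singleton_eq_range_aeval ℚ α).le hmem)
  set αA : A := ⟨α, Algebra.self_mem_adjoin_singleton ℚ α⟩
  set z := ρ αA
  have hz : Polynomial.aeval z (minpoly ℚ α) = 0 := by
    rw [Polynomial.aeval_algHom_apply, show Polynomial.aeval αA (minpoly ℚ α) = 0 from ?_, map_zero]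
    apply Subtype.ext
    rw [Polynomial.aeval_subalgebra_coe, minpoly.aeval]
    rfl
  have hpA : Polynomial.aeval αA p = ⟨star α, hmem⟩ := Subtype.ext (by rw [Polynomial.aeval_subalgebra_coe]; exact hp)
  have hconj : ρ ⟨star α, hmem⟩ = starRingEnd ℂ z := by
    rw [← hpA, ← Polynomial.aeval_algHom_apply]
    exact aeval_eq_conj_of_star_eq_aeval σ hpos α p hp.symm z hz
  refine ⟨hconj, ?_⟩
  have h1 : z * starRingEnd ℂ z = (q : ℂ) := by
    rw [← hconj, ← map_mul, show αA * ⟨star α, hmem⟩ = algebraMap ℚ A q from Subtype.ext hα, AlgHom.commutes]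
    simp
  rw [Complex.mul_conj] at h1
  rw [← Complex.normSq_eq_norm_sq]
  exact Complex.ofReal_injective (by rw [h1]; simp)

end Groth.Agent.S19356
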