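import Groth.Statements.S19359
import Groth.Agent.InstabFanLib.Topo
-- import your own Groth.Agent.* helpers here

set_option autoImplicit false
set_option linter.style.haveILetI false
universe u
open CategoryTheory Opposite Instab
open Instab Instab.Fan

namespace Groth.Agent.S19359

open Groth.Agent.InstabFanLib

set_option backward.isDefEq.respectTransparency.types false

/-- A formal fan G is quasi-separated (the fibre product of any two of its cones is a bounded fan) if
and only if, for every bounded formal fan F, every map of fans F ⟶ G is bounded (its base change
along each cone of G is a bounded fan). -/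
theorem result (G : Fan.{u}) :
    G.IsQuasiSeparated ↔
      ∀ (F : Fan.{u}) (f : F ⟶ G), F.IsBounded → Fan.IsBoundedMap f := by
  refine ⟨fun hG F f hF => isBoundedMap_of_isBounded hG hF f, fun h n₀ n₁ σ₀ σ₁ => ?_⟩
  exact h _ (Fan.coneMap σ₀) (isBounded_representable n₀) n₁ σ₁

end Groth.Agent.S19359
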