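import Groth.Statements.S19362
import Groth.Agent.InstabFanLib.Topo
-- import your own Groth.Agent.* helpers here

set_option autoImplicit false
set_option linter.style.haveILetI false
universe u
open CategoryTheory Opposite Instab
open Instab Instab.Fan

namespace Groth.Agent.S19362

open Groth.Agent.InstabFanLib

set_option backward.isDefEq.respectTransparency.types false

/-- Let f : F ⟶ G be a map of formal fans. (1) The image of the induced map P F → P G is the image of
the projective realization of the image sub-fan of f. (2) For a map g : G' ⟶ G, the image of the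
projective realization of the base change F ×_G G' ⟶ G' is the preimage, under P G' → P G, of the
image of P F → P G. -/
theorem result {F G G' : Fan.{u}} (f : F ⟶ G) (g : G' ⟶ G) :
    Set.range (Fan.P.map f) = Set.range (Fan.P.map (Subfunctor.range f).ι) ∧
    Set.range (Fan.P.map (Limits.pullback.snd f g)) = Fan.P.map g ⁻¹' Set.range (Fan.P.map f) := by
  constructor
  · have e : Subfunctor.toRange f ≫ (Subfunctor.range f).ι = f := Subfunctor.toRange_ι f
    have hs : Function.Surjective (Fan.P.map (Subfunctor.toRange f)) :=
      map_surjective _ fun n => fun y => by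
        obtain ⟨y, x, rfl⟩ := y
        exact ⟨x, rfl⟩
    conv_lhs => rw [← e]
    ext y
    constructor
    · rintro ⟨x, rfl⟩; exact ⟨_, (map_comp_apply _ _ x).symm⟩
    · rintro ⟨x, rfl⟩
      obtain ⟨x, rfl⟩ := hs x
      exact ⟨x, map_comp_apply _ _ x⟩
  · ext y
    constructor
    · rintro ⟨x, rfl⟩
      refine ⟨Fan.P.map (Limits.pullback.fst f g) x, ?_⟩
      rw [← map_comp_apply, ← map_comp_apply, Limits.pullback.condition]
    · rintro ⟨x, hx⟩
      obtain ⟨z, -, hz⟩ := exists_pullback_point f g x y hx
      exact ⟨z, hz⟩

end Groth.Agent.S19362
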