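import Groth.Statements.S19373
import Groth.Agent.InstabFanLib.Topo
-- import your own Groth.Agent.* helpers here

set_option autoImplicit false
set_option linter.style.haveILetI false
universe u
open CategoryTheory Opposite Instab
open Instab Instab.Fan

namespace Groth.Agent.S19373

open Groth.Agent.InstabFanLib

set_option backward.isDefEq.respectTransparency.types false

/-- Let G be a quasi-separated formal fan, ξ an n-cone and ξ' an n'-cone of G. The pairs of points of
the rational simplices of ξ and ξ' with the same image in P G form a finite union of diagonally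
embedded common rational sub-simplices: there is a finite set of pairs of cone morphisms φ : [k] ⟶
[n], φ' : [k] ⟶ [n'] with G(φ) ξ = G(φ') ξ' such that nonzero nonnegative vectors v of ℝ^n and w of
ℝ^n' give the same point of P G if and only if, for one of these pairs and some nonzero nonnegative
y in ℝ^k, v is a positive multiple of φ y and w is a positive multiple of φ' y. (The assertion that
the image of finitely many rational simplices carries the quotient topology is not stated.) -/
theorem result (G : Fan.{u}) (hG : G.IsQuasiSeparated)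
    {n n' : ICone} (ξ : G.obj (op n)) (ξ' : G.obj (op n')) :
    ∃ s : Finset (Σ k : ICone, (k ⟶ n) × (k ⟶ n')),
      (∀ e ∈ s, G.map e.2.1.op ξ = G.map e.2.2.op ξ') ∧
      ∀ (v : Fan.Orth n) (w : Fan.Orth n'), Fan.P.mk ξ v = Fan.P.mk ξ' w ↔
        ∃ e ∈ s, ∃ (y : Fan.Orth e.1) (c c' : ℝ), 0 < c ∧ 0 < c' ∧
          v.1 = c • e.2.1.realMap y.1 ∧ w.1 = c' • e.2.2.realMap y.1 := by
  classical
  obtain ⟨t, ht, hcov⟩ := exists_cover (hG n n' ξ ξ')
  let E : (Σ l : ICone, (uliftYoneda.{u}.obj n).obj (op l) × (l ⟶ n')) → Σ k : ICone, (k ⟶ n) × (k ⟶ n') :=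
    fun e => ⟨e.1, e.2.1.down, e.2.2⟩
  refine ⟨t.image E, fun e he => ?_, fun v w => ⟨fun h => ?_, ?_⟩⟩
  · obtain ⟨e, he', rfl⟩ := Finset.mem_image.mp he
    exact (coneMap_app ξ e.2.1.down).symm.trans (ht e he')
  · obtain ⟨k, φ, φ', y, c, c', hξ, hc, hc', hv, hw⟩ := (mk_eq_mk_iff _ _ _ _).mp h
    obtain ⟨e, he, z, d, hd, hy, hz⟩ := hcov k (ULift.up φ) φ' y ((coneMap_app ξ φ).trans hξ)
    obtain ⟨d', hd', hy'⟩ := ray_eq φ e.2.1.down y z hz
    exact ⟨E e, Finset.mem_image_of_mem E he, z, c * d', c' * d, mul_pos hc hd', mul_pos hc' hd,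
      by rw [hv, hy', smul_smul]; rfl, by rw [hw, hy, smul_smul]; rfl⟩
  · rintro ⟨e, he, y, c, c', hc, hc', hv, hw⟩
    obtain ⟨e, he', rfl⟩ := Finset.mem_image.mp he
    exact (mk_eq_mk_iff _ _ _ _).mpr
      ⟨_, _, _, y, c, c', (coneMap_app ξ e.2.1.down).symm.trans (ht e he'), hc, hc', hv, hw⟩

end Groth.Agent.S19373
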