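import Groth.Statements.S19367
import Groth.Agent.InstabFanLib.Topo
import Groth.Agent.S19373
-- import your own Groth.Agent.* helpers here

set_option autoImplicit false
set_option linter.style.haveILetI false
universe u
open CategoryTheory Opposite Instab
open Instab Instab.Fan

namespace Groth.Agent.S19367

open Groth.Agent.InstabFanLib

set_option backward.isDefEq.respectTransparency.types false

/-- Let ψ : F ⟶ G be a map of formal fans with F quasi-separated. Then injectivity of the induced map P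
F → P G is equivalent to its injectivity on the rational points of P F. -/
theorem result {F G : Fan.{u}} (ψ : F ⟶ G)
    (hF : F.IsQuasiSeparated) :
    Function.Injective (Fan.P.map ψ) ↔
      ∀ x y : Fan.P F, x.IsRational → y.IsRational → Fan.P.map ψ x = Fan.P.map ψ y → x = y := by
  refine ⟨fun h x y _ _ e => h e, fun h p q hpq => ?_⟩
  obtain ⟨n₁, σ₁, v₁, rfl⟩ := exists_mk p
  obtain ⟨n₂, σ₂, v₂, rfl⟩ := exists_mk q
  rw [map_mk, map_mk] at hpq
  obtain ⟨l, φ, φ', y, c, c', hσ, hc, hc', hv₁, hv₂⟩ := (mk_eq_mk_iff _ _ _ _).mp hpq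
  rw [← app_map, ← app_map] at hσ
  rw [← mk_map_smul φ σ₁ y v₁ c hc hv₁, ← mk_map_smul φ' σ₂ y v₂ c' hc' hv₂]
  set a := F.map φ.op σ₁
  set b := F.map φ'.op σ₂
  obtain ⟨s, hs, hiff⟩ := Groth.Agent.S19373.result F hF a b
  let A : (Σ k : ICone, (k ⟶ l) × (k ⟶ l)) → Set (Fan.Orth l) := fun e => omap e.2.1 ''
    {z : Fan.Orth e.1 | ∀ i j, (omap e.2.1 z).1 i * (omap e.2.2 z).1 j = (omap e.2.1 z).1 j * (omap e.2.2 z).1 i}
  have hA : ∀ w : Fan.Orth l, Fan.P.mk a w = Fan.P.mk b w ↔ w ∈ ⋃ e ∈ s, A e := by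
    intro w
    rw [hiff w w]
    simp only [Set.mem_iUnion, exists_prop]
    constructor
    · rintro ⟨e, he, z, t, t', ht, ht', hw, hw'⟩
      refine ⟨e, he, oscale t ht z, fun i j => ?_, Subtype.ext ((map_smul (rl e.2.1) t z.1).trans hw.symm)⟩
      have e1 : (omap e.2.1 (oscale t ht z)).1 = w.1 := (map_smul (rl e.2.1) t z.1).trans hw.symm
      have e2 : (omap e.2.2 (oscale t ht z)).1 = (t / t') • w.1 := by
        rw [hw', smul_smul, div_mul_cancel₀ _ ht'.ne']
        exact map_smul (rl e.2.2) t z.1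
      rw [e1, e2, Pi.smul_apply, Pi.smul_apply, smul_eq_mul, smul_eq_mul]
      ring
    · rintro ⟨e, he, z, hz, rfl⟩
      obtain ⟨j, hj⟩ := Function.ne_iff.mp (omap e.2.2 z).2.2
      obtain ⟨i, hi⟩ := Function.ne_iff.mp (omap e.2.1 z).2.2
      have hQ : 0 < (omap e.2.2 z).1 j := ((omap e.2.2 z).2.1 j).lt_of_ne' hj
      have hP : 0 < (omap e.2.1 z).1 j := ((omap e.2.1 z).2.1 j).lt_of_ne' fun h0 => by
        have := hz i j
        rw [h0, zero_mul] at this
        exact hi ((mul_eq_zero.mp this).resolve_right hj)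
      refine ⟨e, he, z, 1, (omap e.2.1 z).1 j / (omap e.2.2 z).1 j, one_pos, div_pos hP hQ,
        (one_smul ℝ _).symm, funext fun r => ?_⟩
      show (omap e.2.1 z).1 r = (omap e.2.1 z).1 j / (omap e.2.2 z).1 j * (omap e.2.2 z).1 r
      rw [div_mul_eq_mul_div, eq_div_iff hQ.ne']
      exact hz r j
  have hcl : IsClosed {w : Fan.Orth l | Fan.P.mk a w = Fan.P.mk b w} := by
    rw [show {w : Fan.Orth l | Fan.P.mk a w = Fan.P.mk b w} = ⋃ e ∈ s, A e from Set.ext hA]
    refine isClosed_biUnion_finset fun e _ => isClosedMap_omap _ _ ?_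
    simp only [Set.ofPred_forall]
    exact isClosed_iInter fun i => isClosed_iInter fun j => isClosed_eq
      (((continuous_val_apply i).comp (continuous_omap e.2.1)).mul ((continuous_val_apply j).comp (continuous_omap e.2.2)))
      (((continuous_val_apply j).comp (continuous_omap e.2.1)).mul ((continuous_val_apply i).comp (continuous_omap e.2.2)))
  exact mem_of_lattice hcl (fun w hw t ht => by rw [Set.mem_ofPred_eq, mk_oscale, mk_oscale]; exact hw)
    (fun w q hq => h _ _ (isRational_mk a w q hq) (isRational_mk b w q hq) (by rw [map_mk, map_mk, hσ])) y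

end Groth.Agent.S19367
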