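import Groth.Statements.S19368
import Groth.Agent.InstabFanLib.Topo
-- import your own Groth.Agent.* helpers here

set_option autoImplicit false
set_option linter.style.haveILetI false
universe u
open CategoryTheory Opposite Instab
open Instab Instab.Fan

namespace Groth.Agent.S19368

open Groth.Agent.InstabFanLib

set_option backward.isDefEq.respectTransparency.types false

/-- Let F be a formal fan; a subset of P F is realizable when it is the image of the projective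
realization of some sub-fan of F. The intersection of two realizable subsets is realizable, and the
union of an arbitrary family of realizable subsets is realizable. -/
theorem result (F : Fan.{u}) :
    (∀ U V : Set (Fan.P F), Fan.IsRealizable U → Fan.IsRealizable V → Fan.IsRealizable (U ∩ V)) ∧
    ∀ (ι : Type u) (U : ι → Set (Fan.P F)), (∀ i, Fan.IsRealizable (U i)) →
      Fan.IsRealizable (Set.iUnion U) := by
  constructor
  · rintro U V ⟨S, rfl⟩ ⟨T, rfl⟩
    refine ⟨S ⊓ T, Set.ext fun x => ⟨?_, ?_⟩⟩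
    · rintro ⟨⟨a, rfl⟩, ⟨b, hb⟩⟩
      obtain ⟨n, s, v, rfl⟩ := exists_mk a
      obtain ⟨m, t, w, rfl⟩ := exists_mk b
      rw [map_mk, map_mk] at hb
      obtain ⟨l, φ, φ', y, c, c', he, hc, hc', hw, hv⟩ := (mk_eq_mk_iff _ _ _ _).mp hb
      have hmem : F.map φ'.op (S.ι.app _ s) ∈ (S ⊓ T).obj (op l) :=
        ⟨S.map φ'.op s.2, by rw [← he]; exact T.map φ.op t.2⟩
      exact ⟨Fan.P.mk ⟨_, hmem⟩ y, mk_map_smul φ' (S.ι.app _ s) y v c' hc' hv⟩
    · rintro ⟨a, rfl⟩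
      obtain ⟨n, s, v, rfl⟩ := exists_mk a
      exact ⟨⟨Fan.P.mk ⟨s.1, s.2.1⟩ v, rfl⟩, ⟨Fan.P.mk ⟨s.1, s.2.2⟩ v, rfl⟩⟩
  · intro ι U hU
    choose S hS using hU
    refine ⟨⨆ i, S i, Set.ext fun x => ⟨?_, ?_⟩⟩
    · intro hx
      obtain ⟨i, hi⟩ := Set.mem_iUnion.mp hx
      rw [hS i] at hi
      obtain ⟨a, rfl⟩ := hi
      obtain ⟨n, s, v, rfl⟩ := exists_mk a
      exact ⟨Fan.P.mk ⟨s.1, by rw [Subfunctor.iSup_obj]; exact Set.mem_iUnion.mpr ⟨i, s.2⟩⟩ v, rfl⟩
    · rintro ⟨a, rfl⟩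
      obtain ⟨n, ⟨s, hs⟩, v, rfl⟩ := exists_mk a
      obtain ⟨i, hi⟩ := Set.mem_iUnion.mp (by rwa [Subfunctor.iSup_obj] at hs)
      exact Set.mem_iUnion.mpr ⟨i, hS i ▸ ⟨Fan.P.mk ⟨s, hi⟩ v, rfl⟩⟩

end Groth.Agent.S19368
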