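import Groth.Statements.S19369
import Groth.Agent.InstabFanLib.Topo
-- import your own Groth.Agent.* helpers here

set_option autoImplicit false
set_option linter.style.haveILetI false
universe u
open CategoryTheory Opposite Instab
open Instab Instab.Fan

namespace Groth.Agent.S19369

open Groth.Agent.InstabFanLib

set_option backward.isDefEq.respectTransparency.types false

/-- Let F be a quasi-separated formal fan and let (x i) be a sequence in P F converging to a point x.
Then there are an n-cone σ of F and a subsequence of (x i) whose terms lift to nonzero nonnegative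
vectors of ℝ^n, mapping to them under the rational simplex of σ, such that the lifts converge to a
vector that lifts x. -/
theorem result (F : Fan.{u}) (hF : F.IsQuasiSeparated)
    (x : ℕ → Fan.P F) (x₀ : Fan.P F) (hx : Filter.Tendsto x Filter.atTop (nhds x₀)) :
    ∃ (n : ICone) (σ : F.obj (op n)) (r : ℕ → ℕ) (v : ℕ → Fan.Orth n) (v₀ : Fan.Orth n),
      StrictMono r ∧ (∀ j, Fan.P.mk σ (v j) = x (r j)) ∧ Fan.P.mk σ v₀ = x₀ ∧
        Filter.Tendsto v Filter.atTop (nhds v₀) := by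
  classical
  obtain ⟨n₀, σ₀, w₀, hw₀⟩ := exists_mk x₀
  by_cases heq : ∃ᶠ j in Filter.atTop, x j = x₀
  · obtain ⟨r, hr, hr'⟩ := Filter.extraction_of_frequently_atTop heq
    exact ⟨n₀, σ₀, r, fun _ => w₀, w₀, hr, fun j => by rw [hr', hw₀], hw₀, tendsto_const_nhds⟩
  rw [Filter.not_frequently] at heq
  have hcell : ∃ (n : ICone) (σ : F.obj (op n)), ∃ᶠ j in Filter.atTop, x j ∈ Fan.P.cell σ ∧ x j ≠ x₀ := by
    by_contra! hcon
    simp only [Filter.eventually_atTop] at hcon
    obtain ⟨N₀, hN₀⟩ := Filter.eventually_atTop.mp heq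
    have hA : IsClosed (x '' Set.Ici N₀) := by
      rw [isClosed_iff]
      intro n σ
      obtain ⟨N, hN⟩ := hcon n σ
      have e : Fan.P.mk σ ⁻¹' (x '' Set.Ici N₀) = ⋃ j ∈ Finset.Ico N₀ N, Fan.P.mk σ ⁻¹' {x j} := by
        ext v
        simp only [Set.mem_preimage, Set.mem_image, Set.mem_Ici, Set.mem_iUnion, Finset.mem_Ico, Set.mem_singleton_iff,
          exists_prop]
        refine ⟨fun ⟨j, hj, hjv⟩ => ⟨j, ⟨hj, lt_of_not_ge fun h => hN₀ j hj (hN j h ⟨v, hjv.symm⟩)⟩, hjv.symm⟩,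
          fun ⟨j, hj, hjv⟩ => ⟨j, hj.1, hjv.symm⟩⟩
      rw [e]
      exact isClosed_biUnion_finset fun j _ => (isClosed_singleton_of_qs hF (x j)).preimage (continuous_mk σ)
    have hmem := hx.eventually (hA.isOpen_compl.mem_nhds (show x₀ ∈ (x '' Set.Ici N₀)ᶜ from
      fun ⟨j, hj, hj'⟩ => hN₀ j hj hj'))
    obtain ⟨j, hj1, hj2⟩ := (hmem.and (Filter.eventually_ge_atTop N₀)).exists
    exact hj1 ⟨j, hj2, rfl⟩
  obtain ⟨n, σ, hσ⟩ := hcell
  obtain ⟨r, hr, hr'⟩ := Filter.extraction_of_frequently_atTop hσ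
  choose hv hne using hr'
  choose v hv using hv
  -- normalised lifts
  have hsum : ∀ w : Fan.Orth n, 0 < ∑ i, w.1 i := fun w => by
    obtain ⟨i, hi⟩ := Function.ne_iff.mp w.2.2
    exact Finset.sum_pos' (fun j _ => w.2.1 j) ⟨i, Finset.mem_univ _, (w.2.1 i).lt_of_ne' hi⟩
  let nf : Fan.Orth n → Fan.Orth n := fun w => oscale (∑ i, w.1 i)⁻¹ (inv_pos.mpr (hsum w)) w
  have hnf : Continuous nf := by
    refine Continuous.subtype_mk ?_ _
    exact ((continuous_finsetSum _ fun i _ => continuous_val_apply i).inv₀ fun w => (hsum w).ne').smul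
      continuous_subtype_val
  let K : Set (Fin n.dim → ℝ) := Set.Icc 0 1 ∩ {w | ∑ i, w i = 1}
  have hK : IsCompact K :=
    isCompact_Icc.inter_right (isClosed_eq (continuous_finsetSum _ fun i _ => continuous_apply i) continuous_const)
  have hnfK : ∀ w, (nf w).1 ∈ K := fun w => by
    have h1 : ∑ i, (nf w).1 i = 1 := by
      simp only [nf, oscale, Pi.smul_apply, smul_eq_mul, ← Finset.mul_sum, inv_mul_cancel₀ (hsum w).ne']
    exact ⟨⟨(nf w).2.1, fun i => (Finset.single_le_sum (fun j _ => (nf w).2.1 j) (Finset.mem_univ i)).trans_eq h1⟩, h1⟩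
  obtain ⟨z, hz, q, hq, hlim⟩ := hK.tendsto_subseq (x := fun j => (nf (v j)).1) fun j => hnfK _
  let v₀ : Fan.Orth n := ⟨z, hz.1.1, fun h0 => by simpa [h0] using hz.2⟩
  have hlim' : Filter.Tendsto (fun j => nf (v (q j))) Filter.atTop (nhds v₀) := tendsto_subtype_rng.mpr hlim
  have hx' : Filter.Tendsto (fun j => x (r (q j))) Filter.atTop (nhds x₀) :=
    hx.comp ((hr.comp hq).tendsto_atTop)
  refine ⟨n, σ, r ∘ q, fun j => nf (v (q j)), v₀, hr.comp hq, fun j => (mk_oscale σ _ _ _).trans (hv (q j)), ?_, hlim'⟩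
  by_contra hne₀
  haveI : T2Space (Fan.Orth n) := inferInstanceAs (T2Space {v : Fin n.dim → ℝ // (∀ i, 0 ≤ v i) ∧ v ≠ 0})
  have hC : IsClosed (nf ⁻¹' (insert v₀ (Set.range fun j => nf (v (q j))))) :=
    (hlim'.isCompact_insert_range.isClosed).preimage hnf
  have hcone : ∀ w ∈ nf ⁻¹' (insert v₀ (Set.range fun j => nf (v (q j)))), ∀ (c : ℝ) (hc : 0 < c),
      oscale c hc w ∈ nf ⁻¹' (insert v₀ (Set.range fun j => nf (v (q j)))) := fun w hw c hc => by
    have : nf (oscale c hc w) = nf w := Subtype.ext (by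
      simp only [nf, oscale, Pi.smul_apply, smul_eq_mul, ← Finset.mul_sum, smul_smul, mul_inv, mul_assoc]
      congr 1
      field_simp)
    rwa [Set.mem_preimage, this]
  have hcl := isClosed_cell hF σ _ hC hcone
  have hidem : ∀ w, nf (nf w) = nf w := fun w => Subtype.ext (by
    show (∑ i, (nf w).1 i)⁻¹ • (nf w).1 = (nf w).1
    rw [(hnfK w).2, inv_one, one_smul])
  have hmem : x₀ ∈ Fan.P.mk σ '' (nf ⁻¹' (insert v₀ (Set.range fun j => nf (v (q j))))) :=
    hcl.mem_of_tendsto hx' (Filter.Eventually.of_forall fun j => ⟨nf (v (q j)),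
      Or.inr ⟨j, (hidem _).symm⟩, (mk_oscale σ _ _ _).trans (hv (q j))⟩)
  obtain ⟨w, hw, hwx⟩ := hmem
  rcases hw with h | ⟨j, hj⟩
  · exact hne₀ (by rw [← h, mk_oscale]; exact hwx)
  · refine hne (q j) ?_
    rw [← hv (q j), ← hwx, ← mk_oscale σ _ (inv_pos.mpr (hsum w)) w]
    show _ = Fan.P.mk σ (nf w)
    rw [← hj, mk_oscale]

end Groth.Agent.S19369
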