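import Mathlib.AlgebraicGeometry.Group.Smooth
import Mathlib.AlgebraicGeometry.Group.Abelian
import Mathlib.AlgebraicGeometry.Morphisms.Separated
import Mathlib.AlgebraicGeometry.Morphisms.Proper
import Mathlib.CategoryTheory.Monoidal.Cartesian.Over
import Mathlib.CategoryTheory.Monoidal.Cartesian.Grp
import Groth.Prelude.Def_Omega2
import Groth.Prelude.Def_Coh
import Mathlib.AlgebraicGeometry.Modules.Sheaf
import Mathlib.AlgebraicGeometry.Morphisms.QuasiSeparated
import Groth.Agent.CohDer1.GroupOmega

set_option autoImplicit false
universe u v
namespace CategoryTheory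
end CategoryTheory
namespace MonoidalCategory
end MonoidalCategory
namespace CartesianMonoidalCategory
end CartesianMonoidalCategory
namespace MonObj
end MonObj
namespace GrpObj
end GrpObj
namespace AlgebraicGeometry
end AlgebraicGeometry
open CategoryTheory MonoidalCategory CartesianMonoidalCategory MonObj GrpObj AlgebraicGeometry
namespace GrpSch
end GrpSch
open GrpSch

namespace Groth.Agent.S1937

/-- Let G be a group scheme over S with structure morphism f and unit section e : S → G. Then Ω_{G/S} ≅
f^* C_{S/G}, the pullback of the conormal sheaf of the immersion e; and when S is the spectrum of a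
field, Ω_{G/S} is a free O_G-module (a coproduct of copies of O_G). Stated for G → S
quasi-separated, where the shared prelude's Ω (conormal sheaf of the diagonal through Mathlib's
kernel ideal sheaf) and conormal sheaf of e are the usual ones. -/
theorem result (S : Scheme.{u}) (G : Over S) [GrpObj G] [QuasiSeparated G.hom] : Nonempty (Omega.sheaf G.hom ≅ (Scheme.Modules.pullback G.hom).obj (Omega.conormal η[G].left)) ∧ ∀ (K : Type u) [Field K], Nonempty (S ≅ Spec (CommRingCat.of K)) → ∃ I : Type u, Nonempty (Omega.sheaf G.hom ≅ ∐ fun _ : I => Coh.structureModule G.left) := by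
  exact ⟨Groth.Agent.CohDer1.GroupOmega.nonempty_omega_iso_pullback_conormal G,
    fun K _ ⟨h⟩ => Groth.Agent.CohDer1.GroupOmega.exists_free G K h⟩

end Groth.Agent.S1937
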