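import Groth.Statements.S19370
import Groth.Agent.InstabFanLib.Convex
-- import your own Groth.Agent.* helpers here

set_option autoImplicit false
set_option linter.style.haveILetI false
universe u v
open CategoryTheory Opposite Instab
open Instab Instab.Fan

namespace Groth.Agent.S19370

open Groth.Agent.InstabFanLib

set_option backward.isDefEq.respectTransparency.types false

/-- Let F be a formal fan, U ⊆ P F a convex subset, Γ a totally ordered set and Φ : U → Γ a
quasi-concave function that is lower semicontinuous in the sense that every sublevel set {Φ ≤ c} is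
closed in U. Then every rational point of U at which Φ has a local maximum is a global maximum of Φ,
and if Φ is strictly quasi-concave there is at most one such rational point. -/
theorem result (F : Fan.{u}) (U : Set (Fan.P F))
    (hU : Fan.IsConvex U) {Γ : Type v} [LinearOrder Γ] (Φ : U → Γ) (hΦ : Fan.IsQuasiConcaveOn U Φ)
    (hlsc : ∀ c : Γ, IsClosed {x : U | Φ x ≤ c}) :
    (∀ x : U, (x : Fan.P F).IsRational → IsLocalMax Φ x → ∀ y : U, Φ y ≤ Φ x) ∧
    (Fan.IsStrictQuasiConcaveOn U Φ → ∀ x y : U, (x : Fan.P F).IsRational → (y : Fan.P F).IsRational →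
      IsLocalMax Φ x → IsLocalMax Φ y → x = y) := by
  have hglob : ∀ x : U, (x : Fan.P F).IsRational → IsLocalMax Φ x → ∀ y : U, Φ y ≤ Φ x := by
    intro x hx hmax y
    by_contra! hlt
    obtain ⟨z, hz, hzr⟩ := exists_rational_mem hU.2.1 (W := {w | Φ w ≤ Φ x}ᶜ) (hlsc _).isOpen_compl y hlt.not_ge
    have hzx : Φ x < Φ z := not_le.mp hz
    obtain ⟨γ, hγ, h0, -, hseg⟩ := exists_segment (Γ := Γ) hU x z hx hzr (fun e => hzx.ne (by rw [e]))
    obtain ⟨t, ht, ht', hle⟩ := exists_small ((hγ.tendsto' 0 x h0).eventually hmax)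
    obtain ⟨h1, h2⟩ := (hseg t ht ht').1 Φ hΦ
    rw [min_eq_left hzx.le] at h1 h2
    exact hzx.ne (h2 (le_antisymm hle h1))
  refine ⟨hglob, fun hs x y hx hy hmx hmy => ?_⟩
  by_contra hne
  have hxy : Φ x = Φ y := le_antisymm (hglob y hy hmy x) (hglob x hx hmx y)
  obtain ⟨γ, hγ, h0, -, hseg⟩ := exists_segment (Γ := Γ) hU x y hx hy hne
  obtain ⟨t, ht, ht', hle⟩ := exists_small ((hγ.tendsto' 0 x h0).eventually hmx)
  have h1 := (hseg t ht ht').2 Φ hs
  rw [← hxy, min_self] at h1
  exact h1.not_ge hle

end Groth.Agent.S19370
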