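import Groth.Statements.S19371
import Groth.Agent.InstabFanLib.Convex
-- import your own Groth.Agent.* helpers here

set_option autoImplicit false
set_option linter.style.haveILetI false
universe u v
open CategoryTheory Opposite Instab
open Instab Instab.Fan

namespace Groth.Agent.S19371

open Groth.Agent.InstabFanLib

set_option backward.isDefEq.respectTransparency.types false

/-- Let F be a quasi-separated formal fan whose projective realization P F is a Hausdorff space, U ⊆ P F
a compact convex subset, Γ a totally ordered set with the order topology, and Φ : U → Γ continuous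
and strictly quasi-concave. Then any two local maxima of Φ coincide, so the global maximum of Φ
(which exists when U is nonempty, by the extreme value property of upper semicontinuous functions on
compact sets) is its unique local maximum. (The published lemma assumes only that F is
quasi-separated and derives the Hausdorff property of P F from that; this derivation does not hold
in general, and the Hausdorff property, which the published proof uses, is assumed here.) -/
theorem result (F : Fan.{u})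
    (hF : F.IsQuasiSeparated) (hT2 : T2Space (Fan.P F)) (U : Set (Fan.P F)) (hUc : IsCompact U)
    (hU : Fan.IsConvex U) {Γ : Type v} [LinearOrder Γ] [TopologicalSpace Γ] [OrderTopology Γ]
    (Φ : U → Γ) (hΦc : Continuous Φ) (hΦ : Fan.IsStrictQuasiConcaveOn U Φ) (x y : U)
    (hx : IsLocalMax Φ x) (hy : IsLocalMax Φ y) : x = y := by
  classical
  wlog hxy : Φ x ≤ Φ y generalizing x y
  · exact (this y x hy hx (le_of_not_ge hxy)).symm
  by_contra hne
  haveI := hT2
  haveI : CompactSpace U := isCompact_iff_compactSpace.mp hUc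
  let A : Set U := {z | Φ x ≤ Φ z}
  have hA : IsClosed A := isClosed_le continuous_const hΦc
  have hA' : IsClosed (Subtype.val '' A : Set (Fan.P F)) := (hA.isCompact.image continuous_subtype_val).isClosed
  by_cases hiso : ∃ W : Set U, IsOpen W ∧ x ∈ W ∧ W ∩ A ⊆ {x}
  · obtain ⟨W, hWo, hxW, hWA⟩ := hiso
    obtain ⟨K, hK, hKcl, hKW⟩ := exists_mem_nhds_isClosed_subset
      ((hWo.inter isOpen_compl_singleton).mem_nhds ⟨hxW, hne⟩ : W ∩ {y}ᶜ ∈ nhds x)
    have hxi : x ∈ interior K := mem_interior_iff_mem_nhds.mpr hK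
    have hFc : IsCompact (K \ interior K) := (hKcl.sdiff isOpen_interior).isCompact
    have hFlt : ∀ w ∈ K \ interior K, Φ w < Φ x := fun w hw => by
      by_contra! h
      have : w = x := hWA ⟨(hKW hw.1).1, h⟩
      exact hw.2 (this ▸ hxi)
    obtain ⟨G, hG, hxG, hyG, hGlt⟩ : ∃ G : Set U, IsOpen G ∧ x ∈ G ∧ y ∈ G ∧
        ∀ w ∈ K \ interior K, ∀ z ∈ G, Φ w < Φ z := by
      rcases (K \ interior K).eq_empty_or_nonempty with h | h
      · exact ⟨Set.univ, isOpen_univ, trivial, trivial, fun w hw => by simp [h] at hw⟩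
      · obtain ⟨w₀, hw₀, hmax⟩ := hFc.exists_isMaxOn h hΦc.continuousOn
        exact ⟨{z | Φ w₀ < Φ z}, isOpen_lt continuous_const hΦc, hFlt w₀ hw₀, (hFlt w₀ hw₀).trans_le hxy,
          fun w hw z hz => lt_of_le_of_lt (hmax hw) hz⟩
    obtain ⟨x', hx', hx'r⟩ := exists_rational_mem hU.2.1 (isOpen_interior.inter hG) x ⟨hxi, hxG⟩
    obtain ⟨y', hy', hy'r⟩ := exists_rational_mem hU.2.1 (hKcl.isOpen_compl.inter hG) y
      ⟨fun h => (hKW h).2 rfl, hyG⟩
    have hne' : x' ≠ y' := fun e => hy'.1 (e ▸ interior_subset hx'.1)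
    obtain ⟨γ, hγ, h0, h1, hseg⟩ := exists_segment (Γ := Γ) hU x' y' hx'r hy'r hne'
    by_cases hex : ∃ t, γ t ∈ K \ interior K
    · obtain ⟨t, ht⟩ := hex
      have ht0 : t ≠ 0 := fun e => ht.2 (by rw [e, h0]; exact hx'.1)
      have ht1 : t ≠ 1 := fun e => hy'.1 (by rw [← h1, ← e]; exact ht.1)
      have hlt := (hseg t (unitInterval.pos_iff_ne_zero.mpr ht0) (unitInterval.lt_one_iff_ne_one.mpr ht1)).2 Φ hΦ
      exact (lt_min (hGlt _ ht x' hx'.2) (hGlt _ ht y' hy'.2)).not_gt hlt
    · push Not at hex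
      have hcov : Set.univ ⊆ γ ⁻¹' interior K ∪ γ ⁻¹' Kᶜ := fun t _ => by
        by_cases h : γ t ∈ K
        · exact Or.inl (by by_contra h'; exact hex t ⟨h, h'⟩)
        · exact Or.inr h
      obtain ⟨t, -, ht, ht'⟩ := isPreconnected_univ _ _ (isOpen_interior.preimage hγ)
        (hKcl.isOpen_compl.preimage hγ) hcov ⟨0, trivial, by rw [Set.mem_preimage, h0]; exact hx'.1⟩
        ⟨1, trivial, by rw [Set.mem_preimage, h1]; exact hy'.1⟩
      exact ht' (interior_subset ht)
  · push Not at hiso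
    have hncl : ¬ IsClosed ((Subtype.val '' A : Set (Fan.P F)) \ {(x : Fan.P F)}) := by
      intro hcl
      refine hiso (Subtype.val ⁻¹' ((Subtype.val '' A) \ {(x : Fan.P F)})ᶜ)
        (hcl.isOpen_compl.preimage continuous_subtype_val) (fun h => h.2 rfl) fun z hz => ?_
      by_contra h
      exact hz.1 ⟨⟨z, hz.2, rfl⟩, fun e => h (Subtype.ext e)⟩
    rw [isClosed_iff] at hncl
    push Not at hncl
    obtain ⟨n, ξ, hξ⟩ := hncl
    obtain ⟨v₀, hv₀cl, hv₀⟩ := Set.not_subset.mp fun h => hξ (closure_subset_iff_isClosed.mp h)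
    have hv₀A : Fan.P.mk ξ v₀ ∈ Subtype.val '' A :=
      closure_minimal (Set.preimage_mono Set.sdiff_subset) (hA'.preimage (continuous_mk ξ)) hv₀cl
    have hv₀x : Fan.P.mk ξ v₀ = x := by by_contra h; exact hv₀ ⟨hv₀A, h⟩
    haveI : SequentialSpace (Fan.Orth n) :=
      inferInstanceAs (SequentialSpace {v : Fin n.dim → ℝ // (∀ i, 0 ≤ v i) ∧ v ≠ 0})
    haveI : FirstCountableTopology (Fan.Orth n) :=
      inferInstanceAs (FirstCountableTopology {v : Fin n.dim → ℝ // (∀ i, 0 ≤ v i) ∧ v ≠ 0})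
    obtain ⟨v, hv, hlim⟩ := mem_closure_iff_seq_limit.mp hv₀cl
    let mid : ℕ → Fan.Orth n := fun j => ⟨(1 : ℝ) • (v j).1 + (1 : ℝ) • v₀.1,
      fun i => by simpa using add_nonneg ((v j).2.1 i) (v₀.2.1 i), fun h => v₀.2.2 (funext fun i => by
        have h1 := congrFun h i
        simp only [Pi.add_apply, Pi.smul_apply, smul_eq_mul, _root_.one_mul, Pi.zero_apply] at h1
        exact ((add_eq_zero_iff_of_nonneg ((v j).2.1 i) (v₀.2.1 i)).mp h1).2)⟩
    have hmem : ∀ j, Fan.P.mk ξ (mid j) ∈ U := fun j =>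
      hU.1 n ξ (v j) (mid j) v₀ (by obtain ⟨z, -, hz⟩ := (hv j).1; exact hz ▸ z.2) (hv₀x ▸ x.2)
        ⟨1, 1, one_pos, one_pos, rfl⟩
    have hm : Filter.Tendsto mid Filter.atTop (nhds (oscale 2 two_pos v₀)) := by
      refine tendsto_subtype_rng.mpr ?_
      have h1 := ((continuous_subtype_val.tendsto v₀).comp hlim).add (tendsto_const_nhds (x := v₀.1))
      rw [← two_smul ℝ v₀.1] at h1
      refine h1.congr fun j => ?_
      show (v j).1 + v₀.1 = (1 : ℝ) • (v j).1 + (1 : ℝ) • v₀.1
      rw [one_smul, one_smul]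
    have hmx : Filter.Tendsto (fun j => (⟨Fan.P.mk ξ (mid j), hmem j⟩ : U)) Filter.atTop (nhds x) := by
      refine tendsto_subtype_rng.mpr ?_
      have h1 := ((continuous_mk ξ).tendsto _).comp hm
      rwa [mk_oscale, hv₀x] at h1
    obtain ⟨j, hj⟩ := (hmx.eventually hx).exists
    obtain ⟨⟨z, hzA, hz⟩, hzne⟩ := hv j
    have hnp : ¬ ∃ c : ℝ, v₀.1 = c • (v j).1 := by
      rintro ⟨c, hc⟩
      obtain ⟨i, hi⟩ := Function.ne_iff.mp v₀.2.2
      have hci : 0 < c * (v j).1 i := by
        have h1 : v₀.1 i = c * (v j).1 i := congrFun hc i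
        exact h1 ▸ (v₀.2.1 i).lt_of_ne' hi
      exact hzne ((mk_smul ξ (v j) v₀ c (pos_of_mul_pos_left hci ((v j).2.1 i)) hc).symm.trans hv₀x)
    have hlt := hΦ n ξ (v j) (mid j) v₀ (hz ▸ z.2) (hmem j) (hv₀x ▸ x.2) hnp ⟨1, 1, one_pos, one_pos, rfl⟩
    have e0 : (⟨Fan.P.mk ξ (v j), hz ▸ z.2⟩ : U) = z := Subtype.ext hz.symm
    have e2 : (⟨Fan.P.mk ξ v₀, hv₀x ▸ x.2⟩ : U) = x := Subtype.ext hv₀x
    rw [e0, e2, min_eq_right (show Φ x ≤ Φ z from hzA)] at hlt
    exact hlt.not_ge hj

end Groth.Agent.S19371
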