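import Groth.Statements.S19372
import Groth.Agent.InstabFanLib.Convex
import Mathlib.Analysis.Normed.Group.Basic
-- import your own Groth.Agent.* helpers here

set_option autoImplicit false
set_option linter.style.haveILetI false
open CategoryTheory Opposite Instab
open Instab Instab.Fan

namespace Groth.Agent.S19372

open Groth.Agent.InstabFanLib

set_option backward.isDefEq.respectTransparency.types false

open Finset

variable {N : ℕ}

/-- The real cone on finitely many lattice vectors. -/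
def coneSet (s : Finset (Fin N → ℤ)) : Set (Fin N → ℝ) :=
  {x | ∃ c : (Fin N → ℤ) → ℝ, (∀ g, 0 ≤ c g) ∧ x = ∑ g ∈ s, c g • icast g}

theorem smul_mem_coneSet {s : Finset (Fin N → ℤ)} {x : Fin N → ℝ} (hx : x ∈ coneSet s) {r : ℝ} (hr : 0 ≤ r) :
    r • x ∈ coneSet s := by
  obtain ⟨c, hc, rfl⟩ := hx
  exact ⟨fun g => r * c g, fun g => mul_nonneg hr (hc g), by simp only [smul_sum, smul_smul]⟩

theorem isClosed_coneSet (s : Finset (Fin N → ℤ)) : IsClosed (coneSet s) := by
  classical
  have e : coneSet s = ⋃ t ∈ s.powerset, ⋃ (_ : LinearIndepOn ℝ icast (t : Set (Fin N → ℤ))),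
      (Fintype.linearCombination ℝ fun g : t => icast (g : Fin N → ℤ)) '' {d : t → ℝ | ∀ g, 0 ≤ d g} := by
    ext x
    simp only [Set.mem_iUnion, mem_powerset, exists_prop]
    constructor
    · rintro ⟨c, hc, rfl⟩
      obtain ⟨t, d, ht, hd, hli, e⟩ := exists_independent s c hc
      refine ⟨t, ht, hli, fun g => d g, fun g => hd g, ?_⟩
      rw [e, Fintype.linearCombination_apply]
      exact sum_coe_sort t fun g => d g • icast g
    · rintro ⟨t, ht, -, d, hd, rfl⟩
      refine ⟨fun g => if h : g ∈ t then d ⟨g, h⟩ else 0, fun g => by dsimp only; split <;> simp [hd _], ?_⟩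
      rw [Fintype.linearCombination_apply, ← sum_subset ht (fun g _ hg => by simp [hg]), ← sum_coe_sort t]
      exact sum_congr rfl fun g _ => by simp
  rw [e]
  refine isClosed_biUnion_finset fun t _ => isClosed_iUnion_of_finite fun hli => ?_
  refine (LinearMap.isClosedEmbedding_of_injective
    (LinearMap.ker_eq_bot.mpr hli.fintypeLinearCombination_injective)).isClosedMap _ ?_
  rw [Set.ofPred_forall]
  exact isClosed_iInter fun g => isClosed_le continuous_const (continuous_apply g)

/-- Normalisation of rays. -/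
noncomputable def raysNorm : Fan.Rays N → (Fin N → ℝ) :=
  Quot.lift (fun w => ‖w.1‖⁻¹ • w.1) fun a b ⟨c, hc, h⟩ => by
    show ‖a.1‖⁻¹ • a.1 = ‖b.1‖⁻¹ • b.1
    rw [h, norm_smul, Real.norm_of_nonneg hc.le, smul_smul, mul_inv, mul_right_comm, inv_mul_cancel₀ hc.ne',
      _root_.one_mul]

theorem t2Space_rays : T2Space (Fan.Rays N) := by
  refine .of_injective_continuous (f := raysNorm) ?_ ?_
  · rintro ⟨a⟩ ⟨b⟩ h
    have h' : ‖a.1‖⁻¹ • a.1 = ‖b.1‖⁻¹ • b.1 := h
    refine Quot.sound ⟨‖b.1‖ / ‖a.1‖, div_pos (norm_pos_iff.mpr b.2) (norm_pos_iff.mpr a.2), ?_⟩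
    rw [div_eq_mul_inv, ← smul_smul, h', smul_smul, mul_inv_cancel₀ (norm_ne_zero_iff.mpr b.2), one_smul]
  · refine isQuotientMap_quot_mk.continuous_iff.mpr ?_
    exact (continuous_norm.comp continuous_subtype_val |>.inv₀ fun w => norm_ne_zero_iff.mpr w.2).smul
      continuous_subtype_val

theorem toVec_eq {ι : Type} (K : ι → Set (Fin N → ℝ)) {n : ICone} (φ : RFan.Cone K n) (v : Fin n.dim → ℝ) :
    RFan.toVec K n φ v = rext φ.1 v := rfl

/-- Let K a ⊆ ℝ^N, for a in a finite index type, be cones, each expressible as finitely many rational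
polyhedral cones put together (nonnegative real spans of finite sets of integer vectors). Then the
canonical map from the projective realization of the formal fan R(K) to the space of rays of ℝ^N (a
model of the sphere), sending the point given by a cone φ and a vector v to the ray of φ v, is a
homeomorphism onto the rays through ⋃ K a: it is a topological embedding with that image. (The
published lemma also asserts that the affine realization of R(K), defined as a colimit over the
category of cones of R(K), maps homeomorphically onto ⋃ K a; that fails at the cone point, since for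
the pair of coordinate rays of ℝ^2 the colimit has two origins and for ⋃ K a = 0 it is empty, and it
is not stated here.) -/
theorem result {N : ℕ} {ι : Type} [Finite ι] (K : ι → Set (Fin N → ℝ))
    (hK : ∀ a, ∃ (m : ℕ) (gen : Fin m → Finset (Fin N → ℤ)),
      K a = Set.iUnion fun l => {x | ∃ c : (Fin N → ℤ) → ℝ, (∀ g, 0 ≤ c g) ∧
        x = Finset.sum (gen l) fun g => c g • fun j => (g j : ℝ)}) :
    ∃ g : Fan.P (RFan K) → Fan.Rays N,
      (∀ (n : ICone) (φ : (RFan K).obj (op n)) (v : Fan.Orth n) (h : RFan.toVec K n φ v.1 ≠ 0),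
        g (Fan.P.mk φ v) = Quot.mk _ ⟨RFan.toVec K n φ v.1, h⟩) ∧
      Topology.IsEmbedding g ∧
      Set.range g = {r | ∃ w : {w : Fin N → ℝ // w ≠ 0}, r = Quot.mk _ w ∧ w.1 ∈ Set.iUnion K} := by
  classical
  choose m gen hgen using hK
  have hKmem : ∀ a x, x ∈ K a ↔ ∃ l, x ∈ coneSet (gen a l) := fun a x => by
    rw [hgen a, Set.mem_iUnion]
    exact exists_congr fun l => Iff.rfl
  have hne : ∀ (n : ICone) (φ : RFan.Cone K n) (v : Fan.Orth n), RFan.toVec K n φ v.1 ≠ 0 := fun n φ v h =>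
    v.2.2 (rext_injective φ.2.1 ((toVec_eq K φ v.1).symm.trans (h.trans (rext φ.1).map_zero.symm)))
  let g : Fan.P (RFan K) → Fan.Rays N := Quot.lift
    (fun p => Quot.mk _ ⟨RFan.toVec K p.1.1 p.1.2 p.2.1, hne _ _ _⟩) (by
    rintro _ _ ⟨ψ, ξ, v, w, c, hc, hw⟩
    refine Quot.sound ⟨c, hc, ?_⟩
    show rext ξ.1 w.1 = c • rext (ξ.1.comp ψ.toLin) v.1
    rw [rext_comp, hw, map_smul]
    rfl)
  have hg : ∀ (n : ICone) (φ : (RFan K).obj (op n)) (v : Fan.Orth n),
      g (Fan.P.mk φ v) = Quot.mk _ ⟨RFan.toVec K n φ v.1, hne _ _ _⟩ := fun _ _ _ => rfl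
  -- the image lies in the cones
  have hmem : ∀ (n : ICone) (φ : RFan.Cone K n) (v : Fan.Orth n), ∃ a, rext φ.1 v.1 ∈ K a := by
    intro n φ v
    obtain ⟨a, ha⟩ := φ.2.2
    refine ⟨a, mem_of_lattice (C := {w : Fan.Orth n | rext φ.1 w.1 ∈ K a}) ?_ ?_ ?_ v⟩
    · refine IsClosed.preimage ((rext φ.1).continuous_of_finiteDimensional.comp continuous_subtype_val) ?_
      rw [hgen a]
      exact isClosed_iUnion_of_finite fun l => isClosed_coneSet (gen a l)
    · intro w hw c hc
      obtain ⟨l, hl⟩ := (hKmem _ _).mp hw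
      show rext φ.1 (c • w.1) ∈ K a
      rw [map_smul]
      exact (hKmem _ _).mpr ⟨l, smul_mem_coneSet hl hc.le⟩
    · intro w q hq
      show rext φ.1 w.1 ∈ K a
      rw [hq, rext_icast]
      exact ha q fun i => by
        have := w.2.1 i
        rw [hq] at this
        exact Int.cast_nonneg_iff.mp this
  -- finitely many cones
  have hcones : ∃ cs : Set (Σ n : ICone, RFan.Cone K n), cs.Finite ∧
      ∀ a x, x ∈ K a → x ≠ 0 → ∃ e ∈ cs, ∃ v : Fan.Orth e.1, rext e.2.1 v.1 = x := by
    let T := {t : Σ a : ι, Σ l : Fin (m a), {t : Finset (Fin N → ℤ) // t ∈ (gen a l).powerset} //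
      t.2.2.1.Nonempty ∧ LinearIndepOn ℝ icast (t.2.2.1 : Set (Fin N → ℤ))}
    let gs : ∀ t : T, Fin (t.1.2.2.1.card) → (Fin N → ℤ) := fun t j => (t.1.2.2.1.equivFin.symm j : Fin N → ℤ)
    have hgsR : ∀ t : T, LinearIndependent ℝ fun j => icast (gs t j) := fun t =>
      LinearIndependent.comp t.2.2 _ t.1.2.2.1.equivFin.symm.injective
    let E : T → Σ n : ICone, RFan.Cone K n := fun t =>
      ⟨⟨⟨t.1.2.2.1.card, t.2.1.card_pos⟩⟩, ⟨Fintype.linearCombination ℤ (gs t), by
        refine LinearIndependent.fintypeLinearCombination_injective ?_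
        rw [Fintype.linearIndependent_iff]
        intro c hc j
        have h := Fintype.linearIndependent_iff.mp (hgsR t) (fun j => (c j : ℝ)) (by
          funext i
          have h1 := congrArg (fun z : ℤ => (z : ℝ)) (congrFun hc i)
          simp [icast, Finset.sum_apply] at h1 ⊢
          convert h1) j
        exact Int.cast_eq_zero.mp h,
        t.1.1, fun v hv => (hKmem _ _).mpr ⟨t.1.2.1, by
          let d : (Fin N → ℤ) → ℝ := fun x => if h : x ∈ t.1.2.2.1 then (v (t.1.2.2.1.equivFin ⟨x, h⟩) : ℝ) else 0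
          refine ⟨d, fun x => by
            simp only [d]; split
            · exact Int.cast_nonneg (hv _)
            · exact le_rfl, ?_⟩
          rw [← Finset.sum_subset (Finset.mem_powerset.mp t.1.2.2.2) (fun x _ hx => by simp [d, hx]),
            ← Finset.sum_coe_sort, ← Equiv.sum_comp t.1.2.2.1.equivFin.symm]
          funext i
          rw [Fintype.linearCombination_apply, Finset.sum_apply, Finset.sum_apply]
          push_cast
          refine Finset.sum_congr rfl fun j _ => ?_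
          simp [d, gs, icast]⟩⟩⟩
    refine ⟨Set.range E, Set.finite_range E, fun a x hx hx0 => ?_⟩
    obtain ⟨l, c, hc, rfl⟩ := (hKmem _ _).mp hx
    obtain ⟨t, d, ht, hd, hli, hsum⟩ := exists_independent (gen a l) c hc
    rw [hsum] at hx0 ⊢
    let t' := t.filter fun y => d y ≠ 0
    have hne' : t'.Nonempty := by
      by_contra h
      refine hx0 (Finset.sum_eq_zero fun y hy => ?_)
      have : d y = 0 := not_not.mp fun h' => h ⟨y, Finset.mem_filter.mpr ⟨hy, h'⟩⟩
      rw [this, zero_smul]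
    let tt : T := ⟨⟨a, l, t', Finset.mem_powerset.mpr ((Finset.filter_subset _ _).trans ht)⟩, hne',
      hli.mono (Finset.coe_subset.mpr (Finset.filter_subset _ _))⟩
    let v : Fan.Orth (E tt).1 := ⟨fun j => d (gs tt j), fun j => hd _, fun h =>
      (Finset.mem_filter.mp (t'.equivFin.symm ⟨0, hne'.card_pos⟩).2).2 (congrFun h ⟨0, hne'.card_pos⟩)⟩
    refine ⟨E tt, ⟨tt, rfl⟩, v, ?_⟩
    funext i
    rw [rext_apply, ← Finset.sum_filter_of_ne (s := t) (p := fun y => d y ≠ 0) (fun y _ hy h0 => hy (by rw [h0, zero_smul])),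
      Finset.sum_apply]
    refine Eq.trans ?_ (Finset.sum_coe_sort t' fun y => (d y • icast y) i)
    refine Eq.trans ?_ (Equiv.sum_comp t'.equivFin.symm fun y => (d y • icast (y : Fin N → ℤ)) i)
    refine Finset.sum_congr rfl fun j _ => ?_
    show (Fintype.linearCombination ℤ (gs tt) (Pi.single j 1) i : ℝ) * d (gs tt j) = d (gs tt j) * (gs tt j i : ℝ)
    rw [Fintype.linearCombination_apply_single, one_smul, mul_comm]
  -- injectivity
  have hinj : Function.Injective g := by
    intro x x' h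
    obtain ⟨n, φ, v, rfl⟩ := exists_mk x
    obtain ⟨n', φ', v', rfl⟩ := exists_mk x'
    rw [hg, hg] at h
    have key : ∀ p q : {w : Fin N → ℝ // w ≠ 0},
        Relation.EqvGen (fun v w : {v : Fin N → ℝ // v ≠ 0} => ∃ c : ℝ, 0 < c ∧ w.1 = c • v.1) p q →
          ∃ c : ℝ, 0 < c ∧ q.1 = c • p.1 := by
      intro p q hpq
      induction hpq with
      | rel p q h => exact h
      | refl p => exact ⟨1, one_pos, (one_smul _ _).symm⟩
      | symm p q _ ih =>
        obtain ⟨c, hc, h⟩ := ih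
        exact ⟨c⁻¹, inv_pos.mpr hc, by rw [h, smul_smul, inv_mul_cancel₀ hc.ne', one_smul]⟩
      | trans p q r _ _ ih ih' =>
        obtain ⟨c, hc, h⟩ := ih
        obtain ⟨c', hc', h'⟩ := ih'
        exact ⟨c' * c, mul_pos hc' hc, by rw [h', h, smul_smul]⟩
    obtain ⟨c, hc, hcv⟩ := key _ _ (Quot.eqvGen_exact h)
    obtain ⟨s, -, hs, hmeet⟩ := exists_meet_lin φ.1 φ.2.1 φ'.1 φ'.2.1
    obtain ⟨e, he, y, hy, hy'⟩ := hmeet v ((c⁻¹) • v'.1) (fun i => mul_nonneg (inv_pos.mpr hc).le (v'.2.1 i)) (by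
      rw [map_smul, show rext φ'.1 v'.1 = c • rext φ.1 v.1 from hcv, smul_smul, inv_mul_cancel₀ hc.ne', one_smul])
    refine (mk_eq_mk_iff _ _ _ _).mpr ⟨e.1, e.2.1, e.2.2, y, 1, c, Subtype.ext (hs e he), one_pos, hc,
      hy.trans (one_smul _ _).symm, ?_⟩
    rw [← hy', smul_smul, mul_inv_cancel₀ hc.ne', one_smul]
  obtain ⟨cs, hcs, hcov⟩ := hcones
  have hrange : Set.range g =
      {r | ∃ w : {w : Fin N → ℝ // w ≠ 0}, r = Quot.mk _ w ∧ w.1 ∈ Set.iUnion K} := by
    ext r
    constructor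
    · rintro ⟨x, rfl⟩
      obtain ⟨n, φ, v, rfl⟩ := exists_mk x
      exact ⟨_, hg n φ v, Set.mem_iUnion.mpr (hmem n φ v)⟩
    · rintro ⟨w, rfl, hw⟩
      obtain ⟨a, ha⟩ := Set.mem_iUnion.mp hw
      obtain ⟨e, -, v, hv⟩ := hcov a w.1 ha w.2
      exact ⟨Fan.P.mk (F := RFan K) (n := e.1) e.2 v, congrArg (Quot.mk _) (Subtype.ext hv)⟩
  have hcont : Continuous g := by
    refine isQuotientMap_quot_mk.continuous_iff.mpr ?_
    exact continuous_sigma_iff.mpr fun i => continuous_quot_mk.comp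
      (Continuous.subtype_mk ((rext i.2.1).continuous_of_finiteDimensional.comp continuous_subtype_val) _)
  haveI : CompactSpace (Fan.P (RFan K)) := by
    refine ⟨?_⟩
    have huniv : (Set.univ : Set (Fan.P (RFan K))) = ⋃ e ∈ cs, Fan.P.mk (F := RFan K) (n := e.1) e.2 ''
        {v : Fan.Orth e.1 | ∑ i, v.1 i = 1} := by
      refine Set.ext fun x => ⟨fun _ => ?_, fun _ => trivial⟩
      obtain ⟨n, φ, v, rfl⟩ := exists_mk x
      obtain ⟨a, ha⟩ := hmem n φ v
      obtain ⟨e, he, w, hw⟩ := hcov a _ ha (hne n φ v)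
      have hpos : 0 < ∑ i, w.1 i := by
        obtain ⟨i, hi⟩ := Function.ne_iff.mp w.2.2
        exact Finset.sum_pos' (fun j _ => w.2.1 j) ⟨i, Finset.mem_univ _, (w.2.1 i).lt_of_ne' hi⟩
      refine Set.mem_iUnion₂.mpr ⟨e, he, oscale _ (inv_pos.mpr hpos) w, ?_, ?_⟩
      · show ∑ i, (∑ j, w.1 j)⁻¹ * w.1 i = 1
        rw [← Finset.mul_sum, inv_mul_cancel₀ hpos.ne']
      · exact (mk_oscale _ _ _ _).trans (hinj (congrArg (Quot.mk _) (Subtype.ext hw)))
    rw [huniv]
    refine hcs.isCompact_biUnion fun e _ => IsCompact.image ?_ (continuous_mk _)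
    rw [show ({v : Fan.Orth e.1 | ∑ i, v.1 i = 1} : Set (Fan.Orth e.1)) =
      Subtype.val ⁻¹' (Set.Icc (0 : Fin e.1.dim → ℝ) 1 ∩ {w | ∑ i, w i = 1}) from Set.ext fun v =>
        ⟨fun h => ⟨⟨v.2.1, fun i => (Finset.single_le_sum (fun j _ => v.2.1 j) (Finset.mem_univ i)).trans_eq h⟩, h⟩,
          fun h => h.2⟩]
    refine Topology.IsInducing.subtypeVal.isCompact_preimage' ?_ ?_
    · exact isCompact_Icc.inter_right
        (isClosed_eq (continuous_finsetSum _ fun i _ => continuous_apply i) continuous_const)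
    · exact fun z hz => ⟨⟨z, hz.1.1, fun h => by simpa [h] using hz.2⟩, rfl⟩
  haveI := t2Space_rays (N := N)
  exact ⟨g, fun n φ v h => hg n φ v, (hcont.isClosedEmbedding hinj).isEmbedding, hrange⟩

end Groth.Agent.S19372
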