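import Groth.Statements.S19374
import Groth.Agent.InstabFanLib.Topo
-- import your own Groth.Agent.* helpers here

set_option autoImplicit false
set_option linter.style.haveILetI false
universe u
open CategoryTheory Opposite Instab
open Instab Instab.Fan

namespace Groth.Agent.S19374

open Groth.Agent.InstabFanLib

set_option backward.isDefEq.respectTransparency.types false

/-- Let F be a formal fan and U ⊆ P F. Then U is locally convex in the simplex-wise sense — for every
rational simplex, a ray lying strictly between two rays that map into U also maps into U — if and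
only if, for every n-cone ξ of F, the set of nonzero nonnegative vectors v of ℝ^n whose point of the
rational simplex of ξ lies in U is a convex subset of ℝ^n (convexity of the preimage of U in each
punctured cone of the affine realization). -/
theorem result (F : Fan.{u}) (U : Set (Fan.P F)) :
    Fan.IsLocallyConvex U ↔
      ∀ (n : ICone) (ξ : F.obj (op n)),
        Convex ℝ {v : Fin n.dim → ℝ | ∃ h : (∀ i, 0 ≤ v i) ∧ v ≠ 0, Fan.P.mk ξ (⟨v, h⟩ : Fan.Orth n) ∈ U} := by
  constructor
  · intro hU n ξ v₀ ⟨h₀, hv₀⟩ v₂ ⟨h₂, hv₂⟩ a b ha hb hab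
    rcases eq_or_lt_of_le ha with rfl | ha
    · rw [zero_add] at hab; subst hab
      simp only [zero_smul, one_smul, zero_add]
      exact ⟨h₂, hv₂⟩
    rcases eq_or_lt_of_le hb with rfl | hb
    · rw [add_zero] at hab; subst hab
      simp only [zero_smul, one_smul, add_zero]
      exact ⟨h₀, hv₀⟩
    have hnn : ∀ i, 0 ≤ (a • v₀ + b • v₂) i := fun i => add_nonneg (mul_nonneg ha.le (h₀.1 i)) (mul_nonneg hb.le (h₂.1 i))
    have hne : a • v₀ + b • v₂ ≠ 0 := fun h => h₀.2 (funext fun i => by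
      have h1 := congrFun h i
      simp only [Pi.add_apply, Pi.smul_apply, smul_eq_mul, Pi.zero_apply] at h1
      have := (add_eq_zero_iff_of_nonneg (mul_nonneg ha.le (h₀.1 i)) (mul_nonneg hb.le (h₂.1 i))).mp h1
      exact (mul_eq_zero.mp this.1).resolve_left ha.ne')
    exact ⟨⟨hnn, hne⟩, hU n ξ ⟨v₀, h₀⟩ ⟨_, hnn, hne⟩ ⟨v₂, h₂⟩ hv₀ hv₂ ⟨a, b, ha, hb, rfl⟩⟩
  · intro hU n ξ v₀ v₁ v₂ h₀ h₂ ⟨a, b, ha, hb, hv⟩
    have hab : 0 < a + b := add_pos ha hb
    obtain ⟨h, hm⟩ := hU n ξ (x := v₀.1) ⟨v₀.2, h₀⟩ (y := v₂.1) ⟨v₂.2, h₂⟩ (a := a / (a + b)) (b := b / (a + b))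
      (div_pos ha hab).le (div_pos hb hab).le (by rw [← add_div, div_self hab.ne'])
    rwa [mk_smul ξ ⟨_, h⟩ v₁ (a + b) hab]
    rw [hv, smul_add, smul_smul, smul_smul, mul_div_cancel₀ _ hab.ne', mul_div_cancel₀ _ hab.ne']

end Groth.Agent.S19374
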