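import Groth.Statements.S19376
import Groth.Agent.CAlgH.AdicSmooth
import Groth.Agent.AdicRing.ComplHom
import Groth.Agent.CAlgH.GRingFiniteType
-- import your own Groth.Agent.* helpers here

set_option autoImplicit false
universe u
open EGA4

namespace Groth.Agent.S19376

open IsLocalRing

/-- Complete Nakayama for ring maps. -/
theorem finite_of_finite_quotient {R S : Type u} [CommRing R] [CommRing S] [IsNoetherianRing R] (I : Ideal R)
    [IsAdicComplete I R] (f : R →+* S) [IsHausdorff (I.map f) S]
    (h : ((Ideal.Quotient.mk (I.map f)).comp f).Finite) : f.Finite := by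
  letI := f.toAlgebra
  let π := (Ideal.Quotient.mk (I.map f)).comp f
  haveI : Module.Finite R (S ⧸ I.map (algebraMap R S)) := RingHom.finite_algebraMap.1 (show (algebraMap R (S ⧸ I.map (algebraMap R S))).Finite from h)
  obtain ⟨n, s, hs⟩ := Module.Finite.exists_fin (R := R) (M := S ⧸ I.map (algebraMap R S))
  choose g hg using fun i => Ideal.Quotient.mk_surjective (s i)
  let F : (Fin n → R) →ₗ[R] S := Fintype.linearCombination R g
  haveI : IsAdicComplete I (Fin n → R) := _root_.Groth.Agent.AdicRing.isAdicComplete_of_finite I _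
  haveI : IsHausdorff I S := IsHausdorff.map_algebraMap_iff.mp ‹IsHausdorff (I.map f) S›
  have hsurj : Function.Surjective F := by
    refine surjective_of_mkQ_comp_surjective (I := I) fun y => ?_
    obtain ⟨y, rfl⟩ := Submodule.Quotient.mk_surjective _ y
    have hy : (Ideal.Quotient.mk (I.map (algebraMap R S)) y) ∈ Submodule.span R (Set.range s) := hs ▸ Submodule.mem_top
    obtain ⟨c, hc⟩ := (Submodule.mem_span_range_iff_exists_fun R).1 hy
    refine ⟨c, (Submodule.Quotient.eq _).2 ?_⟩
    rw [Ideal.smul_top_eq_map]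
    refine Ideal.Quotient.eq.1 ?_
    rw [← hc, Fintype.linearCombination_apply, map_sum]
    refine Finset.sum_congr rfl fun i _ => ?_
    rw [← hg i, Algebra.smul_def, Algebra.smul_def, map_mul]
    rfl
  exact RingHom.finite_algebraMap.2 (Module.Finite.of_surjective F hsurj)

/-- Let V be an excellent normal ring with no additive torsion, I an ideal of V such that (V, I) is a
henselian pair, A and C smooth V-algebras, and φ₀ a V-algebra homomorphism from A/IA to C/IC which
is finite. Then φ₀ lifts to a finite V-algebra homomorphism φ from the IA-adic completion of A to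
the IC-adic completion of C: composing φ with the projection onto C/IC equals the projection onto
A/IA followed by φ₀. (The published statement also treats finite flat, finite faithfully flat and
finite étale maps, whose proofs are referred elsewhere; only the finite case is stated.) -/
theorem result
    (V : Type u) [CommRing V] [IsAddTorsionFree V]
    (hexc : EGA4.IsExcellent V) (hV : EGA4.IsNormalRing V)
    (I : Ideal V) [HenselianRing V I]
    (A C : Type u) [CommRing A] [Algebra V A] [Algebra.Smooth V A]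
    [CommRing C] [Algebra V C] [Algebra.Smooth V C]
    (φ₀ : (A ⧸ I.map (algebraMap V A)) →ₐ[V] (C ⧸ I.map (algebraMap V C)))
    (hφ₀ : φ₀.toRingHom.Finite) :
    ∃ φ : AdicCompletion (I.map (algebraMap V A)) A →ₐ[V]
        AdicCompletion (I.map (algebraMap V C)) C,
      φ.toRingHom.Finite ∧
      (AdicCompletion.evalOneₐ (I.map (algebraMap V C))).toRingHom.comp φ.toRingHom =
        φ₀.toRingHom.comp (AdicCompletion.evalOneₐ (I.map (algebraMap V A))).toRingHom := by
  haveI : IsNoetherianRing V := hexc.1
  haveI : IsNoetherianRing A := Algebra.FiniteType.isNoetherianRing V A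
  haveI : IsNoetherianRing C := Algebra.FiniteType.isNoetherianRing V C
  let IA := I.map (algebraMap V A)
  let IC := I.map (algebraMap V C)
  let Ah := AdicCompletion IA A
  let Ch := AdicCompletion IC C
  haveI : IsNoetherianRing Ah := _root_.Groth.Agent.Matlis6.isNoetherianRing_adicCompletion _
  have hA : IA.FG := IsNoetherian.noetherian _
  have hC : IC.FG := IsNoetherian.noetherian _
  let Jh := IA.map (algebraMap A Ah)
  let J := IC.map (algebraMap C Ch)
  haveI : IsAdicComplete Jh Ah := AdicCompletion.isAdicComplete_self IA hA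
  haveI : IsAdicComplete J Ch := AdicCompletion.isAdicComplete_self IC hC
  let ev := (AdicCompletion.evalOneₐ IC).toRingHom
  have hker : RingHom.ker ev = J := AdicCompletion.ker_evalOneₐ_eq_map _ hC
  have hev : Function.Surjective ev := fun y => by
    obtain ⟨c, rfl⟩ := Ideal.Quotient.mk_surjective y
    exact ⟨algebraMap C Ch c, AlgHom.commutes _ _⟩
  let ε : Ch ⧸ J ≃+* C ⧸ IC := (Ideal.quotEquivOfEq hker.symm).trans (RingHom.quotientKerEquivOfSurjective hev)
  have hε : ∀ z, ε (Ideal.Quotient.mk J z) = ev z := fun z => rfl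
  let ψ : A →+* Ch ⧸ J := ε.symm.toRingHom.comp (φ₀.toRingHom.comp (Ideal.Quotient.mk IA))
  have hψ : ψ.comp (algebraMap V A) = (Ideal.Quotient.mk J).comp (algebraMap V Ch) := by
    refine RingHom.ext fun v => ε.injective ?_
    show ε (ε.symm (φ₀ (algebraMap V (A ⧸ IA) v))) = ε (Ideal.Quotient.mk J (algebraMap V Ch v))
    rw [ε.apply_symm_apply, AlgHom.commutes, hε, IsScalarTower.algebraMap_apply V C Ch]
    exact ((AdicCompletion.evalOneₐ IC).commutes _).symm
  obtain ⟨χ, hχ1, hχ2⟩ := _root_.Groth.Agent.CAlgH.AdicSmooth.exists_lift_complete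
    (_root_.Groth.Agent.CAlgH.AdicSmooth.of_formallySmooth (R := V) (S := A) (𝔫 := ⊥)) (algebraMap V Ch)
    J ψ hψ ⟨1, fun x hx => by rw [pow_one, Ideal.mem_bot] at hx; rw [hx, map_zero]⟩
  have hle : IA.map χ ≤ J := by
    rw [Ideal.map_map, hχ1, IsScalarTower.algebraMap_eq V C Ch, ← Ideal.map_map]
  obtain ⟨Φ, hΦ⟩ := _root_.Groth.Agent.AdicRing.exists_completion_hom IA χ J hle
  have hΦV : ∀ v : V, Φ (algebraMap V Ah v) = algebraMap V Ch v := fun v => by
    rw [IsScalarTower.algebraMap_apply V A Ah, hΦ]
    exact RingHom.congr_fun hχ1 v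
  have hJ : Jh.map Φ = J := by
    rw [Ideal.map_map, show Φ.comp (algebraMap A Ah) = χ from RingHom.ext hΦ, Ideal.map_map, hχ1,
      IsScalarTower.algebraMap_eq V C Ch, ← Ideal.map_map]
  have hcomm : ∀ a, ev (Φ (algebraMap A Ah a)) = φ₀ (Ideal.Quotient.mk IA a) := fun a => by
    rw [hΦ, ← hε, show Ideal.Quotient.mk J (χ a) = ψ a from RingHom.congr_fun hχ2 a]
    exact ε.apply_symm_apply _
  have hfin : Φ.Finite := by
    haveI : IsHausdorff (Jh.map Φ) Ch := hJ.symm ▸ inferInstance
    refine finite_of_finite_quotient Jh Φ ?_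
    have hmk : ((Ideal.Quotient.mk (Jh.map Φ)).comp Φ).comp (algebraMap A Ah) =
        ((Ideal.quotEquivOfEq hJ.symm).toRingHom.comp ε.symm.toRingHom).comp
          (φ₀.toRingHom.comp (Ideal.Quotient.mk IA)) := by
      refine RingHom.ext fun a => ?_
      show _ = Ideal.quotEquivOfEq hJ.symm (ψ a)
      rw [← RingHom.congr_fun hχ2 a]
      show Ideal.Quotient.mk (Jh.map Φ) (Φ (algebraMap A Ah a)) = _
      rw [hΦ]
      rfl
    refine RingHom.Finite.of_comp_finite (f := algebraMap A Ah) ?_
    rw [hmk]
    exact RingHom.Finite.comp (RingHom.Finite.of_surjective _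
      ((Ideal.quotEquivOfEq hJ.symm).surjective.comp ε.symm.surjective))
      (hφ₀.comp (RingHom.Finite.of_surjective _ Ideal.Quotient.mk_surjective))
  refine ⟨{ Φ with commutes' := hΦV }, hfin, ?_⟩
  haveI : IsHausdorff (⊥ : Ideal (C ⧸ IC)) (C ⧸ IC) := inferInstance
  refine _root_.Groth.Agent.AdicRing.completion_hom_ext IA hA ⊥ (fun a => ?_) (fun a ha => ?_)
  · show ev (Φ (algebraMap A Ah a)) = φ₀ ((AdicCompletion.evalOneₐ IA) (algebraMap A Ah a))
    rw [AlgHom.commutes]
    exact hcomm a
  · show ev (Φ (algebraMap A Ah a)) ∈ (⊥ : Ideal (C ⧸ IC))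
    rw [Ideal.mem_bot, hcomm, Ideal.Quotient.eq_zero_iff_mem.2 ha, map_zero]

end Groth.Agent.S19376
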