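import Groth.Statements.S19377
import Groth.Agent.FlatMorLocalStr.SmoothFibres
import Groth.Agent.AmpleLib.Relative2
import Groth.Agent.AmpleLib.Compose
import Groth.Agent.S4418
import Groth.Agent.S4419
-- import your own Groth.Agent.* helpers here

set_option autoImplicit false
set_option backward.isDefEq.respectTransparency.types false
universe u
open CategoryTheory AlgebraicGeometry
open RelProj

namespace Groth.Agent.S19377

/-- Let k be a field, S a smooth, separated and quasi-compact k-scheme and f : X → S a proper smooth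
morphism. The following two conditions are equivalent. (P): there is a dense open subscheme U of X,
quasi-projective over S, such that every connected component of S has a point not lying in the image
f(X ∖ U). Generic projectivity: there is a dense open subscheme V of S such that the restriction
f⁻¹(V) → V of f is projective. (The source works over the residue field of a complete discrete
valuation ring of mixed characteristic and adds that the restriction over V is smooth, which is
automatic; the base field plays no role and is arbitrary here.) -/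
theorem result
    {k : Type u} [Field k] {X S : Scheme.{u}} (f : X ⟶ S) (g : S ⟶ Spec (.of k))
    [Smooth g] [IsSeparated g] [QuasiCompact g] [IsProper f] [Smooth f] :
    (∃ U : X.Opens, Dense (U : Set X) ∧ RelProj.IsQuasiProjective (U.ι ≫ f) ∧
        ∀ s : S, ∃ s' : S, s' ∈ connectedComponent s ∧ s' ∉ ⇑f.base '' (U : Set X)ᶜ) ↔
      ∃ V : S.Opens, Dense (V : Set S) ∧ RelProj.IsProjective (f ∣_ V) := by
  classical
  haveI : IsLocallyNoetherian S := LocallyOfFiniteType.isLocallyNoetherian g
  haveI : CompactSpace S := QuasiCompact.compactSpace_of_compactSpace g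
  haveI : IsNoetherian S := {}
  haveI : S.IsSeparated := ⟨by rw [← Limits.terminal.comp_from g]; infer_instance⟩
  haveI : IsLocallyNoetherian X := LocallyOfFiniteType.isLocallyNoetherian f
  haveI : CompactSpace X := QuasiCompact.compactSpace_of_compactSpace f
  haveI : IsNoetherian X := {}
  constructor
  · rintro ⟨U, -, hq, hmeet⟩
    let V : S.Opens := ⟨(⇑f.base '' (U : Set X)ᶜ)ᶜ, (f.isClosedMap _ U.2.isClosed_compl).isOpen_compl⟩
    have hle : f ⁻¹ᵁ V ≤ U := fun x hx => by
      by_contra h
      exact hx ⟨x, h, rfl⟩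
    refine ⟨V, dense_iff_inter_open.2 fun W hW ⟨s, hs⟩ => ?_, ?_⟩
    · obtain ⟨s', hs', hs'V⟩ := hmeet s
      obtain ⟨t, -, ht⟩ := (Agent.FlatMorLocalStr.isIrreducible_connectedComponent g s).isPreirreducible W V hW V.2
        ⟨s, mem_connectedComponent, hs⟩ ⟨s', hs', hs'V⟩
      exact ⟨t, ht.1, ht.2⟩
    · obtain ⟨h1, h2, L, hL⟩ := hq
      haveI : QuasiCompact (X.homOfLE hle) := inferInstance
      have hcomp : X.homOfLE hle ≫ U.ι ≫ f = (f ∣_ V) ≫ V.ι := by
        rw [morphismRestrict_ι, ← Category.assoc, Scheme.homOfLE_ι]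
      have hL' := Agent.AmpleLib.isRelAmple_pullback_of_isEmbedding (U.ι ≫ f) (X.homOfLE hle)
        (X.homOfLE hle).isOpenEmbedding.isEmbedding hL
      rw [hcomp] at hL'
      refine Agent.S4419.result (Or.inr (TopologicalSpace.NoetherianSpace.set (α := S) (V : Set S))) (f ∣_ V) ⟨inferInstance, inferInstance, _,
        Agent.AmpleLib.isRelAmple_of_comp (f ∣_ V) V.ι hL'⟩
  · rintro ⟨V, hV, hP⟩
    refine ⟨f ⁻¹ᵁ V, hV.preimage f.isOpenMap, ?_, fun s => ?_⟩
    · obtain ⟨⟨h1, h2, L, hL⟩, -⟩ := Agent.S4418.result (f ∣_ V) hP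
      haveI : Mor2.IsQuasiAffine V.ι := ⟨inferInstance, fun W hW => ?_⟩
      · obtain ⟨n, -, hn⟩ := Agent.AmpleLib.eventually_isRelAmple_comp (f ∣_ V) V.ι hL
          ((Agent.AmpleLib.isQuasiAffine_iff_isRelAmple (f := V.ι)).1 ‹_›)
        refine ⟨inferInstance, inferInstance, ?_⟩
        rw [← morphismRestrict_ι]
        exact ⟨_, hn n le_rfl⟩
      · haveI : IsAffine (W : Scheme.{u}) := hW
        haveI : CompactSpace (V.ι ⁻¹ᵁ W : Scheme.{u}) :=
          isCompact_iff_compactSpace.1 (QuasiCompact.isCompact_preimage (f := V.ι) _ W.2 hW.isCompact)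
        exact Scheme.IsQuasiAffine.of_isImmersion (V.ι ∣_ W)
    · obtain ⟨t, ht, htV⟩ := dense_iff_inter_open.1 hV (connectedComponent s)
        (Agent.FlatMorLocalStr.isOpen_connectedComponent_of_smooth_field g s) ⟨s, mem_connectedComponent⟩
      refine ⟨t, ht, ?_⟩
      rintro ⟨x, hx, rfl⟩
      exact hx htV

end Groth.Agent.S19377
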