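import Groth.Statements.S19380
import Mathlib.Algebra.Category.ModuleCat.Abelian
import Mathlib.CategoryTheory.Limits.Shapes.Countable
import Mathlib.CategoryTheory.Limits.Types.Pullbacks
import Mathlib.Dynamics.Newton
import Mathlib.Order.CompletePartialOrder
import Mathlib.RingTheory.AdicCompletion.Noetherian
import Mathlib.RingTheory.Etale.Weakly
import Mathlib.RingTheory.Flat.TorsionFree
import Mathlib.RingTheory.Ideal.AssociatedPrime.Localization
import Mathlib.RingTheory.PicardGroup
import Mathlib.RingTheory.PowerSeries.NoZeroDivisors
import Mathlib.RingTheory.PowerSeries.Trunc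
import Mathlib.RingTheory.TotallySplit
import Mathlib.Tactic
import Groth.Agent.CommAlg4.Nilpotent
import Groth.Agent.S14020

set_option linter.all false

set_option autoImplicit false
universe u
open CAlg

open CategoryTheory

namespace Groth.Agent.S19380

/-- Let L be a commutative ring, σ a ring automorphism of L of finite order dividing d (σ^d = 1), and C
an r × r matrix over L. The reverse characteristic polynomial det(1 − T·N) of the twisted product N
= C·σ(C)·σ²(C)⋯σ^(d−1)(C), with σ applied to the entries, is fixed by σ acting on coefficients. (In
the source this is phrased for the fibre at a closed point x of degree d of a convergent F-module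
with Frobenius matrix C: the d-th iterate of the semilinear Frobenius of the fibre is the linear map
with matrix N, so its characteristic polynomial has coefficients in the subfield fixed by the
Frobenius of K(x), namely K, and likewise with the valuation ring in place of K for an integral
F-module; only this linear-algebra statement, over any commutative ring, is given here.) -/
theorem result
    (L : Type u) [CommRing L] (σ : L ≃+* L) (d : ℕ) (hσ : σ ^ d = 1)
    (r : ℕ) (C : Matrix (Fin r) (Fin r) L) :
    (Matrix.charpolyRev (((List.range d).map fun i => C.map ⇑(σ ^ i)).prod)).map (σ : L →+* L) =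
      Matrix.charpolyRev (((List.range d).map fun i => C.map ⇑(σ ^ i)).prod) := by
  set M : ℕ → Matrix (Fin r) (Fin r) L := fun i => C.map ⇑(σ ^ i) with hM
  have hmapch : ∀ N : Matrix (Fin r) (Fin r) L, (Matrix.charpolyRev N).map (σ : L →+* L) = Matrix.charpolyRev (N.map σ) := by
    intro N
    simp only [Matrix.charpolyRev, ← Polynomial.coe_mapRingHom, RingHom.map_det]
    congr 1
    ext i j : 1
    simp [RingHom.mapMatrix_apply, Matrix.one_apply, apply_ite]
  have hcomm : ∀ A B : Matrix (Fin r) (Fin r) L, Matrix.charpolyRev (A * B) = Matrix.charpolyRev (B * A) := by
    intro A B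
    simp only [Matrix.charpolyRev, Matrix.map_mul]
    rw [← Matrix.smul_mul, Matrix.det_one_sub_mul_comm, Matrix.mul_smul]
  rcases d with _ | d
  · rw [hmapch]; simp
  have hshift : (((List.range (d+1)).map M).prod).map σ = ((List.range (d+1)).map fun i => M (i+1)).prod := by
    rw [← RingEquiv.coe_toRingHom, ← RingHom.mapMatrix_apply, map_list_prod, List.map_map]
    congr 1
    refine List.map_congr_left fun i _ => ?_
    ext a b
    simp [hM, pow_succ', Function.Commute.self_iterate (σ : L → L) i (C a b), ← Function.iterate_succ_apply' (⇑σ)]
  rw [hmapch, hshift]
  have e1 : ((List.range (d+1)).map fun i => M (i+1)).prod = ((List.range d).map fun i => M (i+1)).prod * M 0 := by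
    rw [List.range_succ, List.map_append, List.prod_append]
    simp only [List.map_cons, List.map_nil, List.prod_cons, List.prod_nil, mul_one]
    congr 1
    simp only [hM, hσ, pow_zero]
  have e2 : ((List.range (d+1)).map M).prod = M 0 * ((List.range d).map fun i => M (i+1)).prod := by
    rw [List.range_succ_eq_map, List.map_cons, List.prod_cons, List.map_map]; rfl
  rw [e1, e2, hcomm]

end Groth.Agent.S19380
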