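import Groth.Statements.S19381
import Groth.Agent.FlatMor12.DVRCompletion

set_option autoImplicit false
universe u
open CategoryTheory CategoryTheory.Limits AlgebraicGeometry
open FlatMor

namespace Groth.Agent.S19381

/-- Over a discrete valuation ring, let V be a henselian discrete valuation ring with maximal ideal 𝔪, A
a smooth V-algebra, Â the 𝔪A-adic completion of A, and h : X → Spec A a proper morphism with
reduction h₀ : X ×_{Spec A} Spec(A/𝔪A) → Spec(A/𝔪A). Then X is flat over V and h₀ is flat if and
only if the base change of h to Spec Â is flat. (The published statement is for an excellent normal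
ring V with a henselian pair (V, V/I) and the projective lift h built from lifted equations, and
also lists the base changes to the weak completion and to the henselization of (A, 𝔪A); it rests on
a lemma asserting 'B flat over V iff B̂ flat over V' for V-algebras B of finite type, which fails
when V has dimension ≥ 2 (V = ℤ_p[[x]], I = (p), B = V[y]/(x, py − 1) ≅ ℚ_p has B̂ = 0), so the
statement is given over a discrete valuation ring and for an arbitrary proper h.) -/
theorem result
    (V : Type u) [CommRing V] [IsDomain V] [IsDiscreteValuationRing V] [HenselianLocalRing V]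
    (A : Type u) [CommRing A] [Algebra V A] [Algebra.Smooth V A]
    (X : Scheme.{u}) (h : X ⟶ Spec (.of A)) [IsProper h] :
    (Flat (h ≫ Spec.map (CommRingCat.ofHom (algebraMap V A))) ∧
        Flat (pullback.snd h (Spec.map (CommRingCat.ofHom
          (Ideal.Quotient.mk ((IsLocalRing.maximalIdeal V).map (algebraMap V A))))))) ↔
      Flat (pullback.snd h (Spec.map (CommRingCat.ofHom
          (algebraMap A (AdicCompletion ((IsLocalRing.maximalIdeal V).map (algebraMap V A)) A))))) := by
  have : IsNoetherianRing A := Algebra.FiniteType.isNoetherianRing V A
  have hs : Smooth (Groth.Agent.FlatMor12.DVRCompletion.str (V := V) (A := A)) := by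
    rw [HasRingHomProperty.Spec_iff (P := @Smooth), CommRingCat.hom_ofHom, RingHom.smooth_algebraMap]
    infer_instance
  refine ⟨fun hh => Groth.Agent.FlatMor12.DVRCompletion.flat_completion h hh.1 hh.2, fun hh => ⟨?_, ?_⟩⟩
  · exact Groth.Agent.FlatMor12.DVRCompletion.flat_comp_of_flat_completion h inferInstance inferInstance
  · obtain ⟨b, hb⟩ := Groth.Agent.FlatMor12.DVRCompletion.exists_red_comp_compl (V := V) (A := A)
    exact Groth.Agent.FlatMor12.DVRCompletion.stable_red h @Flat _ _ b hb hh

end Groth.Agent.S19381
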