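import Groth.Statements.S19382
import Groth.Agent.FlatMor12.DVRCompletion

set_option autoImplicit false
universe u
open CategoryTheory CategoryTheory.Limits AlgebraicGeometry
open FlatMor

namespace Groth.Agent.S19382

/-- Over a discrete valuation ring, let V be a henselian discrete valuation ring with maximal ideal 𝔪, A
a smooth V-algebra, Â the 𝔪A-adic completion of A, and h : X → Spec A a proper morphism with
reduction h₀ over Spec(A/𝔪A). Then X is flat over V and h₀ is smooth if and only if the base change
of h to Spec Â is smooth. (As for the flat case, the published statement concerns an excellent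
normal base ring with a henselian pair and the projective lift built from lifted equations, together
with the weak completion and the henselization; it is given here over a discrete valuation ring and
for an arbitrary proper h.) -/
theorem result
    (V : Type u) [CommRing V] [IsDomain V] [IsDiscreteValuationRing V] [HenselianLocalRing V]
    (A : Type u) [CommRing A] [Algebra V A] [Algebra.Smooth V A]
    (X : Scheme.{u}) (h : X ⟶ Spec (.of A)) [IsProper h] :
    (Flat (h ≫ Spec.map (CommRingCat.ofHom (algebraMap V A))) ∧
        Smooth (pullback.snd h (Spec.map (CommRingCat.ofHom
          (Ideal.Quotient.mk ((IsLocalRing.maximalIdeal V).map (algebraMap V A))))))) ↔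
      Smooth (pullback.snd h (Spec.map (CommRingCat.ofHom
          (algebraMap A (AdicCompletion ((IsLocalRing.maximalIdeal V).map (algebraMap V A)) A))))) := by
  have : IsNoetherianRing A := Algebra.FiniteType.isNoetherianRing V A
  have hs : Smooth (Groth.Agent.FlatMor12.DVRCompletion.str (V := V) (A := A)) := by
    rw [HasRingHomProperty.Spec_iff (P := @Smooth), CommRingCat.hom_ofHom, RingHom.smooth_algebraMap]
    infer_instance
  refine ⟨fun hh => Groth.Agent.FlatMor12.DVRCompletion.smooth_completion h hh.1 hh.2, fun hh => ⟨?_, ?_⟩⟩
  · exact Groth.Agent.FlatMor12.DVRCompletion.flat_comp_of_flat_completion h inferInstance inferInstance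
  · obtain ⟨b, hb⟩ := Groth.Agent.FlatMor12.DVRCompletion.exists_red_comp_compl (V := V) (A := A)
    exact Groth.Agent.FlatMor12.DVRCompletion.stable_red h @Smooth _ _ b hb hh

end Groth.Agent.S19382
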