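import Groth.Statements.S19383
import Mathlib
import Groth.Prelude

set_option linter.all false

set_option autoImplicit false
universe u
open CAlg

open CategoryTheory

namespace Groth.Agent.S19383

/-- Over a discrete valuation ring, let V be a henselian discrete valuation ring with maximal ideal 𝔪
and B a Noetherian V-algebra, B̂ its 𝔪B-adic completion. Then B is flat over V if and only if B̂ is
flat over V. (The published lemma takes V an excellent normal ring with an ideal I such that (V,
V/I) is a henselian pair and B of finite type; in that generality it fails: for V = ℤ_p[[x]], I =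
(p) and B = V[y]/(x, py − 1) ≅ ℚ_p one has IB = B, so B̂ = 0 is flat while B is not flat over V.
Over a discrete valuation ring flatness is torsion-freeness and the statement holds for every
Noetherian B.) -/
theorem result
    (V : Type u) [CommRing V] [IsDomain V] [IsDiscreteValuationRing V] [HenselianLocalRing V]
    (B : Type u) [CommRing B] [Algebra V B] [IsNoetherianRing B] :
    Module.Flat V B ↔
      Module.Flat V (AdicCompletion ((IsLocalRing.maximalIdeal V).map (algebraMap V B)) B) := by
  set I := (IsLocalRing.maximalIdeal V).map (algebraMap V B)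
  haveI := AdicCompletion.flat_of_isNoetherian I
  refine ⟨fun h => Module.Flat.trans V B _, fun h => ?_⟩
  haveI := Module.Flat.isTorsionFree (R := V) (M := AdicCompletion I B)
  rw [Module.Flat.flat_iff_torsion_eq_bot_of_isBezout, eq_bot_iff]
  intro t ht
  obtain ⟨⟨c, hc⟩, hct⟩ := ht
  have hc0 : c ≠ 0 := nonZeroDivisors.ne_zero hc
  have hct' : c • t = 0 := hct
  obtain ⟨ϖ, hϖ⟩ := IsDiscreteValuationRing.exists_irreducible V
  obtain ⟨n, hn⟩ := IsDiscreteValuationRing.associated_pow_irreducible hc0 hϖ
  obtain ⟨w, hw⟩ := hn
  have hϖt : (algebraMap V B ϖ) ^ n * t = 0 := by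
    rw [← map_pow, ← hw, map_mul, mul_right_comm, ← Algebra.smul_def, hct', zero_mul]
  have h0 : AdicCompletion.of I B t = 0 := by
    have : c • AdicCompletion.of I B t = 0 := by
      rw [← algebraMap_smul B c, ← map_smul, algebraMap_smul, hct', map_zero]
    exact (smul_eq_zero.1 this).resolve_left hc0
  have hmem : t ∈ ⨅ i : ℕ, I ^ i • (⊤ : Submodule B B) := Submodule.mem_iInf _ |>.2 fun i => by
    have := congrArg (fun z : AdicCompletion I B => z.val i) h0
    exact (Submodule.Quotient.mk_eq_zero _).1 this
  obtain ⟨r, hr⟩ := (Ideal.mem_iInf_smul_pow_eq_bot_iff I t).1 hmem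
  have hr' : (r : B) * t = t := hr
  have hrϖ : (algebraMap V B ϖ) ∣ (r : B) := by
    rw [← Ideal.mem_span_singleton]
    have : I = Ideal.span {algebraMap V B ϖ} := by
      show (IsLocalRing.maximalIdeal V).map _ = _
      rw [hϖ.maximalIdeal_eq, Ideal.map_span, Set.image_singleton]
    exact this ▸ r.2
  obtain ⟨d, hd⟩ := hrϖ
  have : (r : B) ^ n * t = t := by
    clear hϖt hw
    induction n with
    | zero => simp
    | succ n ih => rw [pow_succ, mul_assoc, hr', ih]
  rw [hd, mul_pow, mul_right_comm, hϖt, zero_mul] at this
  exact this.symm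

end Groth.Agent.S19383
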