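import Groth.Statements.S19384
import Mathlib
import Groth.Agent.VerschLib29.Basic

set_option autoImplicit false
universe u
open Versch

namespace Groth.Agent.S19384

/-- Over a field and for one finite level, let k be a field of characteristic p > 0 and G = Spec A a
finite commutative k-group scheme (A a finite-dimensional commutative cocommutative Hopf algebra)
killed by p^n, i.e. the p^n-th power map of G is the trivial homomorphism, and suppose the
Verschiebung of G is an isomorphism (the ring map v : A → A ⊗_k k^(p) characterised as the
Verschiebung is bijective). Then G is infinitesimal, more precisely the n-th iterate of its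
Frobenius is trivial: a^(p^n) = 0 for every a in the augmentation ideal. (The source states this for
the p^n-torsion levels of a p-divisible group of multiplicative type over any scheme of
characteristic p and reduces to a field fibre by fibre; it also records that the Cartier dual has
unipotent fibres, which is not stated here.) -/
theorem result
    (p : ℕ) [Fact p.Prime] (k : Type u) [Field k] [CharP k p]
    (A : Type u) [CommRing A] [HopfAlgebra k A] [Coalgebra.IsCocomm k A] [Module.Finite k A]
    (n : ℕ)
    (hn : SGA3b.powConv k A (p ^ n) = (Algebra.ofId k A).comp (Bialgebra.counitAlgHom k A))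
    (v : A →+* FrobAlg.BaseChange p k A) (hv : Versch.IsVerschiebung p k A v)
    (hbij : Function.Bijective v)
    (a : A) (ha : Coalgebra.counit (R := k) a = 0) : a ^ (p ^ n) = 0 := by
  haveI : Nontrivial A := Bialgebra.nontrivial k
  haveI : CharP A p := charP_of_injective_algebraMap (algebraMap k A).injective p
  have hpow : ∀ y : A, ∃ x, SGA3b.powConv k A p x = y ^ p := fun y => by
    obtain ⟨x, hx⟩ := hbij.2 (y ⊗ₜ (1 : FrobAlg.Twist p k))
    refine ⟨x, ?_⟩
    rw [← Groth.Agent.VerschLib29.relFrob_verschiebung p hv, hx, Groth.Agent.VerschLib29.relFrob_tmul, map_one,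
      map_one, mul_one]
  have key : ∀ (m : ℕ) (y : A), ∃ x, SGA3b.powConv k A (p ^ m) x = y ^ (p ^ m) := by
    intro m
    induction m with
    | zero => exact fun y => ⟨y, by rw [pow_zero, pow_one, SGA3b.powConv, pow_one]; rfl⟩
    | succ m ih =>
      intro y
      obtain ⟨x, hx⟩ := hpow y
      obtain ⟨x', hx'⟩ := ih x
      exact ⟨x', by rw [pow_succ', Groth.Agent.VerschLib29.powConv_mul, hx', map_pow, hx, ← pow_mul]⟩
  obtain ⟨x, hx⟩ := key n a
  have h : a ^ (p ^ n) = algebraMap k A (Coalgebra.counit x) := by
    rw [← hx, hn]; rfl
  have h0 := congrArg (Bialgebra.counitAlgHom k A) h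
  rw [map_pow, AlgHom.commutes, Algebra.algebraMap_self, RingHom.id_apply] at h0
  rw [h, ← h0, Bialgebra.counitAlgHom_apply, ha, zero_pow (pow_ne_zero n (Fact.out (p := p.Prime)).ne_zero), map_zero]

end Groth.Agent.S19384
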