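import Groth.Statements.S19385
import Groth.Agent.Lef23.RegularSection
import Groth.Agent.EulerPn5.TangentSurface
import Groth.Agent.EulerPn5.SerreCorr
import Groth.Agent.KPB28.ExtSes
import Groth.Agent.KPush28.Basic
import Groth.Agent.DCat.ClosedPush
import Groth.Agent.ExtPowEx28.Pull
import Groth.Agent.Hyper5.Smooth
import Groth.Agent.Coherent.Serre.Vanishing
-- import your own Groth.Agent.* helpers here

set_option autoImplicit false
set_option linter.style.haveILetI false
set_option linter.unusedSectionVars false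
set_option backward.isDefEq.respectTransparency.types false
set_option maxHeartbeats 1000000
universe u
open CategoryTheory CategoryTheory.Limits AlgebraicGeometry
open HdgLef

namespace Groth.Agent.S19385

open Groth.Agent Groth.Agent.Coherent Groth.Agent.PicLib Groth.Agent.AmpleLib Groth.Agent.SerreDual
open Opposite TopologicalSpace

section Wedge

variable {X : Scheme.{u}}

/-- `0 → N ⊗ ⋀^b Q → ⋀^(b+1) E → ⋀^(b+1) Q → 0` for `0 → N → E → Q → 0` with `N` a line bundle. -/
theorem exists_ses_sub_line {S : ShortComplex X.Modules} (hS : S.ShortExact)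
    (h₁r : FlatMod.IsFinLocFreeOfRank 1 S.X₁) (h₃ : FlatMod.IsFinLocFree S.X₃) (b : ℕ)
    {A B C : X.Modules} (hA : ExtPow.IsExtPow b S.X₃ A) (hB : ExtPow.IsExtPow (b + 1) S.X₂ B)
    (hC : ExtPow.IsExtPow (b + 1) S.X₃ C) :
    ∃ T : ShortComplex X.Modules, T.ShortExact ∧ Nonempty (T.X₁ ≅ CohB1.tensorMod S.X₁ A) ∧
      Nonempty (T.X₂ ≅ B) ∧ Nonempty (T.X₃ ≅ C) := by
  have h₁ := VarietyLib.isFinLocFree_of_rank h₁r
  have h₂ := ExtFilt28.isFinLocFree_extension hS h₁ h₃
  choose L' hL' hp' using fun i => ExtPowEx28.exists_isExtPow h₁ i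
  choose L hL hp using fun i => ExtPowEx28.exists_isExtPow h₂ i
  choose L'' hL'' hp'' using fun i => ExtPowEx28.exists_isExtPow h₃ i
  choose φ' c' using hp'
  choose φ c using hp
  choose φ'' c'' using hp''
  haveI : ∀ i, Coh.IsQCoh (L' i) := fun i => CAlgH3.LocFreeFactor.isQCoh_of_finLocFree (hL' i)
  haveI : ∀ i, Coh.IsQCoh (L i) := fun i => CAlgH3.LocFreeFactor.isQCoh_of_finLocFree (hL i)
  haveI : ∀ i, Coh.IsQCoh (L'' i) := fun i => CAlgH3.LocFreeFactor.isQCoh_of_finLocFree (hL'' i)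
  have hzero : ∀ i j : ℕ, 2 ≤ i → IsZero (CohB1.tensorMod (L' i) (L j)) := fun i j hi => by
    have hz := EulerPn5.isZero_of_isExtPow h₁r (⟨φ' i, c' i⟩ : ExtPow.IsExtPow i S.X₁ (L' i)) (by omega)
    have h2 : IsZero (CohB1.tensorMod (L j) (L' i)) := ((DCoh.tensorBi (X := X)).obj (L j)).map_isZero hz
    exact h2.of_iso (AmpleLib.tensorComm (L' i) (L j))
  have hsurj : Epi (ExtFilt28.muH φ' φ c' c (zero_add (b + 1))) := epi_of_locally_surjective _ fun W a y hy => by
    obtain ⟨V, hyV, hVW, -⟩ := ExtFilt28.exists_good hS h₁ h₃ W y hy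
    obtain ⟨z, hz⟩ := ExtFilt28.muSec_zero_surjective φ' φ (V := V) (resM _ hVW a)
    exact ⟨V.1, hVW, hyV, z, (ExtFilt28.muH_app φ' φ c' c (zero_add (b + 1)) V z).trans hz⟩
  haveI : IsIso (Abelian.image.ι (ExtFilt28.muH φ' φ c' c (zero_add (b + 1)))) := by
    haveI : Epi (Abelian.image.ι (ExtFilt28.muH φ' φ c' c (zero_add (b + 1)))) :=
      epi_of_epi_fac (Abelian.image.fac (ExtFilt28.muH φ' φ c' c (zero_add (b + 1))))
    exact isIso_of_mono_of_epi _
  obtain ⟨w, hw⟩ := ExtFilt28.exists_step hS h₁ h₃ φ' φ φ'' c' c c''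
    (show 0 + (b + 1) = b + 1 from zero_add _) (show 0 + 1 + b = b + 1 by omega)
  have hone : IsIso (ExtFilt28.toQ hS h₁ h₃ φ' φ φ'' c' c c'' (show 0 + 1 + b = b + 1 by omega)) := by
    cases b with
    | zero => exact ExtFilt28.isIso_toQ_zero hS h₁ h₃ φ' φ φ'' c' c c'' _
    | succ d =>
      obtain ⟨v, hv⟩ := ExtFilt28.exists_step hS h₁ h₃ φ' φ φ'' c' c c''
        (show 0 + 1 + (d + 1) = d + 1 + 1 by omega) (show 0 + 1 + 1 + d = d + 1 + 1 by omega)
      refine hv.isIso_g_iff.2 ?_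
      rw [IsZero.iff_id_eq_zero]
      refine (cancel_epi (ExtFilt28.toFil φ' φ c' c (show 0 + 1 + 1 + d = d + 1 + 1 by omega))).1 ?_
      exact (hzero (0 + 1 + 1) d (by omega)).eq_of_src _ _
  haveI := hone
  obtain ⟨z0⟩ := KvbLam28.exists_iso_of_isExtPow ⟨φ' 0, c' 0⟩ (KvbLam28.isExtPow_zero S.X₁)
  obtain ⟨z1⟩ := KvbLam28.exists_iso_of_isExtPow ⟨φ' (0 + 1), c' (0 + 1)⟩ (KvbLam28.isExtPow_one S.X₁)
  obtain ⟨eA⟩ := KvbLam28.exists_iso_of_isExtPow ⟨φ'' b, c'' b⟩ hA
  obtain ⟨eB⟩ := KvbLam28.exists_iso_of_isExtPow ⟨φ (b + 1), c (b + 1)⟩ hB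
  obtain ⟨eC⟩ := KvbLam28.exists_iso_of_isExtPow ⟨φ'' (b + 1), c'' (b + 1)⟩ hC
  exact ⟨_, hw,
    ⟨asIso (ExtFilt28.toQ hS h₁ h₃ φ' φ φ'' c' c c'' (show 0 + 1 + b = b + 1 by omega)) ≪≫ AmpleLib.tensorIso z1 eA⟩,
    ⟨asIso (Abelian.image.ι (ExtFilt28.muH φ' φ c' c (zero_add (b + 1)))) ≪≫ eB⟩,
    ⟨AmpleLib.tensorIso z0 eC ≪≫ AmpleLib.unitTensorIso C⟩⟩

end Wedge

section Main

variable (k : Type u) [Field k] {X : Scheme.{u}} [X.Over (Spec (CommRingCat.of k))]
  [IsProper (X ↘ Spec (CommRingCat.of k))] [Smooth (X ↘ Spec (CommRingCat.of k))]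

include k in
theorem left_of_ses {S : ShortComplex X.Modules} (hS : S.ShortExact) (q : ℕ)
    (h3 : Subsingleton (Coh.HH X S.X₃ q)) (h2 : Subsingleton (Coh.HH X S.X₂ (q + 1))) :
    Subsingleton (Coh.HH X S.X₁ (q + 1)) := by
  haveI := h2
  exact (hmap_injective_of_shortExact k hS q h3).subsingleton

include k in
theorem right_of_ses {S : ShortComplex X.Modules} (hS : S.ShortExact) (q : ℕ)
    (h2 : Subsingleton (Coh.HH X S.X₂ q)) (h1 : Subsingleton (Coh.HH X S.X₁ (q + 1))) :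
    Subsingleton (Coh.HH X S.X₃ q) := by
  haveI := h2
  exact (hmap_surjective_of_shortExact k hS q h1).subsingleton

include k in
theorem of_iso {M N : X.Modules} (e : M ≅ N) (q : ℕ) (h : Subsingleton (Coh.HH X N q)) :
    Subsingleton (Coh.HH X M q) := by
  haveI := h
  exact subsingleton_HH_of_iso k e q

variable {Y : Scheme.{u}} (i : Y ⟶ X) [IsClosedImmersion i]

/-- The projection formula. -/
noncomputable def pushTensor (M : Y.Modules) (G : X.Modules) :
    CohB1.tensorMod ((Coh.push i).obj M) G ≅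
      (Coh.push i).obj (CohB1.tensorMod M ((Scheme.Modules.pullback i).obj G)) :=
  @asIso _ _ _ _ (DCat.ClosedPush.projMap i M G) (DCat.ClosedPush.isIso_projMap i M G)

/-- Restrictions as modules on the ambient scheme. -/
noncomputable def pushPull (G : X.Modules) :
    (Coh.push i).obj ((Scheme.Modules.pullback i).obj G) ≅
      CohB1.tensorMod ((Coh.push i).obj (Coh.structureModule Y)) G :=
  (Coh.push i).mapIso (AmpleLib.unitTensorIso _).symm ≪≫ (pushTensor i _ G).symm

include k in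
theorem vanish_forms [Smooth (i ≫ (X ↘ Spec (CommRingCat.of k)))] (n : ℕ) (hn : topologicalKrullDim X ≤ n)
    {L : X.Modules} (hL : PicF.IsInvertible L) (m : ℕ)
    (eI : CohB1.tensorMod (ClSub.idealMod i.ker) (CohB1.tensorPow L m) ≅ Coh.structureModule X)
    (hv : ∀ (b : ℕ) (B : X.Modules), ExtPow.IsExtPow b (Omega.sheaf (X ↘ Spec (CommRingCat.of k))) B →
      ∀ t, m ≤ t → ∀ q, 0 < q → Subsingleton (Coh.HH X (CohB1.tensorMod B (CohB1.tensorPow L t)) q)) :
    ∀ (a b : ℕ) (OmY : Y.Modules), ExtPow.IsExtPow b (Omega.sheaf (i ≫ (X ↘ Spec (CommRingCat.of k)))) OmY →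
      ∀ j : ℕ, 1 ≤ j → n ≤ a + b →
      Subsingleton (Coh.HH X (CohB1.tensorMod ((Coh.push i).obj OmY) (CohB1.tensorPow L (j * m))) a) := by
  let f := X ↘ Spec (CommRingCat.of k)
  let N := Omega.conormal i
  have hΩX : FlatMod.IsFinLocFree (Omega.sheaf f) := Hyper5.isFinLocFree_omega f n hn
  have hdimY : topologicalKrullDim Y ≤ n := (i.isClosedEmbedding.isInducing.topologicalKrullDim_le).trans hn
  have hΩY : FlatMod.IsFinLocFree (Omega.sheaf (i ≫ f)) := Hyper5.isFinLocFree_omega (i ≫ f) n hdimY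
  have hIinv : PicF.IsInvertible (ClSub.idealMod i.ker) :=
    Groth.Agent.Lef23.isInvertible_inverse (AmpleLib.isInvertible_tensorPow hL m) ⟨AmpleLib.tensorComm _ _ ≪≫ eI⟩
  have hN : FlatMod.IsFinLocFreeOfRank 1 N := isFinLocFreeOfRank_one (PicLoc.isInvertible_pullback i hIinv)
  obtain ⟨φ, g, w, hS⟩ := EulerPn5.exists_conormal_seq i f
  let S := ShortComplex.mk φ g w
  have hT : ∀ (b : ℕ) (A C : Y.Modules) (B : X.Modules), ExtPow.IsExtPow b (Omega.sheaf (i ≫ f)) A →
      ExtPow.IsExtPow (b + 1) (Omega.sheaf f) B → ExtPow.IsExtPow (b + 1) (Omega.sheaf (i ≫ f)) C →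
      ∃ T : ShortComplex Y.Modules, T.ShortExact ∧ Nonempty (T.X₁ ≅ CohB1.tensorMod N A) ∧
        Nonempty (T.X₂ ≅ (Scheme.Modules.pullback i).obj B) ∧ Nonempty (T.X₃ ≅ C) := fun b A C B hA hB hC =>
    exists_ses_sub_line (S := S) hS hN hΩY b hA (ExtPowEx28.isExtPow_pullback_vb i hΩX hB) hC
  obtain ⟨s⟩ := AmpleLib.exists_pullStructureIso i
  intro a
  induction a with
  | zero =>
    intro b OmY hO j _ hb
    refine EulerLib.subsingleton_HH_of_isZero ?_ 0
    have hz : IsZero OmY := by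
      rcases (show n < b ∨ b = n by omega) with hb' | rfl
      · exact Hyper5.isZero_extPow (i ≫ f) n hdimY hb' hO
      · obtain ⟨C, -, hC⟩ := ExtPowEx28.exists_isExtPow hΩY (b + 1)
        obtain ⟨B, -, hB⟩ := ExtPowEx28.exists_isExtPow hΩX (b + 1)
        obtain ⟨T, hT', ⟨e₁⟩, ⟨e₂⟩, -⟩ := hT b OmY C B hO hB hC
        haveI := hT'.mono_f
        have h2 : IsZero T.X₂ :=
          ((Scheme.Modules.pullback i).map_isZero (Hyper5.isZero_extPow f b hn (Nat.lt_succ_self b) hB)).of_iso e₂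
        have h1 : IsZero (CohB1.tensorMod N OmY) := (IsZero.of_mono T.f h2).of_iso e₁.symm
        have h3 : IsZero (CohB1.tensorMod ((Scheme.Modules.pullback i).obj (CohB1.tensorPow L m))
            (CohB1.tensorMod N OmY)) := ((DCoh.tensorBi (X := Y)).obj _).map_isZero h1
        exact h3.of_iso ((AmpleLib.unitTensorIso OmY).symm ≪≫ AmpleLib.tensorIso
          (s.symm ≪≫ (Scheme.Modules.pullback i).mapIso (eI.symm ≪≫ AmpleLib.tensorComm _ _) ≪≫
            DCat.PullTensor.pullTensorIso i (CohB1.tensorPow L m) (ClSub.idealMod i.ker)) (Iso.refl OmY) ≪≫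
          DCat.TensorAssoc.assocIso _ _ _)
    have hp : IsZero ((Coh.push i).obj OmY) := (Coh.push i).map_isZero hz
    exact (((DCoh.tensorBi (X := X)).obj (CohB1.tensorPow L (j * m))).map_isZero hp).of_iso (AmpleLib.tensorComm _ _)
  | succ a ih =>
    intro b OmY hO j hj hab
    obtain ⟨C, -, hC⟩ := ExtPowEx28.exists_isExtPow hΩY (b + 1)
    obtain ⟨B, hBf, hB⟩ := ExtPowEx28.exists_isExtPow hΩX (b + 1)
    obtain ⟨T, hT', ⟨e₁⟩, ⟨e₂⟩, ⟨e₃⟩⟩ := hT b OmY C B hO hB hC
    let G := CohB1.tensorPow L ((j + 1) * m)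
    have hG : FlatMod.IsFinLocFree G := SerreDual.isFinLocFree_of_invertible (AmpleLib.isInvertible_tensorPow hL _)
    have hTX : ((T.map (Scheme.Modules.pushforward i)).map (tensE G)).ShortExact :=
      exact_tensE_map hG (KPush28.shortExact_push i hT')
    obtain ⟨p, -⟩ := AmpleLib.exists_powIso hL m (j * m)
    let eG : CohB1.tensorMod (CohB1.tensorPow L m) (CohB1.tensorPow L (j * m)) ≅ G :=
      p ≪≫ eqToIso (congrArg (CohB1.tensorPow L) (by ring))
    have h3 : Subsingleton (Coh.HH X (CohB1.tensorMod G ((Coh.push i).obj T.X₃)) a) :=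
      of_iso k (AmpleLib.tensorIso (Iso.refl G) ((Coh.push i).mapIso e₃) ≪≫ AmpleLib.tensorComm _ _) a
        (ih (b + 1) C hC (j + 1) (by omega) (by omega))
    have hq : Subsingleton (Coh.HH X (CohB1.tensorMod (CohB1.tensorMod B G)
        ((Coh.push i).obj (Coh.structureModule Y))) (a + 1)) := by
      refine right_of_ses k (exact_tensE_map (ExtFilt28.isFinLocFree_tensor hBf hG)
        (EulerPn5.SerreCorr.shortExact_idealSeq i)) (a + 1) ?_ ?_
      · exact of_iso k (AmpleLib.tensorComm (CohB1.tensorMod B G) (Coh.structureModule X) ≪≫ AmpleLib.unitTensorIso _) _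
          (hv (b + 1) B hB _ (by nlinarith) _ (by omega))
      · refine of_iso k (DCat.TensorAssoc.assocIso B G (ClSub.idealMod i.ker) ≪≫ AmpleLib.tensorIso (Iso.refl B)
          (AmpleLib.tensorComm G (ClSub.idealMod i.ker) ≪≫ AmpleLib.tensorIso (Iso.refl _) eG.symm ≪≫
            (DCat.TensorAssoc.assocIso _ _ _).symm ≪≫ AmpleLib.tensorIso eI (Iso.refl _) ≪≫ AmpleLib.unitTensorIso _)) _
          (hv (b + 1) B hB _ (by nlinarith) _ (by omega))
    let O' : X.Modules := (Coh.push i).obj (Coh.structureModule Y)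
    let w₁ : CohB1.tensorMod G ((Coh.push i).obj T.X₂) ≅ CohB1.tensorMod G (CohB1.tensorMod O' B) :=
      AmpleLib.tensorIso (Iso.refl G) ((Coh.push i).mapIso e₂ ≪≫ pushPull i B)
    let w₂ : CohB1.tensorMod G (CohB1.tensorMod O' B) ≅ CohB1.tensorMod (CohB1.tensorMod O' B) G :=
      AmpleLib.tensorComm G (CohB1.tensorMod O' B)
    let w₃ : CohB1.tensorMod (CohB1.tensorMod O' B) G ≅ CohB1.tensorMod O' (CohB1.tensorMod B G) :=
      DCat.TensorAssoc.assocIso O' B G
    let w₄ : CohB1.tensorMod O' (CohB1.tensorMod B G) ≅ CohB1.tensorMod (CohB1.tensorMod B G) O' :=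
      AmpleLib.tensorComm O' (CohB1.tensorMod B G)
    have h2 : Subsingleton (Coh.HH X (CohB1.tensorMod G ((Coh.push i).obj T.X₂)) (a + 1)) :=
      of_iso k (w₁ ≪≫ w₂ ≪≫ w₃ ≪≫ w₄) (a + 1) hq
    have h1 : Subsingleton (Coh.HH X (CohB1.tensorMod G ((Coh.push i).obj T.X₁)) (a + 1)) :=
      left_of_ses k hTX a h3 h2
    let I' : X.Modules := ClSub.idealMod i.ker
    let P : X.Modules := (Coh.push i).obj OmY
    let Lm : X.Modules := CohB1.tensorPow L m
    let Lj : X.Modules := CohB1.tensorPow L (j * m)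
    let M : Y.Modules := (Scheme.Modules.pullback i).obj I'
    let hNM : N ≅ M := Iso.refl M
    let v₁ : Lj ≅ CohB1.tensorMod I' G :=
      (AmpleLib.unitTensorIso Lj).symm ≪≫ AmpleLib.tensorIso eI.symm (Iso.refl Lj) ≪≫
        DCat.TensorAssoc.assocIso I' Lm Lj ≪≫ AmpleLib.tensorIso (Iso.refl I') eG
    let v₂ : CohB1.tensorMod P Lj ≅ CohB1.tensorMod (CohB1.tensorMod P I') G :=
      AmpleLib.tensorIso (Iso.refl P) v₁ ≪≫ (DCat.TensorAssoc.assocIso P I' G).symm
    let v₃ : CohB1.tensorMod P I' ≅ (Coh.push i).obj (CohB1.tensorMod OmY M) := pushTensor i OmY I'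
    let v₄ : CohB1.tensorMod OmY M ≅ T.X₁ :=
      AmpleLib.tensorComm OmY M ≪≫ AmpleLib.tensorIso hNM.symm (Iso.refl OmY) ≪≫ e₁.symm
    let v₅ : CohB1.tensorMod (CohB1.tensorMod P I') G ≅ CohB1.tensorMod G ((Coh.push i).obj T.X₁) :=
      AmpleLib.tensorComm (CohB1.tensorMod P I') G ≪≫
        AmpleLib.tensorIso (Iso.refl G) (v₃ ≪≫ (Coh.push i).mapIso v₄)
    exact of_iso k (v₂ ≪≫ v₅) (a + 1) h1

end Main

/-- Let X be a smooth proper scheme of dimension n over a field k and L an ample invertible O_X-module.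
There is m₀ such that for every m ≥ m₀ and every global section s of L^{⊗m} with O_X → L^{⊗m}
injective (a regular section) whose zero scheme Y, with inclusion i : Y → X, is smooth over k, one
has H^a(X, i_*Ω^b ⊗ L^{⊗m}) = 0 for every b-th exterior power Ω^b of the sheaf of differentials of Y
over k (in the affine-local sense) and all a, b with a + b > n − 1. (The published statement takes Y
among the degree-m hypersurface sections of a projective embedding and twists with O_X(Y); the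
published argument uses only Serre vanishing for the powers of an ample invertible module, so zero
schemes of regular sections of L^{⊗m} are allowed here, with O_X(Y) = L^{⊗m}.) -/
theorem result
    (k : Type u) [Field k] (X : Scheme.{u}) [X.Over (Spec (CommRingCat.of k))]
    [IsProper (X ↘ Spec (CommRingCat.of k))] [Smooth (X ↘ Spec (CommRingCat.of k))] (n : ℕ) (hn : topologicalKrullDim X = n)
    (L : X.Modules) (hL : CohB1.IsAmple L) :
    ∃ m₀ : ℕ, ∀ (m : ℕ), m₀ ≤ m →
      ∀ (s : Coh.structureModule X ⟶ CohB1.tensorPow L m) [Mono s]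
        [Smooth ((PicF2.zeroScheme (CohB1.tensorPow L m) s).subschemeι ≫ (X ↘ Spec (CommRingCat.of k)))]
        (a b : ℕ) (OmY : (PicF2.zeroScheme (CohB1.tensorPow L m) s).subscheme.Modules),
        ExtPow.IsExtPow b (Omega.sheaf ((PicF2.zeroScheme (CohB1.tensorPow L m) s).subschemeι ≫ (X ↘ Spec (CommRingCat.of k)))) OmY →
        n ≤ a + b →
        Subsingleton (Coh.HH X (CohB1.tensorMod ((Coh.push (PicF2.zeroScheme (CohB1.tensorPow L m) s).subschemeι).obj OmY)
          (CohB1.tensorPow L m)) a) := by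
  classical
  let f := X ↘ Spec (CommRingCat.of k)
  have hn' : topologicalKrullDim X ≤ n := hn.le
  have hΩX : FlatMod.IsFinLocFree (Omega.sheaf f) := Hyper5.isFinLocFree_omega f n hn'
  haveI : IsNoetherian X := EulerLib.isNoetherian_of_proper k (X := X)
  choose Ω hΩf hΩ using fun b => ExtPowEx28.exists_isExtPow hΩX b
  choose N hN using fun b => Groth.Agent.Coherent.Serre.exists_subsingleton_HH_twist k hL (Ω b)
    (CohBC.isCoh_of_isFinLocFree (hΩf b))
  refine ⟨(Finset.range (n + 1)).sup N, fun m hm s _ _ a b OmY hO hab => ?_⟩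
  have hker : (PicF2.zeroScheme (CohB1.tensorPow L m) s).subschemeι.ker = PicF2.zeroScheme (CohB1.tensorPow L m) s :=
    Scheme.IdealSheafData.ker_subschemeι _
  obtain ⟨e⟩ := Lef23.isInverseOf_zeroScheme (AmpleLib.isInvertible_tensorPow hL.1 m) s
  have hv : ∀ (b : ℕ) (B : X.Modules), ExtPow.IsExtPow b (Omega.sheaf f) B →
      ∀ t, m ≤ t → ∀ q, 0 < q → Subsingleton (Coh.HH X (CohB1.tensorMod B (CohB1.tensorPow L t)) q) := by
    intro b B hB t ht q hq
    obtain ⟨eB⟩ := KvbLam28.exists_iso_of_isExtPow hB (hΩ b)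
    refine of_iso k (AmpleLib.tensorIso eB (Iso.refl _)) q ?_
    rcases Nat.lt_or_ge n b with h | h
    · refine EulerLib.subsingleton_HH_of_isZero ?_ q
      exact (((DCoh.tensorBi (X := X)).obj (CohB1.tensorPow L t)).map_isZero
        (Hyper5.isZero_extPow f n hn' h (hΩ b))).of_iso (AmpleLib.tensorComm _ _)
    · exact hN b t ((Finset.le_sup (Finset.mem_range.2 (by omega))).trans (hm.trans ht)) q hq
  have h := vanish_forms k (PicF2.zeroScheme (CohB1.tensorPow L m) s).subschemeι n hn' hL.1 m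
    (eqToIso (by rw [hker]) ≪≫ AmpleLib.tensorComm _ _ ≪≫ e) hv a b OmY hO 1 le_rfl hab
  rwa [one_mul] at h

end Groth.Agent.S19385
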