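import Groth.Statements.S19386
import Groth.Agent.S19385
import Groth.Agent.Lef23.Neg
import Groth.Agent.Lef23.Structure
import Groth.Agent.FBaseLib.NoEmbedded
import Groth.Agent.SerreDual.RegularVanishing
import Groth.Agent.VarietyLib.SmoothStalk
import Groth.Agent.CurveRR24.RR
-- import your own Groth.Agent.* helpers here

set_option autoImplicit false
set_option linter.style.haveILetI false
set_option linter.unusedSectionVars false
set_option backward.isDefEq.respectTransparency.types false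
set_option maxHeartbeats 1000000
universe u
open CategoryTheory CategoryTheory.Limits AlgebraicGeometry
open HdgLef

namespace Groth.Agent.S19386

open Groth.Agent Groth.Agent.Coherent Groth.Agent.PicLib Groth.Agent.AmpleLib Groth.Agent.SerreDual Groth.Agent.EulerLib
open Groth.Agent.S19385 Opposite TopologicalSpace IsLocalRing

variable (k : Type u) [Field k] {X : Scheme.{u}} [X.Over (Spec (CommRingCat.of k))]
  [IsProper (X ↘ Spec (CommRingCat.of k))]

include k in
theorem mid_of_ses {S : ShortComplex X.Modules} (hS : S.ShortExact) (q : ℕ)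
    (h1 : Subsingleton (Coh.HH X S.X₁ q)) (h3 : Subsingleton (Coh.HH X S.X₃ q)) :
    Subsingleton (Coh.HH X S.X₂ q) := by
  refine subsingleton_of_forall_eq 0 fun x => ?_
  obtain ⟨y, rfl⟩ := (SerreDual.exact_hmap k hS q x).1 (h3.elim _ _)
  rw [h1.elim y 0, map_zero]

include k in
theorem finrank_le_of_ses {S : ShortComplex X.Modules} (hS : S.ShortExact) (q : ℕ) (hc : Coh.IsCoh S.X₃)
    (h1 : Subsingleton (Coh.HH X S.X₁ q)) :
    Module.finrank k (Coh.HH X S.X₂ q) ≤ Module.finrank k (Coh.HH X S.X₃ q) := by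
  haveI := CurveRR24.finite_HH_of_isCoh k hc q
  refine LinearMap.finrank_le_finrank_of_injective (f := hmap k S.g q) ((injective_iff_map_eq_zero _).2 fun x hx => ?_)
  obtain ⟨y, rfl⟩ := (SerreDual.exact_hmap k hS q x).1 hx
  rw [h1.elim y 0, map_zero]

include k in
theorem finrank_eq_of_ses {S : ShortComplex X.Modules} (hS : S.ShortExact) (q : ℕ)
    (h1 : Subsingleton (Coh.HH X S.X₁ q)) (h1' : Subsingleton (Coh.HH X S.X₁ (q + 1))) :
    Module.finrank k (Coh.HH X S.X₂ q) = Module.finrank k (Coh.HH X S.X₃ q) := by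
  refine (LinearEquiv.ofBijective (hmap k S.g q) ⟨(injective_iff_map_eq_zero _).2 fun x hx => ?_,
    hmap_surjective_of_shortExact k hS q h1'⟩).finrank_eq
  obtain ⟨y, rfl⟩ := (SerreDual.exact_hmap k hS q x).1 hx
  rw [h1.elim y 0, map_zero]

variable [Smooth (X ↘ Spec (CommRingCat.of k))]

include k in
theorem depth_locFree [IrreducibleSpace X] (n : ℕ) (hn : topologicalKrullDim X = n) {F : X.Modules}
    (hF : FlatMod.IsFinLocFree F) (x : X) (hx : IsClosed ({x} : Set X)) :
    (n : ℕ∞) ≤ LocCoh.depth (X.presheaf.stalk x) (F.presheaf.stalk x) := by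
  let p := X ↘ Spec (CommRingCat.of k)
  have hreg : ∀ x : X, IsRegularLocalRing (X.presheaf.stalk x) := fun x =>
    VarietyLib.isRegularLocalRing_stalk_of_smooth k X p x
  haveI := isNoetherian_of_proper (k := k) (X := X)
  haveI := isIntegral_of_regular_connected p hreg
  have hgen : ∀ z : X, (∀ w, w ⤳ z → z = w) → DimLib.ptDim p z = n := fun z hz => by
    have h := DimLib.topologicalKrullDim_eq_ptDim_genericPoint (X := X) p
    rw [hn] at h
    rw [hz _ (genericPoint_specializes z)]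
    exact_mod_cast h.symm
  have hdim : ringKrullDim (X.presheaf.stalk x) = (n : WithBot ℕ∞) := by
    rw [ringKrullDim_stalk_eq_coheight, (FlatMor12.coheight_add_ptDim p n hgen x).2,
      (DimLib.ptDim_eq_zero_iff p x).2 hx, Nat.sub_zero]
    rfl
  have hM : Coh.IsCoh F := CohBC.isCoh_of_isFinLocFree hF
  haveI := hM.1
  haveI := hreg x
  haveI := CAlgH3.isCohenMacaulayLocalRing_of_regular (X.presheaf.stalk x)
  haveI := Props12.finite_stalk_of_isFT F hM.2 x
  haveI := (RefHullLib.isFinLocFree_iff_free_stalks hM).1 hF x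
  rcases subsingleton_or_nontrivial (F.presheaf.stalk x) with hs | hs
  · rw [CAlgH3.depth_eq_top_of_subsingleton]; exact le_top
  · have h1 : LocCoh.depth (X.presheaf.stalk x) (X.presheaf.stalk x) = (n : ℕ∞) := by
      have := LocCoh.IsCohenMacaulayLocalRing.supportDim_eq_depth (R := X.presheaf.stalk x)
      rw [Module.supportDim_self_eq_ringKrullDim, hdim] at this
      exact_mod_cast this.symm
    exact h1.symm.le.trans (CAlgH3.depth_free (R := X.presheaf.stalk x) (F.presheaf.stalk x)).ge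

include k in
theorem exists_neg_vanishing [IrreducibleSpace X] (n : ℕ) (hn : topologicalKrullDim X = n) {L M : X.Modules}
    (hLM : ClSub.IsInverseOf L M) (hL : CohB1.IsAmple L) {F : X.Modules} (hF : FlatMod.IsFinLocFree F) :
    ∃ m₀ : ℕ, ∀ m : ℕ, m₀ ≤ m → ∀ j : ℕ, j < n →
      Subsingleton (Coh.HH X (CohB1.tensorMod F (CohB1.tensorPow M m)) j) := by
  haveI := isNoetherian_of_proper (k := k) (X := X)
  let f := X ↘ Spec (CommRingCat.of k)
  refine Lef23.exists_vanishing (A := k) hLM hL F (CohBC.isCoh_of_isFinLocFree hF)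
    (Groth.Agent.FBaseLib.NoEmbedded.isFlatOver_field f F) n fun x hx => ?_
  have hJ : Lef23.fibIdeal f x = ⊥ := by
    let p : PrimeSpectrum k := f.base x
    let B := (Spec.structureSheaf k).presheaf.stalk p
    haveI hloc : IsLocalization.AtPrime B p.asIdeal := inferInstance
    haveI : IsLocalRing B := IsLocalization.AtPrime.isLocalRing B p.asIdeal
    have hB : maximalIdeal B = ⊥ := by
      rw [← IsLocalization.AtPrime.map_eq_maximalIdeal p.asIdeal B,
        (Ideal.eq_bot_or_top p.asIdeal).resolve_right p.isPrime.ne_top, Ideal.map_bot]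
    show Ideal.map _ (maximalIdeal B) = ⊥
    rw [hB]
    exact Ideal.map_bot
  refine (depth_locFree k n hn hF x (Lef23.isClosed_singleton_of_fibre f x hx)).trans (le_of_eq ?_)
  have h0 : (Lef23.fibIdeal f x • (⊤ : Submodule (X.presheaf.stalk x) (F.presheaf.stalk x))) = ⊥ := by
    rw [hJ, Submodule.bot_smul]
  refine (CAlgH3.depth_congr (Submodule.quotEquivOfEqBot _ h0)).symm.trans ?_
  exact (Lef23.depth_fibre_stalk f F (f.base x) (f.asFiber x) x (f.fiberι_asFiber x)).symm

variable {Y : Scheme.{u}} (i : Y ⟶ X) [IsClosedImmersion i] [Smooth (i ≫ (X ↘ Spec (CommRingCat.of k)))]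

/-- The two sequences attached to forms on a smooth divisor. -/
structure Hyp (n m : ℕ) (M : X.Modules) : Prop where
  dim : topologicalKrullDim X ≤ n
  inv : PicF.IsInvertible M
  ideal : Nonempty (ClSub.idealMod i.ker ≅ CohB1.tensorPow M m)
  neg : ∀ (b : ℕ) (B : X.Modules), ExtPow.IsExtPow b (Omega.sheaf (X ↘ Spec (CommRingCat.of k))) B →
    ∀ t, m ≤ t → ∀ q, q < n → Subsingleton (Coh.HH X (CohB1.tensorMod B (CohB1.tensorPow M t)) q)

variable {k i}

/-- The restriction sequence. -/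
theorem Hyp.exists_restrict_seq {n m : ℕ} {M : X.Modules} (H : Hyp k i n m M) {B : X.Modules}
    (hB : FlatMod.IsFinLocFree B) :
    ∃ S : ShortComplex X.Modules, S.ShortExact ∧ Nonempty (S.X₁ ≅ CohB1.tensorMod B (CohB1.tensorPow M m)) ∧
      Nonempty (S.X₂ ≅ B) ∧ Nonempty (S.X₃ ≅ (Coh.push i).obj ((Scheme.Modules.pullback i).obj B)) := by
  obtain ⟨e⟩ := H.ideal
  refine ⟨_, exact_tensE_map hB (EulerPn5.SerreCorr.shortExact_idealSeq i), ⟨AmpleLib.tensorIso (Iso.refl B) e⟩,
    ⟨AmpleLib.tensorComm B (Coh.structureModule X) ≪≫ unitTensorIso B⟩, ⟨?_⟩⟩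
  exact AmpleLib.tensorComm B ((Coh.push i).obj (Coh.structureModule Y)) ≪≫ (pushPull i B).symm

/-- The sequence of forms. -/
theorem Hyp.exists_forms_seq {n m : ℕ} {M : X.Modules} (H : Hyp k i n m M) (b : ℕ) {A C : Y.Modules}
    {B : X.Modules} (hA : ExtPow.IsExtPow b (Omega.sheaf (i ≫ (X ↘ Spec (CommRingCat.of k)))) A)
    (hB : ExtPow.IsExtPow (b + 1) (Omega.sheaf (X ↘ Spec (CommRingCat.of k))) B)
    (hC : ExtPow.IsExtPow (b + 1) (Omega.sheaf (i ≫ (X ↘ Spec (CommRingCat.of k)))) C) :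
    ∃ S : ShortComplex X.Modules, S.ShortExact ∧
      Nonempty (S.X₁ ≅ CohB1.tensorMod ((Coh.push i).obj A) (CohB1.tensorPow M m)) ∧
      Nonempty (S.X₂ ≅ (Coh.push i).obj ((Scheme.Modules.pullback i).obj B)) ∧
      Nonempty (S.X₃ ≅ (Coh.push i).obj C) := by
  let f := X ↘ Spec (CommRingCat.of k)
  obtain ⟨e⟩ := H.ideal
  have hΩX : FlatMod.IsFinLocFree (Omega.sheaf f) := Hyper5.isFinLocFree_omega f n H.dim
  have hdimY : topologicalKrullDim Y ≤ n := (i.isClosedEmbedding.isInducing.topologicalKrullDim_le).trans H.dim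
  have hΩY : FlatMod.IsFinLocFree (Omega.sheaf (i ≫ f)) := Hyper5.isFinLocFree_omega (i ≫ f) n hdimY
  let N := Omega.conormal i
  have hI : PicF.IsInvertible (ClSub.idealMod i.ker) :=
    KLLib.isInvertible_of_iso e.symm (AmpleLib.isInvertible_tensorPow H.inv m)
  have hN : FlatMod.IsFinLocFreeOfRank 1 N := isFinLocFreeOfRank_one (PicLoc.isInvertible_pullback i hI)
  obtain ⟨φ, g, w, hS⟩ := EulerPn5.exists_conormal_seq i f
  obtain ⟨T, hT, ⟨e₁⟩, ⟨e₂⟩, ⟨e₃⟩⟩ := exists_ses_sub_line (S := ShortComplex.mk φ g w) hS hN hΩY b hA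
    (ExtPowEx28.isExtPow_pullback_vb i hΩX hB) hC
  refine ⟨_, KPush28.shortExact_push i hT, ⟨?_⟩, ⟨(Coh.push i).mapIso e₂⟩, ⟨(Coh.push i).mapIso e₃⟩⟩
  let M' : Y.Modules := (Scheme.Modules.pullback i).obj (ClSub.idealMod i.ker)
  let hNM : N ≅ M' := Iso.refl M'
  let v₁ : T.X₁ ≅ CohB1.tensorMod A M' :=
    e₁ ≪≫ AmpleLib.tensorIso hNM (Iso.refl A) ≪≫ AmpleLib.tensorComm M' A
  let v₂ : CohB1.tensorMod ((Coh.push i).obj A) (ClSub.idealMod i.ker) ≅ (Coh.push i).obj (CohB1.tensorMod A M') :=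
    pushTensor i A (ClSub.idealMod i.ker)
  exact (Coh.push i).mapIso v₁ ≪≫ v₂.symm ≪≫ AmpleLib.tensorIso (Iso.refl _) e

/-- Twisting a sequence. -/
theorem exists_twist_seq {S : ShortComplex X.Modules} (hS : S.ShortExact) {G A B C : X.Modules}
    (hG : FlatMod.IsFinLocFree G) (e₁ : S.X₁ ≅ A) (e₂ : S.X₂ ≅ B) (e₃ : S.X₃ ≅ C) :
    ∃ T : ShortComplex X.Modules, T.ShortExact ∧ Nonempty (T.X₁ ≅ CohB1.tensorMod A G) ∧
      Nonempty (T.X₂ ≅ CohB1.tensorMod B G) ∧ Nonempty (T.X₃ ≅ CohB1.tensorMod C G) :=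
  ⟨_, exact_tensE_map hG hS, ⟨AmpleLib.tensorComm G S.X₁ ≪≫ AmpleLib.tensorIso e₁ (Iso.refl G)⟩,
    ⟨AmpleLib.tensorComm G S.X₂ ≪≫ AmpleLib.tensorIso e₂ (Iso.refl G)⟩,
    ⟨AmpleLib.tensorComm G S.X₃ ≪≫ AmpleLib.tensorIso e₃ (Iso.refl G)⟩⟩

theorem Hyp.vanish_restrict {n m : ℕ} {M : X.Modules} (H : Hyp k i n m M) {b : ℕ} {B : X.Modules}
    (hB : ExtPow.IsExtPow b (Omega.sheaf (X ↘ Spec (CommRingCat.of k))) B) (hBf : FlatMod.IsFinLocFree B)
    (t : ℕ) (ht : m ≤ t) (q : ℕ) (hq : q + 1 < n) :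
    Subsingleton (Coh.HH X (CohB1.tensorMod ((Coh.push i).obj ((Scheme.Modules.pullback i).obj B))
      (CohB1.tensorPow M t)) q) := by
  obtain ⟨S, hS, ⟨e₁⟩, ⟨e₂⟩, ⟨e₃⟩⟩ := H.exists_restrict_seq hBf
  obtain ⟨T, hT, ⟨c₁⟩, ⟨c₂⟩, ⟨c₃⟩⟩ := exists_twist_seq hS
    (SerreDual.isFinLocFree_of_invertible (AmpleLib.isInvertible_tensorPow H.inv t)) e₁ e₂ e₃
  obtain ⟨p, -⟩ := AmpleLib.exists_powIso H.inv m t
  refine of_iso k c₃.symm q (right_of_ses k hT q (of_iso k c₂ q (H.neg b B hB t ht q (by omega))) ?_)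
  exact of_iso k (c₁ ≪≫ DCat.TensorAssoc.assocIso _ _ _ ≪≫ AmpleLib.tensorIso (Iso.refl B) p) _
    (H.neg b B hB (m + t) (by omega) (q + 1) hq)

theorem Hyp.vanish_forms_neg {n m : ℕ} {M : X.Modules} (H : Hyp k i n m M) :
    ∀ (b : ℕ) (A : Y.Modules), ExtPow.IsExtPow b (Omega.sheaf (i ≫ (X ↘ Spec (CommRingCat.of k)))) A →
      ∀ j, 1 ≤ j → ∀ q, q + b + 1 < n →
      Subsingleton (Coh.HH X (CohB1.tensorMod ((Coh.push i).obj A) (CohB1.tensorPow M (j * m))) q) := by
  let f := X ↘ Spec (CommRingCat.of k)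
  have hΩX : FlatMod.IsFinLocFree (Omega.sheaf f) := Hyper5.isFinLocFree_omega f n H.dim
  have hdimY : topologicalKrullDim Y ≤ n := (i.isClosedEmbedding.isInducing.topologicalKrullDim_le).trans H.dim
  have hΩY : FlatMod.IsFinLocFree (Omega.sheaf (i ≫ f)) := Hyper5.isFinLocFree_omega (i ≫ f) n hdimY
  intro b
  induction b with
  | zero =>
    intro A hA j hj q hq
    obtain ⟨B, hBf, hB⟩ := ExtPowEx28.exists_isExtPow hΩX 0
    obtain ⟨eA⟩ := KvbLam28.exists_iso_of_isExtPow hA (KvbLam28.isExtPow_zero _)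
    obtain ⟨eB⟩ := KvbLam28.exists_iso_of_isExtPow hB (KvbLam28.isExtPow_zero _)
    obtain ⟨s⟩ := AmpleLib.exists_pullStructureIso i
    exact of_iso k (AmpleLib.tensorIso ((Coh.push i).mapIso
      (eA ≪≫ s.symm ≪≫ (Scheme.Modules.pullback i).mapIso eB.symm)) (Iso.refl _)) q
      (H.vanish_restrict hB hBf (j * m) (Nat.le_mul_of_pos_left m hj) q (by omega))
  | succ b ih =>
    intro C hC j hj q hq
    obtain ⟨A, -, hA⟩ := ExtPowEx28.exists_isExtPow hΩY b
    obtain ⟨B, hBf, hB⟩ := ExtPowEx28.exists_isExtPow hΩX (b + 1)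
    obtain ⟨S, hS, ⟨e₁⟩, ⟨e₂⟩, ⟨e₃⟩⟩ := H.exists_forms_seq b hA hB hC
    obtain ⟨T, hT, ⟨c₁⟩, ⟨c₂⟩, ⟨c₃⟩⟩ := exists_twist_seq hS
      (SerreDual.isFinLocFree_of_invertible (AmpleLib.isInvertible_tensorPow H.inv (j * m))) e₁ e₂ e₃
    obtain ⟨p, -⟩ := AmpleLib.exists_powIso H.inv m (j * m)
    refine of_iso k c₃.symm q (right_of_ses k hT q
      (of_iso k c₂ q (H.vanish_restrict hB hBf (j * m) (Nat.le_mul_of_pos_left m hj) q (by omega))) ?_)
    let P : X.Modules := (Coh.push i).obj A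
    let d₁ : CohB1.tensorMod (CohB1.tensorPow M m) (CohB1.tensorPow M (j * m)) ≅ CohB1.tensorPow M ((j + 1) * m) :=
      p ≪≫ eqToIso (congrArg (CohB1.tensorPow M) (by ring))
    let d₂ : CohB1.tensorMod (CohB1.tensorMod P (CohB1.tensorPow M m)) (CohB1.tensorPow M (j * m)) ≅
        CohB1.tensorMod P (CohB1.tensorPow M ((j + 1) * m)) :=
      DCat.TensorAssoc.assocIso P (CohB1.tensorPow M m) (CohB1.tensorPow M (j * m)) ≪≫
        AmpleLib.tensorIso (Iso.refl P) d₁
    exact of_iso k (c₁ ≪≫ d₂) (q + 1) (ih A hA (j + 1) (by omega) (q + 1) (by omega))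


/-- Let X be an irreducible smooth proper scheme of dimension n over a field k and L an ample invertible
O_X-module. There is m₀ such that for every m ≥ m₀, every global section s of L^{⊗m} with O_X →
L^{⊗m} injective whose zero scheme Y, with inclusion i : Y → X, is smooth over k, and all p-th
exterior powers Ω^p_X of the differentials of X over k and Ω^p_Y of the differentials of Y over k
(affine-local sense), the k-dimensions of H^q(X, Ω^p_X) and of H^q(X, i_*Ω^p_Y) = H^q(Y, Ω^p_Y)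
agree when p + q < n − 1, and the first is at most the second when p + q = n − 1. (The published
statement asserts that the restriction map is bijective, resp. injective, in these ranges; only the
resulting comparison of dimensions is stated, the pull-back map on exterior powers not being
available as a named map here. X is taken irreducible: for a disjoint union of projective 3-space
with a curve of positive genus the comparison fails for p = 0, q = 1. The published statement takes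
Y among the degree-m hypersurface sections of a projective embedding; the published argument uses
only Serre vanishing and duality for the powers of an ample invertible module.) -/
theorem result
    (k : Type u) [Field k] (X : Scheme.{u}) [X.Over (Spec (CommRingCat.of k))]
    [IsProper (X ↘ Spec (CommRingCat.of k))] [Smooth (X ↘ Spec (CommRingCat.of k))] [IrreducibleSpace X]
    (n : ℕ) (hn : topologicalKrullDim X = n)
    (L : X.Modules) (hL : CohB1.IsAmple L) :
    ∃ m₀ : ℕ, ∀ (m : ℕ), m₀ ≤ m →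
      ∀ (s : Coh.structureModule X ⟶ CohB1.tensorPow L m) [Mono s]
        [Smooth ((PicF2.zeroScheme (CohB1.tensorPow L m) s).subschemeι ≫ (X ↘ Spec (CommRingCat.of k)))]
        (p q : ℕ) (OmX : X.Modules) (OmY : (PicF2.zeroScheme (CohB1.tensorPow L m) s).subscheme.Modules),
        ExtPow.IsExtPow p (Omega.sheaf (X ↘ Spec (CommRingCat.of k))) OmX →
        ExtPow.IsExtPow p (Omega.sheaf ((PicF2.zeroScheme (CohB1.tensorPow L m) s).subschemeι ≫ (X ↘ Spec (CommRingCat.of k)))) OmY →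
        (p + q + 1 < n → Module.finrank k (Coh.HH X OmX q) = Module.finrank k (Coh.HH X ((Coh.push (PicF2.zeroScheme (CohB1.tensorPow L m) s).subschemeι).obj OmY) q)) ∧
        (p + q + 1 = n → Module.finrank k (Coh.HH X OmX q) ≤ Module.finrank k (Coh.HH X ((Coh.push (PicF2.zeroScheme (CohB1.tensorPow L m) s).subschemeι).obj OmY) q)) := by
  classical
  let f := X ↘ Spec (CommRingCat.of k)
  have hn' : topologicalKrullDim X ≤ n := hn.le
  have hΩX : FlatMod.IsFinLocFree (Omega.sheaf f) := Hyper5.isFinLocFree_omega f n hn'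
  haveI : IsNoetherian X := isNoetherian_of_proper (k := k) (X := X)
  obtain ⟨M, ⟨eM⟩⟩ := VarietyLib.exists_isInverseOf hL.1
  have hM : PicF.IsInvertible M := Lef23.isInvertible_inverse hL.1 ⟨eM⟩
  choose Ω hΩf hΩ using fun b => ExtPowEx28.exists_isExtPow hΩX b
  choose N hN using fun b => exists_neg_vanishing k n hn ⟨eM⟩ hL (hΩf b)
  refine ⟨(Finset.range (n + 1)).sup N, fun m hm s _ _ p q OmX OmY hX hY => ?_⟩
  obtain ⟨e⟩ := Lef23.isInverseOf_zeroScheme (AmpleLib.isInvertible_tensorPow hL.1 m) s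
  let i := (PicF2.zeroScheme (CohB1.tensorPow L m) s).subschemeι
  have hker : i.ker = PicF2.zeroScheme (CohB1.tensorPow L m) s := Scheme.IdealSheafData.ker_subschemeι _
  have eJ : Nonempty (ClSub.idealMod i.ker ≅ CohB1.tensorPow M m) := by
    rw [hker]
    have hJ := Lef23.isInvertible_inverse (AmpleLib.isInvertible_tensorPow hL.1 m) ⟨e⟩
    have hM' := AmpleLib.isInvertible_tensorPow hM m
    have h1 : InvCl.mk _ (AmpleLib.isInvertible_tensorPow hL.1 m) * InvCl.mk _ hJ = 1 := InvCl.mk_eq _ _ e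
    have h2 : InvCl.mk _ hM' * InvCl.mk _ (AmpleLib.isInvertible_tensorPow hL.1 m) = 1 := by
      rw [InvCl.mk_tensorPow hM, InvCl.mk_tensorPow hL.1, ← mul_pow, mul_comm,
        show InvCl.mk L hL.1 * InvCl.mk M hM = 1 from InvCl.mk_eq _ _ eM, one_pow]
    exact Quotient.exact (left_inv_eq_right_inv h2 h1).symm
  have hyp : Hyp k i n m M := ⟨hn', hM, eJ, fun b B hB t ht j hj => by
    obtain ⟨eB⟩ := KvbLam28.exists_iso_of_isExtPow hB (hΩ b)
    refine of_iso k (AmpleLib.tensorIso eB (Iso.refl _)) j ?_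
    rcases Nat.lt_or_ge n b with h | h
    · refine EulerLib.subsingleton_HH_of_isZero ?_ j
      exact (((DCoh.tensorBi (X := X)).obj (CohB1.tensorPow M t)).map_isZero
        (Hyper5.isZero_extPow f n hn' h (hΩ b))).of_iso (AmpleLib.tensorComm _ _)
    · exact hN b t ((Finset.le_sup (Finset.mem_range.2 (by omega))).trans (hm.trans ht)) j hj⟩
  have hYcoh : ∀ (A : (PicF2.zeroScheme (CohB1.tensorPow L m) s).subscheme.Modules),
      FlatMod.IsFinLocFree A → Coh.IsCoh ((Coh.push i).obj A) := fun A hA => by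
    haveI : IsLocallyNoetherian (PicF2.zeroScheme (CohB1.tensorPow L m) s).subscheme :=
      LocallyOfFiniteType.isLocallyNoetherian i
    exact Coherent.isCoh_push_finite i (CohBC.isCoh_of_isFinLocFree hA)
  have hXf : FlatMod.IsFinLocFree OmX := WedgeDual5.isFinLocFree_of_isExtPow hΩX hX
  have hdimY : topologicalKrullDim (PicF2.zeroScheme (CohB1.tensorPow L m) s).subscheme ≤ n :=
    (i.isClosedEmbedding.isInducing.topologicalKrullDim_le).trans hn'
  have hΩY : FlatMod.IsFinLocFree (Omega.sheaf (i ≫ f)) := Hyper5.isFinLocFree_omega (i ≫ f) n hdimY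
  have hYf : FlatMod.IsFinLocFree OmY := WedgeDual5.isFinLocFree_of_isExtPow hΩY hY
  obtain ⟨S, hS, ⟨e₁⟩, ⟨e₂⟩, ⟨e₃⟩⟩ := hyp.exists_restrict_seq hXf
  let R := (Coh.push i).obj ((Scheme.Modules.pullback i).obj OmX)
  have hR : Coh.IsCoh R := hYcoh _ (DCat.PullPerf.isFinLocFree_pullback i hXf)
  have h3 : Coh.IsCoh S.X₃ := Coherent.isCoh_of_iso e₃.symm hR
  have hz : ∀ j, j < n → Subsingleton (Coh.HH X S.X₁ j) := fun j hj =>
    of_iso k e₁ j (hyp.neg p OmX hX m le_rfl j hj)
  suffices key : (p + q + 1 < n → Module.finrank k (Coh.HH X R q) =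
      Module.finrank k (Coh.HH X ((Coh.push i).obj OmY) q)) ∧ (p + q + 1 ≤ n →
      Module.finrank k (Coh.HH X R q) ≤ Module.finrank k (Coh.HH X ((Coh.push i).obj OmY) q)) by
    refine ⟨fun h => ?_, fun h => ?_⟩
    · rw [← (hmapIso k e₂ q).finrank_eq, finrank_eq_of_ses k hS q (hz q (by omega)) (hz (q + 1) (by omega)),
        (hmapIso k e₃ q).finrank_eq]
      exact key.1 h
    · rw [← (hmapIso k e₂ q).finrank_eq]
      refine (finrank_le_of_ses k hS q h3 (hz q (by omega))).trans ?_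
      rw [(hmapIso k e₃ q).finrank_eq]
      exact key.2 (by omega)
  cases p with
  | zero =>
    obtain ⟨eX⟩ := KvbLam28.exists_iso_of_isExtPow hX (KvbLam28.isExtPow_zero _)
    obtain ⟨eY⟩ := KvbLam28.exists_iso_of_isExtPow hY (KvbLam28.isExtPow_zero _)
    obtain ⟨s'⟩ := AmpleLib.exists_pullStructureIso i
    have h := (hmapIso k ((Coh.push i).mapIso ((Scheme.Modules.pullback i).mapIso eX ≪≫ s' ≪≫ eY.symm)) q).finrank_eq
    exact ⟨fun _ => h, fun _ => h.le⟩
  | succ b =>
    obtain ⟨A, -, hA⟩ := ExtPowEx28.exists_isExtPow hΩY b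
    obtain ⟨T, hT, ⟨c₁⟩, ⟨c₂⟩, ⟨c₃⟩⟩ := hyp.exists_forms_seq b hA hX hY
    have hv := hyp.vanish_forms_neg b A hA 1 le_rfl
    have hv' : ∀ j, j + b + 1 < n → Subsingleton (Coh.HH X T.X₁ j) := fun j hj => by
      refine of_iso k c₁ j ?_
      have := hv j hj
      rwa [one_mul] at this
    refine ⟨fun h => ?_, fun h => ?_⟩
    · rw [← (hmapIso k c₂ q).finrank_eq, finrank_eq_of_ses k hT q (hv' q (by omega)) (hv' (q + 1) (by omega)),
        (hmapIso k c₃ q).finrank_eq]
    · rw [← (hmapIso k c₂ q).finrank_eq, ← (hmapIso k c₃ q).finrank_eq]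
      exact finrank_le_of_ses k hT q (Coherent.isCoh_of_iso c₃.symm (hYcoh _ hYf)) (hv' q (by omega))

end Groth.Agent.S19386
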