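import Groth.Statements.S19389
import Groth.Agent.PicThk27.Levels
import Groth.Agent.GenSmoothLib.SmoothDim
import Groth.Agent.Unram17Lib.RelDim
import Groth.Agent.CurveRR24.RR
-- import your own Groth.Agent.* helpers here

set_option autoImplicit false
set_option linter.style.haveILetI false
set_option backward.isDefEq.respectTransparency.types false
universe u
open CategoryTheory CategoryTheory.Limits AlgebraicGeometry
open PicThk

namespace Groth.Agent.S19389

open CategoryTheory CategoryTheory.Limits MonObj AlgebraicGeometry in
open Groth.Agent in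
/-- Let p > 2 be a prime, k a finite field of characteristic p and W = W(k) its ring of Witt vectors;
let f : X → Spec W be proper and smooth of relative dimension 1 with an ample invertible O_X-module
(a smooth projective relative curve), and X_n = X ×_W Spec W/(p^{n+1}) the infinitesimal thickenings
of the special fibre, with inclusions ι_n : X_n → X. Granting the group laws of the Picard groups
involved and the multiplicativity of pull-back of invertible classes along each ι_n, the restriction
maps Pic(X) → Pic(X_n) are all surjective, and for every i there is a level t such that a class on X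
whose restriction to X_t is a p^i-th power is already a p^i-th power in Pic(X). (The published proof
identifies CH^1(X) with Pic(X) and H^1(X_1, K^M_1 of X_n) with Pic(X_n) and states that CH^1(X) ⊗
Z/p^i → (Pic(X_n) ⊗ Z/p^i)_n is an isomorphism of pro-abelian groups; the two assertions here are
what its proof establishes and imply that pro-isomorphism, the first giving levelwise surjectivity
and the second the vanishing of the kernel pro-system.) -/
theorem result
    (p : ℕ) [Fact p.Prime] (hp : 2 < p) (k : Type u) [Field k] [Finite k] [CharP k p]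
    (X : Scheme.{u}) (f : X ⟶ Spec (CommRingCat.of (WittVector p k))) [IsProper f] [SmoothOfRelativeDimension 1 f]
    (L : X.Modules) (hL : CohB1.IsAmple L)
    [PicGrp.Law X] [∀ n : ℕ, PicGrp.Law (CohB1.thick f (Ideal.span (singleton (p : (WittVector p k)))) n)]
    (hι : ∀ n : ℕ, PicGrp.PullMul (CohB1.thickι f (Ideal.span (singleton (p : (WittVector p k)))) n)) (i : ℕ) :
    (∀ n : ℕ, Function.Surjective (PicGrp.pullHom (CohB1.thickι f (Ideal.span (singleton (p : (WittVector p k)))) n) (hι n))) ∧
    ∃ t : ℕ, ∀ a : PicLoc.PicSet X,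
      (∃ b : PicLoc.PicSet (CohB1.thick f (Ideal.span (singleton (p : (WittVector p k)))) t), b ^ (p ^ i) = PicGrp.pullHom (CohB1.thickι f (Ideal.span (singleton (p : (WittVector p k)))) t) (hι t) a) →
      ∃ a' : PicLoc.PicSet X, a' ^ (p ^ i) = a := by
  have hWI : IsLocalRing.maximalIdeal (WittVector p k) = Ideal.span {(p : WittVector p k)} :=
    (WittVector.irreducible p).maximalIdeal_eq
  haveI : IsAdicComplete (IsLocalRing.maximalIdeal (WittVector p k)) (WittVector p k) := by
    rw [hWI]; infer_instance
  haveI : Flat f := by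
    haveI : Smooth f := SmoothOfRelativeDimension.smooth 1 f
    infer_instance
  let P := pullback f (Spec.map (CommRingCat.ofHom (IsLocalRing.residue (WittVector p k))))
  let q : P ⟶ Spec (CommRingCat.of (IsLocalRing.ResidueField (WittVector p k))) := pullback.snd _ _
  haveI := smoothOfRelativeDimension_isStableUnderBaseChange (n := 1)
  haveI : SmoothOfRelativeDimension 1 q :=
    MorphismProperty.pullback_snd (P := @SmoothOfRelativeDimension 1) _ _ ‹_›
  haveI : IsProper q := inferInstanceAs (IsProper (pullback.snd _ _))
  have hdim : topologicalKrullDim P ≤ 1 := by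
    rcases isEmpty_or_nonempty P with hP | hP
    · haveI : IsEmpty (TopologicalSpace.IrreducibleCloseds P) := ⟨fun Z => hP.elim Z.2.nonempty.choose⟩
      rw [topologicalKrullDim, Order.krullDim_eq_bot]
      exact bot_le
    · rw [GenSmoothLib.topologicalKrullDim_eq_of_localDim q ((1 : ℕ) : WithBot ℕ∞) fun z => by
        rw [← GenSmoothLib.fibreDimAt_toField q]; exact Unram17Lib.fibreDimAt_of_smoothOfRelativeDimension q 1 z]
      exact le_of_eq Nat.cast_one
  letI : P.Over (Spec (CommRingCat.of (IsLocalRing.ResidueField (WittVector p k)))) := ⟨q⟩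
  haveI : IsProper (P ↘ Spec (CommRingCat.of (IsLocalRing.ResidueField (WittVector p k)))) := ‹IsProper q›
  have hP2 : Subsingleton (Coh.HH P (Coh.structureModule P) 2) :=
    CurveRR24.subsingleton_HH_ge_two (IsLocalRing.ResidueField (WittVector p k)) hdim _
      Coherent.isQCoh_structureModule Nat.one_lt_two
  obtain ⟨E, hE, -⟩ := PicDef15.exists_fibre_iso f
  have h2 := PicDef15.subsingleton_HH_of_isIso E 2 hP2
  have key : ∀ (J : Ideal (WittVector p k)), J = IsLocalRing.maximalIdeal (WittVector p k) →
      (∀ (n : ℕ) (c : PicLib.PicM (CohB1.thick f J n)),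
        ∃ a : PicLib.PicM X, PicLib.PicM.pull (CohB1.thickι f J n) a = c) ∧
      ∀ (j : ℕ) (c : PicLib.PicM X), PicLib.PicM.pull (CohB1.thickι f J j) c = 1 →
        ∃ d : PicLib.PicM X, d ^ p ^ j = c := by
    rintro J rfl
    exact ⟨PicThk27.exists_pull_eq f h2,
      PicThk27.exists_root f p (Fact.out : p.Prime) hp hWI (WittVector.p_nonzero p k) h2⟩
  obtain ⟨hsurj, hroot⟩ := key _ hWI.symm
  have hsurj' : ∀ n, Function.Surjective (PicGrp.pullHom
      (CohB1.thickι f (Ideal.span (singleton (p : (WittVector p k)))) n) (hι n)) := fun n b => by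
    obtain ⟨a, ha⟩ := hsurj n (PicThk27.toPicM b)
    obtain ⟨a', rfl⟩ := PicThk27.toPicM_bijective.2 a
    exact ⟨a', PicThk27.toPicM_bijective.1 ha⟩
  refine ⟨hsurj', i, fun a ⟨b, hb⟩ => ?_⟩
  obtain ⟨b', rfl⟩ := hsurj' i b
  rw [← map_pow] at hb
  have h1 : PicGrp.pullHom _ (hι i) (a / b' ^ p ^ i) = 1 := by rw [map_div, hb, div_self']
  obtain ⟨d, hd⟩ := hroot i (PicThk27.toPicM (a / b' ^ p ^ i))
    (by rw [← PicThk27.toPicM_pullHom _ (hι i), h1, map_one])
  obtain ⟨d', rfl⟩ := PicThk27.toPicM_bijective.2 d
  rw [← map_pow] at hd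
  exact ⟨d' * b', by rw [mul_pow, PicThk27.toPicM_bijective.1 hd, div_mul_cancel]⟩

end Groth.Agent.S19389
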