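import Groth.Statements.S19390
import Mathlib.Data.Fin.Tuple.Sort

set_option backward.isDefEq.respectTransparency.types false

set_option autoImplicit false
universe u
open GIT

namespace Groth.Agent.S19390

/-- Let e ≥ 1, n = 2e + 1, and let x_1, …, x_n be points such that no point occurs more than e times
among them (the stability condition for n ordered points on a line, n odd). Then there are index
sequences i_1, …, i_n and j_1, …, j_n in which every index between 1 and n occurs exactly twice in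
total, such that x_{i_k} ≠ x_{j_k} for every k and (i_1, i_2, i_3) = (j_3, j_1, j_2). Indices are
written 0, …, n − 1 here. -/
theorem result {α : Type u} [DecidableEq α] (e : ℕ) (he : 1 ≤ e)
    (x : Fin (2 * e + 1) → α)
    (hx : ∀ a : α, (Finset.univ.filter fun k => x k = a).card ≤ e) :
    ∃ i j : Fin (2 * e + 1) → Fin (2 * e + 1),
      (∀ m : Fin (2 * e + 1),
        (Finset.univ.filter fun k => i k = m).card + (Finset.univ.filter fun k => j k = m).card = 2) ∧
      (∀ k, x (i k) ≠ x (j k)) ∧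
      i 0 = j 2 ∧ i 1 = j 0 ∧ i 2 = j 1 := by
  classical
  let g : Fin (2 * e + 1) → ℕ := fun k => ((Finset.univ.image x).equivFin ⟨x k, Finset.mem_image_of_mem x (Finset.mem_univ k)⟩).val
  have hg : ∀ p q, g p = g q ↔ x p = x q := fun p q => by
    simp only [g, Fin.val_inj, EmbeddingLike.apply_eq_iff_eq, Subtype.mk.injEq]
  let σ := Tuple.sort g
  have hmono : Monotone (g ∘ σ) := Tuple.monotone_sort g
  have hfar : ∀ p q : Fin (2 * e + 1), (p : ℕ) + e ≤ q → x (σ p) ≠ x (σ q) := by
    intro p q hpq hx'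
    have hsub : (Finset.Icc p q).image σ ⊆ Finset.univ.filter fun k => x k = x (σ p) := by
      intro k hk
      obtain ⟨r, hr, rfl⟩ := Finset.mem_image.1 hk
      obtain ⟨h1, h2⟩ := Finset.mem_Icc.1 hr
      have a1 : g (σ p) ≤ g (σ r) := hmono h1
      have a2 : g (σ r) ≤ g (σ q) := hmono h2
      have a3 : g (σ p) = g (σ q) := (hg _ _).2 hx'
      exact Finset.mem_filter.2 ⟨Finset.mem_univ _, (hg _ _).1 (by omega)⟩
    have h3 := (Finset.card_le_card hsub).trans (hx _)
    rw [Finset.card_image_of_injective _ σ.injective, Fin.card_Icc] at h3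
    omega
  let I : ℕ → ℕ := fun k => if k = 0 then 0 else if k = 1 then e else if k = 2 then 2 * e else
    if k ≤ e + 1 then k - 2 else k - e - 1
  let J : ℕ → ℕ := fun k => if k = 0 then e else if k = 1 then 2 * e else if k = 2 then 0 else
    if k ≤ e + 1 then k - 2 + e else k - 1
  have hI : ∀ k : Fin (2 * e + 1), I k < (2 * e + 1) := fun k => by
    have := k.isLt
    simp only [I]; split_ifs <;> omega
  have hJ : ∀ k : Fin (2 * e + 1), J k < (2 * e + 1) := fun k => by
    have := k.isLt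
    simp only [J]; split_ifs <;> omega
  refine ⟨fun k => σ ⟨I k, hI k⟩, fun k => σ ⟨J k, hJ k⟩, fun m => ?_, fun k => ?_, ?_, ?_, ?_⟩
  · obtain ⟨⟨m, hm⟩, rfl⟩ := σ.surjective m
    have cI : ∀ s : Finset ℕ, (∀ k : ℕ, k < (2 * e + 1) → (I k = m ↔ k ∈ s)) → (∀ k ∈ s, k < (2 * e + 1)) →
        (Finset.univ.filter fun k : Fin (2 * e + 1) => σ ⟨I k, hI k⟩ = σ ⟨m, hm⟩).card = s.card := by
      intro s h1 h2
      refine Finset.card_bij (fun k _ => (k : ℕ)) (fun k hk => ?_) (fun a _ b _ h => Fin.ext h)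
        (fun k hk => ⟨⟨k, h2 k hk⟩, Finset.mem_filter.2 ⟨Finset.mem_univ _, ?_⟩, rfl⟩)
      · have := (Finset.mem_filter.1 hk).2
        exact (h1 k k.isLt).1 (congrArg Fin.val (σ.injective this))
      · exact congrArg σ (Fin.ext ((h1 k (h2 k hk)).2 hk))
    have cJ : ∀ s : Finset ℕ, (∀ k : ℕ, k < (2 * e + 1) → (J k = m ↔ k ∈ s)) → (∀ k ∈ s, k < (2 * e + 1)) →
        (Finset.univ.filter fun k : Fin (2 * e + 1) => σ ⟨J k, hJ k⟩ = σ ⟨m, hm⟩).card = s.card := by
      intro s h1 h2
      refine Finset.card_bij (fun k _ => (k : ℕ)) (fun k hk => ?_) (fun a _ b _ h => Fin.ext h)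
        (fun k hk => ⟨⟨k, h2 k hk⟩, Finset.mem_filter.2 ⟨Finset.mem_univ _, ?_⟩, rfl⟩)
      · have := (Finset.mem_filter.1 hk).2
        exact (h1 k k.isLt).1 (congrArg Fin.val (σ.injective this))
      · exact congrArg σ (Fin.ext ((h1 k (h2 k hk)).2 hk))
    rcases (show m = 0 ∨ m = e ∨ m = 2 * e ∨ (1 ≤ m ∧ m + 1 ≤ e) ∨ (e + 1 ≤ m ∧ m + 1 ≤ 2 * e) by omega) with
      h | h | h | h | h
    · rw [cI {0} ?_ ?_, cJ {2} ?_ ?_] <;>
        (try (intro k hk; simp only [I, J, Finset.mem_singleton] at * <;> (try split_ifs) <;> omega)) <;> simp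
    · rw [cI {1} ?_ ?_, cJ {0} ?_ ?_] <;>
        (try (intro k hk; simp only [I, J, Finset.mem_singleton] at * <;> (try split_ifs) <;> omega)) <;> simp
    · rw [cI {2} ?_ ?_, cJ {1} ?_ ?_] <;>
        (try (intro k hk; simp only [I, J, Finset.mem_singleton] at * <;> (try split_ifs) <;> omega)) <;> simp
    · rw [cI {m + 2, m + e + 1} ?_ ?_, cJ ∅ ?_ ?_] <;>
        (try (intro k hk; simp only [I, J, Finset.mem_insert, Finset.mem_singleton, Finset.notMem_empty, iff_false] at * <;> (try split_ifs) <;> omega))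
      rw [Finset.card_pair (by omega)]; rfl
    · rw [cI ∅ ?_ ?_, cJ {m - e + 2, m + 1} ?_ ?_] <;>
        (try (intro k hk; simp only [I, J, Finset.mem_insert, Finset.mem_singleton, Finset.notMem_empty, iff_false] at * <;> (try split_ifs) <;> omega))
      rw [Finset.card_pair (by omega)]; rfl
  · have := k.isLt
    have h := fun hle => hfar ⟨I k, hI k⟩ ⟨J k, hJ k⟩ hle
    have h' := fun hle => (hfar ⟨J k, hJ k⟩ ⟨I k, hI k⟩ hle).symm
    by_cases hle : I k + e ≤ J k
    · exact h hle
    · refine h' ?_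
      show J k + e ≤ I k
      simp only [I, J] at hle ⊢
      split_ifs at hle ⊢ <;> omega
  all_goals
    refine congrArg σ (Fin.ext ?_)
    simp only [I, J, Fin.val_zero, Fin.val_one', Fin.val_natCast, Fin.coe_ofNat_eq_mod]
    have e1 : 1 % (2 * e + 1) = 1 := Nat.mod_eq_of_lt (by omega)
    have e2 : 2 % (2 * e + 1) = 2 := Nat.mod_eq_of_lt (by omega)
    simp only [e1, e2, Nat.zero_mod]
    simp

end Groth.Agent.S19390
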