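import Groth.Statements.S19392
import Mathlib.Tactic.LinearCombination
import Mathlib.Tactic.FinCases
import Mathlib.Tactic.NormNum

set_option autoImplicit false
universe u
open InvQ

namespace Groth.Agent.S19392

/-- Over a field of characteristic different from 2 and 3, a nonzero binary quartic f has P(f) = Q(f) =
0 for the two basic invariants P, Q if and only if f has a triple zero. Stated for f = ∏_i (μ_i X₀ −
λ_i X₁) given by four root points (λ_i, μ_i) ≠ (0, 0) (over an algebraically closed field every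
nonzero quartic form is of this shape), with the integral invariants I = 6P and J = 72Q of the
coefficients of f; a triple zero means that three of the four root points are pairwise proportional. -/
theorem result (k : Type u) [Field k]
    (h2 : (2 : k) ≠ 0) (h3 : (3 : k) ≠ 0) (la mu : Fin 4 → k) (hne : ∀ i, la i ≠ 0 ∨ mu i ≠ 0) :
    (W4c6intromoduli.invI (W4c6intromoduli.coef la mu) = 0 ∧
        W4c6intromoduli.invJ (W4c6intromoduli.coef la mu) = 0) ↔
      ∃ i j l : Fin 4, i ≠ j ∧ j ≠ l ∧ i ≠ l ∧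
        la i * mu j = la j * mu i ∧ la j * mu l = la l * mu j := by
  classical
  set d : Fin 4 → Fin 4 → k := fun i j => la i * mu j - la j * mu i with hd
  set A := d 0 1 * d 2 3
  set B := d 0 2 * d 1 3
  set C := d 0 3 * d 1 2
  have hexp : W4c6intromoduli.rootPoly la mu = Polynomial.C (mu 0 * mu 1 * mu 2 * mu 3)
      + Polynomial.C (-(la 0 * mu 1 * mu 2 * mu 3 + mu 0 * la 1 * mu 2 * mu 3 + mu 0 * mu 1 * la 2 * mu 3
          + mu 0 * mu 1 * mu 2 * la 3)) * Polynomial.X
      + Polynomial.C (la 0 * la 1 * mu 2 * mu 3 + la 0 * mu 1 * la 2 * mu 3 + la 0 * mu 1 * mu 2 * la 3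
          + mu 0 * la 1 * la 2 * mu 3 + mu 0 * la 1 * mu 2 * la 3 + mu 0 * mu 1 * la 2 * la 3) * Polynomial.X ^ 2
      + Polynomial.C (-(la 0 * la 1 * la 2 * mu 3 + la 0 * la 1 * mu 2 * la 3 + la 0 * mu 1 * la 2 * la 3
          + mu 0 * la 1 * la 2 * la 3)) * Polynomial.X ^ 3
      + Polynomial.C (la 0 * la 1 * la 2 * la 3) * Polynomial.X ^ 4 := by
    simp only [W4c6intromoduli.rootPoly, Fin.prod_univ_four, map_mul, map_add, map_neg]
    ring
  have hI : W4c6intromoduli.invI (W4c6intromoduli.coef la mu) = A ^ 2 - A * B + B ^ 2 := by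
    simp only [W4c6intromoduli.invI, W4c6intromoduli.coef, hexp, Polynomial.coeff_add, Polynomial.coeff_C_mul,
      Polynomial.coeff_C, Polynomial.coeff_X_pow, Polynomial.coeff_X]
    norm_num [A, B, d]
    ring
  have hJ : W4c6intromoduli.invJ (W4c6intromoduli.coef la mu) = -((A + B) * (2 * A - B) * (A - 2 * B)) := by
    simp only [W4c6intromoduli.invJ, W4c6intromoduli.coef, hexp, Polynomial.coeff_add, Polynomial.coeff_C_mul,
      Polynomial.coeff_C, Polynomial.coeff_X_pow, Polynomial.coeff_X]
    norm_num [A, B, d]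
    ring
  have hC : A - B + C = 0 := by simp only [A, B, C, d]; ring
  rw [hI, hJ]
  have hAB : (A ^ 2 - A * B + B ^ 2 = 0 ∧ -((A + B) * (2 * A - B) * (A - 2 * B)) = 0) ↔ (A = 0 ∧ B = 0) := by
    constructor
    · rintro ⟨h1, h2⟩
      rw [neg_eq_zero, mul_eq_zero, mul_eq_zero] at h2
      rcases h2 with (h2 | h2) | h2
      · have hB : B = -A := by linear_combination h2
        subst_vars
        have : (3 : k) * A ^ 2 = 0 := by rw [hB] at h1; linear_combination h1
        have hA : A = 0 := by simpa [h3] using this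
        exact ⟨hA, by rw [hB, hA, neg_zero]⟩
      · have hB : B = 2 * A := by linear_combination -h2
        have : (3 : k) * A ^ 2 = 0 := by rw [hB] at h1; linear_combination h1
        have hA : A = 0 := by simpa [h3] using this
        exact ⟨hA, by rw [hB, hA, mul_zero]⟩
      · have hA' : A = 2 * B := by linear_combination h2
        have : (3 : k) * B ^ 2 = 0 := by rw [hA'] at h1; linear_combination h1
        have hB : B = 0 := by simpa [h3] using this
        exact ⟨by rw [hA', hB, mul_zero], hB⟩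
    · rintro ⟨hA, hB⟩; simp [hA, hB]
  rw [hAB]
  have hsymm : ∀ i j, d i j = 0 → d j i = 0 := fun i j h => by
    simp only [d] at h ⊢; linear_combination -h
  have htrans : ∀ i j l, d i j = 0 → d j l = 0 → d i l = 0 := fun i j l h1 h2' => by
    simp only [d] at h1 h2' ⊢
    rcases hne j with hj | hj
    · apply mul_left_cancel₀ hj
      rw [mul_zero]
      linear_combination la l * h1 + la i * h2'
    · apply mul_left_cancel₀ hj
      rw [mul_zero]
      linear_combination mu l * h1 + mu i * h2'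
  constructor
  · rintro ⟨hA, hB⟩
    have hC0 : C = 0 := by linear_combination hC - hA + hB
    have mk : ∀ i j l : Fin 4, i ≠ j → j ≠ l → i ≠ l → d i j = 0 → d j l = 0 →
        ∃ i j l : Fin 4, i ≠ j ∧ j ≠ l ∧ i ≠ l ∧ la i * mu j = la j * mu i ∧ la j * mu l = la l * mu j :=
      fun i j l h1 h2' h3' e1 e2 => ⟨i, j, l, h1, h2', h3', sub_eq_zero.1 e1, sub_eq_zero.1 e2⟩
    rcases mul_eq_zero.1 hA with a | a <;> rcases mul_eq_zero.1 hB with b | b
    · exact mk 1 0 2 (by decide) (by decide) (by decide) (hsymm _ _ a) b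
    · exact mk 0 1 3 (by decide) (by decide) (by decide) a b
    · exact mk 0 2 3 (by decide) (by decide) (by decide) b a
    · exact mk 1 3 2 (by decide) (by decide) (by decide) b (hsymm _ _ a)
  · rintro ⟨i, j, l, hij, hjl, hil, e1, e2⟩
    have a1 : d i j = 0 := sub_eq_zero.2 e1
    have a2 : d j l = 0 := sub_eq_zero.2 e2
    have a3 := htrans i j l a1 a2
    have b1 := hsymm _ _ a1
    have b2 := hsymm _ _ a2
    have b3 := hsymm _ _ a3
    have hz : ∀ x y, x ∈ [i, j, l] → y ∈ [i, j, l] → d x y = 0 := by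
      intro x y hx hy
      simp only [List.mem_cons, List.not_mem_nil, or_false] at hx hy
      rcases hx with rfl | rfl | rfl <;> rcases hy with rfl | rfl | rfl <;>
        first | assumption | exact sub_self _
    have key : ∀ i j l : Fin 4, i ≠ j → j ≠ l → i ≠ l →
        (((0 : Fin 4) ∈ [i, j, l] ∧ (1 : Fin 4) ∈ [i, j, l]) ∨ ((2 : Fin 4) ∈ [i, j, l] ∧ (3 : Fin 4) ∈ [i, j, l])) ∧
        (((0 : Fin 4) ∈ [i, j, l] ∧ (2 : Fin 4) ∈ [i, j, l]) ∨ ((1 : Fin 4) ∈ [i, j, l] ∧ (3 : Fin 4) ∈ [i, j, l])) := by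
      decide
    obtain ⟨k1, k2⟩ := key i j l hij hjl hil
    refine ⟨mul_eq_zero.2 ?_, mul_eq_zero.2 ?_⟩
    · exact k1.imp (fun h => hz _ _ h.1 h.2) (fun h => hz _ _ h.1 h.2)
    · exact k2.imp (fun h => hz _ _ h.1 h.2) (fun h => hz _ _ h.1 h.2)

end Groth.Agent.S19392
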