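import Groth.Statements.S19393
import Mathlib
-- import your own Groth.Agent.* helpers here

set_option autoImplicit false
set_option maxHeartbeats 2000000
universe u
open InvQ

namespace Groth.Agent.S19393

/-- Over a field of characteristic different from 2 and 3, two binary quartics without double zeros
lying in the same fibre of the map to the projective line given by the invariants, i.e. with
proportional (P³, Q²), are equivalent under a linear substitution of the variables up to a nonzero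
constant factor. Stated for split quartics f = ∏_i (μ_i X₀ − λ_i X₁) given by root points (λ_i, μ_i)
≠ (0, 0), with the integral invariants I = 6P, J = 72Q and the discriminant ∏_{i<j} (λ_j μ_i − λ_i
μ_j)²; only the assertion that such a fibre is a single orbit is stated (not its closedness). -/
theorem result (k : Type u) [Field k]
    (h2 : (2 : k) ≠ 0) (h3 : (3 : k) ≠ 0) (la mu la' mu' : Fin 4 → k)
    (hne : ∀ i, la i ≠ 0 ∨ mu i ≠ 0) (hne' : ∀ i, la' i ≠ 0 ∨ mu' i ≠ 0)
    (hd : W4c6intromoduli.disc la mu ≠ 0) (hd' : W4c6intromoduli.disc la' mu' ≠ 0)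
    (h : W4c6intromoduli.invI (W4c6intromoduli.coef la mu) ^ 3
          * W4c6intromoduli.invJ (W4c6intromoduli.coef la' mu') ^ 2 =
        W4c6intromoduli.invI (W4c6intromoduli.coef la' mu') ^ 3
          * W4c6intromoduli.invJ (W4c6intromoduli.coef la mu) ^ 2) :
    ∃ (M : Matrix (Fin 2) (Fin 2) k) (c : k), IsUnit M.det ∧ c ≠ 0 ∧
      W4c6intromoduli.binForm la' mu' =
        MvPolynomial.C c * W4c6intromoduli.subst M (W4c6intromoduli.binForm la mu) := by
  classical
  -- determinants of two root points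
  let D : (Fin 4 → k) → (Fin 4 → k) → Fin 4 → Fin 4 → k := fun l m i j => l i * m j - l j * m i
  have hDne : ∀ l m : Fin 4 → k, W4c6intromoduli.disc l m ≠ 0 → ∀ i j, i ≠ j → D l m i j ≠ 0 := by
    intro l m hlm i j hij h0
    have key : ∀ i j : Fin 4, i < j → l j * m i - l i * m j ≠ 0 := fun i j hij h => hlm (by
      refine Finset.prod_eq_zero (i := ((i, j) : Fin 4 × Fin 4)) (by simpa using hij) ?_
      simp [h])
    rcases lt_or_gt_of_ne hij with h' | h'
    · exact key i j h' (by simp only [D] at h0; linear_combination -h0)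
    · exact key j i h' (by simp only [D] at h0; linear_combination h0)
  -- the invariants
  have hIJ : ∀ l m : Fin 4 → k,
      W4c6intromoduli.invI (W4c6intromoduli.coef l m) = (D l m 0 1 * D l m 2 3) ^ 2
          - (D l m 0 1 * D l m 2 3) * (D l m 0 2 * D l m 1 3) + (D l m 0 2 * D l m 1 3) ^ 2 ∧
      W4c6intromoduli.invJ (W4c6intromoduli.coef l m) = -((D l m 0 1 * D l m 2 3 + D l m 0 2 * D l m 1 3) *
          (2 * (D l m 0 1 * D l m 2 3) - D l m 0 2 * D l m 1 3) *
          (D l m 0 1 * D l m 2 3 - 2 * (D l m 0 2 * D l m 1 3))) := by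
    intro l m
    have hp : W4c6intromoduli.rootPoly l m =
        Polynomial.C (m 0 * m 1 * m 2 * m 3) +
        Polynomial.C (-(l 0 * m 1 * m 2 * m 3 + m 0 * l 1 * m 2 * m 3 + m 0 * m 1 * l 2 * m 3 + m 0 * m 1 * m 2 * l 3)) * Polynomial.X +
        Polynomial.C (l 0 * l 1 * m 2 * m 3 + l 0 * m 1 * l 2 * m 3 + l 0 * m 1 * m 2 * l 3 + m 0 * l 1 * l 2 * m 3 +
          m 0 * l 1 * m 2 * l 3 + m 0 * m 1 * l 2 * l 3) * Polynomial.X ^ 2 +
        Polynomial.C (-(l 0 * l 1 * l 2 * m 3 + l 0 * l 1 * m 2 * l 3 + l 0 * m 1 * l 2 * l 3 + m 0 * l 1 * l 2 * l 3)) * Polynomial.X ^ 3 +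
        Polynomial.C (l 0 * l 1 * l 2 * l 3) * Polynomial.X ^ 4 := by
      simp only [W4c6intromoduli.rootPoly, Fin.prod_univ_four, map_add, map_neg, map_mul]
      ring
    simp only [W4c6intromoduli.invI, W4c6intromoduli.invJ, W4c6intromoduli.coef, hp, Polynomial.coeff_add,
      Polynomial.coeff_C_mul, Polynomial.coeff_C, Polynomial.coeff_X_pow, Polynomial.coeff_X, D]
    norm_num
    constructor <;> ring
  -- a permutation matching the cross ratios
  obtain ⟨σ, hσ⟩ : ∃ σ : Equiv.Perm (Fin 4),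
      D (la' ∘ σ) (mu' ∘ σ) 0 1 * D (la' ∘ σ) (mu' ∘ σ) 2 3 * (D la mu 0 2 * D la mu 1 3) =
        D (la' ∘ σ) (mu' ∘ σ) 0 2 * D (la' ∘ σ) (mu' ∘ σ) 1 3 * (D la mu 0 1 * D la mu 2 3) := by
    let G : Fin 4 → Fin 4 → Fin 4 → k := fun a b c =>
      D la' mu' 0 a * D la' mu' b c * (D la mu 0 2 * D la mu 1 3) - D la' mu' 0 b * D la' mu' a c * (D la mu 0 1 * D la mu 2 3)
    have key : ∀ P Q P' Q' : k, (27 : k) * ((P' * Q - Q' * P) * (-P' * Q - (Q' - P') * P) * (Q' * Q - P' * P) *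
        (-Q' * Q + (Q' - P') * P) * ((Q' - P') * Q + P' * P) * (-(Q' - P') * Q + Q' * P)) =
        (P ^ 2 - P * Q + Q ^ 2) ^ 3 * (-((P' + Q') * (2 * P' - Q') * (P' - 2 * Q'))) ^ 2 -
          (P' ^ 2 - P' * Q' + Q' ^ 2) ^ 3 * (-((P + Q) * (2 * P - Q) * (P - 2 * Q))) ^ 2 := by
      intro P Q P' Q'; ring
    have h27 : (27 : k) * (G 1 2 3 * G 1 3 2 * G 2 1 3 * G 2 3 1 * G 3 1 2 * G 3 2 1) = 0 := by
      have e := key (D la mu 0 1 * D la mu 2 3) (D la mu 0 2 * D la mu 1 3)
        (D la' mu' 0 1 * D la' mu' 2 3) (D la' mu' 0 2 * D la' mu' 1 3)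
      rw [← (hIJ la mu).1, ← (hIJ la mu).2, ← (hIJ la' mu').1, ← (hIJ la' mu').2, sub_eq_zero.2 h] at e
      have r' : D la' mu' 0 2 * D la' mu' 1 3 - D la' mu' 0 1 * D la' mu' 2 3 = D la' mu' 0 3 * D la' mu' 1 2 := by
        simp only [D]; ring
      have sw : ∀ i j, D la' mu' j i = -D la' mu' i j := fun i j => by simp only [D]; ring
      rw [r'] at e
      have g1 : G 1 2 3 = D la' mu' 0 1 * D la' mu' 2 3 * (D la mu 0 2 * D la mu 1 3) - D la' mu' 0 2 * D la' mu' 1 3 * (D la mu 0 1 * D la mu 2 3) := rfl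
      have g2 : G 1 3 2 = -(D la' mu' 0 1 * D la' mu' 2 3) * (D la mu 0 2 * D la mu 1 3) - D la' mu' 0 3 * D la' mu' 1 2 * (D la mu 0 1 * D la mu 2 3) := by
        show D la' mu' 0 1 * D la' mu' 3 2 * _ - _ = _
        rw [sw 2 3, mul_neg]
      have g3 : G 2 1 3 = D la' mu' 0 2 * D la' mu' 1 3 * (D la mu 0 2 * D la mu 1 3) - D la' mu' 0 1 * D la' mu' 2 3 * (D la mu 0 1 * D la mu 2 3) := rfl
      have g4 : G 2 3 1 = -(D la' mu' 0 2 * D la' mu' 1 3) * (D la mu 0 2 * D la mu 1 3) + D la' mu' 0 3 * D la' mu' 1 2 * (D la mu 0 1 * D la mu 2 3) := by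
        show D la' mu' 0 2 * D la' mu' 3 1 * _ - D la' mu' 0 3 * D la' mu' 2 1 * _ = _
        rw [sw 1 3, sw 1 2, mul_neg, mul_neg, neg_mul (D la' mu' 0 3 * _), sub_neg_eq_add]
      have g5 : G 3 1 2 = D la' mu' 0 3 * D la' mu' 1 2 * (D la mu 0 2 * D la mu 1 3) + D la' mu' 0 1 * D la' mu' 2 3 * (D la mu 0 1 * D la mu 2 3) := by
        show _ - D la' mu' 0 1 * D la' mu' 3 2 * _ = _
        rw [sw 2 3, mul_neg, neg_mul (D la' mu' 0 1 * _), sub_neg_eq_add]
      have g6 : G 3 2 1 = -(D la' mu' 0 3 * D la' mu' 1 2) * (D la mu 0 2 * D la mu 1 3) + D la' mu' 0 2 * D la' mu' 1 3 * (D la mu 0 1 * D la mu 2 3) := by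
        show D la' mu' 0 3 * D la' mu' 2 1 * _ - D la' mu' 0 2 * D la' mu' 3 1 * _ = _
        rw [sw 1 3, sw 1 2, mul_neg, mul_neg, neg_mul (D la' mu' 0 2 * _), sub_neg_eq_add]
      rw [g1, g2, g3, g4, g5, g6]
      exact e
    have h27' : (27 : k) ≠ 0 := by
      have := pow_ne_zero 3 h3
      norm_num at this ⊢
      exact this
    simp only [mul_eq_zero, h27', false_or] at h27
    have mkσ : ∀ a b c : Fin 4, Function.Bijective ![0, a, b, c] → G a b c = 0 →
        ∃ σ : Equiv.Perm (Fin 4),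
          D (la' ∘ σ) (mu' ∘ σ) 0 1 * D (la' ∘ σ) (mu' ∘ σ) 2 3 * (D la mu 0 2 * D la mu 1 3) =
            D (la' ∘ σ) (mu' ∘ σ) 0 2 * D (la' ∘ σ) (mu' ∘ σ) 1 3 * (D la mu 0 1 * D la mu 2 3) := fun a b c hb hG =>
      ⟨Equiv.ofBijective _ hb, sub_eq_zero.1 hG⟩
    rcases h27 with ((((h' | h') | h') | h') | h') | h' <;> exact mkσ _ _ _ (by decide) h'
  set x := la' ∘ σ with hx
  set y := mu' ∘ σ with hy
  have hne2 : ∀ i j, i ≠ j → D x y i j ≠ 0 := fun i j hij => hDne la' mu' hd' (σ i) (σ j) fun e => hij (σ.injective e)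
  have hne1 := hDne la mu hd
  set al := D la mu 2 1 * D x y 0 2
  set be := D la mu 0 2 * D x y 2 1
  let M : Matrix (Fin 2) (Fin 2) k :=
    !![al * y 1 * la 0 - be * y 0 * la 1, -(al * x 1 * la 0) + be * x 0 * la 1;
       al * y 1 * mu 0 - be * y 0 * mu 1, -(al * x 1 * mu 0) + be * x 0 * mu 1]
  have hdet : M.det ≠ 0 := by
    have e : M.det = al * be * D x y 0 1 * D la mu 0 1 := by simp [M, D, Matrix.det_fin_two]; ring
    rw [e]
    have := hne2 0 2 (by decide); have := hne2 2 1 (by decide); have := hne2 0 1 (by decide)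
    have := hne1 2 1 (by decide); have := hne1 0 2 (by decide); have := hne1 0 1 (by decide)
    simp only [al, be, ne_eq, mul_eq_zero, not_or]
    tauto
  have hc : ∀ i, ∃ c : k, c ≠ 0 ∧ M 0 0 * x i + M 0 1 * y i = c * la i ∧ M 1 0 * x i + M 1 1 * y i = c * mu i := by
    intro i
    have hzero : (M 0 0 * x i + M 0 1 * y i) * mu i - (M 1 0 * x i + M 1 1 * y i) * la i = 0 := by
      fin_cases i
      · simp [M, D]; ring
      · simp [M, D]; ring
      · simp [M, D, al, be]; ring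
      · simp [M, D, al, be] at hσ ⊢; linear_combination hσ
    obtain ⟨c, h0, h1⟩ : ∃ c : k, M 0 0 * x i + M 0 1 * y i = c * la i ∧ M 1 0 * x i + M 1 1 * y i = c * mu i := by
      rcases hne i with hl | hm
      · refine ⟨(M 0 0 * x i + M 0 1 * y i) / la i, by field_simp, ?_⟩
        field_simp
        linear_combination -hzero
      · refine ⟨(M 1 0 * x i + M 1 1 * y i) / mu i, ?_, by field_simp⟩
        field_simp
        linear_combination hzero
    refine ⟨c, ?_, h0, h1⟩
    rintro rfl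
    rw [Matrix.det_fin_two] at hdet
    have ex : (M 0 0 * M 1 1 - M 0 1 * M 1 0) * x i = 0 := by linear_combination M 1 1 * h0 - M 0 1 * h1
    have ey : (M 0 0 * M 1 1 - M 0 1 * M 1 0) * y i = 0 := by linear_combination M 0 0 * h1 - M 1 0 * h0
    rcases hne' (σ i) with hl | hm
    · exact hl ((mul_eq_zero.1 ex).resolve_left hdet)
    · exact hm ((mul_eq_zero.1 ey).resolve_left hdet)
  choose c hc0 hcx hcy using hc
  refine ⟨M, (∏ i, c i) / M.det ^ 4, hdet.isUnit, div_ne_zero (Finset.prod_ne_zero_iff.2 fun i _ => hc0 i) (pow_ne_zero _ hdet), ?_⟩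
  have hlin : ∀ i, MvPolynomial.C (c i) * W4c6intromoduli.subst M
      (MvPolynomial.C (mu i) * MvPolynomial.X 0 - MvPolynomial.C (la i) * MvPolynomial.X 1) =
      MvPolynomial.C M.det * (MvPolynomial.C (y i) * MvPolynomial.X 0 - MvPolynomial.C (x i) * MvPolynomial.X 1) := by
    intro i
    simp only [W4c6intromoduli.subst, map_sub, map_mul, MvPolynomial.aeval_X, MvPolynomial.algHom_C,
      MvPolynomial.algebraMap_eq, Fin.sum_univ_two, Matrix.det_fin_two]
    have h0 := congrArg (MvPolynomial.C (σ := Fin 2)) (hcx i)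
    have h1 := congrArg (MvPolynomial.C (σ := Fin 2)) (hcy i)
    simp only [map_add, map_mul] at h0 h1
    linear_combination (MvPolynomial.C (M 1 0) * MvPolynomial.X 0 + MvPolynomial.C (M 1 1) * MvPolynomial.X 1) * h0
      - (MvPolynomial.C (M 0 0) * MvPolynomial.X 0 + MvPolynomial.C (M 0 1) * MvPolynomial.X 1) * h1
  have hprod : MvPolynomial.C (∏ i, c i) * W4c6intromoduli.subst M (W4c6intromoduli.binForm la mu) =
      MvPolynomial.C (M.det ^ 4) * W4c6intromoduli.binForm la' mu' := by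
    simp only [W4c6intromoduli.binForm]
    rw [map_prod, map_prod, ← Finset.prod_mul_distrib, Finset.prod_congr rfl fun i _ => hlin i,
      Finset.prod_mul_distrib, Finset.prod_const, Finset.card_univ, Fintype.card_fin, map_pow]
    refine congrArg (MvPolynomial.C M.det ^ 4 * ·) ?_
    rw [← Equiv.prod_comp σ (fun i => MvPolynomial.C (mu' i) * MvPolynomial.X 0 - MvPolynomial.C (la' i) * MvPolynomial.X 1)]
    simp only [hx, hy, Function.comp_apply]
  rw [div_eq_mul_inv, mul_comm (∏ i, c i), map_mul, mul_assoc, hprod, ← mul_assoc, ← map_mul,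
    inv_mul_cancel₀ (pow_ne_zero _ hdet), map_one, one_mul]

end Groth.Agent.S19393
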