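import Groth.Statements.S19400
import Groth.Agent.HopfLib.GITPoints

set_option autoImplicit false
universe u
open GIT

namespace Groth.Agent.S19400

/-- For a reductive group G (here: every finite-dimensional representation completely reducible, i.e.
linearly reductive; any characteristic) acting on an affine variety X = Spec R over an algebraically
closed field with all orbits of closed points closed, the morphism X → Y = Spec R^G is a geometric
quotient; in particular it is surjective on closed points and its fibre over every closed point of Y
is a single orbit. This row states those two point-set assertions in coaction form: G = Spec A with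
A a finitely generated commutative Hopf algebra whose finite-dimensional comodules are semisimple, R
of finite type with a multiplicative unital coaction, points as k-algebra maps. The published
statement takes X to be a variety (reduced and irreducible); this row does not assume R reduced or a
domain. -/
theorem result (k : Type u) [Field k] [IsAlgClosed k]
    (A : Type u) [CommRing A] [HopfAlgebra k A] [Algebra.FiniteType k A]
    (hG : HopfRep.IsLinearlyReductive k A)
    (R : Type u) [CommRing R] [Algebra k R] [Algebra.FiniteType k R]
    [HopfRep.Comod k A R] [GLin.IsCoactAlg k A R]
    (hcl : ∀ x : R →ₐ[k] k, GLin.IsClosedOrbit k A x)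
    (y : GLin.invariants k A R →ₐ[k] k) :
    (∃ x : R →ₐ[k] k, x.comp (GLin.invariants k A R).val = y) ∧
      ∀ x x' : R →ₐ[k] k, x.comp (GLin.invariants k A R).val = y →
        x'.comp (GLin.invariants k A R).val = y →
          ∃ g : A →ₐ[k] k, x' = GLin.actPt k g x := by
  refine ⟨?_, fun x x' hx hx' => ?_⟩
  · obtain ⟨x, -, hx⟩ := Groth.Agent.HopfLib.exists_point_over (Groth.Agent.HopfLib.exists_totalIntegral hG R)
      (I := ⊥) (by rw [Submodule.restrictScalars_bot]; exact Groth.Agent.HopfLib.isSubcomod_bot) y
      (fun f hf => by
        have : f = 0 := Subtype.ext ((Submodule.mem_bot R).1 hf)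
        rw [this, map_zero])
    exact ⟨x, hx⟩
  · exact Groth.Agent.HopfLib.IsClosedPtOrbit.exists_eq_actPt hG
      (Groth.Agent.HopfLib.isClosedPtOrbit_of_isClosedOrbit (hcl x))
      (Groth.Agent.HopfLib.isClosedPtOrbit_of_isClosedOrbit (hcl x')) (hx.trans hx'.symm)

end Groth.Agent.S19400
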