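import Groth.Statements.S19402
import Groth.Agent.GaloisTraceLib.Basic
import Mathlib.RingTheory.Jacobson.Ring
import Mathlib.RingTheory.Filtration
import Mathlib.FieldTheory.IsAlgClosed.Basic
import Mathlib.RingTheory.LocalRing.ResidueField.Basic

set_option autoImplicit false
universe u v w
open scoped Pointwise
open GLin

namespace Groth.Agent.S19402

/-- Let k be an algebraically closed field of characteristic zero, R a finitely generated commutative
k-algebra which is an integrally closed domain (a normal irreducible affine variety X), and G a
finite group acting faithfully on R by k-algebra automorphisms. Let B be a commutative k-algebra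
with an injective algebra map B → R, compatible with the k-structures and G-invariant, whose image
is exactly the subring of G-invariants (so Spec R → Spec B is the quotient morphism X → X/G). Then
for a maximal ideal m of R (a closed point x of X), R is étale over B at m (the local ring R_m is
formally étale over B) if and only if the stabilizer of m in G is trivial. -/
theorem result (k : Type u) [Field k] [IsAlgClosed k] [CharZero k]
    (R : Type v) [CommRing R] [IsDomain R] [IsIntegrallyClosed R] [Algebra k R] [Algebra.FiniteType k R]
    (G : Type w) [Group G] [Finite G] [MulSemiringAction G R] [FaithfulSMul G R] [SMulCommClass G k R]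
    (B : Type v) [CommRing B] [Algebra k B] [Algebra B R] [IsScalarTower k B R] [FaithfulSMul B R]
    [SMulCommClass G B R] [Algebra.IsInvariant B R G]
    (m : Ideal R) [m.IsMaximal] :
    Algebra.IsEtaleAt B m ↔ MulAction.stabilizer G m = ⊥ := by
  classical
  haveI := Fintype.ofFinite G
  haveI hfin : Module.Finite k (R ⧸ m) := by
    letI : Field (R ⧸ m) := Ideal.Quotient.field m
    exact finite_of_finite_type_of_isJacobsonRing k (R ⧸ m)
  have hres : ∀ r : R, ∃ a : k, r - algebraMap k R a ∈ m := fun r => by
    letI : Field (R ⧸ m) := Ideal.Quotient.field m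
    haveI : Algebra.IsIntegral k (R ⧸ m) := Algebra.IsIntegral.of_finite k _
    obtain ⟨a, ha⟩ := (IsAlgClosed.algebraMap_bijective_of_isIntegral (k := k) (K := R ⧸ m)).2
      (Ideal.Quotient.mk m r)
    exact ⟨a, Ideal.Quotient.eq.1 (ha.symm.trans (Ideal.Quotient.mk_algebraMap k m a).symm)⟩
  constructor
  · intro hetale
    rw [eq_bot_iff]
    intro γ hγ
    rw [MulAction.mem_stabilizer_iff] at hγ
    have hcm : m = m.comap (GaloisTraceLib.act B γ).toRingHom := by
      ext r
      rw [Ideal.mem_comap]
      conv_rhs => rw [show ((GaloisTraceLib.act B γ).toRingHom r) = γ • r from rfl, ← hγ]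
      exact Ideal.smul_mem_pointwise_smul_iff.symm
    let φ : Localization.AtPrime m →+* Localization.AtPrime m :=
      Localization.localRingHom m m (GaloisTraceLib.act B γ).toRingHom hcm
    have hφ : ∀ r : R, φ (algebraMap R _ r) = algebraMap R _ (γ • r) := fun r =>
      Localization.localRingHom_to_map m m _ hcm r
    let φ' : Localization.AtPrime m →ₐ[B] Localization.AtPrime m :=
      { φ with
        commutes' := fun b => by
          show φ (algebraMap B _ b) = algebraMap B _ b
          rw [IsScalarTower.algebraMap_apply B R (Localization.AtPrime m), hφ, smul_algebraMap] }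
    haveI : IsNoetherianRing R := Algebra.FiniteType.isNoetherianRing k R
    haveI : IsNoetherianRing (Localization.AtPrime m) :=
      IsLocalization.isNoetherianRing m.primeCompl _ inferInstance
    have hres' : ∀ r : R, algebraMap R (Localization.AtPrime m) (γ • r - r) ∈
        IsLocalRing.maximalIdeal (Localization.AtPrime m) := fun r => by
      rw [IsLocalization.AtPrime.to_map_mem_maximal_iff (Localization.AtPrime m) m]
      obtain ⟨a, ha⟩ := hres r
      have h2 : γ • (r - algebraMap k R a) ∈ m := by
        have := Ideal.smul_mem_pointwise_smul γ (r - algebraMap k R a) m ha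
        rwa [hγ] at this
      rw [smul_sub, smul_algebraMap] at h2
      have h3 := m.sub_mem h2 ha
      rwa [sub_sub_sub_cancel_right] at h3
    have heq : φ' = AlgHom.id B _ := by
      refine Algebra.FormallyUnramified.ext_of_iInf (I := IsLocalRing.maximalIdeal _)
        (Ideal.iInf_pow_eq_bot_of_isLocalRing _ (Ideal.IsMaximal.ne_top inferInstance)) fun z => ?_
      refine RingHom.congr_fun (f := (Ideal.Quotient.mk _).comp φ) (g := Ideal.Quotient.mk _) ?_ z
      refine IsLocalization.ringHom_ext m.primeCompl (RingHom.ext fun r => ?_)
      simp only [RingHom.comp_apply, hφ]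
      rw [Ideal.Quotient.eq, ← map_sub]
      exact hres' r
    refine Subgroup.mem_bot.2 (FaithfulSMul.eq_of_smul_eq_smul (α := R) fun r => ?_)
    rw [one_smul]
    have h1 := AlgHom.congr_fun heq (algebraMap R _ r)
    rw [AlgHom.id_apply] at h1
    exact IsLocalization.injective (Localization.AtPrime m) m.primeCompl_le_nonZeroDivisors
      ((hφ r).symm.trans h1)
  · intro h
    exact GaloisTraceLib.isEtaleAt (B := B) (G := G) m fun γ hγ =>
      Subgroup.mem_bot.1 (h ▸ (MulAction.mem_stabilizer_iff.2 hγ :) : γ ∈ (⊥ : Subgroup G))

end Groth.Agent.S19402
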