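import Groth.Statements.S19403
import Groth.Agent.HopfLib.Comod
import Groth.Agent.HopfLib.Cartier
import Groth.Agent.HopfLib.GITPoints
import Groth.Agent.FlatMorUniv.Scheme
import Mathlib.RingTheory.ZariskisMainTheorem

set_option autoImplicit false
set_option maxHeartbeats 1000000
universe u
open TensorProduct
open GLin

namespace Groth.Agent.S19403

/-- The equivariant form of Zariski's Main Theorem. Let k be an algebraically closed field of
characteristic zero, A a finitely generated commutative Hopf algebra over k all of whose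
finite-dimensional comodules are semisimple (a reductive group G), R and S finitely generated
commutative k-algebras with multiplicative A-coactions (G acting on the affine schemes X = Spec R, Y
= Spec S), and S → R an algebra map compatible with the coactions (a G-morphism φ : X → Y) which is
quasi-finite. Then there exist a finitely generated commutative k-algebra B with a multiplicative
A-coaction (an affine G-scheme Z), an algebra map ψ : S → B compatible with the coactions and
finite, and an algebra map i : B → R compatible with the coactions such that Spec R → Spec B is an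
open immersion, with i ∘ ψ the given map S → R (φ factors as an equivariant open immersion followed
by a finite G-morphism). -/
theorem result (k : Type u) [Field k] [IsAlgClosed k] [CharZero k]
    (A : Type u) [CommRing A] [HopfAlgebra k A] [Algebra.FiniteType k A] (hG : HopfRep.IsLinearlyReductive k A)
    (S : Type u) [CommRing S] [Algebra k S] [Algebra.FiniteType k S] [HopfRep.Comod k A S] [GLin.IsCoactAlg k A S]
    (R : Type u) [CommRing R] [Algebra k R] [Algebra.FiniteType k R] [HopfRep.Comod k A R] [GLin.IsCoactAlg k A R]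
    [Algebra S R] [IsScalarTower k S R] [Algebra.QuasiFinite S R]
    (hequiv : (∀ s : S, HopfRep.Comod.coact (k := k) (A := A) (algebraMap S R s) =
      Algebra.TensorProduct.map (IsScalarTower.toAlgHom k S R) (AlgHom.id k A) (HopfRep.Comod.coact (k := k) (A := A) s))) :
    ∃ (B : Type u) (_ : CommRing B) (_ : Algebra k B) (_ : HopfRep.Comod k A B) (_ : GLin.IsCoactAlg k A B),
      Algebra.FiniteType k B ∧
      ∃ (ψ : S →ₐ[k] B) (i : B →ₐ[k] R),
        (∀ s : S, HopfRep.Comod.coact (k := k) (A := A) (ψ s) =
        Algebra.TensorProduct.map ψ (AlgHom.id k A) (HopfRep.Comod.coact (k := k) (A := A) s)) ∧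
        (∀ s : B, HopfRep.Comod.coact (k := k) (A := A) (i s) =
        Algebra.TensorProduct.map i (AlgHom.id k A) (HopfRep.Comod.coact (k := k) (A := A) s)) ∧
        i.comp ψ = IsScalarTower.toAlgHom k S R ∧ ψ.toRingHom.Finite ∧
        AlgebraicGeometry.IsOpenImmersion (AlgebraicGeometry.Spec.map (CommRingCat.ofHom i.toRingHom)) := by
  classical
  have : IsReduced A := Groth.Agent.HopfLib.isReduced_of_charZero (k := k)
  let B₀ := integralClosure S R
  -- slices at points of integral elements are integral
  have hpt : ∀ (g : A →ₐ[k] k) (r : R), r ∈ B₀ →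
      Groth.Agent.HopfLib.hit (V := R) g.toLinearMap r ∈ B₀ := by
    intro g r hr
    let cS : S →ₐ[k] S := ((Algebra.TensorProduct.rid k k S).toAlgHom.comp
      (Algebra.TensorProduct.map (AlgHom.id k S) g)).comp (GLin.coactAlgHom k A S)
    let cR : R →ₐ[k] R := ((Algebra.TensorProduct.rid k k R).toAlgHom.comp
      (Algebra.TensorProduct.map (AlgHom.id k R) g)).comp (GLin.coactAlgHom k A R)
    have hc : ∀ s, cR (algebraMap S R s) = algebraMap S R (cS s) := by
      intro s
      simp only [cS, cR, AlgHom.comp_apply, GLin.coactAlgHom_apply, hequiv]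
      generalize (HopfRep.Comod.coact (k := k) (A := A) s) = t
      induction t using TensorProduct.induction_on with
      | zero => simp
      | add x y hx hy => simp [map_add, hx, hy]
      | tmul a b => simp [Algebra.smul_def, IsScalarTower.algebraMap_apply k S R]
    have hcR : cR r = Groth.Agent.HopfLib.hit (V := R) g.toLinearMap r := by
      simp only [cR, Groth.Agent.HopfLib.hit_apply, AlgHom.comp_apply, GLin.coactAlgHom_apply]
      generalize (HopfRep.Comod.coact (k := k) (A := A) r) = t
      induction t using TensorProduct.induction_on with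
      | zero => simp
      | add x y hx hy => simp [map_add, hx, hy]
      | tmul a b => simp
    rw [← hcR]
    obtain ⟨p, hp, hp0⟩ := hr
    refine ⟨p.map cS.toRingHom, hp.map _, ?_⟩
    rw [Polynomial.eval₂_map,
      show (algebraMap S R).comp cS.toRingHom = cR.toRingHom.comp (algebraMap S R) from
        RingHom.ext fun s => (hc s).symm]
    exact (Polynomial.hom_eval₂ p (algebraMap S R) cR.toRingHom r).symm.trans (by simp [hp0])
  let B₀k : Submodule k R := (B₀.restrictScalars k).toSubmodule
  have hstab : HopfRep.IsSubcomod (k := k) (A := A) B₀k := by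
    refine Groth.Agent.HopfLib.isSubcomod_iff_hit.2 fun g r hr => ?_
    by_contra hne
    obtain ⟨φ, hφne, hφ0⟩ := Submodule.exists_dual_map_eq_bot_of_notMem hne inferInstance
    have hzero : ∀ t : R ⊗[k] A, ∀ l : A →ₗ[k] k,
        l (Groth.Agent.HopfLib.sliceL φ t) = φ (Groth.Agent.HopfLib.sliceR l t) := by
      intro t l
      induction t using TensorProduct.induction_on with
      | zero => simp
      | add x y hx hy => simp [map_add, hx, hy]
      | tmul a b => simp [mul_comm]
    have ha : Groth.Agent.HopfLib.cf (A := A) φ r = 0 := by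
      by_contra h0
      obtain ⟨x, hx⟩ := Groth.Agent.HopfLib.exists_algHom_ne_zero (k := k)
        (f := Groth.Agent.HopfLib.cf (A := A) φ r) (fun hn => h0 hn.eq_zero)
      apply hx
      exact (hzero _ x.toLinearMap).trans ((Submodule.mem_bot k).1 (hφ0 ▸ Submodule.mem_map_of_mem (hpt x r hr)))
    apply hφne
    rw [Groth.Agent.HopfLib.hit_apply, ← hzero, ← Groth.Agent.HopfLib.cf_apply, ha, map_zero]
  -- Zariski main theorem
  have hz : ∀ p : PrimeSpectrum R, ∃ (T : Finset R) (r : R), r ∉ p.asIdeal ∧ r ∈ Algebra.adjoin S (T : Set R) ∧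
      (∀ t ∈ T, t ∈ B₀) ∧ ∀ x : R, ∃ n : ℕ, r ^ n * x ∈ Algebra.adjoin S (T : Set R) := by
    intro p
    have : Algebra.FiniteType S R := Algebra.FiniteType.of_restrictScalars_finiteType k S R
    obtain ⟨S', hS', r, hrp, hbij⟩ :=
      Algebra.QuasiFiniteAt.exists_fg_and_exists_notMem_and_awayMap_bijective (R := S) p.asIdeal
    obtain ⟨T, hT⟩ := hS'
    have hTS : ∀ t ∈ T, t ∈ S' := fun t ht => by
      have : t ∈ Subalgebra.toSubmodule S' := hT ▸ Submodule.subset_span ht
      exact this
    have hle : S' ≤ Algebra.adjoin S (T : Set R) := fun x hx => by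
      have : x ∈ Submodule.span S (T : Set R) := hT.symm ▸ hx
      exact Algebra.span_le_adjoin S _ this
    have hfin : Module.Finite S S' := ⟨(Submodule.fg_top _).mpr ⟨T, hT⟩⟩
    refine ⟨T, r.1, hrp, hle r.2, fun t ht => ?_, fun x => ?_⟩
    · exact IsIntegral.of_mem_of_fg S' ⟨T, hT⟩ t (hTS t ht)
    · obtain ⟨y, hy⟩ := hbij.2 (algebraMap R _ x)
      obtain ⟨⟨a, ⟨_, m, rfl⟩⟩, rfl⟩ := IsLocalization.mk'_surjective (Submonoid.powers r) y
      simp only [Localization.awayMap, IsLocalization.Away.map, IsLocalization.map_mk'] at hy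
      rw [IsLocalization.mk'_eq_iff_eq_mul, ← map_mul, IsLocalization.eq_iff_exists (Submonoid.powers (S'.val.toRingHom r))] at hy
      obtain ⟨⟨_, l, rfl⟩, hl⟩ := hy
      refine ⟨l + m, hle ?_⟩
      have hl' : r.1 ^ l * a.1 = r.1 ^ l * (x * r.1 ^ m) := by simpa using hl
      rw [show r.1 ^ (l + m) * x = r.1 ^ l * a.1 by rw [hl', pow_add]; ring]
      exact mul_mem (pow_mem r.2 _) a.2
  choose T r hrp hrT hTB hx using hz
  have hcover : ⨆ p : PrimeSpectrum R, PrimeSpectrum.basicOpen (r p) = ⊤ := by
    refine top_le_iff.1 fun p _ => TopologicalSpace.Opens.mem_iSup.2 ⟨p, hrp p⟩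
  obtain ⟨P, hP⟩ := CompactSpace.elim_nhds_subcover (fun p : PrimeSpectrum R => ((PrimeSpectrum.basicOpen (r p)) : Set (PrimeSpectrum R)))
    (fun p => (PrimeSpectrum.basicOpen (r p)).isOpen.mem_nhds (hrp p))
  let F : Finset R := P.biUnion T
  obtain ⟨W, hWfin, hFW, hWs⟩ := Groth.Agent.HopfLib.exists_finite_subcomod (k := k) (A := A) (V := R) (F : Set R) F.finite_toSet
  let W' : Submodule k R := W ⊓ B₀k
  have hW's : HopfRep.IsSubcomod (k := k) (A := A) W' := Groth.Agent.HopfLib.isSubcomod_inf hWs hstab
  have : Module.Finite k W' := Submodule.finiteDimensional_inf_left W B₀k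
  obtain ⟨G, hG⟩ := (Module.Finite.iff_fg.1 this : W'.FG)
  have hGW : ∀ g ∈ G, g ∈ W' := fun g hg => hG ▸ Submodule.subset_span hg
  let Bs : Subalgebra S R := Algebra.adjoin S (G : Set R)
  let Bk : Subalgebra k R := Bs.restrictScalars k
  have hBfin : Module.Finite S Bs := by
    exact ⟨(Submodule.fg_top _).mpr (fg_adjoin_of_finite G.finite_toSet fun g hg => (hGW g hg).2)⟩
  let M : Subalgebra k (R ⊗[k] A) := (Algebra.TensorProduct.map Bk.val (AlgHom.id k A)).range
  have hM : ∀ t, t ∈ LinearMap.range (Bk.toSubmodule.subtype.rTensor A) ↔ t ∈ M := by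
    intro t
    have e : Bk.toSubmodule.subtype.rTensor A = (Algebra.TensorProduct.map Bk.val (AlgHom.id k A)).toLinearMap := by
      ext b a; rfl
    rw [e]
    exact Iff.rfl
  have hBs : HopfRep.IsSubcomod (k := k) (A := A) Bk.toSubmodule := by
    intro b hb
    rw [hM, ← GLin.coactAlgHom_apply]
    have hb' : b ∈ Algebra.adjoin S (G : Set R) := hb
    clear hb
    induction hb' using Algebra.adjoin_induction with
    | mem g hg =>
      refine (hM _).1 ?_
      obtain ⟨t, ht⟩ := hW's g (hGW g hg)
      refine ⟨(Submodule.inclusion (?_ : W' ≤ Bk.toSubmodule)).rTensor A t, ?_⟩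
      · rw [← hG, Submodule.span_le]; exact Algebra.subset_adjoin
      · rw [GLin.coactAlgHom_apply, ← ht, ← LinearMap.rTensor_comp_apply]; rfl
    | algebraMap s =>
      rw [GLin.coactAlgHom_apply, hequiv]
      let incl : S →ₐ[k] Bk := (IsScalarTower.toAlgHom k S R).codRestrict Bk fun s => Bs.algebraMap_mem s
      refine ⟨Algebra.TensorProduct.map incl (AlgHom.id k A) (HopfRep.Comod.coact (k := k) (A := A) s), ?_⟩
      generalize (HopfRep.Comod.coact (k := k) (A := A) s) = t
      induction t using TensorProduct.induction_on with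
      | zero => simp
      | add x y hx hy => simp only [map_add]; exact congrArg₂ (· + ·) hx hy
      | tmul a b => rfl
    | add x y _ _ hx hy => rw [map_add]; exact add_mem hx hy
    | mul x y _ _ hx hy => rw [map_mul]; exact mul_mem hx hy
  letI cB : HopfRep.Comod k A Bk := ComodSub.Comod.restr inferInstance Bk.toSubmodule hBs
  have hι : ∀ b : Bk, Algebra.TensorProduct.map Bk.val (AlgHom.id k A) (HopfRep.Comod.coact (k := k) (A := A) b) =
      HopfRep.Comod.coact (k := k) (A := A) (b : R) := by
    intro b
    refine Eq.trans ?_ (ComodSub.restr_coact_coe inferInstance Bk.toSubmodule hBs b)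
    generalize (HopfRep.Comod.coact (k := k) (A := A) b) = t
    induction t using TensorProduct.induction_on with
    | zero => simp
    | add x y hx hy => simp [map_add, hx, hy]
    | tmul a b => rfl
  have hinj : Function.Injective (Algebra.TensorProduct.map Bk.val (AlgHom.id k A)) := by
    have : Function.Injective (Bk.toSubmodule.subtype.rTensor A) :=
      Module.Flat.rTensor_preserves_injective_linearMap _ Subtype.val_injective
    have e : Bk.toSubmodule.subtype.rTensor A = (Algebra.TensorProduct.map Bk.val (AlgHom.id k A)).toLinearMap := by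
      ext b a; rfl
    rw [e] at this
    exact this
  have hco : GLin.IsCoactAlg k A Bk := by
    constructor
    · exact hinj (by rw [hι, map_one]; exact GLin.IsCoactAlg.coact_one)
    · intro f g
      exact hinj (by rw [hι, map_mul, hι, hι]; exact GLin.IsCoactAlg.coact_mul (k := k) (A := A) _ _)
  let ψ : S →ₐ[k] Bk := (IsScalarTower.toAlgHom k S R).codRestrict Bk fun s => Bs.algebraMap_mem s
  have hψfin : ψ.toRingHom.Finite := by
    change (algebraMap S Bs).Finite
    exact RingHom.finite_algebraMap.2 hBfin
  refine ⟨Bk, inferInstance, inferInstance, cB, hco, ?_, ψ, Bk.val, fun s => hinj ?_, fun b => (hι b).symm, rfl,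
    hψfin, ?_⟩
  · letI : Algebra S Bk := ψ.toRingHom.toAlgebra
    have : IsScalarTower k S Bk := IsScalarTower.of_algebraMap_eq fun x => (ψ.commutes x).symm
    have : Module.Finite S Bk := hψfin
    exact Algebra.FiniteType.trans ‹Algebra.FiniteType k S› inferInstance
  · rw [hι]
    refine (hequiv s).trans ?_
    generalize (HopfRep.Comod.coact (k := k) (A := A) s) = t
    induction t using TensorProduct.induction_on with
    | zero => simp
    | add x y hx hy => simp [map_add, hx, hy]
    | tmul a b => rfl
  · have hTB' : ∀ p ∈ P, Algebra.adjoin S (T p : Set R) ≤ Bs := by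
      intro p hp
      refine Algebra.adjoin_le fun t ht => ?_
      have htW : t ∈ W' := ⟨hFW (Finset.mem_coe.2 (Finset.mem_biUnion.2 ⟨p, hp, ht⟩)), hTB p t ht⟩
      have hWB : W' ≤ Bk.toSubmodule := by rw [← hG, Submodule.span_le]; exact Algebra.subset_adjoin
      exact hWB htW
    have hrB : ∀ p ∈ P, r p ∈ Bk := fun p hp => (Subalgebra.mem_restrictScalars k).2 (hTB' p hp (hrT p))
    let mkB : {p // p ∈ P} → Bk := fun p => ⟨r p.1, hrB p.1 p.2⟩
    let s : Finset Bk := @Finset.image _ _ (Classical.decEq _) mkB P.attach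
    refine (Groth.Agent.FlatMorUniv.isOpenImmersion_specMap Bk.val.toRingHom s ?_ ?_).1
    · rw [← PrimeSpectrum.iSup_basicOpen_eq_top_iff', eq_top_iff]
      intro q _
      obtain ⟨p, hp, hq⟩ := Set.mem_iUnion₂.1 (hP.ge (Set.mem_univ q))
      simp only [TopologicalSpace.Opens.mem_iSup]
      exact ⟨r p, ⟨⟨r p, hrB p hp⟩, (@Finset.mem_image _ _ (Classical.decEq _) _ _ _).2 ⟨⟨p, hp⟩, Finset.mem_attach _ _, rfl⟩, rfl⟩, hq⟩
    · intro g hg
      obtain ⟨⟨p, hp⟩, -, rfl⟩ := (@Finset.mem_image _ _ (Classical.decEq _) _ _ _).1 hg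
      refine ⟨IsLocalization.map_injective_of_injective _ _ _ Subtype.val_injective, fun y => ?_⟩
      obtain ⟨⟨x, ⟨_, m, rfl⟩⟩, rfl⟩ := IsLocalization.mk'_surjective (Submonoid.powers (Bk.val.toRingHom (mkB ⟨p, hp⟩))) y
      obtain ⟨n, hn⟩ := hx p x
      let rB : Bk := mkB ⟨p, hp⟩
      refine ⟨IsLocalization.mk' _ (⟨r p ^ n * x, (Subalgebra.mem_restrictScalars k).2 (hTB' p hp hn)⟩ : Bk) (⟨rB ^ (n + m), n + m, rfl⟩ : Submonoid.powers rB), ?_⟩
      simp only [Localization.awayMap, IsLocalization.Away.map]
      rw [IsLocalization.map_mk']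
      apply IsLocalization.mk'_eq_of_eq
      show r p ^ (n + m) * x = r p ^ m * (r p ^ n * x)
      rw [pow_add]; ring

end Groth.Agent.S19403
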