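import Groth.Statements.S19404
import Groth.Agent.Luna8.SliceNhd
-- import your own Groth.Agent.* helpers here

set_option autoImplicit false
set_option backward.isDefEq.respectTransparency.types false
universe u
open TensorProduct
open GLin

namespace Groth.Agent.S19404

/-- Let k be an algebraically closed field of characteristic zero, A a finitely generated commutative
Hopf algebra over k which is an integral domain and all of whose finite-dimensional comodules are
semisimple (a connected reductive group G), R a reduced finitely generated commutative k-algebra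
with a multiplicative A-coaction (G acting on the affine variety X = Spec R), and x a k-point of X
whose orbit is closed. Then there is a G-invariant function f on X with f(x) ≠ 0 (so the
non-vanishing locus X_f is a saturated open neighbourhood of x) such that for every k-point x' of X
with f(x') ≠ 0 whose orbit is closed there is a k-point g of G with the stabilizer ideal of x
contained in the stabilizer ideal of the translate of x' by g: the stabilizer of x' is conjugate to
a subgroup of the stabilizer of x. (The published statement allows any reductive G; the argument in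
the source is complete for connected G, which is assumed here.) -/
theorem result (k : Type u) [Field k] [IsAlgClosed k] [CharZero k]
    (A : Type u) [CommRing A] [IsDomain A] [HopfAlgebra k A] [Algebra.FiniteType k A] (hG : HopfRep.IsLinearlyReductive k A)
    (R : Type u) [CommRing R] [IsReduced R] [Algebra k R] [Algebra.FiniteType k R] [HopfRep.Comod k A R] [GLin.IsCoactAlg k A R]
    (x : R →ₐ[k] k) (hx : GLin.IsClosedOrbit k A x) :
    ∃ f ∈ GLin.invariants k A R, x f ≠ 0 ∧
      ∀ x' : R →ₐ[k] k, x' f ≠ 0 → GLin.IsClosedOrbit k A x' →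
        ∃ g : A →ₐ[k] k, GLin.stabIdeal k A x ≤ GLin.stabIdeal k A (GLin.actPt k g x') := by
  classical
  let J : Ideal R := RingHom.ker (GLin.orbitHom k A x).toRingHom
  have : J.IsPrime := RingHom.ker_isPrime _
  have hJ : ∀ g : A →ₐ[k] k, ∀ r ∈ J, Groth.Agent.HopfLib.actAlgHom (R := R) g r ∈ J := fun g r hr => by
    show GLin.orbitHom k A x _ = 0
    rw [Groth.Agent.HopfLib.orbitHom_actAlgHom, show GLin.orbitHom k A x r = 0 from hr, map_zero]
  obtain ⟨cC, hcC, hq⟩ := Groth.Agent.Luna8.exists_quot_comod J hJ
  let π : R →ₐ[k] R ⧸ J := Ideal.Quotient.mkₐ k J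
  have hπ : ∀ (g : A →ₐ[k] k) (r : R), π (Groth.Agent.HopfLib.actAlgHom (R := R) g r) =
      Groth.Agent.HopfLib.actAlgHom (R := R ⧸ J) g (π r) := fun g r => (hq.actAlgHom_algebraMap g r).symm
  let xC : (R ⧸ J) →ₐ[k] k := Ideal.Quotient.liftₐ J x fun a ha => by
    rw [← Groth.Agent.HopfLib.counit_orbitHom (A := A) x a, show GLin.orbitHom k A x a = 0 from ha, map_zero]
  have hxC : xC.comp π = x := AlgHom.ext fun r => rfl
  have hC : ∀ c : (R ⧸ J) →ₐ[k] k, ∃ g : A →ₐ[k] k, c = GLin.actPt k g xC := by
    intro c
    let P : PrimeSpectrum R := ⟨RingHom.ker (c.comp π).toRingHom, RingHom.ker_isPrime _⟩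
    have hmem : P ∈ closure (Set.range (PrimeSpectrum.comap (GLin.orbitHom k A x).toRingHom)) := by
      rw [PrimeSpectrum.closure_range_comap, PrimeSpectrum.mem_zeroLocus]
      intro r hr
      show c (π r) = 0
      rw [show π r = 0 from Ideal.Quotient.eq_zero_iff_mem.2 hr, map_zero]
    have hcl : IsClosed (Set.range (PrimeSpectrum.comap (GLin.orbitHom k A x).toRingHom)) := hx
    rw [hcl.closure_eq] at hmem
    obtain ⟨Q, hQ⟩ := hmem
    obtain ⟨g, hg⟩ := Groth.Agent.HopfLib.exists_algHom_le_ker (k := k) Q.isPrime.ne_top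
    have heq : c.comp π = GLin.actPt k g x := Groth.Agent.HopfLib.algHom_eq_of_ker_le fun r hr => by
      have h : GLin.orbitHom k A x r ∈ Q.asIdeal := by
        have := congrArg PrimeSpectrum.asIdeal hQ
        exact (SetLike.ext_iff.1 this r).2 hr
      exact hg h
    refine ⟨g, Ideal.Quotient.algHom_ext k (AlgHom.ext fun r => ?_)⟩
    rw [← Groth.Agent.HopfLib.comp_actAlgHom]
    show c (π r) = xC (Groth.Agent.HopfLib.actAlgHom g (π r))
    rw [← hπ, ← AlgHom.comp_apply, heq, ← Groth.Agent.HopfLib.comp_actAlgHom]
    rfl
  obtain ⟨f, hf, hfx, hall⟩ := Groth.Agent.Luna8.exists_nhd_stabPts hG π Ideal.Quotient.mk_surjective hπ xC hC (hxC ▸ hx)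
  refine ⟨f, hf, hxC ▸ hfx, fun x' hx' _ => ?_⟩
  obtain ⟨g, hg⟩ := hall x' hx'
  exact ⟨g, Groth.Agent.Luna8.stabIdeal_le_of_points x _ fun h hh => hxC ▸ hg h hh⟩

end Groth.Agent.S19404
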