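import Groth.Statements.S19406
import Groth.Agent.HopfLib.GITSemi

set_option autoImplicit false
universe u
open TensorProduct
open GLin

namespace Groth.Agent.S19406

/-- Let k be an algebraically closed field of characteristic zero, A a finitely generated commutative
Hopf algebra over k which is an integral domain and all of whose finite-dimensional comodules are
semisimple (a connected reductive group G), R a reduced finitely generated commutative k-algebra
with a multiplicative A-coaction (G acting on the affine variety X = Spec R), and χ a group-like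
element of A (a character of G). Then there is a set E of G-invariant functions on X such that, for
every k-point x of X whose orbit is closed, χ − 1 lies in the stabilizer ideal of x (χ is trivial on
the stabilizer of x) if and only if some member of E does not vanish at x: the set of points of X//G
over which the closed orbit has stabilizer on which χ is trivial is open. (The published statement
allows any reductive G; this row assumes G connected, the case the source's argument covers.) -/
theorem result (k : Type u) [Field k] [IsAlgClosed k] [CharZero k]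
    (A : Type u) [CommRing A] [IsDomain A] [HopfAlgebra k A] [Algebra.FiniteType k A] (hG : HopfRep.IsLinearlyReductive k A)
    (R : Type u) [CommRing R] [IsReduced R] [Algebra k R] [Algebra.FiniteType k R] [HopfRep.Comod k A R] [GLin.IsCoactAlg k A R]
    (χ : A) (hχ : IsGroupLikeElem k χ) :
    ∃ E : Set R, E ⊆ GLin.invariants k A R ∧
      ∀ x : R →ₐ[k] k, GLin.IsClosedOrbit k A x →
        (χ - 1 ∈ GLin.stabIdeal k A x ↔ ∃ f ∈ E, x f ≠ 0) := by
  let S := HopfAlgebraStruct.antipode k (A := A)
  refine ⟨{e | ∃ f f' : R, HopfRep.Comod.coact (k := k) (A := A) f = f ⊗ₜ χ ∧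
    HopfRep.Comod.coact (k := k) (A := A) f' = f' ⊗ₜ S χ ∧ e = f * f'}, ?_, fun x hx => ⟨fun hmem => ?_, ?_⟩⟩
  · rintro _ ⟨f, f', hf, hf', rfl⟩
    show HopfRep.Comod.coact (k := k) (A := A) (f * f') = (f * f') ⊗ₜ (1 : A)
    rw [GLin.IsCoactAlg.coact_mul, hf, hf', Algebra.TensorProduct.tmul_mul_tmul, hχ.mul_antipode_cancel]
  · have hc := Groth.Agent.HopfLib.isClosedPtOrbit_of_isClosedOrbit hx
    have h1 : ∀ g ∈ Groth.Agent.HopfLib.stabPts A x, g χ = 1 := fun g hg => by
      have := (Groth.Agent.HopfLib.le_ker_iff_mem_stabPts x g).2 hg hmem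
      rwa [RingHom.mem_ker, map_sub, map_one, sub_eq_zero] at this
    obtain ⟨f, hf, hfx⟩ := Groth.Agent.HopfLib.exists_semiinvariant hG hc hχ h1
    obtain ⟨f', hf', hfx'⟩ := Groth.Agent.HopfLib.exists_semiinvariant hG hc (χ := S χ) hχ.antipode fun g hg => by
      have h2 : g χ * g (S χ) = 1 := by
        rw [← map_mul, hχ.mul_antipode_cancel, map_one]
      rwa [h1 g hg, one_mul] at h2
    exact ⟨f * f', ⟨f, f', hf, hf', rfl⟩, by rw [map_mul, hfx, hfx', one_mul]; exact one_ne_zero⟩
  · rintro ⟨_, ⟨f, f', hf, -, rfl⟩, hne⟩
    rw [map_mul] at hne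
    have hfx : x f ≠ 0 := left_ne_zero_of_mul hne
    have h0 : GLin.orbitHom k A x (f - algebraMap k R (x f)) ∈ GLin.stabIdeal k A x :=
      Ideal.mem_map_of_mem _ (by simp)
    have h1 : GLin.orbitHom k A x (f - algebraMap k R (x f)) = algebraMap k A (x f) * (χ - 1) := by
      rw [map_sub, AlgHom.commutes, Groth.Agent.HopfLib.orbitHom_eq_cf, Groth.Agent.HopfLib.cf_apply, hf,
        Groth.Agent.HopfLib.sliceL_tmul, mul_sub, mul_one, ← Algebra.smul_def]
      rfl
    rw [h1] at h0
    exact (Ideal.unit_mul_mem_iff_mem _ (IsUnit.map (algebraMap k A) (isUnit_iff_ne_zero.2 hfx))).1 h0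

end Groth.Agent.S19406
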