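import Groth.Statements.S19408
import Groth.Agent.HopfLib.ModuleInvariants
import Mathlib.RingTheory.Etale.Basic
import Mathlib.RingTheory.TensorProduct.Quotient

set_option autoImplicit false
universe u
open TensorProduct
open GLin

namespace Groth.Agent.S19408

/-- Let k be an algebraically closed field of characteristic zero, A a finitely generated commutative
Hopf algebra over k all of whose finite-dimensional comodules are semisimple (a reductive group G),
S and R finitely generated commutative k-algebras with multiplicative A-coactions (G acting on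
affine Y = Spec S and X = Spec R), S → R an algebra map compatible with the coactions (a G-morphism
θ : X → Y), S₀ → S and R₀ → R injective k-algebra maps whose images are the subrings of invariants,
and S₀ → R₀ an algebra map with S₀ → R₀ → R equal to S₀ → S → R (θ/G). Suppose R is étale over S, R₀
is étale over S₀, and the canonical map S ⊗_{S₀} R₀ → R is bijective (θ and θ/G étale and X ≅ Y
×_{Y//G} X//G). Let J be an ideal of S which is a subcomodule (Y' = V(J) a closed G-invariant
subscheme), let S/J and R/(J.map (algebraMap S R)) carry A-coactions for which the quotient maps are compatible with the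
coactions (the induced actions on Y' and X' = Y' ×_Y X), and let S₁ → S/J and R₁ → R/(J.map (algebraMap S R)) be injective
k-algebra maps whose images are the subrings of invariants, with S₁ → R₁ an algebra map such that S₁
→ R₁ → R/(J.map (algebraMap S R)) equals S₁ → S/J → R/(J.map (algebraMap S R)). Then R/(J.map (algebraMap S R)) is étale over S/J, R₁ is étale over S₁, and the
canonical map (S/J) ⊗_{S₁} R₁ → R/(J.map (algebraMap S R)) is bijective (θ' : X' → Y' and θ'/G are étale and X' ≅ Y'
×_{Y'//G} X'//G). -/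
theorem result (k : Type u) [Field k] [IsAlgClosed k] [CharZero k]
    (A : Type u) [CommRing A] [HopfAlgebra k A] [Algebra.FiniteType k A] (hG : HopfRep.IsLinearlyReductive k A)
    (S : Type u) [CommRing S] [Algebra k S] [Algebra.FiniteType k S] [HopfRep.Comod k A S] [GLin.IsCoactAlg k A S]
    (R : Type u) [CommRing R] [Algebra k R] [Algebra.FiniteType k R] [HopfRep.Comod k A R] [GLin.IsCoactAlg k A R]
    [Algebra S R] [IsScalarTower k S R]
    (hequiv : (∀ s : S, HopfRep.Comod.coact (k := k) (A := A) (algebraMap S R s) =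
      Algebra.TensorProduct.map (IsScalarTower.toAlgHom k S R) (AlgHom.id k A) (HopfRep.Comod.coact (k := k) (A := A) s)))
    (S₀ : Type u) [CommRing S₀] [Algebra k S₀] [Algebra S₀ S] [IsScalarTower k S₀ S]
    (hS₀i : Function.Injective (algebraMap S₀ S)) (hS₀ : (IsScalarTower.toAlgHom k S₀ S).range = GLin.invariants k A S)
    (R₀ : Type u) [CommRing R₀] [Algebra k R₀] [Algebra R₀ R] [IsScalarTower k R₀ R]
    (hR₀i : Function.Injective (algebraMap R₀ R)) (hR₀ : (IsScalarTower.toAlgHom k R₀ R).range = GLin.invariants k A R)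
    [Algebra S₀ R₀] [Algebra S₀ R] [IsScalarTower S₀ S R] [IsScalarTower S₀ R₀ R]
    (het : Algebra.Etale S R) (het₀ : Algebra.Etale S₀ R₀)
    (hcart : Function.Bijective (Algebra.TensorProduct.productMap (IsScalarTower.toAlgHom S₀ S R) (IsScalarTower.toAlgHom S₀ R₀ R)))
    (J : Ideal S) (hJ : HopfRep.IsSubcomod (k := k) (A := A) (J.restrictScalars k))
    [HopfRep.Comod k A (S ⧸ J)] [GLin.IsCoactAlg k A (S ⧸ J)]
    (hqS : (∀ s : S, HopfRep.Comod.coact (k := k) (A := A) ((Ideal.Quotient.mkₐ k J) s) =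
        Algebra.TensorProduct.map (Ideal.Quotient.mkₐ k J) (AlgHom.id k A) (HopfRep.Comod.coact (k := k) (A := A) s)))
    [HopfRep.Comod k A (R ⧸ J.map (algebraMap S R))] [GLin.IsCoactAlg k A (R ⧸ J.map (algebraMap S R))]
    (hqR : (∀ s : R, HopfRep.Comod.coact (k := k) (A := A) ((Ideal.Quotient.mkₐ k (J.map (algebraMap S R))) s) =
        Algebra.TensorProduct.map (Ideal.Quotient.mkₐ k (J.map (algebraMap S R))) (AlgHom.id k A) (HopfRep.Comod.coact (k := k) (A := A) s)))
    (S₁ : Type u) [CommRing S₁] [Algebra k S₁] [Algebra S₁ (S ⧸ J)] [IsScalarTower k S₁ (S ⧸ J)]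
    (hS₁i : Function.Injective (algebraMap S₁ (S ⧸ J)))
    (hS₁ : (IsScalarTower.toAlgHom k S₁ (S ⧸ J)).range = GLin.invariants k A (S ⧸ J))
    (R₁ : Type u) [CommRing R₁] [Algebra k R₁] [Algebra R₁ (R ⧸ J.map (algebraMap S R))] [IsScalarTower k R₁ (R ⧸ J.map (algebraMap S R))]
    (hR₁i : Function.Injective (algebraMap R₁ (R ⧸ J.map (algebraMap S R))))
    (hR₁ : (IsScalarTower.toAlgHom k R₁ (R ⧸ J.map (algebraMap S R))).range = GLin.invariants k A (R ⧸ J.map (algebraMap S R)))
    [Algebra S₁ R₁] [Algebra S₁ (R ⧸ J.map (algebraMap S R))]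
    [IsScalarTower S₁ (S ⧸ J) (R ⧸ J.map (algebraMap S R))] [IsScalarTower S₁ R₁ (R ⧸ J.map (algebraMap S R))] :
    Algebra.Etale (S ⧸ J) (R ⧸ J.map (algebraMap S R)) ∧ Algebra.Etale S₁ R₁ ∧
      Function.Bijective (Algebra.TensorProduct.productMap
        (IsScalarTower.toAlgHom S₁ (S ⧸ J) (R ⧸ J.map (algebraMap S R)))
        (IsScalarTower.toAlgHom S₁ R₁ (R ⧸ J.map (algebraMap S R)))) := by
  classical
  obtain ⟨α, hα, h1⟩ := Groth.Agent.HopfLib.exists_integral hG
  let qS := Ideal.Quotient.mkₐ k J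
  let qR := Ideal.Quotient.mkₐ k (J.map (algebraMap S R))
  have hqS' : Hoch.IsComodHom A qS.toLinearMap := LinearMap.ext fun s => by
    refine (hqS s).trans ?_
    simp only [LinearMap.comp_apply]
    generalize HopfRep.Comod.coact (k := k) (A := A) s = t
    induction t using TensorProduct.induction_on with
    | zero => simp
    | add p q hp hq => simp only [map_add, hp, hq]
    | tmul p q => rfl
  have hqR' : Hoch.IsComodHom A qR.toLinearMap := LinearMap.ext fun s => by
    refine (hqR s).trans ?_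
    simp only [LinearMap.comp_apply]
    generalize HopfRep.Comod.coact (k := k) (A := A) s = t
    induction t using TensorProduct.induction_on with
    | zero => simp
    | add p q hp hq => simp only [map_add, hp, hq]
    | tmul p q => rfl
  have hsr' : Hoch.IsComodHom A (IsScalarTower.toAlgHom k S R).toLinearMap := LinearMap.ext fun s => by
    refine (hequiv s).trans ?_
    simp only [LinearMap.comp_apply]
    generalize HopfRep.Comod.coact (k := k) (A := A) s = t
    induction t using TensorProduct.induction_on with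
    | zero => simp
    | add p q hp hq => simp only [map_add, hp, hq]
    | tmul p q => rfl
  have hinvS : ∀ a : S₀, algebraMap S₀ S a ∈ GLin.invariants k A S := fun a => hS₀ ▸ ⟨a, rfl⟩
  have hinvR : ∀ a : R₀, algebraMap R₀ R a ∈ GLin.invariants k A R := fun a => hR₀ ▸ ⟨a, rfl⟩
  have fix_qS : ∀ a, algebraMap S₀ S a ∈ GLin.invariants k A S →
      qS (algebraMap S₀ S a) ∈ GLin.invariants k A (S ⧸ J) := fun a ha => by
    rw [GLin.mem_invariants_iff, hqS, (GLin.mem_invariants_iff k A S _).1 ha]; rfl
  have fix_qR : ∀ a, algebraMap R₀ R a ∈ GLin.invariants k A R →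
      qR (algebraMap R₀ R a) ∈ GLin.invariants k A (R ⧸ (J.map (algebraMap S R))) := fun a ha => by
    rw [GLin.mem_invariants_iff, hqR, (GLin.mem_invariants_iff k A R _).1 ha]; rfl
  -- comparison maps
  have exa : ∀ a : S₀, ∃ b : S₁, algebraMap S₁ (S ⧸ J) b = qS (algebraMap S₀ S a) := fun a => by
    have h := fix_qS a (hinvS a)
    rw [← hS₁] at h; exact h
  have exb : ∀ a : R₀, ∃ b : R₁, algebraMap R₁ (R ⧸ (J.map (algebraMap S R))) b = qR (algebraMap R₀ R a) := fun a => by
    have h := fix_qR a (hinvR a)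
    rw [← hR₁] at h; exact h
  choose a ha using exa
  choose b hb using exb
  let aH : S₀ →+* S₁ :=
    { toFun := a
      map_one' := hS₁i (by rw [ha]; simp)
      map_mul' := fun x y => hS₁i (by rw [ha, map_mul, map_mul, map_mul, ha, ha])
      map_zero' := hS₁i (by rw [ha]; simp)
      map_add' := fun x y => hS₁i (by rw [ha, map_add, map_add, map_add, ha, ha]) }
  let bH : R₀ →+* R₁ :=
    { toFun := b
      map_one' := hR₁i (by rw [hb]; simp)
      map_mul' := fun x y => hR₁i (by rw [hb, map_mul, map_mul, map_mul, hb, hb])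
      map_zero' := hR₁i (by rw [hb]; simp)
      map_add' := fun x y => hR₁i (by rw [hb, map_add, map_add, map_add, hb, hb]) }
  have hmkSR : ∀ s : S, algebraMap (S ⧸ J) (R ⧸ (J.map (algebraMap S R))) (qS s) = qR (algebraMap S R s) := fun s => rfl
  have hab : ∀ x : S₀, algebraMap S₁ R₁ (aH x) = bH (algebraMap S₀ R₀ x) := fun x => hR₁i (by
    show algebraMap R₁ (R ⧸ (J.map (algebraMap S R))) (algebraMap S₁ R₁ (a x)) = algebraMap R₁ (R ⧸ (J.map (algebraMap S R))) (b _)
    rw [← IsScalarTower.algebraMap_apply S₁ R₁ (R ⧸ (J.map (algebraMap S R))), IsScalarTower.algebraMap_apply S₁ (S ⧸ J) (R ⧸ (J.map (algebraMap S R))),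
      ha, hb, hmkSR, ← IsScalarTower.algebraMap_apply S₀ S R, ← IsScalarTower.algebraMap_apply S₀ R₀ R])
  have haS : Function.Surjective aH := fun y => by
    obtain ⟨s, hs⟩ := Ideal.Quotient.mk_surjective (algebraMap S₁ (S ⧸ J) y)
    have h := Groth.Agent.HopfLib.reynolds_mem_invariants hα h1 s
    rw [← hS₀] at h
    obtain ⟨x, hx⟩ := h
    refine ⟨x, hS₁i ?_⟩
    show algebraMap S₁ (S ⧸ J) (a x) = _
    rw [ha]
    refine (congrArg qS hx).trans ((Groth.Agent.HopfLib.IsComodHom.hit_apply hqS' α s).trans ?_)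
    show Groth.Agent.HopfLib.hit α (Ideal.Quotient.mk J s) = _
    rw [hs]
    exact Groth.Agent.HopfLib.hit_eq_self_of_mem_fixedPts h1
      (show algebraMap S₁ (S ⧸ J) y ∈ GLin.invariants k A (S ⧸ J) from hS₁ ▸ ⟨y, rfl⟩)
  have hbS : Function.Surjective bH := fun y => by
    obtain ⟨s, hs⟩ := Ideal.Quotient.mk_surjective (algebraMap R₁ (R ⧸ (J.map (algebraMap S R))) y)
    have h := Groth.Agent.HopfLib.reynolds_mem_invariants hα h1 s
    rw [← hR₀] at h
    obtain ⟨x, hx⟩ := h
    refine ⟨x, hR₁i ?_⟩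
    show algebraMap R₁ (R ⧸ (J.map (algebraMap S R))) (b x) = _
    rw [hb]
    refine (congrArg qR hx).trans ((Groth.Agent.HopfLib.IsComodHom.hit_apply hqR' α s).trans ?_)
    show Groth.Agent.HopfLib.hit α (Ideal.Quotient.mk (J.map (algebraMap S R)) s) = _
    rw [hs]
    exact Groth.Agent.HopfLib.hit_eq_self_of_mem_fixedPts h1
      (show algebraMap R₁ (R ⧸ (J.map (algebraMap S R))) y ∈ GLin.invariants k A (R ⧸ (J.map (algebraMap S R))) from hR₁ ▸ ⟨y, rfl⟩)
  have hker : ∀ r : R₀, bH r = 0 → r ∈ (RingHom.ker aH).map (algebraMap S₀ R₀) := by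
    intro r hr
    have hr' : algebraMap R₀ R r ∈ (J.map (algebraMap S R)) := Ideal.Quotient.eq_zero_iff_mem.1 (by
      show qR (algebraMap R₀ R r) = 0
      rw [← hb, show b r = 0 from hr, map_zero])
    have key : ∀ x ∈ (J.map (algebraMap S R)), ∀ r' : R₀, algebraMap R₀ R r' = Groth.Agent.HopfLib.hit α x →
        r' ∈ (RingHom.ker aH).map (algebraMap S₀ R₀) := by
      intro x hx
      intro r' hr'
      refine Submodule.span_induction (p := fun x _ => ∀ z : R, ∀ r' : R₀,
        algebraMap R₀ R r' = Groth.Agent.HopfLib.hit α (z * x) →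
          r' ∈ (RingHom.ker aH).map (algebraMap S₀ R₀)) ?_ ?_ ?_ ?_ hx 1 r' (by rw [one_mul]; exact hr')
      all_goals clear hr' r' hx x
      · rintro _ ⟨j, hj, rfl⟩ z r' hr'
        obtain ⟨w, rfl⟩ := hcart.2 z
        induction w using TensorProduct.induction_on generalizing r' with
        | zero =>
          rw [map_zero, zero_mul, map_zero] at hr'
          rw [hR₀i (hr'.trans (map_zero (algebraMap R₀ R)).symm)]; exact zero_mem _
        | add p q hp hq =>
          rw [map_add, add_mul, map_add] at hr'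
          have h := Groth.Agent.HopfLib.reynolds_mem_invariants hα h1
            (Algebra.TensorProduct.productMap (IsScalarTower.toAlgHom S₀ S R) (IsScalarTower.toAlgHom S₀ R₀ R) p *
              algebraMap S R j)
          rw [← hR₀] at h
          obtain ⟨p', hp'⟩ := h
          have hq' : algebraMap R₀ R (r' - p') = Groth.Agent.HopfLib.hit α
              (Algebra.TensorProduct.productMap (IsScalarTower.toAlgHom S₀ S R) (IsScalarTower.toAlgHom S₀ R₀ R) q *
                algebraMap S R j) := by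
            rw [map_sub, hr']; exact sub_eq_of_eq_add' (congrArg (· + _) hp'.symm)
          have := add_mem (hp p' hp') (hq _ hq')
          rwa [add_sub_cancel] at this
        | tmul s c =>
          rw [Algebra.TensorProduct.productMap_apply_tmul, mul_right_comm, mul_comm,
            IsScalarTower.coe_toAlgHom', IsScalarTower.coe_toAlgHom',
            Groth.Agent.HopfLib.hit_mul_of_mem_invariants α (hinvR c), ← map_mul,
            show Groth.Agent.HopfLib.hit α (algebraMap S R (s * j)) = algebraMap S R (Groth.Agent.HopfLib.hit α (s * j)) from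
              (Groth.Agent.HopfLib.IsComodHom.hit_apply hsr' α _).symm] at hr'
          have h := Groth.Agent.HopfLib.reynolds_mem_invariants hα h1 (s * j)
          rw [← hS₀] at h
          obtain ⟨j₀, hj₀⟩ := h
          rw [show Groth.Agent.HopfLib.hit α (s * j) = algebraMap S₀ S j₀ from hj₀.symm,
            ← IsScalarTower.algebraMap_apply S₀ S R, IsScalarTower.algebraMap_apply S₀ R₀ R, ← map_mul] at hr'
          rw [hR₀i hr']
          refine Ideal.mul_mem_left _ _ (Ideal.mem_map_of_mem _ (hS₁i ?_))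
          show algebraMap S₁ (S ⧸ J) (a j₀) = algebraMap S₁ (S ⧸ J) 0
          rw [ha, map_zero]
          exact Ideal.Quotient.eq_zero_iff_mem.2 ((show algebraMap S₀ S j₀ = _ from hj₀) ▸
            (Groth.Agent.HopfLib.IsSubcomod.hit_mem hJ α (J.mul_mem_left s hj) : _ ∈ J.restrictScalars k))
      · intro z r' hr'
        rw [mul_zero, map_zero] at hr'
        rw [hR₀i (hr'.trans (map_zero (algebraMap R₀ R)).symm)]; exact zero_mem _
      · intro u v _ _ hu hv z r' hr'
        rw [mul_add, map_add] at hr'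
        have h := Groth.Agent.HopfLib.reynolds_mem_invariants hα h1 (z * u)
        rw [← hR₀] at h
        obtain ⟨p', hp'⟩ := h
        have := add_mem (hu z p' hp') (hv z (r' - p') (by
          rw [map_sub, hr']; exact sub_eq_of_eq_add' (congrArg (· + _) hp'.symm)))
        rwa [add_sub_cancel] at this
      · intro c u _ hu z r' hr'
        exact hu (z * c) r' (by rw [hr', smul_eq_mul, mul_assoc])
    exact key _ hr' r (Groth.Agent.HopfLib.hit_eq_self_of_mem_fixedPts h1
      (show algebraMap R₀ R r ∈ GLin.invariants k A R from hinvR r)).symm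
  -- étale
  refine ⟨?_, ?_, ?_⟩
  · have : Algebra.Etale (S ⧸ J) ((S ⧸ J) ⊗[S] R) := inferInstance
    exact Algebra.Etale.of_equiv (A := (S ⧸ J) ⊗[S] R) (R := S ⧸ J)
      ((Algebra.TensorProduct.quotIdealMapEquivQuotTensor R J).symm)
  · letI : Algebra S₀ S₁ := aH.toAlgebra
    letI : Algebra S₀ R₁ := ((algebraMap S₁ R₁).comp aH).toAlgebra
    have : IsScalarTower S₀ S₁ R₁ := IsScalarTower.of_algebraMap_eq fun x => rfl
    let g : R₀ →ₐ[S₀] R₁ := { bH with commutes' := fun x => (hab x).symm }
    let φ : S₁ ⊗[S₀] R₀ →ₐ[S₁] R₁ :=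
      Algebra.TensorProduct.lift (Algebra.ofId S₁ R₁) g fun _ _ => Commute.all _ _
    have hone : ∀ w : S₁ ⊗[S₀] R₀, ∃ r, w = (1 : S₁) ⊗ₜ[S₀] r := by
      intro w
      induction w using TensorProduct.induction_on with
      | zero => exact ⟨0, (TensorProduct.tmul_zero _ _).symm⟩
      | add p q hp hq =>
        obtain ⟨r, rfl⟩ := hp; obtain ⟨r', rfl⟩ := hq
        exact ⟨r + r', (TensorProduct.tmul_add _ _ _).symm⟩
      | tmul s c =>
        obtain ⟨x, rfl⟩ := haS s
        refine ⟨x • c, ?_⟩
        rw [TensorProduct.tmul_smul, TensorProduct.smul_tmul', Algebra.smul_def, mul_one]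
        rfl
    have hφ : Function.Bijective φ := by
      refine ⟨(injective_iff_map_eq_zero φ).2 fun w hw => ?_, fun y => ?_⟩
      · obtain ⟨r, rfl⟩ := hone w
        have hr : bH r = 0 := by simpa [φ, g] using hw
        have : RingHom.ker aH ≤ RingHom.ker (algebraMap S₀ (S₁ ⊗[S₀] R₀)) := fun x hx => by
          rw [RingHom.mem_ker, IsScalarTower.algebraMap_apply S₀ S₁ (S₁ ⊗[S₀] R₀),
            show algebraMap S₀ S₁ x = 0 from hx, map_zero]
        refine (Ideal.map_le_iff_le_comap (f := algebraMap S₀ R₀)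
          (K := RingHom.ker (Algebra.TensorProduct.includeRight : R₀ →ₐ[S₀] S₁ ⊗[S₀] R₀).toRingHom)).2
          (fun x hx => ?_) (hker r hr)
        rw [Ideal.mem_comap, RingHom.mem_ker]
        exact ((Algebra.TensorProduct.includeRight : R₀ →ₐ[S₀] S₁ ⊗[S₀] R₀).commutes x).trans (this hx)
      · obtain ⟨r, rfl⟩ := hbS y
        exact ⟨(1 : S₁) ⊗ₜ r, by simp [φ, g]⟩
    exact Algebra.Etale.of_equiv (A := S₁ ⊗[S₀] R₀) (AlgEquiv.ofBijective φ hφ)
  · set P := Algebra.TensorProduct.productMap
        (IsScalarTower.toAlgHom S₁ (S ⧸ J) (R ⧸ (J.map (algebraMap S R)))) (IsScalarTower.toAlgHom S₁ R₁ (R ⧸ (J.map (algebraMap S R)))) with hP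
    let T := (S ⧸ J) ⊗[S₁] R₁
    let f₁ : S →+* T := (Algebra.TensorProduct.includeLeftRingHom).comp (Ideal.Quotient.mk J)
    let f₂ : R₀ →+* T := (Algebra.TensorProduct.includeRight : R₁ →ₐ[S₁] T).toRingHom.comp bH
    letI : Algebra S₀ T := (f₁.comp (algebraMap S₀ S)).toAlgebra
    let g₁ : S →ₐ[S₀] T := { f₁ with commutes' := fun x => rfl }
    have hc₂ : ∀ x, f₂ (algebraMap S₀ R₀ x) = algebraMap S₀ T x := fun x => by
      show (1 : S ⧸ J) ⊗ₜ[S₁] bH (algebraMap S₀ R₀ x) = qS (algebraMap S₀ S x) ⊗ₜ[S₁] (1 : R₁)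
      rw [← hab, ← ha, Algebra.algebraMap_eq_smul_one, Algebra.algebraMap_eq_smul_one,
        TensorProduct.tmul_smul, TensorProduct.smul_tmul']
      rfl
    let g₂ : R₀ →ₐ[S₀] T := { f₂ with commutes' := hc₂ }
    let L : S ⊗[S₀] R₀ →ₐ[S₀] T := Algebra.TensorProduct.lift g₁ g₂ fun _ _ => Commute.all _ _
    have hLtmul : ∀ s r, L (s ⊗ₜ r) = qS s ⊗ₜ[S₁] bH r := fun s r => by
      rw [Algebra.TensorProduct.lift_tmul]
      show (qS s ⊗ₜ[S₁] (1 : R₁)) * ((1 : S ⧸ J) ⊗ₜ[S₁] bH r) = _
      rw [Algebra.TensorProduct.tmul_mul_tmul, mul_one, one_mul]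
    have hLS : Function.Surjective L := fun w => by
      induction w using TensorProduct.induction_on with
      | zero => exact ⟨0, map_zero _⟩
      | add p q hp hq =>
        obtain ⟨u, rfl⟩ := hp; obtain ⟨v, rfl⟩ := hq; exact ⟨u + v, map_add _ _ _⟩
      | tmul s c =>
        obtain ⟨s, rfl⟩ := Ideal.Quotient.mk_surjective s
        obtain ⟨c, rfl⟩ := hbS c
        exact ⟨s ⊗ₜ c, hLtmul s c⟩
    have hcomm : ∀ w, P (L w) = qR (Algebra.TensorProduct.productMap (IsScalarTower.toAlgHom S₀ S R)
        (IsScalarTower.toAlgHom S₀ R₀ R) w) := fun w => by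
      induction w using TensorProduct.induction_on with
      | zero => simp
      | add p q hp hq => simp only [map_add, hp, hq]
      | tmul s c =>
        rw [hLtmul, hP, Algebra.TensorProduct.productMap_apply_tmul, Algebra.TensorProduct.productMap_apply_tmul,
          map_mul qR, IsScalarTower.coe_toAlgHom', IsScalarTower.coe_toAlgHom', IsScalarTower.coe_toAlgHom',
          IsScalarTower.coe_toAlgHom']
        exact congrArg₂ (· * ·) (hmkSR s) (hb c)
    refine ⟨(injective_iff_map_eq_zero P).2 fun w hw => ?_, fun y => ?_⟩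
    · obtain ⟨w, rfl⟩ := hLS w
      rw [hcomm] at hw
      have hmem := Ideal.Quotient.eq_zero_iff_mem.1 hw
      let pm := Algebra.TensorProduct.productMap (IsScalarTower.toAlgHom S₀ S R) (IsScalarTower.toAlgHom S₀ R₀ R)
      have hJ' : (J.map (algebraMap S R)) = (J.map (Algebra.TensorProduct.includeLeftRingHom : S →+* S ⊗[S₀] R₀)).map pm.toRingHom := by
        rw [Ideal.map_map]
        congr 1
        refine RingHom.ext fun s => ?_
        simp [pm]
      rw [hJ'] at hmem
      obtain ⟨w', hw', he⟩ := (Ideal.mem_map_iff_of_surjective _ hcart.2).1 hmem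
      rw [← hcart.1 he]
      refine (Ideal.map_le_iff_le_comap (f := (Algebra.TensorProduct.includeLeftRingHom : S →+* S ⊗[S₀] R₀))
        (K := RingHom.ker L.toRingHom)).2 (fun x hx => ?_) hw'
      show L (x ⊗ₜ[S₀] (1 : R₀)) = 0
      rw [hLtmul, show qS x = 0 from Ideal.Quotient.eq_zero_iff_mem.2 hx, TensorProduct.zero_tmul]
    · obtain ⟨r, rfl⟩ := Ideal.Quotient.mk_surjective y
      obtain ⟨w, rfl⟩ := hcart.2 r
      exact ⟨L w, hcomm w⟩

end Groth.Agent.S19408
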