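import Groth.Statements.S19410
import Groth.Agent.GLinLib.EquivPoly
import Groth.Agent.HopfLib.Cartier
import Groth.Agent.HopfLib.GITPoints
import Groth.Agent.HopfLib.ModuleInvariants
import Mathlib.RingTheory.Polynomial.UniqueFactorization
import Mathlib.RingTheory.IntegralClosure.IntegrallyClosed
import Mathlib.Topology.NoetherianSpace

set_option autoImplicit false
set_option maxHeartbeats 2000000
set_option backward.isDefEq.respectTransparency false
universe u
open TensorProduct
open GLin

namespace Groth.Agent.S19410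

/-- Work over a field k that is algebraically closed and of characteristic zero. Suppose A is a finitely
generated commutative Hopf algebra over k whose finite-dimensional comodules are all semisimple (a
reductive group G). Take finitely generated commutative k-algebras S and R, each carrying a
multiplicative A-coaction (G acting on the affine schemes Y = Spec S and X = Spec R), together with
an injective, quasi-finite algebra map S → R that respects the coactions (a dominant quasi-finite
G-morphism φ : X → Y). Then one can find finitely generated commutative k-algebras R' and S', both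
integral domains with R' integrally closed, each equipped with a multiplicative A-coaction, along
with coaction-compatible surjective algebra maps R' → R and S' → S (so X and Y sit as closed
G-stable subschemes inside the integral affine G-varieties X' = Spec R' and Y' = Spec S', where X'
is normal), and a coaction-compatible algebra map S' → R' that is injective and quasi-finite (a
dominant quasi-finite G-morphism X' → Y'), such that following S' → R' by R' → R gives the same map
as following S' → S by S → R. -/
theorem result (k : Type u) [Field k] [IsAlgClosed k] [CharZero k]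
    (A : Type u) [CommRing A] [HopfAlgebra k A] [Algebra.FiniteType k A] (hG : HopfRep.IsLinearlyReductive k A)
    (S : Type u) [CommRing S] [Algebra k S] [Algebra.FiniteType k S] [HopfRep.Comod k A S] [GLin.IsCoactAlg k A S]
    (R : Type u) [CommRing R] [Algebra k R] [Algebra.FiniteType k R] [HopfRep.Comod k A R] [GLin.IsCoactAlg k A R]
    [Algebra S R] [IsScalarTower k S R] [Algebra.QuasiFinite S R] (hinj : Function.Injective (algebraMap S R))
    (hequiv : (∀ s : S, HopfRep.Comod.coact (k := k) (A := A) (algebraMap S R s) =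
      Algebra.TensorProduct.map (IsScalarTower.toAlgHom k S R) (AlgHom.id k A) (HopfRep.Comod.coact (k := k) (A := A) s))) :
    ∃ (R' : Type u) (_ : CommRing R') (_ : IsDomain R') (_ : IsIntegrallyClosed R') (_ : Algebra k R')
      (_ : HopfRep.Comod k A R') (_ : GLin.IsCoactAlg k A R')
      (S' : Type u) (_ : CommRing S') (_ : IsDomain S') (_ : Algebra k S')
      (_ : HopfRep.Comod k A S') (_ : GLin.IsCoactAlg k A S'),
      Algebra.FiniteType k R' ∧ Algebra.FiniteType k S' ∧
      ∃ (pR : R' →ₐ[k] R) (pS : S' →ₐ[k] S) (φ' : S' →ₐ[k] R'),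
        Function.Surjective pR ∧ Function.Surjective pS ∧ Function.Injective φ' ∧ φ'.toRingHom.QuasiFinite ∧
        (∀ s : R', HopfRep.Comod.coact (k := k) (A := A) (pR s) =
        Algebra.TensorProduct.map pR (AlgHom.id k A) (HopfRep.Comod.coact (k := k) (A := A) s)) ∧
        (∀ s : S', HopfRep.Comod.coact (k := k) (A := A) (pS s) =
        Algebra.TensorProduct.map pS (AlgHom.id k A) (HopfRep.Comod.coact (k := k) (A := A) s)) ∧
        (∀ s : S', HopfRep.Comod.coact (k := k) (A := A) (φ' s) =
        Algebra.TensorProduct.map φ' (AlgHom.id k A) (HopfRep.Comod.coact (k := k) (A := A) s)) ∧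
        pR.comp φ' = (IsScalarTower.toAlgHom k S R).comp pS := by
  classical
  have : IsReduced A := Groth.Agent.HopfLib.isReduced_of_charZero (k := k)
  have hA : ∀ a : A, (∀ g : A →ₐ[k] k, g a = 0) → a = 0 := fun a ha => by
    by_contra h0
    obtain ⟨x, hx⟩ := Groth.Agent.HopfLib.exists_algHom_ne_zero (k := k) (f := a) (fun hn => h0 hn.eq_zero)
    exact hx (ha x)
  rcases subsingleton_or_nontrivial R with hR | hR
  · have hS : Subsingleton S := hinj.subsingleton
    obtain ⟨c, hc, hce⟩ := Groth.Agent.GLinLib.exists_comod_of_algHom (k := k) (A := A) (P := k)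
      Algebra.TensorProduct.includeLeft (AlgHom.ext fun x => by simp [Algebra.TensorProduct.one_def]) (AlgHom.ext fun x => by simp)
    refine ⟨k, inferInstance, inferInstance, inferInstance, inferInstance, c, hc, k, inferInstance, inferInstance,
      inferInstance, c, hc, inferInstance, inferInstance, Algebra.ofId k R, Algebra.ofId k S, AlgHom.id k k,
      fun r => ⟨0, Subsingleton.elim _ _⟩, fun r => ⟨0, Subsingleton.elim _ _⟩, fun _ _ h => h, ?_, ?_, ?_, ?_,
      AlgHom.ext fun _ => Subsingleton.elim _ _⟩
    · exact (inferInstance : Algebra.QuasiFinite k k)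
    · have : Subsingleton (R ⊗[k] A) := subsingleton_of_forall_eq 0 fun t => by
        induction t using TensorProduct.induction_on with
        | zero => rfl
        | add x y hx hy => rw [hx, hy, add_zero]
        | tmul a b => rw [Subsingleton.elim a 0, TensorProduct.zero_tmul]
      exact fun _ => Subsingleton.elim _ _
    · have : Subsingleton (S ⊗[k] A) := subsingleton_of_forall_eq 0 fun t => by
        induction t using TensorProduct.induction_on with
        | zero => rfl
        | add x y hx hy => rw [hx, hy, add_zero]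
        | tmul a b => rw [Subsingleton.elim a 0, TensorProduct.zero_tmul]
      exact fun _ => Subsingleton.elim _ _
    · intro s
      rw [Algebra.TensorProduct.map_id]
      rfl
  -- stable generators
  obtain ⟨gS, hgS⟩ := Algebra.FiniteType.out (R := k) (A := S)
  obtain ⟨gR, hgR⟩ := Algebra.FiniteType.out (R := k) (A := R)
  obtain ⟨W, hWf, hgW, hWs⟩ := Groth.Agent.HopfLib.exists_finite_subcomod (k := k) (A := A) (V := S) (gS : Set S) gS.finite_toSet
  let θ : S →ₐ[k] R := IsScalarTower.toAlgHom k S R
  have hθc : Hoch.IsComodHom A θ.toLinearMap := LinearMap.ext fun s => by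
    refine (hequiv s).trans ?_
    show _ = LinearMap.rTensor A θ.toLinearMap (HopfRep.Comod.coact (k := k) (A := A) s)
    generalize (HopfRep.Comod.coact (k := k) (A := A) s) = t
    induction t using TensorProduct.induction_on with
    | zero => simp
    | add x y hx hy => simp [map_add, hx, hy]
    | tmul a b => rfl
  let WR : Submodule k R := W.map θ.toLinearMap
  have hWRs : HopfRep.IsSubcomod (k := k) (A := A) WR := Groth.Agent.HopfLib.isSubcomod_map hθc hWs
  have : Module.Finite k WR := inferInstance
  obtain ⟨gW, hgWspan⟩ := (Module.Finite.iff_fg.1 this : WR.FG)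
  obtain ⟨V, hVf, hgV, hVs⟩ := Groth.Agent.HopfLib.exists_finite_subcomod (k := k) (A := A) (V := R)
    ((gR : Set R) ∪ (gW : Set R)) (gR.finite_toSet.union gW.finite_toSet)
  have hWRV : WR ≤ V := by rw [← hgWspan, Submodule.span_le]; exact Set.subset_union_right.trans hgV
  letI cV : HopfRep.Comod k A V := ComodSub.Comod.restr inferInstance V hVs
  let b := Module.Basis.ofVectorSpace k V
  let ι := Module.Basis.ofVectorSpaceIndex k V
  have : Finite ι := Module.Finite.finite_basis b
  obtain ⟨cP, hcP, hcL⟩ := Groth.Agent.GLinLib.exists_comod_poly (A := A) b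
  letI := cP
  haveI := hcP
  let L : V →ₗ[k] MvPolynomial ι k := b.constr k (fun i => (MvPolynomial.X i : MvPolynomial ι k))
  have hLc : Hoch.IsComodHom A L := LinearMap.ext fun v => hcL v
  let π : MvPolynomial ι k →ₐ[k] R := MvPolynomial.aeval fun i => ((b i : V) : R)
  have hπL : π.toLinearMap ∘ₗ L = V.subtype := b.ext fun i => by simp [π, L]
  have hπe : ((Algebra.TensorProduct.map π (AlgHom.id k A)).comp (GLin.coactAlgHom k A (MvPolynomial ι k))) =
      (GLin.coactAlgHom k A R).comp π := MvPolynomial.algHom_ext fun i => by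
    have hX : (MvPolynomial.X i : MvPolynomial ι k) = L (b i) := by simp [L]
    simp only [AlgHom.comp_apply, GLin.coactAlgHom_apply]
    rw [hX, show π (L (b i)) = ((b i : V) : R) from LinearMap.congr_fun hπL (b i),
      ← ComodSub.restr_coact_coe inferInstance V hVs (b i)]
    show _ = V.subtype.rTensor A (cV.coact (b i))
    rw [← hπL, LinearMap.rTensor_comp_apply, ← hcL]
    generalize (HopfRep.Comod.coact (k := k) (A := A) (L (b i))) = t
    induction t using TensorProduct.induction_on with
    | zero => simp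
    | add x y hx hy => simp [map_add, hx, hy]
    | tmul a b => rfl
  have hπe' : ∀ p, HopfRep.Comod.coact (k := k) (A := A) (π p) =
      Algebra.TensorProduct.map π (AlgHom.id k A) (HopfRep.Comod.coact (k := k) (A := A) p) :=
    fun p => (congrArg (fun φ : MvPolynomial ι k →ₐ[k] R ⊗[k] A => φ p) hπe).symm
  have hπc : Hoch.IsComodHom A π.toLinearMap := LinearMap.ext fun p => by
    refine (hπe' p).trans ?_
    show _ = LinearMap.rTensor A π.toLinearMap (HopfRep.Comod.coact (k := k) (A := A) p)
    generalize (HopfRep.Comod.coact (k := k) (A := A) p) = t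
    induction t using TensorProduct.induction_on with
    | zero => simp
    | add x y hx hy => simp [map_add, hx, hy]
    | tmul a b => rfl
  have hπs : Function.Surjective π := by
    rw [← AlgHom.range_eq_top, eq_top_iff, ← hgR, Algebra.adjoin_le_iff]
    exact fun r hr => ⟨L ⟨r, hgV (Or.inl hr)⟩, LinearMap.congr_fun hπL ⟨r, hgV (Or.inl hr)⟩⟩
  -- generators of the kernel
  let I : Ideal (MvPolynomial ι k) := RingHom.ker π
  have hIs : HopfRep.IsSubcomod (k := k) (A := A) (LinearMap.ker π.toLinearMap) :=
    Groth.Agent.HopfLib.isSubcomod_ker hπc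
  obtain ⟨gI, hgI⟩ := (IsNoetherian.noetherian I : I.FG)
  obtain ⟨U₀, hU₀f, hgU, hU₀s⟩ := Groth.Agent.HopfLib.exists_finite_subcomod (k := k) (A := A)
    (V := MvPolynomial ι k) (gI : Set (MvPolynomial ι k)) gI.finite_toSet
  let U := U₀ ⊓ LinearMap.ker π.toLinearMap
  have hUs : HopfRep.IsSubcomod (k := k) (A := A) U := Groth.Agent.HopfLib.isSubcomod_inf hU₀s hIs
  have hIU : I ≤ Ideal.span (U : Set (MvPolynomial ι k)) := by
    rw [← hgI]
    refine Ideal.span_mono fun x hx => ⟨hgU hx, ?_⟩
    have hm : x ∈ I := by rw [← hgI]; exact Ideal.subset_span hx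
    exact hm
  let Wp : Submodule k (MvPolynomial ι k) := (WR.comap V.subtype).map L
  have hWps : HopfRep.IsSubcomod (k := k) (A := A) Wp := by
    refine Groth.Agent.HopfLib.isSubcomod_map hLc (Groth.Agent.HopfLib.isSubcomod_comap ?_ hWRs)
    exact LinearMap.ext fun v => (ComodSub.restr_coact_coe inferInstance V hVs v).symm
  let M := Wp ⊔ U
  have hMs : HopfRep.IsSubcomod (k := k) (A := A) M := Groth.Agent.HopfLib.isSubcomod_sup hWps hUs
  have : Module.Finite k U := Submodule.finiteDimensional_inf_left _ _
  have : Module.Finite k M := inferInstance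
  obtain ⟨gM, hgM⟩ := (Module.Finite.iff_fg.1 this : M.FG)
  let S0 : Subalgebra k (MvPolynomial ι k) := Algebra.adjoin k (gM : Set (MvPolynomial ι k))
  have hMS0 : M ≤ S0.toSubmodule := by rw [← hgM, Submodule.span_le]; exact Algebra.subset_adjoin
  have hS0s : HopfRep.IsSubcomod (k := k) (A := A) S0.toSubmodule :=
    Groth.Agent.GLinLib.isSubcomod_adjoin hMs (by rw [← hgM]; exact Submodule.subset_span) hMS0
  obtain ⟨cS, hcS, hιS⟩ := Groth.Agent.GLinLib.exists_comod_subalgebra S0 hS0s
  -- the map to `S`
  have hπS : ∀ x : S0, π x.1 ∈ θ.range := by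
    have : S0 ≤ θ.range.comap π := Algebra.adjoin_le fun x hx => by
      have hxM : x ∈ Wp ⊔ U := by
        show x ∈ M
        rw [← hgM]; exact Submodule.subset_span hx
      obtain ⟨a, ⟨v, hv, rfl⟩, u, hu, rfl⟩ := Submodule.mem_sup.1 hxM
      obtain ⟨s, -, hs⟩ := hv
      refine ⟨s, ?_⟩
      show θ s = π (L v + u)
      rw [map_add, show π u = 0 from hu.2, add_zero, show π (L v) = (v : R) from LinearMap.congr_fun hπL v]
      exact hs
    exact fun x => this x.2
  let eθ := AlgEquiv.ofInjective θ hinj
  let pS : S0 →ₐ[k] S := eθ.symm.toAlgHom.comp ((π.comp S0.val).codRestrict θ.range hπS)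
  have hpS : ∀ x : S0, algebraMap S R (pS x) = π x.1 := fun x =>
    congrArg Subtype.val (eθ.apply_symm_apply ⟨π x.1, hπS x⟩)
  have hpSs : Function.Surjective pS := by
    rw [← AlgHom.range_eq_top, eq_top_iff, ← hgS, Algebra.adjoin_le_iff]
    intro s hs
    have hsW : θ s ∈ WR := ⟨s, hgW hs, rfl⟩
    have hmem : L ⟨θ s, hWRV hsW⟩ ∈ S0 := hMS0 (Submodule.mem_sup_left ⟨⟨θ s, hWRV hsW⟩, hsW, rfl⟩)
    refine ⟨⟨_, hmem⟩, hinj ?_⟩
    exact (hpS _).trans (LinearMap.congr_fun hπL _)
  have hUS0 : ∀ u ∈ U, u ∈ S0 := fun u hu => hMS0 (Submodule.mem_sup_right hu)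
  have : Algebra.FiniteType S0 (MvPolynomial ι k) := Algebra.FiniteType.of_restrictScalars_finiteType k S0 _
  -- quasi-finite along `I`
  have hqfI : ∀ (Q : PrimeSpectrum (MvPolynomial ι k)), I ≤ Q.asIdeal → Algebra.QuasiFiniteAt S0 Q.asIdeal := by
    intro Q hQ
    apply Algebra.QuasiFiniteAt.of_isOpen_singleton_fiber
    let F := PrimeSpectrum.comap (algebraMap S0 (MvPolynomial ι k)) ⁻¹' {Q.comap (algebraMap S0 (MvPolynomial ι k))}
    have hlift : ∀ Q' : PrimeSpectrum (MvPolynomial ι k), Q' ∈ F → ∃ P : PrimeSpectrum R,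
        P.comap π.toRingHom = Q' ∧ ∀ s : S, s ∈ (P.comap (algebraMap S R)).asIdeal ↔
          ∃ x : S0, pS x = s ∧ x.1 ∈ Q.asIdeal := by
      intro Q' hQ'
      have hQQ : ∀ x : S0, x.1 ∈ Q'.asIdeal ↔ x.1 ∈ Q.asIdeal := fun x =>
        Iff.of_eq (congrArg (fun p : PrimeSpectrum S0 => x ∈ p.asIdeal) hQ')
      have hI' : I ≤ Q'.asIdeal := hIU.trans (Ideal.span_le.2 fun u hu =>
        (hQQ ⟨u, hUS0 u hu⟩).2 (hQ (show π u = 0 from hu.2)))
      obtain ⟨P, hP⟩ : Q' ∈ Set.range (PrimeSpectrum.comap π.toRingHom) := by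
        rw [range_comap_of_surjective _ _ hπs]
        exact hI'
      refine ⟨P, hP, fun s => ?_⟩
      obtain ⟨x, rfl⟩ := hpSs s
      have key : ∀ y : S0, pS y ∈ (P.comap (algebraMap S R)).asIdeal ↔ y.1 ∈ Q.asIdeal := fun y => by
        rw [← hQQ, ← hP]
        show algebraMap S R (pS y) ∈ P.asIdeal ↔ π y.1 ∈ P.asIdeal
        rw [hpS]
      constructor
      · exact fun h => ⟨x, rfl, (key x).1 h⟩
      · rintro ⟨y, hy, hyQ⟩; rw [← hy]; exact (key y).2 hyQ
    obtain ⟨P₀, hP₀, hP₀s⟩ := hlift Q rfl
    let s₀ := P₀.comap (algebraMap S R)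
    have hfinR : (PrimeSpectrum.comap (algebraMap S R) ⁻¹' {s₀}).Finite :=
      Algebra.QuasiFinite.finite_comap_preimage_singleton _
    have hsub : F ⊆ PrimeSpectrum.comap π.toRingHom '' (PrimeSpectrum.comap (algebraMap S R) ⁻¹' {s₀}) := fun Q' hQ' => by
      obtain ⟨P, hP, hPs⟩ := hlift Q' hQ'
      refine ⟨P, PrimeSpectrum.ext (Ideal.ext fun s => ?_), hP⟩
      rw [hPs, hP₀s]
    have : Finite F := ((hfinR.image _).subset hsub).to_subtype
    have : T1Space F := by
      rw [t1Space_iff_specializes_imp_eq]
      intro a c hac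
      obtain ⟨Pa, hPa, ha⟩ := hsub a.2
      obtain ⟨Pc, hPc, hc⟩ := hsub c.2
      have hle : a.1.asIdeal ≤ c.1.asIdeal :=
        (PrimeSpectrum.le_iff_specializes a.1 c.1).2 (hac.map continuous_subtype_val)
      apply Subtype.ext
      rw [← ha, ← hc]
      congr 1
      have hle' : Pa.asIdeal ≤ Pc.asIdeal := fun r hr => by
        obtain ⟨p, rfl⟩ := hπs r
        rw [← ha, ← hc] at hle
        exact hle hr
      exact PrimeSpectrum.ext (Algebra.QuasiFinite.eq_of_le_of_under_eq (R := S) Pa.asIdeal Pc.asIdeal hle'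
        (congrArg PrimeSpectrum.asIdeal (hPa.trans hPc.symm)))
    exact isOpen_discrete _
  -- the bad ideal
  let C : Set (PrimeSpectrum (MvPolynomial ι k)) := {Q | ¬ Algebra.QuasiFiniteAt S0 Q.asIdeal}
  let J : Ideal (MvPolynomial ι k) := PrimeSpectrum.vanishingIdeal C
  have hJ : ∀ Q : PrimeSpectrum (MvPolynomial ι k), J ≤ Q.asIdeal → ¬ Algebra.QuasiFiniteAt S0 Q.asIdeal := by
    intro Q hQ hqf
    obtain ⟨r, hr, hall⟩ := Groth.Agent.GLinLib.exists_nhd_quasiFiniteAt (R := S0) Q.asIdeal
    refine hr (hQ ((PrimeSpectrum.mem_vanishingIdeal _ _).2 fun Q' hQ' => ?_))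
    by_contra h
    exact hQ' (hall Q'.asIdeal h)
  have hJs : HopfRep.IsSubcomod (k := k) (A := A) (J.restrictScalars k) := by
    refine Groth.Agent.GLinLib.isSubcomod_of_trans hA fun g r hr => ?_
    refine (PrimeSpectrum.mem_vanishingIdeal _ _).2 fun Q hQ => ?_
    let T := Groth.Agent.GLinLib.trans (R := MvPolynomial ι k) g
    let Q₁ : PrimeSpectrum (MvPolynomial ι k) := Q.comap T.toRingHom
    refine ((PrimeSpectrum.mem_vanishingIdeal _ _).1 hr Q₁ fun hqf => hQ ?_)
    let alg := algebraMap S0 (MvPolynomial ι k)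
    let F := PrimeSpectrum.comap alg ⁻¹' {Q.comap alg}
    let F₁ := PrimeSpectrum.comap alg ⁻¹' {Q₁.comap alg}
    have hTS : ∀ x : S0, T x.1 ∈ S0 := fun x => by
      rw [Groth.Agent.GLinLib.trans_apply]
      exact Groth.Agent.HopfLib.IsSubcomod.hit_mem hS0s _ x.2
    have hmaps : ∀ Q' ∈ F, PrimeSpectrum.comap T.toRingHom Q' ∈ F₁ := fun Q' hQ' => by
      refine PrimeSpectrum.ext (Ideal.ext fun x => ?_)
      exact Iff.of_eq (congrArg (fun p : PrimeSpectrum S0 => (⟨T x.1, hTS x⟩ : S0) ∈ p.asIdeal) hQ')
    let e : F → F₁ := fun q => ⟨PrimeSpectrum.comap T.toRingHom q.1, hmaps q.1 q.2⟩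
    have he : Continuous e := ((PrimeSpectrum.continuous_comap _).comp continuous_subtype_val).subtype_mk _
    have hTi : Function.Injective (PrimeSpectrum.comap T.toRingHom) :=
      PrimeSpectrum.comap_injective_of_surjective _ (Groth.Agent.GLinLib.trans_bijective (R := MvPolynomial ι k) g).2
    apply Algebra.QuasiFiniteAt.of_isOpen_singleton_fiber
    have hopen : IsOpen (X := F₁) {⟨Q₁, rfl⟩} :=
      (Algebra.quasiFiniteAt_iff_isOpen_singleton_fiber Q₁).1 hqf
    convert hopen.preimage he using 1
    ext q
    exact ⟨fun h => by subst h; rfl, fun h => Subtype.ext (hTi (congrArg Subtype.val h))⟩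
  -- the invariant function
  obtain ⟨α, hα, hα1⟩ := Groth.Agent.HopfLib.exists_integral hG
  have htop : I ⊔ J = ⊤ := by
    by_contra hne
    obtain ⟨m, hm, hle⟩ := Ideal.exists_le_maximal _ hne
    exact hJ ⟨m, hm.isPrime⟩ (le_sup_right.trans hle) (hqfI ⟨m, hm.isPrime⟩ (le_sup_left.trans hle))
  obtain ⟨f, hfJ, hfinv, hf0, hfπ⟩ : ∃ f ∈ J, f ∈ GLin.invariants k A (MvPolynomial ι k) ∧ f ≠ 0 ∧ π f = 1 := by
    obtain ⟨i, hi, j, hj, hij⟩ := Submodule.mem_sup.1 (htop ▸ Submodule.mem_top : (1 : MvPolynomial ι k) ∈ I ⊔ J)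
    have h1 : π (Groth.Agent.HopfLib.hit α j) = 1 := by
      refine (Groth.Agent.HopfLib.IsComodHom.hit_apply hπc α j).trans ?_
      have : π.toLinearMap j = 1 := by
        have h := congrArg π hij
        rw [map_add, show π i = 0 from hi, zero_add, map_one] at h
        exact h
      rw [this]
      exact Groth.Agent.HopfLib.hit_eq_self_of_mem_fixedPts hα1 (GLin.IsCoactAlg.coact_one (k := k) (A := A) (R := R))
    exact ⟨_, Groth.Agent.HopfLib.IsSubcomod.hit_mem hJs α hj,
      Groth.Agent.HopfLib.reynolds_mem_invariants hα hα1 j, fun h0 => by simp [h0] at h1, h1⟩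
  have hpow : Submonoid.powers f ≤ nonZeroDivisors (MvPolynomial ι k) :=
    powers_le_nonZeroDivisors_of_noZeroDivisors hf0
  let Pf := Localization.Away f
  have : IsDomain Pf := IsLocalization.isDomain_localization hpow
  have : IsIntegrallyClosed Pf := isIntegrallyClosed_of_isLocalization Pf (Submonoid.powers f) hpow
  obtain ⟨cR, hcR, hιR⟩ := Groth.Agent.GLinLib.exists_comod_away (A := A) hfinv Pf
  let ι' : MvPolynomial ι k →ₐ[k] Pf := IsScalarTower.toAlgHom k _ _
  have hu : ∀ y : Submonoid.powers f, IsUnit (π y) := by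
    rintro ⟨_, n, rfl⟩; simp [hfπ]
  let pR : Pf →ₐ[k] R := IsLocalization.liftAlgHom (M := Submonoid.powers f) (f := π) hu
  have hpR : ∀ p, pR (algebraMap _ Pf p) = π p := fun p => IsLocalization.lift_eq _ p
  let φ' : S0 →ₐ[k] Pf := ι'.comp S0.val
  letI := cR
  haveI := hcR
  letI := cS
  haveI := hcS
  refine ⟨Pf, inferInstance, inferInstance, inferInstance, inferInstance, cR, hcR, S0, inferInstance, inferInstance,
    inferInstance, cS, hcS, inferInstance, (Subalgebra.fg_iff_finiteType S0).1 ⟨gM, rfl⟩, pR, pS, φ', ?_, hpSs, ?_, ?_,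
    ?_, ?_, ?_, AlgHom.ext fun x => (hpR _).trans (hpS x).symm⟩
  · exact fun r => (hπs r).elim fun p hp => ⟨algebraMap _ _ p, (hpR p).trans hp⟩
  · exact (IsLocalization.injective Pf hpow).comp Subtype.val_injective
  · have : Algebra.FiniteType S0 Pf := Algebra.FiniteType.of_restrictScalars_finiteType k S0 _
    change (algebraMap S0 Pf).QuasiFinite
    rw [RingHom.quasiFinite_algebraMap]
    rw [Algebra.QuasiFinite.iff_finite_comap_preimage_singleton]
    intro x
    have : IsNoetherianRing Pf := Algebra.FiniteType.isNoetherianRing k Pf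
    let Ff := PrimeSpectrum.comap (algebraMap S0 Pf) ⁻¹' {x}
    have : DiscreteTopology Ff := by
      rw [discreteTopology_iff_isOpen_singleton]
      intro q
      let Q : PrimeSpectrum (MvPolynomial ι k) := q.1.comap (algebraMap _ Pf)
      have hfQ : f ∉ Q.asIdeal := fun h => q.1.isPrime.ne_top
        (Ideal.eq_top_of_isUnit_mem _ h (IsLocalization.Away.algebraMap_isUnit f))
      have hqf : Algebra.QuasiFiniteAt S0 Q.asIdeal := by
        by_contra h
        exact hfQ ((PrimeSpectrum.mem_vanishingIdeal _ _).1 hfJ Q h)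
      let F := PrimeSpectrum.comap (algebraMap S0 (MvPolynomial ι k)) ⁻¹' {Q.comap (algebraMap S0 (MvPolynomial ι k))}
      have hopen : IsOpen (X := F) {⟨Q, rfl⟩} := (Algebra.quasiFiniteAt_iff_isOpen_singleton_fiber Q).1 hqf
      have hm : ∀ q' : Ff, q'.1.comap (algebraMap _ Pf) ∈ F := fun q' => by
        show PrimeSpectrum.comap _ (PrimeSpectrum.comap _ q'.1) = PrimeSpectrum.comap _ Q
        have h1 : q'.1.comap (algebraMap S0 Pf) = q.1.comap (algebraMap S0 Pf) := q'.2.trans q.2.symm
        rw [IsScalarTower.algebraMap_eq S0 (MvPolynomial ι k) Pf] at h1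
        exact h1
      let e : Ff → F := fun q' => ⟨_, hm q'⟩
      have he : Continuous e := ((PrimeSpectrum.continuous_comap _).comp continuous_subtype_val).subtype_mk _
      convert hopen.preimage he using 1
      ext q'
      exact ⟨fun h => by subst h; rfl, fun h => Subtype.ext
        (PrimeSpectrum.localization_comap_injective Pf (Submonoid.powers f) (congrArg Subtype.val h))⟩
    exact TopologicalSpace.NoetherianSpace.finite (α := Ff)
  · intro s
    have h : ((GLin.coactAlgHom k A R).comp pR) = (Algebra.TensorProduct.map pR (AlgHom.id k A)).comp (GLin.coactAlgHom k A Pf) := by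
      refine IsLocalization.algHom_ext (Submonoid.powers f) (AlgHom.ext fun p => ?_)
      show HopfRep.Comod.coact (k := k) (A := A) (pR (algebraMap _ Pf p)) =
        Algebra.TensorProduct.map pR (AlgHom.id k A) (HopfRep.Comod.coact (k := k) (A := A) (algebraMap _ Pf p))
      rw [hpR, hπe', hιR]
      generalize (HopfRep.Comod.coact (k := k) (A := A) p) = t
      induction t using TensorProduct.induction_on with
      | zero => simp
      | add x y hx hy => simp [map_add, hx, hy]
      | tmul a b => simp [hpR]
    exact congrArg (fun φ : Pf →ₐ[k] R ⊗[k] A => φ s) h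
  · intro x
    have hi : Function.Injective (Algebra.TensorProduct.map θ (AlgHom.id k A)) := by
      have : Function.Injective (θ.toLinearMap.rTensor A) :=
        Module.Flat.rTensor_preserves_injective_linearMap _ hinj
      have e : θ.toLinearMap.rTensor A = (Algebra.TensorProduct.map θ (AlgHom.id k A)).toLinearMap := by ext b a; rfl
      rw [e] at this
      exact this
    apply hi
    rw [← hequiv, hpS, hπe', ← hιS]
    generalize (HopfRep.Comod.coact (k := k) (A := A) x) = t
    induction t using TensorProduct.induction_on with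
    | zero => simp
    | add x y hx hy => simp [map_add, hx, hy]
    | tmul a b => simp [θ, hpS]
  · intro x
    show HopfRep.Comod.coact (k := k) (A := A) (algebraMap (MvPolynomial ι k) Pf x.1) = _
    rw [hιR, ← hιS]
    generalize (HopfRep.Comod.coact (k := k) (A := A) x) = t
    induction t using TensorProduct.induction_on with
    | zero => simp
    | add x y hx hy => simp [map_add, hx, hy]
    | tmul a b => rfl

end Groth.Agent.S19410
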