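import Groth.Statements.S19411
import Groth.Agent.HopfLib.Comod
import Groth.Agent.HopfLib.LieKolchinComod
import Groth.Agent.HopfLib.Cartier
import Groth.Agent.Et18.RosenlichtAlg
import Mathlib.RingTheory.Jacobson.Ring
import Mathlib.FieldTheory.IsAlgClosed.Basic
set_option backward.isDefEq.respectTransparency.types false

set_option autoImplicit false
universe u
open TensorProduct
open GLin
open scoped TensorProduct

namespace Groth.Agent.S19411

/-- Let k be an uncountable algebraically closed field of characteristic zero, A a finitely generated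
commutative Hopf algebra over k all of whose finite-dimensional comodules are semisimple (a
reductive group G), and R a reduced finitely generated commutative k-algebra whose prime spectrum is
connected, with a multiplicative A-coaction ρ (G acting on the connected affine scheme X = Spec R).
Let θ ∈ R ⊗ A be such that the map r ↦ ρ(r)·θ from R to R ⊗ A is coassociative and counital (a
structure of G-line bundle on the trivial line bundle of X, θ being the corresponding invertible
function on X × G). Suppose that either every unit of A is a scalar multiple of a group-like element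
(every invertible function on G is a constant times a character), or every unit of R is a scalar
(every invertible function on X is constant). Then θ = 1 ⊗ χ for some group-like element χ of A: the
G-line bundle is the one attached to the character χ. (Stated for G-line bundle structures on the
trivial bundle, the case to which the hypothesis of a trivial Picard group reduces the source's
statement; uncountability of k is what the argument uses in the first case.) -/
theorem result (k : Type u) [Field k] [IsAlgClosed k] [CharZero k] [Uncountable k]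
    (A : Type u) [CommRing A] [HopfAlgebra k A] [Algebra.FiniteType k A] (hG : HopfRep.IsLinearlyReductive k A)
    (R : Type u) [CommRing R] [IsReduced R] [Algebra k R] [Algebra.FiniteType k R] [HopfRep.Comod k A R] [GLin.IsCoactAlg k A R]
    [ConnectedSpace (PrimeSpectrum R)]
    (θ : R ⊗[k] A)
    (hassoc : (TensorProduct.assoc k R A A).toLinearMap ∘ₗ
        ((LinearMap.mulRight k θ) ∘ₗ HopfRep.Comod.coact (k := k) (A := A) (V := R)).rTensor A ∘ₗ
          ((LinearMap.mulRight k θ) ∘ₗ HopfRep.Comod.coact (k := k) (A := A) (V := R)) =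
      (CoalgebraStruct.comul (R := k) (A := A)).lTensor R ∘ₗ
        ((LinearMap.mulRight k θ) ∘ₗ HopfRep.Comod.coact (k := k) (A := A) (V := R)))
    (hcounit : (CoalgebraStruct.counit (R := k) (A := A)).lTensor R ∘ₗ
        ((LinearMap.mulRight k θ) ∘ₗ HopfRep.Comod.coact (k := k) (A := A) (V := R)) =
      (TensorProduct.mk k R k).flip 1)
    (h : (∀ u : Aˣ, ∃ (c : k) (χ : A), IsGroupLikeElem k χ ∧ (u : A) = c • χ) ∨
      (∀ u : Rˣ, (u : R) ∈ Set.range (algebraMap k R))) :
    ∃ χ : A, IsGroupLikeElem k χ ∧ θ = (1 : R) ⊗ₜ[k] χ := by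
  classical
  haveI : IsReduced A := Groth.Agent.HopfLib.isReduced_of_charZero (k := k)
  haveI : Nontrivial R := by
    obtain ⟨p⟩ := (inferInstance : Nonempty (PrimeSpectrum R))
    exact (Ideal.Quotient.mk p.asIdeal).domain_nontrivial
  -- rational points separate the elements of a reduced algebra of finite type
  have hres : ∀ (C : Type u) [CommRing C] [Algebra k C] [Algebra.FiniteType k C] (M : Ideal C), M.IsMaximal →
      ∃ π : C →ₐ[k] k, ∀ c ∈ M, π c = 0 := by
    intro C _ _ _ M hM
    letI := Ideal.Quotient.field M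
    haveI : Algebra.FiniteType k (C ⧸ M) :=
      Algebra.FiniteType.of_surjective (Ideal.Quotient.mkₐ k M) (Ideal.Quotient.mkₐ_surjective k M)
    haveI : Module.Finite k (C ⧸ M) := finite_of_finite_type_of_isJacobsonRing k (C ⧸ M)
    haveI : Algebra.IsIntegral k (C ⧸ M) := Algebra.IsIntegral.of_finite k (C ⧸ M)
    let e : k ≃ₐ[k] C ⧸ M := AlgEquiv.ofBijective (Algebra.ofId k (C ⧸ M))
      (IsAlgClosed.algebraMap_bijective_of_isIntegral (k := k) (K := C ⧸ M))
    refine ⟨e.symm.toAlgHom.comp (Ideal.Quotient.mkₐ k M), fun c hc => ?_⟩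
    simp [Ideal.Quotient.eq_zero_iff_mem.2 hc]
  have hsep : ∀ (C : Type u) [CommRing C] [Algebra k C] [Algebra.FiniteType k C] [IsReduced C] (c : C),
      (∀ π : C →ₐ[k] k, π c = 0) → c = 0 := by
    intro C _ _ _ _ c h
    by_contra hc
    haveI : IsJacobsonRing C := isJacobsonRing_of_finiteType (A := k)
    have : c ∈ (⊥ : Ideal C).jacobson := by
      rw [Ideal.jacobson]
      refine Ideal.mem_sInf.2 fun M hM => ?_
      obtain ⟨π, hπ⟩ := hres C M hM.2
      by_contra hcM
      obtain ⟨d, m, hm, hd⟩ := hM.2.exists_inv hcM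
      have := congrArg π hd
      simp [map_add, map_mul, h π, hπ m hm] at this
    rw [IsJacobsonRing.out' ⊥ Ideal.isRadical_bot] at this
    exact hc (by simpa using this)
  have hsepT : ∀ (C : Type u) [CommRing C] [Algebra k C] (z : C ⊗[k] A),
      (∀ ψ : A →ₐ[k] k, Groth.Agent.Et18.Rosenlicht.evR (K := k) C ψ z = 0) → z = 0 := by
    intro C _ _ z h
    let b := Module.Free.chooseBasis k C
    apply (TensorProduct.equivFinsuppOfBasisLeft (N := A) b).injective
    rw [map_zero]
    ext i
    refine hsep A _ fun ψ => ?_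
    have key : ∀ y : C ⊗[k] A, ψ (TensorProduct.equivFinsuppOfBasisLeft b y i) =
        b.repr (Groth.Agent.Et18.Rosenlicht.evR (K := k) C ψ y) i := by
      intro y
      induction y using TensorProduct.induction_on with
      | zero => simp
      | add p q hp hq => simp only [map_add, Finsupp.add_apply, hp, hq]
      | tmul c a => simp [Groth.Agent.Et18.Rosenlicht.evR_tmul, mul_comm]
    rw [key z, h ψ]
    simp
  -- the twisted coaction
  let W : (A →ₐ[k] k) → R := fun φ => Groth.Agent.Et18.Rosenlicht.evR (K := k) R φ θ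
  let E : (A →ₐ[k] k) → (R →ₐ[k] R) := fun φ =>
    ((Groth.Agent.Et18.Rosenlicht.evR (K := k) R φ).restrictScalars k).comp (GLin.coactAlgHom k A R)
  let ρ : R →ₐ[k] R ⊗[k] A := GLin.coactAlgHom k A R
  let tw : HopfRep.Comod k A R :=
    ⟨(LinearMap.mulRight k θ) ∘ₗ HopfRep.Comod.coact (k := k) (A := A) (V := R), hassoc, hcounit⟩
  let T : (A →ₗ[k] k) → (R →ₗ[k] R) := fun g => @Groth.Agent.HopfLib.hit k _ A _ _ _ R _ _ tw g
  have hT : ∀ (φ : A →ₐ[k] k) (r : R), T φ.toLinearMap r = E φ r * W φ := by
    intro φ r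
    show Groth.Agent.HopfLib.sliceR φ.toLinearMap (ρ r * θ) = _
    rw [show E φ r * W φ = Groth.Agent.Et18.Rosenlicht.evR (K := k) R φ (ρ r * θ)
      from ((map_mul (Groth.Agent.Et18.Rosenlicht.evR (K := k) R φ) (ρ r) θ).symm : _)]
    generalize ρ r * θ = t
    induction t using TensorProduct.induction_on with
    | zero => simp
    | add p q hp hq => simp only [map_add, hp, hq]
    | tmul c a => simp [Groth.Agent.Et18.Rosenlicht.evR_tmul]
  have hTT : ∀ (g g' : A →ₗ[k] k) (r : R), T g (T g' r) = T (Groth.Agent.HopfLib.formMul g g') r :=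
    fun g g' r => @Groth.Agent.HopfLib.hit_hit k _ A _ _ _ R _ _ tw g g' r
  have hT1 : ∀ r, T (Coalgebra.counit (R := k) (A := A)) r = r :=
    fun r => @Groth.Agent.HopfLib.hit_counit k _ A _ _ _ R _ _ tw r
  have hTW : ∀ φ : A →ₐ[k] k, T φ.toLinearMap 1 = W φ := fun φ => by rw [hT, map_one, one_mul]
  have hWc : W (Bialgebra.counitAlgHom k A) = 1 := (hTW _).symm.trans (hT1 1)
  have hWu : ∀ φ, IsUnit (W φ) := by
    intro φ
    let φ' : A →ₐ[k] k := φ.comp (HopfAlgebra.antipodeAlgHom k A)
    refine IsUnit.of_mul_eq_one (E φ (W φ')) ?_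
    rw [mul_comm, ← hT, ← hTW φ', hTT]
    suffices h : Groth.Agent.HopfLib.formMul φ.toLinearMap φ'.toLinearMap = Coalgebra.counit (R := k) (A := A) by
      rw [h]; exact hT1 1
    refine LinearMap.ext fun a => ?_
    have h1 : ∀ t : A ⊗[k] A, LinearMap.mul' k k (TensorProduct.map φ.toLinearMap φ'.toLinearMap t) =
        φ (LinearMap.mul' k A ((HopfAlgebraStruct.antipode k).lTensor A t)) := by
      intro t
      induction t using TensorProduct.induction_on with
      | zero => simp
      | add p q hp hq => simp only [map_add, hp, hq]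
      | tmul x y => simp [φ']
    show LinearMap.mul' k k (TensorProduct.map φ.toLinearMap φ'.toLinearMap
      (Coalgebra.comul (R := k) a)) = _
    rw [h1, HopfAlgebra.mul_antipode_lTensor_comul_apply, AlgHom.commutes]
    rfl
  -- the values of `θ` are scalars
  obtain ⟨c, hc⟩ : ∃ c : (A →ₐ[k] k) → k, ∀ φ, W φ = algebraMap k R (c φ) := by
    suffices ∀ φ, ∃ c, W φ = algebraMap k R c from ⟨fun φ => (this φ).choose, fun φ => (this φ).choose_spec⟩
    rcases h with hA | hR
    swap
    · intro φ
      obtain ⟨c, hc⟩ := hR (hWu φ).unit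
      exact ⟨c, by rw [hc, IsUnit.unit_spec]⟩
    haveI : IsDomain A := by
      refine Groth.Agent.HopfLib.LieKolchin.isDomain k fun e he => ?_
      have hval : ∀ φ : A →ₐ[k] k, φ e = 0 ∨ φ e = 1 := fun φ =>
        IsIdempotentElem.iff_eq_zero_or_one.1 (he.map φ)
      let u : A := e * algebraMap k A 2 + (1 - e)
      have huv : ∀ φ : A →ₐ[k] k, (φ e = 0 → φ u = 1) ∧ (φ e = 1 → φ u = 2) :=
        fun φ => ⟨fun h0 => by simp [u, h0], fun h1 => by simp [u, h1]⟩
      have hu : IsUnit u := by
        refine IsUnit.of_mul_eq_one (e * algebraMap k A (2⁻¹) + (1 - e)) ?_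
        have h2 : algebraMap k A 2 * algebraMap k A (2⁻¹) = 1 := by
          rw [← map_mul, mul_inv_cancel₀ (two_ne_zero' k), map_one]
        have he' : e * e = e := he
        linear_combination (e * e) * h2 + (algebraMap k A 2⁻¹ + algebraMap k A 2 - 2) * (-he') 
      obtain ⟨c, χ, hχ, hcχ⟩ := hA hu.unit
      rw [IsUnit.unit_spec] at hcχ
      let ε := Bialgebra.counitAlgHom k A
      have hεχ : ε χ = 1 := hχ.counit_eq_one
      have hcu : c = ε u := by rw [hcχ, map_smul, hεχ, smul_eq_mul, mul_one]
      have hconst : ∀ φ : A →ₐ[k] k, φ e = ε e := by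
        intro φ
        let φ2 : A →ₐ[k] k := (Algebra.TensorProduct.lift φ φ fun _ _ => Commute.all _ _).comp (Bialgebra.comulAlgHom k A)
        have h2 : φ2 χ = φ χ * φ χ := by
          show Algebra.TensorProduct.lift φ φ (fun _ _ => Commute.all _ _) (Coalgebra.comul (R := k) χ) = _
          rw [hχ.comul_eq_tmul_self, Algebra.TensorProduct.lift_tmul]
        have e1 : φ u = c * φ χ := by rw [hcχ, map_smul, smul_eq_mul]
        have e2 : φ2 u = c * (φ χ * φ χ) := by rw [hcχ, map_smul, smul_eq_mul, h2]
        rcases hval φ with hp | hp <;> rcases hval ε with hq | hq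
        · rw [hp, hq]
        · exfalso
          rw [(huv φ).1 hp, hcu, (huv ε).2 hq] at e1
          rw [hcu, (huv ε).2 hq] at e2
          have hx : φ χ = 2⁻¹ := by field_simp at e1 ⊢; linear_combination -e1
          rcases hval φ2 with hr | hr
          · rw [(huv φ2).1 hr, hx] at e2; norm_num at e2
          · rw [(huv φ2).2 hr, hx] at e2; norm_num at e2
        · exfalso
          rw [(huv φ).2 hp, hcu, (huv ε).1 hq, one_mul] at e1
          rw [hcu, (huv ε).1 hq, one_mul, ← e1] at e2
          rcases hval φ2 with hr | hr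
          · rw [(huv φ2).1 hr] at e2; norm_num at e2
          · rw [(huv φ2).2 hr] at e2; norm_num at e2
        · rw [hp, hq]
      rcases hval ε with h0 | h1
      · exact Or.inl (hsep A e fun π => by rw [hconst, h0])
      · refine Or.inr (sub_eq_zero.1 (hsep A _ fun π => ?_))
        rw [map_sub, map_one, hconst, h1, sub_self]
    intro φ
    have hθu : IsUnit θ := by
      by_contra hnu
      obtain ⟨M, hM, hwM⟩ := Ideal.exists_le_maximal (Ideal.span {θ}) (fun h => hnu (Ideal.span_singleton_eq_top.1 h))
      haveI : Algebra.FiniteType k (R ⊗[k] A) := Algebra.FiniteType.trans (S := R) inferInstance inferInstance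
      obtain ⟨π, hπ⟩ := hres (R ⊗[k] A) M hM
      let x : R →ₐ[k] k := π.comp Algebra.TensorProduct.includeLeft
      let ψ : A →ₐ[k] k := π.comp Algebra.TensorProduct.includeRight
      have key : ∀ y : R ⊗[k] A, x (Groth.Agent.Et18.Rosenlicht.evR (K := k) R ψ y) = π y := by
        intro y
        induction y using TensorProduct.induction_on with
        | zero => simp
        | add p r hp hr => simp only [map_add, hp, hr]
        | tmul c a =>
          rw [Groth.Agent.Et18.Rosenlicht.evR_tmul, map_smul, smul_eq_mul, mul_comm]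
          show π (c ⊗ₜ 1) * π (1 ⊗ₜ a) = π (c ⊗ₜ a)
          rw [← map_mul, Algebra.TensorProduct.tmul_mul_tmul, mul_one, one_mul]
      have h0 : x (W ψ) = 0 := (key θ).trans (hπ θ (hwM (Ideal.mem_span_singleton_self θ)))
      exact not_isUnit_zero (h0 ▸ (hWu ψ).map x)
    obtain ⟨θ', hθθ'⟩ := hθu.exists_right_inv
    haveI : IsNoetherianRing R := Algebra.FiniteType.isNoetherianRing k R
    have hloc : ∀ P : Ideal R, P.IsPrime → ∃ c : k, W φ - algebraMap k R c ∈ P := by
      intro P hP
      haveI := hP
      obtain ⟨Mx, hMx⟩ := Ideal.exists_maximal (R ⧸ P)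
      obtain ⟨x₀, -⟩ := hres (R ⧸ P) Mx hMx
      refine ⟨x₀ (Ideal.Quotient.mk P (W φ)), (Ideal.Quotient.eq_zero_iff_mem).1 ?_⟩
      let q : R →ₐ[k] R ⧸ P := Ideal.Quotient.mkₐ k P
      let ι := Algebra.TensorProduct.map q (AlgHom.id k A)
      have hι : ι θ * ι θ' = 1 := by rw [← map_mul, hθθ', map_one]
      refine hsep (R ⧸ P) _ fun x => ?_
      have h := Groth.Agent.Et18.Rosenlicht.cross_ratio k hι x x₀ φ (Bialgebra.counitAlgHom k A)
      rw [Groth.Agent.Et18.Rosenlicht.evR_map, Groth.Agent.Et18.Rosenlicht.evR_map] at h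
      change x (q (W φ)) * x₀ (q (W (Bialgebra.counitAlgHom k A))) =
        x (q (W (Bialgebra.counitAlgHom k A))) * x₀ (q (W φ)) at h
      rw [hWc, map_one, map_one, map_one, mul_one, one_mul] at h
      show x (q (W φ - algebraMap k R _)) = 0
      rw [map_sub, map_sub, AlgHom.commutes, AlgHom.commutes]
      exact sub_eq_zero.2 h
    choose! cP hcP using hloc
    obtain ⟨p₀⟩ := (inferInstance : Nonempty (PrimeSpectrum R))
    refine ⟨cP p₀.asIdeal, ?_⟩
    let U : Set (PrimeSpectrum R) := PrimeSpectrum.zeroLocus {W φ - algebraMap k R (cP p₀.asIdeal)}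
    have hfin := Ideal.finite_minimalPrimes_of_isNoetherianRing R (⊥ : Ideal R)
    have hne : ∀ {P : Ideal R} (_ : P.IsPrime) {c c' : k},
        W φ - algebraMap k R c ∈ P → W φ - algebraMap k R c' ∈ P → c = c' := by
      intro P hP c c' h h'
      have h2 := P.sub_mem h' h
      rw [sub_sub_sub_cancel_left, ← map_sub] at h2
      by_contra hne
      exact hP.ne_top (Ideal.eq_top_of_isUnit_mem _ h2 ((isUnit_iff_ne_zero.2 (sub_ne_zero.2 hne)).map _))
    have hUc : Uᶜ = ⋃ P ∈ {P | P ∈ (⊥ : Ideal R).minimalPrimes ∧ cP P ≠ cP p₀.asIdeal},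
        PrimeSpectrum.zeroLocus ((P : Ideal R) : Set R) := by
      ext p
      simp only [U, Set.mem_compl_iff, PrimeSpectrum.mem_zeroLocus, Set.singleton_subset_iff, SetLike.mem_coe,
        Set.mem_iUnion, Set.mem_ofPred_eq, SetLike.coe_subset_coe, exists_prop]
      constructor
      · intro hp
        obtain ⟨P, hP, hle⟩ := Ideal.exists_minimalPrimes_le (J := p.asIdeal) (bot_le : (⊥ : Ideal R) ≤ _)
        exact ⟨P, ⟨hP, fun he => hp (he ▸ hle (hcP P hP.1.1))⟩, hle⟩
      · rintro ⟨P, ⟨hP, hne'⟩, hle⟩ hp
        exact hne' (hne p.2 (hle (hcP P hP.1.1)) hp)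
    have hU : IsClopen U := by
      refine ⟨PrimeSpectrum.isClosed_zeroLocus _, isClosed_compl_iff.1 ?_⟩
      rw [hUc]
      exact (hfin.subset fun P hP => hP.1).isClosed_biUnion fun P _ => PrimeSpectrum.isClosed_zeroLocus _
    have hU' : U = Set.univ := hU.eq_univ ⟨p₀, by
      simpa [U] using hcP p₀.asIdeal p₀.2⟩
    refine sub_eq_zero.1 (isNilpotent_iff_eq_zero.1 ?_)
    rw [nilpotent_iff_mem_prime]
    intro P hP
    have := hU'.symm ▸ Set.mem_univ (⟨P, hP⟩ : PrimeSpectrum R)
    simpa [U] using this
  obtain ⟨Mx, hMx⟩ := Ideal.exists_maximal R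
  obtain ⟨x₀, -⟩ := hres R Mx hMx
  let a : A := (Algebra.TensorProduct.lift ((Algebra.ofId k A).comp x₀) (AlgHom.id k A)
    (fun _ _ => Commute.all _ _)) θ
  have hψa : ∀ ψ : A →ₐ[k] k, ψ a = c ψ := by
    intro ψ
    have key : ∀ y : R ⊗[k] A, ψ (Algebra.TensorProduct.lift ((Algebra.ofId k A).comp x₀) (AlgHom.id k A)
        (fun _ _ => Commute.all _ _) y) = x₀ (Groth.Agent.Et18.Rosenlicht.evR (K := k) R ψ y) := by
      intro y
      induction y using TensorProduct.induction_on with
      | zero => simp
      | add p r hp hr => simp only [map_add, hp, hr]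
      | tmul c a => simp [Groth.Agent.Et18.Rosenlicht.evR_tmul, mul_comm]
    refine (key θ).trans ?_
    show x₀ (W ψ) = _
    rw [hc, AlgHom.commutes]
    rfl
  have hθ : θ = (1 : R) ⊗ₜ[k] a := by
    refine sub_eq_zero.1 (hsepT R _ fun ψ => ?_)
    rw [map_sub, Groth.Agent.Et18.Rosenlicht.evR_tmul, sub_eq_zero, hψa, ← Algebra.algebraMap_eq_smul_one]
    exact hc ψ
  refine ⟨a, ⟨?_, ?_⟩, hθ⟩
  · show Bialgebra.counitAlgHom k A a = 1
    rw [hψa]
    have := (hc (Bialgebra.counitAlgHom k A)).symm.trans hWc
    exact (algebraMap k R).injective (this.trans (map_one _).symm)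
  · refine sub_eq_zero.1 (hsepT A _ fun ψ => hsep A _ fun χ => ?_)
    rw [map_sub, map_sub, sub_eq_zero, Groth.Agent.Et18.Rosenlicht.evR_tmul, map_smul, smul_eq_mul]
    have key : ∀ y : A ⊗[k] A, χ (Groth.Agent.Et18.Rosenlicht.evR (K := k) A ψ y) =
        Algebra.TensorProduct.lift χ ψ (fun _ _ => Commute.all _ _) y := by
      intro y
      induction y using TensorProduct.induction_on with
      | zero => simp
      | add p r hp hr => simp only [map_add, hp, hr]
      | tmul c a => simp [Groth.Agent.Et18.Rosenlicht.evR_tmul, mul_comm]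
    let χψ : A →ₐ[k] k := (Algebra.TensorProduct.lift χ ψ fun _ _ => Commute.all _ _).comp (Bialgebra.comulAlgHom k A)
    rw [key, show Algebra.TensorProduct.lift χ ψ (fun _ _ => Commute.all _ _) (CoalgebraStruct.comul (R := k) a) = χψ a from rfl,
      hψa, hψa, hψa]
    apply (algebraMap k R).injective
    rw [← hc, map_mul, ← hc, ← hc, ← hTW χψ]
    have : χψ.toLinearMap = Groth.Agent.HopfLib.formMul χ.toLinearMap ψ.toLinearMap := by
      refine LinearMap.ext fun b => ?_
      show Algebra.TensorProduct.lift χ ψ (fun _ _ => Commute.all _ _) (Coalgebra.comul (R := k) b) =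
        LinearMap.mul' k k (TensorProduct.map χ.toLinearMap ψ.toLinearMap (Coalgebra.comul (R := k) b))
      generalize Coalgebra.comul (R := k) b = t
      induction t using TensorProduct.induction_on with
      | zero => simp
      | add p q hp hq => simp only [map_add, hp, hq]
      | tmul x y => simp
    rw [this, ← hTT, hTW, hT, hc ψ, AlgHom.commutes, mul_comm]

end Groth.Agent.S19411
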