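import Groth.Statements.S19412


set_option autoImplicit false
universe u
open TensorProduct
open GLin
open scoped TensorProduct

namespace Groth.Agent.S19412

/-- Let k be an algebraically closed field of characteristic zero, A a finitely generated commutative
Hopf algebra over k (an algebraic group G), S and R finitely generated commutative k-algebras with
multiplicative A-coactions (G acting on affine Y = Spec S, X = Spec R), S → R an algebra map
compatible with the coactions (a G-morphism φ : X → Y), S₀ → S and R₀ → R injective k-algebra maps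
whose images are the subrings of invariants, and S₀ → R₀ an algebra map with S₀ → R₀ → R equal to S₀
→ S → R (φ/G). Suppose R₀ is étale over S₀ and the canonical map S ⊗_{S₀} R₀ → R is bijective (φ is
strongly étale: φ/G étale and X ≅ Y ×_{Y//G} X//G). Then R is étale over S (φ étale), and for every
k-point x of X: every k-point of G fixing the image point φ(x) fixes x (φ restricted to the orbit of
x is injective), and the orbit of x is closed if and only if the orbit of φ(x) is closed. (The
published item also asserts that φ is surjective; that fails when φ is the inclusion of a proper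
saturated open subset, which is strongly étale, so surjectivity is not asserted here.) -/
theorem result (k : Type u) [Field k] [IsAlgClosed k] [CharZero k]
    (A : Type u) [CommRing A] [HopfAlgebra k A] [Algebra.FiniteType k A]
    (S : Type u) [CommRing S] [Algebra k S] [Algebra.FiniteType k S] [HopfRep.Comod k A S] [GLin.IsCoactAlg k A S]
    (R : Type u) [CommRing R] [Algebra k R] [Algebra.FiniteType k R] [HopfRep.Comod k A R] [GLin.IsCoactAlg k A R]
    [Algebra S R] [IsScalarTower k S R]
    (hequiv : (∀ s : S, HopfRep.Comod.coact (k := k) (A := A) (algebraMap S R s) =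
      Algebra.TensorProduct.map (IsScalarTower.toAlgHom k S R) (AlgHom.id k A) (HopfRep.Comod.coact (k := k) (A := A) s)))
    (S₀ : Type u) [CommRing S₀] [Algebra k S₀] [Algebra S₀ S] [IsScalarTower k S₀ S]
    (hS₀i : Function.Injective (algebraMap S₀ S)) (hS₀ : (IsScalarTower.toAlgHom k S₀ S).range = GLin.invariants k A S)
    (R₀ : Type u) [CommRing R₀] [Algebra k R₀] [Algebra R₀ R] [IsScalarTower k R₀ R]
    (hR₀i : Function.Injective (algebraMap R₀ R)) (hR₀ : (IsScalarTower.toAlgHom k R₀ R).range = GLin.invariants k A R)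
    [Algebra S₀ R₀] [Algebra S₀ R] [IsScalarTower S₀ S R] [IsScalarTower S₀ R₀ R]
    (het₀ : Algebra.Etale S₀ R₀)
    (hcart : Function.Bijective (Algebra.TensorProduct.productMap (IsScalarTower.toAlgHom S₀ S R) (IsScalarTower.toAlgHom S₀ R₀ R))) :
    Algebra.Etale S R ∧
      ∀ x : R →ₐ[k] k,
        (∀ g : A →ₐ[k] k, GLin.actPt k g (x.comp (IsScalarTower.toAlgHom k S R)) = x.comp (IsScalarTower.toAlgHom k S R) →
          GLin.actPt k g x = x) ∧
        (GLin.IsClosedOrbit k A x ↔ GLin.IsClosedOrbit k A (x.comp (IsScalarTower.toAlgHom k S R))) := by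
  classical
  -- etale
  haveI : IsScalarTower k S₀ R := IsScalarTower.of_algebraMap_eq fun c => by
    rw [IsScalarTower.algebraMap_apply S₀ S R, ← IsScalarTower.algebraMap_apply k S₀ S,
      ← IsScalarTower.algebraMap_apply k S R]
  haveI : Algebra.Etale S₀ R₀ := het₀
  let Φ : TensorProduct S₀ S R₀ →ₐ[S] R :=
    Algebra.TensorProduct.lift (Algebra.ofId S R) (IsScalarTower.toAlgHom S₀ R₀ R) (fun _ _ => Commute.all _ _)
  have hΦ : ∀ t, Φ t = Algebra.TensorProduct.productMap (IsScalarTower.toAlgHom S₀ S R)
      (IsScalarTower.toAlgHom S₀ R₀ R) t := by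
    intro t
    induction t using TensorProduct.induction_on with
    | zero => simp
    | add a b ha hb => rw [map_add, map_add, ha, hb]
    | tmul a b => simp [Φ, Algebra.ofId_apply]
  have hΦb : Function.Bijective Φ := by
    have : (Φ : _ → R) = _ := funext hΦ
    rw [this]; exact hcart
  refine ⟨Algebra.Etale.of_equiv (AlgEquiv.ofBijective Φ hΦb), fun x => ?_⟩
  set ψ : S →ₐ[k] R := IsScalarTower.toAlgHom k S R with hψ
  have horb : (GLin.orbitHom k A x).comp ψ = GLin.orbitHom k A (x.comp ψ) := by
    refine AlgHom.ext fun s => ?_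
    show (Algebra.TensorProduct.lid k A) ((Algebra.TensorProduct.map x (AlgHom.id k A))
        (HopfRep.Comod.coact (k := k) (A := A) (algebraMap S R s))) =
      (Algebra.TensorProduct.lid k A) ((Algebra.TensorProduct.map (x.comp ψ) (AlgHom.id k A))
        (HopfRep.Comod.coact (k := k) (A := A) s))
    rw [hequiv]
    generalize HopfRep.Comod.coact (k := k) (A := A) s = t
    induction t using TensorProduct.induction_on with
    | zero => simp
    | add a b ha hb => simp only [map_add, ha, hb]
    | tmul a b => simp [hψ]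
  have hinv : ∀ r₀ : R₀, GLin.orbitHom k A x (algebraMap R₀ R r₀) = algebraMap k A (x (algebraMap R₀ R r₀)) := by
    intro r₀
    have hm : algebraMap R₀ R r₀ ∈ GLin.invariants k A R := by rw [← hR₀]; exact ⟨r₀, rfl⟩
    show (Algebra.TensorProduct.lid k A) ((Algebra.TensorProduct.map x (AlgHom.id k A))
        (HopfRep.Comod.coact (k := k) (A := A) (algebraMap R₀ R r₀))) = _
    rw [(GLin.mem_invariants_iff k A R _).1 hm]
    simp [Algebra.algebraMap_eq_smul_one]
  have hgen : ∀ r : R, r ∈ Algebra.adjoin k (Set.range ψ ∪ Set.range (algebraMap R₀ R)) := by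
    intro r
    obtain ⟨t, rfl⟩ := hΦb.2 r
    induction t using TensorProduct.induction_on with
    | zero => rw [map_zero]; exact zero_mem _
    | add a b ha hb => rw [map_add]; exact add_mem ha hb
    | tmul a b =>
      rw [show Φ (a ⊗ₜ b) = ψ a * algebraMap R₀ R b by simp [Φ, Algebra.ofId_apply, hψ]]
      exact mul_mem (Algebra.subset_adjoin (Or.inl ⟨a, rfl⟩)) (Algebra.subset_adjoin (Or.inr ⟨b, rfl⟩))
  refine ⟨fun g hg => AlgHom.ext fun r => ?_, ?_⟩
  · induction hgen r using Algebra.adjoin_induction with
    | mem r hr =>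
      rcases hr with ⟨s, rfl⟩ | ⟨r₀, rfl⟩
      · refine Eq.trans ?_ (AlgHom.congr_fun hg s)
        show g ((GLin.orbitHom k A x).comp ψ s) = _
        rw [horb]
        rfl
      · show g (GLin.orbitHom k A x _) = _
        rw [hinv]
        exact g.commutes _
    | algebraMap c => rw [AlgHom.commutes, AlgHom.commutes]
    | add a b _ _ ha hb => rw [map_add, map_add, ha, hb]
    | mul a b _ _ ha hb => rw [map_mul, map_mul, ha, hb]
  -- the fibre of `x` over `R₀` maps injectively to `Spec S`
  let m : Ideal R := Ideal.span (Set.range fun r₀ : R₀ => algebraMap R₀ R r₀ - algebraMap k R (x (algebraMap R₀ R r₀)))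
  let q := Ideal.Quotient.mk m
  have hsur : Function.Surjective (q.comp ψ.toRingHom) := by
    intro t
    obtain ⟨r, rfl⟩ := Ideal.Quotient.mk_surjective t
    induction hgen r using Algebra.adjoin_induction with
    | mem r hr =>
      rcases hr with ⟨s, rfl⟩ | ⟨r₀, rfl⟩
      · exact ⟨s, rfl⟩
      · refine ⟨algebraMap k S (x (algebraMap R₀ R r₀)), ?_⟩
        show q (ψ (algebraMap k S _)) = q _
        rw [AlgHom.commutes]
        refine (Ideal.Quotient.eq.2 ?_).symm
        exact Ideal.subset_span ⟨r₀, rfl⟩
    | algebraMap c => exact ⟨algebraMap k S c, congrArg q (ψ.commutes c)⟩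
    | add a b _ _ ha hb =>
      obtain ⟨a', ha'⟩ := ha
      obtain ⟨b', hb'⟩ := hb
      exact ⟨a' + b', by rw [map_add, ha', hb', ← map_add]⟩
    | mul a b _ _ ha hb =>
      obtain ⟨a', ha'⟩ := ha
      obtain ⟨b', hb'⟩ := hb
      exact ⟨a' * b', by rw [map_mul, ha', hb', ← map_mul]⟩
  have hm : m ≤ RingHom.ker (GLin.orbitHom k A x).toRingHom := by
    rw [Ideal.span_le]
    rintro _ ⟨r₀, rfl⟩
    show GLin.orbitHom k A x _ = 0
    rw [map_sub, hinv, AlgHom.commutes, sub_self]
  let fx : R ⧸ m →+* A := Ideal.Quotient.lift m (GLin.orbitHom k A x).toRingHom hm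
  have hfx : (GLin.orbitHom k A x).toRingHom = fx.comp q := RingHom.ext fun _ => rfl
  have hfy : (GLin.orbitHom k A (x.comp ψ)).toRingHom = fx.comp (q.comp ψ.toRingHom) := by
    rw [← horb]
    rfl
  have e1 := PrimeSpectrum.isClosedEmbedding_comap_of_surjective _ q Ideal.Quotient.mk_surjective
  have e2 := PrimeSpectrum.isClosedEmbedding_comap_of_surjective _ _ hsur
  show IsClosed _ ↔ IsClosed _
  rw [hfx, hfy, PrimeSpectrum.comap_comp, PrimeSpectrum.comap_comp, Set.range_comp, Set.range_comp,
    ← e1.isClosed_iff_image_isClosed, ← e2.isClosed_iff_image_isClosed]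

end Groth.Agent.S19412
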