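import Groth.Statements.S19416
import Groth.Agent.CommAlg4.SmoothInter
import Groth.Agent.DimLib.Components
-- import your own Groth.Agent.* helpers here

set_option autoImplicit false
universe u
open CategoryTheory AlgebraicGeometry
open IntMult

namespace Groth.Agent.S19416

/-- Let k be a field and X a smooth variety over k (the structure morphism X → Spec k smooth, separated
and quasi-compact, X integral) of dimension n, and let V, W ⊆ X be closed irreducible subsets of
dimensions r and s. Then every irreducible component Z of V ∩ W has dimension at least r + s − n,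
stated as r + s ≤ dim Z + n with Krull dimensions of the subspaces; equivalently the codimension of
Z is at most the sum of the codimensions of V and W. The base field is arbitrary here; the same
statement over an algebraically closed field is the classical dimension count for intersections on a
nonsingular variety. -/
theorem result (k : Type u) [Field k] (X : Scheme.{u})
    (f : X ⟶ Spec (CommRingCat.of k)) [Smooth f] [IsSeparated f] [QuasiCompact f] [IsIntegral X]
    (n r s : ℕ) (hn : topologicalKrullDim X = n) (V W : Set X) (hVc : IsClosed V)
    (hVi : IsIrreducible V) (hWc : IsClosed W) (hWi : IsIrreducible W)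
    (hr : topologicalKrullDim ↥V = r) (hs : topologicalKrullDim ↥W = s) (Z : Set ↥(V ∩ W))
    (hZ : Z ∈ irreducibleComponents ↥(V ∩ W)) :
    ((r + s : ℕ) : WithBot ℕ∞) ≤ topologicalKrullDim ↥Z + n := by
  have hlc : IsLocallyClosed (V ∩ W) := (hVc.inter hWc).isLocallyClosed
  refine (DimLib.forall_components_subset_iff f hlc (fun D => ((r + s : ℕ) : WithBot ℕ∞) ≤ D + n)).2 ?_ Z hZ
  intro z hz hzmax
  obtain ⟨x, hx⟩ : ∃ x, IsGenericPoint x V := ⟨_, hVi.isGenericPoint_genericPoint hVc⟩
  obtain ⟨y, hy⟩ : ∃ y, IsGenericPoint y W := ⟨_, hWi.isGenericPoint_genericPoint hWc⟩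
  have hxr : DimLib.ptDim f x = r := by
    exact_mod_cast (DimLib.topologicalKrullDim_eq_ptDim_of_isGenericPoint f hx).symm.trans hr
  have hys : DimLib.ptDim f y = s := by
    exact_mod_cast (DimLib.topologicalKrullDim_eq_ptDim_of_isGenericPoint f hy).symm.trans hs
  have hN : ∀ a : X, DimLib.ptDim f a ≤ n := fun a => by
    exact_mod_cast (DimLib.ptDim_le_topologicalKrullDim f a).trans hn.le
  have key := CommAlg4.ptDim_add_le_of_smooth f n hN (hx.specializes hz.1) (hy.specializes hz.2)
    (fun w hxw hyw hwz => (hzmax w ⟨hx.def ▸ specializes_iff_mem_closure.1 hxw,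
      hy.def ▸ specializes_iff_mem_closure.1 hyw⟩ hwz).symm)
  rw [hxr, hys] at key
  exact_mod_cast key


end Groth.Agent.S19416
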