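import Groth.Statements.S19419
import Groth.Agent.CycLib28.GraphPull
import Groth.Agent.CycLib28.PB.GysinSquare
import Groth.Agent.CycLib28.Graph
import Groth.Agent.RefHullLib.Extend

set_option autoImplicit false
universe u
open CategoryTheory CategoryTheory.Limits AlgebraicGeometry
open Cyc

namespace Groth.Agent.S19419

/-- Let X be a smooth proper integral curve over an algebraically closed field k, with generic point η,
and ψ : X → X a flat endomorphism over k. Let Y = X ×_k X with its two projections, m = ψ × id : Y →
Y (first projection intertwines ψ, second projection unchanged), d : X → Y the diagonal and g = (id,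
ψ) : X → Y the graph of ψ. For the dimension function δ on Y induced from weight 0 on Spec k, the
flat pull-back of cycles along m in relative dimension 0 takes the diagonal divisor [Δ], the cycle
equal to 1 at d(η) and 0 elsewhere, to the graph divisor [Γ_ψ], the cycle equal to 1 at g(η) and 0
elsewhere: (ψ × id)^*[Δ] = [Γ_ψ]. The published statement allows any endomorphism ψ and reads the
pull-back on divisors; flatness of ψ is what the flat pull-back of cycles requires (the intended
case is the Frobenius endomorphism), and iterating gives [Γ_{ψ^n}] = ((ψ × id)^*)^n [Δ]. -/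
theorem result (k : Type u) [Field k]
    [IsAlgClosed k] (X : Scheme.{u}) (f : X ⟶ Spec (CommRingCat.of k)) [Smooth f] [IsProper f]
    [IsIntegral X] (hdim : topologicalKrullDim ↥X = 1) (ψ : X ⟶ X) (hψ : ψ ≫ f = f) [Flat ψ]
    (m : pullback f f ⟶ pullback f f) (hm₁ : m ≫ pullback.fst f f = pullback.fst f f ≫ ψ)
    (hm₂ : m ≫ pullback.snd f f = pullback.snd f f) (g : X ⟶ pullback f f)
    (hg₁ : g ≫ pullback.fst f f = 𝟙 X) (hg₂ : g ≫ pullback.snd f f = ψ)
    (δ : ↥(pullback f f) → ℤ) (hδ : Cyc.DeltaCompat (pullback.fst f f ≫ f) δ (fun _ => 0)) :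
    Cyc.pullFun m δ δ 0
        (Set.indicator ({pullback.diagonal f (genericPoint ↥X)} : Set ↥(pullback f f)) (fun _ => (1 : ℤ))) =
      Set.indicator ({g (genericPoint ↥X)} : Set ↥(pullback f f)) (fun _ => (1 : ℤ)) := by
  classical
  have hd1 : pullback.diagonal f ≫ pullback.fst f f = 𝟙 X := pullback.diagonal_fst f
  have hd2 : pullback.diagonal f ≫ pullback.snd f f = 𝟙 X := pullback.diagonal_snd f
  have w : g ≫ m = ψ ≫ pullback.diagonal f := by
    apply pullback.hom_ext <;> simp [Category.assoc, hm₁, hm₂, hg₂, reassoc_of% hg₁]
  have sq : IsPullback g ψ m (pullback.diagonal f) := IsPullback.of_isLimit' ⟨w⟩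
    (PullbackCone.IsLimit.mk w (fun s => s.fst ≫ pullback.fst f f)
      (fun s => by
        apply pullback.hom_ext
        · simp [hg₁]
        · have h1 := congrArg (· ≫ pullback.fst f f) s.condition
          have h2 := congrArg (· ≫ pullback.snd f f) s.condition
          simp [hm₁, hm₂, hd1, hd2, Category.assoc] at h1 h2
          simp [Category.assoc, hg₂, h1, h2])
      (fun s => by
        have h1 := congrArg (· ≫ pullback.fst f f) s.condition
        simp [hm₁, hd1, Category.assoc] at h1
        simp [Category.assoc, h1])
      (fun s l hl _ => by rw [← hl, Category.assoc, hg₁, Category.comp_id]))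
  haveI : IsClosedImmersion g := by
    haveI : IsClosedImmersion (g ≫ pullback.fst f f) := by rw [hg₁]; infer_instance
    exact IsClosedImmersion.of_comp g (pullback.fst f f)
  have hsq := fun (i : X ⟶ pullback f f) [IsClosedImmersion i] (hi : i ≫ pullback.fst f f = 𝟙 X) =>
    CycLib28.deltaCompat_square i (𝟙 (Spec (CommRingCat.of k))) f (pullback.fst f f ≫ f)
      (by rw [Category.comp_id, ← Category.assoc, hi, Category.id_comp]) hδ
  have hgd : (fun x => δ (g x)) = (fun x => δ (pullback.diagonal f x)) :=
    CycLib28.GraphPull.deltaCompat_unique f (hsq g hg₁) (hsq (pullback.diagonal f) hd1)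
  have hdim' : Cyc.IsDimFun X (fun x => δ (g x)) :=
    (CycLib28.PB.isSetup_of_deltaCompat f (CycLib28.isSetup_specField k) (hsq g hg₁)).2.2
  haveI : IsLocallyNoetherian X := LocallyOfFiniteType.isLocallyNoetherian f
  funext z
  by_cases hz : z ∈ Set.range g
  swap
  · rw [Set.indicator_of_notMem (fun h => hz ⟨_, (Set.mem_singleton_iff.1 h).symm⟩), Cyc.pullFun]
    split_ifs
    · rw [Set.indicator_of_notMem ?_, zero_mul]
      intro h
      obtain ⟨p, hp, -⟩ := Scheme.exists_preimage_of_isPullback sq z (genericPoint X) (Set.mem_singleton_iff.1 h)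
      exact hz ⟨p, hp⟩
    · rfl
  obtain ⟨x, rfl⟩ := hz
  rw [← CycLib28.PB.pullFun_closed_square m (pullback.diagonal f) sq δ δ 0 _ x]
  have hη : ψ (genericPoint X) = genericPoint X := by
    obtain ⟨y, hy, hy'⟩ := Groth.Agent.CycLim28.exists_specializes_of_flat ψ (genericPoint_specializes (ψ (genericPoint X)))
    rwa [show y = genericPoint X from (hy.antisymm (genericPoint_specializes y)).eq] at hy'
  simp only [Cyc.pullFun, ← hgd]
  by_cases hx : x = genericPoint X
  · subst hx
    rw [if_pos (by rw [hη, add_zero]; exact congrFun hgd _), Set.indicator_of_mem (show pullback.diagonal f (ψ (genericPoint X)) ∈ _ by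
      rw [hη]; exact Set.mem_singleton _), Set.indicator_of_mem (Set.mem_singleton _), one_mul]
    have h : CycLib28.lenFibre ψ (genericPoint X) = 1 := by
      unfold CycLib28.lenFibre
      rw [IsLocalRing.isField_iff_maximalIdeal_eq.1 (by rw [hη]; exact RefHullLib.isField_stalk_genericPoint),
        Ideal.map_bot, (Submodule.quotEquivOfEqBot (⊥ : Ideal (X.presheaf.stalk (genericPoint X))) rfl).length_eq,
        Module.length_eq_one_iff]
      letI := (RefHullLib.isField_stalk_genericPoint (X := X)).toField
      infer_instance
    simp only [CycLib28.lenFibre] at h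
    rw [h]; rfl
  · rw [Set.indicator_of_notMem (s := {g (genericPoint X)}) (fun h => hx (g.isEmbedding.injective (Set.mem_singleton_iff.1 h)))]
    split_ifs with h
    · rw [Set.indicator_of_notMem, zero_mul]
      intro h'
      rw [Set.mem_singleton_iff] at h'
      have e := (pullback.diagonal f).isEmbedding.injective h'
      rw [e, add_zero, ← congrFun hgd (genericPoint X)] at h
      simp only at h
      have := (hdim' (genericPoint X) x (genericPoint_specializes x) (Ne.symm hx)).1
      simp only at this
      omega
    · rfl
end Groth.Agent.S19419
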