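import Groth.Statements.S19422
import Mathlib.Algebra.Polynomial.Laurent

set_option backward.isDefEq.respectTransparency.types false
open TensorProduct

set_option autoImplicit false
universe u
open TensorProduct LaurentPolynomial
open GIT

namespace Groth.Agent.S19422

/-- Over an algebraically closed field k, let the multiplicative group, whose coordinate Hopf algebra is
the Laurent polynomial ring, act diagonally on affine ι-space, ι finite: the coaction on the
polynomial ring is multiplicative and sends the coordinate function X_i to X_i ⊗ T^(r_i) for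
integers r_i. Then a vector v is semistable (some invariant homogeneous polynomial of positive
degree does not vanish at v) if and only if there are indices i and j, possibly equal, with v_i ≠ 0,
v_j ≠ 0 and r_i ≤ 0 ≤ r_j, i.e. the origin lies in the convex hull of the weights of v. (Stated for
the ambient projective space on its affine cone; the published statement is for a point of a closed
invariant subvariety, whose semistability is that of the point in the ambient space.) -/
theorem result (k : Type u) [Field k] [IsAlgClosed k]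
    (ι : Type u) [Fintype ι] [HopfRep.Comod k k[T;T⁻¹] (MvPolynomial ι k)] [GLin.IsCoactAlg k k[T;T⁻¹] (MvPolynomial ι k)]
    (r : ι → ℤ)
    (hr : ∀ i : ι, HopfRep.Comod.coact (k := k) (A := k[T;T⁻¹]) (MvPolynomial.X i : MvPolynomial ι k) =
      (MvPolynomial.X i : MvPolynomial ι k) ⊗ₜ[k] (T (r i) : k[T;T⁻¹]))
    (v : ι → k) :
    GLin.IsSemistableVec k k[T;T⁻¹] v ↔ ∃ i j : ι, v i ≠ 0 ∧ v j ≠ 0 ∧ r i ≤ 0 ∧ 0 ≤ r j := by
  classical
  let wt : (ι →₀ ℕ) → ℤ := fun d => ∑ i, (d i : ℤ) * r i
  have hco : ∀ (d : ι →₀ ℕ) (c : k), GLin.coactAlgHom k k[T;T⁻¹] (MvPolynomial ι k) (MvPolynomial.monomial d c) =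
      MvPolynomial.monomial d c ⊗ₜ[k] (T (wt d) : k[T;T⁻¹]) := by
    intro d c
    induction d using Finsupp.induction_linear generalizing c with
    | zero =>
      rw [show MvPolynomial.monomial (0 : ι →₀ ℕ) c = c • (1 : MvPolynomial ι k) from by simp [MvPolynomial.smul_eq_C_mul], map_smul, map_one,
        Algebra.TensorProduct.one_def, TensorProduct.smul_tmul']
      simp [wt]
    | add f g hf hg =>
      rw [show MvPolynomial.monomial (f + g) c = MvPolynomial.monomial f c * MvPolynomial.monomial g (1 : k) from by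
        rw [MvPolynomial.monomial_mul, _root_.mul_one], map_mul, hf, hg, Algebra.TensorProduct.tmul_mul_tmul]
      congr 1
      rw [← LaurentPolynomial.T_add]
      congr 1
      simp [wt, add_mul, Finset.sum_add_distrib]
    | single i m =>
      rw [show MvPolynomial.monomial (Finsupp.single i m) c = c • (MvPolynomial.X i : MvPolynomial ι k) ^ m from by
        rw [MvPolynomial.X_pow_eq_monomial, MvPolynomial.smul_monomial, smul_eq_mul, _root_.mul_one],
        map_smul, map_pow, GLin.coactAlgHom_apply, hr, Algebra.TensorProduct.tmul_pow, LaurentPolynomial.T_pow,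
        TensorProduct.smul_tmul']
      congr 2
      simp [wt, Finsupp.single_apply]
  have hinv : ∀ F : MvPolynomial ι k, F ∈ GLin.invariants k k[T;T⁻¹] (MvPolynomial ι k) → ∀ d, F.coeff d ≠ 0 → wt d = 0 := by
    intro F hF d hd
    have h1 : ∀ G : MvPolynomial ι k, TensorProduct.lid k k[T;T⁻¹] ((MvPolynomial.lcoeff k d).rTensor k[T;T⁻¹]
        (GLin.coactAlgHom k k[T;T⁻¹] (MvPolynomial ι k) G)) = G.coeff d • (T (wt d) : k[T;T⁻¹]) := by
      intro G
      induction G using MvPolynomial.induction_on' with
      | monomial d' c =>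
        rw [hco, LinearMap.rTensor_tmul, TensorProduct.lid_tmul, MvPolynomial.lcoeff_apply, MvPolynomial.coeff_monomial]
        split_ifs with h
        · rw [h]
        · rw [zero_smul, zero_smul]
      | add p q hp hq => simp only [map_add, hp, hq, MvPolynomial.coeff_add, add_smul]
    have h2 := h1 F
    rw [GLin.coactAlgHom_apply, hF, LinearMap.rTensor_tmul, TensorProduct.lid_tmul, MvPolynomial.lcoeff_apply] at h2
    have h3 : (AddMonoidAlgebra.single 0 1 : k[T;T⁻¹]) = AddMonoidAlgebra.single (wt d) 1 := smul_right_injective _ hd h2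
    exact ((AddMonoidAlgebra.single_left_inj (one_ne_zero (α := k))).1 h3).symm
  constructor
  · intro h
    simp only [GLin.IsSemistableVec, GLin.IsNullform, not_forall] at h
    obtain ⟨F, hF, n, hn, hhom, hev⟩ := h
    rw [MvPolynomial.eval_eq'] at hev
    obtain ⟨d, hd, hdv⟩ := Finset.exists_ne_zero_of_sum_ne_zero hev
    have hc : F.coeff d ≠ 0 := MvPolynomial.mem_support_iff.1 hd
    have hw := hinv F hF d hc
    have hsupp : ∀ i, d i ≠ 0 → v i ≠ 0 := fun i hi hv => hdv (by
      rw [Finset.prod_eq_zero (Finset.mem_univ i) (by rw [hv, zero_pow hi]), mul_zero])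
    obtain ⟨i₀, hi₀⟩ : ∃ i, d i ≠ 0 := by
      by_contra! hall
      have h4 := hhom hc
      rw [show d = 0 from Finsupp.ext fun i => hall i] at h4
      simp at h4
      omega
    have key : ∀ s : ι → ℤ, (∀ i, d i ≠ 0 → 0 < s i) → ∑ i, (d i : ℤ) * s i ≠ 0 := fun s hs => by
      refine ne_of_gt (Finset.sum_pos' (fun i _ => ?_) ⟨i₀, Finset.mem_univ _, ?_⟩)
      · rcases Nat.eq_zero_or_pos (d i) with h0 | h0
        · simp [h0]
        · exact mul_nonneg (by positivity) (hs i h0.ne').le
      · exact mul_pos (by exact_mod_cast Nat.pos_of_ne_zero hi₀) (hs i₀ hi₀)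
    obtain ⟨i, hi, hri⟩ : ∃ i, d i ≠ 0 ∧ r i ≤ 0 := by
      by_contra! hall
      exact key r hall hw
    obtain ⟨j, hj, hrj⟩ : ∃ j, d j ≠ 0 ∧ 0 ≤ r j := by
      by_contra! hall
      refine key (fun i => -r i) (fun i hi => neg_pos.2 (hall i hi)) ?_
      simp only [mul_neg, Finset.sum_neg_distrib]
      exact neg_eq_zero.2 hw
    exact ⟨i, j, hsupp i hi, hsupp j hj, hri, hrj⟩
  · rintro ⟨i, j, hi, hj, hri, hrj⟩ hnull
    obtain ⟨a, b, hab, hw⟩ : ∃ a b : ℕ, 0 < a + b ∧ (a : ℤ) * r i + (b : ℤ) * r j = 0 := by
      by_cases h0 : r i = 0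
      · exact ⟨1, 0, by omega, by simp [h0]⟩
      · exact ⟨(r j).toNat, (-r i).toNat, by omega, by
          rw [Int.toNat_of_nonneg hrj, Int.toNat_of_nonneg (by omega)]; ring⟩
    let d : ι →₀ ℕ := Finsupp.single i a + Finsupp.single j b
    refine mul_ne_zero (pow_ne_zero a hi) (pow_ne_zero b hj) ?_
    have hwd : wt d = 0 := by
      simp only [wt, d, Finsupp.add_apply, Nat.cast_add, add_mul, Finset.sum_add_distrib]
      simpa [Finsupp.single_apply] using hw
    have h1 : MvPolynomial.monomial d (1 : k) ∈ GLin.invariants k k[T;T⁻¹] (MvPolynomial ι k) := by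
      show HopfRep.Comod.coact _ = _
      rw [← GLin.coactAlgHom_apply, hco, hwd, LaurentPolynomial.T_zero]
    have h2 := hnull _ h1 (a + b) hab (MvPolynomial.isHomogeneous_monomial _ (by simp [d]))
    rwa [show MvPolynomial.monomial d (1 : k) = MvPolynomial.X i ^ a * MvPolynomial.X j ^ b by
      simp [d, MvPolynomial.X_pow_eq_monomial], map_mul, map_pow, map_pow, MvPolynomial.eval_X, MvPolynomial.eval_X] at h2

end Groth.Agent.S19422
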