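import Groth.Statements.S19423
import Mathlib.RingTheory.Spectrum.Prime.Topology
import Mathlib.Algebra.Polynomial.Laurent
import Mathlib.RingTheory.Finiteness.Basic
set_option backward.isDefEq.respectTransparency.types false

set_option autoImplicit false
universe u
open TensorProduct LaurentPolynomial
open GIT
open scoped TensorProduct

namespace Groth.Agent.S19423

/-- Over an algebraically closed field k, let the multiplicative group, whose coordinate Hopf algebra is
the Laurent polynomial ring, act diagonally on affine ι-space, ι finite: the coaction on the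
polynomial ring is multiplicative and sends the coordinate function X_i to X_i ⊗ T^(r_i) for
integers r_i. Then a vector v is stable (the orbit of the point v of affine space is closed and its
stabiliser is a finite group scheme) if and only if there are indices i and j with v_i ≠ 0, v_j ≠ 0
and r_i < 0 < r_j, i.e. the origin is an interior point of the convex hull of the weights of v.
(Stated for the ambient projective space on its affine cone, where stability means a closed orbit
with finite stabiliser in the cone.) -/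
theorem result (k : Type u) [Field k] [IsAlgClosed k]
    (ι : Type u) [Fintype ι] [HopfRep.Comod k k[T;T⁻¹] (MvPolynomial ι k)] [GLin.IsCoactAlg k k[T;T⁻¹] (MvPolynomial ι k)]
    (r : ι → ℤ)
    (hr : ∀ i : ι, HopfRep.Comod.coact (k := k) (A := k[T;T⁻¹]) (MvPolynomial.X i : MvPolynomial ι k) =
      (MvPolynomial.X i : MvPolynomial ι k) ⊗ₜ[k] (T (r i) : k[T;T⁻¹]))
    (v : ι → k) :
    GLin.IsStableVec k k[T;T⁻¹] v ↔ ∃ i j : ι, v i ≠ 0 ∧ v j ≠ 0 ∧ r i < 0 ∧ 0 < r j := by
  classical
  obtain ⟨φ, hφdef⟩ : ∃ φ, φ = GLin.orbitHom k k[T;T⁻¹] (GLin.vecPt k ι v) := ⟨_, rfl⟩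
  have hX : ∀ i, φ (MvPolynomial.X i) = v i • (T (r i) : k[T;T⁻¹]) := fun i => by
    rw [hφdef]
    simp [GLin.orbitHom, GLin.coactAlgHom_apply, hr, GLin.vecPt]
  constructor
  · rintro ⟨hclosed, hfin⟩
    by_contra hne
    push Not at hne
    obtain ⟨e, hsign⟩ : ∃ e : k[T;T⁻¹] ≃ₐ[k] k[T;T⁻¹], ∀ i, v i ≠ 0 →
        e (T (r i)) = Polynomial.toLaurentAlg (Polynomial.X ^ (r i).natAbs : Polynomial k) := by
      by_cases hpos : ∀ i, v i ≠ 0 → 0 ≤ r i
      · refine ⟨AlgEquiv.refl, fun i hi => ?_⟩
        simp [Polynomial.toLaurentAlg_apply, abs_of_nonneg (hpos i hi)]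
      · push Not at hpos
        obtain ⟨i₀, hi₀, hr₀⟩ := hpos
        refine ⟨LaurentPolynomial.invert, fun i hi => ?_⟩
        have := hne i₀ i hi₀ hi hr₀
        simp [Polynomial.toLaurentAlg_apply, abs_of_nonpos this]
    by_cases hall : ∀ i, v i ≠ 0 → r i = 0
    · have hconst : φ = (Algebra.ofId k k[T;T⁻¹]).comp (GLin.vecPt k ι v) := MvPolynomial.algHom_ext fun i => by
        rw [hX, AlgHom.comp_apply, GLin.vecPt, MvPolynomial.aeval_X, Algebra.ofId_apply, Algebra.algebraMap_eq_smul_one]
        by_cases hi : v i = 0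
        · simp [hi]
        · rw [hall i hi, LaurentPolynomial.T_zero]
      have hI : GLin.stabIdeal k k[T;T⁻¹] (GLin.vecPt k ι v) = ⊥ := by
        rw [GLin.stabIdeal, ← hφdef, Ideal.map_eq_bot_iff_le_ker]
        intro f hf
        rw [RingHom.mem_ker, hconst]
        show algebraMap k k[T;T⁻¹] (GLin.vecPt k ι v f) = 0
        rw [show GLin.vecPt k ι v f = 0 from hf, map_zero]
      rw [GLin.HasFiniteStab, hI] at hfin
      haveI : Module.Finite k k[T;T⁻¹] :=
        Module.Finite.equiv ((AlgEquiv.quotientBot k k[T;T⁻¹]).toLinearEquiv)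
      have := (AddMonoidAlgebra.basis ℤ k).linearIndependent.finite
      exact not_finite ℤ
    push Not at hall
    obtain ⟨j, hj, hrj⟩ := hall
    obtain ⟨P, hP⟩ : ∃ P : MvPolynomial ι k →ₐ[k] Polynomial k,
        P = MvPolynomial.aeval (fun i => v i • (Polynomial.X ^ (r i).natAbs : Polynomial k)) := ⟨_, rfl⟩
    have hPφ : (e : k[T;T⁻¹] →ₐ[k] k[T;T⁻¹]).comp φ = (Polynomial.toLaurentAlg (R := k)).comp P :=
      MvPolynomial.algHom_ext fun i => by
        rw [AlgHom.comp_apply, AlgHom.comp_apply, hX, hP, MvPolynomial.aeval_X, map_smul, map_smul]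
        by_cases hi : v i = 0
        · simp [hi]
        · congr 1
          exact hsign i hi
    obtain ⟨y, hy⟩ : ∃ y : MvPolynomial ι k →ₐ[k] k, y = (Polynomial.aeval (0 : k)).comp P := ⟨_, rfl⟩
    let q : PrimeSpectrum (MvPolynomial ι k) := ⟨RingHom.ker y.toRingHom, RingHom.ker_isPrime _⟩
    have hq : q ∈ closure (Set.range (PrimeSpectrum.comap φ.toRingHom)) := by
      rw [PrimeSpectrum.closure_range_comap, PrimeSpectrum.mem_zeroLocus]
      intro f hf
      have h1 : Polynomial.toLaurentAlg (R := k) (P f) = 0 := by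
        have := congrArg (fun g => g f) hPφ
        simp only [AlgHom.comp_apply] at this
        rw [← this, show φ f = 0 from RingHom.mem_ker.1 hf, map_zero]
      show y f = 0
      rw [hy, AlgHom.comp_apply, Polynomial.toLaurent_injective (h1.trans (map_zero Polynomial.toLaurent).symm), map_zero]
    rw [hφdef] at hq
    obtain ⟨p, hp⟩ := hclosed.closure_eq ▸ hq
    have hXj : (MvPolynomial.X j : MvPolynomial ι k) ∈ q.asIdeal := by
      show y (MvPolynomial.X j) = 0
      rw [hy, AlgHom.comp_apply, hP, MvPolynomial.aeval_X, map_smul, map_pow, Polynomial.aeval_X,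
        zero_pow (Int.natAbs_ne_zero.2 hrj), smul_zero]
    rw [← hp] at hXj
    have hmem : φ (MvPolynomial.X j) ∈ p.asIdeal := by rw [hφdef]; exact hXj
    refine p.2.ne_top (Ideal.eq_top_of_isUnit_mem _ hmem ?_)
    rw [hX, Algebra.smul_def]
    exact ((isUnit_iff_ne_zero.2 hj).map _).mul (LaurentPolynomial.isUnit_T _)
  · rintro ⟨i, j, hi, hj, hri, hrj⟩
    have hgen : ∀ (l : ι) (n : ℕ), v l ≠ 0 → ∀ (S : Subalgebra k k[T;T⁻¹]),
        φ (MvPolynomial.X l) ∈ S → (T (r l) : k[T;T⁻¹]) ^ n ∈ S := fun l n hl S hS => by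
      refine pow_mem ?_ _
      have := S.smul_mem hS (v l)⁻¹
      rwa [hX, inv_smul_smul₀ hl] at this
    letI : Algebra (MvPolynomial ι k) k[T;T⁻¹] := φ.toRingHom.toAlgebra
    haveI : IsScalarTower k (MvPolynomial ι k) k[T;T⁻¹] := IsScalarTower.of_algebraMap_eq fun c => (φ.commutes c).symm
    have hint : ∀ z : ℤ, IsIntegral (MvPolynomial ι k) (T z : k[T;T⁻¹]) := by
      have key : ∀ (l : ι) (m : ℤ), v l ≠ 0 → ∀ n : ℕ, 0 < n → m * n = r l → IsIntegral (MvPolynomial ι k) (T m : k[T;T⁻¹]) := by
        intro l m hl n hn hmn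
        refine IsIntegral.of_pow hn ?_
        obtain ⟨c, hc⟩ : ∃ c : MvPolynomial ι k, φ c = T (r l) := ⟨(v l)⁻¹ • MvPolynomial.X l, by
          rw [map_smul, hX, inv_smul_smul₀ hl]⟩
        rw [LaurentPolynomial.T_pow, mul_comm, hmn, ← hc]
        exact isIntegral_algebraMap
      intro z
      rcases le_total 0 z with hz | hz
      · have := (key j 1 hj (r j).toNat (by omega) (by omega)).pow z.toNat
        rwa [LaurentPolynomial.T_pow, Int.toNat_of_nonneg hz, _root_.mul_one] at this
      · have := (key i (-1) hi (-r i).toNat (by omega) (by omega)).pow (-z).toNat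
        rwa [LaurentPolynomial.T_pow, Int.toNat_of_nonneg (by omega), mul_neg, _root_.mul_one, neg_neg] at this
    have hall : Algebra.IsIntegral (MvPolynomial ι k) k[T;T⁻¹] := ⟨fun f => by
      induction f using LaurentPolynomial.induction_on' with
      | add p q hp hq => exact hp.add hq
      | C_mul_T n a =>
        have e : (LaurentPolynomial.C a : k[T;T⁻¹]) = algebraMap (MvPolynomial ι k) k[T;T⁻¹] (MvPolynomial.C a) :=
          (φ.commutes a).symm
        rw [e]
        exact isIntegral_algebraMap.mul (hint n)⟩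
    refine ⟨?_, ?_⟩
    · rw [GLin.IsClosedOrbit, ← hφdef]
      exact (PrimeSpectrum.isClosedMap_comap_of_isIntegral φ.toRingHom (fun f => hall.isIntegral f)).isClosed_range
    · rw [GLin.HasFiniteStab]
      let I := GLin.stabIdeal k k[T;T⁻¹] (GLin.vecPt k ι v)
      have hmk : ∀ c : MvPolynomial ι k, Ideal.Quotient.mk I (φ c) = algebraMap k _ (GLin.vecPt k ι v c) := by
        intro c
        show Ideal.Quotient.mk I (φ c) = Ideal.Quotient.mk I (algebraMap k k[T;T⁻¹] (GLin.vecPt k ι v c))
        rw [← φ.commutes, Ideal.Quotient.eq, ← map_sub, hφdef]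
        exact Ideal.mem_map_of_mem _ (RingHom.mem_ker.2 (by simp))
      haveI : Algebra.IsIntegral k (k[T;T⁻¹] ⧸ I) := ⟨fun z => by
        obtain ⟨f, rfl⟩ := Ideal.Quotient.mk_surjective z
        obtain ⟨P, hP, hP0⟩ := hall.isIntegral f
        refine ⟨P.map (GLin.vecPt k ι v : MvPolynomial ι k →+* k), hP.map _, ?_⟩
        have h0 := congrArg (Ideal.Quotient.mk I) hP0
        rw [map_zero, Polynomial.hom_eval₂] at h0
        rw [Polynomial.eval₂_map]
        have hh : (algebraMap k (k[T;T⁻¹] ⧸ I)).comp (GLin.vecPt k ι v : MvPolynomial ι k →+* k) =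
            (Ideal.Quotient.mk I).comp (algebraMap (MvPolynomial ι k) k[T;T⁻¹]) := RingHom.ext fun d => (hmk d).symm
        exact (congrArg (fun g => Polynomial.eval₂ g (Ideal.Quotient.mk I f) P) hh).trans h0⟩
      exact Algebra.IsIntegral.finite

end Groth.Agent.S19423
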