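import Groth.Statements.S19426
import Groth.Agent.AlgGrpLib.StabDim
import Groth.Agent.SGA3cLib.NeutralDim
set_option backward.isDefEq.respectTransparency.types false

set_option autoImplicit false
universe u
open CategoryTheory MonoidalCategory CartesianMonoidalCategory MonObj AlgebraicGeometry Topology
open GIT

namespace Groth.Agent.S19426

/-- Let k be an algebraically closed field, G an affine group scheme of finite type over k acting on a
k-scheme X locally of finite type, and for a point x of X let G_x denote its stabiliser, the group
scheme over the residue field of x obtained as the fibre of (g, t) ↦ (g · x(t), t) over (x, id).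
Then for every n the set of points x of X with dim G_x ≥ n is closed: the stabiliser dimension is an
upper semicontinuous function on X. (Stated at all points of the scheme X; the published statement
is for the closed points of a variety, and also phrases it through the orbit dimension dim G − dim
G_x, which is not restated here.) -/
theorem result
    (k : Type u) [Field k] [IsAlgClosed k]
    (G X : Over (Spec (CommRingCat.of k))) [GrpObj G] [IsAffine G.left] [LocallyOfFiniteType G.hom]
    [LocallyOfFiniteType X.hom]
    (a : AlgGrp.Action G X) (n : WithBot ℕ∞) :
    IsClosed {x : X.left | n ≤ topologicalKrullDim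
      (GLinSh.stab a (Over.homMk (X.left.fromSpecResidueField x) rfl :
        Over.mk (X.left.fromSpecResidueField x ≫ X.hom) ⟶ X))} := by
  obtain ⟨N, inst, j, hj, -, hpb⟩ := AlgGrpLib.StabDim.exists_stab_scheme a
  haveI : LocallyOfFiniteType N.hom := by
    refine MorphismProperty.of_isPullback (P := @LocallyOfFiniteType) hpb ?_
    haveI : LocallyOfFiniteType (G ⊗ X).hom :=
      inferInstanceAs (LocallyOfFiniteType (Limits.pullback.fst G.hom X.hom ≫ G.hom))
    haveI : LocallyOfFiniteType ((CartesianMonoidalCategory.lift a.act (CartesianMonoidalCategory.snd G X)).left ≫ (X ⊗ X).hom) := by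
      rw [Over.w]; infer_instance
    exact locallyOfFiniteType_of_comp _ (X ⊗ X).hom
  have key : ∀ x : X.left, topologicalKrullDim
      (GLinSh.stab a (Over.homMk (X.left.fromSpecResidueField x) rfl :
        Over.mk (X.left.fromSpecResidueField x ≫ X.hom) ⟶ X)) = topologicalKrullDim ↥(N.hom.base ⁻¹' {x}) := by
    intro x
    obtain ⟨q, hq⟩ := AlgGrpLib.StabDim.isPullback_stab a j hpb
      (Over.homMk (X.left.fromSpecResidueField x) rfl : Over.mk (X.left.fromSpecResidueField x ≫ X.hom) ⟶ X)
    have hq' : IsPullback q (GLinSh.stabTo a (Over.homMk (X.left.fromSpecResidueField x) rfl :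
        Over.mk (X.left.fromSpecResidueField x ≫ X.hom) ⟶ X)) N.hom (X.left.fromSpecResidueField x) := hq
    exact (hq'.isoPullback.hom.homeomorph.trans (N.hom.fiberHomeo x)).isHomeomorph.topologicalKrullDim_eq
  simp only [key]
  exact upperSemicontinuous_iff_isClosed_preimage.1 (SGA3cLib.NeutralDim.upperSemicontinuous_dim N) n

end Groth.Agent.S19426
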