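import Groth.Statements.S1943
import Groth.Agent.CAlgH.KoszulEuler.Applications

set_option autoImplicit false
universe u
open CategoryTheory
open IntMult

namespace Groth.Agent.S1943

/-- Let A be a Noetherian local ring, f₁, …, f_r elements generating an ideal of definition I (𝔪^n ⊆ I ⊆
𝔪 for some n) and M a finite A-module. Then r! · length_A(M/I^t M)/t^r tends, as t → ∞, to Σ_i
(−1)^i length_A H^i(K(f₁, …, f_r) ⊗_A M), the Euler characteristic of the Koszul complex tensored
with M (cohomological indexing, degrees −r, …, 0); that is, e_I(M, r) equals that alternating sum.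
The Koszul complex is the shared prelude's mapping-cone model. -/
theorem result (A : Type u) [CommRing A] [IsNoetherianRing A] [IsLocalRing A] (r : ℕ) (f : Fin r → A) (hI : Ideal.span (Set.range f) ≤ IsLocalRing.maximalIdeal A ∧ ∃ n : ℕ, IsLocalRing.maximalIdeal A ^ n ≤ Ideal.span (Set.range f)) (M : Type u) [AddCommGroup M] [Module A M] [Module.Finite A M] : Filter.Tendsto (fun t : ℕ => (r.factorial : ℝ) * ((Module.length A (M ⧸ (Ideal.span (Set.range f) ^ t • (⊤ : Submodule A M)))).toNat : ℝ) / (t : ℝ) ^ r) Filter.atTop (nhds ((∑ᶠ i : ℤ, ((i.negOnePow : ℤˣ) : ℤ) * ((Module.length A ((DRing.tensorCx (Koszul.koszul A (List.ofFn f)) (ModuleCat.of A M)).homology i)).toNat : ℤ) : ℤ) : ℝ)) := by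
  rw [Groth.Agent.CAlgH.KoszulEuler.finsum_tensor_eq_chi]
  have hmax := Groth.Agent.CAlgH.KoszulEuler.isFiniteLength_quotient_pow_maximal (A := A) M hI.2.choose
  have hfl : IsFiniteLength A (M ⧸ (Ideal.ofList (List.ofFn f) • (⊤ : Submodule A M))) := by
    rw [Groth.Agent.CAlgH.KoszulEuler.ofList_ofFn]
    exact IsFiniteLength.of_surjective hmax
      (f := Submodule.factor (Submodule.smul_mono_left hI.2.choose_spec)) (Submodule.factor_surjective _)
  have h := Groth.Agent.CAlgH.KoszulEuler.tendsto_chi (ModuleCat.of A M) (List.ofFn f) hfl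
  rw [List.length_ofFn] at h
  have e : Ideal.ofList (List.ofFn f) = Ideal.span (Set.range f) := Groth.Agent.CAlgH.KoszulEuler.ofList_ofFn f
  rw [← e]
  exact h
end Groth.Agent.S1943
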