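import Groth.Statements.S19430
import Groth.Agent.KPB28.Main
set_option backward.isDefEq.respectTransparency false
set_option linter.style.haveILetI false

set_option autoImplicit false
universe u
open SGA6 Groth.Agent
open CategoryTheory CategoryTheory.Limits AlgebraicGeometry

namespace Groth.Agent.S19430

open CategoryTheory CategoryTheory.Limits AlgebraicGeometry in
/-- For Grothendieck groups of vector bundles (the degree-zero case of the statement), let T be a
quasi-compact scheme, E a finite locally free O_T-module of rank r, and (π : P ⟶ T, O(1), q) a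
projective bundle P(E) of E, characterised by its universal property for invertible quotients of
pull-backs of E; let O(-1) be an inverse of the invertible module O(1). For each i < r let G_i be an
additive map from K₀ of the finite locally free O_T-modules to K₀ of the finite locally free
O_P-modules with G_i [N] = [O(-1)^{⊗ i} ⊗ π^* N] for every finite locally free N (the K₀(T)-module
structure of K₀(P) through π^* and the powers of t = [O(-1)]). Then (a_0, …, a_{r-1}) ↦ Σ_i G_i
(a_i) is a bijection from K₀(T)^r onto K₀(P): K₀(P) is free over K₀(T) on 1, t, …, t^{r-1}. No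
Noetherian or connectedness hypothesis on T. -/
theorem result (T P : Scheme.{u}) [CompactSpace T]
    (r : ℕ) (E : T.Modules) (hE : FlatMod.IsFinLocFreeOfRank r E)
    (π : P ⟶ T) (O1 : P.Modules) (q : (Scheme.Modules.pullback π).obj E ⟶ O1) (hPB : KRR.IsProjBundle π E O1 q)
    (Oinv : P.Modules) (hinv : ClSub.IsInverseOf Oinv O1)
    (G : Fin r → (SGA6.Kvb T →+ SGA6.Kvb P))
    (hG : ∀ (i : Fin r) (N : T.Modules), FlatMod.IsFinLocFree N →
      G i (KRR.cl T N) = KRR.cl P (CohB1.tensorMod (CohB1.tensorPow Oinv (i : ℕ)) ((Scheme.Modules.pullback π).obj N))) :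
    Function.Bijective (fun a : Fin r → SGA6.Kvb T => ∑ i : Fin r, G i (a i)) := by
  classical
  rcases r with - | r
  · haveI := hPB.epi
    haveI : IsEmpty ↥P := by
      by_contra hne
      rw [not_isEmpty_iff] at hne
      have hz : IsZero O1 := IsZero.of_epi q
        ((Scheme.Modules.pullback π).map_isZero (KModel28.isZero_of_rank_zero hE))
      exact one_ne_zero (KModel28.rank_unique hPB.invertible (KModel28.rank_iso
        (KModel28.freeMod_zero_isZero.iso hz) (VarietyLib.isFinLocFreeOfRank_freeMod 0)))
    haveI : Subsingleton (SGA6.Kvb P) := ⟨fun a b => by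
      have h : ∀ x : SGA6.Kvb P, x = 0 := fun x => by
        refine KvbLam28.kvb_induction (P := fun x => x = 0) rfl (fun F _ => ?_) ?_ ?_ x
        · exact KModel28.cl_isZero (KModel28.isZero_of_rank_zero fun y => isEmptyElim y)
        · intro a h; rw [h, neg_zero]
        · intro a b ha hb; rw [ha, hb, add_zero]
      rw [h a, h b]⟩
    exact ⟨fun a b _ => funext fun i => i.elim0, fun b => ⟨fun i => i.elim0, Subsingleton.elim _ _⟩⟩
  · refine KPB28.bijective_powers hE hPB hinv 0 G fun i N hN => (hG i N hN).trans ?_
    have e0 : KPB28.OP O1 Oinv (0 - ((i : ℕ) : ℤ)) ≅ CohB1.tensorPow Oinv (i : ℕ) :=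
      eqToIso (by rw [KPB28.OP, show (0 - ((i : ℕ) : ℤ)).toNat = 0 by omega,
        show (-(0 - ((i : ℕ) : ℤ))).toNat = (i : ℕ) by omega]; rfl) ≪≫ AmpleLib.unitTensorIso _
    exact ExtFilt28.clv_iso (AmpleLib.tensorIso e0.symm (Iso.refl _))

end Groth.Agent.S19430
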