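import Groth.Statements.S19433
import Groth.Agent.CycLib28.RegTwist
import Groth.Agent.Coherent.RpushComp

set_option autoImplicit false
universe u
open KRR

namespace Groth.Agent.S19433

open CategoryTheory CategoryTheory.Limits AlgebraicGeometry in
/-- Let T be any scheme, p : P^n_T ⟶ T the projection, and 0 ⟶ F' ⟶ F ⟶ F'' ⟶ 0 a short exact sequence
of quasi-coherent O-modules on P^n_T; 'regular' means regular relative to p in the sense of
Castelnuovo and Mumford, R^i p_*(G(-i)) = 0 for all i ≥ 1 (higher direct images of the underlying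
abelian sheaves), and G(d) = O(d) ⊗ G. If F(1) and F'' are regular and the induced map p_* F ⟶ p_*
F'' is an epimorphism of O_T-modules, then F'(1) is regular. The source states this for m-regularity
of the twists F(n+1), F''(n), F'(n+1), with p_*(F(n)) ⟶ p_*(F''(n)) onto, over the projective bundle
of any vector bundle; stated here for m = 0, n = 0 and P^n_T. -/
theorem result (n : ℕ) (T : Scheme.{u}) (S : ShortComplex (KRR.PY n T).Modules)
    (hS : S.ShortExact) (h₁ : Coh.IsQCoh S.X₁) (h₂ : Coh.IsQCoh S.X₂) (h₃ : Coh.IsQCoh S.X₃)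
    (hreg₂ : KRR.IsRegSheaf n T (KRR.twF n T 1 S.X₂)) (hreg₃ : KRR.IsRegSheaf n T S.X₃)
    (hepi : Epi ((Scheme.Modules.pushforward (KRR.pr n T)).map S.g)) :
    KRR.IsRegSheaf n T (KRR.twF n T 1 S.X₁) := by
  intro i hi
  obtain ⟨j, rfl⟩ := Nat.exists_eq_add_of_le' hi
  let R := fun (m : ℕ) (G : (KRR.PY n T).Modules) =>
    ((Coh.pushAb (KRR.pr n T)).rightDerived m).obj ((Groth.Agent.Coherent.toAbFunctor _).obj G)
  have tr : ∀ (m : ℕ) {G G' : (KRR.PY n T).Modules}, Nonempty (G ≅ G') → IsZero (R m G) → IsZero (R m G') := by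
    intro m G G' e h
    obtain ⟨e⟩ := e
    exact h.of_iso (((Coh.pushAb (KRR.pr n T)).rightDerived m).mapIso
      ((Groth.Agent.Coherent.toAbFunctor _).mapIso e.symm))
  have e₁ := Groth.Agent.CM28.nonempty_twF_twF S.X₁ (show (-((j + 1 : ℕ) : ℤ)) + 1 = -(j : ℤ) by push_cast; ring)
  have e₂ := Groth.Agent.CM28.nonempty_twF_twF S.X₂ (show (-((j + 1 : ℕ) : ℤ)) + 1 = -(j : ℤ) by push_cast; ring)
  refine tr (j + 1) (e₁.map Iso.symm) ?_
  have h₂ := tr (j + 1) e₂ (hreg₂ (j + 1) hi)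
  rcases Nat.eq_zero_or_pos j with rfl | hj
  · have z₁ : Nonempty (KRR.twF n T (-((0 : ℕ) : ℤ)) S.X₁ ≅ S.X₁) := Groth.Agent.CM28.nonempty_twF_zero S.X₁
    have z₂ : Nonempty (KRR.twF n T (-((0 : ℕ) : ℤ)) S.X₂ ≅ S.X₂) := Groth.Agent.CM28.nonempty_twF_zero S.X₂
    refine tr 1 (z₁.map Iso.symm) ?_
    haveI : Epi ((Coh.pushAb (KRR.pr n T)).map (S.map (Groth.Agent.Coherent.toAbFunctor _)).g) :=
      Groth.Agent.Coherent.epi_toAbFunctor_map ((Scheme.Modules.pushforward (KRR.pr n T)).map S.g) (h := hepi)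
    haveI : PreservesFiniteLimits (Coh.pushAb (KRR.pr n T)) :=
      Groth.Agent.SiteCoh.pushTop_preservesFiniteLimits (X := (KRR.PY n T).toTopCat) (Y := T.toTopCat) (KRR.pr n T).base
    exact Groth.Agent.CM28.isZero_X₁_one (Coh.pushAb (KRR.pr n T)) (Groth.Agent.Coherent.toAb_shortExact hS)
      (tr 1 z₂ h₂)
  · exact Groth.Agent.CM28.isZero_X₁ (Coh.pushAb (KRR.pr n T)) (Groth.Agent.CM28.twF_shortExact hS (-(j : ℤ))) j
      h₂ (hreg₃ j hj)
end Groth.Agent.S19433
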