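import Groth.Statements.S19436
import Mathlib.Algebra.Category.ModuleCat.Abelian
import Mathlib.CategoryTheory.Limits.Shapes.Countable
import Mathlib.CategoryTheory.Limits.Types.Pullbacks
import Mathlib.Dynamics.Newton
import Mathlib.Order.CompletePartialOrder
import Mathlib.RingTheory.AdicCompletion.Noetherian
import Mathlib.RingTheory.Etale.Weakly
import Mathlib.RingTheory.Flat.TorsionFree
import Mathlib.RingTheory.Ideal.AssociatedPrime.Localization
import Mathlib.RingTheory.PicardGroup
import Mathlib.RingTheory.PowerSeries.NoZeroDivisors
import Mathlib.RingTheory.PowerSeries.Trunc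
import Mathlib.RingTheory.TotallySplit
import Mathlib.Tactic
import Groth.Agent.CommAlg4.Nilpotent
import Groth.Agent.S14020

set_option linter.all false

set_option autoImplicit false
universe u
open CAlg

open CategoryTheory

namespace Groth.Agent.S19436

/-- For a Noetherian local commutative algebra R over a field k, with maximal ideal M, and an ideal I of
R whose quotient R/I is finite-dimensional over k of dimension n, the power M^n lies in I. -/
theorem result (k : Type u) [Field k] (R : Type u) [CommRing R]
    [Algebra k R] [IsNoetherianRing R] [IsLocalRing R] (I : Ideal R) [Module.Finite k (R ⧸ I)] (n : ℕ)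
    (hn : Module.finrank k (R ⧸ I) = n) : IsLocalRing.maximalIdeal R ^ n ≤ I := by
  let V : ℕ → Submodule k (R ⧸ I) := fun i => Submodule.restrictScalars k ((IsLocalRing.maximalIdeal R ^ i).map (Ideal.Quotient.mk I))
  have step : ∀ i, IsLocalRing.maximalIdeal R ^ i ≤ I ∨ Module.finrank k (V (i+1)) < Module.finrank k (V i) := by
    intro i
    by_cases he : V (i+1) = V i
    · left
      let N : Submodule R (R ⧸ I) := Submodule.restrictScalars R ((IsLocalRing.maximalIdeal R ^ i).map (Ideal.Quotient.mk I))
      have h1 : N ≤ IsLocalRing.maximalIdeal R • N := by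
        intro x hx
        have hx' : x ∈ V (i+1) := he ▸ hx
        obtain ⟨r, hr, rfl⟩ := (Ideal.mem_map_iff_of_surjective (Ideal.Quotient.mk I) Ideal.Quotient.mk_surjective).mp hx'
        rw [pow_succ'] at hr
        clear hx hx'
        induction hr using Submodule.mul_induction_on' with
        | mem_mul_mem a ha b hb => rw [map_mul]; exact Submodule.smul_mem_smul ha (show Ideal.Quotient.mk I b ∈ N from Ideal.mem_map_of_mem _ hb)
        | add a _ b _ ha hb => rw [map_add]; exact add_mem ha hb
      have hN : N = ⊥ := Submodule.eq_bot_of_le_smul_of_le_jacobson_bot (IsLocalRing.maximalIdeal R) N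
        (IsNoetherian.noetherian N) h1 (IsLocalRing.maximalIdeal_le_jacobson _)
      intro r hr
      have : Ideal.Quotient.mk I r ∈ N := Ideal.mem_map_of_mem _ hr
      rw [hN] at this
      exact Ideal.Quotient.eq_zero_iff_mem.mp this
    · right
      refine Submodule.finrank_lt_finrank_of_lt (lt_of_le_of_ne ?_ he)
      exact Ideal.map_mono (Ideal.pow_le_pow_right i.le_succ)
  have main : ∀ i, IsLocalRing.maximalIdeal R ^ i ≤ I ∨ Module.finrank k (V i) + i ≤ n := by
    intro i; induction i with
    | zero => right; simpa [hn] using Submodule.finrank_le (V 0)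
    | succ i ih =>
      rcases ih with h | h
      · exact .inl ((Ideal.pow_le_pow_right i.le_succ).trans h)
      · rcases step i with h' | h'
        · exact .inl ((Ideal.pow_le_pow_right i.le_succ).trans h')
        · right; omega
  rcases main n with h | h
  · exact h
  · have h0 : V n = ⊥ := Submodule.finrank_eq_zero.mp (by omega)
    intro r hr
    have : Ideal.Quotient.mk I r ∈ V n := Ideal.mem_map_of_mem _ hr
    rw [h0] at this
    exact Ideal.Quotient.eq_zero_iff_mem.mp this

end Groth.Agent.S19436
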