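import Groth.Statements.S19437
import Mathlib
import Groth.Prelude

set_option linter.all false

set_option autoImplicit false
universe u
open CAlg


namespace Groth.Agent.S19437

section
variable {k : Type u} [Field k]
open MvPowerSeries

local notation "R" => MvPowerSeries (Fin 2) k
local notation "XY" => (MvPowerSeries.X 0 * MvPowerSeries.X 1 : MvPowerSeries (Fin 2) k)

theorem xy_eq : XY = monomial (Finsupp.single 0 1 + Finsupp.single 1 1) (1 : k) := by
  rw [X, X, monomial_mul_monomial, mul_one]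

theorem decomp {a b : ℕ} (ha : 1 ≤ a) (hb : 1 ≤ b) (z : R) (h0 : ∀ i < a, coeff (Finsupp.single 0 i) z = 0)
    (h1 : ∀ j < b, coeff (Finsupp.single 1 j) z = 0) :
    z ∈ Ideal.span {XY, MvPowerSeries.X 0 ^ a, MvPowerSeries.X 1 ^ b} := by
  classical
  let w : R := fun e => coeff (e + (Finsupp.single 0 1 + Finsupp.single 1 1)) z
  let u : R := fun e => if e 1 = 0 then coeff (e + Finsupp.single 0 a) z else 0
  let v : R := fun e => if e 0 = 0 then coeff (e + Finsupp.single 1 b) z else 0
  suffices z = XY * w + MvPowerSeries.X 0 ^ a * u + MvPowerSeries.X 1 ^ b * v by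
    rw [this]
    refine Ideal.add_mem _ (Ideal.add_mem _ ?_ ?_) ?_ <;> exact Ideal.mul_mem_right _ _ (Ideal.subset_span (by simp))
  ext e
  rw [map_add, map_add, xy_eq, X_pow_eq, X_pow_eq, coeff_monomial_mul, coeff_monomial_mul, coeff_monomial_mul, one_mul, one_mul, one_mul]
  have hw : ∀ f : Fin 2 →₀ ℕ, coeff f w = coeff (f + (Finsupp.single 0 1 + Finsupp.single 1 1)) z := fun f => rfl
  have hu : ∀ f : Fin 2 →₀ ℕ, coeff f u = if f 1 = 0 then coeff (f + Finsupp.single 0 a) z else 0 := fun f => rfl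
  have hv : ∀ f : Fin 2 →₀ ℕ, coeff f v = if f 0 = 0 then coeff (f + Finsupp.single 1 b) z else 0 := fun f => rfl
  simp only [hw, hu, hv, Finsupp.le_def, Fin.forall_fin_two, Finsupp.add_apply, Finsupp.tsub_apply, Finsupp.single_eq_same,
    ne_eq, zero_ne_one, not_false_eq_true, Finsupp.single_eq_of_ne, one_ne_zero, add_zero, zero_add]
  rcases Nat.eq_zero_or_pos (e 0) with he0 | he0 <;> rcases Nat.eq_zero_or_pos (e 1) with he1 | he1
  · have : e = 0 := by ext i; fin_cases i <;> simp_all
    subst this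
    have := h0 0 ha
    rw [Finsupp.single_zero] at this
    simp [show ¬ a = 0 by omega, show ¬ b = 0 by omega]
    simpa using this
  · have he : e = Finsupp.single 1 (e 1) := by ext i; fin_cases i <;> simp_all
    rcases lt_or_ge (e 1) b with hb' | hb'
    · have := h1 _ hb'
      rw [← he] at this
      simp [this, show ¬ b ≤ e 1 by omega, he0, show ¬ a = 0 by omega]
    · simp [hb', he0, show ¬ a = 0 by omega]
      rw [tsub_add_cancel_of_le (by rw [Finsupp.single_le_iff]; exact hb')]
  · have he : e = Finsupp.single 0 (e 0) := by ext i; fin_cases i <;> simp_all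
    rcases lt_or_ge (e 0) a with hb' | hb'
    · have := h0 _ hb'
      rw [← he] at this
      simp [this, show ¬ a ≤ e 0 by omega, he1, show ¬ b = 0 by omega]
    · simp [hb', he1, show ¬ b = 0 by omega]
      rw [tsub_add_cancel_of_le (by rw [Finsupp.single_le_iff]; exact hb')]
  · simp [show e 1 ≠ 0 by omega, show e 0 ≠ 0 by omega, show 1 ≤ e 0 by omega, show 1 ≤ e 1 by omega]
    rw [tsub_add_cancel_of_le]
    rw [Finsupp.le_def, Fin.forall_fin_two]; simp; omega

theorem coeff_low {J : Ideal R} (hxy : XY ∈ J) {s t : Fin 2} (hst : s ≠ t) (a b : ℕ)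
    (hb1 : 1 ≤ b) (ha : (X s : R) ^ a ∈ J) (hamin : ∀ i < a, (X s : R) ^ i ∉ J) (hb : (X t : R) ^ b ∈ J) (hJ : J ≠ ⊤)
    {z : R} (hz : z ∈ J) : ∀ i, i + 1 < a → coeff (Finsupp.single s i) z = 0 := by
  classical
  intro i
  induction i using Nat.strong_induction_on with
  | _ i ih =>
    intro hi
    rcases Nat.eq_zero_or_pos i with rfl | hpos
    · by_contra hne
      refine hJ (Ideal.eq_top_of_isUnit_mem _ hz (isUnit_iff_constantCoeff.2 (isUnit_iff_ne_zero.2 ?_)))
      simpa [coeff_zero_eq_constantCoeff] using hne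
    let P : R := ∑ l ∈ Finset.range a, C (coeff (Finsupp.single s l) z) * X s ^ l +
      ∑ j ∈ Finset.Ico 1 b, C (coeff (Finsupp.single t j) z) * X t ^ j
    have hP : P ∈ J := by
      have hI : Ideal.span {XY, (X 0 : R) ^ (if s = 0 then a else b), (X 1 : R) ^ (if s = 0 then b else a)} ≤ J := by
        rw [Ideal.span_le]
        rintro x (rfl | rfl | rfl)
        · exact hxy
        · rcases Fin.exists_fin_two.1 ⟨s, rfl⟩ with hs | hs
          · subst hs; simpa using ha
          · subst hs; obtain rfl : t = 0 := by omega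
            simpa using hb
        · rcases Fin.exists_fin_two.1 ⟨s, rfl⟩ with hs | hs
          · subst hs; obtain rfl : t = 1 := by omega
            simpa using hb
          · subst hs; simpa using ha
      have hcoef : ∀ (r : Fin 2) (m : ℕ), coeff (Finsupp.single r m) P =
          (∑ l ∈ Finset.range a, if Finsupp.single r m = Finsupp.single s l then coeff (Finsupp.single s l) z else 0) +
          ∑ j ∈ Finset.Ico 1 b, if Finsupp.single r m = Finsupp.single t j then coeff (Finsupp.single t j) z else 0 := by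
        intro r m
        simp only [P, map_add, map_sum, coeff_C_mul, coeff_X_pow, mul_ite, mul_one, mul_zero]
      have hs0 : ∀ m < a, coeff (Finsupp.single s m) (z - P) = 0 := by
        intro m hm
        rw [map_sub, hcoef, Finset.sum_eq_single m (fun l _ hl => if_neg fun h => hl (Finsupp.single_injective s h).symm)
          (fun h => absurd (Finset.mem_range.2 hm) h), if_pos rfl, Finset.sum_eq_zero (fun j hj => if_neg fun h => by
            have := DFunLike.congr_fun h t
            simp [Finsupp.single_eq_of_ne hst.symm] at this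
            simp at hj; omega), add_zero, sub_self]
      have ht0 : ∀ m < b, coeff (Finsupp.single t m) (z - P) = 0 := by
        intro m hm
        rcases Nat.eq_zero_or_pos m with rfl | hm0
        · simpa using hs0 0 (by omega)
        rw [map_sub, hcoef, Finset.sum_eq_zero (fun l hl => if_neg fun h => by
            have := DFunLike.congr_fun h t
            simp [Finsupp.single_eq_of_ne hst.symm] at this
            omega), zero_add,
          Finset.sum_eq_single m (fun l _ hl => if_neg fun h => hl (Finsupp.single_injective t h).symm)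
          (fun h => absurd (Finset.mem_Ico.2 ⟨hm0, hm⟩) h), if_pos rfl, sub_self]
      have hmem : z - P ∈ J := hI (by
        rcases Fin.exists_fin_two.1 ⟨s, rfl⟩ with hs | hs
        · subst hs; obtain rfl : t = 1 := by omega
          simpa using decomp (by omega) hb1 _ hs0 ht0
        · subst hs; obtain rfl : t = 0 := by omega
          simpa using decomp hb1 (by omega) _ ht0 hs0)
      simpa using J.sub_mem hz hmem
    by_contra hne
    have hmul : (X s : R) ^ (a - 1 - i) * P ∈ J := J.mul_mem_left _ hP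
    simp only [P, mul_add, Finset.mul_sum] at hmul
    rw [← Finset.add_sum_erase _ _ (Finset.mem_range.2 (show i < a by omega))] at hmul
    have hrest : ∑ l ∈ (Finset.range a).erase i, (X s : R) ^ (a - 1 - i) * (C (coeff (Finsupp.single s l) z) * X s ^ l) ∈ J := by
      refine J.sum_mem fun l hl => ?_
      obtain ⟨hli, hla⟩ := Finset.mem_erase.1 hl
      rcases lt_or_gt_of_ne hli with hlt | hgt
      · rw [ih l hlt (by omega), map_zero, zero_mul, mul_zero]; exact J.zero_mem
      · rw [mul_left_comm, ← pow_add]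
        exact J.mul_mem_left _ (J.pow_mem_of_pow_mem ha (by omega))
    have hrest2 : ∑ j ∈ Finset.Ico 1 b, (X s : R) ^ (a - 1 - i) * (C (coeff (Finsupp.single t j) z) * X t ^ j) ∈ J := by
      refine J.sum_mem fun j hj => ?_
      have hxy' : (X s : R) * X t ∈ J := by
        rcases Fin.exists_fin_two.1 ⟨s, rfl⟩ with hs | hs
        · subst hs; obtain rfl : t = 1 := by omega
          exact hxy
        · subst hs; obtain rfl : t = 0 := by omega
          rw [mul_comm]; exact hxy
      obtain ⟨p, hp⟩ : ∃ p, a - 1 - i = p + 1 := ⟨a - 2 - i, by omega⟩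
      obtain ⟨q, rfl⟩ : ∃ q, j = q + 1 := ⟨j - 1, by simp at hj; omega⟩
      rw [hp, pow_succ, pow_succ, show (X s : R) ^ p * X s * (C (coeff (Finsupp.single t (q + 1)) z) * (X t ^ q * X t)) =
        (X s ^ p * C (coeff (Finsupp.single t (q + 1)) z) * X t ^ q) * (X s * X t) by ring]
      exact J.mul_mem_left _ hxy'
    rw [add_assoc] at hmul
    have h3 := (Ideal.add_mem_iff_left _ (J.add_mem hrest hrest2)).1 hmul
    rw [mul_left_comm, ← pow_add, show a - 1 - i + i = a - 1 by omega, mul_comm] at h3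
    exact hamin (a - 1) (by omega) ((Ideal.mul_unit_mem_iff_mem J ((isUnit_iff_ne_zero.2 hne).map C)).1 h3)
end

/-- Ideals of colength n of the complete local ring of a node. Let k be a field and J an ideal of the
power series ring k[[x,y]] in two variables x, y which contains xy and whose quotient is
finite-dimensional over k of dimension n ≥ 2. Then there are integers a, b ≥ 1 such that either a +
b = n + 1 and J is generated by xy, x^a, y^b, or a + b = n and J is generated by xy and x^a + α y^b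
for some nonzero scalar α. -/
theorem result (k : Type u) [Field k]
    (J : Ideal (MvPowerSeries (Fin 2) k))
    (hxy : (MvPowerSeries.X 0 * MvPowerSeries.X 1 : MvPowerSeries (Fin 2) k) ∈ J)
    [Module.Finite k (MvPowerSeries (Fin 2) k ⧸ J)] (n : ℕ) (hn : Module.finrank k (MvPowerSeries (Fin 2) k ⧸ J) = n)
    (h2 : 2 ≤ n) :
    ∃ a b : ℕ, 1 ≤ a ∧ 1 ≤ b ∧
      ((a + b = n + 1 ∧
        J = Ideal.span {MvPowerSeries.X 0 * MvPowerSeries.X 1, MvPowerSeries.X 0 ^ a, MvPowerSeries.X 1 ^ b}) ∨
       (a + b = n ∧ ∃ α : k, α ≠ 0 ∧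
        J = Ideal.span {MvPowerSeries.X 0 * MvPowerSeries.X 1,
          MvPowerSeries.X 0 ^ a + MvPowerSeries.C α * MvPowerSeries.X 1 ^ b})) := by
  classical
  let R := MvPowerSeries (Fin 2) k
  let X : Fin 2 → R := MvPowerSeries.X
  haveI : Nontrivial (R ⧸ J) := Module.nontrivial_of_finrank_pos (R := k) (hn ▸ (by omega : 0 < n))
  have hJ : J ≠ ⊤ := fun h => not_subsingleton (R ⧸ J) (Ideal.Quotient.subsingleton_iff.2 h)
  haveI : IsArtinianRing (R ⧸ J) := IsArtinianRing.of_finite k _
  have hpow : ∀ s, ∃ a, X s ^ a ∈ J := by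
    intro s
    have hnu : ∀ u : R, ¬ IsUnit (X s * u) := fun u hu => by
      have := (MvPowerSeries.isUnit_iff_constantCoeff.1 hu)
      simp [X] at this
    obtain ⟨m, w, hw⟩ := IsArtinian.exists_pow_succ_smul_dvd (Ideal.Quotient.mk J (X s)) (1 : R ⧸ J)
    obtain ⟨w, rfl⟩ := Ideal.Quotient.mk_surjective w
    simp only [smul_eq_mul, mul_one, ← map_pow, ← map_mul, Ideal.Quotient.eq] at hw
    refine ⟨m, ?_⟩
    have hu : IsUnit (X s * w - 1) := by
      rw [MvPowerSeries.isUnit_iff_constantCoeff]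
      simp [X]
    exact (Ideal.mul_unit_mem_iff_mem J hu).1 (by rw [show X s ^ m * (X s * w - 1) = X s ^ (m + 1) * w - X s ^ m by ring]; exact hw)
  let a := Nat.find (hpow 0)
  let b := Nat.find (hpow 1)
  have ha : X 0 ^ a ∈ J := Nat.find_spec (hpow 0)
  have hb : X 1 ^ b ∈ J := Nat.find_spec (hpow 1)
  have hamin : ∀ i < a, X 0 ^ i ∉ J := fun i hi => Nat.find_min (hpow 0) hi
  have hbmin : ∀ i < b, X 1 ^ i ∉ J := fun i hi => Nat.find_min (hpow 1) hi
  have ha1 : 1 ≤ a := Nat.one_le_iff_ne_zero.2 fun h0 => hJ ((Ideal.eq_top_iff_one J).2 (by simpa [h0] using ha))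
  have hb1 : 1 ≤ b := Nat.one_le_iff_ne_zero.2 fun h0 => hJ ((Ideal.eq_top_iff_one J).2 (by simpa [h0] using hb))
  let I : Ideal R := Ideal.span {X 0 * X 1, X 0 ^ a, X 1 ^ b}
  have hIJ : I ≤ J := by
    rw [Ideal.span_le]; rintro x (rfl | rfl | rfl)
    exacts [hxy, ha, hb]
  let ψ : R →ₗ[k] (Fin a → k) × (Fin (b - 1) → k) :=
    LinearMap.prod (LinearMap.pi fun i : Fin a => MvPowerSeries.coeff (Finsupp.single 0 (i : ℕ)))
      (LinearMap.pi fun j : Fin (b - 1) => MvPowerSeries.coeff (Finsupp.single 1 ((j : ℕ) + 1)))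
  have hψsurj : Function.Surjective ψ := by
    rintro ⟨c, d⟩
    let f : R := fun e => if h : e 1 = 0 ∧ e 0 < a then c ⟨e 0, h.2⟩ else if h : e 0 = 0 ∧ e 1 - 1 < b - 1 then d ⟨e 1 - 1, h.2⟩ else 0
    refine ⟨f, Prod.ext ?_ ?_⟩
    · funext i
      show f (Finsupp.single 0 (i : ℕ)) = c i
      simp [f, i.2]
    · funext j
      show f (Finsupp.single 1 ((j : ℕ) + 1)) = d j
      simp [f, j.2]
  have hker : ∀ z, ψ z = 0 → z ∈ I := by
    intro z hz
    have h0 : ∀ i < a, MvPowerSeries.coeff (Finsupp.single 0 i) z = 0 := fun i hi => congrFun (congrArg Prod.fst hz) ⟨i, hi⟩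
    refine decomp ha1 hb1 z h0 fun j hj => ?_
    rcases j with _ | j
    · simpa using h0 0 ha1
    · exact congrFun (congrArg Prod.snd hz) ⟨j, by omega⟩
  let W := (J.restrictScalars k).map ψ
  have hcomap : W.comap ψ = J.restrictScalars k := by
    rw [Submodule.comap_map_eq, sup_eq_left]
    exact fun z hz => hIJ (hker z hz)
  have hnW : n + Module.finrank k W = a + (b - 1) := by
    have e : (R ⧸ J.restrictScalars k) ≃ₗ[k] (((Fin a → k) × (Fin (b - 1) → k)) ⧸ W) := by
      refine LinearEquiv.trans (Submodule.quotEquivOfEq _ (LinearMap.ker (W.mkQ.comp ψ)) ?_)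
        (LinearMap.quotKerEquivOfSurjective _ ((Submodule.mkQ_surjective W).comp hψsurj))
      rw [LinearMap.ker_comp, Submodule.ker_mkQ, hcomap]
    have h3 := W.finrank_quotient_add_finrank
    rw [← e.finrank_eq, Module.finrank_prod, Module.finrank_fin_fun, Module.finrank_fin_fun] at h3
    rw [← hn, ← h3]
    exact congrArg (· + _) (LinearEquiv.finrank_eq (Submodule.Quotient.restrictScalarsEquiv k J)).symm
  by_cases hW : ∀ z ∈ J, ψ z = 0
  · refine ⟨a, b, ha1, hb1, Or.inl ⟨?_, le_antisymm (fun z hz => hker z (hW z hz)) hIJ⟩⟩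
    have : W = ⊥ := (Submodule.eq_bot_iff _).2 (by rintro _ ⟨z, hz, rfl⟩; exact hW z hz)
    rw [this, finrank_bot] at hnW
    omega
  push Not at hW
  obtain ⟨z, hz, hzne⟩ := hW
  have hfst : ∀ y ∈ J, ∀ i : Fin a, (i : ℕ) + 1 < a → (ψ y).1 i = 0 := fun y hy i hi =>
    coeff_low hxy (show (0 : Fin 2) ≠ 1 by decide) a b hb1 ha hamin hb hJ hy i hi
  have hsnd : ∀ y ∈ J, ∀ j : Fin (b - 1), (j : ℕ) + 2 < b → (ψ y).2 j = 0 := fun y hy j hj =>
    coeff_low hxy (show (1 : Fin 2) ≠ 0 by decide) b a ha1 hb hbmin ha hJ hy _ hj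
  have hzero : ∀ y ∈ J, MvPowerSeries.coeff (0 : Fin 2 →₀ ℕ) y = 0 := fun y hy => by
    by_contra hne
    exact hJ (Ideal.eq_top_of_isUnit_mem _ hy (MvPowerSeries.isUnit_iff_constantCoeff.2 (isUnit_iff_ne_zero.2 (by
      simpa [MvPowerSeries.coeff_zero_eq_constantCoeff] using hne))))
  let c : R → k := fun y => MvPowerSeries.coeff (Finsupp.single 0 (a - 1)) y
  let d : R → k := fun y => MvPowerSeries.coeff (Finsupp.single 1 (b - 1)) y
  have hred : ∀ y ∈ J, y - (MvPowerSeries.C (c y) * X 0 ^ (a - 1) + MvPowerSeries.C (d y) * X 1 ^ (b - 1)) ∈ I := by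
    intro y hy
    have h00 : MvPowerSeries.coeff (0 : Fin 2 →₀ ℕ) (y - (MvPowerSeries.C (c y) * X 0 ^ (a - 1) + MvPowerSeries.C (d y) * X 1 ^ (b - 1))) = 0 := by
      rw [map_sub, map_add, MvPowerSeries.coeff_C_mul, MvPowerSeries.coeff_C_mul, MvPowerSeries.coeff_X_pow, MvPowerSeries.coeff_X_pow, hzero y hy]
      have hc0 : a - 1 = 0 → c y = 0 := fun h => by simp only [c, h, Finsupp.single_zero, hzero y hy]
      have hd0 : b - 1 = 0 → d y = 0 := fun h => by simp only [d, h, Finsupp.single_zero, hzero y hy]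
      have e1 : ∀ (i : Fin 2) (m : ℕ), ((0 : Fin 2 →₀ ℕ) = Finsupp.single i m) → m = 0 := fun i m h => Finsupp.single_eq_zero.1 h.symm
      split_ifs with h h' h'
      · simp [hc0 (e1 _ _ h), hd0 (e1 _ _ h')]
      · simp [hc0 (e1 _ _ h)]
      · simp [hd0 (e1 _ _ h')]
      · simp
    apply decomp ha1 hb1
    · intro i hi
      rcases Nat.eq_zero_or_pos i with rfl | hi0
      · rw [Finsupp.single_zero]; exact h00
      have hne : Finsupp.single (0 : Fin 2) i ≠ Finsupp.single 1 (b - 1) := fun h => by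
        have := DFunLike.congr_fun h 0; simp at this; omega
      rw [map_sub, map_add, MvPowerSeries.coeff_C_mul, MvPowerSeries.coeff_C_mul, MvPowerSeries.coeff_X_pow, MvPowerSeries.coeff_X_pow,
        if_neg hne, mul_zero, add_zero]
      by_cases hia : i = a - 1
      · subst hia
        rw [if_pos rfl, mul_one, sub_self]
      · rw [if_neg (fun h => hia (Finsupp.single_injective _ h)), mul_zero, sub_zero]
        exact hfst y hy ⟨i, hi⟩ (show i + 1 < a by omega)
    · intro j hj
      rcases Nat.eq_zero_or_pos j with rfl | hj0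
      · rw [Finsupp.single_zero]; exact h00
      have hne : Finsupp.single (1 : Fin 2) j ≠ Finsupp.single 0 (a - 1) := fun h => by
        have := DFunLike.congr_fun h 1; simp at this; omega
      rw [map_sub, map_add, MvPowerSeries.coeff_C_mul, MvPowerSeries.coeff_C_mul, MvPowerSeries.coeff_X_pow, MvPowerSeries.coeff_X_pow,
        if_neg hne, mul_zero, zero_add]
      by_cases hjb : j = b - 1
      · subst hjb
        rw [if_pos rfl, mul_one, sub_self]
      · rw [if_neg (fun h => hjb (Finsupp.single_injective _ h)), mul_zero, sub_zero]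
        obtain ⟨j, rfl⟩ : ∃ l, j = l + 1 := ⟨j - 1, by omega⟩
        exact hsnd y hy ⟨j, by omega⟩ (show j + 2 < b by omega)
  have hPmem : ∀ y ∈ J, MvPowerSeries.C (c y) * X 0 ^ (a - 1) + MvPowerSeries.C (d y) * X 1 ^ (b - 1) ∈ J := fun y hy => by
    simpa using J.sub_mem hy (hIJ (hred y hy))
  have hcd : ∀ y ∈ J, c y = 0 → d y = 0 := fun y hy hcy => by
    by_contra hne
    have h1 := hPmem y hy
    rw [hcy, map_zero, zero_mul, zero_add] at h1
    exact hbmin (b - 1) (by omega) ((Ideal.unit_mul_mem_iff_mem J ((isUnit_iff_ne_zero.2 hne).map _)).1 h1)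
  have hc0ψ : ∀ y ∈ J, c y = 0 → ψ y = 0 := fun y hy hcy => by
    refine Prod.ext (funext fun i => ?_) (funext fun j => ?_)
    · rcases lt_or_ge ((i : ℕ) + 1) a with h | h
      · exact hfst y hy i h
      · show MvPowerSeries.coeff (Finsupp.single 0 (i : ℕ)) y = 0
        rw [show (i : ℕ) = a - 1 by have := i.2; omega]
        exact hcy
    · rcases lt_or_ge ((j : ℕ) + 2) b with h | h
      · exact hsnd y hy j h
      · show MvPowerSeries.coeff (Finsupp.single 1 ((j : ℕ) + 1)) y = 0
        rw [show (j : ℕ) + 1 = b - 1 by have := j.2; omega]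
        exact hcd y hy hcy
  have hcz : c z ≠ 0 := fun h => hzne (hc0ψ z hz h)
  have hdz : d z ≠ 0 := fun hd => by
    have h1 := hPmem z hz
    rw [hd, map_zero, zero_mul, add_zero] at h1
    exact hamin (a - 1) (by omega) ((Ideal.unit_mul_mem_iff_mem J ((isUnit_iff_ne_zero.2 hcz).map _)).1 h1)
  have ha2 : 2 ≤ a := by
    by_contra hlt
    apply hcz
    simp only [c, show a - 1 = 0 by omega, Finsupp.single_zero, hzero z hz]
  have hb2 : 2 ≤ b := by
    by_contra hlt
    apply hdz
    simp only [d, show b - 1 = 0 by omega, Finsupp.single_zero, hzero z hz]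
  let α : k := (c z)⁻¹ * d z
  have hα : α ≠ 0 := mul_ne_zero (inv_ne_zero hcz) hdz
  let f : R := X 0 ^ (a - 1) + MvPowerSeries.C α * X 1 ^ (b - 1)
  have hf : f ∈ J := by
    have h1 := J.mul_mem_left (MvPowerSeries.C (c z)⁻¹) (hPmem z hz)
    rw [mul_add, ← mul_assoc, ← mul_assoc, ← map_mul, ← map_mul, inv_mul_cancel₀ hcz, map_one, one_mul] at h1
    exact h1
  have hcf : c f = 1 := by
    show MvPowerSeries.coeff _ (X 0 ^ (a - 1) + MvPowerSeries.C α * X 1 ^ (b - 1)) = 1
    rw [map_add, MvPowerSeries.coeff_C_mul, MvPowerSeries.coeff_X_pow, MvPowerSeries.coeff_X_pow, if_pos rfl, if_neg (fun h => by have := DFunLike.congr_fun h 0; simp at this; omega), mul_zero, add_zero]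
  have hψf : ψ f ≠ 0 := fun h => by
    have h1 : c f = 0 := congrFun (congrArg Prod.fst h) ⟨a - 1, by omega⟩
    exact one_ne_zero (hcf.symm.trans h1)
  have hcsub : ∀ y ∈ J, c (y - c y • f) = 0 := fun y _ => by
    show MvPowerSeries.coeff _ (y - c y • f) = 0
    rw [map_sub, map_smul, smul_eq_mul]
    show c y - c y * c f = 0
    rw [hcf, mul_one, sub_self]
  have hsubJ : ∀ y ∈ J, y - c y • f ∈ J := fun y hy => J.sub_mem hy (by rw [MvPowerSeries.smul_eq_C_mul]; exact J.mul_mem_left _ hf)
  have hWspan : W = k ∙ ψ f := by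
    refine le_antisymm ?_ ((Submodule.span_singleton_le_iff_mem _ _).2 ⟨f, hf, rfl⟩)
    rintro _ ⟨y, hy, rfl⟩
    have := hc0ψ _ (hsubJ y hy) (hcsub y hy)
    rw [map_sub, map_smul, sub_eq_zero] at this
    exact Submodule.mem_span_singleton.2 ⟨c y, this.symm⟩
  rw [hWspan, finrank_span_singleton hψf] at hnW
  refine ⟨a - 1, b - 1, by omega, by omega, Or.inr ⟨by omega, α, hα, ?_⟩⟩
  let L : Ideal R := Ideal.span {X 0 * X 1, f}
  show J = L
  refine le_antisymm (fun y hy => ?_) (by
    rw [Ideal.span_le]; rintro x (rfl | rfl)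
    exacts [hxy, hf])
  have hxyL : X 0 * X 1 ∈ L := Ideal.subset_span (by simp)
  have hfL : f ∈ L := Ideal.subset_span (by simp)
  have hIL : I ≤ L := by
    have hXa : X 0 ^ a ∈ L := by
      have : X 0 ^ a = X 0 * f - MvPowerSeries.C α * X 1 ^ (b - 2) * (X 0 * X 1) := by
        simp only [f]
        rw [show a = a - 1 + 1 by omega, show b - 1 = b - 2 + 1 by omega, pow_succ, pow_succ]
        simp only [Nat.add_sub_cancel]
        ring
      rw [this]
      exact L.sub_mem (L.mul_mem_left _ hfL) (L.mul_mem_left _ hxyL)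
    have hXb : X 1 ^ b ∈ L := by
      have : MvPowerSeries.C α * X 1 ^ b = X 1 * f - X 0 ^ (a - 2) * (X 0 * X 1) := by
        simp only [f]
        rw [show b = b - 1 + 1 by omega, show a - 1 = a - 2 + 1 by omega, pow_succ, pow_succ]
        simp only [Nat.add_sub_cancel]
        ring
      refine (Ideal.unit_mul_mem_iff_mem L ((isUnit_iff_ne_zero.2 hα).map MvPowerSeries.C)).1 ?_
      rw [this]
      exact L.sub_mem (L.mul_mem_left _ hfL) (L.mul_mem_left _ hxyL)
    rw [Ideal.span_le]; rintro x (rfl | rfl | rfl)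
    exacts [hxyL, hXa, hXb]
  have h1 : y - c y • f ∈ L := hIL (hker _ (hc0ψ _ (hsubJ y hy) (hcsub y hy)))
  have h2' : c y • f ∈ L := by rw [MvPowerSeries.smul_eq_C_mul]; exact L.mul_mem_left _ hfL
  simpa using L.add_mem h1 h2'

end Groth.Agent.S19437
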