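import Groth.Statements.S19438
import Mathlib

set_option linter.all false

set_option autoImplicit false
universe u
open CAlg

open IsLocalRing
open scoped TensorProduct

namespace Groth.Agent.S19438

/-- First assertion: let A be a Noetherian local commutative algebra over a field k with maximal ideal
M, residue field k (the map from k to A/M is onto) and embedding dimension dim M/M^2 at least 2, and
let I be a proper ideal with A/I finite-dimensional over k. If A/I is generated as a k-algebra by
one element, then some element of I does not lie in M^2; that is, the finite closed subscheme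
defined by I lies on a smooth hypersurface germ (it is curvilinear). (The published statement is for
the local ring of a smooth surface at a closed point; only a Noetherian local algebra with residue
field k and embedding dimension at least 2 is assumed here, which is what the published argument
uses.) -/
theorem result (k : Type u) [Field k]
    (A : Type u) [CommRing A] [Algebra k A] [IsNoetherianRing A] [IsLocalRing A]
    (hres : Function.Surjective (algebraMap k (IsLocalRing.ResidueField A)))
    (hemb : 2 ≤ Module.finrank (IsLocalRing.ResidueField A) (IsLocalRing.CotangentSpace A))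
    (I : Ideal A) (hI : I ≠ ⊤) [Module.Finite k (A ⧸ I)]
    (f : A ⧸ I) (hf : Algebra.adjoin k {f} = ⊤) :
    ∃ g ∈ I, g ∉ IsLocalRing.maximalIdeal A ^ 2 := by
  by_contra h
  push Not at h
  have hle : I ≤ maximalIdeal A ^ 2 := h
  let π : (A ⧸ I) →ₐ[k] A ⧸ maximalIdeal A ^ 2 := Ideal.Quotient.factorₐ k hle
  obtain ⟨f₀, rfl⟩ := Ideal.Quotient.mk_surjective f
  obtain ⟨c, hc⟩ := hres (residue A f₀)
  let t : A := f₀ - algebraMap k A c
  have ht : t ∈ maximalIdeal A := by
    rw [← residue_eq_zero_iff, map_sub, ← hc]
    exact sub_eq_zero.2 (IsScalarTower.algebraMap_apply k A (ResidueField A) c)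
  have hall : ∀ x : A, ∃ a b : k, x - (algebraMap k A a + algebraMap k A b * t) ∈ maximalIdeal A ^ 2 := by
    intro x
    have hx : Ideal.Quotient.mk I x ∈ Algebra.adjoin k {Ideal.Quotient.mk I f₀} := by rw [hf]; trivial
    suffices ∀ y ∈ Algebra.adjoin k {Ideal.Quotient.mk I f₀}, ∀ x, Ideal.Quotient.mk I x = y →
        ∃ a b : k, x - (algebraMap k A a + algebraMap k A b * t) ∈ maximalIdeal A ^ 2 from this _ hx x rfl
    intro y hy
    induction hy using Algebra.adjoin_induction with
    | mem y hy =>
      rintro x hx'
      rw [Set.mem_singleton_iff.1 hy] at hx'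
      refine ⟨c, 1, ?_⟩
      have := hle (Ideal.Quotient.eq.1 hx')
      convert this using 1
      simp [t]
    | algebraMap r =>
      intro x hx'
      refine ⟨r, 0, ?_⟩
      have h1 : Ideal.Quotient.mk I x = Ideal.Quotient.mk I (algebraMap k A r) := hx'.trans rfl
      simpa using hle (Ideal.Quotient.eq.1 h1)
    | add y z _ _ hy hz =>
      intro x hx'
      obtain ⟨y, rfl⟩ := Ideal.Quotient.mk_surjective y
      obtain ⟨z, rfl⟩ := Ideal.Quotient.mk_surjective z
      obtain ⟨a, b, h1⟩ := hy y rfl
      obtain ⟨a', b', h2⟩ := hz z rfl
      refine ⟨a + a', b + b', ?_⟩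
      rw [← map_add] at hx'
      have := add_mem (add_mem h1 h2) (hle (Ideal.Quotient.eq.1 hx'))
      convert this using 1
      simp only [map_add]
      ring
    | mul y z _ _ hy hz =>
      intro x hx'
      obtain ⟨y, rfl⟩ := Ideal.Quotient.mk_surjective y
      obtain ⟨z, rfl⟩ := Ideal.Quotient.mk_surjective z
      obtain ⟨a, b, h1⟩ := hy y rfl
      obtain ⟨a', b', h2⟩ := hz z rfl
      refine ⟨a * a', a * b' + b * a', ?_⟩
      rw [← map_mul] at hx'
      have htt : t * t ∈ maximalIdeal A ^ 2 := by rw [sq]; exact Ideal.mul_mem_mul ht ht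
      have := add_mem (add_mem (add_mem (Ideal.mul_mem_right z _ h1) (Ideal.mul_mem_left _ (algebraMap k A a + algebraMap k A b * t) h2)) (Ideal.mul_mem_left _ (algebraMap k A b * algebraMap k A b') htt)) (hle (Ideal.Quotient.eq.1 hx'))
      convert this using 1
      simp only [map_add, map_mul]
      ring
  have hspan : (Submodule.span (ResidueField A) {(maximalIdeal A).toCotangent ⟨t, ht⟩} : Submodule (ResidueField A) (CotangentSpace A)) = ⊤ := by
    refine eq_top_iff.2 fun y _ => ?_
    obtain ⟨⟨x, hx⟩, rfl⟩ := (maximalIdeal A).toCotangent_surjective y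
    obtain ⟨a, b, hab⟩ := hall x
    have ha : a = 0 := by
      by_contra ha
      have h1 : algebraMap k A a ∈ maximalIdeal A := by
        have := sub_mem (sub_mem hx (Ideal.pow_le_self two_ne_zero hab)) (Ideal.mul_mem_left _ (algebraMap k A b) ht)
        convert this using 1
        ring
      exact (IsLocalRing.mem_maximalIdeal _).1 h1 ((IsUnit.mk0 a ha).map (algebraMap k A))
    subst ha
    refine Submodule.mem_span_singleton.2 ⟨residue A (algebraMap k A b), ?_⟩
    show (algebraMap A (ResidueField A) (algebraMap k A b)) • (maximalIdeal A).toCotangent ⟨t, ht⟩ = _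
    rw [algebraMap_smul, ← map_smul, eq_comm, Ideal.toCotangent_eq]
    simpa [Algebra.smul_def] using hab
  have := finrank_le_one (R := ResidueField A) ((maximalIdeal A).toCotangent ⟨t, ht⟩ : CotangentSpace A) fun w => by
    exact Submodule.mem_span_singleton.1 (hspan ▸ Submodule.mem_top)
  exact absurd (hemb.trans this) (by norm_num)

end Groth.Agent.S19438
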