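import Groth.Statements.S19439
import Mathlib
import Groth.Prelude
import Groth.Agent.S0612

set_option linter.all false

set_option autoImplicit false
universe u
open CAlg

open TensorProduct Pointwise

namespace Groth.Agent.S19439

theorem map_restrictTotalDegree_eq_top {k : Type*} [Field k] {N n : ℕ} (I : Ideal (MvPolynomial (Fin N) k))
    [Module.Finite k (MvPolynomial (Fin N) k ⧸ I)] (hn : Module.finrank k (MvPolynomial (Fin N) k ⧸ I) ≤ n) :
    Submodule.map (Ideal.Quotient.mkₐ k I).toLinearMap (MvPolynomial.restrictTotalDegree (Fin N) k n) = ⊤ := by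
  classical
  let q : MvPolynomial (Fin N) k →ₗ[k] MvPolynomial (Fin N) k ⧸ I := (Ideal.Quotient.mkₐ k I).toLinearMap
  let V : ℕ → Submodule k (MvPolynomial (Fin N) k ⧸ I) := fun d => Submodule.map q (MvPolynomial.restrictTotalDegree (Fin N) k d)
  have hmono : ∀ {a b : ℕ}, a ≤ b → V a ≤ V b := fun {a b} h => Submodule.map_mono fun f hf =>
    (MvPolynomial.mem_restrictTotalDegree _ _ _).2 (((MvPolynomial.mem_restrictTotalDegree _ _ _).1 hf).trans h)
  have hX : ∀ d i x, x ∈ V d → q (MvPolynomial.X i) * x ∈ V (d + 1) := by
    rintro d i _ ⟨f, hf, rfl⟩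
    refine ⟨MvPolynomial.X i * f, (MvPolynomial.mem_restrictTotalDegree _ _ _).2 ?_, map_mul (Ideal.Quotient.mkₐ k I) _ _⟩
    have := (MvPolynomial.mem_restrictTotalDegree _ _ _).1 hf
    refine (MvPolynomial.totalDegree_mul _ _).trans ?_
    rw [MvPolynomial.totalDegree_X]; omega
  have hstab : ∀ d, V d = V (d + 1) → V d = ⊤ := by
    intro d hd
    rw [eq_top_iff]
    rintro x -
    obtain ⟨f, rfl⟩ := Ideal.Quotient.mk_surjective x
    show q f ∈ V d
    induction f using MvPolynomial.induction_on with
    | C c =>
      refine ⟨MvPolynomial.C c, (MvPolynomial.mem_restrictTotalDegree _ _ _).2 ?_, rfl⟩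
      simp
    | add f g hf hg => rw [map_add]; exact add_mem hf hg
    | mul_X f i hf =>
      rw [mul_comm, show q (MvPolynomial.X i * f) = q (MvPolynomial.X i) * q f from map_mul (Ideal.Quotient.mkₐ k I) _ _, hd]
      exact hX d i _ hf
  by_contra htop
  have hlt : ∀ d, d ≤ n → V d < V (d + 1) := fun d hd => lt_of_le_of_ne (hmono d.le_succ) fun h => htop (by
    have := hstab d h
    exact eq_top_iff.2 (this ▸ hmono hd))
  have hrank : ∀ d, d ≤ n + 1 → d ≤ Module.finrank k (V d) := by
    intro d
    induction d with
    | zero => intro _; exact Nat.zero_le _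
    | succ d ih =>
      intro hd
      have := Submodule.finrank_lt_finrank_of_lt (hlt d (by omega))
      have := ih (by omega)
      omega
  have := hrank (n + 1) le_rfl
  have := Submodule.finrank_le (V (n + 1))
  omega

/-- Affine form: for all n and N there is an integer d, that depends only on n and N, such that for
every algebraically closed field k and every ideal I of the polynomial ring in N variables over k
whose quotient has finite dimension n over k, the polynomials of total degree at most d map onto the
quotient. -/
theorem result (n N : ℕ) :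
    ∃ d : ℕ, ∀ (k : Type u) [Field k] [IsAlgClosed k] (I : Ideal (MvPolynomial (Fin N) k))
      [Module.Finite k (MvPolynomial (Fin N) k ⧸ I)],
      Module.finrank k (MvPolynomial (Fin N) k ⧸ I) = n →
      Submodule.map (Ideal.Quotient.mkₐ k I).toLinearMap (MvPolynomial.restrictTotalDegree (Fin N) k d) = ⊤ := by
  exact ⟨n, fun k _ _ I _ h => map_restrictTotalDegree_eq_top I h.le⟩

end Groth.Agent.S19439
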