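import Groth.Statements.S19443
import Mathlib

set_option linter.all false

set_option autoImplicit false
universe u
open LinAlg

open TensorProduct

namespace Groth.Agent.S19443

/-- Algebraic form: let G be a finite group with order invertible in the field k, ρ a linear
representation of G on a k-vector space V, and ω a nondegenerate bilinear form on V invariant under
G. Then ω restricted to the fixed subspace V^G is nondegenerate (for a finite group of symplectic
automorphisms, the fixed subspace is a symplectic subspace). -/
theorem result (k : Type u) [Field k]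
    (G : Type u) [Group G] [Finite G] (hG : (Nat.card G : k) ≠ 0)
    (V : Type u) [AddCommGroup V] [Module k V] (ρ : Representation k G V)
    (ω : LinearMap.BilinForm k V) (hω : ω.Nondegenerate)
    (hinv : ∀ (g : G) (v w : V), ω (ρ g v) (ρ g w) = ω v w) :
    (ω.restrict ρ.invariants).Nondegenerate := by
  classical
  haveI := Fintype.ofFinite G
  let avg : V → ρ.invariants := fun y => ⟨∑ g, ρ g y, fun h => by
    rw [map_sum]
    simp only [← Module.End.mul_apply, ← map_mul]
    exact Fintype.sum_equiv (Equiv.mulLeft h) _ _ fun g => rfl⟩
  have hN : (Fintype.card G : k) ≠ 0 := by rwa [← Nat.card_eq_fintype_card]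
  constructor
  · intro v hv
    refine Subtype.ext (hω.1 (v : V) fun y => ?_)
    have h : ω (v : V) (∑ g, ρ g y) = 0 := hv (avg y)
    rw [map_sum, Finset.sum_congr rfl (fun g _ => (by rw [← hinv g (v : V) y, v.2 g] : ω (v : V) (ρ g y) = ω (v : V) y)),
      Finset.sum_const, Finset.card_univ, nsmul_eq_mul] at h
    exact (mul_eq_zero.1 h).resolve_left hN
  · intro v hv
    refine Subtype.ext (hω.2 (v : V) fun y => ?_)
    have h : ω (∑ g, ρ g y) (v : V) = 0 := hv (avg y)
    rw [map_sum, LinearMap.sum_apply, Finset.sum_congr rfl (fun g _ => (by rw [← hinv g y (v : V), v.2 g] : ω (ρ g y) (v : V) = ω y (v : V))),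
      Finset.sum_const, Finset.card_univ, nsmul_eq_mul] at h
    exact (mul_eq_zero.1 h).resolve_left hN

end Groth.Agent.S19443
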