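import Groth.Statements.S19444
import Groth.Agent.SymTenLib.Alt
import Mathlib.Algebra.BigOperators.Ring.Finset
import Mathlib.Data.Nat.Choose.Sum

set_option autoImplicit false
universe u
open SymTen

open scoped TensorProduct
namespace Groth.Agent.S19444

/-- Linearised norm: let A be a commutative ring in which n! is invertible and R a commutative
A-algebra, free of rank n as an A-module. There is a unique A-algebra homomorphism from the
symmetric tensors TS^n_A(R) to A taking r ⊗ ⋯ ⊗ r to the norm of r for every r in R. (The published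
corollary is stated for any free algebra of rank n; the construction printed for it divides by n!,
and n! invertible is assumed here.) -/
theorem result (A : Type u) [CommRing A] (R : Type u) [CommRing R]
    [Algebra A R] [Module.Free A R] [Module.Finite A R] (n : ℕ) (hn : Module.finrank A R = n)
    (hfact : IsUnit ((Nat.factorial n : ℕ) : A)) :
    ∃! φ : SymTen.TS A R n →ₐ[A] A, ∀ r : R, φ (SymTen.tpow A R n r) = Algebra.norm A r := by
  classical
  -- symmetric tensors are spanned by the powers
  have hspan : ∀ a ∈ SymTen.TS A R n,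
      a ∈ Submodule.span A (Set.range fun r : R => ((SymTen.tpow A R n r : SymTen.TS A R n) : ⨂[A] _ : Fin n, R)) := by
    intro a ha
    set T := Submodule.span A (Set.range fun r : R => ((SymTen.tpow A R n r : SymTen.TS A R n) : ⨂[A] _ : Fin n, R))
    have hpol : ∀ x : ⨂[A] _ : Fin n, R, ∑ σ : Equiv.Perm (Fin n), PiTensorProduct.reindex A (fun _ : Fin n => R) σ x ∈ T := by
      intro x
      induction x using PiTensorProduct.induction_on with
      | add x y hx hy => simp only [map_add, Finset.sum_add_distrib]; exact add_mem hx hy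
      | smul_tprod c r =>
        simp only [map_smul, ← Finset.smul_sum]
        refine Submodule.smul_mem _ c ?_
        have key : ∑ σ : Equiv.Perm (Fin n), PiTensorProduct.tprod A (fun i => r (σ i)) =
            ∑ W : Finset (Fin n), ((-1 : ℤ) ^ W.card) • PiTensorProduct.tprod A (fun _ : Fin n => ∑ i ∈ Wᶜ, r i) := by
          rw [eq_comm, Finset.sum_congr rfl fun W _ => show ((-1 : ℤ) ^ W.card) •
              PiTensorProduct.tprod A (fun _ : Fin n => ∑ i ∈ Wᶜ, r i) =
              ∑ f ∈ Fintype.piFinset (fun _ : Fin n => Wᶜ), ((-1 : ℤ) ^ W.card) • PiTensorProduct.tprod A (fun i => r (f i)) by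
            rw [MultilinearMap.map_sum_finset]; exact map_sum (zsmulAddGroupHom ((-1 : ℤ) ^ W.card)) _ _, eq_comm]
          rw [Finset.sum_comm' (t' := (Finset.univ : Finset (Fin n → Fin n)))
            (s' := fun f => ((Finset.univ.image f)ᶜ).powerset) (by
              intro W f
              simp only [Finset.mem_univ, true_and, Fintype.mem_piFinset, Finset.mem_compl, Finset.mem_powerset, and_true]
              constructor
              · intro h x hx
                simp only [Finset.mem_compl, Finset.mem_image, Finset.mem_univ, true_and, not_exists]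
                exact fun i hi => h i (hi ▸ hx)
              · intro h i hi
                exact Finset.mem_compl.1 (h hi) (Finset.mem_image_of_mem f (Finset.mem_univ i)))]
          simp only [← Finset.sum_smul, Finset.sum_powerset_neg_one_pow_card, ite_smul, one_smul, zero_smul,
            ← Finset.sum_filter]
          refine Finset.sum_bij (fun σ _ => (σ : Fin n → Fin n)) (fun σ _ => ?_)
            (fun σ _ τ _ h => Equiv.ext (congrFun h)) (fun f hf => ?_) (fun σ _ => rfl)
          · simp
          · have hsurj : Function.Surjective f := fun y => by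
              by_contra hy
              push Not at hy
              have : y ∈ ((Finset.univ.image f)ᶜ : Finset (Fin n)) := by simp [hy]
              rw [(Finset.mem_filter.1 hf).2] at this
              exact absurd this (Finset.notMem_empty y)
            exact ⟨Equiv.ofBijective f (Finite.surjective_iff_bijective.1 hsurj), Finset.mem_univ _, rfl⟩
        rw [show ∑ σ : Equiv.Perm (Fin n), PiTensorProduct.reindex A (fun _ : Fin n => R) σ (PiTensorProduct.tprod A r) =
            ∑ σ : Equiv.Perm (Fin n), PiTensorProduct.tprod A (fun i => r (σ i)) from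
          Fintype.sum_equiv (Equiv.inv (Equiv.Perm (Fin n))) _ _ fun σ => by rw [PiTensorProduct.reindex_tprod]; rfl, key]
        refine Submodule.sum_mem _ fun W _ => zsmul_mem ?_ _
        exact Submodule.subset_span ⟨∑ i ∈ Wᶜ, r i, rfl⟩
    obtain ⟨u, hu⟩ := hfact
    have e : ∑ σ : Equiv.Perm (Fin n), PiTensorProduct.reindex A (fun _ : Fin n => R) σ a = (u : A) • a := by
      rw [Finset.sum_congr rfl fun σ _ => ha σ, Finset.sum_const, Finset.card_univ, Fintype.card_perm,
        Fintype.card_fin, hu, Nat.cast_smul_eq_nsmul]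
    have := Submodule.smul_mem T (↑u⁻¹ : A) (hpol a)
    rwa [e, smul_smul, Units.inv_mul, one_smul] at this
  have huniq : ∀ φ ψ : SymTen.TS A R n →ₐ[A] A, (∀ r, φ (SymTen.tpow A R n r) = ψ (SymTen.tpow A R n r)) → φ = ψ := by
    intro φ ψ h
    refine AlgHom.ext fun ⟨a, ha⟩ => ?_
    have h' : ∀ z ∈ Submodule.span A (Set.range fun r : R => ((SymTen.tpow A R n r : SymTen.TS A R n) : ⨂[A] _ : Fin n, R)),
        ∃ hz : z ∈ SymTen.TS A R n, φ ⟨z, hz⟩ = ψ ⟨z, hz⟩ := by
      intro z hz
      induction hz using Submodule.span_induction with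
      | mem x hx => obtain ⟨r, rfl⟩ := hx; exact ⟨(SymTen.tpow A R n r).2, h r⟩
      | zero => exact ⟨(SymTen.TS A R n).zero_mem, (map_zero φ).trans (map_zero ψ).symm⟩
      | add x y _ _ hx hy =>
        obtain ⟨hx, ex⟩ := hx
        obtain ⟨hy, ey⟩ := hy
        exact ⟨add_mem hx hy, ((map_add φ ⟨x, hx⟩ ⟨y, hy⟩).trans (congrArg₂ (· + ·) ex ey)).trans
          (map_add ψ ⟨x, hx⟩ ⟨y, hy⟩).symm⟩
      | smul c x _ hx =>
        obtain ⟨hx, ex⟩ := hx
        exact ⟨(SymTen.TS A R n).smul_mem hx c, ((map_smul φ c ⟨x, hx⟩).trans (congrArg (c • ·) ex)).trans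
          (map_smul ψ c ⟨x, hx⟩).symm⟩
    obtain ⟨_, e⟩ := h' a (hspan a ha)
    exact e
  rcases subsingleton_or_nontrivial A with hA | hA
  · refine ⟨AlgHom.ofLinearMap 0 (Subsingleton.elim _ _) (fun _ _ => Subsingleton.elim _ _), fun r => Subsingleton.elim _ _,
      fun y _ => AlgHom.ext fun _ => Subsingleton.elim _ _⟩
  let b := Module.finBasisOfFinrankEq A R hn
  have hpow : ∀ r, Groth.Agent.SymTenLib.chi b (SymTen.tpow A R n r : ⨂[A] _ : Fin n, R) = Algebra.norm A r := by
    intro r
    change Groth.Agent.SymTenLib.chi b (PiTensorProduct.tprod A (fun _ : Fin n => r)) = _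
    rw [Groth.Agent.SymTenLib.chi_apply, Groth.Agent.SymTenLib.tpowAct_tprod, Groth.Agent.SymTenLib.om_tprod,
      Module.Basis.det_apply, Algebra.norm_eq_matrix_det b]
    congr 1
    ext i j
    rw [Algebra.leftMulMatrix_eq_repr_mul]
    rfl
  refine ⟨AlgHom.ofLinearMap ((Groth.Agent.SymTenLib.chi b) ∘ₗ (SymTen.TS A R n).val.toLinearMap)
    (Groth.Agent.SymTenLib.chi_one b) (fun x y => Groth.Agent.SymTenLib.chi_mul b x.2), hpow,
    fun ψ hψ => huniq _ _ fun r => (hψ r).trans (hpow r).symm⟩

end Groth.Agent.S19444
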