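import Groth.Statements.S19445
import Groth.Agent.CAlgH3.RegularLocal
import Mathlib.Tactic
import Groth.Agent.CAlgH3.RegularLocal

set_option linter.all false

set_option autoImplicit false
universe u
open CAlg

open IsLocalRing

namespace Groth.Agent.S19445

theorem regular_quotient_of_inf_sq_le {A : Type u} [CommRing A] [IsRegularLocalRing A] (J : Ideal A)
    (hJ : J ≤ maximalIdeal A) (h : J ⊓ maximalIdeal A ^ 2 ≤ maximalIdeal A * J) :
    IsRegularLocalRing (A ⧸ J) := by
  let S : Set (Ideal A) := {K | K ≤ J ∧ IsRegularLocalRing (A ⧸ K)}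
  have hbot : (⊥ : Ideal A) ∈ S := ⟨bot_le, IsRegularLocalRing.of_ringEquiv (RingEquiv.quotientBot A).symm⟩
  obtain ⟨K, ⟨hKJ, hK⟩, hmax⟩ := set_has_maximal_iff_noetherian.mpr inferInstance S ⟨⊥, hbot⟩
  by_cases hJK : J ≤ K
  · rwa [le_antisymm hJK hKJ]
  exfalso
  obtain ⟨y, hy, hy2⟩ : ∃ y ∈ J, y ∉ K ⊔ maximalIdeal A * J := by
    by_contra hc
    push Not at hc
    exact hJK (Submodule.le_of_le_smul_of_le_jacobson_bot (IsNoetherian.noetherian J)
      (IsLocalRing.maximalIdeal_le_jacobson ⊥) hc)
  let q := Ideal.Quotient.mk K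
  have hmap : maximalIdeal (A ⧸ K) = (maximalIdeal A).map q :=
    (IsLocalRing.map_maximalIdeal_of_surjective q Ideal.Quotient.mk_surjective).symm
  have h1 : q y ∈ maximalIdeal (A ⧸ K) := hmap ▸ Ideal.mem_map_of_mem _ (hJ hy)
  have h2 : q y ∉ maximalIdeal (A ⧸ K) ^ 2 := by
    rw [hmap, ← Ideal.map_pow]
    intro hm
    obtain ⟨z, hz, hzy⟩ := (Ideal.mem_map_iff_of_surjective q Ideal.Quotient.mk_surjective).mp hm
    have hzyK : z - y ∈ K := Ideal.Quotient.eq.mp hzy
    have hzJ : z ∈ J := by simpa using J.add_mem (hKJ hzyK) hy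
    apply hy2
    have : y = -(z - y) + z := by ring
    rw [this]
    exact Submodule.add_mem_sup (K.neg_mem hzyK) (h ⟨hzJ, hz⟩)
  have hreg := (Groth.Agent.CAlgH3.regular_quotient_of_notMem_sq h1 h2).1
  have hmem : K ⊔ Ideal.span {y} ∈ S := by
    refine ⟨sup_le hKJ ((Ideal.span_singleton_le_iff_mem _).mpr hy), ?_⟩
    have : Ideal.span {q y} = (Ideal.span {y}).map q := by rw [Ideal.map_span, Set.image_singleton]
    exact IsRegularLocalRing.of_ringEquiv
      ((Ideal.quotEquivOfEq this).trans (DoubleQuot.quotQuotEquivQuotSup K (Ideal.span {y})))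
  refine hmax _ hmem (lt_of_le_of_ne le_sup_left fun he => hy2 ?_)
  exact Submodule.mem_sup_left (he ▸ Submodule.mem_sup_right (Ideal.mem_span_singleton_self y))

theorem coinvariant_inf_sq_le (k : Type u) [Field k] (A : Type u) [CommRing A]
    [Algebra k A] [IsLocalRing A]
    (hres : Function.Surjective (algebraMap k (IsLocalRing.ResidueField A)))
    (G : Type u) [Group G] [Finite G] [MulSemiringAction G A] [SMulCommClass G k A]
    (hG : (Nat.card G : k) ≠ 0) :
    let J := Ideal.span {x : A | ∃ (g : G) (a : A), x = g • a - a}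
    J ≤ maximalIdeal A ∧ J ⊓ maximalIdeal A ^ 2 ≤ maximalIdeal A * J := by
  intro J
  have : Fintype G := Fintype.ofFinite G
  set m := maximalIdeal A
  have hdec : ∀ a : A, ∃ c : k, a - algebraMap k A c ∈ m := fun a => by
    obtain ⟨c, hc⟩ := hres (residue A a)
    refine ⟨c, Ideal.Quotient.eq.mp (?_ : residue A a = residue A (algebraMap k A c))⟩
    rw [← hc]; rfl
  have hgc : ∀ (g : G) (c : k), g • algebraMap k A c = algebraMap k A c := fun g c => by
    rw [Algebra.algebraMap_eq_smul_one, smul_comm, smul_one]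
  have hgm : ∀ (g : G) a, a ∈ m → g • a ∈ m := fun g a ha hu =>
    ha (by simpa using hu.map (MulSemiringAction.toRingHom G A g⁻¹))
  have hJm : J ≤ m := Ideal.span_le.mpr (by
    rintro _ ⟨g, a, rfl⟩
    obtain ⟨c, hc⟩ := hdec a
    have : g • a - a = g • (a - algebraMap k A c) - (a - algebraMap k A c) := by
      rw [smul_sub, hgc]; ring
    rw [this]; exact m.sub_mem (hgm g _ hc) hc)
  have hgJ : ∀ (g : G) a, g • a - a ∈ J := fun g a => Ideal.subset_span ⟨g, a, rfl⟩
  have hgJ' : ∀ (g : G) a, a ∈ J → g • a ∈ J := fun g a ha => by simpa using J.add_mem (hgJ g a) ha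
  have hgmJ : ∀ (g : G) a, a ∈ m * J → g • a ∈ m * J := by
    intro g a ha
    refine Submodule.mul_induction_on ha (fun u hu v hv => ?_) (fun u v hu hv => ?_)
    · rw [smul_mul']; exact Ideal.mul_mem_mul (hgm g u hu) (hgJ' g v hv)
    · rw [smul_add]; exact add_mem hu hv
  have hsumJ : ∀ a ∈ J, ∑ g : G, g • a ∈ m * J := by
    intro a ha
    refine (Submodule.span_induction (p := fun x _ => x ∈ J ∧ ∑ g : G, g • x ∈ m * J) ?_ ?_ ?_ ?_ ha).2
    · rintro _ ⟨h, b, rfl⟩
      refine ⟨hgJ h b, ?_⟩
      simp only [smul_sub, Finset.sum_sub_distrib, smul_smul]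
      rw [show (∑ g : G, (g * h) • b) = ∑ g : G, g • b from
        Fintype.sum_equiv (Equiv.mulRight h) _ _ fun _ => rfl, sub_self]
      exact zero_mem _
    · exact ⟨zero_mem _, by simp⟩
    · rintro x y _ _ ⟨hx, hx'⟩ ⟨hy, hy'⟩
      refine ⟨add_mem hx hy, ?_⟩
      simp only [smul_add, Finset.sum_add_distrib]
      exact add_mem hx' hy'
    · rintro r x _ ⟨hx, hx'⟩
      refine ⟨Ideal.mul_mem_left _ _ hx, ?_⟩
      obtain ⟨c, hc⟩ := hdec r
      have e : r • x = algebraMap k A c * x + (r - algebraMap k A c) * x := by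
        rw [smul_eq_mul]; ring
      rw [e]
      simp only [smul_add, Finset.sum_add_distrib, smul_mul', hgc, ← Finset.mul_sum]
      exact add_mem (Ideal.mul_mem_left _ _ hx')
        (sum_mem fun g _ => by
          rw [← smul_mul']
          exact hgmJ g _ (Ideal.mul_mem_mul hc hx))
  refine ⟨hJm, fun a ha => ?_⟩
  obtain ⟨haJ, ha2⟩ := ha
  have hfix : ∀ g : G, g • a - a ∈ m * J := by
    intro g
    rw [pow_two] at ha2
    refine Submodule.mul_induction_on ha2 (fun u hu v hv => ?_) (fun u v hu hv => ?_)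
    · have : g • (u * v) - u * v = (g • v) * (g • u - u) + u * (g • v - v) := by rw [smul_mul']; ring
      rw [this]
      exact add_mem (Ideal.mul_mem_mul (hgm g v hv) (hgJ g u)) (Ideal.mul_mem_mul hu (hgJ g v))
    · rw [smul_add, add_sub_add_comm]; exact add_mem hu hv
  have hna : algebraMap k A (Nat.card G : k) * a ∈ m * J := by
    have e : algebraMap k A (Nat.card G : k) * a = (∑ g : G, g • a) - ∑ g : G, (g • a - a) := by
      rw [Finset.sum_sub_distrib, sub_sub_cancel, map_natCast, Finset.sum_const, nsmul_eq_mul,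
        Nat.card_eq_fintype_card, Finset.card_univ]
    rw [e]
    exact sub_mem (hsumJ a haJ) (sum_mem fun g _ => hfix g)
  exact (Ideal.unit_mul_mem_iff_mem _ ((IsUnit.mk0 _ hG).map (algebraMap k A))).mp hna

/-- Local form: let k be a field and A a regular local k-algebra with maximal ideal M and residue field
k (k maps onto A/M); let a finite group G whose order is invertible in k act on A by k-algebra
automorphisms. Then A/J is a regular local ring, where J is the ideal generated by the elements g·a
− a (J defines the fixed-point subscheme, so the fixed locus of G is smooth at the point). The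
accompanying identification of its tangent space with the G-invariants of the tangent space of A is
not restated here. -/
theorem result (k : Type u) [Field k] (A : Type u) [CommRing A]
    [Algebra k A] [IsRegularLocalRing A]
    (hres : Function.Surjective (algebraMap k (IsLocalRing.ResidueField A)))
    (G : Type u) [Group G] [Finite G] [MulSemiringAction G A] [SMulCommClass G k A]
    (hG : (Nat.card G : k) ≠ 0) :
    IsRegularLocalRing (A ⧸ Ideal.span {x : A | ∃ (g : G) (a : A), x = g • a - a}) := by
  obtain ⟨h1, h2⟩ := coinvariant_inf_sq_le k A hres G hG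
  exact regular_quotient_of_inf_sq_le _ h1 h2

end Groth.Agent.S19445
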