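import Groth.Statements.S19447
import Groth.Agent.ConstAct26.PseudoRefl
import Groth.Agent.CAlgH3.CompleteHom
import Groth.Agent.CAlgH3.RegularHom
import Groth.Agent.CAlgH.CompleteLocal

set_option autoImplicit false
set_option linter.style.haveILetI false
set_option backward.isDefEq.respectTransparency.types false
universe u
open ConstAct

namespace Groth.Agent.S19447

/-- Let k be an algebraically closed field, A the power series ring in n variables over k with maximal
ideal M, and G a finite group of order invertible in k acting faithfully on A by k-algebra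
automorphisms, A being finite over the ring of invariants A^G. Say g is a pseudo-reflection or acts
trivially on the cotangent space when A modulo M^2 and the elements g·a − a has dimension at least n
over k. If G is generated by such elements, then A is flat over A^G and A^G is a regular local ring:
generation by pseudo-reflections implies the other two conditions of the published criterion (only
this sufficiency half is stated; the converse implication is not part of this statement). -/
theorem result (k : Type u) [Field k]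
    [IsAlgClosed k] (n : ℕ) (G : Type u) [Group G] [Finite G] [MulSemiringAction G (MvPowerSeries (Fin n) k)]
    [SMulCommClass G k (MvPowerSeries (Fin n) k)] [FaithfulSMul G (MvPowerSeries (Fin n) k)]
    (hG : (Nat.card G : k) ≠ 0)
    [Module.Finite (ConstAct.inv k (MvPowerSeries (Fin n) k) G) (MvPowerSeries (Fin n) k)]
    (hgen : Subgroup.closure {g : G | n ≤ Module.finrank k (MvPowerSeries (Fin n) k ⧸
        (Ideal.span {x : MvPowerSeries (Fin n) k | ∃ a, x = g • a - a} ⊔
          IsLocalRing.maximalIdeal (MvPowerSeries (Fin n) k) ^ 2))} = ⊤) :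
    Module.Flat (ConstAct.inv k (MvPowerSeries (Fin n) k) G) (MvPowerSeries (Fin n) k) ∧
      IsRegularLocalRing (ConstAct.inv k (MvPowerSeries (Fin n) k) G) := by
  classical
  haveI : IsRegularLocalRing k := inferInstance
  haveI : IsRegularLocalRing (MvPowerSeries (Fin n) k) := (Groth.Agent.CAlgH.isRegularLocalRing_mvPowerSeries k n).1
  haveI : IsDomain (MvPowerSeries (Fin n) k) := NoZeroDivisors.to_isDomain _
  have hres : ∀ a : MvPowerSeries (Fin n) k, ∃ c : k,
      a - algebraMap k _ c ∈ IsLocalRing.maximalIdeal (MvPowerSeries (Fin n) k) := fun a => by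
    refine ⟨MvPowerSeries.constantCoeff a, ?_⟩
    rw [IsLocalRing.mem_maximalIdeal, mem_nonunits_iff, MvPowerSeries.isUnit_iff_constantCoeff, map_sub]
    rw [MvPowerSeries.algebraMap_apply, Algebra.algebraMap_self, RingHom.id_apply, MvPowerSeries.constantCoeff_C, sub_self]
    exact not_isUnit_zero
  have hℓ : ∀ g : G, n ≤ Module.finrank k (MvPowerSeries (Fin n) k ⧸
      (Ideal.span {x : MvPowerSeries (Fin n) k | ∃ a, x = g • a - a} ⊔
        IsLocalRing.maximalIdeal (MvPowerSeries (Fin n) k) ^ 2)) →
      ∃ v : MvPowerSeries (Fin n) k, ∀ a, ∃ c : k,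
        g • a - a - c • v ∈ IsLocalRing.maximalIdeal (MvPowerSeries (Fin n) k) ^ 2 := by
    intro g hg
    set m := IsLocalRing.maximalIdeal (MvPowerSeries (Fin n) k)
    set I := Ideal.span {x : MvPowerSeries (Fin n) k | ∃ a, x = g • a - a}
    let q₀ := Ideal.Quotient.mkₐ k (m ^ 2)
    let q₁ := Ideal.Quotient.mkₐ k (I ⊔ m ^ 2)
    let gen : Option (Fin n) → MvPowerSeries (Fin n) k ⧸ m ^ 2 := fun o => o.elim 1 fun i => q₀ (MvPowerSeries.X i)
    have hspan : Submodule.span k (Set.range gen) = ⊤ := by
      refine eq_top_iff.2 fun w _ => ?_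
      obtain ⟨a, rfl⟩ := Ideal.Quotient.mk_surjective w
      obtain ⟨c, hc⟩ := hres a
      rw [show m = Ideal.span (Set.range MvPowerSeries.X) from Groth.Agent.CAlgH3.maximalIdeal_mvPowerSeries_eq,
        Ideal.mem_span_range_iff_exists_fun] at hc
      obtain ⟨f, hf⟩ := hc
      choose e he using fun i => hres (f i)
      have key : Ideal.Quotient.mk (m ^ 2) a = c • gen none + ∑ i, e i • gen (some i) := by
        show q₀ a = c • (1 : MvPowerSeries (Fin n) k ⧸ m ^ 2) + ∑ i, e i • q₀ (MvPowerSeries.X i)
        rw [← map_one q₀, ← map_smul, ← Finset.sum_congr rfl fun i _ => map_smul q₀ (e i) (MvPowerSeries.X i),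
          ← map_sum, ← map_add]
        refine Ideal.Quotient.eq.2 ?_
        rw [← sub_sub, ← Algebra.algebraMap_eq_smul_one, ← hf, ← Finset.sum_sub_distrib]
        refine sum_mem fun i _ => ?_
        rw [Algebra.smul_def, ← sub_mul, pow_two]
        refine Ideal.mul_mem_mul (he i) ?_
        show MvPowerSeries.X i ∈ IsLocalRing.maximalIdeal (MvPowerSeries (Fin n) k)
        rw [Groth.Agent.CAlgH3.maximalIdeal_mvPowerSeries_eq]
        exact Ideal.subset_span ⟨i, rfl⟩
      rw [key]
      exact add_mem (Submodule.smul_mem _ _ (Submodule.subset_span ⟨none, rfl⟩))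
        (sum_mem fun i _ => Submodule.smul_mem _ _ (Submodule.subset_span ⟨some i, rfl⟩))
    haveI : Module.Finite k (MvPowerSeries (Fin n) k ⧸ m ^ 2) := ⟨hspan ▸ Submodule.fg_span (Set.finite_range _)⟩
    have hdim : Module.finrank k (MvPowerSeries (Fin n) k ⧸ m ^ 2) ≤ n + 1 := by
      rw [← finrank_top k (MvPowerSeries (Fin n) k ⧸ m ^ 2), ← hspan]
      refine (finrank_range_le_card gen).trans (le_of_eq ?_)
      rw [Fintype.card_option, Fintype.card_fin]
    let P : (MvPowerSeries (Fin n) k ⧸ m ^ 2) →ₗ[k] MvPowerSeries (Fin n) k ⧸ (I ⊔ m ^ 2) :=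
      (Ideal.Quotient.factorₐ k (le_sup_right : m ^ 2 ≤ I ⊔ m ^ 2)).toLinearMap
    have hP : LinearMap.range P = ⊤ := LinearMap.range_eq_top.2 (Ideal.Quotient.factor_surjective le_sup_right)
    have h1 := P.finrank_range_add_finrank_ker
    rw [hP, finrank_top] at h1
    have h2 : Module.finrank k (LinearMap.ker P) ≤ 1 := by omega
    obtain ⟨⟨w, hwk⟩, hw⟩ := finrank_le_one_iff.1 h2
    obtain ⟨v, hv⟩ := Ideal.Quotient.mk_surjective w
    refine ⟨v, fun a => ?_⟩
    have hmem : q₀ (g • a - a) ∈ LinearMap.ker P :=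
      LinearMap.mem_ker.2 (Ideal.Quotient.eq_zero_iff_mem.2 (Ideal.mem_sup_left (Ideal.subset_span ⟨a, rfl⟩)))
    obtain ⟨c, hc⟩ := hw ⟨_, hmem⟩
    refine ⟨c, Ideal.Quotient.eq.1 ?_⟩
    have h3 : c • w = q₀ (g • a - a) := congrArg Subtype.val hc
    rw [← hv] at h3
    exact h3.symm.trans (map_smul q₀ c v).symm
  haveI hflat : Module.Flat (ConstAct.inv k (MvPowerSeries (Fin n) k) G) (MvPowerSeries (Fin n) k) :=
    Groth.Agent.ConstAct26.flat_of_generated hG
      (fun g h => eq_of_smul_eq_smul fun a : MvPowerSeries (Fin n) k => (h a).trans (one_smul G a).symm) _ hgen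
      (fun g hg => Groth.Agent.ConstAct26.exists_principal hG hres g (hℓ g hg))
  refine ⟨hflat, ?_⟩
  haveI := Groth.Agent.ConstAct26.isLocalRing_inv (k := k) (A := MvPowerSeries (Fin n) k) (G := G)
  haveI := Fintype.ofFinite G
  haveI := Groth.Agent.ConstAct26.isNoetherianRing_inv (k := k) (A := MvPowerSeries (Fin n) k) (G := G) hG
  haveI : IsLocalHom (algebraMap (ConstAct.inv k (MvPowerSeries (Fin n) k) G) (MvPowerSeries (Fin n) k)) :=
    ⟨fun b hb => (Groth.Agent.ConstAct26.isUnit_coe_iff b).1 hb⟩
  exact Groth.Agent.CAlgH3.isRegularLocalRing_of_flat (MvPowerSeries (Fin n) k)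

end Groth.Agent.S19447
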