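import Groth.Statements.S19449
import Mathlib
-- import your own Groth.Agent.* helpers here

set_option autoImplicit false
universe u
open SymRep

namespace Groth.Agent.S19449

open MvPolynomial in
theorem det_eq {k : Type u} [Field k] {n : ℕ} (q : Fin n → ℕ × ℕ) :
    (Matrix.of fun i j : Fin n =>
      (X (i, 0) : MvPolynomial (Fin n × Fin 2) k) ^ (q j).1 * X (i, 1) ^ (q j).2).det =
    ∑ σ : Equiv.Perm (Fin n), ((Equiv.Perm.sign σ : ℤˣ) : ℤ) • rename (fun v : Fin n × Fin 2 => (σ v.1, v.2))
      (∏ i, (X (i, 0) : MvPolynomial (Fin n × Fin 2) k) ^ (q i).1 * X (i, 1) ^ (q i).2) := by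
  rw [Matrix.det_apply]
  refine Finset.sum_congr rfl fun σ _ => ?_
  rw [map_prod]
  simp [Units.smul_def]

open MvPolynomial in
theorem mono_eq {k : Type u} [Field k] {n : ℕ} (d : Fin n × Fin 2 →₀ ℕ) (a : k) :
    monomial d a = C a * ∏ i, (X (i, 0) : MvPolynomial (Fin n × Fin 2) k) ^ d (i, 0) * X (i, 1) ^ d (i, 1) := by
  rw [monomial_eq, Finsupp.prod_fintype _ _ (fun _ => pow_zero _), Fintype.prod_prod_type]
  simp only [Fin.prod_univ_two]


/-- Over a field k of characteristic zero, let the symmetric group S_n act on the polynomial ring in the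
2n variables x_i, y_i (i < n; the variable (i, 0) is x_i and (i, 1) is y_i) by permuting the index
i, and for an n-tuple p of pairs (p_j, q_j) of exponents let Δ_p be the determinant det(x_i^{p_j}
y_i^{q_j}). A polynomial is alternating — each permutation acts on it by its sign — exactly when it
is a k-linear combination of the Δ_p; and the Δ_p for p strictly increasing in the lexicographic
order on pairs (one for each n-element set of exponent pairs) are linearly independent. Hence these
Δ_p form a basis of the space of alternating polynomials. -/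
theorem result (k : Type u) [Field k] [CharZero k] (n : ℕ) :
    (∀ f : MvPolynomial (Fin n × Fin 2) k,
      (∀ σ : Equiv.Perm (Fin n),
          MvPolynomial.rename (fun v : Fin n × Fin 2 => (σ v.1, v.2)) f = ((Equiv.Perm.sign σ : ℤˣ) : ℤ) • f) ↔
        f ∈ Submodule.span k (Set.range fun p : Fin n → ℕ × ℕ =>
          (Matrix.of fun i j : Fin n =>
            (MvPolynomial.X (i, 0) : MvPolynomial (Fin n × Fin 2) k) ^ (p j).1 * MvPolynomial.X (i, 1) ^ (p j).2).det)) ∧
    LinearIndependent k (fun p : {p : Fin n → ℕ ×ₗ ℕ // StrictMono p} =>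
      (Matrix.of fun i j : Fin n =>
        (MvPolynomial.X (i, 0) : MvPolynomial (Fin n × Fin 2) k) ^ (ofLex (p.1 j)).1 *
          MvPolynomial.X (i, 1) ^ (ofLex (p.1 j)).2).det) := by
  classical
  refine ⟨fun f => ⟨fun h => ?_, fun hf => ?_⟩, ?_⟩
  · have hfac : (n.factorial : k) ≠ 0 := Nat.cast_ne_zero.2 n.factorial_ne_zero
    have e1 : (n.factorial : k) • f = ∑ σ : Equiv.Perm (Fin n), ((Equiv.Perm.sign σ : ℤˣ) : ℤ) •
        MvPolynomial.rename (fun v : Fin n × Fin 2 => (σ v.1, v.2)) f := by
      rw [Finset.sum_congr rfl fun σ _ => show ((Equiv.Perm.sign σ : ℤˣ) : ℤ) • MvPolynomial.rename (fun v : Fin n × Fin 2 => (σ v.1, v.2)) f = f by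
        rw [h σ, smul_smul, Int.units_coe_mul_self, one_smul]]
      rw [Finset.sum_const, Finset.card_univ, Fintype.card_perm, Fintype.card_fin, Nat.cast_smul_eq_nsmul]
    have e2 : f = (n.factorial : k)⁻¹ • ∑ d ∈ f.support, f.coeff d • (Matrix.of fun i j : Fin n =>
        (MvPolynomial.X (i, 0) : MvPolynomial (Fin n × Fin 2) k) ^ (d (j, 0), d (j, 1)).1 * MvPolynomial.X (i, 1) ^ (d (j, 0), d (j, 1)).2).det := by
      rw [eq_inv_smul_iff₀ hfac, e1]
      conv_lhs => enter [2, σ]; rw [f.as_sum, map_sum, Finset.smul_sum]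
      rw [Finset.sum_comm]
      refine Finset.sum_congr rfl fun d _ => ?_
      rw [det_eq (fun j => (d (j, 0), d (j, 1))), Finset.smul_sum]
      refine Finset.sum_congr rfl fun σ _ => ?_
      rw [mono_eq, map_mul, MvPolynomial.rename_C, ← MvPolynomial.smul_eq_C_mul, smul_comm]
    rw [e2]
    exact Submodule.smul_mem _ _ (Submodule.sum_mem _ fun d _ =>
      Submodule.smul_mem _ _ (Submodule.subset_span ⟨fun j => (d (j, 0), d (j, 1)), rfl⟩))
  · intro σ
    induction hf using Submodule.span_induction with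
    | mem x hx =>
      obtain ⟨q, rfl⟩ := hx
      rw [AlgHom.map_det]
      have : (MvPolynomial.rename (fun v : Fin n × Fin 2 => (σ v.1, v.2))).mapMatrix (Matrix.of fun i j : Fin n =>
          (MvPolynomial.X (i, 0) : MvPolynomial (Fin n × Fin 2) k) ^ (q j).1 * MvPolynomial.X (i, 1) ^ (q j).2) =
          (Matrix.of fun i j : Fin n =>
          (MvPolynomial.X (i, 0) : MvPolynomial (Fin n × Fin 2) k) ^ (q j).1 * MvPolynomial.X (i, 1) ^ (q j).2).submatrix σ id := by
        refine Matrix.ext fun i j => ?_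
        simp
      rw [this, Matrix.det_permute, ← zsmul_eq_mul]
    | zero => rw [map_zero, smul_zero]
    | add x y _ _ hx hy => rw [map_add, hx, hy, smul_add]
    | smul a x _ hx => rw [map_smul, hx, smul_comm]
  · -- independence, read off on the exponents
    let E : (Fin n → ℕ × ℕ) → (Fin n × Fin 2 →₀ ℕ) := fun q =>
      Finsupp.equivFunOnFinite.symm fun v => if v.2 = 0 then (q v.1).1 else (q v.1).2
    have hE0 : ∀ q i, E q (i, 0) = (q i).1 := fun q i => by simp [E]
    have hE1 : ∀ q i, E q (i, 1) = (q i).2 := fun q i => by simp [E]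
    let q : {p : Fin n → ℕ ×ₗ ℕ // StrictMono p} → (Fin n → ℕ × ℕ) := fun p j => ofLex (p.1 j)
    have hcoeff : ∀ p p' : {p : Fin n → ℕ ×ₗ ℕ // StrictMono p},
        ((Matrix.of fun i j : Fin n =>
          (MvPolynomial.X (i, 0) : MvPolynomial (Fin n × Fin 2) k) ^ (q p' j).1 * MvPolynomial.X (i, 1) ^ (q p' j).2).det).coeff (E (q p)) =
        if p' = p then 1 else 0 := by
      intro p p'
      have hm : (∏ i, (MvPolynomial.X (i, 0) : MvPolynomial (Fin n × Fin 2) k) ^ (q p' i).1 * MvPolynomial.X (i, 1) ^ (q p' i).2) =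
          MvPolynomial.monomial (E (q p')) 1 := by
        rw [mono_eq, map_one, one_mul]; simp only [hE0, hE1]
      have key : ∀ σ : Equiv.Perm (Fin n),
          (E (q p')).mapDomain (fun v : Fin n × Fin 2 => (σ v.1, v.2)) = E (q p) → σ = 1 ∧ p' = p := by
        intro σ hσ
        have hinj : Function.Injective (fun v : Fin n × Fin 2 => (σ v.1, v.2)) := fun a b h => by
          obtain ⟨h1, h2⟩ := Prod.mk.injEq .. ▸ h
          exact Prod.ext (σ.injective h1) h2
        have hpt : ∀ i, p'.1 i = p.1 (σ i) := fun i => by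
          have a0 := DFunLike.congr_fun hσ (σ i, 0)
          have a1 := DFunLike.congr_fun hσ (σ i, 1)
          rw [show ((σ i, 0) : Fin n × Fin 2) = (fun v : Fin n × Fin 2 => (σ v.1, v.2)) (i, 0) from rfl, Finsupp.mapDomain_apply hinj] at a0
          rw [show ((σ i, 1) : Fin n × Fin 2) = (fun v : Fin n × Fin 2 => (σ v.1, v.2)) (i, 1) from rfl, Finsupp.mapDomain_apply hinj] at a1
          simp only [hE0, hE1] at a0 a1
          exact congrArg toLex (Prod.ext a0 a1 : q p' i = q p (σ i))
        have heq : p'.1 = p.1 := (p'.2.range_inj p.2).1 (by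
          rw [show p'.1 = p.1 ∘ σ from funext hpt, Set.range_comp, σ.range_eq_univ, Set.image_univ])
        refine ⟨Equiv.ext fun i => ?_, Subtype.ext heq⟩
        have := hpt i
        rw [heq] at this
        exact (p.2.injective this).symm
      rw [det_eq, hm]
      simp only [MvPolynomial.rename_monomial, zsmul_eq_mul, MvPolynomial.coeff_sum]
      rw [Finset.sum_eq_single 1]
      · simp only [Equiv.Perm.sign_one, Units.val_one, Int.cast_one, one_mul, MvPolynomial.coeff_monomial, Equiv.Perm.coe_one, id_eq, Prod.mk.eta]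
        rw [show (fun v : Fin n × Fin 2 => v) = id from rfl, Finsupp.mapDomain_id]
        by_cases hpp : p' = p
        · rw [if_pos hpp, if_pos (by rw [hpp])]
        · rw [if_neg hpp, if_neg]
          intro h'
          exact hpp (key 1 (by rw [show (fun v : Fin n × Fin 2 => ((1 : Equiv.Perm (Fin n)) v.1, v.2)) = id from rfl, Finsupp.mapDomain_id]; exact h')).2
      · intro σ _ hσ
        rw [show (((Equiv.Perm.sign σ : ℤˣ) : ℤ) : MvPolynomial (Fin n × Fin 2) k) = MvPolynomial.C (((Equiv.Perm.sign σ : ℤˣ) : ℤ) : k) from (map_intCast (MvPolynomial.C : k →+* MvPolynomial (Fin n × Fin 2) k) _).symm, MvPolynomial.coeff_C_mul, MvPolynomial.coeff_monomial, if_neg (fun h' => hσ (key σ h').1), mul_zero]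
      · simp
    rw [linearIndependent_iff']
    intro s g hg p hp
    have := congrArg (MvPolynomial.coeff (E (q p))) hg
    rw [MvPolynomial.coeff_sum, MvPolynomial.coeff_zero] at this
    simp only [MvPolynomial.coeff_smul] at this
    rw [Finset.sum_congr rfl fun p' _ => congrArg (g p' • ·) (hcoeff p p')] at this
    simpa [hp] using this

end Groth.Agent.S19449
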