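import Groth.Statements.S19450
import Groth.Agent.AGFQuot23.SymRegular
import Groth.Agent.VarietyLib.SmoothStalk
import Groth.Agent.GenSmoothLib.TangentRank
import Groth.Agent.H8Lim.ProjLinePow
import Groth.Agent.Stk19b.SymAff.Chart
import Groth.Agent.SGA1Quot.Affine
import Groth.Agent.SGA1Quot.AffineQuot
import Mathlib.AlgebraicGeometry.AlgClosed.Basic
open Groth.Agent
open scoped Pointwise
set_option backward.isDefEq.respectTransparency.types false
set_option backward.isDefEq.respectTransparency false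
set_option maxHeartbeats 1000000

set_option autoImplicit false
universe u
open CategoryTheory CategoryTheory.Limits AlgebraicGeometry
open SymProd

namespace Groth.Agent.S19450

theorem smooth_base {S X : Scheme.{u}} (f : X ⟶ S) [Smooth f] :
    ∀ n : ℕ, Smooth (WidePullback.base (fun _ : Fin n => f)) := by
  intro n
  induction n with
  | zero =>
    haveI : IsIso (WidePullback.base (fun _ : Fin 0 => f)) :=
      ⟨WidePullback.lift (𝟙 S) (fun j : Fin 0 => j.elim0) (fun j => j.elim0),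
        WidePullback.hom_ext _ _ _ (fun j => j.elim0)
          (by rw [Category.assoc, WidePullback.lift_base, Category.comp_id, Category.id_comp]),
        WidePullback.lift_base _ _ _ _⟩
    infer_instance
  | succ n ih =>
    obtain ⟨e, he⟩ := Groth.Agent.H8Lim.ProjLineProd.exists_split f n
    rw [← he]
    haveI := ih
    infer_instance

theorem mem_prime_iff {k : Type u} [Field k] {Z : Scheme.{u}} (ζ : Spec (CommRingCat.of k) ⟶ Z)
    {U : Z.Opens} (hU : IsAffineOpen U) {z : Z} (hζ : ζ (IsLocalRing.closedPoint k) = z) (hz : z ∈ U)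
    (h : ⊤ ≤ ζ ⁻¹ᵁ U) (a : Γ(Z, U)) :
    a ∈ (hU.primeIdealOf ⟨z, hz⟩).asIdeal ↔ ζ.appLE U ⊤ h a = 0 := by
  subst hζ
  have h1 := IsAffineOpen.comap_primeIdealOf_appLE U hU ⊤ (isAffineOpen_top _) h
    (x := IsLocalRing.closedPoint k) trivial
  rw [← congrArg PrimeSpectrum.asIdeal h1]
  have hF : IsField Γ(Spec (CommRingCat.of k), ⊤) :=
    ((Scheme.ΓSpecIso (CommRingCat.of k)).commRingCatIsoToRingEquiv.toMulEquiv).isField (Field.toIsField k)
  letI := hF.toField
  have hP : ∀ P : Ideal Γ(Spec (CommRingCat.of k), ⊤), P.IsPrime → P = ⊥ := fun P hP =>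
    (Ideal.eq_bot_or_top P).resolve_right hP.ne_top
  exact Iff.of_eq (congrArg (fun P : Ideal Γ(Spec (CommRingCat.of k), ⊤) => (ζ.appLE U ⊤ h).hom a ∈ P)
    (hP ((isAffineOpen_top (Spec (CommRingCat.of k))).primeIdealOf
      ⟨IsLocalRing.closedPoint k, trivial⟩).asIdeal (PrimeSpectrum.isPrime _)))

theorem appLE_eq_id {Z : Scheme.{u}} (a : Z ⟶ Z) (ha : a = 𝟙 Z) (e : ⊤ ≤ a ⁻¹ᵁ ⊤) :
    a.appLE ⊤ ⊤ e = 𝟙 Γ(Z, ⊤) := by
  subst ha
  simp only [Scheme.Hom.appLE, Scheme.Hom.id_app]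
  exact (Category.id_comp _).trans (Z.presheaf.map_id _)

theorem not_le_span_sup_sq {R : Type u} [CommRing R] [IsNoetherianRing R] (N : Ideal R) [N.IsMaximal] {d : ℕ}
    (hd : 2 ≤ d) (hdim : ringKrullDim (Localization.AtPrime N) = d) {t : R} (ht : t ∈ N) :
    ¬ N ≤ Ideal.span {t} ⊔ N * N := fun hle => by
  let L := Localization.AtPrime N
  have hM : IsLocalRing.maximalIdeal L = Ideal.span {algebraMap _ L t} := by
    refine le_antisymm ?_ (by
      rw [Ideal.span_singleton_le_iff_mem, IsLocalization.AtPrime.to_map_mem_maximal_iff L N]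
      exact ht)
    refine Submodule.le_of_le_smul_of_le_jacobson_bot (IsNoetherian.noetherian _)
      (IsLocalRing.maximalIdeal_le_jacobson _) ?_
    rw [← Localization.AtPrime.map_eq_maximalIdeal]
    refine (Ideal.map_mono hle).trans ?_
    rw [Ideal.map_sup, Ideal.map_span, Set.image_singleton, Ideal.map_mul]
    exact le_of_eq rfl
  have h1 : ringKrullDim L ≤ 1 := by
    refine (ringKrullDim_le_spanFinrank_maximalIdeal L).trans ?_
    rw [hM]
    exact_mod_cast (Submodule.spanFinrank_span_le_ncard_of_finite (Set.finite_singleton _)).trans (by simp)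
  rw [hdim] at h1
  have : d ≤ 1 := by exact_mod_cast h1
  omega

theorem dim_local {k : Type u} [Field k] [IsAlgClosed k] {X : Scheme.{u}} (f : X ⟶ Spec (CommRingCat.of k))
    [LocallyOfFiniteType f] [IsIntegral X] {d : ℕ} (hdim : topologicalKrullDim X = d) {x : X}
    (hx : IsClosed ({x} : Set X)) {U : X.Opens} (hU : IsAffineOpen U) (hxU : x ∈ U) :
    ringKrullDim (Localization.AtPrime (hU.primeIdealOf ⟨x, hxU⟩).asIdeal) = d := by
  haveI := hU.isLocalization_stalk ⟨x, hxU⟩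
  letI := TopCat.Presheaf.algebra_section_stalk X.presheaf (⟨x, hxU⟩ : U)
  rw [← ringKrullDim_eq_of_ringEquiv (IsLocalization.algEquiv (hU.primeIdealOf ⟨x, hxU⟩).asIdeal.primeCompl
      (X.presheaf.stalk x) _).toRingEquiv,
    GenSmoothLib.ringKrullDim_stalk_of_isClosed f x hx]
  have hη := DimLib.topologicalKrullDim_eq_ptDim_of_isGenericPoint f (genericPoint_spec X)
  rw [(Homeomorph.Set.univ X).isHomeomorph.topologicalKrullDim_eq, hdim] at hη
  exact hη.symm

variable {k : Type u} [Field k] {X : Scheme.{u}} (f : X ⟶ Spec (CommRingCat.of k)) (n : ℕ)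

/-- Restriction to a slice through a rational point of the fibre power. -/
theorem exists_slice (ζ : Spec (CommRingCat.of k) ⟶ fibPow f n)
    (hζb : ζ ≫ WidePullback.base (fun _ : Fin n => f) = 𝟙 _) (U : X.Opens) (Ω : (fibPow f n).Opens)
    (hπ : ∀ l, Ω ≤ WidePullback.π (fun _ : Fin n => f) l ⁻¹ᵁ U)
    (hΩ : ∀ w, (∀ l, WidePullback.π (fun _ : Fin n => f) l w ∈ U) → w ∈ Ω)
    (hζl : ∀ l, ⊤ ≤ (ζ ≫ WidePullback.π (fun _ : Fin n => f) l) ⁻¹ᵁ U) (hζΩ : ⊤ ≤ ζ ⁻¹ᵁ Ω) (i : Fin n) :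
    ∃ S : Γ(fibPow f n, Ω) ⟶ Γ(X, U),
      S ≫ (ζ ≫ WidePullback.π (fun _ : Fin n => f) i).appLE U ⊤ (hζl i) = ζ.appLE Ω ⊤ hζΩ ∧
      (WidePullback.π (fun _ : Fin n => f) i).appLE U Ω (hπ i) ≫ S = 𝟙 _ ∧
      ∀ l, l ≠ i → (WidePullback.π (fun _ : Fin n => f) l).appLE U Ω (hπ l) ≫ S =
        (ζ ≫ WidePullback.π (fun _ : Fin n => f) l).appLE U ⊤ (hζl l) ≫ f.appLE ⊤ U le_top := by
  have hcl : ∀ l, (ζ ≫ WidePullback.π (fun _ : Fin n => f) l) ≫ f = 𝟙 _ := fun l => by
    rw [Category.assoc, WidePullback.π_arrow]; exact hζb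
  let ι : (U : Scheme.{u}) ⟶ X := Scheme.Opens.ι U
  let s : (U : Scheme.{u}) ⟶ fibPow f n := WidePullback.lift (ι ≫ f)
    (fun l => if l = i then ι else (ι ≫ f) ≫ ζ ≫ WidePullback.π (fun _ : Fin n => f) l)
    (fun l => by
      split_ifs
      · rfl
      · rw [Category.assoc, hcl l, Category.comp_id])
  have hsi : s ≫ WidePullback.π (fun _ : Fin n => f) i = ι := by rw [WidePullback.lift_π, if_pos rfl]
  have hsj : ∀ l, l ≠ i → s ≫ WidePullback.π (fun _ : Fin n => f) l =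
      (ι ≫ f) ≫ ζ ≫ WidePullback.π (fun _ : Fin n => f) l := fun l hl => by
    rw [WidePullback.lift_π, if_neg hl]
  have hsΩ : ⊤ ≤ s ⁻¹ᵁ Ω := fun w _ => hΩ (s w) fun l => by
    rw [← Scheme.Hom.comp_apply]
    by_cases hl : l = i
    · subst hl
      rw [hsi]
      exact w.2
    · rw [hsj l hl, Scheme.Hom.comp_apply]
      exact hζl l (show _ ∈ ⊤ from trivial)
  have hιU : ⊤ ≤ ι ⁻¹ᵁ U := fun w _ => w.2
  have hT : ι ''ᵁ ⊤ = U := by simp [ι]
  haveI : IsIso (ι.appLE U ⊤ hιU) := by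
    simp only [ι, Scheme.Opens.ι_appLE]
    haveI : IsIso (homOfLE (show ι ''ᵁ ⊤ ≤ U from hT.le)) := ⟨homOfLE hT.ge, rfl, rfl⟩
    infer_instance
  let ξ : Spec (CommRingCat.of k) ⟶ (U : Scheme.{u}) :=
    IsOpenImmersion.lift ι (ζ ≫ WidePullback.π (fun _ : Fin n => f) i) (by
      rintro _ ⟨a, rfl⟩
      rw [Scheme.Opens.range_ι]
      exact hζl i (show a ∈ ⊤ from trivial))
  have hξ : ξ ≫ ι = ζ ≫ WidePullback.π (fun _ : Fin n => f) i := IsOpenImmersion.lift_fac _ _ _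
  have hξs : ξ ≫ s = ζ := by
    apply WidePullback.hom_ext
    · intro l
      rw [Category.assoc]
      by_cases hl : l = i
      · subst hl; rw [hsi, hξ]
      · rw [hsj l hl, ← Category.assoc, ← Category.assoc ξ, hξ, hcl i, Category.id_comp]
    · rw [Category.assoc, WidePullback.lift_base, ← Category.assoc, hξ, hcl i]
      exact hζb.symm
  have hcancel : ∀ {T : CommRingCat.{u}} (F : T ⟶ Γ(X, U)) (G : T ⟶ Γ((U : Scheme.{u}), ⊤)),
      F ≫ ι.appLE U ⊤ hιU = G → G ≫ inv (ι.appLE U ⊤ hιU) = F := fun F G h => by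
    rw [← h, Category.assoc, IsIso.hom_inv_id, Category.comp_id]
  refine ⟨s.appLE Ω ⊤ hsΩ ≫ inv (ι.appLE U ⊤ hιU), ?_, ?_, fun l hl => ?_⟩
  · have hinvη : inv (ι.appLE U ⊤ hιU) ≫ (ζ ≫ WidePullback.π (fun _ : Fin n => f) i).appLE U ⊤ (hζl i) =
        ξ.appLE ⊤ ⊤ le_top := by
      rw [IsIso.inv_comp_eq, Scheme.Hom.appLE_comp_appLE]
      exact SGA1Quot.appLE_congr _ _ _ _ hξ.symm
    rw [Category.assoc, hinvη, Scheme.Hom.appLE_comp_appLE]
    exact SGA1Quot.appLE_congr _ _ _ _ hξs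
  · rw [← Category.assoc]
    refine hcancel _ _ ?_
    rw [Category.id_comp, Scheme.Hom.appLE_comp_appLE]
    exact SGA1Quot.appLE_congr _ _ _ _ hsi.symm
  · rw [← Category.assoc]
    refine hcancel _ _ ?_
    rw [Category.assoc, Scheme.Hom.appLE_comp_appLE, Scheme.Hom.appLE_comp_appLE, Scheme.Hom.appLE_comp_appLE]
    exact SGA1Quot.appLE_congr _ _ _ _ (hsj l hl).symm

theorem witness [IsAlgClosed k] [LocallyOfFiniteType f] [IsIntegral X] {d : ℕ} (hd : 2 ≤ d)
    (hdim : topologicalKrullDim X = d) (ζ : Spec (CommRingCat.of k) ⟶ fibPow f n)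
    (hζb : ζ ≫ WidePullback.base (fun _ : Fin n => f) = 𝟙 _) (U : X.Opens) (hU : IsAffineOpen U)
    (Ω : (fibPow f n).Opens)
    (hπ : ∀ l, Ω ≤ WidePullback.π (fun _ : Fin n => f) l ⁻¹ᵁ U)
    (hΩ : ∀ w, (∀ l, WidePullback.π (fun _ : Fin n => f) l w ∈ U) → w ∈ Ω)
    (hζl : ∀ l, ⊤ ≤ (ζ ≫ WidePullback.π (fun _ : Fin n => f) l) ⁻¹ᵁ U) (hζΩ : ⊤ ≤ ζ ⁻¹ᵁ Ω)
    (m : Ideal Γ(fibPow f n, Ω)) (hm : ∀ a, a ∈ m ↔ ζ.appLE Ω ⊤ hζΩ a = 0)
    (σ : Equiv.Perm (Fin n)) (hσ : Ω ≤ permHom f n σ⁻¹ ⁻¹ᵁ Ω) (i : Fin n) (hi : σ i ≠ i)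
    (hζσ : ζ ≫ WidePullback.π (fun _ : Fin n => f) i = ζ ≫ WidePullback.π (fun _ : Fin n => f) (σ i))
    (t : Γ(fibPow f n, Ω)) (ht : t ∈ m) :
    ∃ a, (permHom f n σ⁻¹).appLE Ω Ω hσ a - a ∉ Ideal.span {t} ⊔ m * m := by
  by_contra hall
  push Not at hall
  obtain ⟨S, hSη, hSi, hSl⟩ := exists_slice f n ζ hζb U Ω hπ hΩ hζl hζΩ i
  let η := ζ ≫ WidePullback.π (fun _ : Fin n => f) i
  have hηf : η ≫ f = 𝟙 _ := by
    show (ζ ≫ WidePullback.π (fun _ : Fin n => f) i) ≫ f = 𝟙 _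
    rw [Category.assoc, WidePullback.π_arrow]; exact hζb
  let x := η (IsLocalRing.closedPoint k)
  have hx : x ∈ U := hζl i (show _ ∈ ⊤ from trivial)
  have hxc : IsClosed ({x} : Set X) := (pointEquivClosedPoint f ⟨η, hηf⟩).2
  haveI := hU.primeIdealOf_isMaximal_of_isClosed ⟨x, hx⟩ hxc
  haveI : IsNoetherianRing Γ(X, U) := by
    haveI : IsLocallyNoetherian X := LocallyOfFiniteType.isLocallyNoetherian f
    exact IsLocallyNoetherian.component_noetherian ⟨U, hU⟩
  have hN : ∀ u, u ∈ (hU.primeIdealOf ⟨x, hx⟩).asIdeal ↔ η.appLE U ⊤ (hζl i) u = 0 :=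
    mem_prime_iff η hU rfl hx (hζl i)
  have hSm : ∀ a ∈ m, S a ∈ (hU.primeIdealOf ⟨x, hx⟩).asIdeal := fun a ha => by
    rw [hN]
    exact (congrArg (fun F : Γ(fibPow f n, Ω) ⟶ Γ(Spec (CommRingCat.of k), ⊤) => F a) hSη).trans ((hm a).1 ha)
  refine not_le_span_sup_sq _ hd (dim_local f hdim hxc hU hx) (hSm t ht) fun u hu => ?_
  have h1 := Ideal.mem_map_of_mem S.hom (hall ((WidePullback.π (fun _ : Fin n => f) i).appLE U Ω (hπ i) u))
  rw [Ideal.map_sup, Ideal.map_span, Set.image_singleton, Ideal.map_mul, map_sub] at h1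
  have h2 : Ideal.map S.hom m ≤ (hU.primeIdealOf ⟨x, hx⟩).asIdeal := Ideal.map_le_iff_le_comap.2 hSm
  have h3 := sup_le_sup_left (Ideal.mul_mono h2 h2) _ h1
  have e1 : S.hom ((WidePullback.π (fun _ : Fin n => f) i).appLE U Ω (hπ i) u) = u :=
    congrArg (fun F : Γ(X, U) ⟶ Γ(X, U) => F u) hSi
  have e2 : (WidePullback.π (fun _ : Fin n => f) i).appLE U Ω (hπ i) ≫ (permHom f n σ⁻¹).appLE Ω Ω hσ =
      (WidePullback.π (fun _ : Fin n => f) (σ i)).appLE U Ω (hπ _) := by
    rw [Scheme.Hom.appLE_comp_appLE]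
    exact SGA1Quot.appLE_congr _ _ _ _ (permHom_π f n σ⁻¹ i)
  have e3 : S.hom ((permHom f n σ⁻¹).appLE Ω Ω hσ ((WidePullback.π (fun _ : Fin n => f) i).appLE U Ω (hπ i) u)) = 0 := by
    have := congrArg (fun F : Γ(X, U) ⟶ Γ(fibPow f n, Ω) => F u) e2
    refine (congrArg S.hom this).trans ?_
    refine (congrArg (fun F : Γ(X, U) ⟶ Γ(X, U) => F u) (hSl _ hi)).trans ?_
    show f.appLE ⊤ U le_top _ = 0
    rw [SGA1Quot.appLE_congr _ _ _ (hζl i) hζσ.symm]
    exact (congrArg (f.appLE ⊤ U le_top).hom ((hN u).1 hu)).trans (map_zero _)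
  rw [e1, e3, zero_sub] at h3
  exact neg_mem_iff.1 h3

theorem residue_lift (ζ : Spec (CommRingCat.of k) ⟶ fibPow f n)
    (hζb : ζ ≫ WidePullback.base (fun _ : Fin n => f) = 𝟙 _) {Y : Scheme.{u}} (q : fibPow f n ⟶ Y)
    (g : Y ⟶ Spec (CommRingCat.of k)) (hqg : q ≫ g = WidePullback.base (fun _ : Fin n => f)) (W : Y.Opens)
    (h : ⊤ ≤ ζ ⁻¹ᵁ (q ⁻¹ᵁ W)) (c : Γ(Spec (CommRingCat.of k), ⊤)) :
    ζ.appLE (q ⁻¹ᵁ W) ⊤ h (q.app W (g.appLE ⊤ W le_top c)) = c := by
  have h1 : g.appLE ⊤ W le_top ≫ q.app W ≫ ζ.appLE (q ⁻¹ᵁ W) ⊤ h = 𝟙 _ := by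
    rw [Scheme.Hom.app_eq_appLE, Scheme.Hom.appLE_comp_appLE, Scheme.Hom.appLE_comp_appLE]
    exact appLE_eq_id _ (show (ζ ≫ q) ≫ g = 𝟙 _ by rw [Category.assoc, hqg]; exact hζb) _
  exact congrArg (fun F : Γ(Spec (CommRingCat.of k), ⊤) ⟶ Γ(Spec (CommRingCat.of k), ⊤) => F c) h1

theorem eval_perm (ζ : Spec (CommRingCat.of k) ⟶ fibPow f n) (τ : Equiv.Perm (Fin n))
    (hτ : ζ ≫ permHom f n τ = ζ) (Ω : (fibPow f n).Opens) (hΩ : Ω ≤ permHom f n τ ⁻¹ᵁ Ω) (h : ⊤ ≤ ζ ⁻¹ᵁ Ω)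
    (a : Γ(fibPow f n, Ω)) : ζ.appLE Ω ⊤ h ((permHom f n τ).appLE Ω Ω hΩ a) = ζ.appLE Ω ⊤ h a := by
  have h1 : (permHom f n τ).appLE Ω Ω hΩ ≫ ζ.appLE Ω ⊤ h = ζ.appLE Ω ⊤ h := by
    rw [Scheme.Hom.appLE_comp_appLE]
    exact SGA1Quot.appLE_congr _ _ _ _ hτ
  exact congrArg (fun F : Γ(fibPow f n, Ω) ⟶ Γ(Spec (CommRingCat.of k), ⊤) => F a) h1

/-- Let k be an algebraically closed field, X an irreducible smooth separated k-scheme of dimension d ≥
2 in which every finite set of points lies in an affine open (as for X quasi-projective), n ≥ 2, and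
q : X ×_k ⋯ ×_k X → Y (n factors) a symmetric product over k, i.e. a quotient by the symmetric group
permuting the factors. Then for a closed point z of the n-fold product, the local ring of Y at q(z)
is regular if and only if the n components of z are pairwise distinct points of X; that is, the
singular locus of the n-th symmetric power is the image of the big diagonal. -/
theorem result (k : Type u) [Field k] [IsAlgClosed k]
    (X : Scheme.{u}) (f : X ⟶ Spec (CommRingCat.of k)) [Smooth f] [IsSeparated f]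
    [IrreducibleSpace X]
    (d : ℕ) (hd : 2 ≤ d) (hdim : topologicalKrullDim X = d) (hAF : SymProd.IsAF f)
    (n : ℕ) (hn : 2 ≤ n) (Y : Scheme.{u}) (q : SymProd.fibPow f n ⟶ Y) (g : Y ⟶ Spec (CommRingCat.of k))
    (hY : SymProd.IsSymProd f n q g) (z : SymProd.fibPow f n) (hz : IsClosed ({z} : Set (SymProd.fibPow f n))) :
    IsRegularLocalRing (Y.presheaf.stalk (q.base z)) ↔
      Function.Injective (fun i : Fin n => (WidePullback.π (fun _ : Fin n => f) i).base z) := by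
  haveI : IsReduced X := AlgSpLib.isReduced_of_smooth' f
  haveI : IsIntegral X := isIntegral_of_irreducibleSpace_of_isReduced X
  haveI : Smooth (WidePullback.base (fun _ : Fin n => f)) := smooth_base f n
  set b : SymProd.fibPow f n ⟶ Spec (CommRingCat.of k) := WidePullback.base (fun _ : Fin n => f) with hb
  haveI : LocallyOfFiniteType b := inferInstance
  haveI : LocallyOfFiniteType (q ≫ g) := by rw [hY.over]; infer_instance
  haveI : LocallyOfFiniteType g := SGA1Quot.locallyOfFiniteType_of_comp' hY.isQuot g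
  haveI : IsLocallyNoetherian Y := LocallyOfFiniteType.isLocallyNoetherian g
  haveI := hY.isQuot.affine
  haveI : IsFinite q := SGA1Quot.isFinite_of_locallyOfFiniteType hY.isQuot g
  obtain ⟨V, U, e, W', hy, -, hmem⟩ := Stk19b.SymAff.exists_chart f hAF q g hY (q z)
  set W := W'.1
  set Ω := q ⁻¹ᵁ W
  have hΩ : IsAffineOpen Ω := W'.2.preimage q
  let hp := hY.isQuot
  letI := SGA1Quot.action hp W
  letI := (q.app W).hom.toAlgebra
  haveI := SGA1Quot.action_invariant hp W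
  haveI := SGA1Quot.action_comm hp W
  haveI : IsNoetherianRing Γ(Y, W) := IsLocallyNoetherian.component_noetherian W'
  have hmemF : ∀ a, algebraMap Γ(Y, W) Γ(SymProd.fibPow f n, Ω) a ∈
      FixedPoints.subring Γ(SymProd.fibPow f n, Ω) (ULift.{u} (Equiv.Perm (Fin n))) := fun a σ => smul_algebraMap σ a
  let e0 : Γ(Y, W) ≃+* FixedPoints.subring Γ(SymProd.fibPow f n, Ω) (ULift.{u} (Equiv.Perm (Fin n))) :=
    RingEquiv.ofBijective ((q.app W).hom.codRestrict _ hmemF)
      ⟨fun a a' h => hp.injective W (congrArg Subtype.val h), fun x => by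
        obtain ⟨a, ha⟩ := Algebra.IsInvariant.isInvariant (A := Γ(Y, W)) x.1 x.2
        exact ⟨a, Subtype.ext ha⟩⟩
  haveI : IsNoetherianRing (FixedPoints.subring Γ(SymProd.fibPow f n, Ω) (ULift.{u} (Equiv.Perm (Fin n)))) :=
    isNoetherianRing_of_ringEquiv _ e0
  haveI : Module.Finite (FixedPoints.subring Γ(SymProd.fibPow f n, Ω) (ULift.{u} (Equiv.Perm (Fin n))))
      Γ(SymProd.fibPow f n, Ω) := by
    have hfin : ((FixedPoints.subring Γ(SymProd.fibPow f n, Ω) (ULift.{u} (Equiv.Perm (Fin n)))).subtype.comp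
        e0.toRingHom).Finite := IsFinite.finite_app (f := q) W W'.2
    exact RingHom.finite_algebraMap.1 (RingHom.Finite.of_comp_finite hfin)
  set m := (hΩ.primeIdealOf ⟨z, hy⟩).asIdeal with hm
  haveI : m.IsMaximal := hΩ.primeIdealOf_isMaximal_of_isClosed ⟨z, hy⟩ hz
  let ζ := pointOfClosedPoint b z hz
  have hζ : ∀ a, ζ a = z := pointOfClosedPoint_apply b z hz
  have hζb : ζ ≫ b = 𝟙 _ := pointOfClosedPoint_comp b z hz
  have hζΩ : ⊤ ≤ ζ ⁻¹ᵁ Ω := fun a _ => by show ζ a ∈ Ω; rw [hζ]; exact hy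
  have hker : ∀ a, a ∈ m ↔ ζ.appLE Ω ⊤ hζΩ a = 0 := mem_prime_iff ζ hΩ (hζ _) hy hζΩ
  have hperm : ∀ σ : Equiv.Perm (Fin n), Ω ≤ SymProd.permHom f n σ ⁻¹ᵁ Ω := fun σ =>
    SGA1.preimage_le_of_inv (SymProd.permActU f n) q hp.inv ⟨σ⟩ W
  have hsmul : ∀ (σ : ULift.{u} (Equiv.Perm (Fin n))) a,
      σ • a = (SymProd.permHom f n σ.down⁻¹).appLE Ω Ω (hperm _) a := fun σ a => by
    rw [SGA1Quot.action_smul hp W σ a]
    simp only [FEtQuot.act]
    rfl
  have hcl : ∀ i : Fin n, (ζ ≫ WidePullback.π (fun _ : Fin n => f) i) ≫ f = 𝟙 _ := fun i => by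
    rw [Category.assoc, WidePullback.π_arrow]; exact hζb
  -- coordinates of a fixed point
  have hcoord : ∀ σ ∈ m.inertia (ULift.{u} (Equiv.Perm (Fin n))), ∀ l : Fin n,
      WidePullback.π (fun _ : Fin n => f) (σ.down.symm l) z = WidePullback.π (fun _ : Fin n => f) l z := by
    intro σ hσ l
    have hst : σ • m = m := MulAction.mem_stabilizer_iff.1 (Ideal.inertia_le_stabilizer m hσ)
    have h1 := SGA1Quot.fromSpec_smul hp hΩ σ (hΩ.primeIdealOf ⟨z, hy⟩) (hΩ.primeIdealOf ⟨z, hy⟩) hst.symm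
    rw [hΩ.fromSpec_primeIdealOf] at h1
    change z = SymProd.permHom f n σ.down z at h1
    conv_rhs => rw [h1, ← Scheme.Hom.comp_apply, SymProd.permHom_π]
  -- stalks
  have hregA : IsRegularLocalRing (Localization.AtPrime m) := by
    haveI := VarietyLib.isRegularLocalRing_stalk_of_smooth k (SymProd.fibPow f n) b z
    haveI := hΩ.isLocalization_stalk ⟨z, hy⟩
    letI := TopCat.Presheaf.algebra_section_stalk (SymProd.fibPow f n).presheaf (⟨z, hy⟩ : Ω)
    exact IsRegularLocalRing.of_ringEquiv (R := (SymProd.fibPow f n).presheaf.stalk z)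
      (IsLocalization.algEquiv m.primeCompl _ (Localization.AtPrime m)).toRingEquiv
  have hiff : IsRegularLocalRing (Y.presheaf.stalk (q z)) ↔ IsRegularLocalRing (Localization.AtPrime
      (m.comap (FixedPoints.subring Γ(SymProd.fibPow f n, Ω) (ULift.{u} (Equiv.Perm (Fin n)))).subtype)) := by
    have hpm : (W'.2.primeIdealOf ⟨q z, hy⟩).asIdeal = m.comap (q.app W).hom := by
      rw [Scheme.Hom.app_eq_appLE]
      exact (congrArg PrimeSpectrum.asIdeal (IsAffineOpen.comap_primeIdealOf_appLE W W'.2 Ω hΩ le_rfl hy)).symm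
    haveI := W'.2.isLocalization_stalk ⟨q z, hy⟩
    letI := TopCat.Presheaf.algebra_section_stalk Y.presheaf (⟨q z, hy⟩ : W)
    let E := IsLocalization.ringEquivOfRingEquiv (M := (W'.2.primeIdealOf ⟨q z, hy⟩).asIdeal.primeCompl)
      (T := (m.comap (FixedPoints.subring Γ(SymProd.fibPow f n, Ω) (ULift.{u} (Equiv.Perm (Fin n)))).subtype).primeCompl)
      (Y.presheaf.stalk (q z)) (Localization.AtPrime (m.comap (FixedPoints.subring Γ(SymProd.fibPow f n, Ω) (ULift.{u} (Equiv.Perm (Fin n)))).subtype)) e0 (by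
        ext x
        constructor
        · rintro ⟨a, ha, rfl⟩
          exact fun h => ha (by rw [hpm]; exact h)
        · intro h
          refine ⟨e0.symm x, fun hc => h ?_, e0.apply_symm_apply x⟩
          rw [hpm] at hc
          have : (q.app W).hom (e0.symm x) = x.1 := congrArg Subtype.val (e0.apply_symm_apply x)
          show x.1 ∈ m
          rw [← this]
          exact hc)
    exact ⟨fun h => IsRegularLocalRing.of_ringEquiv E, fun h => IsRegularLocalRing.of_ringEquiv E.symm⟩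
  rw [hiff]
  constructor
  · intro hreg i j hij
    by_contra hne
    have hI := AGFQuot23.SymRegular.inertia_bot_of_regular (G := ULift.{u} (Equiv.Perm (Fin n))) m hregA
      (fun a => by
        refine ⟨e0 (g.appLE ⊤ W le_top (ζ.appLE Ω ⊤ hζΩ a)), (hker _).2 ?_⟩
        rw [map_sub, sub_eq_zero]
        exact (residue_lift f n ζ hζb q g hY.over W hζΩ _).symm)
      (fun σ hσ hne t ht => ?_) hreg
    · -- `swap i j` lies in the inertia group
      have hfix : ζ ≫ SymProd.permHom f n (Equiv.swap i j)⁻¹ = ζ := by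
        apply WidePullback.hom_ext
        · intro l
          rw [Category.assoc, SymProd.permHom_π]
          refine ext_of_apply_closedPoint_eq f (hcl _) (hcl _) ?_
          rw [Scheme.Hom.comp_apply, Scheme.Hom.comp_apply, hζ]
          simp only [Equiv.Perm.inv_def, Equiv.symm_symm]
          rcases eq_or_ne l i with rfl | hli
          · rw [Equiv.swap_apply_left]; exact hij.symm
          rcases eq_or_ne l j with rfl | hlj
          · rw [Equiv.swap_apply_right]; exact hij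
          rw [Equiv.swap_apply_of_ne_of_ne hli hlj]
        · rw [Category.assoc, SymProd.permHom_base]
      have hin : (⟨Equiv.swap i j⟩ : ULift.{u} (Equiv.Perm (Fin n))) ∈ m.inertia (ULift.{u} (Equiv.Perm (Fin n))) := by
        intro a
        show _ ∈ m
        rw [hker, map_sub, sub_eq_zero, hsmul]
        exact eval_perm f n ζ _ hfix Ω _ hζΩ a
      rw [hI, Subgroup.mem_bot] at hin
      exact hne (Equiv.swap_eq_one_iff.1 (congrArg ULift.down hin))
    -- a permutation in the inertia group moves two coordinates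
    obtain ⟨i', hi'⟩ : ∃ i', σ.down i' ≠ i' := by
      by_contra hc
      push Not at hc
      exact hne (ULift.ext _ _ (Equiv.ext hc))
    set j' := σ.down i'
    have hζij : ζ ≫ WidePullback.π (fun _ : Fin n => f) i' = ζ ≫ WidePullback.π (fun _ : Fin n => f) j' := by
      refine ext_of_apply_closedPoint_eq f (hcl _) (hcl _) ?_
      rw [Scheme.Hom.comp_apply, Scheme.Hom.comp_apply, hζ]
      have := hcoord σ hσ j'
      rwa [show σ.down.symm j' = i' from σ.down.symm_apply_apply i'] at this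
    have hπ : ∀ l, Ω ≤ WidePullback.π (fun _ : Fin n => f) l ⁻¹ᵁ U.1 := fun l w hw => ((hmem w).1 hw).2 l
    obtain ⟨a, ha⟩ := witness f n hd hdim ζ hζb U.1 U.2 Ω hπ
      (fun w hw => (hmem w).2 ⟨by
        convert ((hmem z).1 hy).1 using 1
        exact Subsingleton.elim (α := PrimeSpectrum k) _ _, hw⟩)
      (fun l a _ => by
        show (ζ ≫ _) a ∈ U.1
        rw [Scheme.Hom.comp_apply, hζ]
        exact ((hmem z).1 hy).2 l)
      hζΩ m hker σ.down (hperm _) i' hi' hζij t ht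
    exact ⟨a, by rw [hsmul]; exact ha⟩
  · intro hinj
    refine AGFQuot23.SymRegular.regular_of_inertia_bot m ((Subgroup.eq_bot_iff_forall _).2 fun σ hσ => ?_) hregA
    refine ULift.ext _ _ (Equiv.ext fun l => ?_)
    have := hinj (hcoord σ hσ (σ.down l))
    rw [Equiv.symm_apply_apply] at this
    exact this.symm

end Groth.Agent.S19450
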