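import Groth.Statements.S19453
import Mathlib
import Groth.Prelude
import Groth.Agent.CAlgH3.RegularCore

set_option linter.all false

set_option autoImplicit false
universe u
open CAlg

open IsLocalRing Polynomial

namespace Groth.Agent.S19453

theorem adjoin_surjective_of_nilpotent {k B : Type*} [Field k] [CommRing B] [Algebra k B] (t : B)
    (htn : IsNilpotent t) (h : ∀ b : B, ∃ (c : k) (b' : B), b = algebraMap k B c + t * b') :
    Function.Surjective (aeval (R := k) t) := by
  intro b
  obtain ⟨N, hN⟩ := htn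
  have key : ∀ n (b : B), ∃ (q : k[X]) (b' : B), b = aeval t q + t ^ n * b' := by
    intro n
    induction n with
    | zero => exact fun b => ⟨0, b, by simp⟩
    | succ n ih =>
      intro b
      obtain ⟨q, b', rfl⟩ := ih b
      obtain ⟨c, b'', rfl⟩ := h b'
      exact ⟨q + C c * X ^ n, b'', by simp; ring⟩
  obtain ⟨q, b', rfl⟩ := key N b
  exact ⟨q, by rw [hN, zero_mul, add_zero]⟩

/-- Converse direction: let k be a field, A a regular local k-algebra of Krull dimension 2 with maximal
ideal M and residue field k, and I an ideal with A/I of finite dimension n ≥ 1 over k. If some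
element of I does not lie in M^2, then A/I is isomorphic as a k-algebra to k[x]/(x^n): a cluster
lying on a smooth curve germ of a smooth surface is curvilinear, with coordinate ring generated by
one element. -/
theorem result (k : Type u) [Field k]
    (A : Type u) [CommRing A] [Algebra k A] [IsRegularLocalRing A] (hdim : ringKrullDim A = 2)
    (hres : Function.Surjective (algebraMap k (IsLocalRing.ResidueField A)))
    (I : Ideal A) [Module.Finite k (A ⧸ I)] (n : ℕ) (hn : Module.finrank k (A ⧸ I) = n) (h1 : 1 ≤ n)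
    (g : A) (hgI : g ∈ I) (hg : g ∉ IsLocalRing.maximalIdeal A ^ 2) :
    Nonempty ((A ⧸ I) ≃ₐ[k] (Polynomial k ⧸ Ideal.span {(Polynomial.X : Polynomial k) ^ n})) := by
  classical
  haveI hnt : Nontrivial (A ⧸ I) := Module.nontrivial_of_finrank_pos (R := k) (by omega)
  have hI : I ≤ maximalIdeal A := le_maximalIdeal (Ideal.Quotient.nontrivial_iff.1 hnt)
  haveI : IsLocalRing (A ⧸ Ideal.span {g}) := Groth.Agent.CAlgH3.isLocalRing_quotient ((Ideal.span_singleton_le_iff_mem _).2 (hI hgI))
  have hm := Groth.Agent.CAlgH3.spanFinrank_quotient_add_one (hI hgI) hg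
  have h2 : (maximalIdeal A).spanFinrank = 2 := by
    exact_mod_cast (IsRegularLocalRing.spanFinrank_maximalIdeal (R := A)).trans hdim
  have h3 : (maximalIdeal (A ⧸ Ideal.span {g})).spanFinrank = 1 := by omega
  obtain ⟨s, hcard, hs⟩ := (IsNoetherian.noetherian (maximalIdeal (A ⧸ Ideal.span {g}))).exists_span_finset_card_eq_spanFinrank
  rw [h3, Finset.card_eq_one] at hcard
  obtain ⟨t0, rfl⟩ := hcard
  obtain ⟨t, rfl⟩ := Ideal.Quotient.mk_surjective t0
  have hs' : Ideal.span {Ideal.Quotient.mk (Ideal.span {g}) t} = maximalIdeal (A ⧸ Ideal.span {g}) := by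
    rw [Finset.coe_singleton] at hs; exact hs
  have hmem : ∀ a ∈ maximalIdeal A, ∃ b, a - t * b ∈ Ideal.span {g} := by
    intro a ha
    have : Ideal.Quotient.mk (Ideal.span {g}) a ∈ maximalIdeal (A ⧸ Ideal.span {g}) := by
      rw [← map_maximalIdeal_of_surjective _ Ideal.Quotient.mk_surjective]
      exact Ideal.mem_map_of_mem _ ha
    obtain ⟨b, hb⟩ := Ideal.mem_span_singleton'.1 (hs' ▸ this)
    obtain ⟨b, rfl⟩ := Ideal.Quotient.mk_surjective b
    exact ⟨b, Ideal.Quotient.eq.1 (by rw [← hb, mul_comm t, map_mul])⟩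
  let q := Ideal.Quotient.mk I
  have hdec : ∀ b : A ⧸ I, ∃ (c : k) (b' : A ⧸ I), b = algebraMap k (A ⧸ I) c + q t * b' := by
    intro b
    obtain ⟨a, rfl⟩ := Ideal.Quotient.mk_surjective b
    obtain ⟨c, hc⟩ := hres (residue A a)
    have : a - algebraMap k A c ∈ maximalIdeal A := by
      rw [← residue_eq_zero_iff, map_sub, ← hc, sub_eq_zero]
      exact IsScalarTower.algebraMap_apply k A (ResidueField A) c
    obtain ⟨b, hb⟩ := hmem _ this
    refine ⟨c, q b, ?_⟩
    rw [IsScalarTower.algebraMap_apply k A (A ⧸ I), Ideal.Quotient.algebraMap_eq, ← map_mul, ← map_add, Ideal.Quotient.eq]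
    have : a - algebraMap k A c - t * b ∈ I := (Ideal.span_singleton_le_iff_mem _).2 hgI hb
    rwa [sub_add_eq_sub_sub]
  haveI : IsArtinianRing (A ⧸ I) := IsArtinianRing.of_finite k _
  haveI : IsLocalRing (A ⧸ I) := Groth.Agent.CAlgH3.isLocalRing_quotient hI
  have ht : IsNilpotent (q t) := by
    have hnu : q t ∈ maximalIdeal (A ⧸ I) := by
      rw [← map_maximalIdeal_of_surjective _ Ideal.Quotient.mk_surjective]
      refine Ideal.mem_map_of_mem _ ?_
      by_contra hu
      have hu' := IsLocalRing.notMem_maximalIdeal.1 hu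
      have : Ideal.span {Ideal.Quotient.mk (Ideal.span {g}) t} = ⊤ := Ideal.span_singleton_eq_top.2 (hu'.map _)
      exact (maximalIdeal.isMaximal _).ne_top (hs'.symm.trans this)
    obtain ⟨N, hN⟩ := IsArtinianRing.isNilpotent_jacobson_bot (R := A ⧸ I)
    refine ⟨N, ?_⟩
    have := Ideal.pow_mem_pow hnu N
    rw [IsLocalRing.jacobson_eq_maximalIdeal ⊥ bot_ne_top] at hN
    rwa [hN] at this
  have hsurj := adjoin_surjective_of_nilpotent (q t) ht hdec
  obtain ⟨N, hN⟩ := ht
  let e := Ideal.quotientKerAlgEquivOfSurjective hsurj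
  have hint : IsIntegral k (q t) := Algebra.IsIntegral.isIntegral _
  have hker : RingHom.ker (aeval (R := k) (q t)) = Ideal.span {minpoly k (q t)} := minpoly.ker_aeval_eq_span_minpoly k _
  obtain ⟨i, hiN, hi⟩ := (dvd_prime_pow Polynomial.prime_X N).1 (minpoly.dvd k (q t) (by simp [hN]) : minpoly k (q t) ∣ X ^ N)
  have hmp : minpoly k (q t) = X ^ i := eq_of_monic_of_associated (minpoly.monic hint) (monic_X_pow i) hi
  let e' : (k[X] ⧸ Ideal.span {(X : k[X]) ^ i}) ≃ₐ[k] (A ⧸ I) :=
    (Ideal.quotientEquivAlgOfEq k (show Ideal.span {(X : k[X]) ^ i} = RingHom.ker (aeval (R := k) (q t)) by rw [hker, hmp])).trans e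
  have hd : Module.finrank k (k[X] ⧸ Ideal.span {(X : k[X]) ^ i}) = i := by
    rw [show Module.finrank k (k[X] ⧸ Ideal.span {(X : k[X]) ^ i}) = ((X : k[X]) ^ i).natDegree from
      (AdjoinRoot.powerBasis (pow_ne_zero i X_ne_zero)).finrank, natDegree_X_pow]
  rw [e'.toLinearEquiv.finrank_eq, hn] at hd
  subst hd
  exact ⟨e'.symm⟩

end Groth.Agent.S19453
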