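import Groth.Statements.S19454
import Groth.Agent.Resolve13.StrictTransform
import Groth.Agent.RefHullLib.LowDim
import Groth.Agent.Models7.PointBlowUpIso
import Groth.Agent.Resolve13.Modification


set_option autoImplicit false
set_option backward.isDefEq.respectTransparency.types false
universe u
open CategoryTheory CategoryTheory.Limits AlgebraicGeometry
open Resolve

namespace Groth.Agent.S19454

/-- Let (A, m) be a complete normal Noetherian local domain of dimension two with a rational singularity
(every proper birational modification X → Spec A with X integral and normal has H^1(X, O_X) = 0), f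
: X' → Spec A a resolution of singularities (proper, X' integral with regular local rings, an
isomorphism over a nonempty open subset), L a coherent reflexive module on Spec A, and M the strict
transform of L: a coherent torsion-free module on X' with an epimorphism q : f^*L → M injective on
stalks at the generic point. Then M is finite locally free and generated by global sections, and
moreover H^1(X', M) = 0 (the vanishing of the first higher direct image of M, proved alongside).
(The published statement takes the resolution to be the minimal one; its proof does not use
minimality, and any resolution is allowed here.) -/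
theorem result (A : Type u) [CommRing A]
    [IsDomain A] [IsLocalRing A] [IsNoetherianRing A] [IsIntegrallyClosed A]
    [IsAdicComplete (IsLocalRing.maximalIdeal A) A] (hdim : ringKrullDim A = 2) (hA : Curv2.IsRationalSing A)
    (X' : Scheme.{u}) (f : X' ⟶ Spec (CommRingCat.of A)) [IsProper f] [IsIntegral X']
    (hreg : ∀ x : X', IsRegularLocalRing (X'.presheaf.stalk x))
    (hbir : ∃ U : (Spec (CommRingCat.of A)).Opens, (U : Set (Spec (CommRingCat.of A))).Nonempty ∧ IsIso (f ∣_ U))
    (L : (Spec (CommRingCat.of A)).Modules) (hLc : Coh.IsCoh L) (hLr : RefHull.IsReflexive L)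
    (M : X'.Modules) (hMc : Coh.IsCoh M) (hMt : TorSh.IsTorsionFree M)
    (q : (Scheme.Modules.pullback f).obj L ⟶ M) [Epi q]
    (hq : Function.Injective (RefHull.stalkMapₗ q (genericPoint X'))) :
    FlatMod.IsFinLocFree M ∧ Curv2.IsGloballyGenerated M ∧ Subsingleton (Coh.HH X' M 1) := by
  haveI := hLc.1
  haveI : IsLocallyNoetherian X' := LocallyOfFiniteType.isLocallyNoetherian f
  have hXn : Pi1.IsNormalScheme X' := Models7.isNormalScheme_of_regular hreg
  have hgg := Resolve13.Strict.globallyGenerated_of_epi f q
  have h1 := Resolve13.subsingleton_H1_of_globallyGenerated f hdim.le hbir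
    (hA X' f inferInstance inferInstance hXn hbir) M hMc.1 hgg
  have hr := Resolve13.Strict.isReflexive f q hdim hbir hXn hLc hLr hMc hMt hq h1
  refine ⟨?_, hgg, h1⟩
  obtain ⟨U, hUne, hU⟩ := hbir
  obtain ⟨hξ, hb⟩ := Coherent.birational_of_isIso_morphismRestrict f U hUne
  refine (RefHullLib.isFinLocFree_iff_free_stalks hMc).2 fun x => ?_
  haveI := hreg x
  haveI : Module.IsReflexive (X'.presheaf.stalk x) (M.presheaf.stalk x) :=
    (RefHullLib.isReflexive_iff_stalks hMc).1 hr x
  haveI := AssSch12.finite_stalk hMc x
  exact RefHullLib.free_of_reflexive_of_dim_le_two
    ((Resolve13.Modification.ringKrullDim_stalk_le f hξ hb x).trans (Resolve13.ringKrullDim_stalk_spec_le hdim.le _))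

end Groth.Agent.S19454
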