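import Groth.Statements.S19457
import Groth.Agent.ZeroSchLib.Basic
-- import your own Groth.Agent.* helpers here

set_option autoImplicit false
universe u
open CategoryTheory CategoryTheory.Limits AlgebraicGeometry TopologicalSpace Opposite
open PicF2
open Groth.Agent.Coherent Groth.Agent.PicLib Groth.Agent.AmpleLib

namespace Groth.Agent.S19457

open CategoryTheory CategoryTheory.Limits AlgebraicGeometry TopologicalSpace
open Groth.Agent.Coherent Groth.Agent.PicLib Groth.Agent.AmpleLib

theorem exists_affine_gen {X : Scheme.{u}} {L : X.Modules} (hL : PicF.IsInvertible L) :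
    ∃ (U : X → X.Opens) (g : ∀ y, Γ(L, U y)), (∀ y, y ∈ U y) ∧ (∀ y, IsAffineOpen (U y)) ∧ ∀ y, IsGen L (U y) (g y) := by
  have h : ∀ y : X, ∃ V : X.Opens, y ∈ V ∧ IsAffineOpen V ∧ ∃ g : Γ(L, V), IsGen L V g := fun y => by
    obtain ⟨U, hy, g, hg⟩ := exists_isGen hL y
    obtain ⟨V, hV, hyV, hVU⟩ := exists_isAffineOpen_mem_and_subset hy
    exact ⟨V, hyV, hV, _, hg.restrict hVU⟩
  choose U hy hU g hg using h
  exact ⟨U, g, hy, hU, hg⟩

theorem coef_ne_zero {X : Scheme.{u}} [IsIntegral X] {L : X.Modules} (hL : PicF.IsInvertible L)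
    (s : Coh.structureModule X ⟶ L) (hs : s ≠ 0) {V : X.Opens} (hV : (V : Set X).Nonempty) {g : Γ(L, V)}
    (hg : IsGen L V g) : hg.coef le_rfl (unitVal s V) ≠ 0 := by
  intro h
  apply hs
  obtain ⟨U, g', hmem, hg'⟩ := exists_cover hL
  have hloc : ∀ y, unitVal s (U y) = 0 := fun y => by
    have hne : ((V : Set X) ∩ (U y : Set X)).Nonempty :=
      nonempty_preirreducible_inter V.2 (U y).2 hV ⟨y, hmem y⟩
    let W : X.Opens := V ⊓ U y
    have : Nonempty (W : Scheme.{u}) := ⟨⟨hne.some, hne.some_mem⟩⟩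
    have : Nonempty (U y : Scheme.{u}) := ⟨⟨y, hmem y⟩⟩
    have hV0 : unitVal s V = 0 := by
      have := hg.coef_spec le_rfl (unitVal s V)
      rwa [h, zero_smul, eq_comm] at this
    have hW0 : unitVal s W = 0 := by
      rw [← resM_unitVal s (inf_le_left : W ≤ V), hV0, map_zero]
    have hc : (hg' y).coef le_rfl (unitVal s (U y)) = 0 := by
      refine map_injective_of_isIntegral X (homOfLE (inf_le_right : W ≤ U y)) ?_
      rw [map_zero]
      show res (inf_le_right : W ≤ U y) _ = 0
      rw [← (hg' y).coef_res le_rfl inf_le_right, resM_unitVal, hW0]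
      exact (hg' y).coef_eq _ (zero_smul _ _)
    have := (hg' y).coef_spec le_rfl (unitVal s (U y))
    rwa [hc, zero_smul, eq_comm] at this
  rw [← unitDesc_unitVal s]
  have h0 : unitVal s ⊤ = 0 := by
    refine TopCat.Sheaf.eq_of_locally_eq' (⟨L.presheaf, L.isSheaf⟩ : TopCat.Sheaf Ab X) U ⊤
      (fun y => homOfLE le_top) (fun y _ => Opens.mem_iSup.2 ⟨y, hmem y⟩) _ _ fun y => ?_
    show resM L (le_top : U y ≤ ⊤) _ = resM L le_top 0
    rw [resM_unitVal, hloc y, map_zero]
  rw [h0]
  refine Scheme.Modules.hom_ext _ _ fun W => ConcreteCategory.hom_ext _ _ fun r => ?_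
  rw [app_unit (unitDesc L 0), unitVal_unitDesc, map_zero, smul_zero]
  rfl

end Groth.Agent.S19457

namespace Groth.Agent.S19457

/-- Let X be an integral scheme, L an invertible O_X-module and s, s' two nonzero global sections of L,
given as nonzero morphisms O_X → L. Then the zero schemes Z(s') and Z(s) are equal (as
quasi-coherent ideal sheaves of O_X, that is, as effective Cartier divisors) if and only if s' = h ·
s for some unit h of the ring of global functions Γ(X, O_X). (The published statement is for an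
irreducible variety over an algebraically closed field; this row states it for an arbitrary integral
scheme.) -/
theorem result (X : Scheme.{u}) [AlgebraicGeometry.IsIntegral X]
    (L : X.Modules) (hL : PicF.IsInvertible L) (s s' : Coh.structureModule X ⟶ L) (hs : s ≠ 0) (hs' : s' ≠ 0) :
    PicF2.zeroScheme L s' = PicF2.zeroScheme L s ↔
      ∃ h : Γ(X, ⊤), IsUnit h ∧ (SecTwist.val s' ⊤ : Γ(L, ⊤)) = h • (SecTwist.val s ⊤ : Γ(L, ⊤)) := by
  obtain ⟨U, g, hmem, hU, hg⟩ := exists_affine_gen hL
  let c : ∀ y, Γ(X, U y) := fun y => (hg y).coef le_rfl (unitVal s (U y))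
  let c' : ∀ y, Γ(X, U y) := fun y => (hg y).coef le_rfl (unitVal s' (U y))
  have hI : ∀ y, (PicF2.zeroScheme L s).ideal ⟨U y, hU y⟩ = Ideal.span {c y} := fun y =>
    ZeroSchLib.zeroScheme_ideal_eq_span s hL ⟨U y, hU y⟩ (hg y)
  have hI' : ∀ y, (PicF2.zeroScheme L s').ideal ⟨U y, hU y⟩ = Ideal.span {c' y} := fun y =>
    ZeroSchLib.zeroScheme_ideal_eq_span s' hL ⟨U y, hU y⟩ (hg y)
  have hdom : ∀ y, IsDomain Γ(X, U y) := fun y =>
    have : Nonempty (U y : Scheme.{u}) := ⟨⟨y, hmem y⟩⟩
    inferInstance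
  have hcov : (⊤ : X.Opens) ≤ iSup U := fun y _ => Opens.mem_iSup.2 ⟨y, hmem y⟩
  constructor
  · intro heq
    have hw : ∀ y, ∃ w : Γ(X, U y), IsUnit w ∧ c' y = w * c y := fun y => by
      have := hdom y
      have h1 : Ideal.span {c' y} = Ideal.span {c y} := by rw [← hI, ← hI', heq]
      obtain ⟨w, hw⟩ := Ideal.span_singleton_eq_span_singleton.1 h1.symm
      exact ⟨w, w.isUnit, by rw [← hw, mul_comm]⟩
    choose w hwu hw using hw
    have hsw : ∀ (y : X) (V : X.Opens) (hV : V ≤ U y), unitVal s' V = res hV (w y) • unitVal s V := fun y V hV => by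
      have h1 : c' y • g y = unitVal s' (U y) := by simpa only [resM_self] using (hg y).coef_spec le_rfl (unitVal s' (U y))
      have h2 : c y • g y = unitVal s (U y) := by simpa only [resM_self] using (hg y).coef_spec le_rfl (unitVal s (U y))
      rw [← resM_unitVal s' hV, ← resM_unitVal s hV, ← resM_smul, ← h1, ← h2, hw, mul_smul]
    obtain ⟨h, hh, -⟩ := TopCat.Sheaf.existsUnique_gluing' X.sheaf U ⊤ (fun y => homOfLE le_top) hcov w
      (fun i j => by
        show res (inf_le_left : U i ⊓ U j ≤ U i) (w i) = res (inf_le_right : U i ⊓ U j ≤ U j) (w j)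
        have hne : ((U i : Set X) ∩ (U j : Set X)).Nonempty :=
          nonempty_preirreducible_inter (U i).2 (U j).2 ⟨i, hmem i⟩ ⟨j, hmem j⟩
        have : Nonempty ((U i ⊓ U j : X.Opens) : Scheme.{u}) := ⟨⟨hne.some, hne.some_mem⟩⟩
        have hgi := (hg i).restrict (inf_le_left : U i ⊓ U j ≤ U i)
        refine mul_right_cancel₀ (coef_ne_zero hL s hs hne hgi) ?_
        refine (hgi _ le_rfl).1 ?_
        have := (hsw i _ inf_le_left).symm.trans (hsw j _ (inf_le_right : U i ⊓ U j ≤ U j))
        simp only [mul_smul, hgi.coef_spec]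
        exact this)
    refine ⟨h, ?_, ?_⟩
    · refine RingedSpace.isUnit_of_isUnit_germ X.toLocallyRingedSpace.toRingedSpace ⊤ h fun x _ => ?_
      have h1 := (hwu x).map (X.presheaf.germ (U x) x (hmem x)).hom
      rw [← hh x] at h1
      erw [TopCat.Presheaf.germ_res_apply] at h1
      exact h1
    · refine TopCat.Sheaf.eq_of_locally_eq' (⟨L.presheaf, L.isSheaf⟩ : TopCat.Sheaf Ab X) U ⊤
        (fun y => homOfLE le_top) hcov _ _ fun y => ?_
      show resM L (le_top : U y ≤ ⊤) (unitVal s' ⊤) = resM L le_top ((show Γ(X, ⊤) from h) • unitVal s ⊤)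
      rw [resM_smul, resM_unitVal, resM_unitVal, hsw y _ le_rfl, show res (le_rfl : U y ≤ U y) (w y) = w y from ConcreteCategory.congr_hom (X.presheaf.map_id _) (w y)]
      exact congrArg (· • unitVal s (U y)) (hh y).symm
  · rintro ⟨h, hu, hsh⟩
    have hval : ∀ V : X.Opens, unitVal s' V = res (le_top : V ≤ ⊤) h • unitVal s V := fun V => by
      rw [← resM_unitVal s' (le_top : V ≤ ⊤), ← resM_unitVal s (le_top : V ≤ ⊤), ← resM_smul]
      exact congrArg (resM L le_top) hsh
    refine Scheme.IdealSheafData.ext_of_iSup_eq_top (fun y => ⟨U y, hU y⟩) (top_le_iff.1 hcov) fun y => ?_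
    rw [hI, hI']
    have hc : c' y = res le_top h * c y := by
      show (hg y).coef le_rfl _ = _ * (hg y).coef le_rfl _
      rw [hval, (hg y).coef_smul]
    rw [hc, Ideal.span_singleton_mul_left_unit (hu.map _)]

end Groth.Agent.S19457
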