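import Groth.Statements.S19460
import Groth.Agent.GenSmoothLib.CharZero
import Groth.Agent.GenSmoothLib.ClosedStalk
import Groth.Agent.GenSmoothLib.SmoothDim
import Groth.Agent.Unram17Lib.RelDim
import Groth.Agent.DimLib.Components
import Mathlib

set_option autoImplicit false
universe u
open CategoryTheory CategoryTheory.Limits AlgebraicGeometry
open Variety
set_option backward.isDefEq.respectTransparency.types false

namespace Groth.Agent.S19460

open Groth.Agent TopologicalSpace


/-- Let k be an algebraically closed field, X and Y smooth irreducible varieties over k (integral,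
separated, of finite type and smooth over k) of dimensions dX and dY, and f : X → Y a k-morphism
which is smooth in the sense that at every closed point x of X the tangent map T_x X → T_{f(x)} Y is
surjective, equivalently the cotangent map m_{f(x)}/m_{f(x)}² → m_x/m_x² of the local rings is
injective. Then f is dominant, dY ≤ dX, and for every closed point y of Y in the image of f the
scheme-theoretic fibre X_y is smooth over the residue field κ(y) (which is k) and each of its
irreducible components has dimension dX − dY. (The published statement is for varieties in the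
classical sense, with the fibre carrying its reduced structure, and it also identifies the tangent
space of the fibre at each point with the kernel of the tangent map; that identification is not part
of this row.) -/
theorem result (k : Type u) [Field k] [IsAlgClosed k]
    {X Y : Scheme.{u}} (qX : X ⟶ Spec (CommRingCat.of k)) (qY : Y ⟶ Spec (CommRingCat.of k))
    [AlgebraicGeometry.IsIntegral X] [IsSeparated qX] [LocallyOfFiniteType qX] [QuasiCompact qX] [Smooth qX]
    [AlgebraicGeometry.IsIntegral Y] [IsSeparated qY] [LocallyOfFiniteType qY] [QuasiCompact qY] [Smooth qY]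
    (f : X ⟶ Y) (hf : f ≫ qY = qX) (dX dY : ℕ) (hX : topologicalKrullDim ↥X = dX)
    (hY : topologicalKrullDim ↥Y = dY)
    (hT : ∀ x : X, IsClosed ({x} : Set ↥X) → Function.Injective (FixPt.cotangentMapAt f x (f.base x) rfl)) :
    DenseRange f.base ∧ dY ≤ dX ∧
      ∀ y : Y, IsClosed ({y} : Set ↥Y) → y ∈ Set.range f.base →
        Smooth (f.fiberToSpecResidueField y) ∧
          ∀ Z ∈ irreducibleComponents ↥(f.fiber y),
            topologicalKrullDim ↥Z = ((dX - dY : ℕ) : WithBot ℕ∞) := by
  haveI : LocallyOfFinitePresentation f := GenSmoothLib.finitePresentation_of_overField k f hf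
  haveI : LocallyOfFiniteType (f ≫ qY) := by rw [hf]; infer_instance
  haveI : JacobsonSpace X := LocallyOfFiniteType.jacobsonSpace qX
  haveI hsm : Smooth f := by
    rw [← Scheme.Hom.smoothLocus_eq_top_iff]
    by_contra hne
    obtain ⟨p, hpU, hp⟩ : ((f.smoothLocus : Set X)ᶜ ∩ closedPoints X).Nonempty :=
      nonempty_inter_closedPoints (Set.nonempty_compl.2 fun h => hne (Opens.ext h))
        f.smoothLocus.2.isClosed_compl.isLocallyClosed
    exact hpU (GenSmoothLib.mem_smoothLocus_of_cotangentMapAt qX qY f hf p hp
      (DimLib.isClosed_singleton_image qY f hp) (hT p hp))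
  have hdense : DenseRange f.base :=
    (f.isOpenMap.isOpen_range).dense ⟨f (genericPoint X), ⟨_, rfl⟩⟩
  have key : ∀ x : X, ∃ c : ℕ, FlatMor.fibreDimAt f x = (c : WithBot ℕ∞) ∧ c + dY = dX := by
    intro x
    have h1 : FlatMor.fibreDimAt (f ≫ qY) x = (dX : WithBot ℕ∞) := by
      rw [hf, GenSmoothLib.fibreDimAt_toField qX, GenSmoothLib.localDim_eq_topologicalKrullDim qX, hX]
    rw [Unram17Lib.fibreDimAt_comp, GenSmoothLib.fibreDimAt_toField qY,
      GenSmoothLib.localDim_eq_topologicalKrullDim qY, hY] at h1
    obtain ⟨c, hc, hcd⟩ : ∃ c : ℕ, FlatMor.fibreDimAt f x = (c : WithBot ℕ∞) ∧ c + dY = dX := by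
      induction hx : FlatMor.fibreDimAt f x using WithBot.recBotCoe with
      | bot => rw [hx] at h1; simp at h1
      | coe v =>
        induction v using ENat.recTopCoe with
        | top =>
          rw [hx] at h1
          have h' : ((⊤ : ℕ∞) + (dY : ℕ∞)) = (dX : ℕ∞) := by exact_mod_cast h1
          simp at h'
        | coe c =>
          rw [hx] at h1
          exact ⟨c, rfl, by exact_mod_cast h1⟩
    exact ⟨c, hc, hcd⟩
  obtain ⟨c, hc, hcd⟩ := key (genericPoint X)
  refine ⟨hdense, by omega, fun y _ _ => ⟨MorphismProperty.pullback_snd (P := @Smooth) _ _ hsm, ?_⟩⟩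
  intro Z hZ
  let p := f.fiberToSpecResidueField y
  haveI : LocallyOfFiniteType p := MorphismProperty.pullback_snd (P := @LocallyOfFiniteType) _ _ inferInstance
  obtain ⟨η, hη⟩ := QuasiSober.sober (S := Z) hZ.1 (isClosed_of_mem_irreducibleComponents Z hZ)
  rw [DimLib.topologicalKrullDim_eq_ptDim_of_isGenericPoint (k := Y.residueField y) p hη]
  obtain ⟨c', hc', hcd'⟩ := key (f.fiberι y η)
  have hl : FlatMor.localDim (f.fiber y) η = (c' : WithBot ℕ∞) := by
    rw [← GenSmoothLib.fibreDimAt_toField (k := Y.residueField y) p, ← hc']
    exact AlgSpLib.fibreDimAt_baseChange (IsPullback.of_hasPullback f (Y.fromSpecResidueField y)) η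
  have hmax : ∀ w, w ⤳ η → w = η := fun w hw => by
    have hsub : Z ⊆ closure {w} := by
      rw [← hη.def]; exact specializes_iff_closure_subset.1 hw
    have := hZ.eq_of_subset isIrreducible_singleton.closure hsub
    exact (show IsGenericPoint w Z from this.symm).eq hη
  have hiff : ∀ m : ℕ, (c' : WithBot ℕ∞) ≤ (m : WithBot ℕ∞) ↔ DimLib.ptDim (k := Y.residueField y) p η ≤ m := by
    intro m
    rw [← hl, FlatMorDim.localDim_le_iff (k := Y.residueField y) p]
    exact ⟨fun h => h η specializes_rfl, fun h w hw => (hmax w hw) ▸ h⟩
  have e : DimLib.ptDim (k := Y.residueField y) p η = c' := le_antisymm ((hiff c').1 le_rfl)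
    (by exact_mod_cast (hiff _).2 le_rfl)
  rw [e, show c' = dX - dY by omega]

end Groth.Agent.S19460
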