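import Groth.Statements.S19461
import Mathlib
import Groth.Agent.CAlgH.GRingMaximal
import Groth.Agent.CAlgH.NagataComplete
import Groth.Agent.CAlgH3.FlatDepth
import Groth.Agent.CAlgH3.Serre
import Groth.Agent.CAlgMisc2.LocalFinite
import Groth.Agent.DimLib.Algebra

set_option linter.all false

set_option autoImplicit false
universe u
open CAlg

open IsLocalRing
open scoped TensorProduct

namespace Groth.Agent.S19461

/-- The implication from isomorphic completions to flat and unramified. Let A → B be a local
homomorphism of Noetherian local rings and ψ a ring map from the completion of A at its maximal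
ideal to that of B whose composite with A → A^ is A → B → B^. If ψ is bijective, then A → B is flat
and the maximal ideal of A generates the maximal ideal of B. (The published statement is the
implication, for a morphism of algebraic varieties over an algebraically closed field, from
isomorphic induced maps of completed local rings at every point to flat and unramified; its proof is
this local-ring argument, valid for any Noetherian local rings. The converse implication is a
separate result.) -/
theorem result (A B : Type u) [CommRing A]
    [CommRing B] [IsLocalRing A] [IsLocalRing B] [IsNoetherianRing A] [IsNoetherianRing B]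
    [Algebra A B] [IsLocalHom (algebraMap A B)]
    (ψ : AdicCompletion (IsLocalRing.maximalIdeal A) A →+* AdicCompletion (IsLocalRing.maximalIdeal B) B)
    (hψ : ψ.comp (algebraMap A (AdicCompletion (IsLocalRing.maximalIdeal A) A)) =
      (algebraMap B (AdicCompletion (IsLocalRing.maximalIdeal B) B)).comp (algebraMap A B))
    (hbij : Function.Bijective ψ) :
    Module.Flat A B ∧
      Ideal.map (algebraMap A B) (IsLocalRing.maximalIdeal A) = IsLocalRing.maximalIdeal B := by
  refine ⟨RingHom.flat_algebraMap_iff.1 ((Groth.Agent.CAlgH.completion_map_flat_iff A B ψ hψ).1 (RingHom.Flat.of_bijective hbij)), ?_⟩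
  haveI := Groth.Agent.CommAlg6.isLocalHom_completion (A := B)
  haveI : Module.FaithfullyFlat B (AdicCompletion (maximalIdeal B) B) := Module.FaithfullyFlat.of_flat_of_isLocalHom
  haveI := AdicCompletion.isLocalRing_of_fg (IsNoetherian.noetherian (maximalIdeal A))
  haveI := AdicCompletion.isLocalRing_of_fg (IsNoetherian.noetherian (maximalIdeal B))
  have h1 := AdicCompletion.maximalIdeal_eq_map_of_fg (IsNoetherian.noetherian (maximalIdeal A))
  have h2 := AdicCompletion.maximalIdeal_eq_map_of_fg (IsNoetherian.noetherian (maximalIdeal B))
  have h : (Ideal.map (algebraMap A B) (maximalIdeal A)).map (algebraMap B (AdicCompletion (maximalIdeal B) B)) =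
      (maximalIdeal B).map (algebraMap B (AdicCompletion (maximalIdeal B) B)) := by
    rw [Ideal.map_map, ← hψ, ← Ideal.map_map, ← h1, ← h2]
    exact IsLocalRing.map_maximalIdeal_of_surjective ψ hbij.2
  rw [← Ideal.comap_map_eq_self_of_faithfullyFlat (B := AdicCompletion (maximalIdeal B) B) (Ideal.map (algebraMap A B) (maximalIdeal A)), h,
    Ideal.comap_map_eq_self_of_faithfullyFlat]

end Groth.Agent.S19461
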