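import Groth.Statements.S19462
import Mathlib
import Groth.Prelude

set_option linter.all false

set_option autoImplicit false
universe u
open GrNak

universe v

open IsLocalRing TensorProduct

namespace Groth.Agent.S19462

section
variable {R : Type u} [CommRing R] {σ : Type*} [SetLike σ R] [AddSubmonoidClass σ R] (𝒜 : ℤ → σ) [GradedRing 𝒜]
variable {M : Type v} [AddCommGroup M] [Module R M] {τ : Type*} [SetLike τ M] [AddSubmonoidClass τ M]
variable (ℳ : ℤ → τ) [DirectSum.Decomposition ℳ] [SetLike.GradedSMul 𝒜 ℳ]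

theorem decompose_smul_mem {d : ℤ} {m : M} (hm : m ∈ ℳ d) (r : R) (e : ℤ) :
    (DirectSum.decompose ℳ (r • m) e : M) = (DirectSum.decompose 𝒜 r (e - d) : R) • m := by
  induction r using DirectSum.Decomposition.inductionOn 𝒜 with
  | zero => simp
  | homogeneous a =>
    rename_i i
    have h : (a : R) • m ∈ ℳ (i + d) := SetLike.GradedSMul.smul_mem a.2 hm
    by_cases he : i + d = e
    · subst he
      rw [DirectSum.decompose_of_mem_same ℳ h, add_sub_cancel_right, DirectSum.decompose_of_mem_same 𝒜 a.2]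
    · rw [DirectSum.decompose_of_mem_ne ℳ h he, DirectSum.decompose_of_mem_ne 𝒜 a.2 (by omega), zero_smul]
  | add a b ha hb =>
    simp only [add_smul, DirectSum.decompose_add, DirectSum.add_apply, AddMemClass.coe_add, ha, hb]

theorem decompose_sum_apply {ι : Type*} (s : Finset ι) (f : ι → M) (e : ℤ) :
    (DirectSum.decompose ℳ (∑ i ∈ s, f i) e : M) = ∑ i ∈ s, (DirectSum.decompose ℳ (f i) e : M) := by
  classical
  induction s using Finset.induction_on with
  | empty => simp
  | insert a s ha ih => rw [Finset.sum_insert ha, Finset.sum_insert ha, DirectSum.decompose_add, DirectSum.add_apply, AddMemClass.coe_add, ih]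

def Low (N : ℤ) (r : R) : Prop := ∀ e < N, (DirectSum.decompose 𝒜 r e : R) = 0

theorem Low.sum {N : ℤ} {ι : Type*} (s : Finset ι) (f : ι → R) (hf : ∀ i ∈ s, Low 𝒜 N (f i)) : Low 𝒜 N (∑ i ∈ s, f i) := by
  intro e he
  rw [DirectSum.decompose_sum, DFinsupp.finsetSum_apply, AddSubmonoidClass.coe_finsetSum]
  exact Finset.sum_eq_zero fun i hi => hf i hi e he

theorem Low.mul {N : ℤ} {r s : R} (hr : Low 𝒜 N r) (hs : Low 𝒜 1 s) : Low 𝒜 (N + 1) (r * s) := by
  classical
  intro e he
  rw [DirectSum.decompose_mul, DirectSum.coe_mul_apply]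
  refine Finset.sum_eq_zero fun ij h => ?_
  obtain ⟨-, hij⟩ := Finset.mem_filter.1 h
  by_cases h1 : ij.1 < N
  · rw [hr _ h1, zero_mul]
  · rw [hs ij.2 (by omega), mul_zero]

theorem basis_of_projective (hneg : ∀ i : ℤ, i < 0 → ∀ x ∈ 𝒜 i, x = 0) (h0 : ∀ x ∈ 𝒜 0, x ≠ 0 → IsUnit x)
    [Module.Finite R M] [Module.Projective R M] :
    ∃ (n : ℕ) (b : Module.Basis (Fin n) R M), ∀ i, SetLike.IsHomogeneousElem ℳ (b i) := by
  classical
  have hex : ∃ n, ∃ g : Fin n → M, (∀ i, ∃ d, g i ∈ ℳ d) ∧ Submodule.span R (Set.range g) = ⊤ := by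
    obtain ⟨s, hs⟩ := Module.Finite.fg_top (R := R) (M := M)
    let t : Finset M := s.biUnion fun m => (DirectSum.decompose ℳ m).support.image fun i => (DirectSum.decompose ℳ m i : M)
    refine ⟨t.card, fun i => t.equivFin.symm i, fun i => ?_, ?_⟩
    · obtain ⟨m, -, hm⟩ := Finset.mem_biUnion.1 (t.equivFin.symm i).2
      obtain ⟨d, -, hd⟩ := Finset.mem_image.1 hm
      exact ⟨d, show ((t.equivFin.symm i : M)) ∈ ℳ d by rw [← hd]; exact SetLike.coe_mem _⟩
    · rw [eq_top_iff, ← hs, Submodule.span_le]
      intro m hm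
      rw [← DirectSum.sum_support_decompose ℳ m]
      refine Submodule.sum_mem _ fun i hi => Submodule.subset_span ⟨t.equivFin ⟨_, Finset.mem_biUnion.2 ⟨m, hm, Finset.mem_image.2 ⟨i, hi, rfl⟩⟩⟩, ?_⟩
      simp
  let n := Nat.find hex
  obtain ⟨g, hdeg, hspan⟩ := Nat.find_spec hex
  choose d hd using hdeg
  let φ : (Fin n → R) →ₗ[R] M := Fintype.linearCombination R g
  have hφ : Function.Surjective φ := LinearMap.range_eq_top.1 (by rw [Fintype.range_linearCombination, hspan])
  have hK : ∀ z, φ z = 0 → ∀ i, Low 𝒜 1 (z i) := by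
    intro z hz j e he
    rcases lt_or_eq_of_le (show e ≤ 0 by omega) with he | rfl
    · exact hneg e he _ (SetLike.coe_mem _)
    by_contra hne
    obtain ⟨u, hu⟩ := h0 _ (SetLike.coe_mem _) hne
    have hsum : ∑ i, (DirectSum.decompose 𝒜 (z i) (d j - d i) : R) • g i = 0 := by
      have := congrArg (fun x => (DirectSum.decompose ℳ x (d j) : M)) hz
      simp only [φ, Fintype.linearCombination_apply, decompose_sum_apply,
        DirectSum.decompose_zero, DirectSum.zero_apply, ZeroMemClass.coe_zero, decompose_smul_mem 𝒜 ℳ (hd _)] at this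
      exact this
    rw [← Finset.add_sum_erase _ _ (Finset.mem_univ j), sub_self, ← hu, add_eq_zero_iff_eq_neg] at hsum
    obtain ⟨m, hm⟩ : ∃ m, n = m + 1 := ⟨n - 1, by have := j.2; omega⟩
    let j' : Fin (m + 1) := Fin.cast hm j
    let g' : Fin m → M := fun i => g (Fin.cast hm.symm (j'.succAbove i))
    have hothers : ∀ i, i ≠ j → g i ∈ Submodule.span R (Set.range g') := fun i hi => by
      obtain ⟨l, hl⟩ := Fin.exists_succAbove_eq (show Fin.cast hm i ≠ j' from fun h => hi (Fin.ext (by simpa [j'] using congrArg Fin.val h)))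
      exact Submodule.subset_span ⟨l, by simp [g', hl]⟩
    have hgj : g j ∈ Submodule.span R (Set.range g') := by
      rw [← one_smul R (g j), ← Units.inv_mul u, mul_smul, hsum]
      exact Submodule.smul_mem _ _ (Submodule.neg_mem _ (Submodule.sum_mem _ fun i hi =>
        Submodule.smul_mem _ _ (hothers i (Finset.ne_of_mem_erase hi))))
    refine Nat.find_min hex (show m < Nat.find hex by omega) ⟨g', fun i => ⟨_, hd _⟩, ?_⟩
    rw [eq_top_iff, ← hspan, Submodule.span_le]
    rintro _ ⟨i, rfl⟩
    by_cases hi : i = j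
    · exact hi ▸ hgj
    · exact hothers i hi
  obtain ⟨s, hs⟩ := Module.projective_lifting_property φ LinearMap.id hφ
  have hs' : ∀ x, φ (s x) = x := fun x => LinearMap.congr_fun hs x
  have hker : ∀ z, φ z = 0 → z = 0 := by
    intro z hz
    have hN : ∀ (N : ℕ) z, φ z = 0 → ∀ i, Low 𝒜 N (z i) := by
      intro N
      induction N with
      | zero => exact fun z _ i e he => hneg e he _ (SetLike.coe_mem _)
      | succ N ih =>
        intro z hz i
        let π : (Fin n → R) →ₗ[R] (Fin n → R) := LinearMap.id - s.comp φ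
        have hπ : π z = z := by simp [π, hz]
        rw [← hπ, ← Finset.univ_sum_single z, map_sum, Finset.sum_apply]
        refine Low.sum 𝒜 _ _ fun j _ => ?_
        rw [show Pi.single (M := fun _ : Fin n => R) j (z j) = z j • Pi.single (M := fun _ : Fin n => R) j (1 : R) by
          rw [← Pi.single_smul, smul_eq_mul, mul_one], map_smul, Pi.smul_apply, smul_eq_mul, Nat.cast_succ]
        exact Low.mul 𝒜 (ih z hz j) (hK _ (by simp [π, hs']) i)
    funext i
    rw [← DirectSum.sum_support_decompose 𝒜 (z i)]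
    refine Finset.sum_eq_zero fun e _ => hN (e.toNat + 1) z hz i e ?_
    omega
  let E : (Fin n → R) ≃ₗ[R] M := LinearEquiv.ofBijective φ ⟨(injective_iff_map_eq_zero φ).2 hker, hφ⟩
  refine ⟨n, (Pi.basisFun R (Fin n)).map E, fun i => ⟨d i, ?_⟩⟩
  rw [Module.Basis.map_apply, Pi.basisFun_apply, show E (Pi.single i 1) = φ (Pi.single i 1) from rfl,
    Fintype.linearCombination_apply_single, one_smul]
  exact hd i
end

/-- Let k be a field and R a commutative ℤ-graded k-algebra whose pieces of negative degree vanish and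
whose degree-zero piece is the image of k, and let M be a finitely generated ℤ-graded R-module,
graded compatibly with R. Then M is a projective R-module if and only if M has an R-basis consisting
of homogeneous elements, i.e. M is a free graded module. (The published statement takes R a graded
quotient of a polynomial ring k[x_0, …, x_n] with its standard grading; stated here for any
commutative graded k-algebra concentrated in non-negative degrees with degree-zero part k, to which
the same graded-Nakayama argument applies.) -/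
theorem result {k : Type u} [Field k] {R : Type u} [CommRing R] [Algebra k R]
    {σ : Type u} [SetLike σ R] [AddSubmonoidClass σ R] (𝒜 : ℤ → σ) [GradedRing 𝒜]
    (hneg : ∀ i : ℤ, i < 0 → ∀ x ∈ 𝒜 i, x = 0)
    (hk : ∀ c : k, algebraMap k R c ∈ 𝒜 0) (h0 : ∀ x ∈ 𝒜 0, ∃ c : k, algebraMap k R c = x)
    {M : Type u} [AddCommGroup M] [Module R M] [Module.Finite R M]
    {τ : Type u} [SetLike τ M] [AddSubmonoidClass τ M] (ℳ : ℤ → τ) [DirectSum.Decomposition ℳ]
    [SetLike.GradedSMul 𝒜 ℳ] :
    Module.Projective R M ↔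
      ∃ (ι : Type u) (b : Module.Basis ι R M), ∀ i : ι, SetLike.IsHomogeneousElem ℳ (b i) := by
  constructor
  · intro h
    obtain ⟨n, b, hb⟩ := basis_of_projective 𝒜 ℳ hneg (fun x hx hx0 => by
      obtain ⟨c, rfl⟩ := h0 x hx
      exact (isUnit_iff_ne_zero.2 fun hc => hx0 (by rw [hc, map_zero])).map _)
    exact ⟨ULift.{u} (Fin n), b.reindex Equiv.ulift.symm, fun i => by
      rw [Module.Basis.reindex_apply]; exact hb _⟩
  · rintro ⟨ι, b, -⟩
    exact Module.Projective.of_basis b

end Groth.Agent.S19462
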