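import Groth.Statements.S19464
import Groth.Agent.Models7.PointBlowUp
import Groth.Agent.Models7.SteinContract
import Groth.Agent.Models7.PointBlowUpIso
import Groth.Agent.Coherent.BirationalFibre
import Groth.Agent.VarietyLib.SmoothStalk
-- import your own Groth.Agent.* helpers here

set_option autoImplicit false
universe u
open CategoryTheory CategoryTheory.Limits AlgebraicGeometry
open Surf

namespace Groth.Agent.S19464

theorem isIso_stalk {A B : Scheme.{u}} (g : A ⟶ B) [IsIso g] (a : A) : IsIso (g.stalkMap a) := by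
  haveI : IsOpenImmersion g := inferInstance
  infer_instance

/-- Let k be an algebraically closed field, X and Y smooth surfaces over k (integral, separated, of
finite type and smooth over k, of dimension two), f : X → Y a proper k-morphism which is an
isomorphism over some nonempty open subset of Y (birational), and y a closed point of Y over no open
neighbourhood of which f is an isomorphism (y is not in the domain of the inverse rational map).
Then f factors through the blow-up of Y at y: for every π : Y' → Y having the universal property of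
the blowing up of Y in the ideal of the reduced closed point y, there is g : X → Y' with g ≫ π = f. -/
theorem result (k : Type u) [Field k] [IsAlgClosed k]
    (X Y : Scheme.{u}) [X.Over (Spec (CommRingCat.of k))] [Y.Over (Spec (CommRingCat.of k))]
    [IsIntegral X] [IsSeparated (X ↘ (Spec (CommRingCat.of k)))] [LocallyOfFiniteType (X ↘ (Spec (CommRingCat.of k)))]
    [QuasiCompact (X ↘ (Spec (CommRingCat.of k)))] [Smooth (X ↘ (Spec (CommRingCat.of k)))] (hdimX : topologicalKrullDim X = 2)
    [IsIntegral Y] [IsSeparated (Y ↘ (Spec (CommRingCat.of k)))] [LocallyOfFiniteType (Y ↘ (Spec (CommRingCat.of k)))]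
    [QuasiCompact (Y ↘ (Spec (CommRingCat.of k)))] [Smooth (Y ↘ (Spec (CommRingCat.of k)))] (hdimY : topologicalKrullDim Y = 2)
    (f : X ⟶ Y) (hf : f ≫ (Y ↘ (Spec (CommRingCat.of k))) = X ↘ (Spec (CommRingCat.of k))) [IsProper f]
    (hbir : ∃ U : Y.Opens, (U : Set Y).Nonempty ∧ IsIso (f ∣_ U))
    (y : Y) (hy : IsClosed ({y} : Set Y)) (hP : ∀ V : Y.Opens, y ∈ V → ¬ IsIso (f ∣_ V))
    (Y' : Scheme.{u}) (π : Y' ⟶ Y) (hπ : BlowUp.IsBlowUp π (Scheme.IdealSheafData.vanishingIdeal ⟨{y}, hy⟩)) :
    ∃ g : X ⟶ Y', g ≫ π = f := by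
  haveI : IsLocallyNoetherian X := LocallyOfFiniteType.isLocallyNoetherian (X ↘ (Spec (CommRingCat.of k)))
  haveI : IsLocallyNoetherian Y := LocallyOfFiniteType.isLocallyNoetherian (Y ↘ (Spec (CommRingCat.of k)))
  haveI : CompactSpace X := QuasiCompact.compactSpace_of_compactSpace (X ↘ (Spec (CommRingCat.of k)))
  have hX : ∀ x : X, IsRegularLocalRing (X.presheaf.stalk x) := fun x =>
    VarietyLib.isRegularLocalRing_stalk_of_smooth k X (X ↘ (Spec (CommRingCat.of k))) x
  have hY : ∀ z : Y, IsRegularLocalRing (Y.presheaf.stalk z) := fun z =>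
    VarietyLib.isRegularLocalRing_stalk_of_smooth k Y (Y ↘ (Spec (CommRingCat.of k))) z
  have hYn : Pi1.IsNormalScheme Y := Models7.isNormalScheme_of_regular hY
  obtain ⟨U, ⟨x₀, hx₀⟩, hiso⟩ := hbir
  haveI := hiso
  have hηY : f (genericPoint X) = genericPoint Y := by
    refine ((genericPoint_spec Y).eq ?_).symm
    rw [isGenericPoint_def, ← Set.univ_subset_iff]
    intro z _
    rw [mem_closure_iff]
    intro V hV hzV
    obtain ⟨w, hwV, hwU⟩ := nonempty_preirreducible_inter hV U.isOpen ⟨z, hzV⟩ ⟨x₀, hx₀⟩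
    obtain ⟨a, ha⟩ := (f ∣_ U).homeomorph.surjective ⟨w, hwU⟩
    have ha' : f a.1 = w := by
      calc f a.1 = ((f ⁻¹ᵁ U).ι ≫ f) a := rfl
        _ = ((f ∣_ U) ≫ U.ι) a := by rw [morphismRestrict_ι]
        _ = w := congrArg (fun v => U.ι v) ha
    exact ⟨_, (genericPoint_specializes a.1).mem_open (hV.preimage f.continuous) (show f a.1 ∈ V from ha' ▸ hwV), rfl⟩
  have hηU : genericPoint X ∈ f ⁻¹ᵁ U := by
    show f (genericPoint X) ∈ U
    rw [hηY]
    exact (genericPoint_specializes x₀).mem_open U.isOpen hx₀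
  have hst : IsIso (f.stalkMap (genericPoint X)) := by
    haveI : IsOpenImmersion (f ∣_ U) := inferInstance
    exact ((MorphismProperty.isomorphisms _).arrow_mk_iso_iff (morphismRestrictStalkMap f U ⟨_, hηU⟩)).1
      (isIso_stalk (f ∣_ U) _)
  have happ : ∀ V : Y.Opens, IsIso (f.app V) := Coherent.isIso_app_of_birational f hYn hηY hst
  have hbig : ∃ x x' : X, x ≠ x' ∧ f x = y ∧ f x' = y := by
    by_contra hno
    push Not at hno
    have hfin : (f.base ⁻¹' {y}).Finite := Set.Subsingleton.finite fun a ha b hb => by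
      by_contra hne
      exact hno a b hne ha hb
    obtain ⟨V, hyV, hV⟩ := exists_isFinite_morphismRestrict_of_finite_preimage_singleton f y hfin
    refine hP V hyV (Models7.isIso_morphismRestrict_of_finite_fibres f happ V fun z hz => ?_)
    haveI := hV
    refine (((f ∣_ V).finite_preimage_singleton ⟨z, hz⟩).image Subtype.val).subset ?_
    intro a ha
    have haV : a ∈ f ⁻¹ᵁ V := by show f a ∈ V; rw [show f a = z from ha]; exact hz
    refine ⟨⟨a, haV⟩, ?_, rfl⟩
    exact Subtype.ext ((morphismRestrict_base_coe f V _).trans ha)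
  have hy0 : y ≠ genericPoint Y := by
    intro h
    obtain ⟨a, b, hne, ha, hb⟩ := hbig
    have ha' : f a ∈ U := by rw [ha, h]; exact (genericPoint_specializes x₀).mem_open U.isOpen hx₀
    have hb' : f b ∈ U := by rw [hb, h]; exact (genericPoint_specializes x₀).mem_open U.isOpen hx₀
    have h2 : (f ∣_ U) ⟨a, ha'⟩ = (f ∣_ U) ⟨b, hb'⟩ :=
      Subtype.ext (((morphismRestrict_base_coe f U _).trans (ha.trans hb.symm)).trans (morphismRestrict_base_coe f U _).symm)
    exact hne (congrArg Subtype.val ((f ∣_ U).homeomorph.injective h2))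
  obtain ⟨g, hg, -⟩ := hπ.2 X f
    (Models7.isEffCartier_comap_point hX hY hdimX.le hdimY.le hYn f hηY hst y hy hy0 hbig)
  exact ⟨g, hg⟩

end Groth.Agent.S19464
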