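import Groth.Statements.S19465
import Groth.Agent.S3042

set_option autoImplicit false
universe u
open CategoryTheory CategoryTheory.Limits MonoidalCategory CartesianMonoidalCategory MonObj GrpObj AlgebraicGeometry
open AlgGrp

namespace Groth.Agent.S19465

/-- Let S be a scheme and G an S-group scheme whose structure morphism G → S is locally of finite type.
Then G → S is an isomorphism (G is the trivial group scheme over S) if and only if every fibre G_s →
Spec κ(s), s ∈ S, is an isomorphism. -/
theorem result (S : Scheme.{u}) (G : Over S)
    [GrpObj G] [LocallyOfFiniteType G.hom] :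
    IsIso G.hom ↔ ∀ s : S, IsIso (G.hom.fiberToSpecResidueField s) := by
  refine ⟨fun _ s => MorphismProperty.pullback_snd (P := MorphismProperty.isomorphisms Scheme.{u}) _ _ (by assumption), fun h => ?_⟩
  haveI : Mono G.hom := (Groth.Agent.S3042.result G.left S G.hom).2 fun s => by
    haveI := h s
    infer_instance
  haveI : IsSplitEpi G.hom := IsSplitEpi.mk' ⟨η[G].left, Over.w η[G]⟩
  exact isIso_of_mono_of_isSplitEpi G.hom

end Groth.Agent.S19465
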