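import Groth.Statements.S19467
import Groth.Agent.MultSeq25.Complement
import Groth.Agent.AlgGrpLib.GeomPoints
import Groth.Agent.UnipStruct.Group

set_option autoImplicit false
set_option linter.style.haveILetI false
set_option maxHeartbeats 1000000
set_option backward.isDefEq.respectTransparency.types false
universe u
open CategoryTheory MonoidalCategory CartesianMonoidalCategory MonObj GrpObj AlgebraicGeometry CategoryTheory.Limits
open AlgGrp

namespace Groth.Agent.S19467

open Groth.Agent.HopfQuot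

variable {k : Type u} [Field k]

theorem comp_id_pow {G T : Over (Spec (CommRingCat.of k))} [GrpObj G] (x : T ⟶ G) (n : ℕ) :
    x ≫ (𝟙 G : G ⟶ G) ^ n = x ^ n := by
  induction n with
  | zero => rw [_root_.pow_zero, _root_.pow_zero, MonObj.comp_one]
  | succ m ih => rw [pow_succ, pow_succ, MonObj.comp_mul, ih, Category.comp_id]

theorem isMonHom_pow {G : Over (Spec (CommRingCat.of k))} [GrpObj G] [IsCommMonObj G] (n : ℕ) :
    IsMonHom ((𝟙 G : G ⟶ G) ^ n) :=
  WittGrp.isMonHom_of_comp_mul _ (by rw [comp_id_pow, one_pow]) fun T x y => by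
    rw [comp_id_pow, comp_id_pow, comp_id_pow, mul_pow]

theorem exists_lift_pt {A : Type u} [CommRing A] [HopfAlgebra k A] [Coalgebra.IsCocomm k A] {R : Type u} [CommRing R]
    [Algebra k R] (g : Pt k A R) (hg : Kills (MultSeq25.mIdeal k A) g) :
    ∃ χ : Pt k (A ⧸ MultSeq25.mIdeal k A) R,
      ptSpec (k := k) χ ≫ specHom (MultSeq25.mProj k A) = ptSpec g := by
  obtain ⟨φ, rfl⟩ := hg.exists_push
  refine ⟨WithConv.toConv φ, (ptSpec_comp _ _).trans ?_⟩
  congr 1

set_option backward.isDefEq.respectTransparency false in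
theorem isFinite_of_killed {A : Type u} [CommRing A] [HopfAlgebra k A] [Coalgebra.IsCocomm k A] [Algebra.FiniteType k A]
    (P : Over (Spec (CommRingCat.of k))) [IsAffine P.left] (x : P ⟶ spec (k := k) (A ⧸ MultSeq25.mIdeal k A))
    [IsClosedImmersion x.left] (n : ℕ) (hn : 0 < n) (h : x ^ n = 1) : IsFinite P.hom := by
  let ψ : CommRingCat.of k ⟶ Γ(P.left, ⊤) := (Scheme.ΓSpecIso _).inv ≫ P.hom.appTop
  letI : Algebra k Γ(P.left, ⊤) := ψ.hom.toAlgebra
  have hψ : P.left.isoSpec.inv ≫ P.hom = Spec.map ψ := by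
    rw [Iso.inv_comp_eq, Spec.map_comp]
    erw [Scheme.isoSpec_hom_naturality_assoc]
    simp [← Spec.map_comp, Scheme.isoSpec_Spec_hom]
  let i : (Spec (CommRingCat.of Γ(P.left, ⊤))).asOver (Spec (CommRingCat.of k)) ≅ P :=
    (Over.isoMk P.left.isoSpec (by
      show P.left.isoSpec.hom ≫ Spec.map (CommRingCat.ofHom (algebraMap k Γ(P.left, ⊤))) = P.hom
      rw [show CommRingCat.ofHom (algebraMap k Γ(P.left, ⊤)) = ψ from rfl, ← hψ, Iso.hom_inv_id_assoc]) :
      P ≅ (Spec (CommRingCat.of Γ(P.left, ⊤))).asOver (Spec (CommRingCat.of k))).symm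
  let χ := (ptSpec (k := k) (A := A ⧸ MultSeq25.mIdeal k A) (T := Γ(P.left, ⊤))).symm (i.hom ≫ x)
  have hχ : χ ^ n = 1 := by
    rw [← map_pow, ← map_one (ptSpec (k := k) (A := A ⧸ MultSeq25.mIdeal k A) (T := Γ(P.left, ⊤))).symm]
    congr 1
    rw [← comp_id_pow, Category.assoc, comp_id_pow, h, MonObj.comp_one]
  have hleft : Spec.map (CommRingCat.ofHom (χ.ofConv : (A ⧸ MultSeq25.mIdeal k A) →+* Γ(P.left, ⊤))) =
      (i.hom ≫ x).left := by
    rw [← (ptSpec (k := k) (A := A ⧸ MultSeq25.mIdeal k A) (T := Γ(P.left, ⊤))).apply_symm_apply (i.hom ≫ x)]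
    rfl
  haveI : IsIso i.hom.left := inferInstanceAs (IsIso ((Over.forget _).map i.hom))
  haveI hci : IsClosedImmersion (Spec.map (CommRingCat.ofHom (χ.ofConv : (A ⧸ MultSeq25.mIdeal k A) →+* Γ(P.left, ⊤)))) := by
    have h' : IsClosedImmersion (i.hom ≫ x).left := by rw [Over.comp_left]; infer_instance
    rw [hleft]; exact h'
  have hsurj : Function.Surjective χ.ofConv := by
    have h2 := Scheme.Hom.app_surjective (Spec.map (CommRingCat.ofHom
      (χ.ofConv : (A ⧸ MultSeq25.mIdeal k A) →+* Γ(P.left, ⊤)))) ⊤ (isAffineOpen_top _)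
    have e0 := Scheme.ΓSpecIso_inv_naturality (CommRingCat.ofHom
      (χ.ofConv : (A ⧸ MultSeq25.mIdeal k A) →+* Γ(P.left, ⊤)))
    intro y
    obtain ⟨z, hz⟩ := h2 ((Scheme.ΓSpecIso (CommRingCat.of Γ(P.left, ⊤))).inv y)
    obtain ⟨a, rfl⟩ := (ConcreteCategory.bijective_of_isIso
      (Scheme.ΓSpecIso (CommRingCat.of (A ⧸ MultSeq25.mIdeal k A))).inv).2 z
    refine ⟨a, (ConcreteCategory.bijective_of_isIso (Scheme.ΓSpecIso (CommRingCat.of Γ(P.left, ⊤))).inv).1 ?_⟩
    exact (congrArg (fun f => f.hom a) e0).trans hz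
  haveI : Algebra.FiniteType k Γ(P.left, ⊤) := Algebra.FiniteType.of_surjective χ.ofConv hsurj
  haveI : Module.Finite k Γ(P.left, ⊤) := MultSeq25.moduleFinite_of_killed k χ hsurj n hn hχ
  haveI : IsFinite (Spec.map ψ) := (IsFinite.SpecMap_iff _).2 (RingHom.finite_algebraMap.2 inferInstance)
  rw [← MorphismProperty.cancel_left_of_respectsIso @IsFinite P.left.isoSpec.inv, hψ]
  infer_instance

set_option backward.isDefEq.respectTransparency false in
theorem main_charP (p : ℕ) [Fact p.Prime] [CharP k p]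
    {G : Over (Spec (CommRingCat.of k))} [GrpObj G] [IsCommMonObj G] [IsAffine G.left] [LocallyOfFiniteType G.hom]
    {A : Type u} [CommRing A] [HopfAlgebra k A] [Coalgebra.IsCocomm k A] [Algebra.FiniteType k A]
    (e : spec (k := k) A ⟶ G) [IsIso e] [IsMonHom e]
    {M : Over (Spec (CommRingCat.of k))} [GrpObj M] (j : M ⟶ G) [IsMonHom j] [IsClosedImmersion j.left]
    (w : spec (k := k) (A ⧸ MultSeq25.mIdeal k A) ⟶ M) [IsIso w] [IsMonHom (inv w)]
    (hw : w ≫ j = specHom (MultSeq25.mProj k A) ≫ e) :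
    ∃ (H : Over (Spec (CommRingCat.of k))) (_ : GrpObj H) (h : H ⟶ G), IsMonHom h ∧ IsClosedImmersion h.left ∧
      Surjective ((j ⊗ₘ h) ≫ μ[G]).left ∧
      IsFinite (pullback.fst j.left h.left ≫ M.hom) := by
  haveI : IsMonHom (inv e) := inferInstanceAs (IsMonHom (asIso e).inv)
  haveI : Mono j := (Over.forget _).mono_of_mono_map (inferInstanceAs (Mono j.left))
  obtain ⟨m, hm⟩ := MultSeq25.exists_pow_kills k (A := A) p
  haveI := isMonHom_pow (G := G) (p ^ m)
  let h := UnipStruct.kerι ((𝟙 G : G ⟶ G) ^ p ^ m)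
  haveI : IsSeparated G.hom := inferInstance
  haveI : IsClosedImmersion h.left := UnipStruct.isClosedImmersion_kerι _
  refine ⟨_, inferInstance, h, inferInstance, inferInstance, ?_, ?_⟩
  · haveI : LocallyOfFiniteType M.hom := by rw [← Over.w j]; infer_instance
    haveI : LocallyOfFiniteType (UnipStruct.kerObj ((𝟙 G : G ⟶ G) ^ p ^ m)).hom := by rw [← Over.w h]; infer_instance
    let H := UnipStruct.kerObj ((𝟙 G : G ⟶ G) ^ p ^ m)
    haveI : IsAffine M.left := isAffine_of_isAffineHom j.left
    haveI : IsAffine H.left := isAffine_of_isAffineHom h.left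
    haveI : LocallyOfFiniteType (M ⊗ H).hom := by
      show LocallyOfFiniteType (pullback.fst M.hom H.hom ≫ M.hom); infer_instance
    haveI : IsAffine (M ⊗ H).left := inferInstanceAs (IsAffine (pullback M.hom H.hom))
    haveI : LocallyOfFiniteType (((j ⊗ₘ h) ≫ μ[G]).left ≫ G.hom) := by rw [Over.w]; infer_instance
    haveI : LocallyOfFiniteType ((j ⊗ₘ h) ≫ μ[G]).left := locallyOfFiniteType_of_comp _ G.hom
    haveI : IsLocallyNoetherian G.left := LocallyOfFiniteType.isLocallyNoetherian G.hom
    let K := AlgebraicClosure k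
    haveI : CharP K p := charP_of_injective_algebraMap (algebraMap k K).injective p
    refine AlgGrpLib.GeomPoints.surjective_of_points (K := K) ((j ⊗ₘ h) ≫ μ[G]) fun x => ?_
    let x' : (Spec (CommRingCat.of K)).asOver (Spec (CommRingCat.of k)) ⟶ G := x
    let g := (ptSpec (k := k) (A := A) (T := K)).symm (x' ≫ inv e)
    obtain ⟨χ, hχ⟩ := exists_lift_pt (g ^ p ^ m) (hm K g)
    obtain ⟨ν, hν⟩ := MultSeq25.exists_root k p K m χ
    let m' : (Spec (CommRingCat.of K)).asOver (Spec (CommRingCat.of k)) ⟶ M := ptSpec (k := k) ν ≫ w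
    have hpow : (m' ≫ j) ^ p ^ m = x' ^ p ^ m := by
      show ((ptSpec (k := k) ν ≫ w) ≫ j) ^ p ^ m = _
      rw [Category.assoc, hw, ← UnipStruct.comp_pow', ← map_pow, hν, ← Category.assoc, hχ, map_pow,
        MulEquiv.apply_symm_apply, UnipStruct.comp_pow']
      simp
    have hker : (x' * (m' ≫ j)⁻¹) ≫ (𝟙 G : G ⟶ G) ^ p ^ m = 1 := by
      rw [comp_id_pow, mul_pow, inv_pow, hpow, mul_inv_cancel]
    obtain ⟨n, hn⟩ := AlgGrpLib.exists_lift_kernel (UnipStruct.isKernel_kerι ((𝟙 G : G ⟶ G) ^ p ^ m)) hker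
    refine ⟨lift m' n, ?_⟩
    rw [lift_map_assoc, ← Hom.mul_def]
    show (m' ≫ j) * (n ≫ h) = x'
    rw [hn, mul_comm x', mul_inv_cancel_left]
  · haveI : IsAffine M.left := isAffine_of_isAffineHom j.left
    let P : Over (Spec (CommRingCat.of k)) := Over.mk (pullback.fst j.left h.left ≫ M.hom)
    let m₁ : P ⟶ M := Over.homMk (pullback.fst j.left h.left) rfl
    let c : P ⟶ UnipStruct.kerObj ((𝟙 G : G ⟶ G) ^ p ^ m) := Over.homMk (pullback.snd j.left h.left) (by
      show pullback.snd j.left h.left ≫ _ = pullback.fst j.left h.left ≫ M.hom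
      rw [← Over.w h, ← Over.w j, pullback.condition_assoc])
    have hmc : m₁ ≫ j = c ≫ h := Over.OverMorphism.ext pullback.condition
    have hpow : m₁ ^ p ^ m = 1 := by
      rw [← cancel_mono j, UnipStruct.comp_pow', hmc, MonObj.one_comp, ← comp_id_pow]
      exact UnipStruct.kerι_comp _ c
    haveI : IsClosedImmersion (m₁ ≫ inv w).left := by
      rw [Over.comp_left]
      haveI : IsClosedImmersion m₁.left := inferInstanceAs (IsClosedImmersion (pullback.fst j.left h.left))
      haveI : IsIso (inv w).left := inferInstanceAs (IsIso ((Over.forget _).map (inv w)))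
      infer_instance
    haveI : IsAffine P.left := isAffine_of_isAffineHom (pullback.fst j.left h.left)
    exact isFinite_of_killed P (m₁ ≫ inv w) (p ^ m) (pow_pos (Fact.out : p.Prime).pos m)
      (by rw [← UnipStruct.comp_pow', hpow, MonObj.one_comp])

set_option backward.isDefEq.respectTransparency false in
theorem main_charZero [CharZero k]
    {G : Over (Spec (CommRingCat.of k))} [GrpObj G] [IsCommMonObj G] [IsAffine G.left] [LocallyOfFiniteType G.hom]
    {A : Type u} [CommRing A] [HopfAlgebra k A] [Coalgebra.IsCocomm k A] [Algebra.FiniteType k A]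
    (e : spec (k := k) A ⟶ G) [IsIso e] [IsMonHom e]
    {M : Over (Spec (CommRingCat.of k))} [GrpObj M] (j : M ⟶ G) [IsMonHom j] [IsClosedImmersion j.left]
    (w : spec (k := k) (A ⧸ MultSeq25.mIdeal k A) ⟶ M) [IsIso w] [IsMonHom (inv w)]
    (hw : w ≫ j = specHom (MultSeq25.mProj k A) ≫ e) :
    ∃ (H : Over (Spec (CommRingCat.of k))) (_ : GrpObj H) (h : H ⟶ G), IsMonHom h ∧ IsClosedImmersion h.left ∧
      Surjective ((j ⊗ₘ h) ≫ μ[G]).left ∧
      IsFinite (pullback.fst j.left h.left ≫ M.hom) := by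
  haveI : IsMonHom (inv e) := inferInstanceAs (IsMonHom (asIso e).inv)
  haveI : Mono j := (Over.forget _).mono_of_mono_map (inferInstanceAs (Mono j.left))
  haveI : IsIso e.left := inferInstanceAs (IsIso ((Over.forget _).map e))
  haveI : IsAffine M.left := isAffine_of_isAffineHom j.left
  obtain ⟨r, hr⟩ := MultSeq25.exists_retraction k (A := A)
  let ιB := MultSeq25.incl k (A := A)
  let h : spec (k := k) (CommMultPart.unipAlg k A) ⟶ G := specHom r ≫ e
  have hrs : Function.Surjective r := fun b => ⟨ιB b, hr b⟩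
  haveI : IsClosedImmersion (specHom r).left := by
    rw [specHom_left]; exact IsClosedImmersion.spec_of_surjective _ hrs
  haveI : IsClosedImmersion h.left := by show IsClosedImmersion (specHom r ≫ e).left; rw [Over.comp_left]; infer_instance
  have hri : specHom r ≫ specHom ιB = 𝟙 _ := by
    refine Over.OverMorphism.ext ?_
    rw [Over.comp_left, specHom_left, specHom_left]
    refine (Spec.map_comp _ _).symm.trans (Eq.trans (congrArg Spec.map ?_) (Spec.map_id _))
    exact CommRingCat.hom_ext (RingHom.ext hr)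
  let q₀ : G ⟶ spec (k := k) (CommMultPart.unipAlg k A) := inv e ≫ specHom ιB
  have hq₀ : h ≫ q₀ = 𝟙 _ := by simp [h, q₀, hri]
  let u : Pt k A A := WithConv.toConv ((ιB : CommMultPart.unipAlg k A →ₐ[k] A).comp (r : A →ₐ[k] CommMultPart.unipAlg k A))
  have hu : MultSeq25.resHom k (A := A) A u = MultSeq25.resHom k (A := A) A (idPt k A) :=
    WithConv.ext (AlgHom.ext fun b => congrArg ιB (hr b))
  have hkills : Kills (MultSeq25.mIdeal k A) (idPt k A * u⁻¹) := by
    have h1 : MultSeq25.resHom k (A := A) A (idPt k A * u⁻¹) = 1 := by rw [map_mul, map_inv, hu, mul_inv_cancel]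
    refine kills_augIdealSpan_iff.2 fun b hb => ?_
    exact (congrArg (fun x => x.ofConv (⟨b, hb⟩ : CommMultPart.unipAlg k A)) h1).trans (HopfQuot.one_apply _)
  obtain ⟨χ, hχ⟩ := exists_lift_pt _ hkills
  have hid : ptSpec (k := k) (idPt k A) = 𝟙 (spec (k := k) A) := by
    refine Over.OverMorphism.ext ?_
    show Spec.map _ = 𝟙 _
    exact (congrArg Spec.map (CommRingCat.hom_ext (RingHom.ext fun a => rfl))).trans (Spec.map_id _)
  have hu' : ptSpec (k := k) u = specHom ιB ≫ specHom r := by
    refine Over.OverMorphism.ext ?_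
    rw [Over.comp_left, specHom_left, specHom_left]
    refine Eq.trans ?_ (Spec.map_comp (CommRingCat.ofHom (r : A →+* CommMultPart.unipAlg k A))
      (CommRingCat.ofHom (ιB : CommMultPart.unipAlg k A →+* A)))
    exact congrArg Spec.map (CommRingCat.hom_ext (RingHom.ext fun a => rfl))
  let m' : G ⟶ M := inv e ≫ ptSpec (k := k) χ ≫ w
  have hsec : lift m' q₀ ≫ (j ⊗ₘ h) ≫ μ[G] = 𝟙 G := by
    rw [lift_map_assoc, ← Hom.mul_def]
    show ((inv e ≫ ptSpec (k := k) χ ≫ w) ≫ j) * ((inv e ≫ specHom ιB) ≫ specHom r ≫ e) = 𝟙 G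
    simp only [Category.assoc]
    rw [hw, reassoc_of% hχ, ← reassoc_of% hu', ← MonObj.comp_mul, ← MonObj.mul_comp, ← map_mul,
      inv_mul_cancel_right, hid, Category.id_comp, IsIso.inv_hom_id]
  refine ⟨_, inferInstance, h, inferInstance, inferInstance, ?_, ?_⟩
  · refine ⟨fun y => ⟨(lift m' q₀).left y, ?_⟩⟩
    exact congrArg (fun f : G ⟶ G => f.left y) hsec
  · let P : Over (Spec (CommRingCat.of k)) := Over.mk (pullback.fst j.left h.left ≫ M.hom)
    let m₁ : P ⟶ M := Over.homMk (pullback.fst j.left h.left) rfl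
    let c : P ⟶ spec (k := k) (CommMultPart.unipAlg k A) := Over.homMk (pullback.snd j.left h.left) (by
      show pullback.snd j.left h.left ≫ _ = pullback.fst j.left h.left ≫ M.hom
      rw [← Over.w h, ← Over.w j, pullback.condition_assoc])
    have hmc : m₁ ≫ j = c ≫ h := Over.OverMorphism.ext pullback.condition
    have hjq : specHom (MultSeq25.mProj k A) ≫ specHom ιB = 1 := by
      let πJ := MultSeq25.mProj k A
      have h0 : MultSeq25.resHom k (A := A) (A ⧸ MultSeq25.mIdeal k A) (mkPt (k := k) (MultSeq25.mIdeal k A)) = 1 :=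
        WithConv.ext (AlgHom.ext fun b =>
          ((kills_augIdealSpan_iff.1 (kills_mkPt (k := k) (MultSeq25.mIdeal k A))) b b.2).trans (one_apply _).symm)
      refine Eq.trans ?_ (map_one (ptSpec (k := k) (A := CommMultPart.unipAlg k A) (T := A ⧸ MultSeq25.mIdeal k A)))
      rw [← h0]
      refine Over.OverMorphism.ext ?_
      rw [Over.comp_left, specHom_left, specHom_left]
      exact (Spec.map_comp _ _).symm.trans (congrArg Spec.map (CommRingCat.hom_ext (RingHom.ext fun a => rfl)))
    have hc : c = 1 := by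
      rw [← Category.comp_id c, ← hq₀, ← reassoc_of% hmc]
      show m₁ ≫ j ≫ inv e ≫ specHom ιB = 1
      rw [← IsIso.inv_hom_id_assoc w j, hw]
      simp [hjq]
    have hm1 : m₁ ^ 1 = 1 := by
      rw [pow_one, ← cancel_mono j, hmc, hc, MonObj.one_comp, MonObj.one_comp]
    haveI : IsClosedImmersion (m₁ ≫ inv w).left := by
      rw [Over.comp_left]
      haveI : IsClosedImmersion m₁.left := inferInstanceAs (IsClosedImmersion (pullback.fst j.left h.left))
      haveI : IsIso (inv w).left := inferInstanceAs (IsIso ((Over.forget _).map (inv w)))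
      infer_instance
    haveI : IsAffine P.left := isAffine_of_isAffineHom (pullback.fst j.left h.left)
    exact isFinite_of_killed P (m₁ ≫ inv w) 1 Nat.one_pos (by rw [← UnipStruct.comp_pow', hm1, MonObj.one_comp])

/-- Let k be a field, G a commutative affine k-group scheme of finite type, and j : M → G the largest
closed subgroup scheme of multiplicative type (M is of multiplicative type and every closed subgroup
scheme of G of multiplicative type factors through M). Then there is a closed subgroup scheme h : H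
→ G such that G = M · H, in the sense that the multiplication M × H → G is surjective, and M ∩ H
(the fibre product of j and h) is finite over k. (The existence of the largest subgroup scheme of
multiplicative type is taken here as a hypothesis on M.) -/
theorem result (k : Type u) [Field k]
    (G : Over (Spec (CommRingCat.of k))) [GrpObj G] [IsCommMonObj G] [IsAffine G.left]
    [LocallyOfFiniteType G.hom]
    (M : Over (Spec (CommRingCat.of k))) [GrpObj M] (j : M ⟶ G) [IsMonHom j] [IsClosedImmersion j.left]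
    (hM : SGA3x.IsMultTypeFT M)
    (hMmax : ∀ (M' : Over (Spec (CommRingCat.of k))) [GrpObj M'] (j' : M' ⟶ G) [IsMonHom j']
      [IsClosedImmersion j'.left], SGA3x.IsMultTypeFT M' → ∃ g : M' ⟶ M, g ≫ j = j') :
    ∃ (H : Over (Spec (CommRingCat.of k))) (_ : GrpObj H) (h : H ⟶ G), IsMonHom h ∧ IsClosedImmersion h.left ∧
      Surjective ((j ⊗ₘ h) ≫ μ[G]).left ∧
      IsFinite (pullback.fst j.left h.left ≫ M.hom) := by
  obtain ⟨A, _, _, e, _, _, _, _⟩ := MultSeq25.exists_model G
  obtain ⟨w, _, hw⟩ := MultSeq25.exists_iso_max e M j hM hMmax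
  haveI : Mono j := (Over.forget _).mono_of_mono_map (inferInstanceAs (Mono j.left))
  haveI : IsMonHom w := WittGrp.isMonHom_of_comp_mul w
    (by rw [← cancel_mono j, Category.assoc, hw, MonObj.one_comp, MonObj.one_comp])
    (fun T x y => by
      rw [← cancel_mono j, Category.assoc, hw, MonObj.mul_comp, MonObj.mul_comp, Category.assoc, Category.assoc, hw])
  haveI : IsMonHom (inv w) := inferInstanceAs (IsMonHom (asIso w).inv)
  rcases CharP.exists k with ⟨p, hp⟩
  rcases CharP.char_is_prime_or_zero k p with hp' | rfl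
  · haveI := Fact.mk hp'
    exact main_charP p e j w hw
  · haveI : CharZero k := CharP.charP_to_charZero k
    exact main_charZero e j w hw

end Groth.Agent.S19467
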