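import Groth.Statements.S19472
import Groth.Agent.MultSeq25.Scheme

set_option autoImplicit false
set_option linter.style.haveILetI false
set_option backward.isDefEq.respectTransparency.types false
universe u
open CategoryTheory MonoidalCategory CartesianMonoidalCategory MonObj GrpObj AlgebraicGeometry CategoryTheory.Limits
open AlgGrp

namespace Groth.Agent.S19472

open Groth.Agent.HopfQuot Groth.Agent.MultSeq25 in
set_option maxHeartbeats 1000000 in
set_option linter.style.haveILetI false in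
theorem kills_aux {k : Type u} [Field k] {A A₁ : Type u} [CommRing A] [HopfAlgebra k A] [CommRing A₁] [HopfAlgebra k A₁]
    [Coalgebra.IsCocomm k A] [Coalgebra.IsCocomm k A₁] (π : A →ₐc[k] A₁) (hπ : Function.Surjective π)
    {T : Type u} [CommRing T] (φ : A₁ →+* T) (h : ∀ a ∈ mIdeal k A, φ (π a) = 0) :
    ∀ a ∈ mIdeal k A₁, φ a = 0 := by
  haveI : (RingHom.ker (π : A →+* A₁)).IsHopfIdeal k := HopfLib.isHopfIdeal_ker π
  let I := RingHom.ker (π : A →+* A₁)
  have hI : IsNormalSub k A I := IsNormalSub.ofHopf fun R _ _ g h hh a ha => by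
    rw [HopfQuot.conv3_eq]
    haveI : Coalgebra.IsCocomm k A := inferInstance
    have hc : (WithConv.toConv g * WithConv.toConv h *
        WithConv.toConv (g.comp (HopfAlgebra.antipodeAlgHom k A))) =
        WithConv.toConv h := by
      rw [show WithConv.toConv (g.comp (HopfAlgebra.antipodeAlgHom k A)) = (WithConv.toConv g)⁻¹ from rfl,
        mul_comm (WithConv.toConv g), mul_inv_cancel_right]
    rw [hc]
    exact hh a ha
  have hP : IsNormalSub k A (I ⊔ mIdeal k A) := hI.sup (isNormalSub_mIdeal k)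
  haveI := hP.isHopfIdeal
  let ρ : A₁ →ₐc[k] A ⧸ (I ⊔ mIdeal k A) :=
    SGA3bLib.bialgHomOfComp π (Bialgebra.Quotient.mkBialgHom (R := k) (I ⊔ mIdeal k A)) hπ
      (AlgHom.liftOfSurjective (π : A →ₐ[k] A₁) hπ (Ideal.Quotient.mkₐ k _) fun a ha =>
        Ideal.Quotient.eq_zero_iff_mem.2 (Submodule.mem_sup_left ha))
      fun a => AlgHom.liftOfSurjective_apply _ _ _ _ a
  intro a ha
  have hρ : ρ a = 0 := MultSeq25.mIdeal_le k ρ
    (IsoTriv.isMultType_of_const (isMultTypeConst_of_le k le_sup_right)) ha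
  obtain ⟨b, rfl⟩ := hπ a
  have hb : b ∈ I ⊔ mIdeal k A := by
    rw [← Ideal.Quotient.eq_zero_iff_mem]
    exact (AlgHom.liftOfSurjective_apply (π : A →ₐ[k] A₁) hπ (Ideal.Quotient.mkₐ k (I ⊔ mIdeal k A))
      (fun a ha => Ideal.Quotient.eq_zero_iff_mem.2 (Submodule.mem_sup_left ha)) b).symm.trans hρ
  obtain ⟨x, hx, y, hy, rfl⟩ := Submodule.mem_sup.1 hb
  rw [map_add, show π x = 0 from hx, zero_add]
  exact h y hy

/-- Let k be a field and 1 → G₁ → G → G₂ → 1 an exact sequence of commutative affine k-group schemes of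
finite type: i : G₁ → G is a closed subgroup scheme and the kernel of a flat surjective homomorphism
q : G → G₂. Let j₁ : M₁ → G₁, j : M → G and j₂ : M₂ → G₂ be the largest closed subgroup schemes of
multiplicative type (each of multiplicative type, every closed subgroup scheme of multiplicative
type factoring through it). Then the induced sequence 1 → M₁ → M → M₂ → 1 is exact: there are u : M₁
→ M over i and v : M → M₂ over q with u a closed immersion, v flat and surjective, and u the kernel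
of v. (The companion statement for the largest unipotent subgroup schemes over a perfect field is
not included; the existence of the largest multiplicative-type subgroups is carried as hypotheses.) -/
theorem result (k : Type u) [Field k]
    (G₁ : Over (Spec (CommRingCat.of k))) [GrpObj G₁] [IsCommMonObj G₁] [IsAffine G₁.left] [LocallyOfFiniteType G₁.hom]
    (G : Over (Spec (CommRingCat.of k))) [GrpObj G] [IsCommMonObj G] [IsAffine G.left] [LocallyOfFiniteType G.hom]
    (G₂ : Over (Spec (CommRingCat.of k))) [GrpObj G₂] [IsCommMonObj G₂] [IsAffine G₂.left] [LocallyOfFiniteType G₂.hom]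
    (i : G₁ ⟶ G) [IsMonHom i] [IsClosedImmersion i.left]
    (q : G ⟶ G₂) [IsMonHom q] [Surjective q.left] [Flat q.left] (hq : AlgGrp.IsKernel i q)
    (M₁ : Over (Spec (CommRingCat.of k))) [GrpObj M₁] (j₁ : M₁ ⟶ G₁) [IsMonHom j₁] [IsClosedImmersion j₁.left]
    (hM₁ : SGA3x.IsMultTypeFT M₁)
    (hM₁max : ∀ (M' : Over (Spec (CommRingCat.of k))) [GrpObj M'] (j' : M' ⟶ G₁) [IsMonHom j']
      [IsClosedImmersion j'.left], SGA3x.IsMultTypeFT M' → ∃ g : M' ⟶ M₁, g ≫ j₁ = j')
    (M : Over (Spec (CommRingCat.of k))) [GrpObj M] (j : M ⟶ G) [IsMonHom j] [IsClosedImmersion j.left]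
    (hM : SGA3x.IsMultTypeFT M)
    (hMmax : ∀ (M' : Over (Spec (CommRingCat.of k))) [GrpObj M'] (j' : M' ⟶ G) [IsMonHom j']
      [IsClosedImmersion j'.left], SGA3x.IsMultTypeFT M' → ∃ g : M' ⟶ M, g ≫ j = j')
    (M₂ : Over (Spec (CommRingCat.of k))) [GrpObj M₂] (j₂ : M₂ ⟶ G₂) [IsMonHom j₂] [IsClosedImmersion j₂.left]
    (hM₂ : SGA3x.IsMultTypeFT M₂)
    (hM₂max : ∀ (M' : Over (Spec (CommRingCat.of k))) [GrpObj M'] (j' : M' ⟶ G₂) [IsMonHom j']
      [IsClosedImmersion j'.left], SGA3x.IsMultTypeFT M' → ∃ g : M' ⟶ M₂, g ≫ j₂ = j') :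
    ∃ (u : M₁ ⟶ M) (v : M ⟶ M₂), u ≫ j = j₁ ≫ i ∧ v ≫ j₂ = j ≫ q ∧
      IsClosedImmersion u.left ∧ Surjective v.left ∧ Flat v.left ∧ AlgGrp.IsKernel u v := by
  classical
  obtain ⟨A, _, _, e, _, _, _, _⟩ := MultSeq25.exists_model G
  obtain ⟨A₁, _, _, e₁, _, _, _, _⟩ := MultSeq25.exists_model G₁
  obtain ⟨A₂, _, _, e₂, _, _, _, _⟩ := MultSeq25.exists_model G₂
  obtain ⟨φ, hφ⟩ := MultSeq25.exists_hom_model q e₂ e
  obtain ⟨π, hπ⟩ := MultSeq25.exists_hom_model i e e₁
  haveI : IsIso e.left := inferInstanceAs (IsIso ((Over.forget _).map e))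
  haveI : IsIso e₁.left := inferInstanceAs (IsIso ((Over.forget _).map e₁))
  haveI : IsIso e₂.left := inferInstanceAs (IsIso ((Over.forget _).map e₂))
  have hπs : Function.Surjective π := by
    refine MultSeq25.surjective_of_closedImmersion π ?_
    have h : (HopfQuot.specHom π).left ≫ e.left = e₁.left ≫ i.left := by
      rw [← Over.comp_left, ← Over.comp_left, hπ]
    rw [show (HopfQuot.specHom π).left = e₁.left ≫ i.left ≫ inv e.left by
      rw [← reassoc_of% h, IsIso.hom_inv_id, Category.comp_id]]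
    infer_instance
  have hφi : Function.Injective φ := by
    have h : (HopfQuot.specHom φ).left ≫ e₂.left = e.left ≫ q.left := by
      rw [← Over.comp_left, ← Over.comp_left, hφ]
    have h' : (HopfQuot.specHom φ).left = e.left ≫ q.left ≫ inv e₂.left := by
      rw [← reassoc_of% h, IsIso.hom_inv_id, Category.comp_id]
    have hfl' : Flat (HopfQuot.specHom φ).left := by rw [h']; infer_instance
    have hsu' : Surjective (HopfQuot.specHom φ).left := by rw [h']; infer_instance
    have hfl : Flat (Spec.map (CommRingCat.ofHom (φ : A₂ →+* A))) := hfl'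
    have hsu : Surjective (Spec.map (CommRingCat.ofHom (φ : A₂ →+* A))) := hsu'
    exact (RingHom.FaithfullyFlat.iff_flat_and_comap_surjective.2
      ⟨(HasRingHomProperty.Spec_iff (P := @Flat)).1 hfl, hsu.surj⟩).injective
  obtain ⟨w, _, hw⟩ := MultSeq25.exists_iso_max e M j hM hMmax
  obtain ⟨w₁, _, hw₁⟩ := MultSeq25.exists_iso_max e₁ M₁ j₁ hM₁ hM₁max
  obtain ⟨w₂, _, hw₂⟩ := MultSeq25.exists_iso_max e₂ M₂ j₂ hM₂ hM₂max
  haveI : Mono j₁ := (Over.forget _).mono_of_mono_map (inferInstanceAs (Mono j₁.left))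
  haveI : Mono j := (Over.forget _).mono_of_mono_map (inferInstanceAs (Mono j.left))
  haveI : Mono j₂ := (Over.forget _).mono_of_mono_map (inferInstanceAs (Mono j₂.left))
  haveI : Mono i := (Over.forget _).mono_of_mono_map (inferInstanceAs (Mono i.left))
  haveI : IsClosedImmersion (j₁ ≫ i).left := by rw [Over.comp_left]; infer_instance
  obtain ⟨u, hu⟩ := hMmax M₁ (j₁ ≫ i) hM₁
  let f := MultSeq25.mMap k φ
  have hf : HopfQuot.specHom f ≫ HopfQuot.specHom (MultSeq25.mProj k A₂) =
      HopfQuot.specHom (MultSeq25.mProj k A) ≫ HopfQuot.specHom φ := by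
    refine Over.OverMorphism.ext ?_
    rw [Over.comp_left, Over.comp_left, HopfQuot.specHom_left, HopfQuot.specHom_left, HopfQuot.specHom_left,
      HopfQuot.specHom_left]
    refine (Spec.map_comp _ _).symm.trans (Eq.trans ?_ (Spec.map_comp _ _))
    rfl
  let v : M ⟶ M₂ := inv w ≫ HopfQuot.specHom f ≫ w₂
  have hv : v ≫ j₂ = j ≫ q := by
    simp only [v, Category.assoc]
    rw [hw₂, reassoc_of% hf, hφ, ← reassoc_of% hw, IsIso.inv_hom_id_assoc]
  have hfff : (f : A₂ ⧸ MultSeq25.mIdeal k A₂ →+* A ⧸ MultSeq25.mIdeal k A).FaithfullyFlat := by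
    haveI : IsNoetherianRing A₂ := Algebra.FiniteType.isNoetherianRing k A₂
    haveI : IsNoetherianRing (A₂ ⧸ MultSeq25.mIdeal k A₂) := inferInstance
    exact HopfLib.faithfullyFlat_of_injective f (MultSeq25.mMap_injective k φ hφi)
  haveI : IsIso w.left := inferInstanceAs (IsIso ((Over.forget _).map w))
  haveI : IsIso w₂.left := inferInstanceAs (IsIso ((Over.forget _).map w₂))
  haveI : IsIso (inv w).left := inferInstanceAs (IsIso ((Over.forget _).map (inv w)))
  refine ⟨u, v, hu, hv, ?_, ?_, ?_, ?_⟩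
  · haveI : IsClosedImmersion (u.left ≫ j.left) := by rw [← Over.comp_left, hu]; infer_instance
    exact IsClosedImmersion.of_comp u.left j.left
  · haveI : Surjective (HopfQuot.specHom f).left := by
      rw [HopfQuot.specHom_left]; exact ⟨(RingHom.FaithfullyFlat.iff_flat_and_comap_surjective.1 hfff).2⟩
    simp only [v, Over.comp_left]
    infer_instance
  · haveI : Flat (HopfQuot.specHom f).left := by
      rw [HopfQuot.specHom_left]; exact (HasRingHomProperty.Spec_iff (P := @Flat)).2 hfff.flat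
    simp only [v, Over.comp_left]
    infer_instance
  · have hη : η[M₂] ≫ j₂ = η[G₂] := IsMonHom.one_hom (f := j₂)
    have hcomm : u ≫ v = toUnit M₁ ≫ η[M₂] := by
      rw [← cancel_mono j₂, Category.assoc, hv, reassoc_of% hu, hq.w, Category.assoc, hη,
        ← Category.assoc]
      congr 1
      exact toUnit_unique _ _
    have hlift : ∀ (T : Over (Spec (CommRingCat.of k))) (m : T ⟶ M), m ≫ v = toUnit T ≫ η[M₂] →
        ∃ l : T ⟶ M₁, l ≫ u = m := by
      intro T m hm
      have h0 : (m ≫ j) ≫ q = toUnit T ≫ η[G₂] := by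
        rw [Category.assoc, ← hv, reassoc_of% hm, hη]
      obtain ⟨g₁, hg₁, -⟩ : ∃ l : T ⟶ G₁, l ≫ i = m ≫ j ∧ True :=
        ⟨hq.lift _ _ h0, hq.lift_fst _ _ h0, trivial⟩
      let x : T ⟶ HopfQuot.spec (k := k) A₁ := g₁ ≫ inv e₁
      have hx : x ≫ HopfQuot.specHom π = (m ≫ inv w) ≫ HopfQuot.specHom (MultSeq25.mProj k A) := by
        rw [← cancel_mono e]
        simp only [x, Category.assoc]
        rw [hπ, IsIso.inv_hom_id_assoc, hg₁, ← hw, IsIso.inv_hom_id_assoc]
      obtain ⟨l, hl⟩ := MultSeq25.exists_lift_of_kills (MultSeq25.mProj k A₁) Ideal.Quotient.mk_surjective x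
        fun a ha => kills_aux π hπs (MultSeq25.ptRing x) (fun b hb => by
          rw [← MultSeq25.ptRing_comp, hx, MultSeq25.ptRing_comp,
            show MultSeq25.mProj k A b = 0 from Ideal.Quotient.eq_zero_iff_mem.2 hb, map_zero])
          a (Ideal.Quotient.eq_zero_iff_mem.1 ha)
      refine ⟨l ≫ w₁, ?_⟩
      rw [← cancel_mono j, Category.assoc, hu, Category.assoc, reassoc_of% hw₁, reassoc_of% hl]
      simp only [x, Category.assoc, IsIso.inv_hom_id_assoc, hg₁]
    choose l hl using hlift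
    haveI : Mono u := by
      haveI : Mono (u ≫ j) := by rw [hu]; infer_instance
      exact mono_of_mono u j
    exact ⟨⟨hcomm⟩, ⟨PullbackCone.IsLimit.mk _ (fun s => l _ s.fst (s.condition.trans (by
        congr 1; exact toUnit_unique _ _)))
      (fun s => hl _ _ _) (fun s => toUnit_unique _ _)
      (fun s m h1 _ => (cancel_mono u).1 (h1.trans (hl _ _ _).symm))⟩⟩

end Groth.Agent.S19472
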