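import Groth.Statements.S19473
import Mathlib.AlgebraicGeometry.Morphisms.FormallyUnramified
import Mathlib.CategoryTheory.Monoidal.Cartesian.Grp
-- import your own Groth.Agent.* helpers here

set_option autoImplicit false
universe u
open CategoryTheory CategoryTheory.Limits MonoidalCategory CartesianMonoidalCategory MonObj GrpObj AlgebraicGeometry
open AlgGrp

namespace Groth.Agent.S19473

/-- Let S be a scheme and G an S-group scheme whose structure morphism G → S is locally of finite type.
Then G → S is unramified — formally unramified, since it is locally of finite type — if and only if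
the identity section S → G is an open immersion. (The separated and quasi-separated clauses of the
published item are separate results.) -/
theorem result (S : Scheme.{u})
    (G : Over S) [GrpObj G] [LocallyOfFiniteType G.hom] :
    FormallyUnramified G.hom ↔ IsOpenImmersion η[G].left := by
  let δ : G ⊗ G ⟶ G := fst G G * (snd G G)⁻¹
  let Δ : G ⟶ G ⊗ G := lift (𝟙 G) (𝟙 G)
  have hΔ₁ : Δ ≫ fst G G = 𝟙 G := lift_fst _ _
  have hw : Δ ≫ δ = toUnit G ≫ η[G] := by
    simp only [δ, Δ, MonObj.comp_mul, GrpObj.comp_inv, lift_fst, lift_snd, mul_inv_cancel]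
    exact Hom.one_def
  have hp : IsPullback Δ (toUnit G) δ η[G] := by
    refine ⟨⟨hw⟩, ⟨Limits.PullbackCone.IsLimit.mk hw (fun c => c.fst ≫ fst G G) (fun c => ?_) (fun c => toUnit_unique _ _)
      (fun c m h1 _ => ?_)⟩⟩
    · have h := c.condition
      rw [toUnit_unique c.snd (toUnit _), ← Hom.one_def] at h
      simp only [δ, MonObj.comp_mul, GrpObj.comp_inv, mul_inv_eq_one] at h
      apply CartesianMonoidalCategory.hom_ext <;> simp [Δ, h]
    · rw [← h1, Category.assoc, hΔ₁, Category.comp_id]
  let i : G ⟶ G ⊗ G := lift (𝟙 G) (toUnit G ≫ η[G])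
  have hq : IsPullback η[G] η[G] Δ i := by
    have hw' : η[G] ≫ Δ = η[G] ≫ i := by
      simp only [Δ, i, comp_lift, Category.comp_id, ← Category.assoc]
      rw [toUnit_unique (η[G] ≫ toUnit G) (𝟙 _), Category.id_comp]
    refine ⟨⟨hw'⟩, ⟨Limits.PullbackCone.IsLimit.mk hw' (fun c => toUnit _) (fun c => ?_) (fun c => ?_)
      (fun c m _ _ => toUnit_unique _ _)⟩⟩
    all_goals
      have h := c.condition
      simp only [Δ, i, comp_lift, Category.comp_id] at h
      have h1 := congrArg (· ≫ fst G G) h
      have h2 := congrArg (· ≫ snd G G) h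
      simp only [lift_fst, lift_snd, ← Category.assoc] at h1 h2
      rw [toUnit_unique (c.snd ≫ toUnit G) (toUnit _)] at h2
    · exact h2.symm
    · exact (h2.symm.trans h1)
  have hd : Δ.left = Limits.pullback.diagonal G.hom := by
    apply Limits.pullback.hom_ext
    · rw [Limits.pullback.diagonal_fst]; exact congrArg (fun t : G ⟶ G => t.left) (lift_fst (𝟙 G) (𝟙 G))
    · rw [Limits.pullback.diagonal_snd]; exact congrArg (fun t : G ⟶ G => t.left) (lift_snd (𝟙 G) (𝟙 G))
  constructor
  · intro
    haveI : IsOpenImmersion Δ.left := hd ▸ inferInstance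
    exact MorphismProperty.of_isPullback (P := @IsOpenImmersion) (IsPullback.map (Over.forget S) hq) ‹IsOpenImmersion Δ.left›
  · intro h
    haveI : IsOpenImmersion (Limits.pullback.diagonal G.hom) := hd ▸
      MorphismProperty.of_isPullback (P := @IsOpenImmersion) (IsPullback.map (Over.forget S) hp).flip h
    infer_instance

end Groth.Agent.S19473
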