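import Groth.Statements.S19475
import Mathlib
import Groth.Prelude

set_option linter.all false

set_option autoImplicit false
universe u
open CAlg

open IsLocalRing TensorProduct

set_option maxRecDepth 4000

namespace Groth.Agent.S19475

open IsLocalRing in
/-- Let A be a Noetherian ring, B an A-algebra, q a prime ideal of B and p its preimage in A; let A_p
and B_q be the local rings at p and q and Â_p the completion of A_p at its maximal ideal pA_p. Then
the ideal generated by qB_q in B_q ⊗ Â_p is maximal. (The tensor product is formed over A; since A_p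
is a localization of A it agrees with the tensor product over A_p used in the published statement.) -/
theorem result (A B : Type u) [CommRing A] [CommRing B]
    [Algebra A B] [IsNoetherianRing A] (q : Ideal B) [q.IsPrime] :
    ((maximalIdeal (Localization.AtPrime q)).map
      (Algebra.TensorProduct.includeLeftRingHom :
        Localization.AtPrime q →+* TensorProduct A (Localization.AtPrime q)
          (AdicCompletion (maximalIdeal (Localization.AtPrime (q.under A)))
            (Localization.AtPrime (q.under A))))).IsMaximal := by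
  classical
  let p := q.under A
  let Ap := Localization.AtPrime (q.under A)
  let Bq := Localization.AtPrime q
  let Ac := AdicCompletion (maximalIdeal Ap) Ap
  let T := TensorProduct A Bq Ac
  let il : Bq →+* T := Algebra.TensorProduct.includeLeftRingHom
  let J : Ideal T := (maximalIdeal Bq).map il
  show J.IsMaximal
  let loc : Ap →+* Bq := Localization.localRingHom (q.under A) q (algebraMap A B) rfl
  have hloc : ∀ a, loc (algebraMap A Ap a) = algebraMap A Bq a := fun a => by
    rw [IsScalarTower.algebraMap_apply A B Bq]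
    exact Localization.localRingHom_to_map _ _ _ rfl a
  let res : Ap →ₐ[A] ResidueField Bq :=
    AlgHom.mk ((residue Bq).comp loc) fun a => by
      show residue Bq (loc (algebraMap A Ap a)) = _
      rw [hloc]; rfl
  have hres : ∀ x ∈ maximalIdeal Ap, res x = 0 := fun x hx => by
    show residue Bq (loc x) = 0
    rw [IsLocalRing.residue_eq_zero_iff]
    exact map_nonunit loc x hx
  let ψ : Ac →ₐ[A] ResidueField Bq :=
    (Ideal.Quotient.liftₐ (maximalIdeal Ap) res hres).comp
      ((AdicCompletion.evalOneₐ (maximalIdeal Ap)).restrictScalars A)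
  let Φ : T →ₐ[A] ResidueField Bq :=
    Algebra.TensorProduct.lift (IsScalarTower.toAlgHom A Bq (ResidueField Bq)) ψ (fun _ _ => Commute.all _ _)
  have hJ : J ≤ RingHom.ker Φ.toRingHom := by
    refine Ideal.map_le_iff_le_comap.2 fun b hb => ?_
    show Φ (b ⊗ₜ 1) = 0
    rw [Algebra.TensorProduct.lift_tmul, map_one, mul_one]
    exact (IsLocalRing.residue_eq_zero_iff b).2 hb
  have hAJ : p.map (algebraMap A T) ≤ J := by
    refine Ideal.map_le_iff_le_comap.2 fun a ha => ?_
    have h1 : algebraMap A Bq a ∈ maximalIdeal Bq := by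
      rw [IsScalarTower.algebraMap_apply A B Bq]
      exact (IsLocalization.AtPrime.to_map_mem_maximal_iff Bq q _).2 ha
    exact Ideal.mem_map_of_mem il h1
  have hdec : ∀ x : T, ∃ b : Bq, x - il b ∈ J := by
    intro (x : TensorProduct A Bq Ac)
    induction x using TensorProduct.induction_on with
    | zero => exact ⟨0, by simp⟩
    | add x y hx hy =>
      obtain ⟨b, hb⟩ := hx
      obtain ⟨c, hc⟩ := hy
      exact ⟨b + c, by rw [map_add, add_sub_add_comm]; exact J.add_mem hb hc⟩
    | tmul b y =>
      obtain ⟨c, hc⟩ := Ideal.Quotient.mk_surjective (AdicCompletion.evalOneₐ (maximalIdeal Ap) y)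
      have hy : y - algebraMap Ap Ac c ∈ (maximalIdeal Ap).map (algebraMap Ap Ac) := by
        rw [← AdicCompletion.ker_evalOneₐ_eq_map _ (maximalIdeal Ap).fg_of_isNoetherianRing, RingHom.mem_ker]
        show AdicCompletion.evalOneₐ (maximalIdeal Ap) (y - algebraMap Ap Ac c) = 0
        rw [map_sub, AlgHom.commutes, sub_eq_zero, ← hc]
        rfl
      have h2 : (1 : Bq) ⊗ₜ[A] (y - algebraMap Ap Ac c) ∈ J := by
        refine hAJ ?_
        have hm : p.map (algebraMap A Ap) = maximalIdeal Ap := IsLocalization.AtPrime.map_eq_maximalIdeal (q.under A) Ap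
        have h3 : (maximalIdeal Ap).map (algebraMap Ap Ac) = p.map (algebraMap A Ac) :=
          (congrArg (Ideal.map (algebraMap Ap Ac)) hm.symm).trans
            (by rw [Ideal.map_map, ← IsScalarTower.algebraMap_eq])
        rw [h3] at hy
        have h4 := Ideal.mem_map_of_mem (Algebra.TensorProduct.includeRight : Ac →ₐ[A] T) hy
        have h5 : (p.map (algebraMap A Ac)).map (Algebra.TensorProduct.includeRight : Ac →ₐ[A] T) = p.map (algebraMap A T) := by
          show (p.map (algebraMap A Ac)).map (Algebra.TensorProduct.includeRight : Ac →ₐ[A] T).toRingHom = _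
          rw [Ideal.map_map, AlgHom.toRingHom_eq_coe, AlgHom.comp_algebraMap]
        rw [h5] at h4
        exact h4
      obtain ⟨⟨a, s⟩, hs⟩ := IsLocalization.surj (q.under A).primeCompl c
      have hsu : IsUnit (algebraMap A Bq s.1) := by
        rw [IsScalarTower.algebraMap_apply A B Bq]
        exact IsLocalization.map_units Bq (⟨algebraMap A B s.1, s.2⟩ : q.primeCompl)
      obtain ⟨u, hu⟩ := hsu
      refine ⟨b * (algebraMap A Bq a * ↑u⁻¹), ?_⟩
      have h5 : (1 : Bq) ⊗ₜ[A] (algebraMap Ap Ac c) = il (algebraMap A Bq a * ↑u⁻¹) := by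
        show _ = (algebraMap A Bq a * ↑u⁻¹) ⊗ₜ[A] (1 : Ac)
        have hs' : s.1 • algebraMap Ap Ac c = algebraMap A Ac a := by
          rw [Algebra.smul_def, IsScalarTower.algebraMap_apply A Ap Ac, ← map_mul, mul_comm, hs,
            ← IsScalarTower.algebraMap_apply]
        have h6 : (1 : Bq) = s.1 • (↑u⁻¹ : Bq) := by rw [Algebra.smul_def, ← hu, Units.mul_inv]
        rw [h6, TensorProduct.smul_tmul, hs', Algebra.algebraMap_eq_smul_one, ← TensorProduct.smul_tmul,
          ← Algebra.smul_def]
      have h7 : b ⊗ₜ[A] y - il (b * (algebraMap A Bq a * ↑u⁻¹)) = il b * ((1 : Bq) ⊗ₜ[A] (y - algebraMap Ap Ac c)) := by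
        rw [TensorProduct.tmul_sub, mul_sub, h5, map_mul il b]
        show _ = (b ⊗ₜ[A] (1 : Ac)) * _ - _
        rw [Algebra.TensorProduct.tmul_mul_tmul, mul_one, one_mul]
      rw [h7]
      exact J.mul_mem_left _ h2
  rw [Ideal.isMaximal_iff]
  refine ⟨fun h => ?_, fun I x hI hx hxI => ?_⟩
  · have := hJ h
    simp at this
  · obtain ⟨b, hb⟩ := hdec x
    have hbu : IsUnit b := by
      by_contra hb'
      exact hx (by simpa using J.add_mem hb (Ideal.mem_map_of_mem il hb'))
    have h1 : il b ∈ I := by simpa using I.sub_mem hxI (hI hb)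
    rw [Ideal.eq_top_of_isUnit_mem _ h1 (hbu.map il)]
    trivial

end Groth.Agent.S19475
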