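import Groth.Statements.S19476
import Groth.Agent.FlatMor12.Cube.VectorSeesaw
import Groth.Agent.FlatMor12.Cube.Seesaw
import Groth.Agent.NeronLib.RigidProduct
import Groth.Agent.S7188
-- import your own Groth.Agent.* helpers here

set_option autoImplicit false
universe u
open CategoryTheory CategoryTheory.Limits AlgebraicGeometry
open PicF

namespace Groth.Agent.S19476

/-- Let S be a locally Noetherian scheme, f : X → S flat and proper with integral geometric fibres, and
L a line bundle on X (a locally free module of rank 1). Then there is a closed subscheme Z ⊆ S with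
the following universal property among locally Noetherian S-schemes: a morphism u : T → S with T
locally Noetherian factors through Z if and only if the pullback of L to X ×_S T is isomorphic to
the pullback along the projection X ×_S T → T of some line bundle on T, i.e. is trivial relative to
T. (Only the existence of such a closed subscheme is asserted.) -/
theorem result {X S : Scheme.{u}} (f : X ⟶ S)
    [IsProper f] [Flat f] [GeometricallyIntegral f] [IsLocallyNoetherian S]
    (L : X.Modules) (hL : FlatMod.IsFinLocFreeOfRank 1 L) :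
    ∃ (Z : Scheme.{u}) (ι : Z ⟶ S), IsClosedImmersion ι ∧
      ∀ (T : Scheme.{u}) (u : T ⟶ S), IsLocallyNoetherian T →
        ((∃ u' : T ⟶ Z, u' ≫ ι = u) ↔
          ∃ M : T.Modules, FlatMod.IsFinLocFreeOfRank 1 M ∧
            Nonempty ((Scheme.Modules.pullback (pullback.fst f u)).obj L ≅
              (Scheme.Modules.pullback (pullback.snd f u)).obj M)) := by
  open Groth.Agent.PicLib Groth.Agent.FlatMor12.Cube in
  haveI : LocallyOfFinitePresentation f := inferInstance
  haveI : GeometricallyConnected f := NeronLib.geometricallyConnected_of_irreducible f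
  have hE : FlatMod.IsFinLocFree L := fun x => let ⟨U, hx, e⟩ := hL x; ⟨U, 1, hx, e⟩
  have hinv : PicF.IsInvertible L := fun x => by
    obtain ⟨U, hx, ⟨e⟩⟩ := hL x
    exact ⟨U, hx, ⟨e ≪≫ freeModOneIso _⟩⟩
  have hrk : ∀ s : S, VectorSeesaw.rkS f L s = 1 := fun s => by
    obtain ⟨U, hx, e⟩ := hL (f.fiberι s (Classical.arbitrary (f.fiber s)))
    exact VectorSeesaw.rkX_of_near hE ⟨U, hx, e⟩
  obtain ⟨Z, ι, hι, -, -, hiff, hrange⟩ := VectorSeesaw.exists_seesaw f hE
  refine ⟨Z, ι, ?_, fun T u hT => (hiff T u).trans ⟨?_, ?_⟩⟩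
  · refine IsClosedImmersion.of_isPreimmersion ι ?_
    rw [hrange]
    convert isClosed_trivial_locus f hinv (fun s => inferInstance) using 1
    refine Set.ext fun s => ⟨fun ⟨n, ⟨e⟩⟩ => ?_, fun h => ?_⟩
    · obtain rfl := S7188.rank_eq_one (PicLoc.isInvertible_pullback (f.fiberι s) hinv) e
      show PicM.pull (f.fiberι s) (PicM.of hinv) = 1
      rw [PicM.pull_of, PicM.of_eq_one_iff]
      exact ⟨e ≪≫ freeModOneIso _⟩
    · obtain ⟨e⟩ := (PicM.of_eq_one_iff _).1 ((PicM.pull_of (f.fiberι s) hinv).symm.trans h)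
      exact ⟨1, ⟨e ≪≫ (freeModOneIso _).symm⟩⟩
  · rintro ⟨M, hM, ⟨e⟩⟩
    refine ⟨M, fun t => ?_, ⟨e⟩⟩
    obtain ⟨U, m, ht, he⟩ := hM t
    obtain rfl := (VectorSeesaw.rank_eq f hE (IsPullback.of_hasPullback f u) e ⟨U, ht, he⟩).trans (hrk _)
    exact ⟨U, ht, he⟩
  · rintro ⟨M, hM, e⟩
    exact ⟨M, fun t => let ⟨U, ht, he⟩ := hM t; ⟨U, 1, ht, he⟩, e⟩

end Groth.Agent.S19476
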