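import Groth.Statements.S19477
import Groth.Agent.VarietyLib.GeomPoints
import Groth.Agent.AbSchLib.RigidityOver
import Groth.Agent.Props12.Components

set_option autoImplicit false
set_option backward.isDefEq.respectTransparency.types false
universe u
open Variety Groth.Agent Groth.Agent.VarietyLib CategoryTheory CategoryTheory.Limits AlgebraicGeometry

namespace Groth.Agent.S19477

/-- Let K be a field, B an integral K-algebra of finite type with fraction field F, and L a Galois
extension of K with group Γ = Aut_K(L). Then F ⊗_K L has only finitely many prime ideals and Γ,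
acting through the second factor, permutes them transitively: for prime ideals P, Q there is γ ∈ Γ
with Q the preimage of P under id ⊗ γ. (The published statement is the geometric one, that the
points of an algebraic K-scheme X correspond to the Γ-orbits of points of X_L and that these orbits
are finite; it reduces to this algebraic statement by passing to the fibre over a point, and the
algebraic statement is what is proved.) -/
theorem result (K B L : Type u) [Field K]
    [CommRing B] [IsDomain B] [Algebra K B] [Algebra.FiniteType K B] [Field L] [Algebra K L] [IsGalois K L] :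
    Finite (PrimeSpectrum (TensorProduct K (FractionRing B) L)) ∧
      ∀ P Q : PrimeSpectrum (TensorProduct K (FractionRing B) L), ∃ γ : L ≃ₐ[K] L,
        Q.asIdeal = P.asIdeal.comap
          (Algebra.TensorProduct.map (AlgHom.id K (FractionRing B)) (γ : L →ₐ[K] L)) := by
  let F := FractionRing B
  refine ⟨?_, fun P Q => ?_⟩
  · have : Algebra.EssFiniteType B F := Algebra.EssFiniteType.of_isLocalization F (nonZeroDivisors B)
    have : Algebra.EssFiniteType K F := Algebra.EssFiniteType.comp K B F
    have : IsNoetherianRing (TensorProduct K L F) := Algebra.EssFiniteType.isNoetherianRing L _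
    have : IsNoetherianRing (TensorProduct K F L) :=
      isNoetherianRing_of_ringEquiv _ (Algebra.TensorProduct.comm K L F).toRingEquiv
    have : Algebra.IsIntegral K L := Algebra.IsAlgebraic.isIntegral
    have hint : Algebra.IsIntegral F (TensorProduct K F L) := inferInstance
    have hmax : ∀ p : PrimeSpectrum (TensorProduct K F L), p.asIdeal.IsMaximal := fun p =>
      Ideal.isMaximal_of_isIntegral_of_isMaximal_comap p.asIdeal (by
        rcases Ideal.eq_bot_or_top (p.asIdeal.comap (algebraMap F (TensorProduct K F L))) with h | h
        · rw [h]; exact Ideal.bot_isMaximal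
        · exact absurd h (Ideal.IsPrime.comap (algebraMap F (TensorProduct K F L))).ne_top)
    have hfin := minimalPrimes.finite_of_isNoetherianRing (TensorProduct K F L)
    have : Finite (minimalPrimes (TensorProduct K F L)) := hfin.to_subtype
    refine Finite.of_injective (fun p : PrimeSpectrum (TensorProduct K F L) =>
      (⟨p.asIdeal, ⟨⟨p.2, bot_le⟩, fun q hq hle => ((hmax ⟨q, hq.1⟩).eq_of_le p.2.ne_top hle).ge⟩⟩ :
        minimalPrimes (TensorProduct K F L))) fun p q h => PrimeSpectrum.ext (congrArg Subtype.val h)
  · let e := pullbackSpecIso K F L
    let P' : ↥(Spec (CommRingCat.of (TensorProduct K F L))) := P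
    let Q' : ↥(Spec (CommRingCat.of (TensorProduct K F L))) := Q
    have : Subsingleton ↥(Spec (CommRingCat.of F)) := inferInstanceAs (Subsingleton (PrimeSpectrum F))
    obtain ⟨γ, hγ⟩ := exists_gal_apply_eq K (sK K F) (L := L) (p := e.inv Q') (q := e.inv P') (Subsingleton.elim _ _)
    refine ⟨γ, ?_⟩
    let m : TensorProduct K F L →ₐ[K] TensorProduct K F L :=
      Algebra.TensorProduct.map (AlgHom.id K F) (γ : L →ₐ[K] L)
    have hm : Spec.map (CommRingCat.ofHom m.toRingHom) ≫ e.inv = e.inv ≫ gal K (sK K F) γ := by
      apply pullback.hom_ext
      · rw [Category.assoc, Category.assoc, gal_fst, pullbackSpecIso_inv_fst, ← Spec.map_comp]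
        congr 1
        ext x
        simp [m]
      · rw [Category.assoc, Category.assoc, gal_snd, pullbackSpecIso_inv_snd, ← Category.assoc, pullbackSpecIso_inv_snd,
          ← Spec.map_comp, ← Spec.map_comp]
        congr 1
    rw [← Scheme.Hom.comp_apply, ← hm, Scheme.Hom.comp_apply] at hγ
    have := e.inv.homeomorph.injective hγ
    exact (congrArg PrimeSpectrum.asIdeal this).symm

end Groth.Agent.S19477
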