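import Groth.Statements.S19480
import Groth.Agent.S15046
import Groth.Agent.Quiet5.SchemeOps
import Groth.Agent.EGA41Lib.RegularPow
import Mathlib.RingTheory.Regular.Flat
-- import your own Groth.Agent.* helpers here

set_option autoImplicit false
set_option backward.isDefEq.respectTransparency.types false
open CategoryTheory CategoryTheory.Limits AlgebraicGeometry MvPolynomial
universe u
open Quiet

namespace Groth.Agent.S19480

/-- Let k be a perfect field of prime characteristic p, A a smooth k-algebra of characteristic p and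
t_1, …, t_n a regular sequence in A, so that A₀ = A/(t_1^p, …, t_n^p) is a p-good algebra when A has
a system of parameters; let v_1, …, v_m ∈ A[Y_1, …, Y_r] have images forming a regular sequence in
A₀[Y_1, …, Y_r], and put B_0 = A[Y]/(t_1^p, …, t_n^p, v_1, …, v_m). Identify A^{1/p} with A as a
ring, so that u_i = t_i^p and the Frobenius x ↦ x^p of A[Y] carries the ideal (t_i^p, v_j) into
(u_i^p, v_j^p) = (t_i^{p²}, v_j^p). Then: (ii) (t_1^{p²}, …, t_n^{p²}, v_1^p, …, v_m^p) is a regular
sequence in A[Y]; (iii) the induced ring map β : B_0 → B = A[Y]/(t_i^{p²}, v_j^p) is faithfully flat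
and Spec β is an extraction of p-th roots, i.e. every point of Spec B_0 has an affine open
neighbourhood with affine preimage over which the ring map is a tower of finitely many elementary
extractions R → R[x]/(x^p − a). (The published statement also assumes B_0 faithfully flat and
syntomic over A₀ and A good; these are not used for (ii) and (iii) and are not assumed here. The v_j
are taken in A[Y] rather than in A₀[Y], which is how their p-th powers in A^{1/p}[Y] are meant.) -/
theorem result (p : ℕ) [Fact p.Prime]
    (k : Type u) [Field k] [CharP k p] [PerfectRing k p] (A : Type u) [CommRing A] [Algebra k A]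
    [CharP A p] [Algebra.Smooth k A] (n : ℕ) (t : Fin n → A) (ht : RingTheory.Sequence.IsRegular A (List.ofFn t))
    (r m : ℕ) (v : Fin m → MvPolynomial (Fin r) A)
    (hv : RingTheory.Sequence.IsRegular
      (MvPolynomial (Fin r) A ⧸ Ideal.span (Set.range fun i => C (t i) ^ p))
      (List.ofFn fun j => Ideal.Quotient.mk (Ideal.span (Set.range fun i => C (t i) ^ p)) (v j))) :
    RingTheory.Sequence.IsRegular (MvPolynomial (Fin r) A)
        (List.ofFn (fun i => C (t i) ^ (p ^ 2)) ++ List.ofFn (fun j => v j ^ p)) ∧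
      (Ideal.quotientMap ((Ideal.span (Set.range (fun i => C (t i) ^ p) ∪ Set.range v)).map (frobenius (MvPolynomial (Fin r) A) p)) (frobenius (MvPolynomial (Fin r) A) p) Ideal.le_comap_map).FaithfullyFlat ∧
      Quiet.IsPthRoot p (Spec.map (CommRingCat.ofHom (Ideal.quotientMap ((Ideal.span (Set.range (fun i => C (t i) ^ p) ∪ Set.range v)).map (frobenius (MvPolynomial (Fin r) A) p)) (frobenius (MvPolynomial (Fin r) A) p) Ideal.le_comap_map))) := by
  haveI : Algebra.Smooth A (MvPolynomial (Fin r) A) := ⟨inferInstance, inferInstance⟩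
  haveI : Algebra.Smooth k (MvPolynomial (Fin r) A) := Algebra.Smooth.comp k A (MvPolynomial (Fin r) A)
  obtain ⟨hFF, hPR⟩ := Groth.Agent.S15046.result p k (MvPolynomial (Fin r) A)
  have hp : p.Prime := Fact.out
  let P := MvPolynomial (Fin r) A
  let F := frobenius P p
  let T : List P := List.ofFn fun i => C (t i) ^ p
  let V : List P := List.ofFn v
  have hT : Ideal.ofList T = Ideal.span (Set.range fun i => C (t i) ^ p) := by
    rw [Ideal.ofList]
    congr 1
    ext z
    simp [T, List.mem_ofFn, Set.mem_range]
  have hTV : Ideal.ofList (T ++ V) = Ideal.span (Set.range (fun i => C (t i) ^ p) ∪ Set.range v) := by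
    rw [Ideal.ofList]
    congr 1
    ext z
    simp [T, V, List.mem_ofFn, Set.mem_range]
  set I := Ideal.span (Set.range (fun i => C (t i) ^ p) ∪ Set.range v) with hI
  have hwT : RingTheory.Sequence.IsWeaklyRegular P T := by
    have h1 := RingTheory.Sequence.IsWeaklyRegular.of_flat (S := P) ht.toIsWeaklyRegular
    rw [List.map_ofFn] at h1
    exact EGA41Lib.isWeaklyRegular_pow n (fun i => (C (t i) : P)) (fun _ => p) (fun _ => hp.pos) h1
  have hwTV : RingTheory.Sequence.IsWeaklyRegular P (T ++ V) := by
    refine (RingTheory.Sequence.isWeaklyRegular_append_iff' _ _ _).2 ⟨hwT, ?_⟩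
    have e : (Ideal.ofList T • ⊤ : Submodule P P) = Ideal.span (Set.range fun i => C (t i) ^ p) := by
      rw [smul_eq_mul, Ideal.mul_top, hT]
    have h2 := (RingTheory.Sequence.isWeaklyRegular_map_algebraMap_iff
      (P ⧸ Ideal.span (Set.range fun i => C (t i) ^ p)) _ V).1 (by
        rw [List.map_ofFn]; exact hv.toIsWeaklyRegular)
    exact (RingTheory.Sequence.isWeaklyRegular_map_algebraMap_iff (P ⧸ Ideal.ofList T) _ V).2
      (((Submodule.quotEquivOfEq _ _ e).isWeaklyRegular_congr V).2 h2)
  have hne : I ≠ ⊤ := by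
    intro htop
    refine hv.top_ne_smul ?_
    rw [smul_eq_mul, Ideal.mul_top]
    have hmap := congrArg (Ideal.map (Ideal.Quotient.mk (Ideal.span (Set.range fun i => C (t i) ^ p)))) htop
    rw [hI, Ideal.span_union, Ideal.map_sup, Ideal.map_quotient_self, bot_sup_eq, Ideal.map_span, Ideal.map_top] at hmap
    rw [Ideal.ofList, ← hmap]
    congr 1
    ext z
    simp [List.mem_ofFn, Set.mem_range]
  have hJI : I.map F ≤ I := by
    refine Ideal.map_le_iff_le_comap.2 fun a ha => ?_
    show F a ∈ I
    rw [show F a = a ^ p from rfl]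
    exact Ideal.pow_mem_of_mem _ ha p hp.pos
  refine ⟨?_, ?_⟩
  · haveI : Module.FaithfullyFlat P (FrobAlg.Twist p P) := RingHom.faithfullyFlat_algebraMap_iff.1 hFF
    have hreg : RingTheory.Sequence.IsRegular P (T ++ V) := ⟨hwTV, by
      rw [smul_eq_mul, Ideal.mul_top, hTV]; exact hne.symm⟩
    have h := RingTheory.Sequence.IsRegular.of_faithfullyFlat (S := FrobAlg.Twist p P) hreg
    have e : (T ++ V).map (algebraMap P (FrobAlg.Twist p P)) =
        List.ofFn (fun i => C (t i) ^ (p ^ 2)) ++ List.ofFn (fun j => v j ^ p) := by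
      rw [List.map_append, List.map_ofFn, List.map_ofFn]
      congr 2
      funext i
      show (C (t i) ^ p) ^ p = _
      rw [← pow_mul, pow_two]
    rw [e] at h
    exact h
  · let mkI : CommRingCat.of P ⟶ CommRingCat.of (P ⧸ I) := CommRingCat.ofHom (Ideal.Quotient.mk I)
    let mkJ : CommRingCat.of P ⟶ CommRingCat.of (P ⧸ I.map F) := CommRingCat.ofHom (Ideal.Quotient.mk (I.map F))
    let β : CommRingCat.of (P ⧸ I) ⟶ CommRingCat.of (P ⧸ I.map F) :=
      CommRingCat.ofHom (Ideal.quotientMap (I.map F) F Ideal.le_comap_map)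
    have hw : CommRingCat.ofHom F ≫ mkJ = mkI ≫ β := by
      exact CommRingCat.hom_ext (RingHom.ext fun a => rfl)
    have hpo : IsPushout (CommRingCat.ofHom F) mkI mkJ β := by
      refine ⟨⟨hw⟩, ⟨PushoutCocone.IsColimit.mk hw
        (fun s => CommRingCat.ofHom (Ideal.Quotient.lift (I.map F) s.inl.hom (fun a ha => ?_))) (fun s => ?_)
        (fun s => ?_) (fun s m h1 h2 => ?_)⟩⟩
      · have hle : I.map F ≤ RingHom.ker s.inl.hom := Ideal.map_le_iff_le_comap.2 fun b hb => by
          show s.inl.hom (F b) = 0
          have := congrArg (fun m => m.hom b) s.condition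
          refine this.trans ?_
          show s.inr.hom (Ideal.Quotient.mk I b) = 0
          rw [Ideal.Quotient.eq_zero_iff_mem.2 hb, map_zero]
        exact hle ha
      · exact CommRingCat.hom_ext (RingHom.ext fun a => rfl)
      · refine CommRingCat.hom_ext (RingHom.ext fun a => ?_)
        obtain ⟨a, rfl⟩ := Ideal.Quotient.mk_surjective a
        exact congrArg (fun m => m.hom a) s.condition
      · refine CommRingCat.hom_ext (RingHom.ext fun a => ?_)
        obtain ⟨a, rfl⟩ := Ideal.Quotient.mk_surjective a
        exact congrArg (fun m => m.hom a) h1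
    have H := isPullback_SpecMap_of_isPushout _ _ _ _ hpo
    refine ⟨?_, Quiet5.isPthRoot_baseChange H hPR⟩
    show RingHom.FaithfullyFlat β.hom
    haveI : Flat (Spec.map (CommRingCat.ofHom F)) := (HasRingHomProperty.Spec_iff (P := @Flat)).2 hFF.flat
    haveI : Flat (Spec.map β) := MorphismProperty.of_isPullback H ‹_›
    rw [RingHom.FaithfullyFlat.iff_flat_and_comap_surjective]
    refine ⟨(HasRingHomProperty.Spec_iff (P := @Flat)).1 ‹_›, fun y => ?_⟩
    refine ⟨PrimeSpectrum.comap (Ideal.Quotient.factor hJI) y, PrimeSpectrum.ext (Ideal.ext fun z => ?_)⟩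
    obtain ⟨z, rfl⟩ := Ideal.Quotient.mk_surjective z
    show Ideal.Quotient.mk I (F z) ∈ y.asIdeal ↔ Ideal.Quotient.mk I z ∈ y.asIdeal
    rw [show F z = z ^ p from rfl, map_pow]
    exact ⟨y.2.mem_of_pow_mem p, fun h => Ideal.pow_mem_of_mem _ h p hp.pos⟩

end Groth.Agent.S19480
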