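import Groth.Statements.S19481
import Groth.Agent.GrPos9.Vanish
import Groth.Agent.CohDer1.FiltBl.Away
import Groth.Agent.LocCoh.BaseChange
-- import your own Groth.Agent.* helpers here

set_option autoImplicit false
set_option linter.style.haveILetI false
universe u
open FiltBl

namespace Groth.Agent.S19481

section aux

open LaurentPolynomial TensorProduct DirectSum
open Groth.Agent.GrLib
open Groth.Agent.CohDer1.FiltBl (piece mono)

variable {A : Type u} [CommRing A] (𝓕 : _root_.FiltBl.IdealFiltration A)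

/-- The elements of positive degree. -/
abbrev posSet : Set 𝓕.extRees :=
  {x : 𝓕.extRees | ∃ n : ℤ, 0 < n ∧ ∃ a : A, (x : A[T;T⁻¹]) = C a * T n}

theorem posSet_eq : posSet 𝓕 = ⋃ n ∈ Set.Ioi (0 : ℤ), (piece 𝓕 n : Set 𝓕.extRees) := by
  ext x
  simp only [Set.mem_iUnion, Set.mem_Ioi, SetLike.mem_coe, exists_prop]
  rfl

theorem isHomogeneous_posSet : (Ideal.span (posSet 𝓕)).IsHomogeneous (piece 𝓕) := by
  refine Ideal.homogeneous_span _ _ ?_
  rintro x ⟨n, hn, a, ha⟩
  exact ⟨n, a, ha⟩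

theorem map_posSet : (Ideal.span (posSet 𝓕)).map (algebraMap 𝓕.extRees A[T;T⁻¹]) =
    (𝓕.F 1).map (algebraMap A A[T;T⁻¹]) := by
  rw [Ideal.map_span]
  refine le_antisymm (Ideal.span_le.2 ?_) (Ideal.map_le_iff_le_comap.2 fun a ha => ?_)
  · rintro _ ⟨x, ⟨n, hn, a, ha⟩, rfl⟩
    change (x : A[T;T⁻¹]) ∈ _
    have hmem : a ∈ 𝓕.F 1 := 𝓕.antitone (show 1 ≤ n.toNat by omega) (by
      have := x.2 n
      rwa [ha, CohDer1.FiltBl.coeff_CT, if_pos rfl] at this)
    rw [ha, show (C a : A[T;T⁻¹]) = algebraMap A A[T;T⁻¹] a from rfl]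
    exact Ideal.mul_mem_right _ _ (Ideal.mem_map_of_mem _ hmem)
  · rw [Ideal.mem_comap]
    have ha' : a ∈ 𝓕.F (1 : ℤ).toNat := ha
    have h1 : (C a * T 1 : A[T;T⁻¹]) ∈ Ideal.span (algebraMap 𝓕.extRees A[T;T⁻¹] '' posSet 𝓕) :=
      Ideal.subset_span ⟨mono 𝓕 1 a ha', ⟨1, Int.one_pos, a, rfl⟩, rfl⟩
    have h2 := Ideal.mul_mem_right (T (-1)) _ h1
    rw [mul_assoc, ← T_add, add_neg_cancel, T_zero, mul_one] at h2
    exact h2

theorem subsingleton_H_graded {R : Type u} [CommRing R] [IsNoetherianRing R] (𝒜 : ℤ → AddSubgroup R)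
    [GradedRing 𝒜] (P : HomogeneousIdeal 𝒜)
    (hP : P.toIdeal = Ideal.span (⋃ n ∈ Set.Ioi (0 : ℤ), (𝒜 n : Set R)))
    {x : R} (hx : x ∈ 𝒜 (-1)) (hreg : IsSMulRegular R x) (q : ℕ)
    (hG : Subsingleton (_root_.LocCoh.H (P.toIdeal.map (Ideal.Quotient.mk (Ideal.span {x}))) q
      (R ⧸ Ideal.span {x}))) :
    Subsingleton (_root_.LocCoh.H P.toIdeal q R) := by
  let N : Submodule R R := LinearMap.range (x • LinearMap.id : R →ₗ[R] R)
  have hN : N.IsHomogeneous 𝒜 := isHomogeneous_range_deg (smul_id_grHomDeg (ℳ := 𝒜) hx)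
  letI := qDecomp 𝒜 hN
  let E := starRes 𝒜 𝒜
  let E₂ := starRes 𝒜 (qGr 𝒜 N)
  haveI h2 : Subsingleton (E₂.H P q) := by
    obtain ⟨e⟩ := nonempty_H_equiv E₂ P q
    have hNe : Ideal.span {x} = N := by
      ext y
      rw [Ideal.mem_span_singleton', LinearMap.mem_range]
      exact exists_congr fun z => by rw [LinearMap.smul_apply, LinearMap.id_apply, smul_eq_mul, mul_comm]
    obtain ⟨φ, -⟩ := LocCoh.exists_H_independence (R := R) (R' := R ⧸ Ideal.span {x})
      (I := P.toIdeal) q (R ⧸ Ideal.span {x})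
    haveI : Subsingleton (_root_.LocCoh.H P.toIdeal q (R ⧸ Ideal.span {x})) := by
      haveI := hG
      exact φ.symm.toEquiv.subsingleton
    haveI := (LocCoh.Hequiv P.toIdeal q
      (Submodule.quotEquivOfEq (Ideal.span {x}) N hNe).symm).toEquiv.subsingleton
    exact e.toEquiv.subsingleton
  obtain ⟨δ, -, -, hex⟩ := exists_les_deg E E₂ E P (f := (x • LinearMap.id : R →ₗ[R] R))
    (g := N.mkQ) (smul_id_grHomDeg (ℳ := 𝒜) hx) hreg (mkQ_grHom _)
    (Submodule.mkQ_surjective _) (LinearMap.exact_map_mkQ_range _)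
  have hex' := (hex q).1
  rw [mapH_smul_id P hx] at hex'
  have hs : ∀ y : E.H P q, ∃ z, x • z = y := fun y => (hex' y).1 (Subsingleton.elim _ _)
  haveI := GrPos9.subsingleton_H_of_surjective P hP E q hx hs
  obtain ⟨e⟩ := nonempty_H_equiv E P q
  exact e.symm.toEquiv.subsingleton

theorem subsingleton_H_extRees [IsNoetherianRing A] (hfg : Algebra.FiniteType A 𝓕.rees) (q : ℕ)
    (hG : Subsingleton (_root_.LocCoh.H
      ((Ideal.span (posSet 𝓕)).map (Ideal.Quotient.mk (Ideal.span {𝓕.u}))) q 𝓕.Gr)) :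
    Subsingleton (_root_.LocCoh.H (Ideal.span (posSet 𝓕)) q 𝓕.extRees) :=
  haveI := CohDer1.FiltBl.isNoetherianRing_extRees 𝓕 hfg
  subsingleton_H_graded (piece 𝓕) ⟨Ideal.span (posSet 𝓕), isHomogeneous_posSet 𝓕⟩
    (congrArg Ideal.span (posSet_eq 𝓕)) (CohDer1.FiltBl.u_mem_piece 𝓕)
    (CohDer1.FiltBl.isSMulRegular_u 𝓕) q hG

theorem subsingleton_H_base [IsNoetherianRing A] [Nontrivial A] (hfg : Algebra.FiniteType A 𝓕.rees) (q : ℕ)
    (hG : Subsingleton (_root_.LocCoh.H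
      ((Ideal.span (posSet 𝓕)).map (Ideal.Quotient.mk (Ideal.span {𝓕.u}))) q 𝓕.Gr)) :
    Subsingleton (_root_.LocCoh.H (𝓕.F 1) q A) := by
  haveI := CohDer1.FiltBl.isNoetherianRing_extRees 𝓕 hfg
  haveI := subsingleton_H_extRees 𝓕 hfg q hG
  haveI : Module.Flat 𝓕.extRees A[T;T⁻¹] := IsLocalization.flat _ (Submonoid.powers 𝓕.u)
  haveI : IsNoetherianRing A[T;T⁻¹] :=
    IsLocalization.isNoetherianRing (Submonoid.powers 𝓕.u) A[T;T⁻¹] inferInstance
  haveI h1 : Subsingleton (_root_.LocCoh.H ((𝓕.F 1).map (algebraMap A A[T;T⁻¹])) q A[T;T⁻¹]) := by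
    obtain ⟨e⟩ := LocCoh.nonempty_H_baseChange (R := 𝓕.extRees) (R' := A[T;T⁻¹])
      (I := Ideal.span (posSet 𝓕)) q 𝓕.extRees
    rw [← map_posSet]
    haveI := e.symm.toEquiv.subsingleton
    exact (LocCoh.Hequiv _ q (AlgebraTensorModule.rid 𝓕.extRees A[T;T⁻¹] A[T;T⁻¹])).symm.toEquiv.subsingleton
  haveI : Module.Free A A[T;T⁻¹] := Module.Free.of_basis (AddMonoidAlgebra.basis ℤ A)
  haveI : Module.FaithfullyFlat A A[T;T⁻¹] := inferInstance
  obtain ⟨e⟩ := LocCoh.nonempty_H_baseChange (R := A) (R' := A[T;T⁻¹]) (I := 𝓕.F 1) q A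
  haveI := (LocCoh.Hequiv ((𝓕.F 1).map (algebraMap A A[T;T⁻¹])) q
    (AlgebraTensorModule.rid A A[T;T⁻¹] A[T;T⁻¹])).toEquiv.subsingleton
  haveI := e.toEquiv.subsingleton
  exact Module.FaithfullyFlat.lTensor_reflects_triviality A A[T;T⁻¹] _

end aux

open LaurentPolynomial in
/-- Let A be a Noetherian local ring that is a quotient of a Gorenstein ring, and F a filtration of
ideals on A (F^0 = A ⊇ F^1 ⊇ ⋯, F^i F^j ⊆ F^{i+j}) with every F^n nonzero and ⋂ F^n = 0, whose Rees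
algebra ⊕_{n ≥ 0} F^n X^n is finitely generated over A, with F^1 of height at least 2 and containing
a non-zero-divisor of A. Let R' = ⊕_{n ∈ ℤ} F^n T^n ⊆ A[T, T⁻¹] be the extended Rees algebra, G =
R'/uR' (u = T⁻¹) the associated graded ring ⊕ F^n/F^{n+1}, and G_+ ⊆ G the ideal generated by the
images of the elements a T^n of R' with n ≥ 1 (the ideal of forms of positive degree). Then for
every integer q ≥ 1: if the local cohomology module H^q_{G_+}(G) vanishes, then H^q_{F^1}(A)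
vanishes. (The local cohomology of A here is taken with support in F^1 — equivalently in any ideal
generated by elements of the F^r, r ≥ 1, whose initial forms generate an ideal with radical
containing G_+; it is the local cohomology at the maximal ideal only when F^1 is primary to it. The
requirement that F^1 contain a non-zero-divisor is the standing assumption of the published text
that no nonzero element of the Rees algebra is killed by a power of its positive-degree ideal.) -/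
theorem result (A : Type u) [CommRing A]
    [IsNoetherianRing A] [IsLocalRing A]
    (S : Type u) [CommRing S] [LocCoh.IsGorensteinRing S] (π : S →+* A) (hπ : Function.Surjective π)
    (𝓕 : FiltBl.IdealFiltration A) (hne : ∀ n, 𝓕.F n ≠ ⊥) (hsep : ⨅ n, 𝓕.F n = ⊥)
    (hfg : Algebra.FiniteType A 𝓕.rees) (hht : 2 ≤ (𝓕.F 1).height)
    (hnzd : ∃ x ∈ 𝓕.F 1, x ∈ nonZeroDivisors A)
    (q : ℕ) (hq : 1 ≤ q)
    (hG : Subsingleton (LocCoh.H
      ((Ideal.span {x : 𝓕.extRees | ∃ n : ℤ, 0 < n ∧ ∃ a : A, (x : A[T;T⁻¹]) = C a * T n}).map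
        (Ideal.Quotient.mk (Ideal.span {𝓕.u}))) q 𝓕.Gr)) :
    Subsingleton (LocCoh.H (𝓕.F 1) q A) := by
  exact subsingleton_H_base 𝓕 hfg q hG

end Groth.Agent.S19481
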