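import Groth.Statements.S19482
import Groth.Agent.WeilFin5.EssFinite
-- import your own Groth.Agent.* helpers here

set_option autoImplicit false
set_option backward.isDefEq.respectTransparency.types false
universe u
open Groth.Agent
open CategoryTheory CategoryTheory.Limits AlgebraicGeometry
open VBCurve

namespace Groth.Agent.S19482

/-- Let X be a smooth proper integral curve over an algebraically closed field k. Say that a finite
locally free O_X-module E of rank r is essentially finite if it is slope-semistable of degree 0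
(degree = χ(E) − r·χ(O_X); semistable: every finite locally free submodule of positive rank has
degree ≤ 0) and there exist a finite locally free module G which is finite in the sense of Weil —
P(G) ≅ Q(G) for two distinct polynomials P ≠ Q with natural-number coefficients, where P(G) is the
direct sum over i of P_i copies of G^{⊗ i} — and sub-bundles F₂ ⊆ F₁ ⊆ G (monomorphisms F₂ → F₁ → G
whose cokernels are finite locally free), with F₁ and F₂ slope-semistable of degree 0, such that E ≅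
F₁/F₂. If E₁ of rank r₁ and E₂ of rank r₂ are essentially finite, then E₁ ⊗ E₂ is finite locally
free of rank r₁ r₂ and essentially finite. (The predicate is written out in full three times; the
curve is smooth, proper and integral of dimension one over an algebraically closed field, so
slope-semistability has its usual meaning.) -/
theorem result (k : Type u) [Field k] [IsAlgClosed k] (X : Scheme.{u}) [X.Over (Spec (CommRingCat.of k))]
    [IsIntegral X] [IsProper (X ↘ Spec (CommRingCat.of k))] [Smooth (X ↘ Spec (CommRingCat.of k))]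
    (hdim : topologicalKrullDim X = 1)
    (r₁ r₂ : ℕ) (E₁ E₂ : X.Modules) (hE₁ : FlatMod.IsFinLocFreeOfRank r₁ E₁) (hE₂ : FlatMod.IsFinLocFreeOfRank r₂ E₂)
    (h₁ : (Curv2.deg k X E₁ r₁ = 0 ∧ ModFun.IsSlopeSemistable k X E₁ r₁ ∧
      ∃ (s : ℕ) (G : X.Modules) (s₁ : ℕ) (F₁ : X.Modules) (s₂ : ℕ) (F₂ : X.Modules) (i₁ : F₁ ⟶ G) (i₂ : F₂ ⟶ F₁),
        FlatMod.IsFinLocFreeOfRank s G ∧
        (∃ P Q : Polynomial ℕ, P ≠ Q ∧ Nonempty ((∐ fun i : Fin (P.natDegree + 1) => ∐ fun _ : Fin (P.coeff ↑i) => CohB1.tensorPow G ↑i) ≅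
          (∐ fun i : Fin (Q.natDegree + 1) => ∐ fun _ : Fin (Q.coeff ↑i) => CohB1.tensorPow G ↑i))) ∧
        FlatMod.IsFinLocFreeOfRank s₁ F₁ ∧ FlatMod.IsFinLocFreeOfRank s₂ F₂ ∧ Mono i₁ ∧ Mono i₂ ∧
        FlatMod.IsFinLocFree (cokernel i₁) ∧ FlatMod.IsFinLocFree (cokernel i₂) ∧
        Curv2.deg k X F₁ s₁ = 0 ∧ ModFun.IsSlopeSemistable k X F₁ s₁ ∧
        Curv2.deg k X F₂ s₂ = 0 ∧ ModFun.IsSlopeSemistable k X F₂ s₂ ∧
        Nonempty (E₁ ≅ cokernel i₂)))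
    (h₂ : (Curv2.deg k X E₂ r₂ = 0 ∧ ModFun.IsSlopeSemistable k X E₂ r₂ ∧
      ∃ (s : ℕ) (G : X.Modules) (s₁ : ℕ) (F₁ : X.Modules) (s₂ : ℕ) (F₂ : X.Modules) (i₁ : F₁ ⟶ G) (i₂ : F₂ ⟶ F₁),
        FlatMod.IsFinLocFreeOfRank s G ∧
        (∃ P Q : Polynomial ℕ, P ≠ Q ∧ Nonempty ((∐ fun i : Fin (P.natDegree + 1) => ∐ fun _ : Fin (P.coeff ↑i) => CohB1.tensorPow G ↑i) ≅
          (∐ fun i : Fin (Q.natDegree + 1) => ∐ fun _ : Fin (Q.coeff ↑i) => CohB1.tensorPow G ↑i))) ∧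
        FlatMod.IsFinLocFreeOfRank s₁ F₁ ∧ FlatMod.IsFinLocFreeOfRank s₂ F₂ ∧ Mono i₁ ∧ Mono i₂ ∧
        FlatMod.IsFinLocFree (cokernel i₁) ∧ FlatMod.IsFinLocFree (cokernel i₂) ∧
        Curv2.deg k X F₁ s₁ = 0 ∧ ModFun.IsSlopeSemistable k X F₁ s₁ ∧
        Curv2.deg k X F₂ s₂ = 0 ∧ ModFun.IsSlopeSemistable k X F₂ s₂ ∧
        Nonempty (E₂ ≅ cokernel i₂))) :
    FlatMod.IsFinLocFreeOfRank (r₁ * r₂) (CohB1.tensorMod E₁ E₂) ∧
    (Curv2.deg k X (CohB1.tensorMod E₁ E₂) (r₁ * r₂) = 0 ∧ ModFun.IsSlopeSemistable k X (CohB1.tensorMod E₁ E₂) (r₁ * r₂) ∧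
      ∃ (s : ℕ) (G : X.Modules) (s₁ : ℕ) (F₁ : X.Modules) (s₂ : ℕ) (F₂ : X.Modules) (i₁ : F₁ ⟶ G) (i₂ : F₂ ⟶ F₁),
        FlatMod.IsFinLocFreeOfRank s G ∧
        (∃ P Q : Polynomial ℕ, P ≠ Q ∧ Nonempty ((∐ fun i : Fin (P.natDegree + 1) => ∐ fun _ : Fin (P.coeff ↑i) => CohB1.tensorPow G ↑i) ≅
          (∐ fun i : Fin (Q.natDegree + 1) => ∐ fun _ : Fin (Q.coeff ↑i) => CohB1.tensorPow G ↑i))) ∧
        FlatMod.IsFinLocFreeOfRank s₁ F₁ ∧ FlatMod.IsFinLocFreeOfRank s₂ F₂ ∧ Mono i₁ ∧ Mono i₂ ∧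
        FlatMod.IsFinLocFree (cokernel i₁) ∧ FlatMod.IsFinLocFree (cokernel i₂) ∧
        Curv2.deg k X F₁ s₁ = 0 ∧ ModFun.IsSlopeSemistable k X F₁ s₁ ∧
        Curv2.deg k X F₂ s₂ = 0 ∧ ModFun.IsSlopeSemistable k X F₂ s₂ ∧
        Nonempty ((CohB1.tensorMod E₁ E₂) ≅ cokernel i₂)) := by
  haveI := EulerLib.isNoetherian_of_proper (X := X) k
  haveI : GeometricallyConnected (X ↘ Spec (CommRingCat.of k)) :=
    SGA3cLib.CentralDescent.geometricallyConnected_of_isAlgClosed _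
  haveI : GeometricallyIntegral (X ↘ Spec (CommRingCat.of k)) := AbVarLib.geometricallyIntegral_of_smooth _
  obtain ⟨hd₁, -, s, G, a, A, b, B, i, i₂, hG, hGf, hA, hB, hi, -, -, -, hdA, -, -, -, ⟨e⟩⟩ := h₁
  obtain ⟨hd₂, -, s', G', a', A', b', B', i', i₂', hG', hGf', hA', hB', hi', -, -, -, hdA', -, -, -, ⟨e'⟩⟩ := h₂
  haveI := hi
  haveI := hi'
  have hb := WeilFin.WF.bdd k (VB5.exists_rank_free hG) hGf
  have hb' := WeilFin.WF.bdd k (VB5.exists_rank_free hG') hGf'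
  haveI : Epi (cokernel.π i₂ ≫ e.inv) := epi_comp _ _
  haveI : Epi (cokernel.π i₂' ≫ e'.inv) := epi_comp _ _
  obtain ⟨⟨hd, hss⟩, F₂, s₂, j, hF₂, hj, hc₂, hc₁, hm, hdAA, hssA, hd₂', hss₂, hiso⟩ :=
    WeilFin5.main k hdim hG hG' hb hb' hA hA' i i' ((VB5.deg_eq_gdeg k hA).symm.trans hdA)
      ((VB5.deg_eq_gdeg k hA').symm.trans hdA') hE₁ hE₂ (cokernel.π i₂ ≫ e.inv) (cokernel.π i₂' ≫ e'.inv)
      ((VB5.deg_eq_gdeg k hE₁).symm.trans hd₁) ((VB5.deg_eq_gdeg k hE₂).symm.trans hd₂)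
  have hGG := CycLib28.PB.Ops.isFinLocFreeOfRank_tensor hG hG'
  exact ⟨CycLib28.PB.Ops.isFinLocFreeOfRank_tensor hE₁ hE₂, hd, hss, s * s', CohB1.tensorMod G G', a * a',
    CohB1.tensorMod A A', s₂, F₂, WeilFin5.tmap i i', j, hGG,
    WeilFin.Bdd.wf k (VB5.exists_rank_free hGG) (hb.tensor hb'),
    CycLib28.PB.Ops.isFinLocFreeOfRank_tensor hA hA', hF₂, hm, hj, hc₁, hc₂, hdAA, hssA, hd₂', hss₂, hiso⟩

end Groth.Agent.S19482
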