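import Groth.Statements.S19484
import Groth.Agent.Et18.ClosedPointSupport
import Groth.Agent.VarietyLib.DivisorGlue
-- import your own Groth.Agent.* helpers here

set_option autoImplicit false
universe u
open CategoryTheory CategoryTheory.Limits CategoryTheory.Abelian AlgebraicGeometry
open Curves

set_option backward.isDefEq.respectTransparency.types false
set_option backward.isDefEq.respectTransparency false
namespace Groth.Agent.S19484

/-- Let k be a separably closed field and C a curve over k, that is a scheme of finite type over k of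
dimension at most one (no connectedness, smoothness, separatedness or properness assumed). Let φ : F
→ G be a morphism of torsion abelian sheaves on the small étale site of C which induces an
isomorphism on stalks at every geometric point of C lying over a generic point of an irreducible
component (a point admitting no proper generalization). Then the induced map H^q(C_ét, F) →
H^q(C_ét, G) is an isomorphism for all q > 1; if moreover φ is an epimorphism, it is an isomorphism
for q = 1 as well. (The published statement fixes one geometric point over each generic point; the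
dimension is taken at most one here.) -/
theorem result
    (k : Type u) [Field k] [IsSepClosed k] (C : Scheme.{u})
    (f : C ⟶ Spec (CommRingCat.of k)) [LocallyOfFiniteType f] [QuasiCompact f]
    (hdim : topologicalKrullDim C ≤ 1) (F G : EtCoh.Ab C) (hF : EtCoh.IsTorsion F) (hG : EtCoh.IsTorsion G)
    (φ : F ⟶ G)
    (hgen : ∀ (Ω : Type u) [Field Ω] [IsSepClosed Ω] (ξ : Spec (CommRingCat.of Ω) ⟶ C),
      (∀ x ∈ Set.range ξ.base, ∀ y : C, y ⤳ x → y = x) → IsIso ((EtCoh.stalk ξ).map φ)) :
    (∀ q : ℕ, 1 < q → IsIso ((EtCoh.HF C q).map φ)) ∧ (Epi φ → IsIso ((EtCoh.HF C 1).map φ)) := by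
  have hcl : ∀ (K : EtCoh.Ab C), (∀ (Ω : Type u) [Field Ω] [IsSepClosed Ω] (ξ : Spec (CommRingCat.of Ω) ⟶ C),
      (∀ x ∈ Set.range ξ.base, ∀ y : C, y ⤳ x → y = x) → IsZero ((EtCoh.stalk ξ).obj K)) →
      ∀ q : ℕ, 0 < q → Subsingleton (EtCoh.H C K q) := fun K hK q hq => by
    refine Groth.Agent.Et18.ClosedPointSupport.subsingleton_H f K (fun y hy => ?_) q hq
    by_contra hcl
    refine (Groth.Agent.Et18.mem_supp_iff _ (Groth.Agent.Et18.sepPoint C y) (Groth.Agent.Et18.sepPoint_default C y)).1 hy
      (hK _ _ fun x hx z hz => ?_)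
    obtain ⟨a, rfl⟩ := hx
    rw [Subsingleton.elim a default] at hz ⊢
    erw [Groth.Agent.Et18.sepPoint_default] at hz ⊢
    by_contra hne
    exact hcl (Groth.Agent.VarietyLib.isClosed_of_specializes_ne hdim hz hne)
  let π : F ⟶ Abelian.image φ := Abelian.factorThruImage φ
  let ι : Abelian.image φ ⟶ G := Abelian.image.ι φ
  have hπι : π ≫ ι = φ := Abelian.image.fac φ
  have hk : ∀ (Ω : Type u) [Field Ω] [IsSepClosed Ω] (ξ : Spec (CommRingCat.of Ω) ⟶ C),
      (∀ x ∈ Set.range ξ.base, ∀ y : C, y ⤳ x → y = x) →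
      IsZero ((EtCoh.stalk ξ).obj (kernel π)) ∧ IsZero ((EtCoh.stalk ξ).obj (cokernel ι)) := fun Ω _ _ ξ hξ => by
    haveI : IsIso ((EtCoh.stalk ξ).map φ) := hgen Ω ξ hξ
    have hfac : (EtCoh.stalk ξ).map π ≫ (EtCoh.stalk ξ).map ι = (EtCoh.stalk ξ).map φ := by
      rw [← Functor.map_comp, hπι]
    haveI : Mono ((EtCoh.stalk ξ).map π) := mono_of_mono_fac hfac
    haveI : Epi ((EtCoh.stalk ξ).map ι) := epi_of_epi_fac hfac
    exact ⟨IsZero.of_iso (isZero_kernel_of_mono _) (PreservesKernel.iso _ π),
      IsZero.of_iso (isZero_cokernel_of_epi _) (PreservesCokernel.iso _ ι)⟩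
  have hK := hcl _ fun Ω _ _ ξ hξ => (hk Ω ξ hξ).1
  have hQ := hcl _ fun Ω _ _ ξ hξ => (hk Ω ξ hξ).2
  let S₁ := ShortComplex.mk (kernel.ι π) π (kernel.condition _)
  have hS₁ : S₁.ShortExact :=
    { exact := ShortComplex.exact_kernel _
      mono_f := inferInstanceAs (Mono (kernel.ι π))
      epi_g := inferInstanceAs (Epi (Abelian.factorThruImage φ)) }
  let S₂ := ShortComplex.mk ι (cokernel.π ι) (cokernel.condition _)
  have hS₂ : S₂.ShortExact :=
    { exact := ShortComplex.exact_cokernel _
      mono_f := inferInstanceAs (Mono (Abelian.image.ι φ))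
      epi_g := inferInstanceAs (Epi (cokernel.π ι)) }
  have hπ : ∀ q : ℕ, 0 < q → IsIso ((EtCoh.HF C q).map π) := fun q hq => by
    rw [ConcreteCategory.isIso_iff_bijective]
    refine ⟨(injective_iff_map_eq_zero _).2 fun (a : EtCoh.H C F q) (ha : a.comp (Ext.mk₀ π) (add_zero q) = 0) => ?_,
      fun (b : EtCoh.H C (Abelian.image φ) q) => ?_⟩
    · obtain ⟨y, hy⟩ := Ext.covariant_sequence_exact₂ _ hS₁ a ha
      rw [← hy, show y = 0 from @Subsingleton.elim _ (hK q hq) _ _, Ext.zero_comp]
    · obtain ⟨y, hy⟩ := Ext.covariant_sequence_exact₃ _ hS₁ b (n₁ := q + 1) rfl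
        (@Subsingleton.elim _ (hK (q + 1) q.succ_pos) _ _)
      exact ⟨y, hy⟩
  have hι : ∀ q : ℕ, 1 < q → IsIso ((EtCoh.HF C q).map ι) := fun q hq => by
    rw [ConcreteCategory.isIso_iff_bijective]
    refine ⟨(injective_iff_map_eq_zero _).2 fun (a : EtCoh.H C (Abelian.image φ) q)
      (ha : a.comp (Ext.mk₀ ι) (add_zero q) = 0) => ?_, fun (b : EtCoh.H C G q) => ?_⟩
    · obtain ⟨y, hy⟩ := Ext.covariant_sequence_exact₁ _ hS₂ a ha (n₀ := q - 1) (by omega)
      rw [← hy, show y = 0 from @Subsingleton.elim _ (hQ (q - 1) (by omega)) _ _, Ext.zero_comp]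
    · obtain ⟨y, hy⟩ := Ext.covariant_sequence_exact₂ _ hS₂ b (@Subsingleton.elim _ (hQ q (by omega)) _ _)
      exact ⟨y, hy⟩
  refine ⟨fun q hq => ?_, fun hepi => ?_⟩
  · haveI := hπ q (by omega)
    haveI := hι q hq
    rw [← hπι, Functor.map_comp]
    infer_instance
  · haveI := hπ 1 Nat.one_pos
    haveI : Epi ι := epi_of_epi_fac hπι
    haveI : IsIso ι := isIso_of_mono_of_epi ι
    rw [← hπι, Functor.map_comp]
    infer_instance

end Groth.Agent.S19484
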