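import Groth.Statements.S19485
import Groth.Agent.Crimp5.Basic
import Mathlib.Tactic.LinearCombination
import Mathlib.Tactic.Ring

set_option autoImplicit false
universe u
open Crimp

namespace Groth.Agent.S19485

/-- The criterion for closedness under multiplication on which the description of the stratum rests.
Over R = k⟦t⟧ with k an algebraically closed field of characteristic zero, let S̃ = k⟦x⟧ regarded as
an R-algebra through t ↦ x ^ 3, that is S̃ = R[x] / (x ^ 3 - t). Let m, n be natural numbers with m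
not divisible by 3, and let g be a power series with nonzero constant term. Then the R-submodule of
S̃ spanned by 1 and x ^ m g together with the ideal x ^ n S̃ is closed under multiplication if and
only if n ≤ 2m. (The published proposition goes on to describe the stratum of crimps with these
invariants as irreducible of dimension ⌊(n - m)/3⌋ with a normal form for g; only the closedness
criterion is stated here.) -/
theorem result {k : Type u} [Field k] [IsAlgClosed k] [CharZero k]
    (m n : ℕ) (hm : ¬ 3 ∣ m) (x g : W4c1hurwitzcpt.RootDisk 3 k)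
    (hx : W4c1hurwitzcpt.RootDisk.val x = PowerSeries.X) (hg : PowerSeries.order (W4c1hurwitzcpt.RootDisk.val g) = 0)
    (M : Submodule (PowerSeries k) (W4c1hurwitzcpt.RootDisk 3 k))
    (hM : M = Submodule.span (PowerSeries k) {1, x ^ m * g} ⊔
      (Ideal.span {x ^ n} : Ideal (W4c1hurwitzcpt.RootDisk 3 k)).restrictScalars (PowerSeries k)) :
    (∀ a ∈ M, ∀ b ∈ M, a * b ∈ M) ↔ n ≤ 2 * m := by
  classical
  set h := x ^ m * g with hh
  have hord : (W4c1hurwitzcpt.RootDisk.val h).order = m := by
    rw [hh, map_mul, map_pow, hx, PowerSeries.order_mul, PowerSeries.order_X_pow, hg, add_zero]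
  have key : ∀ a : W4c1hurwitzcpt.RootDisk 3 k, a ∈ M ↔ ∃ (r s : PowerSeries k) (w : W4c1hurwitzcpt.RootDisk 3 k),
      r • (1 : W4c1hurwitzcpt.RootDisk 3 k) + s • h + w * x ^ n = a := fun a => by
    rw [hM, Submodule.mem_sup]
    constructor
    · rintro ⟨y, hy, z, hz, rfl⟩
      obtain ⟨r, s, rfl⟩ := Submodule.mem_span_pair.1 hy
      obtain ⟨w, rfl⟩ := Ideal.mem_span_singleton'.1 hz
      exact ⟨r, s, w, rfl⟩
    · rintro ⟨r, s, w, rfl⟩
      exact ⟨_, Submodule.mem_span_pair.2 ⟨r, s, rfl⟩, _, Ideal.mem_span_singleton'.2 ⟨w, rfl⟩, rfl⟩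
  constructor
  · intro hcl
    by_contra hlt
    have hh1 : h ∈ M := (key h).2 ⟨0, 1, 0, by simp⟩
    obtain ⟨r, s, w, e⟩ := (key _).1 (hcl h hh1 h hh1)
    refine Crimp5.ne_sq hord hm r s (Or.inl (by omega)) (n := n) (by omega) (W4c1hurwitzcpt.RootDisk.val w) ?_
    have e' := congrArg W4c1hurwitzcpt.RootDisk.val e
    simp only [Algebra.smul_def, mul_one, map_add, map_mul, map_pow, hx] at e'
    rw [pow_two, ← e']
    ring
  · intro hn a ha b hb
    obtain ⟨r, s, w, rfl⟩ := (key a).1 ha
    obtain ⟨r', s', w', rfl⟩ := (key b).1 hb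
    obtain ⟨d, hd⟩ := Nat.exists_eq_add_of_le hn
    have hsq : h * h = x ^ d * g ^ 2 * x ^ n := by
      rw [hh, show x ^ m * g * (x ^ m * g) = x ^ (2 * m) * g ^ 2 by ring, hd, pow_add]; ring
    refine (key _).2 ⟨r * r', r * s' + r' * s, algebraMap _ _ r * w' + algebraMap _ _ r' * w +
      algebraMap _ _ s * h * w' + algebraMap _ _ s' * h * w + w * w' * x ^ n +
      algebraMap _ _ s * algebraMap _ _ s' * (x ^ d * g ^ 2), ?_⟩
    simp only [Algebra.smul_def, map_add, map_mul]
    linear_combination -(algebraMap (PowerSeries k) (W4c1hurwitzcpt.RootDisk 3 k) s * algebraMap (PowerSeries k) (W4c1hurwitzcpt.RootDisk 3 k) s') * hsq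

end Groth.Agent.S19485
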