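import Groth.Statements.S19486
import Groth.Agent.Crimp5.Basic
import Mathlib.Tactic.LinearCombination
import Mathlib.Tactic.Ring

set_option autoImplicit false
universe u
open Crimp

namespace Groth.Agent.S19486

/-- The emptiness of the stratum rests on the following computation. Over R = k⟦t⟧ with k an
algebraically closed field of characteristic zero, let S̃ = S̃₁ × R where S̃₁ = k⟦x⟧ is regarded as
an R-algebra through t ↦ x ^ 2, that is S̃₁ = R[x] / (x ^ 2 - t), with R embedded diagonally in the
product. Let m be odd, n > 2m, and let g be a power series with nonzero constant term. Then the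
R-submodule of S̃ spanned by 1 = (1, 1) and (x ^ m g, 0) together with the ideal x ^ n S̃₁ × 0 is
not closed under multiplication. (The published item concludes that the corresponding stratum of
crimps is empty; only this computation is stated here, with the ideal read as x ^ n S̃₁ × 0.) -/
theorem result {k : Type u} [Field k] [IsAlgClosed k] [CharZero k]
    (m n : ℕ) (hm : Odd m) (hmn : 2 * m < n) (x g : W4c1hurwitzcpt.RootDisk 2 k)
    (hx : W4c1hurwitzcpt.RootDisk.val x = PowerSeries.X) (hg : PowerSeries.order (W4c1hurwitzcpt.RootDisk.val g) = 0)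
    (M : Submodule (PowerSeries k) (W4c1hurwitzcpt.RootDisk 2 k × PowerSeries k))
    (hM : M = Submodule.span (PowerSeries k) {(1 : W4c1hurwitzcpt.RootDisk 2 k × PowerSeries k), (x ^ m * g, 0)} ⊔
      ((Ideal.span {x ^ n} : Ideal (W4c1hurwitzcpt.RootDisk 2 k)).restrictScalars (PowerSeries k)).prod ⊥) :
    ∃ a ∈ M, ∃ b ∈ M, a * b ∉ M := by
  classical
  set h := x ^ m * g with hh
  have hord : (W4c1hurwitzcpt.RootDisk.val h).order = m := by
    rw [hh, map_mul, map_pow, hx, PowerSeries.order_mul, PowerSeries.order_X_pow, hg, add_zero]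
  have hmem : (h, (0 : PowerSeries k)) ∈ M := by
    rw [hM]
    exact Submodule.mem_sup_left (Submodule.subset_span (by simp))
  refine ⟨_, hmem, _, hmem, fun hp => ?_⟩
  rw [hM, Submodule.mem_sup] at hp
  obtain ⟨y, hy, z, hz, e⟩ := hp
  obtain ⟨r, s, rfl⟩ := Submodule.mem_span_pair.1 hy
  obtain ⟨hz1, hz2⟩ := Submodule.mem_prod.1 hz
  obtain ⟨w, hw⟩ := Ideal.mem_span_singleton'.1 hz1
  have hz0 : z.2 = 0 := (Submodule.mem_bot _).1 hz2
  have e1 := congrArg Prod.fst e
  have e2 := congrArg Prod.snd e
  simp [hz0] at e2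
  simp [e2, ← hw, Algebra.smul_def] at e1
  refine Crimp5.ne_sq hord (by rw [Nat.two_dvd_ne_zero]; exact Nat.odd_iff.1 hm) 0 s (Or.inr rfl)
    (n := n) hmn (W4c1hurwitzcpt.RootDisk.val w) ?_
  have e' := congrArg W4c1hurwitzcpt.RootDisk.val e1
  simp only [map_add, map_mul, map_pow, hx] at e'
  rw [map_zero, map_zero, zero_add, pow_two, ← e']
  ring

end Groth.Agent.S19486
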