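import Groth.Statements.S19487
import Mathlib
import Groth.Prelude

set_option linter.all false

set_option autoImplicit false
open W4c1frobunstiva


namespace Groth.Agent.S19487

section
open Finset PowerSeries

theorem card_fun_fin (p n : ℕ) (P : (Fin n → ℕ) → Prop) [DecidablePred P] :
    Fintype.card {e : Fin n → Fin p // P fun i => (e i : ℕ)} =
      ((Fintype.piFinset fun _ : Fin n => Finset.range p).filter P).card := by
  rw [Fintype.card_subtype]
  refine Finset.card_bij (fun e _ i => (e i : ℕ)) (fun e he => ?_) (fun e _ f _ h => funext fun i => Fin.ext (congrFun h i)) (fun g hg => ?_)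
  · simp at he ⊢
    exact he
  · simp only [Finset.mem_filter, Fintype.mem_piFinset, Finset.mem_range] at hg
    exact ⟨fun i => ⟨g i, hg.1 i⟩, by simpa using hg.2, rfl⟩

theorem card_sum_eq_coeff {ι : Type*} [Fintype ι] [DecidableEq ι] (t : ι → Finset ℕ) (s : ℕ) :
    (((Fintype.piFinset t).filter fun e => ∑ i, e i = s).card : ℤ) =
      PowerSeries.coeff s (∏ i, ∑ j ∈ t i, (PowerSeries.X : ℤ⟦X⟧) ^ j) := by
  rw [Finset.prod_univ_sum, map_sum, Finset.card_filter, Nat.cast_sum]
  refine Finset.sum_congr rfl fun e _ => ?_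
  rw [Finset.prod_pow_eq_pow_sum, PowerSeries.coeff_X_pow, Nat.cast_ite, Nat.cast_one, Nat.cast_zero]
  exact if_congr eq_comm rfl rfl

theorem part_mul_one_sub (p : ℕ) :
    (∑ j ∈ Finset.Ico 1 p, (PowerSeries.X : ℤ⟦X⟧) ^ j) * (1 - PowerSeries.X) =
      PowerSeries.X * (1 - PowerSeries.X ^ (p - 1)) := by
  rcases p with _ | p
  · simp
  rw [Finset.sum_Ico_eq_sum_range, Nat.add_sub_cancel]
  simp only [pow_add, pow_one, ← Finset.mul_sum, mul_assoc, geom_sum_mul_neg]
end

/-- The second formula. For p odd and natural numbers n, s, write N_p(n, s) for the number of monomials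
of degree s in n variables in which every variable occurs with a positive exponent strictly less
than p, that is of exponent vectors (e_1, …, e_n) with sum s and 1 ≤ e_i ≤ p − 1, and N_p^D(n, s)
for the number of those in which exactly D variables occur with exponent less than p/2. Then
N_p^D(n, s) = C(n, D) · Σ_j N_{(p+1)/2}(D, j) · N_{(p+1)/2}(n − D, s − j − (n − D)(p − 1)/2), the
sum running over 0 ≤ j ≤ s. (Natural-number subtraction is used in the last argument; when it
truncates and n > D the factor vanishes, as it should. The published setting has p an odd prime;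
only p odd is used. The companion inclusion–exclusion expression for N_p(n, s) itself is a separate
statement.) -/
theorem result (p n s D : ℕ) (hp : Odd p) :
    Fintype.card {e : Fin n → Fin p // (∀ i, 1 ≤ (e i : ℕ)) ∧ ∑ i, (e i : ℕ) = s ∧
        (Finset.univ.filter fun i => 2 * (e i : ℕ) < p).card = D} =
      n.choose D * ∑ j ∈ Finset.range (s + 1),
        Fintype.card {e : Fin D → Fin ((p + 1) / 2) // (∀ i, 1 ≤ (e i : ℕ)) ∧ ∑ i, (e i : ℕ) = j} *
          Fintype.card {e : Fin (n - D) → Fin ((p + 1) / 2) // (∀ i, 1 ≤ (e i : ℕ)) ∧ ∑ i, (e i : ℕ) = (s - j - (n - D) * ((p - 1) / 2))} := by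
  classical
  obtain ⟨h, rfl⟩ := hp
  rw [show (2 * h + 1 + 1) / 2 = h + 1 by omega, show (2 * h + 1 - 1) / 2 = h by omega]
  let A : Finset ℕ := Finset.Ico 1 (h + 1)
  let B : Finset ℕ := Finset.Ico (h + 1) (2 * h + 1)
  let G : PowerSeries ℤ := ∑ j ∈ A, PowerSeries.X ^ j
  have hsm : ∀ (m t : ℕ), (Fintype.card {e : Fin m → Fin (h + 1) // (∀ i, 1 ≤ (e i : ℕ)) ∧ ∑ i, (e i : ℕ) = t} : ℤ) = PowerSeries.coeff t (G ^ m) := by
    intro m t
    rw [card_fun_fin (h + 1) m fun e => (∀ i, 1 ≤ e i) ∧ ∑ i, e i = t]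
    have hset : ((Fintype.piFinset fun _ : Fin m => Finset.range (h + 1)).filter fun e => (∀ i, 1 ≤ e i) ∧ ∑ i, e i = t) =
        (Fintype.piFinset fun _ : Fin m => A).filter fun e => ∑ i, e i = t := by
      ext e
      simp only [A, Finset.mem_filter, Fintype.mem_piFinset, Finset.mem_range, Finset.mem_Ico]
      exact ⟨fun h' => ⟨fun i => ⟨h'.2.1 i, h'.1 i⟩, h'.2.2⟩, fun h' => ⟨fun i => (h'.1 i).2, fun i => (h'.1 i).1, h'.2⟩⟩
    rw [hset, card_sum_eq_coeff, Finset.prod_const, Finset.card_univ, Fintype.card_fin]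
  have hGB : ∑ j ∈ B, (PowerSeries.X : PowerSeries ℤ) ^ j = PowerSeries.X ^ h * G := by
    simp only [G, A, B, Finset.mul_sum, ← pow_add]
    rw [Finset.sum_Ico_eq_sum_range, Finset.sum_Ico_eq_sum_range, show 2 * h + 1 - (h + 1) = h + 1 - 1 by omega]
    exact Finset.sum_congr rfl fun i _ => by rw [show h + 1 + i = h + (1 + i) by omega]
  let H := (n - D) * h
  apply Nat.cast_injective (R := ℤ)
  rw [card_fun_fin (2 * h + 1) n fun e => (∀ i, 1 ≤ e i) ∧ ∑ i, e i = s ∧ (Finset.univ.filter fun i => 2 * e i < 2 * h + 1).card = D]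
  let T := (Fintype.piFinset fun _ : Fin n => Finset.range (2 * h + 1)).filter fun e => (∀ i, 1 ≤ e i) ∧ ∑ i, e i = s ∧ (Finset.univ.filter fun i => 2 * e i < 2 * h + 1).card = D
  show (T.card : ℤ) = _
  rw [Finset.card_eq_sum_card_fiberwise (f := fun e : Fin n → ℕ => Finset.univ.filter fun i => 2 * e i < 2 * h + 1)
    (t := Finset.powersetCard D Finset.univ) (fun e he => by
      simp only [T, Finset.coe_filter, Set.mem_setOf_eq] at he
      exact Finset.mem_powersetCard.2 ⟨Finset.subset_univ _, he.2.2.2⟩)]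
  push_cast
  have hfib : ∀ S ∈ Finset.powersetCard D (Finset.univ : Finset (Fin n)),
      ((T.filter fun e => (Finset.univ.filter fun i => 2 * e i < 2 * h + 1) = S).card : ℤ) =
        ∑ j ∈ Finset.range (s + 1), PowerSeries.coeff j (G ^ D) * PowerSeries.coeff (s - j - H) (G ^ (n - D)) := by
    intro S hS
    have hSD := (Finset.mem_powersetCard.1 hS).2
    have hset : (T.filter fun e => (Finset.univ.filter fun i => 2 * e i < 2 * h + 1) = S) =
        (Fintype.piFinset fun i : Fin n => if i ∈ S then A else B).filter fun e => ∑ i, e i = s := by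
      ext e
      simp only [T, Finset.mem_filter, Fintype.mem_piFinset, Finset.mem_range]
      constructor
      · rintro ⟨⟨h1, h2, h3, -⟩, h4⟩
        refine ⟨fun i => ?_, h3⟩
        subst h4
        have := h1 i
        have := h2 i
        split_ifs with hi <;> simp [A, B] at hi ⊢ <;> omega
      · rintro ⟨h1, h2⟩
        have key : ∀ i, (1 ≤ e i ∧ e i < 2 * h + 1) ∧ (2 * e i < 2 * h + 1 ↔ i ∈ S) := fun i => by
          have := h1 i
          split_ifs at this with hi <;> simp [A, B] at this <;> simp [hi] <;> omega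
        have hS' : (Finset.univ.filter fun i => 2 * e i < 2 * h + 1) = S := by ext i; simp only [Finset.mem_filter, Finset.mem_univ, true_and]; exact (key i).2
        exact ⟨⟨fun i => (key i).1.2, fun i => (key i).1.1, h2, hS'.symm ▸ hSD⟩, hS'⟩
    rw [hset, card_sum_eq_coeff]
    have hprod : ∏ i : Fin n, ∑ j ∈ (if i ∈ S then A else B), (PowerSeries.X : PowerSeries ℤ) ^ j = G ^ D * (PowerSeries.X ^ H * G ^ (n - D)) := by
      simp only [apply_ite (fun t : Finset ℕ => ∑ j ∈ t, (PowerSeries.X : PowerSeries ℤ) ^ j)]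
      rw [Finset.prod_ite, Finset.prod_const, Finset.prod_const, hGB, Finset.filter_mem_eq_inter, Finset.univ_inter, hSD,
        show (Finset.univ.filter fun i => i ∉ S).card = n - D by rw [Finset.filter_not, Finset.filter_mem_eq_inter, Finset.univ_inter, Finset.card_univ_diff, hSD, Fintype.card_fin],
        mul_pow, ← pow_mul, mul_comm h]
    rw [hprod, PowerSeries.coeff_mul, Finset.Nat.sum_antidiagonal_eq_sum_range_succ_mk]
    refine Finset.sum_congr rfl fun j _ => ?_
    congr 1
    rw [PowerSeries.coeff_X_pow_mul']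
    split_ifs with hH
    · rfl
    · rw [show s - j - H = 0 by omega, PowerSeries.coeff_zero_eq_constantCoeff, map_pow, map_sum]
      have : n - D ≠ 0 := fun h0 => hH (by simp [H, h0])
      rw [Finset.sum_eq_zero (fun i hi => by simp [A] at hi; simp [zero_pow (show i ≠ 0 by omega)]), zero_pow this]
  rw [Finset.sum_congr rfl hfib, Finset.sum_const, Finset.card_powersetCard, Finset.card_univ, Fintype.card_fin, nsmul_eq_mul]
  congr 1
  exact Finset.sum_congr rfl fun j _ => by rw [hsm, hsm]

end Groth.Agent.S19487
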