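import Groth.Statements.S19489
import Mathlib
import Groth.Agent.PolLawLib.CharPow

set_option autoImplicit false
open scoped TensorProduct
open ZeroCyc

namespace Groth.Agent.S19489

/-- Let p be a prime, k = F_p(t_0, t_1, …) the field of rational functions over F_p in countably many
variables, and K = k^{1/p} = F_p(t_0^{1/p}, t_1^{1/p}, …), modelled here as a copy of k made into a
k-algebra through the Frobenius b ↦ b ^ p (under a ↦ a ^ p the extension k ⊆ k^{1/p} becomes this
algebra). Then a ↦ a ^ p is a multiplicative polynomial law from K to k over k, homogeneous of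
degree p: there is such a law sending s ⊗ a to s ^ p ⊗ a ^ p on every test algebra S, where a ^ p is
read in k. Every such law has zero kernel, so the support of the corresponding family of zero-cycles
of degree p on Spec K over Spec k is all of Spec K; and K is not finite over k. Thus the support of
a family of zero-cycles need not be finite over the base. -/
theorem result (p : ℕ) [Fact p.Prime] :
    (∃ F : PolLaw.MulLaw (FractionRing (MvPolynomial ℕ (ZMod p))) (FrobAlg.Twist p (FractionRing (MvPolynomial ℕ (ZMod p)))) (FractionRing (MvPolynomial ℕ (ZMod p))) p,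
      ∀ (S : Type) [CommSemiring S] [Algebra (FractionRing (MvPolynomial ℕ (ZMod p))) S] (s : S) (a : FrobAlg.Twist p (FractionRing (MvPolynomial ℕ (ZMod p)))),
        F.law.toFun' S (s ⊗ₜ[FractionRing (MvPolynomial ℕ (ZMod p))] a) =
          (s ^ p) ⊗ₜ[FractionRing (MvPolynomial ℕ (ZMod p))] (FrobAlg.toTwist p (FractionRing (MvPolynomial ℕ (ZMod p)))).symm a) ∧
    (∀ F : PolLaw.MulLaw (FractionRing (MvPolynomial ℕ (ZMod p))) (FrobAlg.Twist p (FractionRing (MvPolynomial ℕ (ZMod p)))) (FractionRing (MvPolynomial ℕ (ZMod p))) p,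
      (∀ (S : Type) [CommSemiring S] [Algebra (FractionRing (MvPolynomial ℕ (ZMod p))) S] (s : S) (a : FrobAlg.Twist p (FractionRing (MvPolynomial ℕ (ZMod p)))),
        F.law.toFun' S (s ⊗ₜ[FractionRing (MvPolynomial ℕ (ZMod p))] a) =
          (s ^ p) ⊗ₜ[FractionRing (MvPolynomial ℕ (ZMod p))] (FrobAlg.toTwist p (FractionRing (MvPolynomial ℕ (ZMod p)))).symm a) →
      PolLaw.ker F.law = ⊥) ∧
    ¬ Module.Finite (FractionRing (MvPolynomial ℕ (ZMod p))) (FrobAlg.Twist p (FractionRing (MvPolynomial ℕ (ZMod p)))) := by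
  classical
  have hp : p.Prime := Fact.out
  set P := MvPolynomial ℕ (ZMod p) with hP
  set k := FractionRing P with hk
  let u : FrobAlg.Twist p k →+* k := (FrobAlg.toTwist p k).symm.toRingHom
  have hu : ∀ (c : k) (a : FrobAlg.Twist p k), u (c • a) = c ^ p * u a := fun c a => by
    rw [Algebra.smul_def, map_mul, FrobAlg.algebraMap_twist]
    exact congrArg (· * u a) ((FrobAlg.toTwist p k).symm_apply_apply _)
  have hadd : ∀ (S : Type) [CommSemiring S] [Algebra k S] (s t : S), (s + t) ^ p = s ^ p + t ^ p := fun S _ _ s t =>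
    Groth.Agent.PolLawLib.add_pow_of_natCast_eq_zero hp
      (by rw [← map_natCast (algebraMap k S) p, CharP.cast_eq_zero k p, map_zero]) s t
  let ψ : ∀ (S : Type) [CommSemiring S] [Algebra k S], S ⊗[k] FrobAlg.Twist p k →+ S := fun S _ _ =>
    TensorProduct.liftAddHom
      { toFun := fun s =>
          { toFun := fun a => s ^ p * algebraMap k S (u a)
            map_zero' := by rw [map_zero, map_zero, mul_zero]
            map_add' := fun a b => by rw [map_add, map_add, mul_add] }
        map_zero' := by ext a; simp [zero_pow hp.ne_zero]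
        map_add' := fun s t => by
          ext a
          show (s + t) ^ p * _ = s ^ p * _ + t ^ p * _
          rw [hadd S, add_mul] }
      fun c s a => by
        show (c • s) ^ p * algebraMap k S (u a) = s ^ p * algebraMap k S (u (c • a))
        rw [hu, Algebra.smul_def, mul_pow, map_mul, map_pow]
        ring
  have hψ : ∀ (S : Type) [CommSemiring S] [Algebra k S] (s : S) (a : FrobAlg.Twist p k),
      ψ S (s ⊗ₜ[k] a) = s ^ p * algebraMap k S (u a) := fun S _ _ s a => rfl
  have hψm : ∀ (S : Type) [CommSemiring S] [Algebra k S] (x y : S ⊗[k] FrobAlg.Twist p k),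
      ψ S (x * y) = ψ S x * ψ S y := by
    intro S _ _ x y
    induction x using TensorProduct.induction_on with
    | zero => simp
    | tmul a b =>
      induction y using TensorProduct.induction_on with
      | zero => simp
      | tmul c e =>
        rw [Algebra.TensorProduct.tmul_mul_tmul, hψ, hψ, hψ, mul_pow, map_mul, map_mul]
        ring
      | add c e hc he => rw [mul_add, map_add, map_add, hc, he, mul_add]
    | add a b ha hb => rw [add_mul, map_add, map_add, ha, hb, add_mul]
  refine ⟨⟨⟨{ toFun' := fun S _ _ x => ψ S x ⊗ₜ[k] (1 : k)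
              isCompat' := ?_ }, ?_, ?_⟩, ?_⟩, ?_, ?_⟩
  · intro S _ _ S' _ _ φ
    funext x
    show φ.toLinearMap.rTensor k (ψ S x ⊗ₜ[k] (1 : k)) = ψ S' (φ.toLinearMap.rTensor _ x) ⊗ₜ[k] (1 : k)
    rw [LinearMap.rTensor_tmul]
    congr 1
    induction x using TensorProduct.induction_on with
    | zero => simp
    | tmul a b =>
      rw [LinearMap.rTensor_tmul, hψ, hψ]
      show φ _ = φ a ^ p * _
      rw [map_mul, map_pow, AlgHom.commutes]
    | add a b ha hb => simp only [map_add, ha, hb]
  · intro S _ _ s x
    show ψ S (s • x) ⊗ₜ[k] (1 : k) = s ^ p • (ψ S x ⊗ₜ[k] (1 : k))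
    rw [TensorProduct.smul_tmul', smul_eq_mul]
    congr 1
    induction x using TensorProduct.induction_on with
    | zero => simp
    | tmul a b => rw [TensorProduct.smul_tmul', hψ, hψ, smul_eq_mul, mul_pow, mul_assoc]
    | add a b ha hb => rw [smul_add, map_add, map_add, ha, hb, mul_add]
  · intro S _ _
    refine ⟨?_, fun x y => ?_⟩
    · show ψ S 1 ⊗ₜ[k] (1 : k) = 1
      rw [Algebra.TensorProduct.one_def, hψ, one_pow, map_one, map_one, mul_one]
      rfl
    · show ψ S (x * y) ⊗ₜ[k] (1 : k) = (ψ S x ⊗ₜ[k] (1 : k)) * (ψ S y ⊗ₜ[k] (1 : k))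
      rw [Algebra.TensorProduct.tmul_mul_tmul, hψm, mul_one]
  · intro S _ _ s a
    show ψ S (s ⊗ₜ[k] a) ⊗ₜ[k] (1 : k) = _
    rw [hψ, mul_comm, ← Algebra.smul_def, TensorProduct.smul_tmul, Algebra.smul_def, Algebra.algebraMap_self, RingHom.id_apply, mul_one]
    rfl
  · intro F hF
    refine (Submodule.eq_bot_iff _).mpr fun b hb => ?_
    by_contra hb0
    obtain ⟨v, hv⟩ : ∃ v : FrobAlg.Twist p k, v * b = 1 := by
      refine ⟨FrobAlg.toTwist p k (u b)⁻¹, ?_⟩
      have hne : u b ≠ 0 := fun h => hb0 ((FrobAlg.toTwist p k).symm.injective (h.trans (map_zero _).symm))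
      apply (FrobAlg.toTwist p k).symm.injective
      rw [map_mul, map_one, RingEquiv.symm_apply_apply]
      exact inv_mul_cancel₀ hne
    have h1 := (PolLaw.ker F.law).mul_mem_left v hb
    rw [hv] at h1
    have h2 := h1 k ((0 : k) ⊗ₜ[k] (1 : FrobAlg.Twist p k)) 1
    rw [one_mul, ← TensorProduct.add_tmul, zero_add, hF, hF, zero_pow hp.ne_zero, one_pow, TensorProduct.zero_tmul] at h2
    have h3 := congrArg (TensorProduct.lid k k) h2
    rw [TensorProduct.lid_tmul, map_one, one_smul, map_zero] at h3
    exact one_ne_zero h3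
  · intro hfin
    let v : ℕ → FrobAlg.Twist p k := fun i => FrobAlg.toTwist p k (algebraMap P k (MvPolynomial.X i))
    have hv : LinearIndependent k v := by
      rw [linearIndependent_iff']
      intro s g hg i hi
      obtain ⟨⟨D, hD⟩, hDg⟩ := IsLocalization.exist_integer_multiples (nonZeroDivisors P) s g
      choose a ha using hDg
      have h0 : ∑ j ∈ s, g j ^ p * algebraMap P k (MvPolynomial.X j) = 0 := by
        have := congrArg u hg
        rw [map_sum, map_zero] at this
        rw [← this]
        exact Finset.sum_congr rfl fun j _ => by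
          rw [hu]; exact congrArg (g j ^ p * ·) ((FrobAlg.toTwist p k).symm_apply_apply _).symm
      have h1 : ∑ j ∈ s.attach, a j.1 j.2 ^ p * MvPolynomial.X j.1 = 0 := by
        apply IsFractionRing.injective P k
        rw [map_sum, map_zero]
        have : ∀ j : {x // x ∈ s}, algebraMap P k (a j.1 j.2 ^ p * MvPolynomial.X j.1) =
            algebraMap P k D ^ p * (g j.1 ^ p * algebraMap P k (MvPolynomial.X j.1)) := fun j => by
          rw [map_mul, map_pow, ha j.1 j.2, Algebra.smul_def, mul_pow, mul_assoc]
        rw [Finset.sum_congr rfl fun j _ => this j, ← Finset.mul_sum, Finset.sum_attach s (fun j => g j ^ p * algebraMap P k (MvPolynomial.X j)), h0, mul_zero]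
      have hpd : ∀ (q : P), MvPolynomial.pderiv i (q ^ p) = 0 := fun q => by
        rw [MvPolynomial.pderiv_pow, CharP.cast_eq_zero, zero_mul, zero_mul]
      have h2 := congrArg (MvPolynomial.pderiv i) h1
      rw [map_sum, map_zero, Finset.sum_eq_single ⟨i, hi⟩] at h2
      · rw [MvPolynomial.pderiv_mul, hpd, zero_mul, zero_add, MvPolynomial.pderiv_X_self, mul_one] at h2
        have h3 : algebraMap P k (a i hi) = 0 := by rw [eq_zero_of_pow_eq_zero h2, map_zero]
        rw [ha i hi, Algebra.smul_def, mul_eq_zero] at h3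
        exact h3.resolve_left ((map_ne_zero_iff _ (IsFractionRing.injective P k)).mpr (nonZeroDivisors.ne_zero hD))
      · intro j _ hne
        rw [MvPolynomial.pderiv_mul, hpd, zero_mul, zero_add,
          MvPolynomial.pderiv_X_of_ne (fun h => hne (Subtype.ext h)), mul_zero]
      · exact fun h => absurd (Finset.mem_attach _ _) h
    haveI := hfin
    exact not_finite_iff_infinite.mpr inferInstance hv.finite
end Groth.Agent.S19489
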