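import Groth.Statements.S19492
import Groth.Agent.CAlgSmall.ProjMore
import Groth.Agent.RelVALib.Finite
import Groth.Agent.VarietyLib.CurveCompletion
import Groth.Agent.RDPChain13.ReducedNormalization
import Groth.Agent.REqLib17.Line

set_option autoImplicit false
set_option backward.isDefEq.respectTransparency.types false
set_option linter.style.haveILetI false
set_option linter.unusedVariables false
set_option maxHeartbeats 1000000
universe u
open CategoryTheory AlgebraicGeometry
open Variety

namespace Groth.Agent.S19492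

/-- Over an algebraically closed field k, let X be an irreducible affine variety (an integral affine
k-scheme of finite type). Then X is an open subvariety of an irreducible projective variety: there
are an integral k-scheme Y admitting a closed immersion over k into a projective space Pⁿ_k and an
open immersion j : X → Y over k. If X is normal (every local ring an integrally closed domain), then
Y can be chosen normal as well. -/
theorem result (k : Type u) [Field k]
    [IsAlgClosed k] (X : Scheme.{u}) (f : X ⟶ Spec (CommRingCat.of k)) [IsAffine X]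
    [AlgebraicGeometry.IsIntegral X] [LocallyOfFiniteType f] :
    ∃ (Y : Scheme.{u}) (g : Y ⟶ Spec (CommRingCat.of k)) (n : ℕ) (c : Y ⟶ CohB1.ProjSpace n k)
      (j : X ⟶ Y), AlgebraicGeometry.IsIntegral Y ∧ IsClosedImmersion c ∧
      c ≫ CohB1.ProjSpace.toSpec n k = g ∧ IsOpenImmersion j ∧ j ≫ g = f ∧
      (Pi1.IsNormalScheme X → Pi1.IsNormalScheme Y) := by
  open Groth.Agent in
  classical
  haveI : IsAffineHom f := inferInstance
  haveI : QuasiCompact f := inferInstance
  have hqp : RelProj.IsQuasiProjective f :=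
    ⟨inferInstance, inferInstance, _, RelVALib.isRelAmple_of_isRelVeryAmple f
      (RelVALib.isRelVeryAmple_of_isAffineHom f (AmpleLib.isInvertible_structureModule (X := X)))⟩
  obtain ⟨X', j₀, g₀, hj₀, hg₀, hfac⟩ := CAlgSmall.ProjMore.exists_openImmersion_projective f hqp
  haveI := hj₀
  haveI : IsProper g₀ := RelVALib.isProper_of_isProjective hg₀
  haveI : QuasiCompact (j₀ ≫ g₀) := by rw [hfac]; infer_instance
  haveI : QuasiCompact j₀ := QuasiCompact.of_comp j₀ g₀
  haveI : IsReduced j₀.image := Coherent.isReduced_image j₀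
  let Y₁ : Scheme.{u} := j₀.image
  let j₁ : X ⟶ Y₁ := j₀.toImage
  haveI : IsOpenImmersion j₁ := inferInstanceAs (IsOpenImmersion j₀.toImage)
  have hirr : IrreducibleSpace Y₁ := by
    have h1 : _root_.IsPreirreducible (Set.univ : Set Y₁) := by
      show _root_.IsPreirreducible (Set.univ : Set j₀.image)
      rw [← (j₀.toImage.denseRange).closure_range, ← Set.image_univ]
      exact ((IrreducibleSpace.isIrreducible_univ _).2.image j₀.toImage
        j₀.toImage.continuous.continuousOn).closure
    exact { toPreirreducibleSpace := ⟨h1⟩, toNonempty := ⟨j₀.toImage (genericPoint X)⟩ }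
  haveI : AlgebraicGeometry.IsIntegral Y₁ := isIntegral_of_irreducibleSpace_of_isReduced _
  let s₁ : Y₁ ⟶ Spec (CommRingCat.of k) := j₀.imageι ≫ g₀
  have hs₁ : RelProj.IsProjective s₁ :=
    CAlgSmall.ProjMore.isProjective_comp j₀.imageι g₀ (RelVALib.isProjective_of_isFinite j₀.imageι) hg₀
  haveI : IsProper s₁ := RelVALib.isProper_of_isProjective hs₁
  have hfac₁ : j₁ ≫ s₁ = f := by
    show j₀.toImage ≫ j₀.imageι ≫ g₀ = f
    rw [Scheme.Hom.toImage_imageι_assoc, hfac]
  have fin : ∀ (Y : Scheme.{u}) (s : Y ⟶ Spec (CommRingCat.of k)), RelProj.IsProjective s →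
      ∃ (n : ℕ) (c : Y ⟶ CohB1.ProjSpace n k), IsClosedImmersion c ∧ c ≫ CohB1.ProjSpace.toSpec n k = s := by
    intro Y s hs
    obtain ⟨n, i, hi, his⟩ := (RelVALib.isProjective_iff_isHProjective
      (AmpleLib.isAmple_of_isQuasiAffine (AmpleLib.isInvertible_structureModule (X := Spec (CommRingCat.of k)))) s).1 hs
    obtain ⟨e, he⟩ := REqLib17.exists_projOverIso n k
    haveI := hi
    exact ⟨n, i ≫ e.hom, inferInstance, by rw [Category.assoc, he, his]⟩
  by_cases hn : Pi1.IsNormalScheme X
  · haveI : Y₁.IsSeparated :=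
      ⟨by rw [← Subsingleton.elim (s₁ ≫ Limits.terminal.from _) (Limits.terminal.from Y₁)]; infer_instance⟩
    let g : Spec (CommRingCat.of Y₁.functionField) ⟶ Y₁ := Y₁.fromSpecStalk (genericPoint Y₁)
    haveI : QuasiCompact g := inferInstance
    haveI : QuasiSeparated g := inferInstance
    haveI : QuasiCompact (Y₁.fromSpecStalk (genericPoint Y₁)) := inferInstanceAs (QuasiCompact g)
    haveI : QuasiSeparated (Y₁.fromSpecStalk (genericPoint Y₁)) := inferInstanceAs (QuasiSeparated g)
    have hgid : g = Spec.map (CommRingCat.ofHom (RingHom.id Y₁.functionField)) ≫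
        Y₁.fromSpecStalk (genericPoint Y₁) := by
      rw [show CommRingCat.ofHom (RingHom.id Y₁.functionField) = 𝟙 _ from rfl, Spec.map_id, Category.id_comp]
    haveI : IsFinite g.fromNormalization :=
      NormalizationLib.isFinite_fromNormalization (RingHom.id _) g hgid k s₁ (RingHom.Finite.id _)
    have hN : Pi1.IsNormalScheme g.normalization := NormalizationLib.isNormal (RingHom.id _) g hgid
    let V : Y₁.Opens := j₁.opensRange
    have hV : ∀ y ∈ V, IsDomain (Y₁.presheaf.stalk y) ∧ IsIntegrallyClosed (Y₁.presheaf.stalk y) := by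
      rintro _ ⟨x, rfl⟩
      obtain ⟨hd, hi⟩ := hn x
      let e := (asIso (j₁.stalkMap x)).commRingCatIsoToRingEquiv
      exact ⟨e.toMulEquiv.isDomain _, IsIntegrallyClosed.of_equiv e.symm⟩
    have hiso : IsIso (g.fromNormalization ∣_ V) :=
      RDPChain13.isIso_normalizationι_over_normal Y₁ V hV
    let j : X ⟶ g.normalization :=
      j₁.isoOpensRange.hom ≫ inv (g.fromNormalization ∣_ V) ≫ (g.fromNormalization ⁻¹ᵁ V).ι
    have hj : j ≫ g.fromNormalization = j₁ := by
      show (j₁.isoOpensRange.hom ≫ inv (g.fromNormalization ∣_ V) ≫ (g.fromNormalization ⁻¹ᵁ V).ι) ≫ _ = _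
      rw [Category.assoc, Category.assoc, ← morphismRestrict_ι, IsIso.inv_hom_id_assoc,
        Scheme.Hom.isoOpensRange_hom_ι]
    obtain ⟨n, c, hc, hcs⟩ := fin _ (g.fromNormalization ≫ s₁)
      (CAlgSmall.ProjMore.isProjective_comp g.fromNormalization s₁ (RelVALib.isProjective_of_isFinite _) hs₁)
    exact ⟨g.normalization, g.fromNormalization ≫ s₁, n, c, j, inferInstance, hc, hcs, inferInstance,
      by rw [← Category.assoc, hj, hfac₁], fun _ => hN⟩
  · obtain ⟨n, c, hc, hcs⟩ := fin Y₁ s₁ hs₁
    exact ⟨Y₁, s₁, n, c, j₁, inferInstance, hc, hcs, inferInstance, hfac₁, fun h => absurd h hn⟩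

end Groth.Agent.S19492
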