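import Groth.Statements.S19493
import Groth.Agent.Et18.STDomFlat
-- import your own Groth.Agent.* helpers here

set_option autoImplicit false
universe u
open CategoryTheory AlgebraicGeometry
open EtHull

namespace Groth.Agent.S19493

/-- Let f : S' → S be a morphism of locally Noetherian schemes which is integral, radicial (universally
injective) and surjective, and which matches embedded points: a point s' of S' is an embedded
associated point of O_{S'} (an associated point that is a proper specialization of another
associated point) if and only if f(s') is an embedded associated point of O_S. Let a : X → S be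
faithfully flat, g : E → S étale and u : X → E a morphism with u ≫ g = a, so that X → E → S is a
factorization of a through an étale S-scheme. Let E' → S' be the base change of g along f, with
projection φ : E' → E, and u' : X' → E' the base change of u along φ (so X' = X ×_S S'). Then u is
scheme-theoretically dominant if and only if u' is. (The source allows algebraic spaces; schemes
here.) -/
theorem result {X E S S' E' X' : Scheme.{u}}
    [IsLocallyNoetherian S] [IsLocallyNoetherian S'] (f : S' ⟶ S) [IsIntegralHom f]
    [UniversallyInjective f] [Surjective f]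
    (hemb : ∀ s' : S', (s' ∈ AssSch.Ass (Coh.structureModule S') ∧ ∃ t ∈ AssSch.Ass (Coh.structureModule S'), t ⤳ s' ∧ t ≠ s') ↔
      (f.base s' ∈ AssSch.Ass (Coh.structureModule S) ∧ ∃ t ∈ AssSch.Ass (Coh.structureModule S), t ⤳ f.base s' ∧ t ≠ f.base s'))
    (a : X ⟶ S) [Flat a] [Surjective a] (g : E ⟶ S) [Etale g] (u : X ⟶ E) (hu : u ≫ g = a)
    (g' : E' ⟶ S') (φ : E' ⟶ E) (hE : IsPullback φ g' g f)
    (u' : X' ⟶ E') (ψ : X' ⟶ X) (hX : IsPullback ψ u' u φ) :
    IsSchemeTheoreticallyDominant u ↔ IsSchemeTheoreticallyDominant u' := by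
  haveI hge : Etale g' := MorphismProperty.of_isPullback (P := @Etale) hE ‹Etale g›
  haveI : IsIntegralHom φ := MorphismProperty.of_isPullback (P := @IsIntegralHom) hE.flip ‹IsIntegralHom f›
  haveI : LocallyOfFiniteType g := inferInstance
  haveI : IsLocallyNoetherian E := LocallyOfFiniteType.isLocallyNoetherian g
  haveI : IsLocallyNoetherian E' := LocallyOfFiniteType.isLocallyNoetherian g'
  let σ : X ⟶ CategoryTheory.Limits.pullback a g := CategoryTheory.Limits.pullback.lift (𝟙 X) u (by rw [Category.id_comp, hu])
  haveI hσ : Etale σ := by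
    haveI : Etale (σ ≫ CategoryTheory.Limits.pullback.fst a g) := by
      rw [CategoryTheory.Limits.pullback.lift_fst]; infer_instance
    exact Etale.of_comp σ (CategoryTheory.Limits.pullback.fst a g)
  haveI : Flat u := by
    rw [← CategoryTheory.Limits.pullback.lift_snd (𝟙 X) u (by rw [Category.id_comp, hu] : (𝟙 X) ≫ a = u ≫ g)]
    exact MorphismProperty.comp_mem _ σ _ inferInstance inferInstance
  haveI : Flat u' := MorphismProperty.of_isPullback (P := @Flat) hX ‹Flat u›
  have hr : ∀ e' : E', e' ∈ Set.range u' ↔ φ e' ∈ Set.range u := fun e' => by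
    constructor
    · rintro ⟨z, rfl⟩
      refine ⟨ψ z, ?_⟩
      rw [← Scheme.Hom.comp_apply, hX.w, Scheme.Hom.comp_apply]
    · rintro ⟨x, hx⟩
      obtain ⟨z, -, hz⟩ := Scheme.exists_preimage_of_isPullback hX x e' hx
      exact ⟨z, hz⟩
  rw [Groth.Agent.Et18.STDomFlat.isSTD_iff_ass_subset u, Groth.Agent.Et18.STDomFlat.isSTD_iff_ass_subset u']
  have hass : ∀ e' : E', e' ∈ AssSch.Ass (Coh.structureModule E') ↔ φ e' ∈ AssSch.Ass (Coh.structureModule E) := fun e' => by
    rw [Groth.Agent.Et18.STDomFlat.mem_ass_iff_of_etale g' e', Groth.Agent.Et18.STDomFlat.mem_ass_iff_of_etale g (φ e'),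
      Groth.Agent.Et18.STDomFlat.mem_ass_iff_of_homeomorph f hemb (g' e')]
    have h : f (g' e') = g (φ e') := by rw [← Scheme.Hom.comp_apply, ← hE.w, Scheme.Hom.comp_apply]
    rw [h]
  constructor
  · exact fun h e' he => (hr e').2 (h ((hass e').1 he))
  · intro h e he
    haveI : Surjective φ := MorphismProperty.of_isPullback (P := @Surjective) hE.flip ‹Surjective f›
    obtain ⟨e', rfl⟩ := φ.surjective e
    exact (hr e').1 (h ((hass e').2 he))

end Groth.Agent.S19493
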