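import Groth.Statements.S19499
import Groth.Agent.DefSp24.Centre
-- import your own Groth.Agent.* helpers here

set_option autoImplicit false
universe u
open CategoryTheory CategoryTheory.Limits AlgebraicGeometry
open IntTh

set_option backward.isDefEq.respectTransparency.types false
namespace Groth.Agent.S19499

/-- Formation of M commutes with base change: let f : X ⟶ S be locally projective, flat, surjective and
locally of finite presentation, with every fibre of local dimension n at each of its points, and let
i : Y ⟶ X be a closed immersion that is regular of constant codimension c ≤ n (locally cut out by a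
regular sequence of length c) such that Y ⟶ S is again locally projective, flat, surjective and
locally of finite presentation with fibres of local dimension n − c everywhere. Let b : M ⟶ P¹_X be
a blowing-up of P¹_X in the closed subscheme Y × {∞} (the image of Y under the section at infinity),
given through its universal property. Let S' ⟶ S be any morphism, X' = X ×_S S' and Y' = Y ×_S S'
the base changes with the induced closed immersion i' : Y' ⟶ X', and M' = M ×_{P¹_X} P¹_{X'} with
projection b' : M' ⟶ P¹_{X'} (so M' = M ×_S S'). Then b' is a blowing-up of P¹_{X'} in Y' × {∞}: the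
formation of the deformation to the normal cone commutes with arbitrary base change on S. -/
theorem result
    {S S' X X' Y Y' M M' : Scheme.{u}} (f : X ⟶ S) (n c : ℕ) (hc : c ≤ n)
    (hfproj : RedSub.IsLocallyProjective (Over.mk f))
    [Flat f] [Surjective f] [LocallyOfFinitePresentation f]
    (hfdim : ∀ x : ↥X, FlatMor.fibreDimAt f x = n)
    (i : Y ⟶ X) [IsClosedImmersion i]
    (hi : RegImm.IsRegularImmersionOfCodim RegImm.Kind.regular c i)
    (hgproj : RedSub.IsLocallyProjective (Over.mk (i ≫ f)))
    [Flat (i ≫ f)] [Surjective (i ≫ f)] [LocallyOfFinitePresentation (i ≫ f)]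
    (hgdim : ∀ y : ↥Y, FlatMor.fibreDimAt (i ≫ f) y = ((n - c : ℕ) : WithBot ℕ∞))
    (b : M ⟶ CohB1.ProjSpaceOver 1 X)
    (hb : BlowUp.IsBlowUp b (i ≫ P1.sect X 1).ker)
    (h : S' ⟶ S) (f' : X' ⟶ S') (g : X' ⟶ X) (hX : IsPullback g f' f h)
    (i' : Y' ⟶ X') (gY : Y' ⟶ Y) (hY : IsPullback gY i' i g)
    (b' : M' ⟶ CohB1.ProjSpaceOver 1 X') (μ : M' ⟶ M) (hM : IsPullback μ b' b (P1.toP1 g)) :
    BlowUp.IsBlowUp b' (i' ≫ P1.sect X' 1).ker := by
  exact Groth.Agent.DefSp24.isBlowUp_baseChange f i hi b hb h f' g hX i' gY hY b' μ hM

end Groth.Agent.S19499
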