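import Groth.Statements.S1950
import Groth.Agent.CycLib28.ProjFormula

set_option autoImplicit false
universe u
open CategoryTheory CategoryTheory.Limits AlgebraicGeometry
attribute [local instance] HasDerivedCategory.standard
open IntMult

namespace Groth.Agent.S1950

/-- Let f : X → Y be proper and flat, where X and Y are nonsingular varieties over K of dimensions n and
m, e = n − m, α an r-cycle on X and β an s-cycle on Y such that α and f^*β intersect properly. The
pushforward f_*α then meets β properly, and on Y the cycle f_*α · β equals f_*(α · f^*β) (flat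
pullback and products taken coefficientwise; f_* is Mathlib's pushforward, applied to any cycle with
the coefficients of α · f^*β). Here X is a nonsingular variety over the algebraically closed field K
(smooth, separated, quasi-compact, integral) with dimension function δ (transcendence degree) and n
= dim X; cycles are Mathlib AlgebraicCycles with Cyc.Zk membership, proper intersection is
IntMult.IntersectProperly and α · β is the Tor-formula intersection product on coefficient functions
(IntMult.interProd), bundled where needed as 'any cycle with these coefficients'. -/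
theorem result (K : Type u) [Field K] [IsAlgClosed K] (X Y : Scheme.{u}) (f : X ⟶ Y) (gX : X ⟶ Spec (CommRingCat.of K)) (gY : Y ⟶ Spec (CommRingCat.of K)) (hf : f ≫ gY = gX) [Smooth gX] [IsSeparated gX] [QuasiCompact gX] [IsIntegral X] [Smooth gY] [IsSeparated gY] [QuasiCompact gY] [IsIntegral Y] [Flat f] [IsProper f] (δX : X → ℤ) (δY : Y → ℤ) (hX : Cyc.IsSetup X δX) (hY : Cyc.IsSetup Y δY) (hδX : Cyc.DeltaCompat gX δX (fun _ => 0)) (hδY : Cyc.DeltaCompat gY δY (fun _ => 0)) (hδ : Cyc.DeltaCompat f δX δY) (n m : ℤ) (hn : δX (genericPoint X) = n) (hm : δY (genericPoint Y) = m) (e : ℕ) (he : (e : ℤ) = n - m) (hrel : Cyc.HasRelDim f e) (r s : ℤ) (α : AlgebraicCycle X ℤ) (β : AlgebraicCycle Y ℤ) (hα : α ∈ Cyc.Zk X δX r) (hβ : β ∈ Cyc.Zk Y δY s) (hprop : IntMult.IntersectProperly δX n ⇑α (Cyc.pullFun f δX δY e ⇑β)) (γ : AlgebraicCycle X ℤ) (hγ : ⇑γ = IntMult.interProd δX n ⇑α (Cyc.pullFun f δX δY e ⇑β)) : IntMult.IntersectProperly δY m ⇑(AlgebraicCycle.map f δX δY α) ⇑β ∧ IntMult.interProd δY m ⇑(AlgebraicCycle.map f δX δY α) ⇑β = ⇑(AlgebraicCycle.map f δX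 δY γ) := by
  exact Groth.Agent.CycLib28.InterSheaf.proj_formula K f gX gY hX hY hδX hδY hδ hn hm he
    (fun x => Groth.Agent.CycLib28.delta_of_hasRelDim f hrel hδ x) r s α β hα hβ hprop γ hγ
end Groth.Agent.S1950
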