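import Groth.Statements.S19501
import Groth.Agent.ProdCl28.Main

set_option autoImplicit false
set_option linter.style.haveILetI false
set_option backward.isDefEq.respectTransparency false
universe u
open CategoryTheory MonoidalCategory CartesianMonoidalCategory AlgebraicGeometry CategoryTheory.Limits
open Cyc

namespace Groth.Agent.S19501

/-- Over an algebraically closed field k, let X and Y be normal irreducible varieties (integral normal
separated k-schemes of finite type) and assume X rational: some nonempty open subscheme of X is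
isomorphic over k to an open subscheme of an affine space 𝔸ⁿ_k. Fix dimension functions δX, δY, δP
on X, Y and P = X ×_k Y (each scheme locally Noetherian with universally catenary local rings), with
δP induced from δX along the first projection and from δY along the second, and generic points ηX,
ηY, ηP; write dX = δX(ηX), dY = δY(ηY), dP = δP(ηP), so that codimension-one cycles are the (d −
1)-cycles and the projections are flat of relative δ-dimensions dP − dX and dP − dY. Then the map
(α, β) ↦ p₁^*α + p₂^*β from Cl(X) × Cl(Y) to Cl(X × Y) is bijective: (surjectivity) every (dP −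
1)-cycle γ on P is rationally equivalent to a cycle with coefficient function p₁^*α + p₂^*β for some
(dX − 1)-cycle α on X and (dY − 1)-cycle β on Y; (injectivity) if such a cycle p₁^*α + p₂^*β is
rationally equivalent to zero then α and β are rationally equivalent to zero. -/
theorem result (k : Type u) [Field k] [IsAlgClosed k]
    (X Y : Over (Spec (CommRingCat.of k))) [AlgebraicGeometry.IsIntegral X.left] [IsSeparated X.hom]
    [LocallyOfFiniteType X.hom] [QuasiCompact X.hom]
    [AlgebraicGeometry.IsIntegral Y.left] [IsSeparated Y.hom] [LocallyOfFiniteType Y.hom] [QuasiCompact Y.hom]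
    (hX : Pi1.IsNormalScheme X.left) (hY : Pi1.IsNormalScheme Y.left)
    (hrat : ∃ (U : X.left.Opens) (n : ℕ) (V : (𝔸(ULift.{u} (Fin n); Spec (CommRingCat.of k))).Opens)
      (e : (U : Scheme.{u}) ≅ (V : Scheme.{u})), (U : Set ↥X.left).Nonempty ∧
        e.hom ≫ V.ι ≫ (𝔸(ULift.{u} (Fin n); Spec (CommRingCat.of k)) ↘ Spec (CommRingCat.of k)) = U.ι ≫ X.hom)
    (δX : ↥X.left → ℤ) (δY : ↥Y.left → ℤ) (δP : ↥(X ⊗ Y).left → ℤ)
    (hsX : Cyc.IsSetup X.left δX) (hsY : Cyc.IsSetup Y.left δY) (hsP : Cyc.IsSetup (X ⊗ Y).left δP)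
    (hc₁ : Cyc.DeltaCompat (fst X Y).left δP δX) (hc₂ : Cyc.DeltaCompat (snd X Y).left δP δY)
    (ηX : ↥X.left) (ηY : ↥Y.left) (ηP : ↥(X ⊗ Y).left)
    (hηX : closure ({ηX} : Set ↥X.left) = Set.univ) (hηY : closure ({ηY} : Set ↥Y.left) = Set.univ)
    (hηP : closure ({ηP} : Set ↥(X ⊗ Y).left) = Set.univ) :
    (∀ γ ∈ Cyc.Zk (X ⊗ Y).left δP (δP ηP - 1),
      ∃ α ∈ Cyc.Zk X.left δX (δX ηX - 1), ∃ β ∈ Cyc.Zk Y.left δY (δY ηY - 1),
        ∃ γ' : AlgebraicCycle (X ⊗ Y).left ℤ,
          (∀ z, γ' z = Cyc.pullFun (fst X Y).left δP δX (δP ηP - δX ηX) α z +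
            Cyc.pullFun (snd X Y).left δP δY (δP ηP - δY ηY) β z) ∧
          Cyc.RatEquiv δP (δP ηP - 1) γ γ') ∧
    (∀ α ∈ Cyc.Zk X.left δX (δX ηX - 1), ∀ β ∈ Cyc.Zk Y.left δY (δY ηY - 1),
      ∀ γ' : AlgebraicCycle (X ⊗ Y).left ℤ,
        (∀ z, γ' z = Cyc.pullFun (fst X Y).left δP δX (δP ηP - δX ηX) α z +
            Cyc.pullFun (snd X Y).left δP δY (δP ηP - δY ηY) β z) →
        Cyc.RatEquivZero δP (δP ηP - 1) γ' →
        Cyc.RatEquivZero δX (δX ηX - 1) α ∧ Cyc.RatEquivZero δY (δY ηY - 1) β) := by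
  exact Groth.Agent.ProdCl28.main k X.hom Y.hom hX hY hrat hsX hsY hsP hc₂ ηX ηY ηP hηX hηY hηP

end Groth.Agent.S19501
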