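import Groth.Statements.S19502
import Mathlib
import Groth.Prelude

set_option linter.all false

set_option autoImplicit false
universe u
open W4c3ghconstell

open TensorProduct

namespace Groth.Agent.S19502

/-- Let ι index the irreducible representations, θ : ι → ℚ a weight which is negative exactly on the
finite set D₋, h h' : ι → ℕ with h' ≤ h pointwise (the isotypic dimensions of an object and of a
sub-object) and Σ_i θ_i h_i summable. For a finite set D of indices put S_D = Σ_{i ∉ D} θ_i h_i, d =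
#(D ∖ D₋) and θ̃_D = Σ_{i ∈ D} θ_i h'_i + (S_D / d) · Σ_{i ∈ D ∖ D₋} h'_i / h_i, the modified weight
attached to the parameters chosen for D (a quotient by zero is read as zero). Then for finite sets
D₋ ⊆ D ⊆ D̃ contained in the locus θ ≠ 0: (first error term) θ̃_{D̃} − θ̃_D = Σ_{τ ∈ D̃ ∖ D} (θ_τ
h_τ + S_{D̃}/d̃) · (h'_τ/h_τ − (1/d) Σ_{σ ∈ D ∖ D₋} h'_σ/h_σ); (second error term) Σ_i θ_i h'_i −
θ̃_D = Σ_{τ ∉ D} θ_τ h_τ · (h'_τ/h_τ − (1/d) Σ_{σ ∈ D ∖ D₋} h'_σ/h_σ). -/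
theorem result {ι : Type u} [DecidableEq ι]
    (θ : ι → ℚ) (h h' : ι → ℕ) (hle : ∀ i, h' i ≤ h i) (hfin : {i | θ i < 0}.Finite)
    (hsum : Summable (fun i => (θ i : ℝ) * (h i : ℝ))) (D D' : Finset ι)
    (hDm : hfin.toFinset ⊆ D) (hDD' : D ⊆ D') (hsupp : ∀ i ∈ D', θ i ≠ 0) :
    (((∑ i ∈ D', (θ i : ℝ) * (h' i : ℝ)) + ((∑' i, if i ∈ D' then (0 : ℝ) else (θ i : ℝ) * (h i : ℝ)) / ((D' \ hfin.toFinset).card : ℝ)) * (∑ σ ∈ D' \ hfin.toFinset, ((h' σ : ℝ) / (h σ : ℝ)))) - ((∑ i ∈ D, (θ i : ℝ) * (h' i : ℝ)) + ((∑' i, if i ∈ D then (0 : ℝ) else (θ i : ℝ) * (h i : ℝ)) / ((D \ hfin.toFinset).card : ℝ)) * (∑ σ ∈ D \ hfin.toFinset, ((h' σ : ℝ) / (h σ : ℝ)))) =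
      ∑ τ ∈ D' \ D, ((θ τ : ℝ) * (h τ : ℝ) + (∑' i, if i ∈ D' then (0 : ℝ) else (θ i : ℝ) * (h i : ℝ)) / ((D' \ hfin.toFinset).card : ℝ)) *
        (((h' τ : ℝ) / (h τ : ℝ)) - (1 / ((D \ hfin.toFinset).card : ℝ)) * (∑ σ ∈ D \ hfin.toFinset, ((h' σ : ℝ) / (h σ : ℝ))))) ∧
    ((∑' i, (θ i : ℝ) * (h' i : ℝ)) - ((∑ i ∈ D, (θ i : ℝ) * (h' i : ℝ)) + ((∑' i, if i ∈ D then (0 : ℝ) else (θ i : ℝ) * (h i : ℝ)) / ((D \ hfin.toFinset).card : ℝ)) * (∑ σ ∈ D \ hfin.toFinset, ((h' σ : ℝ) / (h σ : ℝ)))) =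
      ∑' τ, if τ ∈ D then (0 : ℝ) else (θ τ : ℝ) * (h τ : ℝ) *
        (((h' τ : ℝ) / (h τ : ℝ)) - (1 / ((D \ hfin.toFinset).card : ℝ)) * (∑ σ ∈ D \ hfin.toFinset, ((h' σ : ℝ) / (h σ : ℝ))))) := by
  classical
  let N := hfin.toFinset
  let a : ι → ℝ := fun i => (θ i : ℝ) * (h i : ℝ)
  let b : ι → ℝ := fun i => (θ i : ℝ) * (h' i : ℝ)
  let ρ : ι → ℝ := fun i => (h' i : ℝ) / (h i : ℝ)
  have hb : ∀ i, b i = a i * ρ i := fun i => by
    rcases Nat.eq_zero_or_pos (h i) with h0 | h0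
    · simp [a, b, ρ, h0, Nat.le_zero.1 (h0 ▸ hle i)]
    · have : (h i : ℝ) ≠ 0 := Nat.cast_ne_zero.2 h0.ne'
      simp [a, b, ρ]; field_simp
  have hρ : ∀ i, |ρ i| ≤ 1 := fun i => by
    rw [abs_of_nonneg (by positivity)]
    exact div_le_one_of_le₀ (by exact_mod_cast hle i) (by positivity)
  have hsb : Summable b := by
    refine Summable.of_norm_bounded (g := fun i => ‖a i‖) hsum.norm fun i => ?_
    rw [hb, norm_mul]
    exact mul_le_of_le_one_right (norm_nonneg _) (hρ i)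
  have hs0 : ∀ (F : Finset ι) (f : ι → ℝ), Summable f → Summable (fun i => if i ∈ F then (0 : ℝ) else f i) := fun F f hf => by
    refine hf.congr_cofinite ?_
    filter_upwards [F.finite_toSet.compl_mem_cofinite] with i hi
    simp [show i ∉ F from hi]
  have hsplit : ∀ (F : Finset ι) (f : ι → ℝ), Summable f → ∑' i, f i = ∑ i ∈ F, f i + ∑' i, if i ∈ F then (0 : ℝ) else f i := by
    intro F f hf
    have h1 : Summable (fun i => if i ∈ F then f i else 0) := summable_of_ne_finset_zero (s := F) fun i hi => by simp [hi]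
    have h2 := Summable.tsum_add h1 (hs0 F f hf)
    rw [show (∑' i, if i ∈ F then f i else (0 : ℝ)) = ∑ i ∈ F, if i ∈ F then f i else 0 from tsum_eq_sum (s := F) (fun i hi => by simp [hi])] at h2
    rw [show ∑ i ∈ F, f i = ∑ i ∈ F, if i ∈ F then f i else 0 from Finset.sum_congr rfl fun i hi => by simp [hi], ← h2]
    exact tsum_congr fun i => by split_ifs <;> simp
  constructor
  · have hE : Disjoint (D \ N) (D' \ D) := Finset.disjoint_left.2 fun i h1 h2 => (Finset.mem_sdiff.1 h2).2 (Finset.mem_sdiff.1 h1).1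
    have hu : D' \ N = (D \ N) ∪ (D' \ D) := by
      ext i
      simp only [Finset.mem_union, Finset.mem_sdiff]
      constructor
      · rintro ⟨h1, h2⟩; by_cases h3 : i ∈ D
        · exact Or.inl ⟨h3, h2⟩
        · exact Or.inr ⟨h1, h3⟩
      · rintro (⟨h1, h2⟩ | ⟨h1, h2⟩)
        · exact ⟨hDD' h1, h2⟩
        · exact ⟨h1, fun h => h2 (hDm h)⟩
    have hbsum : ∑ i ∈ D', b i = ∑ i ∈ D, b i + ∑ i ∈ D' \ D, b i := by
      rw [← Finset.sum_union (Finset.disjoint_sdiff), Finset.union_sdiff_of_subset hDD']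
    have hS : (∑' i, if i ∈ D then (0 : ℝ) else a i) = ∑ i ∈ D' \ D, a i + ∑' i, if i ∈ D' then (0 : ℝ) else a i := by
      have h1 := hsplit D a hsum
      have h2 := hsplit D' a hsum
      have h3 : ∑ i ∈ D', a i = ∑ i ∈ D, a i + ∑ i ∈ D' \ D, a i := by
        rw [← Finset.sum_union (Finset.disjoint_sdiff), Finset.union_sdiff_of_subset hDD']
      linarith
    show (∑ i ∈ D', b i + _ / _ * ∑ σ ∈ D' \ N, ρ σ) - (∑ i ∈ D, b i + (∑' i, if i ∈ D then (0 : ℝ) else a i) / _ * ∑ σ ∈ D \ N, ρ σ) =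
      ∑ τ ∈ D' \ D, (a τ + (∑' i, if i ∈ D' then (0 : ℝ) else a i) / _) * (ρ τ - _ * ∑ σ ∈ D \ N, ρ σ)
    rw [hbsum, hS, hu, Finset.sum_union hE, Finset.card_union_of_disjoint hE]
    have hexp : ∀ c k : ℝ, ∑ τ ∈ D' \ D, (a τ + c) * (ρ τ - k) =
        ∑ τ ∈ D' \ D, b τ + c * ∑ τ ∈ D' \ D, ρ τ - k * ∑ τ ∈ D' \ D, a τ - ((D' \ D).card : ℝ) * (c * k) := fun c k => by
      rw [Finset.mul_sum, Finset.mul_sum, ← Finset.sum_add_distrib, ← Finset.sum_sub_distrib,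
        show ((D' \ D).card : ℝ) * (c * k) = ∑ _τ ∈ D' \ D, c * k by simp, ← Finset.sum_sub_distrib]
      exact Finset.sum_congr rfl fun τ _ => by rw [hb]; ring
    rw [hexp]
    generalize (∑ τ ∈ D' \ D, b τ) = B
    generalize (∑ τ ∈ D' \ D, a τ) = A
    generalize (∑ τ ∈ D' \ D, ρ τ) = Q
    generalize (∑' i, if i ∈ D' then (0 : ℝ) else a i) = S
    generalize (∑ τ ∈ D, b τ) = B0
    simp only [show hfin.toFinset = N from rfl]
    rcases Nat.eq_zero_or_pos (D \ N).card with h0 | h0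
    · rw [Finset.card_eq_zero] at h0
      rw [h0]
      simp
      ring
    · have hd : ((D \ N).card : ℝ) ≠ 0 := Nat.cast_ne_zero.2 h0.ne'
      have hd' : ((D \ N).card : ℝ) + ((D' \ D).card : ℝ) ≠ 0 := by positivity
      generalize (∑ τ ∈ D \ N, ρ τ) = R
      push_cast
      field_simp
      ring
  · have key : (fun τ => if τ ∈ D then (0 : ℝ) else a τ * (ρ τ - (1 / ((D \ N).card : ℝ)) * ∑ σ ∈ D \ N, ρ σ)) =
        fun τ => (if τ ∈ D then (0 : ℝ) else b τ) - (if τ ∈ D then (0 : ℝ) else a τ) * ((1 / ((D \ N).card : ℝ)) * ∑ σ ∈ D \ N, ρ σ) := by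
      funext τ; split_ifs <;> simp [hb, mul_sub]
    show ∑' i, b i - (∑ i ∈ D, b i + (∑' i, if i ∈ D then (0 : ℝ) else a i) / _ * ∑ σ ∈ D \ N, ρ σ) = ∑' τ, (fun τ => if τ ∈ D then (0 : ℝ) else a τ * (ρ τ - (1 / ((D \ N).card : ℝ)) * ∑ σ ∈ D \ N, ρ σ)) τ
    rw [key, Summable.tsum_sub (hs0 D b hsb) ((hs0 D a hsum).mul_right _), tsum_mul_right, hsplit D b hsb]
    ring

end Groth.Agent.S19502
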