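import Groth.Statements.S19505
import Groth.Agent.S15075
import Groth.Agent.EulerLib.SlopeBasic
import Groth.Agent.EulerLib.Scalar
import Groth.Agent.SerreDual.Projective

set_option autoImplicit false
universe u
open CategoryTheory CategoryTheory.Limits AlgebraicGeometry TopologicalSpace Opposite
open OrdSurf

set_option backward.isDefEq.respectTransparency false
set_option backward.isDefEq.respectTransparency.types false
open Groth.Agent TopologicalSpace Opposite

namespace Groth.Agent.S19505

open Groth.Agent.EulerLib Groth.Agent.Coherent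

/-- multiplication by a central global function -/
noncomputable def smulA {X : Scheme.{u}} {A : Sheaf (Opens.grothendieckTopology X) RingCat.{u}} (φ : X.ringCatSheaf ⟶ A)
    (hcen : ∀ (U : (Opens X)ᵒᵖ) (s : X.ringCatSheaf.obj.obj U) (a : A.obj.obj U),
      φ.hom.app U s * a = a * φ.hom.app U s)
    (M : SheafOfModules.{u} A) (r : Γ(X, ⊤)) : M ⟶ M :=
  ⟨{ app := fun U => ModuleCat.ofHom
      { toFun := fun m => φ.hom.app U ((X.presheaf.map (homOfLE (le_top (a := U.unop))).op) r) • m
        map_add' := fun m n => smul_add _ m n
        map_smul' := fun a m => by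
          simp only [RingHom.id_apply]
          erw [← mul_smul, hcen, mul_smul] }
     naturality := fun {U V} i => by
      ext m
      show φ.hom.app V ((X.presheaf.map (homOfLE (le_top (a := V.unop))).op) r) • (M.val.map i) m =
        (M.val.map i) (φ.hom.app U ((X.presheaf.map (homOfLE (le_top (a := U.unop))).op) r) • m)
      rw [PresheafOfModules.map_smul]
      congr 1
      erw [← NatTrans.naturality_apply φ.hom i]
      congr 1
      show _ = X.presheaf.map i (X.presheaf.map (homOfLE (le_top (a := U.unop))).op r)
      rw [← CategoryTheory.comp_apply, ← Functor.map_comp]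
      rfl }⟩

/-- Let k be an algebraically closed field of characteristic zero and X a smooth projective surface over
k (an integral k-scheme, smooth over k, of dimension two, admitting a closed immersion over k into
some projective space P^n_k), with generic point η. Let A be a sheaf of rings on X with a morphism φ
: O_X → A of sheaves of rings with central image whose generic stalk A_η is a division ring (simple
as a left module over itself), and let M be a sheaf of A-modules whose underlying O_X-module is
coherent with torsion-free stalks and whose generic stalk M_η is a simple A_η-module. Then M is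
simple in the sense that End_A(M) = k: every endomorphism ψ of the sheaf of A-modules M is
multiplication by a scalar c ∈ k, i.e. on every open U it acts on sections as multiplication by the
image of c in Γ(U, O_X) under the structure map, pushed into A by φ. (The published statement takes
A to be an order on X and M a torsion-free A-module of rank one; only the hypotheses listed are
assumed here, the others playing no role in the argument.) -/
theorem result (k : Type u) [Field k] [IsAlgClosed k] [CharZero k]
    (X : Scheme.{u}) [X.Over (Spec (CommRingCat.of k))] [IsIntegral X]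
    [Smooth (X ↘ Spec (CommRingCat.of k))] (hdim : topologicalKrullDim X = 2)
    (hproj : ∃ (n : ℕ) (ι : X ⟶ CohB1.ProjSpace n k), IsClosedImmersion ι ∧
      ι ≫ CohB1.ProjSpace.toSpec n k = X ↘ Spec (CommRingCat.of k))
    (A : Sheaf (Opens.grothendieckTopology X) RingCat.{u}) (φ : X.ringCatSheaf ⟶ A)
    (hcen : ∀ (U : (Opens X)ᵒᵖ) (s : X.ringCatSheaf.obj.obj U) (a : A.obj.obj U),
      φ.hom.app U s * a = a * φ.hom.app U s)
    (hAη : IsSimpleModule (↑(TopCat.Presheaf.stalk (C := RingCat.{u}) (X := X.carrier) A.obj (genericPoint X))) (↑(TopCat.Presheaf.stalk (C := RingCat.{u}) (X := X.carrier) A.obj (genericPoint X))))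
    (M : SheafOfModules.{u} A)
    (hMc : Coh.IsCoh (X := X) ((SheafOfModules.restrictScalars φ).obj M))
    (hMt : TorSh.IsTorsionFree (X := X) ((SheafOfModules.restrictScalars φ).obj M))
    (hMη : IsSimpleModule (↑(TopCat.Presheaf.stalk (C := RingCat.{u}) (X := X.carrier) A.obj (genericPoint X))) (↑(TopCat.Presheaf.stalk (C := Ab.{u}) (X := X.carrier) M.val.presheaf (genericPoint X))))
    (ψ : M ⟶ M) :
    ∃ c : k, ∀ (U : (Opens X)ᵒᵖ) (m : M.val.obj U),
      (ψ.val.app U).hom m =
        φ.hom.app U ((X.presheaf.map (homOfLE (le_top (a := U.unop))).op)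
          (((X ↘ Spec (CommRingCat.of k)).appTop).hom ((Scheme.ΓSpecIso (CommRingCat.of k)).inv.hom c))) • m := by
  let c' : k → Γ(X, ⊤) := fun c => Coh.toGlobal (X ↘ Spec (CommRingCat.of k)) c
  have hc' : ∀ c, c' c = ((X ↘ Spec (CommRingCat.of k)).appTop).hom ((Scheme.ΓSpecIso (CommRingCat.of k)).inv.hom c) :=
    fun c => rfl
  obtain ⟨n, ι, hι, hιk⟩ := hproj
  haveI := hι
  haveI : IsProper (X ↘ Spec (CommRingCat.of k)) := (SerreDual.isProper_and_ample_of_closedImmersion ι hιk).1
  haveI := isNoetherian_of_proper (X := X) k
  let M₀ : X.Modules := (SheafOfModules.restrictScalars φ).obj M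
  let L := (Scheme.Modules.pullback ι).obj (Twist.twistProjSpace n k 1)
  have hL : CohB1.IsAmple L := AmpleLib.isAmple_pullback_of_isAffineHom ι (SerreDual.isAmple_projSpace_one n k)
  let ψ₀ : M₀ ⟶ M₀ := (SheafOfModules.restrictScalars φ).map ψ
  by_cases h0 : IsZero M₀
  · refine ⟨0, fun U m => ?_⟩
    have e : ∀ z : M₀.val.obj U, z = 0 := fun z => by
      have h1 := congrArg (fun g : M₀ ⟶ M₀ => g.val.app U z) (h0.eq_of_src (𝟙 M₀) 0)
      exact h1
    exact (e _).trans (e _).symm
  obtain ⟨c, hc⟩ := exists_scalar_not_iso k hMc h0 ψ₀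
  refine ⟨c, fun U m => ?_⟩
  by_contra hne
  let χ : M ⟶ M := ψ - smulA φ hcen M (c' c)
  have hχ0 : χ ≠ 0 := fun h => hne (by
    have h1 := congrArg (fun g : M ⟶ M => g.val.app U m) (sub_eq_zero.1 h)
    exact h1)
  haveI : Mono χ := Groth.Agent.S15075.result k X hdim ⟨n, ι, hι, hιk⟩ A φ hcen hAη M M hMc hMc hMt hMt hMη hMη χ hχ0
  have hinj : ∀ V, Function.Injective (χ.val.app V) := fun V => by
    haveI : Mono χ.val := inferInstanceAs (Mono ((SheafOfModules.forget A).map χ))
    exact PresheafOfModules.injective_of_mono χ.val V
  let χ₀ : M₀ ⟶ M₀ := ψ₀ - smulMod M₀ (Coh.toGlobal (X ↘ Spec (CommRingCat.of k)) c)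
  haveI : Mono χ₀ := by
    haveI : Mono χ₀.val := PresheafOfModules.mono_of_injective fun V => by
      intro a b hab
      refine hinj V ?_
      have e : ∀ z : M.val.obj V, ((χ₀.val.app V).hom z : M.val.obj V) = (χ.val.app V).hom z := fun z => rfl
      rwa [e, e] at hab
    exact Functor.mono_of_mono_map (SheafOfModules.forget _) ‹Mono χ₀.val›
  have hK := isCoh_cokernel χ₀ hMc.1 hMc
  have e := hp_ses k hL (shortExact_cokernel χ₀) hMc hMc hK
  haveI : Epi χ₀ := Preadditive.epi_of_isZero_cokernel χ₀
    ((hilb_eq_zero_iff k hL hK (isHilbPoly_hp k hL _ hK)).1 (by linear_combination -e))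
  exact hc (isIso_of_mono_of_epi χ₀)

end Groth.Agent.S19505
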