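import Groth.Statements.S19506
import Groth.Agent.CAlgH.RegularPowerSeries
import Groth.Agent.S9316
-- import your own Groth.Agent.* helpers here

set_option autoImplicit false
universe u
open CAlg

namespace Groth.Agent.S19506

/-- (i) ⇔ (iii): let k be a field and A a complete local Noetherian k-algebra with residue field k (a
k-algebra map π : A → k with kernel the maximal ideal; A complete for the adic topology of its
maximal ideal). Then A is regular if and only if A satisfies the infinitesimal lifting criterion:
for every Artinian local k-algebra R and every ideal J of R of square zero, every local k-algebra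
homomorphism A → R/J (one carrying non-units to non-units) lifts to a k-algebra homomorphism A → R.
(The test algebras R range over one universe, that of A. The published criterion is worded for
arbitrary k-algebra homomorphisms A → R/J; it is stated here for local ones, the case the argument
establishes and the form in which the text itself restates the criterion afterwards. The published
statement lists a third equivalent condition, A ≅ k[[x_1, …, x_d]].) -/
theorem result (k A : Type u) [Field k]
    [CommRing A] [Algebra k A] [IsLocalRing A] [IsNoetherianRing A]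
    [IsAdicComplete (IsLocalRing.maximalIdeal A) A]
    (π : A →ₐ[k] k) (hπ : RingHom.ker π = IsLocalRing.maximalIdeal A) :
    IsRegularLocalRing A ↔
      ∀ (R : Type u) [CommRing R] [Algebra k R] [IsArtinianRing R] [IsLocalRing R] (J : Ideal R),
        J ^ 2 = ⊥ → ∀ f : A →ₐ[k] R ⧸ J, IsLocalHom (f : A →+* R ⧸ J) →
          ∃ g : A →ₐ[k] R, (Ideal.Quotient.mkₐ k J).comp g = f := by
  classical
  constructor
  · intro hreg R _ _ _ _ J hJ f hf
    obtain ⟨d, e, he⟩ := CAlgH.exists_equiv_mvPowerSeries_of_coefficient (algebraMap k A) (fun y => by
      obtain ⟨a, rfl⟩ := IsLocalRing.residue_surjective y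
      refine ⟨π a, ?_⟩
      rw [RingHom.comp_apply]
      refine Ideal.Quotient.eq.mpr ?_
      rw [← hπ, RingHom.mem_ker]
      simp)
    choose a ha using fun i => Ideal.Quotient.mk_surjective (f (e (MvPowerSeries.X i)))
    have ham : ∀ i, a i ∈ IsLocalRing.maximalIdeal R := by
      intro i hu
      have h1 : IsUnit (f (e (MvPowerSeries.X i))) := ha i ▸ hu.map (Ideal.Quotient.mk J)
      have h2 := (hf.map_nonunit _ h1).map e.symm.toRingHom
      simp only [RingEquiv.toRingHom_eq_coe, RingEquiv.coe_toRingHom, e.symm_apply_apply] at h2
      rw [MvPowerSeries.isUnit_iff_constantCoeff] at h2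
      simp at h2
    obtain ⟨N, hN⟩ : IsNilpotent (IsLocalRing.maximalIdeal R) := by
      have := IsArtinianRing.isNilpotent_jacobson_bot (R := R)
      rwa [IsLocalRing.jacobson_eq_maximalIdeal ⊥ bot_ne_top] at this
    haveI := CAlgH.AdicSmooth.isAdicComplete_of_pow_eq_bot (J := IsLocalRing.maximalIdeal R) (show _ = ⊥ from hN)
    obtain ⟨g, hgC, hgX⟩ := CAlgH.exists_mvPowerSeries_eval (algebraMap k R) (IsLocalRing.maximalIdeal R) a ham
    refine ⟨{ g.comp e.symm.toRingHom with commutes' := fun c => ?_ }, ?_⟩
    · show g (e.symm (algebraMap k A c)) = _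
      rw [← he c, e.symm_apply_apply]
      exact RingHom.congr_fun hgC c
    · have key : (Ideal.Quotient.mk J).comp g = (f : A →+* R ⧸ J).comp e.toRingHom := by
        refine CAlgH.AdicSmooth.mvPowerSeries_hom_ext _ _ (RingHom.ext fun c => ?_) (fun i => ?_)
          ((IsLocalRing.maximalIdeal R).map (Ideal.Quotient.mk J)) (fun i => ?_) (N := N)
          (by rw [← Ideal.map_pow, show IsLocalRing.maximalIdeal R ^ N = ⊥ from hN, Ideal.map_bot])
        · simp only [RingHom.comp_apply]
          rw [show g (MvPowerSeries.C c) = algebraMap k R c from RingHom.congr_fun hgC c]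
          show Ideal.Quotient.mk J (algebraMap k R c) = f (e (MvPowerSeries.C c))
          rw [he c, f.commutes]; rfl
        · rw [RingHom.comp_apply, hgX, ha]; rfl
        · rw [RingHom.comp_apply, hgX]
          exact Ideal.mem_map_of_mem _ (ham i)
      refine AlgHom.ext fun x => ?_
      show Ideal.Quotient.mk J (g (e.symm x)) = f x
      have h := RingHom.congr_fun key (e.symm x)
      simp only [RingHom.comp_apply] at h
      rw [h]
      show f (e (e.symm x)) = f x
      rw [e.apply_symm_apply]
  · intro h
    refine CAlgH.AdicSmooth.isRegularLocalRing_of_adicSmooth (k := k) ?_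
    refine Groth.Agent.S9316.result.mpr ?_
    intro R _ _ _ _ _ J hJ _ _ ψ hψ _
    exact h R J hJ ψ hψ

end Groth.Agent.S19506
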