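import Groth.Statements.S19508
import Groth.Agent.AGFImage11.BorelImage
import Groth.Agent.AGFImage11.QuotientBC
import Groth.Agent.Et18.Descent
-- import your own Groth.Agent.* helpers here

set_option autoImplicit false
universe u
open CategoryTheory MonoidalCategory CartesianMonoidalCategory MonObj GrpObj AlgebraicGeometry
open AGF

set_option backward.isDefEq.respectTransparency false
set_option backward.isDefEq.respectTransparency.types false

namespace Groth.Agent.S19508

/-- Let k be a field, G an affine, smooth, connected k-group scheme, P a smooth connected closed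
k-subgroup scheme of G and X = G/P the quotient. Then X is proper over k if and only if, after base
change to an algebraic closure of k (the geometric fibre over the point of Spec k), P contains a
Borel subgroup of G. (Over an algebraically closed field this is the usual characterisation of
parabolic subgroups; the point here is an arbitrary ground field.) -/
theorem result (k : Type u) [Field k]
    (G : Over (Spec (CommRingCat.of k))) [GrpObj G] [IsAffine G.left] [Smooth G.hom] [ConnectedSpace G.left]
    (P : Over (Spec (CommRingCat.of k))) [GrpObj P] (iP : P ⟶ G) [IsMonHom iP] (hcl : IsClosedImmersion iP.left)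
    [Smooth P.hom] [ConnectedSpace P.left]
    (X : Over (Spec (CommRingCat.of k))) (a : AlgGrp.Action G X) (o : 𝟙_ (Over (Spec (CommRingCat.of k))) ⟶ X)
    (hX : AGF.IsQuotient iP X a o) :
    IsProper X.hom ↔ Red.IsParabolic iP := by
  haveI := hcl
  have key : ∀ s : (Spec (CommRingCat.of k) : Scheme.{u}),
      (IsProper X.hom ↔ Red.IsParabolicOver (AlgebraicClosure ((Spec (CommRingCat.of k)).residueField s))
        ((Over.pullback (Red.geomPt s)).map iP)) := fun s => by
    let π := Red.geomPt s
    let F := Over.pullback π
    haveI : IsAffine (F.obj G).left := inferInstanceAs (IsAffine (Limits.pullback G.hom π))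
    haveI : Smooth (F.obj G).hom := inferInstanceAs (Smooth (Limits.pullback.snd G.hom π))
    haveI : Smooth (F.obj P).hom := inferInstanceAs (Smooth (Limits.pullback.snd P.hom π))
    haveI := Groth.Agent.AGFImage11.connectedSpace_pullback (G := G) s
    have hq := Groth.Agent.AGFImage11.isQuotient_bc π iP a o hX
    rw [← Groth.Agent.AGFQuot23.isProper_iff_isParabolicOver
      (Groth.Agent.AGFImage11.isClosedImmersion_map s iP) hq]
    refine ⟨fun h => MorphismProperty.baseChange_obj (P := @IsProper) π X h, fun h => ?_⟩
    haveI := Groth.Agent.Et18.descends_isProper.{u}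
    haveI : Subsingleton (Spec (CommRingCat.of k) : Scheme.{u}) := inferInstanceAs (Subsingleton (PrimeSpectrum k))
    haveI : Flat π := Groth.Agent.AGFImage11.flat_of_field π
    haveI : Surjective π := ⟨fun y => ⟨default, Subsingleton.elim _ _⟩⟩
    exact MorphismProperty.of_pullback_snd_of_descendsAlong (P := @IsProper)
      (Q := Groth.Agent.Et18.FPQC.{u}) (f := X.hom) (g := π)
      ⟨⟨inferInstance, inferInstance⟩, inferInstance⟩ h
  refine ⟨fun h => ⟨inferInstance, hcl, inferInstance, fun s => (key s).1 h⟩, fun h => ?_⟩
  exact (key (IsLocalRing.closedPoint k)).2 (h.2.2.2 _)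

end Groth.Agent.S19508
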