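import Groth.Statements.S19509
import Groth.Agent.AbVarLib.DenseExt
import Groth.Agent.AbVarLib.MulIsogeny
import Groth.Agent.HenselLib.SectionsLift
import Mathlib.RingTheory.Henselian
open CategoryTheory MonoidalCategory CartesianMonoidalCategory MonObj GrpObj

set_option autoImplicit false
universe u
open CategoryTheory MonoidalCategory CartesianMonoidalCategory MonObj GrpObj AlgebraicGeometry
open Neron

namespace Groth.Agent.S19509

/-- Let R be a complete discrete valuation ring whose fraction field K has characteristic zero and whose
residue field k has characteristic p > 0, and let N be a commutative R-group scheme which is a Néron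
model of its generic fibre, an abelian variety over K. Then the torsion of order prime to p of N(R)
= A(K) injects into the special fibre under reduction: a section x with x^n = 1, n ≥ 1 prime to p,
whose value at the closed point of Spec R is the identity point of the special fibre, is the unit
section. -/
theorem result (R : Type u) [CommRing R] [IsDomain R]
    [IsDiscreteValuationRing R] [IsAdicComplete (IsLocalRing.maximalIdeal R) R] (K : Type u) [Field K] [Algebra R K]
    [IsFractionRing R K] [CharZero K] (p : ℕ) [Fact p.Prime] [CharP (IsLocalRing.ResidueField R) p]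
    (N : Over (Spec (CommRingCat.of R))) [GrpObj N] [IsCommMonObj N] (hN : SGA7.IsNeron R K N)
    [IsProper ((SGA7.genFib R K).obj N).hom] [GeometricallyIntegral ((SGA7.genFib R K).obj N).hom]
    (x : 𝟙_ (Over (Spec (CommRingCat.of R))) ⟶ N) (n : ℕ) (hn : 0 < n) (hx : x ^ n = 1)
    (hred : x.left.base (IsLocalRing.closedPoint R) = (η[N]).left.base (IsLocalRing.closedPoint R))
    (hnp : Nat.Coprime n p) : x = 1 := by
  obtain ⟨hs, hsep, hqc, -⟩ := hN
  have : HenselianLocalRing R :=
    { is_henselian := fun f hf a₀ h₁ h₂ => HenselianRing.is_henselian (I := IsLocalRing.maximalIdeal R) f hf a₀ h₁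
        (h₂.map (Ideal.Quotient.mk _)) }
  have hnu : IsUnit ((n : ℤ) : Γ(Spec (CommRingCat.of R), ⊤)) := by
    have hn' : IsUnit (n : R) := by
      rw [← isUnit_map_iff (IsLocalRing.residue R), map_natCast, isUnit_iff_ne_zero, ne_eq,
        CharP.cast_eq_zero_iff _ p]
      exact (Nat.Prime.coprime_iff_not_dvd Fact.out).1 hnp.symm
    have := hn'.map (Scheme.ΓSpecIso (CommRingCat.of R)).inv.hom
    simpa using this
  have het := Groth.Agent.AbVarLib.etale_zpow N (n : ℤ) hnu
  let f := (𝟙 N ^ (n : ℤ) : N ⟶ N)
  let u := (1 : 𝟙_ (Over (Spec (CommRingCat.of R))) ⟶ N)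
  have hp : Etale (Limits.pullback.fst u.left f.left) := MorphismProperty.pullback_fst (P := @Etale) _ _ het
  have hpow : ∀ a : 𝟙_ (Over (Spec (CommRingCat.of R))) ⟶ N, a ^ n = 1 → 𝟙 _ ≫ u.left = a.left ≫ f.left :=
    fun a ha => by
    rw [Category.id_comp, ← Over.comp_left, GrpObj.comp_zpow, Category.comp_id, zpow_natCast, ha]
  have hu1 : (1 : 𝟙_ (Over (Spec (CommRingCat.of R))) ⟶ N) = η[N] := by
    rw [Hom.one_def, toUnit_unique (toUnit (𝟙_ _)) (𝟙 _), Category.id_comp]
  have := Groth.Agent.HenselLib.SectionsLift.section_unique (Limits.pullback.fst u.left f.left)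
    (Limits.pullback.lift _ x.left (hpow x hx)) (Limits.pullback.lift _ u.left (hpow 1 (one_pow n)))
    (Limits.pullback.lift_fst _ _ _) (Limits.pullback.lift_fst _ _ _) (Limits.pullback.hom_ext
      (by rw [Category.assoc, Category.assoc, Limits.pullback.lift_fst, Limits.pullback.lift_fst])
      (by
        rw [Category.assoc, Category.assoc, Limits.pullback.lift_snd, Limits.pullback.lift_snd]
        refine Groth.Agent.AbVarLib.specMap_residue_ext N.hom _ _ ?_ ?_ ?_
        · erw [Category.assoc, Over.w x]; exact Category.comp_id _
        · erw [Category.assoc, Over.w u]; exact Category.comp_id _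
        · rw [Scheme.Hom.comp_apply, Scheme.Hom.comp_apply]
          rw [show Spec.map (CommRingCat.ofHom (IsLocalRing.residue R)) (IsLocalRing.closedPoint _) = IsLocalRing.closedPoint R from IsLocalRing.comap_closedPoint (IsLocalRing.residue R)]
          show x.left.base _ = u.left.base _
          rw [show u = η[N] from hu1]
          exact hred))
  refine Over.OverMorphism.ext ?_
  have h2 := congrArg (fun k => k ≫ Limits.pullback.snd u.left f.left) this
  simpa only [Limits.pullback.lift_snd] using h2

end Groth.Agent.S19509
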