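import Groth.Statements.S1951
import Groth.Agent.S6470
import Groth.Agent.CycLib28.ExtPair
import Groth.Agent.CycLim28.Surj
import Groth.Agent.CycLim28.Main

set_option autoImplicit false
universe u
open CategoryTheory CategoryTheory.Limits AlgebraicGeometry
attribute [local instance] HasDerivedCategory.standard
open IntMult

namespace Groth.Agent.S1951

/-- Let X, Y be nonsingular varieties over K of dimensions n, m, α an r-cycle on X and β an s-cycle on
Y. Then pr_X^*α and pr_Y^*β (flat pullbacks to X ×_K Y, of relative dimensions m and n) intersect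
properly on X ×_K Y and pr_X^*α · pr_Y^*β = α × β as (r + s)-cycles, coefficientwise. Here X is a
nonsingular variety over the algebraically closed field K (smooth, separated, quasi-compact,
integral) with dimension function δ (transcendence degree) and n = dim X; cycles are Mathlib
AlgebraicCycles with Cyc.Zk membership, proper intersection is IntMult.IntersectProperly and α · β
is the Tor-formula intersection product on coefficient functions (IntMult.interProd), bundled where
needed as 'any cycle with these coefficients'. -/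
theorem result (K : Type u) [Field K] [IsAlgClosed K] (X Y : Scheme.{u}) (f : X ⟶ Spec (CommRingCat.of K)) (g : Y ⟶ Spec (CommRingCat.of K)) [Smooth f] [IsSeparated f] [QuasiCompact f] [IsIntegral X] [Smooth g] [IsSeparated g] [QuasiCompact g] [IsIntegral Y] (δX : X → ℤ) (δY : Y → ℤ) (δ : ↥(pullback f g) → ℤ) (hX : Cyc.DeltaCompat f δX (fun _ => 0)) (hY : Cyc.DeltaCompat g δY (fun _ => 0)) (hXY : Cyc.DeltaCompat (pullback.fst f g ≫ f) δ (fun _ => 0)) (n m : ℕ) (hn : δX (genericPoint X) = n) (hm : δY (genericPoint Y) = m) (r s : ℤ) (α : AlgebraicCycle X ℤ) (β : AlgebraicCycle Y ℤ) (hα : α ∈ Cyc.Zk X δX r) (hβ : β ∈ Cyc.Zk Y δY s) : IntMult.IntersectProperly δ (n + m) (Cyc.pullFun (pullback.fst f g) δ δX m ⇑α) (Cyc.pullFun (pullback.snd f g) δ δY n ⇑β) ∧ IntMult.interProd δ (n + m) (Cyc.pullFun (pullback.fst f g) δ δX m ⇑α) (Cyc.pullFun (pullback.snd f g) δ δY n ⇑β) = IntMult.extProd f g δX δY δ ⇑α ⇑β := by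
  classical
  haveI := Groth.Agent.CycLib28.OverField.smooth_product f g
  haveI := Groth.Agent.CycLib28.OverField.isIntegral_product f g
  haveI : QuasiCompact (pullback.fst f g ≫ f) := inferInstance
  haveI : IsSeparated (pullback.fst f g ≫ f) := inferInstance
  have sX := Groth.Agent.CycLib28.OverField.isSetup_of_smooth f hX
  have sY := Groth.Agent.CycLib28.OverField.isSetup_of_smooth g hY
  have sP := Groth.Agent.CycLib28.OverField.isSetup_of_smooth _ hXY
  haveI := sX.1
  haveI := sY.1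
  haveI := sP.1
  haveI : CompactSpace X := QuasiCompact.compactSpace_of_compactSpace f
  haveI : CompactSpace Y := QuasiCompact.compactSpace_of_compactSpace g
  haveI : CompactSpace ↥(pullback f g) := QuasiCompact.compactSpace_of_compactSpace (pullback.fst f g ≫ f)
  haveI : IsNoetherian (pullback f g) := ⟨⟩
  set p := pullback.fst f g with hp
  set q := pullback.snd f g with hq
  have hgenP : δ (genericPoint ↥(pullback f g)) = (n : ℤ) + m := by
    rw [Groth.Agent.CycLib28.OverField.delta_genericPoint_product f g hX hY hXY, hn, hm]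
  have hc1 : ∀ z, Groth.Agent.CycLim28.GenInFibre p z → δ z = δX (p z) + (m : ℤ) := fun z hz => by
    rw [Groth.Agent.CycLib28.OverField.delta_fst f g hX hY hXY z hz, hm]
  have hc2 : ∀ z, Groth.Agent.CycLim28.GenInFibre q z → δ z = δY (q z) + (n : ℤ) := fun z hz => by
    rw [Groth.Agent.CycLib28.OverField.delta_snd f g hX hY hXY z hz, hn]
  have hprod : ∀ w, δ w ≤ δX (p w) + δY (q w) := Groth.Agent.CycLib28.OverField.delta_product_le f g hX hY hXY
  have hgen1 : ∀ (γ : X → ℤ) z, Cyc.pullFun p δ δX m γ z ≠ 0 → γ (p z) ≠ 0 ∧ Groth.Agent.CycLim28.GenInFibre p z :=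
    fun γ z hz => by
      rw [Groth.Agent.CycLib28.pullFun_eq p δ δX (m : ℤ) hc1] at hz
      refine ⟨left_ne_zero_of_mul hz, ?_⟩
      by_contra hg
      rw [Groth.Agent.CycLib28.lenFibre_eq_top p hg, ENat.toNat_top, Nat.cast_zero, mul_zero] at hz
      exact hz rfl
  have hgen2 : ∀ (γ : Y → ℤ) z, Cyc.pullFun q δ δY n γ z ≠ 0 → γ (q z) ≠ 0 ∧ Groth.Agent.CycLim28.GenInFibre q z :=
    fun γ z hz => by
      rw [Groth.Agent.CycLib28.pullFun_eq q δ δY (n : ℤ) hc2] at hz
      refine ⟨left_ne_zero_of_mul hz, ?_⟩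
      by_contra hg
      rw [Groth.Agent.CycLib28.lenFibre_eq_top q hg, ENat.toNat_top, Nat.cast_zero, mul_zero] at hz
      exact hz rfl
  refine ⟨fun a b z ha hb haz hbz => ?_, funext fun z => ?_⟩
  · obtain ⟨ha0, hga⟩ := hgen1 _ a ha
    obtain ⟨hb0, hgb⟩ := hgen2 _ b hb
    have h2 := hc1 a hga
    have h3 := hc2 b hgb
    have h4 := hprod z
    have h5 := Groth.Agent.CycLib28.le_of_specializes sX.2.2 (haz.map p.continuous)
    have h6 := Groth.Agent.CycLib28.le_of_specializes sY.2.2 (hbz.map q.continuous)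
    omega
  set A := (Groth.Agent.CycLim28.finite_support α).toFinset
  set B := (Groth.Agent.CycLim28.finite_support β).toFinset
  have hA : ∀ y, α y ≠ 0 → y ∈ A := fun y hy => (Set.Finite.mem_toFinset _).2 hy
  have hB : ∀ y, β y ≠ 0 → y ∈ B := fun y hy => (Set.Finite.mem_toFinset _).2 hy
  let iX : X → X → ℤ := fun ξ => Set.indicator {ξ} 1
  let iY : Y → Y → ℤ := fun η => Set.indicator {η} 1
  have hiX : ∀ ξ y, iX ξ y ≠ 0 → y = ξ := fun ξ y h => Set.mem_singleton_iff.1 (Set.mem_of_indicator_ne_zero h)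
  have hiY : ∀ η y, iY η y ≠ 0 → y = η := fun η y h => Set.mem_singleton_iff.1 (Set.mem_of_indicator_ne_zero h)
  let T : ℤ := if δ z = δX (p z) + δY (q z) then
      ((Module.length ((pullback f g).presheaf.stalk z)
        (↑((pullback f g).presheaf.stalk z) ⧸
          ((IsLocalRing.maximalIdeal (X.presheaf.stalk (p z))).map (p.stalkMap z).hom ⊔
            (IsLocalRing.maximalIdeal (Y.presheaf.stalk (q z))).map (q.stalkMap z).hom))).toNat : ℤ) else 0
  have pair : ∀ ξ ∈ A, ∀ η ∈ B, IntMult.interProd δ ((n : ℤ) + m) (Cyc.pullFun p δ δX m (iX ξ))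
      (Cyc.pullFun q δ δY n (iY η)) z = iX ξ (p z) * iY η (q z) * T := by
    intro ξ hξ η hη
    have hξr : δX ξ = r := by_contra fun h => (Set.Finite.mem_toFinset _).1 hξ (hα ξ h)
    have hηs : δY η = s := by_contra fun h => (Set.Finite.mem_toFinset _).1 hη (hβ η h)
    have hF : ∀ x, Nontrivial ((Groth.Agent.CycLib28.InterSheaf.pointSheaf ξ).presheaf.stalk x) → δX x ≤ r :=
      fun x hx => hξr ▸ Groth.Agent.CycLib28.le_of_specializes sX.2.2
        (Groth.Agent.CycLib28.InterSheaf.specializes_of_nontrivial_pointSheaf ξ x hx)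
    have hG : ∀ x, Nontrivial ((Groth.Agent.CycLib28.InterSheaf.pointSheaf η).presheaf.stalk x) → δY x ≤ s :=
      fun x hx => hηs ▸ Groth.Agent.CycLib28.le_of_specializes sY.2.2
        (Groth.Agent.CycLib28.InterSheaf.specializes_of_nontrivial_pointSheaf η x hx)
    obtain ⟨hF', eF⟩ := Groth.Agent.CycLib28.pullFun_sheafFun p sP.2.2 (m : ℤ) hc1 r _ hF
    obtain ⟨hG', eG⟩ := Groth.Agent.CycLib28.pullFun_sheafFun q sP.2.2 (n : ℤ) hc2 s _ hG
    rw [Groth.Agent.CycLib28.InterSheaf.sheafFun_pointSheaf sX.2.2 hξr] at eF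
    rw [Groth.Agent.CycLib28.InterSheaf.sheafFun_pointSheaf sY.2.2 hηs] at eG
    have hboth : ∀ w, Nontrivial (((Scheme.Modules.pullback p).obj
          (Groth.Agent.CycLib28.InterSheaf.pointSheaf ξ)).presheaf.stalk w) →
        Nontrivial (((Scheme.Modules.pullback q).obj
          (Groth.Agent.CycLib28.InterSheaf.pointSheaf η)).presheaf.stalk w) →
        δ w ≤ r + s ∧ (δ w = r + s → p w = ξ ∧ q w = η) := fun w h1 h2 => by
      have s1 := Groth.Agent.CycLib28.InterSheaf.specializes_of_nontrivial_pointSheaf ξ _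
        (Groth.Agent.CycLib28.InterSheaf.nontrivial_of_pullback p _ w h1)
      have s2 := Groth.Agent.CycLib28.InterSheaf.specializes_of_nontrivial_pointSheaf η _
        (Groth.Agent.CycLib28.InterSheaf.nontrivial_of_pullback q _ w h2)
      have l1 : δX (p w) ≤ r := hξr ▸ Groth.Agent.CycLib28.le_of_specializes sX.2.2 s1
      have l2 : δY (q w) ≤ s := hηs ▸ Groth.Agent.CycLib28.le_of_specializes sY.2.2 s2
      have l3 : δ w ≤ δX (p w) + δY (q w) := hprod w
      exact ⟨by omega, fun e => ⟨(Groth.Agent.CycLib28.eq_of_specializes_of_le sX.2.2 s1 (by omega)).symm,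
        (Groth.Agent.CycLib28.eq_of_specializes_of_le sY.2.2 s2 (by omega)).symm⟩⟩
    have h := (Groth.Agent.S6470.result K (pullback f g) (p ≫ f) δ sP hXY ((n : ℤ) + m) hgenP _ _
      (Groth.Agent.CycLib28.InterSheaf.isCoh_pullback p (Groth.Agent.CycLib28.InterSheaf.isCoh_pointSheaf ξ))
      (Groth.Agent.CycLib28.InterSheaf.isCoh_pullback q (Groth.Agent.CycLib28.InterSheaf.isCoh_pointSheaf η))
      (r + m) (s + n) hF' hG' (fun w h1 h2 => by have := (hboth w h1 h2).1; omega)).2 z
    rw [← eF, ← eG] at h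
    rw [show iX ξ = Set.indicator {ξ} 1 from rfl, show iY η = Set.indicator {η} 1 from rfl, h]
    by_cases hxy : p z = ξ ∧ q z = η
    · obtain ⟨rfl, rfl⟩ := hxy
      rw [Set.indicator_of_mem (Set.mem_singleton _), Set.indicator_of_mem (Set.mem_singleton _), Pi.one_apply,
        Pi.one_apply, one_mul, one_mul]
      by_cases hd : δ z = δX (p z) + δY (q z)
      · rw [if_pos (by omega), show T = _ from if_pos hd]
        exact Groth.Agent.CycLib28.ExtPair.chi_at f g hX hY hXY hd
      · rw [if_neg (by omega), show T = _ from if_neg hd]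
    · have hz0 : Set.indicator {ξ} (1 : X → ℤ) (p z) * Set.indicator {η} (1 : Y → ℤ) (q z) = 0 := by
        rcases not_and_or.1 hxy with h' | h'
        · rw [Set.indicator_of_notMem (show p z ∉ ({ξ} : Set X) from h'), zero_mul]
        · rw [Set.indicator_of_notMem (show q z ∉ ({η} : Set Y) from h'), mul_zero]
      rw [hz0, zero_mul]
      split_ifs with hd
      · haveI := Groth.Agent.CycLib28.isRegularLocalRing_stalk (p ≫ f) z
        haveI := Groth.Agent.AssSch12.finite_stalk
          (Groth.Agent.CycLib28.InterSheaf.isCoh_pullback p (Groth.Agent.CycLib28.InterSheaf.isCoh_pointSheaf ξ)) z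
        haveI := Groth.Agent.AssSch12.finite_stalk
          (Groth.Agent.CycLib28.InterSheaf.isCoh_pullback q (Groth.Agent.CycLib28.InterSheaf.isCoh_pointSheaf η)) z
        rcases subsingleton_or_nontrivial (((Scheme.Modules.pullback p).obj
          (Groth.Agent.CycLib28.InterSheaf.pointSheaf ξ)).presheaf.stalk z) with h1 | h1
        · rw [Groth.Agent.CycLib28.chi_comm]
          exact Groth.Agent.CycLib28.InterSheaf.chi_of_subsingleton _ _
        rcases subsingleton_or_nontrivial (((Scheme.Modules.pullback q).obj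
          (Groth.Agent.CycLib28.InterSheaf.pointSheaf η)).presheaf.stalk z) with h2 | h2
        · exact Groth.Agent.CycLib28.InterSheaf.chi_of_subsingleton _ _
        exact absurd ((hboth z h1 h2).2 (by omega)) hxy
      · rfl
  have eα : (⇑α : X → ℤ) = fun y => ∑ ξ ∈ A, α ξ * iX ξ y :=
    funext fun y => (Groth.Agent.CycLib28.InterSheaf.sum_indicator_mul hA y).symm
  have eβ : (⇑β : Y → ℤ) = fun y => ∑ η ∈ B, β η * iY η y :=
    funext fun y => (Groth.Agent.CycLib28.InterSheaf.sum_indicator_mul hB y).symm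
  have lin1 : Cyc.pullFun p δ δX m (fun y => ∑ ξ ∈ A, α ξ * iX ξ y) =
      fun w => ∑ ξ ∈ A, α ξ * Cyc.pullFun p δ δX m (iX ξ) w := funext fun w => by
    simp only [Groth.Agent.CycLib28.pullFun_eq p δ δX (m : ℤ) hc1, Finset.sum_mul, mul_assoc]
  have lin2 : Cyc.pullFun q δ δY n (fun y => ∑ η ∈ B, β η * iY η y) =
      fun w => ∑ η ∈ B, β η * Cyc.pullFun q δ δY n (iY η) w := funext fun w => by
    simp only [Groth.Agent.CycLib28.pullFun_eq q δ δY (n : ℤ) hc2, Finset.sum_mul, mul_assoc]
  have f1 : (⋃ y ∈ A, {w : ↥(pullback f g) | p w = y ∧ Groth.Agent.CycLim28.GenInFibre p w}).Finite :=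
    A.finite_toSet.biUnion fun y _ => Groth.Agent.CycLim28.genInFibre_finite p y
  have f2 : (⋃ y ∈ B, {w : ↥(pullback f g) | q w = y ∧ Groth.Agent.CycLim28.GenInFibre q w}).Finite :=
    B.finite_toSet.biUnion fun y _ => Groth.Agent.CycLim28.genInFibre_finite q y
  have hR : IntMult.interProd δ ((n : ℤ) + m) (Cyc.pullFun p δ δX m ⇑α) (Cyc.pullFun q δ δY n ⇑β) z =
      ∑ ξ ∈ A, ∑ η ∈ B, α ξ * β η *
        IntMult.interProd δ ((n : ℤ) + m) (Cyc.pullFun p δ δX m (iX ξ)) (Cyc.pullFun q δ δY n (iY η)) z := by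
    conv_lhs => rw [eα, eβ, lin1, lin2]
    refine Groth.Agent.CycLib28.InterSheaf.interProd_sum δ _ A B _ _ _ _ f1.toFinset f2.toFinset
      (fun ξ hξ w hw => ?_) (fun η hη w hw => ?_) z
    · obtain ⟨h0, hg⟩ := hgen1 _ w hw
      exact f1.mem_toFinset.2 (Set.mem_iUnion₂.2 ⟨ξ, hξ, hiX ξ _ h0, hg⟩)
    · obtain ⟨h0, hg⟩ := hgen2 _ w hw
      exact f2.mem_toFinset.2 (Set.mem_iUnion₂.2 ⟨η, hη, hiY η _ h0, hg⟩)
  rw [hR]
  calc ∑ ξ ∈ A, ∑ η ∈ B, α ξ * β η * IntMult.interProd δ ((n : ℤ) + m) (Cyc.pullFun p δ δX m (iX ξ))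
        (Cyc.pullFun q δ δY n (iY η)) z
      = (∑ ξ ∈ A, α ξ * iX ξ (p z)) * (∑ η ∈ B, β η * iY η (q z)) * T := by
        rw [Finset.sum_mul_sum, Finset.sum_mul]
        refine Finset.sum_congr rfl fun ξ hξ => ?_
        rw [Finset.sum_mul]
        refine Finset.sum_congr rfl fun η hη => ?_
        rw [pair ξ hξ η hη]
        ring
    _ = α (p z) * β (q z) * T := by
        rw [Groth.Agent.CycLib28.InterSheaf.sum_indicator_mul hA, Groth.Agent.CycLib28.InterSheaf.sum_indicator_mul hB]
    _ = _ := mul_ite_zero _ _ _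
end Groth.Agent.S1951
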