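import Groth.Statements.S19512
import Mathlib
import Groth.Agent.S19511
-- import your own Groth.Agent.* helpers here

set_option autoImplicit false
universe u
open CategoryTheory CategoryTheory.Limits AlgebraicGeometry
open Variety

namespace Groth.Agent.S19512

/-- Let k be a field and f : X → Y a k-morphism between proper k-schemes which is a fibration, i.e. O_Y
→ f_*O_X is an isomorphism (Γ(V, O_Y) → Γ(f⁻¹V, O_X) bijective for every open V ⊆ Y). If X is
integral, then Y is integral. (The second assertion of (ii), generic flatness of f, is quoted from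
the literature and not stated.) -/
theorem result (k : Type u) [Field k] (X Y : Scheme.{u})
    [X.Over (Spec (CommRingCat.of k))] [Y.Over (Spec (CommRingCat.of k))] [IsProper (X ↘ Spec (CommRingCat.of k))] [IsProper (Y ↘ Spec (CommRingCat.of k))]
    (f : X ⟶ Y) (hf : f ≫ (Y ↘ Spec (CommRingCat.of k)) = X ↘ Spec (CommRingCat.of k)) (hfib : ∀ V : Y.Opens, IsIso (f.app V))
    [AlgebraicGeometry.IsIntegral X] : AlgebraicGeometry.IsIntegral Y := by
  haveI : IsProper (f ≫ (Y ↘ Spec (CommRingCat.of k))) := hf ▸ inferInstance
  haveI : IsProper f := IsProper.of_comp f (Y ↘ Spec (CommRingCat.of k))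
  haveI : Surjective f := Groth.Agent.S19511.result k X Y f hf hfib
  haveI : IsReduced Y := by
    haveI : ∀ V : Y.Opens, _root_.IsReduced Γ(Y, V) := fun V => by
      haveI := hfib V
      exact isReduced_of_injective (f.app V).hom (asIso (f.app V)).commRingCatIsoToRingEquiv.injective
    exact ⟨this⟩
  haveI : IrreducibleSpace Y := by
    haveI : Nonempty Y := ⟨f (Nonempty.some inferInstance)⟩
    haveI : PreirreducibleSpace Y := ⟨by
      rw [← f.surjective.range_eq, ← Set.image_univ]
      exact (PreirreducibleSpace.isPreirreducible_univ).image _ f.continuous.continuousOn⟩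
    exact ⟨inferInstance⟩
  exact isIntegral_of_irreducibleSpace_of_isReduced Y

end Groth.Agent.S19512
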