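import Groth.Statements.S19514
import Mathlib
-- import your own Groth.Agent.* helpers here

set_option autoImplicit false
universe u
open CategoryTheory CategoryTheory.Limits AlgebraicGeometry
open Variety

namespace Groth.Agent.S19514

/-- Let k be a field and f : X → Y a k-morphism between proper k-schemes which is a fibration, i.e. O_Y
→ f_*O_X is an isomorphism (Γ(V, O_Y) → Γ(f⁻¹V, O_X) bijective for every open V ⊆ Y). If X is
geometrically integral over k, then so is Y. (The assertion of (iii) for geometric normality is not
stated here.) -/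
theorem result (k : Type u) [Field k] (X Y : Scheme.{u})
    [X.Over (Spec (CommRingCat.of k))] [Y.Over (Spec (CommRingCat.of k))] [IsProper (X ↘ Spec (CommRingCat.of k))] [IsProper (Y ↘ Spec (CommRingCat.of k))]
    (f : X ⟶ Y) (hf : f ≫ (Y ↘ Spec (CommRingCat.of k)) = X ↘ Spec (CommRingCat.of k)) (hfib : ∀ V : Y.Opens, IsIso (f.app V))
    [GeometricallyIntegral (X ↘ Spec (CommRingCat.of k))] : GeometricallyIntegral (Y ↘ Spec (CommRingCat.of k)) := by
  haveI : LocallyOfFiniteType f := by
    have : LocallyOfFiniteType (f ≫ (Y ↘ Spec (CommRingCat.of k))) := by rw [hf]; infer_instance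
    exact locallyOfFiniteType_of_comp f (Y ↘ Spec (CommRingCat.of k))
  haveI : QuasiCompact f := by
    have : QuasiCompact (f ≫ (Y ↘ Spec (CommRingCat.of k))) := by rw [hf]; infer_instance
    exact QuasiCompact.of_comp f (Y ↘ Spec (CommRingCat.of k))
  haveI : IsSchemeTheoreticallyDominant f := by
    rw [isSchemeTheoreticallyDominant_iff]
    refine Scheme.IdealSheafData.ext (funext fun U => ?_)
    rw [Scheme.Hom.ker_apply, Scheme.IdealSheafData.ideal_bot]
    haveI := hfib U.1
    exact (RingHom.injective_iff_ker_eq_bot _).1 (ConcreteCategory.bijective_of_isIso (f.app U.1)).1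
  refine ⟨fun K _ y P q₁ q₂ h => ?_⟩
  let X' := pullback f q₁
  have hX : IsPullback (pullback.fst f q₁) (pullback.snd f q₁ ≫ q₂) (X ↘ Spec (CommRingCat.of k)) y := by
    rw [← hf]
    exact (IsPullback.of_hasPullback f q₁).paste_vert h
  haveI : IsIntegral X' :=
    GeometricallyIntegral.geometrically_isIntegral (f := X ↘ Spec (CommRingCat.of k)) _ _ _ hX
  haveI : Flat y := inferInstance
  haveI : Flat q₁ := MorphismProperty.of_isPullback h.flip inferInstance
  haveI : IsSchemeTheoreticallyDominant (pullback.snd f q₁) := inferInstance
  haveI : IsReduced P := IsSchemeTheoreticallyDominant.isReduced (pullback.snd f q₁)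
  haveI : IsDominant (pullback.snd f q₁) := inferInstance
  haveI : IrreducibleSpace P := by
    refine (irreducibleSpace_def _).2 ?_
    have h1 := ((IrreducibleSpace.isIrreducible_univ X').image _ (pullback.snd f q₁).continuous.continuousOn).closure
    rw [Set.image_univ, (pullback.snd f q₁).denseRange.closure_range] at h1
    exact h1
  exact isIntegral_of_irreducibleSpace_of_isReduced P

end Groth.Agent.S19514
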