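import Groth.Statements.S19515
import Groth.Agent.NormalPushW15.Basic
import Groth.Agent.AlgGrpLib.ProperDescent
-- import your own Groth.Agent.* helpers here

set_option autoImplicit false
universe u
open CategoryTheory CategoryTheory.Limits AlgebraicGeometry
open Variety

namespace Groth.Agent.S19515

/-- Let k be a field and f : X → Y a k-morphism between proper k-schemes which is a fibration, i.e. O_Y
→ f_*O_X is an isomorphism (Γ(V, O_Y) → Γ(f⁻¹V, O_X) bijective for every open V ⊆ Y). If X is
geometrically normal, i.e. its base change to every algebraic closure of k has all local rings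
integrally closed domains, then Y is geometrically normal in the same sense. -/
theorem result (k : Type u) [Field k] (X Y : Scheme.{u})
    [X.Over (Spec (CommRingCat.of k))] [Y.Over (Spec (CommRingCat.of k))] [IsProper (X ↘ Spec (CommRingCat.of k))] [IsProper (Y ↘ Spec (CommRingCat.of k))]
    (f : X ⟶ Y) (hf : f ≫ (Y ↘ Spec (CommRingCat.of k)) = X ↘ Spec (CommRingCat.of k)) (hfib : ∀ V : Y.Opens, IsIso (f.app V))
    (hX : ∀ (K : Type u) [Field K] [Algebra k K] [IsAlgClosure k K],
      Pi1.IsNormalScheme (pullback (X ↘ Spec (CommRingCat.of k)) (Spec.map (CommRingCat.ofHom (algebraMap k K)))))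
    (K : Type u) [Field K] [Algebra k K] [IsAlgClosure k K] :
    Pi1.IsNormalScheme (pullback (Y ↘ Spec (CommRingCat.of k)) (Spec.map (CommRingCat.ofHom (algebraMap k K)))) := by
  let a := X ↘ Spec (CommRingCat.of k)
  let b := Y ↘ Spec (CommRingCat.of k)
  let g := Spec.map (CommRingCat.ofHom (algebraMap k K))
  let f' : pullback a g ⟶ pullback b g :=
    pullback.lift (pullback.fst a g ≫ f) (pullback.snd a g) (by rw [Category.assoc, hf, pullback.condition])
  have hsq : IsPullback (pullback.fst a g) f' f (pullback.fst b g) := by
    refine IsPullback.of_bot ?_ (pullback.lift_fst _ _ _).symm (IsPullback.of_hasPullback b g)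
    rw [pullback.lift_snd, hf]
    exact IsPullback.of_hasPullback a g
  haveI : IsProper (f ≫ b) := by rw [hf]; infer_instance
  haveI : IsProper f := IsProper.of_comp f b
  haveI : Flat g := by
    haveI : Module.Flat k K := inferInstance
    exact (AlgebraicGeometry.HasRingHomProperty.Spec_iff (P := @Flat)).mpr (RingHom.flat_algebraMap_iff.2 this)
  haveI : Flat (pullback.fst b g) := MorphismProperty.pullback_fst _ _ inferInstance
  haveI : IsLocallyNoetherian (pullback a g) := LocallyOfFiniteType.isLocallyNoetherian (pullback.snd a g)
  exact NormalPushW15.isNormalScheme f' (Groth.Agent.AlgGrpLib.ProperDescent.isIso_app_of_isPullback hsq hfib) (hX K)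

end Groth.Agent.S19515
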