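import Groth.Statements.S1952
import Mathlib
import Groth.Agent.CycLib28.P1Inter
import Groth.Agent.CycLib28.InterPull
import Groth.Agent.CycLib28.ProjFormula
import Groth.Agent.CycLib28.P1Subscheme
import Groth.Agent.S1900

set_option autoImplicit false
universe u
open CategoryTheory CategoryTheory.Limits AlgebraicGeometry
attribute [local instance] HasDerivedCategory.standard
open IntMult

namespace Groth.Agent.S1952

/-- Let α be a (k + 1)-cycle on P^1_X (X a nonsingular variety, P^1_X of dimension n + 1 with dimension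
function δP) intersecting the divisors X × 0 and X × ∞ (the images of the two sections, as prime
cycles) properly. Then pr_{X,*}(α · [X × 0] − α · [X × ∞]) ∼_rat 0 as a k-cycle on X (the source's
two distinct closed points a, b of P^1 are taken to be 0 and ∞), for any cycle on P^1_X with the
coefficients of α · [X × 0] − α · [X × ∞]. Here X is a nonsingular variety over the algebraically
closed field K (smooth, separated, quasi-compact, integral) with dimension function δ (transcendence
degree) and n = dim X; cycles are Mathlib AlgebraicCycles with Cyc.Zk membership, proper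
intersection is IntMult.IntersectProperly and α · β is the Tor-formula intersection product on
coefficient functions (IntMult.interProd), bundled where needed as 'any cycle with these
coefficients'. -/
theorem result (K : Type u) [Field K] [IsAlgClosed K] (X : Scheme.{u}) (f : X ⟶ Spec (CommRingCat.of K)) [Smooth f] [IsSeparated f] [QuasiCompact f] [IsIntegral X] (δ : X → ℤ) (hX : Cyc.IsSetup X δ) (hδ : Cyc.DeltaCompat f δ (fun _ => 0)) (n : ℤ) (hn : δ (genericPoint X) = n) (δP : ↥(CohB1.ProjSpaceOver 1 X) → ℤ) (hPX : Cyc.IsSetup (CohB1.ProjSpaceOver 1 X) δP) (hP : Cyc.DeltaCompat (CohB1.ProjSpaceOver.toBase 1 X) δP δ) [QuasiCompact (CohB1.ProjSpaceOver.toBase 1 X)] (k : ℤ) (α : AlgebraicCycle (CohB1.ProjSpaceOver 1 X) ℤ) (hα : α ∈ Cyc.Zk _ δP (k + 1)) (h0 : IntMult.IntersectProperly δP (n + 1) ⇑α (Set.indicator {P1.sect X 0 (genericPoint X)} 1)) (h1 : IntMult.IntersectProperly δP (n + 1) ⇑α (Set.indicator {P1.sect X 1 (genericPoint X)} 1)) (γ : AlgebraicCycle (CohB1.ProjSpaceOver 1 X) ℤ) (hγ : ⇑γ = IntMult.interProd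 δP (n + 1) ⇑α (Set.indicator {P1.sect X 0 (genericPoint X)} 1) - IntMult.interProd δP (n + 1) ⇑α (Set.indicator {P1.sect X 1 (genericPoint X)} 1)) : Cyc.RatEquivZero δ k (AlgebraicCycle.map (CohB1.ProjSpaceOver.toBase 1 X) δP δ γ) := by
  classical
  haveI := hX.1
  haveI := hPX.1
  haveI : CompactSpace X := QuasiCompact.compactSpace_of_compactSpace f
  haveI : CompactSpace (CohB1.ProjSpaceOver 1 X) :=
    QuasiCompact.compactSpace_of_compactSpace (CohB1.ProjSpaceOver.toBase 1 X)
  haveI := fun i => Groth.Agent.CycLib28.P1Irred.isClosedImmersion_sect X i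
  set π := CohB1.ProjSpaceOver.toBase 1 X
  set S := (Groth.Agent.CycLib28.InterSheaf.finite_support_cycle α).toFinset
  have hS : ∀ w, w ∈ S ↔ α w ≠ 0 := fun w => Set.Finite.mem_toFinset _
  have hw : ∀ w ∈ S, δP w = k + 1 := fun w hw => by_contra fun h => (hS w).1 hw (hα w h)
  have hgs : ∀ i, δP (P1.sect X i (genericPoint X)) = n := fun i =>
    (Groth.Agent.CycLib28.delta_sect hP i _).trans hn
  have hprop : ∀ w ∈ S, ∀ (i : Fin (1 + 1)) ζ, w ⤳ ζ → P1.sect X i (genericPoint X) ⤳ ζ → δP ζ ≤ k := by
    intro w hwS i ζ h h'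
    have hh : IntMult.IntersectProperly δP (n + 1) ⇑α (Set.indicator {P1.sect X i (genericPoint X)} 1) := by
      fin_cases i
      exacts [h0, h1]
    have := hh w (P1.sect X i (genericPoint X)) ζ ((hS w).1 hwS)
      (by rw [Set.indicator_of_mem (Set.mem_singleton (P1.sect X i (genericPoint X)))]; exact one_ne_zero) h h'
    rw [hw w hwS, hgs] at this
    omega
  have hout : ∀ w ∈ S, ∀ i, w ∉ Set.range (P1.sect X i) := by
    rintro w hwS i ⟨y, hy⟩
    have := hprop w hwS i w specializes_rfl (hy ▸ (genericPoint_specializes y).map (P1.sect X i).continuous)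
    rw [hw w hwS] at this
    omega
  let ι := fun w : ↥(CohB1.ProjSpaceOver 1 X) => (IntMult.ptIdeal w).subschemeι
  have hfin : ∀ w ∈ S, ∀ i, (Function.support (Cyc.subschemeFun δ k (pullback.snd (ι w) (P1.sect X i)))).Finite := by
    intro w hwS i
    have hF := Groth.Agent.CycLib28.InterSheaf.isCoh_pointSheaf w
    rw [← Groth.Agent.CycLib28.sheafFun_pullback_push_eq]
    refine Groth.Agent.CycLib28.P1Inter.finite_support_sheafFun hX.2.2
      (Groth.Agent.CycLib28.InterSheaf.isCoh_pullback _ hF) k fun x hx => ?_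
    have hn' : Nontrivial ((Groth.Agent.CycLib28.InterSheaf.pointSheaf w).presheaf.stalk (P1.sect X i x)) := by
      rw [← not_subsingleton_iff_nontrivial]
      intro hs
      have hl := Groth.Agent.CycLib28.length_stalk_pullback_closed (P1.sect X i)
        (Groth.Agent.CycLib28.InterSheaf.pointSheaf w) x
      haveI := hs
      rw [show Module.length ((CohB1.ProjSpaceOver 1 X).presheaf.stalk (P1.sect X i x))
          ((Groth.Agent.CycLib28.InterSheaf.pointSheaf w).presheaf.stalk (P1.sect X i x) ⧸ (RingHom.ker ((P1.sect X i).stalkMap x).hom • ⊤ :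
            Submodule ((CohB1.ProjSpaceOver 1 X).presheaf.stalk (P1.sect X i x))
              ((Groth.Agent.CycLib28.InterSheaf.pointSheaf w).presheaf.stalk (P1.sect X i x)))) = 0 from
          Module.length_eq_zero_iff.mpr inferInstance, Module.length_eq_zero_iff] at hl
      exact not_subsingleton _ hl
    have := hprop w hwS i _ (Groth.Agent.CycLib28.InterSheaf.specializes_of_nontrivial_pointSheaf w _ hn')
      ((genericPoint_specializes x).map (P1.sect X i).continuous)
    rw [Groth.Agent.CycLib28.delta_sect hP i x] at this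
    exact this
  let c : ↥(CohB1.ProjSpaceOver 1 X) → Fin (1 + 1) → AlgebraicCycle X ℤ := fun w i =>
    if h : w ∈ S then Groth.Agent.CycLib28.P1Inter.cycleOfFinite _ (hfin w h i) else 0
  have hc : ∀ w ∈ S, ∀ i, ⇑(c w i) = Cyc.subschemeFun δ k (pullback.snd (ι w) (P1.sect X i)) := fun w h i => by
    show ⇑(dite _ _ _ : AlgebraicCycle X ℤ) = _
    rw [dif_pos h]
    rfl
  have hrat : ∀ w ∈ S, Cyc.RatEquivZero δ k (c w 0 - c w 1) := by
    intro w hwS
    haveI := Groth.Agent.CycLib28.isIntegral_ptIdeal w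
    have hgen := Groth.Agent.CycLib28.P1Inter.subscheme_gen w
    exact Groth.Agent.S1900.result X δ hX δP hP k _ (ι w) (by rw [hgen]; exact hw w hwS) (by rw [hgen]; exact hout w hwS 0)
      (by rw [hgen]; exact hout w hwS 1) _ _ (hc w hwS 0) (hc w hwS 1)
  let Φ := fun i => Groth.Agent.CycLib28.P1Inter.mapHom (P1.sect X i) (fun x => δP (P1.sect X i x)) δP
  have hI : ∀ w ∈ S, ∀ i q, IntMult.interProd δP (n + 1) (Set.indicator {w} 1)
      (Set.indicator {P1.sect X i (genericPoint X)} 1) q = Φ i (c w i) q := by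
    intro w hwS i q
    by_cases hq : q ∈ Set.range (P1.sect X i)
    · obtain ⟨x, rfl⟩ := hq
      rw [Groth.Agent.CycLib28.P1Inter.interProd_sect_eq f hX hδ hn hPX hP i w (hw w hwS) (hprop w hwS i) x,
        ← congrFun (hc w hwS i) x]
      exact (Groth.Agent.CycLib28.map_closedImmersion_apply _ _ _ x).symm
    · rw [Groth.Agent.CycLib28.P1Inter.interProd_sect_eq_zero hP i _ _ q hq]
      exact (Groth.Agent.CycLib28.map_closedImmersion_eq_zero _ _ _ _ _ hq).symm
  have hexp : ∀ i q, IntMult.interProd δP (n + 1) ⇑α (Set.indicator {P1.sect X i (genericPoint X)} 1) q =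
      ∑ w ∈ S, α w * Φ i (c w i) q := by
    intro i q
    have h := Groth.Agent.CycLib28.InterSheaf.interProd_sum δP (n + 1) S ({()} : Finset Unit) (fun w => α w)
      (fun _ => (1 : ℤ)) (fun w => Set.indicator {w} 1) (fun _ => Set.indicator {P1.sect X i (genericPoint X)} 1)
      S {P1.sect X i (genericPoint X)} (fun w hw x hx => by rw [Set.mem_singleton_iff.1 (Set.mem_of_indicator_ne_zero hx)]; exact hw)
      (fun _ _ x hx => by rw [Set.mem_singleton_iff.1 (Set.mem_of_indicator_ne_zero hx)]; exact Finset.mem_singleton_self _) q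
    simp only [Finset.sum_singleton, one_mul, mul_one] at h
    conv_lhs => rw [← funext (Groth.Agent.CycLib28.InterSheaf.sum_indicator_mul (α := ⇑α) (S := S) fun w h => (hS w).2 h)]
    rw [h]
    exact Finset.sum_congr rfl fun w hw => by rw [hI w hw i q]
  have hγ' : γ = ∑ w ∈ S, α w • (Φ 0 (c w 0) - Φ 1 (c w 1)) := by
    refine Function.locallyFinsuppWithin.ext fun q => ?_
    rw [congrFun hγ q, Pi.sub_apply, hexp, hexp, ← Finset.sum_sub_distrib]
    refine Eq.trans ?_ (map_sum ({ toFun := fun D => D q, map_zero' := rfl, map_add' := fun _ _ => rfl } :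
      AlgebraicCycle (CohB1.ProjSpaceOver 1 X) ℤ →+ ℤ) _ _).symm
    exact Finset.sum_congr rfl fun w _ => (mul_sub _ _ _).symm
  have hback : ∀ i (D : AlgebraicCycle X ℤ), Groth.Agent.CycLib28.P1Inter.mapHom π δP δ (Φ i D) = D := by
    intro i D
    refine Function.locallyFinsuppWithin.ext fun y => ?_
    show AlgebraicCycle.map π δP δ (AlgebraicCycle.map (P1.sect X i) _ δP D) y = D y
    rw [Groth.Agent.CycLib28.map_map (P1.sect X i) π (Groth.Agent.CycLib28.deltaCompat_preimmersion _ _) hP,
      Groth.Agent.CycLib28.map_congr_hom (Groth.Agent.P1Lib24.sect_toBase X i),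
      show (fun x ↦ δP (P1.sect X i x)) = δ from funext (Groth.Agent.CycLib28.delta_sect hP i)]
    exact Groth.Agent.CycLib28.map_closedImmersion_apply (𝟙 X) δ D y
  show Cyc.RatEquivZero δ k (Groth.Agent.CycLib28.P1Inter.mapHom π δP δ γ)
  rw [hγ', map_sum]
  refine Finset.sum_induction _ (Cyc.RatEquivZero δ k)
    (fun a b ha hb => Groth.Agent.CycLib28.ratEquivZero_add ha hb fun _ => rfl)
    Groth.Agent.CycLib28.P1Inter.ratEquivZero_zero fun w hwS => ?_
  rw [map_zsmul, map_sub, hback, hback]
  exact Groth.Agent.CycLib28.P1Inter.ratEquivZero_zsmul hX.2.2 (hrat w hwS) _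
end Groth.Agent.S1952
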