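import Groth.Statements.S19520
import Groth.Agent.Omega15.GenericRank
-- import your own Groth.Agent.* helpers here

set_option autoImplicit false
set_option backward.isDefEq.respectTransparency.types false
set_option linter.style.haveILetI false
universe u
open CategoryTheory CategoryTheory.Limits AlgebraicGeometry
open OmegaSh

namespace Groth.Agent.S19520

/-- Let k be a field and f : X → Z a k-morphism between integral proper k-schemes, where X is
geometrically normal (its base change to an algebraic closure of k has integrally closed local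
domains) and Z is smooth over k; let Y ⊆ Z be the closure of the image of f, m its dimension, and
assume the fibre of f over the generic point of Y is geometrically reduced over the residue field
there (the function field extension K(Y) ⊆ K(X) is separable). Let d_Z : O_Z → Ω_Z and d_X : O_X →
Ω_X be universal k-derivations and c : f^*Ω_Z → Ω_X the O_X-linear map compatible with them, and let
U ⊆ X be the largest open subscheme smooth over k. If f^*Ω_Z is a free O_X-module of finite rank,
then there are m sections of Ω_X over U which are linearly independent over Γ(U, O_X); in particular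
the space of sections of Ω¹ over U has dimension at least m. (The second estimate of (ii), a nonzero
section of Ω^m over U, is not stated.) -/
theorem result (k : Type u) [Field k]
    (X Z : Scheme.{u}) [X.Over (Spec (CommRingCat.of k))] [Z.Over (Spec (CommRingCat.of k))]
    [IsProper (X ↘ Spec (CommRingCat.of k))] [IsProper (Z ↘ Spec (CommRingCat.of k))] [IsIntegral X] [IsIntegral Z]
    [Smooth (Z ↘ Spec (CommRingCat.of k))]
    (hgn : ∀ (K : Type u) [Field K] [Algebra k K] [IsAlgClosure k K],
      Pi1.IsNormalScheme (pullback (X ↘ Spec (CommRingCat.of k)) (Spec.map (CommRingCat.ofHom (algebraMap k K)))))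
    (f : X ⟶ Z) (hf : f ≫ (Z ↘ Spec (CommRingCat.of k)) = X ↘ Spec (CommRingCat.of k))
    (η : Z) (hη : closure {η} = closure (Set.range f.base)) (m : ℕ)
    (hm : topologicalKrullDim (closure (Set.range f.base)) = m)
    (hsep : GeometricallyReduced (pullback.snd f (Z.fromSpecResidueField η)))
    (ΩZ : Z.Modules) (dZ : OmegaSh.Der (Z ↘ Spec (CommRingCat.of k)) ΩZ) (hdZ : OmegaSh.IsUniversal dZ)
    (ΩX : X.Modules) (dX : OmegaSh.Der (X ↘ Spec (CommRingCat.of k)) ΩX) (hdX : OmegaSh.IsUniversal dX)
    (c : (Scheme.Modules.pullback f).obj ΩZ ⟶ ΩX) (hc : OmegaSh.IsDiffCompat f dZ dX c)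
    (hfree : ∃ d : ℕ, Nonempty ((Scheme.Modules.pullback f).obj ΩZ ≅ FlatMod.freeMod X d))
    (U : X.Opens) (hU : Smooth (U.ι ≫ (X ↘ Spec (CommRingCat.of k))))
    (hUmax : ∀ V : X.Opens, Smooth (V.ι ≫ (X ↘ Spec (CommRingCat.of k))) → V ≤ U) :
    ∃ s : Fin m → ΩX.val.obj (Opposite.op U),
      LinearIndependent (X.ringCatSheaf.obj.obj (Opposite.op U)) s := by
  obtain ⟨d, ⟨ψ₀⟩⟩ := hfree
  have hcl : closure ({f (genericPoint X)} : Set Z) = closure (Set.range f.base) := by
    refine Set.Subset.antisymm (closure_mono (Set.singleton_subset_iff.2 ⟨_, rfl⟩)) (closure_minimal ?_ isClosed_closure)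
    rintro _ ⟨a, rfl⟩
    exact specializes_iff_mem_closure.1 ((genericPoint_specializes a).map f.continuous)
  obtain rfl : η = f (genericPoint X) := IsGenericPoint.eq (S := closure ({η} : Set Z)) isGenericPoint_closure
    (show IsGenericPoint (f (genericPoint X)) (closure ({η} : Set Z)) by rw [hη, ← hcl]; exact isGenericPoint_closure)
  obtain ⟨s, hs⟩ := Omega15.exists_linearIndependent_gm f hf hsep m (by rw [hcl]; exact hm) hdZ hdX hc ψ₀
  refine ⟨fun i => ΩX.presheaf.map (homOfLE (le_top : U ≤ ⊤)).op (s i), ?_⟩
  refine Fintype.linearIndependent_iff.2 fun r hr i => ?_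
  let r' : Fin m → Γ(X, U) := r
  have hr' : (∑ i, r' i • (show Γ(ΩX, U) from ΩX.presheaf.map (homOfLE (le_top : U ≤ ⊤)).op (s i))) = 0 := hr
  show r' i = 0
  by_cases hx : genericPoint X ∈ U
  · refine (injective_iff_map_eq_zero (X.presheaf.germ U (genericPoint X) hx).hom).1
      (germ_injective_of_isIntegral _ _ _) _ ?_
    refine Fintype.linearIndependent_iff.1 hs (fun j => X.presheaf.germ U (genericPoint X) hx (r' j)) ?_ i
    have := congrArg (fun t => OmegaLib.gm ΩX U (genericPoint X) hx t) hr'
    simp only [OmegaLib.gm_zero] at this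
    rw [← this, show (OmegaLib.gm ΩX U (genericPoint X) hx (∑ i, r' i • (show Γ(ΩX, U) from
      ΩX.presheaf.map (homOfLE (le_top : U ≤ ⊤)).op (s i)))) = ∑ i, OmegaLib.gm ΩX U (genericPoint X) hx
        (r' i • (show Γ(ΩX, U) from ΩX.presheaf.map (homOfLE (le_top : U ≤ ⊤)).op (s i))) from
      map_sum (ΩX.presheaf.germ U (genericPoint X) hx).hom _ _]
    exact Finset.sum_congr rfl fun j _ => by rw [OmegaLib.gm_smul, OmegaLib.gm_res]
  · exact TopCat.Presheaf.section_ext X.sheaf U _ _ fun z hz =>
      absurd ((genericPoint_specializes z).mem_open U.isOpen hz) hx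

end Groth.Agent.S19520
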