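import Groth.Statements.S19522
import Groth.Agent.HopfLib.Comod

set_option autoImplicit false
universe u
open TensorProduct
open GLin

namespace Groth.Agent.S19522

/-- Let k be a field, A a commutative k-bialgebra coacting multiplicatively on a commutative k-algebra
R, and χ ∈ A a group-like element with an inverse χ' (χχ' = 1). Suppose the polynomial ring R[t]
carries a multiplicative coaction which restricts to the given one on constants and sends t to t ⊗
χ'. Then g ∈ R[t] is coinvariant if and only if, for every r, its r-th coefficient has coaction g_r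
↦ g_r ⊗ χ^r; that is, the ring of invariants of R[t] is the sum over r ≥ 0 of the weight-χ^r
semi-invariants of R times t^r. (The published statement is phrased for an affine variety with an
action of a linear algebraic group over an algebraically closed field of characteristic zero and
identifies the invariants of X × A¹ with the graded ring of invariant sections of the powers of the
linearised trivial bundle; this is its coordinate-ring content, valid over any field.) -/
theorem result (k : Type u) [Field k]
    (A : Type u) [CommRing A] [Bialgebra k A]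
    (R : Type u) [CommRing R] [Algebra k R] [HopfRep.Comod k A R] [GLin.IsCoactAlg k A R]
    [HopfRep.Comod k A (Polynomial R)] [GLin.IsCoactAlg k A (Polynomial R)]
    (χ χ' : A) (hχ : CoalgebraStruct.comul (R := k) (A := A) χ = χ ⊗ₜ[k] χ)
    (hχε : CoalgebraStruct.counit (R := k) (A := A) χ = 1) (hχχ' : χ * χ' = 1)
    (hC : ∀ r : R, HopfRep.Comod.coact (k := k) (A := A) (Polynomial.C r) =
      Algebra.TensorProduct.map (Polynomial.CAlgHom : R →ₐ[k] Polynomial R) (AlgHom.id k A)
        (HopfRep.Comod.coact (k := k) (A := A) r))
    (hX : HopfRep.Comod.coact (k := k) (A := A) (Polynomial.X : Polynomial R) = Polynomial.X ⊗ₜ[k] χ')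
    (g : Polynomial R) :
    g ∈ GLin.invariants k A (Polynomial R) ↔
      ∀ r : ℕ, g.coeff r ∈ HopfRep.eigenspace k A R (χ ^ r) := by
  classical
  let φ : ℕ → (Polynomial R ⊗[k] A →ₗ[k] R ⊗[k] A) := fun n =>
    ((Polynomial.lcoeff R n).restrictScalars k).rTensor A
  have hinj : ∀ s t : Polynomial R ⊗[k] A, (∀ n, φ n s = φ n t) → s = t := fun s t h =>
    Groth.Agent.HopfLib.eq_of_forall_sliceR_eq fun f => Polynomial.ext fun n => by
      have := congrArg (Groth.Agent.HopfLib.sliceR f) (h n)
      simpa only [φ, Groth.Agent.HopfLib.sliceR_rTensor, LinearMap.restrictScalars_apply, Polynomial.lcoeff_apply] using this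
  have hone : ∀ n, φ n (g ⊗ₜ[k] (1 : A)) = g.coeff n ⊗ₜ[k] (1 : A) := fun n => rfl
  have key : ∀ (p : Polynomial R) (n : ℕ), φ n (HopfRep.Comod.coact (k := k) (A := A) p) =
      HopfRep.Comod.coact (k := k) (A := A) (p.coeff n) * ((1 : R) ⊗ₜ[k] (χ' ^ n)) := by
    intro p n
    induction p using Polynomial.induction_on' with
    | add p q hp hq => rw [map_add, map_add, Polynomial.coeff_add, map_add, add_mul, hp, hq]
    | monomial m a =>
      have hXm : HopfRep.Comod.coact (k := k) (A := A) ((Polynomial.X : Polynomial R) ^ m) =
          ((Polynomial.X : Polynomial R) ^ m) ⊗ₜ[k] (χ' ^ m) := by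
        induction m with
        | zero => simp [GLin.IsCoactAlg.coact_one (k := k) (A := A) (R := Polynomial R), Algebra.TensorProduct.one_def]
        | succ m ih =>
          rw [pow_succ, GLin.IsCoactAlg.coact_mul, ih, hX, Algebra.TensorProduct.tmul_mul_tmul, pow_succ]
      rw [← Polynomial.C_mul_X_pow_eq_monomial, GLin.IsCoactAlg.coact_mul, hC, hXm]
      have hc : (Polynomial.C a * Polynomial.X ^ m).coeff n = if n = m then a else 0 := by
        simp [Polynomial.coeff_C_mul_X_pow]
      rw [hc]
      have hprod : ∀ t : R ⊗[k] A, φ n (Algebra.TensorProduct.map (Polynomial.CAlgHom : R →ₐ[k] Polynomial R)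
          (AlgHom.id k A) t * (((Polynomial.X : Polynomial R) ^ m) ⊗ₜ[k] (χ' ^ m))) =
          if n = m then t * ((1 : R) ⊗ₜ[k] (χ' ^ n)) else 0 := by
        intro t
        induction t using TensorProduct.induction_on with
        | zero => simp
        | add x y hx hy => simp only [map_add, add_mul, hx, hy]; split_ifs <;> simp
        | tmul x b =>
          simp only [Algebra.TensorProduct.map_tmul, AlgHom.id_apply, Algebra.TensorProduct.tmul_mul_tmul,
            φ, LinearMap.rTensor_tmul, LinearMap.restrictScalars_apply, Polynomial.lcoeff_apply]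
          rw [show (Polynomial.CAlgHom : R →ₐ[k] Polynomial R) x = Polynomial.C x from rfl,
            Polynomial.coeff_C_mul_X_pow]
          split_ifs with h
          · subst h; simp
          · simp
      rw [hprod]
      split_ifs with h
      · rfl
      · simp
  have hinv : ∀ (n : ℕ) (t : R ⊗[k] A) (r : R),
      t * ((1 : R) ⊗ₜ[k] (χ' ^ n)) = r ⊗ₜ[k] (1 : A) ↔ t = r ⊗ₜ[k] (χ ^ n) := by
    intro n t r
    constructor
    · intro h
      have := congrArg (· * ((1 : R) ⊗ₜ[k] (χ ^ n))) h
      simpa [mul_assoc, ← mul_pow, mul_comm χ' χ, hχχ', ← Algebra.TensorProduct.one_def] using this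
    · rintro rfl
      simp [← mul_pow, hχχ']
  rw [GLin.mem_invariants_iff]
  constructor
  · intro h n
    exact (hinv n _ _).1 (by rw [← key, h, hone])
  · intro h
    refine hinj _ _ fun n => ?_
    rw [key, hone]
    exact (hinv n _ _).2 (h n)

end Groth.Agent.S19522
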