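import Groth.Statements.S19524
import Groth.Agent.Omega15.GenericRank
import Groth.Agent.FlatMor12.GenericSmooth
import Groth.Agent.FBaseLib.Geom
-- import your own Groth.Agent.* helpers here

set_option autoImplicit false
set_option backward.isDefEq.respectTransparency.types false
set_option linter.style.haveILetI false
set_option maxHeartbeats 1000000
universe u
open CategoryTheory CategoryTheory.Limits AlgebraicGeometry
open OmegaSh
open TopologicalSpace

namespace Groth.Agent.S19524


/-- A geometrically normal variety is smooth at its generic point. -/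
theorem genericPoint_mem_of_smooth_max (k : Type u) [Field k] {X : Scheme.{u}} (q : X ⟶ Spec (CommRingCat.of k))
    [IsProper q] [IsIntegral X]
    (hgn : ∀ (K : Type u) [Field K] [Algebra k K] [IsAlgClosure k K],
      Pi1.IsNormalScheme (pullback q (Spec.map (CommRingCat.ofHom (algebraMap k K)))))
    (U : X.Opens) (hUmax : ∀ V : X.Opens, Smooth (V.ι ≫ q) → V ≤ U) : genericPoint X ∈ U := by
  haveI : AlgebraicGeometry.IsReduced
      (pullback q (Spec.map (CommRingCat.ofHom (algebraMap k (AlgebraicClosure k))))) := by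
    haveI : ∀ z, _root_.IsReduced ((pullback q (Spec.map (CommRingCat.ofHom
        (algebraMap k (AlgebraicClosure k))))).presheaf.stalk z) := fun z => by
      haveI := (hgn (AlgebraicClosure k) z).1
      infer_instance
    exact isReduced_of_isReduced_stalk _
  haveI : GeometricallyReduced q := FBaseLib.geometricallyReduced_of_perfect (Ω := AlgebraicClosure k) q
  haveI : LocallyOfFinitePresentation q := inferInstance
  haveI : IsDominant q := by
    refine ⟨dense_iff_closure_eq.2 (Set.eq_univ_of_forall fun y => subset_closure ⟨genericPoint X, ?_⟩)⟩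
    haveI : Subsingleton ↥(Spec (CommRingCat.of k)) := inferInstanceAs (Subsingleton (PrimeSpectrum k))
    exact Subsingleton.elim _ _
  refine hUmax q.smoothLocus ?_ (FlatMor12.GenericSmooth.genericPoint_mem_smoothLocus q inferInstance)
  rw [← Scheme.Hom.smoothLocus_eq_top_iff, ← Scheme.Hom.preimage_smoothLocus_eq, ← top_le_iff]
  exact fun z _ => z.2

/-- The wedge of sections independent at the generic point glues to a nonzero section. -/
theorem exists_ne_zero_wedge {X : Scheme.{u}} [IsIntegral X] {E L : X.Modules} {m : ℕ}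
    (hL : ExtPow.IsExtPow m E L) (s : Fin m → Γ(E, ⊤))
    (hs : LinearIndependent (X.presheaf.stalk (genericPoint X)) (fun i => OmegaLib.gm E ⊤ (genericPoint X) trivial (s i)))
    (U : X.Opens) (hx : genericPoint X ∈ U) : ∃ t : Γ(L, U), t ≠ 0 := by
  classical
  obtain ⟨φ, hφ⟩ := hL
  let x : X := genericPoint X
  let res : ∀ W : X.affineOpens, Fin m → E.val.obj (Opposite.op W.1) :=
    fun W j => E.presheaf.map (homOfLE (le_top : W.1 ≤ ⊤)).op (s j)
  let ω : ∀ W : X.affineOpens, Γ(L, W.1) := fun W => (φ W).symm (exteriorPower.ιMulti _ m (res W))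
  have hω : ∀ (W V : X.affineOpens) (h : V.1 ≤ W.1), L.presheaf.map (homOfLE h).op (ω W) = ω V := fun W V h => by
    refine (hφ W V h (res W)).trans (congrArg (fun v => (φ V).symm (exteriorPower.ιMulti _ m v)) (funext fun j => ?_))
    show E.presheaf.map _ (E.presheaf.map _ (s j)) = E.presheaf.map _ (s j)
    rw [← ConcreteCategory.comp_apply, ← Functor.map_comp]
    rfl
  let F : TopCat.Sheaf AddCommGrpCat X := ⟨L.presheaf, L.isSheaf⟩
  let ι := {W : X.affineOpens // W.1 ≤ U}
  obtain ⟨t, ht, -⟩ := F.existsUnique_gluing' (fun W : ι => W.1.1) U (fun W => homOfLE W.2)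
    (fun z hz => by
      obtain ⟨W, hW, hzW, hWU⟩ := Opens.isBasis_iff_nbhd.mp X.isBasis_affineOpens hz
      exact Opens.mem_iSup.2 ⟨⟨⟨W, hW⟩, hWU⟩, hzW⟩)
    (fun W => ω W.1) (fun W W' => by
      let O := W.1.1 ⊓ W'.1.1
      refine F.eq_of_locally_eq' (fun V : {V : X.affineOpens // V.1 ≤ O} => V.1.1) O (fun V => homOfLE V.2)
        (fun z hz => by
          obtain ⟨V, hV, hzV, hVO⟩ := Opens.isBasis_iff_nbhd.mp X.isBasis_affineOpens hz
          exact Opens.mem_iSup.2 ⟨⟨⟨V, hV⟩, hVO⟩, hzV⟩) _ _ fun V => ?_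
      show L.presheaf.map _ (L.presheaf.map _ (ω W.1)) = L.presheaf.map _ (L.presheaf.map _ (ω W'.1))
      rw [← ConcreteCategory.comp_apply, ← ConcreteCategory.comp_apply, ← Functor.map_comp, ← Functor.map_comp]
      exact (hω W.1 V.1 (V.2.trans inf_le_left)).trans (hω W'.1 V.1 (V.2.trans inf_le_right)).symm)
  refine ⟨t, fun h0 => ?_⟩
  obtain ⟨W, hW, hxW, hWU⟩ := Opens.isBasis_iff_nbhd.mp X.isBasis_affineOpens hx
  have hzero : ω ⟨W, hW⟩ = 0 := by
    have h1 := ht ⟨⟨W, hW⟩, hWU⟩
    rw [h0, map_zero] at h1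
    exact h1.symm
  have hι : exteriorPower.ιMulti Γ(X, W) m (res ⟨W, hW⟩) = 0 :=
    (φ ⟨W, hW⟩).symm.injective (hzero.trans (map_zero _).symm)
  have hB : IsField (X.presheaf.stalk x) := Field.toIsField X.functionField
  letI : Field (X.presheaf.stalk x) := hB.toField
  let v : Fin m → (DerSch.stalkFunctor X x).obj E := fun i => OmegaLib.gm E ⊤ x trivial (s i)
  obtain ⟨P, hP⟩ := LinearMap.exists_leftInverse_of_injective (Fintype.linearCombination (X.presheaf.stalk x) v)
    (LinearMap.ker_eq_bot.2 (linearIndependent_iff_injective_fintypeLinearCombination.1 hs))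
  have hPv : ∀ i, P (v i) = Pi.single i 1 := fun i => by
    have := LinearMap.congr_fun hP (Pi.single i 1)
    simpa [Fintype.linearCombination_apply_single] using this
  letI : Algebra Γ(X, W) (X.presheaf.stalk x) := (X.presheaf.germ W x hxW).hom.toAlgebra
  let gW : E.val.obj (Opposite.op W) →ₗ[Γ(X, W)] (Fin m → X.presheaf.stalk x) :=
    { toFun := fun w => P (OmegaLib.gm E W x hxW w)
      map_add' := fun a b => (congrArg P (OmegaLib.gm_add E hxW a b)).trans (map_add P _ _)
      map_smul' := fun r w => by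
        show P (OmegaLib.gm E W x hxW ((r : Γ(X, W)) • (w : Γ(E, W)))) = r • P (OmegaLib.gm E W x hxW w)
        erw [OmegaLib.gm_smul, map_smul]
        funext j
        rfl }
  let D : (E.val.obj (Opposite.op W)) [⋀^Fin m]→ₗ[Γ(X, W)] X.presheaf.stalk x :=
    { toMultilinearMap := ((Matrix.detRowAlternating (n := Fin m) (R := X.presheaf.stalk x)).toMultilinearMap.restrictScalars
          Γ(X, W)).compLinearMap fun _ => gW
      map_eq_zero_of_eq' := fun w a b hab hne =>
        (Matrix.detRowAlternating (n := Fin m) (R := X.presheaf.stalk x)).map_eq_zero_of_eq _ (congrArg gW hab) hne }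
  have h1 := congrArg (exteriorPower.alternatingMapLinearEquiv D) hι
  rw [exteriorPower.alternatingMapLinearEquiv_apply_ιMulti, map_zero] at h1
  have h2 : Matrix.det (Matrix.of fun i => gW (res ⟨W, hW⟩ i)) = 0 := h1
  have h3 : (Matrix.of fun i => gW (res ⟨W, hW⟩ i)) = 1 := by
    refine Matrix.ext fun i j => ?_
    show P (OmegaLib.gm E W x hxW (E.presheaf.map (homOfLE (le_top : W ≤ ⊤)).op (s i))) j = _
    rw [OmegaLib.gm_res]
    refine (congrFun (hPv i) j).trans ?_
    rcases eq_or_ne i j with rfl | hij
    · rw [Pi.single_eq_same, Matrix.one_apply_eq]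
    · rw [Pi.single_eq_of_ne hij.symm, Matrix.one_apply_ne hij]
  rw [h3] at h2
  exact one_ne_zero (Matrix.det_one.symm.trans h2)


/-- Let k be a field and f : X → Z a k-morphism between integral proper k-schemes, where X is
geometrically normal (its base change to an algebraic closure of k has integrally closed local
domains) and Z is smooth over k; let Y ⊆ Z be the closure of the image of f, m its dimension, and
assume the fibre of f over the generic point of Y is geometrically reduced over the residue field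
there (the function field extension K(Y) ⊆ K(X) is separable). Let d_Z : O_Z → Ω_Z and d_X : O_X →
Ω_X be universal k-derivations and c : f^*Ω_Z → Ω_X the O_X-linear map compatible with them, and let
U ⊆ X be the largest open subscheme smooth over k. If f^*Ω_Z is a free O_X-module of finite rank and
Ω^m_X is an m-th exterior power of Ω_X (affine-locally the exterior power of the sections), then
Ω^m_X has a nonzero section over U: h⁰(U, Ω^m) ≥ 1. -/
theorem result (k : Type u) [Field k]
    (X Z : Scheme.{u}) [X.Over (Spec (CommRingCat.of k))] [Z.Over (Spec (CommRingCat.of k))]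
    [IsProper (X ↘ Spec (CommRingCat.of k))] [IsProper (Z ↘ Spec (CommRingCat.of k))] [IsIntegral X] [IsIntegral Z]
    [Smooth (Z ↘ Spec (CommRingCat.of k))]
    (hgn : ∀ (K : Type u) [Field K] [Algebra k K] [IsAlgClosure k K],
      Pi1.IsNormalScheme (pullback (X ↘ Spec (CommRingCat.of k)) (Spec.map (CommRingCat.ofHom (algebraMap k K)))))
    (f : X ⟶ Z) (hf : f ≫ (Z ↘ Spec (CommRingCat.of k)) = X ↘ Spec (CommRingCat.of k))
    (η : Z) (hη : closure {η} = closure (Set.range f.base)) (m : ℕ)
    (hm : topologicalKrullDim (closure (Set.range f.base)) = m)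
    (hsep : GeometricallyReduced (pullback.snd f (Z.fromSpecResidueField η)))
    (ΩZ : Z.Modules) (dZ : OmegaSh.Der (Z ↘ Spec (CommRingCat.of k)) ΩZ) (hdZ : OmegaSh.IsUniversal dZ)
    (ΩX : X.Modules) (dX : OmegaSh.Der (X ↘ Spec (CommRingCat.of k)) ΩX) (hdX : OmegaSh.IsUniversal dX)
    (c : (Scheme.Modules.pullback f).obj ΩZ ⟶ ΩX) (hc : OmegaSh.IsDiffCompat f dZ dX c)
    (hfree : ∃ d : ℕ, Nonempty ((Scheme.Modules.pullback f).obj ΩZ ≅ FlatMod.freeMod X d))
    (U : X.Opens) (hU : Smooth (U.ι ≫ (X ↘ Spec (CommRingCat.of k))))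
    (hUmax : ∀ V : X.Opens, Smooth (V.ι ≫ (X ↘ Spec (CommRingCat.of k))) → V ≤ U)
    (Ωm : X.Modules) (hΩm : ExtPow.IsExtPow m ΩX Ωm) :
    ∃ s : Ωm.val.obj (Opposite.op U), s ≠ 0 := by
  obtain ⟨d, ⟨ψ₀⟩⟩ := hfree
  have hcl : closure ({f (genericPoint X)} : Set Z) = closure (Set.range f.base) := by
    refine Set.Subset.antisymm (closure_mono (Set.singleton_subset_iff.2 ⟨_, rfl⟩)) (closure_minimal ?_ isClosed_closure)
    rintro _ ⟨a, rfl⟩
    exact specializes_iff_mem_closure.1 ((genericPoint_specializes a).map f.continuous)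
  obtain rfl : η = f (genericPoint X) := IsGenericPoint.eq (S := closure ({η} : Set Z)) isGenericPoint_closure
    (show IsGenericPoint (f (genericPoint X)) (closure ({η} : Set Z)) by rw [hη, ← hcl]; exact isGenericPoint_closure)
  obtain ⟨s, hs⟩ := Omega15.exists_linearIndependent_gm f hf hsep m (by rw [hcl]; exact hm) hdZ hdX hc ψ₀
  exact exists_ne_zero_wedge hΩm s hs U (genericPoint_mem_of_smooth_max k _ hgn U hUmax)

end Groth.Agent.S19524
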