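import Groth.Statements.S19533
import Groth.Agent.AbSchLib.GlobalSections
import Groth.Agent.Props12.KerReduced
import Mathlib.AlgebraicGeometry.AlgClosed.Basic
import Mathlib.AlgebraicGeometry.Geometrically.Connected
import Mathlib.CategoryTheory.Monoidal.Cartesian.Over
open TopologicalSpace Groth.Agent.AbSchLib

set_option autoImplicit false
universe u
open CategoryTheory CategoryTheory.Limits MonoidalCategory CartesianMonoidalCategory MonObj GrpObj AlgebraicGeometry
open AbVar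

namespace Groth.Agent.S19533

theorem section_eq_of_apply_eq {k : Type u} [Field k] {Y : Scheme.{u}} (q : Y ⟶ Spec (CommRingCat.of k))
    {p₁ p₂ : Spec (CommRingCat.of k) ⟶ Y} (h₁ : p₁ ≫ q = 𝟙 _) (h₂ : p₂ ≫ q = 𝟙 _)
    (h : p₁ (IsLocalRing.closedPoint k) = p₂ (IsLocalRing.closedPoint k)) : p₁ = p₂ := by
  have key : ∀ (y : Y) (φ₁ φ₂ : Y.residueField y ⟶ CommRingCat.of k),
      Spec.map φ₁ ≫ Y.fromSpecResidueField y ≫ q = 𝟙 _ → Spec.map φ₂ ≫ Y.fromSpecResidueField y ≫ q = 𝟙 _ → φ₁ = φ₂ := by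
    intro y φ₁ φ₂ e₁ e₂
    let ψ := Spec.preimage (Y.fromSpecResidueField y ≫ q)
    have e : ∀ φ : Y.residueField y ⟶ CommRingCat.of k, Spec.map φ ≫ Y.fromSpecResidueField y ≫ q = 𝟙 _ → ψ ≫ φ = 𝟙 _ :=
      fun φ hφ => Spec.map_injective (by rw [Spec.map_comp, Spec.map_preimage, Spec.map_id]; exact hφ)
    ext a
    have h0 : ψ (φ₁ a) = a := φ₁.hom.injective (congr($(e φ₁ e₁) (φ₁ a)))
    exact (congr($(e φ₂ e₂) (φ₁ a))).symm.trans (congrArg φ₂ h0)
  obtain ⟨⟨y₁, φ₁⟩, rfl⟩ := (Scheme.SpecToEquivOfField k Y).symm.surjective p₁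
  obtain ⟨⟨y₂, φ₂⟩, rfl⟩ := (Scheme.SpecToEquivOfField k Y).symm.surjective p₂
  simp only [Scheme.SpecToEquivOfField, Equiv.coe_fn_symm_mk, Scheme.Hom.comp_apply, Scheme.fromSpecResidueField_apply] at h
  subst h
  simp only [Scheme.SpecToEquivOfField, Equiv.coe_fn_symm_mk, Category.assoc] at h₁ h₂ ⊢
  rw [key y₁ φ₁ φ₂ h₁ h₂]

theorem eq_of_closedPoints_eq {X : Type*} [TopologicalSpace X] [JacobsonSpace X] {O E : Set X} (hO : IsOpen O)
    (hE : IsClosed E) (h : ∀ x ∈ closedPoints X, x ∈ O ↔ x ∈ E) : O = E := by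
  apply Set.Subset.antisymm
  · intro x hx
    by_contra hxE
    obtain ⟨y, ⟨hyO, hyE⟩, hy⟩ :=
      nonempty_inter_closedPoints (Z := O ∩ Eᶜ) ⟨x, hx, hxE⟩ (hO.inter hE.isOpen_compl).isLocallyClosed
    exact hyE ((h y hy).1 hyO)
  · intro x hx
    by_contra hxO
    obtain ⟨y, ⟨hyE, hyO⟩, hy⟩ :=
      nonempty_inter_closedPoints (Z := E ∩ Oᶜ) ⟨x, hx, hxO⟩ (hE.inter hO.isClosed_compl).isLocallyClosed
    exact hyO ((h y hy).2 hyE)

variable {k : Type u} [Field k]

local notation "S₀" => Over (Spec (CommRingCat.of k))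

theorem mem_range_axis (Z A : S₀) (a : 𝟙_ S₀ ⟶ A) (w : (Z ⊗ A).left) (s : (𝟙_ S₀).left)
    (hw : (snd Z A).left w = a.left s) : ∃ z, w = (lift (𝟙 Z) (toUnit Z ≫ a)).left z := by
  let g : (Z ⊗ A).left ⟶ A.left := pullback.snd Z.hom A.hom
  obtain ⟨v, hv1, -⟩ := Scheme.Pullback.exists_preimage_pullback (f := g) (g := a.left) w s hw
  refine ⟨(pullback.fst g a.left ≫ pullback.fst Z.hom A.hom) v, ?_⟩
  have ha : a.left ≫ A.hom = 𝟙 _ := Over.w a
  have hsnd : pullback.snd g a.left = pullback.fst g a.left ≫ pullback.fst Z.hom A.hom ≫ Z.hom := by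
    rw [pullback.condition (f := Z.hom) (g := A.hom)]
    change _ = pullback.fst g a.left ≫ g ≫ A.hom
    rw [pullback.condition_assoc, ha]
    exact (Category.comp_id _).symm
  have hA1 : (lift (𝟙 Z) (toUnit Z ≫ a)).left ≫ pullback.fst Z.hom A.hom = 𝟙 Z.left := by
    show (lift (𝟙 Z) (toUnit Z ≫ a)).left ≫ (fst Z A).left = _
    rw [← Over.comp_left, lift_fst]; rfl
  have hA2 : (lift (𝟙 Z) (toUnit Z ≫ a)).left ≫ g = Z.hom ≫ a.left := by
    show (lift (𝟙 Z) (toUnit Z ≫ a)).left ≫ (snd Z A).left = _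
    rw [← Over.comp_left, lift_snd]; rfl
  have hfac : pullback.fst g a.left =
      (pullback.fst g a.left ≫ pullback.fst Z.hom A.hom) ≫ (lift (𝟙 Z) (toUnit Z ≫ a)).left := by
    apply pullback.hom_ext
    · rw [Category.assoc, hA1]
      exact (Category.comp_id _).symm
    · change pullback.fst g a.left ≫ g = (_ ≫ _) ≫ g
      rw [Category.assoc, hA2, pullback.condition, hsnd]
      simp only [Category.assoc]
  rw [← hv1]
  exact congr($hfac v)

variable [IsAlgClosed k]

theorem exists_point (Z : S₀) [LocallyOfFiniteType Z.hom] (z : Z.left) (hz : IsClosed {z}) :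
    ∃ ζ : 𝟙_ S₀ ⟶ Z, ζ.left (IsLocalRing.closedPoint k) = z :=
  ⟨Over.homMk (pointOfClosedPoint Z.hom z hz) (pointOfClosedPoint_comp _ _ _), pointOfClosedPoint_apply _ _ _ _⟩

theorem constant_of_affine (Z : S₀) [IsProper Z.hom] [IsReduced Z.left] [ConnectedSpace Z.left]
    {U : Scheme.{u}} [IsAffine U] (h : Z.left ⟶ U) (ζ₁ ζ₂ : 𝟙_ S₀ ⟶ Z) : ζ₁.left ≫ h = ζ₂.left ≫ h := by
  apply ext_of_isAffine
  rw [Scheme.Hom.comp_appTop, Scheme.Hom.comp_appTop]
  congr 1
  ext b
  obtain ⟨c, rfl⟩ := surjective_appTop_of_isAlgClosed k Z.hom b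
  have e : ∀ ζ : 𝟙_ S₀ ⟶ Z, Z.hom.appTop ≫ ζ.left.appTop = 𝟙 _ := fun ζ => by
    rw [← Scheme.Hom.comp_appTop, Over.w ζ]
    rfl
  exact (congr($(e ζ₁) c)).trans (congr($(e ζ₂) c)).symm

theorem collapse_all (A Z Y : S₀) [GrpObj A] [IsProper A.hom] [ConnectedSpace A.left] [IsProper Z.hom]
    [IsReduced Z.left] [ConnectedSpace Z.left] [IsSeparated Y.hom] (i : Z ⟶ A) (fo : A ⟶ Y)
    (ζ₀ : 𝟙_ S₀ ⟶ Z) (hζ₀ : ζ₀ ≫ i = 1)
    (hf : ∀ ζ : 𝟙_ S₀ ⟶ Z, (ζ ≫ i) ≫ fo = (1 : 𝟙_ S₀ ⟶ A) ≫ fo) (b : 𝟙_ S₀ ⟶ A) :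
    (∀ ζ : 𝟙_ S₀ ⟶ Z, ((ζ ≫ i) * b) ≫ fo = b ≫ fo) ∧
      ∀ z, (((i * (toUnit Z ≫ b)) ≫ fo).left) z = (b ≫ fo).left (IsLocalRing.closedPoint k) := by
  classical
  set pt : Spec (CommRingCat.of k) := IsLocalRing.closedPoint k
  have hsub : Subsingleton ↥(𝟙_ (Over (Spec (CommRingCat.of k)))).left := inferInstanceAs (Subsingleton ↥(Spec (CommRingCat.of k)))
  have hZJ : JacobsonSpace Z.left := LocallyOfFiniteType.jacobsonSpace Z.hom
  have hAJ : JacobsonSpace A.left := LocallyOfFiniteType.jacobsonSpace A.hom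
  let T : (𝟙_ S₀ ⟶ A) → Prop := fun b => ∀ ζ : 𝟙_ S₀ ⟶ Z, ((ζ ≫ i) * b) ≫ fo = b ≫ fo
  have hcomp : ∀ (b : 𝟙_ S₀ ⟶ A) (ζ : 𝟙_ S₀ ⟶ Z), ζ ≫ (i * (toUnit Z ≫ b)) = (ζ ≫ i) * b := fun b ζ => by
    rw [MonObj.comp_mul, ← Category.assoc ζ (toUnit Z) b, toUnit_unique (ζ ≫ toUnit Z) (𝟙 _), Category.id_comp]
  have hall : ∀ b : 𝟙_ S₀ ⟶ A, T b → ∀ z, ((i * (toUnit Z ≫ b)) ≫ fo).left z = (b ≫ fo).left pt := by
    intro b hb
    have hy : IsClosed ({(b ≫ fo).left pt} : Set Y.left) := by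
      have := isClosedImmersion_of_comp_eq_id _ _ (Over.w (b ≫ fo))
      have hr := (b ≫ fo).left.isClosedEmbedding.isClosed_range
      rwa [Set.range_eq_singleton (y := (b ≫ fo).left pt) fun x => (congrArg (b ≫ fo).left (Subsingleton.elim x pt))] at hr
    intro z
    by_contra hz
    obtain ⟨z', hz', hcl⟩ := nonempty_inter_closedPoints (Z := (((i * (toUnit Z ≫ b)) ≫ fo).left ⁻¹' {(b ≫ fo).left pt})ᶜ)
      ⟨z, hz⟩ ((hy.preimage (Scheme.Hom.continuous _)).isOpen_compl).isLocallyClosed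
    obtain ⟨ζ, rfl⟩ := exists_point Z z' hcl
    apply hz'
    show (ζ ≫ (i * (toUnit Z ≫ b)) ≫ fo).left pt = _
    rw [← Category.assoc, hcomp, hb ζ]
  have hnb : ∀ a : 𝟙_ S₀ ⟶ A, T a → ∃ V : A.left.Opens, a.left pt ∈ V ∧ ∀ b : 𝟙_ S₀ ⟶ A, b.left pt ∈ V → T b := by
    intro a ha
    obtain ⟨_, ⟨U, hU, rfl⟩, hyU, -⟩ :=
      Y.left.isBasis_affineOpens.exists_subset_of_mem_open (Set.mem_univ ((a ≫ fo).left pt)) isOpen_univ
    let Φ : Z ⊗ A ⟶ Y := ((fst Z A ≫ i) * snd Z A) ≫ fo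
    have : IsProper (snd Z A).left := inferInstanceAs (IsProper (pullback.snd Z.hom A.hom))
    let V : A.left.Opens := ⟨((snd Z A).left '' ((Φ.left ⁻¹ᵁ U : (Z ⊗ A).left.Opens) : Set (Z ⊗ A).left)ᶜ)ᶜ,
      ((snd Z A).left.isClosedMap _ (Φ.left ⁻¹ᵁ U).isOpen.isClosed_compl).isOpen_compl⟩
    have hax : ∀ c : 𝟙_ S₀ ⟶ A, lift (𝟙 Z) (toUnit Z ≫ c) ≫ Φ = (i * (toUnit Z ≫ c)) ≫ fo := fun c => by
      simp only [Φ, ← Category.assoc, MonObj.comp_mul, lift_fst, lift_snd, Category.id_comp]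
    refine ⟨V, ?_, fun b hb ζ => ?_⟩
    · rintro ⟨w, hw, hwa⟩
      obtain ⟨z, rfl⟩ := mem_range_axis Z A a w pt hwa
      refine hw (show (lift (𝟙 Z) (toUnit Z ≫ a) ≫ Φ).left z ∈ U from ?_)
      rw [hax, hall a ha z]
      exact hyU
    · have hsub : Set.range ((i * (toUnit Z ≫ b)) ≫ fo).left ⊆ Set.range (Scheme.Opens.ι U) := by
        rintro _ ⟨z, rfl⟩
        rw [Scheme.Opens.range_ι, ← hax]
        by_contra hc
        refine hb ⟨(lift (𝟙 Z) (toUnit Z ≫ b)).left z, hc, ?_⟩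
        show (lift (𝟙 Z) (toUnit Z ≫ b) ≫ snd Z A).left z = _
        rw [lift_snd, Over.comp_left, Scheme.Hom.comp_apply]
        exact congrArg b.left (Subsingleton.elim _ _)
      have : IsAffine (Scheme.Opens.toScheme U) := hU
      have e := constant_of_affine Z (IsOpenImmersion.lift (Scheme.Opens.ι U) _ hsub) ζ ζ₀
      have e' := congrArg (· ≫ Scheme.Opens.ι U) e
      simp only [Category.assoc, IsOpenImmersion.lift_fac] at e'
      have e'' : ζ ≫ (i * (toUnit Z ≫ b)) ≫ fo = ζ₀ ≫ (i * (toUnit Z ≫ b)) ≫ fo := Over.OverMorphism.ext e'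
      rw [← Category.assoc, ← Category.assoc, hcomp, hcomp, hζ₀, _root_.one_mul] at e''
      exact e''
  choose! V haV hV using hnb
  let O : Set A.left := ⋃ (a : 𝟙_ S₀ ⟶ A) (_ : T a), (V a : Set A.left)
  let E₀ : (𝟙_ S₀ ⟶ Z) → Set A.left := fun ζ =>
    (pullback.lift ((((toUnit A ≫ ζ ≫ i) * 𝟙 A) ≫ fo).left) fo.left (by rw [Over.w, Over.w])) ⁻¹'
      Set.range (pullback.diagonal Y.hom)
  let E : Set A.left := ⋂ ζ, E₀ ζ
  have hLc : ∀ (b : 𝟙_ S₀ ⟶ A) (ζ : 𝟙_ S₀ ⟶ Z), b ≫ ((toUnit A ≫ ζ ≫ i) * 𝟙 A) = (ζ ≫ i) * b := fun b ζ => by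
    rw [MonObj.comp_mul, ← Category.assoc b (toUnit A), toUnit_unique (b ≫ toUnit A) (𝟙 _), Category.id_comp,
      Category.comp_id]
  have hTE : ∀ b : 𝟙_ S₀ ⟶ A, T b ↔ b.left pt ∈ E := by
    intro b
    refine ⟨fun hb => Set.mem_iInter.2 fun ζ => ⟨(b ≫ fo).left pt, ?_⟩, fun hb ζ => ?_⟩
    · have h1 : b.left ≫ pullback.lift ((((toUnit A ≫ ζ ≫ i) * 𝟙 A) ≫ fo).left) fo.left (by rw [Over.w, Over.w]) =
          (b ≫ fo).left ≫ pullback.diagonal Y.hom := by
        apply pullback.hom_ext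
        · rw [Category.assoc, Category.assoc, pullback.lift_fst, pullback.diagonal_fst, Category.comp_id,
            ← Over.comp_left, ← Category.assoc, hLc, hb ζ]
        · rw [Category.assoc, Category.assoc, pullback.lift_snd, pullback.diagonal_snd, Category.comp_id,
            ← Over.comp_left]
      exact (congr($h1 pt)).symm
    · obtain ⟨y, hy⟩ := Set.mem_iInter.1 hb ζ
      apply Over.OverMorphism.ext
      refine section_eq_of_apply_eq Y.hom (Over.w _) (Over.w _) ?_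
      have h1 := congrArg (pullback.fst Y.hom Y.hom) hy
      have h2 := congrArg (pullback.snd Y.hom Y.hom) hy
      simp only [← Scheme.Hom.comp_apply, pullback.diagonal_fst, pullback.diagonal_snd, Category.assoc,
        pullback.lift_fst, pullback.lift_snd] at h1 h2
      rw [← hLc, Category.assoc]
      exact h1.symm.trans h2
  have hOE : O = E := by
    refine eq_of_closedPoints_eq (isOpen_iUnion fun a => isOpen_iUnion fun _ => (V a).isOpen)
      (isClosed_iInter fun ζ => ((pullback.diagonal Y.hom).isClosedEmbedding.isClosed_range).preimage (Scheme.Hom.continuous _))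
      fun x hx => ?_
    obtain ⟨c, rfl⟩ := exists_point A x hx
    rw [← hTE]
    refine ⟨fun h => ?_, fun h => Set.mem_iUnion₂.2 ⟨c, h, haV c h⟩⟩
    obtain ⟨a, ha, hca⟩ := Set.mem_iUnion₂.1 h
    exact hV a ha c hca
  have h1 : T 1 := fun ζ => by
    show ((ζ ≫ i) * 1) ≫ fo = _
    rw [_root_.mul_one]; exact hf ζ
  have hmem : (1 : 𝟙_ S₀ ⟶ A).left pt ∈ O := Set.mem_iUnion₂.2 ⟨1, h1, haV 1 h1⟩
  have huniv : O = Set.univ := IsClopen.eq_univ
    ⟨hOE ▸ isClosed_iInter fun ζ => ((pullback.diagonal Y.hom).isClosedEmbedding.isClosed_range).preimage (Scheme.Hom.continuous _),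
      isOpen_iUnion fun a => isOpen_iUnion fun _ => (V a).isOpen⟩ ⟨_, hmem⟩
  have hb : T b := (hTE b).2 (hOE ▸ huniv ▸ Set.mem_univ _)
  exact ⟨hb, hall b hb⟩


/-- Let k be an algebraically closed field, A an abelian variety over k (a k-group scheme whose
structure morphism is proper, smooth and geometrically connected) with unit point e, Y a scheme
separated over k and f : A → Y a morphism over k. Write F₀ for the connected component of e in the
fibre f⁻¹(f(e)). Then the k-rational points of F₀ are stable under the group law: if k-points x and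
y of A lie in F₀ then so do the product point x·y and the inverse point x⁻¹. (The published
statement is for Y a k-variety and concludes that F₀ with its reduced structure is an abelian
subvariety, together with the translation formula F_a = a + F₀; this row records the closure of
F₀(k) under multiplication and inversion, for Y merely separated over k.) -/
theorem result (k : Type u) [Field k] [IsAlgClosed k]
    (A : Over (Spec (CommRingCat.of k))) [GrpObj A] [IsProper A.hom] [Smooth A.hom] [GeometricallyConnected A.hom]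
    {Y : Scheme.{u}} (q : Y ⟶ Spec (CommRingCat.of k)) [IsSeparated q] (f : A.left ⟶ Y) (hf : f ≫ q = A.hom)
    (x y : 𝟙_ (Over (Spec (CommRingCat.of k))) ⟶ A)
    (hx : x.left (IsLocalRing.closedPoint k) ∈
      connectedComponentIn (f ⁻¹' {f (η[A].left (IsLocalRing.closedPoint k))}) (η[A].left (IsLocalRing.closedPoint k)))
    (hy : y.left (IsLocalRing.closedPoint k) ∈
      connectedComponentIn (f ⁻¹' {f (η[A].left (IsLocalRing.closedPoint k))}) (η[A].left (IsLocalRing.closedPoint k))) :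
    (lift x y ≫ μ[A]).left (IsLocalRing.closedPoint k) ∈
        connectedComponentIn (f ⁻¹' {f (η[A].left (IsLocalRing.closedPoint k))}) (η[A].left (IsLocalRing.closedPoint k)) ∧
      (x ≫ ι[A]).left (IsLocalRing.closedPoint k) ∈
        connectedComponentIn (f ⁻¹' {f (η[A].left (IsLocalRing.closedPoint k))}) (η[A].left (IsLocalRing.closedPoint k)) := by
  have : ConnectedSpace A.left := GeometricallyConnected.connectedSpace_of_subsingleton A.hom
  let Yo : Over (Spec (CommRingCat.of k)) := Over.mk q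
  have : IsSeparated Yo.hom := ‹_›
  let fo : A ⟶ Yo := Over.homMk f hf
  set pt : Spec (CommRingCat.of k) := IsLocalRing.closedPoint k
  have hsub : Subsingleton ↥(𝟙_ (Over (Spec (CommRingCat.of k)))).left := inferInstanceAs (Subsingleton ↥(Spec (CommRingCat.of k)))
  set e₀ := η[A].left pt
  have hfe : IsClosed ({f e₀} : Set Y) := by
    have := isClosedImmersion_of_comp_eq_id _ _ (Over.w (η[A] ≫ fo))
    have hr := (η[A] ≫ fo).left.isClosedEmbedding.isClosed_range
    rw [Set.range_eq_singleton (y := f e₀) fun x => (congrArg (η[A] ≫ fo).left (Subsingleton.elim x pt)).trans rfl] at hr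
    exact hr
  set F := f ⁻¹' {f e₀}
  set C := connectedComponentIn F e₀
  have hFc : IsClosed F := hfe.preimage f.continuous
  have he₀ : e₀ ∈ F := rfl
  have hCc : IsClosed C := by
    show IsClosed (connectedComponentIn F e₀)
    rw [connectedComponentIn_eq_image he₀]
    exact hFc.isClosedEmbedding_subtypeVal.isClosedMap _ isClosed_connectedComponent
  let I := Scheme.IdealSheafData.vanishingIdeal (⟨C, hCc⟩ : Closeds A.left)
  have hrange : Set.range I.subschemeι = C := by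
    rw [Scheme.IdealSheafData.range_subschemeι, Scheme.IdealSheafData.coe_support_vanishingIdeal]
    rfl
  have : IsReduced I.subscheme := Groth.Agent.Props12.isReduced_subscheme_vanishingIdeal _
  let Z : Over (Spec (CommRingCat.of k)) := Over.mk (I.subschemeι ≫ A.hom)
  let i : Z ⟶ A := Over.homMk I.subschemeι
  have : IsReduced Z.left := ‹_›
  have : IsProper Z.hom := inferInstanceAs (IsProper (I.subschemeι ≫ A.hom))
  have hC : _root_.IsPreconnected C := isPreconnected_connectedComponentIn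
  have : ConnectedSpace Z.left := by
    obtain ⟨z₀, -⟩ := (hrange.ge (mem_connectedComponentIn he₀) : e₀ ∈ Set.range I.subschemeι)
    refine connectedSpace_iff_univ.2 ⟨⟨z₀, trivial⟩, ?_⟩
    refine (I.subschemeι.isEmbedding.isInducing.isPreconnected_image).1 ?_
    rw [Set.image_univ, hrange]
    exact hC
  obtain ⟨z₀, hz₀⟩ := (hrange.ge (mem_connectedComponentIn he₀) : e₀ ∈ Set.range I.subschemeι)
  have hz₀c : IsClosed ({z₀} : Set Z.left) := by
    have he : IsClosed ({e₀} : Set A.left) := by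
      have := isClosedImmersion_of_comp_eq_id _ _ (Over.w η[A])
      have hr := η[A].left.isClosedEmbedding.isClosed_range
      rw [Set.range_eq_singleton (y := e₀) fun x => congrArg η[A].left (Subsingleton.elim x pt)] at hr
      exact hr
    rw [show ({z₀} : Set Z.left) = I.subschemeι ⁻¹' {e₀} from by
      ext z
      refine ⟨fun h => (congrArg I.subschemeι h).trans hz₀, fun h => ?_⟩
      exact I.subschemeι.isEmbedding.injective (h.trans hz₀.symm)]
    exact he.preimage I.subschemeι.continuous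
  obtain ⟨ζ₀, hζ₀⟩ := exists_point Z z₀ hz₀c
  have hζi : ζ₀ ≫ i = 1 := by
    apply Over.OverMorphism.ext
    refine section_eq_of_apply_eq A.hom (Over.w _) (Over.w _) ?_
    show I.subschemeι (ζ₀.left pt) = _
    rw [hζ₀, hz₀, ← MonObj.one_eq_one]
  have hZF : ∀ z, f (I.subschemeι z) = f e₀ := fun z => connectedComponentIn_subset F e₀ (hrange.le ⟨z, rfl⟩)
  have hstart : ∀ ζ : 𝟙_ _ ⟶ Z, (ζ ≫ i) ≫ fo = (1 : 𝟙_ _ ⟶ A) ≫ fo := fun ζ => by
    apply Over.OverMorphism.ext
    refine section_eq_of_apply_eq q (Over.w _) (Over.w _) ?_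
    show f (I.subschemeι (ζ.left pt)) = f _
    rw [hZF, ← MonObj.one_eq_one]
    rfl
  have key := collapse_all A Z Yo i fo ζ₀ hζi hstart
  -- the translate of `C` by a point with the same image
  have htr : ∀ b : 𝟙_ _ ⟶ A, f (b.left pt) = f e₀ → Set.range (i * (toUnit Z ≫ b)).left ⊆ F ∧
      _root_.IsPreconnected (Set.range (i * (toUnit Z ≫ b)).left) := fun b hb =>
    ⟨by rintro _ ⟨z, rfl⟩; exact ((key b).2 z).trans hb, isPreconnected_range (Scheme.Hom.continuous _)⟩
  have hpt : ∀ (a b : 𝟙_ _ ⟶ A), a.left pt ∈ C → ∃ ζ : 𝟙_ _ ⟶ Z, ζ ≫ i = a ∧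
      (a * b).left pt ∈ Set.range (i * (toUnit Z ≫ b)).left := by
    intro a b ha
    obtain ⟨z, hz⟩ := (hrange.ge ha : a.left pt ∈ Set.range I.subschemeι)
    have hzc : IsClosed ({z} : Set Z.left) := by
      have := isClosedImmersion_of_comp_eq_id _ _ (Over.w a)
      have hr := a.left.isClosedEmbedding.isClosed_range
      rw [Set.range_eq_singleton (y := a.left pt) fun x => congrArg a.left (Subsingleton.elim x pt)] at hr
      rw [show ({z} : Set Z.left) = I.subschemeι ⁻¹' {a.left pt} from by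
        ext w
        exact ⟨fun h => (congrArg I.subschemeι h).trans hz, fun h => I.subschemeι.isEmbedding.injective (h.trans hz.symm)⟩]
      exact hr.preimage I.subschemeι.continuous
    obtain ⟨ζ, hζ⟩ := exists_point Z z hzc
    have hζa : ζ ≫ i = a := by
      apply Over.OverMorphism.ext
      refine section_eq_of_apply_eq A.hom (Over.w _) (Over.w _) ?_
      show I.subschemeι (ζ.left pt) = _
      rw [hζ, hz]
    refine ⟨ζ, hζa, ζ.left pt, ?_⟩
    have : ζ ≫ (i * (toUnit Z ≫ b)) = a * b := by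
      rw [MonObj.comp_mul, ← Category.assoc ζ (toUnit Z) b, toUnit_unique (ζ ≫ toUnit Z) (𝟙 _), Category.id_comp, hζa]
    exact congr(($this).left pt)
  have hfy : f (y.left pt) = f e₀ := connectedComponentIn_subset F e₀ hy
  have hCb : ∀ b : 𝟙_ _ ⟶ A, b.left pt ∈ Set.range (i * (toUnit Z ≫ b)).left := fun b => by
    obtain ⟨-, -, h⟩ := hpt η[A] b (mem_connectedComponentIn he₀)
    rwa [MonObj.one_eq_one, _root_.one_mul] at h
  constructor
  · obtain ⟨hsubF, hconn⟩ := htr y hfy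
    have hyC : connectedComponentIn F (y.left pt) = C := (connectedComponentIn_eq hy).symm
    show _ ∈ C
    rw [← hyC]
    refine hconn.subset_connectedComponentIn (hCb y) hsubF ?_
    exact (hpt x y hx).choose_spec.2
  · obtain ⟨ζ, hζ, -⟩ := hpt x x⁻¹ hx
    have h1 := (key x⁻¹).1 ζ
    rw [hζ, mul_inv_cancel] at h1
    have h2 : f e₀ = f (x⁻¹.left pt) := by
      have := congr(($h1).left pt)
      rw [← MonObj.one_eq_one] at this
      exact this
    obtain ⟨hsubF, hconn⟩ := htr x⁻¹ h2.symm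
    have he : e₀ ∈ Set.range (i * (toUnit Z ≫ x⁻¹)).left := by
      have := (hpt x x⁻¹ hx).choose_spec.2
      rwa [mul_inv_cancel, ← MonObj.one_eq_one] at this
    show (x ≫ ι[A]).left pt ∈ C
    rw [← Hom.inv_def]
    exact hconn.subset_connectedComponentIn he hsubF (hCb x⁻¹)

end Groth.Agent.S19533
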