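import Groth.Statements.S19535
import Groth.Agent.Hurwitz24.Main
import Groth.Agent.PicLib.FormalGen
import Groth.Agent.Coherent.SupportPullback
import Groth.Agent.EulerLib.SupportVanishing
import Groth.Agent.KLLib.Basic

set_option autoImplicit false
universe u
open CategoryTheory CategoryTheory.Limits AlgebraicGeometry TopologicalSpace
open Curves

namespace Groth.Agent.S19535

/-- Dichotomy for the differential of a map of smooth curves: let k be a field, X and Y integral schemes
each smooth, separated and quasi-compact over Spec k and of dimension one, and φ : X → Y a morphism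
over k. Let Ω_Y and Ω_X be sheaves of differentials of Y and of X over k, given as universal
derivations, and c : φ^*Ω_Y → Ω_X the compatible map dφ (sending the pullback of d_Y s to d_X(φ^♯
s)). Then exactly one of two things happens, stated here as a disjunction: either c is the zero map,
or c is a monomorphism of O_X-modules and its cokernel (the sheaf of relative differentials Ω_{X/Y})
restricts to zero on some nonempty open subset of X, so that it is supported at finitely many closed
points. (The published statement is for smooth curves, which are in addition geometrically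
connected; integrality of X and Y is what the argument uses.) -/
theorem result (k : Type u) [Field k] {X Y : Scheme.{u}}
    (pX : X ⟶ Spec (CommRingCat.of k)) (pY : Y ⟶ Spec (CommRingCat.of k)) (φ : X ⟶ Y) (w : φ ≫ pY = pX)
    [IsIntegral X] [Smooth pX] [IsSeparated pX] [QuasiCompact pX] (hdX : topologicalKrullDim X = 1)
    [IsIntegral Y] [Smooth pY] [IsSeparated pY] [QuasiCompact pY] (hdY : topologicalKrullDim Y = 1)
    (ΩY : Y.Modules) (dY : OmegaSh.Der pY ΩY) (hY : OmegaSh.IsUniversal dY)
    (ΩX : X.Modules) (dX : OmegaSh.Der pX ΩX) (hX : OmegaSh.IsUniversal dX)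
    (c : (Scheme.Modules.pullback φ).obj ΩY ⟶ ΩX) (hc : OmegaSh.IsDiffCompat φ dY dX c) :
    c = 0 ∨ (Mono c ∧ ∃ U : X.Opens, (U : Set X).Nonempty ∧ IsZero ((Scheme.Modules.pullback U.ι).obj (cokernel c))) := by
  classical
  haveI : IsLocallyNoetherian X := LocallyOfFiniteType.isLocallyNoetherian pX
  obtain ⟨eX⟩ := Hurwitz24.nonempty_iso_of_isUniversal hX (OmegaLib.isUniversal_dOmega pX)
  obtain ⟨eY⟩ := Hurwitz24.nonempty_iso_of_isUniversal hY (OmegaLib.isUniversal_dOmega pY)
  have hiX : PicF.IsInvertible ΩX := by
    letI : X.Over (Spec (CommRingCat.of k)) := ⟨pX⟩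
    haveI : IsSeparated (X ↘ Spec (CommRingCat.of k)) := ‹IsSeparated pX›
    haveI : Smooth (X ↘ Spec (CommRingCat.of k)) := ‹Smooth pX›
    exact KLLib.isInvertible_of_iso eX.symm (OmegaDual24.isInvertible_omega (k := k) hdX)
  have hiY : PicF.IsInvertible ΩY := by
    letI : Y.Over (Spec (CommRingCat.of k)) := ⟨pY⟩
    haveI : IsSeparated (Y ↘ Spec (CommRingCat.of k)) := ‹IsSeparated pY›
    haveI : Smooth (Y ↘ Spec (CommRingCat.of k)) := ‹Smooth pY›
    exact KLLib.isInvertible_of_iso eY.symm (OmegaDual24.isInvertible_omega (k := k) hdY)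
  by_cases hc0 : c = 0
  · exact Or.inl hc0
  right
  have hP := PicLoc.isInvertible_pullback φ hiY
  have hXc : Coh.IsCoh ΩX := PicLib.isCoh_of_isInvertible hiX
  have hPc : Coh.IsCoh ((Scheme.Modules.pullback φ).obj ΩY) := PicLib.isCoh_of_isInvertible hP
  have hb := fun x : X => SplitP1.nonempty_basis_stalk (PicLib.isFinLocFreeOfRank_one hiX) x
  have hb' := fun x : X => SplitP1.nonempty_basis_stalk (PicLib.isFinLocFreeOfRank_one hP) x
  haveI hm : Mono c := SplitP1.mono_of_ne_zero' hXc (fun x => (hb x).elim fun b => Module.Free.of_basis b) hP c hc0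
  refine ⟨hm, ?_⟩
  have hQ : Coh.IsCoh (cokernel c) := Coherent.isCoh_cokernel c hPc.1 hXc
  have hT : IsClosed (CohB1.support (cokernel c)) :=
    Coherent.isClosed_support _ (Coherent.locallyFinGen_of_isFT _ hQ.2)
  let η := genericPoint X
  let St := DerSch.stalkFunctor X η
  
  have hsurj : Function.Surjective (St.map c).hom := by
    have hinj : Function.Injective (St.map c).hom := (ModuleCat.mono_iff_injective _).1 inferInstance
    let ψ : ((Scheme.Modules.pullback φ).obj ΩY).presheaf.stalk η →ₗ[X.functionField] ΩX.presheaf.stalk η :=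
      (St.map c).hom
    obtain ⟨b⟩ := hb η
    obtain ⟨b'⟩ := hb' η
    haveI : Module.Finite X.functionField (((Scheme.Modules.pullback φ).obj ΩY).presheaf.stalk η) :=
      Module.Finite.of_basis b'
    haveI : Module.Finite X.functionField (ΩX.presheaf.stalk η) := Module.Finite.of_basis b
    exact (LinearMap.injective_iff_surjective_of_finrank_eq_finrank (f := ψ)
      ((Module.finrank_eq_card_basis b').trans (Module.finrank_eq_card_basis b).symm)).1 hinj
  haveI : Epi (St.map c) := (ModuleCat.epi_iff_surjective _).2 hsurj
  have hz : IsZero (St.obj (cokernel c)) := by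
    refine IsZero.of_epi_eq_zero (St.map (cokernel.π c)) ?_
    rw [← cancel_epi (St.map c), ← Functor.map_comp, cokernel.condition, Functor.map_zero, comp_zero]
  have hη : η ∉ CohB1.support (cokernel c) := (Coherent.notMem_support_iff _ η).2 hz
  refine ⟨⟨_, hT.isOpen_compl⟩, ⟨η, hη⟩, ?_⟩
  refine EulerLib.isZero_of_support_eq_empty ?_
  rw [Coherent.support_pullback_qcoh _ hQ.1 hQ.2]
  exact Set.eq_empty_of_forall_notMem fun y hy => y.2 hy

end Groth.Agent.S19535
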