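import Groth.Statements.S19536
import Groth.Agent.RGamT.CompCoreflect
-- import your own Groth.Agent.* helpers here

set_option autoImplicit false
open CategoryTheory CategoryTheory.Limits AlgebraicGeometry
universe u
attribute [local instance] HasDerivedCategory.standard
open FTors

namespace Groth.Agent.S19536

/-- Let X be a locally Noetherian scheme, 𝓘 a quasi-coherent ideal of O_X with closed subset Z, X̂ the
completion of X along 𝓘, κ : X̂ ⟶ X the completion morphism of ringed spaces with κ^* exact
(assumed), so that κ^* is defined on unbounded derived categories, and assume the derived torsion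
functors RΓ'_X̂ and RΓ_Z' exist. Let E, F ∈ D(O_X) and suppose that E or F has 𝓘-power-torsion
cohomology sheaves (lies in D_Z(X)). Then the map Hom_{D(X)}(E, F) → Hom_{D(X̂)}(κ^*E, κ^*F), φ ↦
κ^*φ, is bijective. (The published statement factors this map through Hom_{D(X)}(E, κ_*κ^*F) by
adjunction; the composite is the map on morphisms of the functor κ^*, which is what is asserted
here. The existence hypotheses on the derived torsion functors are those of the surrounding section
and are not used in the conclusion.) -/
theorem result (X : Scheme.{u}) [IsLocallyNoetherian X]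
    (𝓘 : X.IdealSheafData) (hX : (FSch.completionAlong X 𝓘).IsFormal)
    [PreservesFiniteLimits (FSch.toSchemeMor (FSch.completionAlong X 𝓘) hX (FSch.completionToX X 𝓘) (FSch.completionToX_comm X 𝓘)).pull]
    [FTors.HasRgammaT (FSch.completionAlong X 𝓘) hX] [FTors.HasRgammaZp X 𝓘]
    (E F : DerivedCategory (ModSite.Mod X.sheaf)) (hEF : FTors.IsDTorsZp X 𝓘 E ∨ FTors.IsDTorsZp X 𝓘 F) :
    Function.Bijective (fun φ : E ⟶ F => (SiteCmp.pullD (FSch.toSchemeMor (FSch.completionAlong X 𝓘) hX (FSch.completionToX X 𝓘) (FSch.completionToX_comm X 𝓘))).map φ) := by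
  have hci : ∀ n, IsClosedImmersion (FSch.completionToX X 𝓘 n) := fun n =>
    inferInstanceAs (IsClosedImmersion (𝓘 ^ (n + 1)).subschemeι)
  have hker : ∀ n, (FSch.completionToX X 𝓘 n).ker = 𝓘 ^ (n + 1) := fun n =>
    Scheme.IdealSheafData.ker_subschemeι _
  have hL := Groth.Agent.FSchLib.isLocNoethFormal_completionAlong 𝓘
  exact Groth.Agent.RGamT.bijective_pullD_map (FSch.completionToX X 𝓘) (FSch.completionToX_comm X 𝓘) hX hci 𝓘 hker hL E F hEF

end Groth.Agent.S19536
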