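import Groth.Statements.S19537
import Groth.Agent.RGamT.CompQcPull
import Groth.Agent.RGamT.CompQcPush
import Groth.Agent.RGamT.CompDer
import Groth.Agent.Coherent.RpushSupport
-- import your own Groth.Agent.* helpers here

set_option autoImplicit false
open CategoryTheory CategoryTheory.Limits AlgebraicGeometry
universe u
attribute [local instance] HasDerivedCategory.standard
open FTors

namespace Groth.Agent.S19537

/-- Let X be a locally Noetherian scheme, 𝓘 a quasi-coherent ideal of O_X with closed subset Z, X̂ the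
completion of X along 𝓘 and κ : X̂ ⟶ X the completion morphism of ringed spaces, with κ^* exact
(assumed) and the derived direct image Rκ_* existing on unbounded derived categories. Write D_Z(X)
for the complexes of O_X-modules whose cohomology sheaves are 𝓘-power torsion and D_qcZ(X) for those
whose cohomology sheaves are moreover quasi-coherent; write D_t(X̂) for the complexes of
O_X̂-modules whose cohomology sheaves are torsion and D_qct(X̂) for those whose cohomology sheaves
are quasi-coherent torsion modules. Then κ^* sends D_Z(X) into D_t(X̂); Rκ_* sends D_t(X̂) into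
D_Z(X); κ^* sends D_qcZ(X) into D_qct(X̂); Rκ_* sends D_qct(X̂) into D_qcZ(X); and if M ∈ D_qct(X̂)
has coherent cohomology sheaves, then so does Rκ_*M. (The published statement says moreover that κ^*
and κ_* are inverse isomorphisms between D_Z(X) and D_t(X̂) and between D_qcZ(X) and D_qct(X̂); that
the unit and counit are isomorphisms there is not stated here.) -/
theorem result (X : Scheme.{u}) [IsLocallyNoetherian X]
    (𝓘 : X.IdealSheafData) (hX : (FSch.completionAlong X 𝓘).IsFormal)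
    [PreservesFiniteLimits (FSch.toSchemeMor (FSch.completionAlong X 𝓘) hX (FSch.completionToX X 𝓘) (FSch.completionToX_comm X 𝓘)).pull] [SiteCmp.HasRpushD (FSch.toSchemeMor (FSch.completionAlong X 𝓘) hX (FSch.completionToX X 𝓘) (FSch.completionToX_comm X 𝓘))] :
    (∀ F : DerivedCategory (ModSite.Mod X.sheaf), FTors.IsDTorsZp X 𝓘 F →
      FTors.IsDTorsF (FSch.completionAlong X 𝓘) hX ((SiteCmp.pullD (FSch.toSchemeMor (FSch.completionAlong X 𝓘) hX (FSch.completionToX X 𝓘) (FSch.completionToX_comm X 𝓘))).obj F)) ∧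
    (∀ G : DerivedCategory (FSch.ModF (FSch.completionAlong X 𝓘) hX), FTors.IsDTorsF (FSch.completionAlong X 𝓘) hX G →
      FTors.IsDTorsZp X 𝓘 ((SiteCmp.RpushD (FSch.toSchemeMor (FSch.completionAlong X 𝓘) hX (FSch.completionToX X 𝓘) (FSch.completionToX_comm X 𝓘))).obj G)) ∧
    (∀ F : DerivedCategory (ModSite.Mod X.sheaf), FTors.IsDTorsZp X 𝓘 F →
      (∀ i : ℤ, SheafOfModules.IsQuasicoherent.{u} (SiteCmp.HMod F i)) →
      FTors.IsDQCT (FSch.completionAlong X 𝓘) hX ((SiteCmp.pullD (FSch.toSchemeMor (FSch.completionAlong X 𝓘) hX (FSch.completionToX X 𝓘) (FSch.completionToX_comm X 𝓘))).obj F)) ∧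
    (∀ G : DerivedCategory (FSch.ModF (FSch.completionAlong X 𝓘) hX), FTors.IsDQCT (FSch.completionAlong X 𝓘) hX G →
      FTors.IsDTorsZp X 𝓘 ((SiteCmp.RpushD (FSch.toSchemeMor (FSch.completionAlong X 𝓘) hX (FSch.completionToX X 𝓘) (FSch.completionToX_comm X 𝓘))).obj G) ∧
        ∀ i : ℤ, SheafOfModules.IsQuasicoherent.{u} (SiteCmp.HMod ((SiteCmp.RpushD (FSch.toSchemeMor (FSch.completionAlong X 𝓘) hX (FSch.completionToX X 𝓘) (FSch.completionToX_comm X 𝓘))).obj G) i)) ∧
    (∀ G : DerivedCategory (FSch.ModF (FSch.completionAlong X 𝓘) hX), FTors.IsDQCT (FSch.completionAlong X 𝓘) hX G →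
      (∀ i : ℤ, FSch.IsCohF (FSch.completionAlong X 𝓘) hX (SiteCmp.HMod G i)) →
      ∀ i : ℤ, Coh.IsCoh (SiteCmp.HMod ((SiteCmp.RpushD (FSch.toSchemeMor (FSch.completionAlong X 𝓘) hX (FSch.completionToX X 𝓘) (FSch.completionToX_comm X 𝓘))).obj G) i)) := by
  have hci : ∀ n, IsClosedImmersion (FSch.completionToX X 𝓘 n) := fun n =>
    inferInstanceAs (IsClosedImmersion (𝓘 ^ (n + 1)).subschemeι)
  have hker : ∀ n, (FSch.completionToX X 𝓘 n).ker = 𝓘 ^ (n + 1) := fun n =>
    Scheme.IdealSheafData.ker_subschemeι _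
  have hL := Groth.Agent.FSchLib.isLocNoethFormal_completionAlong 𝓘
  have hqpush : ∀ G, FTors.IsDQCT (FSch.completionAlong X 𝓘) hX G → ∀ i : ℤ, SheafOfModules.IsQuasicoherent.{u}
      (SiteCmp.HMod ((SiteCmp.RpushD (FSch.toSchemeMor (FSch.completionAlong X 𝓘) hX (FSch.completionToX X 𝓘)
        (FSch.completionToX_comm X 𝓘))).obj G) i) := fun G hG i => by
    obtain ⟨e⟩ := Groth.Agent.RGamT.nonempty_HMod_push (FSch.completionToX X 𝓘) (FSch.completionToX_comm X 𝓘) hX hci G i
    exact ObjectProperty.prop_of_iso (SheafOfModules.isQuasicoherent (ModSite.ringSh X.sheaf)) e.symm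
      (Groth.Agent.RGamT.isQCoh_push _ _ hX hci 𝓘 hker hL (hG i))
  refine ⟨fun F hF => Groth.Agent.RGamT.isDTorsF_pullD _ _ hX hci 𝓘 hker hL hF,
    fun G hG => Groth.Agent.RGamT.isDTorsZp_RpushD _ _ hX hci 𝓘 hker hL hG, fun F hF hq i => ?_,
    fun G hG => ⟨Groth.Agent.RGamT.isDTorsZp_RpushD _ _ hX hci 𝓘 hker hL (fun i => (hG i).1), hqpush G hG⟩,
    fun G hG hc i => ?_⟩
  · refine ⟨Groth.Agent.RGamT.isDTorsF_pullD _ _ hX hci 𝓘 hker hL hF i, ?_⟩
    obtain ⟨e⟩ := Groth.Agent.RGamT.nonempty_HMod_pull (FSch.completionToX X 𝓘) (FSch.completionToX_comm X 𝓘) hX F i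
    haveI := hq i
    exact ObjectProperty.prop_of_iso (SheafOfModules.isQuasicoherent (ModSite.ringSh ((FSch.completionAlong X 𝓘).Osh hX))) e.symm
      (Groth.Agent.RGamT.isQuasicoherent_pull _ _ hX _)
  · obtain ⟨e⟩ := Groth.Agent.RGamT.nonempty_HMod_push (FSch.completionToX X 𝓘) (FSch.completionToX_comm X 𝓘) hX hci G i
    exact Groth.Agent.Coherent.isCoh_of_iso e.symm (Groth.Agent.RGamT.isCoh_push _ _ hX hci 𝓘 hker hL (hG i) (hc i))

end Groth.Agent.S19537
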