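import Groth.Statements.S19538
import Groth.Agent.RGamT.KoszulC

set_option autoImplicit false
open CategoryTheory CategoryTheory.Limits AlgebraicGeometry
universe u
attribute [local instance] HasDerivedCategory.standard
open FTors

namespace Groth.Agent.S19538

/-- Let 𝔛 be a locally Noetherian formal scheme (an adic system of thickenings with locally Noetherian
levels) and assume the total right derived functor RΓ'_𝔛 of the torsion functor exists on D(O_𝔛).
Then for every E ∈ D(O_𝔛) and every F ∈ D(O_𝔛) whose cohomology sheaves are all coherent,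
precomposition with the canonical morphism RΓ'_𝔛 E ⟶ E is a bijection Hom(E, F) ⟶ Hom(RΓ'_𝔛 E, F).
(The published statement asserts that this morphism induces an isomorphism of the complexes
RHom^•(E, F) ≅ RHom^•(RΓ'_𝔛 E, F); this row asserts the induced map on degree-zero cohomology, for
every F with coherent cohomology and hence for every shift of such an F.) -/
theorem result (𝔛 : FSch.Sys.{u}) (h𝔛 : 𝔛.IsLocNoethFormal)
    [FTors.HasRgammaT 𝔛 h𝔛.1] (E F : DerivedCategory (FSch.ModF 𝔛 h𝔛.1))
    (hF : ∀ i : ℤ, FSch.IsCohF 𝔛 h𝔛.1 (SiteCmp.HMod F i)) :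
    Function.Bijective (fun φ : E ⟶ F => (FTors.RgammaTε 𝔛 h𝔛.1).app E ≫ φ) := by
  exact RGamT.bijective_precomp_ε h𝔛 E F hF

end Groth.Agent.S19538
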