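import Groth.Statements.S1954
import Groth.Agent.CycLib28.TransInt
import Groth.Agent.CommAlg6.CodepthOpen

set_option autoImplicit false
universe u
open CategoryTheory CategoryTheory.Limits AlgebraicGeometry
attribute [local instance] HasDerivedCategory.standard
open IntMult

namespace Groth.Agent.S1954

/-- Let Y, Z → X be closed immersions into a nonsingular variety with δ ≤ r on Y and δ ≤ s on Z, such
that [Y]_r and [Z]_s intersect properly, and let τ be a point of δ-dimension r + s − n lying under Y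
and Z (the generic point of a component of the intersection of components of dimension r and s) at
which the scheme-theoretic intersection Y ×_X Z has multiplicity 1 (its local ring there has length
1). Then the coefficient of the closure of τ in [Y]_r · [Z]_s is 1, and the local rings of Y and Z
at the points over τ are regular. (The published statement has further parts, not restated here.)
Here X is a nonsingular variety over the algebraically closed field K (smooth, separated,
quasi-compact, integral) with dimension function δ (transcendence degree) and n = dim X; cycles are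
Mathlib AlgebraicCycles with Cyc.Zk membership, proper intersection is IntMult.IntersectProperly and
α · β is the Tor-formula intersection product on coefficient functions (IntMult.interProd), bundled
where needed as 'any cycle with these coefficients'. -/
theorem result (K : Type u) [Field K] [IsAlgClosed K] (X : Scheme.{u}) (f : X ⟶ Spec (CommRingCat.of K)) [Smooth f] [IsSeparated f] [QuasiCompact f] [IsIntegral X] (δ : X → ℤ) (hX : Cyc.IsSetup X δ) (hδ : Cyc.DeltaCompat f δ (fun _ => 0)) (n : ℤ) (hn : δ (genericPoint X) = n) (Y Z : Scheme.{u}) (ιY : Y ⟶ X) (ιZ : Z ⟶ X) [IsClosedImmersion ιY] [IsClosedImmersion ιZ] (r s : ℤ) (hY : ∀ y : Y, δ (ιY y) ≤ r) (hZ : ∀ z : Z, δ (ιZ z) ≤ s) (hprop : IntMult.IntersectProperly δ n (Cyc.subschemeFun δ r ιY) (Cyc.subschemeFun δ s ιZ)) (τ : X) (hτ : δ τ = r + s - n) (hξ : ∃ ξ η : X, Cyc.subschemeFun δ r ιY ξ ≠ 0 ∧ Cyc.subschemeFun δ s ιZ η ≠ 0 ∧ ξ ⤳ τ ∧ η ⤳ τ) (hmult : Cyc.subschemeFun δ (r + s - n) (pullback.fst ιY ιZ ≫ ιY)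 τ = 1) : IntMult.interProd δ n (Cyc.subschemeFun δ r ιY) (Cyc.subschemeFun δ s ιZ) τ = 1 ∧ (∀ y : Y, ιY y = τ → IsRegularLocalRing (Y.presheaf.stalk y)) ∧ (∀ z : Z, ιZ z = τ → IsRegularLocalRing (Z.presheaf.stalk z)) := by
  haveI := hX.1
  obtain ⟨w, hw⟩ : ∃ w : ↥(pullback ιY ιZ), (pullback.fst ιY ιZ ≫ ιY) w = τ :=
    (Groth.Agent.CycLib28.TransInt.exists_mem_range_of_ne_zero _ (by rw [hmult]; exact one_ne_zero)).2
  haveI : IsClosedImmersion (pullback.fst ιY ιZ ≫ ιY) := inferInstance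
  have hset : {v : ↥(pullback ιY ιZ) | (pullback.fst ιY ιZ ≫ ιY) v = τ} = {w} := Set.ext fun v =>
    ⟨fun hv => (pullback.fst ιY ιZ ≫ ιY).isEmbedding.injective (hv.trans hw.symm), fun hv => hv ▸ hw⟩
  rw [Cyc.subschemeFun, if_pos hτ, hset, finsum_mem_singleton] at hmult
  have hlen : Module.length ((pullback ιY ιZ).presheaf.stalk w) ((pullback ιY ιZ).presheaf.stalk w) = 1 := by
    generalize Module.length ((pullback ιY ιZ).presheaf.stalk w) ((pullback ιY ιZ).presheaf.stalk w) = l at hmult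
    cases l with
    | top => simp at hmult
    | coe k => simp at hmult; simp [hmult]
  have hmax := Groth.Agent.CycLib28.TransInt.maximal_of_length_eq_one ιY ιZ w hlen
  have hcz : ιY (pullback.fst ιY ιZ w) = ιZ (pullback.snd ιY ιZ w) := by
    rw [← Scheme.Hom.comp_apply, pullback.condition]; rfl
  obtain ⟨y, hy⟩ : ∃ y, pullback.fst ιY ιZ w = y := ⟨_, rfl⟩
  obtain ⟨z, hz⟩ : ∃ z, pullback.snd ιY ιZ w = z := ⟨_, rfl⟩
  rw [hy, hz] at hcz
  have hyτ : ιY y = τ := hy ▸ hw
  have hzτ : ιZ z = τ := hcz.symm.trans hyτ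
  rw [hy] at hmax
  haveI := Groth.Agent.CycLib28.isRegularLocalRing_stalk f τ
  obtain ⟨ξ, η, hξ, hη, hξτ, hητ⟩ := hξ
  subst hyτ
  set I := IntMult.stalkIdeal ιY.ker (ιY y) with hI
  set J := IntMult.stalkIdeal ιZ.ker (ιY y) with hJ
  have hIm : I ≤ IsLocalRing.maximalIdeal _ :=
    Groth.Agent.CycLib28.stalkIdeal_le_maximal ιY.ker (ιY.range_subset_ker_support ⟨y, rfl⟩)
  have hJm : J ≤ IsLocalRing.maximalIdeal _ :=
    Groth.Agent.CycLib28.stalkIdeal_le_maximal ιZ.ker (ιZ.range_subset_ker_support ⟨z, hzτ⟩)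
  haveI := Groth.Agent.CAlgH3.isLocalRing_quotient hIm
  haveI := Groth.Agent.CAlgH3.isLocalRing_quotient hJm
  obtain ⟨v, hv⟩ := Groth.Agent.CommAlg6.exists_nat_ringKrullDim_eq (↑(X.presheaf.stalk (ιY y)) ⧸ I)
  obtain ⟨v', hw'⟩ := Groth.Agent.CommAlg6.exists_nat_ringKrullDim_eq (↑(X.presheaf.stalk (ιY y)) ⧸ J)
  have h1 := Groth.Agent.CycLib28.TransInt.le_dim_quot hX.2.2 ιY y hξ hξτ
  have h2 : ((s - δ (ιY y)).toNat : WithBot ℕ∞) ≤ ringKrullDim (↑(X.presheaf.stalk (ιY y)) ⧸ J) := by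
    rw [hJ]
    revert hητ
    rw [← hzτ]
    exact fun hητ => Groth.Agent.CycLib28.TransInt.le_dim_quot hX.2.2 ιZ z hη hητ
  rw [← hI, hv] at h1
  replace h1 : (r - δ (ιY y)).toNat ≤ v := by exact_mod_cast h1
  rw [hw'] at h2
  replace h2 : (s - δ (ιY y)).toNat ≤ v' := by exact_mod_cast h2
  have ha := Groth.Agent.CycLib28.dim_stalk hX.2.2 (ιY y)
  rw [hn] at ha
  have hle : (n - δ (ιY y)).toNat ≤ v + v' := by
    have := Groth.Agent.CycLib28.TransInt.exists_mem_range_of_ne_zero ιY hξ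
    have := Groth.Agent.CycLib28.TransInt.exists_mem_range_of_ne_zero ιZ hη
    have := Groth.Agent.CycLib28.le_of_specializes hX.2.2 hξτ
    have := Groth.Agent.CycLib28.le_of_specializes hX.2.2 hητ
    have := Groth.Agent.CycLib28.le_of_specializes hX.2.2 (genericPoint_specializes ξ)
    have := Groth.Agent.CycLib28.le_of_specializes hX.2.2 (genericPoint_specializes η)
    omega
  obtain ⟨hrI, hrJ⟩ := Groth.Agent.CycLib28.isRegular_of_sup_eq_maximal I J hmax
    ((IsRegularLocalRing.spanFinrank_maximalIdeal (R := X.presheaf.stalk (ιY y))).trans ha) hv hw' hle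
  let eY := (Ideal.quotEquivOfEq (Groth.Agent.CycLib28.stalkIdeal_ker ιY y)).trans
    (RingHom.quotientKerEquivOfSurjective (ιY.stalkMap_surjective y))
  haveI hYreg : IsRegularLocalRing (Y.presheaf.stalk y) := IsRegularLocalRing.of_ringEquiv eY
  have hZreg : IsRegularLocalRing (Z.presheaf.stalk z) := by
    have hJ' : IsRegularLocalRing (↑(X.presheaf.stalk (ιZ z)) ⧸ IntMult.stalkIdeal ιZ.ker (ιZ z)) := by
      rw [hzτ]; exact hrJ
    exact IsRegularLocalRing.of_ringEquiv ((Ideal.quotEquivOfEq (Groth.Agent.CycLib28.stalkIdeal_ker ιZ z)).trans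
      (RingHom.quotientKerEquivOfSurjective (ιZ.stalkMap_surjective z)))
  refine ⟨?_, fun y' hy' => ιY.isEmbedding.injective hy' ▸ hYreg,
    fun z' hz' => ιZ.isEmbedding.injective (hz'.trans hzτ.symm) ▸ hZreg⟩
  haveI : IsDomain (Y.presheaf.stalk y) := Groth.Agent.CAlgH3.isDomain_of_isRegularLocalRing _
  obtain ⟨cξ, iξ, uξ⟩ := Groth.Agent.CycLib28.TransInt.exists_component hX.2.2 ιY y hY hξ hξτ
  obtain ⟨cη, iη, uη⟩ : Cyc.subschemeFun δ s ιZ η = 1 ∧ IntMult.stalkIdeal (IntMult.ptIdeal η) (ιY y) = J ∧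
      ∀ x, Cyc.subschemeFun δ s ιZ x ≠ 0 → x ⤳ ιY y → x = η := by
    haveI : IsDomain (Z.presheaf.stalk z) := Groth.Agent.CAlgH3.isDomain_of_isRegularLocalRing _
    rw [hJ]
    revert hητ
    rw [← hzτ]
    exact fun hητ => Groth.Agent.CycLib28.TransInt.exists_component hX.2.2 ιZ z hZ hη hητ
  have hdξ := (Groth.Agent.CycLib28.TransInt.exists_mem_range_of_ne_zero ιY hξ).1
  have hdη := (Groth.Agent.CycLib28.TransInt.exists_mem_range_of_ne_zero ιZ hη).1
  refine (finsum_eq_single _ ⟨(ξ, η), hξτ, hητ, by show δ ξ + δ η - n = _; omega⟩ fun t ht => ?_).trans ?_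
  · by_contra hne
    refine ht (Subtype.ext (Prod.ext (uξ _ ?_ t.2.1) (uη _ ?_ t.2.2.1)))
    · exact left_ne_zero_of_mul (left_ne_zero_of_mul hne)
    · exact right_ne_zero_of_mul (left_ne_zero_of_mul hne)
  · show _ * _ * IntMult.mult (IntMult.ptIdeal ξ) (IntMult.ptIdeal η) (ιY y) = 1
    rw [cξ, cη, one_mul, one_mul]
    unfold IntMult.mult
    rw [iξ, iη]
    have hfl : IsFiniteLength (X.presheaf.stalk (ιY y)) (↑(X.presheaf.stalk (ιY y)) ⧸ (I ⊔ J)) := by
      rw [hmax]
      rw [← Module.length_ne_top_iff, Groth.Agent.CycLib28.TransInt.length_residue]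
      exact ENat.one_ne_top
    rw [Groth.Agent.CycLib28.chi_eq_length_of_cm_both I J
      (Groth.Agent.CAlgH3.isCohenMacaulayLocalRing_of_regular _) (Groth.Agent.CAlgH3.isCohenMacaulayLocalRing_of_regular _)
      hfl ha hv hw' hle, hmax, Groth.Agent.CycLib28.TransInt.length_residue]
    rfl
end Groth.Agent.S1954
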