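import Mathlib.CategoryTheory.Sites.Abelian
import Mathlib.CategoryTheory.Sites.LocallyBijective
import Mathlib.Algebra.Category.Grp.Abelian
import Mathlib.Algebra.Homology.ShortComplex.Exact
import Mathlib.CategoryTheory.Types.Basic
import Mathlib.CategoryTheory.Sites.EpiMono
import Mathlib.Algebra.Homology.ShortComplex.PreservesHomology
import Mathlib.CategoryTheory.Sites.Abelian
import Mathlib.Algebra.Category.Grp.Abelian
import Mathlib.Algebra.Homology.ShortComplex.Ab

set_option autoImplicit false
open CategoryTheory CategoryTheory.Limits Opposite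
universe w v u

namespace Groth.Agent.S19540

open CategoryTheory CategoryTheory.Limits Opposite in
lemma iCycles_injective {C : Type u} [Category.{v} C] {J : GrothendieckTopology C}
    [HasSheafify J AddCommGrpCat.{w}] (S : ShortComplex (Sheaf J AddCommGrpCat.{w})) (U : C) :
    Function.Injective (S.iCycles.hom.app (op U)) :=
  (AddCommGrpCat.mono_iff_injective _).1
    (inferInstanceAs (Mono ((sheafToPresheaf J AddCommGrpCat.{w} ⋙
      (evaluation Cᵒᵖ AddCommGrpCat.{w}).obj (op U)).map S.iCycles)))

/-- Let (C, J) be a site and B a class of objects of C, each weakly contractible (every epimorphism of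
sheaves of sets, valued in a fixed universe, is surjective on sections over it), such that every
object V of C has a covering sieve all of whose arrows factor through some object of B. Then a
three-term complex F ⟶ G ⟶ H of abelian sheaves on (C, J) is exact if and only if for every U in B
the sequence of section groups F(U) ⟶ G(U) ⟶ H(U) is exact. (The published statement is for sheaves
of modules over a sheaf of rings O; this row is the case of the constant sheaf of rings ℤ, i.e.
abelian sheaves, to which exactness questions for O-modules reduce. The universe set-up assumes that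
abelian sheafification exists and inverts exactly the locally bijective maps, as on any small site.) -/
theorem result
    {C : Type u} [Category.{v} C] (J : GrothendieckTopology C) [HasSheafify J AddCommGrpCat.{w}]
    [J.WEqualsLocallyBijective AddCommGrpCat.{w}]
    (B : C → Prop)
    (hB : ∀ U : C, B U → ∀ (P Q : Sheaf J (Type w)) (ψ : P ⟶ Q), Epi ψ → Function.Surjective (ψ.hom.app (op U)))
    (hcov : ∀ V : C, ∃ S : Sieve V, S ∈ J V ∧ ∀ ⦃W : C⦄ (f : W ⟶ V), S.arrows f →
      ∃ (U : C) (g : W ⟶ U) (h : U ⟶ V), B U ∧ g ≫ h = f)
    (S : ShortComplex (Sheaf J AddCommGrpCat.{w})) :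
    S.Exact ↔ ∀ U : C, B U →
      (S.map (sheafToPresheaf J AddCommGrpCat.{w} ⋙ (evaluation Cᵒᵖ AddCommGrpCat.{w}).obj (op U))).Exact := by
  constructor
  · intro hS U hU
    let T := sheafToPresheaf J AddCommGrpCat.{w} ⋙ (evaluation Cᵒᵖ AddCommGrpCat.{w}).obj (op U)
    rw [ShortComplex.ab_exact_iff]
    intro (y : S.X₂.obj.obj (op U)) hy
    obtain ⟨z, hz⟩ := (ShortComplex.ab_exact_iff _).1
      (((ShortComplex.mk S.iCycles S.g S.iCycles_g).exact_of_f_is_kernel
        S.cyclesIsKernel).map_of_mono_of_preservesKernel T (inferInstanceAs (Mono S.iCycles)) inferInstance) y hy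
    have hepi := (S.exact_iff_epi_toCycles).1 hS
    have hls : Sheaf.IsLocallySurjective S.toCycles :=
      (Sheaf.isLocallySurjective_iff_epi' (A := AddCommGrpCat.{w}) S.toCycles).2 hepi
    have hls' : Sheaf.IsLocallySurjective
        ((sheafCompose J (forget AddCommGrpCat.{w})).map S.toCycles) :=
      (Presheaf.isLocallySurjective_iff_whisker_forget J S.toCycles.hom).1 hls
    obtain ⟨x, hx⟩ := hB U hU _ _ ((sheafCompose J (forget AddCommGrpCat.{w})).map S.toCycles)
      (Sheaf.epi_of_isLocallySurjective _) (z : S.cycles.obj.obj (op U))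
    refine ⟨x, ?_⟩
    refine (ConcreteCategory.congr_hom (congrArg (fun m => T.map m) S.toCycles_i) x).symm.trans ?_
    refine (ConcreteCategory.congr_hom (T.map_comp S.toCycles S.iCycles) x).trans ?_
    exact (congrArg (S.iCycles.hom.app (op U)) hx).trans hz
  · intro h
    refine (S.exact_iff_epi_toCycles).2
      ((Sheaf.isLocallySurjective_iff_epi' (A := AddCommGrpCat.{w}) S.toCycles).1 ?_)
    constructor
    intro V (z : S.cycles.obj.obj (op V))
    obtain ⟨R, hR, hfac⟩ := hcov V
    refine J.superset_covering ?_ hR
    intro W f hf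
    obtain ⟨U, g, k, hU, rfl⟩ := hfac f hf
    let T := sheafToPresheaf J AddCommGrpCat.{w} ⋙ (evaluation Cᵒᵖ AddCommGrpCat.{w}).obj (op U)
    obtain ⟨(x : S.X₁.obj.obj (op U)), hx⟩ := (ShortComplex.ab_exact_iff _).1 (h U hU)
      (S.iCycles.hom.app (op U) (S.cycles.obj.map k.op z)) (by
        refine (ConcreteCategory.congr_hom (T.map_comp S.iCycles S.g) _).symm.trans ?_
        rw [S.iCycles_g, T.map_zero]; rfl)
    have hx' : S.toCycles.hom.app (op U) x = S.cycles.obj.map k.op z := iCycles_injective S U (by
      refine (ConcreteCategory.congr_hom (T.map_comp S.toCycles S.iCycles) x).symm.trans ?_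
      rw [S.toCycles_i]; exact hx)
    refine ⟨S.X₁.obj.map g.op x, ?_⟩
    rw [NatTrans.naturality_apply, hx', ← ConcreteCategory.comp_apply, ← Functor.map_comp, ← op_comp]

end Groth.Agent.S19540
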