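import Groth.Statements.S19541
import Mathlib
import Groth.Prelude
import Groth.Agent.FlatLocal.StalkCrit
import Groth.Agent.VarietyLib.SmoothStalk
import Groth.Agent.EGA43.Limit.Basic

set_option linter.all false

set_option autoImplicit false
universe u
open CategoryTheory CategoryTheory.Limits AlgebraicGeometry TopologicalSpace
open Curves

open AlgebraicGeometry CategoryTheory CategoryTheory.Limits

namespace Groth.Agent.S19541

lemma coheight_le_topologicalKrullDim {X : Scheme.{u}} (x : X) :
    (Order.coheight x : WithBot ℕ∞) ≤ topologicalKrullDim X := by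
  refine (Order.coheight_le_krullDim x).trans (le_of_eq ?_)
  exact Order.krullDim_eq_of_orderIso (irreducibleSetEquivPoints (α := X)).symm

lemma isPrincipalIdealRing_of_dim_le_one (A : Type u) [CommRing A] [IsRegularLocalRing A] [IsDomain A]
    (h : ringKrullDim A ≤ 1) : IsPrincipalIdealRing A := by
  refine ((tfae_of_isNoetherianRing_of_isLocalRing_of_isDomain A).out 4 0).1 ?_
  set m := IsLocalRing.maximalIdeal A
  have hs : (m.spanFinrank : WithBot ℕ∞) ≤ 1 :=
    (IsRegularLocalRing.spanFinrank_maximalIdeal (R := A)).trans_le h
  have hfg : m.FG := IsNoetherian.noetherian m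
  have hs' : m.spanFinrank ≤ 1 := by exact_mod_cast hs
  have hgen : m.generators.ncard ≤ 1 := by rwa [Submodule.FG.generators_ncard hfg]
  have hspan := m.span_generators
  rcases Set.ncard_le_one_iff_eq (Submodule.FG.finite_generators hfg) |>.1 hgen with h0 | ⟨a, ha⟩
  · exact ⟨⟨0, by rw [← hspan, h0]; simp⟩⟩
  · exact ⟨⟨a, by rw [← hspan, ha]⟩⟩

/-- Pointwise criterion for a map of smooth curves to be étale: let k be an algebraically closed field,
X and Y integral schemes each smooth, separated and quasi-compact over Spec k and of dimension one,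
φ : X → Y a morphism over k and x a closed point of X. Then φ is étale at x (the restriction of φ to
some open neighbourhood of x is étale) if and only if the induced homomorphism of stalks O_{Y,φ(x)}
→ O_{X,x} carries the maximal ideal of the discrete valuation ring O_{Y,φ(x)} to an ideal generating
the maximal ideal of O_{X,x}; equivalently a uniformiser at φ(x) pulls back to a uniformiser at x.
(The published statement is for smooth curves, which are in addition geometrically connected;
integrality is what is used. For a constant φ both sides fail.) -/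
theorem result (k : Type u) [Field k] [IsAlgClosed k] {X Y : Scheme.{u}}
    (pX : X ⟶ Spec (CommRingCat.of k)) (pY : Y ⟶ Spec (CommRingCat.of k)) (φ : X ⟶ Y) (w : φ ≫ pY = pX)
    [IsIntegral X] [Smooth pX] [IsSeparated pX] [QuasiCompact pX] (hdX : topologicalKrullDim X = 1)
    [IsIntegral Y] [Smooth pY] [IsSeparated pY] [QuasiCompact pY] (hdY : topologicalKrullDim Y = 1)
    (x : X) (hx : IsClosed ({x} : Set X)) :
    (∃ U : X.Opens, x ∈ U ∧ Etale (U.ι ≫ φ)) ↔
      Ideal.map (φ.stalkMap x).hom (IsLocalRing.maximalIdeal (Y.presheaf.stalk (φ.base x))) =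
        IsLocalRing.maximalIdeal (X.presheaf.stalk x) := by
  subst w
  haveI : LocallyOfFinitePresentation φ := Groth.Agent.EGA43.Limit.locallyOfFinitePresentation_of_comp φ pY
  rw [Groth.Agent.FlatLocal.etale_nhd_iff φ x, Groth.Agent.FlatLocal.formallyUnramified_stalkMap_iff φ x]
  refine ⟨fun h => h.2.2, fun h => ⟨?_, ?_, h⟩⟩
  · haveI := Groth.Agent.VarietyLib.isRegularLocalRing_stalk_of_smooth k Y pY (φ x)
    haveI : IsDomain (Y.presheaf.stalk (φ x)) := inferInstance
    haveI : IsDomain (X.presheaf.stalk x) := inferInstance
    have hdim : ringKrullDim (Y.presheaf.stalk (φ x)) ≤ 1 := by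
      rw [ringKrullDim_stalk_eq_coheight, ← hdY]; exact coheight_le_topologicalKrullDim _
    haveI := isPrincipalIdealRing_of_dim_le_one (Y.presheaf.stalk (φ x)) hdim
    -- the maximal ideal at a closed point is nonzero
    have hm : IsLocalRing.maximalIdeal (X.presheaf.stalk x) ≠ ⊥ := by
      intro h0
      have hF : IsField (X.presheaf.stalk x) := IsLocalRing.isField_iff_maximalIdeal_eq.2 h0
      have hd0 : ringKrullDim (X.presheaf.stalk x) = 0 := ringKrullDim_eq_zero_of_isField hF
      rw [ringKrullDim_stalk_eq_coheight] at hd0
      have hmax : IsMax x := Order.coheight_eq_zero.1 (by exact_mod_cast hd0)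
      have hxg : x = genericPoint X := by
        have h1 : genericPoint X ⤳ x := genericPoint_specializes x
        exact Specializes.antisymm (hmax h1) h1 |>.eq
      have huniv : ({x} : Set X) = Set.univ := by
        rw [← hx.closure_eq, hxg]
        exact genericPoint_closure X
      haveI : Subsingleton X := ⟨fun a b => by
        have ha : a ∈ ({x} : Set X) := huniv ▸ trivial
        have hb : b ∈ ({x} : Set X) := huniv ▸ trivial
        rw [ha, hb]⟩
      have : topologicalKrullDim X ≤ 0 := by
        haveI : Subsingleton (TopologicalSpace.IrreducibleCloseds X) :=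
          (irreducibleSetEquivPoints (α := X)).toEquiv.subsingleton
        exact Order.krullDim_nonpos_of_subsingleton
      rw [hdX] at this
      exact absurd this (by decide)
    algebraize [(φ.stalkMap x).hom]
    change Module.Flat _ _
    have hinj : Function.Injective (algebraMap (Y.presheaf.stalk (φ x)) (X.presheaf.stalk x)) := by
      rw [RingHom.injective_iff_ker_eq_bot]
      by_contra hne
      have hp : (RingHom.ker (algebraMap (Y.presheaf.stalk (φ x)) (X.presheaf.stalk x))).IsPrime :=
        RingHom.ker_isPrime _
      have hmx : RingHom.ker (algebraMap (Y.presheaf.stalk (φ x)) (X.presheaf.stalk x)) =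
          IsLocalRing.maximalIdeal _ := IsLocalRing.eq_maximalIdeal (hp.isMaximal hne)
      apply hm
      rw [← h, ← le_bot_iff, Ideal.map_le_iff_le_comap]
      intro a ha
      rw [← hmx] at ha
      exact ha
    haveI : FaithfulSMul (Y.presheaf.stalk (φ x)) (X.presheaf.stalk x) :=
      (faithfulSMul_iff_algebraMap_injective _ _).2 hinj
    infer_instance
  · letI := (φ.residueFieldMap x).hom.toAlgebra
    have hsurj : Function.Surjective (φ.residueFieldMap x).hom := by
      let ψy : CommRingCat.of k ⟶ Y.residueField (φ x) := Spec.preimage (Y.fromSpecResidueField (φ x) ≫ pY)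
      have he : ψy ≫ φ.residueFieldMap x = (residueFieldIsoBase (φ ≫ pY) x hx).inv := by
        apply Spec.map_injective
        rw [Spec.map_comp, Spec.map_preimage, SpecMap_residueFieldIsoBase_inv,
          Scheme.Hom.SpecMap_residueFieldMap_fromSpecResidueField_assoc]
      intro z
      refine ⟨ψy.hom ((residueFieldIsoBase (φ ≫ pY) x hx).hom.hom z), ?_⟩
      change (ψy ≫ φ.residueFieldMap x).hom _ = z
      rw [he]
      exact congr(($((residueFieldIsoBase (φ ≫ pY) x hx).hom_inv_id)).hom z)
    exact Algebra.IsSeparable.mk fun z => by
      obtain ⟨a, ha⟩ := hsurj z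
      rw [← ha]
      exact isSeparable_algebraMap (F := Y.residueField (φ x)) a

end Groth.Agent.S19541
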