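import Groth.Statements.S19546
import Mathlib
import Groth.Agent.S14510
import Groth.Agent.QReg6.Regular
import Groth.Agent.EGA41Lib.QuasiRegular
import Groth.Agent.CAlgH3.Factorial
import Groth.Agent.DimLib.Algebra

set_option linter.all false

set_option autoImplicit false
universe u v w
open scoped TensorProduct
open VBCurve

open scoped TensorProduct

namespace Groth.Agent.S19546

/-- Let A, B, C be complex vector spaces, A and B finite-dimensional, and ν : A ⊗ B → C a linear map
injective on each factor separately (b ↦ ν(a ⊗ b) is injective for every a ≠ 0 and a ↦ ν(a ⊗ b) is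
injective for every b ≠ 0). Then the image of ν has dimension at least dim A + dim B - 1. (For A = 0
the separate-injectivity hypothesis is empty and the inequality fails as soon as dim B ≥ 2, so A and
B are taken nonzero here, the case the inequality is about.) -/
theorem result
    (A : Type u) (B : Type v) (C : Type w) [AddCommGroup A] [Module ℂ A] [AddCommGroup B] [Module ℂ B]
    [AddCommGroup C] [Module ℂ C] [FiniteDimensional ℂ A] [FiniteDimensional ℂ B]
    [Nontrivial A] [Nontrivial B] (ν : A ⊗[ℂ] B →ₗ[ℂ] C)
    (hA : ∀ a : A, a ≠ 0 → Function.Injective (fun b : B => ν (a ⊗ₜ[ℂ] b)))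
    (hB : ∀ b : B, b ≠ 0 → Function.Injective (fun a : A => ν (a ⊗ₜ[ℂ] b))) :
    Module.finrank ℂ A + Module.finrank ℂ B ≤ Module.finrank ℂ (LinearMap.range ν) + 1 := by
  refine Groth.Agent.S14510.main ℂ ((TensorProduct.mk ℂ A B).compr₂ ν.rangeRestrict) fun a b ha hb h => hb (hA a ha ?_)
  have := congrArg Subtype.val h
  simpa using this

end Groth.Agent.S19546
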