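import Groth.Statements.S19548
import Groth.Agent.S15245

set_option autoImplicit false
universe u
open CategoryTheory AlgebraicGeometry
open RedSub

namespace Groth.Agent.S19548

open Groth.Agent.RootDat RootD

/-- Let Φ be a finite reduced root system (a reduced root pairing over ℤ on a finite index set) with a
base b, let w = σ_{α_1} ⋯ σ_{α_ℓ} be a reduced decomposition of a Weyl group element into simple
reflections (every α_j in the base, and no shorter word in the simple reflections gives the same
permutation of the roots), and let γ be a positive root with w⁻¹(γ) negative. Then for some i with 1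
≤ i ≤ ℓ one has σ_γ σ_{α_1} ⋯ σ_{α_i} = σ_{α_1} ⋯ σ_{α_{i-1}}. (Indices are shifted by one below:
the word is a list and the prefixes are its first i + 1 and first i letters.) -/
theorem result {idx M N : Type}
    [AddCommGroup M] [AddCommGroup N] [Finite idx]
    (P : RootPairing idx ℤ M N) [P.IsReduced] (b : P.Base) (l : List idx)
    (hl : ∀ a ∈ l, a ∈ b.support)
    (hred : ∀ l' : List idx, (∀ a ∈ l', a ∈ b.support) →
      RedSub.wordPerm P l' = RedSub.wordPerm P l → l.length ≤ l'.length)
    (c : idx) (hc : c ∈ RedSub.posRoots P b) (hneg : (RedSub.wordPerm P l).symm c ∈ RedSub.negRoots P b) :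
    ∃ i : ℕ, i < l.length ∧
      P.reflectionPerm c * RedSub.wordPerm P (l.take (i + 1)) = RedSub.wordPerm P (l.take i) := by
  classical
  have hD : IsSimpleSys P (b.support : Set idx) := ⟨b.linearIndepOn_root, b.root_mem_or_neg_mem⟩
  have hsymm : ∀ l', (RedSub.wordPerm P l').symm c = (wprod P l')⁻¹ • c := fun l' => by
    rw [Equiv.symm_apply_eq, S15245.wordPerm_apply, smul_inv_smul]
  have hlast : (wprod P (l.take l.length))⁻¹ • c ∉ posOf P (b.support : Set idx) := by
    rw [List.take_length, ← hsymm, ← Simple.neg_iff hD]
    show P.root (neg P _) ∈ natSpan P _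
    rw [root_neg]
    exact hneg
  obtain ⟨i, hi, hpos, hneg'⟩ : ∃ i, i < l.length ∧ (wprod P (l.take i))⁻¹ • c ∈ posOf P (b.support : Set idx) ∧
      (wprod P (l.take (i + 1)))⁻¹ • c ∉ posOf P (b.support : Set idx) := by
    by_contra! h
    have key : ∀ i, i ≤ l.length → (wprod P (l.take i))⁻¹ • c ∈ posOf P (b.support : Set idx) := fun i => by
      induction i with
      | zero => intro _; simp only [List.take_zero, wprod_nil, inv_one, one_smul]; exact hc
      | succ i ih => exact fun hi => h i (by omega) (ih (by omega))
    exact hlast (key _ le_rfl)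
  refine ⟨i, hi, ?_⟩
  have ha : l[i] ∈ (b.support : Set idx) := hl _ (List.getElem_mem hi)
  have e : wprod P (l.take (i + 1)) = wprod P (l.take i) * RootPairing.Equiv.reflection P l[i] := by
    rw [List.take_succ_eq_append_getElem hi, wprod_append]; simp
  rw [e, mul_inv_rev, RootPairing.Equiv.reflection_inv, mul_smul, refl_smul_idx] at hneg'
  have hind : IsIndiv P ((wprod P (l.take i))⁻¹ • c) := fun j hj => by
    rcases RootPairing.IsReduced.eq_or_eq_neg (P := P) ((wprod P (l.take i))⁻¹ • c) j (fun hli => by
      have := (LinearIndependent.pair_iff.mp hli) 1 (-2) (by rw [← hj]; module)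
      exact one_ne_zero this.1) with h | h
    · rw [h] at hj
      have : P.root j = 0 := by linear_combination (norm := module) hj
      exact P.ne_zero j this
    · rw [h] at hj
      have : (3 : ℤ) • P.root j = 0 := by linear_combination (norm := module) hj
      have := congrArg (P.coroot' j) this
      rw [map_zsmul, map_zero] at this
      simp at this
  have hβ : (wprod P (l.take i))⁻¹ • c = l[i] :=
    by_contra fun hne => hneg' (Simple.reflectionPerm_pos hD ha hpos hind hne)
  have hcA : RootPairing.Equiv.reflection P c * wprod P (l.take (i + 1)) = wprod P (l.take i) := by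
    rw [e, reflection_conj_smul P _ l[i], show wprod P (l.take i) • l[i] = c by rw [← hβ, smul_inv_smul],
      ← _root_.mul_assoc, reflection_mul_self, _root_.one_mul]
  refine Equiv.ext fun a => ?_
  rw [Equiv.Perm.mul_apply, S15245.wordPerm_apply, S15245.wordPerm_apply, ← refl_smul_idx, ← mul_smul, hcA]

end Groth.Agent.S19548
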