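import Groth.Statements.S19552
import Mathlib.RingTheory.Spectrum.Prime.FreeLocus
import Mathlib.RingTheory.Finiteness.Projective
import Mathlib.Logic.Equiv.Fin.Basic
import Mathlib.Tactic
import Groth.Agent.CommAlg4.SerreBass

set_option linter.all false

set_option autoImplicit false
universe u
open CAlg


namespace Groth.Agent.S19552

/-- Let R be a Noetherian ring of Krull dimension d and P, Q finitely generated projective R-modules of
constant rank at every prime which have the same class in the Grothendieck group, i.e. are stably
isomorphic: P ⊕ R^m ≅ Q ⊕ R^m for some m. Then there is a positive integer N with P^N ≅ Q^N. (The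
two exponents in the published display are read as the same integer N; for modules of positive rank
an isomorphism between direct powers forces equal exponents.) -/
theorem result (R : Type u) [CommRing R] [IsNoetherianRing R]
    (d n : ℕ) (hdim : ringKrullDim R = d)
    (P Q : Type u) [AddCommGroup P] [Module R P] [Module.Finite R P] [Module.Projective R P]
    [AddCommGroup Q] [Module R Q] [Module.Finite R Q] [Module.Projective R Q]
    (hrk : ∀ p : PrimeSpectrum R, Module.rankAtStalk (R := R) P p = n)
    (hrk' : ∀ p : PrimeSpectrum R, Module.rankAtStalk (R := R) Q p = n)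
    (m : ℕ) (e : (P × (Fin m → R)) ≃ₗ[R] (Q × (Fin m → R))) :
    ∃ N : ℕ, 1 ≤ N ∧ Nonempty ((Fin N → P) ≃ₗ[R] (Fin N → Q)) := by
  rcases Nat.eq_zero_or_pos n with hn | hn
  · refine ⟨1, le_rfl, ?_⟩
    have hP : Subsingleton P := (Module.rankAtStalk_eq_zero_iff_subsingleton (R := R)).mp
      (funext fun p => by simpa [hn] using hrk p)
    have hQ : Subsingleton Q := (Module.rankAtStalk_eq_zero_iff_subsingleton (R := R)).mp
      (funext fun p => by simpa [hn] using hrk' p)
    exact ⟨LinearEquiv.ofSubsingleton _ _⟩
  refine ⟨d + 1, by omega, ?_⟩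
  let pw (M : Type u) [AddCommGroup M] [Module R M] :
      (Fin (d + 1) → M × (Fin m → R)) ≃ₗ[R] (Fin (d + 1) → M) × (Fin ((d + 1) * m) → R) :=
    { toFun := fun f => (fun i => (f i).1,
        fun k => (f (finProdFinEquiv.symm k).1).2 (finProdFinEquiv.symm k).2)
      invFun := fun x i => (x.1 i, fun j => x.2 (finProdFinEquiv (i, j)))
      left_inv := fun f => by
        funext i
        refine Prod.ext rfl (funext fun j => ?_)
        simp
      right_inv := fun x => by
        refine Prod.ext rfl (funext fun k => ?_)
        simp only [Prod.mk.eta, Equiv.apply_symm_apply]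
      map_add' := fun f g => rfl
      map_smul' := fun c f => rfl }
  have : Module.Projective R (Fin (d + 1) → Q) := by
    obtain ⟨N, f, g, -, -, hfg⟩ := Module.Finite.exists_comp_eq_id_of_projective R Q
    exact Module.Projective.of_split (P := Fin (d + 1) → Q) (M := Fin (d + 1) → Fin N → R)
      (LinearMap.compLeft g _) (LinearMap.compLeft f _) (by
        apply LinearMap.ext; intro x; funext i
        exact LinearMap.congr_fun hfg (x i))
  exact Groth.Agent.CommAlg4.SerreBass.cancel (n := (d + 1) * n) hdim.le
    (by nlinarith) (Fin (d + 1) → Q) (Fin (d + 1) → P)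
    (fun p => by rw [Module.rankAtStalk_pi]; simp [hrk', finsum_eq_sum_of_fintype]) ((d + 1) * m)
    ((pw P).symm ≪≫ₗ LinearEquiv.piCongrRight (fun _ => e) ≪≫ₗ pw Q)

end Groth.Agent.S19552
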