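import Groth.Statements.S19560

set_option autoImplicit false
universe u
open W4c1limliniiii

namespace Groth.Agent.S19560

open Polynomial in
/-- Let k be an algebraically closed field of characteristic p (a prime or zero) and let F, G be
polynomials spanning a base-point-free pencil V of degree d (a two-dimensional space of polynomials
of degree at most d containing one of degree d and with no common zero in k), so that V encodes a
degree-d self-map F/G of the projective line up to automorphisms of the target. Suppose the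
Wronskian W = F′G − FG′ is non-zero and vanishes at the point a to order exactly e − 1 with e ≥ 1,
and that p = 0 or e − 1 < p. Then the map is tamely ramified at a with index e: the largest order of
vanishing at a of a non-zero member of V is e, and p does not divide e. (The hypothesis W ≠ 0 makes
the order of vanishing meaningful; for W = 0 the map is inseparable.) -/
theorem result
    (k : Type u) [Field k] [IsAlgClosed k] (p : ℕ) [CharP k p]
    (d : ℕ) (F G : k[X]) (hV : W4c1limliniiii.IsPencil d (Submodule.span k {F, G}))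
    (hW : Polynomial.wronskian F G ≠ 0) (a : k) (e : ℕ)
    (he : (Polynomial.wronskian F G).rootMultiplicity a + 1 = e) (hp : p = 0 ∨ e - 1 < p) :
    W4c1limliniiii.HasRamIdx (Submodule.span k {F, G}) a e ∧ ¬ p ∣ e := by
  obtain ⟨-, hrank, -, hbp⟩ := hV
  -- a basis: one member not vanishing at `a`, one vanishing
  obtain ⟨u, v, hu, hv, hua, hva, hspan, c, hc, hWuv⟩ :
      ∃ u v : k[X], u ∈ Submodule.span k ({F, G} : Set k[X]) ∧ v ∈ Submodule.span k ({F, G} : Set k[X]) ∧
        u.eval a ≠ 0 ∧ v.eval a = 0 ∧ (∀ s ∈ Submodule.span k ({F, G} : Set k[X]), ∃ x y : k, s = x • u + y • v) ∧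
        ∃ c : k, c ≠ 0 ∧ wronskian u v = c • wronskian F G := by
    by_cases hF : F.eval a = 0
    · have hG : G.eval a ≠ 0 := fun hG => by
        obtain ⟨s, hs, hsa⟩ := hbp a
        obtain ⟨x, y, rfl⟩ := Submodule.mem_span_pair.1 hs
        simp [hF, hG] at hsa
      refine ⟨G, F, Submodule.subset_span (by simp), Submodule.subset_span (by simp), hG, hF,
        fun s hs => ?_, -1, by simp, by simp only [wronskian, neg_smul, one_smul]; ring⟩
      obtain ⟨x, y, rfl⟩ := Submodule.mem_span_pair.1 hs
      exact ⟨y, x, add_comm _ _⟩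
    · refine ⟨F, F.eval a • G - G.eval a • F, Submodule.subset_span (by simp),
        sub_mem (Submodule.smul_mem _ _ (Submodule.subset_span (by simp)))
          (Submodule.smul_mem _ _ (Submodule.subset_span (by simp))), hF, ?_, fun s hs => ?_, F.eval a, hF, ?_⟩
      · simp; ring
      · obtain ⟨x, y, rfl⟩ := Submodule.mem_span_pair.1 hs
        refine ⟨x + y * (F.eval a)⁻¹ * G.eval a, y * (F.eval a)⁻¹, ?_⟩
        rw [smul_sub, smul_smul, smul_smul, add_smul, inv_mul_cancel_right₀ hF]
        abel
      · simp only [wronskian, Polynomial.smul_eq_C_mul, derivative_sub, derivative_C_mul]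
        ring
  have hu0 : u ≠ 0 := by rintro rfl; simp at hua
  have hrm : (wronskian u v).rootMultiplicity a = (wronskian F G).rootMultiplicity a := by
    rw [hWuv, Polynomial.smul_eq_C_mul, rootMultiplicity_mul (mul_ne_zero (by simpa using hc) hW),
      rootMultiplicity_C, zero_add]
  have hv0 : v ≠ 0 := fun h => hW (by
    have h1 : c • wronskian F G = 0 := by rw [← hWuv, h, wronskian_zero_right]
    exact (smul_eq_zero.1 h1).resolve_left hc)
  obtain ⟨w, hw, hwa⟩ := Polynomial.exists_eq_pow_rootMultiplicity_mul_and_not_dvd v hv0 a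
  set m := v.rootMultiplicity a with hm_def
  have hm : 1 ≤ m := (Polynomial.rootMultiplicity_pos hv0).2 hva
  rw [Polynomial.dvd_iff_isRoot] at hwa
  obtain ⟨j, hj⟩ := Nat.exists_eq_succ_of_ne_zero (by omega : m ≠ 0)
  let Q : k[X] := u * (C ((j : k) + 1) * w + (X - C a) * derivative w) - derivative u * ((X - C a) * w)
  have hQ : wronskian u v = (X - C a) ^ j * Q := by
    rw [wronskian, hw, hj, derivative_mul, derivative_X_sub_C_pow, Nat.cast_succ, Nat.succ_sub_one, pow_succ]
    simp only [Q]
    ring
  have hWne : wronskian u v ≠ 0 := by rw [hWuv]; exact smul_ne_zero hc hW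
  have hQ0 : Q ≠ 0 := fun h => hWne (by rw [hQ, h, mul_zero])
  have hpow : ((X - C a) ^ j : k[X]) ≠ 0 := pow_ne_zero _ (X_sub_C_ne_zero a)
  have hmult : (wronskian F G).rootMultiplicity a = j + Q.rootMultiplicity a := by
    rw [← hrm, hQ, rootMultiplicity_mul (mul_ne_zero hpow hQ0), rootMultiplicity_X_sub_C_pow]
  have hQa : Q.eval a = ((j : k) + 1) * (u.eval a * w.eval a) := by simp [Q]; ring
  have hndvd : ¬ p ∣ m := fun hdvd => by
    have h0 : ((m : ℕ) : k) = 0 := (CharP.cast_eq_zero_iff k p m).2 hdvd
    rw [hj, Nat.cast_succ] at h0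
    have hroot : Q.IsRoot a := by
      show Q.eval a = 0
      rw [hQa, h0, zero_mul]
    have h2 := (Polynomial.rootMultiplicity_pos hQ0).2 hroot
    rcases hp with rfl | hp
    · exact absurd (Nat.eq_zero_of_zero_dvd hdvd) (by omega)
    · have := Nat.le_of_dvd (by omega) hdvd
      omega
  have hem : e = m := by
    have hne : Q.eval a ≠ 0 := by
      rw [hQa]
      refine mul_ne_zero (fun h0 => hndvd ((CharP.cast_eq_zero_iff k p m).1 ?_)) (mul_ne_zero hua hwa)
      rw [hj, Nat.cast_succ]
      exact h0
    rw [Polynomial.rootMultiplicity_eq_zero hne] at hmult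
    omega
  refine ⟨⟨⟨v, hv, hv0, hem.le⟩, fun s hs hs0 => ?_⟩, hem ▸ hndvd⟩
  obtain ⟨x, y, rfl⟩ := hspan s hs
  by_cases hx : x = 0
  · subst hx
    have hy : y ≠ 0 := by rintro rfl; simp at hs0
    rw [zero_smul, zero_add, Polynomial.smul_eq_C_mul, rootMultiplicity_mul (mul_ne_zero (by simpa using hy) hv0),
      rootMultiplicity_C, zero_add]
    exact hem.ge
  · have : (x • u + y • v).eval a ≠ 0 := by simp [hva, hx, hua]
    rw [Polynomial.rootMultiplicity_eq_zero this]
    omega

end Groth.Agent.S19560
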