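import Groth.Statements.S19565
import Mathlib.LinearAlgebra.RootSystem.CartanMatrix
-- import your own Groth.Agent.* helpers here

set_option autoImplicit false
universe u v w
open RootComb

namespace Groth.Agent.S19565

/-- Let Φ be a finite reduced crystallographic irreducible root system over a field of characteristic
zero, Δ a base of simple roots, I ⊆ Δ, and suppose the simple roots outside I are split into two
disjoint non-empty sets A and B. Then there are a simple root β ∈ A and a root δ such that δ is a
non-negative integer combination of the simple roots of I ∪ B (a positive root whose support avoids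
A), δ is not in the linear span of I (so δ is not a root of the Levi subsystem of I), and ⟨δ, β^∨⟩ <
0. (The published statement is made for the root system of a semisimple group; for a reducible
system such as A₁ × A₁ with I empty and A, B the two simple roots there is no such δ, and the
argument measures distances in a connected Dynkin diagram, so the root system is taken irreducible
here.) -/
theorem result
    {ι : Type u} [Finite ι] [DecidableEq ι] {k : Type v} [Field k] [CharZero k]
    {M : Type w} [AddCommGroup M] [Module k M] {N : Type w} [AddCommGroup N] [Module k N]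
    (P : RootPairing ι k M N) [P.IsCrystallographic] [P.IsReduced] [P.IsIrreducible] (b : P.Base)
    (I A B : Finset ι) (hcover : I ∪ A ∪ B = b.support) (hIA : Disjoint I A) (hIB : Disjoint I B)
    (hAB : Disjoint A B) (hA : A.Nonempty) (hB : B.Nonempty) :
    ∃ l ∈ A, ∃ j : ι, P.root j ∈ AddSubmonoid.closure (P.root '' ↑(I ∪ B)) ∧
      P.root j ∉ Submodule.span k (P.root '' ↑I) ∧ P.pairingIn ℤ j l < 0 := by
  classical
  haveI : IsDomain k := inferInstance
  have hI : ∀ {x}, x ∈ I → x ∈ b.support := fun hx => hcover ▸ Finset.mem_union_left _ (Finset.mem_union_left _ hx)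
  have hB' : ∀ {x}, x ∈ B → x ∈ b.support := fun hx => hcover ▸ Finset.mem_union_right _ hx
  have hA' : ∀ {x}, x ∈ A → x ∈ b.support := fun hx => hcover ▸ Finset.mem_union_left _ (Finset.mem_union_right _ hx)
  suffices key : ∀ (N : ℕ) (S : Finset ι), (b.support \ S).card = N → S ⊆ I ∪ B → (∃ β ∈ B, β ∈ S) →
      ∀ (c : ι → ℕ) (j : ι), (∀ i ∈ S, 0 < c i) → P.root j = ∑ i ∈ S, c i • P.root i →
      ∃ l ∈ A, ∃ j : ι, P.root j ∈ AddSubmonoid.closure (P.root '' ↑(I ∪ B)) ∧
        P.root j ∉ Submodule.span k (P.root '' ↑I) ∧ P.pairingIn ℤ j l < 0 by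
    obtain ⟨β, hβ⟩ := hB
    exact key _ {β} rfl (by simp [hβ]) ⟨β, hβ, by simp⟩ (fun _ => 1) β (by simp) (by simp)
  intro N
  induction N using Nat.strong_induction_on with
  | _ N ih =>
  intro S hN hS hSB c j hc hj
  obtain ⟨β, hβB, hβS⟩ := hSB
  have hSs : ∀ {x}, x ∈ S → x ∈ b.support := fun hx => by
    rcases Finset.mem_union.1 (hS hx) with h | h
    · exact hI h
    · exact hB' h
  -- a vertex outside `S` adjacent to `S`
  obtain ⟨i₀, hi₀, m, hm, hmS, hadj⟩ : ∃ i₀ ∈ S, ∃ m ∈ b.support, m ∉ S ∧ P.pairingIn ℤ i₀ m ≠ 0 := by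
    by_contra! hno
    obtain ⟨a, ha⟩ := hA
    have haS : a ∉ S := fun h => by
      rcases Finset.mem_union.1 (hS h) with h' | h'
      · exact Finset.disjoint_left.1 hIA h' ha
      · exact Finset.disjoint_left.1 hAB ha h'
    refine haS (b.induction_on_cartanMatrix (fun x : b.support => (x : ι) ∈ S)
      (i := ⟨β, hB' hβB⟩) (j := ⟨a, hA' ha⟩) hβS fun x y hx hxy => ?_)
    by_contra hy
    refine hxy ((b.cartanMatrix_apply_eq_zero_iff_symm).1 ?_)
    exact hno x hx y y.2 hy
  -- the pairing with `m` is negative
  have hpair : P.pairingIn ℤ j m = ∑ i ∈ S, (c i : ℤ) * P.pairingIn ℤ i m := by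
    apply (algebraMap ℤ k).injective_int
    rw [map_sum, P.algebraMap_pairingIn, ← P.root_coroot'_eq_pairing, hj, map_sum]
    refine Finset.sum_congr rfl fun i _ => ?_
    rw [map_nsmul, P.root_coroot'_eq_pairing, map_mul, P.algebraMap_pairingIn]
    simp [nsmul_eq_mul]
  have hneg : P.pairingIn ℤ j m < 0 := by
    rw [hpair]
    have hle : ∀ i ∈ S, (c i : ℤ) * P.pairingIn ℤ i m ≤ 0 := fun i hi =>
      mul_nonpos_of_nonneg_of_nonpos (Int.natCast_nonneg _)
        (b.pairingIn_le_zero_of_ne (fun e => hmS (e ▸ hi)) (hSs hi) hm)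
    refine Finset.sum_neg' hle ⟨i₀, hi₀, ?_⟩
    exact mul_neg_of_pos_of_neg (by exact_mod_cast hc i₀ hi₀)
      (lt_of_le_of_ne (b.pairingIn_le_zero_of_ne (fun e => hmS (e ▸ hi₀)) (hSs hi₀) hm) hadj)
  have hmem : P.root j ∈ AddSubmonoid.closure (P.root '' ↑(I ∪ B)) := by
    rw [hj]
    exact AddSubmonoid.sum_mem _ fun i hi =>
      AddSubmonoid.nsmul_mem _ (AddSubmonoid.subset_closure (Set.mem_image_of_mem _ (hS hi))) _
  by_cases hmA : m ∈ A
  · refine ⟨m, hmA, j, hmem, fun hspan => ?_, hneg⟩
    -- the coefficient at `β` is not zero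
    have hsub : Submodule.span k (P.root '' ↑I) ≤ Submodule.span k (P.root '' ↑(b.support.erase β)) := by
      refine Submodule.span_mono (Set.image_mono ?_)
      intro x hx
      exact Finset.mem_erase.2 ⟨fun e => Finset.disjoint_left.1 hIB hx (e ▸ hβB), hI hx⟩
    have hrest : ∑ i ∈ S.erase β, c i • P.root i ∈ Submodule.span k (P.root '' ↑(b.support.erase β)) :=
      Submodule.sum_mem _ fun i hi => Submodule.smul_of_tower_mem _ (c i) (Submodule.subset_span
        (Set.mem_image_of_mem _ (Finset.mem_erase.2 ⟨Finset.ne_of_mem_erase hi, hSs (Finset.mem_of_mem_erase hi)⟩)))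
    have h1 : c β • P.root β ∈ Submodule.span k (P.root '' ↑(b.support.erase β)) := by
      have h2 := Submodule.sub_mem _ (hsub hspan) hrest
      rwa [hj, ← Finset.add_sum_erase _ _ hβS, add_sub_cancel_right] at h2
    rw [← Nat.cast_smul_eq_nsmul k, Submodule.smul_mem_iff _ (Nat.cast_ne_zero.2 (hc β hβS).ne')] at h1
    have h3 := b.linearIndepOn_root.notMem_span_iff (a := β)
    have h4 : LinearIndepOn k P.root ((b.support.erase β : Finset ι) : Set ι) :=
      b.linearIndepOn_root.mono (by simp)
    have h5 : LinearIndepOn k P.root (insert β ((b.support.erase β : Finset ι) : Set ι)) :=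
      b.linearIndepOn_root.mono (by
        intro x hx
        rcases hx with rfl | hx
        · exact hSs hβS
        · exact Finset.mem_of_mem_erase hx)
    exact (LinearIndepOn.notMem_span_iff h4).2 ⟨h5, by simp⟩ h1
  · -- enlarge `S`
    have hmIB : m ∈ I ∪ B := by
      rw [← hcover] at hm
      simp only [Finset.mem_union] at hm ⊢
      tauto
    obtain ⟨q, hq⟩ : ∃ q : ℕ, P.pairingIn ℤ j m = -(q : ℤ) := ⟨(-P.pairingIn ℤ j m).toNat, by omega⟩
    refine ih _ ?_ (insert m S) rfl (Finset.insert_subset hmIB hS)
      ⟨β, hβB, Finset.mem_insert_of_mem hβS⟩ (Function.update c m q) (P.reflectionPerm m j) ?_ ?_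
    · rw [← hN]
      refine Finset.card_lt_card ⟨Finset.sdiff_subset_sdiff le_rfl (Finset.subset_insert _ _), fun h => ?_⟩
      have := h (Finset.mem_sdiff.2 ⟨hm, hmS⟩)
      simp at this
    · intro i hi
      rcases Finset.mem_insert.1 hi with rfl | hi
      · rw [Function.update_self]; omega
      · have hne : i ≠ m := fun e => hmS (e ▸ hi)
        rw [Function.update_of_ne hne]; exact hc i hi
    · have hsum : ∑ i ∈ S, Function.update c m q i • P.root i = ∑ i ∈ S, c i • P.root i :=
        Finset.sum_congr rfl fun i hi => by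
          have hne : i ≠ m := fun e => hmS (e ▸ hi)
          rw [Function.update_of_ne hne]
      rw [P.root_reflectionPerm, P.reflection_apply_root, Finset.sum_insert hmS, Function.update_self,
        hsum, ← hj, ← P.algebraMap_pairingIn ℤ, hq]
      simp [add_comm, ← Nat.cast_smul_eq_nsmul k]

end Groth.Agent.S19565
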