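import Groth.Statements.S19569
import Groth.Agent.CAlgH.Spreading
import Mathlib.RingTheory.Smooth.NoetherianDescent
-- import your own Groth.Agent.* helpers here

set_option autoImplicit false
set_option linter.all false
universe u
open CAlg

namespace Groth.Agent.S19569

open TensorProduct in
/-- Let A be the colimit of a directed system of rings (A_i), given by compatible ring maps A_i → A
which are jointly surjective and such that an element of some A_i mapping to zero in A already maps
to zero in some later A_j, and let B be an étale A-algebra. Then for some index i there is an étale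
A_i-algebra B_i such that B is isomorphic, as an A-algebra, to the base change A ⊗_{A_i} B_i
(existence of an isomorphism). (Stated for a system indexed by a directed preordered set.) -/
theorem result {ι : Type u} [Preorder ι] [IsDirected ι (· ≤ ·)] [Nonempty ι]
    (G : ι → Type u) [∀ i, CommRing (G i)] (f : ∀ i j, i ≤ j → (G i →+* G j))
    (A : Type u) [CommRing A] (g : ∀ i, G i →+* A) (hg : ∀ i j (h : i ≤ j), (g j).comp (f i j h) = g i)
    (hsurj : ∀ a : A, ∃ i, ∃ x : G i, g i x = a)
    (hker : ∀ i (x : G i), g i x = 0 → ∃ j, ∃ h : i ≤ j, f i j h x = 0)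
    (B : Type u) [CommRing B] [Algebra A B] [Algebra.Etale A B] :
    ∃ (i : ι) (Bi : Type u) (_ : CommRing Bi) (_ : Algebra (G i) Bi), Algebra.Etale (G i) Bi ∧
      letI : Algebra (G i) A := (g i).toAlgebra
      Nonempty (B ≃ₐ[A] A ⊗[G i] Bi) := by
  classical
  obtain ⟨A₀, B₀, _, _, hA₀, hB₀, ⟨e⟩⟩ := Algebra.Etale.exists_subalgebra_fg (R := ℤ) (A := A) (B := B)
  haveI : Algebra.FiniteType ℤ A₀ := (Subalgebra.fg_iff_finiteType A₀).mp hA₀
  obtain ⟨n, φ, hφ⟩ := Algebra.FiniteType.iff_quotient_mvPolynomial''.mp ‹Algebra.FiniteType ℤ A₀›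
  choose i₀ x₀ hx₀ using fun k : Fin n => hsurj (φ (MvPolynomial.X k) : A)
  have hub : ∀ s : Finset (Fin n), ∃ i, ∀ k ∈ s, i₀ k ≤ i := by
    intro s
    induction s using Finset.induction with
    | empty => exact ⟨Classical.arbitrary ι, by simp⟩
    | insert a s _ ih =>
      obtain ⟨i, hi⟩ := ih
      obtain ⟨j, h1, h2⟩ := directed_of (· ≤ ·) i (i₀ a)
      exact ⟨j, fun k hk => (Finset.mem_insert.mp hk).elim (fun h => h ▸ h2) (fun h => (hi k h).trans h1)⟩
  obtain ⟨i, hi⟩ := hub Finset.univ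
  let ψ₀ : MvPolynomial (Fin n) ℤ →+* G i :=
    MvPolynomial.eval₂Hom (Int.castRingHom _) fun k => f (i₀ k) i (hi k (Finset.mem_univ k)) (x₀ k)
  have hψ₀ : ∀ z, g i (ψ₀ z) = (φ z : A) := by
    intro z
    refine RingHom.congr_fun (f := (g i).comp ψ₀) (g := (A₀.val.comp φ).toRingHom) ?_ z
    refine MvPolynomial.ringHom_ext (fun r => by simp) fun k => ?_
    have h := RingHom.congr_fun (hg _ _ (hi k (Finset.mem_univ k))) (x₀ k)
    simp only [RingHom.comp_apply] at h
    simp [ψ₀, h, hx₀]
  obtain ⟨G₀, hG₀⟩ := IsNoetherian.noetherian (RingHom.ker φ.toRingHom)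
  have hkill : ∀ s : Finset (MvPolynomial (Fin n) ℤ), (∀ z ∈ s, φ z = 0) →
      ∃ j, ∃ ψ : MvPolynomial (Fin n) ℤ →+* G j, (∀ z, g j (ψ z) = (φ z : A)) ∧ ∀ z ∈ s, ψ z = 0 := by
    intro s
    induction s using Finset.induction with
    | empty => exact fun _ => ⟨i, ψ₀, hψ₀, by simp⟩
    | insert a s _ ih =>
      intro h
      obtain ⟨j, ψ, hψ, hψs⟩ := ih fun z hz => h z (Finset.mem_insert_of_mem hz)
      obtain ⟨k, hjk, hk⟩ := hker j (ψ a) (by rw [hψ, h a (Finset.mem_insert_self a s)]; rfl)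
      refine ⟨k, (f j k hjk).comp ψ, fun z => ?_, fun z hz => ?_⟩
      · rw [RingHom.comp_apply, ← RingHom.comp_apply, hg, hψ]
      · rcases Finset.mem_insert.mp hz with rfl | hz
        · exact hk
        · rw [RingHom.comp_apply, hψs z hz, map_zero]
  obtain ⟨j, ψ, hψ, hψs⟩ := hkill G₀ fun z hz => (hG₀.le (Submodule.subset_span hz) :)
  have hle : RingHom.ker φ.toRingHom ≤ RingHom.ker ψ := by
    rw [← hG₀, Submodule.span_le]
    exact fun z hz => hψs z hz
  let χ : A₀ →+* G j := RingHom.liftOfSurjective φ.toRingHom hφ ⟨ψ, hle⟩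
  have hχ : ∀ a, g j (χ a) = (a : A) := by
    intro a
    obtain ⟨z, rfl⟩ := hφ a
    rw [show χ (φ z) = ψ z from RingHom.liftOfRightInverse_comp_apply φ.toRingHom _
      (Function.rightInverse_surjInv hφ) ⟨ψ, hle⟩ z]
    exact hψ z
  letI : Algebra A₀ (G j) := χ.toAlgebra
  letI : Algebra (G j) A := (g j).toAlgebra
  haveI : IsScalarTower A₀ (G j) A := IsScalarTower.of_algebraMap_eq fun a => (hχ a).symm
  exact ⟨j, (G j) ⊗[A₀] B₀, inferInstance, inferInstance, inferInstance,
    ⟨e.trans (Algebra.TensorProduct.cancelBaseChange A₀ (G j) A A B₀).symm⟩⟩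

end Groth.Agent.S19569
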