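import Groth.Statements.S1957
import Groth.Agent.HenselLib.PairNbhd
import Groth.Agent.HenselLib.HullFlat
import Groth.Agent.HenselLib.Idem

set_option autoImplicit false
universe u
open Polynomial
open EtAlg

namespace Groth.Agent.S1957

/-- Let A be a ring, I an ideal and f a monic polynomial over A. Suppose the image of f in (A/I)[x]
factors as g h where the leading coefficient of g is a unit and g, h generate the unit ideal. Then
there is an etale A-algebra A' such that A/I -> A'/IA' is bijective, together with a factorization f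
= g' h' in A'[x] whose reduction modulo IA' is the image of the given one. -/
theorem result (A : Type u) [CommRing A] (I : Ideal A) (f : A[X]) (hf : f.Monic)
    (g h : (A ⧸ I)[X]) (hgh : f.map (Ideal.Quotient.mk I) = g * h) (hlead : IsUnit g.leadingCoeff)
    (hcop : IsCoprime g h) :
    ∃ (A' : Type u) (_ : CommRing A') (_ : Algebra A A') (_ : Algebra.Etale A A'),
      Function.Bijective (Ideal.quotientMap (I.map (algebraMap A A')) (algebraMap A A') Ideal.le_comap_map) ∧
      ∃ g' h' : A'[X], f.map (algebraMap A A') = g' * h' ∧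
        g'.map (Ideal.Quotient.mk (I.map (algebraMap A A'))) =
          g.map (Ideal.quotientMap (I.map (algebraMap A A')) (algebraMap A A') Ideal.le_comap_map) ∧
        h'.map (Ideal.Quotient.mk (I.map (algebraMap A A'))) =
          h.map (Ideal.quotientMap (I.map (algebraMap A A')) (algebraMap A A') Ideal.le_comap_map) := by
  classical
  obtain ⟨u, hu⟩ := hlead
  set B := Groth.Agent.HenselLib.PairH A I
  have hBh : HenselianRing B (I.map (algebraMap A B)) := (Groth.Agent.HenselLib.isPairHull_pairH A I).1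
  let θB : A ⧸ I →+* B ⧸ I.map (algebraMap A B) :=
    Ideal.quotientMap (I.map (algebraMap A B)) (algebraMap A B) Ideal.le_comap_map
  let g₀ := C (↑u⁻¹ : A ⧸ I) * g
  let h₀ := C (↑u : A ⧸ I) * h
  have hgh₀ : g₀ * h₀ = f.map (Ideal.Quotient.mk I) := by
    rw [hgh, show g₀ * h₀ = C ((↑u⁻¹ : A ⧸ I) * ↑u) * (g * h) by simp only [g₀, h₀, map_mul]; ring,
      u.inv_mul, map_one, one_mul]
  have hg₀ : g₀.Monic := monic_C_mul_of_mul_leadingCoeff_eq_one (by rw [← hu, u.inv_mul])
  have hh₀ : h₀.Monic := hg₀.of_mul_monic_left (by rw [hgh₀]; exact hf.map _)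
  have hco : IsCoprime g₀ h₀ :=
    (isCoprime_mul_unit_left_left (isUnit_C.mpr u⁻¹.isUnit) g h₀).mpr
      ((isCoprime_mul_unit_left_right (isUnit_C.mpr u.isUnit) g h).mpr hcop)
  obtain ⟨gB, hB', -, -, -, hfac, hgB, hhB⟩ := Groth.Agent.HenselLib.exists_factor (I.map (algebraMap A B))
    (f.map (algebraMap A B)) (hf.map _) (g₀.map θB) (h₀.map θB) (hg₀.map _) (hh₀.map _)
    (hco.map (Polynomial.mapRingHom θB)) (by
      rw [← Polynomial.map_mul, hgh₀, Polynomial.map_map, Polynomial.map_map]; rfl)
  obtain ⟨U, hU⟩ := Ideal.Quotient.mk_surjective (u : A ⧸ I)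
  have hUB : IsUnit (algebraMap A B U) := Groth.Agent.HenselLib.isUnit_of_isUnit_mk hBh.jac (by
    show IsUnit (θB (Ideal.Quotient.mk I U))
    rw [hU]; exact u.isUnit.map θB)
  obtain ⟨v, hv⟩ := hUB
  let G := C (v : B) * gB
  let H := C (↑v⁻¹ : B) * hB'
  have hGH : f.map (algebraMap A B) = G * H := by
    rw [hfac, show G * H = C ((v : B) * ↑v⁻¹) * (gB * hB') by simp only [G, H, map_mul]; ring,
      v.mul_inv, map_one, one_mul]
  let π := Ideal.Quotient.mk (I.map (algebraMap A B))
  have hπv : π (v : B) = θB u := by rw [hv, ← hU]; rfl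
  have hπvinv : π (↑v⁻¹ : B) = θB (↑u⁻¹ : A ⧸ I) := by
    refine (u.isUnit.map θB).mul_left_injective ?_
    show π (↑v⁻¹ : B) * θB u = θB (↑u⁻¹ : A ⧸ I) * θB u
    rw [← hπv, ← map_mul, hπv, ← map_mul, v.inv_mul, u.inv_mul, map_one, map_one]
  have hG : G.map π = g.map θB := by
    rw [Polynomial.map_mul, map_C, hgB, hπv, Polynomial.map_mul, map_C, ← mul_assoc, ← map_mul,
      ← map_mul, u.mul_inv, map_one, map_one, one_mul]
  have hH : H.map π = h.map θB := by
    rw [Polynomial.map_mul, map_C, hhB, hπvinv, Polynomial.map_mul, map_C, ← mul_assoc, ← map_mul,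
      ← map_mul, u.inv_mul, map_one, map_one, one_mul]
  obtain ⟨P, x, hx⟩ := Groth.Agent.HenselLib.exists_rep_finset (R := A) (K := A ⧸ I)
    ((Finset.range (G.natDegree + 1)).image G.coeff ∪ (Finset.range (H.natDegree + 1)).image H.coeff)
    (fun b => b)
  have hlift : ∀ F : B[X], (∀ n ≤ F.natDegree, F.coeff n ∈ (Finset.range (G.natDegree + 1)).image G.coeff ∪
      (Finset.range (H.natDegree + 1)).image H.coeff) →
      ∃ F' : P.Ring[X], F'.map (Groth.Agent.HenselLib.ι P).toRingHom = F := fun F hF => by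
    refine (Polynomial.mem_lifts _).mp ((Polynomial.lifts_iff_coeff_lifts _).mpr fun n => ?_)
    by_cases hn : n ≤ F.natDegree
    · exact ⟨x (F.coeff n), hx _ (hF n hn)⟩
    · exact ⟨0, by rw [map_zero, coeff_eq_zero_of_natDegree_lt (by omega)]⟩
  obtain ⟨G', hG'⟩ := hlift G fun n hn => Finset.mem_union_left _
    (Finset.mem_image_of_mem _ (by simp; omega))
  obtain ⟨H', hH'⟩ := hlift H fun n hn => Finset.mem_union_right _
    (Finset.mem_image_of_mem _ (by simp; omega))
  let D := f.map (algebraMap A P.Ring) - G' * H'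
  have hD : D.map (Groth.Agent.HenselLib.ι P).toRingHom = 0 := by
    rw [Polynomial.map_sub, Polynomial.map_mul, hG', hH', Polynomial.map_map,
      show (Groth.Agent.HenselLib.ι P).toRingHom.comp (algebraMap A P.Ring) = algebraMap A B from
        (Groth.Agent.HenselLib.ι P).comp_algebraMap, hGH, sub_self]
  have hkill : ∀ n, ∃ (S : Groth.Agent.HenselLib.Pt A (A ⧸ I)) (s : P ⟶ S),
      ∀ i < n, s.map (D.coeff i) = 0 := fun n => by
    induction n with
    | zero => exact ⟨P, CategoryTheory.CategoryStruct.id P, fun i hi => absurd hi (Nat.not_lt_zero i)⟩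
    | succ n ih =>
        obtain ⟨S, s, hs⟩ := ih
        have h0 : Groth.Agent.HenselLib.ι S (s.map (D.coeff n)) = 0 := by
          rw [Groth.Agent.HenselLib.ι_map]
          have := congrArg (fun q => Polynomial.coeff q n) hD
          simpa [Polynomial.coeff_map] using this
        obtain ⟨T, t, ht⟩ := (Groth.Agent.HenselLib.exists_eq_zero_iff _).mp h0
        refine ⟨T, CategoryTheory.CategoryStruct.comp s t, fun i hi => ?_⟩
        show t.map (s.map (D.coeff i)) = 0
        rcases Nat.lt_succ_iff_lt_or_eq.mp hi with h | rfl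
        · rw [hs i h, map_zero]
        · exact ht
  obtain ⟨S, s, hs⟩ := hkill (D.natDegree + 1)
  obtain ⟨Q, q, hQ⟩ := Groth.Agent.HenselLib.exists_hom_nbhd I S
  have hbij := Groth.Agent.HenselLib.bijective_quotθ_pt I hQ
  let θQ : A ⧸ I →+* Q.Ring ⧸ I.map (algebraMap A Q.Ring) :=
    Ideal.quotientMap (I.map (algebraMap A Q.Ring)) (algebraMap A Q.Ring) Ideal.le_comap_map
  let m := (q.map.comp s.map).toRingHom
  refine ⟨Q.Ring, inferInstance, inferInstance, inferInstance, hbij, G'.map m, H'.map m, ?_, ?_⟩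
  · have h1 : D.map m = 0 := Polynomial.ext fun i => by
      rw [coeff_map, coeff_zero]
      by_cases hi : i ≤ D.natDegree
      · show q.map (s.map (D.coeff i)) = 0
        rw [hs i (by omega), map_zero]
      · rw [coeff_eq_zero_of_natDegree_lt (by omega), map_zero]
    rw [Polynomial.map_sub, Polynomial.map_mul, Polynomial.map_map,
      show m.comp (algebraMap A P.Ring) = algebraMap A Q.Ring from (q.map.comp s.map).comp_algebraMap,
      sub_eq_zero] at h1
    exact h1
  · let φ : Q.Ring ⧸ I.map (algebraMap A Q.Ring) →+* B ⧸ I.map (algebraMap A B) :=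
      Ideal.quotientMap _ (Groth.Agent.HenselLib.ι Q).toRingHom fun z hz =>
        Groth.Agent.HenselLib.mem_map_algHom _ I hz
    have hφθ : φ.comp θQ = θB := Ideal.Quotient.ringHom_ext (RingHom.ext fun a =>
      congrArg π ((Groth.Agent.HenselLib.ι Q).commutes a))
    have hθB : Function.Injective θB := by
      have h1 := (Groth.Agent.HenselLib.isPairHull_pairH A I).bijective_quotientMap 1
      refine (injective_iff_map_eq_zero _).mpr fun z hz => ?_
      obtain ⟨a, rfl⟩ := Ideal.Quotient.mk_surjective z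
      rw [Ideal.quotientMap_mk, Ideal.Quotient.eq_zero_iff_mem] at hz
      rw [Ideal.Quotient.eq_zero_iff_mem, ← pow_one I, ← Ideal.Quotient.eq_zero_iff_mem]
      refine h1.1 ?_
      rw [map_zero, Ideal.quotientMap_mk, Ideal.Quotient.eq_zero_iff_mem, pow_one]
      exact hz
    have hφ : Function.Injective φ := fun y z hyz => by
      obtain ⟨a, rfl⟩ := hbij.2 y
      obtain ⟨b, rfl⟩ := hbij.2 z
      exact congrArg θQ (hθB ((congr($hφθ a)).symm.trans (hyz.trans congr($hφθ b))))
    have hιm : ∀ F : P.Ring[X], ((F.map m).map (Ideal.Quotient.mk _)).map φ =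
        (F.map (Groth.Agent.HenselLib.ι P).toRingHom).map π := fun F => by
      simp only [Polynomial.map_map]
      refine congrArg (F.map ·) (RingHom.ext fun z => congrArg π ?_)
      show Groth.Agent.HenselLib.ι Q (q.map (s.map z)) = Groth.Agent.HenselLib.ι P z
      rw [Groth.Agent.HenselLib.ι_map, Groth.Agent.HenselLib.ι_map]
    refine ⟨Polynomial.map_injective φ hφ ?_, Polynomial.map_injective φ hφ ?_⟩
    · rw [hιm, hG', hG, Polynomial.map_map]; exact congrArg (g.map ·) hφθ.symm
    · rw [hιm, hH', hH, Polynomial.map_map]; exact congrArg (h.map ·) hφθ.symm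

end Groth.Agent.S1957
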