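import Groth.Statements.S19570
import Groth.Agent.EtNbhdFin.Main
import Groth.Agent.CAlgH.SmoothLift
import Groth.Agent.Desc19b.NormalSmooth

set_option autoImplicit false
set_option maxHeartbeats 1000000
set_option linter.style.haveILetI false
universe u
open scoped TensorProduct
open EGA4

namespace Groth.Agent.S19570

/-- A lift modulo `I` as a base change. -/
theorem exists_tensorEquiv {V : Type u} [CommRing V] (I : Ideal V) {A A₀ : Type u} [CommRing A] [Algebra V A]
    [CommRing A₀] [Algebra (V ⧸ I) A₀] (θ : A →+* A₀) (hθ : Function.Surjective θ)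
    (hker : RingHom.ker θ = I.map (algebraMap V A))
    (hc : ∀ v, θ (algebraMap V A v) = algebraMap (V ⧸ I) A₀ (Ideal.Quotient.mk I v)) :
    ∃ e : (V ⧸ I) ⊗[V] A ≃ₐ[V ⧸ I] A₀, ∀ a : A, e ((1 : V ⧸ I) ⊗ₜ[V] a) = θ a := by
  letI : Algebra V A₀ := ((algebraMap (V ⧸ I) A₀).comp (Ideal.Quotient.mk I)).toAlgebra
  haveI : IsScalarTower V (V ⧸ I) A₀ := IsScalarTower.of_algebraMap_eq fun a => rfl
  let θV : A →ₐ[V] A₀ := { θ with commutes' := hc }
  let lam : (V ⧸ I) ⊗[V] A →ₐ[V ⧸ I] A₀ :=
    Algebra.TensorProduct.lift (Algebra.ofId (V ⧸ I) A₀) θV fun _ _ => Commute.all _ _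
  have hlam : ∀ b, lam ((1 : V ⧸ I) ⊗ₜ[V] b) = θ b := fun b => by
    rw [show lam ((1 : V ⧸ I) ⊗ₜ[V] b) = algebraMap (V ⧸ I) A₀ 1 * θV b from
      Algebra.TensorProduct.lift_tmul _ _ _ _ _, map_one, one_mul]
    rfl
  have hsurj : ∀ z : (V ⧸ I) ⊗[V] A, ∃ b : A, (1 : V ⧸ I) ⊗ₜ[V] b = z := fun z => by
    induction z using TensorProduct.induction_on with
    | zero => exact ⟨0, TensorProduct.tmul_zero _ _⟩
    | tmul q b =>
        obtain ⟨a, rfl⟩ := Ideal.Quotient.mk_surjective q
        refine ⟨a • b, ?_⟩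
        rw [TensorProduct.tmul_smul, TensorProduct.smul_tmul', Algebra.smul_def, mul_one]
        rfl
    | add x y hx hy =>
        obtain ⟨a, rfl⟩ := hx; obtain ⟨b, rfl⟩ := hy
        exact ⟨a + b, TensorProduct.tmul_add _ _ _⟩
  refine ⟨AlgEquiv.ofBijective lam ⟨(injective_iff_map_eq_zero _).mpr fun z hz => ?_, fun a₀ => ?_⟩, hlam⟩
  · obtain ⟨b, rfl⟩ := hsurj z
    rw [hlam] at hz
    have hb : b ∈ I.map (algebraMap V A) := by rw [← hker]; exact hz
    let ι₀ : A →ₐ[V] (V ⧸ I) ⊗[V] A := Algebra.TensorProduct.includeRight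
    have hle : I.map (algebraMap V A) ≤ RingHom.ker ι₀ := Ideal.map_le_iff_le_comap.mpr fun a ha => by
      show ι₀ (algebraMap V A a) = 0
      rw [ι₀.commutes, IsScalarTower.algebraMap_apply V (V ⧸ I) ((V ⧸ I) ⊗[V] A),
        show algebraMap V (V ⧸ I) a = 0 from Ideal.Quotient.eq_zero_iff_mem.mpr ha, map_zero]
    exact hle hb
  · obtain ⟨b, rfl⟩ := hθ a₀
    exact ⟨(1 : V ⧸ I) ⊗ₜ[V] b, hlam b⟩

/-- The theorem for an arbitrary normal domain and ideal. -/
theorem main (V : Type u) [CommRing V] [IsDomain V] [IsIntegrallyClosed V] (I : Ideal V)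
    (A₀ : Type u) [CommRing A₀] [Algebra (V ⧸ I) A₀] [Algebra.Smooth (V ⧸ I) A₀]
    (B₀ : Type u) [CommRing B₀] [Algebra A₀ B₀] [Algebra (V ⧸ I) B₀]
    [IsScalarTower (V ⧸ I) A₀ B₀] [Module.Finite A₀ B₀] [Algebra.Etale A₀ B₀] :
    ∃ (A : Type u) (_ : CommRing A) (_ : Algebra V A) (_ : Algebra.Smooth V A)
      (e : (V ⧸ I) ⊗[V] A ≃ₐ[V ⧸ I] A₀)
      (B : Type u) (_ : CommRing B) (_ : Algebra A B) (_ : Algebra V B) (_ : IsScalarTower V A B)
      (e' : (V ⧸ I) ⊗[V] B ≃ₐ[V ⧸ I] B₀),
      Module.Finite A B ∧ EGA4.IsNormalRing B ∧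
      (∀ x : (V ⧸ I) ⊗[V] A,
        e' (Algebra.TensorProduct.map (AlgHom.id (V ⧸ I) (V ⧸ I))
          (IsScalarTower.toAlgHom V A B) x) = algebraMap A₀ B₀ (e x)) ∧
      Algebra.Etale A B := by
  obtain ⟨A, iA, aA, hA, ⟨e₀⟩⟩ := CAlgH.SmoothLift.exists_smooth_lift (A₀ := A₀) I
  letI : Algebra (A ⧸ I.map (algebraMap V A)) B₀ := ((algebraMap A₀ B₀).comp e₀.toRingHom).toAlgebra
  letI : Algebra A₀ (A ⧸ I.map (algebraMap V A)) := e₀.symm.toRingHom.toAlgebra
  haveI : IsScalarTower A₀ (A ⧸ I.map (algebraMap V A)) B₀ := IsScalarTower.of_algebraMap_eq fun x =>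
    (congrArg (algebraMap A₀ B₀) (e₀.apply_symm_apply x)).symm
  haveI : Module.Finite (A ⧸ I.map (algebraMap V A)) B₀ := Module.Finite.of_restrictScalars_finite A₀ _ _
  haveI : Algebra.Etale A₀ (A ⧸ I.map (algebraMap V A)) :=
    Algebra.Etale.of_equiv (AlgEquiv.ofRingEquiv (f := e₀.symm.toRingEquiv) fun x => rfl : A₀ ≃ₐ[A₀] _)
  haveI : Algebra.Etale (A ⧸ I.map (algebraMap V A)) B₀ := Algebra.Etale.of_restrictScalars A₀ _ _
  obtain ⟨A', _, _, _, θA, B, _, _, θB, hkA, hfin, het, hθBs, hkB, hcomp⟩ :=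
    EtNbhdFin.exists_finiteEtale_lift_nbhd A (I.map (algebraMap V A)) B₀
  letI : Algebra V A' := ((algebraMap A A').comp (algebraMap V A)).toAlgebra
  haveI : IsScalarTower V A A' := IsScalarTower.of_algebraMap_eq fun x => rfl
  haveI : Algebra.Smooth V A' := Algebra.Smooth.comp V A A'
  letI : Algebra V B := ((algebraMap A' B).comp (algebraMap V A')).toAlgebra
  haveI : IsScalarTower V A' B := IsScalarTower.of_algebraMap_eq fun x => rfl
  haveI : Algebra.Smooth V B := Algebra.Smooth.comp V A' B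
  let θ1 : A' →+* A₀ := e₀.toRingHom.comp θA.toRingHom
  have hθ1 : ∀ v, θ1 (algebraMap V A' v) = algebraMap (V ⧸ I) A₀ (Ideal.Quotient.mk I v) := fun v => by
    show e₀ (θA (algebraMap A A' (algebraMap V A v))) = _
    rw [AlgHom.commutes, ← e₀.commutes]
    rfl
  obtain ⟨e, he⟩ := exists_tensorEquiv I θ1 (e₀.surjective.comp fun z => by
      obtain ⟨a, rfl⟩ := Ideal.Quotient.mk_surjective z
      exact ⟨algebraMap A A' a, θA.commutes a⟩)
    (by
      rw [show θ1 = e₀.toRingEquiv.toRingHom.comp θA.toRingHom from rfl,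
        RingHom.ker_comp_of_injective _ e₀.injective, show RingHom.ker θA.toRingHom = RingHom.ker θA from rfl,
        hkA, Ideal.map_map]
      rfl) hθ1
  have hθ2 : ∀ x, θB (algebraMap A' B x) = algebraMap A₀ B₀ (θ1 x) := fun x => hcomp x
  obtain ⟨e', he'⟩ := exists_tensorEquiv I θB hθBs (by rw [hkB, Ideal.map_map, Ideal.map_map]; rfl)
    (fun v => by
      show θB (algebraMap A' B (algebraMap V A' v)) = _
      rw [hθ2, hθ1, ← IsScalarTower.algebraMap_apply])
  refine ⟨A', inferInstance, inferInstance, inferInstance, e, B, inferInstance, inferInstance, inferInstance,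
    inferInstance, e', hfin, ?_, fun x => ?_, het⟩
  · exact Desc19b.isNormalRing_of_smooth V B fun p _ => ⟨inferInstance,
      isIntegrallyClosed_of_isLocalization _ p.primeCompl p.primeCompl_le_nonZeroDivisors⟩
  · induction x using TensorProduct.induction_on with
    | zero => simp
    | add x y hx hy => simp only [map_add, hx, hy]
    | tmul r a =>
      obtain ⟨v, rfl⟩ := Ideal.Quotient.mk_surjective r
      have h1 : ∀ {M : Type u} [CommRing M] [Algebra V M] (m : M),
          (Ideal.Quotient.mk I v) ⊗ₜ[V] m = (Ideal.Quotient.mk I v) • ((1 : V ⧸ I) ⊗ₜ[V] m) := fun m => by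
        rw [TensorProduct.smul_tmul', smul_eq_mul, mul_one]
      rw [Algebra.TensorProduct.map_tmul, AlgHom.id_apply, h1 (IsScalarTower.toAlgHom V A' B a), h1 a,
        map_smul, map_smul, he, he']
      show (Ideal.Quotient.mk I v) • θB (algebraMap A' B a) = _
      rw [Algebra.smul_def, Algebra.smul_def, hθ2, map_mul, ← IsScalarTower.algebraMap_apply]

/-- Let V be a complete discrete valuation ring of characteristic zero, with maximal ideal 𝔪 and residue
field k, let A₀ be a smooth k-algebra and B₀ a finite étale A₀-algebra. Then A₀ lifts to a smooth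
V-algebra A (an isomorphism k ⊗_V A ≅ A₀ of k-algebras), and the finite étale cover lifts over it:
there is a finite A-algebra B which is a normal ring, with an isomorphism k ⊗_V B ≅ B₀ compatible
with the one for A and with the algebra maps, such that the localization A_T → B_T at T = 1 + 𝔪A is
étale. The published corollary also claims, for the lift it produces, a finite étale lift after
inverting a suitable element and further properties of formal completions of projective closures;
the statement here asserts only that B is finite over A and normal and that A_T → B_T is étale. -/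
theorem result
    (V : Type u) [CommRing V] [IsDomain V] [IsDiscreteValuationRing V] [CharZero V]
    [IsAdicComplete (IsLocalRing.maximalIdeal V) V]
    (A₀ : Type u) [CommRing A₀] [Algebra (IsLocalRing.ResidueField V) A₀]
    [Algebra.Smooth (IsLocalRing.ResidueField V) A₀]
    (B₀ : Type u) [CommRing B₀] [Algebra A₀ B₀] [Algebra (IsLocalRing.ResidueField V) B₀]
    [IsScalarTower (IsLocalRing.ResidueField V) A₀ B₀] [Module.Finite A₀ B₀] [Algebra.Etale A₀ B₀] :
    ∃ (A : Type u) (_ : CommRing A) (_ : Algebra V A) (_ : Algebra.Smooth V A)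
      (e : (IsLocalRing.ResidueField V) ⊗[V] A ≃ₐ[IsLocalRing.ResidueField V] A₀)
      (B : Type u) (_ : CommRing B) (_ : Algebra A B) (_ : Algebra V B) (_ : IsScalarTower V A B)
      (e' : (IsLocalRing.ResidueField V) ⊗[V] B ≃ₐ[IsLocalRing.ResidueField V] B₀),
      Module.Finite A B ∧ EGA4.IsNormalRing B ∧
      (∀ x : (IsLocalRing.ResidueField V) ⊗[V] A,
        e' (Algebra.TensorProduct.map (AlgHom.id (IsLocalRing.ResidueField V) (IsLocalRing.ResidueField V))
          (IsScalarTower.toAlgHom V A B) x) = algebraMap A₀ B₀ (e x)) ∧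
      Algebra.Etale (Localization (MonoidHom.mker (Ideal.Quotient.mk ((IsLocalRing.maximalIdeal V).map (algebraMap V A)))))
        (Localization (Algebra.algebraMapSubmonoid B
          (MonoidHom.mker (Ideal.Quotient.mk ((IsLocalRing.maximalIdeal V).map (algebraMap V A)))))) := by
  letI : Algebra (V ⧸ IsLocalRing.maximalIdeal V) A₀ := ‹Algebra (IsLocalRing.ResidueField V) A₀›
  letI : Algebra (V ⧸ IsLocalRing.maximalIdeal V) B₀ := ‹Algebra (IsLocalRing.ResidueField V) B₀›
  haveI : Algebra.Smooth (V ⧸ IsLocalRing.maximalIdeal V) A₀ := ‹Algebra.Smooth (IsLocalRing.ResidueField V) A₀›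
  haveI : IsScalarTower (V ⧸ IsLocalRing.maximalIdeal V) A₀ B₀ := ‹IsScalarTower (IsLocalRing.ResidueField V) A₀ B₀›
  obtain ⟨A, iA, aA, hA, e, B, iB, aB, aVB, htow, e', hfin, hN, hc, het⟩ :=
    main V (IsLocalRing.maximalIdeal V) A₀ B₀
  letI := iA; letI := aA; letI := iB; letI := aB; letI := aVB
  refine ⟨A, iA, aA, hA, e, B, iB, aB, aVB, htow, e', hfin, hN, hc, ?_⟩
  haveI := het
  have hpo := Algebra.isPushout_of_isLocalization
    (MonoidHom.mker (Ideal.Quotient.mk ((IsLocalRing.maximalIdeal V).map (algebraMap V A))))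
    (Localization (MonoidHom.mker (Ideal.Quotient.mk ((IsLocalRing.maximalIdeal V).map (algebraMap V A))))) B
    (Localization (Algebra.algebraMapSubmonoid B
      (MonoidHom.mker (Ideal.Quotient.mk ((IsLocalRing.maximalIdeal V).map (algebraMap V A))))))
  haveI := hpo.symm
  exact Algebra.Etale.of_equiv (Algebra.IsPushout.equiv A
    (Localization (MonoidHom.mker (Ideal.Quotient.mk ((IsLocalRing.maximalIdeal V).map (algebraMap V A))))) B
    (Localization (Algebra.algebraMapSubmonoid B
      (MonoidHom.mker (Ideal.Quotient.mk ((IsLocalRing.maximalIdeal V).map (algebraMap V A)))))))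

end Groth.Agent.S19570
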