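import Groth.Statements.S19571
import Mathlib.AlgebraicGeometry.Morphisms.UniversallyOpen
import Mathlib.AlgebraicGeometry.AffineScheme

set_option autoImplicit false
universe u
open CategoryTheory AlgebraicGeometry
open EtaPt

namespace Groth.Agent.S19571

/-- Let f : Y → X be a morphism of schemes which is flat, surjective and locally of finite presentation.
Then every affine open U of X is covered by affine opens V each of which is the image f(W) of some
affine open W of Y; stated pointwise: for every x ∈ U there are an affine open V of X with x ∈ V ≤ U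
and an affine open W of Y with f(W) = V as sets. (For such V and W the induced ring map Γ(V) → Γ(W)
is then faithfully flat.) -/
theorem result
    {X Y : Scheme.{u}} (f : Y ⟶ X) [Flat f] [Surjective f] [LocallyOfFinitePresentation f]
    (U : X.affineOpens) (x : X) (hx : x ∈ (U : X.Opens)) :
    ∃ V : X.affineOpens, x ∈ (V : X.Opens) ∧ (V : X.Opens) ≤ (U : X.Opens) ∧
      ∃ W : Y.affineOpens, f.base '' ((W : Y.Opens) : Set Y) = ((V : X.Opens) : Set X) := by
    obtain ⟨y, rfl⟩ := f.surjective x
    obtain ⟨W₀, hW₀, hyW, hWU⟩ := TopologicalSpace.Opens.isBasis_iff_nbhd.1 Y.isBasis_affineOpens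
      (show y ∈ f ⁻¹ᵁ (U : X.Opens) from hx)
    let T : X.Opens := ⟨f.base '' (W₀ : Set Y), f.isOpenMap _ W₀.isOpen⟩
    obtain ⟨g, hgle, hgx⟩ := U.2.exists_basicOpen_le (V := T) ⟨f.base y, ⟨y, hyW, rfl⟩⟩ hx
    have hVU : X.basicOpen g ≤ (U : X.Opens) := X.basicOpen_le g
    refine ⟨⟨X.basicOpen g, U.2.basicOpen g⟩, hgx, hVU, ⟨Y.basicOpen (f.appLE U W₀ hWU g), hW₀.basicOpen _⟩, ?_⟩
    have heq : Y.basicOpen (f.appLE U W₀ hWU g) = W₀ ⊓ f ⁻¹ᵁ X.basicOpen g := by
      rw [Scheme.preimage_basicOpen]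
      exact (Scheme.basicOpen_res Y _ (homOfLE hWU).op)
    apply subset_antisymm
    · rintro _ ⟨w, hw, rfl⟩
      exact (heq.le hw).2
    · intro v hv
      obtain ⟨w, hw, rfl⟩ := hgle hv
      exact ⟨w, heq.ge ⟨hw, hv⟩, rfl⟩

end Groth.Agent.S19571
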