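import Groth.Statements.S19573
import Mathlib
import Groth.Prelude

set_option linter.all false

set_option autoImplicit false
universe u
open LocInt


namespace Groth.Agent.S19573

/-- The first sentence of the lemma together with the description of the closed subscheme Z given in its
proof, in the local model. Let R be a commutative ring, n ≥ 1, a ∈ R^n, and F = R^n / R·a the
cokernel of R → R^n, 1 ↦ a (the zeroth homology of the two-term complex R → R^n). Then the
annihilator ideal of the top exterior power ⋀^n F is the ideal generated by the coordinates a_1, …,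
a_n of a, and at every prime p of R off the closed set V(a_1, …, a_n) the module F is free of rank n
− 1 after localization at p. (The published statement is for a complex on a scheme which is locally
quasi-isomorphic to such a two-term complex L → E with L invertible and E locally free of rank n,
and says that H^0 restricted to the complement of the closed subscheme cut out by the annihilator of
its n-th exterior power is locally free of rank n − 1; this row is the local model.) -/
theorem result (R : Type u) [CommRing R]
    (n : ℕ) (hn : 1 ≤ n) (a : Fin n → R) :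
    (⋀[R]^n ((Fin n → R) ⧸ Submodule.span R {a})).annihilator = Ideal.span (Set.range a) ∧
    ∀ p : PrimeSpectrum R, ¬ Ideal.span (Set.range a) ≤ p.asIdeal →
      p ∈ Module.freeLocus R ((Fin n → R) ⧸ Submodule.span R {a}) ∧
      Module.rankAtStalk ((Fin n → R) ⧸ Submodule.span R {a}) p = n - 1 := by
  classical
  let Q := (Fin n → R) ⧸ Submodule.span R {a}
  let q : (Fin n → R) →ₗ[R] Q := Submodule.mkQ _
  let e : Fin n → Q := fun i => q (Pi.single i 1)
  have hqa : q a = 0 := (Submodule.Quotient.mk_eq_zero _).2 (Submodule.mem_span_singleton_self _)
  have hcomb : ∑ i, a i • e i = 0 := by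
    simp only [e, ← map_smul, ← map_sum, ← pi_eq_sum_univ', hqa]
  constructor
  · apply le_antisymm
    · intro r hr
      let I := Ideal.span (Set.range a)
      let ψ : Q →ₗ[R] (Fin n → R ⧸ I) := Submodule.liftQ _ (LinearMap.pi fun i => (Submodule.mkQ I).comp (LinearMap.proj i))
        ((Submodule.span_singleton_le_iff_mem _ _).2 (funext fun i => (Submodule.Quotient.mk_eq_zero _).2 (Ideal.subset_span ⟨i, rfl⟩)))
      let D : Q [⋀^Fin n]→ₗ[R] (R ⧸ I) :=
        { toFun := fun v => Matrix.det (Matrix.of fun i => ψ (v i))
          map_update_add' := fun v i x y => by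
            rename_i inst
            have : inst = instDecidableEqFin n := Subsingleton.elim _ _
            subst this
            have key : ∀ z, (Matrix.of fun l => ψ (Function.update v i z l)) = (Matrix.of fun l => ψ (v l)).updateRow i (ψ z) := fun z => by
              ext l c
              by_cases h : l = i
              · subst h; simp
              · simp [h]
            rw [key, key, key, map_add, Matrix.det_updateRow_add]
          map_update_smul' := fun v i c x => by
            rename_i inst
            have : inst = instDecidableEqFin n := Subsingleton.elim _ _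
            subst this
            have key : ∀ z, (Matrix.of fun l => ψ (Function.update v i z l)) = (Matrix.of fun l => ψ (v l)).updateRow i (ψ z) := fun z => by
              ext l c
              by_cases h : l = i
              · subst h; simp
              · simp [h]
            rw [key, key, map_smul, ← algebraMap_smul (R ⧸ I) c (ψ x), Matrix.det_updateRow_smul, ← algebraMap_smul (R ⧸ I) c (Matrix.det _),
              smul_eq_mul]
          map_eq_zero_of_eq' := fun v i j h hij => Matrix.det_zero_of_row_eq hij (by funext c; simp [h]) }
      have hD : D e = 1 := by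
        show Matrix.det (Matrix.of fun i => ψ (e i)) = 1
        rw [show (Matrix.of fun i => ψ (e i)) = (1 : Matrix (Fin n) (Fin n) (R ⧸ I)) by
          ext i l
          show Submodule.mkQ I ((Pi.single i 1 : Fin n → R) l) = _
          by_cases h : i = l
          · subst h; rw [Pi.single_eq_same, Matrix.one_apply_eq]; rfl
          · rw [Pi.single_eq_of_ne (Ne.symm h), Matrix.one_apply_ne h, map_zero], Matrix.det_one]
      have h0 : r • exteriorPower.ιMulti R n e = 0 := Module.mem_annihilator.1 hr _
      have := congrArg (exteriorPower.alternatingMapLinearEquiv D) h0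
      rw [map_smul, map_zero, exteriorPower.alternatingMapLinearEquiv_apply_ιMulti, hD] at this
      refine (Submodule.Quotient.mk_eq_zero I).1 ?_
      rw [← this]
      exact (show r • (1 : R ⧸ I) = Ideal.Quotient.mk I r by rw [Algebra.smul_def, mul_one]; rfl).symm
    · rw [Ideal.span_le]
      rintro _ ⟨i, rfl⟩
      rw [SetLike.mem_coe, Module.mem_annihilator]
      intro w
      obtain ⟨z, rfl⟩ := exteriorPower.map_surjective (n := n) (Submodule.mkQ_surjective (Submodule.span R {a})) w
      rw [← map_smul]
      have htop : Submodule.span R (Set.range (exteriorPower.ιMulti R n (M := Fin n → R))) = ⊤ := exteriorPower.ιMulti_span R n _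
      have hz : z ∈ Submodule.span R (Set.range (exteriorPower.ιMulti R n (M := Fin n → R))) := htop ▸ Submodule.mem_top
      induction hz using Submodule.span_induction with
      | zero => rw [smul_zero, map_zero]
      | add x y _ _ hx hy => rw [smul_add, map_add, hx, hy, add_zero]
      | smul c x _ hx => rw [smul_comm, map_smul, hx, smul_zero]
      | mem x hx =>
        obtain ⟨v, rfl⟩ := hx
        let A : (Fin n → R) [⋀^Fin n]→ₗ[R] ⋀[R]^n Q := (a i • exteriorPower.ιMulti R n (M := Q)).compLinearMap q
        suffices A = 0 by
          rw [map_smul, exteriorPower.map_apply_ιMulti]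
          exact congrArg (fun (A' : (Fin n → R) [⋀^Fin n]→ₗ[R] ⋀[R]^n Q) => A' v) this
        refine (Pi.basisFun R (Fin n)).ext_alternating fun s hs => ?_
        obtain ⟨i₀, hi₀⟩ := Finite.surjective_of_injective hs i
        let w := fun l => e (s l)
        show a i • exteriorPower.ιMulti R n (fun l => q (Pi.basisFun R (Fin n) (s l))) = 0
        simp only [Pi.basisFun_apply]
        have hei : a i • e i = -∑ l ∈ Finset.univ.erase i, a l • e l := by
          rw [eq_neg_iff_add_eq_zero, Finset.add_sum_erase _ (fun l => a l • e l) (Finset.mem_univ i), hcomb]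
        have hw : w i₀ = e i := by simp [w, hi₀]
        rw [show (fun l => q (Pi.single (s l) 1)) = Function.update w i₀ (e i) by rw [← hw, Function.update_eq_self],
          ← AlternatingMap.map_update_smul, hei, AlternatingMap.map_update_neg, AlternatingMap.map_update_sum, neg_eq_zero]
        refine Finset.sum_eq_zero fun l hl => ?_
        rw [AlternatingMap.map_update_smul]
        obtain ⟨m, hm⟩ := Finite.surjective_of_injective hs l
        have hmi : m ≠ i₀ := fun h => (Finset.mem_erase.1 hl).1 (by rw [← hm, h, hi₀])
        rw [AlternatingMap.map_eq_zero_of_eq _ _ (by rw [Function.update_self, Function.update_of_ne hmi]; simp [w, hm]) hmi.symm, smul_zero]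
  · intro p hp
    rw [Ideal.span_le, Set.not_subset] at hp
    obtain ⟨_, ⟨i, rfl⟩, hi⟩ := hp
    obtain ⟨N, rfl⟩ : ∃ N, n = N + 1 := ⟨n - 1, by omega⟩
    let Rp := Localization.AtPrime p.asIdeal
    let φ := algebraMap R Rp
    obtain ⟨ui, hui⟩ := IsLocalization.map_units Rp (⟨a i, hi⟩ : p.asIdeal.primeCompl)
    let ψ0 : (Fin (N + 1) → R) →ₗ[R] (Fin N → Rp) :=
      LinearMap.pi fun l => (Algebra.linearMap R Rp).comp (LinearMap.proj (i.succAbove l)) -
        LinearMap.comp (LinearMap.mulLeft R ((↑ui⁻¹ : Rp) * φ (a (i.succAbove l)))) ((Algebra.linearMap R Rp).comp (LinearMap.proj i))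
    have hψ0 : ∀ v l, ψ0 v l = φ (v (i.succAbove l)) - (↑ui⁻¹ : Rp) * φ (a (i.succAbove l)) * φ (v i) := fun v l => rfl
    let ψ : Q →ₗ[R] (Fin N → Rp) := Submodule.liftQ _ ψ0 ((Submodule.span_singleton_le_iff_mem _ _).2 (funext fun l => by
      rw [hψ0, show φ (a i) = ui from hui.symm, mul_right_comm, Units.inv_mul, one_mul, sub_self]; rfl))
    have hloc : IsLocalizedModule p.asIdeal.primeCompl ψ := by
      refine ⟨fun s => ?_, fun y => ?_, fun {x₁ x₂} h => ?_⟩
      · obtain ⟨us, hus⟩ := IsLocalization.map_units Rp s
        rw [Module.End.isUnit_iff]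
        constructor
        · intro x y hxy
          funext l
          have hl : (s : R) • x l = (s : R) • y l := congrFun hxy l
          rw [Algebra.smul_def, Algebra.smul_def, ← hus] at hl
          exact us.mul_right_inj.1 hl
        · intro y
          refine ⟨fun l => ↑us⁻¹ * y l, funext fun l => ?_⟩
          show (s : R) • ((↑us⁻¹ : Rp) * y l) = y l
          rw [Algebra.smul_def, ← hus, Units.mul_inv_cancel_left]
      · obtain ⟨s, hs⟩ := IsLocalization.exist_integer_multiples_of_finite p.asIdeal.primeCompl y
        choose z hz using hs
        refine ⟨⟨q (Fin.insertNth i 0 z), s⟩, funext fun l => ?_⟩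
        show (s : R) • y l = ψ0 (Fin.insertNth i 0 z) l
        rw [hψ0, Fin.insertNth_apply_succAbove, Fin.insertNth_apply_same, map_zero, mul_zero, sub_zero]
        exact (hz l).symm
      · obtain ⟨v₁, rfl⟩ := Submodule.mkQ_surjective _ x₁
        obtain ⟨v₂, rfl⟩ := Submodule.mkQ_surjective _ x₂
        let v := v₁ - v₂
        have hv : ∀ l, φ (a i * v (i.succAbove l) - a (i.succAbove l) * v i) = 0 := fun l => by
          have h' := congrFun h l
          change ψ0 v₁ l = ψ0 v₂ l at h'
          rw [hψ0, hψ0] at h'
          simp only [v, Pi.sub_apply, map_sub, map_mul, show φ (a i) = ui from hui.symm]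
          have hu := ui.mul_inv
          linear_combination (ui : Rp) * h' + φ (a (i.succAbove l)) * (φ (v₁ i) - φ (v₂ i)) * hu
        choose c hc using fun l => (IsLocalization.map_eq_zero_iff p.asIdeal.primeCompl Rp _).1 (hv l)
        let s : p.asIdeal.primeCompl := (∏ l, c l) * ⟨a i, hi⟩
        have hsv : (s : R) • v ∈ Submodule.span R {a} := by
          refine Submodule.mem_span_singleton.2 ⟨(∏ l, c l : p.asIdeal.primeCompl).1 * v i, funext fun l => ?_⟩
          show _ * v i * a l = ((∏ l, c l : p.asIdeal.primeCompl).1 * a i) * v l
          refine Fin.succAboveCases i ?_ (fun l => ?_) l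
          · ring
          · obtain ⟨d, hd⟩ := Finset.dvd_prod_of_mem c (Finset.mem_univ l)
            rw [hd, Submonoid.coe_mul]
            linear_combination -(d : R) * hc l
        refine ⟨s, ?_⟩
        show (s : R) • q v₁ = (s : R) • q v₂
        rw [← map_smul, ← map_smul, ← sub_eq_zero, ← map_sub, ← smul_sub]
        exact (Submodule.Quotient.mk_eq_zero _).2 hsv
    let E : LocalizedModule p.asIdeal.primeCompl Q ≃ₗ[Rp] (Fin N → Rp) :=
      LinearEquiv.extendScalarsOfIsLocalizationEquiv p.asIdeal.primeCompl Rp (IsLocalizedModule.iso p.asIdeal.primeCompl ψ)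
    refine ⟨Module.Free.of_equiv E.symm, ?_⟩
    show Module.finrank Rp _ = _
    rw [E.finrank_eq, Module.finrank_fin_fun]
    omega

end Groth.Agent.S19573
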