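import Groth.Statements.S19574
import Mathlib.RingTheory.Flat.Tensor
import Mathlib.LinearAlgebra.TensorProduct.Quotient
import Mathlib.Algebra.Homology.ShortComplex.ModuleCat

set_option autoImplicit false
universe u
open CategoryTheory MonoidalCategory
open Lie3Mod

namespace Groth.Agent.S19574

/-- Let R be a commutative ring and d ≥ 1. Let K be a chain complex of R-modules concentrated in degrees
0, …, d + 1, written … → 0 → P_{d+1} → P_d → … → P_1 → M with M = K_0, which is exact (so 0 →
P_{d+1} → … → P_1 → M → 0 is an exact sequence), such that P_1, …, P_d are flat R-modules and such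
that for every ideal I of R the complex obtained by applying (R/I) ⊗_R − termwise is again exact.
Then M is a flat R-module. (No flatness is assumed for P_{d+1}. The published lemma adds that for R
Noetherian it suffices to test prime ideals I; that refinement is not part of this statement.) -/
theorem result (R : Type u) [CommRing R]
    (d : ℕ) (hd : 1 ≤ d) (K : ChainComplex (ModuleCat.{u} R) ℕ)
    (hzero : ∀ i : ℕ, d + 1 < i → Limits.IsZero (K.X i))
    (hflat : ∀ i : ℕ, 1 ≤ i → i ≤ d → Module.Flat R (K.X i))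
    (hK : K.Acyclic)
    (hbc : ∀ I : Ideal R,
      (((tensorLeft (ModuleCat.of R (R ⧸ I))).mapHomologicalComplex (ComplexShape.down ℕ)).obj K).Acyclic) :
    Module.Flat R (K.X 0) := by
  rw [Module.Flat.iff_rTensor_injective']
  intro I
  have hexact : ∀ (C : ChainComplex (ModuleCat.{u} R) ℕ), C.Acyclic → ∀ n, ∀ x : C.X (n + 1),
      (C.d (n + 1) n).hom x = 0 → ∃ y, (C.d (n + 2) (n + 1)).hom y = x := by
    intro C hC n x hx
    exact (ShortComplex.moduleCat_exact_iff _).mp ((C.exactAt_iff' (n + 2) (n + 1) n (by simp) (by simp)).mp (hC (n + 1))) x hx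
  have hsurj : Function.Surjective (K.d 1 0).hom := fun x => by
    exact (ShortComplex.moduleCat_exact_iff _).mp ((K.exactAt_iff' 1 0 0 (by simp) (by simp)).mp (hK 0)) x (by simp; rfl)
  let mI : ∀ i, TensorProduct R ↥I (K.X i) →ₗ[R] K.X i := fun i =>
    (TensorProduct.lid R (K.X i)).toLinearMap ∘ₗ LinearMap.rTensor (K.X i) I.subtype
  have hnat : ∀ i j t, mI j ((K.d i j).hom.lTensor I t) = (K.d i j).hom (mI i t) := by
    intro i j t
    induction t using TensorProduct.induction_on with
    | zero => simp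
    | tmul a m => simp [mI]
    | add p q hp hq => simp only [map_add, hp, hq]
  have hrange : ∀ i (m : K.X i), m ∈ I • (⊤ : Submodule R (K.X i)) → ∃ t, mI i t = m := by
    intro i m hm
    refine Submodule.smul_induction_on hm (fun r hr x _ => ⟨⟨r, hr⟩ ⊗ₜ x, by simp [mI]⟩) ?_
    rintro _ _ ⟨s, rfl⟩ ⟨t, rfl⟩
    exact ⟨s + t, map_add _ _ _⟩
  have hmem : ∀ i t, mI i t ∈ I • (⊤ : Submodule R (K.X i)) := by
    intro i t
    induction t using TensorProduct.induction_on with
    | zero => simp
    | tmul a m => simpa [mI] using Submodule.smul_mem_smul a.2 Submodule.mem_top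
    | add p q hp hq => rw [map_add]; exact add_mem hp hq
  suffices h : ∀ x, mI 0 x = 0 → x = 0 by
    rw [← LinearMap.ker_eq_bot, Submodule.eq_bot_iff]
    intro x hx
    exact h x (by simp [mI, LinearMap.mem_ker.mp hx])
  intro x hx
  obtain ⟨y, rfl⟩ := LinearMap.lTensor_surjective I hsurj x
  rw [hnat] at hx
  obtain ⟨w, hw⟩ := hexact K hK 0 _ hx
  let T := ((tensorLeft (ModuleCat.of R (R ⧸ I))).mapHomologicalComplex (ComplexShape.down ℕ)).obj K
  have hw0 : (T.d 2 1).hom ((1 : R ⧸ I) ⊗ₜ[R] w : TensorProduct R (R ⧸ I) (K.X 2)) = 0 := by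
    change (1 : R ⧸ I) ⊗ₜ[R] (K.d 2 1).hom w = 0
    apply (TensorProduct.quotTensorEquivQuotSMul (K.X 1) I).injective
    rw [map_zero, TensorProduct.quotTensorEquivQuotSMul_mk_one_tmul, Submodule.Quotient.mk_eq_zero, hw]
    exact hmem 1 y
  obtain ⟨z, hz⟩ := hexact T (hbc I) 1 _ hw0
  obtain ⟨v, rfl⟩ : ∃ v, (1 : R ⧸ I) ⊗ₜ[R] v = z := by
    refine TensorProduct.induction_on (motive := fun z => ∃ v, (1 : R ⧸ I) ⊗ₜ[R] v = z) z ⟨0, TensorProduct.tmul_zero _ _⟩ ?_ ?_
    · intro a m
      obtain ⟨r, rfl⟩ := Ideal.Quotient.mk_surjective a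
      refine ⟨r • m, ?_⟩
      rw [TensorProduct.tmul_smul, TensorProduct.smul_tmul']
      congr 1
      rw [Algebra.smul_def, mul_one]; rfl
    · rintro _ _ ⟨s, rfl⟩ ⟨t, rfl⟩
      exact ⟨s + t, TensorProduct.tmul_add _ _ _⟩
  have hdiff : w - (K.d 3 2).hom v ∈ I • (⊤ : Submodule R (K.X 2)) := by
    have h0 : (1 : R ⧸ I) ⊗ₜ[R] (w - (K.d 3 2).hom v) = 0 := by
      rw [TensorProduct.tmul_sub, sub_eq_zero]
      exact hz.symm
    have := congrArg (TensorProduct.quotTensorEquivQuotSMul (K.X 2) I) h0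
    rwa [map_zero, TensorProduct.quotTensorEquivQuotSMul_mk_one_tmul, Submodule.Quotient.mk_eq_zero] at this
  obtain ⟨y', hy'⟩ := hrange 2 _ hdiff
  have hflat1 : Module.Flat R (K.X 1) := hflat 1 le_rfl hd
  have hinj : Function.Injective (mI 1) :=
    (TensorProduct.lid R (K.X 1)).injective.comp
      (Module.Flat.rTensor_preserves_injective_linearMap (M := K.X 1) I.subtype Subtype.val_injective)
  have hdd : ∀ (a b c : ℕ) (m : K.X a), (K.d b c).hom ((K.d a b).hom m) = 0 := fun a b c m => by
    rw [← LinearMap.comp_apply, ← ModuleCat.hom_comp, K.d_comp_d]; rfl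
  have hy : (K.d 2 1).hom.lTensor I y' = y := by
    apply hinj
    rw [hnat, hy', map_sub, hdd, sub_zero, hw]
  rw [← hy, ← LinearMap.comp_apply, ← LinearMap.lTensor_comp, ← ModuleCat.hom_comp, K.d_comp_d]
  simp

end Groth.Agent.S19574
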