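import Groth.Statements.S19575
import Groth.Agent.EtaLib.Away

set_option autoImplicit false
universe u
open EtaPt

namespace Groth.Agent.S19575

/-- Let η be the field-endofunctor datum of the pointwise construction, A a commutative ring with
finitely many minimal prime ideals and φ : A → B a ring map inducing a surjection on prime spectra.
If the canonical map A → (B/A)_η (the corestriction of φ onto the subring of B of elements whose
image in ∏_q F(k(q)) comes from M_η(A)) is bijective, then for every f ∈ A the canonical map A_f →
(B_f/A_f)_η attached to the localized map A_f → B_{φ(f)} is bijective as well. -/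
theorem result (η : EtaPt.FieldEndo.{u}) {A B : Type u} [CommRing A] [CommRing B]
    (hA : (minimalPrimes A).Finite) (φ : A →+* B) (hs : Function.Surjective (PrimeSpectrum.comap φ))
    (h : Function.Bijective (η.qRel φ)) (f : A) :
    Function.Bijective (η.qRel (Localization.awayMap φ f)) := by
    rw [Groth.Agent.EtaLib.qRel_bijective_iff] at h ⊢
    refine ⟨Localization.awayMap_injective_iff.2 fun a ha => ⟨0, by rw [pow_zero, one_mul]; exact h.1 (ha.trans (map_zero φ).symm)⟩, ?_⟩
    intro y hy
    obtain ⟨x, hx, n, hn⟩ := (Groth.Agent.EtaLib.rel_away η f hA φ).2 y hy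
    obtain ⟨a, rfl⟩ := h.2 x hx
    refine ⟨IsLocalization.mk' (Localization.Away f) a (⟨f ^ n, n, rfl⟩ : Submonoid.powers f), ?_⟩
    refine ((IsLocalization.Away.algebraMap_isUnit (S := Localization.Away (φ f)) (φ f)).pow n).mul_right_cancel ?_
    rw [hn, ← map_pow, ← map_pow]
    have hc : (Localization.awayMap φ f).comp (algebraMap A (Localization.Away f)) = (algebraMap B (Localization.Away (φ f))).comp φ :=
      IsLocalization.map_comp _
    simp only [← RingHom.comp_apply, ← hc]
    simp only [RingHom.comp_apply, ← map_mul]
    exact congrArg _ (IsLocalization.mk'_spec (Localization.Away f) a (⟨f ^ n, n, rfl⟩ : Submonoid.powers f))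

end Groth.Agent.S19575
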