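import Groth.Statements.S19576
import Groth.Agent.EtaLib.Away

set_option autoImplicit false
universe u
open EtaPt

namespace Groth.Agent.S19576

/-- Let η be the field-endofunctor datum of the pointwise construction, A a commutative ring with
finitely many minimal prime ideals and φ : A → B a ring map inducing a surjection on prime spectra.
If finitely many elements f_1, …, f_n of A generate the unit ideal and, for each i, the canonical
map A_{f_i} → (B_{f_i}/A_{f_i})_η attached to the localized map A_{f_i} → B_{φ(f_i)} is bijective,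
then the canonical map A → (B/A)_η is bijective. -/
theorem result (η : EtaPt.FieldEndo.{u}) {A B : Type u} [CommRing A] [CommRing B]
    (hA : (minimalPrimes A).Finite) (φ : A →+* B) (hs : Function.Surjective (PrimeSpectrum.comap φ))
    (s : Finset A) (hspan : Ideal.span (s : Set A) = ⊤)
    (h : ∀ f ∈ s, Function.Bijective (η.qRel (Localization.awayMap φ f))) :
    Function.Bijective (η.qRel φ) := by
    rw [Groth.Agent.EtaLib.qRel_bijective_iff]
    have h' := fun f hf => Groth.Agent.EtaLib.qRel_bijective_iff.1 (h f hf)
    have hc : ∀ f, ∀ a, Localization.awayMap φ f (algebraMap A (Localization.Away f) a) =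
        algebraMap B (Localization.Away (φ f)) (φ a) := fun f a => IsLocalization.map_eq _ a
    -- an ideal of `A` containing a power of each `f ∈ s` is the unit ideal
    have top : ∀ I : Ideal A, (∀ f ∈ s, ∃ n : ℕ, f ^ n ∈ I) → (1 : A) ∈ I := fun I hI => by
      rw [← Ideal.eq_top_iff_one, ← Ideal.radical_eq_top, eq_top_iff, ← hspan, Ideal.span_le]
      exact fun f hf => hI f hf
    refine ⟨(injective_iff_map_eq_zero _).2 fun a ha => ?_, fun b hb => ?_⟩
    · have h1 : (1 : A) ∈ LinearMap.ker (LinearMap.mulRight A a) := top _ fun f hf => by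
        obtain ⟨n, hn⟩ := Localization.awayMap_injective_iff.1 (h' f hf).1 a ha
        exact ⟨n, hn⟩
      simpa using h1
    · let I : Ideal A :=
        { carrier := {a | ∃ a', φ a' = φ a * b}
          add_mem' := by
            rintro x y ⟨a, ha⟩ ⟨a', ha'⟩
            exact ⟨a + a', by rw [map_add, ha, ha', map_add, add_mul]⟩
          zero_mem' := ⟨0, by rw [map_zero, zero_mul]⟩
          smul_mem' := by
            rintro c x ⟨a, ha⟩
            exact ⟨c * a, by rw [smul_eq_mul, map_mul, map_mul, ha, mul_assoc]⟩ }
      have h1 : (1 : A) ∈ I := top _ fun f hf => by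
        obtain ⟨z, hz⟩ := (h' f hf).2 _ ((Groth.Agent.EtaLib.rel_away η f hA φ).1 ⟨b, hb, rfl⟩)
        obtain ⟨a, ⟨_, n, rfl⟩, rfl⟩ := IsLocalization.exists_mk'_eq (Submonoid.powers f) z
        have h2 : algebraMap B (Localization.Away (φ f)) (φ a) = algebraMap B _ (b * φ f ^ n) := by
          rw [map_mul, ← hc, ← hz, ← map_pow, ← hc, ← map_mul, IsLocalization.mk'_spec]
        obtain ⟨⟨_, m, rfl⟩, hm⟩ := (IsLocalization.eq_iff_exists (Submonoid.powers (φ f)) _).1 h2
        refine ⟨m + n, f ^ m * a, ?_⟩
        change φ (f ^ m * a) = φ (f ^ (m + n)) * b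
        rw [map_mul, map_pow, map_pow, hm, pow_add]
        ring
      obtain ⟨a, ha⟩ := h1
      exact ⟨a, by simpa using ha⟩

end Groth.Agent.S19576
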