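import Groth.Statements.S19577
import Groth.Agent.EtaLib.Lift

set_option autoImplicit false
universe u
open EtaPt

namespace Groth.Agent.S19577

/-- Let f : A → B be a homomorphism of commutative rings, each with only finitely many minimal primes.
Then M_η(f) : M_η(A) → M_η(B) is integral exactly when f is integral, and Spec M_η(f) is surjective
exactly when Spec f is. Here η is the field-endofunctor datum of the pointwise construction, M_η(A)
⊆ ∏_p F(k(p)) the subring attached to A with q_A : A → M_η(A), and M_η(f) : M_η(A) → M_η(B) the ring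
map induced by N_η(f), pinned here as the ring map g compatible with N_η(f) under the two subring
inclusions. -/
theorem result (η : EtaPt.FieldEndo.{u}) {A B : Type u} [CommRing A] [CommRing B]
    (hA : (minimalPrimes A).Finite) (hB : (minimalPrimes B).Finite) (f : A →+* B)
    (g : η.M A →+* η.M B) (hg : ∀ x : η.M A, ((g x : η.M B) : η.N B) = η.Nmap f (x : η.N A)) :
    (f.IsIntegral ↔ g.IsIntegral) ∧
      (Function.Surjective (PrimeSpectrum.comap f) ↔ Function.Surjective (PrimeSpectrum.comap g)) := by
    have hc : g.comp (η.q A) = (η.q B).comp f :=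
      RingHom.ext fun a => Subtype.ext ((hg _).trans (Groth.Agent.EtaLib.Nmap_t η f a))
    refine ⟨⟨fun hf => ?_, fun hgi b => ?_⟩, ?_⟩
    · exact RingHom.IsIntegral.tower_top (η.q A) g
        (hc ▸ RingHom.IsIntegral.trans _ _ hf (Groth.Agent.EtaLib.q_isIntegral η hB))
    · obtain ⟨P, hP, hev⟩ := (hc ▸ RingHom.IsIntegral.trans _ _ (Groth.Agent.EtaLib.q_isIntegral η hA) hgi :
        ((η.q B).comp f).IsIntegral) (η.q B b)
      rw [← Polynomial.hom_eval₂] at hev
      obtain ⟨n, hn⟩ := (Groth.Agent.EtaLib.t_eq_zero_iff η _).1 (congrArg Subtype.val hev)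
      exact ⟨P ^ n, hP.pow n, by rw [Polynomial.eval₂_pow, hn]⟩
    · have h1 : PrimeSpectrum.comap (η.q A) ∘ PrimeSpectrum.comap g =
          PrimeSpectrum.comap f ∘ PrimeSpectrum.comap (η.q B) := by
        rw [← PrimeSpectrum.comap_comp, ← PrimeSpectrum.comap_comp, hc]
      constructor
      · intro h
        have h2 := h.comp (Groth.Agent.EtaLib.comap_q_bijective η hB).2
        rw [← h1] at h2
        intro P
        obtain ⟨Q, hQ⟩ := h2 (PrimeSpectrum.comap (η.q A) P)
        exact ⟨Q, (Groth.Agent.EtaLib.comap_q_bijective η hA).1 hQ⟩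
      · intro h
        have h2 := (Groth.Agent.EtaLib.comap_q_bijective η hA).2.comp h
        rw [h1] at h2
        exact h2.of_comp

end Groth.Agent.S19577
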