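import Groth.Statements.S19579
import Groth.Agent.AbVarLib.CubeParameter
import Groth.Agent.AbCubeLib.FiniteProduct
import Groth.Agent.CubeLib.FibrewiseTriv

set_option autoImplicit false
set_option linter.style.haveILetI false
set_option backward.isDefEq.respectTransparency.types false
universe u
open CategoryTheory CategoryTheory.Limits MonoidalCategory CartesianMonoidalCategory MonObj AlgebraicGeometry
open AbVar
open Groth.Agent.PicLib

namespace Groth.Agent.S19579

/-- The implication from triviality of the Mumford bundle on one fibre to its triviality relative to the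
base, with the identification of the descended bundle. Let X be an abelian variety over a field k
(proper, geometrically integral k-group scheme with multiplication m and unit e), T a connected
locally Noetherian k-scheme and L an invertible module on X ×_k T. On X ×_k X ×_k T let m_T, p_13,
p_23 be the maps to X ×_k T induced by m and by the two projections X × X → X, π the projection to
T, and e_T : T → X ×_k T the unit section. If there is a point t of T over whose fibre X × X × Spec
k(t) the modules m_T^*L and p_13^*L ⊗ p_23^*L become isomorphic (equivalently the Mumford bundle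
Λ(L) = m_T^*L ⊗ p_13^*L⁻¹ ⊗ p_23^*L⁻¹ is trivial on one fibre), then m_T^*L ⊗ π^*(e_T^*L) and
p_13^*L ⊗ p_23^*L are isomorphic on all of X × X × T, i.e. Λ(L) ≅ π^*N with N = e_T^*L⁻¹ (existence
of an isomorphism). -/
theorem result (k : Type u) [Field k]
    (X T : Over (Spec (CommRingCat.of k)))
    [GrpObj X] [IsProper X.hom] [GeometricallyIntegral X.hom]
    [IsLocallyNoetherian T.left] [ConnectedSpace ↥T.left]
    (L : (X ⊗ T).left.Modules) (hL : PicF.IsInvertible L)
    (t : ↥T.left)
    (ht : Nonempty
      ((Scheme.Modules.pullback (pullback.fst (snd (X ⊗ X) T).left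
          (T.left.fromSpecResidueField t))).obj
          ((Scheme.Modules.pullback (μ[X] ▷ T).left).obj L) ≅
       (Scheme.Modules.pullback (pullback.fst (snd (X ⊗ X) T).left
          (T.left.fromSpecResidueField t))).obj
          (CohB1.tensorMod ((Scheme.Modules.pullback (fst X X ▷ T).left).obj L)
            ((Scheme.Modules.pullback (snd X X ▷ T).left).obj L)))) :
    Nonempty
      (CohB1.tensorMod ((Scheme.Modules.pullback (μ[X] ▷ T).left).obj L)
          ((Scheme.Modules.pullback (snd (X ⊗ X) T).left).obj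
            ((Scheme.Modules.pullback (CartesianMonoidalCategory.lift (toUnit T ≫ η[X]) (𝟙 T)).left).obj L)) ≅
        CohB1.tensorMod ((Scheme.Modules.pullback (fst X X ▷ T).left).obj L)
          ((Scheme.Modules.pullback (snd X X ▷ T).left).obj L)) := by
  haveI : GeometricallyIntegral (X ⊗ X).hom := Groth.Agent.AbCubeLib.geometricallyIntegral_tensor' X X
  obtain ⟨iso⟩ := ht
  let l := PicM.of hL
  let e : T ⟶ X ⊗ T := CartesianMonoidalCategory.lift (toUnit T ≫ η[X]) (𝟙 T)
  let A := PicM.pull (μ[X] ▷ T).left l * PicM.pull (snd (X ⊗ X) T).left (PicM.pull e.left l)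
  let B := PicM.pull (fst X X ▷ T).left l * PicM.pull (snd X X ▷ T).left l
  obtain ⟨B', hB⟩ := PicM.exists_mul_eq_one B
  have hone : toUnit T ≫ η[X] = (1 : T ⟶ X) := (Hom.one_def (X := T) (M := X)).symm
  have hμ : μ[X] = fst X X * snd X X := by rw [Hom.mul_def, lift_fst_snd, Category.id_comp]
  have haxis : ∀ (c : X ⊗ T ⟶ (X ⊗ X) ⊗ T),
      (c ≫ μ[X] ▷ T = 𝟙 _ ∧ c ≫ snd (X ⊗ X) T = snd X T ∧
        ((c ≫ fst X X ▷ T = snd X T ≫ e ∧ c ≫ snd X X ▷ T = 𝟙 _) ∨
          (c ≫ fst X X ▷ T = 𝟙 _ ∧ c ≫ snd X X ▷ T = snd X T ≫ e))) →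
      PicM.pull c.left (A * B') = 1 := by
    rintro c ⟨h1, h2, h34⟩
    have hA : PicM.pull c.left A = PicM.pull c.left B := by
      simp only [A, B, map_mul, PicM.pull_pull, ← Over.comp_left]
      rw [h1, reassoc_of% h2]
      rcases h34 with ⟨h3, h4⟩ | ⟨h3, h4⟩ <;> rw [h3, h4]
      · exact mul_comm _ _
    rw [map_mul, hA, ← map_mul, hB, map_one]
  have hx := haxis (CartesianMonoidalCategory.lift (CartesianMonoidalCategory.lift (toUnit (X ⊗ T) ≫ η[X]) (fst X T)) (snd X T)) (by
    refine ⟨?_, ?_, Or.inl ⟨?_, ?_⟩⟩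
    · ext1
      · simp [hμ, MonObj.comp_mul, ← Hom.one_def]
      · simp
    · simp
    · ext1 <;> simp [e]
    · ext1 <;> simp)
  have hy := haxis (CartesianMonoidalCategory.lift (CartesianMonoidalCategory.lift (fst X T) (toUnit (X ⊗ T) ≫ η[X])) (snd X T)) (by
    refine ⟨?_, ?_, Or.inr ⟨?_, ?_⟩⟩
    · ext1
      · simp [hμ, MonObj.comp_mul, ← Hom.one_def]
      · simp
    · simp
    · ext1 <;> simp
    · ext1 <;> simp [e])
  let g := Groth.Agent.AbVarLib.paramProj X X T
  have hfib : PicM.pull (g.fiberι t) (A * B') = 1 := by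
    have h1 : PicM.pull (g.fiberι t) (PicM.pull (μ[X] ▷ T).left l) = PicM.pull (g.fiberι t) B := by
      simp only [B, l, PicM.pull_of, PicM.of_mul]
      exact (PicM.of_eq_iff _ _).2 ⟨iso⟩
    rw [map_mul, map_mul, h1, Groth.Agent.CubeLib.fibre_eq_one_of_pull, _root_.mul_one, ← map_mul, hB, map_one]
  have h := Groth.Agent.AbVarLib.eq_one_of_axes_of_fibre η[X] η[X] (A * B') hx hy t hfib
  have hAB : A = B := by
    have h' := congrArg (· * B) h
    simp only [_root_.one_mul] at h'
    rwa [_root_.mul_assoc, _root_.mul_comm B' B, hB, _root_.mul_one] at h'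
  simp only [A, B, l, e, PicM.pull_of, PicM.of_mul] at hAB
  exact (PicM.of_eq_iff _ _).1 hAB

end Groth.Agent.S19579
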