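import Groth.Statements.S19581
import Groth.Agent.AbDualLib.DegreeDual
-- import your own Groth.Agent.* helpers here

set_option autoImplicit false
set_option linter.style.haveILetI false
set_option backward.isDefEq.respectTransparency.types false
universe u
open CategoryTheory CategoryTheory.Limits MonoidalCategory CartesianMonoidalCategory MonObj GrpObj AlgebraicGeometry
open AbDual

namespace Groth.Agent.S19581

open CategoryTheory CategoryTheory.Limits MonObj AlgebraicGeometry in
open Groth.Agent in
/-- Let X and Y be abelian varieties over a field k (proper, smooth, geometrically connected commutative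
k-group schemes) with dual abelian varieties X^t, Y^t presented through φ_X, φ_Y for the fppf
topology, and let f : X → Y be an isogeny, i.e. a surjective homomorphism with finite kernel; let
the kernel be Spec A for a finite-dimensional commutative and cocommutative Hopf algebra A, embedded
in X by a homomorphism i whose square against the unit section of Y is cartesian. Let f^t : Y^t →
X^t be the transpose homomorphism and let Spec B, for a finite-dimensional commutative Hopf algebra
B, be its kernel through a homomorphism j. Then B is isomorphic, as a bialgebra over k, to the dual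
Hopf algebra Hom_k(A, k) of A; that is, Ker(f^t) is isomorphic to the Cartier dual of Ker(f). (The
published statement gives a canonical isomorphism; only the existence of an isomorphism is stated
here. That f^t is again an isogeny is a separate statement.) -/
theorem result (k : Type u) [Field k]
    (X Y Xt Yt : Over (Spec (CommRingCat.of k))) [GrpObj X] [IsCommMonObj X] [GrpObj Y] [IsCommMonObj Y]
    [GrpObj Xt] [IsCommMonObj Xt] [GrpObj Yt] [IsCommMonObj Yt]
    [IsProper X.hom] [Smooth X.hom] [GeometricallyConnected X.hom] [IsProper Y.hom] [Smooth Y.hom] [GeometricallyConnected Y.hom]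
    [IsProper Xt.hom] [Smooth Xt.hom] [GeometricallyConnected Xt.hom] [IsProper Yt.hom] [Smooth Yt.hom] [GeometricallyConnected Yt.hom]
    (φX : ∀ T : Over (Spec (CommRingCat.of k)), PicF.Cl (PicF.XT X.hom T) → (T ⟶ Xt))
    (φY : ∀ T : Over (Spec (CommRingCat.of k)), PicF.Cl (PicF.XT Y.hom T) → (T ⟶ Yt))
    (hX : AbDual.IsDualAV Scheme.fppfPrecoverage X Xt φX) (hY : AbDual.IsDualAV Scheme.fppfPrecoverage Y Yt φY)
    (f : X ⟶ Y) [IsMonHom f] [Surjective f.left]
    (A : Type u) [CommRing A] [HopfAlgebra k A] [Coalgebra.IsCocomm k A] [FiniteDimensional k A]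
    (i : CoactBr.sp k A ⟶ X) [IsMonHom i] (hA : AlgGrp.IsKernel i f)
    (ft : Yt ⟶ Xt) [IsMonHom ft] (hft : AbDual.IsTranspose f φX φY ft)
    (B : Type u) [CommRing B] [HopfAlgebra k B] [FiniteDimensional k B]
    (j : CoactBr.sp k B ⟶ Yt) [IsMonHom j] (hB : AlgGrp.IsKernel j ft) :
    Nonempty (B ≃ₐc[k] CartDual.D k A) := by
  haveI : IsFinite (CoactBr.sp k A).hom := (IsFinite.SpecMap_iff _).2 (RingHom.finite_algebraMap.2 inferInstance)
  haveI := AbVarLib.geometricallyIntegral_of_smooth X.hom
  haveI := AbVarLib.geometricallyIntegral_of_smooth Y.hom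
  haveI : IsFinite f.left := by
    refine AbDualLib.isFinite_of_finite_preimage_unit f fun s => ?_
    have hsq := hA.map (Over.forget (Spec (CommRingCat.of k)))
    refine (((CoactBr.sp k A).hom.finite_preimage_singleton s).image i.left).subset fun y hy => ?_
    obtain ⟨z, hz, -⟩ := Scheme.Pullback.exists_preimage_pullback (f := f.left) (g := η[Y].left) y s hy
    refine ⟨hsq.isoPullback.inv z, Subsingleton.elim (α := PrimeSpectrum k) _ _, ?_⟩
    show (hsq.isoPullback.inv ≫ i.left) z = y
    rw [show hsq.isoPullback.inv ≫ i.left = pullback.fst f.left η[Y].left from hsq.isoPullback_inv_fst]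
    exact hz
  haveI : Flat f.left := AbVarLib.flat_of_surjective f
  obtain ⟨h1, h2, -⟩ := AbDualLib.isogeny_transpose hX hY hft
  haveI := h1
  haveI := h2
  obtain ⟨Φ, hΦ⟩ := AbDualLib.exists_surjective_bialgHom hX hY f i hA hft j hB
  have hr : Module.finrank k B = Module.finrank k (CartDual.D k A) := by
    rw [AbDualLib.finrank_kernel ft hB, AbDualLib.finrank_transpose_eq hX hY hft, ← AbDualLib.finrank_kernel f hA,
      (CartDual.toDual k A).finrank_eq, Subspace.dual_finrank_eq]
  have hbij : Function.Bijective Φ :=
    ⟨(LinearMap.injective_iff_surjective_of_finrank_eq_finrank (f := (Φ : CartDual.D k A →ₗ[k] B)) hr.symm).2 hΦ, hΦ⟩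
  exact ⟨(BialgEquiv.ofBijective Φ hbij).symm⟩

end Groth.Agent.S19581
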