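import Groth.Statements.S19582
import Groth.Agent.FlatMor12.FlatEquidim
import Groth.Agent.Desc19b.FlatClosure
-- import your own Groth.Agent.* helpers here

set_option autoImplicit false
set_option backward.isDefEq.respectTransparency false
set_option backward.isDefEq.respectTransparency.types false
universe u
open Cyc

namespace Groth.Agent.S19582

open CategoryTheory CategoryTheory.Limits AlgebraicGeometry in
/-- Let S be a separated Noetherian scheme, p : X → S separated of finite type, z a point of X lying
over a generic point of an irreducible component of S whose closure in its fibre p⁻¹(p z) has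
dimension r, and ι : Z → X a closed immersion from a reduced scheme with image the closure of z. Let
R be a discrete valuation ring with fraction field K and x : Spec R → S a morphism sending the
generic point of Spec R to a generic point of an irreducible component of S, and let q : φ → Spec R
be the flat closure φ = φ_x(Z) of Z along x, i.e. the scheme-theoretic image of Z ×_S Spec K in Z
×_S Spec R, with its projection to Spec R. Then q is universally equidimensional of dimension r: for
every scheme S' and every S' → Spec R, the base change φ ×_R S' → S' has local fibre dimension r at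
every point (the dimension at w of the fibre through w is r) and every irreducible component of φ
×_R S' dominates an irreducible component of S'. -/
theorem result {X S Z : Scheme.{u}} [IsNoetherian S] [S.IsSeparated] [X.IsSeparated]
    (p : X ⟶ S) [LocallyOfFiniteType p] [QuasiCompact p] (z : X) (hz : closure {p.base z} ∈ irreducibleComponents ↥S)
    (r : ℕ) (hr : topologicalKrullDim ↥(closure ({p.asFiber z} : Set ↥(p.fiber (p.base z)))) = r)
    (ι : Z ⟶ X) [IsClosedImmersion ι] [IsReduced Z] (hZ : Set.range ι.base = closure {z})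
    (R : Type u) [CommRing R] [IsDomain R] [IsDiscreteValuationRing R] (x : Spec (CommRingCat.of R) ⟶ S)
    (hx : closure {x.base ⟨⊥, Ideal.isPrime_bot⟩} ∈ irreducibleComponents ↥S)
    (q : (pullback.map (ι ≫ p) (Spec.map (CommRingCat.ofHom (algebraMap R (FractionRing R))) ≫ x) (ι ≫ p) x (𝟙 Z) (Spec.map (CommRingCat.ofHom (algebraMap R (FractionRing R)))) (𝟙 S) ((Category.comp_id _).trans (Category.id_comp _).symm) (Category.comp_id _)).ker.subscheme ⟶ Spec (CommRingCat.of R))
    (hq : q = (pullback.map (ι ≫ p) (Spec.map (CommRingCat.ofHom (algebraMap R (FractionRing R))) ≫ x) (ι ≫ p) x (𝟙 Z) (Spec.map (CommRingCat.ofHom (algebraMap R (FractionRing R)))) (𝟙 S) ((Category.comp_id _).trans (Category.id_comp _).symm) (Category.comp_id _)).ker.subschemeι ≫ pullback.snd (ι ≫ p) x)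
    (S' : Scheme.{u}) (g : S' ⟶ Spec (CommRingCat.of R)) :
    (∀ w : ↥(pullback q g), FlatMor.fibreDimAt (pullback.snd q g) w = r) ∧
      ∀ C ∈ irreducibleComponents ↥(pullback q g),
        closure ((pullback.snd q g).base '' C) ∈ irreducibleComponents ↥S' := by
  subst hq
  obtain ⟨z₀, hz₀⟩ : z ∈ Set.range ι.base := hZ ▸ subset_closure (Set.mem_singleton z)
  have hgen : ∀ t : Z, z₀ ⤳ t := fun t => ι.isEmbedding.isInducing.specializes_iff.1
    (hz₀ ▸ specializes_iff_mem_closure.2 (hZ ▸ Set.mem_range_self t))
  let j := Spec.map (CommRingCat.ofHom (algebraMap R (FractionRing R)))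
  let M := pullback.map (ι ≫ p) (j ≫ x) (ι ≫ p) x (𝟙 Z) j (𝟙 S) ((Category.comp_id _).trans (Category.id_comp _).symm) (Category.comp_id _)
  have hM : M ≫ pullback.snd (ι ≫ p) x = pullback.snd (ι ≫ p) (j ≫ x) ≫ j := by simp [M]
  have sq : IsPullback M (pullback.snd (ι ≫ p) (j ≫ x)) (pullback.snd (ι ≫ p) x) j := by
    refine IsPullback.of_right ?_ hM (IsPullback.of_hasPullback (ι ≫ p) x)
    simpa [M] using IsPullback.of_hasPullback (ι ≫ p) (j ≫ x)
  haveI : IsSeparated (ι ≫ p) := inferInstance
  haveI : QuasiCompact (M ≫ pullback.snd (ι ≫ p) x) := by rw [hM]; infer_instance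
  haveI : QuasiCompact M := QuasiCompact.of_comp M (pullback.snd (ι ≫ p) x)
  haveI : Flat j := by
    rw [Flat.SpecMap_iff]
    exact (RingHom.flat_algebraMap_iff).2 (IsLocalization.flat (FractionRing R) (nonZeroDivisors R))
  haveI : Flat (pullback.snd (ι ≫ p) (j ≫ x)) := inferInstance
  haveI : Flat (M ≫ pullback.snd (ι ≫ p) x) := by rw [hM]; infer_instance
  have hP : ∀ y : ↥(Spec (CommRingCat.of R)), IsPrincipalIdealRing ((Spec (CommRingCat.of R)).presheaf.stalk y) := fun y => by
    show IsPrincipalIdealRing ((Spec.structureSheaf R).presheaf.stalk y)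
    let φ := algebraMap R ((Spec.structureSheaf R).presheaf.stalk y)
    refine ⟨fun J => ⟨φ (Submodule.IsPrincipal.generator (J.under R)), ?_⟩⟩
    conv_lhs => rw [← IsLocalization.map_comap y.asIdeal.primeCompl _ J,
      ← Ideal.span_singleton_generator (J.under R), Ideal.map_span, Set.image_singleton]
  haveI : Flat (M.ker.subschemeι ≫ pullback.snd (ι ≫ p) x) := Groth.Agent.Desc19b.flat_imageι hP M _
  refine Groth.Agent.FlatMor12.flat_univ_equidim _ r (fun ξ hξ => ?_) g
  have h1 : Groth.Agent.FlatMorWeight.IsMaximalPt ((M.ker.subschemeι ≫ pullback.snd (ι ≫ p) x) ξ) :=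
    Groth.Agent.FlatMorWeight.IsMaximalPt.map_flat _ hξ
  let η : Spec (CommRingCat.of R) := (⟨⊥, Ideal.isPrime_bot⟩ : PrimeSpectrum R)
  have hη : (M.ker.subschemeι ≫ pullback.snd (ι ≫ p) x) ξ = η :=
    (h1 η ((PrimeSpectrum.le_iff_specializes η _).1 (bot_le : (⊥ : Ideal R) ≤ _))).symm
  have hxη : Groth.Agent.FlatMorWeight.IsMaximalPt (x η) := fun w hw =>
    (((Groth.Agent.DimLib.mem_components_iff (x η)).1 hx w hw).antisymm hw).eq.symm
  rw [Groth.Agent.FlatMor12.trdAt_eq_of_over_maximal (ι ≫ p) x M.ker.subschemeι z₀ hgen hξ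
    (hη ▸ hxη) fun w hw => ?_]
  · exact Groth.Agent.FlatMor12.trdAt_genericPoint_eq p z r hr ι z₀ hz₀
  rw [Scheme.IdealSheafData.range_subschemeι, Scheme.Hom.support_ker]
  refine subset_closure ?_
  let η' : Spec (CommRingCat.of (FractionRing R)) := (⟨⊥, Ideal.isPrime_bot⟩ : PrimeSpectrum (FractionRing R))
  have hj : j η' = η := PrimeSpectrum.ext (Ideal.comap_bot_of_injective _ (IsFractionRing.injective R (FractionRing R)))
  obtain ⟨a, ha, -⟩ := Scheme.exists_preimage_of_isPullback sq w η' (by rw [hw, hη, hj])
  exact ⟨a, ha⟩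

end Groth.Agent.S19582
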