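import Groth.Statements.S19583
import Groth.Agent.FlatMorAdm.Strict
import Groth.Agent.FlatMorAdm.ExtendLocFree
-- import your own Groth.Agent.* helpers here

set_option autoImplicit false
set_option backward.isDefEq.respectTransparency false
set_option backward.isDefEq.respectTransparency.types false
universe u
open Cyc

namespace Groth.Agent.S19583

open CategoryTheory CategoryTheory.Limits AlgebraicGeometry in
lemma isEffCartierIdeal_of_pid {R : Type u} [CommRing R] [IsDomain R] [IsPrincipalIdealRing R]
    (I : (Spec (CommRingCat.of R)).IdealSheafData)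
    (h : (⟨⊥, Ideal.isPrime_bot⟩ : PrimeSpectrum R) ∉ (I.support : Set (Spec (CommRingCat.of R)))) :
    BlowUp.IsEffCartierIdeal I := by
  intro x
  let U : (Spec (CommRingCat.of R)).affineOpens := ⟨⊤, isAffineOpen_top _⟩
  let e : R ≃+* Γ(Spec (CommRingCat.of R), U.1) := (Scheme.ΓSpecIso (CommRingCat.of R)).symm.commRingCatIsoToRingEquiv
  haveI : IsDomain Γ(Spec (CommRingCat.of R), U.1) := e.symm.toMulEquiv.isDomain R
  haveI : IsPrincipalIdealRing Γ(Spec (CommRingCat.of R), U.1) :=
    IsPrincipalIdealRing.of_surjective (e : R →+* Γ(Spec (CommRingCat.of R), U.1)) e.surjective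
  obtain ⟨d, hd⟩ := (IsPrincipalIdealRing.principal (I.ideal U)).principal
  refine ⟨U, trivial, d, mem_nonZeroDivisors_of_ne_zero fun h0 => h ?_, hd⟩
  have hbot : I.ideal U = ⊥ := by
    rw [hd, h0, Submodule.span_zero_singleton]
  rw [SetLike.mem_coe, Scheme.IdealSheafData.mem_support_iff_of_mem (U := U) trivial, Scheme.mem_zeroLocus_iff, hbot]
  intro a ha hx
  obtain rfl : a = 0 := ha
  rw [Scheme.basicOpen_zero] at hx
  exact hx


open CategoryTheory CategoryTheory.Limits AlgebraicGeometry in
/-- Let S be a separated Noetherian scheme, p : X → S a morphism from a separated scheme X (no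
finiteness condition), ι : Z → X a closed immersion, and b : S' → S a blowing up of S in a
quasi-coherent ideal with support S₀ such that (1) b restricts to a bijection between the generic
points of the irreducible components of S' and of S and (2) the strict transform Z~ of Z — the
closed subscheme of Z ×_S S' whose ideal consists, on each affine open, of the functions annihilated
by a power of the pulled-back centre — is flat over S'. Let R be a discrete valuation ring with
fraction field K and f : Spec R → S a morphism sending the generic point of Spec R into S ∖ S₀. Then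
f factors uniquely through b, and for the factorisation f' : Spec R → S' the flat closure φ_f(Z) ⊆ Z
×_S Spec R (the scheme-theoretic image of Z ×_S Spec K) coincides with Spec R ×_{S'} Z~: its ideal
sheaf equals the inverse image of the ideal of Z~ under the map Z ×_S Spec R → Z ×_S S' induced by
f'. -/
theorem result {X S Z S' : Scheme.{u}} [IsNoetherian S] [S.IsSeparated] [X.IsSeparated]
    (p : X ⟶ S) (ι : Z ⟶ X) [IsClosedImmersion ι]
    (𝓘 : S.IdealSheafData) (b : S' ⟶ S) (hb : BlowUp.IsBlowUp b 𝓘)
    (hgen : Set.BijOn b.base {s' : ↥S' | closure {s'} ∈ irreducibleComponents ↥S'} {s : ↥S | closure {s} ∈ irreducibleComponents ↥S})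
    (𝒥 : (pullback (ι ≫ p) b).IdealSheafData)
    (h𝒥 : ∀ (V : (pullback (ι ≫ p) b).affineOpens) (a : Γ(pullback (ι ≫ p) b, V.1)), a ∈ 𝒥.ideal V ↔
      BlowUp.KilledByPowerNear ((𝓘.comap (ι ≫ p)).comap (pullback.fst (ι ≫ p) b)) (Coh.structureModule (pullback (ι ≫ p) b)) V a)
    [Flat (𝒥.subschemeι ≫ pullback.snd (ι ≫ p) b)]
    (R : Type u) [CommRing R] [IsDomain R] [IsDiscreteValuationRing R] (f : Spec (CommRingCat.of R) ⟶ S)
    (hf : f.base ⟨⊥, Ideal.isPrime_bot⟩ ∉ (𝓘.support : Set ↥S)) :
    (∃! f' : Spec (CommRingCat.of R) ⟶ S', f' ≫ b = f) ∧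
      ∀ (f' : Spec (CommRingCat.of R) ⟶ S') (hf' : f' ≫ b = f),
        (pullback.map (ι ≫ p) (Spec.map (CommRingCat.ofHom (algebraMap R (FractionRing R))) ≫ f) (ι ≫ p) f (𝟙 Z) (Spec.map (CommRingCat.ofHom (algebraMap R (FractionRing R)))) (𝟙 S) ((Category.comp_id _).trans (Category.id_comp _).symm) (Category.comp_id _)).ker = 𝒥.comap (pullback.map (ι ≫ p) f (ι ≫ p) b (𝟙 Z) f' (𝟙 S) ((Category.comp_id _).trans (Category.id_comp _).symm) ((Category.comp_id f).trans hf'.symm)) := by
  let η : Spec (CommRingCat.of R) := (⟨⊥, Ideal.isPrime_bot⟩ : PrimeSpectrum R)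
  refine ⟨hb.2 _ f (isEffCartierIdeal_of_pid _ fun h => hf ?_), fun f' hf' => ?_⟩
  · rw [Scheme.IdealSheafData.support_comap] at h
    exact h
  let q := ι ≫ p
  let j := Spec.map (CommRingCat.ofHom (algebraMap R (FractionRing R)))
  let M := pullback.map q (j ≫ f) q f (𝟙 Z) j (𝟙 S) ((Category.comp_id _).trans (Category.id_comp _).symm)
    (Category.comp_id _)
  let h := pullback.map q f q b (𝟙 Z) f' (𝟙 S) ((Category.comp_id _).trans (Category.id_comp _).symm)
    ((Category.comp_id f).trans hf'.symm)
  show M.ker = 𝒥.comap h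
  let C := 𝒥.comap h
  have hh : IsPullback h (pullback.snd q f) (pullback.snd q b) f' := by
    refine IsPullback.of_right ?_ (by simp [h]) (IsPullback.of_hasPullback q b)
    simpa [h, hf'] using IsPullback.of_hasPullback q f
  haveI : IsLocallyNoetherian S := inferInstance
  have hb' : BlowUp.IsFiniteTypeIdeal 𝓘 := Groth.Agent.FlatMorAdm.isFiniteTypeIdeal_of_noetherian 𝓘
  have hE : BlowUp.IsFiniteTypeIdeal ((𝓘.comap q).comap (pullback.fst q b)) :=
    Groth.Agent.FlatMorAdm.isFiniteType_comap _ _ (Groth.Agent.FlatMorAdm.isFiniteType_comap _ _ hb')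
  haveI : IsProper b := Groth.Agent.BlowUpLib.isProper_of_isBlowUp hb hb'
  haveI : IsLocallyNoetherian S' := LocallyOfFiniteType.isLocallyNoetherian b
  haveI : CompactSpace S' := QuasiCompact.compactSpace_of_compactSpace b
  haveI : IsNoetherian S' := ⟨⟩
  let E := (𝓘.comap q).comap (pullback.fst q b)
  have hint : pullback.snd q b ⁻¹ᵁ ModPair.interior (𝓘.comap b) = ModPair.interior E := by
    show _ = ModPair.interior ((𝓘.comap q).comap (pullback.fst q b))
    rw [← Groth.Agent.ModPairLib.interior_comap, ← Scheme.IdealSheafData.comap_comp,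
      ← Scheme.IdealSheafData.comap_comp, pullback.condition]
  haveI : QuasiCompact (ModPair.interior E).ι := by
    rw [← hint]
    haveI : CompactSpace (ModPair.interior (𝓘.comap b) : Scheme.{u}) :=
      isCompact_iff_compactSpace.1 (TopologicalSpace.NoetherianSpace.isCompact _)
    haveI : QuasiCompact (ModPair.interior (𝓘.comap b)).ι := quasiCompact_of_compactSpace _
    exact MorphismProperty.of_isPullback (P := @QuasiCompact.{u})
      (isPullback_morphismRestrict (pullback.snd q b) (ModPair.interior (𝓘.comap b))) ‹_›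
  have h𝒥eq : 𝒥 = (ModPair.interior E).ι.ker := Groth.Agent.FlatMorAdm.eq_ker_of_killedByPowerNear E 𝒥 hE h𝒥
  have hle : C ≤ M.ker := by
    rw [← Scheme.IdealSheafData.le_map_iff_comap_le, ← Scheme.Hom.ker_comp, h𝒥eq]
    have hr : Set.range (M ≫ h) ⊆ Set.range (ModPair.interior E).ι := by
      rw [Scheme.Opens.range_ι, ← hint]
      rintro _ ⟨w, rfl⟩
      show pullback.snd q b ((M ≫ h) w) ∈ ModPair.interior (𝓘.comap b)
      have e1 : (M ≫ h) ≫ pullback.snd q b = (pullback.snd q (j ≫ f) ≫ j) ≫ f' := by simp [M, h]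
      rw [← Scheme.Hom.comp_apply, e1, Scheme.Hom.comp_apply, Scheme.Hom.comp_apply]
      have e2 : j (pullback.snd q (j ≫ f) w) = η :=
        PrimeSpectrum.ext (by
          show Ideal.comap (algebraMap R (FractionRing R)) _ = ⊥
          rw [(pullback.snd q (j ≫ f) w).asIdeal.eq_bot_of_prime]
          exact Ideal.comap_bot_of_injective _ (IsFractionRing.injective R (FractionRing R)))
      rw [e2]
      show f' η ∉ ((𝓘.comap b).support : Set S')
      rw [Scheme.IdealSheafData.support_comap]
      intro hm
      apply hf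
      rw [← hf']
      exact hm
    rw [← IsOpenImmersion.lift_fac (ModPair.interior E).ι (M ≫ h) hr]
    exact Scheme.Hom.le_ker_comp _ _
  refine le_antisymm ?_ hle
  -- the closed subscheme is flat over `R`, so its generic fibre is dense
  let r := C.subschemeι ≫ pullback.snd q f
  haveI : Flat r := by
    let e := 𝒥.comapIso h
    have sq : IsPullback (pullback.snd h 𝒥.subschemeι) (pullback.fst h 𝒥.subschemeι ≫ pullback.snd q f)
        (𝒥.subschemeι ≫ pullback.snd q b) f' :=
      (IsPullback.of_hasPullback h 𝒥.subschemeι).flip.paste_vert hh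
    haveI : Flat (pullback.fst h 𝒥.subschemeι ≫ pullback.snd q f) := MorphismProperty.of_isPullback sq ‹_›
    have he : C.subschemeι = e.hom ≫ pullback.fst h 𝒥.subschemeι := (Scheme.IdealSheafData.comapIso_hom_fst 𝒥 h).symm
    show Flat (C.subschemeι ≫ pullback.snd q f)
    rw [he, Category.assoc]
    infer_instance
  haveI : IsDominant j := ⟨by
    refine (PrimeSpectrum.denseRange_comap_iff_ker_le_nilRadical _).2 ?_
    show RingHom.ker (algebraMap R (FractionRing R)) ≤ _
    rw [(RingHom.injective_iff_ker_eq_bot _).1 (IsFractionRing.injective R (FractionRing R))]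
    exact bot_le⟩
  haveI : IsSchemeTheoreticallyDominant j := IsSchemeTheoreticallyDominant.of_isDominant j
  let jQ := pullback.snd j r
  haveI : IsSchemeTheoreticallyDominant jQ := inferInstance
  let m : pullback j r ⟶ pullback q (j ≫ f) :=
    pullback.lift (jQ ≫ C.subschemeι ≫ pullback.fst q f) (pullback.fst j r)
      (by
        simp only [Category.assoc, jQ]
        rw [pullback.condition, pullback.condition_assoc]
        simp [r])
  have hm : m ≫ M = jQ ≫ C.subschemeι := by
    apply pullback.hom_ext
    · simp [m, M]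
    · simp [m, M, jQ, r, pullback.condition]
  calc M.ker ≤ (m ≫ M).ker := by
        refine le_trans ?_ le_rfl
        rw [Scheme.Hom.ker_comp]
        exact Scheme.IdealSheafData.map_bot M ▸ Scheme.IdealSheafData.map_mono M bot_le
    _ = (jQ ≫ C.subschemeι).ker := by rw [hm]
    _ = C := by
      rw [Scheme.Hom.ker_comp, jQ.ker_eq_bot, Scheme.IdealSheafData.map_bot, Scheme.IdealSheafData.ker_subschemeι]


end Groth.Agent.S19583
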