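import Groth.Statements.S19584
import Groth.Agent.FlatMor12.FlatEquidim
-- import your own Groth.Agent.* helpers here

set_option autoImplicit false
set_option backward.isDefEq.respectTransparency false
set_option backward.isDefEq.respectTransparency.types false
universe u
open Cyc

namespace Groth.Agent.S19584

open CategoryTheory CategoryTheory.Limits AlgebraicGeometry in
/-- Let S be a separated Noetherian scheme, p : X → S separated of finite type, z a point of X lying
over a generic point of an irreducible component of S whose closure in its fibre p⁻¹(p z) has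
dimension r, and ι : Z → X a closed immersion from a reduced scheme with image the closure of z. Let
b : S′ → S be a blowing up (S′ Noetherian) such that the strict transform Z~ of Z — the closed
subscheme of Z ×_S S′ whose ideal consists, on each affine open, of the functions annihilated by a
power of the pulled-back centre — is flat over S′. Then Z~ → S′ is universally equidimensional of
dimension r: after any base change S″ → S′ every point of Z~ ×_{S′} S″ has local fibre dimension r
and every irreducible component of Z~ ×_{S′} S″ dominates an irreducible component of S″. (The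
published lemma takes a blow-up of the reduced scheme S_red; this statement takes a blow-up of S
itself, to which the printed argument applies unchanged.) -/
theorem result {X S Z S' : Scheme.{u}} [IsNoetherian S] [S.IsSeparated] [X.IsSeparated]
    (p : X ⟶ S) [LocallyOfFiniteType p] [QuasiCompact p] (z : X) (hz : closure {p.base z} ∈ irreducibleComponents ↥S)
    (r : ℕ) (hr : topologicalKrullDim ↥(closure ({p.asFiber z} : Set ↥(p.fiber (p.base z)))) = r)
    (ι : Z ⟶ X) [IsClosedImmersion ι] [IsReduced Z] (hZ : Set.range ι.base = closure {z})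
    [IsNoetherian S'] (𝓘 : S.IdealSheafData) (b : S' ⟶ S) (hb : BlowUp.IsBlowUp b 𝓘)
    (𝒥 : (pullback (ι ≫ p) b).IdealSheafData)
    (h𝒥 : ∀ (V : (pullback (ι ≫ p) b).affineOpens) (a : Γ(pullback (ι ≫ p) b, V.1)), a ∈ 𝒥.ideal V ↔
      BlowUp.KilledByPowerNear ((𝓘.comap (ι ≫ p)).comap (pullback.fst (ι ≫ p) b)) (Coh.structureModule (pullback (ι ≫ p) b)) V a)
    [Flat (𝒥.subschemeι ≫ pullback.snd (ι ≫ p) b)]
    (S'' : Scheme.{u}) (g : S'' ⟶ S') :
    (∀ w : ↥(pullback (𝒥.subschemeι ≫ pullback.snd (ι ≫ p) b) g),
        FlatMor.fibreDimAt (pullback.snd (𝒥.subschemeι ≫ pullback.snd (ι ≫ p) b) g) w = r) ∧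
      ∀ C ∈ irreducibleComponents ↥(pullback (𝒥.subschemeι ≫ pullback.snd (ι ≫ p) b) g),
        closure ((pullback.snd (𝒥.subschemeι ≫ pullback.snd (ι ≫ p) b) g).base '' C) ∈ irreducibleComponents ↥S'' := by
  obtain ⟨z₀, hz₀⟩ : z ∈ Set.range ι.base := hZ ▸ subset_closure (Set.mem_singleton z)
  have hgen : ∀ t : Z, z₀ ⤳ t := fun t => ι.isEmbedding.isInducing.specializes_iff.1
    (hz₀ ▸ specializes_iff_mem_closure.2 (hZ ▸ Set.mem_range_self t))
  refine Groth.Agent.FlatMor12.flat_univ_equidim _ r (fun ξ hξ => ?_) g
  have h1 : Groth.Agent.FlatMorWeight.IsMaximalPt ((𝒥.subschemeι ≫ pullback.snd (ι ≫ p) b) ξ) :=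
    Groth.Agent.FlatMorWeight.IsMaximalPt.map_flat _ hξ
  rw [Groth.Agent.FlatMor12.trdAt_eq_of_over_maximal (ι ≫ p) b 𝒥.subschemeι z₀ hgen hξ
    (Groth.Agent.FlatMor12.isMaximalPt_map_blowUp hb h1) fun w hw => ?_]
  · exact Groth.Agent.FlatMor12.trdAt_genericPoint_eq p z r hr ι z₀ hz₀
  rw [Scheme.IdealSheafData.range_subschemeι]
  refine Groth.Agent.FlatMor12.mem_support_of_killedByPowerNear _ 𝒥 h𝒥 fun hmem => ?_
  refine Groth.Agent.FlatMor12.notMem_support_of_isMaximalPt _ hb.1 h1 ?_
  rw [← Scheme.IdealSheafData.comap_comp, pullback.condition, Scheme.IdealSheafData.comap_comp,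
    Scheme.IdealSheafData.support_comap] at hmem
  rw [← hw]
  exact hmem

end Groth.Agent.S19584
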