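import Groth.Statements.S19585
import Groth.Agent.AbCohLib.IndexIsogeny
import Groth.Agent.AbCohLib.IndexField
import Groth.Agent.AbVarLib.HomFlat
-- import your own Groth.Agent.* helpers here

set_option autoImplicit false
set_option linter.style.haveILetI false
set_option backward.isDefEq.respectTransparency.types false
universe u
open CategoryTheory CategoryTheory.Limits MonoidalCategory CartesianMonoidalCategory MonObj GrpObj AlgebraicGeometry
open AbVar

namespace Groth.Agent.S19585

open CategoryTheory CategoryTheory.Limits MonObj AlgebraicGeometry in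
open Groth.Agent in
/-- Let k be a field and f : X → Y an isogeny between abelian varieties over k (X, Y proper
geometrically integral k-group schemes; f a finite, flat, surjective homomorphism) and L an
invertible O_Y-module which is non-degenerate of index i, expressed by the equivalent condition that
H^j(Y, L) = 0 for j ≠ i and H^i(Y, L) ≠ 0. Then f^*L is non-degenerate of the same index: H^j(X,
f^*L) = 0 for j ≠ i and H^i(X, f^*L) ≠ 0. (No assumption on the degree of f or on the field.) -/
theorem result
    (k : Type u) [Field k] (X Y : Over (Spec (CommRingCat.of k)))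
    [GrpObj X] [IsProper X.hom] [GeometricallyIntegral X.hom]
    [GrpObj Y] [IsProper Y.hom] [GeometricallyIntegral Y.hom]
    (f : X ⟶ Y) [IsMonHom f] [IsFinite f.left] [Flat f.left] [Surjective f.left]
    (L : Y.left.Modules) (hL : PicF.IsInvertible L) (i : ℕ)
    (hvan : ∀ j : ℕ, j ≠ i → Subsingleton (Coh.HH Y.left L j)) (hne : Nontrivial (Coh.HH Y.left L i)) :
    (∀ j : ℕ, j ≠ i → Subsingleton (Coh.HH X.left ((Scheme.Modules.pullback f.left).obj L) j)) ∧
      Nontrivial (Coh.HH X.left ((Scheme.Modules.pullback f.left).obj L) i) := by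
  let K := AlgebraicClosure k
  let s := Spec.map (CommRingCat.ofHom (algebraMap k K))
  let X' := (Over.pullback s).obj X
  let Y' := (Over.pullback s).obj Y
  letI : GrpObj X' := Functor.grpObjObj
  letI : GrpObj Y' := Functor.grpObjObj
  haveI : IsProper X'.hom := inferInstanceAs (IsProper (pullback.snd X.hom s))
  haveI : IsProper Y'.hom := inferInstanceAs (IsProper (pullback.snd Y.hom s))
  haveI : GeometricallyIntegral X'.hom := inferInstanceAs (GeometricallyIntegral (pullback.snd X.hom s))
  haveI : GeometricallyIntegral Y'.hom := inferInstanceAs (GeometricallyIntegral (pullback.snd Y.hom s))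
  let f' : X' ⟶ Y' := (Over.pullback s).map f
  haveI : IsMonHom f' := inferInstance
  let πX : X'.left ⟶ X.left := pullback.fst X.hom s
  let πY : Y'.left ⟶ Y.left := pullback.fst Y.hom s
  have hP : IsPullback πX f'.left f.left πY := AbVarLib.isPullback_pullback_map s f
  haveI : IsFinite f'.left := MorphismProperty.of_isPullback (P := @IsFinite) hP inferInstance
  haveI : Flat f'.left := MorphismProperty.of_isPullback (P := @Flat) hP inferInstance
  haveI : Surjective f'.left := MorphismProperty.of_isPullback (P := @Surjective) hP inferInstance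
  have hLY := PicLoc.isInvertible_pullback πY hL
  have hvan' : ∀ j : ℕ, j ≠ i → Subsingleton (Coh.HH Y'.left ((Scheme.Modules.pullback πY).obj L) j) :=
    fun j hj => (AbCohLib.subsingleton_HH_bc_iff k K Y L hL j).1 (hvan j hj)
  have hne' : Nontrivial (Coh.HH Y'.left ((Scheme.Modules.pullback πY).obj L) i) :=
    not_subsingleton_iff_nontrivial.1 fun h =>
      not_subsingleton_iff_nontrivial.2 hne ((AbCohLib.subsingleton_HH_bc_iff k K Y L hL i).2 h)
  obtain ⟨m', hm'⟩ := AbCohLib.exists_inverse hLY
  obtain ⟨hneA, I, hB, hA⟩ := AbCohLib.index_pullback f' hm' (AbCohLib.eul_ne_zero_of_concentrated hLY hvan' hne')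
  have hfL := PicLoc.isInvertible_pullback f'.left hLY
  rw [AbCubeLib.pb, PicLib.PicM.pull_of _ hLY] at hA hneA
  obtain ⟨hvB, -⟩ := hB.concentrated hLY (AbCohLib.eul_ne_zero_of_concentrated hLY hvan' hne')
  obtain rfl : i = I := by
    by_contra h
    exact not_subsingleton_iff_nontrivial.2 hne' (hvB i h)
  obtain ⟨hvA, hnA⟩ := hA.concentrated hfL hneA
  have hfL₀ := PicLoc.isInvertible_pullback f.left hL
  let e : (Scheme.Modules.pullback f'.left).obj ((Scheme.Modules.pullback πY).obj L) ≅
      (Scheme.Modules.pullback πX).obj ((Scheme.Modules.pullback f.left).obj L) :=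
    (Scheme.Modules.pullbackComp f'.left πY).app L ≪≫ (Scheme.Modules.pullbackCongr hP.w.symm).app L ≪≫
      ((Scheme.Modules.pullbackComp πX f.left).app L).symm
  exact ⟨fun j hj => (AbCohLib.subsingleton_HH_bc_iff k K X _ hfL₀ j).2
      (FlatMorStrat.subsingleton_HH_of_iso e j (hvA j hj)),
    not_subsingleton_iff_nontrivial.1 fun h => not_subsingleton_iff_nontrivial.2 hnA
      (FlatMorStrat.subsingleton_HH_of_iso e.symm i ((AbCohLib.subsingleton_HH_bc_iff k K X _ hfL₀ i).1 h))⟩

end Groth.Agent.S19585
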