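import Groth.Statements.S19586
import Mathlib
import Groth.Prelude

set_option linter.all false

set_option autoImplicit false
universe u
open KaehlerDifferential
open LocInt

open TensorProduct KaehlerDifferential

namespace Groth.Agent.S19586

namespace S19586aux

theorem extPower_eq_zero_of_span_lt {R : Type u} [CommRing R] [Nontrivial R] {M : Type u}
    [AddCommGroup M] [Module R M] {m n : ℕ} (hmn : m < n) (c : Fin m → M) (v : Fin n → M)
    (hv : ∀ i, v i ∈ Submodule.span R (Set.range c)) :
    exteriorPower.ιMulti R n v = 0 := by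
  have : ∀ i, ∃ w : Fin m → R, (Fintype.linearCombination R c) w = v i := by
    intro i
    have := hv i
    rw [← Fintype.range_linearCombination R] at this
    exact this
  choose w hw using this
  have h0 : Subsingleton (⋀[R]^n (Fin m → R)) := by
    refine Module.finrank_eq_zero_iff_of_free R _ |>.mp ?_
    rw [exteriorPower.finrank_eq, Module.finrank_fin_fun]
    exact Nat.choose_eq_zero_of_lt hmn
  have hv' : v = (Fintype.linearCombination R c) ∘ w := funext fun i => (hw i).symm
  rw [hv', ← exteriorPower.map_apply_ιMulti, Subsingleton.elim (exteriorPower.ιMulti R n w) 0,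
    map_zero]

noncomputable def detForm {R : Type u} [CommRing R] {M : Type u} [AddCommGroup M] [Module R M]
    {K : Type u} [Field K] [Algebra R K] {V : Type u} [AddCommGroup V] [Module K V] [Module R V]
    [IsScalarTower R K V] {n : ℕ} (e : Module.Basis (Fin n) K V) (f : M →ₗ[R] V) :
    M [⋀^Fin n]→ₗ[R] K where
  toFun v := e.det (fun i : Fin n => f (v i))
  map_update_add' := by
    intro inst v i x y
    obtain rfl : inst = instDecidableEqFin n := Subsingleton.elim _ _
    have h : ∀ z : M, (fun j : Fin n => f (Function.update v i z j)) =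
        Function.update (fun j : Fin n => f (v j)) i (f z) := fun z => Function.comp_update f v i z
    rw [h, h, h, map_add]
    exact e.det.map_update_add _ _ _ _
  map_update_smul' := by
    intro inst v i c x
    obtain rfl : inst = instDecidableEqFin n := Subsingleton.elim _ _
    have h : ∀ z : M, (fun j : Fin n => f (Function.update v i z j)) =
        Function.update (fun j : Fin n => f (v j)) i (f z) := fun z => Function.comp_update f v i z
    rw [h, h, map_smul, ← algebraMap_smul K c (f x), e.det.map_update_smul, algebraMap_smul]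
  map_eq_zero_of_eq' := by
    intro v i j h hij
    exact e.det.map_eq_zero_of_eq _ (by simp [h]) hij

end S19586aux

/-- Let A → B be a smooth ring map with Ω_{B/A} of rank n at every prime of B, g ∈ B a nonzerodivisor
and R = B/gB, so that Spec R is a hypersurface of virtual relative dimension n − 1 over Spec A. Let
J ⊆ R be the annihilator of the n-th exterior power of Ω_{R/A} and Z = V(J) ⊆ Spec R. Then the
underlying set of Z is exactly the set of primes at which R is not smooth over A: for a prime p of
R, J ⊆ p if and only if the localization R_p is not formally smooth over A. -/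
theorem result (A B R : Type u) [CommRing A] [CommRing B] [CommRing R]
    [Algebra A B] [Algebra B R] [Algebra A R] [IsScalarTower A B R] [Algebra.Smooth A B] (n : ℕ)
    (hn : ∀ p : PrimeSpectrum B, Module.rankAtStalk (Ω[B⁄A]) p = n)
    (g : B) (hg : IsSMulRegular B g) (hsurj : Function.Surjective (algebraMap B R))
    (hker : RingHom.ker (algebraMap B R) = Ideal.span {g}) (p : PrimeSpectrum R) :
    (⋀[R]^n (Ω[R⁄A])).annihilator ≤ p.asIdeal ↔ p ∉ Algebra.smoothLocus A R := by
  obtain ⟨p, hp⟩ := p
  let κ := p.ResidueField
  haveI : IsScalarTower A B κ := by infer_instance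
  let P : Ideal B := p.comap (algebraMap B R)
  haveI hP : P.IsPrime := Ideal.IsPrime.comap _
  have hgR : algebraMap B R g = 0 := by
    have : g ∈ RingHom.ker (algebraMap B R) := by rw [hker]; exact Ideal.mem_span_singleton_self g
    exact this
  have hgκ : algebraMap B κ g = 0 := by
    rw [IsScalarTower.algebraMap_apply B R κ, hgR, map_zero]
  let δ : κ ⊗[B] Ω[B⁄A] := (1 : κ) ⊗ₜ D A B g
  let φ : P.ResidueField →+* κ := Ideal.ResidueField.map P p (algebraMap B R) rfl
  letI : Algebra P.ResidueField κ := φ.toAlgebra
  haveI : IsScalarTower B P.ResidueField κ := IsScalarTower.of_algebraMap_eq fun b => by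
    rw [IsScalarTower.algebraMap_apply B R κ]
    exact (Ideal.ResidueField.map_algebraMap P p (algebraMap B R) rfl b).symm
  have hdim : Module.finrank κ (κ ⊗[B] Ω[B⁄A]) = n := by
    rw [← (AlgebraTensorModule.cancelBaseChange B P.ResidueField κ κ (Ω[B⁄A])).finrank_eq,
      Module.finrank_baseChange, ← hn ⟨P, hP⟩, Module.rankAtStalk_eq]
  haveI : Module.Finite κ (κ ⊗[B] Ω[B⁄A]) := Module.Finite.base_change B κ (Ω[B⁄A])
  have hspan : Submodule.span κ (Set.range fun b : B => (1 : κ) ⊗ₜ[B] D A B b) = ⊤ := by
    rw [eq_top_iff]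
    rintro x -
    induction x with
    | zero => exact Submodule.zero_mem _
    | add x y hx hy => exact Submodule.add_mem _ hx hy
    | tmul c m =>
      rw [show c ⊗ₜ[B] m = c • ((1 : κ) ⊗ₜ[B] m) by simp [TensorProduct.smul_tmul']]
      refine Submodule.smul_mem _ _ ?_
      have hm : m ∈ Submodule.span B (Set.range (D A B)) := by simp [span_range_derivation]
      induction hm using Submodule.span_induction with
      | mem x hx => obtain ⟨b, rfl⟩ := hx; exact Submodule.subset_span ⟨b, rfl⟩
      | zero => simp
      | add x y _ _ hx hy => rw [TensorProduct.tmul_add]; exact Submodule.add_mem _ hx hy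
      | smul c x _ hx =>
        rw [TensorProduct.tmul_smul, ← algebraMap_smul κ c]
        exact Submodule.smul_mem _ _ hx
  -- (a) smoothness
  have hA : ⟨p, hp⟩ ∈ Algebra.smoothLocus A R ↔ δ ≠ 0 := by
    let Q := Localization.AtPrime P
    let S := Localization.AtPrime p
    letI : Algebra Q S := (Localization.localRingHom P p (algebraMap B R) rfl).toAlgebra
    haveI : IsScalarTower B Q S := IsScalarTower.of_algebraMap_eq fun b => by
      rw [RingHom.algebraMap_toAlgebra, Localization.localRingHom_to_map,
        IsScalarTower.algebraMap_apply B R S]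
    haveI : IsScalarTower A Q S := IsScalarTower.of_algebraMap_eq fun a => by
      rw [IsScalarTower.algebraMap_apply A B Q, ← IsScalarTower.algebraMap_apply B Q S,
        ← IsScalarTower.algebraMap_apply A B S]
    haveI : Algebra.FormallySmooth B Q := Algebra.FormallySmooth.of_isLocalization P.primeCompl
    haveI : Algebra.FormallySmooth A Q := Algebra.FormallySmooth.comp A B Q
    haveI : Algebra.EssFiniteType B Q := Algebra.EssFiniteType.of_isLocalization Q P.primeCompl
    haveI : Algebra.EssFiniteType A Q := Algebra.EssFiniteType.comp A B Q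
    haveI : Module.Free Q (Ω[Q⁄A]) := Module.free_of_flat_of_isLocalRing
    have hsurjQ : Function.Surjective (algebraMap Q S) := by
      intro x
      obtain ⟨r, ⟨t, ht⟩, rfl⟩ := IsLocalization.exists_mk'_eq p.primeCompl x
      obtain ⟨r', rfl⟩ := hsurj r
      obtain ⟨t', rfl⟩ := hsurj t
      exact ⟨IsLocalization.mk' Q r' (⟨t', ht⟩ : P.primeCompl),
        Localization.localRingHom_mk' _ _ _ _ _ _⟩
    have hkerQ : RingHom.ker (algebraMap Q S) = Ideal.span {algebraMap B Q g} := by
      apply le_antisymm
      · intro x hx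
        obtain ⟨b, t, rfl⟩ := IsLocalization.exists_mk'_eq P.primeCompl x
        rw [RingHom.mem_ker, RingHom.algebraMap_toAlgebra, Localization.localRingHom_mk',
          IsLocalization.mk'_eq_zero_iff] at hx
        obtain ⟨⟨s, hs⟩, hsb⟩ := hx
        obtain ⟨s', rfl⟩ := hsurj s
        have hmem : s' * b ∈ RingHom.ker (algebraMap B R) := by
          rw [RingHom.mem_ker, map_mul]; exact hsb
        rw [hker, Ideal.mem_span_singleton] at hmem
        obtain ⟨c, hc⟩ := hmem
        rw [Ideal.mem_span_singleton]
        refine ⟨IsLocalization.mk' Q c ((⟨s', hs⟩ : P.primeCompl) * t), ?_⟩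
        rw [IsLocalization.mul_mk'_eq_mk'_of_mul, IsLocalization.mk'_eq_iff_eq]
        simp only [Submonoid.coe_mul]
        rw [← hc]
        congr 1
        ring
      · rw [Ideal.span_le, Set.singleton_subset_iff, SetLike.mem_coe, RingHom.mem_ker,
          ← IsScalarTower.algebraMap_apply, IsScalarTower.algebraMap_apply B R S, hgR, map_zero]
    let k := IsLocalRing.ResidueField S
    have key := Algebra.FormallySmooth.iff_injective_cotangentComplexBaseChange_residueField
      (R := A) (S := S) Q hsurjQ (hkerQ ▸ ⟨{algebraMap B Q g}, by simp⟩)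
    show Algebra.FormallySmooth A S ↔ _
    rw [key]
    -- the base change comparison
    have hloc : IsBaseChange Q (KaehlerDifferential.map A A B Q) :=
      (isLocalizedModule_iff_isBaseChange P.primeCompl Q _).mp inferInstance
    haveI : IsScalarTower B Q k := by infer_instance
    let e := (hloc.comp (TensorProduct.isBaseChange Q (Ω[Q⁄A]) k)).equiv
    have he : e ((1 : k) ⊗ₜ D A B g) = (1 : k) ⊗ₜ D A Q (algebraMap B Q g) := by
      rw [IsBaseChange.equiv_tmul, one_smul]
      simp
    have hδ : δ ≠ 0 ↔ ((1 : k) ⊗ₜ[Q] D A Q (algebraMap B Q g)) ≠ 0 := by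
      rw [← he]; exact e.map_ne_zero_iff.symm
    rw [hδ]
    let g1 : RingHom.ker (algebraMap Q S) := ⟨algebraMap B Q g, by
      rw [hkerQ]; exact Ideal.mem_span_singleton_self _⟩
    have hgen : ∀ x : k ⊗[Q] (RingHom.ker (algebraMap Q S)), ∃ c : k, x = c • ((1 : k) ⊗ₜ g1) := by
      intro x
      induction x with
      | zero => exact ⟨0, by simp⟩
      | add x y hx hy => obtain ⟨a, rfl⟩ := hx; obtain ⟨b, rfl⟩ := hy; exact ⟨a + b, (add_smul ..).symm⟩
      | tmul c m =>
        obtain ⟨q, hq⟩ := Ideal.mem_span_singleton.mp (hkerQ ▸ m.2 : (m : Q) ∈ Ideal.span {algebraMap B Q g})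
        have : m = q • g1 := Subtype.ext (by simp [g1, hq, mul_comm])
        refine ⟨c * algebraMap Q k q, ?_⟩
        rw [this, TensorProduct.smul_tmul', smul_eq_mul, mul_one, TensorProduct.tmul_smul,
          TensorProduct.smul_tmul', Algebra.smul_def, mul_comm]
    have hne : ((1 : k) ⊗ₜ[Q] g1) ≠ 0 := by
      have hreg : IsSMulRegular Q (algebraMap B Q g) := by
        intro x y hxy
        obtain ⟨a, s, rfl⟩ := IsLocalization.exists_mk'_eq P.primeCompl x
        obtain ⟨b, t, rfl⟩ := IsLocalization.exists_mk'_eq P.primeCompl y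
        simp only [smul_eq_mul, IsLocalization.mul_mk'_eq_mk'_of_mul,
          IsLocalization.mk'_eq_iff_eq] at hxy ⊢
        rw [IsLocalization.eq_iff_exists P.primeCompl] at hxy ⊢
        obtain ⟨c, hc⟩ := hxy
        refine ⟨c, hg ?_⟩
        simp only [smul_eq_mul]
        linear_combination hc
      let f : Q →ₗ[Q] RingHom.ker (algebraMap Q S) := LinearMap.toSpanSingleton Q _ g1
      have hf : Function.Bijective f := by
        refine ⟨fun x y h => hreg ?_, fun m => ?_⟩
        · have := congrArg Subtype.val h
          simpa [f, g1, mul_comm] using this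
        · obtain ⟨q, hq⟩ := Ideal.mem_span_singleton.mp (hkerQ ▸ m.2 : (m : Q) ∈ Ideal.span {algebraMap B Q g})
          exact ⟨q, Subtype.ext (by simp [f, g1, hq, mul_comm])⟩
      let e' := (LinearEquiv.ofBijective f hf).lTensor k
      have : (1 : k) ⊗ₜ[Q] g1 = e' ((1 : k) ⊗ₜ 1) := by simp [e', f]
      rw [this, ne_eq, LinearEquiv.map_eq_zero_iff]
      intro h
      have := congrArg (TensorProduct.rid Q k) h
      simp at this
    constructor
    · intro hinj h0
      apply hne
      apply hinj
      rw [map_zero]
      simpa [g1, KaehlerDifferential.cotangentComplexBaseChange_tmul, KaehlerDifferential.kerToTensor_apply] using h0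
    · intro h0
      rw [injective_iff_map_eq_zero]
      intro x hx
      obtain ⟨c, rfl⟩ := hgen x
      rw [map_smul, smul_eq_zero] at hx
      rcases hx with rfl | hx
      · simp
      · exact absurd (by simpa [g1, KaehlerDifferential.cotangentComplexBaseChange_tmul, KaehlerDifferential.kerToTensor_apply] using hx) h0
  rw [hA, not_not]
  constructor
  · -- not smooth direction: δ ≠ 0 gives an annihilator outside p
    intro hJ
    by_contra hδ
    obtain ⟨T, hTs, hδT, hTspan, hTli⟩ : ∃ T ⊆ Set.range (fun b : B => (1 : κ) ⊗ₜ[B] D A B b),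
        δ ∈ T ∧ Submodule.span κ T = ⊤ ∧ LinearIndepOn κ id T := by
      have h1 : LinearIndepOn κ id ({δ} : Set (κ ⊗[B] Ω[B⁄A])) := by
        simpa using hδ
      have h2 : ({δ} : Set (κ ⊗[B] Ω[B⁄A])) ⊆ Set.range (fun b : B => (1 : κ) ⊗ₜ[B] D A B b) :=
        Set.singleton_subset_iff.mpr ⟨g, rfl⟩
      obtain ⟨T, hT1, hT2, hT3, hT4⟩ := exists_linearIndepOn_id_extension h1 h2
      refine ⟨T, hT1, hT2 rfl, ?_, hT4⟩
      rw [eq_top_iff, ← hspan, Submodule.span_le]
      exact hT3
    haveI : Finite T := hTli.linearIndependent.finite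
    haveI : Fintype T := Fintype.ofFinite T
    classical
    have hcard : Fintype.card T ≤ n := hdim ▸ hTli.linearIndependent.fintype_card_le_finrank
    let m := Fintype.card {t : T // t.1 ≠ δ}
    have hm : m < n := lt_of_lt_of_le (Fintype.card_subtype_lt (x := ⟨δ, hδT⟩) (by simp)) hcard
    let et := (Fintype.equivFin {t : T // t.1 ≠ δ}).symm
    have : ∀ i : Fin m, ∃ b : B, (1 : κ) ⊗ₜ[B] D A B b = (et i).1.1 := fun i => hTs (et i).1.2
    choose b hb using this
    let W : Submodule B (Ω[B⁄A]) :=
      Submodule.span B (insert (D A B g) (Set.range fun i => D A B (b i)))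
    let N := Ω[B⁄A] ⧸ W
    have hsub : ¬ Nontrivial (P.ResidueField ⊗[B] N) := by
      intro hnt
      haveI : Nontrivial (κ ⊗[P.ResidueField] (P.ResidueField ⊗[B] N)) := inferInstance
      haveI : Nontrivial (κ ⊗[B] N) :=
        (AlgebraTensorModule.cancelBaseChange B P.ResidueField κ κ N).symm.toEquiv.nontrivial
      let q := (W.mkQ).baseChange κ
      have hq : Function.Surjective q := LinearMap.baseChange_surjective _ W.mkQ_surjective
      have : q = 0 := by
        apply LinearMap.ext_on hTspan
        intro x hx
        have hmem : ∀ y ∈ insert (D A B g) (Set.range fun i => D A B (b i)),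
            q ((1 : κ) ⊗ₜ y) = 0 := fun y hy => by
          simp [q, (Submodule.Quotient.mk_eq_zero W).mpr (Submodule.subset_span hy)]
        by_cases hxδ : x = δ
        · subst hxδ; exact hmem _ (Set.mem_insert _ _)
        · have : x = (1 : κ) ⊗ₜ[B] D A B (b (et.symm ⟨⟨x, hx⟩, hxδ⟩)) := by
            rw [hb]; simp
          rw [this]; exact hmem _ (Set.mem_insert_of_mem _ ⟨_, rfl⟩)
      obtain ⟨x, hx⟩ := exists_ne (0 : κ ⊗[B] N)
      obtain ⟨y, rfl⟩ := hq x
      exact hx (by simp [this])
    rw [← Module.mem_support_iff_nontrivial_residueField_tensorProduct ⟨P, hP⟩,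
      Module.mem_support_iff_of_finite] at hsub
    obtain ⟨a, ha, haP⟩ := Set.not_subset.mp hsub
    have haW : ∀ x : Ω[B⁄A], a • x ∈ W := fun x => by
      rw [← Submodule.Quotient.mk_eq_zero W, Submodule.Quotient.mk_smul]
      exact Module.mem_annihilator.mp ha _
    haveI : Nontrivial R := ⟨⟨0, 1, fun h => hp.ne_top ((Ideal.eq_top_iff_one _).mpr (h ▸ zero_mem p))⟩⟩
    let c : Fin m → Ω[R⁄A] := fun i => D A R (algebraMap B R (b i))
    have hspanR : ∀ y : Ω[R⁄A], algebraMap B R a • y ∈ Submodule.span R (Set.range c) := by
      intro y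
      obtain ⟨x, rfl⟩ := KaehlerDifferential.map_surjective_of_surjective A A (A := B) (B := R) hsurj y
      rw [algebraMap_smul, ← map_smul]
      have hx := haW x
      suffices W ≤ Submodule.comap (KaehlerDifferential.map A A B R)
          ((Submodule.span R (Set.range c)).restrictScalars B) from this hx
      rw [Submodule.span_le]
      rintro z (rfl | ⟨i, rfl⟩)
      · simp [hgR]
      · simpa using Submodule.subset_span (R := R) (s := Set.range c) (Set.mem_range_self i)
    have hann : (algebraMap B R a) ^ n ∈ (⋀[R]^n (Ω[R⁄A])).annihilator := by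
      rw [Submodule.mem_annihilator]
      suffices ∀ ω : ⋀[R]^n (Ω[R⁄A]), (algebraMap B R a) ^ n • ω = 0 from
        fun ω hω => congrArg Subtype.val (this ⟨ω, hω⟩)
      intro ω
      have hω : ω ∈ Submodule.span R (Set.range (exteriorPower.ιMulti R n (M := Ω[R⁄A]))) := by
        rw [exteriorPower.ιMulti_span]; trivial
      induction hω using Submodule.span_induction with
      | mem x hx =>
        obtain ⟨v, rfl⟩ := hx
        rw [show (algebraMap B R a) ^ n = ∏ _i : Fin n, algebraMap B R a by simp,
          ← AlternatingMap.map_smul_univ]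
        exact S19586aux.extPower_eq_zero_of_span_lt hm c _ fun i => hspanR (v i)
      | zero => simp
      | add x y _ _ hx hy => rw [smul_add, hx, hy, add_zero]
      | smul c x _ hx => rw [smul_comm, hx, smul_zero]
    exact haP (Ideal.IsPrime.mem_of_pow_mem hp n (hJ hann))
  · -- δ = 0 gives J ⊆ p
    intro hδ a ha
    have hkill : ∀ x ∈ RingHom.ker (algebraMap B R), (1 : κ) ⊗ₜ[B] D A B x = 0 := by
      intro x hx
      rw [hker, Ideal.mem_span_singleton] at hx
      obtain ⟨c, rfl⟩ := hx
      rw [Derivation.leibniz, TensorProduct.tmul_add, TensorProduct.tmul_smul,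
        TensorProduct.tmul_smul, ← algebraMap_smul κ g, hgκ, zero_smul, zero_add]
      rw [show (1 : κ) ⊗ₜ[B] D A B g = 0 from hδ, smul_zero]
    let s := Function.surjInv hsurj
    have hs : ∀ r, algebraMap B R (s r) = r := Function.surjInv_eq hsurj
    have hwd : ∀ x y : B, algebraMap B R x = algebraMap B R y →
        (1 : κ) ⊗ₜ[B] D A B x = (1 : κ) ⊗ₜ[B] D A B y := fun x y h => by
      rw [← sub_eq_zero, ← TensorProduct.tmul_sub, ← map_sub]
      exact hkill _ (by rw [RingHom.mem_ker, map_sub, h, sub_self])
    let d : Derivation A R (κ ⊗[B] Ω[B⁄A]) :=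
      { toFun := fun r => (1 : κ) ⊗ₜ[B] D A B (s r)
        map_add' := fun x y => by
          rw [← TensorProduct.tmul_add, ← map_add]
          exact hwd _ _ (by simp [hs])
        map_smul' := fun a x => by
          rw [RingHom.id_apply, ← TensorProduct.tmul_smul, ← Derivation.map_smul]
          exact hwd _ _ (by simp [hs, Algebra.smul_def, ← IsScalarTower.algebraMap_apply A B R])
        map_one_eq_zero' := by
          show (1 : κ) ⊗ₜ[B] D A B (s 1) = 0
          rw [hwd _ 1 (by simp [hs])]; simp
        leibniz' := fun x y => by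
          show (1 : κ) ⊗ₜ[B] D A B (s (x * y)) = _
          rw [hwd _ (s x * s y) (by simp [hs]), Derivation.leibniz, TensorProduct.tmul_add,
            TensorProduct.tmul_smul, TensorProduct.tmul_smul]
          rw [← algebraMap_smul R (s x), ← algebraMap_smul R (s y), hs, hs]
          rfl }
    have hd : ∀ b, d.liftKaehlerDifferential (D A R (algebraMap B R b)) = (1 : κ) ⊗ₜ[B] D A B b :=
      fun b => by
        rw [Derivation.liftKaehlerDifferential_comp_D]
        exact hwd _ _ (hs _)
    obtain ⟨f, hf, hfspan, hfli⟩ := Submodule.exists_fun_fin_finrank_span_eq κ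
      (Set.range fun b : B => (1 : κ) ⊗ₜ[B] D A B b)
    have hN : Module.finrank κ (Submodule.span κ (Set.range fun b : B => (1 : κ) ⊗ₜ[B] D A B b)) = n := by
      rw [hspan, finrank_top, hdim]
    let f' : Fin n → κ ⊗[B] Ω[B⁄A] := f ∘ Fin.cast hN.symm
    have hli : LinearIndependent κ f' := hfli.comp _ (Fin.cast_injective _)
    haveI : Nonempty (Fin n) ∨ n = 0 := by
      rcases n with _ | n
      · right; rfl
      · left; exact ⟨0⟩
    let e : Module.Basis (Fin n) κ (κ ⊗[B] Ω[B⁄A]) :=
      Module.Basis.mk hli (by
        rw [show Set.range f' = Set.range f from (finCongr hN.symm).surjective.range_comp f]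
        rw [hfspan, hspan])
    choose b hb using fun i => hf (Fin.cast hN.symm i)
    let L := exteriorPower.alternatingMapLinearEquiv
      (S19586aux.detForm e d.liftKaehlerDifferential)
    let ω := exteriorPower.ιMulti R n fun i => D A R (algebraMap B R (b i))
    have h1 : L ω = 1 := by
      simp only [L, ω, exteriorPower.alternatingMapLinearEquiv_apply_ιMulti]
      show e.det _ = 1
      rw [← e.det_self]
      congr 1
      funext i
      simp only [Function.comp_apply, hd]
      rw [Module.Basis.mk_apply]
      exact hb i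
    have h2 : a • ω = 0 := Subtype.ext (Submodule.mem_annihilator.mp ha _ ω.2)
    have h3 := congrArg L h2
    rw [map_smul, h1, map_zero, Algebra.smul_def, mul_one] at h3
    exact Ideal.algebraMap_residueField_eq_zero.mp h3

end Groth.Agent.S19586
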