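import Groth.Statements.S19591
import Mathlib.FieldTheory.Perfect
import Mathlib.Algebra.CharP.Two
import Mathlib.LinearAlgebra.QuadraticForm.Basic
import Mathlib.Tactic

set_option autoImplicit false
universe u v
open BddFin

namespace Groth.Agent.S19591

/-- Let K be a perfect field of characteristic 2, V a finite-dimensional K-vector space with dim V > 2
and q a quadratic form on V whose polar bilinear form is non-degenerate. Then q represents zero
non-trivially. (Non-degeneracy of the polar form, which is alternating in characteristic 2, forces
dim V to be even, as the published lemma notes.) -/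
theorem result
    (K : Type u) [Field K] [CharP K 2] [PerfectField K]
    (V : Type v) [AddCommGroup V] [Module K V] [FiniteDimensional K V]
    (hV : 2 < Module.finrank K V) (q : QuadraticForm K V)
    (hq : (QuadraticMap.polarBilin q).Nondegenerate) :
    ∃ v : V, v ≠ 0 ∧ q v = 0 := by
  haveI : PerfectRing K 2 := PerfectField.toPerfectRing 2
  haveI : Nontrivial V := Module.nontrivial_of_finrank_pos (R := K) (by omega)
  obtain ⟨x, hx⟩ := exists_ne (0 : V)
  rcases eq_or_ne (q x) 0 with h | h
  · exact ⟨x, hx, h⟩
  let φ : V →ₗ[K] K := QuadraticMap.polarBilin q x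
  have hker : Module.finrank K V ≤ Module.finrank K (LinearMap.ker φ) + 1 := by
    have h1 := LinearMap.finrank_range_add_finrank_ker φ
    have h2 := Submodule.finrank_le (LinearMap.range φ)
    rw [Module.finrank_self] at h2
    omega
  have hlt : ¬ LinearMap.ker φ ≤ Submodule.span K {x} := fun hle => by
    have h1 := Submodule.finrank_mono hle
    rw [finrank_span_singleton hx] at h1
    omega
  obtain ⟨y, hy, hyx⟩ := SetLike.not_le_iff_exists.1 hlt
  obtain ⟨t, ht⟩ := (PerfectRing.bijective_frobenius (R := K) (p := 2)).2 (q y / q x)
  simp only [frobenius_def] at ht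
  refine ⟨y + t • x, fun e => hyx ?_, ?_⟩
  · rw [eq_neg_of_add_eq_zero_left e]
    exact neg_mem (Submodule.smul_mem _ _ (Submodule.mem_span_singleton_self x))
  · have hp : QuadraticMap.polar q y x = 0 := by
      rw [QuadraticMap.polar_comm]; exact hy
    rw [QuadraticMap.map_add (f := q), QuadraticMap.polar_smul_right, hp, smul_zero, add_zero, QuadraticMap.map_smul,
      smul_eq_mul, ← pow_two, ht, div_mul_cancel₀ _ h, CharTwo.add_self_eq_zero]

end Groth.Agent.S19591
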