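import Groth.Statements.S19593
import Groth.Agent.RelVALib.ChartTwist
import Groth.Agent.RelVALib.RelVA
import Groth.Agent.CurveRR24.VeryAmple
import Groth.Agent.ParaF29.Basic
-- import your own Groth.Agent.* helpers here

set_option autoImplicit false
set_option linter.style.haveILetI false
set_option backward.isDefEq.respectTransparency.types false
universe u
open CategoryTheory AlgebraicGeometry
open PicF

namespace Groth.Agent.S19593

open CategoryTheory CategoryTheory.Limits AlgebraicGeometry TopologicalSpace in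
open Groth.Agent Groth.Agent.Coherent Groth.Agent.PicLib Groth.Agent.AmpleLib Groth.Agent.EulerLib in
/-- Let k be an infinite field, Y a scheme proper over k with a relatively very ample O_Y-module A (the
pullback of O(1) along an immersion of Y into the Proj of a symmetric algebra over k), and y_1, …,
y_m finitely many points of Y. Then some global section of A generates A at every y_i. (The
published statement takes Y projective over k and A a very ample line bundle; here Y is proper over
k and A very ample relative to Y → Spec k, which makes Y projective.) -/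
theorem result
    (k : Type u) [Field k] [Infinite k] (Y : Scheme.{u}) (f : Y ⟶ Spec (CommRingCat.of k)) [IsProper f]
    (A : Y.Modules) (hA : RelProj.IsRelVeryAmple f A)
    (ι : Type) [Finite ι] (y : ι → ↥Y) :
    ∃ s : Coh.structureModule Y ⟶ A, ∀ i : ι, y i ∈ CohB1.genLocus A s := by
  obtain ⟨E, hE, 𝒮, j, hj, P, p, ch, -, O1, lam, hO1, i, hi, hif, ⟨eA⟩⟩ := hA
  haveI := hi
  let U : (Spec (CommRingCat.of k)).Opens := ⊤
  have hU : IsAffineOpen U := isAffineOpen_top _
  have hgen := SymAlgLib.isGenDegOne_of_isGrSymAlg hj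
  have hcov := RelVALib.degOneCov hgen U hU
  let e := RelProj.emb p ch U hU
  have hrange : Set.range i ⊆ Set.range e := fun w _ =>
    (TwistLib.G.opensRange_emb (p := p) (chart := ch) U hU).ge (show p w ∈ U from trivial)
  let g := IsOpenImmersion.lift e i hrange
  have hg : g ≫ e = i := IsOpenImmersion.lift_fac _ _ _
  obtain ⟨φ⟩ := RelVALib.nonempty_chartIso hgen hO1 U hU
  let τ : (Scheme.Modules.pullback g).obj (GrTwist.twist (𝒮.deg U hU) 1) ≅ A :=
    (Scheme.Modules.pullback g).mapIso φ.symm ≪≫ (Scheme.Modules.pullbackComp g e).app O1 ≪≫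
      (Scheme.Modules.pullbackCongr hg).app O1 ≪≫ eA.symm
  have hA' : PicF.IsInvertible A := ParaF29.isInvertible_of_iso τ (PicLoc.isInvertible_pullback g (TwistLib.G.isInvertible_twist hcov 1))
  have hgg : ∀ z : Y, ∃ a : Γ(A, ⊤), z ∈ glocus A a := fun z => by
    obtain ⟨w, hw, hwz⟩ := hcov (g z)
    refine ⟨τ.hom.app ⊤ (PicLib.pullSec g (show Γ(GrTwist.twist (𝒮.deg U hU) 1, ⊤) from GrTwist.globalOf (𝒮.deg U hU) ⟨w, hw⟩)), ?_⟩
    rw [glocus_map_iso, glocus_pullSec g (TwistLib.G.isInvertible_twist hcov 1)]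
    change g z ∈ glocus _ _
    erw [RelVALib.glocus_globalOf_deg hcov (d := 1) hw]
    exact hwz
  let ψ : k →+* Γ(Y, ⊤) := ((Scheme.ΓSpecIso (CommRingCat.of k)).inv ≫ f.appTop).hom
  let bad : ι → Submodule k (GA ψ A) := fun t =>
    let m : Submodule (Y.presheaf.stalk (y t)) (A.presheaf.stalk (y t)) :=
      IsLocalRing.maximalIdeal (Y.presheaf.stalk (y t)) • ⊤
    { carrier := {a | A.presheaf.germ ⊤ (y t) trivial (show Γ(A, ⊤) from a) ∈ m}
      add_mem' := fun {a b} ha hb => by
        show A.presheaf.germ ⊤ (y t) trivial ((show Γ(A, ⊤) from a) + (show Γ(A, ⊤) from b)) ∈ m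
        rw [map_add]; exact m.add_mem ha hb
      zero_mem' := by
        show A.presheaf.germ ⊤ (y t) trivial (0 : Γ(A, ⊤)) ∈ m
        rw [map_zero]; exact m.zero_mem
      smul_mem' := fun r a ha => by
        show A.presheaf.germ ⊤ (y t) trivial (ψ r • (show Γ(A, ⊤) from a)) ∈ m
        erw [PresheafOfModules.germ_smul A.val (y t) ⊤ trivial]
        exact m.smul_mem _ ha }
  have hne : ∀ t, bad t ≠ ⊤ := fun t h => by
    obtain ⟨a, ha⟩ := hgg (y t)
    exact (CurveRR24.mem_glocus_iff_germ hA' a (y t)).1 ha (h.ge (Submodule.mem_top (x := (show GA ψ A from a))))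
  obtain ⟨a, ha⟩ : ∃ a : GA ψ A, ∀ t, a ∉ bad t := by
    by_contra h
    push Not at h
    obtain ⟨t, ht⟩ := Subspace.exists_eq_top_of_iUnion_eq_univ (p := bad)
      (Set.eq_univ_of_forall fun a => Set.mem_iUnion.2 (h a))
    exact hne t ht
  exact ⟨unitDesc A a, fun t => (CurveRR24.mem_glocus_iff_germ hA' (show Γ(A, ⊤) from a) (y t)).2 (ha t)⟩

end Groth.Agent.S19593
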