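import Groth.Statements.S19605
import Groth.Agent.CAlgH3.PSheafGen
-- import your own Groth.Agent.* helpers here

set_option autoImplicit false
universe u
open CategoryTheory CategoryTheory.Limits AlgebraicGeometry
open Variety

namespace Groth.Agent.S19605

/-- Let F be an m-regular coherent module on projective n-space over a field k. Then for all integers d
≥ m and e ≥ 0 the multiplication map H^0(F(d)) ⊗_k H^0(O(e)) → H^0(F(d+e)) is surjective. The target
is written as the global sections of F(d) ⊗ O(e) and the map as the canonical map from the global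
sections of the sectionwise tensor product presheaf (these are H^0(F(d)) ⊗ H^0(O(e)), the tensor
being over the global functions, a field) to the global sections of its sheafification. -/
theorem result (k : Type u) [Field k] (n : ℕ)
    (F : (CohB1.ProjSpace n k).Modules) (hF : Coh.IsCoh F) (m d : ℤ) (hd : m ≤ d) (h : Curv2.IsMRegular k n F m)
    (e : ℕ) :
    Function.Surjective
      ((toSheafify (Opens.grothendieckTopology (CohB1.ProjSpace n k))
        (CohB1.tensorPre (CohB1.tensorMod F (Twist.twistProjSpace n k d))
          (Twist.twistProjSpace n k (e : ℤ))).presheaf).app (Opposite.op ⊤)) := by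
  intro z
  have hz := (Groth.Agent.CAlgH3.PSheafGen.closure_tmul_eq_top_nat (r := n) hF.1
    (Groth.Agent.CAlgH3.PSheaf.isMRegular_of_le hF.1 hd h) e).ge (AddSubgroup.mem_top z)
  induction hz using AddSubgroup.closure_induction with
  | mem w hw =>
    obtain ⟨a, b, rfl⟩ := hw
    exact ⟨_, rfl⟩
  | zero => exact ⟨0, map_zero _⟩
  | add a b _ _ ha hb =>
    obtain ⟨x, hx⟩ := ha
    obtain ⟨y, hy⟩ := hb
    exact ⟨x + y, (map_add _ x y).trans (congrArg₂ (· + ·) hx hy)⟩
  | neg a _ ha =>
    obtain ⟨x, hx⟩ := ha
    exact ⟨-x, (map_neg _ x).trans (congrArg Neg.neg hx)⟩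

end Groth.Agent.S19605
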