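import Groth.Statements.S19606
import Groth.Agent.Coherent.QcohOps
import Groth.Agent.Coherent.Existence.SysKernel
import Groth.Agent.RelVALib.UPProp
import Groth.Agent.CurveRR24.Sky

set_option autoImplicit false
set_option linter.style.haveILetI false
set_option backward.isDefEq.respectTransparency.types false
universe u
open CategoryTheory CategoryTheory.Limits AlgebraicGeometry
open ClSub

namespace Groth.Agent.S19606

/-- Let X be a scheme and I₁, I₂ quasi-coherent ideal sheaves with I₁ ⊓ I₂ = 0, cutting out closed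
subschemes X₁, X₂ and X₁ ∩ X₂ (ideal I₁ + I₂). Then 0 → O_X → O_X/I₁ ⊕ O_X/I₂ → O_X/(I₁ + I₂) → 0 is
an exact sequence of O_X-modules, the maps being the two restrictions and the difference of the
restrictions q₁, q₂ (the module maps compatible with the quotient maps from O_X). The published
statement is for a locally free sheaf E on a reduced scheme with two irreducible components X₁, X₂
(whose ideals meet in zero); this row is the case E = O_X for any two ideals with zero intersection,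
which is what the local argument uses. -/
theorem result (X : Scheme.{u}) (I₁ I₂ : X.IdealSheafData)
    (h : I₁ ⊓ I₂ = ⊥)
    (q₁ : ClSub.quotMod I₁ ⟶ ClSub.quotMod (I₁ ⊔ I₂)) (q₂ : ClSub.quotMod I₂ ⟶ ClSub.quotMod (I₁ ⊔ I₂))
    (hq₁ : ClSub.toSubscheme I₁ ≫ q₁ = ClSub.toSubscheme (I₁ ⊔ I₂))
    (hq₂ : ClSub.toSubscheme I₂ ≫ q₂ = ClSub.toSubscheme (I₁ ⊔ I₂)) :
    Epi (biprod.desc q₁ (-q₂)) ∧
      ∃ w : biprod.lift (ClSub.toSubscheme I₁) (ClSub.toSubscheme I₂) ≫ biprod.desc q₁ (-q₂) = 0,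
        Nonempty (IsLimit (KernelFork.ofι (biprod.lift (ClSub.toSubscheme I₁) (ClSub.toSubscheme I₂)) w)) := by
  have hz : ∀ (I : X.IdealSheafData) (U : X.affineOpens) (a : Γ(Coh.structureModule X, U.1)),
      (ClSub.toSubscheme I).app U.1 a = 0 ↔ (show Γ(X, U.1) from a) ∈ I.ideal U := fun I U a => by
    rw [← I.ker_subschemeι_app U, RingHom.mem_ker]
    exact Iff.rfl
  have hsurj : ∀ (I : X.IdealSheafData) (U : X.affineOpens),
      Function.Surjective ((ClSub.toSubscheme I).app U.1) := fun I U b => I.subschemeι_app_surjective U b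
  haveI hepi₁ : Epi q₁ := by
    haveI : Epi (ClSub.toSubscheme I₁ ≫ q₁) := by
      rw [hq₁]; exact Groth.Agent.CurveRR24.epi_toSubscheme _
    exact epi_of_epi (ClSub.toSubscheme I₁) q₁
  refine ⟨?_, ?_, ?_⟩
  · haveI : Epi (biprod.inl ≫ biprod.desc q₁ (-q₂)) := by rw [biprod.inl_desc]; exact hepi₁
    exact epi_of_epi biprod.inl _
  · rw [biprod.lift_desc, hq₁, Preadditive.comp_neg, hq₂, add_neg_cancel]
  let L := biprod.lift (ClSub.toSubscheme I₁) (ClSub.toSubscheme I₂)
  let D := biprod.desc q₁ (-q₂)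
  have w : L ≫ D = 0 := by
    rw [biprod.lift_desc, hq₁, Preadditive.comp_neg, hq₂, add_neg_cancel]
  haveI : Mono L := by
    refine Preadditive.mono_of_cancel_zero L fun {Z} g hg => ?_
    refine Groth.Agent.RelVALib.hom_ext_affine _ _ fun U hU x => ?_
    have h1 : g ≫ ClSub.toSubscheme I₁ = 0 := by
      have := congrArg (fun t => t ≫ biprod.fst) hg
      simpa [L] using this
    have h2 : g ≫ ClSub.toSubscheme I₂ = 0 := by
      have := congrArg (fun t => t ≫ biprod.snd) hg
      simpa [L] using this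
    have m1 := (hz I₁ ⟨U, hU⟩ (g.app U x)).1 (by
      rw [← ConcreteCategory.comp_apply, ← Scheme.Modules.Hom.comp_app, h1]; rfl)
    have m2 := (hz I₂ ⟨U, hU⟩ (g.app U x)).1 (by
      rw [← ConcreteCategory.comp_apply, ← Scheme.Modules.Hom.comp_app, h2]; rfl)
    have m : (show Γ(X, U) from g.app U x) ∈ (I₁ ⊓ I₂).ideal ⟨U, hU⟩ := ⟨m1, m2⟩
    rw [h] at m
    exact (Submodule.mem_bot _).1 m
  let g := kernel.lift D L w
  have hg : g ≫ kernel.ι D = L := kernel.lift_ι _ _ _
  haveI : Mono g := mono_of_mono_fac hg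
  haveI : Epi g := by
    refine Groth.Agent.Coherent.Existence.epi_of_affine_surjective g fun U hU k => ?_
    obtain ⟨α, hα⟩ := hsurj I₁ ⟨U, hU⟩ ((kernel.ι D ≫ biprod.fst).app U k)
    obtain ⟨β, hβ⟩ := hsurj I₂ ⟨U, hU⟩ ((kernel.ι D ≫ biprod.snd).app U k)
    have hD : kernel.ι D ≫ biprod.fst ≫ q₁ = kernel.ι D ≫ biprod.snd ≫ q₂ := by
      have := kernel.condition D
      have hdesc : D = biprod.fst ≫ q₁ + biprod.snd ≫ (-q₂) := biprod.desc_eq
      conv at this => lhs; rhs; rw [hdesc]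
      rw [Preadditive.comp_add, Preadditive.comp_neg, Preadditive.comp_neg, add_neg_eq_zero] at this
      exact this
    have e : (ClSub.toSubscheme (I₁ ⊔ I₂)).app U α = (ClSub.toSubscheme (I₁ ⊔ I₂)).app U β := by
      conv_lhs => rw [← hq₁]
      conv_rhs => rw [← hq₂]
      rw [Scheme.Modules.Hom.comp_app, Scheme.Modules.Hom.comp_app, ConcreteCategory.comp_apply,
        ConcreteCategory.comp_apply, hα, hβ]
      rw [← ConcreteCategory.comp_apply, ← Scheme.Modules.Hom.comp_app,
        ← ConcreteCategory.comp_apply, ← Scheme.Modules.Hom.comp_app, Category.assoc, Category.assoc, hD]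
    have hm := (hz (I₁ ⊔ I₂) ⟨U, hU⟩ (α - β)).1 (by rw [map_sub, e, sub_self])
    obtain ⟨i₁, h₁, i₂, h₂, hsum⟩ := Submodule.mem_sup.1
      (show (show Γ(X, U) from α - β) ∈ I₁.ideal ⟨U, hU⟩ ⊔ I₂.ideal ⟨U, hU⟩ from hm)
    let γ' : Γ(Coh.structureModule X, U) := α - (show Γ(Coh.structureModule X, U) from i₁)
    refine ⟨γ', Groth.Agent.Coherent.app_injective_of_mono (kernel.ι D) U ?_⟩
    rw [← ConcreteCategory.comp_apply, ← Scheme.Modules.Hom.comp_app, hg]
    have c1 : (ClSub.toSubscheme I₁).app U γ' = (ClSub.toSubscheme I₁).app U α := by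
      rw [map_sub, (hz I₁ ⟨U, hU⟩ _).2 h₁, sub_zero]
    have c2 : (ClSub.toSubscheme I₂).app U γ' = (ClSub.toSubscheme I₂).app U β := by
      have hs : γ' = β + (show Γ(Coh.structureModule X, U) from i₂) := by
        have hs' : (show Γ(Coh.structureModule X, U) from i₁) + (show Γ(Coh.structureModule X, U) from i₂) = α - β := hsum
        rw [show γ' = α - (show Γ(Coh.structureModule X, U) from i₁) from rfl]
        rw [eq_sub_iff_add_eq] at hs'
        rw [← hs']; abel
      rw [hs, map_add, (hz I₂ ⟨U, hU⟩ _).2 h₂, add_zero]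
    have tot : ∀ z : Γ(ClSub.quotMod I₁ ⊞ ClSub.quotMod I₂, U), ((biprod.fst ≫ biprod.inl : ClSub.quotMod I₁ ⊞ ClSub.quotMod I₂ ⟶ ClSub.quotMod I₁ ⊞ ClSub.quotMod I₂)).app U z + ((biprod.snd ≫ biprod.inr : ClSub.quotMod I₁ ⊞ ClSub.quotMod I₂ ⟶ ClSub.quotMod I₁ ⊞ ClSub.quotMod I₂)).app U z = z := fun z => by
      rw [← AddMonoidHom.add_apply, ← AddCommGrpCat.hom_add, ← Scheme.Modules.Hom.add_app, biprod.total]
      rfl
    rw [← tot (L.app U γ'), ← tot ((kernel.ι D).app U k)]
    simp only [Scheme.Modules.Hom.comp_app, ConcreteCategory.comp_apply]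
    rw [← ConcreteCategory.comp_apply (L.app U), ← ConcreteCategory.comp_apply (L.app U),
      ← Scheme.Modules.Hom.comp_app, ← Scheme.Modules.Hom.comp_app, biprod.lift_fst, biprod.lift_snd, c1, c2, hα, hβ,
      Scheme.Modules.Hom.comp_app, Scheme.Modules.Hom.comp_app, ConcreteCategory.comp_apply, ConcreteCategory.comp_apply]
  haveI : IsIso g := isIso_of_mono_of_epi g
  exact ⟨IsLimit.ofIsoLimit (kernelIsKernel D) (Fork.ext (asIso g).symm (by
    show inv g ≫ L = kernel.ι D
    rw [IsIso.inv_comp_eq, hg]))⟩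

end Groth.Agent.S19606
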