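import Groth.Statements.S19608
import Groth.Agent.Stk19b.Quot.Stack

set_option autoImplicit false
universe u
open CategoryTheory AlgebraicGeometry
open AlgSt

set_option backward.isDefEq.respectTransparency.types false
set_option backward.isDefEq.respectTransparency false

namespace Groth.Agent.S19608


/-- Let G be a group scheme over a scheme S with G ⟶ S affine, flat and locally of finite presentation.
Then the classifying category BG over (Sch/S) — objects over T the G-torsors P ⟶ T for the fpqc
topology which are schemes, morphisms the equivariant cartesian squares — is a stack over (Sch/S)
with the fpqc topology. The published statement is effective descent of principal G-bundles (with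
their isomorphisms) along a single fpqc morphism S' → S, together with the descent of morphisms of
schemes proved before it; the stack property for fpqc covering families stated here packages the two
(a covering family being replaced by the disjoint union of its members). -/
theorem result (S : Scheme.{u}) (G : Over S) [GrpObj G] [IsAffineHom G.hom]
    [Flat G.hom] [LocallyOfFinitePresentation G.hom] :
    Stk.IsStack (QuotSh.J Scheme.fpqcPrecoverage S) (AlgSt.BG Scheme.fpqcPrecoverage G) := by
  exact Groth.Agent.Stk19b.Quot.isStack_fpqc (AlgSt.trivAction G)

end Groth.Agent.S19608
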