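import Groth.Statements.S19609
import Mathlib

set_option linter.all false

set_option autoImplicit false
universe u
open CartMod

open TensorProduct

namespace Groth.Agent.S19609

/-- Let p be a prime and u : A → B a ring homomorphism between commutative rings which are complete and
separated for the p-adic topology and have no p-torsion (flat over the p-adic base). If u induces a
bijection A/pA → B/pB (injectivity: u a ∈ pB forces a ∈ pA; surjectivity: every b ∈ B is congruent
to some u a modulo pB), then u is bijective. (The published statement is for a morphism of flat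
p-adic formal schemes over the Witt vectors of a perfect field: if its special fibre is an
isomorphism, so is the morphism; this row is its affine, ring-level case.) -/
theorem result (p : ℕ) [Fact p.Prime]
    {A B : Type u} [CommRing A] [CommRing B]
    [IsAdicComplete (Ideal.span {(p : A)}) A] [IsAdicComplete (Ideal.span {(p : B)}) B]
    (hA : IsSMulRegular A (p : A)) (hB : IsSMulRegular B (p : B)) (u : A →+* B)
    (hinj : ∀ a : A, u a ∈ Ideal.span {(p : B)} → a ∈ Ideal.span {(p : A)})
    (hsurj : ∀ b : B, ∃ a : A, b - u a ∈ Ideal.span {(p : B)}) :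
    Function.Bijective u := by
  have mA : ∀ (n : ℕ) (x : A), x ∈ (Ideal.span {(p : A)} ^ n • ⊤ : Submodule A A) ↔ ∃ y, x = (p : A) ^ n * y := by
    intro n x
    rw [smul_eq_mul, Ideal.mul_top, Ideal.span_singleton_pow, Ideal.mem_span_singleton']
    exact ⟨fun ⟨y, hy⟩ => ⟨y, by rw [← hy, mul_comm]⟩, fun ⟨y, hy⟩ => ⟨y, by rw [hy, mul_comm]⟩⟩
  have mB : ∀ (n : ℕ) (x : B), x ∈ (Ideal.span {(p : B)} ^ n • ⊤ : Submodule B B) ↔ ∃ y, x = (p : B) ^ n * y := by
    intro n x
    rw [smul_eq_mul, Ideal.mul_top, Ideal.span_singleton_pow, Ideal.mem_span_singleton']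
    exact ⟨fun ⟨y, hy⟩ => ⟨y, by rw [← hy, mul_comm]⟩, fun ⟨y, hy⟩ => ⟨y, by rw [hy, mul_comm]⟩⟩
  constructor
  · rw [injective_iff_map_eq_zero]
    intro a ha
    have hdiv : ∀ (n : ℕ) (a : A), u a = 0 → ∃ y, a = (p : A) ^ n * y ∧ u y = 0 := by
      intro n
      induction n with
      | zero => intro a ha; exact ⟨a, by simp, ha⟩
      | succ n ih =>
        intro a ha
        obtain ⟨y, hy, hy0⟩ := ih a ha
        obtain ⟨z, hz⟩ := Ideal.mem_span_singleton'.1 (hinj y (by rw [hy0]; exact zero_mem _))
        refine ⟨z, by rw [hy, ← hz]; ring, hB ?_⟩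
        rw [← hz, map_mul, map_natCast, mul_comm] at hy0
        simpa [smul_eq_mul] using hy0
    refine IsHausdorff.haus (inferInstance : IsHausdorff (Ideal.span {(p : A)}) A) a fun n => ?_
    obtain ⟨y, hy, -⟩ := hdiv n a ha
    rw [SModEq.zero, mA]
    exact ⟨y, hy⟩
  · intro b
    have step : ∀ b : B, ∃ (a : A) (b' : B), b = u a + (p : B) * b' := fun b => by
      obtain ⟨a, ha⟩ := hsurj b
      obtain ⟨c, hc⟩ := Ideal.mem_span_singleton'.1 ha
      exact ⟨a, c, by linear_combination -hc⟩
    choose ca cb hcab using step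
    let bs : ℕ → B := fun n => cb^[n] b
    let as : ℕ → A := fun n => ∑ i ∈ Finset.range n, (p : A) ^ i * ca (bs i)
    have key : ∀ n, b = u (as n) + (p : B) ^ n * bs n := by
      intro n
      induction n with
      | zero => simp [as, bs]
      | succ n ih =>
        simp only [as, bs, Finset.sum_range_succ, map_add, map_mul, map_pow, map_natCast, Function.iterate_succ_apply'] at ih ⊢
        conv_lhs => rw [ih, hcab (cb^[n] b)]
        ring
    obtain ⟨L, hL⟩ := IsPrecomplete.prec (I := Ideal.span {(p : A)}) inferInstance (f := as) (fun {m n} hmn => by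
      rw [SModEq.sub_mem, mA]
      obtain ⟨d, rfl⟩ := Nat.exists_eq_add_of_le hmn
      refine ⟨-∑ i ∈ Finset.range d, (p : A) ^ i * ca (bs (m + i)), ?_⟩
      simp only [as, Finset.sum_range_add, pow_add, mul_neg, Finset.mul_sum, mul_assoc]
      ring)
    refine ⟨L, ?_⟩
    rw [← sub_eq_zero]
    refine IsHausdorff.haus (inferInstance : IsHausdorff (Ideal.span {(p : B)}) B) _ fun n => ?_
    rw [SModEq.zero, mB]
    have h := hL n
    rw [SModEq.sub_mem, mA] at h
    obtain ⟨y, hy⟩ := h
    refine ⟨-(u y) - bs n, ?_⟩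
    have h2 := congrArg u hy
    simp only [map_sub, map_mul, map_pow, map_natCast] at h2
    linear_combination -h2 - key n

end Groth.Agent.S19609
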