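import Groth.Statements.S19610
import Mathlib
import Groth.Prelude
import Groth.Agent.FlatCrit.Tor

set_option linter.all false

set_option autoImplicit false
universe u
open scoped TensorProduct
open CartMod

open scoped TensorProduct
open WittVector

namespace Groth.Agent.S19610

/-- Let p be a prime and B a commutative algebra over the commutative ring A, both complete and
separated for the p-adic topology and both without p-torsion (flat over the p-adic base). If B/pB is
flat over A/pA, then B/p^nB is flat over A/p^nA for every n ≥ 1 (the quotients are written as base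
changes (A/p^n) ⊗_A B). (The published statement is for a morphism of flat p-adic formal schemes
over the Witt vectors of a perfect field: if its special fibre is flat, so are the induced morphisms
of schemes modulo every power of p; this row is its affine, ring-level case.) -/
theorem result (p : ℕ) [Fact p.Prime]
    {A B : Type u} [CommRing A] [CommRing B] [Algebra A B]
    [IsAdicComplete (Ideal.span {(p : A)}) A] [IsAdicComplete (Ideal.span {(p : B)}) B]
    (hA : IsSMulRegular A (p : A)) (hB : IsSMulRegular B (p : B))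
    (h : Module.Flat (A ⧸ Ideal.span {(p : A)}) ((A ⧸ Ideal.span {(p : A)}) ⊗[A] B))
    (n : ℕ) (hn : 1 ≤ n) :
    Module.Flat (A ⧸ (Ideal.span {(p : A)} ^ n)) ((A ⧸ (Ideal.span {(p : A)} ^ n)) ⊗[A] B) := by
  set P : Ideal A := Ideal.span {(p : A)}
  have hq := Groth.Agent.FlatCrit.quotFlat_of_flat (R := A) (M := B) P h
  set q : A ⧸ (P ^ n) := Ideal.Quotient.mk (P ^ n) (p : A)
  have hqn : q ^ n = 0 := by
    rw [← map_pow, Ideal.Quotient.eq_zero_iff_mem]
    exact Ideal.pow_mem_pow (Ideal.mem_span_singleton_self _) n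
  refine Groth.Agent.FlatCrit.flat_of_isNilpotent (I := Ideal.span {q}) ?_ ?_ ⟨n, (Ideal.span_singleton_pow q n).trans (by rw [hqn]; simp)⟩
  · let g : (A ⧸ P ^ n) →ₗ[A ⧸ P ^ n] Ideal.span {q} :=
      (LinearMap.mulRight (A ⧸ P ^ n) q).codRestrict _ (fun r => Ideal.mul_mem_left _ _ (Ideal.mem_span_singleton_self q))
    have hg : Function.Surjective g := by
      rintro ⟨z, hz⟩
      obtain ⟨a, rfl⟩ := Ideal.mem_span_singleton'.mp hz
      exact ⟨a, rfl⟩
    rw [injective_iff_map_eq_zero]
    intro x hx
    obtain ⟨y, rfl⟩ := LinearMap.rTensor_surjective _ hg x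
    obtain ⟨m, rfl⟩ := (TensorProduct.lid (A ⧸ P ^ n) _).symm.surjective y
    have hqm : q • m = 0 := by
      have hg1 : (g 1 : A ⧸ P ^ n) = q := one_mul q
      simpa [hg1, -LinearMap.codRestrict_apply] using congrArg (TensorProduct.lid (A ⧸ P ^ n) _) hx
    obtain ⟨b, rfl⟩ := TensorProduct.mk_surjective A B (A ⧸ P ^ n) Ideal.Quotient.mk_surjective m
    have hpb : (p : A) • b ∈ (P ^ n) • (⊤ : Submodule A B) := by
      rw [← Submodule.Quotient.mk_eq_zero]
      have h0 : (1 : A ⧸ P ^ n) ⊗ₜ[A] ((p : A) • b) = 0 := by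
        rw [TensorProduct.tmul_smul]
        exact (algebraMap_smul (A ⧸ P ^ n) (p : A) _).symm.trans hqm
      have := congrArg (TensorProduct.quotTensorEquivQuotSMul B (P ^ n)) h0
      simpa using this
    rw [Ideal.span_singleton_pow, Submodule.ideal_span_singleton_smul] at hpb
    obtain ⟨b', -, hb'⟩ := hpb
    have hb'' : b = ((p : A) ^ (n - 1)) • b' := by
      apply hB
      simp only [DistribSMul.toLinearMap_apply] at hb'
      show (p : B) * b = (p : B) * _
      have e1 : ∀ z : B, (p : B) * z = (p : A) • z := fun z => by rw [Algebra.smul_def, map_natCast]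
      rw [e1, e1, ← mul_smul, ← pow_succ', Nat.sub_add_cancel hn, ← hb']
    have hm : (1 : A ⧸ P ^ n) ⊗ₜ[A] b = (q ^ (n - 1)) • ((1 : A ⧸ P ^ n) ⊗ₜ[A] b') := by
      rw [hb'', TensorProduct.tmul_smul, ← algebraMap_smul (A ⧸ P ^ n), map_pow]; rfl
    simp only [TensorProduct.lid_symm_apply, LinearMap.rTensor_tmul, TensorProduct.mk_apply]
    rw [hm, ← TensorProduct.smul_tmul, ← map_smul, smul_eq_mul, mul_one]
    have : g (q ^ (n - 1)) = 0 := by
      apply Subtype.ext
      show q ^ (n - 1) * q = 0
      rw [← pow_succ, Nat.sub_add_cancel hn, hqn]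
    rw [this, TensorProduct.zero_tmul]
  · intro X Y _ _ _ _ i hY hi
    letI : Module A X := Module.compHom X (algebraMap A (A ⧸ P ^ n))
    letI : Module A Y := Module.compHom Y (algebraMap A (A ⧸ P ^ n))
    haveI : IsScalarTower A (A ⧸ P ^ n) X := IsScalarTower.of_algebraMap_smul fun _ _ => rfl
    haveI : IsScalarTower A (A ⧸ P ^ n) Y := IsScalarTower.of_algebraMap_smul fun _ _ => rfl
    let eX := TensorProduct.AlgebraTensorModule.cancelBaseChange A (A ⧸ P ^ n) (A ⧸ P ^ n) X B
    let eY := TensorProduct.AlgebraTensorModule.cancelBaseChange A (A ⧸ P ^ n) (A ⧸ P ^ n) Y B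
    have hinj : Function.Injective ((i.restrictScalars A).rTensor B) := hq _ (fun r hr y => by
      obtain ⟨a, rfl⟩ := Ideal.mem_span_singleton'.1 hr
      exact hY (Ideal.Quotient.mk (P ^ n) (a * (p : A))) (by rw [map_mul]; exact Ideal.mul_mem_left _ _ (Ideal.mem_span_singleton_self q)) y) hi
    have hcomm : ∀ x, eY (i.rTensor _ x) = (i.restrictScalars A).rTensor B (eX x) := by
      intro x
      induction x with
      | zero => simp
      | add x y hx hy => simp [hx, hy]
      | tmul a y =>
        induction y with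
        | zero => simp
        | add x y hx hy => rw [TensorProduct.tmul_add, map_add, map_add, map_add, map_add, hx, hy]
        | tmul c m => simp [eX, eY]
    intro x y hxy
    exact eX.injective (hinj (by rw [← hcomm, ← hcomm, hxy]))

end Groth.Agent.S19610
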