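import Groth.Statements.S19611
import Mathlib.AlgebraicGeometry.Morphisms.Flat
import Mathlib.Topology.Sheaves.Stalks

set_option autoImplicit false
set_option linter.style.haveILetI false
universe u
open CategoryTheory AlgebraicGeometry
open CartMod

namespace Groth.Agent.S19611

/-- For a prime p and a scheme Y of characteristic p, write Y♭ for the scheme-theoretic image of the
absolute Frobenius F_Y : Y → Y, i.e. the closed subscheme of Y defined by the sections of O_Y whose
p-th power vanishes, and Y → Y♭ for the canonical morphism through which F_Y factors. Then Y → Y♭ is
an epimorphism of schemes: two morphisms g₁, g₂ from Y♭ to a scheme Z with equal composites Y → Y♭ →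
Z are equal. (The published statement is for k-morphisms g₁, g₂ from Y♭ to a k-scheme Z over a
perfect field k of characteristic p, compared after Frobenius twist through Y → (Y♭)'; this row asks
right-cancellation against morphisms to every scheme Z, which is equivalent to it for k-morphisms.) -/
theorem result (p : ℕ) [Fact p.Prime] (Y : Scheme.{u}) [FrobSch.IsCharP Y p] :
    Epi (FrobSch.frob Y p).toImage := by
  haveI : QuasiCompact (FrobSch.frob Y p) := ⟨fun U _ hUc => by simpa using hUc⟩
  have hsurj : Function.Surjective (FrobSch.frob Y p).toImage := fun z =>
    ⟨(FrobSch.frob Y p).imageι z, (FrobSch.frob Y p).imageι.isEmbedding.injective rfl⟩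
  have hind : Topology.IsInducing (FrobSch.frob Y p).toImage := by
    have h1 : Topology.IsInducing ((FrobSch.frob Y p).imageι ∘ (FrobSch.frob Y p).toImage) :=
      (Topology.IsInducing.id : Topology.IsInducing (id : Y → Y))
    exact Topology.IsInducing.of_comp (FrobSch.frob Y p).toImage.continuous (FrobSch.frob Y p).imageι.continuous h1
  apply CategoryTheory.Functor.epi_of_epi_map (Scheme.forgetToLocallyRingedSpace)
  apply CategoryTheory.Functor.epi_of_epi_map (LocallyRingedSpace.forgetToSheafedSpace)
  apply SheafedSpace.epi_of_base_surjective_of_stalk_mono _ hsurj
  intro x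
  apply ConcreteCategory.mono_of_injective
  haveI := TopCat.Presheaf.stalkPushforward.stalkPushforward_iso_of_isInducing (C := CommRingCat) (hf := hind) Y.presheaf x
  refine Function.Injective.comp
    (g := TopCat.Presheaf.stalkPushforward _ (FrobSch.frob Y p).toImage.base Y.presheaf x)
    ?_ ((FrobSch.frob Y p).stalkFunctor_toImage_injective _)
  exact (ConcreteCategory.bijective_of_isIso _).1

end Groth.Agent.S19611
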