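import Groth.Statements.S19612
import Mathlib
import Groth.Prelude
import Groth.Agent.FlatCrit.Tor

set_option linter.all false

set_option autoImplicit false
universe u
open scoped TensorProduct
open CartMod

open scoped TensorProduct
open WittVector

namespace Groth.Agent.S19612

/-- Let k be a perfect field of characteristic p, W = W(k) the ring of Witt vectors of k, and A a
commutative W-algebra which is complete and separated for the p-adic topology (an adic W-algebra).
Then flatness of A over W is equivalent to flatness of A/p^nA = (W/p^nW) ⊗_W A over W/p^nW for every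
n ≥ 1. -/
theorem result (p : ℕ) [Fact p.Prime] (k : Type u) [Field k]
    [CharP k p] [PerfectRing k p] (A : Type u) [CommRing A] [Algebra (WittVector p k) A]
    [IsAdicComplete (Ideal.span {(p : WittVector p k)}) A] :
    Module.Flat (WittVector p k) A ↔
      ∀ n : ℕ, 1 ≤ n →
        Module.Flat (WittVector p k ⧸ (Ideal.span {(p : WittVector p k)} ^ n))
          ((WittVector p k ⧸ (Ideal.span {(p : WittVector p k)} ^ n)) ⊗[WittVector p k] A) := by
  set W := WittVector p k
  refine ⟨fun hflat n _ => inferInstance, fun h => ?_⟩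
  have hp : Irreducible (p : W) := WittVector.irreducible p
  have key : ∀ x : A, (p : W) • x = 0 → x = 0 := by
    intro x hx
    refine IsHausdorff.haus (inferInstance : IsHausdorff (Ideal.span {(p : W)}) A) x fun m => ?_
    rw [SModEq.zero]
    set n := m + 1
    set R := W ⧸ (Ideal.span {(p : W)} ^ n)
    haveI := h n (Nat.le_add_left 1 m)
    have hx1 : ∑ i : Fin 1, (![algebraMap W R (p : W)] i) • (![(1 : R) ⊗ₜ[W] x] i) = 0 := by
      simp [← TensorProduct.tmul_smul, algebraMap_smul, hx]
    obtain ⟨κ, a, y, hy, ha⟩ := Module.Flat.isTrivialRelation_of_sum_smul_eq_zero (R := R) hx1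
    have hy0 := hy 0
    simp only [Matrix.cons_val_fin_one] at hy0
    have hdiv : ∀ j, ∃ r : R, a 0 j = algebraMap W R ((p : W) ^ m) * r := by
      intro j
      have h0 := ha j
      simp only [Fin.sum_univ_one, Matrix.cons_val_fin_one] at h0
      obtain ⟨w, hw⟩ := Ideal.Quotient.mk_surjective (a 0 j)
      rw [← hw, Ideal.Quotient.algebraMap_eq, ← map_mul, Ideal.Quotient.eq_zero_iff_mem, Ideal.span_singleton_pow, Ideal.mem_span_singleton, pow_succ'] at h0
      obtain ⟨c, hc⟩ := (mul_dvd_mul_iff_left hp.ne_zero).1 h0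
      exact ⟨Ideal.Quotient.mk _ c, by rw [← hw, hc, map_mul]; rfl⟩
    choose r hr using hdiv
    have h1 : (1 : R) ⊗ₜ[W] x = (p : W) ^ m • ∑ j, r j • y j := by
      rw [hy0, Finset.smul_sum]
      refine Finset.sum_congr rfl fun j _ => ?_
      rw [hr j, mul_smul, algebraMap_smul]
    obtain ⟨z, hz⟩ := TensorProduct.mk_surjective W A R Ideal.Quotient.mk_surjective (∑ j, r j • y j)
    rw [← hz, TensorProduct.mk_apply, ← TensorProduct.tmul_smul] at h1
    have h2 := congrArg (TensorProduct.quotTensorEquivQuotSMul A (Ideal.span {(p : W)} ^ n)) h1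
    simp only [← map_one (Ideal.Quotient.mk (Ideal.span {(p : W)} ^ n))] at h2
    erw [TensorProduct.quotTensorEquivQuotSMul_mk_tmul, TensorProduct.quotTensorEquivQuotSMul_mk_tmul, one_smul, one_smul] at h2
    rw [Submodule.Quotient.eq] at h2
    have hle : Ideal.span {(p : W)} ^ n • (⊤ : Submodule W A) ≤ Ideal.span {(p : W)} ^ m • ⊤ :=
      Submodule.smul_mono_left (Ideal.pow_le_pow_right (Nat.le_succ m))
    have := (Ideal.span {(p : W)} ^ m • (⊤ : Submodule W A)).add_mem (hle h2)
      (Submodule.smul_mem_smul (Ideal.pow_mem_pow (Ideal.mem_span_singleton_self _) m) (Submodule.mem_top (x := z)))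
    simpa using this
  rw [Module.Flat.flat_iff_torsion_eq_bot_of_isBezout, eq_bot_iff]
  rintro x ⟨⟨c, hc⟩, hcx⟩
  obtain ⟨m, u, rfl⟩ := IsDiscreteValuationRing.eq_unit_mul_pow_irreducible (nonZeroDivisors.ne_zero hc) hp
  have hcx' : ((u : W) * (p : W) ^ m) • x = 0 := hcx
  rw [mul_smul, ← Units.smul_def, smul_eq_zero_iff_eq] at hcx'
  clear hcx hc
  induction m with
  | zero => simpa using hcx'
  | succ m ih => exact ih (key _ (by rwa [← mul_smul, ← pow_succ']))

end Groth.Agent.S19612
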