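import Groth.Statements.S19616
import Mathlib
-- import your own Groth.Agent.* helpers here

set_option autoImplicit false
universe u
open CartMod

namespace Groth.Agent.S19616

set_option maxHeartbeats 1000000 in
set_option synthInstance.maxHeartbeats 200000 in
/-- Let p be a prime, A a commutative ring which is complete and separated for the p-adic topology and
has no p-torsion, and a_1, …, a_n elements of A (so that (p, a_1, …, a_n) is an open ideal
containing p). Then there is a commutative A-algebra D, complete and separated for the p-adic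
topology and without p-torsion, in which each a_i is divisible by p, with the following universal
property: for every A-algebra B which is p-adically complete and separated, has no p-torsion, and in
which each a_i is divisible by p, there is exactly one A-algebra homomorphism D → B; moreover this
homomorphism is surjective whenever A → B is. (D is the coordinate ring of the dilatation of Spf A
with respect to p along the closed subscheme defined by (p, a_1, …, a_n). The published statement is
for flat p-adic formal schemes locally of finite type over the Witt vectors of a perfect field; this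
row is its affine, ring-level case without a finiteness hypothesis.) -/
theorem result (p : ℕ) [Fact p.Prime]
    (A : Type u) [CommRing A] [IsAdicComplete (Ideal.span {(p : A)}) A]
    (hA : IsSMulRegular A (p : A)) {n : ℕ} (a : Fin n → A) :
    ∃ (D : Type u) (_ : CommRing D) (_ : Algebra A D),
      IsAdicComplete (Ideal.span {(p : D)}) D ∧ IsSMulRegular D (p : D) ∧
      (∀ i, algebraMap A D (a i) ∈ Ideal.span {(p : D)}) ∧
      ∀ (B : Type u) [CommRing B] [Algebra A B] [IsAdicComplete (Ideal.span {(p : B)}) B],
        IsSMulRegular B (p : B) → (∀ i, algebraMap A B (a i) ∈ Ideal.span {(p : B)}) →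
          Nonempty (D →ₐ[A] B) ∧ Subsingleton (D →ₐ[A] B) ∧
            (Function.Surjective (algebraMap A B) → ∀ f : D →ₐ[A] B, Function.Surjective f) := by
  classical
  let T := Localization.Away (p : A)
  have hp0 : (p : A) ∈ nonZeroDivisors A := by
    rw [mem_nonZeroDivisors_iff_right]; intro z hz
    exact hA (show (p : A) • z = (p : A) • 0 by simp [mul_comm (p : A) z, hz])
  let g : Fin n → T := fun i => algebraMap A T (a i) * IsLocalization.Away.invSelf (p : A)
  let D0 : Subalgebra A T := Algebra.adjoin A (Set.range g)
  have hpT : IsUnit (algebraMap A T (p : A)) := IsLocalization.Away.algebraMap_isUnit _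
  have hD0 : ∀ x : D0, (p : D0) * x = 0 → x = 0 := by
    intro x hx
    apply Subtype.ext
    apply hpT.mul_left_cancel
    have := congrArg Subtype.val hx
    simpa using this
  let I : Ideal D0 := Ideal.span {(p : D0)}
  have hIfg : I.FG := Submodule.fg_span_singleton _
  let D := AdicCompletion I D0
  have hImap : I.map (algebraMap D0 D) = Ideal.span {(p : D)} := by
    rw [Ideal.map_span, Set.image_singleton, map_natCast]
  have hcomp : IsAdicComplete (Ideal.span {(p : D)}) D := by
    rw [← hImap, IsAdicComplete.map_algebraMap_iff]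
    exact AdicCompletion.isAdicComplete hIfg
  have hker : ∀ (m : ℕ) (x : D), AdicCompletion.evalₐ I m x = 0 → ∃ y : D, x = (p : D) ^ m * y := by
    intro m x hx
    have h1 : AdicCompletion.eval I D0 m x = 0 := by
      have hle : I ^ m ≤ (I ^ m • ⊤ : Ideal D0) := by simp
      rw [← AdicCompletion.factor_evalₐ_eq_eval I x hle, hx, map_zero]
    have h2 : x ∈ (AdicCompletion.eval I D0 m).ker := LinearMap.mem_ker.2 h1
    rw [← AdicCompletion.pow_smul_top_eq_ker_eval hIfg, Ideal.span_singleton_pow,
      Submodule.ideal_span_singleton_smul] at h2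
    obtain ⟨y, -, hy⟩ := (Submodule.mem_smul_pointwise_iff_exists x _ _).1 h2
    exact ⟨y, hy.symm.trans ((Algebra.smul_def ((p : D0) ^ m) y).trans (by rw [map_pow, map_natCast]))⟩
  have hev : ∀ (m k : ℕ), m ≤ k → ∀ (d : D0) (z x : D), x - AdicCompletion.of I D0 d = (p : D) ^ k * z →
      AdicCompletion.evalₐ I m x = Ideal.Quotient.mk (I ^ m) d := by
    intro m k hle d z x hx
    have h0 : ((p : D0 ⧸ I ^ m)) ^ k = 0 := by
      rw [← map_natCast (Ideal.Quotient.mk (I ^ m)), ← map_pow, Ideal.Quotient.eq_zero_iff_mem]
      exact Ideal.pow_le_pow_right hle (Ideal.pow_mem_pow (Ideal.mem_span_singleton_self _) k)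
    have := congrArg (AdicCompletion.evalₐ I m).toRingHom hx
    simp only [map_sub, map_mul, map_pow, map_natCast, AlgHom.toRingHom_eq_coe, RingHom.coe_coe,
      AdicCompletion.evalₐ_of, h0, zero_mul, sub_eq_zero] at this
    exact this
  refine ⟨D, inferInstance, inferInstance, hcomp, ?_, ?_, ?_⟩
  · intro x y hxy
    rw [← sub_eq_zero]
    have h0 : (p : D) * (x - y) = 0 := by
      rw [mul_sub, sub_eq_zero]; exact hxy
    refine AdicCompletion.ext_evalₐ fun m => ?_
    obtain ⟨d, hd⟩ := Ideal.Quotient.mk_surjective (AdicCompletion.evalₐ I (m + 1) (x - y))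
    have h1 : (p : D0) * d ∈ I ^ (m + 1) := by
      rw [← Ideal.Quotient.eq_zero_iff_mem, map_mul, hd, map_natCast]
      have := congrArg (AdicCompletion.evalₐ I (m + 1)) h0
      rwa [map_mul, map_natCast, map_zero] at this
    rw [Ideal.span_singleton_pow, Ideal.mem_span_singleton] at h1
    obtain ⟨c, hc⟩ := h1
    have hd' : d = (p : D0) ^ m * c := by
      rw [← sub_eq_zero]
      apply hD0
      rw [mul_sub, hc, pow_succ]; ring
    have h2 : x - y - AdicCompletion.of I D0 d ∈ RingHom.ker (AdicCompletion.evalₐ I (m + 1)) := by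
      rw [RingHom.mem_ker]
      show AdicCompletion.evalₐ I (m + 1) (x - y - AdicCompletion.of I D0 d) = 0
      rw [map_sub, AdicCompletion.evalₐ_of, hd, sub_self]
    obtain ⟨z, hz⟩ := hker (m + 1) _ h2
    rw [hev m (m + 1) (Nat.le_succ m) d z (x - y) hz, hd', map_mul, map_pow, map_natCast]
    have hz0 : ((p : D0 ⧸ I ^ m)) ^ m = 0 := by
      rw [← map_natCast (Ideal.Quotient.mk (I ^ m)), ← map_pow, Ideal.Quotient.eq_zero_iff_mem]
      exact Ideal.pow_mem_pow (Ideal.mem_span_singleton_self _) m
    rw [hz0, zero_mul]
    exact (map_zero (AdicCompletion.evalₐ I m).toRingHom).symm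
  · intro i
    rw [Ideal.mem_span_singleton]
    refine ⟨algebraMap D0 D ⟨g i, Algebra.subset_adjoin ⟨i, rfl⟩⟩, ?_⟩
    rw [← map_natCast (algebraMap D0 D) p, ← map_mul]
    show algebraMap D0 D (algebraMap A D0 (a i)) = _
    congr 1
    apply Subtype.ext
    have h : algebraMap A T (p : A) * IsLocalization.Away.invSelf (p : A) = 1 := IsLocalization.Away.mul_invSelf _
    rw [map_natCast] at h
    show algebraMap A T (a i) = (p : T) * (algebraMap A T (a i) * IsLocalization.Away.invSelf (p : A))
    rw [mul_left_comm, h, mul_one]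
  · intro B _ _ _ hB ha
    have hinjB : ∀ x : B, (p : B) * x = 0 → x = 0 := fun x hx => hB (show (p : B) • x = (p : B) • 0 by simpa using hx)
    have hBnz : algebraMap A B (p : A) ∈ nonZeroDivisors B := by
      rw [mem_nonZeroDivisors_iff_right]; intro z hz
      exact hinjB z (by rwa [map_natCast, mul_comm] at hz)
    let TB := Localization.Away (algebraMap A B (p : A))
    have hjB : Function.Injective (algebraMap B TB) := IsLocalization.injective _ (Submonoid.powers_le.2 hBnz)
    have hu : IsUnit ((IsScalarTower.toAlgHom A B TB).toRingHom.comp (algebraMap A B) (p : A)) :=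
      IsLocalization.Away.algebraMap_isUnit (algebraMap A B (p : A))
    let F : T →+* TB := IsLocalization.Away.lift (S := T) (p : A) hu
    have hF : ∀ x, F (algebraMap A T x) = algebraMap B TB (algebraMap A B x) := fun x =>
      IsLocalization.Away.lift_eq (S := T) (p : A) hu x
    have hmem : ∀ x ∈ D0, F x ∈ (algebraMap B TB).range := by
      intro x hx
      induction hx using Algebra.adjoin_induction with
      | mem x hx =>
        obtain ⟨i, rfl⟩ := hx
        obtain ⟨b, hb⟩ := Ideal.mem_span_singleton.1 (ha i)
        refine ⟨b, ((hpT.map F).mul_left_cancel ?_)⟩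
        rw [← map_mul, mul_left_comm, IsLocalization.Away.mul_invSelf, mul_one, hF, hF, ← map_mul]
        refine congrArg (algebraMap B TB) ?_
        rw [hb]
        exact congrArg (· * b) (map_natCast (algebraMap A B) p)
      | algebraMap r => exact ⟨_, (hF r).symm⟩
      | add x y _ _ hx hy => rw [map_add]; exact add_mem hx hy
      | mul x y _ _ hx hy => rw [map_mul]; exact mul_mem hx hy
    choose f0 hf0 using hmem
    let f : D0 →ₐ[A] B :=
      { toFun := fun x => f0 x.1 x.2
        map_one' := hjB (by rw [hf0, map_one]; exact map_one _)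
        map_zero' := hjB (by rw [hf0, map_zero]; exact map_zero _)
        map_mul' := fun x y => hjB (by rw [map_mul, hf0, hf0, hf0]; exact map_mul _ _ _)
        map_add' := fun x y => hjB (by rw [map_add, hf0, hf0, hf0]; exact map_add _ _ _)
        commutes' := fun r => hjB (by rw [hf0]; exact hF r) }
    have huniq : ∀ f₁ f₂ : D0 →ₐ[A] B, f₁ = f₂ := by
      intro f₁ f₂
      refine AlgHom.ext fun y => ?_
      obtain ⟨y, hy⟩ := y
      induction hy using Algebra.adjoin_induction with
      | algebraMap r => exact (f₁.commutes r).trans (f₂.commutes r).symm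
      | add u v hu hv iu iv =>
        show f₁ (⟨u, hu⟩ + ⟨v, hv⟩) = f₂ (⟨u, hu⟩ + ⟨v, hv⟩)
        rw [map_add, map_add, iu, iv]
      | mul u v hu hv iu iv =>
        show f₁ (⟨u, hu⟩ * ⟨v, hv⟩) = f₂ (⟨u, hu⟩ * ⟨v, hv⟩)
        rw [map_mul, map_mul, iu, iv]
      | mem z hz => ?_
      obtain ⟨i, hi⟩ := hz
      set x : D0 := ⟨z, _⟩ with hxdef
      have hxg : (p : D0) * x = algebraMap A D0 (a i) := by
        apply Subtype.ext
        have h : algebraMap A T (p : A) * IsLocalization.Away.invSelf (p : A) = 1 := IsLocalization.Away.mul_invSelf _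
        rw [map_natCast] at h
        rw [MulMemClass.coe_mul]
        show _ * z = _
        rw [← hi]
        show (p : T) * (algebraMap A T (a i) * IsLocalization.Away.invSelf (p : A)) = algebraMap A T (a i)
        rw [mul_left_comm, h, mul_one]
      rw [← sub_eq_zero]
      apply hinjB
      have e1 := congrArg f₁ hxg
      have e2 := congrArg f₂ hxg
      rw [map_mul, map_natCast, AlgHom.commutes] at e1 e2
      rw [mul_sub, e1, e2, sub_self]
    let J : Ideal B := Ideal.span {(p : B)}
    have hIJ : ∀ m : ℕ, I ^ m ≤ (J ^ m).comap f := by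
      intro m
      rw [Ideal.span_singleton_pow, Ideal.span_le, Set.singleton_subset_iff, SetLike.mem_coe, Ideal.mem_comap, map_pow,
        map_natCast]
      exact Ideal.pow_mem_pow (Ideal.mem_span_singleton_self _) m
    let fm : ∀ m, D →ₐ[A] B ⧸ J ^ m := fun m =>
      ((Ideal.quotientMapₐ (J ^ m) f (hIJ m)).comp ((AdicCompletion.evalₐ I m).restrictScalars A))
    have hfm : ∀ (m : ℕ) (x : D) (d : D0), Ideal.Quotient.mk _ d = AdicCompletion.evalₐ I m x →
        fm m x = Ideal.Quotient.mk _ (f d) := by
      intro m x d hd
      show Ideal.quotientMapₐ (J ^ m) f (hIJ m) (AdicCompletion.evalₐ I m x) = _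
      rw [← hd]
      rfl
    have hcompat : ∀ {m k : ℕ} (hle : m ≤ k),
        (Ideal.Quotient.factorₐ A (Ideal.pow_le_pow_right hle)).comp (fm k) = fm m := by
      intro m k hle
      refine AlgHom.ext fun x => ?_
      obtain ⟨d, hd⟩ := Ideal.Quotient.mk_surjective (AdicCompletion.evalₐ I k x)
      have hd' : Ideal.Quotient.mk (I ^ m) d = AdicCompletion.evalₐ I m x := by
        have h2 : x - algebraMap D0 D d ∈ RingHom.ker (AdicCompletion.evalₐ I k) := by
          rw [RingHom.mem_ker]
          show AdicCompletion.evalₐ I k (x - AdicCompletion.of I D0 d) = 0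
          rw [map_sub, AdicCompletion.evalₐ_of, hd, sub_self]
        obtain ⟨z, hz⟩ := hker k _ h2
        exact (hev m k hle d z x hz).symm
      rw [AlgHom.comp_apply, hfm k x d hd, hfm m x d hd']
      rfl
    haveI : IsAdicComplete J B := ‹_›
    refine ⟨⟨IsAdicComplete.liftAlgHom J fm hcompat⟩, ⟨fun f₁ f₂ => ?_⟩, ?_⟩
    · refine IsAdicComplete.algHom_ext J fun m => AlgHom.ext fun x => ?_
      obtain ⟨d, hd⟩ := Ideal.Quotient.mk_surjective (AdicCompletion.evalₐ I m x)
      have h2 : x - algebraMap D0 D d ∈ RingHom.ker (AdicCompletion.evalₐ I m) := by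
        rw [RingHom.mem_ker]
        show AdicCompletion.evalₐ I m (x - AdicCompletion.of I D0 d) = 0
        rw [map_sub, AdicCompletion.evalₐ_of, hd, sub_self]
      obtain ⟨z, hz⟩ := hker m _ h2
      have hres := congrArg (fun φ : D0 →ₐ[A] B => φ d)
        (huniq (f₁.comp (IsScalarTower.toAlgHom A D0 D)) (f₂.comp (IsScalarTower.toAlgHom A D0 D)))
      simp only [AlgHom.comp_apply, IsScalarTower.coe_toAlgHom'] at hres
      simp only [AlgHom.comp_apply, Ideal.Quotient.mkₐ_eq_mk]
      rw [eq_add_of_sub_eq hz, map_add f₁, map_add f₂, map_mul, map_mul, map_pow, map_pow, map_natCast, map_natCast,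
        hres, Ideal.Quotient.eq]
      refine (Ideal.span_singleton_pow (p : B) m).ge.trans' le_rfl ?_
      rw [add_sub_add_right_eq_sub, ← mul_sub]
      exact Ideal.mem_span_singleton.2 ⟨_, rfl⟩
    · intro hs φ b
      obtain ⟨x, rfl⟩ := hs b
      exact ⟨algebraMap A D x, φ.commutes x⟩

end Groth.Agent.S19616
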