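import Groth.Statements.S19618
import Mathlib

set_option autoImplicit false
universe u
open CategoryTheory CategoryTheory.Limits AlgebraicGeometry Opposite TopologicalSpace
open BlowUp

namespace Groth.Agent.S19618

/-- Let X be a locally Noetherian scheme, Y an effective Cartier divisor on X (a quasi-coherent ideal
sheaf which, near every point, is generated on some affine open by one nonzerodivisor; Y is its
support) and Z a closed integral subscheme (a closed immersion i from an integral scheme with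
generic point ξ). If Y and Z intersect properly — every point ζ of Y ∩ Z which is maximal under
generization inside Y ∩ Z satisfies dim O_{X,ζ} = codim(Y,X) + codim(Z,X), where codim(Y,X) is the
infimum over y ∈ Y of dim O_{X,y} and codim(Z,X) = dim O_{X,i(ξ)} — then Z is not contained in Y. -/
theorem result {X Z : Scheme.{u}}
    [IsLocallyNoetherian X] (𝓘 : X.IdealSheafData) (hY : BlowUp.IsEffCartierIdeal 𝓘)
    (i : Z ⟶ X) [IsClosedImmersion i] [IsIntegral Z]
    (hprop : ∀ ζ : ↥X, ζ ∈ (𝓘.support : Set ↥X) ∩ Set.range i.base →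
        (∀ ζ' : ↥X, ζ' ∈ (𝓘.support : Set ↥X) ∩ Set.range i.base → ζ' ⤳ ζ → ζ' = ζ) →
        ringKrullDim ↑(X.presheaf.stalk ζ) =
          (⨅ y : (𝓘.support : Set ↥X), ringKrullDim ↑(X.presheaf.stalk y.1)) +
            ringKrullDim ↑(X.presheaf.stalk (i (genericPoint ↥Z)))) :
    ¬ Set.range i.base ⊆ (𝓘.support : Set ↥X) := by
  intro hsub
  have hmax := hprop (i (genericPoint Z)) ⟨hsub ⟨_, rfl⟩, ⟨_, rfl⟩⟩ fun ζ' hζ' hs ↦ by
    obtain ⟨z, rfl⟩ := hζ'.2
    exact (hs.antisymm ((genericPoint_specializes z).map i.continuous)).eq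
  have hone : (1 : WithBot ℕ∞) ≤ ⨅ y : (𝓘.support : Set ↥X), ringKrullDim ↑(X.presheaf.stalk y.1) := by
    refine le_iInf fun y ↦ ?_
    obtain ⟨U, hyU, f, hf, hU⟩ := hY y.1
    let := (X.presheaf.germ U.1 y.1 hyU).hom.toAlgebra
    have := U.2.isLocalization_stalk ⟨y.1, hyU⟩
    have hmem : f ∈ (U.2.primeIdealOf ⟨y.1, hyU⟩).asIdeal := by
      have h1 := (Scheme.IdealSheafData.coe_support_inter 𝓘 U).subset ⟨y.2, hyU⟩
      have h2 := h1.1
      rw [Scheme.mem_zeroLocus_iff] at h2
      have h3 := h2 f (by rw [hU]; exact Ideal.subset_span rfl)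
      rw [Scheme.mem_basicOpen _ _ _ hyU] at h3
      by_contra h4
      exact h3 ((IsLocalization.AtPrime.isUnit_to_map_iff (X.presheaf.stalk y.1)
        (U.2.primeIdealOf ⟨y.1, hyU⟩).asIdeal f).2 h4)
    have hnzd : algebraMap Γ(X, U.1) (X.presheaf.stalk y.1) f ∈ nonZeroDivisors (X.presheaf.stalk y.1) :=
      IsLocalization.map_nonZeroDivisors_le (U.2.primeIdealOf ⟨y.1, hyU⟩).asIdeal.primeCompl
        (X.presheaf.stalk y.1) ⟨f, hf, rfl⟩
    have hmax' : algebraMap Γ(X, U.1) (X.presheaf.stalk y.1) f ∈ IsLocalRing.maximalIdeal (X.presheaf.stalk y.1) :=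
      (IsLocalization.AtPrime.to_map_mem_maximal_iff (X.presheaf.stalk y.1) (U.2.primeIdealOf ⟨y.1, hyU⟩).asIdeal f).2 hmem
    rw [← IsLocalRing.maximalIdeal_height_eq_ringKrullDim]
    have hne : (IsLocalRing.maximalIdeal (X.presheaf.stalk y.1)).height ≠ 0 := fun h ↦ by
      rw [Ideal.height_eq_zero_iff] at h
      exact Set.disjoint_left.1 (Ideal.disjoint_nonZeroDivisors_of_mem_minimalPrimes h) hmax' hnzd
    exact_mod_cast Order.one_le_iff_pos.2 (pos_iff_ne_zero.2 hne)
  obtain ⟨n, hn⟩ : ∃ n : ℕ, ringKrullDim ↑(X.presheaf.stalk (i (genericPoint Z))) = n := by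
    have h := ringKrullDim_lt_top (R := X.presheaf.stalk (i (genericPoint Z)))
    have h' := ringKrullDim_ne_bot (R := X.presheaf.stalk (i (genericPoint Z)))
    revert h h'
    rcases ringKrullDim ↑(X.presheaf.stalk (i (genericPoint Z))) with _ | (_ | n)
    · exact fun _ h ↦ absurd rfl h
    · exact fun h ↦ absurd h (lt_irrefl _)
    · exact fun _ _ ↦ ⟨n, rfl⟩
  rw [hn] at hmax
  have h := hmax.ge.trans' (add_le_add hone le_rfl)
  have h' : (1 + n : ℕ) ≤ n := by exact_mod_cast h
  omega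

end Groth.Agent.S19618
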