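import Groth.Statements.S19624
import Mathlib
import Groth.Prelude
import Groth.Agent.S0612

set_option linter.all false

set_option autoImplicit false
universe u v
open IntTh

open TensorProduct Pointwise

namespace Groth.Agent.S19624

theorem ord_eq_addVal {B : Type*} [CommRing B] [IsDomain B] [IsDiscreteValuationRing B] {x : B} (hx : x ≠ 0) :
    Ring.ord B x = IsDiscreteValuationRing.addVal B x := by
  obtain ⟨ϖ, hϖ⟩ := IsDiscreteValuationRing.exists_irreducible B
  obtain ⟨m, w, rfl⟩ := IsDiscreteValuationRing.eq_unit_mul_pow_irreducible hx hϖ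
  rw [IsDiscreteValuationRing.addVal_def' w hϖ, Ring.ord_mul_of_isUnit_left (R := B) w.isUnit,
    Ring.ord_pow (R := B) (mem_nonZeroDivisors_of_ne_zero hϖ.ne_zero), Ring.ord_of_irreducible hϖ, nsmul_one]

theorem length_coker_mulVecLin {B : Type u} [CommRing B] [IsDomain B] [IsDiscreteValuationRing B] {r : ℕ}
    (A : Matrix (Fin r) (Fin r) B) :
    Module.length B ((Fin r → B) ⧸ LinearMap.range A.mulVecLin) = IsDiscreteValuationRing.addVal B A.det := by
  classical
  by_cases hd : A.det = 0
  · rw [hd, IsDiscreteValuationRing.addVal_zero]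
    obtain ⟨w, hw0, hw⟩ := Matrix.exists_vecMul_eq_zero_iff.2 hd
    let L : ((Fin r → B) ⧸ LinearMap.range A.mulVecLin) →ₗ[B] B :=
      Submodule.liftQ _ (Fintype.linearCombination B w) (by
        rintro _ ⟨x, rfl⟩
        rw [LinearMap.mem_ker, Fintype.linearCombination_apply]
        show ∑ i, (A.mulVec x) i • w i = 0
        have : dotProduct w (A.mulVec x) = 0 := by rw [Matrix.dotProduct_mulVec, hw, zero_dotProduct]
        rw [← this]; exact Finset.sum_congr rfl fun i _ => mul_comm _ _)
    obtain ⟨i, hi⟩ := Function.ne_iff.1 hw0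
    have hinj : Function.Injective (LinearMap.toSpanSingleton B _ (Submodule.Quotient.mk (p := LinearMap.range A.mulVecLin) (Pi.single i 1))) := by
      intro a b hab
      have h := congrArg L hab
      simp only [LinearMap.toSpanSingleton_apply, map_smul, smul_eq_mul] at h
      refine mul_right_cancel₀ ?_ h
      simpa [L, Fintype.linearCombination_apply, Pi.single_apply] using hi
    refine top_le_iff.1 ((le_of_eq ?_).trans (Module.length_le_of_injective _ hinj))
    refine Eq.symm (by_contra fun hne => ?_)
    haveI : IsArtinianRing B := (isFiniteLength_iff_isNoetherian_isArtinian.1 (Module.length_ne_top_iff.1 hne)).2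
    exact IsDiscreteValuationRing.not_isField B (IsArtinianRing.isField_of_isDomain B)
  · rw [← ord_eq_addVal hd, ← Matrix.toLin'_apply', ← LinearMap.det_toLin']
    exact Groth.Agent.S0612.result _ (by rw [LinearMap.det_toLin']; exact mem_nonZeroDivisors_of_ne_zero hd)

/-- Let B be a discrete valuation ring with its normalised additive valuation v (so v(0) = ∞) and ω a
ring automorphism of B. For each i in a finite index set let M_i and N_i be free B-modules with
chosen bases indexed by one and the same finite type, and χ_i : M_i → N_i an additive map which is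
ω-semilinear, χ_i(b·x) = ω(b)·χ_i(x); write A_i for the matrix of χ_i in the chosen bases. Then the
length over B of the cokernel of the direct sum χ = ⊕_i χ_i : ⊕_i M_i → ⊕_i N_i (the quotient of ⊕_i
N_i by the submodule generated by the image of χ) equals v(∏_i det A_i); in particular both sides
are infinite exactly when some det A_i is zero. -/
theorem result {B : Type u} [CommRing B] [IsDomain B]
    [IsDiscreteValuationRing B] (ω : B ≃+* B) {n : ℕ} (r : Fin n → ℕ)
    (M N : Fin n → Type v) [∀ i, AddCommGroup (M i)] [∀ i, Module B (M i)]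
    [∀ i, AddCommGroup (N i)] [∀ i, Module B (N i)]
    (bM : ∀ i, Module.Basis (Fin (r i)) B (M i)) (bN : ∀ i, Module.Basis (Fin (r i)) B (N i))
    (χ : ∀ i, M i →+ N i) (hχ : ∀ i (b : B) (x : M i), χ i (b • x) = ω b • χ i x) :
    Module.length B ((∀ i, N i) ⧸ Submodule.span B (Set.range (fun (x : ∀ i, M i) (i : Fin n) => χ i (x i)))) =
      IsDiscreteValuationRing.addVal B (∏ i, Matrix.det
        (Matrix.of fun (a c : Fin (r i)) => (bN i).repr (χ i (bM i c)) a)) := by
  classical
  let A : ∀ i, Matrix (Fin (r i)) (Fin (r i)) B := fun i => Matrix.of fun a c => (bN i).repr (χ i (bM i c)) a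
  let S : ∀ i, Submodule B (N i) := fun i => Submodule.span B (Set.range (χ i))
  have hspan : Submodule.span B (Set.range (fun (x : ∀ i, M i) (i : Fin n) => χ i (x i))) = Submodule.pi Set.univ S := by
    apply le_antisymm
    · rw [Submodule.span_le]
      rintro _ ⟨x, rfl⟩ i _
      exact Submodule.subset_span ⟨x i, rfl⟩
    · intro y hy
      rw [← Finset.univ_sum_single y]
      refine Submodule.sum_mem _ fun i _ => ?_
      have : S i ≤ (Submodule.span B (Set.range (fun (x : ∀ i, M i) (i : Fin n) => χ i (x i)))).comap (LinearMap.single B N i) := by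
        rw [Submodule.span_le]
        rintro _ ⟨m, rfl⟩
        refine Submodule.subset_span ⟨Pi.single i m, funext fun j => ?_⟩
        rcases eq_or_ne j i with rfl | hj
        · simp
        · simp [Pi.single_eq_of_ne hj]
      exact this (hy i (Set.mem_univ i))
  have hlen : ∀ i, Module.length B (N i ⧸ S i) = IsDiscreteValuationRing.addVal B (A i).det := by
    intro i
    rw [← length_coker_mulVecLin]
    refine (Submodule.Quotient.equiv _ _ (bN i).equivFun ?_).length_eq
    apply le_antisymm
    · rw [Submodule.map_le_iff_le_comap, Submodule.span_le]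
      rintro _ ⟨m, rfl⟩
      refine ⟨fun c => ω ((bM i).repr m c), ?_⟩
      show (A i).mulVec _ = (bN i).equivFun (χ i m)
      conv_rhs => rw [← (bM i).sum_repr m, map_sum, map_sum]
      funext a
      simp [A, Matrix.mulVec, dotProduct, hχ, mul_comm]
    · rintro _ ⟨x, rfl⟩
      refine ⟨∑ c, x c • χ i (bM i c), Submodule.sum_mem _ fun c _ => Submodule.smul_mem _ _ (Submodule.subset_span ⟨_, rfl⟩), ?_⟩
      funext a
      simp [A, Matrix.mulVec, dotProduct, mul_comm]
  rw [hspan, (Submodule.quotientPi S).length_eq, Module.length_pi_of_fintype]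
  simp only [hlen]
  induction (Finset.univ : Finset (Fin n)) using Finset.induction with
  | empty => simp [IsDiscreteValuationRing.addVal_one]
  | insert a t ha ih => rw [Finset.sum_insert ha, Finset.prod_insert ha, IsDiscreteValuationRing.addVal_mul, ih]

end Groth.Agent.S19624
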