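import Groth.Statements.S19625
import Groth.Agent.Surf15.CurveRestrict
import Groth.Agent.Surf15.DualInvertible
import Groth.Agent.Surf15.RiemannRoch
import Groth.Agent.Coherent.ProjSpaceFinite
-- import your own Groth.Agent.* helpers here

set_option autoImplicit false
universe u
open CategoryTheory CategoryTheory.Limits AlgebraicGeometry
open Surf

open TopologicalSpace
open Groth.Agent.Coherent Groth.Agent.PicLib Groth.Agent.AmpleLib Groth.Agent.EulerLib Groth.Agent.CurveRR24 Groth.Agent.DimLib Groth.Agent.Surf15
set_option linter.style.haveILetI false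
set_option backward.isDefEq.respectTransparency.types false

namespace Groth.Agent.S19625

/-- Let k be a field and S an integral surface (dimension two) which is smooth over k and projective (a
closed immersion into some P^n_k over k). Let i : C → S be the closed immersion of an integral curve
(dimension one) all of whose local rings are regular, with ideal sheaf I ⊆ O_S, and let N =
Hom(i^*I, O_C) be the normal sheaf of C in S, the dual of the conormal sheaf i^*I (the sheaf Hom,
assumed to exist as the right adjoint of tensoring with i^*I). Then the self-intersection number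
C·C, namely the intersection number of O_S(C) with itself computed as the alternating sum χ(O_S) −
2χ(I) + χ(I ⊗ I) with the inverse I = O_S(−C) of O_S(C) (packaged as FGA.intNum), equals the degree
of N on C, the degree of a module M on C being χ(M) − χ(O_C). -/
theorem result (k : Type u) [Field k] (S : Scheme.{u}) [S.Over (Spec (CommRingCat.of k))]
    [IsIntegral S] (hdim : topologicalKrullDim S = 2) [Smooth (S ↘ (Spec (CommRingCat.of k)))]
    (hproj : ∃ (n : ℕ) (ι : S ⟶ CohB1.ProjSpace n k), IsClosedImmersion ι ∧ ι ≫ CohB1.ProjSpace.toSpec n k = (S ↘ (Spec (CommRingCat.of k))))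
    (C : Scheme.{u}) (i : C ⟶ S) [IsClosedImmersion i] [IsIntegral C] (hC : topologicalKrullDim C = 1)
    (hCreg : ∀ c : C, IsRegularLocalRing (C.presheaf.stalk c))
    [DCoh.HasSheafHom (Omega.conormal i)] :
    letI : C.Over (Spec (CommRingCat.of k)) := ⟨i ≫ (S ↘ (Spec (CommRingCat.of k)))⟩
    FGA.intNum k S 2 ![ClSub.idealMod i.ker, ClSub.idealMod i.ker] (Coh.structureModule S) =
      Curv2.deg k C ((DCoh.sheafHom (Omega.conormal i)).obj (Coh.structureModule C)) 1 := by
  obtain ⟨n, ι, hι, hιe⟩ := hproj
  haveI : IsProper (CohB1.ProjSpace.toSpec n k) := Groth.Agent.Coherent.isProper_projSpace_toSpec n k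
  haveI : IsProper (S ↘ Spec (CommRingCat.of k)) := by rw [← hιe]; infer_instance
  have hX : topologicalKrullDim S = ((2 : ℕ) : WithBot ℕ∞) := by exact_mod_cast hdim
  have hreg : ∀ x : S, IsRegularLocalRing (S.presheaf.stalk x) := fun x =>
    Groth.Agent.VarietyLib.isRegularLocalRing_stalk_of_smooth k S (S ↘ Spec (CommRingCat.of k)) x
  have hD := (isCrv_ker i hC).isEffCartier k hX hreg
  have hI := Groth.Agent.FlatMor12.IdealModGen.isInvertible_idealMod i.ker hD
  letI : C.Over (Spec (CommRingCat.of k)) := ⟨i ≫ (S ↘ Spec (CommRingCat.of k))⟩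
  haveI : IsProper (C ↘ Spec (CommRingCat.of k)) := inferInstanceAs (IsProper (i ≫ (S ↘ Spec (CommRingCat.of k))))
  have hN : PicF.IsInvertible (Omega.conormal i) := PicLoc.isInvertible_pullback i hI
  obtain ⟨e⟩ := nonempty_tensor_sheafHom_iso hN
  have hN' := isInvertible_inverse hN ⟨e⟩
  rw [curvDeg_inverse k (by exact_mod_cast hC.le) hN hN' e]
  rw [show Omega.conormal i = (Scheme.Modules.pullback i).obj (ClSub.idealMod i.ker) from rfl,
    deg_pullback_eq k i hI, intNum_eq_B k hX.le hI hI, deg_quotMod k hD, neg_neg]
  rfl

end Groth.Agent.S19625
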