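import Mathlib.AlgebraicGeometry.Pullbacks
import Mathlib.AlgebraicTopology.CechNerve
import Mathlib.AlgebraicTopology.SimplicialObject.Coskeletal
import Mathlib.CategoryTheory.Limits.Constructions.Over.Basic
import Mathlib.AlgebraicTopology.CechNerve
import Mathlib.AlgebraicTopology.SimplicialObject.Coskeletal
import Mathlib.AlgebraicTopology.SimplexCategory.Truncated
import Mathlib.CategoryTheory.Functor.KanExtension.Pointwise

set_option autoImplicit false
universe u
namespace Hyper
end Hyper
open Hyper

namespace Groth.Agent.S19631

open CategoryTheory CategoryTheory.Limits Simplicial SimplexCategory SimplexCategory.Truncated Opposite in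
/-- a Čech nerve of a terminal map is coskeletal in every degree -/
lemma isCoskeletal_cech {C : Type*} [Category C] [HasFiniteProducts C] (X : C) (n : ℕ) :
    SimplicialObject.IsCoskeletal (cechNerveTerminalFrom X) n := by
  let E := SimplicialObject.Truncated.rightExtensionInclusion (cechNerveTerminalFrom X) n
  let z : SimplexCategory.Truncated n := ⟨⦋0⦌, Nat.zero_le n⟩
  let p : (cechNerveTerminalFrom X).obj (op ⦋0⦌) ⟶ X := Pi.π (fun _ : Fin 1 => X) 0
  have hp : ∀ (Δ : SimplexCategoryᵒᵖ) (a : Fin (Δ.unop.len + 1)),
      (cechNerveTerminalFrom X).map (⦋0⦌.const Δ.unop a).op ≫ p = Pi.π (fun _ => X) a :=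
    fun Δ a => Pi.lift_π _ _
  refine ⟨Functor.RightExtension.IsPointwiseRightKanExtension.isRightKanExtension (E := E) fun Δ => ?_⟩
  let v : ∀ a : Fin (Δ.unop.len + 1), StructuredArrow Δ (SimplexCategory.Truncated.inclusion n).op :=
    fun a => StructuredArrow.mk (Y := op z) (⦋0⦌.const Δ.unop a).op
  exact
    { lift := fun s => Pi.lift fun a => s.π.app (v a) ≫ p
      fac := fun s j => by
        show Pi.lift _ ≫ (cechNerveTerminalFrom X).map j.hom ≫ 𝟙 _ = _
        rw [Category.comp_id]
        refine Pi.hom_ext _ _ fun b => ?_
        let Θ := j.right.unop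
        let a := (show Δ ⟶ op Θ.obj from j.hom).unop.toOrderHom b
        let α : j ⟶ v a := StructuredArrow.homMk (Hom.tr (⦋0⦌.const Θ.obj b) (Nat.zero_le n) Θ.property).op
          (Quiver.Hom.unop_inj (by ext x; rfl))
        have hα : s.π.app j ≫ (cechNerveTerminalFrom X).map (⦋0⦌.const Θ.obj b).op = s.π.app (v a) :=
          s.w α
        have h1 : (cechNerveTerminalFrom X).map (show Δ ⟶ op Θ.obj from j.hom) ≫ Pi.π (fun _ => X) b
            = Pi.π (fun _ => X) a := Pi.lift_π _ _
        refine (Category.assoc _ _ _).trans ((congrArg (_ ≫ ·) h1).trans ((Pi.lift_π _ _).trans ?_))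
        exact ((congrArg (· ≫ p) hα.symm).trans (Category.assoc _ _ _)).trans
          (congrArg (s.π.app j ≫ ·) (hp (op Θ.obj) b))
      uniq := fun s m hm => by
        refine Pi.hom_ext _ _ fun a => ?_
        refine Eq.trans ?_ (Pi.lift_π (fun a => s.π.app (v a) ≫ p) a).symm
        have hmv : m ≫ ((cechNerveTerminalFrom X).map (⦋0⦌.const Δ.unop a).op ≫ 𝟙 _) = s.π.app (v a) :=
          hm (v a)
        rw [Category.comp_id] at hmv
        exact ((congrArg (m ≫ ·) (hp Δ a).symm).trans (Category.assoc _ _ _).symm).trans
          (congrArg (· ≫ p) hmv) }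

open CategoryTheory CategoryTheory.Limits AlgebraicGeometry in
/-- Let f : X → Y be a morphism of schemes and X_• = cosk_0^Y(X) its Čech nerve, the simplicial scheme
over Y with X_p = X ×_Y ⋯ ×_Y X (p + 1 factors), face maps the projections forgetting one factor and
degeneracies induced by diagonals. Then X_•, as a simplicial object of the category of schemes over
Y, is n-coskeletal for every n, i.e. the adjunction morphisms X_• → cosk_n sk_n X_• (coskeleta
relative to Y) are isomorphisms. In the source this is phrased as: for a class S of covering maps of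
varieties containing the identities, X_• → Y is an S-hypercover whenever X → Y lies in S, the
adjunction maps X_p → (cosk_{p-1} sk_{p-1} X_•)_p being isomorphisms for p ≥ 1 and X_0 → Y being f.
(Stated for arbitrary schemes; the source has varieties over a field.) -/
theorem result (X Y : Scheme.{u}) (f : X ⟶ Y) (n : ℕ) :
    SimplicialObject.IsCoskeletal (cechNerveTerminalFrom (Over.mk f)) n := by
  exact isCoskeletal_cech _ n

end Groth.Agent.S19631
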