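import Groth.Statements.S1964
import Groth.Agent.HenselLib.LocalInt

set_option autoImplicit false
universe u
open EtAlg

namespace Groth.Agent.S1964

/-- A domain B integral over a henselian local ring A is itself henselian local, and the structure map A
-> B is local; if the residue field of A is separably closed, so is that of B, and the residue field
extension is purely inseparable. -/
theorem result (A B : Type u) [CommRing A] [HenselianLocalRing A] [CommRing B]
    [IsDomain B] [Algebra A B] [Algebra.IsIntegral A B] :
    ∃ _ : HenselianLocalRing B, IsLocalHom (algebraMap A B) ∧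
      (IsSepClosed (IsLocalRing.ResidueField A) →
        IsSepClosed (IsLocalRing.ResidueField B) ∧
        ∀ _ : IsLocalHom (algebraMap A B),
          letI := (IsLocalRing.ResidueField.map (algebraMap A B)).toAlgebra
          IsPurelyInseparable (IsLocalRing.ResidueField A) (IsLocalRing.ResidueField B)) := by
  obtain ⟨M, hM⟩ := Ideal.exists_maximal B
  have hs := Groth.Agent.HenselLib.LocalInt.surjective_algebraMap_localization A M
  have hi : Function.Injective (algebraMap B (Localization.AtPrime M)) :=
    IsLocalization.injective _ M.primeCompl_le_nonZeroDivisors
  have hloc : IsLocalRing B := (RingEquiv.ofBijective _ ⟨hi, hs⟩).symm.isLocalRing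
  have hh : HenselianLocalRing B := Groth.Agent.HenselLib.henselianLocalRing_of_isIntegral A B
  have hl : IsLocalHom (algebraMap A B) := Groth.Agent.HenselLib.LocalInt.isLocalHom_of_isIntegral A B
  refine ⟨hh, hl, fun hk => ⟨Groth.Agent.HenselLib.LocalInt.isSepClosed_residueField A B, fun hl' => ?_⟩⟩
  have : Algebra.IsIntegral A (IsLocalRing.ResidueField B) := Algebra.IsIntegral.trans B
  have : Algebra.IsIntegral (IsLocalRing.ResidueField A) (IsLocalRing.ResidueField B) :=
    Algebra.IsIntegral.tower_top A
  have hps : IsPurelyInseparable (IsLocalRing.ResidueField A) (IsLocalRing.ResidueField B) :=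
    inferInstance
  convert hps using 1
  exact Algebra.algebra_ext _ _ fun r => by
    obtain ⟨y, rfl⟩ := IsLocalRing.residue_surjective r
    rfl

end Groth.Agent.S1964
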