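import Groth.Statements.S19647
import Groth.Agent.Misc15.AttrPure
-- import your own Groth.Agent.* helpers here

set_option autoImplicit false
universe u
open CategoryTheory MonoidalCategory CartesianMonoidalCategory AlgebraicGeometry Opposite
open Magnet
open Groth.Agent.Misc15

namespace Groth.Agent.S19647

/-- Let S be a quasi-compact scheme, M a commutative monoid and X an S-scheme affine and of finite
presentation over S with an action of the diagonalizable monoid scheme A(M)_S. Call a submonoid
(magnet) N of M pure when every submonoid L whose attractor X^L has the same image in X as X^N (on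
T-points, for every S-scheme T) contains N. Then the set of pure magnets is finite. (The published
statement carries no quasi-compactness assumption on the base. Over the disjoint union S of
countably many copies of Spec ℚ indexed by n ≥ 1, let the multiplicative group act on the affine
line over the n-th copy with weight n: this X is affine and of finite presentation over S, yet the
submonoids dℕ of ℤ, d ≥ 1, are pairwise distinct pure magnets; the finite set of generating degrees
used in the published argument exists only over a quasi-compact base, so S is taken quasi-compact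
here. The source allows X an algebraic space; here X is a scheme.) -/
theorem result (S : Scheme.{u}) [CompactSpace S] (M : Type) [AddCommMonoid M]
    {X : Over S} [IsAffineHom X.hom] [LocallyOfFinitePresentation X.hom]
    (a : Magnet.MonAct (Magnet.AMonS S M) X) :
    Set.Finite {N : AddSubmonoid M | ∀ L : AddSubmonoid M,
      (∀ T : Over S, Set.range (fun φ => (Magnet.attrToX a N).app (op T) φ) =
        Set.range (fun φ => (Magnet.attrToX a L).app (op T) φ)) → N ≤ L} := by
  classical
  have hsep : IsSeparated X.hom := inferInstance
  have : LocallyOfFiniteType X.hom := inferInstance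
  obtain ⟨t, ht⟩ := isCompact_univ.elim_finite_subcover (fun U : S.affineOpens => (U.1 : Set S))
    (fun U => U.1.isOpen) (fun s _ => by
      have : s ∈ (⨆ U : S.affineOpens, (U : S.Opens)) := by rw [iSup_affineOpens_eq_top]; trivial
      obtain ⟨U, hU⟩ := TopologicalSpace.Opens.mem_iSup.1 this
      exact Set.mem_iUnion.2 ⟨U, hU⟩)
  have hcov : (⨆ U : t, U.1.1) = (⊤ : S.Opens) := by
    refine eq_top_iff.2 fun s _ => ?_
    obtain ⟨U, hU⟩ := Set.mem_iUnion.1 (ht (Set.mem_univ s))
    obtain ⟨hUt, hs⟩ := Set.mem_iUnion.1 hU
    exact TopologicalSpace.Opens.mem_iSup.2 ⟨⟨U, hUt⟩, hs⟩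
  choose E hE using fun U : t => AttrRep.exists_finset_degrees a U.1.2
  let E' : Finset M := t.attach.biUnion E
  refine Set.Finite.subset (E'.powerset.finite_toSet.image fun s : Finset M => AddSubmonoid.closure (s : Set M)) ?_
  intro N hN
  let s := E'.filter (· ∈ N)
  let L := AddSubmonoid.closure (s : Set M)
  have hLN : L ≤ N := AddSubmonoid.closure_le.2 fun m hm => (Finset.mem_filter.1 hm).2
  refine ⟨s, Finset.mem_coe.2 (Finset.mem_powerset.2 (Finset.filter_subset _ _)), le_antisymm hLN (hN L fun T => ?_)⟩
  refine Set.Subset.antisymm ?_ ?_
  · rintro _ ⟨φ, rfl⟩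
    refine AttrRep.inImage_of_affine_cover a L _ (fun U : t => U.1.1) hcov fun K _ sK b U hs => ?_
    refine hE U N L (fun m hm hmN => AddSubmonoid.subset_closure ?_) K sK hs _
      (AttrRep.InImage.comp N a b ⟨φ, rfl⟩)
    exact Finset.mem_filter.2 ⟨Finset.mem_biUnion.2 ⟨U, Finset.mem_attach _ _, hm⟩, hmN⟩
  · rintro _ ⟨φ, rfl⟩
    exact ⟨(attrMap a hLN).app (op T) φ, AttrRep.attrMap_eval a hLN φ⟩

end Groth.Agent.S19647
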