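import Groth.Statements.S19649
import Mathlib
-- import your own Groth.Agent.* helpers here

set_option autoImplicit false
universe u v
open Instab

namespace Groth.Agent.S19649

open MvPolynomial DirectSum in
set_option linter.unusedVariables false

open MvPolynomial DirectSum

theorem pow_kills_of_mul_eq_zero {R : Type*} [CommRing R] {σ : Type*} (r : R) (K : ℕ) (h c : MvPolynomial σ R)
    (hc : constantCoeff h = r ^ K) (hz : h * c = 0) : ∃ N : ℕ, C r ^ N * c = 0 := by
  classical
  let ι' := algebraMap R (Localization.Away r)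
  have hu : IsUnit (MvPowerSeries.constantCoeff (MvPolynomial.toMvPowerSeries (MvPolynomial.map ι' h))) := by
    rw [← MvPowerSeries.coeff_zero_eq_constantCoeff_apply, MvPolynomial.coeff_coe, ← constantCoeff_eq]
    rw [MvPolynomial.constantCoeff_map, hc, map_pow]
    exact (IsLocalization.Away.algebraMap_isUnit r).pow K
  have hc0 : MvPolynomial.map ι' c = 0 := by
    apply MvPolynomial.coe_injective σ (Localization.Away r)
    rw [MvPolynomial.coe_zero]
    refine (MvPowerSeries.mem_nonZeroDivisors_of_constantCoeff hu.mem_nonZeroDivisors).1 _ ?_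
    rw [← MvPolynomial.coe_mul, ← map_mul, hz, map_zero, MvPolynomial.coe_zero]
  have hco : ∀ α, ∃ N : ℕ, r ^ N * c.coeff α = 0 := fun α => by
    have : ι' (c.coeff α) = 0 := by rw [← MvPolynomial.coeff_map, hc0, coeff_zero]
    obtain ⟨⟨_, N, rfl⟩, hN⟩ := (IsLocalization.map_eq_zero_iff (Submonoid.powers r) (Localization.Away r) _).1 this
    exact ⟨N, hN⟩
  choose F hF using hco
  refine ⟨c.support.sup F, MvPolynomial.ext _ _ fun α => ?_⟩
  rw [← C_pow, coeff_C_mul, coeff_zero]
  by_cases hα : α ∈ c.support
  · rw [← Nat.add_sub_cancel' (Finset.le_sup (f := F) hα), pow_add, mul_comm (r ^ _), mul_assoc, hF, mul_zero]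
  · rw [notMem_support_iff.1 hα, mul_zero]

theorem exists_local_subbasis {R : Type u} [CommRing R] {Q : Type u} [AddCommGroup Q] [Module R Q]
    [Module.Finite R Q] [Module.Projective R Q] {s : ℕ} (v : Fin s → Q)
    (hv : Submodule.span R (Set.range v) = ⊤) (p : PrimeSpectrum R) :
    ∃ r : R, r ∉ p.asIdeal ∧ ∃ (m : ℕ) (J : Fin m → Fin s),
      (∀ i, ∃ (N : ℕ) (a : Fin m → R), r ^ N • v i = ∑ j, a j • v (J j)) ∧
      (∀ c : Fin m → R, ∑ j, c j • v (J j) = 0 → ∃ N : ℕ, ∀ j, r ^ N * c j = 0) := by
  classical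
  let M := p.asIdeal.primeCompl
  let ℓ := LocalizedModule.mkLinearMap M Q
  haveI : Module.Finite (Localization M) (LocalizedModule M Q) := Module.Finite.of_isLocalizedModule M ℓ
  haveI : Module.Projective (Localization M) (LocalizedModule M Q) := Module.projective_of_isLocalizedModule M ℓ
  haveI : IsLocalRing (Localization M) := inferInstanceAs (IsLocalRing (Localization.AtPrime p.asIdeal))
  haveI : Module.FinitePresentation (Localization M) (LocalizedModule M Q) := Module.finitePresentation_of_projective _ _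
  have hsp : Submodule.span (Localization M) (Set.range (ℓ ∘ v ∘ ULift.down.{u})) = ⊤ := by
    have := span_eq_top_of_isLocalizedModule (Localization M) M ℓ hv
    rw [← this, Set.range_comp, Set.range_comp, ULift.down_surjective.range_eq, Set.image_univ]
  obtain ⟨κ, a, b, hb⟩ := Module.exists_basis_of_span_of_flat _ hsp
  haveI : Fintype κ := @Fintype.ofFinite κ (Module.Finite.finite_basis b)
  let e := (Fintype.equivFin κ).symm
  let J : Fin (Fintype.card κ) → Fin s := fun j => (a (e j)).down
  let b' := b.reindex e.symm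
  have hb' : ∀ j, b' j = ℓ (v (J j)) := fun j => by simp [b', J, hb]
  let Φ := Fintype.linearCombination R (v ∘ J)
  have h1 : ∀ i, ∃ t : M, (t : R) • v i ∈ LinearMap.range Φ := fun i => by
    have hrep := b'.sum_repr (ℓ (v i))
    obtain ⟨t, ht⟩ := IsLocalization.exist_integer_multiples M Finset.univ (fun j => b'.repr (ℓ (v i)) j)
    choose z hz using fun j => ht j (Finset.mem_univ j)
    have : ℓ ((t : R) • v i) = ℓ (∑ j, z j • v (J j)) := by
      rw [map_smul, map_sum, ← hrep, Finset.smul_sum]
      refine Finset.sum_congr rfl fun j _ => ?_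
      rw [map_smul, ← hb', ← smul_assoc, ← hz j, algebraMap_smul]
    obtain ⟨t', ht'⟩ := (IsLocalizedModule.eq_iff_exists M ℓ).1 this
    refine ⟨t' * t, fun j => (t' : R) * z j, ?_⟩
    simp only [Submonoid.coe_mul, mul_smul, Φ, Fintype.linearCombination_apply, Function.comp, ← Finset.smul_sum]
    simpa [Submonoid.smul_def] using ht'.symm
  choose t ht using h1
  choose z hz using ht
  let r1 : R := ∏ i, (t i : R)
  have hr1 : r1 ∉ p.asIdeal := Submonoid.prod_mem M fun i _ => (t i).2
  have hr1v : ∀ i, r1 • v i ∈ LinearMap.range Φ := fun i => by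
    rw [show r1 = (∏ k ∈ Finset.univ.erase i, (t k : R)) * t i from
      (Finset.prod_erase_mul _ _ (Finset.mem_univ i)).symm, mul_smul]
    exact Submodule.smul_mem _ _ ⟨z i, hz i⟩
  have hrange : ∀ y : Q, r1 • y ∈ LinearMap.range Φ := by
    intro y
    have hy : y ∈ Submodule.span R (Set.range v) := hv ▸ Submodule.mem_top
    induction hy using Submodule.span_induction with
    | mem y hy => obtain ⟨i, rfl⟩ := hy; exact hr1v i
    | zero => simp
    | add y z _ _ hy hz => rw [smul_add]; exact add_mem hy hz
    | smul c y _ hy => rw [smul_comm]; exact Submodule.smul_mem _ _ hy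
  obtain ⟨τ, hτ⟩ := Module.projective_lifting_property Φ.rangeRestrict
    (LinearMap.codRestrict _ (r1 • LinearMap.id) hrange) Φ.surjective_rangeRestrict
  have hτ' : ∀ y, Φ (τ y) = r1 • y := fun y => congrArg Subtype.val (LinearMap.congr_fun hτ y)
  let T : Fin (Fintype.card κ) → (Fin (Fintype.card κ) → R) := fun j =>
    r1 • (Pi.single j 1 : Fin (Fintype.card κ) → R) - τ (v (J j))
  have hT : ∀ j, ∃ w : M, ∀ l, (w : R) * T j l = 0 := by
    intro j
    have h0 : ∑ l, T j l • v (J l) = 0 := by
      show Φ (T j) = 0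
      rw [map_sub, map_smul, hτ', Fintype.linearCombination_apply_single, one_smul]
      simp
    have h0' : ∑ l, algebraMap R (Localization M) (T j l) • b' l = 0 := by
      simpa [hb', algebraMap_smul] using congrArg ℓ h0
    have := fun l => Fintype.linearIndependent_iff.1 b'.linearIndependent _ h0' l
    choose w hw using fun l => (IsLocalization.map_eq_zero_iff M (Localization M) _).1 (this l)
    refine ⟨∏ l, w l, fun l => ?_⟩
    rw [← Finset.prod_erase_mul _ _ (Finset.mem_univ l), Submonoid.coe_mul, mul_assoc, hw, mul_zero]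
  choose w hw using hT
  let r2 : R := ∏ j, (w j : R)
  have hr2 : r2 ∉ p.asIdeal := Submonoid.prod_mem M fun i _ => (w i).2
  refine ⟨r1 * r2, fun h => (p.isPrime.mem_or_mem h).elim hr1 hr2, _, J, fun i => ?_, fun c hc => ⟨1, fun j => ?_⟩⟩
  · obtain ⟨x, hx⟩ := hr1v i
    refine ⟨1, fun j => r2 * x j, ?_⟩
    simp only [pow_one, mul_smul, ← Finset.smul_sum]
    rw [smul_comm r1 r2, ← hx]
    rfl
  · have hw2 : ∀ k, r2 * T k j = 0 := fun k => by
      rw [show r2 = (∏ l ∈ Finset.univ.erase k, (w l : R)) * w k from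
        (Finset.prod_erase_mul _ _ (Finset.mem_univ k)).symm, mul_assoc, hw, mul_zero]
    have h : ∑ k, c k * T k j = r1 * c j := by
      have hτ0 : ∑ k, c k * τ (v (J k)) j = 0 := by
        have := congrFun (congrArg τ hc) j
        simpa using this
      simp only [T, Pi.sub_apply, Pi.smul_apply, smul_eq_mul, mul_sub, Finset.sum_sub_distrib, hτ0, sub_zero]
      rw [Finset.sum_eq_single j (fun k _ hk => by simp [Pi.single_eq_of_ne (Ne.symm hk)]) (by simp)]
      simp [mul_comm]
    rw [pow_one, mul_comm r1 r2, mul_assoc, ← h, Finset.mul_sum]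
    exact Finset.sum_eq_zero fun k _ => by rw [mul_left_comm, hw2, mul_zero]

section
open MvPolynomial DirectSum
variable {R : Type u} [CommRing R] {n : ℕ} {P : Type v} [AddCommGroup P] [Module (MvPolynomial (Fin n) R) P]
  [Module R P] [IsScalarTower R (MvPolynomial (Fin n) R) P] (ℳ : (Fin n → ℤ) → Submodule R P)
  [DirectSum.Decomposition ℳ]
  [SetLike.GradedSMul (MvPolynomial.weightedHomogeneousSubmodule R (fun i : Fin n => (Pi.single i 1 : Fin n → ℤ))) ℳ]

/-- component -/
noncomputable def comp (e : Fin n → ℤ) : P →ₗ[R] P :=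
  (ℳ e).subtype ∘ₗ DirectSum.component R _ _ e ∘ₗ (DirectSum.decomposeLinearEquiv ℳ).toLinearMap

theorem comp_of_mem {e d : Fin n → ℤ} {x : P} (hx : x ∈ ℳ d) : comp ℳ e x = if d = e then x else 0 := by
  show ((DirectSum.decompose ℳ x) e : P) = _
  rw [DirectSum.decompose_of_mem ℳ hx]
  split_ifs with h
  · subst h; rw [DirectSum.of_eq_same]
  · rw [DirectSum.of_eq_of_ne _ _ _ (Ne.symm h)]; rfl

theorem monomial_smul_mem {d : Fin n → ℤ} {x : P} (hx : x ∈ ℳ d) (α : Fin n →₀ ℕ) (c : R) :
    monomial α c • x ∈ ℳ ((fun k => (α k : ℤ)) + d) := by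
  have hw : Finsupp.weight (fun i : Fin n => (Pi.single i 1 : Fin n → ℤ)) α = fun k => (α k : ℤ) := by
    funext k
    simp [Finsupp.weight_apply, Finsupp.sum_fintype, Finset.sum_apply, Pi.single_apply]
  exact SetLike.GradedSMul.smul_mem (A := MvPolynomial.weightedHomogeneousSubmodule R _)
    (isWeightedHomogeneous_monomial _ α c hw) hx

theorem comp_small {s : ℕ} (g : Fin s → P) (d : Fin s → Fin n → ℤ) (hg : ∀ i, g i ∈ ℳ (d i))
    (h : Fin s → MvPolynomial (Fin n) R) (hh : ∀ k, constantCoeff (h k) = 0) (e : Fin n → ℤ) :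
    comp ℳ e (∑ k, h k • g k) ∈
      Submodule.span (MvPolynomial (Fin n) R) (g '' {k | ∑ l, d k l < ∑ l, e l}) := by
  classical
  rw [map_sum]
  refine sum_mem fun k _ => ?_
  conv => arg 2; rw [(h k).as_sum]
  rw [Finset.sum_smul, map_sum]
  refine sum_mem fun α hα => ?_
  rw [comp_of_mem ℳ (monomial_smul_mem ℳ (hg k) α _)]
  split_ifs with he
  · refine Submodule.smul_mem _ _ (Submodule.subset_span ⟨k, ?_, rfl⟩)
    have hα0 : α ≠ 0 := fun h0 => by
      subst h0
      exact MvPolynomial.mem_support_iff.1 hα (by rw [← hh k]; rfl)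
    obtain ⟨l, hl⟩ := Finsupp.ne_iff.1 hα0
    show ∑ l, d k l < ∑ l, e l
    rw [← he]
    simp only [Pi.add_apply, Finset.sum_add_distrib]
    have : 0 < ∑ l, (α l : ℤ) := Finset.sum_pos' (fun _ _ => by positivity)
      ⟨l, Finset.mem_univ _, by exact_mod_cast Nat.pos_of_ne_zero hl⟩
    omega
  · exact Submodule.zero_mem _

end

/-- The case of a point, in graded-module form over an affine base. Let R be a commutative ring, n a
natural number, A = R[x_1, …, x_n] the polynomial ring graded by ℤ^n with x_i of degree the i-th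
basis vector (the weight grading of the standard action of the n-dimensional split torus on affine
n-space), and P a finitely generated projective A-module carrying a compatible ℤ^n-grading (an
equivariant vector bundle on affine n-space over Spec R). Then P is graded-free Zariski-locally on
Spec R: for every prime p of R there are r ∉ p and finitely many homogeneous elements f_1, …, f_m of
P such that, after inverting r, the f_i form an A-basis of P — every element of P multiplied by a
power of r is an A-linear combination of the f_i, and the coefficients of every A-linear relation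
among the f_i are killed by a power of r. (This is the case of a point of the source's description
of filtered points of quotient stacks by the general linear group, whose argument the source gives
in full: an equivariant vector bundle on affine n-space over a base is, locally on the base, the
standard one attached to a cocharacter; the general case, an identification of mapping stacks, is
not stated here.) -/
theorem result
    {R : Type u} [CommRing R] (n : ℕ)
    {P : Type v} [AddCommGroup P] [Module (MvPolynomial (Fin n) R) P] [Module R P]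
    [IsScalarTower R (MvPolynomial (Fin n) R) P]
    (ℳ : (Fin n → ℤ) → Submodule R P) [DirectSum.Decomposition ℳ]
    [SetLike.GradedSMul (MvPolynomial.weightedHomogeneousSubmodule R (fun i : Fin n => (Pi.single i 1 : Fin n → ℤ))) ℳ]
    [Module.Finite (MvPolynomial (Fin n) R) P] [Module.Projective (MvPolynomial (Fin n) R) P]
    (p : PrimeSpectrum R) :
    ∃ r : R, r ∉ p.asIdeal ∧ ∃ (m : ℕ) (d : Fin m → (Fin n → ℤ)) (f : Fin m → P), (∀ i, f i ∈ ℳ (d i)) ∧
      (∀ q : P, ∃ (N : ℕ) (c : Fin m → MvPolynomial (Fin n) R), (MvPolynomial.C r : MvPolynomial (Fin n) R) ^ N • q = ∑ i, c i • f i) ∧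
      (∀ c : Fin m → MvPolynomial (Fin n) R, ∑ i, c i • f i = 0 →
        ∃ N : ℕ, ∀ i, (MvPolynomial.C r : MvPolynomial (Fin n) R) ^ N * c i = 0) := by
  classical
  obtain ⟨G, hG⟩ := Module.Finite.fg_top (R := (MvPolynomial (Fin n) R)) (M := P)
  let idx := Σ y : G, {e // e ∈ (DirectSum.decompose ℳ (y : P)).support}
  let eI := (Fintype.equivFin idx).symm
  let d : Fin (Fintype.card idx) → Fin n → ℤ := fun i => (eI i).2.1
  let g : Fin (Fintype.card idx) → P := fun i => (DirectSum.decompose ℳ ((eI i).1 : P)) (d i)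
  have hg : ∀ i, g i ∈ ℳ (d i) := fun i => Subtype.prop _
  have hspan : Submodule.span (MvPolynomial (Fin n) R) (Set.range g) = ⊤ := by
    rw [eq_top_iff, ← hG, Submodule.span_le]
    intro y hy
    rw [SetLike.mem_coe, ← DirectSum.sum_support_decompose ℳ y]
    refine sum_mem fun e he => Submodule.subset_span ⟨eI.symm ⟨⟨y, hy⟩, ⟨e, he⟩⟩, ?_⟩
    exact congrArg (fun x : idx => ((DirectSum.decompose ℳ (x.1 : P)) x.2.1 : P))
      (eI.apply_symm_apply ⟨⟨y, hy⟩, ⟨e, he⟩⟩)
  let ψ := Fintype.linearCombination (MvPolynomial (Fin n) R) g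
  have hψ : Function.Surjective ψ := by
    rw [← LinearMap.range_eq_top, ← hspan, Fintype.range_linearCombination]
  obtain ⟨φ, hφ⟩ := Module.projective_lifting_property ψ LinearMap.id hψ
  have hφψ : ∀ y, ∑ i, φ y i • g i = y := fun y => LinearMap.congr_fun hφ y
  let cc := (constantCoeff : (MvPolynomial (Fin n) R) →+* R)
  let v' : Fin (Fintype.card idx) → Fin (Fintype.card idx) → R := fun i k => cc (φ (g i) k)
  let E := Fintype.linearCombination R v'
  have hv' : ∀ i, E (v' i) = v' i := fun i => by
    funext k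
    conv_rhs => rw [show v' i = fun k => cc (φ (g i) k) from rfl, ← hφψ (g i)]
    simp [E, Fintype.linearCombination_apply, v', cc]
  haveI : Module.Projective R (LinearMap.range E) :=
    Module.Projective.of_split (LinearMap.range E).subtype E.rangeRestrict (LinearMap.ext fun x => Subtype.ext (by
      obtain ⟨_, c, rfl⟩ := x
      show E (E c) = E c
      simp only [E, Fintype.linearCombination_apply, map_sum, map_smul]
      exact Finset.sum_congr rfl fun i _ => congrArg (c i • ·) (hv' i)))
  haveI : Module.Finite R (LinearMap.range E) := Module.Finite.of_surjective _ E.surjective_rangeRestrict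
  let v : Fin (Fintype.card idx) → LinearMap.range E := fun i => ⟨v' i, ⟨v' i, hv' i⟩⟩
  have hvspan : Submodule.span R (Set.range v) = ⊤ := by
    rw [eq_top_iff]
    rintro ⟨_, c, rfl⟩ -
    have : (⟨E c, ⟨c, rfl⟩⟩ : LinearMap.range E) = ∑ i, c i • v i := Subtype.ext (by
      simp [E, Fintype.linearCombination_apply, v])
    rw [this]
    exact sum_mem fun i _ => Submodule.smul_mem _ _ (Submodule.subset_span ⟨i, rfl⟩)
  obtain ⟨r, hr, m, J, hgen, hrel⟩ := exists_local_subbasis v hvspan p
  refine ⟨r, hr, m, fun j => d (J j), fun j => g (J j), fun j => hg _, ?_⟩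
  let F := Submodule.span (MvPolynomial (Fin n) R) (Set.range fun j => g (J j))
  have hW : ∀ i, ∃ N : ℕ, (C r : (MvPolynomial (Fin n) R)) ^ N • g i ∈ F := by
    suffices ∀ K : ℕ, ∀ i, (Finset.univ.filter fun k => ∑ l, d k l < ∑ l, d i l).card = K →
        ∃ N : ℕ, (C r : (MvPolynomial (Fin n) R)) ^ N • g i ∈ F from fun i => this _ i rfl
    intro K
    induction K using Nat.strong_induction_on with
    | _ K ih =>
    intro i hK
    have hsmall : ∀ k, ∑ l, d k l < ∑ l, d i l → ∃ N : ℕ, (C r : (MvPolynomial (Fin n) R)) ^ N • g k ∈ F := fun k hk =>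
      ih _ (hK ▸ Finset.card_lt_card (Finset.ssubset_iff_of_subset (fun x hx => by
        simp only [Finset.mem_filter, Finset.mem_univ, true_and] at hx ⊢; exact hx.trans hk) |>.2
        ⟨k, by simpa using hk, by simp⟩)) k rfl
    obtain ⟨N, a, ha⟩ := hgen i
    let h : Fin (Fintype.card idx) → (MvPolynomial (Fin n) R) := fun l => (C (r ^ N)) * φ (g i) l - ∑ j, C (a j) * φ (g (J j)) l
    have hh : ∀ l, constantCoeff (h l) = 0 := fun l => by
      have := congrFun (congrArg Subtype.val ha) l
      simp only [v, v', cc, Submodule.coe_smul_of_tower, Submodule.coe_sum, Pi.smul_apply, Finset.sum_apply,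
        smul_eq_mul] at this
      simp [h, this]
    have hsum : ∑ l, h l • g l = (C (r ^ N) : (MvPolynomial (Fin n) R)) • g i - ∑ j, (C (a j) : (MvPolynomial (Fin n) R)) • g (J j) := by
      simp only [h, sub_smul, Finset.sum_sub_distrib, Finset.sum_smul]
      rw [Finset.sum_comm]
      simp only [mul_smul, ← Finset.smul_sum, hφψ]
    have hc := comp_small ℳ g d hg h hh (d i)
    rw [hsum, map_sub, map_sum] at hc
    have hC : ∀ (c : R) (y : P), (C c : (MvPolynomial (Fin n) R)) • y = c • y := fun c y => algebraMap_smul (MvPolynomial (Fin n) R) c y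
    simp only [hC, map_smul, comp_of_mem ℳ (hg _), if_true] at hc
    let W : Submodule (MvPolynomial (Fin n) R) P :=
      { carrier := {y | ∃ N : ℕ, (C r : (MvPolynomial (Fin n) R)) ^ N • y ∈ F}
        zero_mem' := ⟨0, by simp⟩
        add_mem' := fun {x y} => fun ⟨a, ha⟩ ⟨b, hb⟩ => ⟨a + b, by
          rw [smul_add]
          refine add_mem ?_ ?_
          · rw [add_comm, pow_add, mul_smul]; exact F.smul_mem _ ha
          · rw [pow_add, mul_smul]; exact F.smul_mem _ hb⟩
        smul_mem' := fun c y => fun ⟨a, ha⟩ => ⟨a, by rw [smul_comm]; exact F.smul_mem c ha⟩ }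
    have hle : Submodule.span (MvPolynomial (Fin n) R) (g '' {k | ∑ l, d k l < ∑ l, d i l}) ≤ W := Submodule.span_le.2 (by
      rintro _ ⟨k, hk, rfl⟩; exact hsmall k hk)
    obtain ⟨N', hN'⟩ := hle hc
    refine ⟨N' + N, ?_⟩
    rw [smul_sub, sub_eq_add_neg] at hN'
    have hmem : (C r : (MvPolynomial (Fin n) R)) ^ N' • ∑ j, a j • (if d (J j) = d i then g (J j) else 0) ∈ F := by
      refine F.smul_mem _ (sum_mem fun j _ => ?_)
      rw [← hC]
      refine F.smul_mem _ ?_
      split_ifs
      · exact Submodule.subset_span ⟨j, rfl⟩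
      · exact zero_mem _
    have := add_mem hN' hmem
    rw [neg_add_cancel_right, ← hC, C_pow] at this
    rwa [pow_add, mul_smul]
  choose Ng hNg using hW
  let N := Finset.univ.sup Ng
  have hWN : ∀ i, ∃ A : Fin m → (MvPolynomial (Fin n) R), (C r : (MvPolynomial (Fin n) R)) ^ N • g i = ∑ j, A j • g (J j) := fun i => by
    obtain ⟨A, hA⟩ := (Submodule.mem_span_range_iff_exists_fun (MvPolynomial (Fin n) R)).1 (F.smul_mem
      ((C r : (MvPolynomial (Fin n) R)) ^ (N - Ng i)) (hNg i))
    exact ⟨A, by rw [hA, ← mul_smul, ← pow_add, Nat.sub_add_cancel (Finset.le_sup (Finset.mem_univ i))]⟩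
  choose A hA using hWN
  let σ : P →ₗ[(MvPolynomial (Fin n) R)] (Fin m → (MvPolynomial (Fin n) R)) := (Fintype.linearCombination (MvPolynomial (Fin n) R) A) ∘ₗ φ
  have hσ : ∀ y, ∑ j, σ y j • g (J j) = (C r : (MvPolynomial (Fin n) R)) ^ N • y := fun y => by
    conv_rhs => rw [← hφψ y, Finset.smul_sum]
    simp only [σ, LinearMap.comp_apply, Fintype.linearCombination_apply, Finset.sum_apply, Pi.smul_apply,
      smul_eq_mul, Finset.sum_smul]
    rw [Finset.sum_comm]
    refine Finset.sum_congr rfl fun i _ => ?_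
    rw [smul_comm ((C r : (MvPolynomial (Fin n) R)) ^ N), hA, Finset.smul_sum]
    simp only [mul_smul]
  refine ⟨fun q => ⟨N, σ q, (hσ q).symm⟩, fun c hc => ?_⟩
  let T : Fin m → Fin m → (MvPolynomial (Fin n) R) := fun j => (C r : (MvPolynomial (Fin n) R)) ^ N • (Pi.single j 1 : Fin m → (MvPolynomial (Fin n) R)) - σ (g (J j))
  have hT : ∀ j, ∑ l, cc (T j l) • v (J l) = 0 := fun j => Subtype.ext (funext fun k => by
    have h0 : ∑ l, T j l • g (J l) = 0 := by
      simp only [T, Pi.sub_apply, Pi.smul_apply, sub_smul, Finset.sum_sub_distrib, hσ]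
      rw [Finset.sum_eq_single j (fun l _ hl => by simp [Pi.single_eq_of_ne hl]) (by simp)]
      simp
    have := congrArg cc (congrFun (congrArg φ h0) k)
    simp only [map_sum, map_smul, Finset.sum_apply, Pi.smul_apply, smul_eq_mul, map_mul, map_zero,
      Pi.zero_apply] at this
    simpa [v, v'] using this)
  choose N1 hN1 using fun j => hrel _ (hT j)
  let N' := Finset.univ.sup N1
  let D : Matrix (Fin m) (Fin m) (MvPolynomial (Fin n) R) :=
    (C r : (MvPolynomial (Fin n) R)) ^ (N' + N) • (1 : Matrix (Fin m) (Fin m) (MvPolynomial (Fin n) R)) - Matrix.of (fun j l => (C r : (MvPolynomial (Fin n) R)) ^ N' * T j l)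
  have hD : Matrix.vecMul c D = 0 := by
    funext l
    have hσ0 : ∑ j, c j * σ (g (J j)) l = 0 := by
      have := congrFun (congrArg σ hc) l
      simpa using this
    simp only [D, Matrix.vecMul, dotProduct, Matrix.sub_apply, Matrix.smul_apply, Matrix.of_apply, T,
      Pi.sub_apply, Pi.smul_apply, smul_eq_mul, Pi.zero_apply, Matrix.one_apply, Pi.single_apply]
    rw [Finset.sum_congr rfl (g := fun j => (C r : (MvPolynomial (Fin n) R)) ^ N' * (c j * σ (g (J j)) l)) fun j _ => ?_]
    · rw [← Finset.mul_sum, hσ0, mul_zero]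
    · rcases eq_or_ne j l with rfl | hjl
      · simp [pow_add]; ring
      · simp [hjl, Ne.symm hjl]; ring
  have hdet : ∀ l, D.det * c l = 0 := fun l => by
    have := congrArg (fun x => Matrix.vecMul x D.adjugate) hD
    simp only [Matrix.vecMul_vecMul, Matrix.mul_adjugate, Matrix.vecMul_smul, Matrix.vecMul_one,
      Matrix.zero_vecMul] at this
    simpa [Matrix.vecMul_vecMul, Matrix.mul_adjugate] using congrFun this l
  have hcc : cc D.det = r ^ ((N' + N) * m) := by
    rw [RingHom.map_det]
    have : cc.mapMatrix D = (r ^ (N' + N)) • (1 : Matrix (Fin m) (Fin m) R) := by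
      ext j l
      have hk : r ^ N' * cc (T j l) = 0 := by
        rw [show N' = (N' - N1 j) + N1 j from (Nat.sub_add_cancel (Finset.le_sup (f := N1) (Finset.mem_univ j))).symm, pow_add, mul_assoc, hN1, mul_zero]
      simp [D, cc, Matrix.one_apply, apply_ite constantCoeff] at hk ⊢
      exact hk
    rw [this, Matrix.det_smul, Matrix.det_one, mul_one, Fintype.card_fin, ← pow_mul]
  choose M hM using fun l => pow_kills_of_mul_eq_zero r _ _ _ hcc (hdet l)
  exact ⟨Finset.univ.sup M, fun l => by
    rw [← Nat.sub_add_cancel (Finset.le_sup (f := M) (Finset.mem_univ l)), pow_add, mul_assoc, hM, mul_zero]⟩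

end Groth.Agent.S19649
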