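import Groth.Statements.S1965
import Groth.Agent.CAlgH.KrasnerDescent

set_option autoImplicit false
universe u
open Polynomial
open EtAlg

namespace Groth.Agent.S1965

/-- Let A be a complete Noetherian local domain of Krull dimension 1 with maximal ideal m, P a
polynomial over A and α a root of P which is not a root of the derivative P'. Then for every c there
is an n such that for every polynomial Q all of whose coefficients lie in m^n, the polynomial P + Q
has a root β with β - α in m^c. -/
theorem result (A : Type u) [CommRing A] [IsDomain A] [IsLocalRing A] [IsNoetherianRing A]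
    [IsAdicComplete (IsLocalRing.maximalIdeal A) A] (hdim : ringKrullDim A = 1) (P : A[X]) (α : A)
    (hα : P.eval α = 0) (hα' : (derivative P).eval α ≠ 0) (c : ℕ) :
    ∃ n : ℕ, ∀ Q : A[X], (∀ i, Q.coeff i ∈ IsLocalRing.maximalIdeal A ^ n) →
      ∃ β : A, (P + Q).eval β = 0 ∧ β - α ∈ IsLocalRing.maximalIdeal A ^ c := by
  classical
  set m := IsLocalRing.maximalIdeal A
  set d := (derivative P).eval α
  haveI : Ring.KrullDimLE 1 A := Ring.krullDimLE_iff.mpr (by simp [hdim])
  obtain ⟨e, he⟩ : ∃ e, m ^ e ≤ Ideal.span {d} := by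
    refine Ideal.exists_pow_le_of_le_radical_of_fg ?_ (IsNoetherian.noetherian m)
    rw [Ideal.radical_eq_sInf]
    refine le_sInf ?_
    rintro q ⟨hdq, hq⟩
    have hq0 : q ≠ ⊥ := fun h => hα' (Ideal.mem_bot.1 (h ▸ hdq (Ideal.mem_span_singleton_self d)))
    haveI := (Ring.krullDimLE_one_iff_of_noZeroDivisors.mp ‹_›) q hq0 hq
    exact (IsLocalRing.eq_maximalIdeal (I := q) inferInstance).ge
  refine ⟨e + e + (c + 2), fun Q hQ => ?_⟩
  set g := P + Q with hg
  have hQ0 : Q.eval α ∈ m ^ (e + e + (c + 2)) := by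
    rw [Polynomial.eval_eq_sum_range]
    exact Ideal.sum_mem _ fun i _ => Ideal.mul_mem_right _ _ (hQ i)
  have hQ1 : (derivative Q).eval α ∈ m ^ (e + 1) := by
    refine Ideal.pow_le_pow_right (show e + 1 ≤ e + e + (c + 2) by omega) ?_
    rw [Polynomial.eval_eq_sum_range]
    refine Ideal.sum_mem _ fun i _ => Ideal.mul_mem_right _ _ ?_
    rw [Polynomial.coeff_derivative]
    exact Ideal.mul_mem_right _ _ (hQ _)
  obtain ⟨w, hw, hwe⟩ : ∃ w ∈ m ^ (c + 2), d * d * w = g.eval α := by
    rw [hg, Polynomial.eval_add, hα, zero_add, ← Ideal.mem_span_singleton_mul]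
    rw [pow_add, pow_add] at hQ0
    refine Ideal.mul_mono ?_ le_rfl hQ0
    rw [← Ideal.span_singleton_mul_span_singleton]
    exact Ideal.mul_mono he he
  obtain ⟨w', hw', hwe'⟩ : ∃ w' ∈ m, d * w' = (derivative Q).eval α := by
    rw [← Ideal.mem_span_singleton_mul]
    rw [pow_succ] at hQ1
    exact Ideal.mul_mono he le_rfl hQ1
  set T := Polynomial.taylor α g with hT
  have hT1 : T.coeff 1 = d * (1 + w') := by
    rw [hT, Polynomial.taylor_coeff_one, hg, derivative_add, Polynomial.eval_add, ← hwe']
    ring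
  let G : A[X] := Polynomial.C w + Polynomial.C (1 + w') * Polynomial.X + Polynomial.X ^ 2 * T.divX.divX.comp (Polynomial.C d * Polynomial.X)
  obtain ⟨t, ht, htG⟩ := _root_.Groth.Agent.CAlgH.KrasnerDescent.exists_root_of_adic (R := A) (S := A) m G (c + 1)
    (by simpa [G] using hw) (by
      have hG1 : G.coeff 1 = 1 + w' := by simp [G, Polynomial.coeff_X_pow_mul', Polynomial.coeff_one]
      rw [hG1]
      simpa [add_comm] using Ideal.mem_jacobson_bot.1 (IsAdicComplete.le_jacobson_bot m hw') 1)
  refine ⟨α + d * t, ?_, ?_⟩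
  · rw [show α + d * t = d * t + α from add_comm _ _, ← Polynomial.taylor_eval, ← hT]
    have hTe : T = Polynomial.C (T.coeff 0) + Polynomial.X * (Polynomial.C (T.coeff 1) + Polynomial.X * T.divX.divX) := by
      conv_lhs => rw [← Polynomial.X_mul_divX_add T, ← Polynomial.X_mul_divX_add T.divX, Polynomial.coeff_divX]
      ring
    rw [hTe, hT1, hT, Polynomial.taylor_coeff_zero, ← hwe, ← hT]
    have : G.eval t = w + (1 + w') * t + t ^ 2 * T.divX.divX.eval (d * t) := by simp [G]
    rw [this] at htG
    simp only [Polynomial.eval_add, Polynomial.eval_mul, Polynomial.eval_C, Polynomial.eval_X]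
    calc _ = d * d * (w + (1 + w') * t + t ^ 2 * T.divX.divX.eval (d * t)) := by ring
      _ = 0 := by rw [htG, mul_zero]
  · rw [add_sub_cancel_left]
    refine Ideal.mul_mem_left _ _ (Ideal.pow_le_pow_right (show c ≤ c + 1 + 1 by omega) ?_)
    simpa using ht

end Groth.Agent.S1965
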