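import Groth.Statements.S19651

set_option autoImplicit false
universe u v
open AbVar

namespace Groth.Agent.S19651

open Polynomial in
theorem B_reverse {k : Type u} [Field k] {V : Type v} [AddCommGroup V] [Module k V]
    (B : LinearMap.BilinForm k V) (M : Module.End k V) (hM : ∀ x y : V, B (M x) (M y) = B x y)
    (P : k[X]) (x z : V) : B x (aeval M P.reverse z) = B (aeval M P x) ((M ^ P.natDegree) z) := by
  have hpow : ∀ (n : ℕ) (a b : V), B ((M ^ n) a) ((M ^ n) b) = B a b := by
    intro n
    induction n with
    | zero => intro a b; simp
    | succ n ih => intro a b; simp only [pow_succ', Module.End.mul_apply]; rw [hM]; exact ih a b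
  suffices H : ∀ d : ℕ, ∀ Q : k[X], Q.natDegree ≤ d →
      B x (aeval M (Q.reflect d) z) = B (aeval M Q x) ((M ^ d) z) from H _ P le_rfl
  intro d Q hQ
  refine Polynomial.induction_with_natDegree_le
    (fun Q => B x (aeval M (Q.reflect d) z) = B (aeval M Q x) ((M ^ d) z)) d ?_ ?_ ?_ Q hQ
  · simp
  · intro n r hr hn
    rw [Polynomial.reflect_C_mul_X_pow, Polynomial.revAt_le hn]
    simp only [map_mul, aeval_C, map_pow, aeval_X, Module.End.mul_apply, Module.algebraMap_end_apply,
      map_smul, LinearMap.smul_apply]
    congr 1
    rw [← hpow n x ((M ^ (d - n)) z), ← Module.End.mul_apply, ← pow_add, Nat.add_sub_cancel' hn]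
  · intro f g _ _ hf hg
    simp only [Polynomial.reflect_add, map_add, LinearMap.add_apply] at *
    rw [hf, hg]


open Polynomial in
/-- Stated for an arbitrary invariant bilinear form, as the argument there allows. Let k be a field, V a
k-vector space with a bilinear form B and M a linear automorphism of V with B(Mx, My) = B(x, y) for
all x, y. If Q₁ and Q₂ are polynomials such that the reciprocal polynomial of Q₁ (its coefficient
list reversed) is coprime to Q₂, then every vector killed by a power of Q₁(M) is B-orthogonal to
every vector killed by a power of Q₂(M). With Q₁ = Q₂ = Q this says that the generalized kernel of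
Q(M) is totally isotropic whenever Q is coprime to its reciprocal polynomial, which for an
irreducible Q means that Q is not self-reciprocal. (The published statement takes M symplectic and
Q₁, Q₂ irreducible factors of the characteristic polynomial, with Q not self-reciprocal in the first
clause; its second clause asks Q₁ and Q₂ to be distinct and not reciprocal, which holds as proved
when this is read as saying that Q₂ is not the reciprocal of Q₁, but fails if it only means that
neither is self-reciprocal, as the diagonal matrix with entries 2 and 1/2 preserving the standard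
alternating form on k² shows; the coprimality of the reciprocal of Q₁ with Q₂, which is what the
published proof uses, is imposed here and covers both clauses.) -/
theorem result
    {k : Type u} [Field k] {V : Type v} [AddCommGroup V] [Module k V]
    (B : LinearMap.BilinForm k V) (M : V ≃ₗ[k] V)
    (hM : ∀ x y : V, B (M x) (M y) = B x y)
    (Q₁ Q₂ : k[X]) (h : IsCoprime Q₁.reverse Q₂)
    (x y : V)
    (hx : ∃ n : ℕ, (Polynomial.aeval (M : V →ₗ[k] V) Q₁ ^ n) x = 0)
    (hy : ∃ n : ℕ, (Polynomial.aeval (M : V →ₗ[k] V) Q₂ ^ n) y = 0) :
    B x y = 0 := by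
  obtain ⟨n, hn⟩ := hx
  obtain ⟨m, hm⟩ := hy
  obtain ⟨a, b, hab⟩ := h.pow (m := n) (n := m)
  have hrev : (Q₁ ^ n).reverse = Q₁.reverse ^ n := by
    clear hn hab
    induction n with
    | zero => rw [pow_zero, pow_zero, ← map_one Polynomial.C, Polynomial.reverse_C]
    | succ n ih => simp [pow_succ, Polynomial.reverse_mul_of_domain, ih]
  have e := congrArg (fun p => (Polynomial.aeval (M : V →ₗ[k] V) p) y) hab
  simp only [map_add, map_mul, map_pow, map_one, Module.End.one_apply, LinearMap.add_apply,
    Module.End.mul_apply, hm, map_zero, add_zero] at e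
  have e2 : y = Polynomial.aeval (M : V →ₗ[k] V) (Q₁ ^ n).reverse (Polynomial.aeval (M : V →ₗ[k] V) a y) := by
    conv_lhs => rw [← e]
    rw [hrev, ← Module.End.mul_apply, ← Module.End.mul_apply, ← map_pow, ← map_mul, ← map_mul, mul_comm]
  rw [e2, B_reverse B _ hM, map_pow, hn, map_zero, LinearMap.zero_apply]

end Groth.Agent.S19651
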