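import Groth.Statements.S19652
import Groth.Agent.S19651
import Mathlib.RingTheory.Artinian.Module
import Mathlib.RingTheory.HopkinsLevitzki

set_option autoImplicit false
universe u v
open AbVar

namespace Groth.Agent.S19652

open Polynomial in
/-- Stated for an arbitrary invariant nondegenerate bilinear form, as the argument there allows. Let k
be a field, V a finite-dimensional k-vector space with a nondegenerate bilinear form B and M a
linear automorphism of V with B(Mx, My) = B(x, y) for all x, y. If Q is a polynomial associated to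
its own reciprocal polynomial (its coefficient list reversed), then B restricted to the generalized
kernel of Q(M), the union of the kernels of the powers Q(M)^n, is nondegenerate. (The published
statement takes M symplectic and Q a self-reciprocal divisor of the characteristic polynomial;
divisibility plays no role and is not assumed.) -/
theorem result
    {k : Type u} [Field k] {V : Type v} [AddCommGroup V] [Module k V] [FiniteDimensional k V]
    (B : LinearMap.BilinForm k V) (hB : B.Nondegenerate) (M : V ≃ₗ[k] V)
    (hM : ∀ x y : V, B (M x) (M y) = B x y)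
    (Q : k[X]) (hQ : Associated Q Q.reverse) :
    (B.restrict (⨆ n : ℕ, LinearMap.ker (Polynomial.aeval (M : V →ₗ[k] V) Q ^ n))).Nondegenerate := by
  set f : Module.End k V := (M : V →ₗ[k] V) with hf
  obtain ⟨N, hN⟩ := Filter.eventually_atTop.1
    ((aeval f Q).eventually_isCompl_ker_pow_range_pow.and (aeval f Q).eventually_iSup_ker_pow_eq)
  obtain ⟨hc, hsup⟩ := hN N le_rfl
  have hpowN : (aeval f Q) ^ N = aeval f (Q ^ N) := by rw [map_pow]
  have hrev : (Q ^ N).reverse = Q.reverse ^ N := by
    clear hc hsup hpowN hN
    induction N with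
    | zero => rw [pow_zero, pow_zero, ← map_one Polynomial.C, Polynomial.reverse_C]
    | succ N ih => simp [pow_succ, Polynomial.reverse_mul_of_domain, ih]
  obtain ⟨u, hu⟩ := hQ.pow_pow (n := N)
  rw [← hrev] at hu
  have key : ∀ B' : LinearMap.BilinForm k V, (∀ x y, B' (f x) (f y) = B' x y) →
      ∀ x ∈ LinearMap.ker (aeval f Q ^ N), ∀ z, B' x ((aeval f Q ^ N) z) = 0 := by
    intro B' hB' x hx z
    rw [LinearMap.mem_ker, hpowN] at hx
    have e : Q ^ N = (Q ^ N).reverse * (↑(u⁻¹) : k[X]) := by rw [← hu, mul_assoc, Units.mul_inv, mul_one]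
    rw [hpowN, e, map_mul, Module.End.mul_apply, S19651.B_reverse B' f hB', hx, map_zero, LinearMap.zero_apply]
  rw [hsup]
  constructor
  · rintro ⟨x, hx⟩ H
    apply Subtype.ext
    apply hB.1 x
    intro v
    obtain ⟨a, ha, b, ⟨z, rfl⟩, rfl⟩ := Submodule.mem_sup.1 (hc.sup_eq_top ▸ Submodule.mem_top (x := v))
    rw [map_add, key B hM x hx z, add_zero]
    exact H ⟨a, ha⟩
  · rintro ⟨y, hy⟩ H
    apply Subtype.ext
    apply hB.2 y
    intro v
    obtain ⟨a, ha, b, ⟨z, rfl⟩, rfl⟩ := Submodule.mem_sup.1 (hc.sup_eq_top ▸ Submodule.mem_top (x := v))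
    rw [map_add, LinearMap.add_apply]
    have : B ((aeval f Q ^ N) z) y = 0 := key (LinearMap.BilinForm.flip B) (fun a b => hM b a) y hy z
    rw [this, add_zero]
    exact H ⟨a, ha⟩

end Groth.Agent.S19652
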