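import Groth.Statements.S19657
import Groth.Agent.EGA43.ProperDvr.FlatConnected
import Mathlib.AlgebraicGeometry.Morphisms.SmoothFiber
-- import your own Groth.Agent.* helpers here

set_option autoImplicit false
set_option backward.isDefEq.respectTransparency false
universe u
open AlgebraicGeometry CategoryTheory CategoryTheory.Limits Topology
open EGA43

namespace Groth.Agent.S19657

/-- The implication from the weakest fibrewise condition to the global one. Let S be a locally
Noetherian scheme and f : X → S a surjective, flat, separated morphism, locally of finite
presentation and quasi-compact, whose fibres are all smooth and proper over the residue fields and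
whose fibres over the maximal points of S (points without proper generization) are geometrically
connected. Then f is proper and smooth with geometrically connected fibres. (The text states the
criterion over an arbitrary base, appealing to a limit argument it does not carry out, and without
the words separated and surjective, which its proof uses through the properness criterion it invokes
and which are both needed: an abelian variety over the fraction field of a discrete valuation ring,
viewed over the ring, is flat of finite presentation with smooth proper fibres, the closed one
empty, and is not proper; and two copies of the projective line over a discrete valuation ring glued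
along their generic fibres form a flat, surjective, finitely presented scheme over the ring with
smooth proper fibres and geometrically connected generic fibre which is neither separated nor
proper.) -/
theorem result
    {X S : Scheme.{u}} [IsLocallyNoetherian S] (f : X ⟶ S)
    [Surjective f] [Flat f] [IsSeparated f] [LocallyOfFinitePresentation f] [QuasiCompact f]
    (hsm : ∀ s : S, Smooth (f.fiberToSpecResidueField s))
    (hpr : ∀ s : S, IsProper (f.fiberToSpecResidueField s))
    (hgen : ∀ η : S, (∀ η' : S, η' ⤳ η → η' = η) → GeometricallyConnected (f.fiberToSpecResidueField η)) :
    IsProper f ∧ Smooth f ∧ GeometricallyConnected f := by
  have hne : ∀ s : S, Nonempty ↥(f.fiber s) := fun s => by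
    obtain ⟨x, rfl⟩ := f.surjective s
    exact ⟨f.asFiber x⟩
  refine ⟨?_, Smooth.of_smooth_fiberToSpecResidueField f hsm,
    (AlgebraicGeometry.GeometricallyConnected.iff_geometricallyConnected_fiber f).2 fun s => ?_⟩
  · choose U hU hP using fun s : S => @Groth.Agent.EGA43.ProperDvr.exists_isProper_of_flat _ _ _ f _ _ _ _
      (fun η h _ => hgen η h) s (hne s) (hpr s)
    exact IsZariskiLocalAtTarget.of_iSup_eq_top (P := @IsProper) U
      (top_le_iff.1 fun s _ => TopologicalSpace.Opens.mem_iSup.2 ⟨s, hU s⟩) hP
  · haveI := hne s
    exact Groth.Agent.EGA43.ProperDvr.geometricallyConnected_fibre_of_flat f hgen s (hpr s)

end Groth.Agent.S19657
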