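import Groth.Statements.S19658
import Groth.Agent.AbVarLib.MulIsogeny
import Groth.Agent.HenselLib.SectionsLift
open CategoryTheory MonoidalCategory CartesianMonoidalCategory MonObj GrpObj

set_option autoImplicit false
universe u
open CategoryTheory CategoryTheory.Limits MonoidalCategory CartesianMonoidalCategory AlgebraicGeometry
open Neron

namespace Groth.Agent.S19658

/-- The first display of the lemma, in the generality its argument gives. Let R be a henselian local
ring with residue field k, G a commutative group scheme over Spec R that is smooth, separated and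
quasi-compact, and N a natural number which is a unit in R. Then every k-valued point of G killed by
N lifts to exactly one R-valued point of G killed by N; that is, reduction G(R)[N] → G(k)[N] is a
bijection on N-torsion. (The text applies this to the Néron model of an abelian variety over a
henselian discrete valuation ring, where G(R) = A(K).) -/
theorem result
    (R : Type u) [CommRing R] [HenselianLocalRing R]
    (G : Over (Spec (CommRingCat.of R))) [GrpObj G] [IsCommMonObj G]
    [Smooth G.hom] [IsSeparated G.hom] [QuasiCompact G.hom]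
    (N : ℕ) (hN : IsUnit (N : R))
    (τ : Over.mk (Spec.map (CommRingCat.ofHom (IsLocalRing.residue R))) ⟶ G)
    (hτ : τ ∈ AbDual.torsPts G N (Over.mk (Spec.map (CommRingCat.ofHom (IsLocalRing.residue R))))) :
    ∃! σ : Over.mk (𝟙 (Spec (CommRingCat.of R))) ⟶ G,
      σ ∈ AbDual.torsPts G N (Over.mk (𝟙 (Spec (CommRingCat.of R)))) ∧
        Over.homMk (Spec.map (CommRingCat.ofHom (IsLocalRing.residue R))) (Category.comp_id _) ≫ σ = τ := by
  let S := Spec (CommRingCat.of R)
  have hu : IsUnit (((N : ℤ)) : Γ(S, ⊤)) := by
    have := hN.map (Scheme.ΓSpecIso (CommRingCat.of R)).inv.hom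
    simpa using this
  have het := Groth.Agent.AbVarLib.etale_zpow G (N : ℤ) hu
  let f := (𝟙 G ^ (N : ℤ) : G ⟶ G)
  let u := (1 : Over.mk (𝟙 S) ⟶ G)
  let p : Limits.pullback u.left f.left ⟶ S := Limits.pullback.fst u.left f.left
  have hp : Etale p := MorphismProperty.pullback_fst (P := @Etale) _ _ het
  have hpow : ∀ {T : Over S} (a : T ⟶ G), (a ^ N).left = a.left ≫ f.left := fun a => by
    rw [← Over.comp_left, GrpObj.comp_zpow, Category.comp_id, zpow_natCast]
  let q : Over.mk (Spec.map (CommRingCat.ofHom (IsLocalRing.residue R))) ⟶ Over.mk (𝟙 S) :=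
    Over.homMk (Spec.map (CommRingCat.ofHom (IsLocalRing.residue R))) (Category.comp_id _)
  have hτ' : q.left ≫ u.left = τ.left ≫ f.left := by
    rw [← Over.comp_left, ← hpow]
    show (q ≫ (1 : Over.mk (𝟙 S) ⟶ G)).left = _
    rw [(AbDual.mem_torsPts G τ).1 hτ, MonObj.comp_one]
  obtain ⟨s, hs, hst⟩ := Groth.Agent.HenselLib.SectionsLift.exists_section p
    (Limits.pullback.lift q.left τ.left hτ') (Limits.pullback.lift_fst _ _ _)
  have hsw : (s ≫ Limits.pullback.snd u.left f.left) ≫ G.hom = 𝟙 S := by
    have h1 := Over.w f
    rw [Category.assoc, ← h1, ← Limits.pullback.condition_assoc, Over.w u]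
    show s ≫ p ≫ 𝟙 _ = 𝟙 _
    rw [Category.comp_id, hs]
  refine ⟨Over.homMk (s ≫ Limits.pullback.snd u.left f.left) hsw, ⟨(AbDual.mem_torsPts G _).2 ?_, ?_⟩, ?_⟩
  · refine Over.OverMorphism.ext ?_
    rw [hpow]
    show (s ≫ Limits.pullback.snd u.left f.left) ≫ f.left = u.left
    rw [Category.assoc, ← Limits.pullback.condition, ← Category.assoc]
    show (s ≫ p) ≫ u.left = u.left
    rw [hs, Category.id_comp]
  · refine Over.OverMorphism.ext ?_
    show q.left ≫ s ≫ Limits.pullback.snd u.left f.left = τ.left
    rw [← Category.assoc]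
    exact (congrArg (fun k => k ≫ Limits.pullback.snd u.left f.left) hst).trans (Limits.pullback.lift_snd _ _ _)
  · rintro σ ⟨hσ1, hσ2⟩
    have hσf : (𝟙 S) ≫ u.left = σ.left ≫ f.left := by
      rw [← hpow, (AbDual.mem_torsPts G σ).1 hσ1, Category.id_comp]
    have := Groth.Agent.HenselLib.SectionsLift.section_unique p s (Limits.pullback.lift (𝟙 S) σ.left hσf) hs
      (Limits.pullback.lift_fst _ _ _) (hst.trans (Limits.pullback.hom_ext ?_ ?_))
    · refine Over.OverMorphism.ext ?_
      show σ.left = s ≫ Limits.pullback.snd u.left f.left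
      rw [this, Limits.pullback.lift_snd]
    · rw [Category.assoc, Limits.pullback.lift_fst, Limits.pullback.lift_fst]
      exact (Category.comp_id _).symm
    · rw [Category.assoc, Limits.pullback.lift_snd, Limits.pullback.lift_snd]
      exact (congrArg Over.Hom.left hσ2).symm

end Groth.Agent.S19658
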