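import Groth.Statements.S1966
import Groth.Agent.HenselLib.Perm
import Mathlib.Dynamics.Newton

set_option autoImplicit false
universe u
open EtAlg

namespace Groth.Agent.S1966

/-- Towers indexed by the natural numbers: let (A_k) be rings with surjective transition maps A_{k+1} ->
A_k whose kernels consist of nilpotent elements, and let A be a ring with compatible projections p_k
: A -> A_k identifying A with the set of compatible sequences (p is jointly injective and every
compatible sequence comes from an element of A). Then for every k the pair (A, ker p_k) is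
henselian. -/
theorem result (A : Type u) [CommRing A] (As : ℕ → Type u) [∀ k, CommRing (As k)]
    (t : ∀ k, As (k + 1) →+* As k) (ht : ∀ k, Function.Surjective (t k))
    (hnil : ∀ k (x : As (k + 1)), t k x = 0 → IsNilpotent x)
    (p : ∀ k, A →+* As k) (hp : ∀ k, (t k).comp (p (k + 1)) = p k)
    (hinj : ∀ a b : A, (∀ k, p k a = p k b) → a = b)
    (hsurj : ∀ x : ∀ k, As k, (∀ k, t k (x (k + 1)) = x k) → ∃ a : A, ∀ k, p k a = x k) (k : ℕ) :
    HenselianRing A (RingHom.ker (p k)) := by
  have hsur : ∀ k (x : As k), ∃ y : ∀ j, As j, (∀ j, t j (y (j + 1)) = y j) ∧ y k = x := by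
    intro k
    induction k with
    | zero =>
        intro x
        choose s hs using ht
        exact ⟨fun j => Nat.rec (motive := fun j => As j) x (fun i y => s i y) j,
          fun j => hs j _, rfl⟩
    | succ k ih =>
        intro x
        obtain ⟨y, hy, hyk⟩ := ih (t k x)
        choose s hs using ht
        let w : ∀ j, As j := fun j => Nat.rec (motive := fun j => As j) (y 0)
          (fun i wi => if h : i = k then h ▸ x else if i < k then y (i + 1) else s i wi) j
        have hw : ∀ j, w (j + 1) = if h : j = k then h ▸ x else if j < k then y (j + 1) else s j (w j) :=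
          fun j => rfl
        have hlow : ∀ j, j ≤ k → w j = y j := fun j hj => by
          cases j with
          | zero => rfl
          | succ i => rw [hw, dif_neg (by omega), if_pos (by omega)]
        refine ⟨w, fun j => ?_, by rw [hw, dif_pos rfl]⟩
        rcases lt_trichotomy j k with h | h | h
        · rw [hlow (j + 1) (by omega), hlow j h.le]
          exact hy j
        · subst h
          rw [hw, dif_pos rfl, hlow j le_rfl]
          exact hyk.symm
        · rw [hw, dif_neg (by omega), if_neg (by omega)]
          exact hs _ _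
  have hps : ∀ k, Function.Surjective (p k) := fun k x => by
    obtain ⟨y, hy, rfl⟩ := hsur k x
    obtain ⟨a, ha⟩ := hsurj y hy
    exact ⟨a, ha k⟩
  have hpt : ∀ j a, t j (p (j + 1) a) = p j a := fun j a => congr($(hp j) a)
  have hnilp : ∀ a, IsNilpotent (p k a) → ∀ j, IsNilpotent (p j a) := by
    intro a ha
    have hup : ∀ j, IsNilpotent (p j a) → IsNilpotent (p (j + 1) a) := fun j hj => by
      obtain ⟨n, hn⟩ := hj
      obtain ⟨m, hm⟩ := hnil j (p (j + 1) a ^ n) (by rw [map_pow, hpt, hn])
      exact ⟨n * m, by rw [pow_mul, hm]⟩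
    have hdown : ∀ j, IsNilpotent (p (j + 1) a) → IsNilpotent (p j a) := fun j hj => hpt j a ▸ hj.map (t j)
    have h0 : IsNilpotent (p 0 a) := by
      revert ha
      induction k with
      | zero => exact id
      | succ k ih => exact fun h => ih (hdown k h)
    intro j
    induction j with
    | zero => exact h0
    | succ j ih => exact hup j ih
  have hunit : ∀ a, IsUnit (p k a) → ∀ j, IsUnit (p j a) := by
    intro a ha j
    obtain ⟨u, hu⟩ := ha.exists_left_inv
    obtain ⟨u, rfl⟩ := hps k u
    have h1 : IsNilpotent (p j (u * a - 1)) := hnilp _ (by rw [map_sub, map_mul, map_one, hu, sub_self]; exact IsNilpotent.zero) j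
    have h2 := h1.isUnit_one_add
    rw [map_sub, map_mul, map_one, add_sub_cancel] at h2
    exact isUnit_of_mul_isUnit_right h2
  refine ⟨fun a ha => Ideal.mem_jacobson_bot.mpr fun y => ?_, fun f _ a₀ h0 h1 => ?_⟩
  · have hu : ∀ j, IsUnit (p j (a * y + 1)) :=
      hunit _ (by rw [map_add, map_mul, map_one, show p k a = 0 from ha, zero_mul, zero_add]; exact isUnit_one)
    choose v hv using fun j => (hu j).exists_left_inv
    obtain ⟨b, hb⟩ := hsurj v fun j => by
      refine (hu j).mul_left_injective ?_
      show t j (v (j + 1)) * _ = v j * _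
      rw [hv j, ← hpt j, ← map_mul, hv (j + 1), map_one]
    exact IsUnit.of_mul_eq_one b (hinj _ _ fun j => by rw [map_mul, map_one, hb, mul_comm]; exact hv j)
  · have hd : ∀ j, IsUnit (p j (f.derivative.eval a₀)) := by
      refine hunit _ ?_
      obtain ⟨u, hu⟩ := h1.exists_left_inv
      obtain ⟨u, rfl⟩ := Ideal.Quotient.mk_surjective u
      rw [← map_mul, ← map_one (Ideal.Quotient.mk _), Ideal.Quotient.eq, RingHom.mem_ker, map_sub,
        map_mul, map_one, sub_eq_zero, mul_comm] at hu
      exact IsUnit.of_mul_eq_one _ hu
    have h0' : ∀ j, IsNilpotent (p j (f.eval a₀)) :=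
      hnilp _ (by rw [show p k (f.eval a₀) = 0 from h0]; exact IsNilpotent.zero)
    have hev : ∀ j a, (f.map (p j)).eval (p j a) = p j (f.eval a) := fun j a => by
      rw [Polynomial.eval_map, Polynomial.eval₂_at_apply]
    have hex : ∀ j, ∃! r : As j, IsNilpotent (p j a₀ - r) ∧ (f.map (p j)).eval r = 0 := fun j => by
      have := Polynomial.existsUnique_nilpotent_sub_and_aeval_eq_zero (P := f.map (p j)) (x := p j a₀)
        (by rw [Polynomial.coe_aeval_eq_eval, hev]; exact h0' j)
        (by rw [Polynomial.coe_aeval_eq_eval, Polynomial.derivative_map, Polynomial.eval_map,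
              Polynomial.eval₂_at_apply]; exact hd j)
      simpa [Polynomial.coe_aeval_eq_eval] using this
    choose r hr hru using hex
    obtain ⟨a, ha⟩ := hsurj r fun j => hru j _ ⟨by rw [← hpt j, ← map_sub]; exact (hr (j + 1)).1.map (t j),
      by
        have h2 := congrArg (t j) (hr (j + 1)).2
        rw [map_zero, Polynomial.eval_map, Polynomial.hom_eval₂, hp, ← Polynomial.eval_map] at h2
        exact h2⟩
    refine ⟨a, hinj _ _ fun j => by rw [← hev, ha, (hr j).2, map_zero], ?_⟩
    rw [RingHom.mem_ker, map_sub, ha, sub_eq_zero]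
    exact (hru k (p k a₀) ⟨by rw [sub_self]; exact IsNilpotent.zero, by rw [hev]; exact h0⟩).symm

end Groth.Agent.S1966
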