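import Groth.Statements.S19660
import Mathlib.Tactic.LinearCombination
import Mathlib.LinearAlgebra.Eigenspace.Basic
import Mathlib.RingTheory.Polynomial.Basic
import Mathlib.RingTheory.Artinian.Module
import Mathlib.RingTheory.HopkinsLevitzki

set_option autoImplicit false
universe u v
open AbVar

namespace Groth.Agent.S19660

theorem conformal_sub {k : Type u} [Field k] {V : Type v} [AddCommGroup V] [Module k V]
    (B : LinearMap.BilinForm k V) (q c c' : k) (hc : c * c' = q)
    (M : V ≃ₗ[k] V) (hM : ∀ x y : V, B (M x) (M y) = q * B x y) (N : ℕ) :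
    ∀ x z : V, (((M : Module.End k V) - c' • (1 : Module.End k V)) ^ N) x = 0 →
      B x ((((M : Module.End k V) - c • (1 : Module.End k V)) ^ N) z) = 0 := by
  induction N with
  | zero => intro x z hx; simp only [pow_zero, Module.End.one_apply] at hx; simp [hx]
  | succ N ih =>
    intro x z hx
    obtain ⟨x', rfl⟩ : ∃ x', M x' = x := ⟨M.symm x, M.apply_symm_apply x⟩
    rw [pow_succ', Module.End.mul_apply]
    generalize hw : (((M : Module.End k V) - c • (1 : Module.End k V)) ^ N) z = w
    have e : B (M x') (((M : Module.End k V) - c • (1 : Module.End k V)) w) = -c * B (((M : Module.End k V) - c' • (1 : Module.End k V)) x') w := by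
      simp only [LinearMap.sub_apply, LinearMap.smul_apply, Module.End.one_apply, LinearEquiv.coe_coe,
        map_sub, map_smul, smul_eq_mul, hM]
      linear_combination (-(B x' w)) * hc
    rw [e, ← hw, ih, mul_zero]
    set T : Module.End k V := (M : Module.End k V) - c' • (1 : Module.End k V) with hT
    have hcomm : T * (M : Module.End k V) = (M : Module.End k V) * T := by
      simp [hT, sub_mul, mul_sub]
    have hcomm' : Commute (T ^ (N + 1)) (M : Module.End k V) := Commute.pow_left hcomm _
    have h0 : M ((T ^ (N + 1)) x') = 0 := by
      have := congrArg (fun e : Module.End k V => e x') hcomm'.eq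
      simp only [Module.End.mul_apply, LinearEquiv.coe_coe] at this
      rw [← this]; exact hx
    rw [LinearEquiv.map_eq_zero_iff] at h0
    rwa [← Module.End.mul_apply, ← pow_succ]


/-- The text applies this to the Frobenius acting on the points of prime order of a principally
polarised abelian variety over a finite field with q elements and to their Weil pairing. Let k be a
field, V a finite-dimensional k-vector space with a nondegenerate bilinear form B, q a nonzero
element of k and M a linear automorphism of V with B(Mx, My) = q·B(x, y) for all x, y. Write V₁ and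
V_q for the generalized eigenspaces of M at 1 and at q. Then every vector of V₁ that is B-orthogonal
to all of V_q is zero, every vector of V_q that is B-orthogonal (on the right) to all of V₁ is zero,
and when q ≠ 1 the form B vanishes identically on V₁ × V₁ and on V_q × V_q. (The text asserts this
as the evident adaptation, to a form scaled by q, of the orthogonality and nondegeneracy facts for
generalized kernels of an automorphism preserving a form; the abstract statement is recorded here,
the application to the Weil pairing needing that pairing's formalism.) -/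
theorem result
    {k : Type u} [Field k] {V : Type v} [AddCommGroup V] [Module k V] [FiniteDimensional k V]
    (B : LinearMap.BilinForm k V) (hB : B.Nondegenerate) (q : k) (hq : q ≠ 0)
    (M : V ≃ₗ[k] V) (hM : ∀ x y : V, B (M x) (M y) = q * B x y) :
    (∀ x ∈ Module.End.maxGenEigenspace (M : Module.End k V) 1,
        (∀ y ∈ Module.End.maxGenEigenspace (M : Module.End k V) q, B x y = 0) → x = 0) ∧
      (∀ y ∈ Module.End.maxGenEigenspace (M : Module.End k V) q,
        (∀ x ∈ Module.End.maxGenEigenspace (M : Module.End k V) 1, B x y = 0) → y = 0) ∧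
      (q ≠ 1 → ∀ x ∈ Module.End.maxGenEigenspace (M : Module.End k V) 1,
        ∀ x' ∈ Module.End.maxGenEigenspace (M : Module.End k V) 1, B x x' = 0) ∧
      (q ≠ 1 → ∀ y ∈ Module.End.maxGenEigenspace (M : Module.End k V) q,
        ∀ y' ∈ Module.End.maxGenEigenspace (M : Module.End k V) q, B y y' = 0) := by
  set f : Module.End k V := (M : Module.End k V) with hf
  have hflip : ∀ x y : V, LinearMap.BilinForm.flip B (M x) (M y) = q * LinearMap.BilinForm.flip B x y := fun x y => hM y x
  have main : ∀ c c' : k, c * c' = q →
      (∀ B' : LinearMap.BilinForm k V, (∀ x y : V, B' (M x) (M y) = q * B' x y) →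
        ((∀ x, (∀ y, B' x y = 0) → x = 0) →
          ∀ x ∈ Module.End.maxGenEigenspace f c', (∀ y ∈ Module.End.maxGenEigenspace f c, B' x y = 0) → x = 0) ∧
        (c ≠ c' → ∀ x ∈ Module.End.maxGenEigenspace f c', ∀ x' ∈ Module.End.maxGenEigenspace f c', B' x x' = 0)) := by
    intro c c' hc B' hB'
    constructor
    · intro hnd x hx H
      obtain ⟨n, hn⟩ := (Module.End.mem_maxGenEigenspace _ _ _).1 hx
      obtain ⟨N, hN⟩ := Filter.eventually_atTop.1 ((f - c • (1 : Module.End k V)).eventually_isCompl_ker_pow_range_pow)
      have hc' := hN (max N n) (le_max_left _ _)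
      apply hnd
      intro v
      obtain ⟨a, ha, b, ⟨z, rfl⟩, rfl⟩ := Submodule.mem_sup.1 (hc'.sup_eq_top ▸ Submodule.mem_top (x := v))
      rw [map_add, H a ((Module.End.mem_maxGenEigenspace _ _ _).2 ⟨_, ha⟩), zero_add]
      refine conformal_sub B' q c c' hc M hB' _ x z ?_
      exact Module.End.pow_map_zero_of_le (le_max_right N n) hn
    · intro hne x hx x' hx'
      obtain ⟨n, hn⟩ := (Module.End.mem_maxGenEigenspace _ _ _).1 hx
      obtain ⟨m, hm⟩ := (Module.End.mem_maxGenEigenspace _ _ _).1 hx'
      have hcop : IsCoprime ((Polynomial.X - Polynomial.C c) ^ n) ((Polynomial.X - Polynomial.C c') ^ m) :=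
        (Polynomial.isCoprime_X_sub_C_of_isUnit_sub (sub_ne_zero.2 hne).isUnit).pow
      obtain ⟨a, b, hab⟩ := hcop
      have e := congrArg (fun p => (Polynomial.aeval f p) x') hab
      have hl : ∀ t : k, Polynomial.aeval f (Polynomial.X - Polynomial.C t) = f - t • (1 : Module.End k V) := by
        intro t; rw [map_sub, Polynomial.aeval_X, Polynomial.aeval_C, Algebra.algebraMap_eq_smul_one]
      simp only [mul_comm a, map_add, map_mul, map_pow, map_one, hl, Module.End.one_apply, LinearMap.add_apply,
        Module.End.mul_apply, hm, map_zero, add_zero] at e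
      rw [← e]
      exact conformal_sub B' q c c' hc M hB' n x _ hn
  have hl : ∀ x, (∀ y, B x y = 0) → x = 0 := hB.1
  have hr : ∀ x, (∀ y, LinearMap.BilinForm.flip B x y = 0) → x = 0 := hB.2
  refine ⟨(main q 1 (mul_one q) B hM).1 hl, (main 1 q (one_mul q) _ hflip).1 hr, ?_, ?_⟩
  · intro hq1
    exact (main q 1 (mul_one q) B hM).2 hq1
  · intro hq1
    exact (main 1 q (one_mul q) B hM).2 (Ne.symm hq1)

end Groth.Agent.S19660
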