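import Groth.Statements.S19679
import Groth.Agent.Stk19b.Quot.Induced
-- import your own Groth.Agent.* helpers here

set_option autoImplicit false
universe u
open CategoryTheory MonoidalCategory CartesianMonoidalCategory MonObj AlgebraicGeometry
open ChGrp

set_option backward.isDefEq.respectTransparency.types false
set_option backward.isDefEq.respectTransparency false
namespace Groth.Agent.S19679

/-- Let k be an algebraically closed field of characteristic zero, G and H affine group schemes of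
finite type over k (algebraic groups) with i : H → G a homomorphism which is a closed immersion, and
Z a reduced affine k-scheme of finite type (an affine variety) with an action of H. Let Y, with its
G-action and j : G × Z → Y, be the balanced product G ×^H Z for the fppf topology: j is
G-equivariant for left translation on the first factor, it is a torsor for the twisted H-action
h·(g, z) = (g i(h)⁻¹, h·z), and it has sections fppf-locally on Y. If π_Z : Z → P is a categorical
quotient of Z by H and π_Y : Y → Q a categorical quotient of Y by G, then the projection G × Z → Z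
induces an isomorphism Q ≅ P, inverse to the morphism induced by the H-invariant map z ↦ π_Y(j(e,
z)): there are mutually inverse φ : P → Q and χ : Q → P with π_Z followed by φ equal to z ↦ π_Y(j(e,
z)) and j followed by π_Y and χ equal to the projection followed by π_Z (so Y//G ≅ Z//H). (The
source assumes G and H reductive and defines G ×^H Z as the quotient (G × Z)//H, a principal
H-bundle; here the quotients are part of the data, the balanced product is taken in its torsor form,
and reductivity is not needed.) -/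
theorem result
    (k : Type u) [Field k] [IsAlgClosed k] [CharZero k]
    (G H Z Y P Q : Over (Spec (CommRingCat.of k))) [GrpObj G] [GrpObj H]
    [IsAffine G.left] [LocallyOfFiniteType G.hom] [IsAffine H.left] [LocallyOfFiniteType H.hom]
    (i : H ⟶ G) [IsMonHom i] [IsClosedImmersion i.left]
    [IsAffine Z.left] [LocallyOfFiniteType Z.hom] [IsReduced Z.left]
    (aZ : AlgGrp.Action H Z) (aY : AlgGrp.Action G Y) (j : G ⊗ Z ⟶ Y)
    (hY : ChGrp.IsBalProd Scheme.fppfPrecoverage i aZ aY j)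
    (πZ : Z ⟶ P) (hP : GIT.IsCatQuot aZ πZ) (πY : Y ⟶ Q) (hQ : GIT.IsCatQuot aY πY) :
    ∃ (φ : P ⟶ Q) (χ : Q ⟶ P), φ ≫ χ = 𝟙 P ∧ χ ≫ φ = 𝟙 Q ∧
      πZ ≫ φ = lift (toUnit Z ≫ η[G]) (𝟙 Z) ≫ j ≫ πY ∧ j ≫ πY ≫ χ = snd G Z ≫ πZ := by
  haveI : (QuotSh.J Scheme.fppfPrecoverage (Spec (CommRingCat.of k))).Subcanonical :=
    Groth.Agent.Stk19b.Quot.subcanonical_J _ Scheme.fppfPrecoverage_le_fpqcPrecoverage
  obtain ⟨heq, hcart, hloc⟩ := hY
  have hj : ∀ {T : Over (Spec (CommRingCat.of k))} (g a : T ⟶ G) (z : T ⟶ Z),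
      lift g (lift a z ≫ j) ≫ aY.act = lift (g * a) z ≫ j := fun {T} g a z => by
    have h := congrArg (lift g (lift a z) ≫ ·) heq
    rw [AlgGrp.Action.lift_prod_act_assoc, AlgGrp.Action.lift_trivial_act, lift_whiskerLeft_assoc] at h
    rw [show lift g a ≫ (NonAbH1.trivialAction G).act = g * a from (Hom.mul_def g a).symm] at h
    exact h.symm
  have htw : ∀ {T : Over (Spec (CommRingCat.of k))} (h : T ⟶ H) (g : T ⟶ G) (z : T ⟶ Z),
      lift (g * (h ≫ i)⁻¹) (lift h z ≫ aZ.act) ≫ j = lift g z ≫ j := fun {T} h g z => by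
    have e := congrArg (lift h (lift g z) ≫ ·) hcart.w
    rw [ChGrp.lift_twist_act_assoc, lift_snd_assoc] at e
    exact e
  have hsec : ∀ {T : Over (Spec (CommRingCat.of k))} (z : T ⟶ Z),
      z ≫ lift (toUnit Z ≫ η[G]) (𝟙 Z) ≫ j = lift 1 z ≫ j := fun {T} z => by
    rw [← Hom.one_def, comp_lift_assoc, MonObj.comp_one, Category.comp_id]
  -- the map on invariant-theoretic quotients of `Z`
  have hφinv : GIT.IsInvariant aZ (lift (toUnit Z ≫ η[G]) (𝟙 Z) ≫ j ≫ πY) := by
    show aZ.act ≫ lift (toUnit Z ≫ η[G]) (𝟙 Z) ≫ j ≫ πY = snd H Z ≫ lift (toUnit Z ≫ η[G]) (𝟙 Z) ≫ j ≫ πY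
    rw [reassoc_of% (hsec aZ.act), reassoc_of% (hsec (snd H Z))]
    have h1 := htw (fst H Z) (fst H Z ≫ i) (snd H Z)
    rw [mul_inv_cancel, lift_fst_snd, Category.id_comp] at h1
    have h2 := hj (fst H Z ≫ i) 1 (snd H Z)
    rw [_root_.mul_one] at h2
    rw [reassoc_of% h1, ← reassoc_of% h2, hQ.1]
    rw [lift_snd_assoc, Category.assoc]
  obtain ⟨φ, hφ, -⟩ := hP.2 Q _ hφinv
  -- descent along `j`
  have hcov := Groth.Agent.Stk19b.Quot.generate_mem_of_loc j hloc
  have hsheaf : Presieve.IsSheafFor (yoneda.obj P) (Presieve.singleton j) :=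
    (GrothendieckTopology.Subcanonical.isSheaf_of_isRepresentable (yoneda.obj P)).isSheafFor _ hcov
  obtain ⟨ψ, hψ, hψu⟩ := (Presieve.isSheafFor_singleton.1 hsheaf) (snd G Z ≫ πZ) (fun {T} p₁ p₂ hp => by
    show p₁ ≫ snd G Z ≫ πZ = p₂ ≫ snd G Z ≫ πZ
    obtain ⟨m, hm1, hm2⟩ : ∃ m : T ⟶ H ⊗ (G ⊗ Z), m ≫ (ChGrp.twist i aZ).act = p₁ ∧ m ≫ snd H (G ⊗ Z) = p₂ :=
      ⟨hcart.lift p₁ p₂ hp, hcart.lift_fst _ _ _, hcart.lift_snd _ _ _⟩
    have hm : m = lift (m ≫ fst _ _) (lift (p₂ ≫ fst G Z) (p₂ ≫ snd G Z)) := by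
      apply CartesianMonoidalCategory.hom_ext
      · simp
      · rw [lift_snd, ← comp_lift, lift_fst_snd, Category.comp_id, hm2]
    rw [hm, ChGrp.lift_twist_act] at hm1
    rw [← hm1, lift_snd_assoc, Category.assoc, hP.1, lift_snd_assoc, Category.assoc])
  change j ≫ ψ = snd G Z ≫ πZ at hψ
  have hψinv : GIT.IsInvariant aY ψ := by
    show aY.act ≫ ψ = snd G Y ≫ ψ
    -- both sides agree after the cover `G ⊗ (G ⊗ Z) → G ⊗ Y`
    have hcov' := (QuotSh.J Scheme.fppfPrecoverage (Spec (CommRingCat.of k))).pullback_stable (snd G Y) hcov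
    refine ((GrothendieckTopology.Subcanonical.isSheaf_of_isRepresentable (yoneda.obj P)) _ hcov').isSeparatedFor.ext
      fun T l hl => ?_
    obtain ⟨W, q, g, ⟨⟩, hq⟩ := hl
    show l ≫ aY.act ≫ ψ = l ≫ snd G _ ≫ ψ
    have hl' : l = lift (l ≫ fst G _) (q ≫ j) := by
      apply CartesianMonoidalCategory.hom_ext
      · simp
      · rw [lift_snd, hq]
    have hq' : q = lift (q ≫ fst G Z) (q ≫ snd G Z) := by
      rw [← comp_lift, lift_fst_snd, Category.comp_id]
    rw [hl', lift_snd_assoc, Category.assoc, hψ]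
    conv_lhs => rw [← Category.assoc, hq', hj, Category.assoc, hψ, lift_snd_assoc]
    rw [Category.assoc]
  obtain ⟨χ, hχ, -⟩ := hQ.2 P ψ hψinv
  refine ⟨φ, χ, ?_, ?_, hφ, by rw [hχ, hψ]⟩
  · refine (hP.2 P πZ hP.1).unique ?_ (Category.comp_id _)
    rw [← Category.assoc, hφ, Category.assoc, Category.assoc, hχ, hψ, lift_snd_assoc, Category.id_comp]
  · refine (hQ.2 Q πY hQ.1).unique ?_ (Category.comp_id _)
    rw [← Category.assoc, hχ]
    refine ((GrothendieckTopology.Subcanonical.isSheaf_of_isRepresentable (yoneda.obj Q)) _ hcov).isSeparatedFor.ext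
      fun T l hl => ?_
    obtain ⟨W, q, g, ⟨⟩, hq⟩ := hl
    show l ≫ ψ ≫ φ = l ≫ πY
    rw [← hq, Category.assoc, Category.assoc, reassoc_of% hψ, hφ, ← Category.assoc q (snd G Z),
      ← Category.assoc (q ≫ snd G Z), ← Category.assoc ((q ≫ snd G Z) ≫ _)]
    rw [Category.assoc (q ≫ snd G Z), hsec]
    have h2 := hj (q ≫ fst G Z) 1 (q ≫ snd G Z)
    rw [_root_.mul_one, ← comp_lift q (fst G Z), lift_fst_snd, Category.comp_id] at h2
    rw [← Category.assoc q j, ← h2, Category.assoc (lift _ _) aY.act, hQ.1, lift_snd_assoc]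

end Groth.Agent.S19679
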