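import Groth.Statements.S19681
import Groth.Agent.ChGrp24.Points
-- import your own Groth.Agent.* helpers here

set_option autoImplicit false
universe u
open CategoryTheory MonoidalCategory CartesianMonoidalCategory MonObj AlgebraicGeometry
open ChGrp

set_option backward.isDefEq.respectTransparency.types false
namespace Groth.Agent.S19681

/-- Let k be an algebraically closed field of characteristic zero, G and H affine group schemes of
finite type over k with i : H → G a homomorphism which is a closed immersion, and Z a reduced affine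
k-scheme of finite type with an action of H. Let Y, with its G-action and j : G × Z → Y, be the
balanced product G ×^H Z for the fppf topology (j is G-equivariant for left translation on the first
factor, a torsor for the twisted H-action h·(g, z) = (g i(h)⁻¹, h·z), with sections fppf-locally on
Y). Let c : Y' → Y be a closed immersion from a reduced scheme Y' with a G-action making c
equivariant (a closed G-invariant subvariety of Y). Then Y' is again a balanced product: there are a
closed immersion c' : Z' → Z, an H-action on Z' for which c' is equivariant (a closed H-invariant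
subscheme of Z), and a morphism j' : G × Z' → Y' with j' followed by c equal to G × c' followed by
j, such that j' makes Y' the balanced product G ×^H Z' for the fppf topology. (The source assumes G
and H reductive and defines G ×^H Z as the quotient (G × Z)//H, a principal H-bundle; here the
balanced product is taken in its torsor form and reductivity is not needed.) -/
theorem result
    (k : Type u) [Field k] [IsAlgClosed k] [CharZero k]
    (G H Z Y Y' : Over (Spec (CommRingCat.of k))) [GrpObj G] [GrpObj H]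
    [IsAffine G.left] [LocallyOfFiniteType G.hom] [IsAffine H.left] [LocallyOfFiniteType H.hom]
    (i : H ⟶ G) [IsMonHom i] [IsClosedImmersion i.left]
    [IsAffine Z.left] [LocallyOfFiniteType Z.hom] [IsReduced Z.left]
    (aZ : AlgGrp.Action H Z) (aY : AlgGrp.Action G Y) (j : G ⊗ Z ⟶ Y)
    (hY : ChGrp.IsBalProd Scheme.fppfPrecoverage i aZ aY j)
    (c : Y' ⟶ Y) [IsClosedImmersion c.left] [IsReduced Y'.left]
    (aY' : AlgGrp.Action G Y') (hc : AlgGrp.Action.IsEquivariant aY' aY c) :
    ∃ (Z' : Over (Spec (CommRingCat.of k))) (c' : Z' ⟶ Z) (aZ' : AlgGrp.Action H Z') (j' : G ⊗ Z' ⟶ Y'),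
      IsClosedImmersion c'.left ∧ AlgGrp.Action.IsEquivariant aZ' aZ c' ∧
      j' ≫ c = (G ◁ c') ≫ j ∧ ChGrp.IsBalProd Scheme.fppfPrecoverage i aZ' aY' j' := by
  obtain ⟨heq, hcart, hloc⟩ := hY
  have hj : ∀ {T : Over (Spec (CommRingCat.of k))} (g b : T ⟶ G) (z : T ⟶ Z),
      lift g (lift b z ≫ j) ≫ aY.act = lift (g * b) z ≫ j := fun {T} g b z => by
    have e := congrArg (lift g (lift b z) ≫ ·) heq
    rw [← Category.assoc, Groth.Agent.ChGrp24.lift_translate, lift_whiskerLeft_assoc] at e
    exact e.symm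
  have htw : ∀ {T : Over (Spec (CommRingCat.of k))} (h : T ⟶ H) (g : T ⟶ G) (z : T ⟶ Z),
      lift (g * (h ≫ i)⁻¹) (lift h z ≫ aZ.act) ≫ j = lift g z ≫ j := fun {T} h g z => by
    have e := congrArg (lift h (lift g z) ≫ ·) hcart.w
    rw [ChGrp.lift_twist_act_assoc, lift_snd_assoc] at e
    exact e
  have hcp : ∀ {T : Over (Spec (CommRingCat.of k))} (g : T ⟶ G) (y : T ⟶ Y'),
      lift g (y ≫ c) ≫ aY.act = (lift g y ≫ aY'.act) ≫ c := fun {T} g y => by
    rw [Category.assoc, show aY'.act ≫ c = (G ◁ c) ≫ aY.act from hc, lift_whiskerLeft_assoc]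
  let σ : Z ⟶ Y := lift (1 : Z ⟶ G) (𝟙 Z) ≫ j
  have hσ : ∀ {T : Over (Spec (CommRingCat.of k))} (z : T ⟶ Z), z ≫ σ = lift 1 z ≫ j := fun {T} z => by
    rw [comp_lift_assoc, MonObj.comp_one, Category.comp_id]
  let Z' := Limits.pullback σ c
  let c' : Z' ⟶ Z := Limits.pullback.fst σ c
  let d : Z' ⟶ Y' := Limits.pullback.snd σ c
  have hcd : ∀ {T : Over (Spec (CommRingCat.of k))} (z : T ⟶ Z'),
      lift 1 (z ≫ c') ≫ j = (z ≫ d) ≫ c := fun {T} z => by
    rw [← hσ, Category.assoc, Category.assoc, Limits.pullback.condition]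
  haveI hc' : IsClosedImmersion c'.left :=
    MorphismProperty.of_isPullback ((IsPullback.of_hasPullback σ c).map (Over.forget _)).flip ‹IsClosedImmersion c.left›
  haveI : Mono c := Over.mono_of_mono_left c
  haveI : Mono c' := Over.mono_of_mono_left c'
  have hw : (lift (fst H Z') (snd H Z' ≫ c') ≫ aZ.act) ≫ σ = (lift (fst H Z' ≫ i) (snd H Z' ≫ d) ≫ aY'.act) ≫ c := by
    rw [hσ, ← hcp, ← hcd, hj, _root_.mul_one]
    have e := htw (fst H Z') (fst H Z' ≫ i) (snd H Z' ≫ c')
    rw [mul_inv_cancel] at e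
    exact e
  let act : H ⊗ Z' ⟶ Z' := Limits.pullback.lift _ _ hw
  have hact : ∀ {T : Over (Spec (CommRingCat.of k))} (h : T ⟶ H) (z : T ⟶ Z'),
      (lift h z ≫ act) ≫ c' = lift h (z ≫ c') ≫ aZ.act := fun {T} h z => by
    rw [Category.assoc, Limits.pullback.lift_fst, comp_lift_assoc, lift_fst, lift_snd_assoc]
  have hactd : ∀ {T : Over (Spec (CommRingCat.of k))} (h : T ⟶ H) (z : T ⟶ Z'),
      (lift h z ≫ act) ≫ d = lift (h ≫ i) (z ≫ d) ≫ aY'.act := fun {T} h z => by
    rw [Category.assoc, Limits.pullback.lift_snd, comp_lift_assoc, lift_fst_assoc, lift_snd_assoc]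
  let aZ' : AlgGrp.Action H Z' :=
    { act := act
      one_act := by
        apply AlgGrp.Action.hom_ext_lift₂
        intro T u z
        rw [lift_whiskerRight_assoc, leftUnitor_hom, lift_snd, ← cancel_mono c', hact,
          show u ≫ η[H] = 1 by rw [Hom.one_def, toUnit_unique (toUnit T) u], AlgGrp.Action.lift_one_act]
      mul_act := by
        apply AlgGrp.Action.hom_ext_lift₃
        intro T h h' z
        rw [lift_whiskerRight_assoc, ← Hom.mul_def, lift_lift_associator_hom_assoc, lift_whiskerLeft_assoc,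
          ← cancel_mono c', hact, hact, hact, AlgGrp.Action.lift_mul_act] }
  refine ⟨Z', c', aZ', lift (fst G Z') (snd G Z' ≫ d) ≫ aY'.act, hc', ?_, ?_, ?_⟩
  · apply AlgGrp.Action.hom_ext_lift₂
    intro T h z
    rw [lift_whiskerLeft_assoc, ← Category.assoc]
    exact hact h z
  · apply AlgGrp.Action.hom_ext_lift₂
    intro T g z
    rw [lift_whiskerLeft_assoc, ← Category.assoc (lift g z), comp_lift_assoc, lift_fst, lift_snd_assoc, ← hcp, ← hcd, hj,
      _root_.mul_one]
  have hj' : ∀ {T : Over (Spec (CommRingCat.of k))} (g : T ⟶ G) (z : T ⟶ Z'),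
      lift g z ≫ lift (fst G Z') (snd G Z' ≫ d) ≫ aY'.act = lift g (z ≫ d) ≫ aY'.act := fun {T} g z => by
    rw [comp_lift_assoc, lift_fst, lift_snd_assoc]
  refine Groth.Agent.ChGrp24.isBalProd_of_points i aZ' aY' _ ?_ ?_ ?_ ?_
  · intro T g b z
    rw [hj', hj', AlgGrp.Action.lift_mul_act]
  · intro T h g z
    rw [hj', hj', hactd, ← AlgGrp.Action.lift_mul_act, inv_mul_cancel_right]
  · intro T g g' z z' e
    rw [hj', hj'] at e
    have e' := congrArg (· ≫ c) e
    simp only [← hcp, ← hcd, hj, _root_.mul_one] at e'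
    have hsplit : ∀ (w : T ⟶ H ⊗ (G ⊗ Z)), w ≫ snd H _ = lift g (z ≫ c') → w = lift (w ≫ fst H _) (lift g (z ≫ c')) := by
      intro w hw'
      apply CartesianMonoidalCategory.hom_ext
      · rw [lift_fst]
      · rw [lift_snd, hw']
    let w := hcart.lift _ _ e'
    have h1 := hcart.lift_fst _ _ e'
    change w ≫ _ = _ at h1
    rw [hsplit w (hcart.lift_snd _ _ _), ChGrp.lift_twist_act] at h1
    have e1 := congrArg (· ≫ fst G Z) h1
    have e2 := congrArg (· ≫ snd G Z) h1
    simp only [lift_fst, lift_snd] at e1 e2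
    refine ⟨w ≫ fst H _, ⟨e1, ?_⟩, fun h ⟨h3, h4⟩ => ?_⟩
    · rw [← cancel_mono c', hact]; exact e2
    · have : lift h (lift g (z ≫ c')) = w := by
        apply hcart.hom_ext
        · rw [ChGrp.lift_twist_act, h3, ← hact, h4]
          exact (hcart.lift_fst _ _ e').symm
        · rw [lift_snd]
          exact (hcart.lift_snd _ _ e').symm
      rw [← this, lift_fst]
  · refine Groth.Agent.ChGrp24.isLocallyTrivialFor_of_lift j hloc c _ fun {W} s p hp => ?_
    have hp' : p = lift (p ≫ fst G Z) (p ≫ snd G Z) := by rw [← comp_lift, lift_fst_snd, Category.comp_id]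
    rw [hp'] at hp
    have hz : lift 1 (p ≫ snd G Z) ≫ j = (lift (p ≫ fst G Z)⁻¹ s ≫ aY'.act) ≫ c := by
      rw [← hcp, ← hp, hj, inv_mul_cancel]
    refine ⟨lift (p ≫ fst G Z) (Limits.pullback.lift (p ≫ snd G Z) (lift (p ≫ fst G Z)⁻¹ s ≫ aY'.act)
      (by rw [hσ]; exact hz)), ?_⟩
    rw [hj', Limits.pullback.lift_snd, ← AlgGrp.Action.lift_mul_act, mul_inv_cancel, AlgGrp.Action.lift_one_act]
end Groth.Agent.S19681
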