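import Groth.Statements.S19686
import Groth.Agent.AbSchLib.ConnectedFibres
import Groth.Agent.AbSchLib.RigidityOver
import Groth.Agent.AbSchLib.SmoothReduced
import Groth.Agent.BiextLib.AutPairing
-- import your own Groth.Agent.* helpers here

set_option autoImplicit false
universe u
open CategoryTheory CategoryTheory.Limits MonoidalCategory CartesianMonoidalCategory MonObj AlgebraicGeometry
open AbSch

namespace Groth.Agent.S19686

/-- Let S be a scheme and A₁, A₂, A₃ abelian S-schemes (smooth, proper, connected fibres). Then the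
category of biextensions of (A₁, A₂) by A₃ is rigid: for every biextension B of (A₁, A₂) by A₃,
formed with the sheaves of points on the big fppf site of all S-schemes, the only endomorphism of B
inducing the identity on A₁, A₂ and A₃ is the identity (equivalently, there is no non-zero
biadditive morphism from A₁ × A₂ to A₃). The source also asserts that every such biextension is
trivial; that assertion is not part of this statement. -/
theorem result {S : Scheme.{u}} (A₁ A₂ A₃ : Over S)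
    [GrpObj A₁] [IsCommMonObj A₁] [Smooth A₁.hom] [IsProper A₁.hom]
    (hA₁ : ∀ s : S, ConnectedSpace ↥(A₁.hom.fiber s))
    [GrpObj A₂] [IsCommMonObj A₂] [Smooth A₂.hom] [IsProper A₂.hom]
    (hA₂ : ∀ s : S, ConnectedSpace ↥(A₂.hom.fiber s))
    [GrpObj A₃] [IsCommMonObj A₃] [Smooth A₃.hom] [IsProper A₃.hom]
    (hA₃ : ∀ s : S, ConnectedSpace ↥(A₃.hom.fiber s))
    (B : Biext (QuotSh.J Scheme.fppfPrecoverage S) (CGrpSh.pts Scheme.fppfPrecoverage A₁) (CGrpSh.pts Scheme.fppfPrecoverage A₂) (CGrpSh.pts Scheme.fppfPrecoverage A₃))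
    (f : Biext.Hom (QuotSh.J Scheme.fppfPrecoverage S) B B) : f = Biext.HomOver.id (QuotSh.J Scheme.fppfPrecoverage S) B := by
  obtain ⟨g, hnat, hspec, hzr, hzl⟩ := BiextLib.exists_pairing B f
  let G : ∀ T : Over S, (T ⟶ A₁) → (T ⟶ A₂) → (T ⟶ A₃) := fun T a b =>
    (g T (ULift.up (Additive.ofMul a)) (ULift.up (Additive.ofMul b))).down.toMul
  let m : A₁ ⊗ A₂ ⟶ A₃ := G (A₁ ⊗ A₂) (fst A₁ A₂) (snd A₁ A₂)
  have hm : ∀ (T : Over S) (a : T ⟶ A₁) (b : T ⟶ A₂), G T a b = lift a b ≫ m := by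
    intro T a b
    have e : G T (lift a b ≫ fst A₁ A₂) (lift a b ≫ snd A₁ A₂) = lift a b ≫ m :=
      congrArg (fun z => z.down.toMul)
        (hnat (lift a b) (ULift.up (Additive.ofMul (fst A₁ A₂))) (ULift.up (Additive.ofMul (snd A₁ A₂))))
    rwa [lift_fst, lift_snd] at e
  have := AbSchLib.geometricallyConnected_of_section A₁.hom η[A₁].left (Over.w η[A₁]) hA₁
  have := AbSchLib.geometricallyConnected_of_section A₂.hom η[A₂].left (Over.w η[A₂]) hA₂
  have := AbSchLib.geometricallyReduced_of_smooth A₁.hom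
  have h1 : lift (𝟙 A₁) (toUnit A₁ ≫ η[A₂]) ≫ m = toUnit A₁ ≫ η[A₃] := by
    rw [← hm]
    exact congrArg (fun z => z.down.toMul) (hzr A₁ (ULift.up (Additive.ofMul (𝟙 A₁))))
  have h2 := AbSchLib.eq_snd_comp_of_axis A₁ A₂ A₃ η[A₁] η[A₂] η[A₃] m h1
  have h3 : lift (toUnit A₂ ≫ η[A₁]) (𝟙 A₂) ≫ m = 1 := by
    rw [← hm]
    exact congrArg (fun z => z.down.toMul) (hzl A₂ (ULift.up (Additive.ofMul (𝟙 A₂))))
  have h4 : m = 1 := by rw [h2, h3, MonObj.comp_one]
  refine Biext.HomOver.ext' (QuotSh.J Scheme.fppfPrecoverage S) fun T x => ?_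
  rw [hspec T x]
  have h5 : g T (B.πP T x) (B.πQ T x) = 0 := by
    refine ULift.ext _ _ (congrArg Additive.ofMul ?_)
    show G T (B.πP T x).down.toMul (B.πQ T x).down.toMul = 1
    rw [hm, h4, MonObj.comp_one]
  rw [h5, B.zero_act]
  rfl

end Groth.Agent.S19686
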