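import Groth.Statements.S19693
import Groth.Agent.FinCovAff5.Main
-- import your own Groth.Agent.* helpers here

set_option autoImplicit false
universe u
open CategoryTheory CategoryTheory.Limits AlgebraicGeometry Opposite
open FinCov

namespace Groth.Agent.S19693

/-- Let X be a scheme and A a quasi-coherent O_X-algebra whose underlying O_X-module is locally free of
rank d. Then the structure morphism Spec(A) → X of the relative spectrum of A is a cover of degree
d: finite, flat, locally of finite presentation and of rank d at every point of X. (This is the
quasi-inverse direction of the equivalence between degree-d covers of X and O_X-algebras locally
free of rank d; the other direction and the identification of the direct-image algebra of Spec(A)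
with A are separate statements.) -/
theorem result {X : Scheme.{u}} (A : RelSpec.QCAlg X) (d : ℕ)
    (hA : FlatMod.IsFinLocFreeOfRank d A.toModule) : FinCov.IsCover A.π d := by
  exact Groth.Agent.FinCovAff5.isCover_π A d hA

end Groth.Agent.S19693
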