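import Groth.Statements.S19701
import Groth.Agent.Split8.Rank
import Groth.Agent.CurveRR24.DoubleCover.Morphism
import Groth.Agent.CurveRR24.AlgClosed
import Groth.Agent.AbCubeLib.FiniteDegree
import Groth.Agent.WeilLib.Geom
import Groth.Agent.Coherent.CohOps
import Groth.Agent.Coherent.FinitePres
-- import your own Groth.Agent.* helpers here

set_option autoImplicit false
universe u
open CategoryTheory CategoryTheory.Limits AlgebraicGeometry Opposite
open Curves
open Groth.Agent.Coherent Groth.Agent.PicLib Groth.Agent.AmpleLib Groth.Agent.EulerLib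
set_option backward.isDefEq.respectTransparency.types false
set_option linter.style.haveILetI false
set_option maxHeartbeats 1000000

namespace Groth.Agent.S19701

/-- Let k be an algebraically closed field of characteristic different from 2 and X a hyperelliptic
curve of genus g over k: X → Spec k is smooth and proper, X is connected of dimension one with g =
dim_k H¹(X, O_X) ≥ 2, and h : X → P¹_k is a k-morphism which is a double cover (finite, flat,
locally of finite presentation, of rank 2 at every point). Let τ : h_*O_X → O_{P¹} be the trace of h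
(the O-linear map which over every affine open of P¹_k where h_*O_X is finite free is the trace of
the regular representation). Then the kernel of τ — an invertible sheaf on P¹_k — has degree −g − 1,
the degree of a rank-one sheaf E on P¹_k being χ(E) − χ(O). (On P¹_k this says that ker τ is
isomorphic to O(−g − 1); only the degree is asserted here.) -/
theorem result (k : Type u) [Field k] [IsAlgClosed k]
    (h2 : (2 : k) ≠ 0) {X : Scheme.{u}} (p : X ⟶ Spec (CommRingCat.of k)) [IsProper p] [Smooth p]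
    [ConnectedSpace ↥X] (hX : topologicalKrullDim ↥X = 1) (hg : 2 ≤ @Curv2.genus k _ X ⟨p⟩)
    (h : X ⟶ CohB1.ProjSpace 1 k) (hh : h ≫ CohB1.ProjSpace.toSpec 1 k = p)
    [IsFinite h] [Flat h] [LocallyOfFinitePresentation h]
    (hr : ∀ y : ↥(CohB1.ProjSpace 1 k), h.finrank y = 2)
    (τ : (Scheme.Modules.pushforward h).obj (Coh.structureModule X) ⟶ Coh.structureModule (CohB1.ProjSpace 1 k))
    (hτ : FinCov.IsTraceHom h τ) :
    @Curv2.deg k _ (CohB1.ProjSpace 1 k) ⟨CohB1.ProjSpace.toSpec 1 k⟩ (kernel τ) 1 =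
      -((@Curv2.genus k _ X ⟨p⟩ : ℤ) + 1) := by
  letI : (CohB1.ProjSpace 1 k).Over (Spec (CommRingCat.of k)) := ⟨CohB1.ProjSpace.toSpec 1 k⟩
  letI : X.Over (Spec (CommRingCat.of k)) := ⟨p⟩
  haveI : IsProper (CohB1.ProjSpace.toSpec 1 k) := CurveLib.isProper_projSpace k 1
  haveI : IsProper ((CohB1.ProjSpace 1 k) ↘ Spec (CommRingCat.of k)) :=
    inferInstanceAs (IsProper (CohB1.ProjSpace.toSpec 1 k))
  haveI : IsProper (X ↘ Spec (CommRingCat.of k)) := inferInstanceAs (IsProper p)
  haveI := isNoetherian_of_proper k (X := CohB1.ProjSpace 1 k)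
  haveI := isNoetherian_of_proper k (X := X)
  haveI := isSeparated_of_proper (X := CohB1.ProjSpace 1 k) k
  haveI : AlgebraicGeometry.IsReduced X := WeilLib.isReduced_of_smooth p
  let O := Coh.structureModule X
  let E := (Scheme.Modules.pushforward h).obj O
  let OP := Coh.structureModule (CohB1.ProjSpace 1 k)
  have hrk : FlatMod.IsFinLocFreeOfRank 2 E := Split8.isFinLocFreeOfRank_push_of_finrank h hr
  haveI : Epi τ := by
    refine epi_of_locally_surjective τ fun W a y hy => ?_
    obtain ⟨U, hyU, ⟨e⟩⟩ := hrk y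
    obtain ⟨W', hW', hyW', hle⟩ :=
      exists_isAffineOpen_mem_and_subset (x := y) (U := U ⊓ W) ⟨hyU, hy⟩
    obtain ⟨b⟩ := Props12.exists_basis_sections e (le_trans hle inf_le_left)
    refine ⟨W', le_trans hle inf_le_right, hyW', ?_⟩
    letI : Algebra Γ(CohB1.ProjSpace 1 k, W') Γ(X, h ⁻¹ᵁ W') := (h.app W').hom.toAlgebra
    let b' : Module.Basis (Fin 2) Γ(CohB1.ProjSpace 1 k, W') Γ(X, h ⁻¹ᵁ W') :=
      b.map { toFun := fun x => x, invFun := fun x => x, map_add' := fun _ _ => rfl,
              map_smul' := fun _ _ => rfl }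
    haveI : Module.Free Γ(CohB1.ProjSpace 1 k, W') Γ(X, h ⁻¹ᵁ W') := Module.Free.of_basis b'
    haveI : Module.Finite Γ(CohB1.ProjSpace 1 k, W') Γ(X, h ⁻¹ᵁ W') := Module.Finite.of_basis b'
    have h2' : IsUnit (2 : Γ(CohB1.ProjSpace 1 k, W')) := by
      have := (isUnit_iff_ne_zero.2 h2).map (((Scheme.ΓSpecIso (CommRingCat.of k)).inv ≫
        (CohB1.ProjSpace.toSpec 1 k).appLE ⊤ W' le_top).hom)
      rwa [map_ofNat] at this
    obtain ⟨c, hc⟩ := h2'.exists_right_inv
    let a' : Γ(CohB1.ProjSpace 1 k, W') := resM OP (le_trans hle inf_le_right) a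
    refine ⟨(show Γ(X, h ⁻¹ᵁ W') from algebraMap Γ(CohB1.ProjSpace 1 k, W') Γ(X, h ⁻¹ᵁ W') (c * a')), ?_⟩
    refine (hτ W' hW' inferInstance inferInstance
      (algebraMap Γ(CohB1.ProjSpace 1 k, W') Γ(X, h ⁻¹ᵁ W') (c * a'))).trans ?_
    rw [Algebra.trace_algebraMap_of_basis b', Fintype.card_fin, nsmul_eq_mul, Nat.cast_ofNat,
      ← mul_assoc, hc, one_mul]
  have hO : Coh.IsCoh O := isCoh_structureModule X
  have hE : Coh.IsCoh E := isCoh_push_finite h hO
  have hOP : Coh.IsCoh OP := isCoh_structureModule _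
  let S : ShortComplex (CohB1.ProjSpace 1 k).Modules := ShortComplex.mk (kernel.ι τ) τ (kernel.condition τ)
  have hS : S.ShortExact :=
    { exact := ShortComplex.exact_of_f_is_kernel _ (kernelIsKernel τ)
      mono_f := inferInstanceAs (Mono (kernel.ι τ))
      epi_g := inferInstanceAs (Epi τ) }
  have hadd : Curv2.euler k _ E = Curv2.euler k _ (kernel τ) + Curv2.euler k _ OP :=
    euler_additive k _ S hS (isCoh_kernel τ hE hOP.1) hE hOP
  haveI : Coh.IsQCoh O := hO.1
  have hpush : Curv2.euler k X O = Curv2.euler k _ E := AbCubeLib.euler_push k h hh O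
  have hX1 : Curv2.euler k X O = 1 - (Curv2.genus k X : ℤ) := by
    rw [CurveRR24.euler_eq_h0_sub_h1 k hX.le O hO.1, CurveRR24.h0_structure k]
    simp [Curv2.genus, O]
  have hP : Curv2.euler k (CohB1.ProjSpace 1 k) OP = 1 := by
    rw [euler_eq_sum k _ _ 0 (fun q hq => subsingleton_HH_structureModule (R := k) (n := 1) q hq)]
    simp [OP, CurveRR24.finrank_projLine_structure]
  show Curv2.euler k (CohB1.ProjSpace 1 k) (kernel τ) - (1 : ℕ) * Curv2.euler k (CohB1.ProjSpace 1 k) OP = _
  rw [hP]
  omega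

end Groth.Agent.S19701
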