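import Groth.Statements.S19703
import Groth.Agent.AlgGrpLib.AffineCriterion

set_option autoImplicit false
universe u
open CategoryTheory MonoidalCategory CartesianMonoidalCategory MonObj GrpObj AlgebraicGeometry CategoryTheory.Limits
open AlgGrp

namespace Groth.Agent.S19703

/-- Let k be a field, G an anti-affine algebraic group over k (smooth, of finite type, with O(G) = k), H
a connected k-group scheme of finite type and j : M → H its largest anti-affine closed subgroup
scheme H_ant (O(M) = k and every anti-affine closed subgroup scheme of H factors through M). Then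
every morphism of k-schemes f : G → H with f(e_G) = e_H factors through H_ant. -/
theorem result (k : Type u) [Field k]
    (G H : Over (Spec (CommRingCat.of k))) [GrpObj G] [Smooth G.hom] [QuasiCompact G.hom]
    (hG : Function.Bijective ((Scheme.ΓSpecIso (CommRingCat.of k)).inv ≫ G.hom.appTop).hom)
    [GrpObj H] [LocallyOfFiniteType H.hom] [QuasiCompact H.hom] [ConnectedSpace ↥H.left]
    (M : Over (Spec (CommRingCat.of k))) [GrpObj M] [LocallyOfFiniteType M.hom] [QuasiCompact M.hom] (j : M ⟶ H) [IsMonHom j] [IsClosedImmersion j.left]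
    (hM : Function.Bijective ((Scheme.ΓSpecIso (CommRingCat.of k)).inv ≫ M.hom.appTop).hom)
    (hMmax : ∀ (M₁ : Over (Spec (CommRingCat.of k))) [GrpObj M₁] [LocallyOfFiniteType M₁.hom] [QuasiCompact M₁.hom] (j₁ : M₁ ⟶ H) [IsMonHom j₁] [IsClosedImmersion j₁.left],
      Function.Bijective ((Scheme.ΓSpecIso (CommRingCat.of k)).inv ≫ M₁.hom.appTop).hom → ∃ g : M₁ ⟶ M, g ≫ j = j₁)
    (f : G ⟶ H) (hf : η[G] ≫ f = η[H]) :
    ∃ g : G ⟶ M, g ≫ j = f := by
  haveI : LocallyOfFiniteType G.hom := inferInstance
  have hG' := Groth.Agent.AlgGrpLib.bijective_appTop_of_const hG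
  haveI : CompactSpace G.left := QuasiCompact.compactSpace_of_compactSpace G.hom
  haveI : IsLocallyNoetherian G.left := LocallyOfFiniteType.isLocallyNoetherian G.hom
  haveI := Groth.Agent.AlgGrpLib.isMonHom_of_antiAffine hG' f hf
  obtain ⟨g, hρ, N, gN, i, hi, hci, hl, hqc, hb, -, -, -, hker⟩ := Groth.Agent.AlgGrpLib.AffineHull.exists_antiAffine_kernel H
  haveI : IsAffine (Groth.Agent.AlgGrpLib.affOf H).left := inferInstance
  obtain ⟨a, ha⟩ := Groth.Agent.AlgGrpLib.exists_lift_kernel hker (g := f)
    (Groth.Agent.AlgGrpLib.AffineHull.eq_one_of_isAffine hG' (f ≫ Groth.Agent.AlgGrpLib.toAffOf H))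
  obtain ⟨m, hm⟩ := hMmax N i (by
    rw [CommRingCat.hom_comp, RingHom.coe_comp]
    exact Function.Bijective.comp hb (ConcreteCategory.bijective_of_isIso (Scheme.ΓSpecIso (CommRingCat.of k)).inv))
  exact ⟨a ≫ m, by rw [Category.assoc, hm, ha]⟩

end Groth.Agent.S19703
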