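import Groth.Statements.S19704
import Groth.Agent.GeomNoTorus25.Bc
import Groth.Agent.AlgGrpLib.AntiAffineParts
import Groth.Agent.TorusAb27.Basic
import Groth.Agent.AlgGrpLib.AbelianSubvariety
import Groth.Agent.AGFImage11.GeomUnip

set_option autoImplicit false
set_option backward.isDefEq.respectTransparency.types false
universe u
open CategoryTheory MonoidalCategory CartesianMonoidalCategory MonObj GrpObj AlgebraicGeometry CategoryTheory.Limits
open AlgGrp

namespace Groth.Agent.S19704

/-- Anti-affineness passes to quotients. -/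
theorem forward {k : Type u} [Field k] {G G₂ : Over (Spec (CommRingCat.of k))} [GrpObj G] [GrpObj G₂]
    [LocallyOfFiniteType G.hom] [QuasiCompact G.hom] [LocallyOfFiniteType G₂.hom] [QuasiCompact G₂.hom]
    (q : G ⟶ G₂) [IsMonHom q] [Surjective q.left] [Flat q.left]
    (h : Function.Bijective ((Scheme.ΓSpecIso (CommRingCat.of k)).inv ≫ G.hom.appTop).hom) :
    Function.Bijective ((Scheme.ΓSpecIso (CommRingCat.of k)).inv ≫ G₂.hom.appTop).hom := by
  haveI := SGA3xLib.isSeparated_of_grpObj G₂
  haveI : QuasiCompact (q.left ≫ G₂.hom) := by rw [Over.w q]; infer_instance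
  haveI : QuasiCompact q.left := QuasiCompact.of_comp q.left G₂.hom
  haveI : Epi q.left := Flat.epi_of_flat_of_surjective q.left
  haveI : Epi q := (Over.forget _).epi_of_epi_map (inferInstanceAs (Epi q.left))
  haveI : Nonempty G.left := ⟨η[G].left (IsLocalRing.closedPoint k)⟩
  haveI : Nonempty G₂.left := ⟨η[G₂].left (IsLocalRing.closedPoint k)⟩
  haveI : CompactSpace G.left := QuasiCompact.compactSpace_of_compactSpace G.hom
  haveI : IsLocallyNoetherian G.left := LocallyOfFiniteType.isLocallyNoetherian G.hom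
  refine AlgGrpLib.bijective_of_toAffOf (η[G] ≫ q ≫ AlgGrpLib.toAffOf G₂) ?_
  rw [← cancel_epi q]
  conv_lhs => rw [AlgGrpLib.eq_const_of_affine (AlgGrpLib.bijective_appTop_of_const h) η[G] (q ≫ AlgGrpLib.toAffOf G₂)]
  rw [← Category.assoc q (toUnit G₂), comp_toUnit]

open AlgGrpLib AlgGrpLib.AntiAffineParts in
/-- In characteristic zero the two quotients detect anti-affineness. -/
theorem backward {k : Type u} [Field k] [CharZero k] {G T U Gs Gu : Over (Spec (CommRingCat.of k))} [GrpObj G] [GrpObj T]
    [GrpObj U] [GrpObj Gs] [GrpObj Gu]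
    [Smooth G.hom] [QuasiCompact G.hom] [ConnectedSpace G.left] [IsCommMonObj G]
    [LocallyOfFiniteType Gs.hom] [QuasiCompact Gs.hom] [LocallyOfFiniteType Gu.hom] [QuasiCompact Gu.hom]
    [Smooth U.hom] [ConnectedSpace U.left] [IsAffine U.left] [IsCommMonObj U] (hU : Red.HasNoSubtorus k U)
    (hT : Red.IsTorus T)
    (t : T ⟶ G) [IsMonHom t] (u : U ⟶ G) [IsMonHom u]
    (qs : G ⟶ Gs) [IsMonHom qs] [Surjective qs.left] [Flat qs.left] (hs : AlgGrp.IsKernel u qs)
    (qu : G ⟶ Gu) [IsMonHom qu] [Surjective qu.left] [Flat qu.left] (hu : AlgGrp.IsKernel t qu)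
    (hGs : Function.Bijective ((Scheme.ΓSpecIso (CommRingCat.of k)).inv ≫ Gs.hom.appTop).hom)
    (hGu : Function.Bijective ((Scheme.ΓSpecIso (CommRingCat.of k)).inv ≫ Gu.hom.appTop).hom) :
    Function.Bijective ((Scheme.ΓSpecIso (CommRingCat.of k)).inv ≫ G.hom.appTop).hom := by
  haveI : Smooth T.hom := AxesTorus.smooth_of_isTorus hT
  obtain ⟨gF, hρ, hρs, hρf, hρl⟩ := AffineHull.affinization (G := G)
  letI := gF
  haveI := hρ
  haveI := hρs
  haveI := hρf
  haveI := hρl
  let H := affOf G
  let π : G ⟶ H := toAffOf G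
  haveI : QuasiCompact π.left := quasiCompact_left π
  haveI : IsCommMonObj H := IsogenyBC.comm_of_surjective G π
  haveI : IsReduced G.left := AbSchLib.isReduced_of_smooth G.hom
  haveI : IsReduced H.left := inferInstanceAs (IsReduced (Spec Γ(G.left, ⊤)))
  haveI : GeometricallyReduced H.hom := AbVarLib.geometricallyReduced_of_perfectField H.hom
  haveI : Smooth H.hom := AbVarLib.smooth_of_geometricallyReduced H
  haveI : ConnectedSpace H.left := π.left.surjective.connectedSpace π.left.continuous
  haveI : QuasiCompact T.hom := by rw [← Over.w t]; haveI : IsClosedImmersion η[Gu].left := SGA3xLib.isClosedImmersion_of_section Gu.hom _ (Over.w η[Gu]); haveI : IsClosedImmersion t.left := MorphismProperty.of_isPullback (hu.map (Over.forget _)).flip ‹IsClosedImmersion η[Gu].left›; infer_instance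
  haveI : QuasiCompact U.hom := inferInstance
  haveI hsU := surjective_of_antiAffine_quotient u qs hs hGs π
  haveI hsT := surjective_of_antiAffine_quotient t qu hu hGu π
  have hHT : Red.IsTorus H := TorusIsog.isTorus_of_surjective hT (t ≫ π)
  let K := AlgebraicClosure k
  let p : Spec (CommRingCat.of K) ⟶ Spec (CommRingCat.of k) := Spec.map (CommRingCat.ofHom (algebraMap k K))
  haveI : Surjective p := AGFImage11.surjective_fieldMap p
  haveI : Flat p := (HasRingHomProperty.Spec_iff (P := @Flat)).2
    (RingHom.flat_algebraMap_iff.2 inferInstance)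
  let F := Over.pullback p
  haveI := AbelianSubvariety.geometricallyConnected_of_connected U
  haveI := AbelianSubvariety.geometricallyConnected_of_connected H
  haveI : Smooth (F.obj U).hom := inferInstanceAs (Smooth (Limits.pullback.snd U.hom p))
  haveI : Smooth (F.obj H).hom := inferInstanceAs (Smooth (Limits.pullback.snd H.hom p))
  haveI : IsAffine (F.obj U).left := inferInstanceAs (IsAffine (Limits.pullback U.hom p))
  haveI : IsAffine (F.obj H).left := inferInstanceAs (IsAffine (Limits.pullback H.hom p))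
  haveI : ConnectedSpace (F.obj U).left := inferInstanceAs (ConnectedSpace ↥(Limits.pullback U.hom p))
  haveI : ConnectedSpace (F.obj H).left := inferInstanceAs (ConnectedSpace ↥(Limits.pullback H.hom p))
  haveI : Surjective (F.map (u ≫ π)).left :=
    MorphismProperty.of_isPullback (P := @Surjective) (SGA3UnitSec.isPullback_map_left p (u ≫ π)) hsU
  haveI : IsIso (F.obj H).hom := TorusUnip.hasNoSubtorus_of_surjective (F.map (u ≫ π))
    (GeomNoTorus25.hasNoSubtorus_bc K hU) (F.obj H) (𝟙 _) (TorusAb27.isTorus_bc p H hHT)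
  haveI : IsIso H.hom := AGFImage11.isTrivialGrp_of_bc p ‹IsIso (F.obj H).hom›
  have h1 : π = 1 := Over.OverMorphism.ext (by
    rw [← cancel_mono H.hom, Over.w, Over.w])
  have hk : AlgGrp.IsKernel (𝟙 G) π := by
    refine IsPullback.of_isLimit' ⟨by rw [Category.id_comp, h1, Hom.one_def]⟩ ?_
    exact PullbackCone.IsLimit.mk _ (fun s => s.fst) (fun s => Category.comp_id _) (fun s => toUnit_unique _ _)
      (fun s m h _ => by rw [← h, Category.comp_id])
  have hb := AffineHull.bijective_appTop_kernel G (𝟙 G) hk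
  rw [CommRingCat.hom_comp, RingHom.coe_comp]
  exact Function.Bijective.comp hb (ConcreteCategory.bijective_of_isIso (Scheme.ΓSpecIso (CommRingCat.of k)).inv)

/-- Let k be a field of characteristic 0 and G a connected commutative algebraic group over k whose
largest connected affine algebraic subgroup G_aff = N is the direct product T × U of a torus T and a
connected unipotent (vector) group U: homomorphisms t : T → N and u : U → N with multiplication T ×
U → N an isomorphism. Let q_s : G → G_s = G/U and q_u : G → G_u = G/T be flat surjective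
homomorphisms of k-group schemes of finite type with kernels U and T. Then O(G) = k (G is
anti-affine) exactly when both quotients G_s = G/U and G_u = G/T have only constant global
functions, O(G_s) = k and O(G_u) = k. Here k is any field of characteristic 0, not necessarily
algebraically closed. -/
theorem result (k : Type u) [Field k] [CharZero k]
    (G : Over (Spec (CommRingCat.of k))) [GrpObj G] [Smooth G.hom] [QuasiCompact G.hom] [ConnectedSpace ↥G.left] [IsCommMonObj G]
    (N : Over (Spec (CommRingCat.of k))) [GrpObj N] (i : N ⟶ G) [IsMonHom i] [IsClosedImmersion i.left]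
    [Smooth N.hom] [ConnectedSpace ↥N.left] [IsAffine N.left] (hN : AlgGrp.IsNormalHom i)
    (hNmax : ∀ (N' : Over (Spec (CommRingCat.of k))) [GrpObj N'] (i' : N' ⟶ G) [IsMonHom i'] [IsClosedImmersion i'.left]
      [Smooth N'.hom] [ConnectedSpace ↥N'.left] [IsAffine N'.left], AlgGrp.IsNormalHom i' → ∃ f : N' ⟶ N, f ≫ i = i')
    (T U : Over (Spec (CommRingCat.of k))) [GrpObj T] [GrpObj U] (t : T ⟶ N) (u : U ⟶ N) [IsMonHom t] [IsMonHom u]
    (hT : Red.IsTorus T)
    [Smooth U.hom] [ConnectedSpace ↥U.left] [IsAffine U.left] (hU : Red.HasNoSubtorus k U)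
    (hTU : IsIso ((t ⊗ₘ u) ≫ μ[N]))
    (Gs Gu : Over (Spec (CommRingCat.of k))) [GrpObj Gs] [GrpObj Gu] [LocallyOfFiniteType Gs.hom] [QuasiCompact Gs.hom]
    [LocallyOfFiniteType Gu.hom] [QuasiCompact Gu.hom]
    (qs : G ⟶ Gs) [IsMonHom qs] [Surjective qs.left] [Flat qs.left] (hs : AlgGrp.IsKernel (u ≫ i) qs)
    (qu : G ⟶ Gu) [IsMonHom qu] [Surjective qu.left] [Flat qu.left] (hu : AlgGrp.IsKernel (t ≫ i) qu) :
    Function.Bijective ((Scheme.ΓSpecIso (CommRingCat.of k)).inv ≫ G.hom.appTop).hom ↔
      Function.Bijective ((Scheme.ΓSpecIso (CommRingCat.of k)).inv ≫ Gs.hom.appTop).hom ∧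
      Function.Bijective ((Scheme.ΓSpecIso (CommRingCat.of k)).inv ≫ Gu.hom.appTop).hom := by
  refine ⟨fun h => ⟨forward qs h, forward qu h⟩, fun h => ?_⟩
  haveI : Mono i := Over.mono_of_mono_left i
  haveI : IsCommMonObj N := (isCommMonObj_iff_isMulCommutative _).2 fun T' => ⟨⟨fun x y => by
    rw [← cancel_mono i, MonObj.mul_comp, MonObj.mul_comp, _root_.mul_comm]⟩⟩
  haveI : IsIso ((t ⊗ₘ u) ≫ μ[N]) := hTU
  haveI : IsCommMonObj U := (isCommMonObj_iff_isMulCommutative _).2 fun T' => ⟨⟨fun x y => by
    have : Mono u := by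
      refine ⟨fun {Z} a b hab => ?_⟩
      have h' : lift (1 : Z ⟶ T) a ≫ ((t ⊗ₘ u) ≫ μ[N]) = lift (1 : Z ⟶ T) b ≫ ((t ⊗ₘ u) ≫ μ[N]) := by
        rw [lift_map_assoc, lift_map_assoc, hab]
      simpa using congrArg (· ≫ snd T U) ((cancel_mono _).1 h')
    rw [← cancel_mono u, MonObj.mul_comp, MonObj.mul_comp, _root_.mul_comm]⟩⟩
  exact backward hU hT (t ≫ i) (u ≫ i) qs hs qu hu h.1 h.2

end Groth.Agent.S19704
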