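import Groth.Statements.S1971
import Groth.Agent.HenselLib.Perm

set_option autoImplicit false
universe u
open EtAlg

namespace Groth.Agent.S1971

/-- Let A be a ring with ideals I and J having the same zero locus in Spec A. Then an A-algebra is a
henselization of the pair (A, I) if and only if it is a henselization of the pair (A, J). -/
theorem result (A : Type u) [CommRing A] (I J : Ideal A)
    (h : PrimeSpectrum.zeroLocus (I : Set A) = PrimeSpectrum.zeroLocus (J : Set A)) (B : Type u) [CommRing B] [Algebra A B] :
    Hens2.IsPairHenselization A I B ↔ Hens2.IsPairHenselization A J B := by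
  have hr : I.radical = J.radical := PrimeSpectrum.zeroLocus_eq_iff.mp h
  suffices key : ∀ I J : Ideal A, I.radical = J.radical →
      Hens2.IsPairHenselization A I B → Hens2.IsPairHenselization A J B from
    ⟨key I J hr, key J I hr.symm⟩
  intro I J hr hB
  have hle : ∀ {C : Type u} [CommRing C] (f : A →+* C) (I' : Ideal C) (I J : Ideal A),
      J ≤ I.radical → I.map f ≤ I' → J.map f ≤ I'.radical := fun f I' I J hJI hI =>
    (Ideal.map_mono hJI).trans ((Ideal.map_radical_le f).trans (Ideal.radical_mono hI))
  refine ⟨?_, fun C _ K f hK hJK => ?_⟩
  · have := hB.1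
    have := Groth.Agent.HenselLib.henselianRing_radical (I.map (algebraMap A B))
    exact Groth.Agent.HenselLib.henselianRing_of_le
      (hle (algebraMap A B) _ I J (hr ▸ Ideal.le_radical) le_rfl)
  · exact hB.2 C K.radical f (Groth.Agent.HenselLib.henselianRing_radical K)
      (hle f K J I (hr ▸ Ideal.le_radical) hJK)

end Groth.Agent.S1971
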