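import Groth.Statements.S19710
import Groth.Agent.FF.TwoPoint

set_option autoImplicit false
open FunFld

namespace Groth.Agent.S19710

open Groth.Agent.FF

/-- Let `k` be an algebraically closed field of characteristic zero. A `g^r_d` on a function field `K/k`
of one variable is a divisor `D` of degree `d` with a subspace `V ⊆ L(D)` of dimension `r + 1`;
`V(-nP) = V ∩ L(D - nP)`, and the `i`-th vanishing order `m_i(V, P)` (`m_0 < ⋯ < m_r`) equals `m`
exactly when `dim V(-mP) = r + 1 - i` and `dim V(-(m+1)P) = r - i`. Let `K_Y` have genus `0` and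
carry a `g^r_d` `(D_Y, V_Y)` with at least a cusp at a place `Q_Y` (`dim V_Y(-2Q_Y) ≥ r`); let
`(D_Z, V_Z)` be a `g^r_d` on a second function field `K_Z`, compatible with `(D_Y, V_Y)` at a node
formed by a place `P ≠ Q_Y` of `K_Y` and a place `Q` of `K_Z` (`dim V_Y(-nP) + dim V_Z(-(d+1-n)Q) =
r + 1` for `0 ≤ n ≤ d + 1`), and let `P'` be a place of `K_Y` different from `P` and from `Q_Y`.
Then `m_i(V_Y, P') < m_i(V_Z, Q)` for all but at most one index: the set of `i ≤ r` for which the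
`i`-th vanishing order of `V_Y` at `P'` equals the `i`-th vanishing order of `V_Z` at `Q` has at
most one element. (In the source `Q_Y` is the point where the rational component `Y` meets a chain
of curves ending in a curve of positive genus, which forces the cusp condition assumed here; the
source works over the complex numbers.) -/
theorem result
    (k : Type*) [Field k] [IsAlgClosed k] [CharZero k]
    (KY : Type*) [Field KY] [Algebra k KY] (hKY : FunFld.IsFunctionField k KY) (hg0 : FunFld.genus k KY = 0)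
    (KZ : Type*) [Field KZ] [Algebra k KZ] (hKZ : FunFld.IsFunctionField k KZ)
    (d r : ℕ) (DY : FunFld.Divisor k KY) (hDY : DY.deg = d) (DZ : FunFld.Divisor k KZ) (hDZ : DZ.deg = d)
    (VY : Submodule k KY) (hVY : VY ≤ FunFld.L DY) (hVYr : Module.finrank k ↥VY = r + 1)
    (VZ : Submodule k KZ) (hVZ : VZ ≤ FunFld.L DZ) (hVZr : Module.finrank k ↥VZ = r + 1)
    (QY : FunFld.Place k KY) (hcusp : r ≤ Module.finrank k ↥(VY ⊓ FunFld.L (DY - Finsupp.single QY ((2 : ℤ)))))
    (P : FunFld.Place k KY) (hP : P ≠ QY) (Q : FunFld.Place k KZ)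
    (hcomp : ∀ n : ℕ, n ≤ d + 1 →
      Module.finrank k ↥(VY ⊓ FunFld.L (DY - Finsupp.single P ((n : ℤ)))) + Module.finrank k ↥(VZ ⊓ FunFld.L (DZ - Finsupp.single Q ((d : ℤ) + 1 - n))) = r + 1)
    (P' : FunFld.Place k KY) (hP'P : P' ≠ P) (hP'Q : P' ≠ QY) :
    {i : ℕ | i ≤ r ∧ ∃ m : ℕ,
        Module.finrank k ↥(VY ⊓ FunFld.L (DY - Finsupp.single P' ((m : ℤ)))) = r + 1 - i ∧
        Module.finrank k ↥(VY ⊓ FunFld.L (DY - Finsupp.single P' ((m : ℤ) + 1))) = r - i ∧
        Module.finrank k ↥(VZ ⊓ FunFld.L (DZ - Finsupp.single Q ((m : ℤ)))) = r + 1 - i ∧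
        Module.finrank k ↥(VZ ⊓ FunFld.L (DZ - Finsupp.single Q ((m : ℤ) + 1))) = r - i}.Subsingleton := by
  classical
  intro i ⟨hir, mi, h1, h2, h3, h4⟩ j ⟨hjr, mj, g1, g2, g3, g4⟩
  have hY : IsSeries k VY DY d r := ⟨hKY, hDY, hVY, hVYr⟩
  have hZ : IsSeries k VZ DZ d r := ⟨hKZ, hDZ, hVZ, hVZr⟩
  have key : ∀ (l m : ℕ), l ≤ r → fdim VY DY P' (m : ℤ) = r + 1 - l → fdim VZ DZ Q ((m : ℤ) + 1) = r - l →
      fdim VZ DZ Q (m : ℤ) = r + 1 - l →
      ∃ s, s ≠ 0 ∧ s ∈ VY ∧ DY + FunFld.div k s =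
        Finsupp.single P' (m : ℤ) + Finsupp.single P ((d : ℤ) - m) := by
    intro l m hl a1 a2 a3
    have hmd : m ≤ d := by
      by_contra hc
      rw [fdim_eq_zero hZ Q (by omega)] at a3; omega
    have hc : fdim VY DY P ((d - m : ℕ) : ℤ) + fdim VZ DZ Q ((d : ℤ) + 1 - ((d - m : ℕ) : ℤ)) = r + 1 :=
      hcomp (d - m) (by omega)
    rw [show (d : ℤ) + 1 - ((d - m : ℕ) : ℤ) = (m : ℤ) + 1 by omega, Nat.cast_sub hmd] at hc
    exact exists_exact_member hY hP'P (by ring) (by omega)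
  obtain ⟨s, hs0, hsV, hs⟩ := key i mi hir h1 h4 h3
  obtain ⟨t, ht0, htV, ht⟩ := key j mj hjr g1 g4 g3
  have hzero : ∀ (u : KY) (m : ℤ), DY + FunFld.div k u = Finsupp.single P' m + Finsupp.single P ((d : ℤ) - m) →
      ∀ R, R ≠ P' → R ≠ P → (FunFld.div k u + DY) R = 0 := by
    intro u m hu R r1 r2
    rw [add_comm, hu, Finsupp.add_apply, Finsupp.single_eq_of_ne r1, Finsupp.single_eq_of_ne r2, add_zero]
  obtain ⟨c, hc⟩ := two_point_unique hg0 hY hP'Q hP hcusp hsV htV hs0 ht0 (hzero s mi hs) (hzero t mj ht)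
  have hdiv : FunFld.div k t = FunFld.div k s := by
    ext R
    have hc0 : c ≠ 0 := fun e => ht0 (by rw [hc, e, zero_smul])
    rw [div_apply hKY, div_apply hKY, hc, Algebra.smul_def,
      ord_mul R ((map_ne_zero _).mpr hc0) hs0, ord_algebraMap, zero_add]
  rw [hdiv, hs] at ht
  have := congrArg (fun F : FunFld.Divisor k KY => F P') ht
  simp [Finsupp.single_eq_of_ne hP'P] at this
  subst this
  omega

end Groth.Agent.S19710
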