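import Groth.Statements.S19711
import Mathlib.Algebra.Module.FinitePresentation
import Mathlib.RingTheory.Spectrum.Prime.Topology

set_option autoImplicit false
universe u
open CategoryTheory
open Coh

set_option backward.isDefEq.respectTransparency false
namespace Groth.Agent.GenInj19711
open CategoryTheory

theorem exists_scaled_retraction {A : Type u} [CommRing A] [IsNoetherianRing A] [IsDomain A] {M N : Type u}
    [AddCommGroup M] [Module A M] [Module.Finite A M] [AddCommGroup N] [Module A N] [Module.Finite A N]
    (j : N →ₗ[A] M) (hj : Function.Injective j) :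
    ∃ f : A, f ≠ 0 ∧ ∃ r : M →ₗ[A] N, ∀ x, r (j x) = f • x := by
  let S := nonZeroDivisors A
  let L := Localization S
  letI : Field L := IsFractionRing.toField (A := A)
  let jN : N →ₗ[A] LocalizedModule S N := LocalizedModule.mkLinearMap S N
  let jM : M →ₗ[A] LocalizedModule S M := LocalizedModule.mkLinearMap S M
  let j' : LocalizedModule S N →ₗ[L] LocalizedModule S M :=
    IsLocalizedModule.mapExtendScalars S jN jM L j
  have hj' : Function.Injective j' := IsLocalizedModule.map_injective S jN jM j hj
  obtain ⟨g, hg⟩ := j'.exists_leftInverse_of_injective (LinearMap.ker_eq_bot.2 hj')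
  let h : M →ₗ[A] LocalizedModule S N := (g.restrictScalars A) ∘ₗ jM
  haveI : Module.FinitePresentation A M := Module.finitePresentation_of_finite A M
  obtain ⟨h', s, hs⟩ := Module.FinitePresentation.exists_lift_of_isLocalizedModule S jN h
  have key : ∀ x, jN (h' (j x) - (s : A) • x) = 0 := fun x => by
    have e1 : jN (h' (j x)) = (s : A) • h (j x) := LinearMap.congr_fun hs (j x)
    have e2 : j' (jN x) = jM (j x) := IsLocalizedModule.map_apply S jN jM j x
    have e3 : h (j x) = jN x := (congrArg g e2.symm).trans (LinearMap.congr_fun hg (jN x))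
    rw [map_sub, map_smul, e1, e3, sub_self]
  obtain ⟨T, hT⟩ := (Module.Finite.fg_top (R := A) (M := N))
  have hz : ∀ x : N, ∃ t : S, (t : A) • (h' (j x) - (s : A) • x) = 0 := fun x => by
    obtain ⟨t, ht⟩ := (IsLocalizedModule.eq_zero_iff S jN).1 (key x)
    exact ⟨t, ht⟩
  choose t ht using hz
  classical
  let f : S := ∏ x ∈ T, t x
  have hf : ∀ x : N, (f : A) • (h' (j x) - (s : A) • x) = 0 := by
    let D : N →ₗ[A] N := (f : A) • (h' ∘ₗ j - (s : A) • LinearMap.id)
    have hD : D = 0 := by
      refine LinearMap.ext_on hT fun x hx => ?_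
      obtain ⟨c, hc⟩ : (t x : A) ∣ (f : A) := by
        rw [Submonoid.coe_finsetProd]
        exact Finset.dvd_prod_of_mem (fun y => (t y : A)) hx
      show (f : A) • (h' (j x) - (s : A) • x) = 0
      rw [hc, mul_comm, mul_smul, ht x, smul_zero]
    exact fun x => LinearMap.congr_fun hD x
  refine ⟨(f : A) * (s : A), mul_ne_zero (nonZeroDivisors.coe_ne_zero f) (nonZeroDivisors.coe_ne_zero s),
    (f : A) • h', fun x => ?_⟩
  rw [LinearMap.smul_apply, mul_smul, ← sub_eq_zero, ← smul_sub]
  exact hf x

theorem main {A : Type u} [CommRing A] [IsNoetherianRing A] [IsDomain A]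
    (F K : ModuleCat.{u} A ⥤ ModuleCat.{u} A) (ι : K ⟶ F)
    (hι : ∀ X : ModuleCat.{u} A, Function.Injective (ι.app X).hom)
    (hfin : Module.Finite A (F.obj (ModuleCat.of A A)))
    (hGI : ∃ U : Set (PrimeSpectrum A), IsOpen U ∧ Dense U ∧ ∀ u ∈ U, Algebra.FiniteType A u.asIdeal.ResidueField →
        ∀ m : F.obj (ModuleCat.of A A),
          (F.map (ModuleCat.ofHom (Algebra.linearMap A u.asIdeal.ResidueField))).hom m = 0 →
            ∃ s ∉ u.asIdeal, s • m ∈ u.asIdeal • (⊤ : Submodule A (F.obj (ModuleCat.of A A)))) :
    ∃ U : Set (PrimeSpectrum A), IsOpen U ∧ Dense U ∧ ∀ u ∈ U, Algebra.FiniteType A u.asIdeal.ResidueField →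
        ∀ m : K.obj (ModuleCat.of A A),
          (K.map (ModuleCat.ofHom (Algebra.linearMap A u.asIdeal.ResidueField))).hom m = 0 →
            ∃ s ∉ u.asIdeal, s • m ∈ u.asIdeal • (⊤ : Submodule A (K.obj (ModuleCat.of A A))) := by
  obtain ⟨U, hU, hUd, hG⟩ := hGI
  haveI := hfin
  let j := (ι.app (ModuleCat.of A A)).hom
  haveI : Module.Finite A (K.obj (ModuleCat.of A A)) := Module.Finite.of_injective j (hι _)
  obtain ⟨f, hf, r, hr⟩ := exists_scaled_retraction j (hι _)
  have hD : Dense (PrimeSpectrum.basicOpen f : Set (PrimeSpectrum A)) :=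
    (PrimeSpectrum.basicOpen f).2.dense ⟨⟨⊥, Ideal.isPrime_bot⟩, by simpa [PrimeSpectrum.mem_basicOpen] using hf⟩
  refine ⟨U ∩ PrimeSpectrum.basicOpen f, hU.inter (PrimeSpectrum.basicOpen f).2,
    hUd.inter_of_isOpen_right hD (PrimeSpectrum.basicOpen f).2, fun u hu hft m hm => ?_⟩
  have hm' : (F.map (ModuleCat.ofHom (Algebra.linearMap A u.asIdeal.ResidueField))).hom (j m) = 0 := by
    have := ConcreteCategory.congr_hom (ι.naturality (ModuleCat.ofHom (Algebra.linearMap A u.asIdeal.ResidueField))) m
    refine this.symm.trans ?_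
    exact (congrArg (fun z => (ι.app (ModuleCat.of A u.asIdeal.ResidueField)).hom z) hm).trans (map_zero (ι.app (ModuleCat.of A u.asIdeal.ResidueField)).hom)
  obtain ⟨s, hs, hsm⟩ := hG u hu.1 hft (j m) hm'
  refine ⟨s * f, fun h => (u.isPrime.mem_or_mem h).elim hs hu.2, ?_⟩
  have e : r (s • j m) = (s * f) • m := by rw [map_smul, hr, mul_smul]
  rw [← e]
  have hle : u.asIdeal • (⊤ : Submodule A (F.obj (ModuleCat.of A A))) ≤
      (u.asIdeal • (⊤ : Submodule A (K.obj (ModuleCat.of A A)))).comap r :=
    Submodule.smul_le.2 fun a ha x _ => by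
      rw [Submodule.mem_comap, map_smul]
      exact Submodule.smul_mem_smul ha trivial
  exact hle hsm

end Groth.Agent.GenInj19711

namespace Groth.Agent.S19711

/-- Let A be a Noetherian integral domain and F an A-linear additive functor from A-modules to A-modules
with F(A) a finitely generated A-module. Call such a functor generically injective when there is a
dense open subset U of Spec A such that for every point u of U whose residue field κ(u) is a
finitely generated A-algebra the comparison map F(A) ⊗_A κ(u) → F(κ(u)) is injective; since F is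
A-linear this injectivity says: every m in F(A) whose image under F(A → κ(u)) vanishes satisfies s·m
∈ u·F(A) for some s outside u. If F is generically injective then so is every A-linear additive
subfunctor K ⊆ F (a natural transformation K → F with injective components). (The published
statement is over a reduced Noetherian affine scheme, for additive functors on quasi-coherent
sheaves with values in abelian groups and the induced A-action, assumes F weakly bounded (F(A/p)
finitely generated for every prime ideal p) and also records that K is again weakly bounded; only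
the finite generation of F(A), which its argument uses, is assumed here, and the integral case with
A-linear functors stated here is the one its argument by generic flatness treats.) -/
theorem result {A : Type u} [CommRing A] [IsNoetherianRing A] [IsDomain A]
    (F K : ModuleCat.{u} A ⥤ ModuleCat.{u} A) [F.Additive] [F.Linear A] [K.Additive] [K.Linear A]
    (ι : K ⟶ F) (hι : ∀ X : ModuleCat.{u} A, Function.Injective (ι.app X).hom)
    (hfin : Module.Finite A (F.obj (ModuleCat.of A A)))
    (hGI : ∃ U : Set (PrimeSpectrum A), IsOpen U ∧ Dense U ∧ ∀ u ∈ U, Algebra.FiniteType A u.asIdeal.ResidueField →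
        ∀ m : F.obj (ModuleCat.of A A),
          (F.map (ModuleCat.ofHom (Algebra.linearMap A u.asIdeal.ResidueField))).hom m = 0 →
            ∃ s ∉ u.asIdeal, s • m ∈ u.asIdeal • (⊤ : Submodule A (F.obj (ModuleCat.of A A)))) :
    ∃ U : Set (PrimeSpectrum A), IsOpen U ∧ Dense U ∧ ∀ u ∈ U, Algebra.FiniteType A u.asIdeal.ResidueField →
        ∀ m : K.obj (ModuleCat.of A A),
          (K.map (ModuleCat.ofHom (Algebra.linearMap A u.asIdeal.ResidueField))).hom m = 0 →
            ∃ s ∉ u.asIdeal, s • m ∈ u.asIdeal • (⊤ : Submodule A (K.obj (ModuleCat.of A A))) := by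
  exact Groth.Agent.GenInj19711.main F K ι hι hfin hGI

end Groth.Agent.S19711
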