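import Groth.Statements.S19712
import Groth.Agent.InterDiv23.Family
import Groth.Agent.H0Growth23.GenFinite
import Groth.Agent.H0Growth23.NegTwist
import Groth.Agent.Coherent.RpushVanish
import Groth.Agent.CycLib28.StalkGen
import Groth.Agent.CycLib28.P1Fam
import Groth.Agent.CycLib28.P1Subscheme
import Groth.Agent.FlatMor12.MiracleScheme
import Groth.Agent.DimLib.Morphism

set_option backward.isDefEq.respectTransparency.types false

set_option autoImplicit false
universe u
open CategoryTheory AlgebraicGeometry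
open Variety

namespace Groth.Agent.S19712

open TopologicalSpace Opposite
open Groth.Agent.Coherent Groth.Agent.PicLib Groth.Agent.AmpleLib Groth.Agent.EulerLib
open Groth.Agent.H0Growth23 Groth.Agent.NumTriv23 Groth.Agent.InterDiv23 Groth.Agent.VarietyLib

section
variable (k : Type u) [Field k] {X Z : Scheme.{u}} [X.Over (Spec (CommRingCat.of k))]
  [IsProper (X ↘ Spec (CommRingCat.of k))]

include k in
/-- The local conditions on a closed subscheme cut out by the sections, away from it and on it. -/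
theorem local_conditions [AlgebraicGeometry.IsIntegral X] {n K : ℕ} (hn : topologicalKrullDim ↥X = n) (hKn : K ≤ n)
    {L : X.Modules} (hL : PicF.IsInvertible L) (s : Fin K → (Coh.structureModule X ⟶ L))
    (ι : Z ⟶ X) [IsClosedImmersion ι]
    (hker : ∀ U : X.affineOpens, ι.ker.ideal U = ⨆ j, (PicF2.zeroScheme L (s j)).ideal U)
    [AlgebraicGeometry.IsReduced Z]
    (hdim : ∀ W ∈ irreducibleComponents ↥Z, topologicalKrullDim ↥W = ((n - K : ℕ) : WithBot ℕ∞)) :
    (∀ y ∉ Set.range ι, ∃ i, y ∈ glocus L (unitVal (s i) ⊤)) ∧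
    ∀ w : Z, ∃ (U : X.Opens) (g : Γ(L, U)) (hg : IsGen L U g) (hz : ι w ∈ U),
      RingHom.ker (ι.stalkMap w).hom = Ideal.span (Set.range fun i => coefGerm hg hz (unitVal (s i) ⊤)) ∧
      ∀ t : Fin K → Γ(L, (⊤ : X.Opens)),
        Ideal.span (Set.range fun i => coefGerm hg hz (t i)) =
          Ideal.span (Set.range fun i => coefGerm hg hz (unitVal (s i) ⊤)) →
        ∀ i : Fin K, coefGerm hg hz (t i) ∈ IsLocalRing.maximalIdeal (X.presheaf.stalk (ι w)) ∧
          ∀ x, coefGerm hg hz (t i) * x ∈ pre (fun l => coefGerm hg hz (t l)) i →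
            x ∈ pre (fun l => coefGerm hg hz (t l)) i := by
  haveI := EulerLib.isNoetherian_of_proper (X := X) k
  let p := X ↘ Spec (CommRingCat.of k)
  have chart : ∀ y : X, ∃ (V : X.affineOpens) (g : Γ(L, V.1)) (hg : IsGen L V.1 g), y ∈ V.1 ∧
      ι.ker.ideal V = Ideal.span (Set.range fun i => hg.coef le_rfl (resM L le_top (unitVal (s i) ⊤))) := by
    intro y
    obtain ⟨U, hyU, g, hg⟩ := exists_isGen hL y
    obtain ⟨V, hV, hyV, hVU⟩ := exists_isAffineOpen_mem_and_subset (x := y) (U := U) hyU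
    refine ⟨⟨V, hV⟩, _, hg.restrict hVU, hyV, ?_⟩
    rw [hker, Ideal.span, Submodule.span_range_eq_iSup]
    refine iSup_congr fun i => ?_
    rw [ZeroSchLib.zeroScheme_ideal_eq_span (s i) hL ⟨V, hV⟩ (hg.restrict hVU), resM_unitVal]
  refine ⟨fun y hy => ?_, fun w => ?_⟩
  · obtain ⟨V, g, hg, hyV, hI⟩ := chart y
    by_contra hno
    push Not at hno
    apply hy
    have hmem : y ∈ ι.ker.support := by
      rw [Scheme.IdealSheafData.mem_support_iff_of_mem hyV, Scheme.mem_zeroLocus_iff]
      intro f hf hyf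
      have hu := (Scheme.mem_basicOpen _ _ _ hyV).1 hyf
      have hle : (ι.ker.ideal V).map (X.presheaf.germ V.1 y hyV).hom ≤ IsLocalRing.maximalIdeal _ := by
        rw [hI, Ideal.map_span, Ideal.span_le]
        rintro _ ⟨_, ⟨i, rfl⟩, rfl⟩ hu'
        exact hno i ((mem_glocus_iff_coefGerm hg hyV _).2 hu')
      exact (hle (Ideal.mem_map_of_mem _ hf)) hu
    rw [← SetLike.mem_coe, Scheme.Hom.support_ker, ι.isClosedEmbedding.isClosed_range.closure_eq] at hmem
    exact hmem
  · obtain ⟨V, g, hg, hzV, hI⟩ := chart (ι w)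
    have hk : RingHom.ker (ι.stalkMap w).hom =
        Ideal.span (Set.range fun i => coefGerm hg hzV (unitVal (s i) ⊤)) := by
      rw [CycLib28.ker_stalkMap_eq_ker_map ι w V hzV, hI, Ideal.map_span, ← Set.range_comp]
      rfl
    refine ⟨V.1, g, hg, hzV, hk, fun t ht => ?_⟩
    rw [← hk] at ht
    have hsurj := ι.stalkMap_surjective w
    have hmax : ∀ i, coefGerm hg hzV (t i) ∈ IsLocalRing.maximalIdeal (X.presheaf.stalk (ι w)) := by
      intro i hu
      have h0 : (ι.stalkMap w).hom (coefGerm hg hzV (t i)) = 0 := ht.le (Ideal.subset_span ⟨i, rfl⟩)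
      have := hu.map (ι.stalkMap w).hom
      rw [h0] at this
      exact not_isUnit_zero this
    have hrad : (Ideal.span (Set.range fun i => coefGerm hg hzV (t i))).IsRadical := by
      rw [ht]
      exact (RingHom.ker_isRadical_iff_reduced_of_surjective hsurj).2 inferInstance
    refine fun i => ⟨hmax i, mem_pre_of_isRadical _ hmax hrad (fun P hP => ?_) i⟩
    rw [ht] at hP
    haveI : P.IsPrime := hP.1.1
    obtain ⟨w', hw', hPw⟩ := CycLib28.P1Fam.exists_generisation_of_ker_le (ι := ι) w ⟨P, hP.1.1⟩ hP.1.2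
    have hmaxw : ∀ z, z ⤳ w' → w' = z := by
      intro z hz
      obtain ⟨q, hq⟩ := CycLim28.exists_fromSpecStalk_eq (hz.trans hw')
      let Q : PrimeSpectrum (X.presheaf.stalk (ι w)) := PrimeSpectrum.comap (ι.stalkMap w).hom q
      have hQ : X.fromSpecStalk (ι w) Q = ι z := by rw [← hq]; exact CycLib28.P1Fam.fromSpecStalk_comap ι w q
      have hle : Q ≤ (⟨P, hP.1.1⟩ : PrimeSpectrum (X.presheaf.stalk (ι w))) :=
        (CycLib28.specializes_iff_le (ι w) Q _).1 (by rw [hQ, ← hPw]; exact hz.map ι.continuous)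
      have hge : P ≤ Q.asIdeal := hP.2 ⟨Q.2, Ideal.ker_le_comap _⟩ hle
      have e : Q = ⟨P, hP.1.1⟩ := PrimeSpectrum.ext (le_antisymm hle hge)
      exact ι.isClosedEmbedding.injective (hPw.trans (e ▸ hQ))
    have hc := hdim _ (DimLib.closure_mem_components hmaxw)
    rw [DimLib.topologicalKrullDim_eq_ptDim_of_isGenericPoint (ι ≫ p) isGenericPoint_closure,
      DimLib.ptDim_comp_preimmersion p ι w'] at hc
    have hc' : DimLib.ptDim p (ι w') = n - K := by exact_mod_cast hc
    have hgen : ∀ η : X, (∀ z, z ⤳ η → η = z) → DimLib.ptDim p η = n := fun η hη => by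
      rw [hη _ (genericPoint_specializes η)]
      have h := DimLib.topologicalKrullDim_eq_ptDim_genericPoint p
      rw [hn] at h
      exact_mod_cast h.symm
    obtain ⟨-, hco⟩ := FlatMor12.coheight_add_ptDim p n hgen (ι w')
    have hht := CycLib28.ringKrullDim_stalk_eq_height (ι w) (⟨P, hP.1.1⟩ : PrimeSpectrum _)
    rw [← hPw, AlgebraicGeometry.ringKrullDim_stalk_eq_coheight, hco] at hht
    have : ((n - DimLib.ptDim p (ι w') : ℕ) : ℕ∞) = P.height := WithBot.coe_injective hht
    rw [← this, hc']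
    exact_mod_cast (by omega : K ≤ n - (n - K))

/-- The quotient is the structure sheaf of the subscheme. -/
theorem nonempty_iso_push {K : ℕ} {L : X.Modules} (hL : PicF.IsInvertible L) (b t : Fin K → Γ(L, (⊤ : X.Opens)))
    (ι : Z ⟶ X) [IsClosedImmersion ι] {G : X.Modules} (p : Coh.structureModule X ⟶ G) (hQ : QuotSeq G p t K)
    (hspan : ∀ (z : X) (U : X.Opens) (g : Γ(L, U)) (hg : IsGen L U g) (hz : z ∈ U),
      Ideal.span (Set.range fun i => coefGerm hg hz (t i)) = Ideal.span (Set.range fun i => coefGerm hg hz (b i)))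
    (hout : ∀ y ∉ Set.range ι, ∃ i, y ∈ glocus L (b i))
    (hin : ∀ w : Z, ∃ (U : X.Opens) (g : Γ(L, U)) (hg : IsGen L U g) (hz : ι w ∈ U),
      RingHom.ker (ι.stalkMap w).hom = Ideal.span (Set.range fun i => coefGerm hg hz (b i))) :
    Nonempty (G ≅ (Coh.push ι).obj (Coh.structureModule Z)) := by
  set T := (Coh.push ι).obj (Coh.structureModule Z)
  let one : Γ(T, (⊤ : X.Opens)) := (1 : Γ(Z, ι ⁻¹ᵁ ⊤))
  let q := unitDesc T one
  have hgen : ∀ z, gen1 q z = T.presheaf.germ ⊤ z trivial one := fun z => by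
    show (DerSch.stalkFunctor X z).map q (AssSch12.unitOne z) = _
    refine (stalk_map_germ q (show z ∈ (⊤ : X.Opens) from trivial) (show Γ(Coh.structureModule X, ⊤) from (1 : Γ(X, ⊤)))).trans ?_
    show T.presheaf.germ ⊤ z trivial (unitVal q ⊤) = _
    rw [unitVal_unitDesc, resM_self]
  have hpush : ∀ (w : Z) (r : X.presheaf.stalk (ι w)),
      CycLib28.pushStalkHom ι (Coh.structureModule Z) w (r • gen1 q (ι w)) =
        (ι.stalkMap w).hom r • AssSch12.unitOne w := fun w r => by
    rw [hgen]
    refine (CycLib28.pushStalkHom_smul ι (Coh.structureModule Z) w r _).trans ?_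
    exact congrArg ((ι.stalkMap w).hom r • ·) (CycLib28.pushStalkHom_germ ι (Coh.structureModule Z) w ⊤ trivial one)
  have hbij : ∀ w : Z, Function.Bijective (CycLib28.pushStalkHom ι (Coh.structureModule Z) w) := fun w => by
    haveI : IsIso (CycLib28.pushStalkHom ι (Coh.structureModule Z) w) :=
      TopCat.Presheaf.stalkPushforward.stalkPushforward_iso_of_isInducing Ab.{u} ι.isClosedEmbedding.isInducing
        (Coh.structureModule Z).presheaf w
    exact ConcreteCategory.bijective_of_isIso _
  refine nonempty_iso_of_gen1 p q hQ.surj (fun z w => ?_) (fun z r => ?_)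
  · by_cases hz : z ∈ Set.range ι
    · obtain ⟨v, rfl⟩ := hz
      obtain ⟨r', hr'⟩ := (AssSch12.bijective_smul_unitOne v).2 (CycLib28.pushStalkHom ι (Coh.structureModule Z) v w)
      obtain ⟨r, rfl⟩ := ι.stalkMap_surjective v r'
      exact ⟨r, (hbij v).1 ((hpush v r).trans hr')⟩
    · exact ⟨0, (CycLib28.subsingleton_stalk_push ι (Coh.structureModule Z) hz).elim _ _⟩
  · by_cases hz : z ∈ Set.range ι
    · obtain ⟨v, rfl⟩ := hz
      obtain ⟨U, g, hg, hzU, hk⟩ := hin v
      rw [hQ.ker _ U g hg hzU r, pre_top, hspan _ U g hg hzU, ← hk, RingHom.mem_ker]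
      constructor
      · intro h
        refine (hbij v).1 ?_
        rw [hpush, h, zero_smul]
        exact (map_zero (CycLib28.pushStalkHom ι (Coh.structureModule Z) v).hom).symm
      · intro h
        refine (AssSch12.bijective_smul_unitOne v).1 ?_
        show _ • _ = (0 : Z.presheaf.stalk v) • _
        rw [← hpush, h, zero_smul]
        exact map_zero (CycLib28.pushStalkHom ι (Coh.structureModule Z) v).hom
    · obtain ⟨U, hzU, g, hg⟩ := exists_isGen hL z
      obtain ⟨i, hi⟩ := hout z hz
      rw [hQ.ker _ U g hg hzU r, pre_top, hspan _ U g hg hzU]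
      exact iff_of_true ((Ideal.eq_top_of_isUnit_mem _ (Ideal.subset_span (Set.mem_range_self (f := fun i => coefGerm hg hzU (b i)) i))
        ((mem_glocus_iff_coefGerm hg hzU _).1 hi)).symm ▸ Submodule.mem_top)
        ((CycLib28.subsingleton_stalk_push ι (Coh.structureModule Z) hz).elim _ _)

end

open AlgebraicGeometry.Scheme.Modules in
/-- Uniform cohomology bound on intersections of divisors: let X be an integral scheme, proper over an
algebraically closed field k of characteristic zero and admitting an ample invertible module, of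
dimension n (the source works over the complex numbers); let A be an invertible O_X-module which is
very ample (A ≅ i^*O(1) for an immersion into some P^N_k) and such that A ⊗ P' is very ample for
every invertible P' numerically equivalent to zero, D any invertible O_X-module and 1 ≤ k ≤ n. Then
there is a constant C > 0, determined by X, A and D, such that: for every invertible P numerically
equivalent to zero, every k global sections s_1, …, s_k of A ⊗ P, and every closed subscheme Z of X
whose ideal is generated by the zero-scheme ideals of the s_j (Z = E_1 ∩ ⋯ ∩ E_k with E_j the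
divisor of s_j), if Z is reduced and all its irreducible components have dimension n − k, then dim_k
H^i(Z, (D^{⊗m})|_Z) ≤ C · m^{n−k} for every m ≥ 1 and every i. -/
theorem result
    (k : Type u) [Field k] [IsAlgClosed k] [CharZero k] (X : Scheme.{u})
    [X.Over (Spec (CommRingCat.of k))] [AlgebraicGeometry.IsIntegral X]
    [IsProper (X ↘ Spec (CommRingCat.of k))] (hproj : ∃ A : X.Modules, CohB1.IsAmple A)
    (n : ℕ) (hn : topologicalKrullDim ↥X = n)
    (A : X.Modules) (hA : PicF.IsInvertible A) (hAva : RelAmple.IsRelVeryAmplePn (X ↘ Spec (CommRingCat.of k)) A)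
    (hAP : ∀ P' : X.Modules, PicF.IsInvertible P' → Pic13.IsNumEquivZero k X P' →
      RelAmple.IsRelVeryAmplePn (X ↘ Spec (CommRingCat.of k)) (CohB1.tensorMod A P'))
    (D : X.Modules) (hD : PicF.IsInvertible D) (kk : ℕ) (hk1 : 1 ≤ kk) (hkn : kk ≤ n) :
    ∃ C : ℝ, 0 < C ∧ ∀ (P : X.Modules), PicF.IsInvertible P → Pic13.IsNumEquivZero k X P →
      ∀ (s : Fin kk → (Coh.structureModule X ⟶ CohB1.tensorMod A P))
        (Z : Scheme.{u}) [Z.Over (Spec (CommRingCat.of k))] (ι : Z ⟶ X) [IsClosedImmersion ι],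
        ι ≫ (X ↘ Spec (CommRingCat.of k)) = Z ↘ Spec (CommRingCat.of k) →
        (∀ U : X.affineOpens, ι.ker.ideal U = ⨆ j, (PicF2.zeroScheme (CohB1.tensorMod A P) (s j)).ideal U) →
        AlgebraicGeometry.IsReduced Z →
        (∀ W ∈ irreducibleComponents ↥Z, topologicalKrullDim ↥W = ((n - kk : ℕ) : WithBot ℕ∞)) →
        ∀ (m : ℕ), 1 ≤ m → ∀ i : ℕ,
          (Module.finrank k (Coh.HH Z ((pullback ι).obj (CohB1.tensorPow D m)) i) : ℝ) ≤ C * (m : ℝ) ^ (n - kk) := by
  haveI := EulerLib.isNoetherian_of_proper (X := X) k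
  choose C hC using fun i : Fin (n + 1) => exists_fam_growth k hproj (InvCl.mk D hD) (n - kk + 1)
    (iterFam k (InvCl.mk A hA) kk) (bddFam_iterFam k hproj _ kk) (dim_iterFam k hn _ kk hkn) (i : ℕ)
  refine ⟨((∑ i, C i) * 2 ^ (n - kk) + 1 : ℕ), by positivity, ?_⟩
  intro P hP hPnum s Z _ ι _ hι hker hred hdim m hm i
  haveI := hred
  have hL := isInvertible_tensorMod hA hP
  have hLa : InvCl.mk _ hL = InvCl.mk A hA * InvCl.mk P hP := (InvCl.mk_mul hA hP).symm
  obtain ⟨hout, hin⟩ := local_conditions k hn hkn hL s ι hker hdim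
  obtain ⟨G, p, t, hG, hQ, hspan⟩ := exists_quotSeq k hL (InvCl.mk A hA) (InvCl.mk P hP)
    (isNum_of_isNumEquivZero k hP hPnum) hLa (fun j => unitVal (s j) ⊤) (Set.range ι) hout (by
      rintro z ⟨w, rfl⟩
      obtain ⟨U, g, hg, hz, -, h⟩ := hin w
      exact ⟨U, g, hg, hz, h⟩)
  obtain ⟨e⟩ := nonempty_iso_push hL _ t ι p hQ hspan hout
    (fun w => (hin w).imp fun U h => h.imp fun g h => h.imp fun hg h => h.imp fun hz h => h.1)
  haveI : IsProper (Z ↘ Spec (CommRingCat.of k)) := hι ▸ inferInstance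
  haveI := EulerLib.isNoetherian_of_proper (X := Z) k
  have hDm := isInvertible_tensorPow hD m
  haveI : Coh.IsQCoh (Coh.structureModule Z) := (isCoh_structureModule Z).1
  have key : Module.finrank k (Coh.HH Z ((AlgebraicGeometry.Scheme.Modules.pullback ι).obj (CohB1.tensorPow D m)) i) =
      hh k G i (InvCl.mk D hD ^ m) := by
    rw [← InvCl.mk_tensorPow hD, ← CurveRR24.finrank_HH_congr k (AmpleLib.unitTensorIso
        ((AlgebraicGeometry.Scheme.Modules.pullback ι).obj (CohB1.tensorPow D m))) i,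
      ← hh_mk k (Coh.structureModule Z) i _ (PicLoc.isInvertible_pullback ι hDm), ← pullHom_mk ι hDm,
      hh_pullback_eq_push k ι hι (isCoh_structureModule Z)
        (fun q hq => Coherent.isZero_rpushAb_of_isAffineHom ι (Coh.structureModule Z) q hq) i _]
    exact (CurveRR24.finrank_HH_congr k (Coherent.tensorIso e (Iso.refl _)) i).symm
  rw [key]
  rcases Nat.lt_or_ge i (n + 1) with hi | hi
  · have h := hC ⟨i, hi⟩ G hG 1 (isNum_one k) m
    rw [one_mul] at h
    have h2 : bnd (n - kk + 1) m ≤ 2 ^ (n - kk) * m ^ (n - kk) := by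
      rw [← mul_pow]
      exact Nat.pow_le_pow_left (by omega) _
    have h3 : hh k G i (InvCl.mk D hD ^ m) ≤ ((∑ i, C i) * 2 ^ (n - kk) + 1) * m ^ (n - kk) :=
      calc _ ≤ C ⟨i, hi⟩ * bnd (n - kk + 1) m := h
        _ ≤ (∑ i, C i) * (2 ^ (n - kk) * m ^ (n - kk)) :=
          Nat.mul_le_mul (Finset.single_le_sum (fun j _ => Nat.zero_le (C j)) (Finset.mem_univ _)) h2
        _ ≤ _ := by rw [← mul_assoc]; exact Nat.mul_le_mul_right _ (Nat.le_succ _)
    exact_mod_cast h3
  · rw [hh_eq_zero_of_dim k (coh_iterFam k _ kk G hG) (lt_of_lt_of_le (dim_iterFam k hn _ kk hkn G hG)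
      (by exact_mod_cast (by omega : n - kk + 1 ≤ i))) _, Nat.cast_zero]
    positivity

end Groth.Agent.S19712
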