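import Groth.Statements.S19715
import Groth.Agent.Vanish28.PullZero

set_option autoImplicit false
universe u
open TwSh
open CategoryTheory CategoryTheory.Limits AlgebraicGeometry Opposite

set_option backward.isDefEq.respectTransparency false
set_option backward.isDefEq.respectTransparency.types false

namespace Groth.Agent.S19715

theorem map_heq {S : Scheme.{u}} {𝒳 : AlgSt.Cat S} (F : StMod.Mod 𝒳) {ξ' ξ : 𝒳.obj} {φ φ' : ξ' ⟶ ξ}
    (e : φ = φ') {g g' : StMod.sch 𝒳 ξ' ⟶ StMod.sch 𝒳 ξ} (hg : StMod.bmap 𝒳 φ = g)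
    (hg' : StMod.bmap 𝒳 φ' = g') (U : (StMod.sch 𝒳 ξ).Opens) (s : Γ(F.obj ξ, U)) :
    HEq ((F.map φ hg).app U s) ((F.map φ' hg').app U s) := by
  subst e; exact TwSh.map_app_heq F φ hg hg' U s

theorem eqToHom_left_inv {S : Scheme.{u}} {A B : Over S} (w : A = B) (y : B.left) :
    (eqToHom w).left ((eqToHom w.symm).left y) = y := by
  subst w; rfl

theorem eqToHom_left_inv' {S : Scheme.{u}} {A B : Over S} (w : A = B) (w' : B = A) (y : B.left) :
    (eqToHom w).left ((eqToHom w').left y) = y := eqToHom_left_inv w y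

/-- A lift of an object of the gerbe to the pullback of a chart. -/
theorem exists_lift {S : Scheme.{u}} {X : Over S} {𝒳 : AlgSt.Cat S} (hfib : FibCat.IsFibGrpd 𝒳.p)
    (π : 𝒳 ⥤ᵇ AlgSt.ofSch X) (η : (AlgSt.ofSch X).obj) (hη : Flat η.sec.down.left) (ξ : 𝒳.obj) :
    ∃ (ξ' : 𝒳.obj) (ψ : ξ' ⟶ ξ) (_ : π.obj ξ' ⟶ η), Flat (StMod.bmap 𝒳 ψ) ∧
      ∀ y : StMod.sch 𝒳 ξ,
        (π.obj ξ).sec.down.left ((eqToHom (π.w_obj ξ).symm).left y) ∈ Set.range η.sec.down.left →
          ∃ z, StMod.bmap 𝒳 ψ z = y := by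
  have w : (π.obj ξ).base = 𝒳.p.obj ξ := π.w_obj ξ
  let g : (π.obj ξ).base ⟶ X := (π.obj ξ).sec.down
  let e : η.base ⟶ X := η.sec.down
  let T' : Over S := Over.mk (pullback.fst g.left e.left ≫ (π.obj ξ).base.hom)
  let p1 : T' ⟶ (π.obj ξ).base := Over.homMk (pullback.fst g.left e.left) rfl
  let p2 : T' ⟶ η.base := Over.homMk (pullback.snd g.left e.left) (by
    show pullback.snd g.left e.left ≫ η.base.hom = pullback.fst g.left e.left ≫ (π.obj ξ).base.hom
    rw [← Over.w e, ← Over.w g, ← Category.assoc, ← pullback.condition, Category.assoc])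
  have hp : p1 ≫ g = p2 ≫ e := Over.OverMorphism.ext pullback.condition
  let f : T' ⟶ 𝒳.p.obj ξ := p1 ≫ eqToHom w
  obtain ⟨ξ', ψ, hψ⟩ := hfib.exists_lift f
  have d1 : 𝒳.p.obj ξ' = T' := IsHomLift.domain_eq 𝒳.p f ψ
  have w' : (π.obj ξ').base = 𝒳.p.obj ξ' := π.w_obj ξ'
  have h1 : 𝒳.p.map ψ = eqToHom d1 ≫ f := by
    simpa using IsHomLift.fac' 𝒳.p f ψ
  haveI : (AlgSt.ofSch X).p.IsHomLift f (π.map ψ) := BasedFunctor.preserves_isHomLift π f ψ
  have h2 : (π.map ψ).hom = eqToHom (w'.trans d1) ≫ p1 := by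
    have := IsHomLift.fac' (AlgSt.ofSch X).p f (π.map ψ)
    simpa [f] using this
  refine ⟨ξ', ψ, ⟨eqToHom (w'.trans d1) ≫ p2, ?_⟩, ?_, fun y hy => ?_⟩
  · have hs : (π.obj ξ').sec.down = (π.map ψ).hom ≫ g := by
      rw [← (π.map ψ).map_sec]; rfl
    apply ULift.ext
    show (eqToHom (w'.trans d1) ≫ p2) ≫ e = (π.obj ξ').sec.down
    rw [hs, h2, Category.assoc, Category.assoc, hp]
  · show Flat (𝒳.p.map ψ).left
    rw [h1]
    simp only [f, Over.comp_left]
    haveI : Flat e.left := hη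
    haveI : Flat p1.left := MorphismProperty.pullback_fst g.left e.left (inferInstance : Flat e.left)
    infer_instance
  · obtain ⟨z, hz⟩ := hy
    obtain ⟨q, hq, -⟩ := Scheme.Pullback.exists_preimage_pullback (f := g.left) (g := e.left)
      ((eqToHom w.symm).left y) z hz.symm
    refine ⟨(eqToHom d1.symm).left (show T'.left from q), ?_⟩
    show (𝒳.p.map ψ).left _ = y
    rw [h1]
    simp only [f, Over.comp_left, Scheme.Hom.comp_apply, eqToHom_left_inv']
    show (eqToHom w).left (pullback.fst g.left e.left q) = y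
    rw [hq, eqToHom_left_inv']

open CategoryTheory AlgebraicGeometry in
/-- Being twisted is local on the base. Let 𝒳 → X be an fppf A-gerbe over a scheme X, χ a character of
A, d an integer and F a quasi-coherent module on 𝒳. If {T_i → X} is a family of flat morphisms
locally of finite presentation whose images cover X, and for every i the restriction of F to the
gerbe restricted over T_i is d-fold χ-twisted for the restricted action, then F is d-fold χ-twisted.
(The published statement is an equivalence, for arbitrary modules on an A-gerbe over a locally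
ringed site and a covering of it; the converse implication holds by construction and is not
asserted, and this row is the quasi-coherent form over the big fppf site of a scheme.) -/
theorem result (S : Scheme.{u}) (X : Over S) (𝒳 : AlgSt.Cat S) (h𝒳 : AlgSt.IsAlgStack Scheme.fppfPrecoverage 𝒳) (A : (Over S)ᵒᵖ ⥤ GrpCat.{u}) (χ : A ⟶ TwSh.GmPsh S) (d : ℤ) (π : 𝒳 ⥤ᵇ AlgSt.ofSch X) (ι : TwSh.BandHom 𝒳 A) (hπ : TwSh.IsBandedGerbe (QuotSh.J Scheme.fppfPrecoverage S) π ι) (I : Type u) (η : I → (AlgSt.ofSch X).obj) (hfl : ∀ i, Flat (η i).sec.down.left) (hfp : ∀ i, LocallyOfFinitePresentation (η i).sec.down.left) (hcov : ∀ x : X.left, ∃ i, x ∈ Set.range (η i).sec.down.left.base) (F : StMod.QCoh 𝒳) (h : ∀ i, TwSh.IsTwisted (StMod.Mod.comap (StMod.fibFst π (η i)) F.obj) (TwSh.BandHom.fib π (η i) ι (TwSh.IsBandedGerbe.map_hom_eq_id π hπ)) χ d) : TwSh.IsTwisted F.obj ι χ d := by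
  intro ξ a U s
  let c := ((charUnit χ ξ a ^ d)⁻¹).val
  let σ := inert F.obj ξ (ι.hom ξ a) - scalarEnd (F.obj.obj ξ) c
  suffices hσ : σ = 0 by
    rw [sub_eq_zero.mp hσ]; rfl
  obtain ⟨hcart, hqc⟩ := F.property
  haveI := hqc ξ
  choose ξ' ψ u hflat hsurj using fun i => exists_lift h𝒳.isStack.1 π (η i) (hfl i) ξ
  haveI : ∀ i, Flat (StMod.bmap 𝒳 (ψ i)) := hflat
  refine Vanish28.eq_zero_of_flat_cover σ (fun i => StMod.sch 𝒳 (ξ' i)) (fun i => StMod.bmap 𝒳 (ψ i))
    (fun y => ?_) fun i => ?_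
  · obtain ⟨i, hi⟩ := hcov ((π.obj ξ).sec.down.left ((eqToHom (π.w_obj ξ).symm).left y))
    exact ⟨i, hsurj i y hi⟩
  let g := StMod.bmap 𝒳 (ψ i)
  let a' := A.map (𝒳.p.map (ψ i)).op a
  let Φ := F.obj.map (ψ i) (g := g) rfl
  haveI := hcart (ψ i) (g := g) rfl
  suffices hΦ : σ ≫ Φ = 0 by
    have h1 := ((Scheme.Modules.pullbackPushforwardAdjunction g).homEquiv_naturality_left_symm σ Φ)
    rw [hΦ, Adjunction.homEquiv_counit, Functor.map_zero, zero_comp] at h1
    exact (cancel_mono (((Scheme.Modules.pullbackPushforwardAdjunction g).homEquiv _ _).symm Φ)).1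
      (h1.symm.trans zero_comp.symm)
  rw [show σ ≫ Φ = inert F.obj ξ (ι.hom ξ a) ≫ Φ - scalarEnd (F.obj.obj ξ) c ≫ Φ from Preadditive.sub_comp .., sub_eq_zero]
  -- the restriction over the chart
  have hloc : ∀ (V : (StMod.sch 𝒳 (ξ' i)).Opens) (t : Γ(F.obj.obj (ξ' i), V)),
      (inert F.obj (ξ' i) (ι.hom (ξ' i) a')).app V t =
        resTop (StMod.sch 𝒳 (ξ' i)) V ((charUnit χ (ξ' i) a' ^ d)⁻¹).val • t := fun V t => by
    have key := h i (CostructuredArrow.mk (u i)) a' V t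
    have e0 := inert_comap_fibFst π (η i) F.obj (CostructuredArrow.mk (u i)) (ι.hom (ξ' i) a')
      (IsBandedGerbe.map_hom_eq_id π hπ (ξ' i) a')
    exact (congrArg (fun m => m.app V t) e0).symm.trans key
  apply Scheme.Modules.hom_ext
  intro U
  ext s
  show Φ.app U ((inert F.obj ξ (ι.hom ξ a)).app U s) = Φ.app U (resTop (StMod.sch 𝒳 ξ) U c • s)
  -- naturality of the inertial action
  have hb := bmap_autO (𝒳 := 𝒳) ξ (ι.hom ξ a)
  have hb' := bmap_autO (𝒳 := 𝒳) (ξ' i) (ι.hom (ξ' i) a')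
  have e1 := congrArg (fun f => (ConcreteCategory.hom f) s)
    (StMod.Mod.map_comp_app F.obj (ψ i) (ι.hom ξ a).hom.1 (h := g) rfl hb U)
  have e2 := congrArg (fun f => (ConcreteCategory.hom f) s)
    (StMod.Mod.map_comp_app F.obj (ι.hom (ξ' i) a').hom.1 (ψ i) (g := g) hb' rfl U)
  simp only at e1 e2
  have e3 := map_heq F.obj (ι.natural (ψ i) a).symm
    (g := g ≫ 𝟙 (StMod.sch 𝒳 ξ)) (g' := 𝟙 (StMod.sch 𝒳 (ξ' i)) ≫ g)
    (by rw [StMod.bmap_comp, hb]) (by rw [StMod.bmap_comp, hb']) U s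
  have e4 : Φ.app U ((inert F.obj ξ (ι.hom ξ a)).app U s) =
      (inert F.obj (ξ' i) (ι.hom (ξ' i) a')).app (g ⁻¹ᵁ U) (Φ.app U s) := by
    rw [inert_app_apply, inert_app_apply]
    exact e1.symm.trans ((eq_of_heq e3).trans e2)
  rw [e4, hloc, Scheme.Modules.Hom.app_smul]
  suffices hr : resTop (StMod.sch 𝒳 (ξ' i)) (g ⁻¹ᵁ U) ((charUnit χ (ξ' i) a' ^ d)⁻¹).val =
      (g.app U).hom (resTop (StMod.sch 𝒳 ξ) U c) by
    rw [hr]; rfl
  have hc : charUnit χ (ξ' i) a' = Units.map g.appTop.hom.toMonoidHom (charUnit χ ξ a) :=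
    congr($(χ.naturality (𝒳.p.map (ψ i)).op) a)
  rw [hc, ← map_zpow, ← map_inv]
  exact (congr($(g.naturality (homOfLE (le_top : U ≤ ⊤)).op) c)).symm

end Groth.Agent.S19715
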