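import Groth.Statements.S19717
import Groth.Agent.StkDesc11.LocFreeBridge
import Groth.Agent.StkDesc11.FamDescent
import Groth.Agent.AlgSpLib.Descent
import Groth.Agent.Coherent.CohOps
import Groth.Agent.FlatMorAssOpen.GenericFP
-- import your own Groth.Agent.* helpers here

set_option autoImplicit false
universe u
open TwSh

open CategoryTheory CategoryTheory.Limits AlgebraicGeometry Opposite

set_option backward.isDefEq.respectTransparency false
set_option backward.isDefEq.respectTransparency.types false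

namespace Groth.Agent.S19717

abbrev P1 (X : Scheme.{u}) (M : X.Modules) : Prop := SheafOfModules.IsFiniteType (R := X.ringCatSheaf) M
abbrev P2 (X : Scheme.{u}) (M : X.Modules) : Prop := SheafOfModules.IsFinitePresentation (R := X.ringCatSheaf) M
abbrev P3 (X : Scheme.{u}) (M : X.Modules) : Prop :=
  SheafOfModules.IsLocallyFree (R := X.ringCatSheaf) M ∧ SheafOfModules.IsFiniteType (R := X.ringCatSheaf) M

theorem castMod_iff (P : ∀ X : Scheme.{u}, X.Modules → Prop) {X T : Scheme.{u}} (h : X = T) (M : X.Modules) :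
    P T (StMod.castMod h M) ↔ P X M := by
  subst h; exact Iff.rfl

/-- A flat open covering of an object of the base by images of objects of the gerbe. -/
theorem exists_cover {S : Scheme.{u}} {𝒳 𝒴 : AlgSt.Cat S} (π : 𝒳 ⥤ᵇ 𝒴)
    (h : Gerb.LocSurjObj (QuotSh.J Scheme.fppfPrecoverage S) π) (y : 𝒴.obj) :
    ∃ (I : Type (u + 1)) (x : I → 𝒳.obj) (g : ∀ i, π.obj (x i) ⟶ y),
      (∀ i, Flat (StMod.bmap 𝒴 (g i))) ∧ (∀ i, IsOpenMap (StMod.bmap 𝒴 (g i))) ∧
      ∀ t : StMod.sch 𝒴 y, ∃ i, t ∈ Set.range (StMod.bmap 𝒴 (g i)) := by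
  obtain ⟨R, hR, hlift⟩ := h y
  obtain ⟨R', hR', hle⟩ := Groth.Agent.AlgSpLib.exists_precoverage_of_mem hR
  obtain ⟨hcov, hprop⟩ := hR'
  choose x g hg using fun (m : Σ Z : Scheme.{u}, {f : Z ⟶ (𝒴.p.obj y).left // R' f}) =>
    hlift _ (hle m.2.1 m.2.2)
  have key : ∀ m, ∃ e : StMod.sch 𝒴 (π.obj (x m)) = m.1, StMod.bmap 𝒴 (g m) = eqToHom e ≫ m.2.1 := fun m => by
    haveI := hg m
    have d := IsHomLift.domain_eq 𝒴.p (Over.homMk m.2.1 rfl : Over.mk (m.2.1 ≫ (𝒴.p.obj y).hom) ⟶ 𝒴.p.obj y) (g m)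
    have hf := IsHomLift.fac' 𝒴.p (Over.homMk m.2.1 rfl : Over.mk (m.2.1 ≫ (𝒴.p.obj y).hom) ⟶ 𝒴.p.obj y) (g m)
    refine ⟨congrArg (fun T : Over S => T.left) d, ?_⟩
    show (𝒴.p.map (g m)).left = _
    rw [hf]
    simp
  refine ⟨_, x, g, fun m => ?_, fun m => ?_, fun t => ?_⟩
  · obtain ⟨e, he⟩ := key m
    rw [he]
    haveI := (hprop m.2.2 : Flat m.2.1 ∧ LocallyOfFinitePresentation m.2.1).1
    infer_instance
  · obtain ⟨e, he⟩ := key m
    rw [he]
    haveI := (hprop m.2.2 : Flat m.2.1 ∧ LocallyOfFinitePresentation m.2.1).1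
    haveI := (hprop m.2.2 : Flat m.2.1 ∧ LocallyOfFinitePresentation m.2.1).2
    haveI : Flat (eqToHom e ≫ m.2.1) := inferInstance
    haveI : LocallyOfFinitePresentation (eqToHom e ≫ m.2.1) := inferInstance
    exact Scheme.Hom.isOpenMap _
  · obtain ⟨Z, f, hf, z, rfl⟩ : ∃ (Z : Scheme.{u}) (f : Z ⟶ (𝒴.p.obj y).left), R' f ∧ t ∈ Set.range f := by
      obtain ⟨Z', g', hg', ht⟩ := hcov t
      cases hg' with | of hf => exact ⟨_, _, hf, ht⟩
    obtain ⟨e, he⟩ := key ⟨Z, f, hf⟩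
    refine ⟨⟨Z, f, hf⟩, (eqToHom e.symm : Z ⟶ StMod.sch 𝒴 _) z, ?_⟩
    rw [he, ← Scheme.Hom.comp_apply, eqToHom_trans_assoc, eqToHom_refl, Category.id_comp]; rfl

theorem descend {S : Scheme.{u}} {𝒳 𝒴 : AlgSt.Cat S} (π : 𝒳 ⥤ᵇ 𝒴)
    (h : Gerb.LocSurjObj (QuotSh.J Scheme.fppfPrecoverage S) π) (G : StMod.QCoh 𝒴)
    (P : ∀ X : Scheme.{u}, X.Modules → Prop)
    (hiso : ∀ {X : Scheme.{u}} {M N : X.Modules}, (M ≅ N) → P X M → P X N)
    (hdesc : ∀ {T : Scheme.{u}} {I : Type (u + 1)} {Y : I → Scheme.{u}} (g : ∀ i, Y i ⟶ T) [∀ i, Flat (g i)],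
      (∀ i, IsOpenMap (g i)) → (∀ t : T, ∃ i, t ∈ Set.range (g i)) → ∀ (M : T.Modules) [Coh.IsQCoh M],
      (∀ i, P (Y i) ((Scheme.Modules.pullback (g i)).obj M)) → P T M) :
    (∀ y, P (StMod.sch 𝒴 y) (G.obj.obj y)) ↔
      ∀ x, P (StMod.sch 𝒳 x) (((StMod.comapQ π).obj G).obj.obj x) := by
  refine ⟨fun hG x => (castMod_iff P (StMod.sch_obj_eq π x) _).2 (hG (π.obj x)), fun hG y => ?_⟩
  obtain ⟨I, x, g, hfl, hop, hsur⟩ := exists_cover π h y
  obtain ⟨hcart, hqc⟩ := G.property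
  haveI := hqc y
  haveI := hfl
  refine hdesc (fun i => StMod.bmap 𝒴 (g i)) hop hsur _ fun i => ?_
  haveI := hcart (g i) (g := StMod.bmap 𝒴 (g i)) rfl
  exact hiso (asIso (((Scheme.Modules.pullbackPushforwardAdjunction (StMod.bmap 𝒴 (g i))).homEquiv _ _).symm
    (G.obj.map (g i) rfl))).symm ((castMod_iff P (StMod.sch_obj_eq π (x i)) _).1 (hG (x i)))


open CategoryTheory AlgebraicGeometry in
/-- Second assertion: let π : 𝒳 → 𝒴 be an fppf A-gerbe of algebraic stacks, for a presheaf of groups A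
on schemes over S acting through the inertia of 𝒳, and let G be a quasi-coherent module on 𝒴. Then G
is of finite type if and only if its inverse image along π is; likewise for finite presentation, and
for being locally free of finite type. (The published statement is for all modules on a gerbe over a
locally ringed site and for any property preserved by pullback along morphisms of sites, naming also
quasi-coherence, flatness and local freeness; this row is its quasi-coherent form for the three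
properties named, local freeness being taken together with finite type.) -/
theorem result (S : Scheme.{u}) (𝒳 𝒴 : AlgSt.Cat S) (h𝒳 : AlgSt.IsAlgStack Scheme.fppfPrecoverage 𝒳) (h𝒴 : AlgSt.IsAlgStack Scheme.fppfPrecoverage 𝒴) (A : (Over S)ᵒᵖ ⥤ GrpCat.{u}) (π : 𝒳 ⥤ᵇ 𝒴) (ι : TwSh.BandHom 𝒳 A) (hπ : TwSh.IsBandedGerbe (QuotSh.J Scheme.fppfPrecoverage S) π ι) (G : StMod.QCoh 𝒴) : (G.obj.IsFinType ↔ ((StMod.comapQ π).obj G).obj.IsFinType) ∧ (G.obj.IsFinPres ↔ ((StMod.comapQ π).obj G).obj.IsFinPres) ∧ ((G.obj.IsLocFree ∧ G.obj.IsFinType) ↔ (((StMod.comapQ π).obj G).obj.IsLocFree ∧ ((StMod.comapQ π).obj G).obj.IsFinType)) := by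
  have hs := hπ.1.1
  refine ⟨?_, ?_, ?_⟩
  · refine descend π hs G P1 (fun e hM => (Coherent.isFT_of_epi e.hom hM)) ?_
    intro T I Y g _ hop hcov M _ hM
    exact (StkDesc11.isCoh_of_family g hop hcov M hM).2
  · refine descend π hs G P2 (fun e hM => (FlatMorAssOpen.isFP_of_iso e hM)) ?_
    intro T I Y g _ hop hcov M _ hM
    exact StkDesc11.isFP_of_family g hop hcov M hM
  · refine Iff.trans (Iff.trans forall_and.symm (descend π hs G P3 ?_ ?_)) forall_and
    · intro X M N e hM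
      have h1 := StkDesc11.isFinLocFree_of_isLocallyFree M hM.1 hM.2
      exact ⟨StkDesc11.isLocallyFree_of_isFinLocFree N fun x => by
          obtain ⟨U, n, hx, ⟨a⟩⟩ := h1 x
          exact ⟨U, n, hx, ⟨(Scheme.Modules.restrictFunctor U.ι).mapIso e.symm ≪≫ a⟩⟩,
        Coherent.isFT_of_epi e.hom hM.2⟩
    · intro T I Y g _ hop hcov M _ hM
      have h1 : FlatMod.IsFinLocFree M := StkDesc11.isFinLocFree_of_family g hop hcov M fun i =>
        StkDesc11.isFinLocFree_of_isLocallyFree _ (hM i).1 (hM i).2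
      exact ⟨StkDesc11.isLocallyFree_of_isFinLocFree M h1, StkDesc11.isFiniteType_of_isFinLocFree M h1⟩

end Groth.Agent.S19717
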