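import Groth.Statements.S1972
import Groth.Agent.HenselLib.HullProps

set_option autoImplicit false
universe u
open EtAlg

namespace Groth.Agent.S1972

/-- Let R be a local ring and S a henselization or a strict henselization of R. Then the nilradical of S
is the extension of the nilradical of R. -/
theorem result (R S : Type u) [CommRing R] [IsLocalRing R] [CommRing S] [IsLocalRing S]
    [Algebra R S] [IsLocalHom (algebraMap R S)]
    (h : Hensel.IsHenselization R S ∨ Hensel.IsStrictHenselization R S) :
    (nilradical R).map (algebraMap R S) = nilradical S := by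
  obtain ⟨K, _, _, ⟨e⟩⟩ : ∃ (K : Type u) (_ : CommRing K) (_ : Algebra R K),
      Nonempty (Groth.Agent.HenselLib.Hull R K ≃ₐ[R] S) := by
    rcases h with h | h
    · exact ⟨_, inferInstance, inferInstance, Groth.Agent.HenselLib.exists_equiv_localH S⟩
    · exact ⟨_, inferInstance, inferInstance, Groth.Agent.HenselLib.exists_equiv_localSH S⟩
  rw [← e.toAlgHom.comp_algebraMap, ← Ideal.map_map, Groth.Agent.HenselLib.map_nilradical_hull]
  refine (Ideal.map_comap_of_equiv e.toRingEquiv).trans ?_
  ext x
  rw [Ideal.mem_comap, mem_nilradical, mem_nilradical]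
  exact IsNilpotent.map_iff e.symm.injective

end Groth.Agent.S1972
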