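import Groth.Statements.S19737
import Groth.Agent.PointBlow14.NumClass
import Groth.Agent.PointBlow14.Basic
import Groth.Agent.Resolve13.PointExc
import Groth.Agent.Resolve13.ExcDegree
import Groth.Agent.CurveRR24.AlgClosed
import Groth.Agent.VarietyLib.PullClass
import Groth.Agent.S7325
-- import your own Groth.Agent.* helpers here

set_option autoImplicit false
universe u
open CategoryTheory CategoryTheory.Limits AlgebraicGeometry TopologicalSpace
open Surf

open TopologicalSpace TensorProduct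
open Groth.Agent.Coherent Groth.Agent.PicLib Groth.Agent.AmpleLib Groth.Agent.EulerLib Groth.Agent.DimLib Groth.Agent.Surf15 Groth.Agent.Models7 Groth.Agent.PointBlow14 Groth.Agent.VarietyLib
set_option linter.style.haveILetI false
set_option backward.isDefEq.respectTransparency.types false
set_option maxHeartbeats 1000000

namespace Groth.Agent.S19737

/-- With the preceding proposition: let k be an algebraically closed field of characteristic zero and X
a smooth projective surface over k (integral, proper and smooth over k, of dimension 2, with an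
ample invertible module); the notes work over the complex numbers. Let x be a closed point of X and
π : X′ → X a blowing up of X in the ideal of x (characterised by its universal property), where X′
is again integral of dimension 2 with an ample invertible module and its structure morphism to Spec
k is π followed by that of X, proper and smooth. Fix group laws on the Picard sets of X and X′ such
that pullback along π is multiplicative on classes, and let N¹(−)_ℝ = ℝ ⊗ (Pic modulo numerical
equivalence). If N¹(X)_ℝ is finite-dimensional, then N¹(X′)_ℝ is finite-dimensional and dim_ℝ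
N¹(X′)_ℝ = dim_ℝ N¹(X)_ℝ + 1: the Picard number goes up by one, N¹(X′) being the direct sum of the
pullback of N¹(X) and the class of the exceptional curve. -/
theorem result (k : Type u) [Field k] [IsAlgClosed k] [CharZero k]
    (X : Scheme.{u}) [X.Over (Spec (CommRingCat.of k))] [IsProper (X ↘ (Spec (CommRingCat.of k)))]
    [Smooth (X ↘ (Spec (CommRingCat.of k)))] [AlgebraicGeometry.IsIntegral X] (hdim : topologicalKrullDim X = 2)
    (hproj : ∃ H : X.Modules, CohB1.IsAmple H)
    (x : X) (hx : IsClosed ({x} : Set X))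
    (X' : Scheme.{u}) [X'.Over (Spec (CommRingCat.of k))] (π : X' ⟶ X)
    (hover : X' ↘ (Spec (CommRingCat.of k)) = π ≫ (X ↘ (Spec (CommRingCat.of k))))
    (hπ : BlowUp.IsBlowUp π (Scheme.IdealSheafData.vanishingIdeal ⟨{x}, hx⟩))
    [AlgebraicGeometry.IsIntegral X'] (hdim' : topologicalKrullDim X' = 2) (hproj' : ∃ H' : X'.Modules, CohB1.IsAmple H')
    [IsProper (X' ↘ (Spec (CommRingCat.of k)))] [Smooth (X' ↘ (Spec (CommRingCat.of k)))]
    [PicGrp.Law X] [PicGrp.Law X'] (hπm : PicGrp.PullMul π) [Module.Finite ℝ (NumR.N1R k X)] :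
    Module.Finite ℝ (NumR.N1R k X') ∧
      Module.finrank ℝ (NumR.N1R k X') = Module.finrank ℝ (NumR.N1R k X) + 1 := by
  have hX : topologicalKrullDim X = ((2 : ℕ) : WithBot ℕ∞) := by exact_mod_cast hdim
  have hX' : topologicalKrullDim X' = ((2 : ℕ) : WithBot ℕ∞) := by exact_mod_cast hdim'
  have hreg : ∀ z : X, IsRegularLocalRing (X.presheaf.stalk z) := fun z =>
    Groth.Agent.VarietyLib.isRegularLocalRing_stalk_of_smooth k X (X ↘ Spec (CommRingCat.of k)) z
  have hreg' : ∀ z : X', IsRegularLocalRing (X'.presheaf.stalk z) := fun z =>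
    Groth.Agent.VarietyLib.isRegularLocalRing_stalk_of_smooth k X' (X' ↘ Spec (CommRingCat.of k)) z
  haveI := isNoetherian_of_proper (X := X) k
  haveI := isNoetherian_of_proper (X := X') k
  haveI := hreg x
  obtain ⟨hd, hdimX⟩ := PointBlow14.dim_stalk k (X := X) (fun Z hZ => by
    rw [irreducibleComponents_eq_singleton, Set.mem_singleton_iff] at hZ
    subst hZ
    rw [← hdim]
    exact IsHomeomorph.topologicalKrullDim_eq _ (Homeomorph.Set.univ X).isHomeomorph) x hx
  -- the exceptional curve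
  obtain ⟨E, ι, hιc, hE, hιr, hιy, hker⟩ := Resolve13.exists_excCurve_point x hx hd π hπ
  have hcon : Models.IsContractionOf ι π := ⟨inferInstance,
    BlowUpLib.isProper_of_isBlowUp hπ (FlatMorAdm.isFiniteTypeIdeal_of_noetherian _), x, hx, hιy, inferInstance, hd, hπ⟩
  obtain ⟨-, hdesc⟩ := S7325.result ι hE π hcon
  obtain ⟨hD, k₁, _, e₀, -⟩ := id hE
  have hI : PicF.IsInvertible (ClSub.idealMod ι.ker) := FlatMor12.IdealModGen.isInvertible_idealMod ι.ker hD
  have hdegI := Resolve13.hasDeg_conormal hE e₀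
  obtain ⟨N, ⟨tN⟩⟩ := VarietyLib.exists_isInverseOf hI
  have hN : PicF.IsInvertible N :=
    PicM.isInvertible_of_tensor hI (glocus_isInvertible_of_iso tN.symm isInvertible_structureModule)
  let e : InvCl X' := InvCl.mk _ hI
  let ei : InvCl X' := InvCl.mk N hN
  have hei : e * ei = 1 := by
    rw [InvCl.mk_mul]; exact InvCl.mk_eq _ _ tN
  let p : InvCl X →* InvCl X' := VarietyLib.pullHom π
  -- intersection numbers
  let d : ℤ := (letI := Curv2.resAlgebra k X x; (Module.finrank k (X.residueField x) : ℤ))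
  have hd1 : d = 1 := by
    show ((_ : ℕ) : ℤ) = 1
    exact_mod_cast CurveRR24.finrank_resField k hx
  have hrules : ∀ a b : InvCl X, B k (p a) (p b) = B k a b ∧ B k (p a) e = 0 ∧ B k e e = -1 := by
    intro a b
    obtain ⟨L, hL, rfl⟩ := InvCl.exists_rep a
    obtain ⟨M, hM, rfl⟩ := InvCl.exists_rep b
    obtain ⟨r1, r2, r3⟩ := PointBlow14.intNum_rules k hover.symm hdimX x hx hd hπ hL hM
    have hpL := PicLoc.isInvertible_pullback π hL
    have hpM := PicLoc.isInvertible_pullback π hM
    have hJ : BlowUp.exceptional π (Scheme.IdealSheafData.vanishingIdeal ⟨{x}, hx⟩) = ι.ker := hker.symm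
    rw [hJ] at r2 r3
    rw [intNum_eq_B k hX'.le hpL hpM, intNum_eq_B k hX.le hL hM] at r1
    rw [intNum_eq_B k hX'.le hpL hI] at r2
    rw [intNum_eq_B k hX'.le hI hI] at r3
    refine ⟨?_, ?_, ?_⟩
    · rw [show p (InvCl.mk L hL) = InvCl.mk _ hpL from VarietyLib.pullHom_mk π hL,
        show p (InvCl.mk M hM) = InvCl.mk _ hpM from VarietyLib.pullHom_mk π hM]
      exact r1
    · rw [show p (InvCl.mk L hL) = InvCl.mk _ hpL from VarietyLib.pullHom_mk π hL]
      exact r2
    · rw [r3]; exact congrArg Neg.neg hd1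
  -- decomposition of the Picard group
  have hdec : ∀ a' : InvCl X', ∃ a : InvCl X, ∃ i j : ℕ, p a = a' * e ^ i * ei ^ j := by
    intro a'
    obtain ⟨L, hL, rfl⟩ := InvCl.exists_rep a'
    obtain ⟨l, hl⟩ := P1Deg.exists_hasDeg e₀ (PicLoc.isInvertible_pullback ι hL)
    have hdegN : P1Deg.HasDeg e₀ ((Scheme.Modules.pullback ι).obj N) (-1 : ℤ) := by
      obtain ⟨a⟩ := exists_pullTensorIso ι hI hN
      obtain ⟨b⟩ := exists_pullStructureIso (X := X') ι
      exact P1Deg.HasDeg.inverse e₀ (PicLoc.isInvertible_pullback ι hN) (PicLoc.isInvertible_pullback ι hI)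
        (tensorComm _ _ ≪≫ a.symm ≪≫ (Scheme.Modules.pullback ι).mapIso tN ≪≫ b) hdegI
    let i := (-l).toNat
    let j := l.toNat
    have hIi := isInvertible_tensorPow hI i
    have hNj := isInvertible_tensorPow hN j
    have hLI := isInvertible_tensorMod hL hIi
    have hF := isInvertible_tensorMod hLI hNj
    have hdeg0 : P1Deg.HasDeg e₀ ((Scheme.Modules.pullback ι).obj
        (CohB1.tensorMod (CohB1.tensorMod L (CohB1.tensorPow (ClSub.idealMod ι.ker) i)) (CohB1.tensorPow N j))) 0 := by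
      obtain ⟨a1⟩ := exists_pullTensorIso ι hLI hNj
      obtain ⟨a2⟩ := exists_pullTensorIso ι hL hIi
      obtain ⟨b1, -⟩ := exists_pullPowIso ι hI i
      obtain ⟨b2, -⟩ := exists_pullPowIso ι hN j
      have h1 := (hl.tensor e₀ (PicLoc.isInvertible_pullback ι hL) (PicLoc.isInvertible_pullback ι hIi)
        ((hdegI.pow e₀ (PicLoc.isInvertible_pullback ι hI) i).of_iso e₀ b1.symm)).of_iso e₀ a2.symm
      have h2 := (h1.tensor e₀ (PicLoc.isInvertible_pullback ι hLI) (PicLoc.isInvertible_pullback ι hNj)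
        ((hdegN.pow e₀ (PicLoc.isInvertible_pullback ι hN) j).of_iso e₀ b2.symm)).of_iso e₀ a1.symm
      rwa [show l + i * (1 : ℤ) + j * (-1 : ℤ) = 0 by omega] at h2
    obtain ⟨θ⟩ := hdeg0.iso_pullback e₀
    obtain ⟨ψ⟩ := SplitP1.nonempty_twist_zero k₁
    obtain ⟨θ₀⟩ := exists_pullStructureIso (X := CohB1.ProjSpace 1 k₁) e₀.inv
    obtain ⟨L', hL', ⟨φ⟩⟩ := (hdesc _ hF).2 ⟨θ.symm ≪≫ (Scheme.Modules.pullback e₀.inv).mapIso ψ ≪≫ θ₀⟩
    refine ⟨InvCl.mk L' hL', i, j, ?_⟩
    rw [← InvCl.mk_tensorPow hI, ← InvCl.mk_tensorPow hN, InvCl.mk_mul, InvCl.mk_mul]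
    exact (VarietyLib.pullHom_mk π hL').trans (InvCl.mk_eq _ _ φ)
  have hBe : ∀ a : InvCl X, B k (p a) e = 0 := fun a => (hrules a 1).2.1
  have hBee : B k e e = -1 := (hrules 1 1).2.2
  -- pullback on numerical classes
  have hpz : ∀ a : InvCl X, cZ k a = 0 → cZ k (p a) = 0 := by
    intro a ha
    refine cZ_eq_zero k hX' hreg' fun b' => ?_
    obtain ⟨b, i, j, hb⟩ := hdec b'
    have h1 : B k (p a) (p b) = 0 := by rw [(hrules a b).1]; exact B_eq_zero_of_cZ k hX.le ha b
    rw [hb, B_mul_right k hX'.le, B_mul_right k hX'.le, B_pow_right k hX'.le, B_pow_right k hX'.le,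
      B_inv_right k hX'.le hei, hBe] at h1
    simpa using h1
  let φ : PicLoc.PicSet X →* PicGrp.modCl (Y := X') (Pic13.IsNumEquivZero k X') :=
    MonoidHom.mk' (fun c => Additive.toMul (cZ k (p (toInv c)))) fun c c' => by
      rw [toInv_mul, map_mul, cZ_mul]; rfl
  have hφ : PicGrp.subCl (Y := X) (Pic13.IsNumEquivZero k X) ≤ φ.ker := (Subgroup.closure_le _).2 (by
    rintro c ⟨M, hM, hP, rfl⟩
    show Additive.toMul (cZ k (p (toInv (PicGrp.cls M hM)))) = 1
    rw [toInv_cls, hpz _ ((cZ_mk k hM).trans (NumR.cl_eq_zero hM hP))]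
    rfl)
  let pb : NumR.N1 k X →+ NumR.N1 k X' := MonoidHom.toAdditive (QuotientGroup.lift _ φ hφ)
  have hpb : ∀ a, pb (cZ k a) = cZ k (p a) := by
    intro a
    obtain ⟨L, hL, rfl⟩ := InvCl.exists_rep a
    show cZ k (p (toInv (PicGrp.cls L hL))) = _
    rw [toInv_cls]
  let Φ : NumR.N1 k X × ℤ →+ NumR.N1 k X' := pb.coprod (zmultiplesHom _ (cZ k e))
  have hΦ : ∀ a m, Φ (cZ k a, m) = cZ k (p a) + m • cZ k e := by
    intro a m
    simp [Φ, hpb]
  have hbij : Function.Bijective Φ := by
    constructor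
    · refine (injective_iff_map_eq_zero Φ).2 ?_
      rintro ⟨y, m⟩ h
      obtain ⟨a, rfl⟩ := cZ_surjective k y
      rw [hΦ] at h
      have hc : cZ k (p a * e ^ m.toNat * ei ^ (-m).toNat) = 0 := by
        rw [cZ_mul, cZ_mul, cZ_pow, cZ_pow, cZ_inv k hei, smul_neg, add_assoc, ← sub_eq_add_neg, ← sub_smul,
          Int.toNat_sub_toNat_neg]
        exact h
      have hm : m = 0 := by
        have h1 := B_eq_zero_of_cZ k hX'.le hc e
        rw [B_mul_left k hX'.le, B_mul_left k hX'.le, B_pow_left k hX'.le, B_pow_left k hX'.le,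
          B_inv_left k hX'.le hei, hBe, hBee] at h1
        omega
      subst hm
      rw [zero_smul, add_zero] at h
      have ha : cZ k a = 0 := cZ_eq_zero k hX hreg fun b => by
        rw [← (hrules a b).1]; exact B_eq_zero_of_cZ k hX'.le h _
      rw [ha]; rfl
    · intro y'
      obtain ⟨a', rfl⟩ := cZ_surjective k y'
      obtain ⟨a, i, j, ha⟩ := hdec a'
      refine ⟨(cZ k a, (j : ℤ) - i), ?_⟩
      rw [hΦ, ha, cZ_mul, cZ_mul, cZ_pow, cZ_pow, cZ_inv k hei, smul_neg, sub_smul]
      abel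
  let Φl : (NumR.N1 k X × ℤ) ≃ₗ[ℤ] NumR.N1 k X' := (AddEquiv.ofBijective Φ hbij).toIntLinearEquiv
  let Ψ : NumR.N1R k X' ≃ₗ[ℝ] NumR.N1R k X × ℝ :=
    (TensorProduct.AlgebraTensorModule.congr (LinearEquiv.refl ℝ ℝ) Φl.symm).trans
      ((TensorProduct.prodRight ℤ ℝ ℝ (NumR.N1 k X) ℤ).trans
        ((LinearEquiv.refl ℝ (NumR.N1R k X)).prodCongr (TensorProduct.AlgebraTensorModule.rid ℤ ℝ ℝ)))
  exact ⟨Module.Finite.equiv Ψ.symm, by rw [Ψ.finrank_eq, Module.finrank_prod, Module.finrank_self]⟩

end Groth.Agent.S19737
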