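import Groth.Statements.S19741
import Mathlib.RingTheory.AlgebraicIndependent.TranscendenceBasis
import Mathlib.FieldTheory.IntermediateField.Adjoin.Basic
open CategoryTheory CategoryTheory.Limits AlgebraicGeometry

set_option autoImplicit false
universe w u
open EssDim

namespace Groth.Agent.S19741

/-- The compositum with the ground field has smaller transcendence degree. -/
theorem trdeg_adjoin_le {k K L : Type u} [Field k] [Field K] [Field L] [Algebra k K] [Algebra k L] [Algebra K L]
    [IsScalarTower k K L] (K₀ : IntermediateField k L) :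
    Algebra.trdeg K (IntermediateField.adjoin K (K₀ : Set L)) ≤ Algebra.trdeg k K₀ := by
  obtain ⟨s₀, hs₀⟩ := exists_isTranscendenceBasis k K₀
  rw [← hs₀.cardinalMk_eq_trdeg]
  let K₁ := IntermediateField.adjoin K (K₀ : Set L)
  let ι : K₀ →ₐ[k] K₁ :=
    { toFun := fun x => ⟨x.1, IntermediateField.subset_adjoin K _ x.2⟩
      map_one' := rfl, map_mul' := fun _ _ => rfl, map_zero' := rfl, map_add' := fun _ _ => rfl
      commutes' := fun r => Subtype.ext (show algebraMap k L r = algebraMap k L r from rfl) }
  have hι : Function.Injective ι := fun x y h => Subtype.ext (congrArg Subtype.val h :)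
  let A := Algebra.adjoin K (ι '' s₀)
  have hmap : ∀ a ∈ Algebra.adjoin k (Set.range ((↑) : s₀ → K₀)), ι a ∈ A := by
    intro a ha
    have : Algebra.adjoin k (Set.range ((↑) : s₀ → K₀)) ≤ (A.restrictScalars k).comap ι :=
      Algebra.adjoin_le fun x hx => by
        obtain ⟨y, rfl⟩ := hx
        exact Algebra.subset_adjoin ⟨y.1, y.2, rfl⟩
    exact this ha
  let f : Algebra.adjoin k (Set.range ((↑) : s₀ → K₀)) →+* A :=
    RingHom.codRestrict ((ι : K₀ →+* K₁).comp (Subalgebra.val _).toRingHom) A fun a => hmap a.1 a.2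
  have hf : Function.Injective f := fun a b h => Subtype.ext (hι (congrArg Subtype.val h :))
  have halg : Algebra.IsAlgebraic A K₁ := ⟨fun y => by
    obtain ⟨y, hy⟩ := y
    induction hy using IntermediateField.adjoin_induction with
    | mem x hx =>
      exact (hs₀.isAlgebraic.isAlgebraic (⟨x, hx⟩ : K₀)).ringHom_of_comp_eq f (ι : K₀ →+* K₁) hf rfl
    | algebraMap a => exact isAlgebraic_algebraMap (⟨algebraMap K K₁ a, A.algebraMap_mem a⟩ : A)
    | add x y hx hy h1 h2 => exact h1.add h2
    | inv x hx h1 => exact h1.inv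
    | mul x y hx hy h1 h2 => exact h1.mul h2⟩
  exact (Algebra.IsAlgebraic.trdeg_le_cardinalMk K (ι '' s₀)).trans Cardinal.mk_image_le


open CategoryTheory AlgebraicGeometry in
/-- For a field extension `K` of `k` and a presheaf of sets `P` on schemes over `k`, restrict `P` to
schemes over `K` by viewing a scheme over `Spec K` as a scheme over `Spec k`; then the essential
dimension over `K` of the restricted presheaf is at most the essential dimension of `P` over `k`.
(The source states this for an algebraic stack over `k` and its base change to `K`, through the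
presheaf of isomorphism classes of objects, whose restriction to schemes over `K` is the presheaf of
classes of the base-changed stack; the inequality is stated here for an arbitrary presheaf, which is
what the argument with composita of fields of definition gives.) -/
theorem result (k : Type u) [Field k] (K : Type u) [Field K] [Algebra k K]
    (P : (Over (Spec (CommRingCat.of k)))ᵒᵖ ⥤ Type w) :
    EssDim.ed (k := K) ((Over.map (Spec.map (CommRingCat.ofHom (algebraMap k K)))).op ⋙ P) ≤ EssDim.ed P := by
  refine iSup_le fun L => iSup_le fun hL => iSup_le fun hKL => iSup_le fun ξ => ?_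
  letI : Algebra k L := ((algebraMap K L).comp (algebraMap k K)).toAlgebra
  haveI : IsScalarTower k K L := IsScalarTower.of_algebraMap_eq' rfl
  have hcomp : ∀ (M : Type u) [Field M] [Algebra K M] [Algebra k M] [IsScalarTower k K M],
      Spec.map (CommRingCat.ofHom (algebraMap K M)) ≫ Spec.map (CommRingCat.ofHom (algebraMap k K)) =
        Spec.map (CommRingCat.ofHom (algebraMap k M)) := fun M _ _ _ _ => by
    rw [← Spec.map_comp, ← CommRingCat.ofHom_comp, ← IsScalarTower.algebraMap_eq]
  let ι := (Over.map (Spec.map (CommRingCat.ofHom (algebraMap k K))))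
  let c : SGA7.pt (K := k) L ⟶ ι.obj (SGA7.pt (K := K) L) :=
    Over.homMk (𝟙 (Spec (CommRingCat.of L))) ((Category.id_comp _).trans (hcomp L))
  let c' : ι.obj (SGA7.pt (K := K) L) ⟶ SGA7.pt (K := k) L :=
    Over.homMk (𝟙 (Spec (CommRingCat.of L))) ((Category.id_comp _).trans (hcomp L).symm)
  refine le_trans ?_ (EssDim.edAt_le_ed (L := L) (P.map c.op ξ))
  refine WithBot.coe_le_coe.2 (le_iInf fun K₀ => ?_)
  obtain ⟨K₀, ξ₀, h₀⟩ := K₀
  refine le_trans ?_ (OrderHomClass.mono Cardinal.toENat (trdeg_adjoin_le (K := K) K₀))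
  refine EssDim.edAt_le_of_descends ?_
  let K₁ := IntermediateField.adjoin K (K₀ : Set L)
  let i : K₀ →+* K₁ :=
    { toFun := fun x => ⟨x.1, IntermediateField.subset_adjoin K _ x.2⟩
      map_one' := rfl, map_mul' := fun _ _ => rfl, map_zero' := rfl, map_add' := fun _ _ => rfl }
  have hi : i.comp (algebraMap k K₀) = (algebraMap K K₁).comp (algebraMap k K) :=
    RingHom.ext fun r => Subtype.ext (show algebraMap k L r = algebraMap K L (algebraMap k K r) from rfl)
  let q : ι.obj (SGA7.pt (K := K) K₁) ⟶ SGA7.pt (K := k) K₀ :=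
    Over.homMk (Spec.map (CommRingCat.ofHom i)) (by
      show Spec.map _ ≫ Spec.map _ = Spec.map _ ≫ Spec.map _
      rw [← Spec.map_comp, ← Spec.map_comp, ← CommRingCat.ofHom_comp, ← CommRingCat.ofHom_comp, hi])
  refine ⟨P.map q.op ξ₀, ?_⟩
  have h1 : ι.map (EssDim.resPt (k := K) K₁.val) ≫ q = c' ≫ EssDim.resPt (k := k) K₀.val := by
    refine Over.OverMorphism.ext ?_
    show Spec.map _ ≫ Spec.map _ = 𝟙 _ ≫ Spec.map _
    rw [Category.id_comp, ← Spec.map_comp, ← CommRingCat.ofHom_comp]
    rfl
  show (P.map q.op ≫ P.map (ι.map (EssDim.resPt (k := K) K₁.val)).op) ξ₀ = ξ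
  rw [← P.map_comp, ← op_comp, h1, op_comp, P.map_comp]
  show P.map c'.op (P.map (EssDim.resPt (k := k) K₀.val).op ξ₀) = ξ
  rw [show P.map (EssDim.resPt (k := k) K₀.val).op ξ₀ = P.map c.op ξ from h₀]
  show (P.map c.op ≫ P.map c'.op) ξ = ξ
  rw [← P.map_comp, ← op_comp, show c' ≫ c = 𝟙 _ from Over.OverMorphism.ext (Category.id_comp _), op_id, P.map_id]
  rfl

end Groth.Agent.S19741
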