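import Groth.Statements.S19744
import Groth.Agent.EssDimLib27.QuotBG
-- import your own Groth.Agent.* helpers here

set_option autoImplicit false
set_option linter.style.haveILetI false
set_option backward.isDefEq.respectTransparency.types false
universe u
open EssDim

namespace Groth.Agent.S19744

open CategoryTheory AlgebraicGeometry in
open CategoryTheory CategoryTheory.Limits MonObj AlgebraicGeometry in
open Groth.Agent in
/-- Let `G` be an affine group scheme of finite type over a field `k` acting on a scheme `X` locally of
finite type over `k`. Then the essential dimension over `k` of the quotient stack `[X/G]` (torsors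
for the fppf topology with an equivariant morphism to `X`) is at most the essential dimension of the
classifying stack of `G` plus the dimension of `X`. (The source writes this as `ed G ≥ ed [X/G] -
dim X`, for any algebraic group `G` over `k`, and allows `X` to be an algebraic space; here `G` is
affine, so that the essential dimension of `G` is that of the stack of its torsors which are
schemes, `X` is a scheme, the inequality is written additively, and the dimension is the Krull
dimension of the underlying space of `X`, minus infinity for empty `X`.) -/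
theorem result (k : Type u) [Field k]
    (G X : Over (Spec (CommRingCat.of k))) [GrpObj G] [IsAffineHom G.hom] [LocallyOfFiniteType G.hom]
    (aX : AlgGrp.Action G X) [LocallyOfFiniteType X.hom]
    [FibCat.IsFibGrpd (AlgSt.QuotSt Scheme.fppfPrecoverage G aX).p]
    [FibCat.IsFibGrpd (AlgSt.BG Scheme.fppfPrecoverage G).p] :
    EssDim.edSt (AlgSt.QuotSt Scheme.fppfPrecoverage G aX) ≤
      EssDim.edSt (AlgSt.BG Scheme.fppfPrecoverage G) + (topologicalKrullDim (X.left : Type u) : WithBot ℕ∞) := by
  refine iSup_le fun L => iSup_le fun _ => iSup_le fun _ => iSup_le fun ξ => ?_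
  obtain ⟨x, rfl⟩ := Quot.exists_rep ξ
  let y : StkCnt.pts (AlgSt.BG Scheme.fppfPrecoverage G) L := ⟨Groth.Agent.EssDimLib27.toBGObj x.1, x.2⟩
  haveI : Nonempty {K : IntermediateField k L // EssDim.Descends (Gerb.isoClPsh (AlgSt.BG Scheme.fppfPrecoverage G))
      (Quot.mk (Gerb.IsoRel (AlgSt.BG Scheme.fppfPrecoverage G) (SGA7.pt (K := k) L)) y) K} :=
    ⟨⟨⊤, EssDim.descends_top _⟩⟩
  obtain ⟨⟨K, hK⟩, hKe⟩ := ciInf_mem (fun K' : {K : IntermediateField k L //
      EssDim.Descends (Gerb.isoClPsh (AlgSt.BG Scheme.fppfPrecoverage G))
        (Quot.mk (Gerb.IsoRel (AlgSt.BG Scheme.fppfPrecoverage G) (SGA7.pt (K := k) L)) y) K} =>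
        Cardinal.toENat (Algebra.trdeg k K'.1))
  have he : EssDim.edStAt (AlgSt.BG Scheme.fppfPrecoverage G) y = Cardinal.toENat (Algebra.trdeg k K) := hKe.symm
  obtain ⟨y₀, φ, hφ⟩ := (EssDim.descends_isoCl_iff _ y K).1 hK
  obtain ⟨M, x₀, χ, hχ, hb⟩ := Groth.Agent.EssDimLib27.exists_small_field x y₀ φ hφ
  refine le_trans (WithBot.coe_le_coe.2 (EssDim.edAt_le_of_descends
    ((EssDim.descends_isoCl_iff _ x M).2 ⟨x₀, χ, hχ⟩))) (hb.trans ?_)
  rw [← he]
  exact add_le_add (EssDim.edAt_le_ed _) le_rfl

end Groth.Agent.S19744
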