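import Groth.Statements.S19746
import Groth.Agent.EssDimConic.Descent
-- import your own Groth.Agent.* helpers here

set_option autoImplicit false
universe u
open EssDim

namespace Groth.Agent.S19746

open CategoryTheory AlgebraicGeometry in
/-- Over a field `k` of characteristic zero the stack of smooth curves of genus `0` (no marked points)
has an object over some field, and its essential dimension over `k` is at most `2`: every smooth
proper geometrically irreducible curve of genus `0` over a field `L ⊇ k` is obtained by base change
from a curve over a subfield of `L` of transcendence degree at most `2` over `k`. (The source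
asserts that this essential dimension equals `2`; the reverse inequality is only indicated there,
and this row states non-emptiness and the upper bound.) -/
theorem result (k : Type u) [Field k] [CharZero k]
    [FibCat.IsFibGrpd (CurvSt.Mgn (Spec (CommRingCat.of k)) 0 0).p] :
    EssDim.edSt (CurvSt.Mgn (Spec (CommRingCat.of k)) 0 0) ≠ ⊥ ∧
      EssDim.edSt (CurvSt.Mgn (Spec (CommRingCat.of k)) 0 0) ≤ ((2 : ℕ) : WithBot ℕ∞) := by
  exact Groth.Agent.EssDimConic.edSt_le_two

end Groth.Agent.S19746
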