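import Groth.Statements.S19748
import Groth.Agent.SegreOne.Pieces

set_option autoImplicit false
universe u
open scoped TensorProduct
open GrSegre

namespace Groth.Agent.S19748

/-- Let R and S be graded rings defined over a field k with Segre product T = R # S, M a graded R-module
and N a graded S-module. Suppose that multiplication by some homogeneous element f ∈ R_d of positive
degree d is bijective on M and multiplication by some homogeneous g ∈ S_e of positive degree e is
bijective on N. Then multiplication by some homogeneous element of T of positive degree is bijective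
on M # N. Here a graded ring defined over k is a commutative k-algebra of finite type, graded in
nonnegative degrees by k-subspaces with degree-zero part k·1; the Segre product T = R # S = ⊕_n R_n
⊗_k S_n is presented abstractly as a graded k-algebra T with an injective k-algebra homomorphism ψ :
T → R ⊗_k S carrying T_n onto the k-span of the elementary tensors a ⊗ b with a ∈ R_n, b ∈ S_n; the
Segre product M # N = ⊕_n M_n ⊗_k N_n of a graded R-module M and a graded S-module N is presented
abstractly as a graded T-module P with an injective k-linear map φ : P → M ⊗_k N carrying P_n onto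
the k-span of the tensors x ⊗ y with x ∈ M_n, y ∈ N_n and turning the action of t ∈ T into that of
ψ(t) (acting factorwise on M ⊗_k N). -/
theorem result (k : Type u) [Field k] (R : Type u) [CommRing R] [Algebra k R] (𝒜 : ℤ → Submodule k R) [GradedAlgebra 𝒜] (hposR : ∀ n : ℤ, n < 0 → 𝒜 n = ⊥) (h0R : 𝒜 0 = Submodule.span k {(1 : R)}) [Algebra.FiniteType k R] (S : Type u) [CommRing S] [Algebra k S] (ℬ : ℤ → Submodule k S) [GradedAlgebra ℬ] (hposS : ∀ n : ℤ, n < 0 → ℬ n = ⊥) (h0S : ℬ 0 = Submodule.span k {(1 : S)}) [Algebra.FiniteType k S] (T : Type u) [CommRing T] [Algebra k T] (𝒯 : ℤ → Submodule k T) [GradedAlgebra 𝒯] (ψ : T →ₐ[k] TensorProduct k R S) (hT : GrSeg.IsSegreRing 𝒜 ℬ 𝒯 ψ) (M : Type u) [AddCommGroup M] [Module R M] [Module k M] [IsScalarTower k R M] (ℳ : ℤ → AddSubgroup M) [DirectSum.Decomposition ℳ] [SetLike.GradedSMul 𝒜 ℳ] (N : Type u) [AddCommGroup N] [Module S N] [Module k N] [IsScalarTower k S N] (𝒩 : ℤ → AddSubgroup N) [DirectSum.Decomposition 𝒩] [SetLike.GradedSMul ℬ 𝒩] (P :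 Type u) [AddCommGroup P] [Module T P] [Module k P] [IsScalarTower k T P] (𝒬 : ℤ → AddSubgroup P) [DirectSum.Decomposition 𝒬] (φ : P →ₗ[k] TensorProduct k M N) (hP : GrSeg.IsSegreMod ψ ℳ 𝒩 𝒬 φ) (d : ℕ) (hd : 0 < d) (f : R) (hf : f ∈ 𝒜 (d : ℤ)) (hfM : Function.Bijective (fun x : M => f • x)) (e : ℕ) (he : 0 < e) (g : S) (hg : g ∈ ℬ (e : ℤ)) (hgN : Function.Bijective (fun y : N => g • y)) : ∃ (c : ℤ) (t : T), 0 < c ∧ t ∈ 𝒯 c ∧ Function.Bijective (fun p : P => t • p) := by
  obtain ⟨t, ht, htψ⟩ := SegreOne.exists_lift 𝒜 ℬ 𝒯 ψ hT.2 (n := ((d * e : ℕ) : ℤ))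
    (r := f ^ e) (s := g ^ d)
    (by
      have := SetLike.pow_mem_graded (A := 𝒜) e hf
      rw [nsmul_eq_mul, mul_comm] at this
      simpa using this)
    (by
      have := SetLike.pow_mem_graded (A := ℬ) d hg
      simpa [nsmul_eq_mul] using this)
  have hM : Function.Bijective (fun x : M => f ^ e • x) := by
    rw [← smul_iterate]; exact hfM.iterate e
  have hN : Function.Bijective (fun y : N => g ^ d • y) := by
    rw [← smul_iterate]; exact hgN.iterate d
  refine ⟨((d * e : ℕ) : ℤ), t, by exact_mod_cast Nat.mul_pos hd he, ht, fun p p' h => hP.injective ?_, fun q => ?_⟩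
  · have heq : GrSeg.act k R S M N ((f ^ e) ⊗ₜ[k] (g ^ d)) =
        TensorProduct.map (Algebra.lsmul k k M (f ^ e)) (Algebra.lsmul k k N (g ^ d)) :=
      TensorProduct.ext' fun a b => by rw [GrSeg.act_tmul, TensorProduct.map_tmul]; rfl
    have h' := congrArg φ h
    simp only [hP.map_smul, htψ, heq] at h'
    rw [← LinearMap.rTensor_comp_lTensor, LinearMap.comp_apply, LinearMap.comp_apply] at h'
    exact Module.Flat.lTensor_preserves_injective_linearMap _ hN.1
      (Module.Flat.rTensor_preserves_injective_linearMap _ hM.1 h')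
  · induction q using GrLib.induction 𝒬 with
    | zero => exact ⟨0, smul_zero _⟩
    | add a b ha hb =>
      obtain ⟨a', rfl⟩ := ha
      obtain ⟨b', rfl⟩ := hb
      exact ⟨a' + b', smul_add _ _ _⟩
    | hom n q hq =>
      suffices h : φ q ∈ (GrSeg.segrePiece k ℳ 𝒩 (n - ((d * e : ℕ) : ℤ))).map
          (GrSeg.act k R S M N ((f ^ e) ⊗ₜ[k] (g ^ d))) by
        obtain ⟨w, hw, hwq⟩ := h
        obtain ⟨p, -, rfl⟩ := (hP.image_piece _).superset hw
        exact ⟨p, hP.injective (by rw [hP.map_smul, htψ, hwq])⟩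
      refine Submodule.span_le.mpr ?_ ((hP.image_piece n).subset ⟨q, hq, rfl⟩)
      rintro _ ⟨x, hx, y, hy, rfl⟩
      obtain ⟨x', hx'⟩ := hM.2 x
      obtain ⟨y', hy'⟩ := hN.2 y
      refine ⟨_ ⊗ₜ[k] _, Submodule.subset_span ⟨_, GrLib.proj_mem ℳ (n - ((d * e : ℕ) : ℤ)) x', _,
        GrLib.proj_mem 𝒩 (n - ((d * e : ℕ) : ℤ)) y', rfl⟩, ?_⟩
      have hfe : f ^ e ∈ 𝒜 ((d * e : ℕ) : ℤ) := by
        have := SetLike.pow_mem_graded (A := 𝒜) e hf
        rw [nsmul_eq_mul, mul_comm] at this
        simpa using this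
      have hge : g ^ d ∈ ℬ ((d * e : ℕ) : ℤ) := by
        have := SetLike.pow_mem_graded (A := ℬ) d hg
        simpa [nsmul_eq_mul] using this
      rw [GrSeg.act_tmul, ← GrLib.proj_smul' hfe, ← GrLib.proj_smul' hge]
      dsimp only at hx' hy'
      rw [hx', hy', GrLib.proj_of_mem hx, GrLib.proj_of_mem hy]
end Groth.Agent.S19748
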