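import Groth.Statements.S19749
import Groth.Agent.SegreOne.Pieces

set_option autoImplicit false
universe u
open scoped TensorProduct
open GrSegre

namespace Groth.Agent.S19749

/-- Let R and S be graded rings defined over a field k, both generated over k by their degree-one parts
and of positive Krull dimension, T = R # S, M a graded R-module and N a graded S-module, n an
integer with N_m ≠ 0 for every m ≥ n, and x ∈ M_n, y ∈ N_n. If x # y generates M # N as a T-module,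
then R_d x = M_{n+d} for every d ≥ 0 (every element of M_{n+d} is r x for some r ∈ R_d). Here a
graded ring defined over k is a commutative k-algebra of finite type, graded in nonnegative degrees
by k-subspaces with degree-zero part k·1; the Segre product T = R # S = ⊕_n R_n ⊗_k S_n is presented
abstractly as a graded k-algebra T with an injective k-algebra homomorphism ψ : T → R ⊗_k S carrying
T_n onto the k-span of the elementary tensors a ⊗ b with a ∈ R_n, b ∈ S_n; the Segre product M # N =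
⊕_n M_n ⊗_k N_n of a graded R-module M and a graded S-module N is presented abstractly as a graded
T-module P with an injective k-linear map φ : P → M ⊗_k N carrying P_n onto the k-span of the
tensors x ⊗ y with x ∈ M_n, y ∈ N_n and turning the action of t ∈ T into that of ψ(t) (acting
factorwise on M ⊗_k N), and x # y is the element of P mapped to x ⊗ y. -/
theorem result (k : Type u) [Field k] (R : Type u) [CommRing R] [Algebra k R] (𝒜 : ℤ → Submodule k R) [GradedAlgebra 𝒜] (hposR : ∀ n : ℤ, n < 0 → 𝒜 n = ⊥) (h0R : 𝒜 0 = Submodule.span k {(1 : R)}) [Algebra.FiniteType k R] (S : Type u) [CommRing S] [Algebra k S] (ℬ : ℤ → Submodule k S) [GradedAlgebra ℬ] (hposS : ∀ n : ℤ, n < 0 → ℬ n = ⊥) (h0S : ℬ 0 = Submodule.span k {(1 : S)}) [Algebra.FiniteType k S] (T : Type u) [CommRing T] [Algebra k T] (𝒯 : ℤ → Submodule k T) [GradedAlgebra 𝒯] (ψ : T →ₐ[k] TensorProduct k R S) (hT : GrSeg.IsSegreRing 𝒜 ℬ 𝒯 ψ) (hstdR : Ideal.span (⋃ n ∈ Set.Ioi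 (0 : ℤ), (𝒜 n : Set R)) = Ideal.span ((𝒜 1 : Submodule k R) : Set R)) (hstdS : Ideal.span (⋃ n ∈ Set.Ioi (0 : ℤ), (ℬ n : Set S)) = Ideal.span ((ℬ 1 : Submodule k S) : Set S)) (hr1 : 1 ≤ ringKrullDim R) (hs1 : 1 ≤ ringKrullDim S) (M : Type u) [AddCommGroup M] [Module R M] [Module k M] [IsScalarTower k R M] (ℳ : ℤ → AddSubgroup M) [DirectSum.Decomposition ℳ] [SetLike.GradedSMul 𝒜 ℳ] (N : Type u) [AddCommGroup N] [Module S N] [Module k N] [IsScalarTower k S N] (𝒩 : ℤ → AddSubgroup N) [DirectSum.Decomposition 𝒩] [SetLike.GradedSMul ℬ 𝒩] (P : Type u) [AddCommGroup P] [Module T P] [Module k P] [IsScalarTower k T P] (𝒬 : ℤ → AddSubgroup P) [DirectSum.Decomposition 𝒬] (φ : P →ₗ[k] TensorProduct k M N) (hP : GrSeg.IsSegreMod ψ ℳ 𝒩 𝒬 φ) (n : ℤ) (hNn : ∀ m : ℤ, n ≤ m → 𝒩 m ≠ ⊥) (x : M) (hx : x ∈ ℳ n) (y : N) (hy : y ∈ 𝒩 n) (p : P) (hp : φ p = x ⊗ₜ[k] y) (hgen : Submodule.span T {p} = ⊤) (d : ℤ) (hd : 0 ≤ d) (z : M) (hz : z ∈ ℳ (n + d)) : ∃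 r ∈ 𝒜 d, r • x = z := by
  classical
  haveI := SegreOne.gradedSMul' 𝒜 ℬ 𝒯 ψ hT.2 ℳ 𝒩 𝒬 φ hP.injective hP.image_piece hP.map_smul
  obtain ⟨w, hw, hw0⟩ : ∃ w ∈ 𝒩 (n + d), w ≠ 0 := by
    by_contra h
    refine hNn (n + d) (by omega) ((AddSubgroup.eq_bot_iff_forall _).mpr fun w hw => ?_)
    by_contra hne
    exact h ⟨w, hw, hne⟩
  obtain ⟨q, hq, hqφ⟩ := (hP.image_piece (n + d)).superset (Submodule.subset_span ⟨z, hz, w, hw, rfl⟩)
  obtain ⟨p', hp', hp'φ⟩ := (hP.image_piece n).superset (Submodule.subset_span ⟨x, hx, y, hy, rfl⟩)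
  rw [← hp] at hp'φ
  obtain rfl := hP.injective hp'φ
  obtain ⟨t, ht⟩ := Submodule.mem_span_singleton.mp (show q ∈ Submodule.span T {p'} from hgen ▸ trivial)
  have hproj := congrArg (GrLib.proj 𝒬 (n + d)) ht
  rw [GrLib.proj_of_mem hq, SegreOne.proj_smul_of_mem 𝒯 𝒬 hp', add_sub_cancel_left] at hproj
  have hφ' := congrArg φ hproj
  rw [hP.map_smul, hp, hqφ] at hφ'
  have hmem : ψ (DirectSum.decompose 𝒯 t d : T) ∈ GrSeg.segrePiece k 𝒜 ℬ d := by
    rw [← hT.2]; exact ⟨_, (DirectSum.decompose 𝒯 t d).2, rfl⟩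
  obtain ⟨g₀, hg₀⟩ := Module.Projective.exists_dual_ne_zero k hw0
  let g : N →ₗ[k] k := (g₀ w)⁻¹ • g₀
  let G : M ⊗[k] N →ₗ[k] M := (TensorProduct.rid k M).toLinearMap.comp (g.lTensor M)
  have hG : ∀ (a : M) (c : N), G (a ⊗ₜ[k] c) = g c • a := fun a c => by simp [G]
  suffices h : G (GrSeg.act k R S M N (ψ (DirectSum.decompose 𝒯 t d : T)) (x ⊗ₜ[k] y)) ∈
      (𝒜 d).map (((LinearMap.id : R →ₗ[R] R).smulRight x).restrictScalars k) by
    obtain ⟨r, hr, hrz⟩ := h
    refine ⟨r, hr, ?_⟩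
    rw [hφ', hG] at hrz
    have : g w = 1 := by simp [g, hg₀]
    rw [this, one_smul] at hrz
    simpa using hrz
  refine Submodule.span_induction (p := fun ξ _ => G (GrSeg.act k R S M N ξ (x ⊗ₜ[k] y)) ∈
      (𝒜 d).map (((LinearMap.id : R →ₗ[R] R).smulRight x).restrictScalars k)) ?_
    (by simp) (fun a b _ _ ha hb => by rw [map_add, LinearMap.add_apply, map_add]; exact add_mem ha hb)
    (fun c a _ ha => by rw [map_smul, LinearMap.smul_apply, map_smul]; exact Submodule.smul_mem _ c ha) hmem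
  rintro _ ⟨r, hr, s, hs, rfl⟩
  refine ⟨g (s • y) • r, Submodule.smul_mem _ _ hr, ?_⟩
  rw [GrSeg.act_tmul, hG]
  simp
end Groth.Agent.S19749
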