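import Groth.Statements.S19750
import Groth.Agent.SegreOne.Pieces

set_option autoImplicit false
universe u
open scoped TensorProduct
open GrSegre

namespace Groth.Agent.S19750

/-- Let R and S be graded rings defined over a field k, both generated over k by their degree-one parts
and of positive Krull dimension, T = R # S with irrelevant ideal T_+, and let a ≥ b be integers.
Then the number of generators ν_T(R(a) # S(b)) = dim_k (R(a) # S(b)) / T_+ (R(a) # S(b)) equals
dim_k R_{a−b}. Here a graded ring defined over k is a commutative k-algebra of finite type, graded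
in nonnegative degrees by k-subspaces with degree-zero part k·1; the Segre product T = R # S = ⊕_n
R_n ⊗_k S_n is presented abstractly as a graded k-algebra T with an injective k-algebra homomorphism
ψ : T → R ⊗_k S carrying T_n onto the k-span of the elementary tensors a ⊗ b with a ∈ R_n, b ∈ S_n;
the Segre product R(a) # S(b) = ⊕_n R_{n+a} ⊗_k S_{n+b} of the shifted modules is presented
abstractly as a graded T-module P with an injective k-linear map φ : P → R ⊗_k S carrying P_n onto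
the k-span of the tensors x ⊗ y with x ∈ R_{n+a}, y ∈ S_{n+b} and turning the action of t ∈ T into
that of ψ(t); T_+ is the ideal spanned by the T_n with n > 0. -/
theorem result (k : Type u) [Field k] (R : Type u) [CommRing R] [Algebra k R] (𝒜 : ℤ → Submodule k R) [GradedAlgebra 𝒜] (hposR : ∀ n : ℤ, n < 0 → 𝒜 n = ⊥) (h0R : 𝒜 0 = Submodule.span k {(1 : R)}) [Algebra.FiniteType k R] (S : Type u) [CommRing S] [Algebra k S] (ℬ : ℤ → Submodule k S) [GradedAlgebra ℬ] (hposS : ∀ n : ℤ, n < 0 → ℬ n = ⊥) (h0S : ℬ 0 = Submodule.span k {(1 : S)}) [Algebra.FiniteType k S] (T : Type u) [CommRing T] [Algebra k T] (𝒯 : ℤ → Submodule k T) [GradedAlgebra 𝒯] (ψ : T →ₐ[k] TensorProduct k R S) (hT : GrSeg.IsSegreRing 𝒜 ℬ 𝒯 ψ) (hstdR : Ideal.span (⋃ n ∈ Set.Ioi (0 : ℤ), (𝒜 n : Set R)) = Ideal.span ((𝒜 1 : Submodule k R) : Set R)) (hstdS : Ideal.span (⋃ n ∈ Set.Ioi (0 : ℤ), (ℬ n : Set S)) = Ideal.span ((ℬ 1 : Submodule k S) : Set S)) (hr1 : 1 ≤ ringKrullDim R) (hs1 :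 1 ≤ ringKrullDim S) (mT : HomogeneousIdeal 𝒯) (hmT : mT.toIdeal = Ideal.span (⋃ n ∈ Set.Ioi (0 : ℤ), (𝒯 n : Set T))) (a b : ℤ) (hab : b ≤ a) (P : Type u) [AddCommGroup P] [Module T P] [Module k P] [IsScalarTower k T P] (𝒬 : ℤ → AddSubgroup P) [DirectSum.Decomposition 𝒬] (φ : P →ₗ[k] TensorProduct k R S) (hP : GrSeg.IsSegreMod ψ (fun n : ℤ => 𝒜 (n + a)) (fun n : ℤ => ℬ (n + b)) 𝒬 φ) : Module.finrank k (P ⧸ (mT.toIdeal • (⊤ : Submodule T P))) = Module.finrank k (𝒜 (a - b)) := by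
  classical
  haveI := SegreOne.gradedSMul' 𝒜 ℬ 𝒯 ψ hT.2 (GrLib.shiftGr 𝒜 a)
    (GrLib.shiftGr ℬ b) 𝒬 φ hP.injective hP.image_piece hP.map_smul
  haveI : Nontrivial S := by
    by_contra h
    rw [not_nontrivial_iff_subsingleton] at h
    rw [ringKrullDim_eq_bot_of_subsingleton] at hs1
    simp at hs1
  obtain ⟨ε₀, hε₀⟩ := Module.Projective.exists_dual_ne_zero k (one_ne_zero : (1 : S) ≠ 0)
  let ε : S →ₗ[k] k := (ε₀ 1)⁻¹ • ε₀
  have hε : ∀ c : k, ε (c • 1) = c := fun c => by simp [ε, hε₀]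
  let G : R ⊗[k] S →ₗ[k] R := (TensorProduct.rid k R).toLinearMap.comp (ε.lTensor R)
  have hG : ∀ (r : R) (s : S), G (r ⊗ₜ[k] s) = ε s • r := fun r s => by simp [G]
  -- the projection to the bottom piece
  have hk : ∀ (c : k) (p : P), GrLib.proj 𝒬 (-b) (c • p) = c • GrLib.proj 𝒬 (-b) p := fun c p => by
    have h0 : algebraMap k T c ∈ 𝒯 0 := SetLike.algebraMap_mem_graded 𝒯 c
    rw [← algebraMap_smul T c p, GrLib.proj_smul' h0, sub_zero, algebraMap_smul]
  have hbot : ∀ p ∈ 𝒬 (-b), G (φ p) ∈ 𝒜 (a - b) ∧ φ p = G (φ p) ⊗ₜ[k] (1 : S) := fun p hp => by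
    refine Submodule.span_induction (p := fun w _ => G w ∈ 𝒜 (a - b) ∧ w = G w ⊗ₜ[k] (1 : S)) ?_
      (by simp) (fun u v _ _ hu hv => ⟨by rw [map_add]; exact add_mem hu.1 hv.1, by
        conv_lhs => rw [hu.2, hv.2]
        rw [map_add, TensorProduct.add_tmul]⟩)
      (fun c u _ hu => ⟨by rw [map_smul]; exact Submodule.smul_mem _ c hu.1, by
        conv_lhs => rw [hu.2]
        rw [map_smul, TensorProduct.smul_tmul']⟩) ((hP.image_piece (-b)).subset ⟨p, hp, rfl⟩)
    rintro _ ⟨r, hr, s, hs, rfl⟩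
    simp only [neg_add_cancel, h0S, Submodule.mem_span_singleton] at hs
    obtain ⟨c, rfl⟩ := hs
    rw [hG, hε, TensorProduct.tmul_smul, TensorProduct.smul_tmul']
    refine ⟨Submodule.smul_mem _ c ?_, rfl⟩
    rwa [show a - b = -b + a by ring]
  let F : P →ₗ[k] 𝒜 (a - b) := LinearMap.codRestrict (𝒜 (a - b))
    { toFun := fun p => G (φ (GrLib.proj 𝒬 (-b) p))
      map_add' := fun p q => by simp
      map_smul' := fun c p => by rw [hk, map_smul, map_smul, RingHom.id_apply] }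
    fun p => (hbot _ (GrLib.proj_mem 𝒬 (-b) p)).1
  have hF : Function.Surjective F := fun r => by
    obtain ⟨p, hp, hpφ⟩ := (hP.image_piece (-b)).superset (Submodule.subset_span
      (s := {w : R ⊗[k] S | ∃ x ∈ 𝒜 (-b + a), ∃ y ∈ ℬ (-b + b), w = x ⊗ₜ[k] y})
      ⟨(r : R), by rw [show -b + a = a - b by ring]; exact r.2, 1,
        by simpa using (SetLike.GradedOne.one_mem : (1 : S) ∈ ℬ 0), rfl⟩)
    refine ⟨p, Subtype.ext ?_⟩
    show G (φ (GrLib.proj 𝒬 (-b) p)) = r
    rw [GrLib.proj_of_mem hp, hpφ, hG, ← one_smul k (1 : S), hε, one_smul]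
  have hneg : ∀ i, i < -b → ∀ p ∈ 𝒬 i, p = 0 := fun i hi p hp => hP.injective (by
    rw [map_zero]
    refine Submodule.span_induction (p := fun w _ => w = 0) ?_ rfl (fun u v _ _ hu hv => by rw [hu, hv, add_zero])
      (fun c u _ hu => by rw [hu, smul_zero]) ((hP.image_piece i).subset ⟨p, hp, rfl⟩)
    rintro _ ⟨r, -, s, hs, rfl⟩
    have : s = 0 := by simpa [hposS (i + b) (by omega)] using hs
    rw [this, TensorProduct.tmul_zero])
  have hker : LinearMap.ker F = (mT.toIdeal • (⊤ : Submodule T P)).restrictScalars k := by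
    refine le_antisymm (fun p hp => ?_) (fun p hp => ?_)
    · have hp0 : GrLib.proj 𝒬 (-b) p = 0 := by
        refine hP.injective ?_
        have h1 : G (φ (GrLib.proj 𝒬 (-b) p)) = 0 := congrArg Subtype.val (LinearMap.mem_ker.mp hp)
        rw [(hbot _ (GrLib.proj_mem 𝒬 (-b) p)).2, h1, TensorProduct.zero_tmul, map_zero]
      refine GrLib.mem_of_proj_mem (ℳ := 𝒬) (p := (mT.toIdeal • (⊤ : Submodule T P))) fun i => ?_
      rcases lt_trichotomy i (-b) with hi | rfl | hi
      · rw [hneg i hi _ (GrLib.proj_mem 𝒬 i p)]; exact zero_mem _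
      · rw [hp0]; exact zero_mem _
      · suffices h : φ (GrLib.proj 𝒬 i p) ∈ ((mT.toIdeal • (⊤ : Submodule T P)).restrictScalars k).map φ by
          obtain ⟨q, hq, hqe⟩ := h
          exact hP.injective hqe ▸ hq
        refine Submodule.span_le.mpr ?_ ((hP.image_piece i).subset ⟨_, GrLib.proj_mem 𝒬 i p, rfl⟩)
        rintro _ ⟨r, hr, s, hs, rfl⟩
        obtain ⟨j, hj⟩ : ∃ j : ℕ, i + a = 1 + j := ⟨(i + a - 1).toNat, by omega⟩
        obtain ⟨l, hl⟩ : ∃ l : ℕ, i + b = 1 + l := ⟨(i + b - 1).toNat, by omega⟩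
        have hr' := SegreDim.piece_add_le 𝒜 h0R hstdR j 1 (by simpa [← hj] using hr)
        have hs' := SegreDim.piece_add_le ℬ h0S hstdS l 1 (by simpa [← hl] using hs)
        refine Submodule.span_induction (p := fun r _ => r ⊗ₜ[k] s ∈ _) ?_
          (by rw [TensorProduct.zero_tmul]; exact zero_mem _)
          (fun u v _ _ hu hv => by rw [TensorProduct.add_tmul]; exact add_mem hu hv)
          (fun c u _ hu => by rw [← TensorProduct.smul_tmul']; exact Submodule.smul_mem _ c hu) hr'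
        rintro _ ⟨r₁, hr₁, r₂, hr₂, rfl⟩
        refine Submodule.span_induction (p := fun s _ => (r₁ * r₂) ⊗ₜ[k] s ∈ _) ?_
          (by rw [TensorProduct.tmul_zero]; exact zero_mem _)
          (fun u v _ _ hu hv => by rw [TensorProduct.tmul_add]; exact add_mem hu hv)
          (fun c u _ hu => by rw [TensorProduct.tmul_smul]; exact Submodule.smul_mem _ c hu) hs'
        rintro _ ⟨s₁, hs₁, s₂, hs₂, rfl⟩
        obtain ⟨t, ht, htψ⟩ := SegreOne.exists_lift 𝒜 ℬ 𝒯 ψ hT.2 hr₁ hs₁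
        obtain ⟨q, -, hqφ⟩ := (hP.image_piece (i - 1)).superset (Submodule.subset_span
          (s := {w : R ⊗[k] S | ∃ x ∈ 𝒜 (i - 1 + a), ∃ y ∈ ℬ (i - 1 + b), w = x ⊗ₜ[k] y})
          ⟨r₂, by rwa [show i - 1 + a = (j : ℤ) by omega], s₂, by rwa [show i - 1 + b = (l : ℤ) by omega], rfl⟩)
        refine ⟨t • q, Submodule.smul_mem_smul ?_ trivial, ?_⟩
        · rw [hmT]
          exact Ideal.subset_span (Set.mem_iUnion₂.mpr ⟨_, Set.mem_Ioi.mpr (by norm_num), ht⟩)
        · rw [hP.map_smul, htψ, hqφ, GrSeg.act_tmul, smul_eq_mul, smul_eq_mul]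
    · rw [Submodule.restrictScalars_mem] at hp
      refine Submodule.smul_induction_on hp (fun t ht q _ => ?_) (fun u v hu hv => add_mem hu hv)
      rw [hmT] at ht
      refine Submodule.span_induction (p := fun t _ => ∀ q : P, t • q ∈ LinearMap.ker F) ?_
        (fun q => by rw [zero_smul]; exact zero_mem _)
        (fun u v _ _ hu hv q => by rw [add_smul]; exact add_mem (hu q) (hv q))
        (fun c u _ hu q => by rw [smul_eq_mul, mul_comm, mul_smul]; exact hu (c • q)) ht q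
      intro t ht q
      simp only [Set.mem_iUnion, Set.mem_Ioi] at ht
      obtain ⟨c, hc, htc⟩ := ht
      refine LinearMap.mem_ker.mpr (Subtype.ext ?_)
      show G (φ (GrLib.proj 𝒬 (-b) (t • q))) = 0
      rw [GrLib.proj_smul' htc, hneg _ (by omega) _ (GrLib.proj_mem 𝒬 (-b - c) q), smul_zero, map_zero, map_zero]
  exact ((Submodule.Quotient.restrictScalarsEquiv k (mT.toIdeal • (⊤ : Submodule T P))).symm ≪≫ₗ
    Submodule.quotEquivOfEq _ _ hker.symm ≪≫ₗ F.quotKerEquivOfSurjective hF).finrank_eq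
end Groth.Agent.S19750
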