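import Groth.Statements.S19751
import Groth.Agent.GrDualLib.Main

set_option autoImplicit false
universe u
open GrDual

namespace Groth.Agent.S19751

/-- Let R be a graded ring defined over a field k with m = R_+, let F and M be finitely generated graded
R-modules and f : F → M a surjective homomorphism of graded R-modules, with dual f^* : M^* → F^* on
graded k-duals. Then f is minimal, that is Ker f ⊆ m F, if and only if f^* is essential: an
injective homomorphism of graded modules such that every nonzero graded submodule of F^* meets its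
image. Here a graded ring defined over k is a commutative k-algebra of finite type, graded in
nonnegative degrees by k-subspaces with degree-zero part k·1, and R_+ is the ideal spanned by the
R_n with n > 0; the graded k-dual M^* = ⊕_n Hom_k(M_{−n}, k) of a graded R-module M (with r ∈ R
acting by (r f)(x) = f(r x)) is presented abstractly as a graded R-module D with a k-bilinear
pairing β : D × M → k compatible with the R-actions, under which D_n pairs to zero with M_m for m ≠
−n and is identified with the full dual space of M_{−n}; f^* is presented as the R-linear map g :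
M^* → F^* with β_F(g d, x) = β_M(d, f x). -/
theorem result (k : Type u) [Field k] (R : Type u) [CommRing R] [Algebra k R] (𝒜 : ℤ → Submodule k R) [GradedAlgebra 𝒜] (hposR : ∀ n : ℤ, n < 0 → 𝒜 n = ⊥) (h0R : 𝒜 0 = Submodule.span k {(1 : R)}) [Algebra.FiniteType k R] (mR : HomogeneousIdeal 𝒜) (hmR : mR.toIdeal = Ideal.span (⋃ n ∈ Set.Ioi (0 : ℤ), (𝒜 n : Set R))) (F : Type u) [AddCommGroup F] [Module R F] [Module k F] [IsScalarTower k R F] (ℱ : ℤ → AddSubgroup F) [DirectSum.Decomposition ℱ] [SetLike.GradedSMul 𝒜 ℱ] [Module.Finite R F] (M : Type u) [AddCommGroup M] [Module R M] [Module k M] [IsScalarTower k R M] (ℳ : ℤ → AddSubgroup M) [DirectSum.Decomposition ℳ] [SetLike.GradedSMul 𝒜 ℳ] [Module.Finite R M] (f : F →ₗ[R] M) (hf : Function.Surjective f) (hfgr : GrLC.IsGrHom ℱ ℳ f) (DM : Type u) [AddCommGroup DM] [Module R DM] [Module k DM] [IsScalarTower k R DM] (𝒟M : ℤ → AddSubgroup DM) [DirectSum.Decomposition 𝒟M] [SetLike.GradedSMul 𝒜 𝒟M] (βM : DM →ₗ[k] M →ₗ[k] k) (hDM : GrSeg.IsGDual R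 ℳ 𝒟M βM) (DF : Type u) [AddCommGroup DF] [Module R DF] [Module k DF] [IsScalarTower k R DF] (𝒟F : ℤ → AddSubgroup DF) [DirectSum.Decomposition 𝒟F] [SetLike.GradedSMul 𝒜 𝒟F] (βF : DF →ₗ[k] F →ₗ[k] k) (hDF : GrSeg.IsGDual R ℱ 𝒟F βF) (g : DM →ₗ[R] DF) (hg : GrSeg.IsGDualMap βM βF f g) : LinearMap.ker f ≤ mR.toIdeal • (⊤ : Submodule R F) ↔ GrLC.IsStarEss 𝒟M 𝒟F g := by
  have : IsNoetherianRing R := Algebra.FiniteType.isNoetherianRing k R
  have hmem : ∀ a : ℤ, 0 < a → ∀ r ∈ 𝒜 a, r ∈ mR.toIdeal := fun a ha r hr => by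
    rw [hmR]; exact Ideal.subset_span (Set.mem_biUnion ha hr)
  have hginj : Function.Injective g := fun d d' h => Groth.Agent.GrDualLib.beta_injective hDM fun m => by
    obtain ⟨x, rfl⟩ := hf m
    rw [← hg, ← hg, h]
  have hghom : GrLC.IsGrHom 𝒟M 𝒟F g := fun j d hd => by
    refine Groth.Agent.GrLib.mem_of_proj_mem 𝒟F (𝒟F j) fun i => ?_
    by_cases hi : i = j
    · subst hi; exact Groth.Agent.GrLib.proj_mem ..
    · rw [Groth.Agent.GrDualLib.eq_of_eqOn hDF (Groth.Agent.GrLib.proj_mem ..) (zero_mem (𝒟F i))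
        (fun x hx => ?_)]
      · exact zero_mem _
      · rw [Groth.Agent.GrDualLib.beta_proj_left hDF i (g d) hx, hg, map_zero, LinearMap.zero_apply]
        exact hDM.vanish j d hd (-i) (by omega) (f x) (hfgr _ x hx)
  constructor
  · intro hker
    refine ⟨hginj, hghom, fun P hP hne => ?_⟩
    obtain ⟨N, hN⟩ := Groth.Agent.GrDualLib.exists_bot_of_finite (𝒜 := 𝒜) (ℳ := ℱ) hposR
    obtain ⟨n, y, hyP, hyn, hy0, hkill⟩ :=
      Groth.Agent.GrDualLib.exists_socle (𝒜 := 𝒜) hP hne (Groth.Agent.GrDualLib.dual_bdd_above hDF hN)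
    have hyk : ∀ x ∈ LinearMap.ker f, βF y x = 0 := by
      intro x hx
      have hx' := hker hx
      refine Submodule.smul_induction_on (p := fun x => βF y x = 0) hx' (fun r hr z _ => ?_)
        (fun a b ha hb => by rw [map_add, ha, hb, add_zero])
      rw [hmR] at hr
      rw [← hDF.map_smul, Groth.Agent.GrDualLib.smul_eq_zero_of_mem_span (fun s hs => ?_) hr, map_zero,
        LinearMap.zero_apply]
      obtain ⟨a, ha, hsa⟩ := Set.mem_iUnion₂.1 hs
      exact hkill a ha s hsa
    obtain ⟨σ, hσ⟩ := (f.restrictScalars k).exists_rightInverse_of_surjective (LinearMap.range_eq_top.2 hf)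
    obtain ⟨d, hd, e⟩ := hDM.exists_eq n (βF y ∘ₗ σ)
    have hgd : g d = y := Groth.Agent.GrDualLib.eq_of_eqOn hDF (hghom n d hd) hyn fun x hx => by
      rw [hg, e _ (hfgr _ x hx)]
      have h1 : x - σ (f x) ∈ LinearMap.ker f := by
        have h2 : f (σ (f x)) = f x := LinearMap.congr_fun hσ (f x)
        simp [h2]
      have h3 := hyk _ h1
      rw [map_sub, sub_eq_zero] at h3
      exact h3.symm
    exact fun hbotI => hy0 (by
      have : y ∈ P ⊓ LinearMap.range g := ⟨hyP, d, hgd⟩
      rwa [hbotI] at this)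
  · intro hess x hx
    by_contra hxm
    obtain ⟨n, hn⟩ : ∃ n, Groth.Agent.GrLib.proj ℱ n x ∉ mR.toIdeal • (⊤ : Submodule R F) := by
      by_contra h
      push Not at h
      exact hxm (Groth.Agent.GrLib.mem_of_proj_mem ℱ _ h)
    have hz : f (Groth.Agent.GrLib.proj ℱ n x) = 0 := by
      rw [← Groth.Agent.GrLib.proj_map hfgr, LinearMap.mem_ker.1 hx, map_zero]
    obtain ⟨φ, hφ, hφk⟩ := Submodule.exists_le_ker_of_notMem
      (p := (mR.toIdeal • (⊤ : Submodule R F)).restrictScalars k) hn
    obtain ⟨y, hy, e⟩ := hDF.exists_eq (-n) φ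
    rw [neg_neg] at e
    have hkill : ∀ a : ℤ, 0 < a → ∀ r ∈ 𝒜 a, r • y = 0 := fun a ha r hr =>
      Groth.Agent.GrDualLib.beta_injective hDF fun z => by
        rw [map_zero, LinearMap.zero_apply, hDF.map_smul]
        refine Groth.Agent.GrLib.induction ℱ (motive := fun z => βF y (r • z) = 0) (by simp) ?_ ?_ z
        · intro j w hw
          by_cases hj : a + j = n
          · subst hj
            rw [e _ (Groth.Agent.GrLib.smul_mem hr hw)]
            exact hφk (Submodule.smul_mem_smul (hmem a ha r hr) Submodule.mem_top)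
          · exact hDF.vanish _ y hy (a + j) (by omega) _ (Groth.Agent.GrLib.smul_mem hr hw)
        · intro u v hu hv
          simp [smul_add, hu, hv]
    have hy0 : y ≠ 0 := fun h => hφ (by
      rw [← e _ (Groth.Agent.GrLib.proj_mem ..), h, map_zero, LinearMap.zero_apply])
    obtain ⟨w, ⟨hw1, hw2⟩, hw0⟩ := Submodule.exists_mem_ne_zero_of_ne_bot (hess.essential (Submodule.span R {y})
      (Groth.Agent.GrLib.isHomogeneous_span (𝒜 := 𝒜) fun z hz' => ⟨-n, by rw [hz']; exact hy⟩)
      (fun h => hy0 (by simpa using h)))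
    obtain ⟨r, rfl⟩ := Submodule.mem_span_singleton.1 hw1
    obtain ⟨c, hc⟩ := Groth.Agent.GrDualLib.exists_smul_eq hposR h0R hkill r
    obtain ⟨d, hd⟩ := hw2
    refine hw0 ?_
    rw [hc]
    have h1 : βF (g d) (Groth.Agent.GrLib.proj ℱ n x) = 0 := by rw [hg, hz, map_zero]
    rw [hd, hc, map_smul, LinearMap.smul_apply, e _ (Groth.Agent.GrLib.proj_mem ..), smul_eq_mul,
      mul_eq_zero, or_iff_left hφ] at h1
    rw [h1, zero_smul]

end Groth.Agent.S19751
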