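import Groth.Statements.S19752
import Groth.Agent.GrDualLib.Main

set_option autoImplicit false
universe u
open GrDual

namespace Groth.Agent.S19752

/-- Let R = ⊕_{n ≥ 0} R_n be a Noetherian graded ring with R_0 = k a field, m = R_+ and k = R/m. Then
the graded k-dual R^* = ⊕_n Hom_k(R_{−n}, k) is the injective envelope of R/m in the category of
graded R-modules: for every injective homomorphism of graded R-modules e : R/m → R^*, the module R^*
is an injective object of the graded category and every nonzero graded submodule of R^* meets the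
image of e. Here a graded ring defined over k is a commutative k-algebra of finite type, graded in
nonnegative degrees by k-subspaces with degree-zero part k·1, and R_+ is the ideal spanned by the
R_n with n > 0 (a Noetherian such ring is the same as one of finite type over k); the graded k-dual
M^* = ⊕_n Hom_k(M_{−n}, k) of a graded R-module M (with r ∈ R acting by (r f)(x) = f(r x)) is
presented abstractly as a graded R-module D with a k-bilinear pairing β : D × M → k compatible with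
the R-actions, under which D_n pairs to zero with M_m for m ≠ −n and is identified with the full
dual space of M_{−n}. -/
theorem result (k : Type u) [Field k] (R : Type u) [CommRing R] [Algebra k R] (𝒜 : ℤ → Submodule k R) [GradedAlgebra 𝒜] (hposR : ∀ n : ℤ, n < 0 → 𝒜 n = ⊥) (h0R : 𝒜 0 = Submodule.span k {(1 : R)}) [Algebra.FiniteType k R] (mR : HomogeneousIdeal 𝒜) (hmR : mR.toIdeal = Ideal.span (⋃ n ∈ Set.Ioi (0 : ℤ), (𝒜 n : Set R))) (D : Type u) [AddCommGroup D] [Module R D] [Module k D] [IsScalarTower k R D] (𝒟 : ℤ → AddSubgroup D) [DirectSum.Decomposition 𝒟] [SetLike.GradedSMul 𝒜 𝒟] (β : D →ₗ[k] R →ₗ[k] k) (hD : GrSeg.IsGDual R 𝒜 𝒟 β) (e : (R ⧸ mR.toIdeal) →ₗ[R] D) (he : Function.Injective e) (hegr : GrLC.IsGrHom (GrLC.quotGr 𝒜 mR) 𝒟 e) : GrLC.IsStarInjHull 𝒜 (GrLC.quotGr 𝒜 mR) 𝒟 e := by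
  have : IsNoetherianRing R := Algebra.FiniteType.isNoetherianRing k R
  have hmem : ∀ a : ℤ, 0 < a → ∀ r ∈ 𝒜 a, r ∈ mR.toIdeal := fun a ha r hr => by
    rw [hmR]; exact Ideal.subset_span (Set.mem_biUnion ha hr)
  have hbot : ∀ g < (0 : ℤ), ∀ x ∈ 𝒜 g, x = 0 := fun g hg x hx => by
    rwa [hposR g hg, Submodule.mem_bot] at hx
  refine { injective := he, grHom := hegr, essential := ?_, starInj := Groth.Agent.GrDualLib.isStarInj_dual hD }
  intro P hP hne
  obtain ⟨n, y, hyP, hyn, hy0, hkill⟩ :=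
    Groth.Agent.GrDualLib.exists_socle (𝒜 := 𝒜) hP hne (Groth.Agent.GrDualLib.dual_bdd_above hD hbot)
  have hn : n = 0 := by
    by_contra hn
    refine hy0 (hD.eq_zero n y hyn fun x hx => ?_)
    rcases lt_or_gt_of_ne hn with hn' | hn'
    · have h1 := hD.map_smul x y 1
      rw [hkill (-n) (by omega) x hx, map_zero, LinearMap.zero_apply, smul_eq_mul, mul_one] at h1
      exact h1.symm
    · rw [hbot (-n) (by omega) x hx, map_zero]
  subst hn
  have he0 : e (Ideal.Quotient.mk mR.toIdeal 1) ∈ 𝒟 0 :=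
    hegr 0 _ ⟨1, SetLike.one_mem_graded 𝒜, rfl⟩
  have hk : ∀ a : ℤ, 0 < a → ∀ r ∈ 𝒜 a, r • e (Ideal.Quotient.mk mR.toIdeal 1) = 0 := fun a ha r hr => by
    have h0 : r • Ideal.Quotient.mk mR.toIdeal 1 = 0 := by
      rw [Algebra.smul_def, Ideal.Quotient.algebraMap_eq, ← map_mul, mul_one]
      exact Ideal.Quotient.eq_zero_iff_mem.2 (hmem a ha r hr)
    rw [← map_smul, h0, map_zero]
  have hgen : ∀ d ∈ 𝒟 0, ∀ c : k, (∀ a : ℤ, 0 < a → ∀ r ∈ 𝒜 a, r • d = 0) → β d 1 = c →
      ∀ x ∈ 𝒜 (-(0 : ℤ)), ∃ b : k, x = algebraMap k R b ∧ β d x = b * c := fun d _ c _ hc x hx => by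
    rw [neg_zero] at hx
    obtain ⟨b, rfl⟩ := Groth.Agent.GrDualLib.exists_scalar h0R hx
    exact ⟨b, rfl, by rw [Algebra.algebraMap_eq_smul_one, map_smul, hc, smul_eq_mul]⟩
  have h1 : β (e (Ideal.Quotient.mk mR.toIdeal 1)) 1 ≠ 0 := fun h => by
    have hz : e (Ideal.Quotient.mk mR.toIdeal 1) = 0 := hD.eq_zero 0 _ he0 fun x hx => by
      obtain ⟨b, -, e'⟩ := hgen _ he0 _ hk rfl x hx
      rw [e', h, mul_zero]
    rw [← map_zero e] at hz
    have h2 : (1 : R) ∈ mR.toIdeal := Ideal.Quotient.eq_zero_iff_mem.1 (he hz)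
    have h3 : Groth.Agent.GrLib.proj 𝒜 0 (1 : R) = 0 := by
      rw [hmR] at h2
      refine Submodule.span_induction (p := fun x _ => ∀ r : R, Groth.Agent.GrLib.proj 𝒜 0 (r • x) = 0)
        ?_ (fun r => by simp) (fun x y _ _ hx hy r => by rw [smul_add, map_add, hx r, hy r, add_zero])
        (fun s x _ hx r => by rw [smul_smul]; exact hx _) h2 1 |> fun h => by simpa using h
      intro x hx r
      obtain ⟨a, ha, hxa⟩ := Set.mem_iUnion₂.1 hx
      exact Groth.Agent.GrDualLib.proj_smul_eq_zero_of_lt (𝒜 := 𝒜) (ℳ := 𝒜) hposR (N := a) (x := x)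
        (fun g hg => Groth.Agent.GrLib.proj_of_mem_ne hxa (by omega)) r 0 ha
    rw [Groth.Agent.GrLib.proj_of_mem (SetLike.one_mem_graded 𝒜)] at h3
    exact hy0 (by rw [← one_smul R y, h3, zero_smul])
  intro hbotI
  refine hy0 ?_
  have hmemI : y ∈ P ⊓ LinearMap.range e := by
    refine ⟨hyP, algebraMap k R (β y 1 / β (e (Ideal.Quotient.mk mR.toIdeal 1)) 1) • Ideal.Quotient.mk mR.toIdeal 1, ?_⟩
    rw [map_smul, algebraMap_smul]
    refine Groth.Agent.GrDualLib.eq_of_eqOn hD (Groth.Agent.GrDualLib.smul_k_mem 𝒜 _ he0) hyn fun x hx => ?_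
    obtain ⟨b, hb, e1⟩ := hgen _ he0 _ hk rfl x hx
    rw [map_smul, LinearMap.smul_apply, e1, hb, Algebra.algebraMap_eq_smul_one, map_smul, smul_eq_mul, smul_eq_mul]
    field_simp
  rw [hbotI] at hmemI
  exact hmemI

end Groth.Agent.S19752
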