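import Groth.Statements.S19759
import Groth.Agent.GrDualLib.Main
import Groth.Agent.GrDualLib.TopTensor

set_option autoImplicit false
universe u
open GrDual

namespace Groth.Agent.S19759

/-- Let R be a graded ring defined over a field k with m = R_+ and n = dim R, K_R = (H^n_m(R))^* its
canonical module, and M a finitely generated graded R-module. Then (H^n_m(M))^* ≅ Hom_R(M, K_R) as
graded R-modules. Stated here as the existence of an R-linear isomorphism carrying the degree-d
piece of (H^n_m(M))^* into the maps M → K_R homogeneous of degree d (existence of an isomorphism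
only; the published one is natural in M). Here a graded ring defined over k is a commutative
k-algebra of finite type, graded in nonnegative degrees by k-subspaces with degree-zero part k·1,
and R_+ is the ideal spanned by the R_n with n > 0; the graded k-dual M^* = ⊕_n Hom_k(M_{−n}, k) of
a graded R-module M (with r ∈ R acting by (r f)(x) = f(r x)) is presented abstractly as a graded
R-module D with a k-bilinear pairing β : D × M → k compatible with the R-actions, under which D_n
pairs to zero with M_m for m ≠ −n and is identified with the full dual space of M_{−n}; graded local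
cohomology with its homogeneous pieces is computed from *injective resolutions in the graded
category and carries the k-vector space structures given. -/
theorem result (k : Type u) [Field k] (R : Type u) [CommRing R] [Algebra k R] (𝒜 : ℤ → Submodule k R) [GradedAlgebra 𝒜] (hposR : ∀ n : ℤ, n < 0 → 𝒜 n = ⊥) (h0R : 𝒜 0 = Submodule.span k {(1 : R)}) [Algebra.FiniteType k R] (mR : HomogeneousIdeal 𝒜) (hmR : mR.toIdeal = Ideal.span (⋃ n ∈ Set.Ioi (0 : ℤ), (𝒜 n : Set R))) (n : ℕ) (hn : ringKrullDim R = n) (I : GrLC.StarInjRes 𝒜 𝒜) [Module k (I.H mR n)] [IsScalarTower k R (I.H mR n)] [DirectSum.Decomposition (I.Hgr mR n)] (K : Type u) [AddCommGroup K] [Module R K] [Module k K] [IsScalarTower k R K] (𝒦 : ℤ → AddSubgroup K) [DirectSum.Decomposition 𝒦] [SetLike.GradedSMul 𝒜 𝒦] (βK : K →ₗ[k] I.H mR n →ₗ[k] k) (hK : GrSeg.IsGDual R (I.Hgr mR n) 𝒦 βK) (M : Type u) [AddCommGroup M] [Module R M] [Module k M] [IsScalarTower k R M] (ℳ : ℤ → AddSubgroup M) [DirectSum.Decomposition ℳ] [SetLike.GradedSMul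 𝒜 ℳ] [Module.Finite R M] (EM : GrLC.StarInjRes 𝒜 ℳ) [Module k (EM.H mR n)] [IsScalarTower k R (EM.H mR n)] [DirectSum.Decomposition (EM.Hgr mR n)] (D : Type u) [AddCommGroup D] [Module R D] [Module k D] [IsScalarTower k R D] (𝒟 : ℤ → AddSubgroup D) [DirectSum.Decomposition 𝒟] [SetLike.GradedSMul 𝒜 𝒟] (βD : D →ₗ[k] EM.H mR n →ₗ[k] k) (hD : GrSeg.IsGDual R (EM.Hgr mR n) 𝒟 βD) : ∃ ε : D ≃ₗ[R] (M →ₗ[R] K), GrLC.IsGrHom 𝒟 (fun d : ℤ => (GrLC.homDeg 𝒜 ℳ 𝒦 d).toAddSubgroup) ε.toLinearMap := by
  have : IsNoetherianRing R := Algebra.FiniteType.isNoetherianRing k R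
  let μ := Groth.Agent.GrDualLib.mu EM I mR n (ℳ := ℳ)
  let T : D → M → (I.H mR n →ₗ[k] k) := fun d x => βD d ∘ₗ (μ x).restrictScalars k
  have hT : ∀ d x h, T d x h = βD d (μ x h) := fun d x h => rfl
  have hTsmul : ∀ (r : R) d x h, T d (r • x) h = T d x (r • h) := fun r d x h => by
    rw [hT, hT, μ.map_smul, LinearMap.smul_apply, (μ x).map_smul]
  have hhom : ∀ j, ∀ d ∈ 𝒟 j, ∀ g, ∀ x ∈ ℳ g, ∃ κ ∈ 𝒦 (g + j), ∀ h, βK κ h = T d x h := by
    intro j d hd g x hx
    obtain ⟨κ, hκ, e⟩ := hK.exists_eq (g + j) (T d x)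
    refine ⟨κ, hκ, fun h => ?_⟩
    refine Groth.Agent.GrLib.induction (I.Hgr mR n) (motive := fun h => βK κ h = T d x h) (by simp) ?_ ?_ h
    · intro e' w hw
      by_cases he : e' = -(g + j)
      · subst he
        exact e w hw
      · rw [hK.vanish _ κ hκ e' he w hw, hT,
          hD.vanish j d hd (e' + g) (by omega) _ (Groth.Agent.GrDualLib.mu_mem EM I mR n hx hw)]
    · intro u v hu hv
      rw [map_add, hu, hv, map_add]
  have hall : ∀ d x, ∃ κ : K, ∀ h, βK κ h = T d x h := fun d x => by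
    refine Groth.Agent.GrLib.induction ℳ (motive := fun x => ∃ κ : K, ∀ h, βK κ h = T d x h)
      ⟨0, fun h => by simp [hT]⟩ (fun g y hy => ?_)
      (fun a b ⟨κ, hκ⟩ ⟨κ', hκ'⟩ => ⟨κ + κ', fun h => by simp [hT, hκ h, hκ' h]⟩) x
    refine Groth.Agent.GrLib.induction 𝒟 (motive := fun d => ∃ κ : K, ∀ h, βK κ h = T d y h)
      ⟨0, fun h => by simp [hT]⟩ (fun j e he => let ⟨κ, _, hκ⟩ := hhom j e he g y hy; ⟨κ, hκ⟩)
      (fun a b ⟨κ, hκ⟩ ⟨κ', hκ'⟩ => ⟨κ + κ', fun h => by simp [hT, hκ h, hκ' h]⟩) d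
  choose κ hκ using hall
  have huniq : ∀ a b : K, (∀ h, βK a h = βK b h) → a = b := fun a b h =>
    Groth.Agent.GrDualLib.beta_injective hK h
  let ε : D →ₗ[R] (M →ₗ[R] K) :=
    { toFun := fun d =>
        { toFun := κ d
          map_add' := fun x y => huniq _ _ fun h => by simp [hκ, hT]
          map_smul' := fun r x => huniq _ _ fun h => by
            rw [RingHom.id_apply, hκ, hTsmul, hK.map_smul, hκ] }
      map_add' := fun d d' => LinearMap.ext fun x => huniq _ _ fun h => by simp [hκ, hT]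
      map_smul' := fun r d => LinearMap.ext fun x => huniq _ _ fun h => by
        simp only [RingHom.id_apply, LinearMap.coe_mk, AddHom.coe_mk, LinearMap.smul_apply, hK.map_smul, hκ, hT]
        rw [hD.map_smul, (μ x).map_smul] }
  have hε : ∀ d x h, βK (ε d x) h = βD d (μ x h) := fun d x h => hκ d x h
  have hεgr : ∀ j, ∀ d ∈ 𝒟 j, GrLC.IsGrHomDeg ℳ 𝒦 (ε d) j := fun j d hd g x hx => by
    obtain ⟨c, hc, e⟩ := hhom j d hd g x hx
    rw [huniq (ε d x) c fun h => by rw [hε, e, hT]]
    exact hc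
  obtain ⟨t, x, g, hx, hspan⟩ := Groth.Agent.GrLib.exists_hom_generators (ℳ := ℳ) 𝒜
  have hinj : Function.Injective ε := fun d d' hdd => Groth.Agent.GrDualLib.beta_injective hD fun z => by
    obtain ⟨h, rfl⟩ := Groth.Agent.GrDualLib.mu_spans EM I mR hn hx hspan z
    rw [map_sum, map_sum]
    exact Finset.sum_congr rfl fun i _ => by rw [← hε, ← hε, hdd]
  have hhit : ∀ j, ∀ φ : M →ₗ[R] K, GrLC.IsGrHomDeg ℳ 𝒦 φ j → φ ∈ LinearMap.range ε := by
    intro j φ hφ
    let Ψ : (Fin t → I.H mR n) →ₗ[k] EM.H mR n := ∑ i, (μ (x i)).restrictScalars k ∘ₗ LinearMap.proj i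
    let L : (Fin t → I.H mR n) →ₗ[k] k := ∑ i, βK (φ (x i)) ∘ₗ LinearMap.proj i
    have hker : LinearMap.ker Ψ ≤ LinearMap.ker L := by
      intro h hh
      simp only [Ψ, LinearMap.mem_ker, LinearMap.sum_apply, LinearMap.comp_apply, LinearMap.proj_apply,
        LinearMap.restrictScalars_apply] at hh
      obtain ⟨s, v, h', hv, he⟩ := Groth.Agent.GrDualLib.mu_relations EM I mR hn hx hspan hh
      simp only [L, LinearMap.mem_ker, LinearMap.sum_apply, LinearMap.comp_apply, LinearMap.proj_apply]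
      simp only [he, map_sum]
      rw [Finset.sum_comm]
      refine Finset.sum_eq_zero fun l _ => ?_
      have e1 : ∀ i, βK (φ (x i)) (v l i • h' l) = βK (φ (v l i • x i)) (h' l) := fun i => by
        rw [map_smul φ, hK.map_smul]
      simp only [e1]
      rw [← LinearMap.sum_apply, ← map_sum, ← map_sum, hv l, map_zero, map_zero, LinearMap.zero_apply]
    have hsurj : Function.Surjective Ψ := fun z => by
      obtain ⟨h, hh⟩ := Groth.Agent.GrDualLib.mu_spans EM I mR hn hx hspan z
      exact ⟨h, by simpa [Ψ] using hh⟩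
    obtain ⟨σ, hσ⟩ := Ψ.exists_rightInverse_of_surjective (LinearMap.range_eq_top.2 hsurj)
    have hℓ : ∀ h, (L ∘ₗ σ) (Ψ h) = L h := fun h => by
      have h2 : Ψ (σ (Ψ h)) = Ψ h := LinearMap.congr_fun hσ (Ψ h)
      have h3 : L (σ (Ψ h) - h) = 0 := hker (by simp [h2])
      rwa [map_sub, sub_eq_zero] at h3
    obtain ⟨d, hd, e⟩ := hD.exists_eq j (L ∘ₗ σ)
    refine ⟨d, LinearMap.ext_on_range hspan fun i => huniq _ _ fun h => ?_⟩
    rw [hε]
    refine Groth.Agent.GrLib.induction (I.Hgr mR n)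
      (motive := fun h => βD d (μ (x i) h) = βK (φ (x i)) h) (by simp) ?_ ?_ h
    · intro e' w hw
      by_cases he : e' + g i = -j
      · have hw' : μ (x i) w ∈ EM.Hgr mR n (-j) := he ▸ Groth.Agent.GrDualLib.mu_mem EM I mR n (hx i) hw
        rw [e _ hw']
        have h1 : Ψ (Pi.single i w) = μ (x i) w := by
          simp only [Ψ, LinearMap.sum_apply, LinearMap.comp_apply, LinearMap.proj_apply,
            LinearMap.restrictScalars_apply]
          rw [Finset.sum_eq_single i (fun l _ hl => by rw [Pi.single_eq_of_ne hl, map_zero])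
            (fun hi => absurd (Finset.mem_univ i) hi), Pi.single_eq_same]
        rw [← h1, hℓ]
        simp only [L, LinearMap.sum_apply, LinearMap.comp_apply, LinearMap.proj_apply]
        rw [Finset.sum_eq_single i (fun l _ hl => by rw [Pi.single_eq_of_ne hl, map_zero])
          (fun hi => absurd (Finset.mem_univ i) hi), Pi.single_eq_same]
      · rw [hD.vanish j d hd (e' + g i) he _ (Groth.Agent.GrDualLib.mu_mem EM I mR n (hx i) hw),
          hK.vanish (g i + j) _ (hφ (g i) _ (hx i)) e' (by omega) w hw]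
    · intro u v hu hv
      rw [map_add, map_add, map_add, hu, hv]
  have hsurj : Function.Surjective ε := fun φ => by
    obtain ⟨S, hS⟩ := Groth.Agent.GrLib.exists_sum_homComponent (ℳ := ℳ) (𝒩 := 𝒦) 𝒜 φ
    rw [hS]
    exact LinearMap.mem_range.1 (Submodule.sum_mem _ fun b _ =>
      hhit b _ (Groth.Agent.GrLib.homComponent_deg 𝒜 φ b))
  refine ⟨LinearEquiv.ofBijective ε ⟨hinj, hsurj⟩, fun j d hd => ?_⟩
  exact hεgr j d hd

end Groth.Agent.S19759
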