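import Groth.Statements.S1976
import Groth.Agent.HenselLib.WEtField
import Groth.Prelude.Def_PBC
import Mathlib.CategoryTheory.Comma.Over.Basic

set_option autoImplicit false
universe u
open CategoryTheory
open EtAlg

namespace Groth.Agent.S1976

/-- (2) ⇔ (3): a K-algebra B over a field K is weakly etale exactly when it can be written as a filtered
colimit of etale K-algebras, and in that case its finitely generated K-subalgebras are etale. -/
theorem result (K : Type u) [Field K] (B : Type u) [CommRing B] [Algebra K B] :
    (Algebra.WeaklyEtale K B ↔ EtPBC.IsIndEtale K B) ∧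
    (Algebra.WeaklyEtale K B → ∀ S : Subalgebra K B, S.FG → Algebra.Etale K S) := by
  refine ⟨⟨fun h => ?_, fun h => ?_⟩, fun h => HenselLib.WEt.etFG_of_weaklyEtale (B := B)⟩
  · have hU := HenselLib.WEt.etFG_of_weaklyEtale (K := K) (B := B)
    let J := {S : Subalgebra K B // S.FG}
    haveI : Nonempty J := ⟨⟨⊥, Subalgebra.fg_bot⟩⟩
    haveI : IsDirectedOrder J := ⟨fun a b => ⟨⟨a.1 ⊔ b.1, a.2.sup b.2⟩, le_sup_left (b := b.1), le_sup_right (a := a.1)⟩⟩
    let D : J ⥤ Under (CommRingCat.of K) :=
      { obj := fun S => Under.mk (CommRingCat.ofHom (algebraMap K S.1))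
        map := fun {S T} f => Under.homMk (CommRingCat.ofHom (Subalgebra.inclusion (leOfHom f)).toRingHom)
          (CommRingCat.hom_ext (Subalgebra.inclusion (leOfHom f)).comp_algebraMap)
        map_id := fun S => rfl
        map_comp := fun f g => rfl }
    let c : Limits.Cocone D :=
      { pt := Under.mk (CommRingCat.ofHom (algebraMap K B))
        ι :=
          { app := fun S => Under.homMk (CommRingCat.ofHom S.1.val.toRingHom)
              (CommRingCat.hom_ext S.1.val.comp_algebraMap)
            naturality := fun S T f => rfl } }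
    let one : B → J := fun x => ⟨Algebra.adjoin K {x}, ⟨{x}, by rw [Finset.coe_singleton]⟩⟩
    have key : ∀ (s : Limits.Cocone D) (S : J) (x : B) (hx : x ∈ S.1),
        (s.ι.app (one x)).right.hom (⟨x, Algebra.subset_adjoin rfl⟩ : (one x).1) =
          (s.ι.app S).right.hom (⟨x, hx⟩ : S.1) := by
      intro s S x hx
      have hle : one x ≤ S := Algebra.adjoin_le (Set.singleton_subset_iff.mpr hx)
      exact (congr(($(s.w (homOfLE hle))).right.hom (⟨x, Algebra.subset_adjoin rfl⟩ : (one x).1))).symm
    let d : ∀ s : Limits.Cocone D, B →+* s.pt.right := fun s =>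
      { toFun := fun x => (s.ι.app (one x)).right.hom (⟨x, Algebra.subset_adjoin rfl⟩ : (one x).1)
        map_one' := by
          rw [key s ⟨⊥, Subalgebra.fg_bot⟩ 1 (one_mem _)]
          exact map_one (s.ι.app ⟨⊥, Subalgebra.fg_bot⟩).right.hom
        map_zero' := by
          rw [key s ⟨⊥, Subalgebra.fg_bot⟩ 0 (zero_mem _)]
          exact map_zero (s.ι.app ⟨⊥, Subalgebra.fg_bot⟩).right.hom
        map_mul' := fun x y => by
          let S : J := ⟨(one x).1 ⊔ (one y).1, (one x).2.sup (one y).2⟩
          have hx : x ∈ S.1 := le_sup_left (b := (one y).1) (Algebra.subset_adjoin rfl)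
          have hy : y ∈ S.1 := le_sup_right (a := (one x).1) (Algebra.subset_adjoin rfl)
          rw [key s S x hx, key s S y hy, key s S (x * y) (mul_mem hx hy)]
          exact map_mul (s.ι.app S).right.hom (⟨x, hx⟩ : S.1) ⟨y, hy⟩
        map_add' := fun x y => by
          let S : J := ⟨(one x).1 ⊔ (one y).1, (one x).2.sup (one y).2⟩
          have hx : x ∈ S.1 := le_sup_left (b := (one y).1) (Algebra.subset_adjoin rfl)
          have hy : y ∈ S.1 := le_sup_right (a := (one x).1) (Algebra.subset_adjoin rfl)
          rw [key s S x hx, key s S y hy, key s S (x + y) (add_mem hx hy)]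
          exact map_add (s.ι.app S).right.hom (⟨x, hx⟩ : S.1) ⟨y, hy⟩ }
    have hd : ∀ (s : Limits.Cocone D) (r : K), d s (algebraMap K B r) = s.pt.hom.hom r := by
      intro s r
      change (s.ι.app (one _)).right.hom _ = _
      rw [key s ⟨⊥, Subalgebra.fg_bot⟩ _ ((⊥ : Subalgebra K B).algebraMap_mem r)]
      exact congr(($(Under.w (s.ι.app ⟨⊥, Subalgebra.fg_bot⟩))).hom r)
    let hc : Limits.IsColimit c :=
      { desc := fun s => Under.homMk (CommRingCat.ofHom (d s)) (CommRingCat.hom_ext (RingHom.ext (hd s)))
        fac := fun s S => Under.UnderMorphism.ext (CommRingCat.hom_ext (RingHom.ext fun x => key s S x.1 x.2))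
        uniq := fun s m hm => Under.UnderMorphism.ext (CommRingCat.hom_ext (RingHom.ext fun x =>
          congr(($(hm (one x))).right.hom (⟨x, Algebra.subset_adjoin rfl⟩ : (one x).1)))) }
    refine ⟨J, inferInstance, inferInstance, D, c, hc, fun S => ?_, ⟨Iso.refl _⟩⟩
    have h' : (algebraMap K S.1).toAlgebra = (inferInstance : Algebra K S.1) :=
      Algebra.algebra_ext _ _ fun r => rfl
    show @Algebra.Etale K S.1 _ _ (algebraMap K S.1).toAlgebra
    rw [h']
    exact hU S.1 S.2
  · obtain ⟨J, _, _, D, c, hc, hD, ⟨e⟩⟩ := h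
    let M := EtAlgD.maxWeaklyEtale K B
    haveI := HenselLib.WEt.weaklyEtale_max (K := K) (B := B)
    have hmem : ∀ j (x : (D.obj j).right), e.hom.right.hom ((c.ι.app j).right.hom x) ∈ M := by
      intro j x
      letI := (D.obj j).hom.hom.toAlgebra
      haveI : Algebra.Etale K (D.obj j).right := hD j
      let f : (D.obj j).right →ₐ[K] B :=
        { e.hom.right.hom.comp (c.ι.app j).right.hom with
          commutes' := fun r => congr(($(Under.w (c.ι.app j ≫ e.hom))).hom r) }
      haveI : Algebra.WeaklyEtale K f.range := HenselLib.WEt.weaklyEtale_range f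
      exact HenselLib.WEt.le_maxWeaklyEtale f.range ⟨x, rfl⟩
    let s : Limits.Cocone D :=
      { pt := Under.mk (CommRingCat.ofHom (algebraMap K M))
        ι :=
          { app := fun j => Under.homMk
              (CommRingCat.ofHom ((e.hom.right.hom.comp (c.ι.app j).right.hom).codRestrict M (hmem j)))
              (CommRingCat.hom_ext (RingHom.ext fun r => Subtype.ext
                congr(($(Under.w (c.ι.app j ≫ e.hom))).hom r)))
            naturality := fun i j f => Under.UnderMorphism.ext (CommRingCat.hom_ext (RingHom.ext fun x =>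
              Subtype.ext (congrArg e.hom.right.hom congr(($(c.w f)).right.hom x)))) } }
    have hid : hc.desc s ≫ (Under.homMk (CommRingCat.ofHom M.val.toRingHom)
        (CommRingCat.hom_ext M.val.comp_algebraMap) :
          s.pt ⟶ Under.mk (CommRingCat.ofHom (algebraMap K B))) = e.hom :=
      hc.hom_ext fun j => by rw [← Category.assoc, hc.fac]; rfl
    have htop : M = ⊤ := by
      rw [eq_top_iff]
      intro b _
      obtain ⟨z, rfl⟩ : ∃ z, e.hom.right.hom z = b :=
        ⟨e.inv.right.hom b, congr(($(e.inv_hom_id)).right.hom b)⟩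
      have h1 := congr(($hid).right.hom z)
      rw [← h1]
      exact ((hc.desc s).right.hom z).2
    refine HenselLib.WEt.weaklyEtale_of_etFG (HenselLib.WEt.etFG_of_injective
      ((AlgHom.id K B).codRestrict M fun b => htop ▸ Algebra.mem_top) (fun a b hab => ?_)
      HenselLib.WEt.etFG_of_weaklyEtale)
    exact congrArg Subtype.val hab

end Groth.Agent.S1976
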