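import Groth.Statements.S19762
import Groth.Agent.GrDualLib.Main

set_option autoImplicit false
universe u
open GrDual

namespace Groth.Agent.S19762

/-- Let R = ⊕_{n ≥ 0} R_n be a Noetherian graded ring with R_0 = k a field. The graded k-dual is an
equivalence between Noetherian graded R-modules and the opposite category of Artinian graded
R-modules; on morphisms: for finitely generated graded R-modules F and M, every homomorphism of
graded R-modules g : M^* → F^* is f^* for a unique homomorphism of graded R-modules f : F → M. Here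
a graded ring defined over k is a commutative k-algebra of finite type, graded in nonnegative
degrees by k-subspaces with degree-zero part k·1, and R_+ is the ideal spanned by the R_n with n > 0
(a Noetherian such ring is the same as one of finite type over k); the graded k-dual M^* = ⊕_n
Hom_k(M_{−n}, k) of a graded R-module M (with r ∈ R acting by (r f)(x) = f(r x)) is presented
abstractly as a graded R-module D with a k-bilinear pairing β : D × M → k compatible with the
R-actions, under which D_n pairs to zero with M_m for m ≠ −n and is identified with the full dual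
space of M_{−n}; f^* = g means β_F(g d, x) = β_M(d, f x) for all d and x. -/
theorem result (k : Type u) [Field k] (R : Type u) [CommRing R] [Algebra k R] (𝒜 : ℤ → Submodule k R) [GradedAlgebra 𝒜] (hposR : ∀ n : ℤ, n < 0 → 𝒜 n = ⊥) (h0R : 𝒜 0 = Submodule.span k {(1 : R)}) [Algebra.FiniteType k R] (F : Type u) [AddCommGroup F] [Module R F] [Module k F] [IsScalarTower k R F] (ℱ : ℤ → AddSubgroup F) [DirectSum.Decomposition ℱ] [SetLike.GradedSMul 𝒜 ℱ] [Module.Finite R F] (M : Type u) [AddCommGroup M] [Module R M] [Module k M] [IsScalarTower k R M] (ℳ : ℤ → AddSubgroup M) [DirectSum.Decomposition ℳ] [SetLike.GradedSMul 𝒜 ℳ] [Module.Finite R M] (DM : Type u) [AddCommGroup DM] [Module R DM] [Module k DM] [IsScalarTower k R DM] (𝒟M : ℤ → AddSubgroup DM) [DirectSum.Decomposition 𝒟M] [SetLike.GradedSMul 𝒜 𝒟M] (βM : DM →ₗ[k] M →ₗ[k] k) (hDM : GrSeg.IsGDual R ℳ 𝒟M βM) (DF : Type u) [AddCommGroup DF] [Module R DF] [Module k DF] [IsScalarTower k R DF] (𝒟F : ℤ → AddSubgroup DF) [DirectSum.Decomposition 𝒟F] [SetLike.GradedSMul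 𝒜 𝒟F] (βF : DF →ₗ[k] F →ₗ[k] k) (hDF : GrSeg.IsGDual R ℱ 𝒟F βF) (g : DM →ₗ[R] DF) (hg : GrLC.IsGrHom 𝒟M 𝒟F g) : ∃! f : F →ₗ[R] M, GrLC.IsGrHom ℱ ℳ f ∧ GrSeg.IsGDualMap βM βF f g := by
  have : IsNoetherianRing R := Algebra.FiniteType.isNoetherianRing k R
  have : IsNoetherian R M := isNoetherian_of_isNoetherianRing_of_finite R M
  have hfl := Groth.Agent.GrDualLib.isGDual_flip hDM
    (Groth.Agent.GrDualLib.finite_piece_of_noetherian (𝒜 := 𝒜) h0R)
  have huniq : ∀ m m' : M, (∀ d, βM d m = βM d m') → m = m' := fun m m' h =>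
    Groth.Agent.GrDualLib.beta_injective hfl h
  have hhom : ∀ n, ∀ x ∈ ℱ n, ∃ m ∈ ℳ n, ∀ d, βM d m = βF (g d) x := fun n x hx => by
    obtain ⟨m, hm, e⟩ := hfl.exists_eq n ((βF.flip x) ∘ₗ g.restrictScalars k)
    refine ⟨m, hm, fun d => ?_⟩
    refine Groth.Agent.GrLib.induction 𝒟M (motive := fun d => βM d m = βF (g d) x) (by simp) ?_ ?_ d
    · intro j d' hd'
      by_cases hj : j = -n
      · subst hj
        exact e d' hd'
      · rw [hDM.vanish j d' hd' n (by omega) m hm, hDF.vanish j _ (hg j d' hd') n (by omega) x hx]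
    · intro a b ha hb
      simp [ha, hb]
  have hall : ∀ x : F, ∃ m : M, ∀ d, βM d m = βF (g d) x := fun x =>
    Groth.Agent.GrLib.induction ℱ (motive := fun x => ∃ m : M, ∀ d, βM d m = βF (g d) x)
      ⟨0, fun d => by simp⟩ (fun n x hx => let ⟨m, _, e⟩ := hhom n x hx; ⟨m, e⟩)
      (fun a b ⟨m, hm⟩ ⟨m', hm'⟩ => ⟨m + m', fun d => by simp [hm d, hm' d]⟩) x
  choose f hf using hall
  refine ⟨{ toFun := f
            map_add' := fun x y => huniq _ _ fun d => by simp [hf]
            map_smul' := fun r x => huniq _ _ fun d => by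
              rw [RingHom.id_apply, hf, ← hDM.map_smul, hf, ← hDF.map_smul, g.map_smul] },
    ⟨fun n x hx => ?_, fun d x => (hf x d).symm⟩, ?_⟩
  · obtain ⟨m, hm, e⟩ := hhom n x hx
    show f x ∈ _
    rw [huniq (f x) m fun d => by rw [hf, e]]
    exact hm
  · rintro f' ⟨-, h'⟩
    exact LinearMap.ext fun x => huniq _ _ fun d => (h' d x).symm.trans (hf x d).symm

end Groth.Agent.S19762
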