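import Groth.Statements.S19764
import Groth.Agent.SegreOne.Main
import Groth.Agent.SegreOne.Pieces
import Groth.Agent.Misc15.CICone
import Groth.Agent.LocCoh.Depth
import Groth.Agent.SegreDim.DimOne

set_option autoImplicit false
universe u
open scoped TensorProduct
attribute [local instance] MvPolynomial.weightedGradedAlgebra
open GrSegre

namespace Groth.Agent.S19764

theorem weightedPiece_neg (k : Type u) [Field k] (σ : Type) (n : ℤ) (hn : n < 0) :
    MvPolynomial.weightedHomogeneousSubmodule k (fun _ : σ => (1 : ℤ)) n = ⊥ := by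
  rw [Submodule.eq_bot_iff]
  intro p hp
  rw [MvPolynomial.mem_weightedHomogeneousSubmodule] at hp
  refine MvPolynomial.ext _ _ fun d => ?_
  rw [MvPolynomial.coeff_zero]
  by_contra h
  have := hp h
  rw [Finsupp.weight_apply, Finsupp.sum] at this
  simp at this
  have h0 : (0 : ℤ) ≤ ∑ x ∈ d.support, (d x : ℤ) := Finset.sum_nonneg fun i _ => Int.natCast_nonneg _
  omega

theorem weightedPiece_zero (k : Type u) [Field k] (σ : Type) :
    MvPolynomial.weightedHomogeneousSubmodule k (fun _ : σ => (1 : ℤ)) 0 = Submodule.span k {1} := by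
  classical
  refine le_antisymm (fun p hp => ?_) ?_
  · rw [MvPolynomial.mem_weightedHomogeneousSubmodule] at hp
    rw [Submodule.mem_span_singleton]
    refine ⟨MvPolynomial.coeff 0 p, MvPolynomial.ext _ _ fun d => ?_⟩
    rw [MvPolynomial.smul_eq_C_mul, mul_one, MvPolynomial.coeff_C]
    split_ifs with h
    · rw [h]
    · by_contra h'
      have := hp (Ne.symm h')
      rw [Finsupp.weight_apply, Finsupp.sum] at this
      simp at this
      refine h (Finsupp.ext fun i => ?_).symm
      by_contra hi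
      have h1 : d i ≤ ∑ j ∈ d.support, d j :=
        Finset.single_le_sum (fun j _ => Nat.zero_le _) (Finsupp.mem_support_iff.mpr (by simpa using hi))
      have h2 : ((∑ j ∈ d.support, d j : ℕ) : ℤ) = 0 := by push_cast; linarith
      simp only [Finsupp.coe_zero, Pi.zero_apply] at hi
      omega
  · rw [Submodule.span_le, Set.singleton_subset_iff]
    exact MvPolynomial.isWeightedHomogeneous_one _ _

theorem weightedPiece_fin_one (k : Type u) [Field k] (d : ℕ) {p : MvPolynomial (Fin 1) k}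
    (hp : p ∈ MvPolynomial.weightedHomogeneousSubmodule k (fun _ : Fin 1 => (1 : ℤ)) (d : ℤ)) :
    ∃ c : k, c • (MvPolynomial.X 0 : MvPolynomial (Fin 1) k) ^ d = p := by
  rw [MvPolynomial.mem_weightedHomogeneousSubmodule] at hp
  refine ⟨MvPolynomial.coeff (Finsupp.single 0 d) p, MvPolynomial.ext _ _ fun e => ?_⟩
  rw [MvPolynomial.X_pow_eq_monomial, MvPolynomial.smul_monomial, MvPolynomial.coeff_monomial, smul_eq_mul, mul_one]
  split_ifs with h
  · rw [h]
  · by_contra h'
    have := hp (Ne.symm h')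
    rw [Finsupp.weight_apply, Finsupp.sum_fintype _ _ (by simp)] at this
    simp at this
    exact h (Finsupp.ext fun i => by rw [Subsingleton.elim i 0, Finsupp.single_eq_same]; exact this.symm)

/-- Let R = k[X] and S = k[Y_1, …, Y_s] be polynomial rings over a field k with every variable of degree
1, s ≥ 2, T = R # S, and M = R(a), N = S(b) for integers a, b. Then (a) if a ≥ b, M # N is a
Cohen–Macaulay T-module; (b) if a < b, depth (M # N) = 1. (Part (a) of the published statement also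
identifies M # N with S(b); that identification is not stated here.) Here the polynomial rings carry
the standard grading by k-subspaces of homogeneous polynomials (indexed by ℤ, all variables of
weight 1); the Segre product T = R # S = ⊕_n R_n ⊗_k S_n is presented abstractly as a graded
k-algebra T with an injective k-algebra homomorphism ψ : T → R ⊗_k S carrying T_n onto the k-span of
the elementary tensors of bidegree (n, n), T_+ is the ideal spanned by the T_n with n > 0, and R(a)
# S(b) = ⊕_n R_{n+a} ⊗_k S_{n+b} is presented abstractly as a graded T-module P with an injective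
k-linear map φ : P → R ⊗_k S carrying P_n onto the k-span of the tensors x ⊗ y with x ∈ R_{n+a}, y ∈
S_{n+b} and turning the action of t ∈ T into that of ψ(t); a module over a ring is called
Cohen–Macaulay when each of its localizations at a prime ideal is zero or a Cohen–Macaulay module
over the local ring (dimension of the support equal to the depth), and the dimension of a module is
the Krull dimension of its support; the depth of P is its grade with respect to T_+ (the common
length of the maximal P-regular sequences in T_+). -/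
theorem result (k : Type u) [Field k] (s : ℕ) (h2s : 2 ≤ s) (T : Type u) [CommRing T] [Algebra k T] (𝒯 : ℤ → Submodule k T) [GradedAlgebra 𝒯] (ψ : T →ₐ[k] TensorProduct k (MvPolynomial (Fin 1) k) (MvPolynomial (Fin s) k)) (hT : GrSeg.IsSegreRing (MvPolynomial.weightedHomogeneousSubmodule k (fun _ : Fin 1 => (1 : ℤ))) (MvPolynomial.weightedHomogeneousSubmodule k (fun _ : Fin s => (1 : ℤ))) 𝒯 ψ) (mT : HomogeneousIdeal 𝒯) (hmT : mT.toIdeal = Ideal.span (⋃ n ∈ Set.Ioi (0 : ℤ), (𝒯 n : Set T))) (a b : ℤ) (P : Type u) [AddCommGroup P] [Module T P] [Module k P] [IsScalarTower k T P] (𝒬 : ℤ → AddSubgroup P) [DirectSum.Decomposition 𝒬] (φ : P →ₗ[k] TensorProduct k (MvPolynomial (Fin 1) k) (MvPolynomial (Fin s) k)) (hP : GrSeg.IsSegreMod ψ (fun n : ℤ => (MvPolynomial.weightedHomogeneousSubmodule k (fun _ : Fin 1 => (1 : ℤ))) (n + a)) (fun n : ℤ => (MvPolynomial.weightedHomogeneousSubmodule k (fun _ : Fin s => (1 : ℤ))) (n + b)) 𝒬 φ) : (b ≤ a → (∀ (q : Ideal T) [q.IsPrime], Subsingleton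 (LocalizedModule q.primeCompl P) ∨ LocCoh.IsCohenMacaulayModule (Localization.AtPrime q) (LocalizedModule q.primeCompl P))) ∧ (a < b → LocCoh.idealDepth mT.toIdeal P = (1 : ℕ∞)) := by
  classical
  let 𝒜 := MvPolynomial.weightedHomogeneousSubmodule k (fun _ : Fin 1 => (1 : ℤ))
  let ℬ := MvPolynomial.weightedHomogeneousSubmodule k (fun _ : Fin s => (1 : ℤ))
  let x : MvPolynomial (Fin 1) k := MvPolynomial.X 0
  let z : Fin s → MvPolynomial (Fin s) k := MvPolynomial.X
  let o : Fin s := ⟨0, by omega⟩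
  have hx : x ∈ 𝒜 ((1 : ℕ) : ℤ) := by
    simp [𝒜, x, MvPolynomial.mem_weightedHomogeneousSubmodule, MvPolynomial.isWeightedHomogeneous_X]
  have hz : ∀ i, z i ∈ ℬ ((1 : ℕ) : ℤ) := fun i => by
    simp [ℬ, z, MvPolynomial.mem_weightedHomogeneousSubmodule, MvPolynomial.isWeightedHomogeneous_X]
  have hposS : ∀ n : ℤ, n < 0 → ℬ n = ⊥ := fun n hn => weightedPiece_neg k (Fin s) n hn
  have h0S : ℬ 0 = Submodule.span k {1} := weightedPiece_zero k (Fin s)
  have hposR : ∀ n : ℤ, n < 0 → 𝒜 n = ⊥ := fun n hn => weightedPiece_neg k (Fin 1) n hn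
  have hxreg : IsSMulRegular (MvPolynomial (Fin 1) k) x :=
    (IsLeftRegular.isSMulRegular (IsRegular.of_ne_zero (MvPolynomial.X_ne_zero _)).left)
  have hzreg : ∀ i, IsSMulRegular (MvPolynomial (Fin s) k) (z i) := fun i =>
    (IsLeftRegular.isSMulRegular (IsRegular.of_ne_zero (MvPolynomial.X_ne_zero i)).left)
  have hgood : ∀ n : ℤ, 0 ≤ n + a → SegreOne.Good (GrLib.shiftGr 𝒜 a) 1 x n := fun n hn j p hp => by
    obtain ⟨d, hd⟩ := Int.eq_ofNat_of_zero_le hn
    obtain ⟨c, hc⟩ := weightedPiece_fin_one k (d + j) (show p ∈ 𝒜 ((d + j : ℕ) : ℤ) by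
      rw [GrLib.mem_shiftGr] at hp
      rwa [show ((d + j : ℕ) : ℤ) = n + (j : ℤ) * (1 : ℕ) + a by push_cast; linarith])
    refine ⟨c • x ^ d, ?_, ?_⟩
    · rw [GrLib.mem_shiftGr, hd]
      exact Submodule.smul_mem _ c (by simpa using SetLike.pow_mem_graded (A := 𝒜) d hx)
    · rw [smul_eq_mul, mul_smul_comm, ← pow_add, add_comm j d, hc]
  haveI hgs := SegreOne.gradedSMul' 𝒜 ℬ 𝒯 ψ hT.2 (GrLib.shiftGr 𝒜 a) (GrLib.shiftGr ℬ b) 𝒬 φ
    hP.injective hP.image_piece hP.map_smul
  letI := GrLib.shiftDecomp (𝒜 : ℤ → Submodule k (MvPolynomial (Fin 1) k)) a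
  letI := GrLib.shiftDecomp (ℬ : ℤ → Submodule k (MvPolynomial (Fin s) k)) b
  refine ⟨fun hab q _ => ?_, fun hab => ?_⟩
  · refine SegreOne.cm_segre 𝒜 ℬ hposS h0S 𝒯 ψ hT.1 hT.2 (GrLib.shiftGr 𝒜 a) (GrLib.shiftGr ℬ b) 𝒬 φ
      hP.injective hP.image_piece hP.map_smul s ?_ ?_ (D := 1) Nat.one_pos hx hz hxreg hzreg ?_ ?_
      (Or.inl fun n hn => hgood n ?_) q
    · rw [Module.supportDim_self_eq_ringKrullDim, MvPolynomial.ringKrullDim_of_isNoetherianRing,
        ringKrullDim_eq_zero_of_field, zero_add, Nat.card_eq_fintype_card, Fintype.card_fin]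
    · intro Q _
      refine Or.inr ?_
      haveI : LocCoh.IsCohenMacaulayRing (MvPolynomial (Fin s) k) := Misc15.cmRing_mvPolynomial
      haveI := LocCoh.IsCohenMacaulayRing.isCohenMacaulayLocalRing_localization (R := MvPolynomial (Fin s) k) Q
      rw [CAlgH3.isCohenMacaulayModule_congr (CAlgH3.localizedModuleSelf Q), ← CAlgH3.isCohenMacaulayLocalRing_iff]
      infer_instance
    · refine RingHom.isIntegral_of_surjective _ ?_
      rw [show (fun _ : Fin 1 => x) = MvPolynomial.X from funext fun i => by rw [Subsingleton.elim i 0],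
        MvPolynomial.aeval_X_left]
      exact Ideal.Quotient.mk_surjective
    · refine RingHom.isIntegral_of_surjective _ ?_
      rw [MvPolynomial.aeval_X_left]
      exact Ideal.Quotient.mk_surjective
    · obtain ⟨w, hw, hw0⟩ := hn
      by_contra h
      exact hw0 (by simpa [hposS (n + b) (by omega)] using (GrLib.mem_shiftGr.mp hw))
  · -- depth one
    obtain ⟨t, ht, htψ⟩ := SegreOne.exists_lift 𝒜 ℬ 𝒯 ψ hT.2 hx (hz o)
    have htreg : IsSMulRegular P t := isSMulRegular_iff_right_eq_zero_of_smul.mpr fun p hp => hP.injective (by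
      have h := congrArg φ hp
      rw [hP.map_smul, htψ, map_zero] at h
      rw [map_zero]
      exact SegreOne.map_smul_injective hxreg (hzreg o) (by rw [h, map_zero]))
    have htm : t ∈ mT.toIdeal := by
      rw [hmT]
      exact Ideal.subset_span (Set.mem_iUnion₂.mpr ⟨_, Set.mem_Ioi.mpr (by norm_num), ht⟩)
    obtain ⟨m, hm⟩ : ∃ m : ℕ, b - a = ((m + 1 : ℕ) : ℤ) := ⟨(b - a - 1).toNat, by omega⟩
    have hzpow : ∀ l : ℕ, z o ^ l ∈ ℬ (l : ℤ) := fun l => by
      simpa using SetLike.pow_mem_graded (A := ℬ) l (hz o)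
    obtain ⟨e, he, heφ⟩ := (hP.image_piece (-a)).superset (Submodule.subset_span
      (s := {w | ∃ p ∈ 𝒜 (-a + a), ∃ q ∈ ℬ (-a + b), w = p ⊗ₜ[k] q})
      ⟨1, by simpa using (SetLike.GradedOne.one_mem : (1 : MvPolynomial (Fin 1) k) ∈ 𝒜 0),
        z o ^ (m + 1), by rw [show -a + b = ((m + 1 : ℕ) : ℤ) by omega]; exact hzpow _, rfl⟩)
    have hne0 : ∀ p : P, t • p ≠ e := fun p hp => by
      have h := congrArg (GrLib.proj 𝒬 (-a)) hp
      rw [GrLib.proj_smul' ht, GrLib.proj_of_mem he] at h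
      have h0 : GrLib.proj 𝒬 (-a - ((1 : ℕ) : ℤ)) p = 0 := hP.injective (by
        rw [map_zero]
        refine Submodule.span_induction (p := fun w _ => w = 0) ?_ rfl (fun u v _ _ hu hv => by rw [hu, hv, add_zero])
          (fun c u _ hu => by rw [hu, smul_zero])
          ((hP.image_piece _).subset ⟨_, GrLib.proj_mem 𝒬 (-a - ((1 : ℕ) : ℤ)) p, rfl⟩)
        rintro _ ⟨r, hr, s', -, rfl⟩
        have : r = 0 := by
          replace hr : r ∈ 𝒜 (-a - ((1 : ℕ) : ℤ) + a) := hr
          rw [hposR (-a - ((1 : ℕ) : ℤ) + a) (by omega)] at hr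
          exact (Submodule.mem_bot _).mp hr
        rw [this, TensorProduct.zero_tmul])
      rw [h0, smul_zero] at h
      rw [← h, map_zero] at heφ
      have := congrArg (TensorProduct.lift (LinearMap.lsmul k (MvPolynomial (Fin s) k) ∘ₗ
        (MvPolynomial.aeval (fun _ : Fin 1 => (0 : k))).toLinearMap)) heφ
      rw [map_zero, TensorProduct.lift.tmul, LinearMap.comp_apply, AlgHom.toLinearMap_apply, map_one,
        LinearMap.lsmul_apply, one_smul] at this
      exact pow_ne_zero (m + 1) (MvPolynomial.X_ne_zero o) this.symm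
    have hkill : ∀ r ∈ mT.toIdeal, ∃ p : P, r • e = t • p := by
      intro r hr
      rw [hmT] at hr
      refine Submodule.span_induction (p := fun r _ => ∃ p : P, r • e = t • p) ?_ ⟨0, by simp⟩
        (fun u v _ _ ⟨p, hp⟩ ⟨q, hq⟩ => ⟨p + q, by rw [add_smul, hp, hq, smul_add]⟩)
        (fun u v _ ⟨p, hp⟩ => ⟨u • p, by rw [smul_eq_mul, mul_smul, hp, smul_comm]⟩) hr
      intro r hr
      simp only [Set.mem_iUnion, Set.mem_Ioi] at hr
      obtain ⟨c, hc, hrc⟩ := hr
      obtain ⟨c, rfl⟩ : ∃ c' : ℕ, c = ((c' + 1 : ℕ) : ℤ) := ⟨(c - 1).toNat, by omega⟩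
      suffices h : GrSeg.act k _ _ _ _ (ψ r) ((1 : MvPolynomial (Fin 1) k) ⊗ₜ[k] (z o ^ (m + 1))) ∈
          (LinearMap.range φ).map (GrSeg.act k _ _ _ _ (x ⊗ₜ[k] z o)) by
        obtain ⟨_, ⟨p, rfl⟩, hp⟩ := h
        exact ⟨p, hP.injective (by rw [hP.map_smul, hP.map_smul, htψ, heφ, hp])⟩
      refine Submodule.span_induction (p := fun ξ _ => GrSeg.act k _ _ _ _ ξ
          ((1 : MvPolynomial (Fin 1) k) ⊗ₜ[k] (z o ^ (m + 1))) ∈
          (LinearMap.range φ).map (GrSeg.act k _ _ _ _ (x ⊗ₜ[k] z o))) ?_ (by simp)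
        (fun u v _ _ hu hv => by rw [map_add, LinearMap.add_apply]; exact add_mem hu hv)
        (fun d u _ hu => by rw [map_smul, LinearMap.smul_apply]; exact Submodule.smul_mem _ d hu)
        (show ψ r ∈ GrSeg.segrePiece k 𝒜 ℬ ((c + 1 : ℕ) : ℤ) from by rw [← hT.2]; exact ⟨r, hrc, rfl⟩)
      rintro _ ⟨r₁, hr₁, r₂, hr₂, rfl⟩
      obtain ⟨d, hd⟩ := weightedPiece_fin_one k (c + 1) hr₁
      obtain ⟨p, -, hp⟩ := (hP.image_piece (-a + c)).superset (Submodule.subset_span
        (s := {w | ∃ p ∈ 𝒜 (-a + c + a), ∃ q ∈ ℬ (-a + c + b), w = p ⊗ₜ[k] q})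
        ⟨d • x ^ c, Submodule.smul_mem _ d (by
            rw [show -a + (c : ℤ) + a = (c : ℤ) by ring]; simpa using SetLike.pow_mem_graded (A := 𝒜) c hx),
          r₂ * z o ^ m, by
            rw [show -a + (c : ℤ) + b = ((c + 1 : ℕ) : ℤ) + (m : ℤ) by omega]
            exact SetLike.mul_mem_graded hr₂ (hzpow m), rfl⟩)
      refine ⟨_, ⟨p, hp⟩, ?_⟩
      rw [GrSeg.act_tmul, GrSeg.act_tmul, smul_eq_mul, smul_eq_mul, smul_eq_mul, smul_eq_mul, ← hd, mul_one,
        mul_smul_comm, ← pow_succ', mul_left_comm, ← pow_succ']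
    haveI : IsNoetherianRing T := by
      haveI := SegreDim.isNoetherian_segre 𝒜 𝒜 ℬ ℬ 𝒯 ψ hT.2 𝒯 ψ.toLinearMap hT.1
        (fun n => by rw [← Submodule.map_coe, hT.2 n]) (fun t p => by
          rw [SegreDim.act_eq_mul]; exact map_mul ψ t p)
      exact isNoetherianRing_iff.mpr this
    haveI := SegreDim.isNoetherian_segre 𝒜 (GrLib.shiftGr 𝒜 a) ℬ (GrLib.shiftGr ℬ b) 𝒯 ψ hT.2 𝒬 φ
      hP.injective hP.image_piece hP.map_smul
    haveI : Module.Finite T P := inferInstance
    let ebar : QuotSMulTop t P := Submodule.Quotient.mk e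
    have hebar : ebar ≠ 0 := fun h => by
      rw [Submodule.Quotient.mk_eq_zero, Submodule.mem_smul_pointwise_iff_exists] at h
      obtain ⟨p, -, hp⟩ := h
      exact hne0 p hp
    have hkill' : ∀ r ∈ mT.toIdeal, r • ebar = 0 := fun r hr => by
      obtain ⟨p, hp⟩ := hkill r hr
      show Submodule.Quotient.mk (r • e) = (0 : QuotSMulTop t P)
      rw [Submodule.Quotient.mk_eq_zero, Submodule.mem_smul_pointwise_iff_exists]
      exact ⟨p, trivial, hp.symm⟩
    have htopQ : mT.toIdeal • (⊤ : Submodule T (QuotSMulTop t P)) ≠ ⊤ := fun h => by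
      obtain ⟨r, hr, hr0⟩ := LocCoh.exists_smul_eq_zero_of_smul_top_eq_top _ _ h
      have h1 := hkill' _ hr
      rw [sub_smul, hr0, one_smul, zero_sub, neg_eq_zero] at h1
      exact hebar h1
    rw [show (1 : ℕ∞) = ((1 : ℕ) : ℕ∞) from Nat.cast_one.symm, LocCoh.idealDepth_eq_nat_iff]
    refine ⟨?_, fun h2 => ?_⟩
    · rw [_root_.LocCoh.idealDepth]
      split_ifs
      · exact le_top
      · exact le_iSup₂_of_le [t] ⟨(RingTheory.Sequence.isWeaklyRegular_cons_iff _ _ _).mpr
          ⟨htreg, RingTheory.Sequence.IsWeaklyRegular.nil _ _⟩, by simpa using htm⟩ (by simp)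
    · rw [LocCoh.natCast_le_idealDepth_iff_H] at h2
      have hq : ((1 : ℕ) : ℕ∞) ≤ _root_.LocCoh.idealDepth mT.toIdeal (QuotSMulTop t P) :=
        (LocCoh.natCast_le_idealDepth_iff_H _ _ 1).mpr fun i hi => by
          obtain rfl : i = 0 := by omega
          exact LocCoh.H_quotSMul_subsingleton htreg 0 (h2 0 (by omega)) (h2 1 (by omega))
      obtain ⟨rs, hlen, hmem, hreg⟩ := (LocCoh.natCast_le_idealDepth_iff_exists _ _ htopQ 1).mp hq
      obtain ⟨r₀, rs', rfl⟩ : ∃ r rs', rs = r :: rs' := by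
        rcases rs with _ | ⟨r, rs'⟩
        · simp at hlen
        · exact ⟨r, rs', rfl⟩
      have := ((RingTheory.Sequence.isWeaklyRegular_cons_iff _ _ _).mp hreg.1).1
      exact hebar (isSMulRegular_iff_right_eq_zero_of_smul.mp this _ (hkill' r₀ (hmem r₀ (by simp))))
end Groth.Agent.S19764
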