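import Groth.Statements.S19763
import Groth.Agent.SegreLC.PolyShift

set_option autoImplicit false
universe u
open scoped TensorProduct
attribute [local instance] MvPolynomial.weightedGradedAlgebra
open GrSegre

namespace Groth.Agent.S19763

/-- Let R = k[X_1, …, X_r] and S = k[Y_1, …, Y_s] be polynomial rings over a field k with every variable
of degree 1, r ≥ 2 and s ≥ 2, T = R # S, and M = R(a), N = S(b) for integers a, b. Then (a) M # N is
a Cohen–Macaulay T-module if and only if s > a − b > −r; (b) if a − b ≥ s then depth (M # N) = s;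
(c) if a − b ≤ −r then depth (M # N) = r. Here the polynomial rings carry the standard grading by
k-subspaces of homogeneous polynomials (indexed by ℤ, all variables of weight 1); the Segre product
T = R # S = ⊕_n R_n ⊗_k S_n is presented abstractly as a graded k-algebra T with an injective
k-algebra homomorphism ψ : T → R ⊗_k S carrying T_n onto the k-span of the elementary tensors of
bidegree (n, n), T_+ is the ideal spanned by the T_n with n > 0, and R(a) # S(b) = ⊕_n R_{n+a} ⊗_k
S_{n+b} is presented abstractly as a graded T-module P with an injective k-linear map φ : P → R ⊗_k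
S carrying P_n onto the k-span of the tensors x ⊗ y with x ∈ R_{n+a}, y ∈ S_{n+b} and turning the
action of t ∈ T into that of ψ(t); a module over a ring is called Cohen–Macaulay when each of its
localizations at a prime ideal is zero or a Cohen–Macaulay module over the local ring (dimension of
the support equal to the depth), and the dimension of a module is the Krull dimension of its
support; the depth of P is its grade with respect to T_+ (the common length of the maximal P-regular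
sequences in T_+). -/
theorem result (k : Type u) [Field k] (r s : ℕ) (h2r : 2 ≤ r) (h2s : 2 ≤ s) (T : Type u) [CommRing T] [Algebra k T] (𝒯 : ℤ → Submodule k T) [GradedAlgebra 𝒯] (ψ : T →ₐ[k] TensorProduct k (MvPolynomial (Fin r) k) (MvPolynomial (Fin s) k)) (hT : GrSeg.IsSegreRing (MvPolynomial.weightedHomogeneousSubmodule k (fun _ : Fin r => (1 : ℤ))) (MvPolynomial.weightedHomogeneousSubmodule k (fun _ : Fin s => (1 : ℤ))) 𝒯 ψ) (mT : HomogeneousIdeal 𝒯) (hmT : mT.toIdeal = Ideal.span (⋃ n ∈ Set.Ioi (0 : ℤ), (𝒯 n : Set T))) (a b : ℤ) (P : Type u) [AddCommGroup P] [Module T P] [Module k P] [IsScalarTower k T P] (𝒬 : ℤ → AddSubgroup P) [DirectSum.Decomposition 𝒬] (φ : P →ₗ[k] TensorProduct k (MvPolynomial (Fin r) k) (MvPolynomial (Fin s) k)) (hP : GrSeg.IsSegreMod ψ (fun n : ℤ => (MvPolynomial.weightedHomogeneousSubmodule k (fun _ : Fin r => (1 : ℤ))) (n + a)) (fun n : ℤ => (MvPolynomial.weightedHomogeneousSubmodule k (fun _ : Fin s => (1 : ℤ))) (n + b)) 𝒬 φ) : ((∀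 (q : Ideal T) [q.IsPrime], Subsingleton (LocalizedModule q.primeCompl P) ∨ LocCoh.IsCohenMacaulayModule (Localization.AtPrime q) (LocalizedModule q.primeCompl P)) ↔ (a - b < (s : ℤ) ∧ -(r : ℤ) < a - b)) ∧ ((s : ℤ) ≤ a - b → LocCoh.idealDepth mT.toIdeal P = (s : ℕ∞)) ∧ (a - b ≤ -(r : ℤ) → LocCoh.idealDepth mT.toIdeal P = (r : ℕ∞)) := by
  classical
  let 𝒜 := GrSyz.stdGr k (Fin r)
  let ℬ := GrSyz.stdGr k (Fin s)
  letI dM := GrLib.shiftDecomp 𝒜 a
  letI dN := GrLib.shiftDecomp ℬ b
  have hT' : GrSeg.IsSegreRing 𝒜 ℬ 𝒯 ψ := hT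
  have hP' : GrSeg.IsSegreMod ψ (GrLib.shiftGr 𝒜 a) (GrLib.shiftGr ℬ b) 𝒬 φ :=
    ⟨hP.injective, hP.image_piece, hP.map_smul⟩
  have hposR := SegreLC.std_pos k r
  have h0R := SegreLC.std_zero k r
  have hposS := SegreLC.std_pos k s
  have h0S := SegreLC.std_zero k s
  have hmR := SegreLC.std_irr k r
  have hmS := SegreLC.std_irr k s
  let mR := GrSyz.irrel 𝒜
  let mS := GrSyz.irrel ℬ
  let E₀ := GrLib.starRes 𝒜 𝒜
  let F₀ := GrLib.starRes ℬ ℬ
  let EM := GrLib.shiftRes E₀ a
  let EN := GrLib.shiftRes F₀ b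
  -- pieces
  have hA : ∀ d : ℤ, GrLib.shiftGr 𝒜 a d = ⊥ ↔ d + a < 0 := fun d => by
    rw [AddSubgroup.eq_bot_iff_forall]
    refine ⟨fun h => by_contra fun hd => SegreLC.piece_ne_bot_std k r (by omega) (d + a) (by omega)
      ((Submodule.eq_bot_iff _).2 h), fun h => (Submodule.eq_bot_iff _).1 (hposR _ h)⟩
  have hB : ∀ d : ℤ, GrLib.shiftGr ℬ b d = ⊥ ↔ d + b < 0 := fun d => by
    rw [AddSubgroup.eq_bot_iff_forall]
    refine ⟨fun h => by_contra fun hd => SegreLC.piece_ne_bot_std k s (by omega) (d + b) (by omega)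
      ((Submodule.eq_bot_iff _).2 h), fun h => (Submodule.eq_bot_iff _).1 (hposS _ h)⟩
  -- local cohomology
  have hHR : ∀ (i : ℕ) (d : ℤ), (i = r → -(r : ℤ) < d + a) → EM.Hcomp mR i d = ⊥ := fun i d h =>
    (Submodule.eq_bot_iff _).2 fun x hx => GrLib.Hgr_stdGr k r i E₀ (d + a) h x hx
  have hHS : ∀ (i : ℕ) (d : ℤ), (i = s → -(s : ℤ) < d + b) → EN.Hcomp mS i d = ⊥ := fun i d h =>
    (Submodule.eq_bot_iff _).2 fun x hx => GrLib.Hgr_stdGr k s i F₀ (d + b) h x hx
  have hTopR : EM.Hcomp mR r (-(r : ℤ) - a) ≠ ⊥ := fun h => SegreLC.top_ne_bot k r E₀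
    ((Submodule.eq_bot_iff _).2 fun x hx => (Submodule.eq_bot_iff _).1 h x (by
      obtain ⟨z, hz, hzx⟩ := hx
      exact ⟨z, show (z : (E₀.X r).carrier) ∈ (E₀.X r).gr (-(r : ℤ) - a + a) by rwa [sub_add_cancel], hzx⟩))
  have hTopS : EN.Hcomp mS s (-(s : ℤ) - b) ≠ ⊥ := fun h => SegreLC.top_ne_bot k s F₀
    ((Submodule.eq_bot_iff _).2 fun x hx => (Submodule.eq_bot_iff _).1 h x (by
      obtain ⟨z, hz, hzx⟩ := hx
      exact ⟨z, show (z : (F₀.X s).carrier) ∈ (F₀.X s).gr (-(s : ℤ) - b + b) by rwa [sub_add_cancel], hzx⟩))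
  haveI : Nontrivial P := by
    obtain ⟨x, hx, hx0⟩ := Submodule.exists_mem_ne_zero_of_ne_bot
      (SegreLC.piece_ne_bot_std k r (by omega) (|a| + |b| + a) (by have := neg_abs_le a; have := abs_nonneg b; omega))
    obtain ⟨y, hy, hy0⟩ := Submodule.exists_mem_ne_zero_of_ne_bot
      (SegreLC.piece_ne_bot_std k s (by omega) (|a| + |b| + b) (by have := neg_abs_le b; have := abs_nonneg a; omega))
    obtain ⟨p, -, hp⟩ := (hP'.image_piece (|a| + |b|)).symm.subset (Submodule.subset_span ⟨x, hx, y, hy, rfl⟩)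
    refine nontrivial_of_ne p 0 fun h0 => ?_
    rw [h0, map_zero] at hp
    obtain ⟨f, hf⟩ := Module.Projective.exists_dual_ne_zero k hx0
    obtain ⟨g, hg⟩ := Module.Projective.exists_dual_ne_zero k hy0
    have := congrArg (fun w => LinearMap.mul' k k (TensorProduct.map f g w)) hp
    simp [hf, hg] at this
  haveI := Algebra.FiniteType.isNoetherianRing k (MvPolynomial (Fin r) k)
  haveI hTn := SegreLC.segre_noetherian hT'
  haveI : Module.Finite T P := by
    haveI := SegreDim.isNoetherian_segre 𝒜 (GrLib.shiftGr 𝒜 a) ℬ (GrLib.shiftGr ℬ b) 𝒯 ψ hT'.2 𝒬 φ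
      hP'.injective hP'.image_piece hP'.map_smul
    infer_instance
  haveI := SegreOne.gradedSMul' 𝒜 ℬ 𝒯 ψ hT'.2 (GrLib.shiftGr 𝒜 a) (GrLib.shiftGr ℬ b) 𝒬 φ
    hP'.injective hP'.image_piece hP'.map_smul
  let EP : GrLC.StarInjRes 𝒯 𝒬 := GrLib.starRes 𝒯 𝒬
  have hform := SegreLC.finrank_formula EM EN hposR h0R hposS h0S hT' hmR hmS hmT φ hP' EP
    (fun q d hq => hHR q d fun h => absurd h (by omega)) (fun q d hq => hHS q d fun h => absurd h (by omega))
  haveI : Nontrivial T :=
    ⟨⟨0, 1, fun h => one_ne_zero (α := MvPolynomial (Fin r) k ⊗[k] MvPolynomial (Fin s) k) (by rw [← map_one ψ, ← h, map_zero])⟩⟩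
  haveI : Nontrivial (GrLC.deg0 𝒯) :=
    nontrivial_of_ne (0 : GrLC.deg0 𝒯) 1 fun h => zero_ne_one (congrArg Subtype.val h)
  have hposT : ∀ n : ℤ, n < 0 → 𝒯 n = ⊥ := fun n hn => by
    refine Submodule.map_injective_of_injective (f := ψ.toLinearMap) hT'.1 ?_
    rw [Submodule.map_bot, hT'.2, eq_bot_iff]
    refine Submodule.span_le.2 ?_
    rintro _ ⟨x, hx, y, -, rfl⟩
    rw [show x = 0 from (Submodule.mem_bot k).1 (hposR n hn ▸ hx), TensorProduct.zero_tmul]
    exact zero_mem _
  haveI : Algebra.FiniteType k T :=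
    SegreDim.finiteType_of_isNoetherianRing 𝒯 hposT (SegreLC.segre_zero h0R h0S hT')
  have h0T := SegreLC.segre_zero h0R h0S hT'
  refine ⟨?_, fun hab => ?_, fun hab => ?_⟩
  · rw [SegreLC.cm_iff hposR h0R hposS h0S hT' hP' (SegreLC.dim_self k r) (SegreLC.dim_self k s)
      (fun q _ => SegreLC.cm_self k r q) (fun q _ => SegreLC.cm_self k s q) h2r h2s hmR hmS EM EN]
    refine ⟨fun ⟨h1, h2⟩ => ⟨?_, ?_⟩, fun ⟨h1, h2⟩ => ⟨fun d => ?_, fun d => ?_⟩⟩
    · by_contra hcon
      rcases h1 (-(s : ℤ) - b) with h | h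
      · have := (hA _).1 h; omega
      · exact hTopS h
    · by_contra hcon
      rcases h2 (-(r : ℤ) - a) with h | h
      · exact hTopR h
      · have := (hB _).1 h; omega
    · rcases lt_or_ge (d + a) 0 with h | h
      · exact Or.inl ((hA d).2 h)
      · exact Or.inr (hHS s d fun _ => by omega)
    · rcases lt_or_ge (d + b) 0 with h | h
      · exact Or.inr ((hB d).2 h)
      · exact Or.inl (hHR r d fun _ => by omega)
  · rw [LocCoh.idealDepth_eq_iff_H]
    refine ⟨fun i hi => (SegreLC.subsingleton_H_iff EP mT i).2 fun d => ?_, not_subsingleton_iff_nontrivial.1 fun h => ?_⟩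
    · rw [SegreLC.Hcomp_eq_bot_iff hposT h0T hmT EP, hform i d, hHS i d (fun e => absurd e (by omega)), finrank_bot,
        mul_zero, zero_add, Finset.sum_eq_zero fun j hj => ?_, add_zero]
      · rcases lt_or_ge (d + b) 0 with h | h
        · rw [(SegreLC.comp_eq_bot_iff h0S d).1 ((hB d).2 h), mul_zero]
        · rw [hHR i d (fun _ => by omega), finrank_bot, zero_mul]
      · have := Finset.mem_range.1 hj
        rcases lt_or_ge j r with h | h
        · rw [hHR j d (fun e => absurd e (by omega)), finrank_bot, zero_mul]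
        · rw [hHS (i + 1 - j) d (fun e => absurd e (by omega)), finrank_bot, mul_zero]
    · have h1 := (SegreLC.subsingleton_H_iff EP mT s).1 h (-(s : ℤ) - b)
      rw [SegreLC.Hcomp_eq_bot_iff hposT h0T hmT EP, hform s, Nat.add_eq_zero_iff, Nat.add_eq_zero_iff,
        Nat.mul_eq_zero] at h1
      rcases h1.1.1 with h2 | h2
      · have := (hA _).1 ((SegreLC.comp_eq_bot_iff h0R _).2 h2); omega
      · exact hTopS ((SegreLC.Hcomp_eq_bot_iff hposS h0S hmS EN s _).2 h2)
  · rw [LocCoh.idealDepth_eq_iff_H]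
    refine ⟨fun i hi => (SegreLC.subsingleton_H_iff EP mT i).2 fun d => ?_, not_subsingleton_iff_nontrivial.1 fun h => ?_⟩
    · rw [SegreLC.Hcomp_eq_bot_iff hposT h0T hmT EP, hform i d, hHR i d (fun e => absurd e (by omega)), finrank_bot,
        zero_mul, add_zero, Finset.sum_eq_zero fun j hj => ?_, add_zero]
      · rcases lt_or_ge (d + a) 0 with h | h
        · rw [(SegreLC.comp_eq_bot_iff h0R d).1 ((hA d).2 h), zero_mul]
        · rw [hHS i d (fun _ => by omega), finrank_bot, mul_zero]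
      · have := Finset.mem_range.1 hj
        rcases lt_or_ge j r with h | h
        · rw [hHR j d (fun e => absurd e (by omega)), finrank_bot, zero_mul]
        · rw [hHS (i + 1 - j) d (fun e => absurd e (by omega)), finrank_bot, mul_zero]
    · have h1 := (SegreLC.subsingleton_H_iff EP mT r).1 h (-(r : ℤ) - a)
      rw [SegreLC.Hcomp_eq_bot_iff hposT h0T hmT EP, hform r, Nat.add_eq_zero_iff, Nat.add_eq_zero_iff,
        Nat.mul_eq_zero, Nat.mul_eq_zero] at h1
      rcases h1.1.2 with h2 | h2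
      · exact hTopR ((SegreLC.Hcomp_eq_bot_iff hposR h0R hmR EM r _).2 h2)
      · have := (hB _).1 ((SegreLC.comp_eq_bot_iff h0S _).2 h2); omega
end Groth.Agent.S19763
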