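import Groth.Statements.S19770
import Groth.Agent.KLLib.Basic
-- import your own Groth.Agent.* helpers here

set_option autoImplicit false
universe u
open CategoryTheory MonoidalCategory CartesianMonoidalCategory MonObj GrpObj AlgebraicGeometry
open AbVar

open Groth.Agent.PicLib Groth.Agent.KLLib
namespace Groth.Agent.S19770

/-- Let X be an abelian variety over a field k (a proper, geometrically integral k-group scheme), L an
invertible O_X-module, i : K → X a closed immersion exhibiting K as K(L) (the maximal closed
subscheme over which the Mumford bundle m^*L ⊗ p_1^*L⁻¹ ⊗ p_2^*L⁻¹, restricted to X ×_k K, is the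
inverse image of an invertible module on K, with its universal property), and B a k-group scheme
with a homomorphism j : B → X that factors through i. Write M = j^*L. Then M ⊗ [-1]^*M ≅ O_B, where
[-1] : B → B is the inversion (existence of an isomorphism). (The published statement assumes k
algebraically closed and takes for B the reduced identity component of K(L), an abelian subvariety;
the argument — restrict the Mumford bundle to B × B and pull back along (1, -1) — applies to any
group scheme over k mapping homomorphically into K(L).) -/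
theorem result (k : Type u) [Field k] (X : Over (Spec (CommRingCat.of k)))
    [GrpObj X] [IsProper X.hom] [GeometricallyIntegral X.hom] (L : X.left.Modules) (hL : PicF.IsInvertible L)
    (K : Over (Spec (CommRingCat.of k))) (i : K ⟶ X) (hK : ThetaGrp.IsKL X L i)
    (B : Over (Spec (CommRingCat.of k))) [GrpObj B] (j : B ⟶ X) [IsMonHom j] (hj : ∃ y : B ⟶ K, y ≫ i = j) :
    Nonempty (CohB1.tensorMod ((Scheme.Modules.pullback j.left).obj L)
        ((Scheme.Modules.pullback ((𝟙 B)⁻¹ ≫ j).left).obj L) ≅ Coh.structureModule B.left) := by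
  obtain ⟨m, hm⟩ := (factors_iff hK hL j).1 hj
  have hm1 := eq_pull hm
  have h' := congrArg (PicM.pull (lift ((𝟙 B)⁻¹ ≫ j) (𝟙 B)).left) hm
  have hz : ((𝟙 B)⁻¹ ≫ j) * j = 1 := by
    calc ((𝟙 B)⁻¹ ≫ j) * j = ((𝟙 B)⁻¹ ≫ j) * (𝟙 B ≫ j) := by rw [Category.id_comp]
      _ = ((𝟙 B)⁻¹ * 𝟙 B) ≫ j := (MonObj.mul_comp _ _ _).symm
      _ = 1 := by rw [inv_mul_cancel, MonObj.one_comp]
  rw [map_mul, PicM.pull_pull, PicM.pull_pull, PicM.pull_pull, ← Over.comp_left, ← Over.comp_left, ← Over.comp_left,
    MonObj.comp_mul, lift_fst, ← Category.assoc, lift_snd, Category.id_comp, hz, pull_one hL,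
    Over.id_left, PicM.pull_id, hm1, _root_.mul_comm] at h'
  exact (PicM.of_eq_one_iff (AmpleLib.isInvertible_tensorMod (PicLoc.isInvertible_pullback j.left hL)
    (PicLoc.isInvertible_pullback ((𝟙 B)⁻¹ ≫ j).left hL))).1 h'.symm

end Groth.Agent.S19770
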