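import Groth.Statements.S19949
import Groth.Agent.ThetaLib.Commute

set_option autoImplicit false
set_option backward.isDefEq.respectTransparency.types false
set_option linter.style.haveILetI false
set_option linter.unusedVariables false
universe u
open CategoryTheory MonoidalCategory CartesianMonoidalCategory MonObj GrpObj AlgebraicGeometry
open ThetaGrp Pseudofunctor Bicategory
open Groth.Agent Groth.Agent.ThetaLib Groth.Agent.PicLib

namespace Groth.Agent.S19949

/-- Let f : X → Y be a surjective homomorphism of abelian varieties over a field k (proper,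
geometrically integral, commutative k-group schemes), i : N → X its kernel (a homomorphism forming a
cartesian square with the unit section of Y), M an invertible O_Y-module and L = f^*M. Let i_L : K_L
→ X and i_M : K_M → Y be closed immersions exhibiting K_L as K(L) and K_M as K(M): the maximal
closed subschemes over which the Mumford bundles of L, resp. M, restricted to X ×_k K_L, resp. Y ×_k
K_M, are inverse images of invertible modules on K_L, resp. K_M, with their universal properties.
Then f⁻¹(K(M)) = Ker(f)^⊥ inside K(L): for a k-scheme T and a T-valued point x of X, the point f(x)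
factors through i_M if and only if x factors through i_L and x is orthogonal to N for the commutator
pairing e_L, meaning that after every base change T' → T every point of G(L)(T') lying over the
translation by x commutes with every point lying over the translation by a point of N. (In
particular every point x with f(x) in K(M) lies in K(f^*M). The source's further identifications of
G(M) with the centralizer of the level subgroup modulo it, and of K(M) with Ker(f)^⊥/Ker(f), are not
part of this statement.) -/
theorem result (k : Type u) [Field k]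
    (A : Over (Spec (CommRingCat.of k))) [GrpObj A] [IsCommMonObj A] [IsProper A.hom] [GeometricallyIntegral A.hom]
    (B : Over (Spec (CommRingCat.of k))) [GrpObj B] [IsCommMonObj B] [IsProper B.hom] [GeometricallyIntegral B.hom]
    (f : A ⟶ B) [IsMonHom f] (hf : Surjective f.left)
    (N : Over (Spec (CommRingCat.of k))) [GrpObj N] (i : N ⟶ A) [IsMonHom i] (hN : AlgGrp.IsKernel i f)
    (M : B.left.Modules) (hM : PicF.IsInvertible M)
    (KL : Over (Spec (CommRingCat.of k))) (iL : KL ⟶ A)
    (hKL : ThetaGrp.IsKL A ((Scheme.Modules.pullback f.left).obj M) iL)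
    (KM : Over (Spec (CommRingCat.of k))) (iM : KM ⟶ B) (hKM : ThetaGrp.IsKL B M iM)
    (T : Over (Spec (CommRingCat.of k))) (x : T ⟶ A) :
    (∃ y : T ⟶ KM, y ≫ iM = x ≫ f) ↔
      ((∃ y : T ⟶ KL, y ≫ iL = x) ∧ ThetaGrp.IsPerpPt ((Scheme.Modules.pullback f.left).obj M) i x) := by
  have hL := PicLoc.isInvertible_pullback f.left hM
  have hif : i ≫ f = 1 := hN.w.trans Hom.one_def.symm
  constructor
  · rintro ⟨y, hy⟩
    obtain ⟨m, hm⟩ := (KLLib.factors_iff hKM hM (x ≫ f)).1 ⟨y, hy⟩
    refine ⟨(KLLib.factors_iff hKL hL x).2 ⟨m, ?_⟩, ?_⟩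
    · have h := congrArg (PicM.pull (f ▷ T).left) hm
      have e1 : (f ▷ T) ≫ (fst B T * (snd B T ≫ x ≫ f)) = (fst A T * (snd A T ≫ x)) ≫ f := by
        rw [MonObj.comp_mul, MonObj.mul_comp, whiskerRight_fst, whiskerRight_snd_assoc, Category.assoc]
      rw [map_mul, PicM.pull_pull, PicM.pull_pull, PicM.pull_pull, ← Over.comp_left, ← Over.comp_left,
        ← Over.comp_left, e1, whiskerRight_fst, whiskerRight_snd, Over.comp_left, Over.comp_left, ← PicM.pull_pull,
        ← PicM.pull_pull, PicM.pull_of f.left hM] at h
      exact h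
    · intro W t n β₁ β₂ h₁ h₂
      obtain ⟨m', hm'⟩ := (KLLib.factors_iff hKM hM ((t ≫ x) ≫ f)).1
        ⟨t ≫ y, by rw [Category.assoc, hy, Category.assoc]⟩
      exact commute_of_translates f hM h₁ h₂ (by rw [Category.assoc, hif, MonObj.comp_one]) hm'
  · rintro ⟨hy, hperp⟩
    obtain ⟨m, hm⟩ := (KLLib.factors_iff hKL hL x).1 hy
    haveI := hKM.closed
    refine exists_factor_of_opens iM (x ≫ f) fun p => ?_
    obtain ⟨U, hpU, hU⟩ := exists_open_pull_eq_one m p
    let ι' : Over.mk (U.ι ≫ T.hom) ⟶ T := Over.homMk U.ι
    have h1 : PicM.pull ι'.left m = 1 := hU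
    have h2 := translates_comp hm ι'
    rw [h1] at h2
    obtain ⟨β, hβ⟩ := (exists_overPt_iff hL (ι' ≫ x)).2 h2
    obtain ⟨b, hb⟩ := exists_pt_of_commute f hM i hf hN hβ (fun W t n βt α h₁ h₂ =>
      hperp W (t ≫ ι') n βt α (by rw [Category.assoc]; exact h₁) h₂)
    refine ⟨U, hpU, ?_⟩
    obtain ⟨y, hy'⟩ := (KLLib.factors_iff hKM hM _).2 ⟨1, (exists_overPt_iff hM _).1 ⟨b, hb⟩⟩
    exact ⟨y, hy'.trans (Category.assoc _ _ _)⟩

end Groth.Agent.S19949
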