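import Groth.Statements.S19953
import Groth.Agent.ThetaLib.Cartesian

set_option autoImplicit false
set_option backward.isDefEq.respectTransparency.types false
universe u
open CategoryTheory MonoidalCategory CartesianMonoidalCategory MonObj GrpObj AlgebraicGeometry
open ThetaGrp Pseudofunctor Bicategory
open Groth.Agent Groth.Agent.ThetaLib

namespace Groth.Agent.S19953

/-- Let f : X → Y be a surjective homomorphism of abelian varieties over a field k (proper,
geometrically integral, commutative k-group schemes), i : N → X its kernel (a homomorphism forming a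
cartesian square with the unit section of Y), L an invertible O_X-module, M an invertible O_Y-module
with f^*M ≅ L, and G a k-group scheme with a point u ∈ G(L)(G) representing the theta group of L
(every point of G(L)(T) is the base change of u along a unique T → G, multiplicatively). Then there
is a level subgroup of G(L) whose image in K(L) is Ker(f): a homomorphism of group schemes j : N → G
that is an immersion, such that a point of N whose image lies over the identity translation is
trivial, and that lies over i (for every k-scheme T and T-valued point n of N, the base change of u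
along j(n) lies over the translation by i(n)). -/
theorem result (k : Type u) [Field k]
    (A : Over (Spec (CommRingCat.of k))) [GrpObj A] [IsCommMonObj A] [IsProper A.hom] [GeometricallyIntegral A.hom]
    (B : Over (Spec (CommRingCat.of k))) [GrpObj B] [IsCommMonObj B] [IsProper B.hom] [GeometricallyIntegral B.hom]
    (f : A ⟶ B) [IsMonHom f] (hf : Surjective f.left)
    (N : Over (Spec (CommRingCat.of k))) [GrpObj N] (i : N ⟶ A) [IsMonHom i] (hN : AlgGrp.IsKernel i f)
    (L : A.left.Modules) (hL : PicF.IsInvertible L)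
    (M : B.left.Modules) (hM : PicF.IsInvertible M)
    (hLM : Nonempty ((Scheme.Modules.pullback f.left).obj M ≅ L))
    (G : Over (Spec (CommRingCat.of k))) [GrpObj G] (u : ThetaGrp.thetaPts A L G)
    (hG : ThetaGrp.IsThetaGrpSch A L G u) :
    ∃ j : N ⟶ G, IsMonHom j ∧ ThetaGrp.IsLevelSubgrp u j ∧
      ∀ (T : Over (Spec (CommRingCat.of k))) (n : T ⟶ N) (β : ThetaGrp.thetaPts A L T),
        ThetaGrp.IsBaseChange β (n ≫ j) u → ThetaGrp.IsOverPt β (n ≫ i) := by
  have hf' : Surjective f.left := hf
  obtain ⟨e⟩ := hLM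
  let c : modObj L ⟶ modObj M := ⟨f.left, e.inv⟩
  haveI : IsIso c.fiber := inferInstanceAs (IsIso e.inv)
  let q : ∀ T, ThetaGrp.thetaObj A L T ⟶ modObj M := fun T => proj L T ≫ c
  haveI : ∀ T, IsIso (q T).fiber := fun T => isIso_comp_fiber _ _
  have qb : ∀ T, (q T).base = (fst A T ≫ f).left := fun T => rfl
  have hex : ∀ T (a : T ⟶ A), a ≫ f = 1 →
      ∃ α : ThetaGrp.thetaPts A L T, ThetaGrp.IsOverPt α a ∧ α.1.hom ≫ q T = q T := by
    intro T a ha
    have h : ThetaGrp.transl A a ≫ fst A T ≫ f = fst A T ≫ f := by
      rw [← Category.assoc, KLLib.transl_comp_fst, MonObj.mul_comp, Category.assoc, ha, MonObj.comp_one, _root_.mul_one]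
    obtain ⟨α, hb, hq⟩ := exists_aut_lift (q T)
      ((Over.forget _).mapIso (asIso (ThetaGrp.transl A a))) (Iso.refl _) (by
        simp only [Iso.refl_hom, CoGrothendieck.categoryStruct_id_base, Category.comp_id, qb]
        exact congrArg (fun t => t.left) h)
    exact ⟨⟨α, a, hb⟩, hb, by simpa using hq⟩
  choose α hα hαq using hex
  have huniq : ∀ T (a : T ⟶ A) (ha : a ≫ f = 1) (β : ThetaGrp.thetaPts A L T),
      ThetaGrp.IsOverPt β a → β.1.hom ≫ q T = q T → β = α T a ha := fun T a ha β h1 h2 =>
    Subtype.ext (Iso.ext (hom_ext_of_fiber (q T) (h1.trans (hα T a ha).symm) (h2.trans (hαq T a ha).symm)))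
  have hif : i ≫ f = 1 := hN.w
  have hn : ∀ {T} (n : T ⟶ N), (n ≫ i) ≫ f = 1 := fun n => by
    rw [Category.assoc, hif, MonObj.comp_one]
  obtain ⟨j, hju, -⟩ := hG.univ N (α N i hif)
  have hbc : ∀ {T} (n : T ⟶ N), ThetaGrp.IsBaseChange (α T (n ≫ i) (hn n)) (n ≫ j) u := by
    intro T n
    have key : (α T (n ≫ i) (hn n)).1.hom ≫ ThetaGrp.bcLift A L n =
        ThetaGrp.bcLift A L n ≫ (α N i hif).1.hom := by
      refine hom_ext_of_fiber (q N) ?_ ?_
      · rw [CoGrothendieck.categoryStruct_comp_base, CoGrothendieck.categoryStruct_comp_base, hα T, hα N]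
        exact congrArg (fun t => t.left) (transl_whisker n i)
      · simp only [q, Category.assoc] at hαq ⊢
        rw [reassoc_of% bcLift_proj L n, hαq T, hαq N, reassoc_of% bcLift_proj L n]
    rw [ThetaGrp.IsBaseChange, bcLift_comp, ← Category.assoc, key, Category.assoc, hju, ← Category.assoc]
  have hmul : ∀ {T} (n m : T ⟶ N), (n * m) ≫ j = (n ≫ j) * (m ≫ j) := by
    intro T n m
    have e : α T (n ≫ i) (hn n) * α T (m ≫ i) (hn m) = α T ((n * m) ≫ i) (hn _) := by
      refine huniq T _ _ _ ?_ ?_
      · rw [ThetaGrp.IsOverPt, Subgroup.coe_mul, Aut.Aut_mul_def, Iso.trans_hom,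
          CoGrothendieck.categoryStruct_comp_base, hα, hα, MonObj.mul_comp, mul_comm, ThetaGrp.transl_mul, Over.comp_left]
      · rw [Subgroup.coe_mul, Aut.Aut_mul_def, Iso.trans_hom, Category.assoc, hαq, hαq]
    have h1 := hG.mul T _ _ _ _ (hbc n) (hbc m)
    rw [e] at h1
    exact (hG.univ T _).unique (hbc (n * m)) h1
  haveI hjm : IsMonHom j := by
    refine ⟨?_, ?_⟩
    · have h := hmul (1 : 𝟙_ _ ⟶ N) 1
      rw [_root_.one_mul, left_eq_mul, Hom.one_def, Hom.one_def, toUnit_unit, Category.id_comp] at h
      simpa using h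
    · have h := hmul (fst N N) (snd N N)
      rwa [Hom.mul_def, Hom.mul_def, lift_fst_snd, Category.id_comp, ← lift_map, lift_fst_snd, Category.id_comp] at h
  haveI hci : IsClosedImmersion η[B].left := by
    haveI : IsClosedImmersion (η[B].left ≫ B.hom) := by rw [Over.w η[B]]; exact inferInstanceAs (IsClosedImmersion (𝟙 _))
    exact IsClosedImmersion.of_comp η[B].left B.hom
  haveI hi : IsClosedImmersion i.left :=
    MorphismProperty.of_isPullback (P := @IsClosedImmersion) (hN.map (Over.forget _)).flip hci
  obtain ⟨π, hπ⟩ := u.2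
  have hjπ : j ≫ π = i := isOverPt_unique (isOverPt_baseChange hju hπ) (hα N i hif)
  haveI : IsImmersion (j.left ≫ π.left) := by rw [← Over.comp_left, hjπ]; infer_instance
  refine ⟨j, hjm, ⟨IsImmersion.of_comp j.left π.left, hjm, ?_⟩, ?_⟩
  · intro T h β hb h1
    have e := (hG.exists_bc T _).unique hb (hbc h)
    subst e
    haveI : Mono i := Functor.mono_of_mono_map (Over.forget _) (inferInstanceAs (Mono i.left))
    rw [← cancel_mono i, MonObj.one_comp]
    exact isOverPt_unique (hα T _ _) h1
  · intro T n β hb
    have e := (hG.exists_bc T _).unique hb (hbc n)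
    subst e
    exact hα T _ _

end Groth.Agent.S19953
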