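import Groth.Statements.S19947
import Groth.Agent.S19953
import Groth.Agent.ThetaLib.Effective
import Groth.Agent.ThetaLib.Commute

set_option autoImplicit false
set_option backward.isDefEq.respectTransparency.types false
set_option linter.style.haveILetI false
set_option linter.unusedVariables false
universe u
open CategoryTheory MonoidalCategory CartesianMonoidalCategory MonObj GrpObj AlgebraicGeometry
open ThetaGrp Pseudofunctor Bicategory
open Groth.Agent Groth.Agent.ThetaLib Groth.Agent.PicLib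

namespace Groth.Agent.S19947

/-- Let f : X → Y be a surjective homomorphism of abelian varieties over a field k (proper,
geometrically integral, commutative k-group schemes), i : N → X its kernel (a homomorphism of
k-group schemes forming a cartesian square with the unit section of Y), L an invertible O_X-module,
and G a k-group scheme with a point u ∈ G(L)(G) representing the theta group of L (every point of
G(L)(T) is the base change of u along a unique T → G, multiplicatively). Then L descends to Y, i.e.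
there is an invertible O_Y-module M with f^*M ≅ L, if and only if the inclusion i lifts to a
homomorphism of group schemes j : N → G over X: for every k-scheme T and every T-valued point n of
N, the base change of u along j(n) lies over the translation by i(n). (The source states a bijection
between the isomorphism classes of such M and the set of such homomorphisms; this row states that
one set is non-empty exactly when the other is.) -/
theorem result (k : Type u) [Field k]
    (A : Over (Spec (CommRingCat.of k))) [GrpObj A] [IsCommMonObj A] [IsProper A.hom] [GeometricallyIntegral A.hom]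
    (B : Over (Spec (CommRingCat.of k))) [GrpObj B] [IsCommMonObj B] [IsProper B.hom] [GeometricallyIntegral B.hom]
    (f : A ⟶ B) [IsMonHom f] (hf : Surjective f.left)
    (N : Over (Spec (CommRingCat.of k))) [GrpObj N] (i : N ⟶ A) [IsMonHom i] (hN : AlgGrp.IsKernel i f)
    (L : A.left.Modules) (hL : PicF.IsInvertible L)
    (G : Over (Spec (CommRingCat.of k))) [GrpObj G] (u : ThetaGrp.thetaPts A L G)
    (hG : ThetaGrp.IsThetaGrpSch A L G u) :
    (∃ M : B.left.Modules, PicF.IsInvertible M ∧ Nonempty ((Scheme.Modules.pullback f.left).obj M ≅ L)) ↔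
      ∃ j : N ⟶ G, IsMonHom j ∧
        ∀ (T : Over (Spec (CommRingCat.of k))) (n : T ⟶ N) (β : ThetaGrp.thetaPts A L T),
          ThetaGrp.IsBaseChange β (n ≫ j) u → ThetaGrp.IsOverPt β (n ≫ i) := by
  constructor
  · rintro ⟨M, hM, hLM⟩
    obtain ⟨j, h1, -, h2⟩ := S19953.result k A B f hf N i hN L hL M hM hLM G u hG
    exact ⟨j, h1, h2⟩
  rintro ⟨j, hjm, hover⟩
  haveI := hjm
  haveI hf' : Surjective f.left := hf
  haveI : Flat f.left := AbVarLib.flat_of_surjective f
  haveI : IsProper (f.left ≫ B.hom) := by rw [Over.w f]; infer_instance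
  haveI : IsProper f.left := IsProper.of_comp f.left B.hom
  haveI : LocallyOfFinitePresentation (f.left ≫ B.hom) := by rw [Over.w f]; infer_instance
  haveI : LocallyOfFinitePresentation f.left := Groth.Agent.H8Lim.lfp_cancel_right f.left B.hom
  haveI hci : IsClosedImmersion η[B].left := by
    haveI : IsClosedImmersion (η[B].left ≫ B.hom) := by rw [Over.w η[B]]; exact inferInstanceAs (IsClosedImmersion (𝟙 _))
    exact IsClosedImmersion.of_comp η[B].left B.hom
  haveI hi : IsClosedImmersion i.left :=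
    MorphismProperty.of_isPullback (P := @IsClosedImmersion) (hN.map (Over.forget _)).flip hci
  haveI : Mono i := Functor.mono_of_mono_map (Over.forget _) (inferInstanceAs (Mono i.left))
  -- the point of the theta group at a kernel point, and its basic rules
  have hpt : ∀ (T : Over (Spec (CommRingCat.of k))) (n : T ⟶ N), ∃ β : ThetaGrp.thetaPts A L T,
      ThetaGrp.IsBaseChange β (n ≫ j) u ∧ ThetaGrp.IsOverPt β (n ≫ i) := fun T n => by
    obtain ⟨β, hβ, -⟩ := hG.exists_bc T (n ≫ j)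
    exact ⟨β, hβ, hover T n β hβ⟩
  choose P hP hPi using hpt
  have hP1 : ∀ T, P T 1 = 1 := fun T => by
    have h := hG.mul T _ _ _ _ (hP T 1) (hP T 1)
    rw [MonObj.one_comp, _root_.one_mul, ← MonObj.one_comp j] at h
    exact mul_eq_left.1 ((hG.exists_bc T _).unique h (hP T 1))
  have hPmul : ∀ T n m, P T n * P T m = P T (n * m) := fun T n m => by
    have h := hG.mul T _ _ _ _ (hP T n) (hP T m)
    rw [← MonObj.mul_comp] at h
    exact (hG.exists_bc T _).unique h (hP T _)
  have hPres : ∀ {W T : Over (Spec (CommRingCat.of k))} (t : W ⟶ T) (n : T ⟶ N),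
      (P W (t ≫ n)).1.hom ≫ ThetaGrp.bcLift A L t = ThetaGrp.bcLift A L t ≫ (P T n).1.hom := by
    intro W T t n
    obtain ⟨β, hβ, e⟩ := exists_res t (hPi T n)
    have hb : ThetaGrp.IsBaseChange β ((t ≫ n) ≫ j) u := by
      rw [ThetaGrp.IsBaseChange, Category.assoc, bcLift_comp, reassoc_of% e, hP T n, Category.assoc]
    obtain rfl := (hG.exists_bc W _).unique hb (hP W (t ≫ n))
    exact e
  -- the morphisms of the descent datum
  let W : ∀ {Y : Scheme.{u}}, (Y ⟶ A.left) → Over (Spec (CommRingCat.of k)) := fun p => Over.mk (p ≫ A.hom)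
  let pt : ∀ {Y : Scheme.{u}} (p : Y ⟶ A.left), W p ⟶ A := fun p => Over.homMk p rfl
  have hw : ∀ {Y : Scheme.{u}} {f₁ f₂ : Y ⟶ A.left}, f₁ ≫ f.left = f₂ ≫ f.left → f₂ ≫ A.hom = f₁ ≫ A.hom :=
    fun {Y f₁ f₂} h => by rw [← Over.w f, ← Category.assoc, ← h, Category.assoc]
  have hker : ∀ {Y : Scheme.{u}} (f₁ f₂ : Y ⟶ A.left) (h : f₁ ≫ f.left = f₂ ≫ f.left),
      ∃ n : W f₁ ⟶ N, n ≫ i = (pt f₁)⁻¹ * Over.homMk f₂ (hw h) := by
    intro Y f₁ f₂ h
    have e : pt f₁ ≫ f = (Over.homMk f₂ (hw h) : W f₁ ⟶ A) ≫ f := Over.OverMorphism.ext h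
    have hz : ((pt f₁)⁻¹ * Over.homMk f₂ (hw h)) ≫ f = 1 := by
      rw [MonObj.mul_comp, GrpObj.inv_comp, e, inv_mul_cancel]
    exact ⟨hN.lift _ (toUnit _) (hz.trans Hom.one_def), hN.lift_fst _ _ _⟩
  choose n hn using @hker
  have hρ : ∀ {Y : Scheme.{u}} (p : Y ⟶ A.left), ∃ ρ : dom (F := ThetaGrp.modPF.{u}) L p ⟶ ThetaGrp.thetaObj A L (W p),
      ρ.base = (lift (pt p) (𝟙 (W p))).left ∧ ρ ≫ proj L (W p) = CoGrothendieck.cartesianLift (F := ThetaGrp.modPF.{u}) L p := by
    intro Y p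
    refine exists_lift_of_fiber (proj L (W p)) (CoGrothendieck.cartesianLift (F := ThetaGrp.modPF.{u}) L p) _ ?_
    show p = (lift (pt p) (𝟙 (W p))).left ≫ (fst A (W p)).left
    rw [← Over.comp_left, lift_fst]
    rfl
  choose ρ hρb hρp using @hρ
  let Θ : ∀ ⦃Y : Scheme.{u}⦄ (f₁ f₂ : Y ⟶ A.left), f₁ ≫ f.left = f₂ ≫ f.left →
      (dom (F := ThetaGrp.modPF.{u}) L f₁ ⟶ (⟨A.left, L⟩ : CoGrothendieck ThetaGrp.modPF.{u})) :=
    fun Y f₁ f₂ h => ρ f₁ ≫ (P _ (n f₁ f₂ h)).1.hom ≫ proj L (W f₁)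
  have htr : ∀ {Y : Scheme.{u}} (f₁ f₂ : Y ⟶ A.left) (h : f₁ ≫ f.left = f₂ ≫ f.left),
      lift (pt f₁) (𝟙 _) ≫ ThetaGrp.transl A (n f₁ f₂ h ≫ i) = lift (Over.homMk f₂ (hw h)) (𝟙 _) := by
    intro Y f₁ f₂ h
    refine CartesianMonoidalCategory.hom_ext _ _ ?_ ?_
    · simp [ThetaGrp.transl, hn, MonObj.comp_mul, mul_inv_cancel_left]
    · simp [ThetaGrp.transl]
  have hΘb : ∀ ⦃Y : Scheme.{u}⦄ (f₁ f₂ : Y ⟶ A.left) h, (Θ f₁ f₂ h).base = f₂ := by
    intro Y f₁ f₂ h
    show (ρ f₁).base ≫ (P _ (n f₁ f₂ h)).1.hom.base ≫ (fst A (W f₁)).left = f₂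
    rw [hρb, hPi, ← Over.comp_left, ← Over.comp_left, reassoc_of% htr, lift_fst]
    rfl
  refine exists_invertible_descent f.left hL Θ hΘb ?_ ?_ ?_
  · intro Y Y' g f₁ f₂ h h'
    let t : W (g ≫ f₁) ⟶ W f₁ := Over.homMk g (Category.assoc _ _ _).symm
    have hρt : pullMap (F := ThetaGrp.modPF.{u}) L f₁ g ≫ ρ f₁ = ρ (g ≫ f₁) ≫ ThetaGrp.bcLift A L t := by
      refine hom_ext_proj ?_ ?_
      · rw [CoGrothendieck.categoryStruct_comp_base, CoGrothendieck.categoryStruct_comp_base, hρb, hρb]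
        show t.left ≫ (lift (pt f₁) (𝟙 _)).left = (lift (pt (g ≫ f₁)) (𝟙 _)).left ≫ (A ◁ t).left
        rw [← Over.comp_left, ← Over.comp_left, lift_whiskerLeft, comp_lift, Category.id_comp, Category.comp_id]
        congr 2
      · rw [Category.assoc, Category.assoc, hρp, bcLift_proj, hρp]
        exact pullMap_comp_cart (F := ThetaGrp.modPF.{u}) L f₁ g
    have hnt : n (g ≫ f₁) (g ≫ f₂) h' = t ≫ n f₁ f₂ h := by
      rw [← cancel_mono i, Category.assoc, hn, hn, MonObj.comp_mul, GrpObj.comp_inv]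
      congr 2
    show pullMap (F := ThetaGrp.modPF.{u}) L f₁ g ≫ ρ f₁ ≫ _ ≫ _ = ρ (g ≫ f₁) ≫ _ ≫ _
    rw [reassoc_of% hρt, ← reassoc_of% (hPres t (n f₁ f₂ h)), bcLift_proj, hnt]
  · intro Y p h
    have h1 : n p p h = 1 := by
      rw [← cancel_mono i, hn, MonObj.one_comp]
      exact inv_mul_cancel (pt p)
    show ρ p ≫ _ ≫ _ = _
    rw [h1, hP1, ← hρp p]
    exact congrArg (ρ p ≫ ·) (Category.id_comp _)
  · intro Y f₁ f₂ f₃ h₁₂ h₂₃ h₁₃ ψ hψ
    let e : W f₁ ⟶ W f₂ := Over.homMk (𝟙 Y) ((Category.id_comp _).trans (hw h₁₂))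
    have hρe : (CoGrothendieck.ι ThetaGrp.modPF.{u} Y).map ψ ≫ ρ f₂ =
        ρ f₁ ≫ (P _ (n f₁ f₂ h₁₂)).1.hom ≫ ThetaGrp.bcLift A L e := by
      refine hom_ext_proj ?_ ?_
      · rw [CoGrothendieck.categoryStruct_comp_base, CoGrothendieck.categoryStruct_comp_base,
          CoGrothendieck.categoryStruct_comp_base, hρb, hρb, hPi]
        show e.left ≫ (lift (pt f₂) (𝟙 _)).left = (lift (pt f₁) (𝟙 _)).left ≫ (ThetaGrp.transl A _).left ≫ (A ◁ e).left
        rw [← Over.comp_left, ← Over.comp_left, ← Over.comp_left, reassoc_of% htr, lift_whiskerLeft, comp_lift,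
          Category.id_comp, Category.comp_id]
        congr 2
      · refine (Category.assoc _ _ _).trans ((congrArg (fun z => (CoGrothendieck.ι ThetaGrp.modPF.{u} Y).map ψ ≫ z) (hρp f₂)).trans
          (hψ.trans ?_))
        exact (congrArg (fun z => ρ f₁ ≫ (P _ (n f₁ f₂ h₁₂)).1.hom ≫ z) (bcLift_proj L e).symm).trans
          ((congrArg (fun z => ρ f₁ ≫ z) (Category.assoc _ _ _).symm).trans (Category.assoc _ _ _).symm)
    have hne : n f₁ f₃ h₁₃ = (e ≫ n f₂ f₃ h₂₃) * n f₁ f₂ h₁₂ := by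
      rw [← cancel_mono i, MonObj.mul_comp, Category.assoc, hn, hn, hn, MonObj.comp_mul, GrpObj.comp_inv,
        show e ≫ pt f₂ = Over.homMk f₂ (hw h₁₂) from Over.OverMorphism.ext (Category.id_comp f₂),
        show e ≫ (Over.homMk f₃ (hw h₂₃) : W f₂ ⟶ A) = Over.homMk f₃ (hw h₁₃) from
          Over.OverMorphism.ext (Category.id_comp f₃), mul_comm (pt f₁)⁻¹ (Over.homMk f₂ (hw h₁₂) : W f₁ ⟶ A),
        mul_comm _ ((Over.homMk f₂ (hw h₁₂) : W f₁ ⟶ A) * _), mul_comm (Over.homMk f₂ (hw h₁₂) : W f₁ ⟶ A),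
        _root_.mul_assoc, mul_inv_cancel_left]
    show _ ≫ ρ f₂ ≫ _ ≫ _ = ρ f₁ ≫ _ ≫ _
    refine (Category.assoc _ _ _).symm.trans ((congrArg
      (fun z => z ≫ (P _ (n f₂ f₃ h₂₃)).1.hom ≫ proj L (W f₂)) hρe).trans ?_)
    refine (Category.assoc _ _ _).trans (congrArg (ρ f₁ ≫ ·) ?_)
    rw [Category.assoc, ← reassoc_of% (hPres e (n f₂ f₃ h₂₃)), bcLift_proj, hne, ← hPmul, mul_hom, Category.assoc]

end Groth.Agent.S19947
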