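import Groth.Statements.S19948
import Groth.Agent.S19947
import Groth.Agent.S19953
import Groth.Agent.ThetaLib.IsotropicLift

set_option autoImplicit false
set_option backward.isDefEq.respectTransparency.types false
set_option linter.style.haveILetI false
universe u
open CategoryTheory MonoidalCategory CartesianMonoidalCategory MonObj GrpObj AlgebraicGeometry
open ThetaGrp

namespace Groth.Agent.S19948

/-- Let k be an algebraically closed field, f : X → Y an isogeny of abelian varieties over k (X, Y
proper, geometrically integral, commutative k-group schemes; f a finite surjective homomorphism), i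
: N → X the kernel of f (a homomorphism forming a cartesian square with the unit section of Y), L an
invertible O_X-module and i_K : K → X a closed immersion exhibiting K as K(L), the maximal closed
subscheme of X over which the Mumford bundle m^*L ⊗ p_1^*L⁻¹ ⊗ p_2^*L⁻¹, restricted to X ×_k K, is
the inverse image of an invertible module on K, with its universal property. Then L is the inverse
image of an invertible O_Y-module (there is an invertible M on Y with f^*M ≅ L) if and only if the
kernel of f lies inside K(L) as a subgroup scheme and the commutator pairing e_L is trivial on it: i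
factors through i_K, and for every k-scheme T any two points (x₁, φ₁), (x₂, φ₂) of G(L)(T) whose
translations are by points of N commute. (Algebraic closedness is used for the converse; over other
fields an isotropic kernel descends in general only after a finite extension of k.) -/
theorem result (k : Type u) [Field k] [IsAlgClosed k]
    (A : Over (Spec (CommRingCat.of k))) [GrpObj A] [IsCommMonObj A] [IsProper A.hom] [GeometricallyIntegral A.hom]
    (B : Over (Spec (CommRingCat.of k))) [GrpObj B] [IsCommMonObj B] [IsProper B.hom] [GeometricallyIntegral B.hom]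
    (f : A ⟶ B) [IsMonHom f] [IsFinite f.left] (hf : Surjective f.left)
    (N : Over (Spec (CommRingCat.of k))) [GrpObj N] (i : N ⟶ A) [IsMonHom i] (hN : AlgGrp.IsKernel i f)
    (L : A.left.Modules) (hL : PicF.IsInvertible L)
    (K : Over (Spec (CommRingCat.of k))) (iK : K ⟶ A) (hK : ThetaGrp.IsKL A L iK) :
    (∃ M : B.left.Modules, PicF.IsInvertible M ∧ Nonempty ((Scheme.Modules.pullback f.left).obj M ≅ L)) ↔
      ((∃ y : N ⟶ K, y ≫ iK = i) ∧ ThetaGrp.IsIsotropic L i) := by
  obtain ⟨G, _, u, hG, -⟩ := ThetaLib.exists_isThetaGrpSch (A := A) (L := L) hL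
  haveI : Mono i := AlgGrpLib.kernel_mono hN
  haveI : IsFinite N.hom := by
    have := MorphismProperty.of_isPullback (P := @IsFinite) (IsPullback.map (Over.forget _) hN) ‹IsFinite f.left›
    simpa [Over.toUnit_left] using this
  constructor
  · rintro ⟨M, hM, hML⟩
    obtain ⟨j, hjm, -, hj⟩ := S19953.result k A B f hf N i hN L hL M hM hML G u hG
    have hover : ∀ {T : Over (Spec (CommRingCat.of k))} (n : T ⟶ N),
        ThetaGrp.IsOverPt (ThetaLib.res (n ≫ j) u) (n ≫ i) := fun n => hj _ n _ (ThetaLib.res_bc _ u)
    refine ⟨(KLLib.factors_iff hK hL i).2 ⟨1, (ThetaLib.exists_overPt_iff hL i).1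
      ⟨_, by simpa using hover (𝟙 N)⟩⟩, fun T x y β₁ β₂ h₁ h₂ => ?_⟩
    have hc : Commute (ThetaLib.res (x ≫ j) u) (ThetaLib.res (y ≫ j) u) := by
      show _ * _ = _ * _
      rw [ThetaLib.eq_res (hG.mul T _ _ _ _ (ThetaLib.res_bc (x ≫ j) u) (ThetaLib.res_bc (y ≫ j) u)),
        ThetaLib.eq_res (hG.mul T _ _ _ _ (ThetaLib.res_bc (y ≫ j) u) (ThetaLib.res_bc (x ≫ j) u))]
      refine congrArg (fun g => ThetaLib.res g u) ?_
      rw [← MonObj.mul_comp, ← MonObj.mul_comp]
      refine congrArg (· ≫ j) ((cancel_mono i).1 ?_)
      rw [MonObj.mul_comp, MonObj.mul_comp, mul_comm]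
    have hc' := ThetaLib.commute_of_overPt hL (hover y) h₂ hc
    exact (ThetaLib.commute_of_overPt hL (hover x) h₁ hc'.symm).symm.eq
  · rintro ⟨hy, hiso⟩
    obtain ⟨ρ, hρ, hmul⟩ := ThetaLib.exists_isotropic_lift hL hK i hy hiso
    obtain ⟨j, hj, -⟩ := hG.univ N ρ
    have hjres : ∀ {T : Over (Spec (CommRingCat.of k))} (n : T ⟶ N),
        ThetaLib.res (n ≫ j) u = ThetaLib.res n ρ := fun n => by
      rw [← ThetaLib.res_res, ← ThetaLib.eq_res hj]
    have hjmul : ∀ {T : Over (Spec (CommRingCat.of k))} (a b : T ⟶ N), (a * b) ≫ j = (a ≫ j) * (b ≫ j) :=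
      fun {T} a b => (hG.univ T (ThetaLib.res (a * b) ρ)).unique
        (by rw [← hjres]; exact ThetaLib.res_bc _ u) (by
          have e := hG.mul T _ _ _ _ (ThetaLib.res_bc (a ≫ j) u) (ThetaLib.res_bc (b ≫ j) u)
          rwa [hjres, hjres, ← hmul] at e)
    have hjm : IsMonHom j := by
      refine ⟨?_, ?_⟩
      · have e := hjmul (1 : 𝟙_ (Over (Spec (CommRingCat.of k))) ⟶ N) 1
        rw [_root_.mul_one] at e
        rw [MonObj.one_eq_one, MonObj.one_eq_one]
        exact left_eq_mul.1 e
      · have e := hjmul (fst N N) (snd N N)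
        rw [Hom.mul_def, lift_fst_snd, Category.id_comp] at e
        rw [e, Hom.mul_def]
        congr 1
    refine (S19947.result k A B f hf N i hN L hL G u hG).2 ⟨j, hjm, fun T n β hβ => ?_⟩
    rw [ThetaLib.eq_res hβ, hjres, ← hρ, ← ThetaLib.tpt_res]
    exact ThetaLib.isOverPt_tpt _

end Groth.Agent.S19948
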