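import Groth.Statements.S19773
import Groth.Agent.ThetaLib.DegreeEq
import Groth.Agent.S19949
-- import your own Groth.Agent.* helpers here

set_option autoImplicit false
set_option linter.style.haveILetI false
set_option backward.isDefEq.respectTransparency.types false
universe u
open CategoryTheory MonoidalCategory CartesianMonoidalCategory MonObj GrpObj AlgebraicGeometry
open AbVar

open CategoryTheory CategoryTheory.Limits MonoidalCategory CartesianMonoidalCategory MonObj AlgebraicGeometry
open Groth.Agent.ThetaLib Groth.Agent.PicLib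

namespace Groth.Agent.S19773

open CategoryTheory CategoryTheory.Limits MonObj AlgebraicGeometry in
open Groth.Agent in
/-- Let k be a field and f : X → Y an isogeny between abelian varieties over k (X, Y proper,
geometrically integral k-group schemes; f a finite flat surjective homomorphism) of degree d (the
rank of f at every point of Y), and let M be a non-degenerate invertible O_Y-module: for a closed
immersion i_M : K_M → Y exhibiting K_M as K(M) (the maximal closed subscheme over which the Mumford
bundle m^*M ⊗ p_1^*M⁻¹ ⊗ p_2^*M⁻¹, restricted to Y ×_k K_M, is the inverse image of an invertible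
module on K_M, with its universal property), K_M is finite over k, of rank r (the rank of K_M → Spec
k). Let L = f^*M and let i_L : K_L → X exhibit K_L as K(L). Then L is non-degenerate as well and
rank K(L) = d² · rank K(M): K_L is finite over k and K_L → Spec k has rank d² · r. -/
theorem result (k : Type u) [Field k]
    (X Y : Over (Spec (CommRingCat.of k)))
    [GrpObj X] [IsProper X.hom] [GeometricallyIntegral X.hom]
    [GrpObj Y] [IsProper Y.hom] [GeometricallyIntegral Y.hom]
    (f : X ⟶ Y) [IsMonHom f] [IsFinite f.left] [Flat f.left] (hf : Surjective f.left)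
    (d : ℕ) (hd : ∀ y : ↥Y.left, Scheme.Hom.finrank f.left y = d)
    (M : Y.left.Modules) (hM : PicF.IsInvertible M)
    (KM : Over (Spec (CommRingCat.of k))) (iM : KM ⟶ Y) (hKM : ThetaGrp.IsKL Y M iM)
    [IsFinite KM.hom] (r : ℕ) (hr : ∀ s : ↥(Spec (CommRingCat.of k)), Scheme.Hom.finrank KM.hom s = r)
    (KL : Over (Spec (CommRingCat.of k))) (iL : KL ⟶ X)
    (hKL : ThetaGrp.IsKL X ((Scheme.Modules.pullback f.left).obj M) iL) :
    IsFinite KL.hom ∧ ∀ s : ↥(Spec (CommRingCat.of k)), Scheme.Hom.finrank KL.hom s = d ^ 2 * r := by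
  haveI : IsCommMonObj X := isCommMonObj_of_isProper_of_geometricallyIntegral X
  haveI : IsCommMonObj Y := isCommMonObj_of_isProper_of_geometricallyIntegral Y

  haveI := hf
  have hL := PicLoc.isInvertible_pullback f.left hM
  have e : PicM.of hL = PicM.pull f.left (PicM.of hM) := (PicM.pull_of _ _).symm
  obtain ⟨m, s, hm, hs, hfs, hsf⟩ := AbCubeLib.exists_isogeny_inverse f
  haveI := hs
  haveI : IsFinite ((𝟙 Y) ^ m).left := AbCubeLib.isFinite_pow hm
  haveI : Flat ((𝟙 Y) ^ m).left := AbCubeLib.flat_pow hm
  haveI : Surjective ((𝟙 Y) ^ m).left := AbCubeLib.surjective_pow hm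
  haveI : IsFinite ((𝟙 X) ^ m).left := AbCubeLib.isFinite_pow hm
  haveI : Surjective ((𝟙 X) ^ m).left := AbCubeLib.surjective_pow hm
  haveI : IsFinite (s ≫ f).left := by rw [hsf]; infer_instance
  haveI : Surjective s.left := by
    haveI : Surjective (f.left ≫ s.left) := by rw [← Over.comp_left, hfs]; infer_instance
    exact Surjective.of_comp f.left s.left
  haveI : IsFinite s.left := by
    haveI : IsFinite (s.left ≫ f.left) := by rw [← Over.comp_left]; infer_instance
    exact IsFinite.of_comp s.left f.left
  haveI : Flat s.left := AbVarLib.flat_of_surjective s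
  obtain ⟨g, hg⟩ := AbCubeLib.exists_dim_eq Y
  have hL3 := PicLoc.isInvertible_pullback ((𝟙 Y) ^ m).left hM
  have e3 : PicM.of hL3 = PicM.pull s.left (PicM.of hL) := by
    rw [e, PicM.pull_pull, ← Over.comp_left, hsf, PicM.pull_of]
  have hL4 := PicLoc.isInvertible_pullback s.left hL
  have e4 : PicM.of hL3 = PicM.of hL4 := e3.trans (PicM.pull_of _ _)
  obtain ⟨K3, iK3, hK3⟩ := exists_isKL Y hL3
  obtain ⟨hK3fin, -⟩ := rk_KL_pow hM hKM hm hg hK3
  haveI := hK3fin
  have hK4 := isKL_of_eq hL3 hL4 e4 hK3
  haveI := hKL.closed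
  haveI := hK3.closed
  obtain ⟨gKL, hiL⟩ := exists_grpObj_KL hL hKL
  haveI := hiL
  obtain ⟨P, gP, iP, p, _, _, _, _, _, _, hpts, -⟩ := exists_preimage s iL
  obtain ⟨y, hy⟩ := ((Groth.Agent.S19949.result k Y X s ‹Surjective s.left› (UnipStruct.kerObj s) (UnipStruct.kerι s)
    (UnipStruct.isKernel_kerι s) _ hL K3 iK3 hK4 KL iL hKL P iP).1 ((hpts P iP).1 ⟨𝟙 P, Category.id_comp iP⟩)).1
  haveI : IsFinite P.hom := by
    haveI : IsClosedImmersion (y.left ≫ iK3.left) := by rw [← Over.comp_left, hy]; infer_instance
    haveI : IsClosedImmersion y.left := IsClosedImmersion.of_comp y.left iK3.left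
    rw [← Over.w y]; infer_instance
  haveI hKLfin : IsFinite KL.hom := by
    haveI := discreteTopology_of_isFinite P
    haveI : CompactSpace P.left := QuasiCompact.compactSpace_of_compactSpace P.hom
    haveI : Finite P.left := finite_of_compact_of_discrete
    haveI : Finite KL.left := Finite.of_surjective _ p.left.surjective
    haveI : IsProper KL.hom := by rw [← Over.w iL]; infer_instance
    exact DimLib.isFinite_of_finite KL.hom
  refine ⟨hKLfin, fun z => ?_⟩
  rw [finrank_hom_eq_rk KL z, rk_KL_eq f hM hKM hL e hKL, rk_kerObj f hd]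
  rw [← finrank_hom_eq_rk KM z, hr z]

end Groth.Agent.S19773
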