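import Groth.Statements.S19775
import Groth.Agent.AbDualLib.Lambda
import Groth.Agent.AbCubeLib.Invariant
-- import your own Groth.Agent.* helpers here

set_option autoImplicit false
universe u
open CategoryTheory MonoidalCategory CartesianMonoidalCategory MonObj GrpObj AlgebraicGeometry
open AbVar

namespace Groth.Agent.S19775

/-- Let X be an abelian variety over a field k (a proper, geometrically integral k-group scheme), (X^t,
φ) a given dual abelian variety of X for the fppf topology (φ sends classes of modules on X ×_k T
algebraically trivial on the geometric fibres to T-valued points of X^t), L an invertible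
O_X-module, and λ : X → X^t the homomorphism φ_L attached to L through φ (the X-valued point of X^t
that φ assigns to the class of an invertible module N on X ×_k X with N ⊗ p_1^*L ⊗ p_2^*L ≅ m^*L, a
Mumford module of L). Let i : K → X be a closed immersion exhibiting K as K(L) (the maximal closed
subscheme over which the Mumford bundle, restricted to X ×_k K, is the inverse image of an
invertible module on K, with its universal property). Then K(L) is the kernel of φ_L: the square
with sides i, K → Spec k, λ and the unit Spec k → X^t is cartesian. (The published statement makes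
this assertion for L ample, together with φ_L being an isogeny and the dimension count for the dual;
the kernel identification is the translation description of the points of K(L) read through the
Picard functor and holds for every invertible L, as stated here; the isogeny and dimension
assertions are not part of this row.) -/
theorem result (k : Type u) [Field k] (X Xt : Over (Spec (CommRingCat.of k)))
    [GrpObj X] [IsProper X.hom] [GeometricallyIntegral X.hom]
    [GrpObj Xt] [IsProper Xt.hom] [GeometricallyIntegral Xt.hom]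
    (φ : ∀ T : Over (Spec (CommRingCat.of k)), PicF.Cl (PicF.XT X.hom T) → (T ⟶ Xt))
    (hφ : AbDual.IsDualAV Scheme.fppfPrecoverage X Xt φ)
    (L : X.left.Modules) (hL : PicF.IsInvertible L) (lam : X ⟶ Xt) (hlam : AgPol.IsLambda X Xt φ L lam)
    (K : Over (Spec (CommRingCat.of k))) (i : K ⟶ X) (hK : ThetaGrp.IsKL X L i) :
    AlgGrp.IsKernel i lam := by
  haveI : Smooth X.hom := NeronLib.smooth_of_geometricallyIntegral X
  haveI : GeometricallyConnected X.hom := CubeLib.geometricallyConnected_hom X
  obtain ⟨N, hN, ⟨eN⟩, hφN⟩ := hlam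
  let a : PicLib.PicM X.left := PicLib.PicM.of hL
  let n : PicLib.PicM (X ⊗ X).left := PicLib.PicM.of (L := N) hN
  have hn : PicLib.PicM.pull μ[X].left a =
      n * PicLib.PicM.pull (fst X X).left a * PicLib.PicM.pull (snd X X).left a := by
    rw [PicLib.PicM.pull_of, PicLib.PicM.pull_of, PicLib.PicM.pull_of, PicLib.PicM.of_mul, PicLib.PicM.of_mul,
      PicLib.PicM.of_eq_iff]
    exact ⟨eN.symm⟩
  have h0 := AbDualLib.isPicZeroCl_lambda a n hn
  have hiff : ∀ (T : Over (Spec (CommRingCat.of k))) (z : T ⟶ X),
      ThetaGrp.IsMumfordTriv X L z ↔ z ≫ lam = 1 := by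
    intro T z
    let c : PicLib.PicM (X ⊗ T).left := AbDualLib.ev n (fst X T) (snd X T ≫ z)
    have hc : z ≫ lam = φ T c.val := by
      rw [← hφN]
      exact (AbDualLib.phi_pb hφ z n h0).symm
    have hc0 : AbDual.IsPicZeroCl X.hom T c.val := AbDualLib.isPicZeroCl_pb z _ (lift_snd _ _) h0
    have hcz : PicLib.PicM.pull ((X ◁ z) ≫ μ[X]).left a =
        c * PicLib.PicM.pull (fst X T).left a * PicLib.PicM.pull (snd X T ≫ z).left a := by
      have h := congrArg (PicLib.PicM.pull (X ◁ z).left) hn
      rw [map_mul, map_mul, PicLib.PicM.pull_pull, PicLib.PicM.pull_pull, PicLib.PicM.pull_pull, ← Over.comp_left,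
        ← Over.comp_left, ← Over.comp_left, whiskerLeft_fst, whiskerLeft_snd] at h
      refine h.trans ?_
      congr 2
    constructor
    · rintro ⟨M, hM, ⟨eM⟩⟩
      have hM' : PicLib.PicM.pull ((X ◁ z) ≫ μ[X]).left a = PicLib.PicM.pull (snd X T).left (PicLib.PicM.of hM) *
          PicLib.PicM.pull (fst X T).left a * PicLib.PicM.pull (snd X T ≫ z).left a := by
        rw [PicLib.PicM.pull_of, PicLib.PicM.pull_of, PicLib.PicM.pull_of, PicLib.PicM.pull_of, PicLib.PicM.of_mul,
          PicLib.PicM.of_mul, PicLib.PicM.of_eq_iff]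
        exact ⟨eM.symm⟩
      have e := (PicLib.PicM.isUnit _).mul_right_cancel ((PicLib.PicM.isUnit _).mul_right_cancel (hcz.symm.trans hM'))
      rw [hc, e]
      exact AbDualLib.phi_base hφ _
    · intro h
      obtain ⟨r, M₀, hr0, hrrig, hcr, hφr⟩ := AbDualLib.exists_rigidify hφ c hc0
      have hr1 : r = 1 := AbDualLib.eq_of_phi_eq hφ r 1 hr0 (AbCubeLib.isPicZeroCl_one T) hrrig (map_one _)
        (by rw [← hφr, ← hc, h, AbDualLib.phi_one hφ])
      rw [hr1, _root_.one_mul] at hcr
      obtain ⟨M, hM, rfl⟩ := PicLib.PicM.exists_eq_of M₀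
      refine ⟨M, hM, ?_⟩
      rw [hcr, PicLib.PicM.pull_of, PicLib.PicM.pull_of, PicLib.PicM.pull_of, PicLib.PicM.pull_of,
        PicLib.PicM.of_mul, PicLib.PicM.of_mul, PicLib.PicM.of_eq_iff] at hcz
      exact ⟨hcz.some.symm⟩
  have hi : i ≫ lam = toUnit K ≫ η[Xt] :=
    (hiff K i).1 ((hK.univ K i).2 ⟨𝟙 K, Category.id_comp i⟩)
  haveI : IsClosedImmersion i.left := hK.closed
  haveI : Mono i := (Over.forget _).mono_of_mono_map (inferInstanceAs (Mono i.left))
  refine ⟨⟨hi⟩, ⟨Limits.PullbackCone.IsLimit.mk hi (fun s => ((hK.univ _ _).1 ((hiff _ s.fst).2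
    (s.condition.trans (by rw [toUnit_unique s.snd (toUnit _)]; rfl)))).choose) (fun s => ?_)
    (fun s => toUnit_unique _ _) (fun s m h _ => ?_)⟩⟩
  · exact ((hK.univ _ _).1 ((hiff _ s.fst).2 (s.condition.trans (by rw [toUnit_unique s.snd (toUnit _)]; rfl)))).choose_spec
  · rw [← cancel_mono i]
    exact h.trans ((hK.univ _ _).1 ((hiff _ s.fst).2
      (s.condition.trans (by rw [toUnit_unique s.snd (toUnit _)]; rfl)))).choose_spec.symm

end Groth.Agent.S19775
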