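import Groth.Statements.S19785
import Groth.Agent.HMConj.Basic
import Groth.Agent.HMConj.Limit
set_option backward.isDefEq.respectTransparency.types false

set_option autoImplicit false
universe u
open CategoryTheory MonoidalCategory CartesianMonoidalCategory MonObj AlgebraicGeometry Opposite
open GIT

namespace Groth.Agent.S19785

/-- Let k be an algebraically closed field, G a connected reductive algebraic group over k acting by σ
on a scheme X proper over k, L a G-linearised line bundle on X in total-space form, x a k-point of X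
and λ : 𝔾_m → G a one-parameter subgroup. Let γ be a k-point of G lying in the parabolic subgroup
P(λ), i.e. such that the morphism u ↦ λ(u)·γ·λ(u)⁻¹ from 𝔾_m to G extends to the affine line
(λ(u)γλ(u)⁻¹ has a limit in G as u → 0), and let λ' be the conjugate one-parameter subgroup u ↦
γ⁻¹·λ(u)·γ. Then μ^L(x, λ) = μ^L(x, λ'): the numerical function (the limit of λ(u)·x as u → 0 exists
and 𝔾_m acts on the fibre of L over it with exponent m) takes the same values at (x, λ) and at (x,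
λ'). (The published statement is for any reductive G; this row takes G connected.) -/
theorem result (k : Type u) [Field k] [IsAlgClosed k]
    (G X : Over (Spec (CommRingCat.of k))) [GrpObj G] (hG : Red.IsReductive G) [IsProper X.hom]
    (a : AlgGrp.Action G X) (B : GLinSh.LinBun G a) (x : 𝟙_ (Over (Spec (CommRingCat.of k))) ⟶ X)
    (l : Red.Gm (Spec (CommRingCat.of k)) ⟶ G) [IsMonHom l] (g₀ : 𝟙_ (Over (Spec (CommRingCat.of k))) ⟶ G)
    (hg₀ : ∃ f : HMNum.A1 (Spec (CommRingCat.of k)) ⟶ G, HMNum.incl (Spec (CommRingCat.of k)) ≫ f = l * (toUnit _ ≫ g₀) * l⁻¹)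
    (l' : Red.Gm (Spec (CommRingCat.of k)) ⟶ G) [IsMonHom l'] (hl' : l' = (toUnit _ ≫ g₀)⁻¹ * l * (toUnit _ ≫ g₀))
    (m : ℤ) : HMNum.IsMu B l x m ↔ HMNum.IsMu B l' x m := by
  haveI := hG.1
  haveI : IsSeparated G.hom := inferInstance
  have dir : ∀ (g₁ : 𝟙_ (Over (Spec (CommRingCat.of k))) ⟶ G) (x₁ : 𝟙_ (Over (Spec (CommRingCat.of k))) ⟶ X) (n : ℤ),
      (∃ f : HMNum.A1 (Spec (CommRingCat.of k)) ⟶ G,
        HMNum.incl (Spec (CommRingCat.of k)) ≫ f = l * (toUnit _ ≫ g₁) * l⁻¹) →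
      HMNum.IsMu B l x₁ n → HMNum.IsMu B l (lift g₁ x₁ ≫ a.act) n := by
    intro g₁ x₁ n ⟨f, hf⟩ hμ
    obtain ⟨y, ⟨φ, hφx, hφy⟩, hw⟩ := hμ
    have hfix := HMConj.isFixedBy_of_isLimitPt ⟨φ, hφx, hφy⟩
    have hsub : ∀ {T' : Over (Spec (CommRingCat.of k))} (g : T' ⟶ Red.Gm (Spec (CommRingCat.of k)))
        (c : T' ⟶ HMNum.A1 (Spec (CommRingCat.of k))) {Z : Over (Spec (CommRingCat.of k))} (h : HMNum.A1 _ ⟶ Z),
        lift g c ≫ (Magnet.subAct (Spec (CommRingCat.of k)) ℤ HMNum.plus).act ≫ h =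
          ((g ≫ Magnet.AMonS.map _ HMNum.plus.subtype) * c) ≫ h := by
      intro T' g c Z h
      unfold Magnet.subAct
      rw [Magnet.MonAct.lift_restrict_act_assoc, Magnet.MonAct.lift_regular_act_assoc]
    have hfeq : ∀ {T' : Over (Spec (CommRingCat.of k))} (g : T' ⟶ Red.Gm (Spec (CommRingCat.of k)))
        (b : T' ⟶ HMNum.A1 (Spec (CommRingCat.of k))),
        (lift g b ≫ (Magnet.subAct (Spec (CommRingCat.of k)) ℤ HMNum.plus).act) ≫ f = (g ≫ l) * (b ≫ f) * (g ≫ l)⁻¹ := by
      have hu : lift (snd _ (Red.Gm (Spec (CommRingCat.of k)))) (fst _ _) ≫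
          (Magnet.subAct (Spec (CommRingCat.of k)) ℤ HMNum.plus).act ≫ f =
          (snd (HMNum.A1 (Spec (CommRingCat.of k))) (Red.Gm (Spec (CommRingCat.of k))) ≫ l) * (fst _ _ ≫ f) *
            (snd _ _ ≫ l)⁻¹ := by
        refine Misc15.MagnetPointsS.cancel_map HMNum.plus.subtype Subtype.val_injective _ _ ?_
        apply Magnet.hom_ext_lift₂
        intro T' b g
        simp only [lift_whiskerRight_assoc, lift_snd, lift_fst, comp_lift_assoc, hsub, MonObj.comp_mul, GrpObj.comp_inv, lift_snd_assoc, lift_fst_assoc]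
        rw [← Category.assoc, MonObj.comp_mul, lift_snd_assoc, lift_fst, ← MonObj.mul_comp]
        simp only [Category.assoc]
        rw [show Magnet.AMonS.map (Spec (CommRingCat.of k)) HMNum.plus.subtype ≫ f = _ from hf]
        simp only [MonObj.comp_mul, GrpObj.comp_inv, comp_toUnit_assoc, MonObj.mul_comp]
        group
      intro T' g b
      have := congrArg (fun m => lift b g ≫ m) hu
      simpa only [comp_lift_assoc, lift_snd, lift_fst, Category.assoc, MonObj.comp_mul, GrpObj.comp_inv,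
        lift_snd_assoc, lift_fst_assoc] using this
    obtain ⟨γ, hγ⟩ : ∃ γ : 𝟙_ (Over (Spec (CommRingCat.of k))) ⟶ G, HMNum.origin _ ≫ f = γ := ⟨_, rfl⟩
    -- the limit of the translate
    have he : Magnet.MonAct.IsEquivariant ((Magnet.subAct _ ℤ HMNum.plus).prod (Magnet.MonAct.trivial _ _))
        (HMNum.gmAct a l) (lift (fst _ _ ≫ f) φ.1 ≫ a.act) := by
      refine (Magnet.MonAct.mem_eqvHom_iff _).2 fun T' g b t => ?_
      have h1 := (Magnet.MonAct.mem_eqvHom_iff φ.1).1 φ.2 T' g b t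
      rw [Magnet.MonAct.lift_restrict_act, Magnet.MonAct.ofAction_act] at h1 ⊢
      rw [comp_lift_assoc, comp_lift_assoc, lift_fst_assoc, lift_fst_assoc, hfeq, h1, ← HMConj.act_mul,
        ← HMConj.act_mul, inv_mul_cancel_right]
    have hlim : HMNum.IsLimitPt a l (lift g₁ x₁ ≫ a.act) (lift γ y ≫ a.act) := by
      refine ⟨⟨_, he⟩, ?_, ?_⟩
      · show lift (toUnit _ ≫ η[HMNum.A1 (Spec (CommRingCat.of k))]) (𝟙 _) ≫ lift (fst _ _ ≫ f) φ.1 ≫ a.act = _
        rw [comp_lift_assoc, lift_fst_assoc, ← hφx, toUnit_unique (toUnit (𝟙_ _)) (𝟙 _), Category.id_comp]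
        congr 2
        · rw [← IsMonHom.one_hom (f := HMNum.incl (Spec (CommRingCat.of k))), Category.assoc, hf, MonObj.comp_mul,
            MonObj.comp_mul, GrpObj.comp_inv, comp_toUnit_assoc, IsMonHom.one_hom,
            show (η[G] : 𝟙_ (Over (Spec (CommRingCat.of k))) ⟶ G) = 1 by
              rw [Hom.one_def, toUnit_unique (toUnit _) (𝟙 _), Category.id_comp],
            _root_.one_mul, inv_one, _root_.mul_one, toUnit_unique (toUnit (𝟙_ _)) (𝟙 _), Category.id_comp]
      · rw [← hφy, HMNum.limitPt_eq, HMNum.limitPt_eq]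
        show lift _ (𝟙 _) ≫ lift (fst _ _ ≫ f) φ.1 ≫ a.act = _
        rw [comp_lift_assoc, lift_fst_assoc, Category.assoc, hγ, toUnit_unique (toUnit (𝟙_ _)) (𝟙 _), Category.id_comp]
    -- the limit of the translate commutes with the subgroup
    have hcomm : l = (toUnit _ ≫ γ) * l * (toUnit _ ≫ γ)⁻¹ := by
      have horig : lift (𝟙 _) (toUnit _ ≫ HMNum.origin (Spec (CommRingCat.of k))) ≫
          (Magnet.subAct (Spec (CommRingCat.of k)) ℤ HMNum.plus).act = toUnit _ ≫ HMNum.origin _ := by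
        rw [HMNum.origin, ← Category.assoc (toUnit _),
          show ∀ p, lift (𝟙 (Red.Gm (Spec (CommRingCat.of k)))) (p ≫ Magnet.AMonS.faceMap _ HMNum.isFace_bot) ≫
            (Magnet.subAct (Spec (CommRingCat.of k)) ℤ HMNum.plus).act =
            (lift (𝟙 _) p ≫ (Magnet.subAct (Spec (CommRingCat.of k)) ℤ (⊥ : AddSubmonoid ℤ)).act) ≫
              Magnet.AMonS.faceMap _ HMNum.isFace_bot from fun p => by
            rw [Category.assoc]
            exact ((Magnet.MonAct.isEquivariant_iff _ _ _).1 (Magnet.isEquivariant_faceMapS _ HMNum.isFace_bot) _ _ p).symm]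
        congr 1
        exact HMConj.point_bot_unique _ _
      have h0 := hfeq (𝟙 (Red.Gm (Spec (CommRingCat.of k)))) (toUnit _ ≫ HMNum.origin _)
      rw [horig, Category.id_comp, Category.assoc, hγ] at h0
      have h1 : (toUnit _ ≫ γ) * l = l * (toUnit _ ≫ γ) := by
        conv_lhs => rw [h0]
        group
      rw [h1, mul_inv_cancel_right]
    have key := HMConj.isMu_of_conj B γ l l hcomm y n ⟨y, HMConj.isLimitPt_of_fixed hfix, hw⟩
    rw [HMConj.comp_tr, toUnit_unique (toUnit (𝟙_ _)) (𝟙 _), Category.id_comp] at key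
    obtain ⟨z, hz, hzw⟩ := key
    obtain rfl := HMConj.limit_unique (HMConj.isLimitPt_of_fixed (HMConj.isFixedBy_of_isLimitPt hlim)) hz
    exact ⟨_, hlim, hzw⟩
  have move : HMNum.IsMu B l x m ↔ HMNum.IsMu B l (lift g₀ x ≫ a.act) m := by
    refine ⟨dir g₀ x m hg₀, fun h => ?_⟩
    obtain ⟨f, hf⟩ := hg₀
    have := dir g₀⁻¹ _ m ⟨f⁻¹, by rw [GrpObj.comp_inv, hf, GrpObj.comp_inv]; group⟩ h
    rwa [← HMConj.act_mul, inv_mul_cancel, HMConj.act_one] at this
  rw [move]
  constructor
  · intro hμ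
    have := HMConj.isMu_of_conj B g₀⁻¹ l l' (by rw [GrpObj.comp_inv, inv_inv, hl']) _ m hμ
    rwa [HMConj.comp_tr, ← HMConj.act_mul, toUnit_unique (toUnit (𝟙_ _)) (𝟙 _), Category.id_comp, inv_mul_cancel,
      HMConj.act_one] at this
  · intro hμ
    have := HMConj.isMu_of_conj B g₀ l' l (by rw [hl']; group) _ m hμ
    rwa [HMConj.comp_tr, toUnit_unique (toUnit (𝟙_ _)) (𝟙 _), Category.id_comp] at this

end Groth.Agent.S19785
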