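import Groth.Statements.S19790
import Groth.Agent.HMTor29.Bound
import Groth.Agent.HMTor29.MaxTorus

set_option backward.isDefEq.respectTransparency.types false

set_option autoImplicit false
universe u
open CategoryTheory MonoidalCategory CartesianMonoidalCategory MonObj AlgebraicGeometry Opposite
open GIT

namespace Groth.Agent.S19790

/-- Let k be an algebraically closed field, G a connected reductive algebraic group over k, i : T → G a
maximal torus, X a scheme proper over k on which G acts by σ, and L an ample G-linearised line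
bundle on X in total-space form. Fix a norm on one-parameter subgroups as for the flag complex: a
symmetric biadditive form b on the one-parameter subgroups of T (a group under pointwise product)
with rational values, positive on every non-trivial one-parameter subgroup, and a real function ‖·‖
on the one-parameter subgroups of G such that for every one-parameter subgroup λ of T and every
k-point γ of G the conjugate u ↦ γ·i(λ(u))·γ⁻¹ has ‖γ·(i∘λ)·γ⁻¹‖ ≥ 0 and ‖γ·(i∘λ)·γ⁻¹‖² = b(λ, λ)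
(every one-parameter subgroup of G is conjugate under G(k) to one of T, so this determines ‖·‖ on
all of them; consistency forces b to be invariant under the Weyl group, and such forms exist). Then
there is a constant K such that |μ^L(x, λ)| ≤ K·‖λ‖ for every k-point x of X and every one-parameter
subgroup λ of G: whenever the numerical function of x at λ (the limit of λ(u)·x as u → 0 exists and
𝔾_m acts on the fibre of L over it with exponent m) takes the value m, |m| ≤ K·‖λ‖. In other words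
the normalised function ν^L(x, λ) = μ^L(x, λ)/‖λ‖ is bounded in absolute value, uniformly in x and
λ. (The published statement is for any reductive G; this row takes G connected.) -/
theorem result (k : Type u) [Field k] [IsAlgClosed k]
    (G X T : Over (Spec (CommRingCat.of k))) [GrpObj G] [GrpObj T] (hG : Red.IsReductive G)
    (i : T ⟶ G) [IsMonHom i] (hi : Red.IsMaximalTorus i) [IsProper X.hom]
    (a : AlgGrp.Action G X) (B : GLinSh.LinBun G a) (hB : HMNum.AmpleCover B)
    (b : (Red.Gm (Spec (CommRingCat.of k)) ⟶ T) → (Red.Gm (Spec (CommRingCat.of k)) ⟶ T) → ℚ)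
    (hb_add : ∀ (l₁ l₂ l₃ : Red.Gm (Spec (CommRingCat.of k)) ⟶ T) [IsMonHom l₁] [IsMonHom l₂] [IsMonHom l₃],
      b (l₁ * l₂) l₃ = b l₁ l₃ + b l₂ l₃)
    (hb_symm : ∀ (l₁ l₂ : Red.Gm (Spec (CommRingCat.of k)) ⟶ T) [IsMonHom l₁] [IsMonHom l₂], b l₁ l₂ = b l₂ l₁)
    (hb_pos : ∀ (l : Red.Gm (Spec (CommRingCat.of k)) ⟶ T) [IsMonHom l], l ≠ 1 → 0 < b l l)
    (nrm : (Red.Gm (Spec (CommRingCat.of k)) ⟶ G) → ℝ)
    (hnrm : ∀ (l : Red.Gm (Spec (CommRingCat.of k)) ⟶ T) [IsMonHom l] (g : 𝟙_ (Over (Spec (CommRingCat.of k))) ⟶ G),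
      0 ≤ nrm ((toUnit _ ≫ g) * (l ≫ i) * (toUnit _ ≫ g)⁻¹) ∧
        nrm ((toUnit _ ≫ g) * (l ≫ i) * (toUnit _ ≫ g)⁻¹) ^ 2 = ((b l l : ℚ) : ℝ)) :
    ∃ K : ℝ, ∀ (x : 𝟙_ (Over (Spec (CommRingCat.of k))) ⟶ X) (l : Red.Gm (Spec (CommRingCat.of k)) ⟶ G) [IsMonHom l] (m : ℤ),
      HMNum.IsMu B l x m → |(m : ℝ)| ≤ K * nrm l := by
  classical
  obtain ⟨hGaff, hGsm, hGf⟩ := hG
  haveI : IsAffine G.left := isAffine_of_isAffineHom G.hom
  haveI : Smooth G.hom := hGsm
  haveI : ConnectedSpace G.left := HMTor29.MaxTorus.connectedSpace_of_isReductive G ⟨hGaff, hGsm, hGf⟩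
  obtain ⟨D⟩ := HMTor29.exists_torusData T hi.2.2.1
  obtain ⟨J, _, ℓ, hadd, hI⟩ := HMTor29.exists_functionals D B i hB
  choose C hC hbd using fun j => HMTor29.exists_bound D hi.2.2.1 b hb_add hb_symm hb_pos (ℓ j)
    (fun l₁ l₂ _ _ => hadd j l₁ l₂)
  refine ⟨∑ j, C j, fun x l _ m hμ => ?_⟩
  obtain ⟨g, p, hp, hl⟩ := HMTor29.MaxTorus.exists_conj_into (G := G) (HMTor29.MaxTorus.isMaxTorus hi) _
    HMTor29.MaxTorus.isTorus_Gm l
  haveI := hp
  have hl' : l = (toUnit _ ≫ g⁻¹) * (p ≫ i) * (toUnit _ ≫ g⁻¹)⁻¹ := by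
    rw [hl, ← Category.assoc, AGFQuot23.comp_cj, GrpObj.comp_inv, _root_.inv_inv]
  have hback : p ≫ i = (toUnit _ ≫ g) * l * (toUnit _ ≫ g)⁻¹ := by
    rw [hl', GrpObj.comp_inv]
    group
  have hμ' := HMConj.isMu_of_conj B g l (p ≫ i) hback x m hμ
  obtain ⟨I, hI⟩ := hI (x ≫ HMConj.tr a g)
  obtain ⟨j, -, hm, -⟩ := (hI p m).1 hμ'
  have hn := hnrm p g⁻¹
  rw [← hl'] at hn
  have hs : Real.sqrt ((b p p : ℚ) : ℝ) = nrm l := by rw [← hn.2, Real.sqrt_sq hn.1]
  have hmR : (m : ℝ) = ((ℓ j p : ℚ) : ℝ) := by rw [← hm, Rat.cast_intCast]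
  rw [hmR]
  refine (hbd j p).trans ?_
  rw [hs]
  exact mul_le_mul_of_nonneg_right (Finset.single_le_sum (fun i _ => hC i) (Finset.mem_univ j)) hn.1

end Groth.Agent.S19790
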