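import Groth.Statements.S19791
import Groth.Agent.HMConj.Basic
set_option backward.isDefEq.respectTransparency.types false

set_option autoImplicit false
universe u
open CategoryTheory MonoidalCategory CartesianMonoidalCategory MonObj AlgebraicGeometry Opposite
open GIT

namespace Groth.Agent.S19791

/-- Let k be an algebraically closed field, G a connected reductive algebraic group over k acting by σ
on a scheme X proper over k, L an ample G-linearised line bundle on X in total-space form, and ‖·‖ a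
real-valued function on the one-parameter subgroups of G invariant under conjugation by k-points of
G (‖γ·λ·γ⁻¹‖ = ‖λ‖; nothing else is assumed of ‖·‖). For a k-point x of X consider the set of real
numbers μ^L(x, λ)/‖λ‖, where λ runs over the non-trivial one-parameter subgroups of G and μ^L(x, λ)
= m means that the limit of λ(u)·x as u → 0 exists and 𝔾_m acts on the fibre of L over it with
exponent m; its infimum is the number M^L(x). Then for every k-point g of G the sets attached to g·x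
and to x coincide, so that M^L(g·x) = M^L(x). (The published statement is for any reductive G, not
necessarily connected, acting on a projective variety; this row takes G connected and X any scheme
proper over k.) -/
theorem result (k : Type u) [Field k] [IsAlgClosed k]
    (G X : Over (Spec (CommRingCat.of k))) [GrpObj G] (hG : Red.IsReductive G) [IsProper X.hom]
    (a : AlgGrp.Action G X) (B : GLinSh.LinBun G a) (hB : HMNum.AmpleCover B)
    (nrm : (Red.Gm (Spec (CommRingCat.of k)) ⟶ G) → ℝ)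
    (hnrm : ∀ (l : Red.Gm (Spec (CommRingCat.of k)) ⟶ G) [IsMonHom l] (g : 𝟙_ (Over (Spec (CommRingCat.of k))) ⟶ G),
      nrm ((toUnit _ ≫ g) * l * (toUnit _ ≫ g)⁻¹) = nrm l)
    (x : 𝟙_ (Over (Spec (CommRingCat.of k))) ⟶ X) (g : 𝟙_ (Over (Spec (CommRingCat.of k))) ⟶ G) (q : ℝ) :
    (∃ (l : Red.Gm (Spec (CommRingCat.of k)) ⟶ G) (_ : IsMonHom l) (m : ℤ),
        l ≠ 1 ∧ HMNum.IsMu B l (lift g x ≫ a.act) m ∧ q = (m : ℝ) / nrm l) ↔
      ∃ (l : Red.Gm (Spec (CommRingCat.of k)) ⟶ G) (_ : IsMonHom l) (m : ℤ),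
        l ≠ 1 ∧ HMNum.IsMu B l x m ∧ q = (m : ℝ) / nrm l := by
  have hom : ∀ (l : Red.Gm (Spec (CommRingCat.of k)) ⟶ G) [IsMonHom l] (h : 𝟙_ (Over (Spec (CommRingCat.of k))) ⟶ G),
      IsMonHom ((toUnit _ ≫ h) * l * (toUnit _ ≫ h)⁻¹) := by
    intro l _ h
    have hc : ∀ {T : Over (Spec (CommRingCat.of k))} (p : T ⟶ Red.Gm (Spec (CommRingCat.of k))),
        p ≫ ((toUnit _ ≫ h) * l * (toUnit _ ≫ h)⁻¹) = (toUnit T ≫ h) * (p ≫ l) * (toUnit T ≫ h)⁻¹ := fun p => by
      rw [MonObj.comp_mul, MonObj.comp_mul, GrpObj.comp_inv, ← Category.assoc, comp_toUnit]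
    constructor
    · rw [hc, IsMonHom.one_hom]
      have : (η[G] : 𝟙_ (Over (Spec (CommRingCat.of k))) ⟶ G) = 1 := by
        rw [Hom.one_def, toUnit_unique (toUnit _) (𝟙 _), Category.id_comp]
      rw [this, _root_.mul_one, mul_inv_cancel]
    · have ht : ∀ (f : Red.Gm (Spec (CommRingCat.of k)) ⟶ G), (f ⊗ₘ f) ≫ μ[G] =
          (fst _ _ ≫ f) * (snd _ _ ≫ f) := fun f => by
        rw [Hom.mul_def]
        congr 1
      rw [hc, IsMonHom.mul_hom, ht, ht, hc, hc]
      group
  have one : ∀ (l : Red.Gm (Spec (CommRingCat.of k)) ⟶ G) (h : 𝟙_ (Over (Spec (CommRingCat.of k))) ⟶ G),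
      l ≠ 1 → (toUnit _ ≫ h) * l * (toUnit _ ≫ h)⁻¹ ≠ 1 := fun l h hl e => hl (conj_eq_one_iff.1 e)
  have htr : ∀ (h : 𝟙_ (Over (Spec (CommRingCat.of k))) ⟶ G) (z : 𝟙_ (Over (Spec (CommRingCat.of k))) ⟶ X),
      z ≫ HMConj.tr a h = lift h z ≫ a.act := fun h z => by
    rw [HMConj.comp_tr, toUnit_unique (toUnit (𝟙_ _)) (𝟙 _), Category.id_comp]
  constructor
  · rintro ⟨l, hl, m, hne, hμ, rfl⟩
    haveI := hl
    refine ⟨_, hom l g⁻¹, m, one l g⁻¹ hne, ?_, by rw [hnrm]⟩
    haveI := hom l g⁻¹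
    have := HMConj.isMu_of_conj B g⁻¹ l _ rfl _ m hμ
    rwa [htr, ← HMConj.act_mul, inv_mul_cancel, HMConj.act_one] at this
  · rintro ⟨l, hl, m, hne, hμ, rfl⟩
    haveI := hl
    refine ⟨_, hom l g, m, one l g hne, ?_, by rw [hnrm]⟩
    haveI := hom l g
    have := HMConj.isMu_of_conj B g l _ rfl _ m hμ
    rwa [htr] at this

end Groth.Agent.S19791
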