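import Groth.Statements.S19795
import Groth.Agent.MultExt26.Scheme
import Groth.Agent.MultExt26.GmBase

set_option autoImplicit false
set_option linter.style.haveILetI false
set_option backward.isDefEq.respectTransparency.types false
open CategoryTheory MonoidalCategory CartesianMonoidalCategory MonObj GrpObj AlgebraicGeometry
universe u
open SGA3x

namespace Groth.Agent.S19795

/-- Let S be an integral, normal, locally Noetherian scheme with function field K, f : Spec K ⟶ S the
inclusion of the generic point, and T an S-torus. Then X_*(T)(S) = X_*(T)(K): every homomorphism of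
K-groups (𝔾_{m,S}) ×_S Spec K ⟶ T ×_S Spec K is the base change along f of exactly one homomorphism
of S-groups 𝔾_{m,S} ⟶ T. (The published statement assumes S connected, normal and locally
Noetherian, which makes S integral.) -/
theorem result {S : Scheme.{u}} [IsIntegral S]
    [IsLocallyNoetherian S] (hnorm : ∀ x : ↥S, IsDomain (S.presheaf.stalk x) ∧ IsIntegrallyClosed (S.presheaf.stalk x))
    {T : Over S} [GrpObj T] (hT : Red.IsTorus T)
    (lamK : Red.bc (S.fromSpecStalk (genericPoint S)) (Red.Gm S) ⟶ Red.bc (S.fromSpecStalk (genericPoint S)) T)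
    [IsMonHom lamK] :
    ∃! lam : Red.Gm S ⟶ T, IsMonHom lam ∧ (Over.pullback (S.fromSpecStalk (genericPoint S))).map lam = lamK := by
  haveI := MultExt26.smooth_gmBase S
  have hg : genericPoint S ∈ Set.range (S.fromSpecStalk (genericPoint S)) :=
    ⟨IsLocalRing.closedPoint _, Scheme.fromSpecStalk_closedPoint⟩
  have hTm := MultExt26.isMultTypeFT_of_torus T hT
  haveI := IsoTriv.SchemeBridge.isAffineHom_of_multTypeFT T hTm
  obtain ⟨a, ha, hmap⟩ := MultExt26.exists_extension (fun x => (hnorm x).2) (Red.Gm S) T
    (fun s => MultExt26.connectedSpace_gm_fibre S (L := S.residueField s) (S.fromSpecResidueField s)) hTm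
    (S.fromSpecStalk (genericPoint S)) (𝟙 _) (𝟙 _) (Category.id_comp _) (Category.id_comp _) (Category.id_comp _) lamK
  exact ⟨a, ⟨ha, hmap⟩, fun b hb => MultExt26.ext_generic _ hg b a (hb.2.trans hmap.symm)⟩

end Groth.Agent.S19795
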