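import Groth.Statements.S19799
import Groth.Agent.CommAlg4.FiniteAlgClosed
import Groth.Agent.S15706
import Mathlib.Algebra.Azumaya.Basic
import Mathlib.Algebra.DualNumber
import Mathlib.Algebra.Module.StablyFree.Basic
import Mathlib.NumberTheory.Padics.PadicIntegers
import Mathlib.RingTheory.Etale.StandardEtale
import Mathlib.RingTheory.WittVector.Domain
import Mathlib.RingTheory.WittVector.Teichmuller
import Mathlib.Tactic
import Groth.Agent.CommAlg4.FiniteAlgClosed
import Groth.Agent.S15706

set_option linter.all false

set_option autoImplicit false
universe u v w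
open scoped TensorProduct
open CAlg

open Groth.Agent.CommAlg4

namespace Groth.Agent.S19799

/-- Let k be an algebraically closed field and A, B commutative k-algebras, each finite-dimensional as a
k-vector space. Then reduction commutes with tensor products: the kernel of the canonical surjection
A ⊗_k B ⟶ (A/nilradical A) ⊗_k (B/nilradical B) equals the nilradical of A ⊗_k B, so that this
surjection induces an isomorphism (A ⊗_k B)_red ≅ A_red ⊗_k B_red and in particular A_red ⊗_k B_red
is reduced. -/
theorem result (k : Type u) [Field k]
    [IsAlgClosed k] (A : Type v) [CommRing A] [Algebra k A] [Module.Finite k A]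
    (B : Type w) [CommRing B] [Algebra k B] [Module.Finite k B] :
    RingHom.ker (Algebra.TensorProduct.map (Ideal.Quotient.mkₐ k (nilradical A))
      (Ideal.Quotient.mkₐ k (nilradical B))).toRingHom = nilradical (A ⊗[k] B) := by
  haveI := isReduced_quotient_nilradical A
  haveI := isReduced_quotient_nilradical B
  haveI := formallyEtale_of_isReduced k (A ⧸ nilradical A)
  haveI := formallyEtale_of_isReduced k (B ⧸ nilradical B)
  haveI : Algebra.FormallyUnramified k (TensorProduct k (A ⧸ nilradical A) (B ⧸ nilradical B)) :=
    Algebra.FormallyUnramified.comp k (A ⧸ nilradical A) _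
  haveI : Algebra.EssFiniteType k (TensorProduct k (A ⧸ nilradical A) (B ⧸ nilradical B)) := inferInstance
  haveI := Algebra.FormallyUnramified.isReduced_of_field k (TensorProduct k (A ⧸ nilradical A) (B ⧸ nilradical B))
  refine le_antisymm ?_ fun x hx => (IsNilpotent.map hx _).eq_zero
  refine le_trans (le_of_eq (Algebra.TensorProduct.map_ker _ _ Ideal.Quotient.mk_surjective Ideal.Quotient.mk_surjective)) ?_
  refine sup_le (Ideal.map_le_iff_le_comap.mpr fun a ha => ?_) (Ideal.map_le_iff_le_comap.mpr fun b hb => ?_)
  · exact IsNilpotent.map (show IsNilpotent a from Ideal.Quotient.eq_zero_iff_mem.mp ha) _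
  · exact IsNilpotent.map (show IsNilpotent b from Ideal.Quotient.eq_zero_iff_mem.mp hb) _

end Groth.Agent.S19799
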