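import Groth.Statements.S19804
import Groth.Agent.CSA.Azumaya
import Mathlib.RingTheory.Spectrum.Prime.Topology
import Mathlib.RingTheory.Ideal.IdempotentFG

set_option autoImplicit false
open scoped TensorProduct
universe u v w
open Brauer

namespace Groth.Agent.S19804

/-- Let R be a commutative ring with Spec R connected, A an Azumaya R-algebra and e an idempotent
element of A. If for some nonzero commutative R-algebra R' the element 1 ⊗ e of R' ⊗_R A is 0, then
e = 0; and if 1 ⊗ e = 1 in R' ⊗_R A, then e = 1. (The published statement is for an Azumaya algebra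
over a connected scheme S and base change to an arbitrary nonempty S-scheme T; this row takes S and
T affine.) -/
theorem result {R : Type u} [CommRing R]
    [ConnectedSpace (PrimeSpectrum R)] {A : Type v} [Ring A] [Algebra R A] [IsAzumaya R A]
    (e : A) (he : IsIdempotentElem e) (R' : Type w) [CommRing R'] [Nontrivial R'] [Algebra R R'] :
    ((1 : R') ⊗ₜ[R] e = (0 : R' ⊗[R] A) → e = 0) ∧ ((1 : R') ⊗ₜ[R] e = (1 : R' ⊗[R] A) → e = 1) := by
  classical
  have main : ∀ e : A, IsIdempotentElem e → (1 : R') ⊗ₜ[R] e = (0 : R' ⊗[R] A) → e = 0 := by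
    intro e he h0
    obtain ⟨n, x, f, hx⟩ := CSA.exists_dual_basis (R := R) A
    let I : Ideal R := LinearMap.range (Module.Dual.eval R A e)
    have hIeq : I = Ideal.span (Set.range fun i => f i e) := by
      refine le_antisymm ?_ (Ideal.span_le.2 ?_)
      · rintro _ ⟨g, rfl⟩
        change g e ∈ _
        conv in g e => rw [← hx e, map_sum]
        refine Ideal.sum_mem _ fun i _ => ?_
        rw [map_smul, smul_eq_mul]
        exact Ideal.mul_mem_right _ _ (Ideal.subset_span ⟨i, rfl⟩)
      · rintro _ ⟨i, rfl⟩
        exact ⟨f i, rfl⟩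
    have hsq : IsIdempotentElem I := by
      refine le_antisymm Ideal.mul_le_right ?_
      rintro _ ⟨g, rfl⟩
      change g e ∈ _
      have hee : e = ∑ i, f i e • (x i * e) := by
        simp_rw [← smul_mul_assoc, ← Finset.sum_mul, hx e, he.eq]
      rw [hee, map_sum]
      refine Ideal.sum_mem _ fun i _ => ?_
      rw [map_smul, smul_eq_mul]
      exact Ideal.mul_mem_mul ⟨f i, rfl⟩ ⟨g.comp (LinearMap.mulLeft R (x i)), rfl⟩
    have hfg : I.FG := ⟨Finset.univ.image fun i => f i e, by
      rw [Finset.coe_image, Finset.coe_univ, Set.image_univ, hIeq]⟩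
    obtain ⟨r, hr, hIr⟩ := (Ideal.isIdempotentElem_iff_of_fg I hfg).1 hsq
    have hclopen : IsClopen (PrimeSpectrum.basicOpen r : Set (PrimeSpectrum R)) :=
      PrimeSpectrum.isClopen_iff.2 ⟨r, hr, rfl⟩
    rcases isClopen_iff.1 hclopen with h | h
    · have hr0 : r = 0 := PrimeSpectrum.basicOpen_injOn_isIdempotentElem hr IsIdempotentElem.zero
        (SetLike.coe_injective (by rw [h, PrimeSpectrum.basicOpen_zero]; rfl))
      rw [← hx e]
      refine Finset.sum_eq_zero fun i _ => ?_
      have : f i e ∈ I := ⟨f i, rfl⟩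
      rw [hIr, hr0, Submodule.span_zero_singleton] at this
      rw [(Submodule.mem_bot R).1 this, zero_smul]
    · have hr1 : r = 1 := PrimeSpectrum.basicOpen_injOn_isIdempotentElem hr IsIdempotentElem.one
        (SetLike.coe_injective (by rw [h, PrimeSpectrum.basicOpen_one]; rfl))
      have h1 : (1 : R) ∈ I := by rw [hIr, hr1]; exact Submodule.mem_span_singleton_self _
      obtain ⟨g, hg⟩ := h1
      have hg' : g e = 1 := hg
      have := congrArg (fun z => TensorProduct.rid R R' (g.lTensor R' z)) h0
      simp [hg'] at this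
  refine ⟨main e he, fun h => (sub_eq_zero.1 (main (1 - e) he.one_sub ?_)).symm⟩
  rw [TensorProduct.tmul_sub, h, ← Algebra.TensorProduct.one_def, sub_self]
end Groth.Agent.S19804
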