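import Groth.Statements.S19805
import Groth.Agent.H0Growth23.ENN


set_option autoImplicit false
universe u
open CategoryTheory CategoryTheory.Limits AlgebraicGeometry
open scoped ENNReal
open Variety

namespace Groth.Agent.S19805

open Groth.Agent.H0Growth23

/-- Let X be a projective variety of dimension d over a field k (a geometrically integral scheme, proper
over k, admitting an ample invertible module, with dim X = d) and L an invertible O_X-module; write
vol(L) for the upper limit of dim_k H^0(X, L^m) / m^d as m → ∞, taken in the extended non-negative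
reals (the volume of L up to the factor d!). Then for every integer a ≥ 1 the volume is homogeneous
of degree d: vol(L^a) = a^d · vol(L). -/
theorem result (k : Type u) [Field k] (X : Scheme.{u})
    [X.Over (Spec (CommRingCat.of k))] [IsIntegral X] [GeometricallyIntegral (X ↘ Spec (CommRingCat.of k))]
    [IsProper (X ↘ Spec (CommRingCat.of k))]
    (hproj : ∃ A : X.Modules, CohB1.IsAmple A) (d : ℕ) (hd : topologicalKrullDim X = d)
    (L : X.Modules) (hL : PicF.IsInvertible L) (a : ℕ) (ha : 0 < a) :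
    Filter.limsup (fun m : ℕ => (Module.finrank k (Coh.HH X (CohB1.tensorPow (CohB1.tensorPow L a) m) 0) : ℝ≥0∞) /
        (m : ℝ≥0∞) ^ d) Filter.atTop =
      (a : ℝ≥0∞) ^ d * Filter.limsup (fun m : ℕ => (Module.finrank k (Coh.HH X (CohB1.tensorPow L m) 0) : ℝ≥0∞) /
        (m : ℝ≥0∞) ^ d) Filter.atTop := by
  have hf : (fun m : ℕ => h0Cl k (EulerLib.InvCl.mk L hL ^ m)) =
      fun m => Module.finrank k (Coh.HH X (CohB1.tensorPow L m) 0) := funext (h0Cl_pow k L hL)
  have hg : (fun m : ℕ => h0Cl k (EulerLib.InvCl.mk L hL ^ (a * m))) =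
      fun m => Module.finrank k (Coh.HH X (CohB1.tensorPow (CohB1.tensorPow L a) m) 0) := by
    funext m
    rw [← h0Cl_pow k (CohB1.tensorPow L a) (AmpleLib.isInvertible_tensorPow hL a), EulerLib.InvCl.mk_tensorPow hL, pow_mul]
  show Filter.limsup (Groth.Agent.H0Growth23.ratio
      (fun m => Module.finrank k (Coh.HH X (CohB1.tensorPow (CohB1.tensorPow L a) m) 0)) d) Filter.atTop =
    _ * Filter.limsup (Groth.Agent.H0Growth23.ratio
      (fun m => Module.finrank k (Coh.HH X (CohB1.tensorPow L m) 0)) d) Filter.atTop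
  rw [← hf, ← hg]
  by_cases hpos : 0 < Filter.limsup (ratio (fun m : ℕ => h0Cl k (EulerLib.InvCl.mk L hL ^ m)) d) Filter.atTop
  · obtain ⟨c, N, r₀, hc, hr₀, -⟩ := exists_big_lower k hd hproj (ℓ := EulerLib.InvCl.mk L hL)
      (big_of_limsup_pos _ d hpos)
    refine limsup_mul_eq (fun m : ℕ => h0Cl k (EulerLib.InvCl.mk L hL ^ m)) d ha ⟨r₀ + a, fun m => ?_⟩
    have h := Nat.div_add_mod (m + r₀) a
    have h' := Nat.mod_lt (m + r₀) ha
    refine ⟨(m + r₀) / a + 1, by rw [mul_add, mul_one]; omega, by rw [mul_add, mul_one]; omega, ?_⟩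
    refine (h0Cl_le_mul k (hr₀ (a * ((m + r₀) / a + 1) - m) (by rw [mul_add, mul_one]; omega))).trans
      (le_of_eq (congrArg (h0Cl k) ((pow_add _ _ _).symm.trans (congrArg (_ ^ ·) ?_))))
    rw [mul_add, mul_one]
    omega
  · have h0 := le_antisymm (not_lt.1 hpos) zero_le
    rw [h0, mul_zero]
    refine le_antisymm ?_ zero_le
    refine le_of_forall_gt_imp_ge_of_dense fun b hb => ?_
    rcases eq_or_ne b ⊤ with rfl | hbtop
    · exact le_top
    have had : (0 : ℝ≥0∞) < (a : ℝ≥0∞) ^ d := ENNReal.pow_pos (by exact_mod_cast ha) d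
    have hb' : 0 < b / (a : ℝ≥0∞) ^ d := ENNReal.div_pos hb.ne' (ENNReal.pow_ne_top (ENNReal.natCast_ne_top a))
    obtain ⟨N, hN⟩ := Filter.eventually_atTop.1 (Filter.eventually_lt_of_limsup_lt (h0.trans_lt hb'))
    refine Filter.limsup_le_of_le (by isBoundedDefault) (Filter.eventually_atTop.2 ⟨max N 1, fun m hm => ?_⟩)
    have hle : N ≤ a * m := (le_of_max_le_left hm).trans (Nat.le_mul_of_pos_left m ha)
    have h2 := (hN (a * m) hle).le
    simp only [Groth.Agent.H0Growth23.ratio, Nat.cast_mul, mul_pow] at h2 ⊢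
    rw [ENNReal.div_le_iff (pow_ne_zero _ (by exact_mod_cast (show m ≠ 0 by omega))) (ENNReal.pow_ne_top (ENNReal.natCast_ne_top m))]
    rw [ENNReal.div_le_iff (mul_ne_zero had.ne' (pow_ne_zero _ (by exact_mod_cast (show m ≠ 0 by omega))))
      (ENNReal.mul_ne_top (ENNReal.pow_ne_top (ENNReal.natCast_ne_top a)) (ENNReal.pow_ne_top (ENNReal.natCast_ne_top m))),
      ← mul_assoc, ENNReal.div_mul_cancel had.ne' (ENNReal.pow_ne_top (ENNReal.natCast_ne_top a))] at h2
    exact h2

end Groth.Agent.S19805
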