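import Groth.Statements.S19807
import Groth.Agent.H0Growth23.ENN


set_option autoImplicit false
universe u
open CategoryTheory CategoryTheory.Limits AlgebraicGeometry
open scoped ENNReal
open Variety

namespace Groth.Agent.S19807

open Groth.Agent.H0Growth23

/-- Let X be a projective variety of dimension d over a field k (a geometrically integral scheme, proper
over k, admitting an ample invertible module, with dim X = d) and L an invertible O_X-module; write
vol(L) for the upper limit of dim_k H^0(X, L^m) / m^d as m → ∞, taken in the extended non-negative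
reals (the volume of L up to the factor d!). If E is an invertible O_X-module admitting a nonzero
global section (an effective Cartier divisor), then vol(L) ≤ vol(L ⊗ E): the volume increases in
effective directions. -/
theorem result (k : Type u) [Field k] (X : Scheme.{u})
    [X.Over (Spec (CommRingCat.of k))] [IsIntegral X] [GeometricallyIntegral (X ↘ Spec (CommRingCat.of k))]
    [IsProper (X ↘ Spec (CommRingCat.of k))]
    (hproj : ∃ A : X.Modules, CohB1.IsAmple A) (d : ℕ) (hd : topologicalKrullDim X = d)
    (L : X.Modules) (hL : PicF.IsInvertible L)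
    (E : X.Modules) (hE : PicF.IsInvertible E) (s : Coh.structureModule X ⟶ E) (hs : s ≠ 0) :
    Filter.limsup (fun m : ℕ => (Module.finrank k (Coh.HH X (CohB1.tensorPow L m) 0) : ℝ≥0∞) /
        (m : ℝ≥0∞) ^ d) Filter.atTop ≤
      Filter.limsup (fun m : ℕ => (Module.finrank k (Coh.HH X (CohB1.tensorPow (CohB1.tensorMod L E) m) 0) : ℝ≥0∞) /
        (m : ℝ≥0∞) ^ d) Filter.atTop := by
  have hne : ∃ t : Γ(E, (⊤ : X.Opens)), t ≠ 0 := ⟨Groth.Agent.Coherent.unitVal s ⊤, fun h => hs <| by
    rw [← AmpleLib.unitDesc_unitVal s, h, ← AmpleLib.unitDesc_unitVal (0 : Coh.structureModule X ⟶ E)]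
    rfl⟩
  refine Filter.limsup_le_limsup (Filter.Eventually.of_forall fun m => ENNReal.div_le_div_right (Nat.cast_le.2 ?_) _)
  rw [← h0Cl_pow k L hL m, ← h0Cl_pow k (CohB1.tensorMod L E) (AmpleLib.isInvertible_tensorMod hL hE) m,
    ← EulerLib.InvCl.mk_mul hL hE, mul_pow, mul_comm]
  exact h0Cl_le_mul k ((effCl_of_section hE hne.choose_spec).pow m)

end Groth.Agent.S19807
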