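import Groth.Statements.S19809
import Groth.Agent.BinForm.Basic
import Groth.Agent.BinForm.Factor

set_option autoImplicit false
universe u
open RatCurv

namespace Groth.Agent.S19809

open MvPolynomial in
lemma finrank_mul_forms {K : Type u} [Field K] (g : MvPolynomial (Fin 2) K) (hg : g ≠ 0) (d : ℕ) :
    Module.finrank K ↥((homogeneousSubmodule (Fin 2) K d).map (LinearMap.mulLeft K g)) = d + 1 := by
  rw [← (Submodule.equivMapOfInjective _ (mul_right_injective₀ hg) _).finrank_eq,
    Groth.Agent.BinForm.finrank_forms]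

open MvPolynomial in
lemma main (K : Type u) [Field K] [IsAlgClosed K]
    (V : Submodule K (MvPolynomial (Fin 2) K)) (hV : V ≤ homogeneousSubmodule (Fin 2) K 5)
    (hdim : Module.finrank K ↥V = 4) (F : Finset (MvPolynomial (Fin 2) K)) :
    ∃ g ∈ homogeneousSubmodule (Fin 2) K 3, g ≠ 0 ∧
      2 ≤ Module.finrank K ↥(V ⊓ (homogeneousSubmodule (Fin 2) K 2).map (LinearMap.mulLeft K g)) ∧
      ∀ g' ∈ F, ∀ c : K, g ≠ c • g' := by
  classical
  by_contra! hcon
  haveI : Module.Finite K V := Module.finite_of_finrank_eq_succ hdim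
  obtain ⟨w0, hw0, hw0'⟩ : ∃ w ∈ homogeneousSubmodule (Fin 2) K 5, w ∉ V := by
    by_contra! h
    have := Submodule.finrank_mono (R := K) (t := V) h
    rw [Groth.Agent.BinForm.finrank_forms] at this; omega
  obtain ⟨w1, hw1, hw1'⟩ : ∃ w ∈ homogeneousSubmodule (Fin 2) K 5, w ∉ V ⊔ K ∙ w0 := by
    by_contra! h
    have h1 := Submodule.finrank_mono (R := K) (t := V ⊔ K ∙ w0) h
    have h2 := Submodule.finrank_add_le_finrank_add_finrank V (K ∙ w0)
    rw [Groth.Agent.BinForm.finrank_forms] at h1
    rw [finrank_span_singleton (fun e => hw0' (by rw [e]; exact V.zero_mem))] at h2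
    omega
  let W : K → Submodule K (MvPolynomial (Fin 2) K) := fun t => V ⊔ K ∙ (w0 + t • w1)
  have hnv : ∀ t : K, w0 + t • w1 ∉ V := fun t h => by
    by_cases ht : t = 0
    · exact hw0' (by simpa [ht] using h)
    · refine hw1' (Submodule.mem_sup.2 ⟨_, V.smul_mem t⁻¹ h, _,
        Submodule.smul_mem _ (-t⁻¹) (Submodule.mem_span_singleton_self w0), ?_⟩)
      rw [smul_add, smul_smul, inv_mul_cancel₀ ht]; module
  have hW : ∀ t, Module.finrank K ↥(W t) = 5 := fun t => by
    have h1 : V ⊓ (K ∙ (w0 + t • w1)) = ⊥ := by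
      rw [eq_bot_iff]
      rintro x ⟨hx, hx'⟩
      obtain ⟨c, rfl⟩ := Submodule.mem_span_singleton.1 hx'
      rcases eq_or_ne c 0 with rfl | hc
      · simp
      · exact absurd (by simpa [smul_smul, hc] using V.smul_mem c⁻¹ hx) (hnv t)
    have := Submodule.finrank_sup_add_finrank_inf_eq V (K ∙ (w0 + t • w1))
    rw [h1, finrank_bot, hdim, finrank_span_singleton (fun e => hnv t (by rw [e]; exact V.zero_mem))]
      at this
    exact this
  have hWS : ∀ t, W t ≤ homogeneousSubmodule (Fin 2) K 5 := fun t => sup_le hV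
    ((Submodule.span_singleton_le_iff_mem _ _).2 (add_mem hw0 (Submodule.smul_mem _ t hw1)))
  have hg : ∀ t, ∃ g ∈ homogeneousSubmodule (Fin 2) K 3, g ≠ 0 ∧
      ∀ h ∈ homogeneousSubmodule (Fin 2) K 2, g * h ∈ W t := fun t =>
    Groth.Agent.BinForm.exists_mul_mem (b := 2) rfl (W t) (hWS t) (m := 1) (by rw [hW]) (by norm_num)
  choose g hg3 hg0 hgW using hg
  have h2 : ∀ t, 2 ≤ Module.finrank K
      ↥(V ⊓ (homogeneousSubmodule (Fin 2) K 2).map (LinearMap.mulLeft K (g t))) := fun t => by
    set M := (homogeneousSubmodule (Fin 2) K 2).map (LinearMap.mulLeft K (g t))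
    have hM : M ≤ W t := by
      rintro _ ⟨h, hh, rfl⟩; exact hgW t h hh
    haveI : Module.Finite K ↥(W t) := Module.finite_of_finrank_eq_succ (hW t)
    have h1 := Submodule.finrank_sup_add_finrank_inf_eq V M
    have h2 := Submodule.finrank_mono (R := K) (sup_le (le_sup_left : V ≤ W t) hM)
    rw [hdim, finrank_mul_forms _ (hg0 t), ] at h1
    rw [hW] at h2
    omega
  choose f hf c hc using fun t => hcon (g t) (hg3 t) (hg0 t) (h2 t)
  obtain ⟨s, t, hst, he⟩ := Finite.exists_ne_map_eq_of_infinite (fun t : K => (⟨f t, hf t⟩ : F))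
  replace he : f s = f t := congrArg Subtype.val he
  have hcs : c s ≠ 0 := fun e => hg0 s (by rw [hc s, e, zero_smul])
  have hgV : ∀ h ∈ homogeneousSubmodule (Fin 2) K 2, g s * h ∈ V := fun h hh => by
    have hs := hgW s h hh
    have ht : g s * h ∈ W t := by
      have : g s = (c s * (c t)⁻¹) • g t := by
        rw [hc s, hc t, he, smul_smul, mul_assoc, inv_mul_cancel₀ (fun e => hg0 t
          (by rw [hc t, e, zero_smul])), mul_one]
      rw [this, smul_mul_assoc]
      exact Submodule.smul_mem _ _ (hgW t h hh)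
    obtain ⟨v, hv, _, ha, e⟩ := Submodule.mem_sup.1 hs
    obtain ⟨a, rfl⟩ := Submodule.mem_span_singleton.1 ha
    obtain ⟨v', hv', _, hb, e'⟩ := Submodule.mem_sup.1 ht
    obtain ⟨b, rfl⟩ := Submodule.mem_span_singleton.1 hb
    have hVmem : (a - b) • w0 + (a * s - b * t) • w1 ∈ V := by
      have : (a - b) • w0 + (a * s - b * t) • w1 = v' - v := by
        have := e.trans e'.symm
        linear_combination (norm := module) this
      rw [this]; exact V.sub_mem hv' hv
    have hk : a * s - b * t = 0 := by
      by_contra hk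
      refine hw1' (Submodule.mem_sup.2 ⟨_, V.smul_mem (a * s - b * t)⁻¹ hVmem, _,
        Submodule.smul_mem _ (-((a * s - b * t)⁻¹ * (a - b))) (Submodule.mem_span_singleton_self w0), ?_⟩)
      rw [smul_add, smul_smul, smul_smul, inv_mul_cancel₀ hk]; module
    have hab : a - b = 0 := by
      by_contra hab
      rw [hk, zero_smul, add_zero] at hVmem
      exact hw0' (by simpa [smul_smul, inv_mul_cancel₀ hab] using V.smul_mem (a - b)⁻¹ hVmem)
    have ha0 : a = 0 := by
      have h' : a * (s - t) = 0 := by linear_combination hk - t * hab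
      exact (mul_eq_zero.1 h').resolve_right (sub_ne_zero.2 hst)
    rw [← e, ha0, zero_smul, add_zero]; exact hv
  -- second family
  obtain ⟨pt, hpt, hpt'⟩ := Groth.Agent.BinForm.exists_eval_eq_zero (d := 2) (hg3 s)
  obtain ⟨q, hq, hgq⟩ := Groth.Agent.BinForm.exists_linear_factor (d := 2) (hg3 s) pt hpt hpt'
  set l0 : MvPolynomial (Fin 2) K := C (pt 1) * X 0 - C (pt 0) * X 1
  have hl0 : l0.IsHomogeneous 1 := (isHomogeneous_C_mul_X _ _).sub (isHomogeneous_C_mul_X _ _)
  have hq0 : q ≠ 0 := fun e => hg0 s (by rw [hgq, e, mul_zero])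
  have hl00 : l0 ≠ 0 := fun e => hg0 s (by rw [hgq, e, zero_mul])
  let l : K → MvPolynomial (Fin 2) K := fun r => X 0 + C r * X 1
  have hl : ∀ r, (l r).IsHomogeneous 1 := fun r => (isHomogeneous_X K _).add (isHomogeneous_C_mul_X _ _)
  have hl00' : ∀ r, l r ≠ 0 := fun r e => by simpa [l] using congrArg (eval (![1, 0] : Fin 2 → K)) e
  have h2' : ∀ r, 2 ≤ Module.finrank K
      ↥(V ⊓ (homogeneousSubmodule (Fin 2) K 2).map (LinearMap.mulLeft K (l r * q))) := fun r => by
    have hle : (homogeneousSubmodule (Fin 2) K 1).map (LinearMap.mulLeft K (l r * q * l0)) ≤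
        V ⊓ (homogeneousSubmodule (Fin 2) K 2).map (LinearMap.mulLeft K (l r * q)) := by
      rintro _ ⟨h, hh, rfl⟩
      refine ⟨?_, ⟨l0 * h, hl0.mul hh, by simp [LinearMap.mulLeft_apply, mul_assoc]⟩⟩
      have := hgV (l r * h) ((hl r).mul hh)
      rw [hgq] at this
      have e : l r * q * l0 * h = l0 * q * (l r * h) := by ring
      change LinearMap.mulLeft K (l r * q * l0) h ∈ V
      rw [LinearMap.mulLeft_apply, e]; exact this
    have := Submodule.finrank_mono (R := K) hle
    rwa [finrank_mul_forms _ (mul_ne_zero (mul_ne_zero (hl00' r) hq0) hl00)] at this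
  choose f' hf' c' hc' using fun r =>
    hcon (l r * q) ((hl r).mul hq) (mul_ne_zero (hl00' r) hq0) (h2' r)
  obtain ⟨r, r', hrr, he'⟩ := Finite.exists_ne_map_eq_of_infinite (fun t : K => (⟨f' t, hf' t⟩ : F))
  replace he' : f' r = f' r' := congrArg Subtype.val he'
  have hz : l r * C (c' r') = l r' * C (c' r) := by
    refine mul_right_cancel₀ hq0 ?_
    have a1 := hc' r
    have a2 := hc' r'
    rw [smul_eq_C_mul] at a1 a2
    rw [← he'] at a2
    linear_combination C (c' r') * a1 - C (c' r) * a2
  have e0 := congrArg (eval (![1, 0] : Fin 2 → K)) hz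
  have e1 := congrArg (eval (![0, 1] : Fin 2 → K)) hz
  simp [l] at e0 e1
  have hcr : c' r' ≠ 0 := fun e => mul_ne_zero (hl00' r') hq0 (by rw [hc' r', e, zero_smul])
  rw [← e0] at e1
  exact hrr (mul_right_cancel₀ hcr e1)


/-- A smooth rational quintic curve C ⊂ P^3 has a one-parameter family of 3-secant lines. Stated, as for
the nondegenerate case, through binary forms: C is the image of P^1 under a 4-dimensional linear
series V of binary quintic forms which separates every length-2 subscheme of P^1 (for every nonzero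
quadratic form e, the forms of V together with the multiples of e span all quintic forms), so that
P^1 → P(V^*) = P^3 is a closed embedding; the linear forms on P^3 are the elements of V, a line L ⊂
P^3 is the 2-dimensional space of linear forms vanishing on it, and L ∩ C has length at least 3
exactly when that space is contained in g · K[s,t]_2 for a cubic form g. The conclusion: there are
infinitely many pairwise non-proportional nonzero cubic forms g with dim (V ∩ g · K[s,t]_2) ≥ 2,
i.e. for every finite set of cubics there is such a g proportional to none of them. (The ground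
field is algebraically closed of characteristic zero in place of the complex numbers; the third
printed assertion, on curves all of whose 3-secants are 4-secant, is not stated.) -/
theorem result (K : Type u) [Field K] [IsAlgClosed K]
    [CharZero K] (V : Submodule K (MvPolynomial (Fin 2) K))
    (hV : V ≤ MvPolynomial.homogeneousSubmodule (Fin 2) K 5) (hdim : Module.finrank K ↥V = 4)
    (hsep : ∀ e ∈ MvPolynomial.homogeneousSubmodule (Fin 2) K 2, e ≠ 0 →
      ∀ F ∈ MvPolynomial.homogeneousSubmodule (Fin 2) K 5, ∃ v ∈ V,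
        ∃ h ∈ MvPolynomial.homogeneousSubmodule (Fin 2) K 3, F = v + e * h)
    (F : Finset (MvPolynomial (Fin 2) K)) :
    ∃ g ∈ MvPolynomial.homogeneousSubmodule (Fin 2) K 3, g ≠ 0 ∧
      2 ≤ Module.finrank K ↥(V ⊓ (MvPolynomial.homogeneousSubmodule (Fin 2) K 2).map (LinearMap.mulLeft K g)) ∧
      ∀ g' ∈ F, ∀ c : K, g ≠ c • g' := by
  exact main K V hV hdim F

end Groth.Agent.S19809
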