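import Groth.Statements.S19816
import Groth.Agent.NoriFGS27.PullbackTorsor
-- import your own Groth.Agent.* helpers here

set_option autoImplicit false
set_option linter.style.haveILetI false
set_option backward.isDefEq.respectTransparency.types false
universe u
open CategoryTheory CategoryTheory.Limits MonoidalCategory CartesianMonoidalCategory MonObj GrpObj AlgebraicGeometry
open NoriFGS

namespace Groth.Agent.S19816

open CategoryTheory CategoryTheory.Limits MonObj AlgebraicGeometry in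
open Groth.Agent in
/-- Let X be a quasi-compact scheme over a field k with a rational point x which possesses a fundamental
group scheme with its universal pointed torsor. Let G, G₁, G₂ be finite group schemes over k with
homomorphisms φ₁ : G₁ → G and φ₂ : G₂ → G, and let T, T₁, T₂ be torsors over X (locally trivial for
the fpqc topology) under the base changes to X of G, G₁, G₂, each pointed by a k-point lying over x;
let f₁ : T₁ → T and f₂ : T₂ → T be morphisms of pointed torsors along φ₁ and φ₂. Let Q be the fibre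
product group scheme G₁ ×_G G₂ with its projections π₁, π₂. Then the fibre product T₁ ×_T T₂ carries
an action of the base change of Q for which both projections to T₁ and T₂ are equivariant (along π₁,
π₂) and which makes it a torsor over X, locally trivial for the fpqc topology: the category of
pointed finite torsors over X is closed under fibre products. (The published statement is an
equivalence; this row is the implication from possessing a fundamental group scheme. The source's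
standing convention for that chapter assumes the base field has characteristic p > 0; the printed
proof uses no characteristic hypothesis, so the row states it for any field.) -/
theorem result
    (k : Type u) [Field k] (X : Scheme.{u}) [X.Over (Spec (CommRingCat.of k))]
    (x : Spec (CommRingCat.of k) ⟶ X) (hx : x ≫ (X ↘ Spec (CommRingCat.of k)) = 𝟙 _)
    (πN : Over (Spec (CommRingCat.of k))) [GrpObj πN] (P : Over X)
    (a : AlgGrp.Action (Red.bc (X ↘ Spec (CommRingCat.of k)) πN) P) (p : Spec (CommRingCat.of k) ⟶ P.left)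
    (hP : NoriFGS.IsFGS x πN a p) [CompactSpace X]
    (G G₁ G₂ : Over (Spec (CommRingCat.of k))) [GrpObj G] [GrpObj G₁] [GrpObj G₂]
    [IsFinite G.hom] [IsFinite G₁.hom] [IsFinite G₂.hom]
    (φ₁ : G₁ ⟶ G) (φ₂ : G₂ ⟶ G) [IsMonHom φ₁] [IsMonHom φ₂]
    (T T₁ T₂ : Over X)
    (b : AlgGrp.Action (Red.bc (X ↘ Spec (CommRingCat.of k)) G) T)
    (b₁ : AlgGrp.Action (Red.bc (X ↘ Spec (CommRingCat.of k)) G₁) T₁)
    (b₂ : AlgGrp.Action (Red.bc (X ↘ Spec (CommRingCat.of k)) G₂) T₂)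
    (hT : NonAbH1.IsTorsorFor Scheme.fpqcPrecoverage b)
    (hT₁ : NonAbH1.IsTorsorFor Scheme.fpqcPrecoverage b₁)
    (hT₂ : NonAbH1.IsTorsorFor Scheme.fpqcPrecoverage b₂)
    (t : Spec (CommRingCat.of k) ⟶ T.left) (t₁ : Spec (CommRingCat.of k) ⟶ T₁.left) (t₂ : Spec (CommRingCat.of k) ⟶ T₂.left)
    (ht : t ≫ T.hom = x) (ht₁ : t₁ ≫ T₁.hom = x) (ht₂ : t₂ ≫ T₂.hom = x)
    (f₁ : T₁ ⟶ T) (f₂ : T₂ ⟶ T)
    (hf₁ : NoriFGS.IsPtTorsorHom b₁ t₁ b t φ₁ f₁) (hf₂ : NoriFGS.IsPtTorsorHom b₂ t₂ b t φ₂ f₂)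
    (Q : Over (Spec (CommRingCat.of k))) [GrpObj Q] (π₁ : Q ⟶ G₁) (π₂ : Q ⟶ G₂) [IsMonHom π₁] [IsMonHom π₂]
    (hQ : IsPullback π₁ π₂ φ₁ φ₂) :
    ∃ c : AlgGrp.Action (Red.bc (X ↘ Spec (CommRingCat.of k)) Q) (pullback f₁ f₂),
      AlgGrp.Action.IsEquivariant c (b₁.restrict ((Over.pullback (X ↘ Spec (CommRingCat.of k))).map π₁)) (pullback.fst f₁ f₂) ∧
      AlgGrp.Action.IsEquivariant c (b₂.restrict ((Over.pullback (X ↘ Spec (CommRingCat.of k))).map π₂)) (pullback.snd f₁ f₂) ∧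
      NonAbH1.IsTorsorFor Scheme.fpqcPrecoverage c := by
  obtain ⟨-, ⟨-, R, hR, hloc⟩, hpx, huniv⟩ := hP
  obtain ⟨c, hc₁, hc₂, hc⟩ := NoriFGS27.exists_action_pullback
    ((Over.pullback (X ↘ Spec (CommRingCat.of k))).map φ₁) ((Over.pullback (X ↘ Spec (CommRingCat.of k))).map φ₂)
    ((Over.pullback (X ↘ Spec (CommRingCat.of k))).map π₁) ((Over.pullback (X ↘ Spec (CommRingCat.of k))).map π₂)
    (hQ.map (Over.pullback (X ↘ Spec (CommRingCat.of k)))) hT.1 hT₁.1 hT₂.1 f₁ f₂ hf₁.1 hf₂.1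
  refine ⟨c, hc₁, hc₂, hc, R, hR, fun S' f hf => ?_⟩
  obtain ⟨ψ₁, hψ₁, g₁, hg₁, -⟩ := huniv G₁ T₁ b₁ t₁ hT₁ ht₁
  obtain ⟨ψ₂, hψ₂, g₂, hg₂, -⟩ := huniv G₂ T₂ b₂ t₂ hT₂ ht₂
  obtain ⟨ψ, hψ, g, hg, hu⟩ := huniv G T b t hT ht
  have key : ∀ (Gi : Over (Spec (CommRingCat.of k))) [GrpObj Gi] (Ti : Over X)
      (bi : AlgGrp.Action (Red.bc (X ↘ Spec (CommRingCat.of k)) Gi) Ti) (ti : Spec (CommRingCat.of k) ⟶ Ti.left)
      (φi : Gi ⟶ G) [IsMonHom φi] (fi : Ti ⟶ T) (ψi : πN ⟶ Gi) [IsMonHom ψi] (gi : P ⟶ Ti),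
      NoriFGS.IsPtTorsorHom bi ti b t φi fi → NoriFGS.IsPtTorsorHom a p bi ti ψi gi → gi ≫ fi = g := by
    intro Gi _ Ti bi ti φi _ fi ψi _ gi h1 h2
    refine (hu (ψi ≫ φi) (gi ≫ fi) ⟨?_, ?_⟩).2
    · show a.act ≫ gi ≫ fi = (_ ◁ (gi ≫ fi)) ≫ ((Over.pullback _).map (ψi ≫ φi) ▷ T) ≫ b.act
      have e1 : bi.act ≫ fi = (_ ◁ fi) ≫ ((Over.pullback _).map φi ▷ T) ≫ b.act := h1.1
      have e2 : a.act ≫ gi = (_ ◁ gi) ≫ ((Over.pullback _).map ψi ▷ Ti) ≫ bi.act := h2.1
      rw [← Category.assoc, e2, Category.assoc, Category.assoc, e1]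
      rw [← whisker_exchange_assoc ((Over.pullback _).map ψi) fi, ← MonoidalCategory.whiskerLeft_comp_assoc,
        ← comp_whiskerRight_assoc, ← Functor.map_comp]
    · show p ≫ (gi ≫ fi).left = t
      rw [Over.comp_left, ← Category.assoc, h2.2, h1.2]
  obtain ⟨s, hs⟩ := hloc f hf
  refine ⟨s ≫ (pullback.lift g₁ g₂ ((key G₁ T₁ b₁ t₁ φ₁ f₁ ψ₁ g₁ hf₁ hg₁).trans
    (key G₂ T₂ b₂ t₂ φ₂ f₂ ψ₂ g₂ hf₂ hg₂).symm)).left, ?_⟩
  rw [Category.assoc, Over.w]
  exact hs

end Groth.Agent.S19816
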