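import Groth.Statements.S19817
import Groth.Agent.NoriFGS27.Criteria
-- import your own Groth.Agent.* helpers here

set_option autoImplicit false
set_option linter.style.haveILetI false
set_option backward.isDefEq.respectTransparency.types false
universe u
open CategoryTheory CategoryTheory.Limits MonoidalCategory CartesianMonoidalCategory MonObj GrpObj AlgebraicGeometry
open NoriFGS

namespace Groth.Agent.S19817

open CategoryTheory CategoryTheory.Limits MonObj AlgebraicGeometry in
open Groth.Agent in
/-- Let k be a field and X a scheme over k with a rational point x which possesses a fundamental group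
scheme π with its universal pointed torsor. Suppose that there is a natural number M such that, for
every finite group scheme G over k and every G-torsor over X (locally trivial for the fpqc topology)
pointed over x which is Nori-reduced, the order of G, namely the dimension over k of the coordinate
ring Γ(G, O_G) (a k-algebra through the structure morphism G → Spec k), is at most M. Then π is
finite over k. -/
theorem result
    (k : Type u) [Field k] (X : Scheme.{u}) [X.Over (Spec (CommRingCat.of k))]
    (x : Spec (CommRingCat.of k) ⟶ X) (hx : x ≫ (X ↘ Spec (CommRingCat.of k)) = 𝟙 _)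
    (πN : Over (Spec (CommRingCat.of k))) [GrpObj πN] (P : Over X)
    (a : AlgGrp.Action (Red.bc (X ↘ Spec (CommRingCat.of k)) πN) P) (p : Spec (CommRingCat.of k) ⟶ P.left)
    (hP : NoriFGS.IsFGS x πN a p) (M : ℕ)
    (hM : ∀ (G : Over (Spec (CommRingCat.of k))) [GrpObj G] [IsFinite G.hom] (T : Over X)
      (b : AlgGrp.Action (Red.bc (X ↘ Spec (CommRingCat.of k)) G) T) (t : Spec (CommRingCat.of k) ⟶ T.left),
      NonAbH1.IsTorsorFor Scheme.fpqcPrecoverage b → t ≫ T.hom = x →
      NoriFGS.IsNoriReduced Scheme.fpqcPrecoverage b →
      @Module.finrank k (Coh.Γtop G.left) _ _ (Module.compHom (Coh.Γtop G.left) (Coh.toGlobal G.hom)) ≤ M) :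
    IsFinite πN.hom := by
  exact NoriFGS27.isFinite_of_bounded hx hP M hM

end Groth.Agent.S19817
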