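import Groth.Statements.S19818
import Groth.Agent.NoriFGS27.FiniteRed
-- import your own Groth.Agent.* helpers here

set_option autoImplicit false
set_option linter.style.haveILetI false
set_option backward.isDefEq.respectTransparency.types false
universe u
open CategoryTheory CategoryTheory.Limits MonoidalCategory CartesianMonoidalCategory MonObj GrpObj AlgebraicGeometry
open NoriFGS

namespace Groth.Agent.S19818

open CategoryTheory CategoryTheory.Limits MonObj AlgebraicGeometry in
open Groth.Agent in
/-- Let k be an algebraically closed field, X a smooth, proper and integral curve over k (of dimension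
one) with a rational point x, and let π be a fundamental group scheme of (X, x) with its universal
pointed torsor P. Let G be a connected reductive group over k and F a G-torsor over X (for the base
change of G to X, locally trivial for the fppf topology). Then F is essentially finite, meaning that
it admits a reduction of structure group to a finite group scheme: there are a finite group scheme Γ
over k, a homomorphism ι : Γ → G and a Γ-torsor Q over X together with an ι-equivariant X-morphism Q
→ F (so that F is obtained from Q by extension of the structure group along ι), if and only if there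
is a homomorphism ρ : π → G together with a ρ-equivariant X-morphism P → F (F is obtained from the
universal torsor by extension of the structure group along ρ). -/
theorem result
    (k : Type u) [Field k] [IsAlgClosed k] (X : Scheme.{u}) [X.Over (Spec (CommRingCat.of k))]
    [AlgebraicGeometry.IsIntegral X] [IsProper (X ↘ Spec (CommRingCat.of k))] [Smooth (X ↘ Spec (CommRingCat.of k))]
    (hdim : topologicalKrullDim X = 1)
    (x : Spec (CommRingCat.of k) ⟶ X) (hx : x ≫ (X ↘ Spec (CommRingCat.of k)) = 𝟙 _)
    (πN : Over (Spec (CommRingCat.of k))) [GrpObj πN] (P : Over X)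
    (a : AlgGrp.Action (Red.bc (X ↘ Spec (CommRingCat.of k)) πN) P) (p : Spec (CommRingCat.of k) ⟶ P.left)
    (hP : NoriFGS.IsFGS x πN a p)
    (G : Over (Spec (CommRingCat.of k))) [GrpObj G] (hG : Red.IsReductiveOver k G)
    (F : Over X) (aF : AlgGrp.Action (Red.bc (X ↘ Spec (CommRingCat.of k)) G) F)
    (hF : NonAbH1.IsTorsorFor Scheme.fppfPrecoverage aF) :
    (∃ (Gf : Over (Spec (CommRingCat.of k))) (_ : GrpObj Gf) (_ : IsFinite Gf.hom) (i : Gf ⟶ G) (_ : IsMonHom i)
        (Q : Over X) (c : AlgGrp.Action (Red.bc (X ↘ Spec (CommRingCat.of k)) Gf) Q),
        NonAbH1.IsTorsorFor Scheme.fppfPrecoverage c ∧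
          NonAbH1.IsPushforwardAlongSch ((Over.pullback (X ↘ Spec (CommRingCat.of k))).map i) c aF) ↔
      ∃ (ρ : πN ⟶ G) (_ : IsMonHom ρ),
        NonAbH1.IsPushforwardAlongSch ((Over.pullback (X ↘ Spec (CommRingCat.of k))).map ρ) a aF := by
  haveI : IsAffine G.left := hG.1
  haveI : Smooth G.hom := hG.2.1
  exact NoriFGS27.finite_reduction_iff hx hP hF

end Groth.Agent.S19818
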