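import Groth.Statements.S19819
import Groth.Agent.NoriFGS27.Criteria
-- import your own Groth.Agent.* helpers here

set_option autoImplicit false
set_option linter.style.haveILetI false
set_option backward.isDefEq.respectTransparency.types false
universe u
open CategoryTheory CategoryTheory.Limits MonoidalCategory CartesianMonoidalCategory MonObj GrpObj AlgebraicGeometry
open NoriFGS

namespace Groth.Agent.S19819

open CategoryTheory CategoryTheory.Limits MonObj AlgebraicGeometry in
open Groth.Agent in
/-- Let X and Y be schemes over a field k with rational points x and y, each possessing a fundamental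
group scheme with its universal pointed torsor, let f : X → Y be a k-morphism sending x to y, and
let φ be the homomorphism of fundamental group schemes induced by f. Suppose that for every finite
group scheme G over k and every G-torsor T over X (locally trivial for the fpqc topology), pointed
over x and Nori-reduced, there are a finite group scheme H over k, an H-torsor U over Y pointed over
y and Nori-reduced, a homomorphism i : G → H which is a closed immersion and a closed immersion j :
T → U ×_Y X over X, equivariant along i for the base-changed action and sending the marked point of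
T to the point of U ×_Y X lying over x and over the marked point of U (T is a pointed sub-torsor of
the pull-back of U). Then φ is a closed immersion. (The published statement is an equivalence and
does not require the sub-torsor to pass through the marked points; the converse implication fails:
for a finite etale Galois situation with groups V ⊂ S, V the Klein four-group normal in the
symmetric group S on four letters, a subgroup of order two of V is not the intersection of V with
any normal subgroup of S, so the corresponding torsor of order two over X is not a sub-torsor of any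
pull-back. The source's standing convention for that chapter assumes the base field has
characteristic p > 0; the printed proof uses no characteristic hypothesis, so the row states it for
any field.) -/
theorem result
    (k : Type u) [Field k] (X Y : Scheme.{u})
    [X.Over (Spec (CommRingCat.of k))] [Y.Over (Spec (CommRingCat.of k))]
    (x : Spec (CommRingCat.of k) ⟶ X) (y : Spec (CommRingCat.of k) ⟶ Y)
    (hx : x ≫ (X ↘ Spec (CommRingCat.of k)) = 𝟙 _) (hy : y ≫ (Y ↘ Spec (CommRingCat.of k)) = 𝟙 _)
    (f : X ⟶ Y) (hf : f ≫ (Y ↘ Spec (CommRingCat.of k)) = X ↘ Spec (CommRingCat.of k)) (hfx : x ≫ f = y)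
    (πX πY : Over (Spec (CommRingCat.of k))) [GrpObj πX] [GrpObj πY] (PX : Over X) (PY : Over Y)
    (aX : AlgGrp.Action (Red.bc (X ↘ Spec (CommRingCat.of k)) πX) PX)
    (aY : AlgGrp.Action (Red.bc (Y ↘ Spec (CommRingCat.of k)) πY) PY)
    (pX : Spec (CommRingCat.of k) ⟶ PX.left) (pY : Spec (CommRingCat.of k) ⟶ PY.left)
    (hX : NoriFGS.IsFGS x πX aX pX) (hY : NoriFGS.IsFGS y πY aY pY)
    (φ : πX ⟶ πY) (hφ : NoriFGS.IsInducedHom f hf aX pX aY pY φ)
    (hsub : ∀ (G : Over (Spec (CommRingCat.of k))) [GrpObj G] [IsFinite G.hom] (T : Over X)
      (b : AlgGrp.Action (Red.bc (X ↘ Spec (CommRingCat.of k)) G) T) (t : Spec (CommRingCat.of k) ⟶ T.left),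
      NonAbH1.IsTorsorFor Scheme.fpqcPrecoverage b → t ≫ T.hom = x →
      NoriFGS.IsNoriReduced Scheme.fpqcPrecoverage b →
      ∃ (H : Over (Spec (CommRingCat.of k))) (_ : GrpObj H) (_ : IsFinite H.hom) (U : Over Y)
        (c : AlgGrp.Action (Red.bc (Y ↘ Spec (CommRingCat.of k)) H) U) (u : Spec (CommRingCat.of k) ⟶ U.left)
        (i : G ⟶ H) (_ : IsMonHom i) (_ : IsClosedImmersion i.left)
        (j : T ⟶ Red.bc f U) (_ : IsClosedImmersion j.left),
        NonAbH1.IsTorsorFor Scheme.fpqcPrecoverage c ∧ u ≫ U.hom = y ∧
        NoriFGS.IsNoriReduced Scheme.fpqcPrecoverage c ∧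
        AlgGrp.Action.IsEquivariant b
          (((c.bc f).restrict (ActBC.bcCompIso f (Y ↘ Spec (CommRingCat.of k)) H hf).inv).restrict
            ((Over.pullback (X ↘ Spec (CommRingCat.of k))).map i)) j ∧
        t ≫ j.left ≫ pullback.fst U.hom f = u) :
    IsClosedImmersion φ.left := by
  exact NoriFGS27.isClosedImmersion_inducedHom hx f hf hfx hX hY hφ hsub

end Groth.Agent.S19819
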