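import Groth.Statements.S19821
import Groth.Agent.QG15.DualExtend
-- import your own Groth.Agent.* helpers here

set_option autoImplicit false
universe u
open QGor

namespace Groth.Agent.S19821

open CategoryTheory AlgebraicGeometry in
/-- For a proper S₂-morphism Y → Spec A to a Noetherian affine base, of pure relative dimension d, with
relative canonical sheaf ω (characterised by the d-dualizing property over A), and an open subset U
of the relative Gorenstein locus whose complement has codimension at least 2 in every fibre (the
local ring of the fibre at every point outside U has dimension ≥ 2), each reflexive power ω^{[m]}, m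
∈ ℤ (the double dual of the m-th tensor power of ω, resp. of its dual for m < 0), is the direct
image of its restriction to U: the unit ω^{[m]} → j_* (ω^{[m]}|_U) of the restriction–direct-image
adjunction along j : U → Y is an isomorphism. (On U the sheaf ω is invertible, so ω^{[m]}|_U is the
m-th tensor power of ω|_U; the source phrases the conclusion as ω^{[m]} ≅ j_*(ω_U^{⊗ m}).) -/
theorem result
    (A : Type u) [CommRing A] [IsNoetherianRing A] (Y : Scheme.{u}) [Y.Over (Spec (CommRingCat.of A))]
    [IsProper (Y ↘ Spec (CommRingCat.of A))] (d : ℕ)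
    (hS : RelCanon.IsSkMor (Y ↘ Spec (CommRingCat.of A)) 2) (hd : Cyc.HasRelDim (Y ↘ Spec (CommRingCat.of A)) d)
    (ω : Y.Modules) (hω : RelCanon.IsDualizingSheaf A Y d ω)
    (U : Y.Opens) (hU : (U : Set Y) ⊆ RelCanon.gorLocus (Y ↘ Spec (CommRingCat.of A)))
    (hcod : ∀ y : Y, y ∉ U → (2 : WithBot ℕ∞) ≤ ringKrullDim (((Y ↘ Spec (CommRingCat.of A)).fiber ((Y ↘ Spec (CommRingCat.of A)) y)).presheaf.stalk ((Y ↘ Spec (CommRingCat.of A)).asFiber y)))
    (m : ℤ) :
    IsIso ((Scheme.Modules.restrictAdjunction U.ι).unit.app (RelCanon.refPowZ ω m)) := by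
  haveI : IsLocallyNoetherian Y := LocallyOfFiniteType.isLocallyNoetherian (Y ↘ Spec (CommRingCat.of A))
  exact match m with
  | Int.ofNat n => QG15.isIso_restrictUnit_homSh
      (QG15.extends_structureModule U fun y hy => QG15.two_le_depth_of_isSkMor hS y (hcod y hy)) _
  | Int.negSucc n => QG15.isIso_restrictUnit_homSh
      (QG15.extends_structureModule U fun y hy => QG15.two_le_depth_of_isSkMor hS y (hcod y hy)) _

end Groth.Agent.S19821
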