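import Groth.Statements.S19822
import Groth.Agent.DualLib.RelTop.GorStalk

set_option autoImplicit false
universe u
open QGor

namespace Groth.Agent.S19822

open CategoryTheory AlgebraicGeometry in
/-- For a proper S₂-morphism Y → Spec A to a Noetherian affine base, of pure relative dimension d, whose
fibres are Gorenstein in codimension one (at every point outside the relative Gorenstein locus the
local ring of the fibre has dimension ≥ 2), the relative canonical sheaf ω (characterised by the
d-dualizing property over A) is reflexive: the canonical map ω → ω^{**} is an isomorphism. -/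
theorem result
    (A : Type u) [CommRing A] [IsNoetherianRing A] (Y : Scheme.{u}) [Y.Over (Spec (CommRingCat.of A))]
    [IsProper (Y ↘ Spec (CommRingCat.of A))] (d : ℕ)
    (hS : RelCanon.IsSkMor (Y ↘ Spec (CommRingCat.of A)) 2) (hd : Cyc.HasRelDim (Y ↘ Spec (CommRingCat.of A)) d)
    (ω : Y.Modules) (hω : RelCanon.IsDualizingSheaf A Y d ω)
    (hG : ∀ y : Y, y ∉ RelCanon.gorLocus (Y ↘ Spec (CommRingCat.of A)) →
      (2 : WithBot ℕ∞) ≤ ringKrullDim (((Y ↘ Spec (CommRingCat.of A)).fiber ((Y ↘ Spec (CommRingCat.of A)) y)).presheaf.stalk ((Y ↘ Spec (CommRingCat.of A)).asFiber y))) :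
    RefHull.IsReflexive ω := by
  open Groth.Agent Groth.Agent.DualLib.RelTop in
  haveI : ∀ (U V : Scheme.{u}) (j : U ⟶ V) [IsOpenImmersion j],
      Limits.PreservesFiniteLimits (Scheme.Modules.restrictFunctor j) := fun U V j _ =>
    DCat.PullPerf.preservesFiniteLimits_restrict j
  let f := Y ↘ Spec (CommRingCat.of A)
  haveI : IsNoetherianRing (CommRingCat.of A) := ‹IsNoetherianRing A›
  haveI : Flat f := hS.1
  haveI : IsLocallyNoetherian Y := LocallyOfFiniteType.isLocallyNoetherian f
  obtain ⟨hcoh, hdep⟩ := isCoh_and_two_le_depth A Y d hd ω hω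
  obtain ⟨hopen, hrefl⟩ := gor_open_and_reflexive A Y d hd ω hω
  let U : Y.Opens := ⟨RelCanon.gorLocus f, hopen⟩
  have hO : QG15.Extends (Coh.structureModule Y) U := QG15.extends_structureModule U fun y hy =>
    QG15.two_le_depth_of_isSkMor hS y (hG y hy)
  have hω' : QG15.Extends ω U := extends_of_depth ω hcoh U fun y hy => hdep y (hG y hy)
  exact isIso_of_extends (RefHull.bidualMap ω) hω'
    (fun V _ => QG15.bijective_res_homSh hO (RefHull.dual ω) V)
    (fun y hy => (RefHullLib.bijective_stalk_bidualMap_iff hcoh y).2 (hrefl y hy))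

end Groth.Agent.S19822
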