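import Groth.Statements.S19823
import Groth.Agent.DualLib.RelTop.CMBase
import Groth.Agent.DualLib.RelTop.ArtLevel

set_option autoImplicit false
universe u
open QGor

namespace Groth.Agent.S19823

  set_option backward.isDefEq.respectTransparency false

open CategoryTheory AlgebraicGeometry in
/-- For a proper S₂-morphism Y → Spec A to a Noetherian affine base, of pure relative dimension d, with
relative canonical sheaf ω (characterised by the d-dualizing property over A): if ω satisfies
relative S₂ over the base (flat over the base at every point, with S₂ restriction to each fibre),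
then for every Noetherian ring B, every ring map A → B and every cartesian square Y' → Y over Spec B
→ Spec A with projection p, the module p^*ω is again d-dualizing for Y' over B; that is, p^*ω is the
relative canonical sheaf of Y' over B (stated through the characterising property, so as the
existence of an isomorphism, not as a property of a named base change map). -/
theorem result
    (A : Type u) [CommRing A] [IsNoetherianRing A] (Y : Scheme.{u}) [Y.Over (Spec (CommRingCat.of A))]
    [IsProper (Y ↘ Spec (CommRingCat.of A))] (d : ℕ)
    (hS : RelCanon.IsSkMor (Y ↘ Spec (CommRingCat.of A)) 2) (hd : Cyc.HasRelDim (Y ↘ Spec (CommRingCat.of A)) d)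
    (ω : Y.Modules) (hω : RelCanon.IsDualizingSheaf A Y d ω)
    (h2 : RelCanon.RelSk (Y ↘ Spec (CommRingCat.of A)) 2 ω) :
    RelCanon.CommutesWithBaseChangeNoeth A Y d ω := by
  haveI : ∀ (U V : Scheme.{u}) (j : U ⟶ V) [IsOpenImmersion j],
      Limits.PreservesFiniteLimits (Scheme.Modules.restrictFunctor j) := fun U V j _ =>
    DCat.PullPerf.preservesFiniteLimits_restrict j
  intro B _ _ φ Y' _ p hp
  let f := Y ↘ Spec (CommRingCat.of A)
  let f' := Y' ↘ Spec (CommRingCat.of B)
  let h := Spec.map (CommRingCat.ofHom φ)
  haveI : Flat f := hS.1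
  haveI : IsProper f' := MorphismProperty.of_isPullback hp ‹IsProper f›
  have hd' : Cyc.HasRelDim f' d := by
    obtain ⟨i, hi, -, h2⟩ : ∃ (i : Y' ⟶ Limits.pullback f h) (_ : IsIso i), i ≫ Limits.pullback.fst f h = p ∧
        i ≫ Limits.pullback.snd f h = f' :=
      ⟨hp.isoPullback.hom, inferInstance, hp.isoPullback_hom_fst, hp.isoPullback_hom_snd⟩
    rw [← h2]
    haveI : LocallyOfFiniteType (Limits.pullback.snd f h) := MorphismProperty.pullback_snd _ _ inferInstance
    exact CycLib28.PB.hasRelDim_iso_comp (asIso i) _ (CycLib28.hasRelDim_snd f h hd)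
  obtain ⟨ω', hω'⟩ := DualLib.RelTop.exists_dualizing B Y' d hd'
  obtain ⟨e⟩ := DualLib.RelTop.nonempty_iso_of_relSk A Y d hd hS ω hω h2 B φ Y' p hp ω' hω'
  exact DualLib.RelTop.isDualizingSheaf_of_iso hω' e.symm

end Groth.Agent.S19823
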