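import Groth.Statements.S19824
import Groth.Agent.DualLib.RelTop.ArbPow

set_option autoImplicit false
universe u
open QGor

namespace Groth.Agent.S19824

  set_option backward.isDefEq.respectTransparency false

open CategoryTheory AlgebraicGeometry in
/-- For a proper S₂-morphism Y → Spec A to a Noetherian affine base, of pure relative dimension d, whose
fibres are Gorenstein in codimension one (outside the relative Gorenstein locus the local rings of
the fibres have dimension ≥ 2), with relative canonical sheaf ω (characterised by the d-dualizing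
property over A): for every Noetherian ring B, ring map A → B, cartesian square Y' → Y over Spec B →
Spec A with projection p, and relative canonical sheaf ω' of Y' over B (any O_{Y'}-module with the
d-dualizing property over B), and every m ∈ ℤ, the double dual of p^*(ω^{[m]}) is isomorphic to
ω'^{[m]}; if moreover ω^{[m]} satisfies relative S₂ over Spec A, then p^*(ω^{[m]}) ≅ ω'^{[m]}. Here
F^{[m]} is the double dual of the m-th tensor power of F (of its dual, for m < 0). The source's
isomorphisms are induced by the base change map; only the existence of isomorphisms is stated here. -/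
theorem result
    (A : Type u) [CommRing A] [IsNoetherianRing A] (Y : Scheme.{u}) [Y.Over (Spec (CommRingCat.of A))]
    [IsProper (Y ↘ Spec (CommRingCat.of A))] (d : ℕ)
    (hS : RelCanon.IsSkMor (Y ↘ Spec (CommRingCat.of A)) 2) (hd : Cyc.HasRelDim (Y ↘ Spec (CommRingCat.of A)) d)
    (ω : Y.Modules) (hω : RelCanon.IsDualizingSheaf A Y d ω)
    (hG : ∀ y : Y, y ∉ RelCanon.gorLocus (Y ↘ Spec (CommRingCat.of A)) →
      (2 : WithBot ℕ∞) ≤ ringKrullDim (((Y ↘ Spec (CommRingCat.of A)).fiber ((Y ↘ Spec (CommRingCat.of A)) y)).presheaf.stalk ((Y ↘ Spec (CommRingCat.of A)).asFiber y)))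
    (B : Type u) [CommRing B] [IsNoetherianRing B] (φ : A →+* B)
    (Y' : Scheme.{u}) [Y'.Over (Spec (CommRingCat.of B))] (p : Y' ⟶ Y)
    (hp : IsPullback p (Y' ↘ Spec (CommRingCat.of B)) (Y ↘ Spec (CommRingCat.of A)) (Spec.map (CommRingCat.ofHom φ)))
    (ω' : Y'.Modules) (hω' : RelCanon.IsDualizingSheaf B Y' d ω') (m : ℤ) :
    Nonempty (RefHull.ddual ((Scheme.Modules.pullback p).obj (RelCanon.refPowZ ω m)) ≅ RelCanon.refPowZ ω' m) ∧
    (RelCanon.RelSk (Y ↘ Spec (CommRingCat.of A)) 2 (RelCanon.refPowZ ω m) →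
      Nonempty ((Scheme.Modules.pullback p).obj (RelCanon.refPowZ ω m) ≅ RelCanon.refPowZ ω' m)) := by
  haveI : ∀ (U V : Scheme.{u}) (j : U ⟶ V) [IsOpenImmersion j],
      Limits.PreservesFiniteLimits (Scheme.Modules.restrictFunctor j) := fun U V j _ =>
    DCat.PullPerf.preservesFiniteLimits_restrict j
  let f := Y ↘ Spec (CommRingCat.of A)
  let f' := Y' ↘ Spec (CommRingCat.of B)
  let h := Spec.map (CommRingCat.ofHom φ)
  haveI : Flat f := hS.1
  haveI : IsNoetherianRing (CommRingCat.of A) := ‹IsNoetherianRing A›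
  haveI : IsNoetherianRing (CommRingCat.of B) := ‹IsNoetherianRing B›
  haveI : IsLocallyNoetherian Y := LocallyOfFiniteType.isLocallyNoetherian f
  haveI : IsProper f' := MorphismProperty.of_isPullback hp ‹IsProper f›
  haveI : Flat f' := MorphismProperty.of_isPullback hp ‹Flat f›
  haveI : IsLocallyNoetherian Y' := LocallyOfFiniteType.isLocallyNoetherian f'
  obtain ⟨hωc, -⟩ := DualLib.RelTop.isCoh_and_two_le_depth (A := A) (Y := Y) d hd ω hω
  have hω'c : Coh.IsCoh ω' := by
    refine (DualLib.RelTop.isCoh_and_two_le_depth (A := B) (Y := Y') d ?_ ω' hω').1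
    obtain ⟨i, hi, -, h2⟩ : ∃ (i : Y' ⟶ Limits.pullback f h) (_ : IsIso i), i ≫ Limits.pullback.fst f h = p ∧
        i ≫ Limits.pullback.snd f h = f' :=
      ⟨hp.isoPullback.hom, inferInstance, hp.isoPullback_hom_fst, hp.isoPullback_hom_snd⟩
    show Cyc.HasRelDim f' d
    rw [← h2]
    haveI : LocallyOfFiniteType (Limits.pullback.snd f h) := MorphismProperty.pullback_snd _ _ inferInstance
    exact CycLib28.PB.hasRelDim_iso_comp (asIso i) _ (CycLib28.hasRelDim_snd f h hd)
  obtain ⟨hopen, hinv⟩ := DualLib.RelTop.gor_open_and_invertible A Y d hd ω hω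
  let Yo : Y.Opens := ⟨RelCanon.gorLocus f, hopen⟩
  have hinv' : ∀ x : Y, x ∈ Yo → RelCanon.InvertibleAt ω x := fun x hx => hinv x hx
  obtain ⟨β, hβ⟩ := DualLib.RelTop.exists_iso_on_gor A Y d hd ω hω B φ Y' p hp ω' hω'
  let U' := p ⁻¹ᵁ Yo
  haveI := hβ U' fun v hv => hv
  let eU : ((Scheme.Modules.pullback p).obj ω).restrict U'.ι ≅ ω'.restrict U'.ι :=
    asIso ((Scheme.Modules.restrictFunctor U'.ι).map β)
  rcases m with n | n
  · exact DualLib.RelTop.nonempty_pow_baseChange p f f' h ω ω' hS hp Yo (fun x hx => hG x hx) hωc hinv' hω'c eU n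
  · refine DualLib.RelTop.nonempty_pow_baseChange p f f' h (RefHull.dual ω) (RefHull.dual ω') hS hp Yo (fun x hx => hG x hx)
      (RefHullLib.isCoh_dual hωc (Coherent.isCoh_structureModule Y))
      (fun x hx => DualLib.RelTop.invertibleAt_dual hωc x (hinv' x hx))
      (RefHullLib.isCoh_dual hω'c (Coherent.isCoh_structureModule Y')) ?_ (n + 1)
    refine Nonempty.some ?_
    obtain ⟨a⟩ := DualLib.RelTop.nonempty_pull_dual_on p Yo ω hinv'
    obtain ⟨b⟩ := DualLib.RelTop.nonempty_dual_restrict U' ((Scheme.Modules.pullback p).obj ω)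
    obtain ⟨c⟩ := DualLib.RelTop.nonempty_dual_restrict U' ω'
    obtain ⟨e⟩ := DualLib.RelTop.nonempty_dual_iso eU
    exact ⟨a ≪≫ b ≪≫ e ≪≫ c.symm⟩

end Groth.Agent.S19824
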