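import Groth.Statements.S19826
import Groth.Agent.DualLib.RelTop.Extend

set_option autoImplicit false
universe u
open QGor

namespace Groth.Agent.S19826

open CategoryTheory AlgebraicGeometry in
/-- For a proper S₂-morphism Y → Spec A to a Noetherian affine base, of pure relative dimension d, with
relative canonical sheaf ω (characterised by the d-dualizing property over A), the sheaf of
endomorphisms 𝓗om_{O_Y}(ω, ω) is isomorphic to O_Y. (Existence of an isomorphism of O_Y-modules
only: the map O_Y → 𝓗om(ω, ω) by scalar multiplication is not named here.) -/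
theorem result
    (A : Type u) [CommRing A] [IsNoetherianRing A] (Y : Scheme.{u}) [Y.Over (Spec (CommRingCat.of A))]
    [IsProper (Y ↘ Spec (CommRingCat.of A))] (d : ℕ)
    (hS : RelCanon.IsSkMor (Y ↘ Spec (CommRingCat.of A)) 2) (hd : Cyc.HasRelDim (Y ↘ Spec (CommRingCat.of A)) d)
    (ω : Y.Modules) (hω : RelCanon.IsDualizingSheaf A Y d ω) :
    Nonempty (RefHull.homSh ω ω ≅ Coh.structureModule Y) := by
  open Groth.Agent Groth.Agent.DualLib.RelTop in
  haveI : ∀ (U V : Scheme.{u}) (j : U ⟶ V) [IsOpenImmersion j],
      Limits.PreservesFiniteLimits (Scheme.Modules.restrictFunctor j) := fun U V j _ =>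
    DCat.PullPerf.preservesFiniteLimits_restrict j
  let f := Y ↘ Spec (CommRingCat.of A)
  haveI : IsNoetherianRing (CommRingCat.of A) := ‹IsNoetherianRing A›
  haveI : Flat f := hS.1
  haveI : IsLocallyNoetherian (Spec (CommRingCat.of A)) := inferInstance
  haveI : IsLocallyNoetherian Y := LocallyOfFiniteType.isLocallyNoetherian f
  haveI : LocallyOfFinitePresentation f := inferInstance
  obtain ⟨hcoh, hdep⟩ := isCoh_and_two_le_depth A Y d hd ω hω
  let U : Y.Opens := ⟨{y | MoreMor.IsCMAt f y}, Groth.Agent.S4961.result f⟩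
  have hO : QG15.Extends (Coh.structureModule Y) U := QG15.extends_structureModule U fun y hy =>
    QG15.two_le_depth_of_isSkMor hS y (two_le_dim_of_not_isCMAt f hS y hy)
  have hω' : QG15.Extends ω U := extends_of_depth ω hcoh U fun y hy =>
    hdep y (two_le_dim_of_not_isCMAt f hS y hy)
  haveI : IsIso (scalMap ω) := isIso_of_extends (scalMap ω) hO
    (fun V _ => QG15.bijective_res_homSh hω' ω V)
    (fun y hy => bijective_stalk_scalMap hcoh y (bijective_end_stalk A Y d hd ω hω y hy))
  exact ⟨(asIso (scalMap ω)).symm⟩

end Groth.Agent.S19826
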