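import Groth.Statements.S19828
import Groth.Agent.DualLib.RelTop.TwistTools
import Groth.Agent.DualLib.RelTop.LiftPow

set_option autoImplicit false
universe u
open QGor

namespace Groth.Agent.S19828

  set_option backward.isDefEq.respectTransparency false
open scoped TensorProduct

open CategoryTheory AlgebraicGeometry in
/-- `(S₃)` fibres have depth three at the points that are not Cohen–Macaulay; `(S₂)` at every point. -/
theorem fibre_depths {X T : Scheme.{u}} (f : X ⟶ T) [LocallyOfFiniteType f] [Flat f] (hS : RelCanon.IsSkMor f 2)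
    (t : T) (w : f.fiber t) :
    _root_.LocCoh.HasSk 2 ((f.fiber t).presheaf.stalk w) ((f.fiber t).presheaf.stalk w) ∧
    ((∀ y : X, f y = t → RelCanon.SkAt 3 (Coh.structureModule (f.fiber (f y))) (f.asFiber y)) →
      ¬ MoreMor.IsCMAt f (f.fiberι t w) →
      (3 : ℕ∞) ≤ _root_.LocCoh.depth ((f.fiber t).presheaf.stalk w) ((f.fiber t).presheaf.stalk w)) := by
  have key : ∀ (x : X) (q : T), f x = q → ∀ v : f.fiber q, f.fiberι q v = x →
      _root_.LocCoh.HasSk 2 ((f.fiber q).presheaf.stalk v) ((f.fiber q).presheaf.stalk v) ∧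
      (RelCanon.SkAt 3 (Coh.structureModule (f.fiber (f x))) (f.asFiber x) → ¬ MoreMor.IsCMAt f x →
        (3 : ℕ∞) ≤ _root_.LocCoh.depth ((f.fiber q).presheaf.stalk v) ((f.fiber q).presheaf.stalk v)) := by
    intro x q hq
    subst hq
    intro v hv
    obtain rfl : v = f.asFiber x := (f.fiberι _).isEmbedding.injective (hv.trans (f.fiberι_asFiber x).symm)
    refine ⟨(EGA43.FibDepth.hasSk_congr (EGA43.FibDepth.unitStalkEquiv (f.asFiber x)) 2).2 (hS.2.2 x), fun hsk hx => ?_⟩
    let R := (f.fiber (f x)).presheaf.stalk (f.asFiber x)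
    haveI : LocallyOfFiniteType (f.fiberToSpecResidueField (f x)) :=
      MorphismProperty.pullback_snd _ _ inferInstance
    haveI : IsLocallyNoetherian (f.fiber (f x)) :=
      LocallyOfFiniteType.isLocallyNoetherian (f.fiberToSpecResidueField (f x))
    have h1 : _root_.LocCoh.HasSk 3 R R :=
      (EGA43.FibDepth.hasSk_congr (EGA43.FibDepth.unitStalkEquiv (f.asFiber x)) 3).2 hsk
    have h2 := (CAlgH3.hasSk_self_iff 3).1 h1 (IsLocalRing.maximalIdeal R)
    let e : R ≃+* Localization.AtPrime (IsLocalRing.maximalIdeal R) :=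
      (IsLocalization.atUnits R (IsLocalRing.maximalIdeal R).primeCompl (fun a ha =>
        IsLocalRing.notMem_maximalIdeal.1 ha)).toRingEquiv
    rw [← ringKrullDim_eq_of_ringEquiv e, ← CAlgH3.depth_ringEquiv e] at h2
    have hle : ((_root_.LocCoh.depth R R : ℕ∞) : WithBot ℕ∞) ≤ ringKrullDim R :=
      Module.supportDim_self_eq_ringKrullDim (R := R) ▸ CAlgH3.depth_le_supportDim
    rcases min_le_iff.1 h2 with h | h
    · exact WithBot.coe_le_coe.1 h
    · exact absurd ⟨Flat.stalkMap f x, { supportDim_eq_depth :=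
        (Module.supportDim_self_eq_ringKrullDim (R := R)).trans (le_antisymm h hle) }⟩ hx
  have ht := EGA43.Chevalley.apply_fiberι f t w
  exact ⟨(key _ t ht w rfl).1, fun hS3 hw => (key _ t ht w rfl).2 (hS3 _ ht) hw⟩


open CategoryTheory AlgebraicGeometry in
/-- Let Y → Spec A be a proper S₂-morphism to a Noetherian affine base, of pure relative dimension d,
with relative canonical sheaf ω (characterised by the d-dualizing property over A); let L be a
coherent O_Y-module, M = 𝓗om(L, ω), U an open subset of Y and t a point of Spec A, and assume: (i)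
the local ring of the fibre Y_t at every point outside U has dimension ≥ 2; (ii) L is flat over the
base at every point of Y and its restriction to Y_t is d-dualizing over κ(t) (that is, L ⊗ O_{Y_t}
is isomorphic to the canonical sheaf of the fibre); (iii) either Y_t satisfies S₃ at every point and
its local ring at every point outside U has dimension ≥ 3, or for some integer r > 0 whose image in
κ(t) is non-zero the reflexive powers L^{[r]} and ω^{[r]} are invertible at every point of Y_t. Then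
at every point y of Y_t the module M is invertible near y and ω satisfies relative S₂ over the base
at y; M ⊗ O_{Y_t} ≅ O_{Y_t}; the restriction of ω to Y_t is d-dualizing over κ(t); and there is an
open subset containing Y_t on which L ⊗ M and ω are isomorphic. (The source concludes that the
canonical map L ⊗ M → ω is an isomorphism along Y_t and that the base change map of ω to the fibre
is an isomorphism; those maps are not named here, so the last three clauses are stated as existence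
of isomorphisms, and the base change conclusion is given in its equivalent form, relative S₂ of ω at
the points of Y_t. The open subset U enters only (i) and the codimension clause of (iii)(a), so the
case U = Y, in which these hold automatically and (iii)(a) reads 'Y_t satisfies S₃', implies the
case of every other U; the criterion is printed with this auxiliary U, and its proof draws the
codimension bounds it uses from the relative Cohen–Macaulay locus, whose complement meets each S₂
fibre in codimension at least 3, so no hypothesis on the Gorenstein locus of the fibre is needed.) -/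
theorem result
    (A : Type u) [CommRing A] [IsNoetherianRing A] (Y : Scheme.{u}) [Y.Over (Spec (CommRingCat.of A))]
    [IsProper (Y ↘ Spec (CommRingCat.of A))] (d : ℕ)
    (hS : RelCanon.IsSkMor (Y ↘ Spec (CommRingCat.of A)) 2) (hd : Cyc.HasRelDim (Y ↘ Spec (CommRingCat.of A)) d)
    (ω : Y.Modules) (hω : RelCanon.IsDualizingSheaf A Y d ω)
    (L : Y.Modules) (hL : Coh.IsCoh L) (hLf : FlatMod.IsFlatOver (Y ↘ Spec (CommRingCat.of A)) L)
    (U : Y.Opens) (t : (Spec (CommRingCat.of A)))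
    (h1 : ∀ y : Y, (Y ↘ Spec (CommRingCat.of A)) y = t → y ∉ U → (2 : WithBot ℕ∞) ≤ ringKrullDim (((Y ↘ Spec (CommRingCat.of A)).fiber ((Y ↘ Spec (CommRingCat.of A)) y)).presheaf.stalk ((Y ↘ Spec (CommRingCat.of A)).asFiber y)))
    (h2 : RelCanon.IsDualizingSheafFib (Y ↘ Spec (CommRingCat.of A)) d L t)
    (h3 : (∀ y : Y, (Y ↘ Spec (CommRingCat.of A)) y = t →
        RelCanon.SkAt 3 (Coh.structureModule ((Y ↘ Spec (CommRingCat.of A)).fiber ((Y ↘ Spec (CommRingCat.of A)) y))) ((Y ↘ Spec (CommRingCat.of A)).asFiber y) ∧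
        (y ∉ U → (3 : WithBot ℕ∞) ≤ ringKrullDim (((Y ↘ Spec (CommRingCat.of A)).fiber ((Y ↘ Spec (CommRingCat.of A)) y)).presheaf.stalk ((Y ↘ Spec (CommRingCat.of A)).asFiber y)))) ∨
      (∃ r : ℕ, 0 < r ∧ (r : (Spec (CommRingCat.of A)).residueField t) ≠ 0 ∧
        ∀ y : Y, (Y ↘ Spec (CommRingCat.of A)) y = t →
          RelCanon.InvertibleAt (RelCanon.refPowZ L r) y ∧ RelCanon.InvertibleAt (RelCanon.refPowZ ω r) y)) :
    (∀ y : Y, (Y ↘ Spec (CommRingCat.of A)) y = t →
      RelCanon.InvertibleAt (RefHull.homSh L ω) y ∧ RelCanon.RelSkAt (Y ↘ Spec (CommRingCat.of A)) 2 ω y) ∧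
    Nonempty ((Scheme.Modules.pullback ((Y ↘ Spec (CommRingCat.of A)).fiberι t)).obj (RefHull.homSh L ω) ≅
      Coh.structureModule ((Y ↘ Spec (CommRingCat.of A)).fiber t)) ∧
    RelCanon.IsDualizingSheafFib (Y ↘ Spec (CommRingCat.of A)) d ω t ∧
    (∃ V : Y.Opens, (∀ y : Y, (Y ↘ Spec (CommRingCat.of A)) y = t → y ∈ V) ∧
      Nonempty ((CohB1.tensorMod L (RefHull.homSh L ω)).restrict V.ι ≅ ω.restrict V.ι)) := by
  haveI : ∀ (U V : Scheme.{u}) (j : U ⟶ V) [IsOpenImmersion j],
      Limits.PreservesFiniteLimits (Scheme.Modules.restrictFunctor j) := fun U V j _ =>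
    DCat.PullPerf.preservesFiniteLimits_restrict j
  let f := Y ↘ Spec (CommRingCat.of A)
  let T := Spec (CommRingCat.of A)
  let k := T.residueField t
  let Y' := f.fiber t
  let ι := f.fiberι t
  haveI : Flat f := hS.1
  haveI : IsNoetherianRing (CommRingCat.of A) := ‹IsNoetherianRing A›
  haveI : IsLocallyNoetherian Y := LocallyOfFiniteType.isLocallyNoetherian f
  haveI : LocallyOfFinitePresentation f := LocallyOfFinitePresentation.iff_locallyOfFiniteType.2 inferInstance
  haveI : IsProper (f.fiberToSpecResidueField t) := MorphismProperty.pullback_snd _ _ ‹IsProper f›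
  haveI : Flat (f.fiberToSpecResidueField t) := MorphismProperty.pullback_snd _ _ ‹Flat f›
  haveI : IsLocallyNoetherian Y' := LocallyOfFiniteType.isLocallyNoetherian (f.fiberToSpecResidueField t)
  letI : Y'.Over (Spec (CommRingCat.of k)) := ⟨f.fiberToSpecResidueField t⟩
  haveI : IsProper (Y' ↘ Spec (CommRingCat.of k)) := ‹IsProper (f.fiberToSpecResidueField t)›
  haveI : Flat (Y' ↘ Spec (CommRingCat.of k)) := ‹Flat (f.fiberToSpecResidueField t)›
  have hd' : Cyc.HasRelDim (Y' ↘ Spec (CommRingCat.of k)) d := DualLib.RelTop.hasRelDim_fibre Y d hd t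
  obtain ⟨hωc, -⟩ := DualLib.RelTop.isCoh_and_two_le_depth (A := A) (Y := Y) d hd ω hω
  let pc := Scheme.Modules.pullback ι
  have hpc : ∀ M : Y.Modules, Coh.IsCoh M → Coh.IsCoh (pc.obj M) := fun M hM =>
    ⟨haveI := hM.1; EGA43.InjFibre.isQCoh_pullback ι M, Coherent.isFT_pullback_qcoh ι hM.1 hM.2⟩
  let Lt := pc.obj L
  obtain ⟨-, hLt2⟩ := DualLib.RelTop.isCoh_and_two_le_depth (A := k) (Y := Y') d hd' Lt h2
  have hO := Coherent.isCoh_structureModule Y
  let M := RefHull.homSh L ω
  have hM : Coh.IsCoh M := RefHullLib.isCoh_homSh hL hωc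
  let ε := DualLib.RelTop.evalHom L ω
  have hLM : Coh.IsCoh (CohB1.tensorMod L M) := by
    haveI := hL.1
    haveI := hM.1
    exact ⟨Coherent.isQCoh_tensorMod L M, Coherent.isFT_tensorMod L M hL.2 hM.2⟩
  let Ycm : Y.Opens := ⟨_, (Groth.Agent.S1341.result f).1⟩
  let W : Y.Opens := ⟨_, DualLib.RelTop.isOpen_invertibleLocus M⟩
  let N : Y.Opens := ⟨_, DualLib.RelTop.isOpen_bijective_stalk hLM hωc ε⟩
  let Wn : Y.Opens := (W ⊓ N) ⊓ Ycm
  have hCM : ∀ w : Y', MoreMor.IsCMAt f (ι w) → ι w ∈ Wn := fun w hw => by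
    obtain ⟨φ⟩ := DualLib.RelTop.nonempty_stalk_equiv_of_fibre_dualizing A Y d hd ω hω t L hL h2 w (hLf _) hw
    let B := Y.presheaf.stalk (ι w)
    let eM : M.presheaf.stalk (ι w) ≃ₗ[B] B :=
      (LinearEquiv.ofBijective (RefHull.evalStalk L ω (ι w)) (RefHullLib.evalStalk_bijective_of_isCoh hL _)).trans
        ((LinearEquiv.arrowCongr φ (LinearEquiv.refl B (ω.presheaf.stalk (ι w)))).trans
          (LinearEquiv.ofBijective (LinearMap.toSpanSingleton B _ (LinearMap.id : ω.presheaf.stalk (ι w) →ₗ[B] ω.presheaf.stalk (ι w)))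
            (DualLib.RelTop.bijective_end_stalk A Y d hd ω hω (ι w) hw)).symm)
    exact ⟨⟨DualLib.RelTop.invertibleAt_of_stalk_equiv hM _ eM,
      DualLib.RelTop.bijective_stalk_evalHom hL hωc (ι w) φ eM⟩, hw⟩
  have hdim : ∀ x : Y, f x = t → x ∉ Wn →
      (2 : WithBot ℕ∞) ≤ ringKrullDim ((f.fiber (f x)).presheaf.stalk (f.asFiber x)) := fun x hx hxW => by
    obtain ⟨w, rfl⟩ : ∃ w : Y', ι w = x := by
      have : x ∈ Set.range ι := by rw [f.range_fiberι]; exact hx
      exact this
    exact DualLib.RelTop.two_le_dim_of_not_isCMAt f hS _ fun hc => hxW (hCM w hc)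
  have hdep : ∀ (z : Y') (x : Y), x ⤳ ι z → x ∉ Wn →
      (2 : ℕ∞) ≤ _root_.LocCoh.depth (Y.presheaf.stalk x) (Y.presheaf.stalk x) :=
    fun z => DualLib.RelTop.two_le_depth_total f hS t z Wn hdim
  let U := ι ⁻¹ᵁ Wn
  have hdimU : ∀ w : Y', w ∉ U → (2 : WithBot ℕ∞) ≤ ringKrullDim (Y'.presheaf.stalk w) := fun w hw => by
    rw [DualLib.RelTop.dim_fibre_pt f t w]
    exact hdim _ (EGA43.Chevalley.apply_fiberι f t w) hw
  have hdepU : ∀ w : Y', w ∉ U → (2 : ℕ∞) ≤ _root_.LocCoh.depth (Y'.presheaf.stalk w) (Y'.presheaf.stalk w) :=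
    fun w hw => DualLib.RelTop.two_le_depth_fibre f hS t w fun x hx => hdim x
      (by rw [← hx]; exact EGA43.Chevalley.apply_fiberι f t w) (by rwa [← hx])
  -- on the Cohen–Macaulay part of the fibre the twist is trivial
  obtain ⟨eC⟩ := DualLib.RelTop.nonempty_fibre_iso_on_cm A Y d hd ω hω Wn (fun x hx => hx.2) t Lt h2
  have hiso : ∀ (V : Y.Opens), (∀ x : Y, x ∈ V → x ∈ N) →
      Nonempty ((CohB1.tensorMod L M).restrict V.ι ≅ ω.restrict V.ι) := fun V hV => by
    haveI := DualLib.RelTop.isIso_restrict_map V ε (fun x hx => hV x hx)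
    exact ⟨asIso ((Scheme.Modules.restrictFunctor V.ι).map ε)⟩
  obtain ⟨eWn⟩ := hiso Wn (fun x hx => hx.1.2)
  obtain ⟨ePn⟩ := DualLib.RelTop.nonempty_pull_restrict ι Wn eWn
  let P := pc.obj M
  let LU := Lt.restrict U.ι
  have hLU : Coh.IsCoh LU := Coherent.isCoh_restrict U (hpc L hL)
  haveI : IsIso (DualLib.RelTop.scalMap LU) := ModStalk.isIso_of_stalks _ fun u =>
    (ConcreteCategory.isIso_iff_bijective _).2 (DualLib.RelTop.bijective_stalk_scalMap hLU u (by
      obtain ⟨φ, e, he, -, -⟩ := RefHullLib.exists_semilinear_restrict U.ι Lt u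
      have huW : ι (U.ι u) ∈ Wn := u.2
      have hcm : MoreMor.IsCMAt f (ι (U.ι u)) := huW.2
      have key : ∀ (x : Y) (q : T), f x = q → ∀ v : f.fiber q, f.fiberι q v = x → MoreMor.IsCMAt f x →
          LocCoh.IsCohenMacaulayLocalRing ((f.fiber q).presheaf.stalk v) := by
        intro x q hq
        subst hq
        intro v hv h
        obtain rfl : v = f.asFiber x := (f.fiberι _).isEmbedding.injective (hv.trans (f.fiberι_asFiber x).symm)
        exact h.2
      exact DualLib.RelTop.bijective_smul_id_semilinear φ e he (DualLib.RelTop.bijective_end_stalk k Y' d hd' Lt h2 _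
        (DualLib.RelTop.isCMAt_field _ _ (key _ t (EGA43.Chevalley.apply_fiberι f t _) (U.ι u) rfl hcm)))))
  obtain ⟨eP⟩ := DualLib.RelTop.nonempty_dual_of_tensor (F := LU) (P := P.restrict U.ι) (N := LU)
    (Coherent.restrictTensorIso U.ι Lt P ≪≫
      (Scheme.Modules.restrictFunctor U.ι).mapIso (DCat.PullTensor.pullTensorIso ι L M).symm ≪≫ ePn ≪≫ eC.symm)
    (asIso (DualLib.RelTop.scalMap LU)).symm
  have hWinv : ∀ x : Y, x ∈ W → RelCanon.InvertibleAt M x := fun x hx => hx
  let D := RefHull.dual M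
  have hD : Coh.IsCoh D := RefHullLib.isCoh_dual hM hO
  have hDW : ∀ x : Y, x ∈ W → RelCanon.InvertibleAt D x := fun x hx => DualLib.RelTop.invertibleAt_dual hM x hx
  obtain ⟨eD0⟩ := DualLib.RelTop.nonempty_pull_dual_on ι Wn M (fun x hx => hWinv x hx.1.1)
  obtain ⟨eP'⟩ := DualLib.RelTop.nonempty_dual_restrict U P
  let eDU : (pc.obj D).restrict U.ι ≅ (Coh.structureModule Y').restrict U.ι :=
    eD0 ≪≫ eP' ≪≫ eP ≪≫ (Scheme.Modules.restrictUnitIso U.ι).symm
  have hG' : ∀ w : Y', RelCanon.InvertibleAt (RefHull.dual (pc.obj D)) w := fun w => by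
    obtain ⟨d1⟩ := DualLib.RelTop.nonempty_dual_restrict U (pc.obj D)
    obtain ⟨d2⟩ := DualLib.RelTop.nonempty_dual_restrict U (Coh.structureModule Y')
    obtain ⟨d3⟩ := DualLib.RelTop.nonempty_dual_iso eDU
    obtain ⟨d4⟩ := DualLib.RelTop.nonempty_dual_unit (X := Y')
    exact DualLib.RelTop.invertibleAt_dual_of_iso_on (hpc D hD) U
      (d1 ≪≫ d3 ≪≫ d2.symm ≪≫ (Scheme.Modules.restrictFunctor U.ι).mapIso d4) w fun v _ hv => hdepU v hv
  -- the double dual of the twist is invertible
  have hdd : ∀ z : Y', RelCanon.InvertibleAt (RefHull.dual D) (ι z) := fun z => by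
    rcases h3 with ha | ⟨r, hr, hrk, hrinv⟩
    · obtain ⟨φ⟩ := DualLib.RelTop.nonempty_pull_dual_on ι W D hDW
      obtain ⟨hfl, ⟨es⟩⟩ := DualLib.RelTop.flat_and_stalk_equiv_of_depth_three f hS t z W
        (fun x hx hxW => hdim x hx fun h => hxW h.1.1)
        D hD hDW (RefHull.dual (pc.obj D))
        (RefHullLib.isCoh_dual (hpc _ hD) (Coherent.isCoh_structureModule _)) φ fun w _ hw => by
          obtain ⟨a⟩ := DualLib.RelTop.exists_stalk_equiv_of_invertibleAt (hG' w)
          rw [CAlgH3.depth_congr a]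
          exact (fibre_depths f hS t w).2 (fun y hy => (ha y hy).1) fun hcm => hw (hCM w hcm).1.1
      obtain ⟨es'⟩ := DualLib.RelTop.exists_stalk_equiv_of_invertibleAt (hG' z)
      letI : Algebra (T.presheaf.stalk (f (ι z))) (Y.presheaf.stalk (ι z)) := (f.stalkMap (ι z)).hom.toAlgebra
      haveI : IsLocalHom (algebraMap (T.presheaf.stalk (f (ι z))) (Y.presheaf.stalk (ι z))) :=
        inferInstanceAs (IsLocalHom (f.stalkMap (ι z)).hom)
      letI : Algebra (Y.presheaf.stalk (ι z)) (Y'.presheaf.stalk z) := (ι.stalkMap z).hom.toAlgebra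
      let Q := RefHull.dual D
      have hQ : Coh.IsCoh Q := RefHullLib.isCoh_dual hD hO
      letI := FlatMod.moduleStalkOver f Q (ι z)
      haveI : IsScalarTower (T.presheaf.stalk (f (ι z))) (Y.presheaf.stalk (ι z))
        (Q.presheaf.stalk (ι z)) := IsScalarTower.of_compHom _ _ _
      haveI : Module.Flat (T.presheaf.stalk (f (ι z))) (Q.presheaf.stalk (ι z)) := hfl
      haveI : Module.Finite (Y.presheaf.stalk (ι z)) (Q.presheaf.stalk (ι z)) := AssSch12.finite_stalk hQ _
      obtain ⟨hs, hker⟩ := Props12.stalkMap_fiberι f t z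
      obtain ⟨e⟩ := DualLib.RelTop.nonempty_equiv_of_fibre (A := T.presheaf.stalk (f (ι z))) hs hker
        (Q.presheaf.stalk (ι z)) ((((ModStalk.pullbackStalkIso ι z).app Q).toLinearEquiv).symm.trans (es.trans es'))
      exact DualLib.RelTop.invertibleAt_of_stalk_equiv hQ _ e
    · obtain ⟨n, rfl⟩ : ∃ n, r = n + 1 := ⟨r - 1, by omega⟩
      obtain ⟨⟨V1, hV1, ⟨a1⟩⟩, ⟨V2, hV2, ⟨a2⟩⟩⟩ := hrinv (ι z) (EGA43.Chevalley.apply_fiberι f t z)
      let W1 : Y.Opens := (V1 ⊓ V2) ⊓ Wn
      have toUnit : ∀ (F : Y.Modules) (V : Y.Opens), W1 ≤ V → Coh.IsCoh F →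
          ((RelCanon.refPowZ F (n + 1 : ℕ)).restrict V.ι ≅ Coh.structureModule (V : Scheme.{u})) →
          Nonempty (RefHull.dual (CohB1.tensorPow (F.restrict W1.ι) (n + 1)) ≅ Coh.structureModule (W1 : Scheme.{u})) :=
        fun F V hV hF a => by
          obtain ⟨b⟩ := DualLib.RelTop.nonempty_dual_of_ddual_restrict (DualLib.RelTop.isCoh_tensorPow hF (n + 1)) W1
            (((Scheme.Modules.restrictFunctorCongr (Y.homOfLE_ι hV)).app _).symm ≪≫
              (Scheme.Modules.restrictFunctorComp (Y.homOfLE hV) V.ι).app _ ≪≫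
              (Scheme.Modules.restrictFunctor (Y.homOfLE hV)).mapIso a ≪≫ Scheme.Modules.restrictUnitIso _)
          obtain ⟨c⟩ := DualLib.RelTop.nonempty_restrict_tensorPow W1 F (n + 1)
          obtain ⟨c'⟩ := DualLib.RelTop.nonempty_dual_iso c
          obtain ⟨d⟩ := DualLib.RelTop.nonempty_dual_restrict W1 (CohB1.tensorPow F (n + 1))
          exact ⟨c'.symm ≪≫ d.symm ≪≫ b⟩
      obtain ⟨tL⟩ := toUnit L V1 (inf_le_left.trans inf_le_left) hL a1
      obtain ⟨tω⟩ := toUnit ω V2 (inf_le_left.trans inf_le_right) hωc a2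
      obtain ⟨eW1⟩ := hiso W1 (fun x hx => hx.2.1.2)
      obtain ⟨p0⟩ := DualLib.RelTop.nonempty_tensorPow_iso (Coherent.restrictTensorIso W1.ι L M ≪≫ eW1) (n + 1)
      obtain ⟨p1⟩ := DualLib.RelTop.nonempty_tensorPow_tensor (L.restrict W1.ι) (M.restrict W1.ι) (n + 1)
      obtain ⟨tM⟩ := DualLib.RelTop.nonempty_dual_of_dual_tensor (p1.symm ≪≫ p0) tL tω
      have iM := DualLib.RelTop.isInvertible_restrict W1 (fun x hx => hWinv x hx.2.1.1)
      obtain ⟨d1⟩ := DualLib.RelTop.nonempty_dual_restrict W1 M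
      have iMd : PicF.IsInvertible (RefHull.dual (M.restrict W1.ι)) := fun x => by
        obtain ⟨V, hV, ⟨e⟩⟩ := DualLib.RelTop.isInvertible_restrict W1 (fun x hx => hDW x hx.2.1.1) x
        exact ⟨V, hV, ⟨(Scheme.Modules.restrictFunctor V.ι).mapIso d1.symm ≪≫ e⟩⟩
      obtain ⟨tD⟩ := DualLib.RelTop.nonempty_dual_pow_unit iM iMd (n + 1) tM
      obtain ⟨p2⟩ := DualLib.RelTop.nonempty_restrict_tensorPow W1 D (n + 1)
      obtain ⟨p3⟩ := DualLib.RelTop.nonempty_tensorPow_iso d1 (n + 1)
      obtain ⟨p4⟩ := DualLib.RelTop.nonempty_restrict_ddual W1 (DualLib.RelTop.isCoh_tensorPow hD (n + 1))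
        (DualLib.RelTop.invertibleAt_tensorPow W1 D (fun x hx => hDW x hx.2.1.1) (n + 1))
      have hPinv := DualLib.RelTop.invertibleAt_dual_of_iso_on
        (RefHullLib.isCoh_dual (DualLib.RelTop.isCoh_tensorPow hD (n + 1)) hO) W1
        (p4.symm ≪≫ p2 ≪≫ p3 ≪≫ tD ≪≫ (Scheme.Modules.restrictUnitIso W1.ι).symm) (ι z) fun x hx hxW =>
          hdep z x hx fun h => hxW ⟨hx.mem_open (V1 ⊓ V2).isOpen ⟨hV1, hV2⟩, h⟩
      exact DualLib.RelTop.invertibleAt_dual_of_root f hS t z Wn hdim D hD (fun x hx => hDW x hx.1.1) (hG' z) n hrk hPinv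
  -- the twist is invertible, and evaluation is bijective, along the fibre
  have hMinv : ∀ z : Y', ι z ∈ W := fun z => by
    obtain ⟨r⟩ := DualLib.RelTop.nonempty_restrict_ddual W hM hWinv
    obtain ⟨a⟩ := DualLib.RelTop.nonempty_stalk_equiv_of_restrict hM (RefHullLib.isCoh_dual hD hO) W r (ι z)
      (fun x hx hxW => by
        have h0 := hdep z x hx fun h => hxW h.1.1
        have hω2 := DualLib.RelTop.two_le_depth_omega A Y d hd hS ω hω x h0
        haveI : Module.Finite (Y.presheaf.stalk x) (L.presheaf.stalk x) := AssSch12.finite_stalk hL x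
        haveI : Module.Finite (Y.presheaf.stalk x) (ω.presheaf.stalk x) := AssSch12.finite_stalk hωc x
        rw [CAlgH3.depth_congr (LinearEquiv.ofBijective (RefHull.evalStalk L ω x)
          (RefHullLib.evalStalk_bijective_of_isCoh hL x))]
        exact le_trans (le_min le_rfl hω2) (CAlgMisc2.min_two_depth_le_depth_hom _ _))
      (fun x hx hxW => DualLib.RelTop.two_le_depth_dual hD x (hdep z x hx fun h => hxW h.1.1))
    obtain ⟨b⟩ := DualLib.RelTop.exists_stalk_equiv_of_invertibleAt (hdd z)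
    exact DualLib.RelTop.invertibleAt_of_stalk_equiv hM _ (a.trans b)
  have hLMst : ∀ x : Y, x ∈ W → Nonempty ((CohB1.tensorMod L M).presheaf.stalk x ≃ₗ[Y.presheaf.stalk x] L.presheaf.stalk x) := fun x hx => by
    obtain ⟨eM⟩ := DualLib.RelTop.exists_stalk_equiv_of_invertibleAt (hWinv x hx)
    let st := DerSch.stalkFunctor Y x
    let e1 := (st.mapIso (AmpleLib.tensorComm L M)).toLinearEquiv
    obtain ⟨e2⟩ := DualLib.RelTop.nonempty_tensor_stalk_congr L x (eM.trans (SDiv28.unitStalkEquiv (X := Y) x))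
    exact ⟨(e1.trans e2).trans (st.mapIso (AmpleLib.unitTensorIso L)).toLinearEquiv⟩
  have hN : ∀ z : Y', ι z ∈ N := fun z => by
    refine DualLib.RelTop.bijective_stalk_of_depth hLM hωc ε (ι z) Wn (fun x _ hx => hx.1.2) ?_ ?_
    · intro x hx hxW
      obtain ⟨e⟩ := hLMst x (hx.mem_open W.isOpen (hMinv z))
      rw [CAlgH3.depth_congr e]
      refine (DualLib.RelTop.flat_and_depth f L hL t z Wn (fun v _ _ => hLf v) ?_).2 x hx hxW
      intro p hp
      rw [DualLib.RelTop.depth_toPt _ (hpc L hL).1 z p]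
      refine hLt2 _ ?_
      rw [DualLib.RelTop.dim_fiber_over_field]
      exact hdimU _ hp
    · intro x hx hxW
      exact le_trans (by norm_num) (DualLib.RelTop.two_le_depth_omega A Y d hd hS ω hω x (hdep z x hx hxW))
  have hrange : ∀ y : Y, f y = t → ∃ w : Y', ι w = y := fun y hy => by
    have : y ∈ Set.range ι := by rw [f.range_fiberι]; exact hy
    exact this
  -- the twist is trivial on the fibre
  have hPinv : ∀ w : Y', RelCanon.InvertibleAt P w := fun w => DualLib.RelTop.invertibleAt_pullback ι w (hWinv _ (hMinv w))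
  obtain ⟨ePU⟩ := DualLib.RelTop.nonempty_iso_unit_of_dual
    (DualLib.RelTop.isInvertible_restrict U (fun w _ => hPinv w)) eP
  obtain ⟨ePO⟩ := DualLib.RelTop.nonempty_iso_of_extends
    (DualLib.RelTop.extends_of_depth P (hpc M hM) U fun w hw => by
      obtain ⟨a⟩ := DualLib.RelTop.exists_stalk_equiv_of_invertibleAt (hPinv w)
      rw [CAlgH3.depth_congr a]
      exact hdepU w hw)
    (DualLib.RelTop.extends_of_depth (Coh.structureModule Y') (Coherent.isCoh_structureModule _) U fun w hw => by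
      rw [CAlgH3.depth_congr (SDiv28.unitStalkEquiv (X := Y') w).symm]
      exact hdepU w hw)
    (ePU ≪≫ (Scheme.Modules.restrictUnitIso U.ι).symm)
  haveI : IsIso (pc.map ε) :=
    FlatMor12.IsoLocusMod.isIso_pullback_of_disjoint ε ι fun w hw => hw (hN w)
  have hfib : RelCanon.IsDualizingSheafFib f d ω t := DualLib.RelTop.isDualizingSheaf_of_iso h2
    (((AmpleLib.tensorComm _ _) ≪≫ AmpleLib.unitTensorIso Lt).symm ≪≫ AmpleLib.tensorIso (Iso.refl Lt) ePO.symm ≪≫
      (DCat.PullTensor.pullTensorIso ι L M).symm ≪≫ asIso (pc.map ε))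
  refine ⟨fun y hy => ?_, ⟨ePO⟩, hfib, ⟨W ⊓ N, fun y hy => ?_, hiso (W ⊓ N) fun x hx => hx.2⟩⟩
  · obtain ⟨z, rfl⟩ := hrange y hy
    refine ⟨hMinv z, ?_⟩
    obtain ⟨e⟩ := hLMst (ι z) (hMinv z)
    obtain ⟨hfl, hsk⟩ := DualLib.RelTop.relSkAt_of_stalk_equiv f t z
      (e.symm.trans (LinearEquiv.ofBijective (RefHull.stalkMapₗ ε (ι z)) (hN z))) (hLf _)
      (DualLib.RelTop.skAt_two_dualizing k Y' d hd' Lt h2 z (fibre_depths f hS t z).1)
    have key : ∀ (x : Y) (q : T), f x = q → ∀ v : f.fiber q, f.fiberι q v = x →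
        RelCanon.SkAt 2 ((Scheme.Modules.pullback (f.fiberι q)).obj ω) v →
        RelCanon.SkAt 2 ((Scheme.Modules.pullback (f.fiberι (f x))).obj ω) (f.asFiber x) := by
      intro x q hq
      subst hq
      intro v hv hsk
      obtain rfl : v = f.asFiber x := (f.fiberι _).isEmbedding.injective (hv.trans (f.fiberι_asFiber x).symm)
      exact hsk
    exact ⟨hfl, key _ t (EGA43.Chevalley.apply_fiberι f t z) z rfl hsk⟩
  · obtain ⟨z, rfl⟩ := hrange y hy
    exact ⟨hMinv z, hN z⟩

end Groth.Agent.S19828
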