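import Groth.Statements.S19830
import Groth.Agent.DualLib.RelTop.LiftPow

set_option autoImplicit false
universe u
open QGor

namespace Groth.Agent.S19830

set_option backward.isDefEq.respectTransparency false

open CategoryTheory AlgebraicGeometry in
/-- Let Y → Spec A be a proper S₂-morphism to a Noetherian affine base, of pure relative dimension d,
with relative canonical sheaf ω (characterised by the d-dualizing property over A), which is naively
ℚ-Gorenstein: every fibre is Gorenstein in codimension one and ℚ-Gorenstein (for every t and every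
d-dualizing module ω_t on the fibre Y_t over κ(t) — its canonical sheaf — some reflexive power
ω_t^{[r]}, r > 0, is invertible at each point), and some ω^{[r]}, r > 0, is invertible at each point
of Y. For a point y over t, with ω_t the canonical sheaf of Y_t as above, let m be the relative
Gorenstein index at y (least r > 0 with ω^{[r]} invertible at y) and r the Gorenstein index of Y_t
at y (least r > 0 with ω_t^{[r]} invertible at y). Assume the fibre Y_t is Gorenstein in codimension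
two (at every point of Y_t outside the relative Gorenstein locus the local ring of Y_t has dimension
≥ 3) and satisfies S₃ at y. Then m = r. -/
theorem result
    (A : Type u) [CommRing A] [IsNoetherianRing A] (Y : Scheme.{u}) [Y.Over (Spec (CommRingCat.of A))]
    [IsProper (Y ↘ Spec (CommRingCat.of A))] (d : ℕ)
    (hS : RelCanon.IsSkMor (Y ↘ Spec (CommRingCat.of A)) 2) (hd : Cyc.HasRelDim (Y ↘ Spec (CommRingCat.of A)) d)
    (ω : Y.Modules) (hω : RelCanon.IsDualizingSheaf A Y d ω)
    (hG : ∀ y : Y, y ∉ RelCanon.gorLocus (Y ↘ Spec (CommRingCat.of A)) →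
      (2 : WithBot ℕ∞) ≤ ringKrullDim (((Y ↘ Spec (CommRingCat.of A)).fiber ((Y ↘ Spec (CommRingCat.of A)) y)).presheaf.stalk ((Y ↘ Spec (CommRingCat.of A)).asFiber y)))
    (hQf : ∀ (t : (Spec (CommRingCat.of A))) (ωt : ((Y ↘ Spec (CommRingCat.of A)).fiber t).Modules), @RelCanon.IsDualizingSheaf ((Spec (CommRingCat.of A)).residueField t) _ ((Y ↘ Spec (CommRingCat.of A)).fiber t) ⟨(Y ↘ Spec (CommRingCat.of A)).fiberToSpecResidueField t⟩ d ωt → RelCanon.IsQGorWith ωt)
    (hN : RelCanon.IsQGorWith ω)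
    (y : Y) (ωy : ((Y ↘ Spec (CommRingCat.of A)).fiber ((Y ↘ Spec (CommRingCat.of A)) y)).Modules) (hωy : @RelCanon.IsDualizingSheaf ((Spec (CommRingCat.of A)).residueField ((Y ↘ Spec (CommRingCat.of A)) y)) _ ((Y ↘ Spec (CommRingCat.of A)).fiber ((Y ↘ Spec (CommRingCat.of A)) y)) ⟨(Y ↘ Spec (CommRingCat.of A)).fiberToSpecResidueField ((Y ↘ Spec (CommRingCat.of A)) y)⟩ d ωy)
    (hG2 : ∀ y' : Y, (Y ↘ Spec (CommRingCat.of A)) y' = (Y ↘ Spec (CommRingCat.of A)) y → y' ∉ RelCanon.gorLocus (Y ↘ Spec (CommRingCat.of A)) →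
      (3 : WithBot ℕ∞) ≤ ringKrullDim (((Y ↘ Spec (CommRingCat.of A)).fiber ((Y ↘ Spec (CommRingCat.of A)) y')).presheaf.stalk ((Y ↘ Spec (CommRingCat.of A)).asFiber y')))
    (hS3 : RelCanon.SkAt 3 (Coh.structureModule ((Y ↘ Spec (CommRingCat.of A)).fiber ((Y ↘ Spec (CommRingCat.of A)) y))) ((Y ↘ Spec (CommRingCat.of A)).asFiber y)) :
    RelCanon.gorIndexWithAt ω y = RelCanon.gorIndexWithAt ωy ((Y ↘ Spec (CommRingCat.of A)).asFiber y) := by
  haveI : ∀ (U V : Scheme.{u}) (j : U ⟶ V) [IsOpenImmersion j],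
      Limits.PreservesFiniteLimits (Scheme.Modules.restrictFunctor j) := fun U V j _ =>
    DCat.PullPerf.preservesFiniteLimits_restrict j
  let f := Y ↘ Spec (CommRingCat.of A)
  haveI : Flat f := hS.1
  haveI : IsNoetherianRing (CommRingCat.of A) := ‹IsNoetherianRing A›
  haveI : IsLocallyNoetherian Y := LocallyOfFiniteType.isLocallyNoetherian f
  haveI : LocallyOfFiniteType (f.fiberToSpecResidueField (f y)) :=
    MorphismProperty.pullback_snd _ _ inferInstance
  haveI : IsLocallyNoetherian (f.fiber (f y)) :=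
    LocallyOfFiniteType.isLocallyNoetherian (f.fiberToSpecResidueField (f y))
  obtain ⟨hωc, -⟩ := DualLib.RelTop.isCoh_and_two_le_depth (A := A) (Y := Y) d hd ω hω
  obtain ⟨hopen, hinv⟩ := DualLib.RelTop.gor_open_and_invertible A Y d hd ω hω
  let Yo : Y.Opens := ⟨RelCanon.gorLocus f, hopen⟩
  let z := f.asFiber y
  let ι := f.fiberι (f y)
  have hz : ι z = y := f.fiberι_asFiber y
  have hωtc := DualLib.RelTop.isCoh_fibre_dualizing Y d hd (f y) ωy hωy
  obtain ⟨eC⟩ := DualLib.RelTop.nonempty_fibre_iso_on_cm A Y d hd ω hω Yo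
    (fun x hx => ⟨hx.1, by haveI := hx.2; exact LocCoh.isCohenMacaulayLocalRing_of_gorenstein⟩) (f y) ωy hωy
  have hdim : ∀ w : f.fiber (f y), w ⤳ z → ι w ∉ Yo →
      (2 : WithBot ℕ∞) ≤ ringKrullDim ((f.fiber (f y)).presheaf.stalk w) := fun w _ hwo =>
    (hG (ι w) hwo).trans_eq (DualLib.RelTop.dim_fibre_pt f (f y) w).symm
  have hdim3 : ∀ w : f.fiber (f y), w ⤳ z → ι w ∉ Yo →
      (3 : WithBot ℕ∞) ≤ ringKrullDim ((f.fiber (f y)).presheaf.stalk w) := fun w _ hwo =>
    (hG2 (ι w) (EGA43.Chevalley.apply_fiberι f (f y) w) hwo).trans_eq (DualLib.RelTop.dim_fibre_pt f (f y) w).symm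
  have key : ∀ r : ℕ, RelCanon.InvertibleAt (RelCanon.refPowZ ω r) y ↔
      RelCanon.InvertibleAt (RelCanon.refPowZ ωy r) z := by
    intro r
    constructor
    · intro h
      obtain ⟨a⟩ := DualLib.RelTop.exists_stalk_equiv_of_invertibleAt (x := ι z) (hz.symm ▸ h)
      obtain ⟨u⟩ := QG15.exists_fibre_unit_equiv f (f y) z
      have hsk0 : RelCanon.SkAt 2 ((Scheme.Modules.pullback ι).obj (Coh.structureModule Y)) z :=
        (EGA43.FibDepth.hasSk_congr (u.trans (EGA43.FibDepth.unitStalkEquiv z)) 2).2 (hS.2.2 y)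
      obtain ⟨hfl, hsk⟩ := DualLib.RelTop.relSkAt_of_stalk_equiv f (f y) z
        ((SDiv28.unitStalkEquiv (X := Y) _).symm.trans a.symm) (Lef23.isFlatOver_structureModule f _) hsk0
      exact (DualLib.RelTop.invertibleAt_refPow_iff_fibre Y d hS hd ω hω (f y) ωy hωy Yo le_rfl z hdim r hfl hsk).1
        (hz.symm ▸ h)
    · intro h
      obtain ⟨a⟩ := DualLib.RelTop.exists_stalk_equiv_of_invertibleAt h
      have h3' : RelCanon.SkAt 3 (RelCanon.refPowZ ωy r) z :=
        (EGA43.FibDepth.hasSk_congr (a.trans (SDiv28.unitStalkEquiv (X := f.fiber (f y)) z)) 3).2 hS3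
      obtain ⟨hfl, ⟨e⟩⟩ := DualLib.RelTop.flat_and_stalk_equiv_pow f hS (f y) z Yo (fun x _ hx => hG x hx) hdim3
        ω hωc (fun x hx => hinv x hx) ωy hωtc eC.symm r h3'
      have hsk : RelCanon.SkAt 2 ((Scheme.Modules.pullback ι).obj (RelCanon.refPowZ ω r)) z :=
        (EGA43.FibDepth.hasSk_congr e 2).2 (DualLib.RelTop.skAt_mono (show 2 ≤ 3 by norm_num) h3')
      exact hz ▸ (DualLib.RelTop.invertibleAt_refPow_iff_fibre Y d hS hd ω hω (f y) ωy hωy Yo le_rfl z hdim r hfl hsk).2 h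
  unfold RelCanon.gorIndexWithAt
  simp only [key]
  rfl

end Groth.Agent.S19830
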