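import Groth.Statements.S19831
import Groth.Agent.DualLib.RelTop.RootFibre

set_option autoImplicit false
universe u
open QGor

namespace Groth.Agent.S19831

set_option backward.isDefEq.respectTransparency false

open CategoryTheory AlgebraicGeometry in
/-- Let Y → Spec A be a proper S₂-morphism to a Noetherian affine base, of pure relative dimension d,
with relative canonical sheaf ω (characterised by the d-dualizing property over A), which is naively
ℚ-Gorenstein: every fibre is Gorenstein in codimension one and ℚ-Gorenstein (for every t and every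
d-dualizing module ω_t on the fibre Y_t over κ(t) — its canonical sheaf — some reflexive power
ω_t^{[r]}, r > 0, is invertible at each point), and some ω^{[r]}, r > 0, is invertible at each point
of Y. For a point y over t, with ω_t the canonical sheaf of Y_t as above, let m be the relative
Gorenstein index at y (least r > 0 with ω^{[r]} invertible at y) and r the Gorenstein index of Y_t
at y (least r > 0 with ω_t^{[r]} invertible at y). Assume the image of m in κ(t) is non-zero (m is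
prime to the characteristic of the residue field). Then m = r. -/
theorem result
    (A : Type u) [CommRing A] [IsNoetherianRing A] (Y : Scheme.{u}) [Y.Over (Spec (CommRingCat.of A))]
    [IsProper (Y ↘ Spec (CommRingCat.of A))] (d : ℕ)
    (hS : RelCanon.IsSkMor (Y ↘ Spec (CommRingCat.of A)) 2) (hd : Cyc.HasRelDim (Y ↘ Spec (CommRingCat.of A)) d)
    (ω : Y.Modules) (hω : RelCanon.IsDualizingSheaf A Y d ω)
    (hG : ∀ y : Y, y ∉ RelCanon.gorLocus (Y ↘ Spec (CommRingCat.of A)) →
      (2 : WithBot ℕ∞) ≤ ringKrullDim (((Y ↘ Spec (CommRingCat.of A)).fiber ((Y ↘ Spec (CommRingCat.of A)) y)).presheaf.stalk ((Y ↘ Spec (CommRingCat.of A)).asFiber y)))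
    (hQf : ∀ (t : (Spec (CommRingCat.of A))) (ωt : ((Y ↘ Spec (CommRingCat.of A)).fiber t).Modules), @RelCanon.IsDualizingSheaf ((Spec (CommRingCat.of A)).residueField t) _ ((Y ↘ Spec (CommRingCat.of A)).fiber t) ⟨(Y ↘ Spec (CommRingCat.of A)).fiberToSpecResidueField t⟩ d ωt → RelCanon.IsQGorWith ωt)
    (hN : RelCanon.IsQGorWith ω)
    (y : Y) (ωy : ((Y ↘ Spec (CommRingCat.of A)).fiber ((Y ↘ Spec (CommRingCat.of A)) y)).Modules) (hωy : @RelCanon.IsDualizingSheaf ((Spec (CommRingCat.of A)).residueField ((Y ↘ Spec (CommRingCat.of A)) y)) _ ((Y ↘ Spec (CommRingCat.of A)).fiber ((Y ↘ Spec (CommRingCat.of A)) y)) ⟨(Y ↘ Spec (CommRingCat.of A)).fiberToSpecResidueField ((Y ↘ Spec (CommRingCat.of A)) y)⟩ d ωy)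
    (hm : (RelCanon.gorIndexWithAt ω y : (Spec (CommRingCat.of A)).residueField ((Y ↘ Spec (CommRingCat.of A)) y)) ≠ 0) :
    RelCanon.gorIndexWithAt ω y = RelCanon.gorIndexWithAt ωy ((Y ↘ Spec (CommRingCat.of A)).asFiber y) := by
  haveI : ∀ (U V : Scheme.{u}) (j : U ⟶ V) [IsOpenImmersion j],
      Limits.PreservesFiniteLimits (Scheme.Modules.restrictFunctor j) := fun U V j _ =>
    DCat.PullPerf.preservesFiniteLimits_restrict j
  let f := Y ↘ Spec (CommRingCat.of A)
  haveI : Flat f := hS.1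
  haveI : IsNoetherianRing (CommRingCat.of A) := ‹IsNoetherianRing A›
  haveI : IsLocallyNoetherian Y := LocallyOfFiniteType.isLocallyNoetherian f
  haveI : LocallyOfFiniteType (f.fiberToSpecResidueField (f y)) :=
    MorphismProperty.pullback_snd _ _ inferInstance
  haveI : IsLocallyNoetherian (f.fiber (f y)) :=
    LocallyOfFiniteType.isLocallyNoetherian (f.fiberToSpecResidueField (f y))
  obtain ⟨hωc, -⟩ := DualLib.RelTop.isCoh_and_two_le_depth (A := A) (Y := Y) d hd ω hω
  obtain ⟨hopen, hinv⟩ := DualLib.RelTop.gor_open_and_invertible A Y d hd ω hω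
  let Yo : Y.Opens := ⟨RelCanon.gorLocus f, hopen⟩
  let z := f.asFiber y
  let ι := f.fiberι (f y)
  have hz : ι z = y := f.fiberι_asFiber y
  have hωtc := DualLib.RelTop.isCoh_fibre_dualizing Y d hd (f y) ωy hωy
  obtain ⟨eC⟩ := DualLib.RelTop.nonempty_fibre_iso_on_cm A Y d hd ω hω Yo
    (fun x hx => ⟨hx.1, by haveI := hx.2; exact LocCoh.isCohenMacaulayLocalRing_of_gorenstein⟩) (f y) ωy hωy
  have hdim : ∀ w : f.fiber (f y), w ⤳ z → ι w ∉ Yo →
      (2 : WithBot ℕ∞) ≤ ringKrullDim ((f.fiber (f y)).presheaf.stalk w) := fun w _ hwo =>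
    (hG (ι w) hwo).trans_eq (DualLib.RelTop.dim_fibre_pt f (f y) w).symm
  let m := RelCanon.gorIndexWithAt ω y
  obtain ⟨r₀, hr₀, hr₀i⟩ := hN y
  have hmS : 0 < m ∧ RelCanon.InvertibleAt (RelCanon.refPowZ ω m) y :=
    Nat.sInf_mem (s := {r : ℕ | 0 < r ∧ RelCanon.InvertibleAt (RelCanon.refPowZ ω r) y}) ⟨r₀, hr₀, hr₀i⟩
  have fwd : ∀ r : ℕ, RelCanon.InvertibleAt (RelCanon.refPowZ ω r) y →
      RelCanon.InvertibleAt (RelCanon.refPowZ ωy r) z := by
    intro r h
    obtain ⟨a⟩ := DualLib.RelTop.exists_stalk_equiv_of_invertibleAt (x := ι z) (hz.symm ▸ h)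
    obtain ⟨u⟩ := QG15.exists_fibre_unit_equiv f (f y) z
    have hsk0 : RelCanon.SkAt 2 ((Scheme.Modules.pullback ι).obj (Coh.structureModule Y)) z :=
      (EGA43.FibDepth.hasSk_congr (u.trans (EGA43.FibDepth.unitStalkEquiv z)) 2).2 (hS.2.2 y)
    obtain ⟨hfl, hsk⟩ := DualLib.RelTop.relSkAt_of_stalk_equiv f (f y) z
      ((SDiv28.unitStalkEquiv (X := Y) _).symm.trans a.symm) (Lef23.isFlatOver_structureModule f _) hsk0
    exact (DualLib.RelTop.invertibleAt_refPow_iff_fibre Y d hS hd ω hω (f y) ωy hωy Yo le_rfl z hdim r hfl hsk).1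
      (hz.symm ▸ h)
  let r := RelCanon.gorIndexWithAt ωy z
  have hmy := fwd m hmS.2
  have hrS : 0 < r ∧ RelCanon.InvertibleAt (RelCanon.refPowZ ωy r) z :=
    Nat.sInf_mem (s := {r : ℕ | 0 < r ∧ RelCanon.InvertibleAt (RelCanon.refPowZ ωy r) z}) ⟨m, hmS.1, hmy⟩
  obtain ⟨c, hc⟩ : r ∣ m := DualLib.RelTop.gorIndex_dvd hωtc (ι ⁻¹ᵁ Yo) z
    (fun v hv => DualLib.RelTop.invertibleAt_fibre_dualizing Y d hd ω hω (f y) ωy hωy Yo le_rfl v hv)
    (fun v _ hvo => DualLib.RelTop.two_le_depth_fibre f hS (f y) v fun x hx => by subst hx; exact hG _ hvo)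
    m hmS.1 hmy
  obtain ⟨k, rfl⟩ : ∃ k, c = k + 1 := ⟨c - 1, by
    have : c ≠ 0 := fun h0 => by rw [h0, mul_zero] at hc; omega
    omega⟩
  have hk : ((k + 1 : ℕ) : (Spec (CommRingCat.of A)).residueField (f y)) ≠ 0 := fun h0 => hm (by
    show ((m : ℕ) : (Spec (CommRingCat.of A)).residueField (f y)) = 0
    rw [hc, Nat.cast_mul, h0, mul_zero])
  have hr := DualLib.RelTop.invertibleAt_refPow_of_power f hS (f y) z Yo (fun x _ hx => hG x hx) ω hωc
    (fun x hx => hinv x hx) ωy hωtc eC.symm r k hk hrS.2 (by rw [← hc]; exact hz.symm ▸ hmS.2)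
  have hr' : RelCanon.InvertibleAt (RelCanon.refPowZ ω r) y := by
    have h2 := hr
    rwa [show f.fiberι (f y) z = y from hz] at h2
  refine le_antisymm (Nat.sInf_le ⟨hrS.1, hr'⟩) ?_
  show r ≤ m
  rw [hc]
  exact Nat.le_mul_of_pos_right r k.succ_pos

end Groth.Agent.S19831
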