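import Groth.Statements.S19832
import Groth.Agent.QG15.SkNhd
-- import your own Groth.Agent.* helpers here

set_option autoImplicit false
universe u
open QGor

namespace Groth.Agent.S19832

open CategoryTheory AlgebraicGeometry in
/-- Take f : Y → T flat and locally of finite type with Y and T locally Noetherian, an integer k ≥ 2, a
point y of Y at which the fibre through y satisfies Serre's condition S_k, and an open subset Y° of
Y not containing y. Suppose the local codimension at y of Y_{f(y)} ∖ Y° in the fibre is at least c:
at every point z ∉ Y° of the fibre through y which specializes to y, the local ring of the fibre has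
dimension ≥ c. Then y has an open neighbourhood U such that U → T is an S_k-morphism (flat, locally
of finite type, all fibres S_k at all points) of pure relative dimension (every irreducible
component of every fibre of U → T has the same dimension e), and at every point z ∈ U with z ∉ Y°
the local ring at z of the fibre of f through z has dimension ≥ c; that is, codim(U_t ∖ Y°, U_t) ≥ c
for every t. -/
theorem result
    {Y T : Scheme.{u}} (f : Y ⟶ T) [IsLocallyNoetherian Y] [IsLocallyNoetherian T]
    [Flat f] [LocallyOfFiniteType f] (k : ℕ) (hk : 2 ≤ k) (y : Y)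
    (hy : RelCanon.SkAt k (Coh.structureModule (f.fiber (f y))) (f.asFiber y))
    (Yo : Y.Opens) (hyo : y ∉ Yo) (c : WithBot ℕ∞)
    (hc : ∀ z : Y, f z = f y → z ∉ Yo → z ⤳ y →
      c ≤ ringKrullDim ((f.fiber (f z)).presheaf.stalk (f.asFiber z))) :
    ∃ U : Y.Opens, y ∈ U ∧ RelCanon.IsSkMor (U.ι ≫ f) k ∧
      (∃ e : ℕ, Cyc.HasRelDim (U.ι ≫ f) e) ∧
      ∀ z : Y, z ∈ U → z ∉ Yo → c ≤ ringKrullDim ((f.fiber (f z)).presheaf.stalk (f.asFiber z)) := by
  haveI : LocallyOfFinitePresentation f := inferInstance
  exact QG15.main f k hk y hy Yo hyo c hc

end Groth.Agent.S19832
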