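import Groth.Statements.S19833
import Groth.Agent.DualLib.RelTop.QGorLocal

set_option autoImplicit false
universe u
open QGor

namespace Groth.Agent.S19833

set_option backward.isDefEq.respectTransparency false


open CategoryTheory AlgebraicGeometry in
/-- Conditions (i)+(ii) ⟺ (v), and (i)+(ii) ⟹ (iii), in the following form: let Y → Spec A be a proper
S₂-morphism to a Noetherian affine base, of pure relative dimension d, with relative canonical sheaf
ω (characterised by the d-dualizing property over A); let Y° be the relative Gorenstein locus, as an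
open subset with inclusion j, let y be a point and r > 0. The following are equivalent. (A) The
local ring of the fibre through y has dimension ≥ 2 at every point of that fibre outside Y° which
specializes to y (local codimension of the non-Gorenstein locus of the fibre at y is ≥ 2), and the
direct image j_*((ω|_{Y°})^{⊗ r}) is invertible at y. (B) On some open neighbourhood U of y: ω^{[r]}
(the double dual of ω^{⊗ r}) is invertible at every point; at every point of U outside Y° the local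
ring of the fibre has dimension ≥ 2; and at every z ∈ U, for every d-dualizing module ω' on the
fibre through z over κ(f(z)) (the canonical sheaf of the fibre), some ω'^{[s]} with s > 0 is
invertible at z and the least such s divides r (the fibre is ℚ-Gorenstein at z of index dividing r).
(The source takes Y° to be any open subset of the relative Gorenstein locus; for the implication (B)
⟹ (A) the whole locus is needed — with Y° empty and Y = Spec A the condition in (A) on the fibre
fails — so Y° is the full relative Gorenstein locus here.) -/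
theorem result
    (A : Type u) [CommRing A] [IsNoetherianRing A] (Y : Scheme.{u}) [Y.Over (Spec (CommRingCat.of A))]
    [IsProper (Y ↘ Spec (CommRingCat.of A))] (d : ℕ)
    (hS : RelCanon.IsSkMor (Y ↘ Spec (CommRingCat.of A)) 2) (hd : Cyc.HasRelDim (Y ↘ Spec (CommRingCat.of A)) d)
    (ω : Y.Modules) (hω : RelCanon.IsDualizingSheaf A Y d ω)
    (Yo : Y.Opens) (hYo : (Yo : Set Y) = RelCanon.gorLocus (Y ↘ Spec (CommRingCat.of A))) (y : Y) (r : ℕ) (hr : 0 < r) :
    ((∀ z : Y, (Y ↘ Spec (CommRingCat.of A)) z = (Y ↘ Spec (CommRingCat.of A)) y → z ∉ Yo → z ⤳ y → (2 : WithBot ℕ∞) ≤ ringKrullDim (((Y ↘ Spec (CommRingCat.of A)).fiber ((Y ↘ Spec (CommRingCat.of A)) z)).presheaf.stalk ((Y ↘ Spec (CommRingCat.of A)).asFiber z))) ∧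
      RelCanon.InvertibleAt ((Scheme.Modules.pushforward Yo.ι).obj (CohB1.tensorPow (ω.restrict Yo.ι) r)) y) ↔
    (∃ U : Y.Opens, y ∈ U ∧ ∀ z : Y, z ∈ U →
      RelCanon.InvertibleAt (RelCanon.refPowZ ω r) z ∧
      (z ∉ Yo → (2 : WithBot ℕ∞) ≤ ringKrullDim (((Y ↘ Spec (CommRingCat.of A)).fiber ((Y ↘ Spec (CommRingCat.of A)) z)).presheaf.stalk ((Y ↘ Spec (CommRingCat.of A)).asFiber z))) ∧
      ∀ ωz : ((Y ↘ Spec (CommRingCat.of A)).fiber ((Y ↘ Spec (CommRingCat.of A)) z)).Modules, @RelCanon.IsDualizingSheaf ((Spec (CommRingCat.of A)).residueField ((Y ↘ Spec (CommRingCat.of A)) z)) _ ((Y ↘ Spec (CommRingCat.of A)).fiber ((Y ↘ Spec (CommRingCat.of A)) z)) ⟨(Y ↘ Spec (CommRingCat.of A)).fiberToSpecResidueField ((Y ↘ Spec (CommRingCat.of A)) z)⟩ d ωz →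
        RelCanon.IsQGorWithAt ωz ((Y ↘ Spec (CommRingCat.of A)).asFiber z) ∧ RelCanon.gorIndexWithAt ωz ((Y ↘ Spec (CommRingCat.of A)).asFiber z) ∣ r) := by
  haveI : ∀ (U V : Scheme.{u}) (j : U ⟶ V) [IsOpenImmersion j],
      Limits.PreservesFiniteLimits (Scheme.Modules.restrictFunctor j) := fun U V j _ =>
    DCat.PullPerf.preservesFiniteLimits_restrict j
  let f := Y ↘ Spec (CommRingCat.of A)
  haveI : Flat f := hS.1
  haveI : IsNoetherianRing (CommRingCat.of A) := ‹IsNoetherianRing A›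
  haveI : IsLocallyNoetherian Y := LocallyOfFiniteType.isLocallyNoetherian f
  haveI : LocallyOfFinitePresentation f := LocallyOfFinitePresentation.iff_locallyOfFiniteType.2 inferInstance
  obtain ⟨hωc, -⟩ := DualLib.RelTop.isCoh_and_two_le_depth (A := A) (Y := Y) d hd ω hω
  obtain ⟨-, hinv⟩ := DualLib.RelTop.gor_open_and_invertible A Y d hd ω hω
  have hinv' : ∀ x : Y, x ∈ Yo → RelCanon.InvertibleAt ω x := fun x hx => hinv x (hYo.le hx)
  let T := CohB1.tensorPow ω r
  have hT := DualLib.RelTop.isCoh_tensorPow hωc r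
  have hG : Coh.IsCoh (RelCanon.refPowZ ω r) := DualLib.RelTop.isCoh_refPowNat hωc r
  obtain ⟨eD⟩ := DualLib.RelTop.nonempty_restrict_ddual Yo hT (DualLib.RelTop.invertibleAt_tensorPow Yo ω hinv' r)
  obtain ⟨eT⟩ := DualLib.RelTop.nonempty_restrict_tensorPow Yo ω r
  let eP : (RelCanon.refPowZ ω r).restrict Yo.ι ≅ CohB1.tensorPow (ω.restrict Yo.ι) r := eD.symm ≪≫ eT
  have hpush : ∀ U : Y.Opens, (∀ x : Y, x ∈ U → x ∉ Yo → (2 : WithBot ℕ∞) ≤ ringKrullDim ((f.fiber (f x)).presheaf.stalk (f.asFiber x))) →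
      Nonempty ((RelCanon.refPowZ ω r).restrict U.ι ≅
        ((Scheme.Modules.pushforward Yo.ι).obj (CohB1.tensorPow (ω.restrict Yo.ι) r)).restrict U.ι) := fun U hU =>
    DualLib.RelTop.nonempty_push_restrict_iso hG Yo U eP fun x hx hxo =>
      DualLib.RelTop.two_le_depth_dual (RefHullLib.isCoh_dual hT (Coherent.isCoh_structureModule Y)) x
        (QG15.two_le_depth_of_isSkMor hS x (hU x hx hxo))
  constructor
  · rintro ⟨hA, V, hyV, ⟨eV⟩⟩
    obtain ⟨U₁, hyU₁, hU₁⟩ : ∃ U₁ : Y.Opens, y ∈ U₁ ∧ ∀ x : Y, x ∈ U₁ → x ∉ Yo →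
        (2 : WithBot ℕ∞) ≤ ringKrullDim ((f.fiber (f x)).presheaf.stalk (f.asFiber x)) := by
      by_cases hy : y ∈ Yo
      · exact ⟨Yo, hy, fun x hx hxo => absurd hx hxo⟩
      · obtain ⟨U₁, h1, -, -, h3⟩ := QG15.main f 2 le_rfl y (hS.2.2 y) Yo hy 2 hA
        exact ⟨U₁, h1, h3⟩
    let U : Y.Opens := U₁ ⊓ V
    refine ⟨U, ⟨hyU₁, hyV⟩, fun z hz => ?_⟩
    obtain ⟨eU⟩ := hpush U fun x hx hxo => hU₁ x hx.1 hxo
    have hGz : RelCanon.InvertibleAt (RelCanon.refPowZ ω r) z :=
      DualLib.RelTop.invertibleAt_of_restrict_iso U eU z hz ⟨V, hz.2, ⟨eV⟩⟩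
    refine ⟨hGz, fun hzo => hU₁ z hz.1 hzo, fun ωz hωz => ?_⟩
    let t := f z
    let w := f.asFiber z
    let Y' := f.fiber t
    haveI : LocallyOfFiniteType (f.fiberToSpecResidueField t) :=
      MorphismProperty.pullback_snd _ _ inferInstance
    haveI : IsLocallyNoetherian Y' := LocallyOfFiniteType.isLocallyNoetherian (f.fiberToSpecResidueField t)
    have hw : f.fiberι t w = z := f.fiberι_asFiber z
    have hinU : ∀ v : Y', v ⤳ w → f.fiberι t v ∈ U := fun v hv => by
      have h1 := hv.map (f.fiberι t).continuous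
      rw [hw] at h1
      exact h1.mem_open U.isOpen hz
    have hdim : ∀ v : Y', v ⤳ w → f.fiberι t v ∉ Yo → (2 : WithBot ℕ∞) ≤ ringKrullDim (Y'.presheaf.stalk v) :=
      fun v hv hvo => (hU₁ _ (hinU v hv).1 hvo).trans_eq (DualLib.RelTop.dim_fibre_pt f t v).symm
    obtain ⟨a⟩ := DualLib.RelTop.exists_stalk_equiv_of_invertibleAt (x := f.fiberι t w) (by rw [hw]; exact hGz)
    obtain ⟨u⟩ := QG15.exists_fibre_unit_equiv f t w
    have hsk0 : RelCanon.SkAt 2 ((Scheme.Modules.pullback (f.fiberι t)).obj (Coh.structureModule Y)) w :=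
      (EGA43.FibDepth.hasSk_congr (u.trans (EGA43.FibDepth.unitStalkEquiv w)) 2).2 (hS.2.2 z)
    obtain ⟨hfl, hsk⟩ := DualLib.RelTop.relSkAt_of_stalk_equiv f t w
      ((SDiv28.unitStalkEquiv (X := Y) _).symm.trans a.symm) (Lef23.isFlatOver_structureModule f _) hsk0
    have hz1 : RelCanon.InvertibleAt (RelCanon.refPowZ ωz r) w :=
      (DualLib.RelTop.invertibleAt_refPow_iff_fibre Y d hS hd ω hω t ωz hωz Yo hYo.le w hdim r hfl hsk).1
        (by rw [hw]; exact hGz)
    exact ⟨⟨r, hr, hz1⟩, DualLib.RelTop.gorIndex_dvd (DualLib.RelTop.isCoh_fibre_dualizing Y d hd t ωz hωz)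
      (f.fiberι t ⁻¹ᵁ Yo) w (fun v hv => DualLib.RelTop.invertibleAt_fibre_dualizing Y d hd ω hω t ωz hωz Yo hYo.le v hv)
      (fun v hv hvo => DualLib.RelTop.two_le_depth_fibre f hS t v fun x hx => by
        subst hx
        exact hU₁ _ (hinU v hv).1 hvo) r hr hz1⟩
  · rintro ⟨U, hyU, hU⟩
    refine ⟨fun z _ hzo hzy => (hU z (hzy.mem_open U.isOpen hyU)).2.1 hzo, ?_⟩
    obtain ⟨eU⟩ := hpush U fun x hx hxo => (hU x hx).2.1 hxo
    exact DualLib.RelTop.invertibleAt_of_restrict_iso U eU.symm y hyU (hU y hyU).1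

end Groth.Agent.S19833
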