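import Groth.Statements.S19834
import Groth.Agent.DualLib.RelTop.SplitPoint
import Groth.Agent.DualLib.RelTop.HomSpread

set_option autoImplicit false
universe u
open QGor

namespace Groth.Agent.S19834

  set_option backward.isDefEq.respectTransparency false

open CategoryTheory AlgebraicGeometry in
/-- For a proper S₂-morphism Y → Spec A to a Noetherian affine base, of pure relative dimension d, all
of whose fibres satisfy Serre's condition S₃ at every point, with relative canonical sheaf ω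
(characterised by the d-dualizing property over A), the sheaf 𝓔xt¹_{O_Y}(ω, ω) vanishes; stated as:
every extension of ω|_V by ω|_V over an open V ⊆ Y is locally split, i.e. for every short exact
sequence 0 → S₁ → S₂ → S₃ → 0 of O_V-modules with S₁ ≅ ω|_V and S₃ ≅ ω|_V and every point y ∈ V
there are an open W ⊆ V containing y and a morphism S₃|_W → S₂|_W that is a section of S₂|_W →
S₃|_W. -/
theorem result
    (A : Type u) [CommRing A] [IsNoetherianRing A] (Y : Scheme.{u}) [Y.Over (Spec (CommRingCat.of A))]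
    [IsProper (Y ↘ Spec (CommRingCat.of A))] (d : ℕ)
    (hS : RelCanon.IsSkMor (Y ↘ Spec (CommRingCat.of A)) 2) (hd : Cyc.HasRelDim (Y ↘ Spec (CommRingCat.of A)) d)
    (ω : Y.Modules) (hω : RelCanon.IsDualizingSheaf A Y d ω)
    (hS3 : ∀ y : Y, RelCanon.SkAt 3 (Coh.structureModule ((Y ↘ Spec (CommRingCat.of A)).fiber ((Y ↘ Spec (CommRingCat.of A)) y))) ((Y ↘ Spec (CommRingCat.of A)).asFiber y))
    (V : Y.Opens) (S : ShortComplex (V : Scheme.{u}).Modules) (hSe : S.ShortExact)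
    (e₁ : S.X₁ ≅ ω.restrict V.ι) (e₃ : S.X₃ ≅ ω.restrict V.ι) (y : Y) (hy : y ∈ V) :
    ∃ (W : Y.Opens) (i : W ≤ V), y ∈ W ∧
      ∃ σ : S.X₃.restrict (Y.homOfLE i) ⟶ S.X₂.restrict (Y.homOfLE i),
        σ ≫ (Scheme.Modules.restrictFunctor (Y.homOfLE i)).map S.g = 𝟙 _ := by
  haveI : ∀ (U V : Scheme.{u}) (j : U ⟶ V) [IsOpenImmersion j],
      Limits.PreservesFiniteLimits (Scheme.Modules.restrictFunctor j) := fun U V j _ =>
    DCat.PullPerf.preservesFiniteLimits_restrict j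
  let f := Y ↘ Spec (CommRingCat.of A)
  haveI : Flat f := hS.1
  haveI : IsNoetherianRing (CommRingCat.of A) := ‹IsNoetherianRing A›
  haveI : IsLocallyNoetherian Y := LocallyOfFiniteType.isLocallyNoetherian f
  obtain ⟨hωc, -⟩ := DualLib.RelTop.isCoh_and_two_le_depth (A := A) (Y := Y) d hd ω hω
  have hWc : Coh.IsCoh (ω.restrict V.ι) := Coherent.isCoh_restrict V hωc
  have h1c : Coh.IsCoh S.X₁ := Coherent.isCoh_of_iso e₁.symm hWc
  have h3c : Coh.IsCoh S.X₃ := Coherent.isCoh_of_iso e₃.symm hWc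
  let x : (V : Scheme.{u}) := ⟨y, hy⟩
  let st := DerSch.stalkFunctor (V : Scheme.{u}) x
  have hx : (S.map st).ShortExact := hSe.map_of_exact st
  let E₁ := (st.mapIso e₁).toLinearEquiv
  let E₃ := (st.mapIso e₃).toLinearEquiv
  obtain ⟨s', hs'⟩ := DualLib.RelTop.split_stalk_restrict A Y d hd ω hω hS3 V x (st.obj S.X₂)
    ((st.map S.f).hom ∘ₗ E₁.symm.toLinearMap) (E₃.toLinearMap ∘ₗ (st.map S.g).hom)
    (((ModuleCat.mono_iff_injective _).1 hx.mono_f).comp E₁.symm.injective)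
    (E₃.surjective.comp ((ModuleCat.epi_iff_surjective _).1 hx.epi_g))
    (fun v => by
      have hE := (ShortComplex.ShortExact.moduleCat_exact_iff_function_exact (S.map st)).1 hx.exact v
      refine (E₃.map_eq_zero_iff).trans (hE.trans ⟨fun ⟨w, hw⟩ => ⟨E₁ w, ?_⟩, fun ⟨w, hw⟩ => ⟨E₁.symm w, hw⟩⟩)
      show (st.map S.f).hom (E₁.symm (E₁ w)) = v
      rw [E₁.symm_apply_apply]; exact hw)
  let s : RefHull.StalkHom S.X₃ S.X₂ x := s' ∘ₗ E₃.toLinearMap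
  have hs : ∀ v, RefHull.stalkMapₗ S.g x (s v) = v := fun v => E₃.injective (LinearMap.congr_fun hs' (E₃ v))
  obtain ⟨θ, hθ⟩ := (RefHullLib.evalStalk_bijective_of_isCoh (G := S.X₂) h3c x).2 s
  obtain ⟨U₀, hx₀, g₀, rfl⟩ := (RefHull.homSh S.X₃ S.X₂).presheaf.exists_germ_eq θ
  rw [RefHull.evalStalk_germ] at hθ
  let c : Γ(RefHull.homSh S.X₃ S.X₃, U₀) := ⟨fun z => RefHull.stalkMapₗ S.g z.1 ∘ₗ g₀.1 z, fun O i m z => by
    obtain ⟨O', hz', i', n, hn⟩ := RefHull.isLocSect_of_mem g₀ O i m z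
    exact ⟨O', hz', i', S.g.app O' n, fun w =>
      (congrArg (RefHull.stalkMapₗ S.g w.1) (hn w)).trans (RefHull.stalkMapₗ_germ S.g w.1 w.2 n)⟩⟩
  obtain ⟨U₁, hx₁, i₁, i₂, hU₁⟩ := (RefHull.homSh S.X₃ S.X₃).presheaf.germ_eq x hx₀ hx₀ c (RefHull.ofHom (𝟙 S.X₃) U₀)
    ((RefHullLib.evalStalk_bijective_of_isCoh (G := S.X₃) h3c x).1 (by
      rw [RefHull.evalStalk_germ, RefHull.evalStalk_germ]
      refine LinearMap.ext fun v => ?_
      show RefHull.stalkMapₗ S.g x (g₀.1 ⟨x, hx₀⟩ v) = RefHull.stalkMapₗ (𝟙 S.X₃) x v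
      rw [hθ, hs]
      obtain ⟨O, hO, m, rfl⟩ := S.X₃.presheaf.exists_germ_eq v
      rw [RefHull.stalkMapₗ_germ]
      rfl))
  have hiW : V.ι ''ᵁ U₁ ≤ V := by
    rintro _ ⟨v, -, rfl⟩
    exact v.2
  refine ⟨V.ι ''ᵁ U₁, hiW, ⟨x, hx₁, rfl⟩, ?_⟩
  let j := Y.homOfLE hiW
  have hj : ∀ w, j w ∈ U₁ := fun w => by
    obtain ⟨v, hv, hvw⟩ := w.2
    rwa [show j w = v from Subtype.ext ((Scheme.homOfLE_apply hiW w).trans hvw.symm)]
  obtain ⟨σ, hσ⟩ := DualLib.RelTop.exists_restrict_hom j U₀ g₀ fun w => i₁.le (hj w)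
  refine ⟨σ, ?_⟩
  ext O m
  refine TopCat.Presheaf.section_ext ⟨S.X₃.presheaf, S.X₃.isSheaf⟩ _ _ _ fun z hz => ?_
  obtain ⟨w, hw, rfl⟩ := hz
  show S.X₃.presheaf.germ (j ''ᵁ O) (j w) _ (S.g.app (j ''ᵁ O)
      ((S.X₂.restrictAppIso j O).hom (σ.app O ((S.X₃.restrictAppIso j O).inv m)))) =
    S.X₃.presheaf.germ (j ''ᵁ O) (j w) _ m
  rw [← RefHull.stalkMapₗ_germ S.g, hσ O m (j w) ⟨w, hw, rfl⟩ (i₁.le (hj w))]
  have h := LinearMap.congr_fun (congrArg (fun t => t.1 ⟨j w, hj w⟩) hU₁ :)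
    (S.X₃.presheaf.germ (j ''ᵁ O) (j w) ⟨w, hw, rfl⟩ m)
  exact h.trans ((RefHull.stalkMapₗ_germ (𝟙 S.X₃) (j w) _ m).trans rfl)

end Groth.Agent.S19834
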