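import Groth.Statements.S19836
import Groth.Agent.DualLib.RelTop.Result

set_option autoImplicit false
universe u
open QGor

namespace Groth.Agent.S19836

open CategoryTheory AlgebraicGeometry in
/-- For a proper Cohen–Macaulay morphism Y → Spec A to a Noetherian affine base (flat, with
Cohen–Macaulay local rings of the fibres at every point) of pure relative dimension d, and ω its
relative dualizing sheaf (an O_Y-module with the d-dualizing property over A): ω is relatively
Cohen–Macaulay over the base — at every point y of Y it is flat over the base and its restriction to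
the fibre through y satisfies S_k at y for every k — and its support is the whole of Y. -/
theorem result
    (A : Type u) [CommRing A] [IsNoetherianRing A] (Y : Scheme.{u}) [Y.Over (Spec (CommRingCat.of A))]
    [IsProper (Y ↘ Spec (CommRingCat.of A))] (d : ℕ)
    (hCM : ∀ y : Y, MoreMor.IsCMAt (Y ↘ Spec (CommRingCat.of A)) y) (hd : Cyc.HasRelDim (Y ↘ Spec (CommRingCat.of A)) d)
    (ω : Y.Modules) (hω : RelCanon.IsDualizingSheaf A Y d ω) :
    (∀ (y : Y) (k : ℕ), RelCanon.RelSkAt (Y ↘ Spec (CommRingCat.of A)) k ω y) ∧ CohB1.support ω = Set.univ := by
  exact (Groth.Agent.DualLib.RelTop.package A Y d hCM hd ω hω).2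

end Groth.Agent.S19836
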