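import Groth.Statements.S19837
import Groth.Agent.DualLib.RelTop.VirtTools
import Groth.Agent.DualLib.RelTop.CMIso
import Groth.Agent.DualLib.RelTop.LiftPow

set_option autoImplicit false
universe u
open QGor

namespace Groth.Agent.S19837

  set_option backward.isDefEq.respectTransparency false
open scoped TensorProduct

open CategoryTheory AlgebraicGeometry in
/-- `(S₃)` fibres have depth three at the points that are not Cohen–Macaulay. -/
theorem three_le_depth_fibre {X T : Scheme.{u}} (f : X ⟶ T) [LocallyOfFiniteType f] [Flat f] (t : T)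
    (hS3 : ∀ y : X, f y = t → RelCanon.SkAt 3 (Coh.structureModule (f.fiber (f y))) (f.asFiber y))
    (w : f.fiber t) (hw : ¬ MoreMor.IsCMAt f (f.fiberι t w)) :
    (3 : ℕ∞) ≤ _root_.LocCoh.depth ((f.fiber t).presheaf.stalk w) ((f.fiber t).presheaf.stalk w) := by
  have key : ∀ (x : X) (q : T), f x = q → ∀ v : f.fiber q, f.fiberι q v = x → ¬ MoreMor.IsCMAt f x →
      RelCanon.SkAt 3 (Coh.structureModule (f.fiber (f x))) (f.asFiber x) →
      (3 : ℕ∞) ≤ _root_.LocCoh.depth ((f.fiber q).presheaf.stalk v) ((f.fiber q).presheaf.stalk v) := by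
    intro x q hq
    subst hq
    intro v hv hx hsk
    obtain rfl : v = f.asFiber x := (f.fiberι _).isEmbedding.injective (hv.trans (f.fiberι_asFiber x).symm)
    let R := (f.fiber (f x)).presheaf.stalk (f.asFiber x)
    haveI : LocallyOfFiniteType (f.fiberToSpecResidueField (f x)) :=
      MorphismProperty.pullback_snd _ _ inferInstance
    haveI : IsLocallyNoetherian (f.fiber (f x)) :=
      LocallyOfFiniteType.isLocallyNoetherian (f.fiberToSpecResidueField (f x))
    have h1 : _root_.LocCoh.HasSk 3 R R :=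
      (EGA43.FibDepth.hasSk_congr (EGA43.FibDepth.unitStalkEquiv (f.asFiber x)) 3).2 hsk
    have h2 := (CAlgH3.hasSk_self_iff 3).1 h1 (IsLocalRing.maximalIdeal R)
    let e : R ≃+* Localization.AtPrime (IsLocalRing.maximalIdeal R) :=
      (IsLocalization.atUnits R (IsLocalRing.maximalIdeal R).primeCompl (fun a ha =>
        IsLocalRing.notMem_maximalIdeal.1 ha)).toRingEquiv
    rw [← ringKrullDim_eq_of_ringEquiv e, ← CAlgH3.depth_ringEquiv e] at h2
    have hle : ((_root_.LocCoh.depth R R : ℕ∞) : WithBot ℕ∞) ≤ ringKrullDim R :=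
      Module.supportDim_self_eq_ringKrullDim (R := R) ▸ CAlgH3.depth_le_supportDim
    rcases min_le_iff.1 h2 with h | h
    · exact WithBot.coe_le_coe.1 h
    · exact absurd ⟨Flat.stalkMap f x, { supportDim_eq_depth :=
        (Module.supportDim_self_eq_ringKrullDim (R := R)).trans (le_antisymm h hle) }⟩ hx
  have ht := EGA43.Chevalley.apply_fiberι f t w
  exact key _ t ht w rfl hw (hS3 _ ht)


open CategoryTheory AlgebraicGeometry in
/-- Let Y → Spec A be a proper S₂-morphism to a Noetherian affine base, of pure relative dimension d,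
with fibres Gorenstein in codimension one and relative canonical sheaf ω (characterised by the
d-dualizing property over A). Let t be a point of Spec A and L a coherent reflexive O_Y-module whose
reflexive powers L^{[m]} (m ∈ ℤ) all satisfy relative S₂ over the base at every point and whose
restriction to the fibre Y_t is d-dualizing over κ(t) (L ⊗ O_{Y_t} is isomorphic to the canonical
sheaf of the fibre); this is the normalised form of 'virtually ℚ-Gorenstein along Y_t' with a global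
L. If either (a) Y_t satisfies S₃ at every point, or (b) some ω^{[r]} with r > 0 and r non-zero in
κ(t) is invertible at every point of Y_t, then for every m ∈ ℤ the reflexive power ω^{[m]} satisfies
relative S₂ over the base at every point of Y_t (the morphism is ℚ-Gorenstein along Y_t). -/
theorem result
    (A : Type u) [CommRing A] [IsNoetherianRing A] (Y : Scheme.{u}) [Y.Over (Spec (CommRingCat.of A))]
    [IsProper (Y ↘ Spec (CommRingCat.of A))] (d : ℕ)
    (hS : RelCanon.IsSkMor (Y ↘ Spec (CommRingCat.of A)) 2) (hd : Cyc.HasRelDim (Y ↘ Spec (CommRingCat.of A)) d)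
    (ω : Y.Modules) (hω : RelCanon.IsDualizingSheaf A Y d ω)
    (hG : ∀ y : Y, y ∉ RelCanon.gorLocus (Y ↘ Spec (CommRingCat.of A)) →
      (2 : WithBot ℕ∞) ≤ ringKrullDim (((Y ↘ Spec (CommRingCat.of A)).fiber ((Y ↘ Spec (CommRingCat.of A)) y)).presheaf.stalk ((Y ↘ Spec (CommRingCat.of A)).asFiber y)))
    (t : (Spec (CommRingCat.of A))) (L : Y.Modules) (hL : Coh.IsCoh L) (hLr : RefHull.IsReflexive L)
    (hL2 : ∀ m : ℤ, RelCanon.RelSk (Y ↘ Spec (CommRingCat.of A)) 2 (RelCanon.refPowZ L m))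
    (hLt : RelCanon.IsDualizingSheafFib (Y ↘ Spec (CommRingCat.of A)) d L t)
    (hab : (∀ y : Y, (Y ↘ Spec (CommRingCat.of A)) y = t → RelCanon.SkAt 3 (Coh.structureModule ((Y ↘ Spec (CommRingCat.of A)).fiber ((Y ↘ Spec (CommRingCat.of A)) y))) ((Y ↘ Spec (CommRingCat.of A)).asFiber y)) ∨
      (∃ r : ℕ, 0 < r ∧ (r : (Spec (CommRingCat.of A)).residueField t) ≠ 0 ∧
        ∀ y : Y, (Y ↘ Spec (CommRingCat.of A)) y = t → RelCanon.InvertibleAt (RelCanon.refPowZ ω r) y)) :
    ∀ m : ℤ, ∀ y : Y, (Y ↘ Spec (CommRingCat.of A)) y = t → RelCanon.RelSkAt (Y ↘ Spec (CommRingCat.of A)) 2 (RelCanon.refPowZ ω m) y := by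
  haveI : ∀ (U V : Scheme.{u}) (j : U ⟶ V) [IsOpenImmersion j],
      Limits.PreservesFiniteLimits (Scheme.Modules.restrictFunctor j) := fun U V j _ =>
    DCat.PullPerf.preservesFiniteLimits_restrict j
  intro m y hy
  subst hy
  let f := Y ↘ Spec (CommRingCat.of A)
  haveI : Flat f := hS.1
  haveI : IsNoetherianRing (CommRingCat.of A) := ‹IsNoetherianRing A›
  haveI : IsLocallyNoetherian Y := LocallyOfFiniteType.isLocallyNoetherian f
  haveI : LocallyOfFiniteType (f.fiberToSpecResidueField (f y)) :=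
    MorphismProperty.pullback_snd _ _ inferInstance
  haveI : IsLocallyNoetherian (f.fiber (f y)) :=
    LocallyOfFiniteType.isLocallyNoetherian (f.fiberToSpecResidueField (f y))
  obtain ⟨hωc, -⟩ := DualLib.RelTop.isCoh_and_two_le_depth (A := A) (Y := Y) d hd ω hω
  obtain ⟨hopen, hinv⟩ := DualLib.RelTop.gor_open_and_invertible A Y d hd ω hω
  let Yo : Y.Opens := ⟨RelCanon.gorLocus f, hopen⟩
  have hinv' : ∀ x : Y, x ∈ Yo → RelCanon.InvertibleAt ω x := fun x hx => hinv x hx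
  let z := f.asFiber y
  let ι := f.fiberι (f y)
  have hz : ι z = y := f.fiberι_asFiber y
  let Lt := (Scheme.Modules.pullback ι).obj L
  have hpc : ∀ M : Y.Modules, Coh.IsCoh M → Coh.IsCoh ((Scheme.Modules.pullback ι).obj M) := fun M hM =>
    ⟨haveI := hM.1; EGA43.InjFibre.isQCoh_pullback ι M, Coherent.isFT_pullback_qcoh ι hM.1 hM.2⟩
  haveI : IsIso (RefHull.bidualMap L) := hLr
  obtain ⟨u1⟩ := DualLib.RelTop.nonempty_dual_iso (AmpleLib.unitTensorIso L)
  obtain ⟨u2⟩ := DualLib.RelTop.nonempty_dual_iso u1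
  have hflat : ∀ x : Y, FlatMod.IsFlatOverAt f L x := fun x =>
    EGA43.DvrCrit.isFlatOverAt_of_iso f (asIso (RefHull.bidualMap L) ≪≫ u2.symm).symm x (hL2 (1 : ℕ) x).1
  have hLinv : ∀ w : f.fiber (f y), ι w ∈ Yo → RelCanon.InvertibleAt L (ι w) := fun w hw => by
    have h1 := DualLib.RelTop.invertibleAt_fibre_dualizing Y d hd ω hω (f y) Lt hLt Yo le_rfl w hw
    obtain ⟨a⟩ := DualLib.RelTop.exists_stalk_equiv_of_invertibleAt h1
    letI : Algebra ((Spec (CommRingCat.of A)).presheaf.stalk (f (ι w))) (Y.presheaf.stalk (ι w)) := (f.stalkMap (ι w)).hom.toAlgebra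
    haveI : IsLocalHom (algebraMap ((Spec (CommRingCat.of A)).presheaf.stalk (f (ι w))) (Y.presheaf.stalk (ι w))) :=
      inferInstanceAs (IsLocalHom (f.stalkMap (ι w)).hom)
    letI : Algebra (Y.presheaf.stalk (ι w)) ((f.fiber (f y)).presheaf.stalk w) := (ι.stalkMap w).hom.toAlgebra
    letI := FlatMod.moduleStalkOver f L (ι w)
    haveI : IsScalarTower ((Spec (CommRingCat.of A)).presheaf.stalk (f (ι w))) (Y.presheaf.stalk (ι w))
      (L.presheaf.stalk (ι w)) := IsScalarTower.of_compHom _ _ _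
    haveI : Module.Flat ((Spec (CommRingCat.of A)).presheaf.stalk (f (ι w))) (L.presheaf.stalk (ι w)) := hflat _
    haveI : Module.Finite (Y.presheaf.stalk (ι w)) (L.presheaf.stalk (ι w)) := AssSch12.finite_stalk hL _
    obtain ⟨hs, hker⟩ := Props12.stalkMap_fiberι f (f y) w
    obtain ⟨e⟩ := DualLib.RelTop.nonempty_equiv_of_fibre (A := (Spec (CommRingCat.of A)).presheaf.stalk (f (ι w))) hs hker
      (L.presheaf.stalk (ι w)) ((((ModStalk.pullbackStalkIso ι w).app L).toLinearEquiv).symm.trans a)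
    exact DualLib.RelTop.invertibleAt_of_stalk_equiv hL _ e
  let Y1 : Y.Opens := Yo ⊓ ⟨_, DualLib.RelTop.isOpen_invertibleLocus L⟩
  have hY1 : ∀ x : Y, f x = f y → x ∈ Yo → x ∈ Y1 := fun x hx hxo => by
    obtain ⟨w, hw⟩ : ∃ w : f.fiber (f y), ι w = x := by
      have : x ∈ Set.range ι := by rw [f.range_fiberι]; exact hx
      exact this
    exact ⟨hxo, hw ▸ hLinv w (hw.symm ▸ hxo)⟩
  have hdim1 : ∀ x : Y, f x = f y → x ∉ Y1 →
      (2 : WithBot ℕ∞) ≤ ringKrullDim ((f.fiber (f x)).presheaf.stalk (f.asFiber x)) :=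
    fun x hx hx1 => hG x fun hxo => hx1 (hY1 x hx hxo)
  have hdep1 : ∀ (w : f.fiber (f y)) (x : Y), x ⤳ ι w → x ∉ Y1 →
      (2 : ℕ∞) ≤ _root_.LocCoh.depth (Y.presheaf.stalk x) (Y.presheaf.stalk x) :=
    fun w => DualLib.RelTop.two_le_depth_total f hS (f y) w Y1 hdim1
  let U1 := ι ⁻¹ᵁ Y1
  have hdepU : ∀ w : f.fiber (f y), w ∉ U1 →
      (2 : ℕ∞) ≤ _root_.LocCoh.depth ((f.fiber (f y)).presheaf.stalk w) ((f.fiber (f y)).presheaf.stalk w) :=
    fun w hw => DualLib.RelTop.two_le_depth_fibre f hS (f y) w fun x hx => hdim1 x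
      (by rw [← hx]; exact EGA43.Chevalley.apply_fiberι f _ w) (by rwa [← hx])
  obtain ⟨eC⟩ := DualLib.RelTop.nonempty_fibre_iso_on_cm A Y d hd ω hω Y1
    (fun x hx => ⟨hx.1.1, by haveI := hx.1.2; exact LocCoh.isCohenMacaulayLocalRing_of_gorenstein⟩) (f y) Lt hLt
  have hO := Coherent.isCoh_structureModule Y
  have hωd : Coh.IsCoh (RefHull.dual ω) := RefHullLib.isCoh_dual hωc hO
  let D := CohB1.tensorMod L (RefHull.dual ω)
  have hcohT : ∀ P Q : Y.Modules, Coh.IsCoh P → Coh.IsCoh Q → Coh.IsCoh (CohB1.tensorMod P Q) := fun P Q hP hQ => by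
    haveI := hP.1
    haveI := hQ.1
    exact ⟨Coherent.isQCoh_tensorMod P Q, Coherent.isFT_tensorMod P Q hP.2 hQ.2⟩
  have hD : Coh.IsCoh D := hcohT _ _ hL hωd
  have hL1 : ∀ x : Y, x ∈ Y1 → RelCanon.InvertibleAt L x := fun x hx => hx.2
  have hω1 : ∀ x : Y, x ∈ Y1 → RelCanon.InvertibleAt ω x := fun x hx => hinv' x hx.1
  have hωd1 : ∀ x : Y, x ∈ Y1 → RelCanon.InvertibleAt (RefHull.dual ω) x := fun x hx =>
    DualLib.RelTop.invertibleAt_dual hωc x (hω1 x hx)
  have hD1 := DualLib.RelTop.invertibleAt_tensor Y1 L (RefHull.dual ω) hL1 hωd1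
  -- the twist is trivial on the fibre
  let pc := Scheme.Modules.pullback ι
  obtain ⟨eP0⟩ := DualLib.RelTop.nonempty_tensor_dual_restrict Y1 ω hω1
  obtain ⟨eP1⟩ := DualLib.RelTop.nonempty_pull_restrict ι Y1 eP0
  let eDU : (pc.obj D).restrict U1.ι ≅ (Coh.structureModule (f.fiber (f y))).restrict U1.ι :=
    (Scheme.Modules.restrictFunctor U1.ι).mapIso (DCat.PullTensor.pullTensorIso ι L (RefHull.dual ω)) ≪≫
    (Coherent.restrictTensorIso U1.ι Lt (pc.obj (RefHull.dual ω))).symm ≪≫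
    AmpleLib.tensorIso eC (Iso.refl _) ≪≫
    Coherent.restrictTensorIso U1.ι (pc.obj ω) (pc.obj (RefHull.dual ω)) ≪≫
    (Scheme.Modules.restrictFunctor U1.ι).mapIso (DCat.PullTensor.pullTensorIso ι ω (RefHull.dual ω)).symm ≪≫
    eP1 ≪≫ (Scheme.Modules.restrictFunctor U1.ι).mapIso (PicLoc.pullbackStructureIso ι)
  have hfibinv : ∀ (E : Y.Modules), Coh.IsCoh E → Nonempty (E.restrict Y1.ι ≅ D.restrict Y1.ι) → ∀ w : f.fiber (f y),
      RelCanon.InvertibleAt (RefHull.dual (pc.obj E)) w := fun E hE hE1 w => by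
    obtain ⟨a⟩ := hE1
    obtain ⟨b⟩ := DualLib.RelTop.nonempty_pull_restrict ι Y1 a
    obtain ⟨d1⟩ := DualLib.RelTop.nonempty_dual_restrict U1 (pc.obj E)
    obtain ⟨d2⟩ := DualLib.RelTop.nonempty_dual_restrict U1 (Coh.structureModule (f.fiber (f y)))
    obtain ⟨d3⟩ := DualLib.RelTop.nonempty_dual_iso (b ≪≫ eDU)
    obtain ⟨d4⟩ := DualLib.RelTop.nonempty_dual_unit (X := f.fiber (f y))
    exact DualLib.RelTop.invertibleAt_dual_of_iso_on (hpc E hE) U1
      (d1 ≪≫ d3 ≪≫ d2.symm ≪≫ (Scheme.Modules.restrictFunctor U1.ι).mapIso d4) w fun v _ hv => hdepU v hv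
  -- the twist is invertible at the point
  have hkey : RelCanon.InvertibleAt (RefHull.dual D) y := by
    rcases hab with ha | ⟨r, hr, hrk, hrinv⟩
    · let W : Y.Opens := ⟨_, DualLib.RelTop.isOpen_invertibleLocus (RefHull.dual D)⟩
      have hYW : ∀ x : Y, x ∈ Y1 → x ∈ W := fun x hx => DualLib.RelTop.invertibleAt_dual hD x (hD1 x hx)
      have hCMW : ∀ w : f.fiber (f y), MoreMor.IsCMAt f (ι w) → ι w ∈ W := fun w hw => by
        obtain ⟨e⟩ := DualLib.RelTop.nonempty_stalk_equiv_of_fibre_dualizing A Y d hd ω hω (f y) L hL hLt w (hflat _) hw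
        obtain ⟨e1⟩ := DualLib.RelTop.nonempty_tensor_stalk_congr (RefHull.dual ω) (ι w) e
        have hD0 : Coh.IsCoh (CohB1.tensorMod ω (RefHull.dual ω)) := hcohT _ _ hωc hωd
        obtain ⟨e2⟩ := DualLib.RelTop.nonempty_dual_stalk_congr hD hD0 (ι w) e1
        obtain ⟨a⟩ := DualLib.RelTop.nonempty_dual_restrict Y1 (CohB1.tensorMod ω (RefHull.dual ω))
        obtain ⟨b⟩ := DualLib.RelTop.nonempty_dual_restrict Y1 (Coh.structureModule Y)
        obtain ⟨c⟩ := DualLib.RelTop.nonempty_dual_iso eP0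
        obtain ⟨c'⟩ := DualLib.RelTop.nonempty_dual_unit (X := Y)
        have h0 := DualLib.RelTop.invertibleAt_dual_of_iso_on hD0 Y1
          (a ≪≫ c ≪≫ b.symm ≪≫ (Scheme.Modules.restrictFunctor Y1.ι).mapIso c') (ι w)
          (fun x hx hx1 => hdep1 w x hx hx1)
        obtain ⟨e3⟩ := DualLib.RelTop.exists_stalk_equiv_of_invertibleAt h0
        exact DualLib.RelTop.invertibleAt_of_stalk_equiv (RefHullLib.isCoh_dual hD hO) _ (e2.trans e3)
      have hdd : Coh.IsCoh (RefHull.ddual D) := RefHullLib.isCoh_dual (RefHullLib.isCoh_dual hD hO) hO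
      have hddW : ∀ x : Y, x ∈ W → RelCanon.InvertibleAt (RefHull.ddual D) x := fun x hx =>
        DualLib.RelTop.invertibleAt_dual (RefHullLib.isCoh_dual hD hO) x hx
      obtain ⟨φ⟩ := DualLib.RelTop.nonempty_pull_dual_on ι W (RefHull.ddual D) hddW
      obtain ⟨r1⟩ := DualLib.RelTop.nonempty_restrict_ddual Y1 hD hD1
      have hG' := hfibinv (RefHull.ddual D) hdd ⟨r1.symm⟩
      have hdimW : ∀ x : Y, f x = f y → x ∉ W →
          (2 : WithBot ℕ∞) ≤ ringKrullDim ((f.fiber (f x)).presheaf.stalk (f.asFiber x)) :=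
        fun x hx hxW => hdim1 x hx fun h => hxW (hYW x h)
      obtain ⟨hfl, ⟨es⟩⟩ := DualLib.RelTop.flat_and_stalk_equiv_of_depth_three f hS (f y) z W hdimW
        (RefHull.ddual D) hdd hddW (RefHull.dual (pc.obj (RefHull.ddual D)))
        (RefHullLib.isCoh_dual (hpc _ hdd) (Coherent.isCoh_structureModule _)) φ fun w _ hw => by
          obtain ⟨a⟩ := DualLib.RelTop.exists_stalk_equiv_of_invertibleAt (hG' w)
          rw [CAlgH3.depth_congr a]
          exact three_le_depth_fibre f (f y) ha w fun hcm => hw (hCMW w hcm)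
      obtain ⟨es'⟩ := DualLib.RelTop.exists_stalk_equiv_of_invertibleAt (hG' z)
      letI : Algebra ((Spec (CommRingCat.of A)).presheaf.stalk (f (ι z))) (Y.presheaf.stalk (ι z)) := (f.stalkMap (ι z)).hom.toAlgebra
      haveI : IsLocalHom (algebraMap ((Spec (CommRingCat.of A)).presheaf.stalk (f (ι z))) (Y.presheaf.stalk (ι z))) :=
        inferInstanceAs (IsLocalHom (f.stalkMap (ι z)).hom)
      letI : Algebra (Y.presheaf.stalk (ι z)) ((f.fiber (f y)).presheaf.stalk z) := (ι.stalkMap z).hom.toAlgebra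
      let P := RefHull.dual (RefHull.ddual D)
      have hP : Coh.IsCoh P := RefHullLib.isCoh_dual hdd hO
      letI := FlatMod.moduleStalkOver f P (ι z)
      haveI : IsScalarTower ((Spec (CommRingCat.of A)).presheaf.stalk (f (ι z))) (Y.presheaf.stalk (ι z))
        (P.presheaf.stalk (ι z)) := IsScalarTower.of_compHom _ _ _
      haveI : Module.Flat ((Spec (CommRingCat.of A)).presheaf.stalk (f (ι z))) (P.presheaf.stalk (ι z)) := hfl
      haveI : Module.Finite (Y.presheaf.stalk (ι z)) (P.presheaf.stalk (ι z)) := AssSch12.finite_stalk hP _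
      obtain ⟨hs, hker⟩ := Props12.stalkMap_fiberι f (f y) z
      obtain ⟨e⟩ := DualLib.RelTop.nonempty_equiv_of_fibre (A := (Spec (CommRingCat.of A)).presheaf.stalk (f (ι z))) hs hker
        (P.presheaf.stalk (ι z)) ((((ModStalk.pullbackStalkIso ι z).app P).toLinearEquiv).symm.trans (es.trans es'))
      have hPi := DualLib.RelTop.invertibleAt_of_stalk_equiv hP _ e
      obtain ⟨r2⟩ := DualLib.RelTop.nonempty_restrict_ddual W (RefHullLib.isCoh_dual hD hO) (fun x hx => hx)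
      have := DualLib.RelTop.invertibleAt_dual_transfer hdd hD W r2.symm (ι z)
        (fun v hv hvW => hdep1 z v hv fun h => hvW (hYW v h)) hPi
      rwa [hz] at this
    · obtain ⟨k, rfl⟩ : ∃ k, r = k + 1 := ⟨r - 1, by omega⟩
      let n := k + 1
      have hωn : RelCanon.InvertibleAt (RelCanon.refPowZ ω n) y := hrinv y rfl
      have hLn : RelCanon.InvertibleAt (RelCanon.refPowZ L n) y := by
        have hLt' : ∀ v : f.fiber (f y), v ∈ U1 → RelCanon.InvertibleAt Lt v := fun v hv =>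
          DualLib.RelTop.invertibleAt_pullback ι v (hL1 _ hv)
        obtain ⟨⟨p1⟩, hp⟩ := DualLib.RelTop.nonempty_pull_ddual_pow ι Y1 hL hL1 (hpc L hL) (Iso.refl _) n
        obtain ⟨⟨p2⟩, -⟩ := DualLib.RelTop.nonempty_pull_ddual_pow ι Y1 hωc hω1 (hpc L hL) eC.symm n
        have hGL : Coh.IsCoh (RelCanon.refPowZ L n) := DualLib.RelTop.isCoh_refPowNat hL n
        have hGω : Coh.IsCoh (RelCanon.refPowZ ω n) := DualLib.RelTop.isCoh_refPowNat hωc n
        have hdimw : ∀ w : f.fiber (f y), w ⤳ z → w ∉ U1 →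
            (2 : WithBot ℕ∞) ≤ ringKrullDim ((f.fiber (f y)).presheaf.stalk w) := fun w _ hw => by
          rw [DualLib.RelTop.dim_fibre_pt f (f y) w]
          exact hdim1 _ (EGA43.Chevalley.apply_fiberι f _ w) hw
        obtain ⟨es⟩ := DualLib.RelTop.nonempty_stalk_equiv_of_restrict (hpc _ hGL) (hpc _ hGω) U1 (p1 ≪≫ p2.symm) z
          (DualLib.RelTop.two_le_depth_of_skAt (hpc _ hGL) z (hL2 (n : ℕ) y).2 U1 hdimw fun v _ hv => by
            obtain ⟨a⟩ := DualLib.RelTop.exists_stalk_equiv_of_invertibleAt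
              (DualLib.RelTop.invertibleAt_of_restrict_iso U1 p1 v hv (hp v hv))
            exact a.toEquiv.nontrivial)
          fun w hw hwU => by
            obtain ⟨V, hyV, eV⟩ := hωn
            have hwV : ι w ∈ V := (hw.map ι.continuous).mem_open V.isOpen (hz.symm ▸ hyV)
            obtain ⟨a⟩ := DualLib.RelTop.exists_stalk_equiv_of_invertibleAt
              (DualLib.RelTop.invertibleAt_pullback ι w (show RelCanon.InvertibleAt (RelCanon.refPowZ ω n) (ι w) from ⟨V, hwV, eV⟩))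
            rw [CAlgH3.depth_congr a]
            exact hdepU w hwU
        obtain ⟨es'⟩ := DualLib.RelTop.exists_stalk_equiv_of_invertibleAt
          (DualLib.RelTop.invertibleAt_pullback ι z (hz.symm ▸ hωn))
        let G := RelCanon.refPowZ L n
        letI : Algebra ((Spec (CommRingCat.of A)).presheaf.stalk (f (ι z))) (Y.presheaf.stalk (ι z)) := (f.stalkMap (ι z)).hom.toAlgebra
        haveI : IsLocalHom (algebraMap ((Spec (CommRingCat.of A)).presheaf.stalk (f (ι z))) (Y.presheaf.stalk (ι z))) :=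
          inferInstanceAs (IsLocalHom (f.stalkMap (ι z)).hom)
        letI : Algebra (Y.presheaf.stalk (ι z)) ((f.fiber (f y)).presheaf.stalk z) := (ι.stalkMap z).hom.toAlgebra
        letI := FlatMod.moduleStalkOver f G (ι z)
        haveI : IsScalarTower ((Spec (CommRingCat.of A)).presheaf.stalk (f (ι z))) (Y.presheaf.stalk (ι z))
          (G.presheaf.stalk (ι z)) := IsScalarTower.of_compHom _ _ _
        haveI : Module.Flat ((Spec (CommRingCat.of A)).presheaf.stalk (f (ι z))) (G.presheaf.stalk (ι z)) := (hL2 (n : ℕ) (ι z)).1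
        haveI : Module.Finite (Y.presheaf.stalk (ι z)) (G.presheaf.stalk (ι z)) := AssSch12.finite_stalk hGL _
        obtain ⟨hs, hker⟩ := Props12.stalkMap_fiberι f (f y) z
        obtain ⟨e⟩ := DualLib.RelTop.nonempty_equiv_of_fibre (A := (Spec (CommRingCat.of A)).presheaf.stalk (f (ι z))) hs hker
          (G.presheaf.stalk (ι z)) ((((ModStalk.pullbackStalkIso ι z).app G).toLinearEquiv).symm.trans (es.trans es'))
        exact hz ▸ DualLib.RelTop.invertibleAt_of_stalk_equiv hGL _ e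
      obtain ⟨V1, hV1, ⟨a1⟩⟩ := hωn
      obtain ⟨V2, hV2, ⟨a2⟩⟩ := hLn
      let W1 : Y.Opens := (V1 ⊓ V2) ⊓ Y1
      have toUnit : ∀ (M : Y.Modules) (V : Y.Opens), W1 ≤ V → Coh.IsCoh M → (∀ x : Y, x ∈ Y1 → RelCanon.InvertibleAt M x) →
          ((RelCanon.refPowZ M n).restrict V.ι ≅ Coh.structureModule (V : Scheme.{u})) →
          Nonempty (CohB1.tensorPow (M.restrict W1.ι) n ≅ Coh.structureModule (W1 : Scheme.{u})) := fun M V hV hM hMi a => by
        obtain ⟨b⟩ := DualLib.RelTop.nonempty_restrict_ddual W1 (DualLib.RelTop.isCoh_tensorPow hM n)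
          (DualLib.RelTop.invertibleAt_tensorPow W1 M (fun x hx => hMi x hx.2) n)
        obtain ⟨c⟩ := DualLib.RelTop.nonempty_restrict_tensorPow W1 M n
        exact ⟨c.symm ≪≫ b ≪≫ ((Scheme.Modules.restrictFunctorCongr (Y.homOfLE_ι hV)).app _).symm ≪≫
          (Scheme.Modules.restrictFunctorComp (Y.homOfLE hV) V.ι).app _ ≪≫
          (Scheme.Modules.restrictFunctor (Y.homOfLE hV)).mapIso a ≪≫ Scheme.Modules.restrictUnitIso _⟩
      obtain ⟨tω⟩ := toUnit ω V1 (inf_le_left.trans inf_le_left) hωc hω1 a1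
      obtain ⟨tL⟩ := toUnit L V2 (inf_le_left.trans inf_le_right) hL hL1 a2
      obtain ⟨d1⟩ := DualLib.RelTop.nonempty_dual_restrict W1 ω
      have iω := DualLib.RelTop.isInvertible_restrict W1 (fun x hx => hω1 x hx.2)
      have iωd : PicF.IsInvertible (RefHull.dual (ω.restrict W1.ι)) := fun x => by
        obtain ⟨V, hV, ⟨e⟩⟩ := DualLib.RelTop.isInvertible_restrict W1 (fun x hx => hωd1 x hx.2) x
        exact ⟨V, hV, ⟨(Scheme.Modules.restrictFunctor V.ι).mapIso d1.symm ≪≫ e⟩⟩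
      obtain ⟨tD⟩ := DualLib.RelTop.nonempty_pow_tensor_dual
        (DualLib.RelTop.isInvertible_restrict W1 (fun x hx => hL1 x hx.2)) iω iωd n tL tω
      obtain ⟨p1⟩ := DualLib.RelTop.nonempty_restrict_tensorPow W1 D n
      obtain ⟨p2⟩ := DualLib.RelTop.nonempty_tensorPow_iso
        ((Coherent.restrictTensorIso W1.ι L (RefHull.dual ω)).symm ≪≫ AmpleLib.tensorIso (Iso.refl _) d1) n
      obtain ⟨p3⟩ := DualLib.RelTop.nonempty_restrict_ddual W1 (DualLib.RelTop.isCoh_tensorPow hD n)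
        (DualLib.RelTop.invertibleAt_tensorPow W1 D (fun x hx => hD1 x hx.2) n)
      have hdepW : ∀ x : Y, x ⤳ ι z → x ∉ W1 →
          (2 : ℕ∞) ≤ _root_.LocCoh.depth (Y.presheaf.stalk x) (Y.presheaf.stalk x) := fun x hx hxW =>
        hdep1 z x hx fun h => hxW ⟨(show x ⤳ y from hz ▸ hx).mem_open (V1 ⊓ V2).isOpen ⟨hV1, hV2⟩, h⟩
      have hPinv := DualLib.RelTop.invertibleAt_dual_of_iso_on
        (RefHullLib.isCoh_dual (DualLib.RelTop.isCoh_tensorPow hD n) hO) W1
        (p3.symm ≪≫ p1 ≪≫ p2 ≪≫ tD ≪≫ (Scheme.Modules.restrictUnitIso W1.ι).symm) (ι z) hdepW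
      exact hz ▸ DualLib.RelTop.invertibleAt_dual_of_root f hS (f y) z Y1 hdim1 D hD hD1
        (hfibinv D hD ⟨Iso.refl _⟩ z) k hrk hPinv
  obtain ⟨V, hyV, ⟨eV⟩⟩ := hkey
  let W1 : Y.Opens := V ⊓ Y1
  obtain ⟨d1⟩ := DualLib.RelTop.nonempty_dual_restrict W1 ω
  obtain ⟨d2⟩ := DualLib.RelTop.nonempty_dual_restrict W1 D
  obtain ⟨d3⟩ := DualLib.RelTop.nonempty_dual_iso
    (AmpleLib.tensorIso (Iso.refl _) d1.symm ≪≫ Coherent.restrictTensorIso W1.ι L (RefHull.dual ω))
  have iωd : PicF.IsInvertible (RefHull.dual (ω.restrict W1.ι)) := fun x => by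
    obtain ⟨V', hV', ⟨e⟩⟩ := DualLib.RelTop.isInvertible_restrict W1 (fun x hx => hωd1 x hx.2) x
    exact ⟨V', hV', ⟨(Scheme.Modules.restrictFunctor V'.ι).mapIso d1.symm ≪≫ e⟩⟩
  obtain ⟨eLω⟩ := DualLib.RelTop.nonempty_iso_of_tensor_dual
    (DualLib.RelTop.isInvertible_restrict W1 (fun x hx => hL1 x hx.2))
    (DualLib.RelTop.isInvertible_restrict W1 (fun x hx => hω1 x hx.2)) iωd
    (d3 ≪≫ d2.symm ≪≫ ((Scheme.Modules.restrictFunctorCongr (Y.homOfLE_ι (inf_le_left : W1 ≤ V))).app _).symm ≪≫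
          (Scheme.Modules.restrictFunctorComp (Y.homOfLE (inf_le_left : W1 ≤ V)) V.ι).app _ ≪≫
          (Scheme.Modules.restrictFunctor (Y.homOfLE (inf_le_left : W1 ≤ V))).mapIso eV ≪≫ Scheme.Modules.restrictUnitIso _)
  have main : ∀ (P Q : Y.Modules), Coh.IsCoh P → Coh.IsCoh Q → (∀ x : Y, x ∈ W1 → RelCanon.InvertibleAt P x) →
      Nonempty (P.restrict W1.ι ≅ Q.restrict W1.ι) → ∀ j : ℕ,
      Nonempty ((RefHull.ddual (CohB1.tensorPow P j)).presheaf.stalk (ι z) ≃ₗ[Y.presheaf.stalk (ι z)]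
        (RefHull.ddual (CohB1.tensorPow Q j)).presheaf.stalk (ι z)) := by
    intro P Q hP hQ hPi he j
    obtain ⟨e⟩ := he
    obtain ⟨b1⟩ := DualLib.RelTop.nonempty_restrict_tensorPow W1 P j
    obtain ⟨b2⟩ := DualLib.RelTop.nonempty_restrict_tensorPow W1 Q j
    obtain ⟨b3⟩ := DualLib.RelTop.nonempty_tensorPow_iso e j
    obtain ⟨b⟩ := DualLib.RelTop.nonempty_ddual_on W1 (DualLib.RelTop.isCoh_tensorPow hP j)
      (DualLib.RelTop.isCoh_tensorPow hQ j) (DualLib.RelTop.invertibleAt_tensorPow W1 P hPi j) (b1 ≪≫ b3 ≪≫ b2.symm)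
    have hdepW : ∀ x : Y, x ⤳ ι z → x ∉ W1 →
        (2 : ℕ∞) ≤ _root_.LocCoh.depth (Y.presheaf.stalk x) (Y.presheaf.stalk x) := fun x hx hxW =>
      hdep1 z x hx fun h => hxW ⟨(show x ⤳ y from hz ▸ hx).mem_open V.isOpen hyV, h⟩
    exact DualLib.RelTop.nonempty_stalk_equiv_of_restrict
      (RefHullLib.isCoh_dual (RefHullLib.isCoh_dual (DualLib.RelTop.isCoh_tensorPow hP j) hO) hO)
      (RefHullLib.isCoh_dual (RefHullLib.isCoh_dual (DualLib.RelTop.isCoh_tensorPow hQ j) hO) hO) W1 b (ι z)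
      (fun x hx hxW => DualLib.RelTop.two_le_depth_dual (RefHullLib.isCoh_dual (DualLib.RelTop.isCoh_tensorPow hP j) hO) x (hdepW x hx hxW))
      (fun x hx hxW => DualLib.RelTop.two_le_depth_dual (RefHullLib.isCoh_dual (DualLib.RelTop.isCoh_tensorPow hQ j) hO) x (hdepW x hx hxW))
  have hst : Nonempty ((RelCanon.refPowZ L m).presheaf.stalk (ι z) ≃ₗ[Y.presheaf.stalk (ι z)]
      (RelCanon.refPowZ ω m).presheaf.stalk (ι z)) := by
    rcases m with j | j
    · exact main L ω hL hωc (fun x hx => hL1 x hx.2) ⟨eLω⟩ j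
    · obtain ⟨c1⟩ := DualLib.RelTop.nonempty_dual_restrict W1 L
      obtain ⟨c2⟩ := DualLib.RelTop.nonempty_dual_restrict W1 ω
      obtain ⟨c3⟩ := DualLib.RelTop.nonempty_dual_iso eLω
      exact main (RefHull.dual L) (RefHull.dual ω) (RefHullLib.isCoh_dual hL hO) hωd
        (fun x hx => DualLib.RelTop.invertibleAt_dual hL x (hL1 x hx.2)) ⟨c1 ≪≫ c3 ≪≫ c2.symm⟩ (j + 1)
  obtain ⟨a⟩ := hst
  obtain ⟨hfl, hsk⟩ := DualLib.RelTop.relSkAt_of_stalk_equiv f (f y) z a (hz.symm ▸ (hL2 m y).1) (hL2 m y).2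
  exact ⟨hz ▸ hfl, hsk⟩

end Groth.Agent.S19837
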