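import Groth.Statements.S19838
import Groth.Agent.DualLib.RelTop.RootFibre
import Groth.Agent.DualLib.RelTop.FibreExists

set_option autoImplicit false
universe u
open QGor

namespace Groth.Agent.S19838

set_option backward.isDefEq.respectTransparency false

open CategoryTheory AlgebraicGeometry in
/-- Let Y → Spec A be a proper S₂-morphism to a Noetherian affine base, of pure relative dimension d,
with relative canonical sheaf ω (characterised by the d-dualizing property over A), and t a point of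
Spec A whose fibre Y_t is Gorenstein in codimension one and quasi-Gorenstein (every d-dualizing
module on Y_t over κ(t), i.e. its canonical sheaf, is invertible). If ω^{[r]} is invertible for some
r > 0 whose image in κ(t) is non-zero, then for every m ∈ ℤ the reflexive power ω^{[m]} satisfies
relative S₂ over the base at every point of Y_t (the morphism is ℚ-Gorenstein along Y_t). -/
theorem result
    (A : Type u) [CommRing A] [IsNoetherianRing A] (Y : Scheme.{u}) [Y.Over (Spec (CommRingCat.of A))]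
    [IsProper (Y ↘ Spec (CommRingCat.of A))] (d : ℕ)
    (hS : RelCanon.IsSkMor (Y ↘ Spec (CommRingCat.of A)) 2) (hd : Cyc.HasRelDim (Y ↘ Spec (CommRingCat.of A)) d)
    (ω : Y.Modules) (hω : RelCanon.IsDualizingSheaf A Y d ω)
    (t : (Spec (CommRingCat.of A)))
    (hG1 : ∀ y : Y, (Y ↘ Spec (CommRingCat.of A)) y = t → y ∉ RelCanon.gorLocus (Y ↘ Spec (CommRingCat.of A)) → (2 : WithBot ℕ∞) ≤ ringKrullDim (((Y ↘ Spec (CommRingCat.of A)).fiber ((Y ↘ Spec (CommRingCat.of A)) y)).presheaf.stalk ((Y ↘ Spec (CommRingCat.of A)).asFiber y)))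
    (hqg : ∀ ωt : ((Y ↘ Spec (CommRingCat.of A)).fiber t).Modules, @RelCanon.IsDualizingSheaf ((Spec (CommRingCat.of A)).residueField t) _ ((Y ↘ Spec (CommRingCat.of A)).fiber t) ⟨(Y ↘ Spec (CommRingCat.of A)).fiberToSpecResidueField t⟩ d ωt → PicF.IsInvertible ωt)
    (r : ℕ) (hr : 0 < r) (hrk : (r : (Spec (CommRingCat.of A)).residueField t) ≠ 0)
    (hinv : PicF.IsInvertible (RelCanon.refPowZ ω r)) :
    ∀ m : ℤ, ∀ y : Y, (Y ↘ Spec (CommRingCat.of A)) y = t → RelCanon.RelSkAt (Y ↘ Spec (CommRingCat.of A)) 2 (RelCanon.refPowZ ω m) y := by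
  haveI : ∀ (U V : Scheme.{u}) (j : U ⟶ V) [IsOpenImmersion j],
      Limits.PreservesFiniteLimits (Scheme.Modules.restrictFunctor j) := fun U V j _ =>
    DCat.PullPerf.preservesFiniteLimits_restrict j
  intro m y hy
  subst hy
  let f := Y ↘ Spec (CommRingCat.of A)
  haveI : Flat f := hS.1
  haveI : IsNoetherianRing (CommRingCat.of A) := ‹IsNoetherianRing A›
  haveI : IsLocallyNoetherian Y := LocallyOfFiniteType.isLocallyNoetherian f
  haveI : LocallyOfFiniteType (f.fiberToSpecResidueField (f y)) :=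
    MorphismProperty.pullback_snd _ _ inferInstance
  haveI : IsLocallyNoetherian (f.fiber (f y)) :=
    LocallyOfFiniteType.isLocallyNoetherian (f.fiberToSpecResidueField (f y))
  obtain ⟨hωc, -⟩ := DualLib.RelTop.isCoh_and_two_le_depth (A := A) (Y := Y) d hd ω hω
  obtain ⟨hopen, hinv⟩ := DualLib.RelTop.gor_open_and_invertible A Y d hd ω hω
  let Yo : Y.Opens := ⟨RelCanon.gorLocus f, hopen⟩
  have hinv' : ∀ x : Y, x ∈ Yo → RelCanon.InvertibleAt ω x := fun x hx => hinv x hx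
  let z := f.asFiber y
  let ι := f.fiberι (f y)
  have hz : ι z = y := f.fiberι_asFiber y
  obtain ⟨ωy, hωy⟩ := DualLib.RelTop.exists_fibre_dualizing A Y d hd (f y)
  have hωtc := DualLib.RelTop.isCoh_fibre_dualizing Y d hd (f y) ωy hωy
  obtain ⟨eC⟩ := DualLib.RelTop.nonempty_fibre_iso_on_cm A Y d hd ω hω Yo
    (fun x hx => ⟨hx.1, by haveI := hx.2; exact LocCoh.isCohenMacaulayLocalRing_of_gorenstein⟩) (f y) ωy hωy
  have hdep := DualLib.RelTop.two_le_depth_total f hS (f y) z Yo hG1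
  -- `ω^{[1]}` is invertible
  have h1t : RelCanon.InvertibleAt (RelCanon.refPowZ ωy (1 : ℕ)) z := by
    have hT1 : RelCanon.InvertibleAt (CohB1.tensorPow ωy 1) z :=
      DualLib.RelTop.invertibleAt_tensorPow ⊤ ωy (fun x _ => hqg ωy hωy x) 1 z trivial
    exact DualLib.RelTop.invertibleAt_dual (RefHullLib.isCoh_dual (DualLib.RelTop.isCoh_tensorPow hωtc 1)
      (Coherent.isCoh_structureModule _)) z (DualLib.RelTop.invertibleAt_dual (DualLib.RelTop.isCoh_tensorPow hωtc 1) z hT1)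
  obtain ⟨k, rfl⟩ : ∃ k, r = k + 1 := ⟨r - 1, by omega⟩
  have h1 : RelCanon.InvertibleAt (RelCanon.refPowZ ω (1 : ℕ)) y := hz ▸
    DualLib.RelTop.invertibleAt_refPow_of_power f hS (f y) z Yo hG1 ω hωc hinv' ωy hωtc eC.symm 1 k hrk h1t
      (by rw [one_mul]; exact hinv _)
  obtain ⟨V, hyV, ⟨eV⟩⟩ := h1
  let G1 := RelCanon.refPowZ ω (1 : ℕ)
  have hG1c : Coh.IsCoh G1 := DualLib.RelTop.isCoh_refPowNat hωc 1
  have hG1i : ∀ x : Y, x ∈ V → RelCanon.InvertibleAt G1 x := fun x hx => ⟨V, hx, ⟨eV⟩⟩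
  obtain ⟨a1⟩ := DualLib.RelTop.nonempty_restrict_ddual Yo (DualLib.RelTop.isCoh_tensorPow hωc 1)
    (DualLib.RelTop.invertibleAt_tensorPow Yo ω hinv' 1)
  obtain ⟨a2⟩ := DualLib.RelTop.nonempty_restrict_tensorPow Yo ω 1
  let e1 : G1.restrict Yo.ι ≅ ω.restrict Yo.ι :=
    a1.symm ≪≫ a2 ≪≫ AmpleLib.unitTensorIso _
  have main : ∀ (L M : Y.Modules), Coh.IsCoh L → Coh.IsCoh M → (∀ x : Y, x ∈ V → RelCanon.InvertibleAt M x) →
      (∀ x : Y, x ∈ Yo → RelCanon.InvertibleAt M x) → Nonempty (M.restrict Yo.ι ≅ L.restrict Yo.ι) → ∀ n : ℕ,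
      RelCanon.InvertibleAt (RefHull.ddual (CohB1.tensorPow L n)) y := by
    intro L M hL hM hMV hMYo he n
    obtain ⟨e⟩ := he
    obtain ⟨b1⟩ := DualLib.RelTop.nonempty_restrict_tensorPow Yo M n
    obtain ⟨b2⟩ := DualLib.RelTop.nonempty_restrict_tensorPow Yo L n
    obtain ⟨b3⟩ := DualLib.RelTop.nonempty_tensorPow_iso e n
    obtain ⟨b⟩ := DualLib.RelTop.nonempty_ddual_on Yo (DualLib.RelTop.isCoh_tensorPow hM n)
      (DualLib.RelTop.isCoh_tensorPow hL n) (DualLib.RelTop.invertibleAt_tensorPow Yo M hMYo n) (b1 ≪≫ b3 ≪≫ b2.symm)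
    refine DualLib.RelTop.invertibleAt_dual_transfer
      (RefHullLib.isCoh_dual (DualLib.RelTop.isCoh_tensorPow hM n) (Coherent.isCoh_structureModule Y))
      (RefHullLib.isCoh_dual (DualLib.RelTop.isCoh_tensorPow hL n) (Coherent.isCoh_structureModule Y))
      Yo b y (hz ▸ hdep) ?_
    exact DualLib.RelTop.invertibleAt_dual (RefHullLib.isCoh_dual (DualLib.RelTop.isCoh_tensorPow hM n)
      (Coherent.isCoh_structureModule Y)) y (DualLib.RelTop.invertibleAt_dual (DualLib.RelTop.isCoh_tensorPow hM n) y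
        (DualLib.RelTop.invertibleAt_tensorPow V M hMV n y hyV))
  have hG1Yo : ∀ x : Y, x ∈ Yo → RelCanon.InvertibleAt G1 x := fun x hx =>
    DualLib.RelTop.invertibleAt_of_restrict_iso Yo e1 x hx (hinv' x hx)
  have hmi : RelCanon.InvertibleAt (RelCanon.refPowZ ω m) y := by
    rcases m with n | n
    · exact main ω G1 hωc hG1c hG1i hG1Yo ⟨e1⟩ n
    · obtain ⟨c1⟩ := DualLib.RelTop.nonempty_dual_restrict Yo G1
      obtain ⟨c2⟩ := DualLib.RelTop.nonempty_dual_restrict Yo ω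
      obtain ⟨c3⟩ := DualLib.RelTop.nonempty_dual_iso e1
      exact main (RefHull.dual ω) (RefHull.dual G1) (RefHullLib.isCoh_dual hωc (Coherent.isCoh_structureModule Y))
        (RefHullLib.isCoh_dual hG1c (Coherent.isCoh_structureModule Y))
        (fun x hx => DualLib.RelTop.invertibleAt_dual hG1c x (hG1i x hx))
        (fun x hx => DualLib.RelTop.invertibleAt_dual hG1c x (hG1Yo x hx)) ⟨c1 ≪≫ c3 ≪≫ c2.symm⟩ (n + 1)
  obtain ⟨a⟩ := DualLib.RelTop.exists_stalk_equiv_of_invertibleAt (x := ι z) (hz.symm ▸ hmi)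
  obtain ⟨u⟩ := QG15.exists_fibre_unit_equiv f (f y) z
  have hsk0 : RelCanon.SkAt 2 ((Scheme.Modules.pullback ι).obj (Coh.structureModule Y)) z :=
    (EGA43.FibDepth.hasSk_congr (u.trans (EGA43.FibDepth.unitStalkEquiv z)) 2).2 (hS.2.2 y)
  obtain ⟨hfl, hsk⟩ := DualLib.RelTop.relSkAt_of_stalk_equiv f (f y) z
    ((SDiv28.unitStalkEquiv (X := Y) _).symm.trans a.symm) (Lef23.isFlatOver_structureModule f _) hsk0
  exact ⟨hz ▸ hfl, hsk⟩

end Groth.Agent.S19838
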