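import Groth.Statements.S19839
import Groth.Agent.DualLib.RelTop.ArbQGor
import Groth.Agent.S19824
import Groth.Agent.S3626

set_option autoImplicit false
universe u
open QGor

namespace Groth.Agent.S19839

  set_option backward.isDefEq.respectTransparency false

open CategoryTheory AlgebraicGeometry in
/-- Let Y → Spec A be a proper S₂-morphism to a Noetherian affine base, of pure relative dimension d,
with fibres Gorenstein in codimension one and relative canonical sheaf ω (characterised by the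
d-dualizing property over A); let B be Noetherian, A → B a ring map, Y' → Y a cartesian square over
Spec B → Spec A with projection p, and ω' the relative canonical sheaf of Y' over B (any module with
the d-dualizing property over B). (1) If the morphism is naively ℚ-Gorenstein (some ω^{[r]}, r > 0,
invertible at each point) then so is the base change, and if ω^{[r]} is invertible for some r > 0
then ω'^{[r]} ≅ p^*(ω^{[r]}). (3) If every fibre of Y over Spec A is ℚ-Gorenstein (w.r.t. its
canonical sheaf) then so is every fibre of Y' over Spec B. (5) If every ω^{[m]}, m ∈ ℤ, satisfies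
relative S₂ over Spec A, then every ω'^{[m]} satisfies relative S₂ over Spec B and ω'^{[m]} ≅
p^*(ω^{[m]}). (Isomorphisms in existence form.) -/
theorem result
    (A : Type u) [CommRing A] [IsNoetherianRing A] (Y : Scheme.{u}) [Y.Over (Spec (CommRingCat.of A))]
    [IsProper (Y ↘ Spec (CommRingCat.of A))] (d : ℕ)
    (hS : RelCanon.IsSkMor (Y ↘ Spec (CommRingCat.of A)) 2) (hd : Cyc.HasRelDim (Y ↘ Spec (CommRingCat.of A)) d)
    (ω : Y.Modules) (hω : RelCanon.IsDualizingSheaf A Y d ω)
    (hG : ∀ y : Y, y ∉ RelCanon.gorLocus (Y ↘ Spec (CommRingCat.of A)) →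
      (2 : WithBot ℕ∞) ≤ ringKrullDim (((Y ↘ Spec (CommRingCat.of A)).fiber ((Y ↘ Spec (CommRingCat.of A)) y)).presheaf.stalk ((Y ↘ Spec (CommRingCat.of A)).asFiber y)))
    (B : Type u) [CommRing B] [IsNoetherianRing B] (φ : A →+* B)
    (Y' : Scheme.{u}) [Y'.Over (Spec (CommRingCat.of B))] (p : Y' ⟶ Y)
    (hp : IsPullback p (Y' ↘ Spec (CommRingCat.of B)) (Y ↘ Spec (CommRingCat.of A)) (Spec.map (CommRingCat.ofHom φ)))
    (ω' : Y'.Modules) (hω' : RelCanon.IsDualizingSheaf B Y' d ω') :
    (RelCanon.IsQGorWith ω → RelCanon.IsQGorWith ω') ∧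
    (∀ r : ℕ, 0 < r → PicF.IsInvertible (RelCanon.refPowZ ω r) →
      Nonempty (RelCanon.refPowZ ω' r ≅ (Scheme.Modules.pullback p).obj (RelCanon.refPowZ ω r))) ∧
    ((∀ (t : (Spec (CommRingCat.of A))) (ωt : ((Y ↘ Spec (CommRingCat.of A)).fiber t).Modules), @RelCanon.IsDualizingSheaf ((Spec (CommRingCat.of A)).residueField t) _ ((Y ↘ Spec (CommRingCat.of A)).fiber t) ⟨(Y ↘ Spec (CommRingCat.of A)).fiberToSpecResidueField t⟩ d ωt → RelCanon.IsQGorWith ωt) →
      ∀ (t' : Spec (CommRingCat.of B)) (ωt' : ((Y' ↘ Spec (CommRingCat.of B)).fiber t').Modules),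
        @RelCanon.IsDualizingSheaf ((Spec (CommRingCat.of B)).residueField t') _ ((Y' ↘ Spec (CommRingCat.of B)).fiber t') ⟨(Y' ↘ Spec (CommRingCat.of B)).fiberToSpecResidueField t'⟩ d ωt' →
        RelCanon.IsQGorWith ωt') ∧
    (RelCanon.IsQGorMorWith (Y ↘ Spec (CommRingCat.of A)) ω → RelCanon.IsQGorMorWith (Y' ↘ Spec (CommRingCat.of B)) ω' ∧
      ∀ m : ℤ, Nonempty (RelCanon.refPowZ ω' m ≅ (Scheme.Modules.pullback p).obj (RelCanon.refPowZ ω m))) := by
  haveI : ∀ (U V : Scheme.{u}) (j : U ⟶ V) [IsOpenImmersion j],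
      Limits.PreservesFiniteLimits (Scheme.Modules.restrictFunctor j) := fun U V j _ =>
    DCat.PullPerf.preservesFiniteLimits_restrict j
  let f := Y ↘ Spec (CommRingCat.of A)
  let f' := Y' ↘ Spec (CommRingCat.of B)
  let h := Spec.map (CommRingCat.ofHom φ)
  haveI : Flat f := hS.1
  haveI : IsNoetherianRing (CommRingCat.of A) := ‹IsNoetherianRing A›
  haveI : IsNoetherianRing (CommRingCat.of B) := ‹IsNoetherianRing B›
  haveI : IsLocallyNoetherian Y := LocallyOfFiniteType.isLocallyNoetherian f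
  haveI : IsProper f' := MorphismProperty.of_isPullback hp ‹IsProper f›
  haveI : Flat f' := MorphismProperty.of_isPullback hp ‹Flat f›
  haveI : IsLocallyNoetherian Y' := LocallyOfFiniteType.isLocallyNoetherian f'
  obtain ⟨hωc, -⟩ := DualLib.RelTop.isCoh_and_two_le_depth (A := A) (Y := Y) d hd ω hω
  obtain ⟨hopen, hinv⟩ := DualLib.RelTop.gor_open_and_invertible A Y d hd ω hω
  let Yo : Y.Opens := ⟨RelCanon.gorLocus f, hopen⟩
  have hdim : ∀ x : Y, x ∉ Yo → (2 : WithBot ℕ∞) ≤ ringKrullDim ((f.fiber (f x)).presheaf.stalk (f.asFiber x)) :=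
    fun x hx => hG x hx
  have main := Groth.Agent.S19824.result A Y d hS hd ω hω hG B φ Y' p hp ω' hω'
  refine ⟨fun h1 y => ?_, fun r hr hr' => ?_, fun h3 t' ωt' hωt' => ?_, fun h4 => ?_⟩
  · obtain ⟨r, hr, hi⟩ := h1 (p y)
    obtain ⟨i⟩ := (main (r : ℤ)).1
    exact ⟨r, hr, DualLib.RelTop.invertibleAt_of_ddual_pullback p (DualLib.RelTop.isCoh_refPowNat hωc r) i y hi⟩
  · obtain ⟨i⟩ := (main (r : ℤ)).2 (DualLib.RelTop.relSk_of_isInvertible A Y hS _ hr')
    exact ⟨i.symm⟩
  · let t := h t'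
    obtain ⟨q, _, hw, sq'⟩ := DualLib.RelTop.exists_fibre_map p f f' h hp t'
    let Z := f.fiber t
    let Z' := f'.fiber t'
    let k := (Spec (CommRingCat.of A)).residueField t
    let k' := (Spec (CommRingCat.of B)).residueField t'
    let fZ : Z ⟶ Spec (CommRingCat.of k) := f.fiberToSpecResidueField t
    haveI : IsProper fZ := MorphismProperty.pullback_snd _ _ ‹IsProper f›
    haveI : IsProper (f'.fiberToSpecResidueField t') := MorphismProperty.pullback_snd _ _ ‹IsProper f'›
    letI : Z.Over (Spec (CommRingCat.of k)) := ⟨fZ⟩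
    letI : Z'.Over (Spec (CommRingCat.of k')) := ⟨f'.fiberToSpecResidueField t'⟩
    haveI : IsProper (Z ↘ Spec (CommRingCat.of k)) := ‹IsProper fZ›
    haveI : IsNoetherianRing k := inferInstance
    haveI : IsNoetherianRing k' := inferInstance
    obtain ⟨ωt, hωt⟩ := DualLib.RelTop.exists_fibre_dualizing A Y d hd t
    have hq := h3 t ωt hωt
    have hgor : ∀ z : Z, f.fiberι t z ∈ Yo → Dual3.IsGorensteinAt fZ z := fun z hz =>
      (Groth.Agent.S3626.result Y (Spec (CommRingCat.of A)) Z (Spec (CommRingCat.of k)) f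
        ((Spec (CommRingCat.of A)).fromSpecResidueField t) fZ (f.fiberι t) (IsPullback.of_hasPullback _ _) z).2 hz
    have main' := Groth.Agent.S19824.result k Z d (DualLib.RelTop.isSkMor_fibre f hS t)
      (DualLib.RelTop.hasRelDim_fibre Y d hd t) ωt hωt
      (fun z hz => DualLib.RelTop.dim_fibre_off f Yo hdim t z fun hc => hz (hgor z hc))
      k' (h.residueFieldMap t').hom Z' q sq' ωt' hωt'
    haveI : LocallyOfFiniteType fZ := inferInstance
    haveI : IsLocallyNoetherian Z := LocallyOfFiniteType.isLocallyNoetherian fZ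
    haveI : IsLocallyNoetherian Z' := LocallyOfFiniteType.isLocallyNoetherian (f'.fiberToSpecResidueField t')
    have hωtc := DualLib.RelTop.isCoh_fibre_dualizing Y d hd t ωt hωt
    intro y
    obtain ⟨r, hr, hi⟩ := hq (q y)
    obtain ⟨i⟩ := (main' (r : ℤ)).1
    exact ⟨r, hr, DualLib.RelTop.invertibleAt_of_ddual_pullback q (DualLib.RelTop.isCoh_refPowNat hωtc r) i y hi⟩
  · have hiso : ∀ m : ℤ, Nonempty ((Scheme.Modules.pullback p).obj (RelCanon.refPowZ ω m) ≅ RelCanon.refPowZ ω' m) :=
      fun m => (main m).2 (h4 m)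
    refine ⟨fun m => ?_, fun m => (hiso m).map Iso.symm⟩
    obtain ⟨i⟩ := hiso m
    have hω1 := Coherent.isCoh_structureModule Y
    have key : ∀ (L : Y.Modules), Coh.IsCoh L → (∀ x : Y, x ∈ Yo → RelCanon.InvertibleAt L x) → ∀ n : ℕ,
        RelCanon.RelSk f 2 (RefHull.ddual (CohB1.tensorPow L n)) →
        ∀ (G' : Y'.Modules), ((Scheme.Modules.pullback p).obj (RefHull.ddual (CohB1.tensorPow L n)) ≅ G') →
          RelCanon.RelSk f' 2 G' := fun L hL hLi n hsk G' i => by
      have hT := DualLib.RelTop.isCoh_tensorPow hL n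
      have hGi : ∀ x : Y, x ∈ Yo → RelCanon.InvertibleAt (RefHull.ddual (CohB1.tensorPow L n)) x := fun x hx =>
        DualLib.RelTop.invertibleAt_dual (RefHullLib.isCoh_dual hT hω1) x
          (DualLib.RelTop.invertibleAt_dual hT x (DualLib.RelTop.invertibleAt_tensorPow Yo L hLi n x hx))
      exact DualLib.RelTop.relSk_of_iso_pullback f p f' h hp (DualLib.RelTop.isCoh_refPowNat hL n) i Yo hGi
        (fun t z hz => DualLib.RelTop.two_le_depth_fibre_of_relSk f (DualLib.RelTop.isCoh_refPowNat hL n) Yo hdim hGi hsk t z hz) hsk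
    rcases m with n | n
    · exact key ω hωc (fun x hx => hinv x hx) n (h4 (Int.ofNat n)) _ i
    · exact key (RefHull.dual ω) (RefHullLib.isCoh_dual hωc hω1)
        (fun x hx => DualLib.RelTop.invertibleAt_dual hωc x (hinv x hx)) (n + 1) (h4 (Int.negSucc n)) _ i

end Groth.Agent.S19839
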