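import Groth.Statements.S1984
import Groth.Agent.EtRamLib.TotRam
-- import your own Groth.Agent.* helpers here

set_option autoImplicit false
universe u
open EtAlg

namespace Groth.Agent.S1984

open TensorProduct in
/-- Let A -> B be a weakly unramified extension of discrete valuation rings with fraction fields K ⊂ L,
and K₁/K a finite separable extension which is totally ramified with respect to A. Then L ⊗_K K₁ is
a field and K₁ is a weak solution for A -> B (the valuation ring of L ⊗_K K₁ over B is weakly
unramified over that of K₁ over A). -/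
theorem result (A B K L : Type u) [CommRing A] [IsDomain A] [IsDiscreteValuationRing A]
    [CommRing B] [IsDomain B] [IsDiscreteValuationRing B] [Algebra A B] [IsLocalHom (algebraMap A B)]
    (hinj : Function.Injective (algebraMap A B))
    [Field K] [Field L] [Algebra A K] [IsFractionRing A K] [Algebra B L] [IsFractionRing B L]
    [Algebra K L] [Algebra A L] [IsScalarTower A K L] [IsScalarTower A B L]
    (hw : EtRam.IsWeaklyUnramified A B) (K₁ : Type u) [Field K₁] [Algebra K K₁] [FiniteDimensional K K₁]
    [Algebra.IsSeparable K K₁] (ht : EtRam.IsTotallyRamified A ((algebraMap K K₁).comp (algebraMap A K))) :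
    IsField (L ⊗[K] K₁) ∧ EtRam.IsWeakSolution B K L K₁ := by
  classical
  obtain ⟨V, π, ϖ, e, u, hπ, hV, huniq, he, hϖ, hu, hπu, hspan⟩ := EtRamLib.exists_eisenstein_gen ht
  have hπB : Irreducible (algebraMap A B π) := by
    rw [IsDiscreteValuationRing.irreducible_iff_uniformizer, ← hw, hπ.maximalIdeal_eq, Ideal.map_span, Set.image_singleton]
  have core : ∀ (M : Type u) [Field M] [Algebra K M] [Algebra L M] [Algebra K₁ M] [IsScalarTower K L M]
      [IsScalarTower K K₁ M], Algebra.adjoin L (Set.range (algebraMap K₁ M)) = ⊤ →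
      ∀ (W : ValuationSubring M), EtRam.Dominates B ((algebraMap L M).comp (algebraMap B L)) W →
      Module.finrank L M = e ∧
      (letI : Algebra (W.comap (algebraMap K₁ M)) W := (EtRam.inclOfComap W (algebraMap K₁ M)).toAlgebra
       EtRam.IsWeaklyUnramified (W.comap (algebraMap K₁ M)) W) := by
    intro M _ _ _ _ _ _ hadj W hW
    let f := algebraMap K₁ M
    let j := algebraMap L M
    let v := W.valuation
    have hcomm : ∀ a : A, f (algebraMap K K₁ (algebraMap A K a)) = j (algebraMap B L (algebraMap A B a)) := fun a => by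
      rw [← IsScalarTower.algebraMap_apply K K₁ M, IsScalarTower.algebraMap_apply K L M,
        ← IsScalarTower.algebraMap_apply A K L, ← IsScalarTower.algebraMap_apply A B L]
    have hCW : W.comap f = V := by
      refine huniq _ ⟨fun a => ?_, fun a ha => ?_⟩
      · show f _ ∈ W
        rw [RingHom.comp_apply, hcomm]; exact hW.1 _
      · rw [← not_le]
        intro hle
        have hne : algebraMap K K₁ (algebraMap A K a) ≠ 0 := fun h0 => by
          rw [RingHom.comp_apply, h0, map_zero] at hle
          exact not_le.mpr zero_lt_one hle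
        have hm : (algebraMap K K₁ (algebraMap A K a))⁻¹ ∈ W.comap f :=
          ((W.comap f).valuation_le_one_iff _).mp (by rw [map_inv₀]; exact inv_le_one_of_one_le₀ hle)
        have h2 := (W.valuation_le_one_iff _).mpr (show f _ ∈ W from hm)
        rw [map_inv₀, map_inv₀, hcomm] at h2
        have h3 := hW.2 (algebraMap A B a)
          (by rw [← hw]; exact Ideal.mem_map_of_mem _ ha)
        rw [RingHom.comp_apply] at h3
        have h4 : v (j (algebraMap B L (algebraMap A B a))) ≠ 0 := by
          rw [Valuation.ne_zero_iff, ← hcomm, map_ne_zero_iff _ f.injective]; exact hne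
        exact absurd h2 (not_le.mpr ((one_lt_inv₀ (zero_lt_iff.mpr h4)).mpr h3))
    have hfu : v (f u) = 1 := by
      have hu0 : u ≠ 0 := fun h => by rw [h, map_zero] at hu; exact zero_ne_one hu
      have h1 : u ∈ W.comap f := by rw [hCW]; exact (V.valuation_le_one_iff _).mp hu.le
      have h2 : u⁻¹ ∈ W.comap f := by
        rw [hCW]; exact (V.valuation_le_one_iff _).mp (by rw [map_inv₀, hu, inv_one])
      refine le_antisymm ((W.valuation_le_one_iff _).mpr h1) ?_
      have h3 := (W.valuation_le_one_iff _).mpr (show f u⁻¹ ∈ W from h2)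
      rwa [map_inv₀, map_inv₀, inv_le_one₀ (zero_lt_iff.mpr ((Valuation.ne_zero_iff _).mpr ((map_ne_zero_iff _ f.injective).mpr hu0)))] at h3
    have hπ0 : algebraMap K K₁ (algebraMap A K π) ≠ 0 :=
      (map_ne_zero _).mpr ((map_ne_zero_iff _ (IsFractionRing.injective A K)).mpr hπ.ne_zero)
    have hϖ0 : ϖ ≠ 0 := fun h => hπ0 (by rw [hπu, h, zero_pow (by omega), mul_zero])
    let g := v (f ϖ)
    have hg0 : 0 < g := zero_lt_iff.mpr ((Valuation.ne_zero_iff _).mpr ((map_ne_zero_iff _ f.injective).mpr hϖ0))
    have hg1 : g < 1 := by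
      refine not_le.mp fun hle => ?_
      have h2 : ϖ⁻¹ ∈ W.comap f := show f ϖ⁻¹ ∈ W from (W.valuation_le_one_iff _).mp (by
        rw [map_inv₀, map_inv₀]; exact inv_le_one_of_one_le₀ hle)
      rw [hCW] at h2
      have h3 := (V.valuation_le_one_iff _).mpr h2
      rw [map_inv₀] at h3
      exact absurd h3 (not_le.mpr ((one_lt_inv₀ (zero_lt_iff.mpr ((Valuation.ne_zero_iff _).mpr hϖ0))).mpr hϖ))
    have hp : v (j (algebraMap B L (algebraMap A B π))) = g ^ (e : ℤ) := by
      rw [← hcomm, hπu, map_mul, map_mul, hfu, one_mul, map_pow, map_pow, zpow_natCast]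
    have hbunit : ∀ b : Bˣ, v (j (algebraMap B L b)) = 1 := by
      intro b
      refine le_antisymm ((W.valuation_le_one_iff _).mpr (hW.1 _)) ?_
      have h2 : v (j (algebraMap B L b)) * v (j (algebraMap B L ((b⁻¹ : Bˣ) : B))) = 1 := by
        rw [← map_mul, ← map_mul, ← map_mul, Units.mul_inv, map_one, map_one, map_one]
      rw [← h2]
      exact mul_le_of_le_one_right' ((W.valuation_le_one_iff _).mpr (hW.1 _))
    have hc : ∀ c : L, c ≠ 0 → ∃ m : ℤ, v (j c) = g ^ ((e : ℤ) * m) := by
      intro c hc0
      obtain ⟨a, b, hb, rfl⟩ := IsFractionRing.div_surjective (A := B) c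
      have ha0 : a ≠ 0 := fun h => hc0 (by rw [h, map_zero, zero_div])
      obtain ⟨m, x, rfl⟩ := IsDiscreteValuationRing.eq_unit_mul_pow_irreducible ha0 hπB
      obtain ⟨n, y, rfl⟩ := IsDiscreteValuationRing.eq_unit_mul_pow_irreducible (nonZeroDivisors.ne_zero hb) hπB
      refine ⟨(m : ℤ) - n, ?_⟩
      rw [map_div₀, map_div₀, map_mul, map_mul, map_mul, map_mul, map_mul, map_mul, hbunit, hbunit, one_mul,
        one_mul, map_pow, map_pow, map_pow, map_pow, map_pow, map_pow, hp, ← zpow_natCast, ← zpow_natCast,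
        ← zpow_mul, ← zpow_mul, ← zpow_sub₀ hg0.ne', mul_sub]
    -- the values of the monomials are distinct
    have hdist : ∀ (c : Fin e → L) (i k : Fin e), c i ≠ 0 → c k ≠ 0 →
        v (j (c i) * f ϖ ^ (i : ℕ)) = v (j (c k) * f ϖ ^ (k : ℕ)) → i = k := by
      intro c i k hi hk heq
      obtain ⟨m, hm⟩ := hc _ hi
      obtain ⟨n, hn⟩ := hc _ hk
      rw [map_mul, map_mul, map_pow, map_pow, hm, hn, ← zpow_natCast, ← zpow_natCast, ← zpow_add₀ hg0.ne',
        ← zpow_add₀ hg0.ne'] at heq
      have := (zpow_right_strictAnti₀ hg0 hg1).injective heq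
      have hi' : ((i : ℕ) : ℤ) < e := by exact_mod_cast i.2
      have hk' : ((k : ℕ) : ℤ) < e := by exact_mod_cast k.2
      have h1 : ((e : ℤ) * m + (i : ℕ)) % e = (i : ℕ) := by
        rw [add_comm, Int.add_mul_emod_self_left, Int.emod_eq_of_lt (Int.natCast_nonneg _) hi']
      have h2 : ((e : ℤ) * n + (k : ℕ)) % e = (k : ℕ) := by
        rw [add_comm, Int.add_mul_emod_self_left, Int.emod_eq_of_lt (Int.natCast_nonneg _) hk']
      rw [this, h2] at h1
      exact Fin.ext (by exact_mod_cast h1.symm)
    have hsum : ∀ (c : Fin e → L) (i : Fin e), c i ≠ 0 → ∃ k : Fin e, c k ≠ 0 ∧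
        v (j (c i) * f ϖ ^ (i : ℕ)) ≤ v (j (c k) * f ϖ ^ (k : ℕ)) ∧
        v (∑ l, j (c l) * f ϖ ^ (l : ℕ)) = v (j (c k) * f ϖ ^ (k : ℕ)) := by
      intro c i hi
      obtain ⟨k, hk, hmax⟩ := Finset.exists_max_image (Finset.univ.filter fun l => c l ≠ 0)
        (fun l => v (j (c l) * f ϖ ^ (l : ℕ))) ⟨i, by simp [hi]⟩
      have hk0 : c k ≠ 0 := (Finset.mem_filter.1 hk).2
      refine ⟨k, hk0, hmax i (by simp [hi]), v.map_sum_eq_of_lt (Finset.mem_univ k) fun l hl => ?_⟩
      have hlk : l ≠ k := by simpa using hl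
      by_cases hl0 : c l = 0
      · rw [hl0, map_zero, zero_mul, map_zero, zero_lt_iff, Valuation.ne_zero_iff]
        exact mul_ne_zero ((map_ne_zero_iff _ j.injective).mpr hk0) (pow_ne_zero _ ((map_ne_zero_iff _ f.injective).mpr hϖ0))
      · exact lt_of_le_of_ne (hmax l (by simp [hl0])) fun h => hlk (hdist c l k hl0 hk0 h)
    have hli : LinearIndependent L fun i : Fin e => f ϖ ^ (i : ℕ) := by
      rw [Fintype.linearIndependent_iff]
      intro c hc0 i
      by_contra hi
      obtain ⟨k, hk, -, hk'⟩ := hsum c i hi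
      simp only [Algebra.smul_def] at hc0
      rw [hc0, map_zero] at hk'
      exact ((Valuation.ne_zero_iff _).mpr (mul_ne_zero ((map_ne_zero_iff _ j.injective).mpr hk)
        (pow_ne_zero _ ((map_ne_zero_iff _ f.injective).mpr hϖ0)))) hk'.symm
    let N : Submodule L M := Submodule.span L (Set.range fun i : Fin e => f ϖ ^ (i : ℕ))
    have hfN : ∀ x : K₁, f x ∈ N := by
      intro x
      have hx : x ∈ Submodule.span K (Set.range fun i : Fin e => ϖ ^ (i : ℕ)) := hspan ▸ Submodule.mem_top
      induction hx using Submodule.span_induction with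
      | mem x hx => obtain ⟨i, rfl⟩ := hx; exact Submodule.subset_span ⟨i, (map_pow f ϖ _).symm⟩
      | zero => rw [map_zero]; exact N.zero_mem
      | add a b _ _ ha hb => rw [map_add]; exact N.add_mem ha hb
      | smul k a _ ha =>
        rw [Algebra.smul_def, map_mul, ← IsScalarTower.algebraMap_apply, IsScalarTower.algebraMap_apply K L M,
          ← Algebra.smul_def]
        exact N.smul_mem _ ha
    have hN : N = ⊤ := by
      rw [eq_top_iff]
      intro m _
      have hm : m ∈ Subalgebra.toSubmodule (Algebra.adjoin L (Set.range (algebraMap K₁ M))) := by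
        rw [hadj]; exact trivial
      rw [Algebra.adjoin_eq_span] at hm
      refine Submodule.span_le.2 ?_ hm
      intro y hy
      have : y ∈ Set.range (algebraMap K₁ M) := by
        induction hy using Submonoid.closure_induction with
        | mem y hy => exact hy
        | one => exact ⟨1, map_one _⟩
        | mul a b _ _ ha hb =>
          obtain ⟨a, rfl⟩ := ha; obtain ⟨b, rfl⟩ := hb; exact ⟨a * b, map_mul _ _ _⟩
      obtain ⟨z, rfl⟩ := this
      exact hfN z
    let bas : Module.Basis (Fin e) L M := Module.Basis.mk hli hN.ge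
    refine ⟨(Module.finrank_eq_card_basis bas).trans (Fintype.card_fin e), ?_⟩
    letI : Algebra (W.comap f) W := (EtRam.inclOfComap W f).toAlgebra
    refine le_antisymm ?_ ?_
    · rw [Ideal.map_le_iff_le_comap]
      intro x hx
      rw [Ideal.mem_comap, IsLocalRing.mem_maximalIdeal]
      exact fun h => (IsLocalRing.mem_maximalIdeal x).1 hx ((EtRam.isLocalHom_inclOfComap W f).map_nonunit x h)
    · intro x hx
      have hx1 : v (x : M) < 1 := (W.valuation_lt_one_iff x).mp hx
      have hxg : v (x : M) ≤ g := by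
        have hrep : (x : M) = ∑ l, j (bas.repr (x : M) l) * f ϖ ^ (l : ℕ) := by
          conv_lhs => rw [← bas.sum_repr (x : M)]
          simp [bas, Algebra.smul_def, j]
        by_cases h0 : ∀ i, bas.repr (x : M) i = 0
        · rw [hrep]; simp [h0]
        push Not at h0
        obtain ⟨i, hi⟩ := h0
        obtain ⟨k, hk, -, hk'⟩ := hsum (fun l => bas.repr (x : M) l) i hi
        rw [hrep, hk'] at hx1 ⊢
        obtain ⟨m, hm⟩ := hc _ hk
        rw [map_mul, map_pow, hm, ← zpow_natCast, ← zpow_add₀ hg0.ne'] at hx1 ⊢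
        rw [← zpow_zero g] at hx1
        have := (zpow_right_strictAnti₀ hg0 hg1).lt_iff_gt.mp hx1
        refine le_trans ((zpow_right_strictAnti₀ hg0 hg1).antitone (show (1 : ℤ) ≤ _ by omega)) (zpow_one g).le
      have hy : (x : M) / f ϖ ∈ W := (W.valuation_le_one_iff _).mp (by
        rw [map_div₀, div_le_one₀ hg0]; exact hxg)
      have hϖW : ϖ ∈ W.comap f := by rw [hCW]; exact (V.valuation_le_one_iff _).mp hϖ.le
      have : x = algebraMap (W.comap f) W ⟨ϖ, hϖW⟩ * ⟨(x : M) / f ϖ, hy⟩ := Subtype.ext (by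
        show (x : M) = f ϖ * ((x : M) / f ϖ)
        rw [mul_div_cancel₀ _ ((map_ne_zero_iff _ f.injective).mpr hϖ0)])
      rw [this]
      refine Ideal.mul_mem_right _ _ (Ideal.mem_map_of_mem _ ?_)
      rw [IsLocalRing.mem_maximalIdeal]
      intro h
      have h1 := (EtRam.isLocalHom_inclOfComap W f)
      have h2 := ((W.valuation_eq_one_iff (algebraMap (W.comap f) W ⟨ϖ, hϖW⟩)).mp (h.map _))
      exact hg1.ne h2
  refine ⟨?_, fun M _ _ _ _ _ _ hadj W hW => (core M hadj W hW).2⟩
  haveI : Nontrivial (L ⊗[K] K₁) :=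
    Module.nontrivial_of_finrank_pos (R := L) (by rw [Module.finrank_baseChange]; exact Module.finrank_pos)
  obtain ⟨I, hI⟩ := Ideal.exists_maximal (L ⊗[K] K₁)
  letI := Ideal.Quotient.field I
  let M := (L ⊗[K] K₁) ⧸ I
  let q : L ⊗[K] K₁ →ₐ[L] M := Ideal.Quotient.mkₐ L I
  letI : Algebra K₁ M := ((Ideal.Quotient.mk I).comp Algebra.TensorProduct.includeRight.toRingHom).toAlgebra
  haveI : IsScalarTower K K₁ M := IsScalarTower.of_algebraMap_eq fun k => by
    change Ideal.Quotient.mk I (algebraMap K (L ⊗[K] K₁) k) = Ideal.Quotient.mk I (Algebra.TensorProduct.includeRight (algebraMap K K₁ k))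
    rw [AlgHom.commutes]
  have hadj : Algebra.adjoin L (Set.range (algebraMap K₁ M)) = ⊤ := by
    rw [eq_top_iff]
    intro m _
    obtain ⟨t, rfl⟩ := Ideal.Quotient.mk_surjective m
    induction t using TensorProduct.induction_on with
    | zero => rw [map_zero]; exact zero_mem _
    | add a b ha hb => rw [map_add]; exact add_mem (ha trivial) (hb trivial)
    | tmul l k =>
      have : Ideal.Quotient.mk I (l ⊗ₜ[K] k) = l • algebraMap K₁ M k := by
        change _ = Ideal.Quotient.mk I (l • ((1 : L) ⊗ₜ[K] k))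
        rw [TensorProduct.smul_tmul', smul_eq_mul, mul_one]
      rw [this]
      exact Subalgebra.smul_mem _ (Algebra.subset_adjoin (show algebraMap K₁ M k ∈ Set.range (algebraMap K₁ M) from ⟨k, rfl⟩)) l
  let jB := (algebraMap L M).comp (algebraMap B L)
  have hjB : Function.Injective jB := (algebraMap L M).injective.comp (IsFractionRing.injective B L)
  let eB : B ≃+* jB.range := RingEquiv.ofBijective jB.rangeRestrict
    ⟨fun a b h => hjB (congrArg Subtype.val h), jB.rangeRestrict_surjective⟩
  obtain ⟨W, hW1, hW2⟩ := Ideal.image_subset_nonunits_valuationSubring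
    ((IsLocalRing.maximalIdeal B).map eB.toRingHom) (by
      intro h
      have h' := congrArg (Ideal.comap eB.toRingHom) h
      rw [Ideal.comap_map_of_bijective eB.toRingHom eB.bijective, Ideal.comap_top] at h'
      exact (IsLocalRing.maximalIdeal.isMaximal B).ne_top h')
  have hW : EtRam.Dominates B jB W := ⟨fun b => hW1 ⟨b, rfl⟩, fun b hb => by
    have := hW2 ⟨eB b, Ideal.mem_map_of_mem _ hb, rfl⟩
    exact W.mem_nonunits_iff.1 this⟩
  have hdim := (core M hadj W hW).1
  have hle : Module.finrank L (L ⊗[K] K₁) ≤ Module.finrank L M := by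
    rw [hdim, Module.finrank_baseChange]
    have := finrank_range_le_card (R := K) (fun i : Fin e => ϖ ^ (i : ℕ))
    rwa [Set.finrank, hspan, finrank_top, Fintype.card_fin] at this
  have hq : Function.Surjective q.toLinearMap := Ideal.Quotient.mkₐ_surjective L I
  have hinj' : Function.Injective q.toLinearMap := by
    have heq := le_antisymm hle (q.toLinearMap.finrank_le_finrank_of_surjective hq)
    exact (LinearMap.injective_iff_surjective_of_finrank_eq_finrank heq).mpr hq
  exact (RingEquiv.ofBijective q.toRingHom ⟨hinj', hq⟩).toMulEquiv.isField (Field.toIsField M)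

end Groth.Agent.S1984
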