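import Groth.Statements.S19840
import Groth.Agent.DualLib.RelTop.FlatPull

set_option autoImplicit false
universe u
open QGor

namespace Groth.Agent.S19840

set_option backward.isDefEq.respectTransparency false
open scoped TensorProduct

open CategoryTheory AlgebraicGeometry in
/-- Let Y → Spec A be a proper S₂-morphism to a Noetherian affine base, of pure relative dimension d,
whose fibres are Gorenstein in codimension one and ℚ-Gorenstein (w.r.t. their canonical sheaves),
with relative canonical sheaf ω (characterised by the d-dualizing property over A); let A → B be a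
ring map to a Noetherian ring with Spec B → Spec A flat and surjective, Y' → Y a cartesian square
over it with projection p, and ω' the relative canonical sheaf of Y' over B (a module with the
d-dualizing property over B). (2) If the base change is naively ℚ-Gorenstein (some ω'^{[r]}, r > 0,
invertible at each point of Y') then so is Y → Spec A. (6) If every ω'^{[m]}, m ∈ ℤ, satisfies
relative S₂ over Spec B, then every ω^{[m]} satisfies relative S₂ over Spec A. -/
theorem result
    (A : Type u) [CommRing A] [IsNoetherianRing A] (Y : Scheme.{u}) [Y.Over (Spec (CommRingCat.of A))]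
    [IsProper (Y ↘ Spec (CommRingCat.of A))] (d : ℕ)
    (hS : RelCanon.IsSkMor (Y ↘ Spec (CommRingCat.of A)) 2) (hd : Cyc.HasRelDim (Y ↘ Spec (CommRingCat.of A)) d)
    (ω : Y.Modules) (hω : RelCanon.IsDualizingSheaf A Y d ω)
    (hG : ∀ y : Y, y ∉ RelCanon.gorLocus (Y ↘ Spec (CommRingCat.of A)) →
      (2 : WithBot ℕ∞) ≤ ringKrullDim (((Y ↘ Spec (CommRingCat.of A)).fiber ((Y ↘ Spec (CommRingCat.of A)) y)).presheaf.stalk ((Y ↘ Spec (CommRingCat.of A)).asFiber y)))
    (hQf : ∀ (t : (Spec (CommRingCat.of A))) (ωt : ((Y ↘ Spec (CommRingCat.of A)).fiber t).Modules), @RelCanon.IsDualizingSheaf ((Spec (CommRingCat.of A)).residueField t) _ ((Y ↘ Spec (CommRingCat.of A)).fiber t) ⟨(Y ↘ Spec (CommRingCat.of A)).fiberToSpecResidueField t⟩ d ωt → RelCanon.IsQGorWith ωt)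
    (B : Type u) [CommRing B] [IsNoetherianRing B] (φ : A →+* B)
    [Flat (Spec.map (CommRingCat.ofHom φ))] [Surjective (Spec.map (CommRingCat.ofHom φ))]
    (Y' : Scheme.{u}) [Y'.Over (Spec (CommRingCat.of B))] (p : Y' ⟶ Y)
    (hp : IsPullback p (Y' ↘ Spec (CommRingCat.of B)) (Y ↘ Spec (CommRingCat.of A)) (Spec.map (CommRingCat.ofHom φ)))
    (ω' : Y'.Modules) (hω' : RelCanon.IsDualizingSheaf B Y' d ω') :
    (RelCanon.IsQGorWith ω' → RelCanon.IsQGorWith ω) ∧
    (RelCanon.IsQGorMorWith (Y' ↘ Spec (CommRingCat.of B)) ω' → RelCanon.IsQGorMorWith (Y ↘ Spec (CommRingCat.of A)) ω) := by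
  haveI : ∀ (U V : Scheme.{u}) (j : U ⟶ V) [IsOpenImmersion j],
      Limits.PreservesFiniteLimits (Scheme.Modules.restrictFunctor j) := fun U V j _ =>
    DCat.PullPerf.preservesFiniteLimits_restrict j
  let f := Y ↘ Spec (CommRingCat.of A)
  let f' := Y' ↘ Spec (CommRingCat.of B)
  let h := Spec.map (CommRingCat.ofHom φ)
  haveI : Flat f := hS.1
  haveI : IsNoetherianRing (CommRingCat.of A) := ‹IsNoetherianRing A›
  haveI : IsNoetherianRing (CommRingCat.of B) := ‹IsNoetherianRing B›
  haveI : IsLocallyNoetherian Y := LocallyOfFiniteType.isLocallyNoetherian f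
  haveI : IsProper f' := MorphismProperty.of_isPullback hp ‹IsProper f›
  haveI : IsLocallyNoetherian Y' := LocallyOfFiniteType.isLocallyNoetherian f'
  haveI : Flat p := MorphismProperty.of_isPullback hp.flip ‹Flat h›
  haveI : Surjective p := MorphismProperty.of_isPullback hp.flip ‹Surjective h›
  have hφ : φ.Flat := (HasRingHomProperty.Spec_iff (P := @Flat)).1 ‹Flat h›
  obtain ⟨hωc, -⟩ := DualLib.RelTop.isCoh_and_two_le_depth (A := A) (Y := Y) d hd ω hω
  obtain ⟨hopen, hinv⟩ := DualLib.RelTop.gor_open_and_invertible A Y d hd ω hω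
  let Yo : Y.Opens := ⟨RelCanon.gorLocus f, hopen⟩
  have hinv' : ∀ x : Y, x ∈ Yo → RelCanon.InvertibleAt ω x := fun x hx => hinv x hx
  obtain ⟨eω⟩ := DualLib.RelTop.nonempty_iso_of_isDualizingSheaf
    (DualLib.RelTop.isDualizingSheaf_pullback A Y d (fun y => DualLib.RelTop.fibre_dim_le f d hd y) ω hω B φ hφ Y' p hp)
    hω'
  have hpω : Coh.IsCoh ((Scheme.Modules.pullback p).obj ω) :=
    ⟨haveI := hωc.1; EGA43.InjFibre.isQCoh_pullback p ω, Coherent.isFT_pullback_qcoh p hωc.1 hωc.2⟩
  have hω'c : Coh.IsCoh ω' := Coherent.isCoh_of_iso eω hpω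
  have hdep : ∀ x : Y, x ∉ Yo → (2 : ℕ∞) ≤ _root_.LocCoh.depth (Y.presheaf.stalk x) (Y.presheaf.stalk x) :=
    fun x hx => QG15.two_le_depth_of_isSkMor hS x (hG x hx)
  let U' := p ⁻¹ᵁ Yo
  let eU := (Scheme.Modules.restrictFunctor U'.ι).mapIso eω
  have hpow : ∀ (L : Y.Modules) (Lt : Y'.Modules), Coh.IsCoh L → Coh.IsCoh Lt →
      (∀ x : Y, x ∈ Yo → RelCanon.InvertibleAt L x) →
      Nonempty (((Scheme.Modules.pullback p).obj L).restrict U'.ι ≅ Lt.restrict U'.ι) → ∀ (n : ℕ) (y : Y'),
      Nonempty (((Scheme.Modules.pullback p).obj (RefHull.ddual (CohB1.tensorPow L n))).presheaf.stalk y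
        ≃ₗ[Y'.presheaf.stalk y] (RefHull.ddual (CohB1.tensorPow Lt n)).presheaf.stalk y) :=
    fun L Lt hL hLt hLi he n y => he.elim fun e =>
      DualLib.RelTop.nonempty_pull_pow_stalk p Yo hL hLi hLt e n y fun x _ hx => hdep x hx
  constructor
  · intro h1 y
    obtain ⟨y', rfl⟩ := p.surjective y
    obtain ⟨r, hr, hi⟩ := h1 y'
    refine ⟨r, hr, ?_⟩
    obtain ⟨a⟩ := hpow ω ω' hωc hω'c hinv' ⟨eU⟩ r y'
    obtain ⟨b⟩ := DualLib.RelTop.exists_stalk_equiv_of_invertibleAt hi
    let R := Y.presheaf.stalk (p y')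
    let S := Y'.presheaf.stalk y'
    letI : Algebra R S := (p.stalkMap y').hom.toAlgebra
    haveI : IsLocalHom (algebraMap R S) := inferInstanceAs (IsLocalHom (p.stalkMap y').hom)
    haveI : Module.Flat R S := Flat.stalkMap p y'
    haveI : Module.FaithfullyFlat R S := Module.FaithfullyFlat.of_flat_of_isLocalHom
    let G := RelCanon.refPowZ ω r
    have hGc : Coh.IsCoh G := DualLib.RelTop.isCoh_refPowNat hωc r
    let M := G.presheaf.stalk (p y')
    let eP : ((Scheme.Modules.pullback p).obj G).presheaf.stalk y' ≃ₗ[S] S ⊗[R] M :=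
      ((ModStalk.pullbackStalkIso p y').app G).toLinearEquiv
    let c : S ⊗[R] M ≃ₗ[S] S := eP.symm.trans (a.trans b)
    haveI : Module.Finite R M := AssSch12.finite_stalk hGc (p y')
    haveI : Module.Flat R (S ⊗[R] M) := Module.Flat.of_linearEquiv (c.restrictScalars R)
    haveI : Module.Flat R M := (Props12.flat_tensor_iff_of_faithfullyFlat (K := R) (A := R) (B := S) M).1 ‹_›
    haveI : Module.Free R M := Module.free_of_flat_of_isLocalRing
    have hr1 : Module.finrank R M = 1 := by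
      rw [← Module.finrank_baseChange (R := S) (S := R) (M' := M), LinearEquiv.finrank_eq c, Module.finrank_self]
    exact DualLib.RelTop.invertibleAt_of_stalk_equiv hGc (p y')
      ((Module.finBasisOfFinrankEq R M hr1).equivFun.trans (LinearEquiv.funUnique (Fin 1) R R))
  · intro h6 m y
    obtain ⟨y', rfl⟩ := p.surjective y
    have main : ∀ (L : Y.Modules) (Lt : Y'.Modules), Coh.IsCoh L → Coh.IsCoh Lt →
        (∀ x : Y, x ∈ Yo → RelCanon.InvertibleAt L x) →
        Nonempty (((Scheme.Modules.pullback p).obj L).restrict U'.ι ≅ Lt.restrict U'.ι) → ∀ n : ℕ,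
        RelCanon.RelSkAt f' 2 (RefHull.ddual (CohB1.tensorPow Lt n)) y' →
        RelCanon.RelSkAt f 2 (RefHull.ddual (CohB1.tensorPow L n)) (p y') := by
      intro L Lt hL hLt hLi he n hs
      obtain ⟨a⟩ := hpow L Lt hL hLt hLi he n (f'.fiberι (f' y') (f'.asFiber y'))
      refine DualLib.RelTop.relSkAt_descend p f f' h hp (DualLib.RelTop.isCoh_refPowNat hL n) 2 y' ?_
      obtain ⟨hfl, hsk⟩ := hs
      obtain ⟨hfl', hsk'⟩ := DualLib.RelTop.relSkAt_of_stalk_equiv f' (f' y') (f'.asFiber y') a.symm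
        ((f'.fiberι_asFiber y').symm ▸ hfl) hsk
      exact ⟨(f'.fiberι_asFiber y') ▸ hfl', hsk'⟩
    rcases m with n | n
    · exact main ω ω' hωc hω'c hinv' ⟨eU⟩ n (h6 (Int.ofNat n) y')
    · refine main (RefHull.dual ω) (RefHull.dual ω') (RefHullLib.isCoh_dual hωc (Coherent.isCoh_structureModule Y))
        (RefHullLib.isCoh_dual hω'c (Coherent.isCoh_structureModule Y'))
        (fun x hx => DualLib.RelTop.invertibleAt_dual hωc x (hinv' x hx)) ?_ (n + 1) (h6 (Int.negSucc n) y')
      obtain ⟨a⟩ := DualLib.RelTop.nonempty_pull_dual_on p Yo ω hinv'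
      obtain ⟨e⟩ := DualLib.RelTop.nonempty_dual_iso eω
      exact ⟨a ≪≫ (Scheme.Modules.restrictFunctor U'.ι).mapIso e⟩

end Groth.Agent.S19840
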