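import Groth.Statements.S19842
import Groth.Agent.DualLib.RelTop.ArtCrit

set_option autoImplicit false
universe u
open QGor

namespace Groth.Agent.S19842

  set_option backward.isDefEq.respectTransparency false
open CategoryTheory.Limits TopologicalSpace IsLocalRing

open CategoryTheory AlgebraicGeometry in
/-- (iii) ⇔ (iv): in the same situation — Y → Spec A a proper S₂-morphism to a Noetherian affine base,
of pure relative dimension d, fibres Gorenstein in codimension one, relative canonical sheaf ω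
characterised by the d-dualizing property over A, a point y over t with Y_t ℚ-Gorenstein at y
(w.r.t. its canonical sheaf), m > 0 —, the reflexive power ω^{[m]} is invertible at y if and only if
for every Artinian local ring A', every surjective ring map from the local ring A_t onto A', every
cartesian square Y' → Y over Spec A' → Spec A with projection p, every module ω' with the
d-dualizing property for Y' over A' and every point y' of Y' mapping to y, ω'^{[m]} is invertible at
y'. -/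
theorem result
    (A : Type u) [CommRing A] [IsNoetherianRing A] (Y : Scheme.{u}) [Y.Over (Spec (CommRingCat.of A))]
    [IsProper (Y ↘ Spec (CommRingCat.of A))] (d : ℕ)
    (hS : RelCanon.IsSkMor (Y ↘ Spec (CommRingCat.of A)) 2) (hd : Cyc.HasRelDim (Y ↘ Spec (CommRingCat.of A)) d)
    (ω : Y.Modules) (hω : RelCanon.IsDualizingSheaf A Y d ω)
    (hG : ∀ y : Y, y ∉ RelCanon.gorLocus (Y ↘ Spec (CommRingCat.of A)) →
      (2 : WithBot ℕ∞) ≤ ringKrullDim (((Y ↘ Spec (CommRingCat.of A)).fiber ((Y ↘ Spec (CommRingCat.of A)) y)).presheaf.stalk ((Y ↘ Spec (CommRingCat.of A)).asFiber y)))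
    (y : Y) (t : (Spec (CommRingCat.of A))) (ht : (Y ↘ Spec (CommRingCat.of A)) y = t)
    (hQy : ∀ ωt : ((Y ↘ Spec (CommRingCat.of A)).fiber ((Y ↘ Spec (CommRingCat.of A)) y)).Modules, @RelCanon.IsDualizingSheaf ((Spec (CommRingCat.of A)).residueField ((Y ↘ Spec (CommRingCat.of A)) y)) _ ((Y ↘ Spec (CommRingCat.of A)).fiber ((Y ↘ Spec (CommRingCat.of A)) y)) ⟨(Y ↘ Spec (CommRingCat.of A)).fiberToSpecResidueField ((Y ↘ Spec (CommRingCat.of A)) y)⟩ d ωt → RelCanon.IsQGorWithAt ωt ((Y ↘ Spec (CommRingCat.of A)).asFiber y))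
    (m : ℕ) (hm : 0 < m) :
    RelCanon.InvertibleAt (RelCanon.refPowZ ω m) y ↔
    ∀ (A' : Type u) [CommRing A'] [IsArtinianRing A'] [IsLocalRing A']
      (ψ : Localization.AtPrime t.asIdeal →+* A') (hψ : Function.Surjective ψ)
      (Y' : Scheme.{u}) [Y'.Over (Spec (CommRingCat.of A'))] (p : Y' ⟶ Y)
      (hp : IsPullback p (Y' ↘ Spec (CommRingCat.of A')) (Y ↘ Spec (CommRingCat.of A))
        (Spec.map (CommRingCat.ofHom (ψ.comp (algebraMap A (Localization.AtPrime t.asIdeal))))))
      (ω' : Y'.Modules) (hω' : RelCanon.IsDualizingSheaf A' Y' d ω') (y' : Y') (hy' : p y' = y),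
      RelCanon.InvertibleAt (RelCanon.refPowZ ω' m) y' := by
  haveI : ∀ (U V : Scheme.{u}) (j : U ⟶ V) [IsOpenImmersion j],
      Limits.PreservesFiniteLimits (Scheme.Modules.restrictFunctor j) := fun U V j _ =>
    DCat.PullPerf.preservesFiniteLimits_restrict j
  subst ht
  let f := Y ↘ Spec (CommRingCat.of A)
  haveI : Flat f := hS.1
  haveI : IsNoetherianRing (CommRingCat.of A) := ‹IsNoetherianRing A›
  haveI : IsLocallyNoetherian Y := LocallyOfFiniteType.isLocallyNoetherian f
  obtain ⟨hopen, -⟩ := DualLib.RelTop.gor_open_and_invertible A Y d hd ω hω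
  let Yo : Y.Opens := ⟨RelCanon.gorLocus f, hopen⟩
  constructor
  · intro hF A' _ _ _ ψ hψ Y' _ p hp ω' hω' y' hy'
    haveI := DualLib.RelTop.isPreimmersion_of_surjective _ ψ hψ
    have ht' := DualLib.RelTop.apply_eq_point _ ψ hψ
    haveI : IsProper (Y' ↘ Spec (CommRingCat.of A')) := MorphismProperty.of_isPullback hp ‹IsProper f›
    haveI : IsNoetherianRing (CommRingCat.of A') := inferInstanceAs (IsNoetherianRing A')
    haveI : IsLocallyNoetherian Y' := LocallyOfFiniteType.isLocallyNoetherian (Y' ↘ Spec (CommRingCat.of A'))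
    obtain ⟨hωc, -⟩ := DualLib.RelTop.isCoh_and_two_le_depth (A := A) (Y := Y) d hd ω hω
    have hω'c := DualLib.RelTop.isCoh_baseChange_dualizing (A := A) (A' := A') p (ψ.comp (algebraMap A _)) hp _ ht' d hS
      hd ω hω ω' hω' Yo subset_rfl
    obtain ⟨⟨e⟩, -, -⟩ := DualLib.RelTop.nonempty_pull_refPow_on (A := A) (A' := A') p (ψ.comp (algebraMap A _)) hp _
      ht' d hS hd ω hω ω' hω' Yo subset_rfl m
    let F := RelCanon.refPowZ ω m
    have hFc : Coh.IsCoh F := DualLib.RelTop.isCoh_refPowNat hωc m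
    have hPc : Coh.IsCoh ((Scheme.Modules.pullback p).obj F) :=
      ⟨haveI := hFc.1; EGA43.InjFibre.isQCoh_pullback p F, Coherent.isFT_pullback_qcoh p hFc.1 hFc.2⟩
    obtain ⟨W, hyW, ⟨eW⟩⟩ := hF
    obtain ⟨eW'⟩ := DualLib.RelTop.nonempty_pull_restrict p W (M := F) (N := Coh.structureModule Y)
      (eW ≪≫ (Scheme.Modules.restrictUnitIso W.ι).symm)
    have hP : ∀ v : Y', v ∈ p ⁻¹ᵁ W → RelCanon.InvertibleAt ((Scheme.Modules.pullback p).obj F) v := fun v hv =>
      ⟨p ⁻¹ᵁ W, hv, ⟨eW' ≪≫ (Scheme.Modules.restrictFunctor (p ⁻¹ᵁ W).ι).mapIso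
        (PicLoc.pullbackStructureIso p) ≪≫ Scheme.Modules.restrictUnitIso _⟩⟩
    have hy'W : y' ∈ p ⁻¹ᵁ W := show p y' ∈ W from hy'.symm ▸ hyW
    have hdep : ∀ v : Y', v ⤳ y' → v ∉ p ⁻¹ᵁ Yo →
        (2 : ℕ∞) ≤ _root_.LocCoh.depth (Y'.presheaf.stalk v) (Y'.presheaf.stalk v) := fun v _ hv =>
      DualLib.RelTop.two_le_depth_baseChange f _ p (ψ.comp (algebraMap A _)) hp _ ht' hS Yo
        (fun x _ hx => hG x hx) v hv
    have hT' : Coh.IsCoh (RefHull.dual (CohB1.tensorPow ω' m)) :=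
      RefHullLib.isCoh_dual (DualLib.RelTop.isCoh_tensorPow hω'c m) (Coherent.isCoh_structureModule Y')
    obtain ⟨a⟩ := DualLib.RelTop.nonempty_stalk_equiv_of_restrict hPc (DualLib.RelTop.isCoh_refPowNat hω'c m) _ e y'
      (fun v hv hvo => by
        obtain ⟨c⟩ := DualLib.RelTop.exists_stalk_equiv_of_invertibleAt (hP v (hv.mem_open (p ⁻¹ᵁ W).isOpen hy'W))
        rw [CAlgH3.depth_congr c]
        exact hdep v hv hvo)
      (fun v hv hvo => DualLib.RelTop.two_le_depth_dual hT' v (hdep v hv hvo))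
    obtain ⟨b⟩ := DualLib.RelTop.exists_stalk_equiv_of_invertibleAt (hP y' hy'W)
    exact DualLib.RelTop.invertibleAt_of_stalk_equiv (DualLib.RelTop.isCoh_refPowNat hω'c m) y' (a.symm.trans b)
  · intro H
    exact DualLib.RelTop.invertibleAt_refPow_of_levels Y d hS hd ω hω Yo subset_rfl y (fun x _ hx => hG x hx) m
      fun A' _ _ _ ψ hψ Y' _ p hp ω' hω' y' hy' => H A' ψ hψ Y' p hp ω' hω' y' hy'

end Groth.Agent.S19842
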