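import Groth.Statements.S19843
import Groth.Agent.S19839
import Groth.Agent.DualLib.RelTop.DualDVR

set_option autoImplicit false
universe u
open QGor

namespace Groth.Agent.S19843

  set_option backward.isDefEq.respectTransparency false
open CategoryTheory CategoryTheory.Limits AlgebraicGeometry Groth.Agent Groth.Agent.DualLib.RelTop

set_option linter.style.haveILetI false
set_option maxHeartbeats 800000
/-- Existence of the dualizing sheaf of a base change. -/
theorem exists_baseChange_dualizing (A : Type u) [CommRing A] [IsNoetherianRing A] (Y : Scheme.{u})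
    [Y.Over (Spec (CommRingCat.of A))] [IsProper (Y ↘ Spec (CommRingCat.of A))] (d : ℕ)
    (hd : Cyc.HasRelDim (Y ↘ Spec (CommRingCat.of A)) d) (B : Type u) [CommRing B] [IsNoetherianRing B]
    (Y' : Scheme.{u}) [Y'.Over (Spec (CommRingCat.of B))] (p : Y' ⟶ Y) (h : Spec (CommRingCat.of B) ⟶ Spec (CommRingCat.of A))
    (hsq : IsPullback p (Y' ↘ Spec (CommRingCat.of B)) (Y ↘ Spec (CommRingCat.of A)) h) :
    ∃ ω' : Y'.Modules, RelCanon.IsDualizingSheaf B Y' d ω' := by
  haveI : ∀ (U V : Scheme.{u}) (j : U ⟶ V) [IsOpenImmersion j],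
      PreservesFiniteLimits (Scheme.Modules.restrictFunctor j) := fun U V j _ =>
    DCat.PullPerf.preservesFiniteLimits_restrict j
  let f := Y ↘ Spec (CommRingCat.of A)
  let T' := Spec (CommRingCat.of B)
  let f' := Y' ↘ T'
  haveI : IsProper f' := MorphismProperty.of_isPullback hsq ‹_›
  haveI : IsProper (Y' ↘ T') := ‹IsProper f'›
  haveI : IsNoetherianRing (CommRingCat.of B) := ‹IsNoetherianRing B›
  haveI : IsNoetherian T' := {}
  haveI : IsLocallyNoetherian Y' := LocallyOfFiniteType.isLocallyNoetherian f'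
  haveI : CompactSpace Y' := QuasiCompact.compactSpace_of_compactSpace f'
  haveI : QuasiSeparatedSpace Y' := quasiSeparatedSpace_of_quasiSeparated f'
  haveI : ∀ (S : CommRingCat.{u}), PreservesFiniteLimits (tilde.functor S) :=
    Groth.Agent.AffSchLib.preservesFiniteLimits_tilde
  haveI := DCat.hasRpush f'
  haveI : DCoh.HasRpush (Y' ↘ T') := DCat.hasRpush _
  have hf' : DCoh.RpushPreservesQCoh f' := fun K hK => DQCoh.isQCohD_Rpush f' K hK
  haveI := Dual22Lib.AdjGeom.isLeftAdjoint_RpushQ f' hf'
  let a' := (DCoh.RpushQ f' hf').rightAdjoint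
  let adj' : DCoh.RpushQ f' hf' ⊣ a' := Adjunction.ofIsLeftAdjoint _
  haveI : Coh.IsQCoh (Coh.structureModule T') := Coherent.isQCoh_structureModule
  let O' : DCoh.DQCoh T' := ⟨DCoh.inD T' (Coh.structureModule T'), FlatBC14.isQCohD_inD _⟩
  have hfib' : ∀ y, topologicalKrullDim ((Y' ↘ T').fiber y) ≤ (d : WithBot ℕ∞) := fun y =>
    (Coherent.CohBC.topologicalKrullDim_fiber_of_isPullback hsq y).le.trans (fibre_dim_le f d hd _)
  obtain ⟨hdual', -⟩ := isDualizingSheaf_HD (A := B) (X := Y') hfib' hf' a' adj' O' ⟨Iso.refl _⟩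
  exact ⟨_, hdual'⟩

open CategoryTheory AlgebraicGeometry in
/-- Let Y → Spec A be a proper S₂-morphism to a REDUCED Noetherian affine base, of pure relative
dimension d, with fibres Gorenstein in codimension one and relative canonical sheaf ω (characterised
by the d-dualizing property over A). Then all reflexive powers ω^{[m]}, m ∈ ℤ, satisfy relative S₂
over the base at every point if and only if, for every discrete valuation ring R, every ring map A →
R, every cartesian square Y' → Y over Spec R → Spec A and every module ω' with the d-dualizing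
property for Y' over R (its relative canonical sheaf), all ω'^{[m]} satisfy relative S₂ over Spec R
at every point of Y'. (The source's notion of ℚ-Gorenstein morphism also requires ℚ-Gorenstein
fibres; that clause is left out on both sides here, and the printed argument proves the equivalence
of the remaining conditions.) -/
theorem result
    (A : Type u) [CommRing A] [IsNoetherianRing A] (Y : Scheme.{u}) [Y.Over (Spec (CommRingCat.of A))]
    [IsProper (Y ↘ Spec (CommRingCat.of A))] (d : ℕ)
    (hS : RelCanon.IsSkMor (Y ↘ Spec (CommRingCat.of A)) 2) (hd : Cyc.HasRelDim (Y ↘ Spec (CommRingCat.of A)) d)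
    (ω : Y.Modules) (hω : RelCanon.IsDualizingSheaf A Y d ω)
    [_root_.IsReduced A]
    (hG : ∀ y : Y, y ∉ RelCanon.gorLocus (Y ↘ Spec (CommRingCat.of A)) →
      (2 : WithBot ℕ∞) ≤ ringKrullDim (((Y ↘ Spec (CommRingCat.of A)).fiber ((Y ↘ Spec (CommRingCat.of A)) y)).presheaf.stalk ((Y ↘ Spec (CommRingCat.of A)).asFiber y))) :
    RelCanon.IsQGorMorWith (Y ↘ Spec (CommRingCat.of A)) ω ↔
    ∀ (B : Type u) [CommRing B] [IsDomain B] [IsDiscreteValuationRing B] (φ : A →+* B)
      (Y' : Scheme.{u}) [Y'.Over (Spec (CommRingCat.of B))] (p : Y' ⟶ Y)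
      (hp : IsPullback p (Y' ↘ Spec (CommRingCat.of B)) (Y ↘ Spec (CommRingCat.of A)) (Spec.map (CommRingCat.ofHom φ)))
      (ω' : Y'.Modules) (hω' : RelCanon.IsDualizingSheaf B Y' d ω'),
      RelCanon.IsQGorMorWith (Y' ↘ Spec (CommRingCat.of B)) ω' := by
  haveI : ∀ (U V : Scheme.{u}) (j : U ⟶ V) [IsOpenImmersion j],
      PreservesFiniteLimits (Scheme.Modules.restrictFunctor j) := fun U V j _ =>
    DCat.PullPerf.preservesFiniteLimits_restrict j
  constructor
  · intro h B _ _ _ φ Y' _ p hp ω' hω'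
    exact ((Groth.Agent.S19839.result A Y d hS hd ω hω hG B φ Y' p hp ω' hω').2.2.2 h).1
  intro H
  let f := Y ↘ Spec (CommRingCat.of A)
  haveI : Flat f := hS.1
  haveI : IsNoetherianRing (CommRingCat.of A) := ‹IsNoetherianRing A›
  haveI : _root_.IsReduced (CommRingCat.of A) := ‹_root_.IsReduced A›
  haveI : IsLocallyNoetherian Y := LocallyOfFiniteType.isLocallyNoetherian f
  obtain ⟨hωc, -⟩ := isCoh_and_two_le_depth (A := A) (Y := Y) d hd ω hω
  obtain ⟨hopen, hinv⟩ := gor_open_and_invertible A Y d hd ω hω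
  let Yo : Y.Opens := ⟨RelCanon.gorLocus f, hopen⟩
  have hdim : ∀ x : Y, x ∉ Yo → (2 : WithBot ℕ∞) ≤ ringKrullDim ((f.fiber (f x)).presheaf.stalk (f.asFiber x)) :=
    fun x hx => hG x hx
  have hω1 := Coherent.isCoh_structureModule Y
  have key : ∀ (L : Y.Modules), Coh.IsCoh L → (∀ x : Y, x ∈ Yo → RelCanon.InvertibleAt L x) → ∀ (n : ℕ) (m : ℤ),
      RelCanon.refPowZ ω m = RefHull.ddual (CohB1.tensorPow L n) →
      RelCanon.RelSk f 2 (RefHull.ddual (CohB1.tensorPow L n)) := by
    intro L hL hLi n m hm y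
    have hT := isCoh_tensorPow hL n
    let D := RefHull.dual (CohB1.tensorPow L n)
    have hD : Coh.IsCoh D := RefHullLib.isCoh_dual hT hω1
    have hDi : ∀ x : Y, x ∈ Yo → RelCanon.InvertibleAt D x := fun x hx =>
      invertibleAt_dual hT x (invertibleAt_tensorPow Yo L hLi n x hx)
    refine relSkAt_dual_of_dvr f hS Yo hdim hD hDi y ?_
    intro V _ _ _ φ _ w _
    let h := EGA43.FlatBC.specTo f y φ
    let Y' := pullback f h
    let g := pullback.fst f h
    let f' := pullback.snd f h
    letI : Y'.Over (Spec (CommRingCat.of V)) := ⟨f'⟩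
    haveI : IsNoetherianRing (CommRingCat.of V) := inferInstanceAs (IsNoetherianRing V)
    haveI : LocallyOfFiniteType f' := MorphismProperty.pullback_snd _ _ inferInstance
    haveI : Flat f' := MorphismProperty.pullback_snd _ _ ‹Flat f›
    haveI : IsLocallyNoetherian Y' := LocallyOfFiniteType.isLocallyNoetherian f'
    have sq : IsPullback g f' f h := IsPullback.of_hasPullback _ _
    let ψ : A →+* V := (Spec.preimage h).hom
    have hψ : Spec.map (CommRingCat.ofHom ψ) = h := Spec.map_preimage h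
    have hp : IsPullback g (Y' ↘ Spec (CommRingCat.of V)) f (Spec.map (CommRingCat.ofHom ψ)) := by
      rw [hψ]
      exact sq
    obtain ⟨ω', hω'⟩ := exists_baseChange_dualizing A Y d hd V Y' g h sq
    obtain ⟨i⟩ := (Groth.Agent.S19824.result A Y d hS hd ω hω hG V ψ Y' g hp ω' hω' m).1
    have hsk := (H V ψ Y' g hp ω' hω' m w).2
    let U' := g ⁻¹ᵁ Yo
    let P := (Scheme.Modules.pullback g).obj (RefHull.dual D)
    have hDd : Coh.IsCoh (RefHull.dual D) := RefHullLib.isCoh_dual hD hω1
    have hP : Coh.IsCoh P :=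
      ⟨haveI := hDd.1; EGA43.InjFibre.isQCoh_pullback g _, Coherent.isFT_pullback_qcoh g hDd.1 hDd.2⟩
    have hD' : Coh.IsCoh ((Scheme.Modules.pullback g).obj D) :=
      ⟨haveI := hD.1; EGA43.InjFibre.isQCoh_pullback g D, Coherent.isFT_pullback_qcoh g hD.1 hD.2⟩
    have hPi : ∀ x : Y', x ∈ U' → RelCanon.InvertibleAt P x := fun x hx =>
      invertibleAt_pullback g x (invertibleAt_dual hD _ (hDi _ hx))
    have hO := two_le_depth_baseChange_arb g f f' h sq hS Yo hdim
    obtain ⟨e1⟩ := nonempty_pull_dual_on g Yo D hDi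
    obtain ⟨e2⟩ := nonempty_restrict_ddual U' hP hPi
    have hY1 := Coherent.isCoh_structureModule Y'
    have hPd : Coh.IsCoh (RefHull.dual P) := RefHullLib.isCoh_dual hP hY1
    obtain ⟨e3⟩ := nonempty_iso_of_extends
      (extends_of_depth _ (RefHullLib.isCoh_dual hD' hY1) U' fun x hx => two_le_depth_dual hD' x (hO x hx))
      (extends_of_depth _ (RefHullLib.isCoh_dual hPd hY1) U' fun x hx => two_le_depth_dual hPd x (hO x hx))
      (e1.symm ≪≫ e2)
    let i' : RefHull.ddual P ≅ RelCanon.refPowZ ω' m :=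
      eqToIso (by show RefHull.ddual P = RefHull.ddual _; rw [hm]) ≪≫ i
    let ι := f'.fiberι (f' w)
    exact (EGA43.FibDepth.hasSk_congr
      ((DerSch.stalkFunctor (f'.fiber (f' w)) (f'.asFiber w)).mapIso
        ((Scheme.Modules.pullback ι).mapIso (e3 ≪≫ i'))).toLinearEquiv 2).2 hsk
  intro m
  rcases m with n | n
  · exact key ω hωc (fun x hx => hinv x hx) n (Int.ofNat n) rfl
  · exact key (RefHull.dual ω) (RefHullLib.isCoh_dual hωc hω1)
      (fun x hx => invertibleAt_dual hωc x (hinv x hx)) (n + 1) (Int.negSucc n) rfl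

end Groth.Agent.S19843
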