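import Groth.Statements.S19844
import Groth.Agent.DualLib.RelTop.LiftPow

set_option autoImplicit false
universe u
open QGor

namespace Groth.Agent.S19844

set_option backward.isDefEq.respectTransparency false

open CategoryTheory AlgebraicGeometry in
/-- Let Y → Spec A be a proper S₂-morphism to a Noetherian affine base, of pure relative dimension d,
with fibres Gorenstein in codimension one and relative canonical sheaf ω (characterised by the
d-dualizing property over A); let t be a point of Spec A and ω_t a d-dualizing module on the fibre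
Y_t over κ(t) (the canonical sheaf of the fibre). Assume (i) Y_t is ℚ-Gorenstein: some ω_t^{[r]}, r
> 0, is invertible at each point; (ii) Y_t is Gorenstein in codimension two: at every point of Y_t
outside the relative Gorenstein locus the local ring of Y_t has dimension ≥ 3; (iii) every
ω_t^{[m]}, m ∈ ℤ, satisfies S₃ at every point of Y_t. Then for every m ∈ ℤ the reflexive power
ω^{[m]} satisfies relative S₂ over the base at every point of Y_t. -/
theorem result
    (A : Type u) [CommRing A] [IsNoetherianRing A] (Y : Scheme.{u}) [Y.Over (Spec (CommRingCat.of A))]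
    [IsProper (Y ↘ Spec (CommRingCat.of A))] (d : ℕ)
    (hS : RelCanon.IsSkMor (Y ↘ Spec (CommRingCat.of A)) 2) (hd : Cyc.HasRelDim (Y ↘ Spec (CommRingCat.of A)) d)
    (ω : Y.Modules) (hω : RelCanon.IsDualizingSheaf A Y d ω)
    (hG : ∀ y : Y, y ∉ RelCanon.gorLocus (Y ↘ Spec (CommRingCat.of A)) →
      (2 : WithBot ℕ∞) ≤ ringKrullDim (((Y ↘ Spec (CommRingCat.of A)).fiber ((Y ↘ Spec (CommRingCat.of A)) y)).presheaf.stalk ((Y ↘ Spec (CommRingCat.of A)).asFiber y)))
    (t : (Spec (CommRingCat.of A))) (ωt : ((Y ↘ Spec (CommRingCat.of A)).fiber t).Modules) (hωt : @RelCanon.IsDualizingSheaf ((Spec (CommRingCat.of A)).residueField t) _ ((Y ↘ Spec (CommRingCat.of A)).fiber t) ⟨(Y ↘ Spec (CommRingCat.of A)).fiberToSpecResidueField t⟩ d ωt)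
    (h1 : RelCanon.IsQGorWith ωt)
    (h2 : ∀ y : Y, (Y ↘ Spec (CommRingCat.of A)) y = t → y ∉ RelCanon.gorLocus (Y ↘ Spec (CommRingCat.of A)) → (3 : WithBot ℕ∞) ≤ ringKrullDim (((Y ↘ Spec (CommRingCat.of A)).fiber ((Y ↘ Spec (CommRingCat.of A)) y)).presheaf.stalk ((Y ↘ Spec (CommRingCat.of A)).asFiber y)))
    (h3 : ∀ m : ℤ, RelCanon.HasSk 3 (RelCanon.refPowZ ωt m)) :
    ∀ m : ℤ, ∀ y : Y, (Y ↘ Spec (CommRingCat.of A)) y = t → RelCanon.RelSkAt (Y ↘ Spec (CommRingCat.of A)) 2 (RelCanon.refPowZ ω m) y := by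
  haveI : ∀ (U V : Scheme.{u}) (j : U ⟶ V) [IsOpenImmersion j],
      Limits.PreservesFiniteLimits (Scheme.Modules.restrictFunctor j) := fun U V j _ =>
    DCat.PullPerf.preservesFiniteLimits_restrict j
  intro m y hy
  subst hy
  let f := Y ↘ Spec (CommRingCat.of A)
  haveI : Flat f := hS.1
  haveI : IsNoetherianRing (CommRingCat.of A) := ‹IsNoetherianRing A›
  haveI : IsLocallyNoetherian Y := LocallyOfFiniteType.isLocallyNoetherian f
  haveI : LocallyOfFiniteType (f.fiberToSpecResidueField (f y)) :=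
    MorphismProperty.pullback_snd _ _ inferInstance
  haveI : IsLocallyNoetherian (f.fiber (f y)) :=
    LocallyOfFiniteType.isLocallyNoetherian (f.fiberToSpecResidueField (f y))
  obtain ⟨hωc, -⟩ := DualLib.RelTop.isCoh_and_two_le_depth (A := A) (Y := Y) d hd ω hω
  obtain ⟨hopen, hinv⟩ := DualLib.RelTop.gor_open_and_invertible A Y d hd ω hω
  let Yo : Y.Opens := ⟨RelCanon.gorLocus f, hopen⟩
  have hinv' : ∀ x : Y, x ∈ Yo → RelCanon.InvertibleAt ω x := fun x hx => hinv x hx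
  let ι := f.fiberι (f y)
  let z := f.asFiber y
  have hωtc := DualLib.RelTop.isCoh_fibre_dualizing Y d hd (f y) ωt hωt
  obtain ⟨eC⟩ := DualLib.RelTop.nonempty_fibre_iso_on_cm A Y d hd ω hω Yo
    (fun x hx => ⟨hx.1, by haveI := hx.2; exact LocCoh.isCohenMacaulayLocalRing_of_gorenstein⟩) (f y) ωt hωt
  have hdim3 : ∀ w : f.fiber (f y), w ⤳ z → ι w ∉ Yo →
      (3 : WithBot ℕ∞) ≤ ringKrullDim ((f.fiber (f y)).presheaf.stalk w) := fun w _ hwo =>
    (h2 (ι w) (EGA43.Chevalley.apply_fiberι f (f y) w) hwo).trans_eq (DualLib.RelTop.dim_fibre_pt f (f y) w).symm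
  have main : ∀ (L : Y.Modules) (Lt : (f.fiber (f y)).Modules), Coh.IsCoh L → Coh.IsCoh Lt →
      (∀ x : Y, x ∈ Yo → RelCanon.InvertibleAt L x) →
      Nonempty (((Scheme.Modules.pullback ι).obj L).restrict (ι ⁻¹ᵁ Yo).ι ≅ Lt.restrict (ι ⁻¹ᵁ Yo).ι) →
      ∀ n : ℕ, RelCanon.SkAt 3 (RefHull.ddual (CohB1.tensorPow Lt n)) z →
      RelCanon.RelSkAt f 2 (RefHull.ddual (CohB1.tensorPow L n)) y := by
    intro L Lt hL hLt hLi he n h3'
    obtain ⟨eL⟩ := he
    obtain ⟨hfl, ⟨e⟩⟩ := DualLib.RelTop.flat_and_stalk_equiv_pow f hS (f y) z Yo (fun x _ hx => hG x hx) hdim3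
      L hL hLi Lt hLt eL n h3'
    exact ⟨(f.fiberι_asFiber y) ▸ hfl, (EGA43.FibDepth.hasSk_congr e 2).2
      (DualLib.RelTop.skAt_mono (show 2 ≤ 3 by norm_num) h3')⟩
  rcases m with n | n
  · exact main ω ωt hωc hωtc hinv' ⟨eC.symm⟩ n (h3 (Int.ofNat n) z)
  · have hωd := RefHullLib.isCoh_dual hωc (Coherent.isCoh_structureModule Y)
    have hωtd := RefHullLib.isCoh_dual hωtc (Coherent.isCoh_structureModule _)
    refine main (RefHull.dual ω) (RefHull.dual ωt) hωd hωtd
      (fun x hx => DualLib.RelTop.invertibleAt_dual hωc x (hinv' x hx)) ?_ (n + 1) (h3 (Int.negSucc n) z)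
    obtain ⟨a⟩ := DualLib.RelTop.nonempty_pull_dual_on ι Yo ω hinv'
    obtain ⟨b⟩ := DualLib.RelTop.nonempty_dual_restrict (ι ⁻¹ᵁ Yo) ((Scheme.Modules.pullback ι).obj ω)
    obtain ⟨c⟩ := DualLib.RelTop.nonempty_dual_restrict (ι ⁻¹ᵁ Yo) ωt
    obtain ⟨e'⟩ := DualLib.RelTop.nonempty_dual_iso eC
    exact ⟨a ≪≫ b ≪≫ e'.symm ≪≫ c.symm⟩

end Groth.Agent.S19844
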