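import Groth.Statements.S19845
import Groth.Agent.S19824
import Groth.Agent.S3626
import Groth.Agent.DualLib.RelTop.ArbQGor
import Groth.Agent.DualLib.RelTop.DualBCIff
import Groth.Agent.DualLib.RelTop.StalkTensor
import Groth.Agent.DualLib.RelTop.RefPowPeriod
import Groth.Agent.CAlgH.FlatLocusH.Main
import Groth.Agent.EGA43.FibDepth.LociScheme
import Groth.Agent.Coherent.FinitePres

set_option autoImplicit false
universe u
open QGor

namespace Groth.Agent.S19845

  set_option backward.isDefEq.respectTransparency false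
open CategoryTheory CategoryTheory.Limits AlgebraicGeometry TensorProduct IsLocalRing
open Groth.Agent Groth.Agent.DualLib.RelTop

set_option linter.style.haveILetI false
set_option maxHeartbeats 1600000

/-- The ring map from an affine base to a local ring is essentially of finite type. -/
theorem essFiniteType_baseHom {A : Type u} [CommRing A] {Y : Scheme.{u}} (f : Y ⟶ Spec (CommRingCat.of A))
    [LocallyOfFiniteType f] (y : Y) [Algebra A (Y.presheaf.stalk y)]
    (hα : algebraMap A (Y.presheaf.stalk y) = baseHom f y) : Algebra.EssFiniteType A (Y.presheaf.stalk y) := by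
  let q : PrimeSpectrum A := f y
  let V := (Spec (CommRingCat.of A)).presheaf.stalk (f y)
  letI : Algebra A V := (StructureSheaf.toStalk A q).hom.toAlgebra
  haveI : IsLocalization.AtPrime V q.asIdeal := StructureSheaf.IsLocalization.to_stalk (CommRingCat.of A) q
  haveI : Algebra.EssFiniteType A V := Algebra.EssFiniteType.of_isLocalization V q.asIdeal.primeCompl
  letI : Algebra V (Y.presheaf.stalk y) := (f.stalkMap y).hom.toAlgebra
  haveI : Algebra.EssFiniteType V (Y.presheaf.stalk y) := LocallyOfFiniteType.stalkMap f y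
  haveI : IsScalarTower A V (Y.presheaf.stalk y) := IsScalarTower.of_algebraMap_eq' (by
    have h : Spec.map (CommRingCat.ofHom (baseHom f y)) =
        Spec.map (StructureSheaf.toStalk (CommRingCat.of A) (f y) ≫ f.stalkMap y) := by
      rw [Spec.map_comp, specMap_baseHom, ← Scheme.SpecMap_stalkMap_fromSpecStalk, Spec.fromSpecStalk_eq']
    rw [hα]
    exact congrArg CommRingCat.Hom.hom (Spec.map_injective h))
  exact Algebra.EssFiniteType.comp A V _

/-- Relative `(S₂)` passes along isomorphisms. -/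
theorem relSkAt_of_iso {X T : Scheme.{u}} (f : X ⟶ T) {F G : X.Modules} (e : F ≅ G) (x : X)
    (h : RelCanon.RelSkAt f 2 F x) : RelCanon.RelSkAt f 2 G x :=
  ⟨EGA43.DvrCrit.isFlatOverAt_of_iso f e x h.1, (EGA43.FibDepth.hasSk_congr
    ((DerSch.stalkFunctor _ (f.asFiber x)).mapIso ((Scheme.Modules.pullback (f.fiberι (f x))).mapIso e)).toLinearEquiv 2).1
    h.2⟩

/-- Relative `(S₂)` passes along isomorphisms of stalks. -/
theorem relSkAt_of_equiv {X T : Scheme.{u}} (f : X ⟶ T) [IsLocallyNoetherian T] [IsLocallyNoetherian X]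
    [LocallyOfFiniteType f] {F G : X.Modules} (x : X)
    (e : F.presheaf.stalk x ≃ₗ[X.presheaf.stalk x] G.presheaf.stalk x) (h : RelCanon.RelSkAt f 2 F x) :
    RelCanon.RelSkAt f 2 G x := by
  have key : ∀ z : f.fiber (f x), f.fiberι (f x) z = x →
      RelCanon.SkAt 2 ((Scheme.Modules.pullback (f.fiberι (f x))).obj F) z →
      FlatMod.IsFlatOverAt f G x ∧ RelCanon.SkAt 2 ((Scheme.Modules.pullback (f.fiberι (f x))).obj G) z := by
    intro z hz hsk
    obtain ⟨e'⟩ : Nonempty (F.presheaf.stalk (f.fiberι (f x) z) ≃ₗ[X.presheaf.stalk (f.fiberι (f x) z)]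
        G.presheaf.stalk (f.fiberι (f x) z)) := by rw [hz]; exact ⟨e⟩
    obtain ⟨a, b⟩ := relSkAt_of_stalk_equiv f (f x) z e' (by rw [hz]; exact h.1) hsk
    exact ⟨hz ▸ a, b⟩
  exact key _ (f.fiberι_asFiber x) h.2

/-- The Gorenstein index of the fibre at a named point of the base. -/
theorem exists_fibre_index {A : Type u} [CommRing A] [IsNoetherianRing A] (Y : Scheme.{u})
    [Y.Over (Spec (CommRingCat.of A))] (d : ℕ) (y : Y)
    (ωy : ((Y ↘ Spec (CommRingCat.of A)).fiber ((Y ↘ Spec (CommRingCat.of A)) y)).Modules)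
    (hωy : @RelCanon.IsDualizingSheaf ((Spec (CommRingCat.of A)).residueField ((Y ↘ Spec (CommRingCat.of A)) y)) _
      ((Y ↘ Spec (CommRingCat.of A)).fiber ((Y ↘ Spec (CommRingCat.of A)) y))
      ⟨(Y ↘ Spec (CommRingCat.of A)).fiberToSpecResidueField ((Y ↘ Spec (CommRingCat.of A)) y)⟩ d ωy)
    (r : ℕ) (hi : RelCanon.InvertibleAt (RelCanon.refPowZ ωy r) ((Y ↘ Spec (CommRingCat.of A)).asFiber y))
    (t : Spec (CommRingCat.of A)) (ht : (Y ↘ Spec (CommRingCat.of A)) y = t)
    (z : (Y ↘ Spec (CommRingCat.of A)).fiber t) (hz : (Y ↘ Spec (CommRingCat.of A)).fiberι t z = y) :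
    ∃ ωt : ((Y ↘ Spec (CommRingCat.of A)).fiber t).Modules,
      @RelCanon.IsDualizingSheaf ((Spec (CommRingCat.of A)).residueField t) _ ((Y ↘ Spec (CommRingCat.of A)).fiber t)
        ⟨(Y ↘ Spec (CommRingCat.of A)).fiberToSpecResidueField t⟩ d ωt ∧
        RelCanon.InvertibleAt (RelCanon.refPowZ ωt r) z := by
  subst ht
  let f := Y ↘ Spec (CommRingCat.of A)
  obtain rfl : z = f.asFiber y := (f.fiberι _).isEmbedding.injective (hz.trans (f.fiberι_asFiber y).symm)
  exact ⟨ωy, hωy, hi⟩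

open CategoryTheory AlgebraicGeometry in
/-- Let A be a Henselian Noetherian local ring and Y → Spec A a proper S₂-morphism of pure relative
dimension d with fibres Gorenstein in codimension one and relative canonical sheaf ω (characterised
by the d-dualizing property over A); let y be a point of the closed fibre at which the closed fibre
is ℚ-Gorenstein (w.r.t. its canonical sheaf). Then there is an ideal 𝔞 of A such that for every
Noetherian local ring R, every local homomorphism φ : A → R, every cartesian square Y' → Y over Spec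
R → Spec A with projection p and every module ω' with the d-dualizing property for Y' over R: the
morphism Y' → Spec R is ℚ-Gorenstein with respect to ω' at every point of Y' lying over y and over
the closed point of Spec R (some neighbourhood of the point on which all ω'^{[m]} satisfy relative
S₂) if and only if φ maps 𝔞 to zero (Spec R → Spec A factors through Spec A/𝔞). -/
theorem result
    (A : Type u) [CommRing A] [IsNoetherianRing A] [HenselianLocalRing A]
    (Y : Scheme.{u}) [Y.Over (Spec (CommRingCat.of A))]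
    [IsProper (Y ↘ Spec (CommRingCat.of A))] (d : ℕ)
    (hS : RelCanon.IsSkMor (Y ↘ Spec (CommRingCat.of A)) 2) (hd : Cyc.HasRelDim (Y ↘ Spec (CommRingCat.of A)) d)
    (ω : Y.Modules) (hω : RelCanon.IsDualizingSheaf A Y d ω)
    (hG : ∀ y : Y, y ∉ RelCanon.gorLocus (Y ↘ Spec (CommRingCat.of A)) →
      (2 : WithBot ℕ∞) ≤ ringKrullDim (((Y ↘ Spec (CommRingCat.of A)).fiber ((Y ↘ Spec (CommRingCat.of A)) y)).presheaf.stalk ((Y ↘ Spec (CommRingCat.of A)).asFiber y)))
    (y : Y) (hy : (Y ↘ Spec (CommRingCat.of A)) y = IsLocalRing.closedPoint A)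
    (hQy : ∀ ωt : ((Y ↘ Spec (CommRingCat.of A)).fiber ((Y ↘ Spec (CommRingCat.of A)) y)).Modules, @RelCanon.IsDualizingSheaf ((Spec (CommRingCat.of A)).residueField ((Y ↘ Spec (CommRingCat.of A)) y)) _ ((Y ↘ Spec (CommRingCat.of A)).fiber ((Y ↘ Spec (CommRingCat.of A)) y)) ⟨(Y ↘ Spec (CommRingCat.of A)).fiberToSpecResidueField ((Y ↘ Spec (CommRingCat.of A)) y)⟩ d ωt → RelCanon.IsQGorWithAt ωt ((Y ↘ Spec (CommRingCat.of A)).asFiber y)) :
    ∃ 𝔞 : Ideal A, ∀ (B : Type u) [CommRing B] [IsNoetherianRing B] [IsLocalRing B] (φ : A →+* B) [IsLocalHom φ]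
      (Y' : Scheme.{u}) [Y'.Over (Spec (CommRingCat.of B))] (p : Y' ⟶ Y)
      (hp : IsPullback p (Y' ↘ Spec (CommRingCat.of B)) (Y ↘ Spec (CommRingCat.of A)) (Spec.map (CommRingCat.ofHom φ)))
      (ω' : Y'.Modules) (hω' : RelCanon.IsDualizingSheaf B Y' d ω'),
      ((∀ y' : Y', p y' = y → (Y' ↘ Spec (CommRingCat.of B)) y' = IsLocalRing.closedPoint B → RelCanon.IsQGorMorWithAt (Y' ↘ Spec (CommRingCat.of B)) ω' y') ↔
        Ideal.map φ 𝔞 = ⊥) := by
  haveI : ∀ (U V : Scheme.{u}) (j : U ⟶ V) [IsOpenImmersion j],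
      PreservesFiniteLimits (Scheme.Modules.restrictFunctor j) := fun U V j _ =>
    DCat.PullPerf.preservesFiniteLimits_restrict j
  let f := Y ↘ Spec (CommRingCat.of A)
  haveI : Flat f := hS.1
  haveI : IsNoetherianRing (CommRingCat.of A) := ‹IsNoetherianRing A›
  haveI : IsLocallyNoetherian Y := LocallyOfFiniteType.isLocallyNoetherian f
  obtain ⟨hωc, -⟩ := isCoh_and_two_le_depth (A := A) (Y := Y) d hd ω hω
  obtain ⟨hopen, hinv⟩ := gor_open_and_invertible A Y d hd ω hω
  let Yo : Y.Opens := ⟨RelCanon.gorLocus f, hopen⟩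
  have hdim : ∀ x : Y, x ∉ Yo → (2 : WithBot ℕ∞) ≤ ringKrullDim ((f.fiber (f x)).presheaf.stalk (f.asFiber x)) :=
    fun x hx => hG x hx
  have hω1 := Coherent.isCoh_structureModule Y
  obtain ⟨ωy, hωy⟩ := exists_fibre_dualizing A Y d hd (f y)
  obtain ⟨r, hr, hry⟩ := hQy ωy hωy
  let O := Y.presheaf.stalk y
  letI : Algebra A O := (baseHom f y).toAlgebra
  have hα : algebraMap A O = baseHom f y := rfl
  haveI : IsLocalHom (algebraMap A O) := isLocalHom_baseHom f y hy
  haveI : Algebra.EssFiniteType A O := essFiniteType_baseHom f y hα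
  let D : ℕ → Y.Modules := fun c => RefHull.dual (CohB1.tensorPow ω c)
  have hD : ∀ c, Coh.IsCoh (D c) := fun c => RefHullLib.isCoh_dual (isCoh_tensorPow hωc c) hω1
  have hDi : ∀ c, ∀ x : Y, x ∈ Yo → RelCanon.InvertibleAt (D c) x := fun c x hx =>
    invertibleAt_dual (isCoh_tensorPow hωc c) x
      (invertibleAt_tensorPow Yo ω (fun v hv => hinv v hv) c x hx)
  have hpres : ∀ c, ∃ (n k : ℕ) (ρ : Fin k → (Fin n → O)) (π : (Fin n → O) →ₗ[O] (D c).presheaf.stalk y),
      Function.Surjective π ∧ Submodule.span O (Set.range ρ) = LinearMap.ker π := fun c => by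
    haveI : Module.Finite O ((D c).presheaf.stalk y) := AssSch12.finite_stalk (hD c) y
    obtain ⟨n, π, hπ⟩ := Module.Finite.exists_fin' O ((D c).presheaf.stalk y)
    obtain ⟨k, ρ, hρ⟩ := Submodule.fg_iff_exists_fin_generating_family.1 (IsNoetherian.noetherian (LinearMap.ker π))
    exact ⟨n, k, ρ, π, hπ, hρ⟩
  choose n k ρ π hπ hρ using hpres
  let C : ℕ → Type u := fun c => (Fin (k c) → O) ⧸ LinearMap.range (dualRel (ρ c) O)
  refine ⟨⨆ c : Fin (r + 1), CAlgH.FlatLocusH.flatIdeal A (C c), ?_⟩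
  intro B _ _ _ φ _ Y' _ p hp ω' hω'
  let f' := Y' ↘ Spec (CommRingCat.of B)
  let h := Spec.map (CommRingCat.ofHom φ)
  haveI : IsNoetherianRing (CommRingCat.of B) := ‹IsNoetherianRing B›
  haveI : IsProper f' := MorphismProperty.of_isPullback hp ‹IsProper f›
  haveI : IsProper (Y' ↘ Spec (CommRingCat.of B)) := ‹IsProper f'›
  haveI : Flat f' := MorphismProperty.of_isPullback hp ‹Flat f›
  haveI : IsLocallyNoetherian Y' := LocallyOfFiniteType.isLocallyNoetherian f'
  let U' := p ⁻¹ᵁ Yo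
  have hY1 := Coherent.isCoh_structureModule Y'
  have hO := two_le_depth_baseChange_arb p f f' h hp hS Yo hdim
  letI : Algebra A B := φ.toAlgebra
  haveI : IsLocalHom (algebraMap A B) := ‹IsLocalHom φ›
  -- the double dual of the pullback is the reflexive power
  have hiso : ∀ c : ℕ, Nonempty (RefHull.dual ((Scheme.Modules.pullback p).obj (D c)) ≅ RelCanon.refPowZ ω' c) := by
    intro c
    obtain ⟨i⟩ := (Groth.Agent.S19824.result A Y d hS hd ω hω hG B φ Y' p hp ω' hω' (c : ℤ)).1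
    let P := (Scheme.Modules.pullback p).obj (RefHull.dual (D c))
    have hDd : Coh.IsCoh (RefHull.dual (D c)) := RefHullLib.isCoh_dual (hD c) hω1
    have hP : Coh.IsCoh P :=
      ⟨haveI := hDd.1; EGA43.InjFibre.isQCoh_pullback p _, Coherent.isFT_pullback_qcoh p hDd.1 hDd.2⟩
    have hD' : Coh.IsCoh ((Scheme.Modules.pullback p).obj (D c)) :=
      ⟨haveI := (hD c).1; EGA43.InjFibre.isQCoh_pullback p _, Coherent.isFT_pullback_qcoh p (hD c).1 (hD c).2⟩
    have hPi : ∀ x : Y', x ∈ U' → RelCanon.InvertibleAt P x := fun x hx =>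
      invertibleAt_pullback p x (invertibleAt_dual (hD c) _ (hDi c _ hx))
    obtain ⟨e1⟩ := nonempty_pull_dual_on p Yo (D c) (hDi c)
    obtain ⟨e2⟩ := nonempty_restrict_ddual U' hP hPi
    have hPd : Coh.IsCoh (RefHull.dual P) := RefHullLib.isCoh_dual hP hY1
    obtain ⟨e3⟩ := nonempty_iso_of_extends
      (extends_of_depth _ (RefHullLib.isCoh_dual hD' hY1) U' fun x hx => two_le_depth_dual hD' x (hO x hx))
      (extends_of_depth _ (RefHullLib.isCoh_dual hPd hY1) U' fun x hx => two_le_depth_dual hPd x (hO x hx))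
      (e1.symm ≪≫ e2)
    exact ⟨e3 ≪≫ i⟩
  -- relative `(S₂)` of each power over both closed points is the vanishing of its ideal
  have hcrit : ∀ c : ℕ, (∀ y' : Y', p y' = y → f' y' = closedPoint B →
      RelCanon.RelSkAt f' 2 (RelCanon.refPowZ ω' c) y') ↔ (CAlgH.FlatLocusH.flatIdeal A (C c)).map φ = ⊥ := by
    intro c
    obtain ⟨i⟩ := hiso c
    letI : Algebra O (B ⊗[A] O) := Algebra.TensorProduct.rightAlgebra
    let eF : ((ModStalk.sky y).obj (ModuleCat.of O (C c))).presheaf.stalk y ≃ₗ[O] C c :=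
      ((ModStalk.skyStalkIso y).app (ModuleCat.of O (C c))).toLinearEquiv
    refine Iff.trans ?_ (Iff.trans (flat_pullback_iff_flatAt_tensor f y f' p hp hα _ (C c) eF)
      (CAlgH.FlatLocusH.flatAt_iff_map_flatIdeal_eq_bot (A := A) (B := O) (M := C c) (A' := B) (B' := B ⊗[A] O)
        (TensorProduct.mk O (B ⊗[A] O) (C c) 1) (TensorProduct.isBaseChange O (C c) (B ⊗[A] O))))
    refine forall_congr' fun y' => forall_congr' fun h1 => forall_congr' fun _ => ?_
    rw [← relSkAt_dual_iff_isFlatOverAt_sky p f f' h hp hS Yo hdim (hD c) (hDi c) y (ρ c) (π c) (hπ c) (hρ c) y' h1]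
    exact ⟨relSkAt_of_iso f' i.symm y', relSkAt_of_iso f' i y'⟩
  have hsup : Ideal.map φ (⨆ c : Fin (r + 1), CAlgH.FlatLocusH.flatIdeal A (C c)) = ⊥ ↔
      ∀ c : Fin (r + 1), (CAlgH.FlatLocusH.flatIdeal A (C c)).map φ = ⊥ := by
    rw [Ideal.map_iSup, iSup_eq_bot]
  rw [hsup]
  refine ⟨fun H c => (hcrit c).1 fun y' h1 h2 => ?_, fun H y' h1 h2 => ?_⟩
  · obtain ⟨U, hyU, hU⟩ := H y' h1 h2
    exact hU (c : ℕ) y' hyU
  have hsk : ∀ c : ℕ, c < r + 1 → RelCanon.RelSkAt f' 2 (RelCanon.refPowZ ω' c) y' := fun c hc =>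
    (hcrit c).2 (H ⟨c, hc⟩) y' h1 h2
  -- the `r`-th power is invertible at the point
  let t' := f' y'
  let v := f'.asFiber y'
  obtain ⟨q, _, hw, sq'⟩ := exists_fibre_map p f f' h hp t'
  let Z := f.fiber (h t')
  let Z' := f'.fiber t'
  let κ := (Spec (CommRingCat.of A)).residueField (h t')
  let κ' := (Spec (CommRingCat.of B)).residueField t'
  have hqv : f.fiberι (h t') (q v) = y := by
    rw [← Scheme.Hom.comp_apply, hw, Scheme.Hom.comp_apply, f'.fiberι_asFiber, h1]
  obtain ⟨ωt, hωt, hti⟩ := exists_fibre_index Y d y ωy hωy r hry (h t')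
    (by rw [← hqv]; exact EGA43.Chevalley.apply_fiberι f _ _) (q v) hqv
  have hdY' : Cyc.HasRelDim f' d := by
    obtain ⟨i, hi, -, h2⟩ : ∃ (i : Y' ⟶ pullback f h) (_ : IsIso i), i ≫ pullback.fst f h = p ∧
        i ≫ pullback.snd f h = f' :=
      ⟨hp.isoPullback.hom, inferInstance, hp.isoPullback_hom_fst, hp.isoPullback_hom_snd⟩
    rw [← h2]
    haveI : LocallyOfFiniteType (pullback.snd f h) := MorphismProperty.pullback_snd _ _ inferInstance
    exact CycLib28.PB.hasRelDim_iso_comp (asIso i) _ (CycLib28.hasRelDim_snd f h hd)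
  obtain ⟨ωt', hωt'⟩ := exists_fibre_dualizing B Y' d hdY' t'
  have hω'c := (isCoh_and_two_le_depth (A := B) (Y := Y') d hdY' ω' hω').1
  have hfib : RelCanon.InvertibleAt (RelCanon.refPowZ ωt' r) v := by
    let fZ : Z ⟶ Spec (CommRingCat.of κ) := f.fiberToSpecResidueField (h t')
    haveI : IsProper fZ := MorphismProperty.pullback_snd _ _ ‹IsProper f›
    haveI : IsProper (f'.fiberToSpecResidueField t') := MorphismProperty.pullback_snd _ _ ‹IsProper f'›
    letI : Z.Over (Spec (CommRingCat.of κ)) := ⟨fZ⟩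
    letI : Z'.Over (Spec (CommRingCat.of κ')) := ⟨f'.fiberToSpecResidueField t'⟩
    haveI : IsProper (Z ↘ Spec (CommRingCat.of κ)) := ‹IsProper fZ›
    haveI : IsNoetherianRing κ := inferInstance
    haveI : IsNoetherianRing κ' := inferInstance
    have hgor : ∀ z : Z, f.fiberι (h t') z ∈ Yo → Dual3.IsGorensteinAt fZ z := fun z hz =>
      (Groth.Agent.S3626.result Y (Spec (CommRingCat.of A)) Z (Spec (CommRingCat.of κ)) f
        ((Spec (CommRingCat.of A)).fromSpecResidueField (h t')) fZ (f.fiberι (h t')) (IsPullback.of_hasPullback _ _) z).2 hz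
    obtain ⟨i⟩ := (Groth.Agent.S19824.result κ Z d (isSkMor_fibre f hS (h t')) (hasRelDim_fibre Y d hd (h t')) ωt hωt
      (fun z hz => dim_fibre_off f Yo hdim (h t') z fun hc => hz (hgor z hc))
      κ' (h.residueFieldMap t').hom Z' q sq' ωt' hωt' (r : ℤ)).1
    haveI : IsLocallyNoetherian Z := LocallyOfFiniteType.isLocallyNoetherian fZ
    haveI : IsLocallyNoetherian Z' := LocallyOfFiniteType.isLocallyNoetherian (f'.fiberToSpecResidueField t')
    exact invertibleAt_of_ddual_pullback q (isCoh_refPowNat (isCoh_fibre_dualizing Y d hd (h t') ωt hωt) r) i v hti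
  have hdim' := fun (x : Y') (hx : x ∉ U') => two_le_dim_fibre_baseChange p f f' h hp hS Yo hdim x hx
  have hU'gor : (U' : Set Y') ⊆ RelCanon.gorLocus f' := fun x hx =>
    (Groth.Agent.S3626.result Y (Spec (CommRingCat.of A)) Y' (Spec (CommRingCat.of B)) f h f' p hp x).2 hx
  obtain ⟨hfl, hskr⟩ := hsk r (Nat.lt_succ_self r)
  have hinvr : RelCanon.InvertibleAt (RelCanon.refPowZ ω' r) y' := by
    have h3 := invertibleAt_refPow_iff_fibre Y' d (isSkMor_baseChange p f f' h hp hS) hdY' ω' hω' t' ωt' hωt' U' hU'gor v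
      (fun w _ hw => (hdim' _ hw).trans_eq (dim_fibre_pt f' t' w).symm) r (by rw [f'.fiberι_asFiber]; exact hfl) hskr
    rw [f'.fiberι_asFiber] at h3
    exact h3.2 hfib
  obtain ⟨V, hyV, ⟨eV⟩⟩ := hinvr
  have hskopen : ∀ c : ℕ, IsOpen {x : Y' | RelCanon.RelSkAt f' 2 (RelCanon.refPowZ ω' c) x} := fun c => by
    haveI : LocallyOfFinitePresentation f' := LocallyOfFinitePresentation.iff_locallyOfFiniteType.2 inferInstance
    exact (EGA43.FibDepth.isOpen_flat_assLoci f' _ (Coherent.isFP_of_isCoh (isCoh_refPowNat hω'c c)) 2 ∅).1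
  let W : Y'.Opens := ⟨⋂ c : Fin r, {x : Y' | RelCanon.RelSkAt f' 2 (RelCanon.refPowZ ω' (c : ℕ)) x},
    isOpen_iInter_of_finite fun c => hskopen c⟩
  obtain ⟨-, hinv'⟩ := gor_open_and_invertible B Y' d hdY' ω' hω'
  refine ⟨V ⊓ W, ⟨hyV, Set.mem_iInter.2 fun c => hsk c (c.2.trans (Nat.lt_succ_self r))⟩, fun m z hz => ?_⟩
  obtain ⟨c, hc, hce⟩ := exists_stalk_equiv_refPow_lt hω'c U' (fun x hx => hinv' x (hU'gor hx)) hO r hr V eV m
  obtain ⟨e⟩ := hce z hz.1
  exact relSkAt_of_equiv f' z e (Set.mem_iInter.1 hz.2 ⟨c, hc⟩)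

end Groth.Agent.S19845
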