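import Groth.Statements.S19846
import Groth.Agent.DualLib.RelTop.RelS2Glue

set_option autoImplicit false
universe u
open QGor

namespace Groth.Agent.S19846

set_option backward.isDefEq.respectTransparency false


open CategoryTheory AlgebraicGeometry in
/-- Let Y → Spec A be a proper S₂-morphism to a Noetherian affine base, of pure relative dimension d,
with relative canonical sheaf ω (characterised by the d-dualizing property over A); let Y° be the
relative Gorenstein locus, t a point of Spec A and ω_t a d-dualizing module on the fibre Y_t over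
κ(t) (its canonical sheaf), with Y_t ℚ-Gorenstein: Gorenstein in codimension one (local rings of Y_t
of dimension ≥ 2 at points outside Y°) and some ω_t^{[r]}, r > 0, invertible at each point. If for
every m ≥ 1 there is a coherent O_Y-module M_m with M_m ⊗ O_{Y_t} ≅ ω_t^{[m]} and M_m|_{Y°} ≅
(ω|_{Y°})^{⊗ m}, then for every m ≥ 0 the reflexive power ω^{[m]} satisfies relative S₂ over the
base at every point of Y_t. (The printed conclusion is that the morphism is ℚ-Gorenstein along Y_t;
the printed argument establishes the relative S₂ property for the non-negative powers, which is what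
is stated.) -/
theorem result
    (A : Type u) [CommRing A] [IsNoetherianRing A] (Y : Scheme.{u}) [Y.Over (Spec (CommRingCat.of A))]
    [IsProper (Y ↘ Spec (CommRingCat.of A))] (d : ℕ)
    (hS : RelCanon.IsSkMor (Y ↘ Spec (CommRingCat.of A)) 2) (hd : Cyc.HasRelDim (Y ↘ Spec (CommRingCat.of A)) d)
    (ω : Y.Modules) (hω : RelCanon.IsDualizingSheaf A Y d ω)
    (Yo : Y.Opens) (hYo : (Yo : Set Y) = RelCanon.gorLocus (Y ↘ Spec (CommRingCat.of A)))
    (t : (Spec (CommRingCat.of A))) (ωt : ((Y ↘ Spec (CommRingCat.of A)).fiber t).Modules) (hωt : @RelCanon.IsDualizingSheaf ((Spec (CommRingCat.of A)).residueField t) _ ((Y ↘ Spec (CommRingCat.of A)).fiber t) ⟨(Y ↘ Spec (CommRingCat.of A)).fiberToSpecResidueField t⟩ d ωt)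
    (hG1 : ∀ y : Y, (Y ↘ Spec (CommRingCat.of A)) y = t → y ∉ Yo → (2 : WithBot ℕ∞) ≤ ringKrullDim (((Y ↘ Spec (CommRingCat.of A)).fiber ((Y ↘ Spec (CommRingCat.of A)) y)).presheaf.stalk ((Y ↘ Spec (CommRingCat.of A)).asFiber y)))
    (hQ : RelCanon.IsQGorWith ωt)
    (M : ℕ → Y.Modules) (hMc : ∀ m : ℕ, 1 ≤ m → Coh.IsCoh (M m))
    (hMt : ∀ m : ℕ, 1 ≤ m →
      Nonempty ((Scheme.Modules.pullback ((Y ↘ Spec (CommRingCat.of A)).fiberι t)).obj (M m) ≅ RelCanon.refPowZ ωt m))
    (hMo : ∀ m : ℕ, 1 ≤ m → Nonempty ((M m).restrict Yo.ι ≅ CohB1.tensorPow (ω.restrict Yo.ι) m)) :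
    ∀ (m : ℕ) (y : Y), (Y ↘ Spec (CommRingCat.of A)) y = t → RelCanon.RelSkAt (Y ↘ Spec (CommRingCat.of A)) 2 (RelCanon.refPowZ ω m) y := by
  let f := Y ↘ Spec (CommRingCat.of A)
  haveI : Flat f := hS.1
  haveI : IsNoetherianRing (CommRingCat.of A) := ‹IsNoetherianRing A›
  haveI : IsLocallyNoetherian Y := LocallyOfFiniteType.isLocallyNoetherian f
  intro m y hy
  subst hy
  let ι := f.fiberι (f y)
  let z := f.asFiber y
  let Y' := f.fiber (f y)
  let k := (Spec (CommRingCat.of A)).residueField (f y)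
  let f' : Y' ⟶ Spec (CommRingCat.of k) := f.fiberToSpecResidueField (f y)
  let g := (Spec (CommRingCat.of A)).fromSpecResidueField (f y)
  have hsq : IsPullback ι f' f g := IsPullback.of_hasPullback _ _
  haveI : IsNoetherianRing k := inferInstance
  haveI : IsProper f' := MorphismProperty.of_isPullback hsq ‹_›
  letI : Y'.Over (Spec (CommRingCat.of k)) := ⟨f'⟩
  haveI : IsProper (Y' ↘ Spec (CommRingCat.of k)) := ‹IsProper f'›
  haveI : IsLocallyNoetherian Y' := LocallyOfFiniteType.isLocallyNoetherian f'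
  have hd' : Cyc.HasRelDim (Y' ↘ Spec (CommRingCat.of k)) d := fun q => by
    refine (EGA43.Chevalley.forall_components_fiber_iff f' q (fun e => e = (d : WithBot ℕ∞))).2 fun x hx hmax => ?_
    have htr : DimLib.trdegHom (f'.residueFieldMap x).hom = DimLib.trdegHom (f.residueFieldMap (ι x)).hom := by
      rw [← EGA43.Chevalley.trdegHom_residueFieldMap_postcomp f' g x, ← CycLib28.trdegHom_congr hsq.w x,
        EGA43.Chevalley.trdegHom_residueFieldMap_comp ι f x]
    rw [htr]
    refine (EGA43.Chevalley.forall_components_fiber_iff f (f y) (fun e => e = (d : WithBot ℕ∞))).1 (hd (f y)) (ι x)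
      (EGA43.Chevalley.apply_fiberι f (f y) x) fun w hw hwt => ?_
    obtain ⟨w', rfl⟩ : w ∈ Set.range (f.fiberι (f y)) := by rw [f.range_fiberι]; exact hwt
    exact congrArg ι (hmax w' (ι.isEmbedding.isInducing.specializes_iff.1 hw) (Subsingleton.elim _ _))
  obtain ⟨hωc, -⟩ := DualLib.RelTop.isCoh_and_two_le_depth (A := A) (Y := Y) d hd ω hω
  obtain ⟨hωtc, -⟩ := DualLib.RelTop.isCoh_and_two_le_depth (A := k) (Y := Y') d hd' ωt hωt
  obtain ⟨-, hinv⟩ := DualLib.RelTop.gor_open_and_invertible A Y d hd ω hω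
  let T := CohB1.tensorPow ω m
  have hT : Coh.IsCoh T := DualLib.RelTop.isCoh_tensorPow hωc m
  have hTi : ∀ x : Y, x ∈ Yo → RelCanon.InvertibleAt T x :=
    DualLib.RelTop.invertibleAt_tensorPow Yo ω (fun x hx => hinv x (hYo.le hx)) m
  obtain ⟨eT⟩ := DualLib.RelTop.nonempty_restrict_tensorPow Yo ω m
  obtain ⟨eD⟩ := DualLib.RelTop.nonempty_restrict_ddual Yo hT hTi
  -- the lift
  obtain ⟨F, hFc, ⟨φF⟩, ⟨ψ⟩⟩ : ∃ F : Y.Modules, Coh.IsCoh F ∧
      Nonempty (F.restrict Yo.ι ≅ CohB1.tensorPow (ω.restrict Yo.ι) m) ∧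
      Nonempty ((Scheme.Modules.pullback ι).obj F ≅ RelCanon.refPowZ ωt m) := by
    rcases Nat.eq_zero_or_pos m with h0 | h0
    · subst h0
      refine ⟨Coh.structureModule Y, Coherent.isCoh_structureModule Y, ⟨Scheme.Modules.restrictUnitIso _⟩, ?_⟩
      have hO : RefHull.IsReflexive (Coh.structureModule Y') :=
        (RefHullLib.isReflexive_iff_stalks (Coherent.isCoh_structureModule Y')).2 fun x =>
          DualLib.RelTop.isReflexiveAt_of_invertibleAt (PicLoc.isInvertible_structureModule Y' x)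
      haveI : IsIso (RefHull.bidualMap (Coh.structureModule Y')) := hO
      exact ⟨PicLoc.pullbackStructureIso ι ≪≫ asIso (RefHull.bidualMap (Coh.structureModule Y'))⟩
    · exact ⟨M m, hMc m h0, hMo m h0, hMt m h0⟩
  have hflat : ∀ x : Y, x ⤳ ι z → x ∈ Yo → FlatMod.IsFlatOverAt f F x := by
    intro x _ hx
    have hFi : RelCanon.InvertibleAt F x :=
      DualLib.RelTop.invertibleAt_of_restrict_iso Yo (φF ≪≫ eT.symm) x hx (hTi x hx)
    letI := (f.stalkMap x).hom.toAlgebra
    letI := FlatMod.moduleStalkOver f F x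
    haveI : IsScalarTower ((Spec (CommRingCat.of A)).presheaf.stalk (f x)) (Y.presheaf.stalk x) (F.presheaf.stalk x) :=
      IsScalarTower.of_compHom _ _ _
    obtain ⟨e⟩ := DualLib.RelTop.exists_stalk_equiv_of_invertibleAt hFi
    haveI : Module.Flat ((Spec (CommRingCat.of A)).presheaf.stalk (f x)) (Y.presheaf.stalk x) := Flat.stalkMap f x
    exact Module.Flat.of_linearEquiv (e.restrictScalars ((Spec (CommRingCat.of A)).presheaf.stalk (f x)))
  have hres := DualLib.RelTop.relSkAt_dual_of_lift f hS (f y) z Yo hG1 F (RefHull.dual T) hFc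
    (RefHullLib.isCoh_dual hT (Coherent.isCoh_structureModule Y)) (φF ≪≫ eT.symm ≪≫ eD) hflat
    (RefHull.dual (CohB1.tensorPow ωt m))
    (RefHullLib.isCoh_dual (DualLib.RelTop.isCoh_tensorPow hωtc m) (Coherent.isCoh_structureModule Y')) ψ
  refine ⟨?_, hres.2⟩
  have h1 := hres.1
  rwa [f.fiberι_asFiber] at h1

end Groth.Agent.S19846
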