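import Groth.Statements.S19849
import Groth.Agent.Hyper5.Finite

set_option autoImplicit false
universe u
open DeRhamSh

namespace Groth.Agent.S19849

open CategoryTheory AlgebraicGeometry TopologicalSpace in
/-- Let A be a Noetherian ring and f : X → Spec A a proper morphism; let D be a de Rham complex of the
sheaf of differentials of f whose differentials are A-linear for the action of A through f. Then for
every integer i the algebraic de Rham cohomology H^i_dR(X/A) = H^i(X, D), as an A-module, is
finitely generated. (The A-linearity of the differentials holds for the de Rham complex and is
carried as a hypothesis because the complex is given by its characterising data.) -/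
theorem result (A : Type u) [CommRing A] [IsNoetherianRing A] (X : Scheme.{u})
    (f : X ⟶ Spec (CommRingCat.of A)) [IsProper f]
    (D : DeRhamSh.OmegaCx f)
    (h : KLinDR.TermwiseLinear (Coh.toGlobal f) D.K D.term D.iso)
    [HasDerivedCategory.{u} (Sheaf (Opens.grothendieckTopology X) AddCommGrpCat.{u})] (i : ℤ) :
    Module.Finite A (KLinDR.HdR (Coh.toGlobal f) D h i) := by
  exact Groth.Agent.Hyper5.finite_HdR f D h i

end Groth.Agent.S19849
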