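import Groth.Statements.S1985
import Groth.Agent.CAlgH.NagataSeparable

set_option autoImplicit false
universe u
open EtAlg

namespace Groth.Agent.S1985

/-- Let A -> B be an extension of discrete valuation rings whose extension of fraction fields L/K is
separable. If B is a Nagata ring then so is A. -/
theorem result (A B K L : Type u) [CommRing A] [IsDomain A] [IsDiscreteValuationRing A]
    [CommRing B] [IsDomain B] [IsDiscreteValuationRing B] [Algebra A B] [IsLocalHom (algebraMap A B)]
    (hinj : Function.Injective (algebraMap A B))
    [Field K] [Field L] [Algebra A K] [IsFractionRing A K] [Algebra B L] [IsFractionRing B L]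
    [Algebra K L] [Algebra A L] [IsScalarTower A K L] [IsScalarTower A B L] [Algebra.IsSeparable K L] (hB : CAlg.IsNagata B) :
    CAlg.IsNagata A := by
  haveI := _root_.Groth.Agent.CAlgH.NagataSeparable.isGeometricallyReduced_of_isSeparable K L
  haveI : FaithfulSMul A B := (faithfulSMul_iff_algebraMap_injective A B).2 hinj
  haveI : Module.IsTorsionFree A B := by
    rw [Module.isTorsionFree_iff_algebraMap_injective]
    exact hinj
  haveI : Module.Flat A B := inferInstance
  haveI : Module.FaithfullyFlat A B := Module.FaithfullyFlat.of_flat_of_isLocalHom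
  have hB' : CAlg.IsN2 B := _root_.Groth.Agent.CAlgH.isN2_of_ringEquiv (RingEquiv.quotientBot B) (hB.2 ⊥)
  have hA : CAlg.IsN2 A := _root_.Groth.Agent.CAlgH.isN2_of K fun L' _ _ _ _ _ =>
    _root_.Groth.Agent.CAlgH.NagataSeparable.finite_integralClosure_tensor (K := K) (L := L) hB' L'
  refine ⟨inferInstance, fun p _ => ?_⟩
  rcases eq_or_ne p ⊥ with rfl | hp
  · exact _root_.Groth.Agent.CAlgH.isN2_of_ringEquiv (RingEquiv.quotientBot A).symm hA
  · haveI := Ideal.IsPrime.isMaximal (inferInstance : p.IsPrime) hp
    exact _root_.Groth.Agent.CAlgH.isN2_of_field (Ideal.Quotient.maximal_ideal_iff_isField_quotient p |>.1 inferInstance)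

end Groth.Agent.S1985
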