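import Groth.Statements.S19856
import Mathlib
import Groth.Prelude
import Groth.Agent.S0612

set_option linter.all false

set_option autoImplicit false
universe u v
open CAlg

open TensorProduct Pointwise

namespace Groth.Agent.S19856

theorem aut_eq_id_of_trivial {A : Type*} [CommRing A] [IsNoetherianRing A] [IsLocalRing A] (φ : A →+* A) (N : ℕ)
    (hN : IsUnit (N : A)) (hφN : ∀ a, φ^[N] a = a)
    (h0 : ∀ a, φ a - a ∈ IsLocalRing.maximalIdeal A)
    (h1 : ∀ a ∈ IsLocalRing.maximalIdeal A, φ a - a ∈ IsLocalRing.maximalIdeal A ^ 2) (a : A) : φ a = a := by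
  let M := IsLocalRing.maximalIdeal A
  -- `φ - 1` raises the filtration
  have hraise : ∀ n, ∀ x ∈ M ^ n, φ x - x ∈ M ^ (n + 1) := by
    intro n
    induction n with
    | zero => intro x _; rw [zero_add, pow_one]; exact h0 x
    | succ n ih =>
      intro x hx
      rw [pow_succ] at hx
      have hM : ∀ y ∈ M, φ y ∈ M := fun y hy => by
        have h := M.add_mem (h0 y) hy
        rwa [sub_add_cancel] at h
      induction hx using Submodule.mul_induction_on' with
      | mem_mul_mem y hy z hz =>
        have e : φ (y * z) - y * z = (φ y - y) * φ z + y * (φ z - z) := by rw [map_mul]; ring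
        rw [e]
        refine add_mem ?_ ?_
        · rw [pow_succ _ (n + 1)]; exact Ideal.mul_mem_mul (ih y hy) (hM z hz)
        · rw [show n + 1 + 1 = n + 2 from rfl, pow_add]; exact Ideal.mul_mem_mul hy (h1 z hz)
      | add y _ z _ hy hz =>
        have e : φ (y + z) - (y + z) = (φ y - y) + (φ z - z) := by rw [map_add]; ring
        rw [e]; exact add_mem hy hz
  have key : ∀ n, φ a - a ∈ M ^ n := by
    intro n
    induction n with
    | zero => simp
    | succ n ih =>
      have hiter : ∀ j : ℕ, φ^[j] a - a - (j : A) * (φ a - a) ∈ M ^ (n + 1) := by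
        intro j
        induction j with
        | zero => simp
        | succ j hj =>
          have h2 : φ (φ^[j] a - a - (j : A) * (φ a - a)) ∈ M ^ (n + 1) := by
            have := add_mem (Ideal.pow_le_pow_right (Nat.le_succ (n+1)) (hraise _ _ hj)) hj
            rwa [sub_add_cancel] at this
          have h3 : φ (φ a - a) - (φ a - a) ∈ M ^ (n + 1) := hraise n _ ih
          rw [map_sub, map_sub, map_mul, map_natCast] at h2
          rw [Function.iterate_succ_apply']
          have := add_mem h2 (Ideal.mul_mem_left _ (j : A) h3)
          push_cast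
          convert this using 1
          ring
      have := hiter N
      rw [hφN, sub_self, zero_sub, Ideal.neg_mem_iff] at this
      exact (Ideal.unit_mul_mem_iff_mem _ hN).1 this
  have : φ a - a ∈ ⨅ n, M ^ n := (Submodule.mem_iInf _).2 key
  rw [Ideal.iInf_pow_eq_bot_of_isLocalRing M (IsLocalRing.maximalIdeal.isMaximal A).ne_top, Ideal.mem_bot, sub_eq_zero] at this
  exact this

/-- Ring-level form: let O be a discrete valuation ring and G a finite group acting faithfully on O by
ring automorphisms, such that every element of G acts trivially on the residue field of O (that is,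
g • a - a lies in the maximal ideal for all a) and such that the order of G is nonzero in the
residue field of O. Then G is cyclic. (The source states this for a finite group of order invertible
in an algebraically closed field k acting faithfully on a smooth connected k-variety and the
subgroup of elements fixing pointwise a codimension-one irreducible component of the ramification
locus, applied to the local ring at the generic point of that component; it is stated here for an
arbitrary discrete valuation ring with a faithful action. The source also shows that this subgroup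
is nontrivial; that geometric part is not stated.) -/
theorem result
    (O : Type u) [CommRing O] [IsDomain O] [IsDiscreteValuationRing O]
    (G : Type v) [Group G] [Finite G] [MulSemiringAction G O] [FaithfulSMul G O]
    (htriv : ∀ (g : G) (a : O), g • a - a ∈ IsLocalRing.maximalIdeal O)
    (hcard : ((Nat.card G : ℕ) : IsLocalRing.ResidueField O) ≠ 0) :
    IsCyclic G := by
  classical
  let M := IsLocalRing.maximalIdeal O
  let res := IsLocalRing.residue O
  obtain ⟨ϖ, hϖ⟩ := IsDiscreteValuationRing.exists_irreducible O
  have hM : M = Ideal.span {ϖ} := hϖ.maximalIdeal_eq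
  have hmem : ∀ g : G, g • ϖ ∈ M := fun g => by
    have := M.add_mem (htriv g ϖ) (show ϖ ∈ M from hM ▸ Ideal.mem_span_singleton_self ϖ)
    rwa [sub_add_cancel] at this
  choose c hc using fun g => Ideal.mem_span_singleton'.1 (hM ▸ hmem g)
  have hres : ∀ (g : G) (a : O), res (g • a) = res a := fun g a => by
    rw [← sub_eq_zero, ← map_sub]; exact (IsLocalRing.residue_eq_zero_iff _).2 (htriv g a)
  let f : G →* IsLocalRing.ResidueField O :=
    { toFun := fun g => res (c g)
      map_one' := by
        have : c 1 * ϖ = 1 * ϖ := by rw [hc, one_smul, one_mul]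
        rw [mul_right_cancel₀ hϖ.ne_zero this, map_one]
      map_mul' := fun g g' => by
        have : c (g * g') * ϖ = (g • c g') * c g * ϖ := by rw [hc, mul_smul, ← hc g', smul_mul', mul_assoc, ← hc g]
        rw [mul_right_cancel₀ hϖ.ne_zero this, map_mul, hres, mul_comm] }
  refine isCyclic_of_injective_ringHom f ((injective_iff_map_eq_one f).2 fun g hg => ?_)
  apply FaithfulSMul.eq_of_smul_eq_smul (α := O)
  intro a
  rw [one_smul]
  have h0 : c g - 1 ∈ M := (IsLocalRing.residue_eq_zero_iff _).1 (by rw [map_sub, map_one]; exact sub_eq_zero.2 hg)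
  refine aut_eq_id_of_trivial (MulSemiringAction.toRingHom G O g) (Nat.card G) ?_ ?_ (htriv g) ?_ a
  · by_contra hu
    exact hcard (by rw [← map_natCast res]; exact (IsLocalRing.residue_eq_zero_iff _).2 hu)
  · intro b
    rw [show (⇑(MulSemiringAction.toRingHom G O g)) = (g • ·) from rfl, smul_iterate_apply, pow_card_eq_one', one_smul]
  · intro b hb
    obtain ⟨b', rfl⟩ := Ideal.mem_span_singleton'.1 (show b ∈ Ideal.span {ϖ} from hM ▸ hb)
    have e : (MulSemiringAction.toRingHom G O g) (b' * ϖ) - b' * ϖ = ((g • b') * (c g - 1) + (g • b' - b')) * ϖ := by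
      show g • (b' * ϖ) - b' * ϖ = _
      rw [smul_mul', ← hc g]; ring
    rw [e, sq]
    exact Ideal.mul_mem_mul (M.add_mem (M.mul_mem_left _ h0) (htriv g b')) (show ϖ ∈ M from hM ▸ Ideal.mem_span_singleton_self ϖ)

end Groth.Agent.S19856
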