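import Groth.Statements.S19857
import Groth.Agent.Synt15.OverSmooth
-- import your own Groth.Agent.* helpers here

set_option autoImplicit false
universe u
open Synt

namespace Groth.Agent.S19857

open CategoryTheory AlgebraicGeometry in
/-- Let S be a scheme, p : X ⟶ S and q : Y ⟶ S smooth morphisms and f : X ⟶ Y a morphism over S (f ≫ q =
p) which is flat. Then f is syntomic (affine-locally given by flat ring maps of finite presentation
whose fibres are local complete intersections). -/
theorem result {X Y S : Scheme.{u}}
    (p : X ⟶ S) (q : Y ⟶ S) [Smooth p] [Smooth q] (f : X ⟶ Y) (hf : f ≫ q = p) [Flat f] :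
    Synt.IsSyntomicMor f := by
  exact Groth.Agent.Synt15.isSyntomicMor_of_flat_of_smooth_over p q f hf

end Groth.Agent.S19857
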