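import Groth.Statements.S19858
import Groth.Agent.CommAlg6.GeomFib
import Groth.Agent.CommAlg6.CompletionMap

set_option autoImplicit false
universe u
open EGA4

namespace Groth.Agent.S19858

/-- Let A → B → C be homomorphisms of Noetherian rings such that C is faithfully flat over B and the
composite A → C is a normal homomorphism (flat, with geometrically normal fibres). Then A → B is a
normal homomorphism. (In the source C is the adic completion of A along an ideal and A → C is
assumed normal; only the faithful flatness of B → C and the normality of A → C enter, so C is an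
arbitrary Noetherian ring here.) -/
theorem result (A B C : Type u)
    [CommRing A] [CommRing B] [CommRing C] [IsNoetherianRing A] [IsNoetherianRing B] [IsNoetherianRing C]
    [Algebra A B] [Algebra B C] [Algebra A C] [IsScalarTower A B C] [Module.FaithfullyFlat B C]
    (hAC : EGA4.IsNormalHom A C) : EGA4.IsNormalHom A B := by
  haveI := hAC.1
  refine ⟨Groth.Agent.FlatCrit.flat_of_flat_of_faithfullyFlat (R := A) (S := B) (M := C), ?_⟩
  refine Groth.Agent.CommAlg6.geomNormal_fibres_iff.2 fun K _ _ hK => ?_
  haveI := Groth.Agent.CommAlg6.isNoetherianRing_resFinite (B := B) hK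
  haveI := Groth.Agent.CommAlg6.isNoetherianRing_resFinite (B := C) hK
  obtain ⟨h1, h2⟩ := Groth.Agent.CommAlg6.isNormalRing_iff_R1_S2.1
    (Groth.Agent.CommAlg6.geomNormal_fibres_iff.1 hAC.2 K hK)
  rw [Groth.Agent.CommAlg6.isNormalRing_iff_R1_S2]
  exact ⟨Groth.Agent.CommAlg6.hasRk_fibre_descend (C := C) 1 hK h1,
    Groth.Agent.CommAlg6.hasSk_fibre_descend (C := C) 2 hK h2⟩

end Groth.Agent.S19858
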