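import Groth.Statements.S19859
import Groth.Agent.DualLib.Depth

set_option autoImplicit false
universe u
open CategoryTheory
attribute [local instance] HasDerivedCategory.standard
open Dual

namespace Groth.Agent.S19859

/-- Let A be a Noetherian local ring with a normalized dualizing complex ω (so the codimension function
of ω vanishes at the closed point) and M a nonzero finite A-module with support of dimension d. Then
Ext^{-d}(M, ω), the A-module of morphisms M → ω[-d] in D(A), is nonzero. (The source states this at
every point x of a locally Noetherian scheme with a dualizing complex, in the degree given by the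
codimension function at x minus the dimension of the stalk; localizing and shifting reduces to the
closed point of a local ring with a normalized complex, which is the form stated here.) -/
theorem result (A : Type u) [CommRing A] [IsLocalRing A]
    [IsNoetherianRing A] (ω : Dual.D A) (hω : Dual.IsDualizing A ω) (hn : Dual.IsNormalized A ω)
    (M : Type u) [AddCommGroup M] [Module A M] [Module.Finite A M] [Nontrivial M]
    (d : ℕ) (hd : Module.supportDim A M = d) :
    Nontrivial (Dual.inD A M ⟶ ω⟦(-(d : ℤ))⟧) := by
  by_contra hc
  rw [not_nontrivial_iff_subsingleton] at hc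
  suffices h : Module.supportDim A M ≤ ((d - 1 : ℕ) : WithBot ℕ∞) ∧ 0 < d by
    rw [hd] at h
    have := h.1
    norm_cast at this
    omega
  have key : ∀ p ∈ Module.support A M, Order.coheight p ≠ (d : ℕ∞) := fun p hp he => by
    refine absurd (Groth.Agent.DualLib.mem_support_of_minimal hω hn he M (fun q hq hqp => ?_) hp) ?_
    · by_contra hne
      have h1 := (Order.coheight_add_one_le (lt_of_le_of_ne hqp hne)).trans
        (Groth.Agent.DualLib.coheight_le_of_supportDim_le hd.le hq)
      rw [he] at h1
      norm_cast at h1
      omega
    · rw [Module.notMem_support_iff']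
      exact fun m => ⟨1, fun h => p.2.ne_top ((Ideal.eq_top_iff_one _).2 h), Subsingleton.elim _ _⟩
  have hpos : 0 < d := by
    by_contra h0
    obtain ⟨p, hp⟩ := (Module.nonempty_support_iff (R := A)).2 (inferInstance : Nontrivial M)
    refine key p hp (le_antisymm (Groth.Agent.DualLib.coheight_le_of_supportDim_le hd.le hp) ?_)
    simp [show d = 0 by omega]
  refine ⟨Groth.Agent.DualLib.supportDim_le_of_coheight _ fun q hq => ?_, hpos⟩
  obtain ⟨e, he⟩ := Groth.Agent.DualLib.exists_coheight_eq q
  have h1 := Groth.Agent.DualLib.coheight_le_of_supportDim_le hd.le hq
  have h2 := key q hq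
  rw [he] at h1 h2 ⊢
  norm_cast at h1 h2 ⊢
  omega

end Groth.Agent.S19859
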