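import Groth.Statements.S19860
import Groth.Agent.S7761
import Groth.Agent.VarietyLib.HilbFlat

set_option autoImplicit false
universe u
open CategoryTheory CategoryTheory.Limits AlgebraicGeometry
open Variety
open Groth.Agent

namespace Groth.Agent.S19860

/-- Let A be a Noetherian local integral domain, f : X ⟶ Spec A a proper morphism, L an invertible
O_X-module ample relative to f and F a coherent O_X-module. Then F is flat over Spec A if and only
if the Hilbert polynomials of F on the generic fibre and on the closed fibre coincide: for every n ≥
0 the Euler characteristic, over the fraction field, of the pullback of F ⊗ L^{⊗n} to the fibre over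
the generic point equals the Euler characteristic, over the residue field, of its pullback to the
fibre over the closed point. (The source works with k-schemes of finite type over an algebraically
closed field of characteristic zero, A a local integral k-algebra and f projective with a relatively
very ample O(1); the argument uses only that A is a Noetherian local domain and that some power of L
is relatively very ample, so it is stated here for proper f with an f-ample L and no base field.) -/
theorem result
    (A : Type u) [CommRing A] [IsDomain A] [IsNoetherianRing A] [IsLocalRing A]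
    (X : Scheme.{u}) (f : X ⟶ Spec (CommRingCat.of A)) [IsProper f]
    (L : X.Modules) (hL : RelAmple.IsRelAmple f L) (F : X.Modules) (hF : Coh.IsCoh F) :
    FlatMod.IsFlatOver f F ↔
      ∀ n : ℕ,
        @Curv2.euler ((Spec (CommRingCat.of A)).residueField (⊥ : PrimeSpectrum A)) _ (f.fiber (⊥ : PrimeSpectrum A))
          ⟨f.fiberToSpecResidueField (⊥ : PrimeSpectrum A)⟩
          ((Scheme.Modules.pullback (f.fiberι (⊥ : PrimeSpectrum A))).obj (CohB1.tensorMod F (CohB1.tensorPow L n))) =
        @Curv2.euler ((Spec (CommRingCat.of A)).residueField (IsLocalRing.closedPoint A)) _ (f.fiber (IsLocalRing.closedPoint A))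
          ⟨f.fiberToSpecResidueField (IsLocalRing.closedPoint A)⟩
          ((Scheme.Modules.pullback (f.fiberι (IsLocalRing.closedPoint A))).obj (CohB1.tensorMod F (CohB1.tensorPow L n))) := by
  haveI : IsLocallyNoetherian (Spec (CommRingCat.of A)) := inferInstance
  haveI : LocallyOfFinitePresentation f :=
    LocallyOfFinitePresentation.iff_locallyOfFiniteType.2 inferInstance
  haveI : IsLocallyNoetherian X := LocallyOfFiniteType.isLocallyNoetherian f
  constructor
  · intro hfl n
    obtain ⟨U, hsU, hU⟩ := Groth.Agent.S7761.result X (Spec (CommRingCat.of A)) f F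
      ((Coherent.isCoh_iff_isFP F).1 hF) hfl 1 (fun _ => L)
      (fun _ => AmpleLib.isInvertible_of_isRelAmple _ hL) (IsLocalRing.closedPoint A)
    exact hU _ ((IsLocalRing.specializes_closedPoint (⊥ : PrimeSpectrum A)).mem_open U.2 hsU) (fun _ => n)
  · intro h
    refine VarietyLib.isFlatOver_of_eulerChar_specializes f hL hF fun u₀ x hsp => ?_
    have hb : ∀ p : Spec (CommRingCat.of A), (⊥ : PrimeSpectrum A) ⤳ p := fun p =>
      (PrimeSpectrum.le_iff_specializes (⊥ : PrimeSpectrum A) p).1 bot_le
    obtain ⟨N₁, h₁⟩ := VarietyLib.exists_eulerChar_le_of_specializes f hL hF (hb u₀)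
    obtain ⟨N₂, h₂⟩ := VarietyLib.exists_eulerChar_le_of_specializes f hL hF hsp
    obtain ⟨N₃, h₃⟩ := VarietyLib.exists_eulerChar_le_of_specializes f hL hF
      (IsLocalRing.specializes_closedPoint x)
    refine ⟨N₁ + N₂ + N₃, fun n hn => le_antisymm (h₂ n (by omega)) ?_⟩
    have he : PerfAux.eulerChar f (CohB1.tensorMod F (CohB1.tensorPow L n)) (⊥ : PrimeSpectrum A) =
        PerfAux.eulerChar f (CohB1.tensorMod F (CohB1.tensorPow L n)) (IsLocalRing.closedPoint A) := h n
    exact ((h₃ n (by omega)).trans he.ge).trans (h₁ n (by omega))

end Groth.Agent.S19860
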