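import Groth.Statements.S19863
import Groth.Agent.CAlgH.OnePlusCompletion

set_option autoImplicit false
universe u
open EGA4

namespace Groth.Agent.S19863

/-- Let A be a Noetherian ring, J a proper ideal of A, Â the J-adic completion and A_T the localization
of A at T = 1 + J. If the canonical map A → Â is a regular homomorphism (flat, with Noetherian
geometrically regular fibres), then A_T is a regular ring if and only if Â is a regular ring
(Noetherian, with regular local rings at all primes). (The cases of the henselization of the pair
and of the weak completion are not stated here.) -/
theorem result
    (A : Type u) [CommRing A] [IsNoetherianRing A] (J : Ideal A) (hJ : J ≠ ⊤)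
    (hf : CAlg.IsRegularHom A (AdicCompletion J A))
    (T : Submonoid A) (hT : T = MonoidHom.mker (Ideal.Quotient.mk J)) :
    IsRegularRing (Localization T) ↔ IsRegularRing (AdicCompletion J A) := by
  exact _root_.Groth.Agent.CAlgH.OnePlus.isRegularRing_iff' J hJ hf T hT

end Groth.Agent.S19863
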