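import Groth.Statements.S19864
import Groth.Agent.CAlgH.AdicSmoothGlobal


set_option autoImplicit false
universe u
open CAlg

namespace Groth.Agent.S19864

/-- Let A and B be Noetherian rings and B an A-algebra. Then A → B is a regular homomorphism (flat with
Noetherian, geometrically regular fibres) if and only if for every prime q of B lying over the prime
p of A the induced local homomorphism A_p → B_q is formally smooth for the adic topologies of the
maximal ideals (equivalently, for the adic topology of the maximal ideal of B_q). -/
theorem result (A B : Type u)
    [CommRing A] [CommRing B] [Algebra A B] [IsNoetherianRing A] [IsNoetherianRing B] :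
    CAlg.IsRegularHom A B ↔
      ∀ (q : Ideal B) [q.IsPrime],
        letI := (Localization.localRingHom (Ideal.comap (algebraMap A B) q) q (algebraMap A B) rfl).toAlgebra
        CAlgX.IsAdicFormallySmooth (Localization.AtPrime (Ideal.comap (algebraMap A B) q))
          (Localization.AtPrime q) (IsLocalRing.maximalIdeal (Localization.AtPrime q)) := by
  exact Groth.Agent.CAlgH.isRegularHom_iff_adicSmooth A B

end Groth.Agent.S19864
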