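import Groth.Statements.S19866

set_option backward.isDefEq.respectTransparency false
set_option backward.isDefEq.respectTransparency.types false

set_option autoImplicit false
universe v₁ v₂ u₁ u₂
open CategoryTheory
open FibCat

namespace Groth.Agent.S19866

universe v₃ u₃
open CategoryTheory.Pseudofunctor CategoryTheory.Pseudofunctor.CoGrothendieck Opposite

theorem lift_congr {𝒮 : Type u₁} [Category.{v₁} 𝒮] {Y : Type u₂} [Category.{v₂} Y] {q : Y ⥤ 𝒮}
    (L : FibCat.Cleavage q) {R S : 𝒮} (f : R ⟶ S) {a a' : Y} (e : a = a') (ha : q.obj a = S) (ha' : q.obj a' = S) :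
    ∃ h : L.obj ha f = L.obj ha' f, L.lift ha f ≫ eqToHom e = eqToHom h ≫ L.lift ha' f := by
  subst e
  exact ⟨rfl, by simp⟩

theorem isSplitting_ofCoGrothendieck {𝒮 : Type u₁} [Category.{v₁} 𝒮] (F : 𝒮ᵒᵖ ⥤ Cat.{v₂, u₂}) :
    (FibCat.Cleavage.ofCoGrothendieck F.toPseudofunctor').IsSplitting := by
  constructor
  · intro S a ha
    subst ha
    obtain ⟨b, x⟩ := a
    have hx : (F.map (𝟙 b ≫ eqToHom rfl : b ⟶ b).op).toFunctor.obj x = x := by simp [Cat.Hom.id_toFunctor]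
    refine ⟨congrArg (fun y => (⟨b, y⟩ : CoGrothendieck F.toPseudofunctor')) hx, ?_⟩
    have key : ∀ (y : F.obj (op b)) (h : y = x) (h' : (⟨b, y⟩ : CoGrothendieck F.toPseudofunctor') = ⟨b, x⟩),
        (eqToHom h' : (⟨b, y⟩ : CoGrothendieck F.toPseudofunctor') ⟶ ⟨b, x⟩) =
          ⟨𝟙 b, eqToHom (h.trans (by show _ = (F.map (𝟙 (op b))).toFunctor.obj x; simp [Cat.Hom.id_toFunctor]))⟩ := by
      rintro y rfl h'
      apply CoGrothendieck.Hom.ext <;> simp [Functor.toPseudofunctor'_mapId]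
    refine Eq.trans ?_ (key _ hx _).symm
    apply CoGrothendieck.Hom.ext <;> first | (simp [FibCat.Cleavage.ofCoGrothendieck, cartesianLift]; done) | rfl | (simp [FibCat.Cleavage.ofCoGrothendieck, cartesianLift]; rfl)
  · intro S T U f g a ha
    subst ha
    obtain ⟨b, x⟩ := a
    have hy : (F.map (g ≫ eqToHom (rfl : T = T)).op).toFunctor.obj ((F.map (f ≫ eqToHom (rfl : b = b)).op).toFunctor.obj x) =
        (F.map ((g ≫ f) ≫ eqToHom (rfl : b = b)).op).toFunctor.obj x := by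
      simp [Cat.Hom.comp_toFunctor]
    refine ⟨congrArg (fun y => (⟨U, y⟩ : CoGrothendieck F.toPseudofunctor')) hy, ?_⟩
    have key : ∀ (y z : F.obj (op U)) (h : y = z) (h' : (⟨U, y⟩ : CoGrothendieck F.toPseudofunctor') = ⟨U, z⟩),
        (eqToHom h' : (⟨U, y⟩ : CoGrothendieck F.toPseudofunctor') ⟶ ⟨U, z⟩) =
          ⟨𝟙 U, eqToHom (h.trans (by show _ = (F.map (𝟙 (op U))).toFunctor.obj z; simp [Cat.Hom.id_toFunctor]))⟩ := by
      rintro y _ rfl h'
      apply CoGrothendieck.Hom.ext <;> simp [Functor.toPseudofunctor'_mapId]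
    refine Eq.trans ?_ (congrArg (· ≫ _) (key _ _ hy _)).symm
    apply CoGrothendieck.Hom.ext <;>
      simp [FibCat.Cleavage.ofCoGrothendieck, cartesianLift, Functor.toPseudofunctor'_mapComp, eqToHom_map]
    erw [CategoryTheory.Functor.map_id (F.toPseudofunctor'.map (𝟙 ({ as := op U } : LocallyDiscrete 𝒮ᵒᵖ))).toFunctor]
    simp

theorem exists_transport {𝒮 : Type u₁} [Category.{v₁} 𝒮] {X : Type u₂} [Category.{v₂} X] {Y : Type u₃} [Category.{v₃} Y]
    (q : Y ⥤ 𝒮) (Φ : X ⥤ Y) (Ψ : Y ⥤ X) (h₁ : Φ ⋙ Ψ = 𝟭 X) (h₂ : Ψ ⋙ Φ = 𝟭 Y) (L : FibCat.Cleavage q)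
    (hL : L.IsSplitting) : ∃ K : FibCat.Cleavage (Φ ⋙ q), K.IsSplitting := by
  have hX : ∀ a, Ψ.obj (Φ.obj a) = a := fun a => Functor.congr_obj h₁ a
  have hY : ∀ z, Φ.obj (Ψ.obj z) = z := fun z => Functor.congr_obj h₂ z
  have hXm : ∀ {a b : X} (m : a ⟶ b), Ψ.map (Φ.map m) = eqToHom (hX a) ≫ m ≫ eqToHom (hX b).symm :=
    fun m => Functor.congr_hom h₁ m
  have hYm : ∀ {a b : Y} (m : a ⟶ b), Φ.map (Ψ.map m) = eqToHom (hY a) ≫ m ≫ eqToHom (hY b).symm :=
    fun m => Functor.congr_hom h₂ m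
  let K : FibCat.Cleavage (Φ ⋙ q) :=
    { obj := fun {R S a} ha f => Ψ.obj (L.obj (a := Φ.obj a) ha f)
      lift := fun {R S a} ha f => Ψ.map (L.lift (a := Φ.obj a) ha f) ≫ eqToHom (hX a)
      isCartesian := fun {R S a} ha f => by
        haveI := L.isCartesian (a := Φ.obj a) ha f
        have e : Φ.map (Ψ.map (L.lift (a := Φ.obj a) ha f) ≫ eqToHom (hX a)) =
            eqToHom (hY _) ≫ L.lift (a := Φ.obj a) ha f := by
          rw [Functor.map_comp, hYm, eqToHom_map]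
          simp
        haveI : (Φ ⋙ q).IsHomLift f (Ψ.map (L.lift (a := Φ.obj a) ha f) ≫ eqToHom (hX a)) := by
          apply IsHomLift.of_fac (ha := show (Φ ⋙ q).obj _ = R from (congrArg q.obj (hY _)).trans (L.obj_proj (a := Φ.obj a) ha f)) (hb := ha)
          show f = _ ≫ q.map (Φ.map _) ≫ _
          rw [e, Functor.map_comp, IsHomLift.fac' q f (L.lift (a := Φ.obj a) ha f), eqToHom_map]
          simp
        refine { universal_property := fun {b} φ _ => ?_ }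
        haveI : q.IsHomLift f (Φ.map φ) := by
          apply IsHomLift.of_fac q f (Φ.map φ) (IsHomLift.domain_eq (Φ ⋙ q) f φ) ha
          exact IsHomLift.fac (Φ ⋙ q) f φ
        have vert : ∀ {c : X} (χ : b ⟶ c), (Φ ⋙ q).IsHomLift (𝟙 R) χ → q.IsHomLift (𝟙 R) (Φ.map χ) := fun χ _ =>
          IsHomLift.of_fac _ _ _ (IsHomLift.domain_eq (Φ ⋙ q) (𝟙 R) χ) (IsHomLift.codomain_eq (Φ ⋙ q) (𝟙 R) χ)
            (IsHomLift.fac (Φ ⋙ q) (𝟙 R) χ)
        let χ₀ := Functor.IsCartesian.map q f (L.lift (a := Φ.obj a) ha f) (Φ.map φ)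
        refine ⟨eqToHom (hX b).symm ≫ Ψ.map χ₀, ⟨?_, ?_⟩, fun χ ⟨h1, h2⟩ => ?_⟩
        · haveI : q.IsHomLift (𝟙 R) (Φ.map (eqToHom (hX b).symm ≫ Ψ.map χ₀)) := by
            rw [Functor.map_comp, hYm, eqToHom_map]
            simp only [eqToHom_trans_assoc, eqToHom_refl, Category.id_comp]
            infer_instance
          exact IsHomLift.of_fac _ _ _ (IsHomLift.domain_eq (Φ ⋙ q) f φ)
            (show (Φ ⋙ q).obj _ = R from (congrArg q.obj (hY _)).trans (L.obj_proj (a := Φ.obj a) ha f))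
            (IsHomLift.fac q (𝟙 R) (Φ.map (eqToHom (hX b).symm ≫ Ψ.map χ₀)))
        · rw [Category.assoc, ← Ψ.map_comp_assoc, Functor.IsCartesian.fac, hXm]
          simp
        · haveI := vert χ h1
          haveI : q.IsHomLift (𝟙 R) (Φ.map χ ≫ eqToHom (hY (L.obj (a := Φ.obj a) ha f))) := inferInstance
          have hu : Φ.map χ ≫ eqToHom (hY (L.obj (a := Φ.obj a) ha f)) = χ₀ :=
            Functor.IsCartesian.map_uniq q f (L.lift (a := Φ.obj a) ha f) (Φ.map φ) _ (by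
              rw [Category.assoc, ← e, ← Functor.map_comp, h2])
          rw [← hu, Functor.map_comp, hXm, eqToHom_map]
          simp }
  refine ⟨K, fun S a ha => ?_, fun S T U f g a ha => ?_⟩
  · obtain ⟨h, hh⟩ := @hL.1 S (Φ.obj a) ha
    refine ⟨(congrArg Ψ.obj h).trans (hX a), ?_⟩
    show Ψ.map _ ≫ eqToHom _ = eqToHom _
    rw [hh, eqToHom_map, eqToHom_trans]
  · obtain ⟨h, hh⟩ := @hL.2 S T U f g (Φ.obj a) ha
    obtain ⟨h', hh'⟩ := lift_congr L g (hY (L.obj (a := Φ.obj a) ha f)) (K.obj_proj ha f) (L.obj_proj (a := Φ.obj a) ha f)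
    refine ⟨congrArg Ψ.obj (h'.trans h), ?_⟩
    show (Ψ.map (L.lift (a := Φ.obj (Ψ.obj _)) (K.obj_proj ha f) g) ≫ eqToHom _) ≫ Ψ.map (L.lift (a := Φ.obj a) ha f) ≫ eqToHom _ =
      eqToHom _ ≫ Ψ.map (L.lift (a := Φ.obj a) ha (g ≫ f)) ≫ eqToHom _
    rw [show (eqToHom (hX (Ψ.obj (L.obj (a := Φ.obj a) ha f))) : _ ⟶ _) = Ψ.map (eqToHom (hY (L.obj (a := Φ.obj a) ha f))) from (eqToHom_map Ψ _).symm,
      ← Ψ.map_comp, hh', ← Ψ.map_comp_assoc, Category.assoc, hh, Functor.map_comp, Functor.map_comp, eqToHom_map, eqToHom_map]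
    simp

/-- Let p : 𝒳 → 𝒮 be a functor, F : 𝒮ᵒᵖ → Cat a strict functor, and suppose 𝒳 is isomorphic over 𝒮 to
the category of pairs (U, x), x an object of F(U), built from F: there are functors Φ : 𝒳 → ∫F and Ψ
: ∫F → 𝒳 inverse to each other on the nose with Φ followed by the projection equal to p. Then 𝒳 has
a cleavage over 𝒮 which is a splitting: the chosen transport morphism over each identity is the
identity, and the chosen transport morphism of g at f^* a followed by that of f at a is the chosen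
transport morphism of g ≫ f at a. In particular the inverse-image functors of that cleavage satisfy
(fg)^* = g^* f^* on the nose, which is the published conclusion; no fibredness hypothesis is needed,
𝒳 being fibred as a consequence. -/
theorem result {𝒮 : Type u₁} [Category.{v₁} 𝒮] {𝒳 : Type u₂} [Category.{v₂} 𝒳]
    (p : 𝒳 ⥤ 𝒮) (F : 𝒮ᵒᵖ ⥤ Cat.{v₂, u₂})
    (Φ : 𝒳 ⥤ Pseudofunctor.CoGrothendieck F.toPseudofunctor')
    (Ψ : Pseudofunctor.CoGrothendieck F.toPseudofunctor' ⥤ 𝒳)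
    (h₁ : Φ ⋙ Ψ = 𝟭 𝒳) (h₂ : Ψ ⋙ Φ = 𝟭 _)
    (h₃ : Φ ⋙ Pseudofunctor.CoGrothendieck.forget F.toPseudofunctor' = p) :
    ∃ K : FibCat.Cleavage p, K.IsSplitting := by
  subst h₃
  exact exists_transport _ Φ Ψ h₁ h₂ _ (isSplitting_ofCoGrothendieck F)

end Groth.Agent.S19866
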