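import Groth.Statements.S19867
import Mathlib
import Groth.Agent.PolLawLib.DetProj

set_option autoImplicit false
universe u
open scoped TensorProduct
open ZeroCyc

namespace Groth.Agent.S19867

/-- Affine form of the inhomogeneous determinant law. Let A be a commutative ring, B a commutative
A-algebra and M a B-module which as an A-module is finitely generated projective, of possibly
non-constant rank. Then there is exactly one multiplicative polynomial law N : B → A over A such
that for every local commutative A-algebra S and every x ∈ S ⊗_A B the value N(x) ∈ S is the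
determinant of x acting on the free S-module S ⊗_A M. (N is in general not homogeneous; when M has
constant rank d it is the homogeneous determinant law of degree d. The members over arbitrary test
algebras are determined by those over local ones.) -/
theorem result {A B M : Type u} [CommRing A] [CommRing B] [Algebra A B]
    [AddCommGroup M] [Module A M] [Module B M] [IsScalarTower A B M] [Module.Finite A M] [Module.Projective A M] :
    ∃! N : B →ₚₗ[A] A, PolLaw.IsMult N ∧ ∀ (S : Type u) [CommRing S] [IsLocalRing S] [Algebra A S] (x : S ⊗[A] B),
      N.toFun' S x = PolLaw.detAct M S x ⊗ₜ[A] (1 : A) := by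
  obtain ⟨n, π, hπ⟩ := Module.Finite.exists_fin' A M
  obtain ⟨σ, hσ⟩ := Module.projective_lifting_property π LinearMap.id hπ
  let F : B →ₚₗ[A] A :=
    { toFun' := fun S _ _ x => Groth.Agent.PolLawLib.detPS π σ S x
      isCompat' := by
        intro S _ _ S' _ _ φ
        funext x
        let ψ : A ⊗[A] S →ₐ[A] A ⊗[A] S' := Algebra.TensorProduct.map (AlgHom.id A A) φ
        have hψ : Algebra.TensorProduct.map ψ (AlgHom.id A B) (PolLaw.toRing A B S x) =
            PolLaw.toRing A B S' (φ.toLinearMap.rTensor B x) := by
          induction x using TensorProduct.induction_on with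
          | zero => simp
          | tmul s b => simp [ψ, Algebra.TensorProduct.map_tmul, Algebra.TensorProduct.lid_symm_apply, LinearMap.rTensor_tmul]
          | add x y hx hy => simp only [map_add, hx, hy]
        have hlid : ∀ r : A ⊗[A] S, Algebra.TensorProduct.lid A S' (ψ r) = φ (Algebra.TensorProduct.lid A S r) := by
          intro r
          induction r using TensorProduct.induction_on with
          | zero => simp
          | tmul a s => simp [ψ, Algebra.TensorProduct.map_tmul, Algebra.TensorProduct.lid_tmul]
          | add x y hx hy => simp only [map_add, hx, hy]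
        show φ.toLinearMap.rTensor A (Groth.Agent.PolLawLib.detPS π σ S x) = Groth.Agent.PolLawLib.detPS π σ S' (φ.toLinearMap.rTensor B x)
        unfold Groth.Agent.PolLawLib.detPS
        rw [LinearMap.rTensor_tmul, ← hψ, Groth.Agent.PolLawLib.detP_map π σ ψ, AlgHom.toLinearMap_apply, hlid] }
  refine ⟨F, ⟨fun S _ _ => ⟨?_, fun x y => ?_⟩, fun S _ _ _ x => ?_⟩, fun G hG => ?_⟩
  · show Groth.Agent.PolLawLib.detPS π σ S 1 = 1
    unfold Groth.Agent.PolLawLib.detPS
    have h : PolLaw.toRing A B S 1 = 1 := by
      simp [Algebra.TensorProduct.one_def, Algebra.TensorProduct.map_tmul, Algebra.TensorProduct.lid_symm_apply]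
    rw [h, Groth.Agent.PolLawLib.detP_one, map_one]
    rfl
  · show Groth.Agent.PolLawLib.detPS π σ S (x * y) =
      Groth.Agent.PolLawLib.detPS π σ S x * Groth.Agent.PolLawLib.detPS π σ S y
    unfold Groth.Agent.PolLawLib.detPS
    rw [map_mul, Groth.Agent.PolLawLib.detP_mul hσ, map_mul, Algebra.TensorProduct.tmul_mul_tmul, mul_one]
  · haveI : Module.Free S (S ⊗[A] M) := Module.free_of_flat_of_isLocalRing
    show Groth.Agent.PolLawLib.detPS π σ S x = _
    rw [Groth.Agent.PolLawLib.detPS_eq, Groth.Agent.PolLawLib.detP_eq_detAct hσ]
  · ext S i j x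
    letI : CommRing S := { (inferInstance : CommSemiring S), Algebra.semiringToRing A (A := S) with }
    refine (Algebra.TensorProduct.rid A A S).injective (Groth.Agent.PolLawLib.eq_of_forall_atPrime fun J hJ => ?_)
    let ψ := IsScalarTower.toAlgHom A S (Localization.AtPrime J)
    have hn : ∀ z : S ⊗[A] A, ψ (Algebra.TensorProduct.rid A A S z) =
        Algebra.TensorProduct.rid A A _ (ψ.toLinearMap.rTensor A z) := fun z => by
      induction z using TensorProduct.induction_on with
      | zero => simp
      | tmul a b => simp [LinearMap.rTensor_tmul]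
      | add a b ha hb => simp only [map_add, ha, hb]
    show ψ _ = ψ _
    rw [hn, hn, PolynomialLaw.isCompat_apply' (f := G) ψ, PolynomialLaw.isCompat_apply' (f := F) ψ, hG.2]
    congr 1
    haveI : Module.Free (Localization.AtPrime J) (Localization.AtPrime J ⊗[A] M) :=
      Module.free_of_flat_of_isLocalRing (R := Localization.AtPrime J) (P := Localization.AtPrime J ⊗[A] M)
    show _ = Groth.Agent.PolLawLib.detPS π σ _ _
    rw [Groth.Agent.PolLawLib.detPS_eq, Groth.Agent.PolLawLib.detP_eq_detAct hσ]
end Groth.Agent.S19867
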