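import Groth.Statements.S19868
import Groth.Agent.PLieLib.Dual

set_option autoImplicit false
universe u v
open PLie

namespace Groth.Agent.S19868

set_option maxHeartbeats 1000000

open DualNumber in
/-- Let K be a field of prime characteristic p, K[ε] the ring of dual numbers (taken with its
characteristic-p structure) and a, …, i ∈ K. Let L be a Lie algebra over K[ε], free as a module with
basis x = bs 0, y = bs 1, z = bs 2 and brackets [x,y] = aε x + bε y + cε z, [x,z] = dε x + eε y + fε
z, [y,z] = (1 + gε) x + hε y + iε z, a first-order deformation of the Heisenberg algebra (the Jacobi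
identity forces b + f = 0). Then L carries a p-mapping over K[ε] if and only if b = c = e = 0 when p
= 2; for odd p there is no condition. (The published statement is about the singularity of the point
h_3 in the restrictable locus of the rank-one-centre stratum of the moduli scheme of based
three-dimensional Lie algebras over the prime field; this row states the restrictability criterion
for the first-order deformations of h_3 asserted in its proof, over any field of characteristic p in
place of the prime field.) -/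
theorem result (K : Type u) [Field K] (p : ℕ) [Fact p.Prime] [CharP K p]
    [CharP (DualNumber K) p] (a b c d e f g h i : K)
    (L : Type v) [LieRing L] [LieAlgebra (DualNumber K) L] (bs : Module.Basis (Fin 3) (DualNumber K) L)
    (hxy : ⁅bs 0, bs 1⁆ = (a • ε : DualNumber K) • bs 0 + (b • ε : DualNumber K) • bs 1 + (c • ε : DualNumber K) • bs 2)
    (hxz : ⁅bs 0, bs 2⁆ = (d • ε : DualNumber K) • bs 0 + (e • ε : DualNumber K) • bs 1 + (f • ε : DualNumber K) • bs 2)
    (hyz : ⁅bs 1, bs 2⁆ = (1 + g • ε : DualNumber K) • bs 0 + (h • ε : DualNumber K) • bs 1 + (i • ε : DualNumber K) • bs 2) :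
    Nonempty (PLie.PMap (DualNumber K) p L) ↔ (p = 2 → b = 0 ∧ c = 0 ∧ e = 0) := by
  have T : PLieLib.Table bs ![0, 0, ![1, 0, 0]] ![![a, b, c], ![d, e, f], ![g, h, i]] := by
    refine ⟨fun j => ?_, fun j => ?_, fun j => ?_⟩ <;> fin_cases j <;> simp [hxy, hxz, hyz]
  have hbf : b + f = 0 := by
    have := congrArg (fun u => PLieLib.sc bs u 0) (lie_jacobi (bs 0) (bs 1) (bs 2))
    simp [T.fc_lie, T.sc_lie] at this
    linear_combination -this
  constructor
  · rintro ⟨φ⟩ rfl
    have key : ∀ (k j m : Fin 3), PLieLib.fc bs ⁅φ (bs k), bs j⁆ m = PLieLib.fc bs ⁅bs k, ⁅bs k, bs j⁆⁆ m ∧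
        PLieLib.sc bs ⁅φ (bs k), bs j⁆ m = PLieLib.sc bs ⁅bs k, ⁅bs k, bs j⁆⁆ m := fun k j m => by
      rw [PLieLib.lie_pmap, pow_two, Module.End.mul_apply, LieAlgebra.ad_apply, LieAlgebra.ad_apply]
      exact ⟨rfl, rfl⟩
    have U2 := (key 1 1 0).1
    have U1 := (key 1 2 0).1
    have W2 := (key 2 1 0).1
    have W1 := (key 2 2 0).1
    simp [T.fc_lie] at U2 U1 W2 W1
    have ec := (key 1 0 0).2
    have ee := (key 2 0 0).2
    have eb := (key 1 2 1).2
    simp [T.fc_lie, T.sc_lie, U2, U1, W2, W1] at ec ee eb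
    grind
  · intro h2
    have hp : p = 2 ∨ p = 3 ∨ 4 ≤ p := by have := (Fact.out : p.Prime).two_le; omega
    let A := fun k : Fin 3 => LieAlgebra.ad (DualNumber K) L (bs k)
    let Q : Fin 3 → Fin 3 → Fin 3 → K :=
      ![0, ![![-c, 0, 0], 0, ![i - a, -b, -c]], ![![e, 0, 0], ![d + h, e, f], 0]]
    have hA2 : ∀ k j l, PLieLib.fc bs ((A k ^ 2) (bs j)) l = 0 ∧ PLieLib.sc bs ((A k ^ 2) (bs j)) l = Q k j l := by
      intro k j l
      rw [pow_two, Module.End.mul_apply]
      fin_cases k <;> fin_cases j <;> fin_cases l <;> simp [A, Q, T.fc_lie, T.sc_lie] <;> ring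
    let Q3 : Fin 3 → Fin 3 → Fin 3 → K := ![0, ![0, 0, ![-c, 0, 0]], ![0, ![-e, 0, 0], 0]]
    have hA3 : ∀ k j l, PLieLib.fc bs ((A k ^ 3) (bs j)) l = 0 ∧ PLieLib.sc bs ((A k ^ 3) (bs j)) l = Q3 k j l := by
      intro k j l
      rw [pow_succ', Module.End.mul_apply]
      simp only [A, LieAlgebra.ad_apply, T.fc_lie, T.sc_lie, fun l => (hA2 k j l).1, fun l => (hA2 k j l).2]
      fin_cases k <;> fin_cases j <;> fin_cases l <;> simp [Q, Q3]
    have h4 : ∀ n, 4 ≤ n → ∀ k j : Fin 3, (A k ^ n) (bs j) = 0 := by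
      intro n hn k j
      obtain ⟨m, rfl⟩ := Nat.exists_eq_add_of_le' hn
      rw [pow_add, Module.End.mul_apply]
      have : (A k ^ 4) (bs j) = 0 := by
        refine PLieLib.ext6 bs fun l => ?_
        rw [pow_succ', Module.End.mul_apply]
        simp only [A, LieAlgebra.ad_apply, T.fc_lie, T.sc_lie, fun l => (hA3 k j l).1, fun l => (hA3 k j l).2]
        fin_cases k <;> fin_cases j <;> fin_cases l <;> simp [Q3]
      rw [this, map_zero]
    obtain ⟨φ, -⟩ := PLieLib.exists_pmap p bs
      ![0, (if p = 2 then (i - a) • ε else if p = 3 then -(c • ε) else 0 : DualNumber K) • bs 1,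
        (if p = 2 then -((d + h) • ε) else if p = 3 then e • ε else 0 : DualNumber K) • bs 2]
      fun k => bs.ext fun j => PLieLib.ext6 bs fun l => by
        change PLieLib.fc bs ((A k ^ p) (bs j)) l = _ ∧ PLieLib.sc bs ((A k ^ p) (bs j)) l = _
        rw [LieAlgebra.ad_apply]
        rcases hp with rfl | rfl | hp
        · obtain ⟨hb, hc, he⟩ := h2 rfl
          have hf : f = 0 := by linear_combination hbf - hb
          rw [(hA2 k j l).1, (hA2 k j l).2]
          fin_cases k <;> fin_cases j <;> fin_cases l <;> simp [Q, T.fc_lie, T.sc_lie, hb, hc, he, hf]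
        · rw [(hA3 k j l).1, (hA3 k j l).2]
          fin_cases k <;> fin_cases j <;> fin_cases l <;> simp [Q3, T.fc_lie, T.sc_lie]
        · rw [h4 p hp, if_neg (by omega), if_neg (by omega), if_neg (by omega), if_neg (by omega)]
          fin_cases k <;> simp
    exact ⟨φ⟩

end Groth.Agent.S19868
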