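import Groth.Statements.S1987
import Mathlib.RingTheory.Polynomial.Eisenstein.Basic
import Mathlib.RingTheory.DiscreteValuationRing.TFAE
import Mathlib.RingTheory.Ideal.GoingUp
import Mathlib.RingTheory.AdjoinRoot

set_option autoImplicit false
set_option linter.all false
universe u
open Polynomial
open EtAlg

namespace Groth.Agent.S1987

/-- Let A be a discrete valuation ring with uniformizer π and n ≥ 2, and let A' = A[x]/(x^n - π). Then
x^n - π is irreducible over A, A' is an integrally closed discrete valuation ring (so it is the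
integral closure of A in its fraction field K₁ = K(π^{1/n}), of degree n over K), the maximal ideal
of A generates the n-th power of the maximal ideal of A' (ramification index n), and K₁ is totally
ramified with respect to A. -/
theorem result (A : Type u) [CommRing A] [IsDomain A] [IsDiscreteValuationRing A] (π : A)
    (hπ : Irreducible π) (n : ℕ) (hn : 2 ≤ n) :
    Irreducible (X ^ n - C π : A[X]) ∧
    ∃ (_ : IsDomain (AdjoinRoot (X ^ n - C π : A[X]))) (_ : IsDiscreteValuationRing (AdjoinRoot (X ^ n - C π : A[X]))),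
      IsIntegrallyClosed (AdjoinRoot (X ^ n - C π : A[X])) ∧
      (IsLocalRing.maximalIdeal A).map (algebraMap A (AdjoinRoot (X ^ n - C π : A[X]))) = IsLocalRing.maximalIdeal (AdjoinRoot (X ^ n - C π : A[X])) ^ n ∧
      ∀ (K₁ : Type u) [Field K₁] [Algebra (AdjoinRoot (X ^ n - C π : A[X])) K₁] [IsFractionRing (AdjoinRoot (X ^ n - C π : A[X])) K₁],
        EtRam.IsTotallyRamified A ((algebraMap (AdjoinRoot (X ^ n - C π : A[X])) K₁).comp (algebraMap A (AdjoinRoot (X ^ n - C π : A[X])))) := by
  classical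
  have hn0 : n ≠ 0 := by omega
  set P : A[X] := X ^ n - C π with hP
  have hmonic : P.Monic := monic_X_pow_sub_C π hn0
  have hmax : IsLocalRing.maximalIdeal A = Ideal.span {π} := hπ.maximalIdeal_eq
  have hdeg : P.natDegree = n := natDegree_X_pow_sub_C
  have heis : P.IsEisensteinAt (IsLocalRing.maximalIdeal A) := by
    refine ⟨?_, fun {i} hi => ?_, ?_⟩
    · rw [hmonic.leadingCoeff]
      exact Ideal.ne_top_iff_one _ |>.mp (Ideal.IsPrime.ne_top inferInstance)
    · rw [hdeg] at hi
      rw [hmax, hP, coeff_sub, coeff_X_pow, if_neg (ne_of_lt hi), zero_sub, coeff_C]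
      split_ifs
      · exact Submodule.neg_mem _ (Ideal.mem_span_singleton_self π)
      · simp
    · rw [hP, coeff_sub, coeff_X_pow, if_neg (Ne.symm hn0), zero_sub, coeff_C, if_pos rfl, hmax,
        Ideal.span_singleton_pow, Ideal.mem_span_singleton, dvd_neg]
      intro h
      have := (pow_dvd_pow π (show 1 ≤ 1 by norm_num))
      rw [sq] at h
      obtain ⟨c, hc⟩ := h
      exact hπ.not_isUnit (IsUnit.of_mul_eq_one c
        (mul_left_cancel₀ hπ.ne_zero (by rw [mul_one, ← mul_assoc, ← hc])))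
  have hirr : Irreducible P :=
    heis.irreducible inferInstance hmonic.isPrimitive (by omega)
  refine ⟨hirr, ?_⟩
  haveI hdom : IsDomain (AdjoinRoot P) := AdjoinRoot.isDomain_of_prime hirr.prime
  haveI : Module.Finite A (AdjoinRoot P) := hmonic.finite_adjoinRoot
  haveI : Module.Free A (AdjoinRoot P) := hmonic.free_adjoinRoot
  haveI : IsNoetherianRing (AdjoinRoot P) := IsNoetherianRing.of_finite A _
  set α : AdjoinRoot P := AdjoinRoot.root P with hα
  have hαn : α ^ n = algebraMap A (AdjoinRoot P) π := by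
    have := AdjoinRoot.eval₂_root P
    rw [hP, eval₂_sub, eval₂_pow, eval₂_X, eval₂_C, sub_eq_zero] at this
    rw [AdjoinRoot.algebraMap_eq]
    exact this
  have hrep : ∀ x : AdjoinRoot P, ∃ a : A, x - algebraMap A _ a ∈ Ideal.span {α} := by
    intro x
    obtain ⟨q, rfl⟩ := AdjoinRoot.mk_surjective x
    refine ⟨q.coeff 0, Ideal.mem_span_singleton.mpr ?_⟩
    rw [AdjoinRoot.algebraMap_eq, ← AdjoinRoot.mk_C, ← map_sub, hα, ← AdjoinRoot.mk_X]
    exact map_dvd _ (X_dvd_sub_C)
  have hinj : Function.Injective (algebraMap A (AdjoinRoot P)) := FaithfulSMul.algebraMap_injective _ _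
  have hπ0 : algebraMap A (AdjoinRoot P) π ≠ 0 := (map_ne_zero_iff _ hinj).mpr hπ.ne_zero
  have hα0 : α ≠ 0 := fun h => hπ0 (by rw [← hαn, h, zero_pow hn0])
  have hαu : ¬ IsUnit α := fun h => hπ.not_isUnit (by
    have h2 : IsUnit (algebraMap A (AdjoinRoot P) π) := hαn ▸ h.pow n
    exact (Algebra.IsIntegral.isLocalHom A (AdjoinRoot P)).map_nonunit _ h2)
  have hM : (Ideal.span {α}).IsMaximal := by
    refine Ideal.isMaximal_iff.mpr ⟨fun h => hαu ?_, fun J x hle hx hxJ => ?_⟩
    · exact isUnit_iff_dvd_one.mpr (Ideal.mem_span_singleton.mp h)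
    obtain ⟨a, ha⟩ := hrep x
    have hau : IsUnit a := by
      by_contra hau
      have : a ∈ Ideal.span {π} := hmax ▸ (IsLocalRing.mem_maximalIdeal a).mpr hau
      obtain ⟨c, rfl⟩ := Ideal.mem_span_singleton'.mp this
      refine hx (sub_add_cancel x (algebraMap A (AdjoinRoot P) (c * π)) ▸ Ideal.add_mem _ ha ?_)
      rw [map_mul, ← hαn]
      exact Ideal.mul_mem_left _ _ (Ideal.mem_span_singleton.mpr (dvd_pow_self α hn0))
    have hJ : algebraMap A (AdjoinRoot P) a ∈ J := by
      have := J.sub_mem hxJ (hle ha); rwa [sub_sub_cancel] at this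
    have := J.mul_mem_left (↑(hau.map (algebraMap A (AdjoinRoot P))).unit⁻¹ : AdjoinRoot P) hJ
    rwa [IsUnit.val_inv_mul] at this
  haveI hloc : IsLocalRing (AdjoinRoot P) := by
    refine IsLocalRing.of_unique_max_ideal ⟨_, hM, fun N hN => (hM.eq_of_le hN.ne_top ?_).symm⟩
    rw [Ideal.span_singleton_le_iff_mem]
    refine hN.isPrime.mem_of_pow_mem n ?_
    rw [hαn, ← Ideal.mem_comap]
    have : (N.comap (algebraMap A (AdjoinRoot P))).IsMaximal :=
      Ideal.isMaximal_comap_of_isIntegral_of_isMaximal (R := A) N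
    rw [IsLocalRing.eq_maximalIdeal this, hmax]
    exact Ideal.mem_span_singleton_self π
  have hmA : IsLocalRing.maximalIdeal (AdjoinRoot P) = Ideal.span {α} :=
    (IsLocalRing.eq_maximalIdeal hM).symm
  have hnf : ¬ IsField (AdjoinRoot P) := fun h => by
    have := IsLocalRing.isField_iff_maximalIdeal_eq.mp h
    rw [hmA, Ideal.span_singleton_eq_bot] at this
    exact hα0 this
  haveI hdvr : IsDiscreteValuationRing (AdjoinRoot P) :=
    ((IsDiscreteValuationRing.TFAE (AdjoinRoot P) hnf).out 4 0).mp (show (IsLocalRing.maximalIdeal (AdjoinRoot P)).IsPrincipal from ⟨α, hmA⟩)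
  refine ⟨hdom, hdvr, inferInstance, ?_, fun K₁ _ _ _ => ?_⟩
  · rw [hmax, Ideal.map_span, Set.image_singleton, hmA, Ideal.span_singleton_pow, hαn]
  set ι := algebraMap (AdjoinRoot P) K₁
  let V₀ : ValuationSubring K₁ :=
    { ι.range with
      mem_or_inv_mem' := fun x => by
        rcases ValuationRing.isInteger_or_isInteger (AdjoinRoot P) x with h | h
        · exact Or.inl h
        · exact Or.inr h }
  have hdom₀ : EtRam.Dominates A (ι.comp (algebraMap A (AdjoinRoot P))) V₀ := by
    refine ⟨fun a => ⟨algebraMap A (AdjoinRoot P) a, rfl⟩, fun a ha => ?_⟩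
    show (ι.comp (algebraMap A (AdjoinRoot P))) a ∈ V₀.nonunits
    rw [ValuationSubring.mem_nonunits_iff_or]
    by_cases h0 : ι (algebraMap A (AdjoinRoot P) a) = 0
    · exact Or.inl h0
    refine Or.inr fun h => ?_
    obtain ⟨y, hy⟩ := h
    have h1 : algebraMap A (AdjoinRoot P) a * y = 1 := by
      refine IsFractionRing.injective (AdjoinRoot P) K₁ ?_
      rw [map_mul, map_one, hy]
      exact mul_inv_cancel₀ h0
    exact (IsLocalRing.mem_maximalIdeal a).mp ha
      ((Algebra.IsIntegral.isLocalHom A (AdjoinRoot P)).map_nonunit _ (IsUnit.of_mul_eq_one _ h1))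
  have key : ∀ V : ValuationSubring K₁, EtRam.Dominates A (ι.comp (algebraMap A (AdjoinRoot P))) V →
      (∀ r : (AdjoinRoot P), ι r ∈ V) ∧ V.valuation (ι α) < 1 ∧ V = V₀ := by
    intro V hV
    have hαlt : V.valuation (ι α) < 1 := by
      have h := hV.2 π (hmax ▸ Ideal.mem_span_singleton_self π)
      rw [RingHom.comp_apply, ← hαn, map_pow, map_pow] at h
      exact lt_of_not_ge fun hge => not_le.mpr h (one_le_pow₀ hge)
    have hαV : ι α ∈ V := (V.valuation_le_one_iff _).mp hαlt.le
    have hmem : ∀ r : (AdjoinRoot P), ι r ∈ V := by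
      intro r
      obtain ⟨q, rfl⟩ := AdjoinRoot.mk_surjective r
      induction q using Polynomial.induction_on' with
      | add p q hp hq => rw [map_add, map_add]; exact V.add_mem _ _ hp hq
      | monomial k a =>
        rw [← C_mul_X_pow_eq_monomial, map_mul, map_pow, AdjoinRoot.mk_C, AdjoinRoot.mk_X, map_mul, map_pow]
        exact V.mul_mem _ _ (hV.1 a) (pow_mem hαV k)
    refine ⟨hmem, hαlt, ?_⟩
    ext x
    refine ⟨fun hx => ?_, fun hx => ?_⟩
    · rcases ValuationRing.isInteger_or_isInteger (AdjoinRoot P) x with h | ⟨a, ha⟩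
      · exact h
      by_cases hau : IsUnit a
      · obtain ⟨u, rfl⟩ := hau
        refine ⟨(↑u⁻¹ : (AdjoinRoot P)), ?_⟩
        change ι _ = x
        refine inv_injective ?_
        rw [← ha, ← map_units_inv, inv_inv]
      · by_cases hx0 : x = 0
        · exact ⟨0, by rw [hx0]; exact map_zero ι⟩
        exfalso
        have : a ∈ Ideal.span {α} := hmA.le ((IsLocalRing.mem_maximalIdeal a).mpr hau)
        obtain ⟨b, rfl⟩ := Ideal.mem_span_singleton'.mp this
        change ι (b * α) = x⁻¹ at ha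
        have h1 : V.valuation x * (V.valuation (ι b) * V.valuation (ι α)) = 1 := by
          rw [← map_mul, ← map_mul, ← map_mul ι, ha, mul_inv_cancel₀ hx0, map_one]
        have h2 : V.valuation (ι b) * V.valuation (ι α) < 1 :=
          lt_of_le_of_lt (mul_le_of_le_one_left' ((V.valuation_le_one_iff _).mpr (hmem b))) hαlt
        exact (lt_of_le_of_lt (mul_le_of_le_one_left' ((V.valuation_le_one_iff _).mpr hx)) h2).ne h1
    · obtain ⟨r, rfl⟩ := hx
      exact hmem r
  refine ⟨⟨V₀, hdom₀⟩, fun V V' h h' => (key V h).2.2.trans (key V' h').2.2.symm, fun V hV y => ?_⟩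
  obtain ⟨v, rfl⟩ := IsLocalRing.residue_surjective y
  obtain ⟨hmem, hαlt, hV₀⟩ := key V hV
  obtain ⟨r, hr⟩ : (v : K₁) ∈ V₀ := hV₀ ▸ v.2
  obtain ⟨a, ha⟩ := hrep r
  refine ⟨a, ?_⟩
  rw [eq_comm, ← sub_eq_zero, ← map_sub, IsLocalRing.residue_eq_zero_iff, V.valuation_lt_one_iff]
  obtain ⟨b, hb⟩ := Ideal.mem_span_singleton'.mp ha
  show V.valuation ((v : K₁) - ι (algebraMap A (AdjoinRoot P) a)) < 1
  rw [← hr, show ι r - ι (algebraMap A (AdjoinRoot P) a) = ι b * ι α by rw [← map_sub, ← hb, map_mul], map_mul]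
  exact lt_of_le_of_lt (mul_le_of_le_one_left' ((V.valuation_le_one_iff _).mpr (hmem b))) hαlt

end Groth.Agent.S1987
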