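import Groth.Statements.S1988
import Groth.Agent.HenselLib.ExtValuation

set_option autoImplicit false
set_option linter.all false
universe u
open EtAlg

namespace Groth.Agent.S1988

/-- Let A -> B -> C be extensions of discrete valuation rings (local injective maps) with fraction
fields K ⊂ L ⊂ M₀ and K₁/K a finite extension. (The solution predicates mention only B, C and the
fields: in them the bottom ring is recovered as B ∩ K, which the hypotheses on A force to be A.) If
K₁ is a weak solution (resp. a solution) for A -> C then it is a weak solution (resp. a solution)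
for A -> B. -/
theorem result (A B C K L M₀ K₁ : Type u) [CommRing A] [IsDomain A] [IsDiscreteValuationRing A]
    [CommRing B] [IsDomain B] [IsDiscreteValuationRing B] [Algebra A B] [IsLocalHom (algebraMap A B)]
    (hinjA : Function.Injective (algebraMap A B))
    [CommRing C] [IsDomain C] [IsDiscreteValuationRing C] [Algebra B C] [IsLocalHom (algebraMap B C)]
    (hinj : Function.Injective (algebraMap B C))
    [Field K] [Field L] [Field M₀] [Field K₁] [Algebra K L] [Algebra K M₀] [Algebra L M₀] [IsScalarTower K L M₀]
    [Algebra K K₁] [FiniteDimensional K K₁] [Algebra A K] [IsFractionRing A K]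
    [Algebra B L] [IsFractionRing B L] [Algebra A L] [IsScalarTower A K L] [IsScalarTower A B L]
    [Algebra C M₀] [IsFractionRing C M₀] [Algebra B M₀]
    [IsScalarTower B C M₀] [IsScalarTower B L M₀] :
    (EtRam.IsWeakSolution C K M₀ K₁ → EtRam.IsWeakSolution B K L K₁) ∧
    (EtRam.IsSolution C K M₀ K₁ → EtRam.IsSolution B K L K₁) := by
  have main : ∀ (M : Type u) [Field M] [Algebra K M] [Algebra L M] [Algebra K₁ M] [IsScalarTower K L M]
      [IsScalarTower K K₁ M], Algebra.adjoin L (Set.range (algebraMap K₁ M)) = ⊤ →
      ∀ W : ValuationSubring M, EtRam.Dominates B ((algebraMap L M).comp (algebraMap B L)) W →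
      ∀ (P : ∀ (M : Type u) [Field M], ValuationSubring M → (K₁ →+* M) → Prop),
        EtRam.ForallLocalExt C K M₀ K₁ P →
        ∃ (M' : Type u) (_ : Field M') (j : M →+* M') (W' : ValuationSubring M'),
          W = W'.comap j ∧ P M' W' (j.comp (algebraMap K₁ M)) := by
    intro M _ _ _ _ _ _ hgen W hW P hP
    have : Algebra.IsAlgebraic L M := by
      have h : ∀ x ∈ Set.range (algebraMap K₁ M), IsIntegral L x := by
        rintro _ ⟨y, rfl⟩
        exact ((Algebra.IsIntegral.isIntegral (R := K) y).map (IsScalarTower.toAlgHom K K₁ M)).tower_top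
      have := Algebra.IsIntegral.adjoin h
      rw [hgen] at this
      exact ⟨fun x => ((isIntegral_algHom_iff (Subalgebra.val (⊤ : Subalgebra L M)) Subtype.val_injective).mpr
        (this.isIntegral ⟨x, trivial⟩)).isAlgebraic⟩
    obtain ⟨M', _, i, j, W', hij, hgen', hW', hcomap⟩ :=
      Groth.Agent.HenselLib.ExtValuation.exists_compositum (C := C) (M₀ := M₀) hinj hgen W hW
    refine ⟨M', inferInstance, j, W', hcomap.symm, ?_⟩
    letI : Algebra M₀ M' := i.toAlgebra
    letI : Algebra K M' := (i.comp (algebraMap K M₀)).toAlgebra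
    letI : Algebra K₁ M' := (j.comp (algebraMap K₁ M)).toAlgebra
    haveI : IsScalarTower K M₀ M' := .of_algebraMap_eq fun _ => rfl
    haveI : IsScalarTower K K₁ M' := .of_algebraMap_eq fun x => by
      show i (algebraMap K M₀ x) = j (algebraMap K₁ M (algebraMap K K₁ x))
      rw [← IsScalarTower.algebraMap_apply K K₁ M, IsScalarTower.algebraMap_apply K L M,
        IsScalarTower.algebraMap_apply K L M₀]
      exact congr($hij (algebraMap K L x))
    refine hP M' ?_ W' hW'
    rw [← hgen', ← Set.range_comp]
    rfl
  have hwu : ∀ (M M' : Type u) [Field M] [Field M'] (f : K₁ →+* M) (j : M →+* M') (W' : ValuationSubring M'),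
      (letI : Algebra (W'.comap (j.comp f)) W' := (EtRam.inclOfComap W' (j.comp f)).toAlgebra
       EtRam.IsWeaklyUnramified (W'.comap (j.comp f)) W') →
      (letI : Algebra ((W'.comap j).comap f) (W'.comap j) := (EtRam.inclOfComap (W'.comap j) f).toAlgebra
       EtRam.IsWeaklyUnramified ((W'.comap j).comap f) (W'.comap j)) := by
    intro M M' _ _ f j W' h
    letI : Algebra ((W'.comap j).comap f) (W'.comap j) := (EtRam.inclOfComap (W'.comap j) f).toAlgebra
    letI : Algebra ((W'.comap j).comap f) W' := (EtRam.inclOfComap W' (j.comp f)).toAlgebra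
    have h' : (IsLocalRing.maximalIdeal ((W'.comap j).comap f)).map
        (algebraMap ((W'.comap j).comap f) W') = IsLocalRing.maximalIdeal W' := h
    refine le_antisymm (Ideal.map_le_iff_le_comap.mpr fun v hv => ?_) fun x hx => ?_
    · exact (IsLocalRing.mem_maximalIdeal _).mpr fun hu => (IsLocalRing.mem_maximalIdeal _).mp hv
        ((isUnit_map_iff (EtRam.inclOfComap (W'.comap j) f) v).mp hu)
    · have hx' : (EtRam.inclOfComap W' j) x ∈ IsLocalRing.maximalIdeal W' :=
        (IsLocalRing.mem_maximalIdeal _).mpr fun hu => (IsLocalRing.mem_maximalIdeal _).mp hx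
          ((isUnit_map_iff (EtRam.inclOfComap W' j) x).mp hu)
      rw [← h'] at hx'
      obtain ⟨T, hT, hTx⟩ := Submodule.mem_span_finite_of_mem_span hx'
      choose pre hpre hpre' using fun t : T => hT t.2
      obtain ⟨a, ha⟩ := IsBezout.isPrincipal_of_FG (Ideal.span (Set.range pre))
        (Submodule.fg_span (Set.finite_range pre))
      change Ideal.span (Set.range pre) = Ideal.span {a} at ha
      have ham : a ∈ IsLocalRing.maximalIdeal ((W'.comap j).comap f) := by
        have : Ideal.span (Set.range pre) ≤ IsLocalRing.maximalIdeal _ :=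
          Ideal.span_le.mpr (by rintro _ ⟨t, rfl⟩; exact hpre t)
        exact this (ha ▸ Ideal.mem_span_singleton_self a)
      have hx'' : EtRam.inclOfComap W' j x ∈ Ideal.span {algebraMap ((W'.comap j).comap f) W' a} := by
        refine (Ideal.span_le.mpr ?_) hTx
        intro t ht
        have h2 : pre ⟨t, ht⟩ ∈ Ideal.span {a} := ha ▸ Ideal.subset_span ⟨_, rfl⟩
        rw [Ideal.mem_span_singleton] at h2
        rw [SetLike.mem_coe, Ideal.mem_span_singleton]
        exact (map_dvd _ h2).trans (hpre' ⟨t, ht⟩).dvd
      obtain ⟨y, hy⟩ := Ideal.mem_span_singleton'.mp hx''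
      have hy' : (y : M') * j (f (a : K₁)) = j (x : M) := congrArg Subtype.val hy
      by_cases h0 : f (a : K₁) = 0
      · rw [h0, map_zero, mul_zero] at hy'
        have hx0 : x = 0 := Subtype.ext ((map_eq_zero j).mp hy'.symm)
        rw [hx0]; exact zero_mem _
      · have hmem : (x : M) / f (a : K₁) ∈ W'.comap j := by
          show j _ ∈ W'
          rw [map_div₀, ← hy', mul_div_assoc, div_self (fun h1 => h0 ((map_eq_zero j).mp h1)), mul_one]
          exact y.2
        have : x = algebraMap ((W'.comap j).comap f) (W'.comap j) a * ⟨_, hmem⟩ :=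
          Subtype.ext (mul_div_cancel₀ _ h0).symm
        rw [this]
        exact Ideal.mul_mem_right _ _ (Ideal.mem_map_of_mem _ ham)
  refine ⟨fun hsol M _ _ _ _ _ _ hgen W hW => ?_, fun hsol M _ _ _ _ _ _ hgen W hW => ?_⟩
  · obtain ⟨M', _, j, W', rfl, hP⟩ := main M hgen W hW _ hsol
    exact hwu M M' (algebraMap K₁ M) j W' hP
  · obtain ⟨M', _, j, W', rfl, hP⟩ := main M hgen W hW _ hsol
    refine ⟨hwu M M' (algebraMap K₁ M) j W' hP.1, ?_⟩
    have hP2 := hP.2
    letI a1 : Algebra (IsLocalRing.ResidueField ((W'.comap j).comap (algebraMap K₁ M))) (IsLocalRing.ResidueField W') :=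
      (IsLocalRing.ResidueField.map (EtRam.inclOfComap W' (j.comp (algebraMap K₁ M)))).toAlgebra
    letI a2 : Algebra (IsLocalRing.ResidueField ((W'.comap j).comap (algebraMap K₁ M))) (IsLocalRing.ResidueField (W'.comap j)) :=
      (IsLocalRing.ResidueField.map (EtRam.inclOfComap (W'.comap j) (algebraMap K₁ M))).toAlgebra
    haveI : Algebra.IsGeometricallyReduced (IsLocalRing.ResidueField ((W'.comap j).comap (algebraMap K₁ M)))
      (IsLocalRing.ResidueField W') := hP2
    exact Algebra.IsGeometricallyReduced.of_injective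
      ({ IsLocalRing.ResidueField.map (EtRam.inclOfComap W' j) with
         commutes' := fun r => by
           obtain ⟨y, rfl⟩ := IsLocalRing.residue_surjective r
           rfl } : IsLocalRing.ResidueField (W'.comap j) →ₐ[IsLocalRing.ResidueField ((W'.comap j).comap (algebraMap K₁ M))] IsLocalRing.ResidueField W')
      (RingHom.injective _)

end Groth.Agent.S1988
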