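import Groth.Statements.S19880
import Groth.Agent.CurveRR24.AlgClosed
import Groth.Agent.CurveRR24.GenusZero
import Groth.Agent.CurveRR24.SmoothPoint
import Groth.Agent.CurveRR24.Degree
import Groth.Agent.AbVarLib.GeomIntegralSmooth
import Groth.Agent.NeronLib.NormalSmooth
import Groth.Agent.CurveRR24.DoubleCover.Insep
-- import your own Groth.Agent.* helpers here

set_option autoImplicit false
set_option linter.style.haveILetI false
set_option backward.isDefEq.respectTransparency.types false
universe u
open CategoryTheory CategoryTheory.Limits AlgebraicGeometry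
open JacVar

namespace Groth.Agent.S19880

open CategoryTheory CategoryTheory.Limits AlgebraicGeometry TopologicalSpace in
open Groth.Agent Groth.Agent.Coherent Groth.Agent.PicLib Groth.Agent.AmpleLib Groth.Agent.EulerLib in
/-- Let k be a separably closed field, C a smooth proper geometrically connected curve of genus g > 0
over k with a k-rational point, and r > 2g an integer. Then for every effective divisor D of degree
r on C there is an (r − g)-tuple γ = (P_1, …, P_{r−g}) of k-rational points of C with h⁰(D − P_1 − ⋯
− P_{r−g}) = 1; since every invertible module L of degree r > 2g − 2 is of the form O(D) with D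
effective, this is stated as: for every invertible module L of degree r on C there are k-rational
points P_1, …, P_{r−g} with h⁰(C, L ⊗ I_{P_1} ⊗ ⋯ ⊗ I_{P_{r−g}}) = 1. (In the source this is the
statement that the symmetric power C^(r) is the union of the open pieces C^γ.) -/
theorem result (k : Type u) [Field k] [IsSepClosed k]
    (C : Scheme.{u}) [C.Over (Spec (CommRingCat.of k))]
    [IsProper (C ↘ Spec (CommRingCat.of k))] [Smooth (C ↘ Spec (CommRingCat.of k))] [GeometricallyConnected (C ↘ Spec (CommRingCat.of k))]
    (hdim : topologicalKrullDim ↥C = 1)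
    (g : ℕ) (hg : Curv2.genus k C = g) (hg0 : 0 < g)
    (σ₀ : Spec (CommRingCat.of k) ⟶ C) (hσ₀ : σ₀ ≫ (C ↘ Spec (CommRingCat.of k)) = 𝟙 _)
    (r : ℕ) (hr : 2 * g < r)
    (L : C.Modules) (hL : PicF.IsInvertible L) (hLdeg : Curv2.deg k C L 1 = (r : ℤ)) :
    ∃ σ : Fin (r - g) → (Spec (CommRingCat.of k) ⟶ C), (∀ t, σ t ≫ (C ↘ Spec (CommRingCat.of k)) = 𝟙 _) ∧
      Module.finrank k (Coh.HH C (CohB1.tensorMod L (FGA.tensorList (List.ofFn fun t : Fin (r - g) =>
        ClSub.idealMod (σ t).ker))) 0) = 1 := by
  let q := C ↘ Spec (CommRingCat.of k)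
  haveI : GeometricallyIntegral q := AbVarLib.geometricallyIntegral_of_smooth q
  haveI : ConnectedSpace C := GeometricallyConnected.connectedSpace_of_subsingleton q
  haveI : IsIntegral C := CurveRR24.isIntegral_of_normal_connected q
    (NeronLib.isNormalScheme_of_smooth q (CurveRR24.isNormalScheme_spec_field k))
  haveI := isNoetherian_of_proper (X := C) k
  have hO := CurveRR24.h0_structure_of_geomIntegral k (X := C)
  -- peel off one point at a time
  have key : ∀ (n : ℕ) (M : C.Modules), PicF.IsInvertible M → Subsingleton (Coh.HH C M 1) →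
      Module.finrank k (Coh.HH C M 0) = n + 1 →
      ∃ σ : Fin n → (Spec (CommRingCat.of k) ⟶ C), (∀ t, σ t ≫ q = 𝟙 _) ∧
        PicF.IsInvertible (FGA.tensorList (List.ofFn fun t : Fin n => ClSub.idealMod (σ t).ker)) ∧
        Module.finrank k (Coh.HH C (CohB1.tensorMod M (FGA.tensorList (List.ofFn fun t : Fin n =>
          ClSub.idealMod (σ t).ker))) 0) = 1 := by
    intro n
    induction n with
    | zero =>
      intro M hM _ h0
      refine ⟨Fin.elim0, fun t => t.elim0, ?_, ?_⟩
      · rw [List.ofFn_zero]; exact isInvertible_structureModule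
      rw [List.ofFn_zero]
      refine (CurveRR24.finrank_HH_congr k ?_ 0).trans (by rw [h0])
      exact AmpleLib.tensorComm _ _ ≪≫ AmpleLib.unitTensorIso M
    | succ n ih =>
      intro M hM h1 h0
      obtain ⟨σs, hσs⟩ := CurveRR24.exists_ne_zero_of_nontrivial k
        (Module.nontrivial_of_finrank_pos (R := k) (M := Coh.HH C M 0) (by omega))
      obtain ⟨s, hs, hsO⟩ := Et18.SepPointOpen.exists_point_mem q (glocus M σs) (genericPoint C)
        (CurveRR24.genericPoint_mem_glocus hM hσs)
      let pt : Spec (CommRingCat.of k) := (default : PrimeSpectrum k)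
      have hP := CurveRR24.isClosed_section_point s hs pt
      have hI : PicF.IsInvertible (ClSub.idealMod (CurveRR24.ptIdeal (s pt) hP)) :=
        CurveRR24.isInvertible_ptIdeal_of_normal k hdim hP
          ((NeronLib.isNormalScheme_of_smooth q (CurveRR24.isNormalScheme_spec_field k)) (s pt)).2
      let M' := CohB1.tensorMod M (ClSub.idealMod (CurveRR24.ptIdeal (s pt) hP))
      have hM' : PicF.IsInvertible M' := isInvertible_tensorMod hM hI
      obtain ⟨hle, hge⟩ := CurveRR24.h0_tensor_ptIdeal k hP hM
      have hne := CurveRR24.h0_ne_of_mem_glocus k hP hM (hsO pt)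
      have he := CurveRR24.euler_tensor_ptIdeal k hP hM
      rw [CurveRR24.finrank_resField_section s hs pt] at hge he
      rw [CurveRR24.euler_eq_h0_sub_h1 k hdim.le _ (isQCoh_of_isInvertible hM),
        CurveRR24.euler_eq_h0_sub_h1 k hdim.le _ (isQCoh_of_isInvertible hM')] at he
      haveI := h1
      rw [Module.finrank_zero_of_subsingleton (M := Coh.HH C M 1)] at he
      have h0' : Module.finrank k (Coh.HH C M' 0) = n + 1 := by
        change Module.finrank k (Coh.HH C M' 0) ≤ _ at hle
        change _ ≤ Module.finrank k (Coh.HH C M' 0) + 1 at hge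
        change Module.finrank k (Coh.HH C M' 0) ≠ _ at hne
        omega
      haveI := CurveRR24.finite_HH_of_isCoh k (CurveRR24.isCoh_of_isInvertible k hM') 1
      have h1' : Subsingleton (Coh.HH C M' 1) :=
        (Module.finrank_zero_iff (R := k) (M := Coh.HH C M' 1)).1 (by omega)
      obtain ⟨σ, hσ, hl, hone⟩ := ih M' hM' h1' h0'
      refine ⟨Fin.cons s σ, fun t => Fin.cases (by simpa using hs) (fun i => by simpa using hσ i) t, ?_, ?_⟩
      · rw [List.ofFn_succ]
        show PicF.IsInvertible (CohB1.tensorMod (ClSub.idealMod s.ker)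
          (FGA.tensorList (List.ofFn fun i : Fin n => ClSub.idealMod (σ i).ker)))
        rw [CurveRR24.ker_section s hs pt]
        exact isInvertible_tensorMod hI hl
      rw [List.ofFn_succ]
      show Module.finrank k (Coh.HH C (CohB1.tensorMod M (CohB1.tensorMod (ClSub.idealMod s.ker)
        (FGA.tensorList (List.ofFn fun i : Fin n => ClSub.idealMod (σ i).ker)))) 0) = 1
      rw [CurveRR24.ker_section s hs pt]
      obtain ⟨e, -⟩ := AmpleLib.exists_assocIso hM hI hl
      exact (CurveRR24.finrank_HH_congr k e.symm 0).trans hone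
  have hH1 : Subsingleton (Coh.HH C L 1) :=
    CurveRR24.subsingleton_h1_of_deg k hdim.le hO hL (by rw [hg, hLdeg]; omega)
  have hrr := CurveRR24.riemann_roch k hdim.le hL
  rw [hO, hLdeg, hg] at hrr
  haveI := hH1
  rw [Module.finrank_zero_of_subsingleton (M := Coh.HH C L 1)] at hrr
  obtain ⟨σ, hσ, -, h⟩ := key (r - g) L hL hH1 (by omega)
  exact ⟨σ, hσ, h⟩

end Groth.Agent.S19880
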