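import Groth.Statements.S19887
import Groth.Agent.FlatMorAdm.Nagata
import Groth.Agent.LocImm12.Separate
-- import your own Groth.Agent.* helpers here

set_option autoImplicit false
universe u
open LVCorr

namespace Groth.Agent.S19887

open AlgebraicGeometry CategoryTheory CategoryTheory.Limits in
/-- helper anchor -/
theorem unit_nonempty : Nonempty PUnit.{u+1} := ⟨⟨⟩⟩

section Helpers

open AlgebraicGeometry CategoryTheory CategoryTheory.Limits TopologicalSpace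

/-- A compactification of a separated modification which is an isomorphism over an open. -/
theorem exists_proper_extension {S Xt : Scheme.{u}} [IsNoetherian S] (O : S.Opens) (q₁ : Xt ⟶ S)
    [IsSeparated q₁] [LocallyOfFiniteType q₁] [QuasiCompact q₁] (T : Xt.Opens) (hT : T = q₁ ⁻¹ᵁ O)
    (j : (T : Scheme.{u}) ⟶ O) [IsOpenImmersion j] (hj : j ≫ O.ι = T.ι ≫ q₁) :
    ∃ (Y : Scheme.{u}) (π : Y ⟶ S) (e : Xt ⟶ Y), IsProper π ∧ IsIso (π ∣_ O) ∧ IsOpenImmersion e ∧ e ≫ π = q₁ := by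
  haveI : IsLocallyNoetherian Xt := LocallyOfFiniteType.isLocallyNoetherian q₁
  haveI : CompactSpace Xt := QuasiCompact.compactSpace_of_compactSpace q₁
  haveI : IsNoetherian Xt := {}
  haveI : CompactSpace (O : Scheme.{u}) := isCompact_iff_compactSpace.1 (NoetherianSpace.isCompact _)
  haveI : IsNoetherian (O : Scheme.{u}) := {}
  have hcl : IsClosed (Set.range (pullback.lift T.ι j hj.symm : (T : Scheme.{u}) ⟶ pullback q₁ O.ι)) := by
    rw [Set.range_eq_univ.2 fun z => ?_]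
    · exact isClosed_univ
    have hz : pullback.fst q₁ O.ι z ∈ T := by
      rw [hT]
      show q₁ (pullback.fst q₁ O.ι z) ∈ O
      rw [← Scheme.Hom.comp_apply, pullback.condition, Scheme.Hom.comp_apply]
      exact (pullback.snd q₁ O.ι z).2
    refine ⟨⟨_, hz⟩, (pullback.fst q₁ O.ι).isOpenEmbedding.injective ?_⟩
    show pullback.fst q₁ O.ι (pullback.lift T.ι j hj.symm (⟨_, hz⟩ : (T : Scheme.{u}))) = _
    exact (Scheme.Hom.comp_apply _ _ _).symm.trans (by rw [pullback.lift_fst]; rfl)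
  obtain ⟨Z, a, b, p, ha, hb, hab, hap, hbp, hZ, hps, hpl, hpq, hcov, hint⟩ :=
    Groth.Agent.LocImm12.exists_glue_separated T.ι j q₁ O.ι hj.symm hcl
  obtain ⟨P, j₀, π₀, hj₀, hj₀q, hπ₀, hjπ⟩ := Groth.Agent.FlatMorAdm.compactifiable p
  have hed : IsDominant j₀.toImage := inferInstance
  let π : j₀.image ⟶ S := j₀.imageι ≫ π₀
  have hjz : j₀.toImage ≫ π = p := by rw [Scheme.Hom.toImage_imageι_assoc, hjπ]
  refine ⟨j₀.image, π, a ≫ j₀.toImage, inferInstance, ?_, inferInstance, by rw [Category.assoc, hjz, hap]⟩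
  let s : (O : Scheme.{u}) ⟶ j₀.image := b ≫ j₀.toImage
  have hs : s ≫ π = O.ι := by rw [Category.assoc, hjz, hbp]
  have hrange : Set.range s ⊆ (π ⁻¹ᵁ O : Set j₀.image) := by
    rintro _ ⟨x, rfl⟩
    show π (s x) ∈ O
    rw [← Scheme.Hom.comp_apply, hs]
    exact x.2
  let s' : (O : Scheme.{u}) ⟶ (π ⁻¹ᵁ O : j₀.image.Opens) :=
    IsOpenImmersion.lift (π ⁻¹ᵁ O).ι s (by rwa [Scheme.Opens.range_ι])
  have hs' : s' ≫ (π ⁻¹ᵁ O).ι = s := IsOpenImmersion.lift_fac _ _ _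
  have hsec : s' ≫ (π ∣_ O) = 𝟙 _ := by
    rw [← cancel_mono O.ι, Category.assoc, morphismRestrict_ι, reassoc_of% hs', hs, Category.id_comp]
  haveI : IsOpenImmersion (s' ≫ (π ⁻¹ᵁ O).ι) := by rw [hs']; infer_instance
  haveI : IsOpenImmersion s' := IsOpenImmersion.of_comp s' (π ⁻¹ᵁ O).ι
  haveI : IsClosedImmersion (s' ≫ (π ∣_ O)) := by rw [hsec]; infer_instance
  haveI : IsClosedImmersion s' := IsClosedImmersion.of_comp s' (π ∣_ O)
  haveI : IsIso s' := by
    apply (AlgebraicGeometry.isIso_iff_isOpenImmersion_and_epi_base s').2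
    refine ⟨inferInstance, (TopCat.epi_iff_surjective _).2 ?_⟩
    rw [← Set.range_eq_univ]
    refine ((s'.isClosedEmbedding.isClosed_range.closure_eq).symm.trans (dense_iff_closure_eq.1 ?_))
    intro w
    rw [mem_closure_iff]
    intro G hG hwG
    have hop := (π ⁻¹ᵁ O).ι.isOpenEmbedding.isOpenMap G hG
    obtain ⟨_, ⟨g, hg, rfl⟩, z, hz⟩ := j₀.toImage.denseRange.exists_mem_open hop ⟨_, Set.mem_image_of_mem _ hwG⟩ |>
      fun ⟨z, hz⟩ => (⟨_, hz, z, rfl⟩ : ∃ y, y ∈ (π ⁻¹ᵁ O).ι '' G ∧ ∃ z, j₀.toImage z = y)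
    have hzO : p z ∈ O := by
      rw [← hjz, Scheme.Hom.comp_apply, hz]
      exact g.2
    obtain ⟨o, rfl⟩ : z ∈ Set.range b := by
      rcases hcov z with ⟨x, rfl⟩ | h
      · rw [← Scheme.Hom.comp_apply, hap] at hzO
        have hx : x ∈ T := hT ▸ hzO
        refine ⟨j (⟨x, hx⟩ : (T : Scheme.{u})), ?_⟩
        exact (Scheme.Hom.comp_apply _ _ _).symm.trans (by rw [← hab]; rfl)
      · exact h
    refine ⟨g, hg, o, (π ⁻¹ᵁ O).ι.isOpenEmbedding.injective ?_⟩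
    rw [← Scheme.Hom.comp_apply, hs', ← hz]
    rfl
  rw [show (π ∣_ O) = inv s' from (IsIso.inv_eq_of_hom_inv_id hsec).symm]
  infer_instance

end Helpers

open AlgebraicGeometry CategoryTheory CategoryTheory.Limits in
/-- Let k be a field and R a discrete valuation ring with a k-algebra structure, with generic point η
(an open point of Spec R). Let X be a separated k-scheme of finite type, X_R = X ×_k Spec R, and let
(X̃, φ) be a lift of X over R: X̃ is a separated R-scheme of finite type (locally of finite type and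
quasi-compact over R) and φ : X̃ → X_R an R-morphism inducing an isomorphism over η. Then there
exist a scheme Ỹ and a proper morphism ψ : Ỹ → X̃ such that (1) (Ỹ, ψ ∘ φ) is a lift of X, i.e. ψ ∘
φ is an isomorphism over η, (2) Ỹ is proper over X̃, and (3) for every compactification of X, i.e.
every open immersion of X over k into a proper k-scheme X̄ (with X̄_R = X̄ ×_k Spec R and the
induced morphism X_R → X̄_R), Ỹ embeds by an open immersion into a scheme Ỹ(X̄) proper over R and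
lifting X̄ (an R-morphism Ỹ(X̄) → X̄_R that is an isomorphism over η) such that Ỹ → Ỹ(X̄) → X̄_R
equals Ỹ → X̃ → X_R → X̄_R. (The source works over an algebraically closed field k and a discrete
valuation ring over k with residue field k, and its compactifications are dense open immersions;
none of this is used.) -/
theorem result
    (k : Type u) [Field k] (R : Type u) [CommRing R] [IsDomain R] [IsDiscreteValuationRing R] [Algebra k R]
    (η : (Spec (CommRingCat.of R)).Opens) (hη : (η : Set ↥(Spec (CommRingCat.of R))) = {genericPoint ↥(Spec (CommRingCat.of R))})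
    (X : Scheme.{u}) (pX : X ⟶ Spec (CommRingCat.of k)) [IsSeparated pX] [LocallyOfFiniteType pX] [QuasiCompact pX]
    (XR : Scheme.{u}) (a : XR ⟶ X) (b : XR ⟶ Spec (CommRingCat.of R)) (hXR : IsPullback a b pX (Spec.map (CommRingCat.ofHom (algebraMap k R))))
    (Xt : Scheme.{u}) (q : Xt ⟶ Spec (CommRingCat.of R)) [IsSeparated q] [LocallyOfFiniteType q] [QuasiCompact q]
    (φ : Xt ⟶ XR) (hφ : φ ≫ b = q) (hφη : IsIso (φ ∣_ (b ⁻¹ᵁ η))) :
    ∃ (Y : Scheme.{u}) (ψ : Y ⟶ Xt), IsProper ψ ∧ IsIso ((ψ ≫ φ) ∣_ (b ⁻¹ᵁ η)) ∧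
      ∀ (Xb : Scheme.{u}) (pXb : Xb ⟶ Spec (CommRingCat.of k)) [IsProper pXb] (jX : X ⟶ Xb) [IsOpenImmersion jX]
        (hj : jX ≫ pXb = pX)
        (XbR : Scheme.{u}) (ab : XbR ⟶ Xb) (bb : XbR ⟶ Spec (CommRingCat.of R)) (hXbR : IsPullback ab bb pXb (Spec.map (CommRingCat.ofHom (algebraMap k R))))
        (jR : XR ⟶ XbR) (hjR₁ : jR ≫ ab = a ≫ jX) (hjR₂ : jR ≫ bb = b),
        ∃ (Yb : Scheme.{u}) (qb : Yb ⟶ Spec (CommRingCat.of R)) (_ : IsProper qb) (φb : Yb ⟶ XbR) (_ : φb ≫ bb = qb)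
          (_ : IsIso (φb ∣_ (bb ⁻¹ᵁ η))) (e : Y ⟶ Yb) (_ : IsOpenImmersion e),
          e ≫ φb = ψ ≫ φ ≫ jR := by
  refine ⟨Xt, 𝟙 _, inferInstance, ?_, ?_⟩
  · rw [Category.id_comp]; exact hφη
  intro Xb pXb _ jX _ hj XbR ab bb hXbR jR hjR₁ hjR₂
  haveI : IsProper bb := MorphismProperty.of_isPullback (P := @IsProper) hXbR ‹_›
  haveI : IsNoetherianRing (CommRingCat.of R : CommRingCat.{u}) := inferInstanceAs (IsNoetherianRing R)
  haveI : IsLocallyNoetherian XbR := LocallyOfFiniteType.isLocallyNoetherian bb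
  haveI : CompactSpace XbR := QuasiCompact.compactSpace_of_compactSpace bb
  haveI : IsNoetherian XbR := {}
  haveI : IsOpenImmersion jR := MorphismProperty.of_isPullback (P := @IsOpenImmersion)
    (IsPullback.of_bot (show IsPullback a (jR ≫ bb) (jX ≫ pXb) (Spec.map (CommRingCat.ofHom (algebraMap k R))) by rw [hjR₂, hj]; exact hXR) hjR₁.symm hXbR) ‹_›
  have hq : (φ ≫ jR) ≫ bb = q := by rw [Category.assoc, hjR₂, hφ]
  haveI : IsSeparated (φ ≫ jR) := by
    haveI : IsSeparated ((φ ≫ jR) ≫ bb) := by rw [hq]; infer_instance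
    exact IsSeparated.of_comp (φ ≫ jR) bb
  haveI : LocallyOfFiniteType (φ ≫ jR) := by
    haveI : LocallyOfFiniteType ((φ ≫ jR) ≫ bb) := by rw [hq]; infer_instance
    exact locallyOfFiniteType_of_comp (φ ≫ jR) bb
  haveI : QuasiCompact (φ ≫ jR) := by
    haveI : QuasiCompact ((φ ≫ jR) ≫ bb) := by rw [hq]; infer_instance
    exact MorphismProperty.of_postcomp (W := @QuasiCompact.{u}) (W' := @QuasiSeparated.{u}) (φ ≫ jR) bb inferInstance inferInstance
  let T : Xt.Opens := φ ⁻¹ᵁ (b ⁻¹ᵁ η)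
  have hT : T = (φ ≫ jR) ⁻¹ᵁ (bb ⁻¹ᵁ η) := by
    show φ ⁻¹ᵁ (b ⁻¹ᵁ η) = φ ⁻¹ᵁ (jR ⁻¹ᵁ (bb ⁻¹ᵁ η))
    rw [show jR ⁻¹ᵁ (bb ⁻¹ᵁ η) = (jR ≫ bb) ⁻¹ᵁ η from rfl, hjR₂]
  haveI : IsOpenImmersion (T.ι ≫ φ ≫ jR) := by
    haveI := hφη
    rw [← Category.assoc, ← morphismRestrict_ι φ (b ⁻¹ᵁ η), Category.assoc]
    infer_instance
  let j : (T : Scheme.{u}) ⟶ (bb ⁻¹ᵁ η : XbR.Opens) := IsOpenImmersion.lift (bb ⁻¹ᵁ η).ι (T.ι ≫ φ ≫ jR) (by
    rw [Scheme.Opens.range_ι]
    rintro _ ⟨x, rfl⟩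
    have hx : T.ι x ∈ (φ ≫ jR) ⁻¹ᵁ (bb ⁻¹ᵁ η) := hT ▸ x.2
    exact hx)
  have hj' : j ≫ (bb ⁻¹ᵁ η).ι = T.ι ≫ φ ≫ jR := IsOpenImmersion.lift_fac _ _ _
  haveI : IsOpenImmersion (j ≫ (bb ⁻¹ᵁ η).ι) := by rw [hj']; infer_instance
  haveI : IsOpenImmersion j := IsOpenImmersion.of_comp j (bb ⁻¹ᵁ η).ι
  obtain ⟨Yb, π, e, hπ, hπO, he, hfac⟩ := exists_proper_extension (bb ⁻¹ᵁ η) (φ ≫ jR) T hT j hj'
  exact ⟨Yb, π ≫ bb, inferInstance, π, rfl, hπO, e, he, by rw [hfac, Category.id_comp]⟩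

end Groth.Agent.S19887
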