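import Groth.Statements.S19888
import Groth.Agent.PinchSqLib.FullFaithful
-- import your own Groth.Agent.* helpers here

set_option autoImplicit false
set_option backward.isDefEq.respectTransparency.types false
universe u
open CategoryTheory AlgebraicGeometry
open Pinch
open Groth.Agent.PicLib Groth.Agent.PinchSqLib Groth.Agent.Coherent

namespace Groth.Agent.S19888

/-- Let f_X : Z → X, f_Y : Z → Y, g_X : X → T and g_Y : Y → T be morphisms of schemes with g_X ∘ f_X =
g_Y ∘ f_Y forming a pushout square in the category of ringed spaces, and let M and N be locally free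
O_T-modules of finite rank. For an O_T-module P write ξ_P : f_X^* g_X^* P ≅ f_Y^* g_Y^* P for the
canonical isomorphism. Then the functor P ↦ (g_X^* P, g_Y^* P, ξ_P) is fully faithful on such
modules: a morphism φ : M → N is determined by the pair (g_X^* φ, g_Y^* φ), and every pair of
morphisms a : g_X^* M → g_X^* N, b : g_Y^* M → g_Y^* N with ξ_N ∘ f_X^*(a) = f_Y^*(b) ∘ ξ_M is of
this form. (The source states the equivalence of categories for the pinching square of a closed
immersion Z → X along a finite surjective Z → Z'; the full-faithfulness half is established there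
for any square of schemes that is a pushout of ringed spaces, which is the form given here. The
essential-surjectivity half is a separate statement.) -/
theorem result {X Y Z T : Scheme.{u}}
    (fX : Z ⟶ X) (fY : Z ⟶ Y) (gX : X ⟶ T) (gY : Y ⟶ T) (hw : fX ≫ gX = fY ≫ gY)
    (hpo : IsPushout ((Scheme.forgetToLocallyRingedSpace ⋙ LocallyRingedSpace.forgetToSheafedSpace).map fX) ((Scheme.forgetToLocallyRingedSpace ⋙ LocallyRingedSpace.forgetToSheafedSpace).map fY)
      ((Scheme.forgetToLocallyRingedSpace ⋙ LocallyRingedSpace.forgetToSheafedSpace).map gX) ((Scheme.forgetToLocallyRingedSpace ⋙ LocallyRingedSpace.forgetToSheafedSpace).map gY))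
    (M N : T.Modules) (hM : FlatMod.IsFinLocFree M) (hN : FlatMod.IsFinLocFree N) :
    (∀ φ ψ : M ⟶ N, (Scheme.Modules.pullback gX).map φ = (Scheme.Modules.pullback gX).map ψ →
        (Scheme.Modules.pullback gY).map φ = (Scheme.Modules.pullback gY).map ψ → φ = ψ) ∧
      (∀ (a : (Scheme.Modules.pullback gX).obj M ⟶ (Scheme.Modules.pullback gX).obj N)
        (b : (Scheme.Modules.pullback gY).obj M ⟶ (Scheme.Modules.pullback gY).obj N),
        (Scheme.Modules.pullback fX).map a ≫
            ((Scheme.Modules.pullbackComp fX gX).app N ≪≫ (Scheme.Modules.pullbackCongr hw).app N ≪≫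
              ((Scheme.Modules.pullbackComp fY gY).app N).symm).hom =
          ((Scheme.Modules.pullbackComp fX gX).app M ≪≫ (Scheme.Modules.pullbackCongr hw).app M ≪≫
              ((Scheme.Modules.pullbackComp fY gY).app M).symm).hom ≫
            (Scheme.Modules.pullback fY).map b →
        ∃ φ : M ⟶ N, (Scheme.Modules.pullback gX).map φ = a ∧ (Scheme.Modules.pullback gY).map φ = b) := by
  constructor
  · intro φ ψ hX hY
    refine Scheme.Modules.hom_ext _ _ fun V => ConcreteCategory.hom_ext _ _ fun m => ?_
    have hc : Compat fX fY gX gY hw N (pullSec gX (ψ.app V m)) (pullSec gY (ψ.app V m)) := fun W h₁ h₂ => by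
      rw [comp_app_pullSec, comp_app_pullSec]
      exact congr_app_pullSec hw N _ h₁ h₂
    refine (existsUnique_section hpo hN V _ _ hc).unique ⟨?_, ?_⟩ ⟨rfl, rfl⟩
    · rw [← map_pullSec, ← map_pullSec, hX]
    · rw [← map_pullSec, ← map_pullSec, hY]
  · intro a b hab
    have hab' : (Scheme.Modules.pullback fX).map a ≫ (Scheme.Modules.pullbackComp fX gX).hom.app N ≫
          (Scheme.Modules.pullbackCongr hw).hom.app N =
        (Scheme.Modules.pullbackComp fX gX).hom.app M ≫ (Scheme.Modules.pullbackCongr hw).hom.app M ≫
          (Scheme.Modules.pullbackComp fY gY).inv.app M ≫ (Scheme.Modules.pullback fY).map b ≫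
            (Scheme.Modules.pullbackComp fY gY).hom.app N := by
      have h := congrArg (· ≫ (Scheme.Modules.pullbackComp fY gY).hom.app N) hab
      simpa using h
    have hc : ∀ (V : T.Opens) (m : Γ(M, V)),
        Compat fX fY gX gY hw N (V := V) (a.app _ (pullSec gX m)) (b.app _ (pullSec gY m)) := fun V m W h₁ h₂ => by
      have h := congrArg (fun φ : _ ⟶ (Scheme.Modules.pullback (fY ≫ gY)).obj N =>
        φ.app W (resM _ h₁ (pullSec fX (pullSec gX m)))) hab'
      have eL := map_pullSec fX a (pullSec gX m)
      have eR := map_pullSec fY b (pullSec gY m)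
      have eI := pullbackComp_inv_app_pullSec fY gY M V m
      refine Eq.trans ?_ (h.trans ?_)
      · show _ = ((Scheme.Modules.pullbackCongr hw).hom.app N).app W
          (((Scheme.Modules.pullbackComp fX gX).hom.app N).app W
            (((Scheme.Modules.pullback fX).map a).app W (resM _ h₁ (pullSec fX (pullSec gX m)))))
        exact ((congrArg (fun z => ((Scheme.Modules.pullbackCongr hw).hom.app N).app W
          (((Scheme.Modules.pullbackComp fX gX).hom.app N).app W z))
          ((app_resM ((Scheme.Modules.pullback fX).map a) h₁ _).trans (congrArg (resM _ h₁) eL))).trans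
            (congrArg _ (app_resM ((Scheme.Modules.pullbackComp fX gX).hom.app N) h₁ _))).symm
      · show ((Scheme.Modules.pullbackComp fY gY).hom.app N).app W
          (((Scheme.Modules.pullback fY).map b).app W
            (((Scheme.Modules.pullbackComp fY gY).inv.app M).app W
              (((Scheme.Modules.pullbackCongr hw).hom.app M).app W
                (((Scheme.Modules.pullbackComp fX gX).hom.app M).app W
                  (resM _ h₁ (pullSec fX (pullSec gX m))))))) = _
        have e1 : ((Scheme.Modules.pullbackComp fX gX).hom.app M).app W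
            (resM _ h₁ (pullSec fX (pullSec gX m))) = resM _ h₁ (pullSec (fX ≫ gX) m) :=
          (app_resM _ h₁ _).trans (congrArg _ (comp_app_pullSec fX gX M m))
        have e2 : ((Scheme.Modules.pullbackComp fY gY).inv.app M).app W (resM _ h₂ (pullSec (fY ≫ gY) m)) =
            resM _ h₂ (pullSec fY (pullSec gY m)) := (app_resM _ h₂ _).trans (congrArg _ eI)
        refine (congrArg (fun z => ((Scheme.Modules.pullbackComp fY gY).hom.app N).app W
          (((Scheme.Modules.pullback fY).map b).app W z))
          ((congrArg (fun z => ((Scheme.Modules.pullbackComp fY gY).inv.app M).app W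
            (((Scheme.Modules.pullbackCongr hw).hom.app M).app W z)) e1).trans
            ((congrArg (((Scheme.Modules.pullbackComp fY gY).inv.app M).app W)
              (congr_app_pullSec hw M m h₁ h₂)).trans e2))).trans ?_
        exact (congrArg (((Scheme.Modules.pullbackComp fY gY).hom.app N).app W)
          ((app_resM ((Scheme.Modules.pullback fY).map b) h₂ _).trans (congrArg (resM _ h₂) eR))).trans
            (app_resM ((Scheme.Modules.pullbackComp fY gY).hom.app N) h₂ _)
    choose n hnX hnY using fun (V : T.Opens) (m : Γ(M, V)) => (existsUnique_section hpo hN V _ _ (hc V m)).exists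
    have uniq : ∀ (V : T.Opens) (m : Γ(M, V)) (x : Γ(N, V)), pullSec gX x = a.app _ (pullSec gX m) →
        pullSec gY x = b.app _ (pullSec gY m) → x = n V m := fun V m x hx hy =>
      (existsUnique_section hpo hN V _ _ (hc V m)).unique ⟨hx, hy⟩ ⟨hnX V m, hnY V m⟩
    have hadd : ∀ {P : Scheme.{u}} (g : P ⟶ T) {F : T.Modules} (V : T.Opens) (x y : Γ(F, V)),
        pullSec g (x + y) = pullSec g x + pullSec g y := fun g F V x y =>
      map_add (((Scheme.Modules.pullbackPushforwardAdjunction g).unit.app F).app V).hom x y
    let φ₀ : M.val ⟶ N.val := PresheafOfModules.homMk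
      { app := fun V => AddCommGrpCat.ofHom (AddMonoidHom.mk' (fun m => n V.unop m) fun x y =>
          (uniq V.unop (x + y) _ 
            ((hadd gX V.unop _ _).trans ((congrArg₂ (· + ·) (hnX V.unop x) (hnX V.unop y)).trans
              ((map_add _ _ _).symm.trans (congrArg _ (hadd gX V.unop x y).symm))))
            ((hadd gY V.unop _ _).trans ((congrArg₂ (· + ·) (hnY V.unop x) (hnY V.unop y)).trans
              ((map_add _ _ _).symm.trans (congrArg _ (hadd gY V.unop x y).symm))))).symm)
        naturality := fun V V' i => ConcreteCategory.hom_ext _ _ fun m => by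
          refine (uniq V'.unop (resM M (leOfHom i.unop) m) (resM N (leOfHom i.unop) (n V.unop m)) ?_ ?_).symm
          · rw [← resM_pullSec, ← resM_pullSec, hnX, app_resM]
          · rw [← resM_pullSec, ← resM_pullSec, hnY, app_resM] }
      (fun V r m => (uniq V.unop ((show Γ(T, V.unop) from r) • m) ((show Γ(T, V.unop) from r) • n V.unop m)
        ((pullSec_smul gX _ _).trans ((congrArg (_ • ·) (hnX V.unop m)).trans
          ((Scheme.Modules.Hom.app_smul a _ _).symm.trans (congrArg _ (pullSec_smul gX _ _).symm))))
        ((pullSec_smul gY _ _).trans ((congrArg (_ • ·) (hnY V.unop m)).trans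
          ((Scheme.Modules.Hom.app_smul b _ _).symm.trans (congrArg _ (pullSec_smul gY _ _).symm))))).symm)
    refine ⟨⟨φ₀⟩, hom_ext_on_pullSec gX fun V m => ?_, hom_ext_on_pullSec gY fun V m => ?_⟩
    · exact (map_pullSec gX _ m).trans (hnX V m)
    · exact (map_pullSec gY _ m).trans (hnY V m)

end Groth.Agent.S19888
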