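import Groth.Statements.S19889
import Groth.Agent.S7520
import Groth.Agent.S3016
import Groth.Agent.AlgGrpLib.SubgroupCalc
import Mathlib.AlgebraicGeometry.AlgClosed.Basic
open Groth.Agent

set_option autoImplicit false
set_option linter.style.haveILetI false
universe u
open CategoryTheory CategoryTheory.Limits MonoidalCategory CartesianMonoidalCategory MonObj GrpObj AlgebraicGeometry
open GrpSch

set_option backward.isDefEq.respectTransparency.types false
set_option backward.isDefEq.respectTransparency false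

namespace Groth.Agent.S19889


/-- Let k be an algebraically closed field, G a commutative group scheme locally of finite type over k,
and i : G⁰ → G its identity component (a homomorphism that is an open immersion onto the connected
component of the unit point). Then the natural map from the torsion subgroup of G(k) to the torsion
subgroup of G(k)/G⁰(k) is surjective: if g is a k-point of G and gⁿ lies in G⁰(k) for some n ≥ 1,
then there is a k-point t of G of finite order such that t⁻¹ g lies in G⁰(k). -/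
theorem result (k : Type u) [Field k] [IsAlgClosed k]
    {G G0 : Over (Spec (CommRingCat.of k))} [GrpObj G] [IsCommMonObj G] [GrpObj G0]
    [LocallyOfFiniteType G.hom] (i : G0 ⟶ G) [IsMonHom i] (hi : AutSch.IsIdComp i)
    (g : 𝟙_ (Over (Spec (CommRingCat.of k))) ⟶ G) (n : ℕ) (hn : 0 < n)
    (hg : g ^ n ∈ AutSch.ptsRange i) :
    ∃ t : 𝟙_ (Over (Spec (CommRingCat.of k))) ⟶ G, IsOfFinOrder t ∧ t⁻¹ * g ∈ AutSch.ptsRange i := by
  classical
  haveI := hi.2.1
  obtain ⟨G₁, _, incl, _, hcl, -, hr, -, hcpt⟩ := S7520.result k G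
  have hrange : Set.range i.left.base = connectedComponent (AutSch.unitPt G) :=
    ((AutSch.isIdComp_iff_of_field i).1 hi).2.2
  have hC : IsCompact (connectedComponent (η[G].left (IsLocalRing.closedPoint k))) := by
    rw [← hr, ← Set.image_univ]
    exact isCompact_univ.image incl.left.continuous
  haveI : CompactSpace ↥G0.left := by
    refine isCompact_univ_iff.1 ((i.left.isOpenEmbedding.isInducing.isCompact_iff).2 ?_)
    rw [Set.image_univ]
    exact hrange.symm ▸ hC
  haveI : LocallyOfFiniteType G0.hom := by rw [← Over.w i]; infer_instance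
  haveI : QuasiCompact G0.hom := (quasiCompact_iff_compactSpace _).2 inferInstance
  haveI : IsLocallyNoetherian G0.left := LocallyOfFiniteType.isLocallyNoetherian G0.hom
  haveI : IsNoetherian G0.left := ⟨⟩
  -- powers of the inclusion
  have hpow : ∀ N : ℕ, IsMonHom (i ^ N) := fun N => by
    refine ⟨?_, ?_⟩
    · rw [MonObj.comp_pow, IsMonHom.one_hom, MonObj.one_eq_one, one_pow]
    · have key : ∀ f : G0 ⟶ G, (f ⊗ₘ f) ≫ μ[G] = (fst G0 G0 ≫ f) * (snd G0 G0 ≫ f) := fun f => by
        rw [Hom.mul_def]; congr 1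
      rw [MonObj.comp_pow, IsMonHom.mul_hom, key, key, MonObj.comp_pow, MonObj.comp_pow, mul_pow]
  -- the descending closed images
  let F : ℕ → TopologicalSpace.Closeds G0.left := fun m => ⟨i.left ⁻¹' Set.range (i ^ (n ^ m)).left,
    (by
      haveI := hpow (n ^ m)
      haveI := Groth.Agent.AlgGrpLib.quasiCompact_left (i ^ (n ^ m))
      exact (S3016.result k G0 G (i ^ (n ^ m))).1.preimage i.left.continuous)⟩
  have hF : Antitone F := antitone_nat_of_succ_le fun m x hx => by
    obtain ⟨y, hy⟩ := hx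
    refine ⟨(((𝟙 G0 : G0 ⟶ G0) ^ n)).left y, ?_⟩
    have e : ((𝟙 G0 : G0 ⟶ G0) ^ n) ≫ i ^ (n ^ m) = i ^ (n ^ (m + 1)) := by
      rw [MonObj.comp_pow, MonObj.pow_comp, Category.id_comp, ← pow_mul, pow_succ' n m]
    rw [← hy, ← e]
    rfl
  obtain ⟨M, hM⟩ := WellFoundedLT.antitone_chain_condition hF
  have hMF : F M = F (M + 1) := hM (M + 1) (Nat.le_succ M)
  obtain ⟨h, hh⟩ := (AutSch.mem_ptsRange_iff i _).1 hg
  -- lift the point
  let p : 𝟙_ (Over (Spec (CommRingCat.of k))) ⟶ G := (h ≫ i) ^ (n ^ M)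
  have hp : ∀ z, p.left z ∈ Set.range (i ^ (n ^ (M + 1))).left := fun z => by
    have hpi : p = (h ^ (n ^ M)) ≫ i := (MonObj.pow_comp _ _ _).symm
    have h1 : (h ^ (n ^ M)).left z ∈ (F M : Set G0.left) := by
      refine ⟨h.left z, ?_⟩
      have e : h ≫ i ^ (n ^ M) = (h ^ (n ^ M)) ≫ i := by rw [MonObj.comp_pow, MonObj.pow_comp]
      exact congrArg (fun t : 𝟙_ (Over (Spec (CommRingCat.of k))) ⟶ G => t.left z) e
    rw [hMF] at h1
    rw [hpi]
    exact h1
  let u := i ^ (n ^ (M + 1))
  let z₀ : ↥(𝟙_ (Over (Spec (CommRingCat.of k)))).left := IsLocalRing.closedPoint k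
  haveI : JacobsonSpace ↥G0.left := LocallyOfFiniteType.jacobsonSpace G0.hom
  haveI : JacobsonSpace ↥G.left := LocallyOfFiniteType.jacobsonSpace G.hom
  let pc := (pointEquivClosedPoint G.hom) ⟨p.left, Over.w p⟩
  have hpc : IsClosed ({p.left z₀} : Set G.left) := pc.2
  obtain ⟨y, hy⟩ := hp z₀
  obtain ⟨c, hc, hcc⟩ := nonempty_inter_closedPoints (Z := u.left ⁻¹' {p.left z₀}) ⟨y, hy⟩
    (hpc.preimage u.left.continuous).isLocallyClosed
  let qq := (pointEquivClosedPoint G0.hom).symm ⟨c, hcc⟩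
  let qh : 𝟙_ (Over (Spec (CommRingCat.of k))) ⟶ G0 := Over.homMk qq.1 qq.2
  have hqu : qh ≫ u = p := by
    refine Over.OverMorphism.ext (congrArg Subtype.val ((pointEquivClosedPoint G.hom).injective
      (a₁ := ⟨(qh ≫ u).left, Over.w (qh ≫ u)⟩) (a₂ := ⟨p.left, Over.w p⟩) (Subtype.ext ?_)))
    show u.left (qq.1 (IsLocalRing.closedPoint k)) = p.left z₀
    have : qq.1 (IsLocalRing.closedPoint k) = c :=
      congrArg Subtype.val ((pointEquivClosedPoint G0.hom).apply_symm_apply ⟨c, hcc⟩)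
    rw [this]
    exact hc
  refine ⟨g * (qh ≫ i)⁻¹, isOfFinOrder_iff_pow_eq_one.2 ⟨n ^ (M + 1), Nat.pow_pos hn, ?_⟩, ?_⟩
  · rw [mul_pow, inv_pow, ← MonObj.comp_pow, hqu]
    show g ^ n ^ (M + 1) * ((h ≫ i) ^ n ^ M)⁻¹ = 1
    rw [hh, ← pow_mul, ← pow_succ', mul_inv_cancel]
  · have e : (g * (qh ≫ i)⁻¹)⁻¹ * g = qh ≫ i := by rw [_root_.mul_inv_rev, _root_.inv_inv, _root_.mul_assoc, inv_mul_cancel, _root_.mul_one]
    rw [e]
    exact (AutSch.mem_ptsRange_iff i _).2 ⟨qh, rfl⟩

end Groth.Agent.S19889
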