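import Groth.Statements.S19890
import Mathlib.RingTheory.Flat.EquationalCriterion
import Mathlib.RingTheory.Flat.FaithfullyFlat.Algebra
import Mathlib.RingTheory.IntegralClosure.IntegrallyClosed
import Mathlib.Tactic

set_option linter.all false

set_option autoImplicit false
universe u
open CAlg


namespace Groth.Agent.S19890

theorem isPrincipal_descent' {R R' : Type u} [CommRing R] [CommRing R'] [IsDomain R'] [IsNoetherianRing R]
    [IsLocalRing R'] [Algebra R R'] [Module.FaithfullyFlat R R']
    (p : Ideal R) (hp : (p.map (algebraMap R R')).IsPrincipal) : p.IsPrincipal := by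
  classical
  obtain ⟨x, hx⟩ := hp.principal
  obtain ⟨s, hs⟩ := (IsNoetherian.noetherian p : p.FG)
  have hback : ∀ g : R, p.map (algebraMap R R') = Ideal.span {algebraMap R R' g} → p.IsPrincipal := by
    intro g hg
    refine ⟨g, ?_⟩
    rw [← Ideal.comap_map_eq_self_of_faithfullyFlat (B := R') p, hg, ← Set.image_singleton,
      ← Ideal.map_span, Ideal.comap_map_eq_self_of_faithfullyFlat]
  rcases eq_or_ne x 0 with rfl | hx0
  · exact hback 0 (by rw [hx, map_zero]; try simp)
  have hmap : p.map (algebraMap R R') = Ideal.span ((algebraMap R R') '' (s : Set R)) := by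
    rw [← hs, Ideal.map_span]
  have hxm : x ∈ Ideal.span ((algebraMap R R') '' (s : Set R)) := by
    rw [← hmap, hx]; exact Ideal.mem_span_singleton_self x
  have hex : ∀ g ∈ s, ∃ c, algebraMap R R' g = c * x := fun g hg => by
    have : algebraMap R R' g ∈ p.map (algebraMap R R') :=
      Ideal.mem_map_of_mem _ (hs ▸ Ideal.subset_span hg)
    rw [hx] at this
    obtain ⟨c, hc⟩ := Ideal.mem_span_singleton'.mp this
    exact ⟨c, hc.symm⟩
  choose! c hc using hex
  by_cases hu : ∃ g ∈ s, IsUnit (c g)
  · obtain ⟨g, hg, hgu⟩ := hu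
    refine hback g ?_
    rw [hx, hc g hg]
    exact (Ideal.span_singleton_mul_left_unit hgu x).symm
  exfalso
  push Not at hu
  have : x ∈ IsLocalRing.maximalIdeal R' * Ideal.span {x} := by
    refine Submodule.span_induction (p := fun z _ => z ∈ IsLocalRing.maximalIdeal R' * Ideal.span {x}) ?_ (Submodule.zero_mem _) (fun a b _ _ => add_mem)
      (fun a b _ hb => Submodule.smul_mem _ a hb) hxm
    rintro _ ⟨g, hg, rfl⟩
    rw [hc g hg]
    exact Ideal.mul_mem_mul (hu g hg) (Ideal.mem_span_singleton_self x)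
  obtain ⟨m, hm, hmx⟩ := Ideal.mem_mul_span_singleton.mp this
  have : m = 1 := mul_right_cancel₀ hx0 (hmx.trans (one_mul x).symm)
  exact (IsLocalRing.maximalIdeal.isMaximal R').ne_top ((Ideal.eq_top_iff_one _).mpr (this ▸ hm))

/-- Let R → R' be a faithfully flat ring map between Noetherian integrally closed local domains. Then
unique factorization descends along this map: when R' is a UFD, so is R. (The first assertion of the
lemma, descent of principality for an ideal whose extension to R' is principal, is a separate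
statement.) -/
theorem result
    (R R' : Type u) [CommRing R] [CommRing R'] [IsDomain R] [IsDomain R']
    [IsNoetherianRing R] [IsNoetherianRing R'] [IsLocalRing R] [IsLocalRing R']
    [IsIntegrallyClosed R] [IsIntegrallyClosed R']
    [Algebra R R'] [Module.FaithfullyFlat R R'] [UniqueFactorizationMonoid R'] :
    UniqueFactorizationMonoid R := by
  classical
  let φ := algebraMap R R'
  have hinf : ∀ a b : R, (Ideal.span {a} ⊓ Ideal.span {b}).IsPrincipal := by
    intro a b
    apply isPrincipal_descent' (R' := R')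
    have hle : (Ideal.span {a} ⊓ Ideal.span {b}).map φ = Ideal.span {φ a} ⊓ Ideal.span {φ b} := by
      refine le_antisymm ?_ ?_
      · refine (Ideal.map_inf_le φ).trans ?_
        rw [Ideal.map_span, Ideal.map_span, Set.image_singleton, Set.image_singleton]
      · rintro z ⟨hza, hzb⟩
        obtain ⟨x, rfl⟩ := Ideal.mem_span_singleton'.mp hza
        obtain ⟨y, hy⟩ := Ideal.mem_span_singleton'.mp hzb
        have hrel : ∑ i : Fin 2, (![a, -b] i) • (![x, y] i : R') = 0 := by
          simp [Fin.sum_univ_two, Algebra.smul_def]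
          linear_combination -hy
        obtain ⟨k, A, w, hw, hA⟩ := Module.Flat.isTrivialRelation_of_sum_smul_eq_zero
          (R := R) (M := R') (f := ![a, -b]) (x := ![x, y]) hrel
        have hx : x = ∑ j, φ (A 0 j) * w j := by simpa [Algebra.smul_def, φ] using hw 0
        rw [hx, Finset.sum_mul]
        refine Submodule.sum_mem _ fun j _ => ?_
        rw [mul_right_comm, ← map_mul]
        refine Ideal.mul_mem_right _ _ (Ideal.mem_map_of_mem _ ⟨?_, ?_⟩)
        · exact Ideal.mem_span_singleton'.mpr ⟨A 0 j, rfl⟩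
        · refine Ideal.mem_span_singleton'.mpr ⟨A 1 j, ?_⟩
          have := hA j
          simp [Fin.sum_univ_two] at this
          linear_combination -this
    rw [hle]
    obtain ⟨_⟩ : Nonempty (GCDMonoid R') := ⟨UniqueFactorizationMonoid.toGCDMonoid R'⟩
    refine ⟨lcm (φ a) (φ b), ?_⟩
    ext z
    show z ∈ Ideal.span {φ a} ∧ z ∈ Ideal.span {φ b} ↔ z ∈ Ideal.span {lcm (φ a) (φ b)}
    rw [Ideal.mem_span_singleton, Ideal.mem_span_singleton, Ideal.mem_span_singleton]
    exact lcm_dvd_iff.symm
  refine { irreducible_iff_prime := fun {a} => ⟨fun ha => ?_, Prime.irreducible⟩ }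
  refine ⟨ha.ne_zero, ha.not_isUnit, fun b c hbc => ?_⟩
  rcases eq_or_ne b 0 with rfl | hb
  · exact Or.inl (dvd_zero a)
  obtain ⟨l, hl0⟩ := (hinf a b).principal
  have hl : Ideal.span {a} ⊓ Ideal.span {b} = Ideal.span {l} := hl0
  have hmem : ∀ z, a ∣ z → b ∣ z → l ∣ z := fun z h1 h2 => Ideal.mem_span_singleton.mp
    (show z ∈ Ideal.span {l} from hl ▸ ⟨Ideal.mem_span_singleton.mpr h1, Ideal.mem_span_singleton.mpr h2⟩)
  have hl' : l ∈ Ideal.span {a} ⊓ Ideal.span {b} := hl ▸ Ideal.mem_span_singleton_self l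
  obtain ⟨s, hs⟩ := Ideal.mem_span_singleton.mp hl'.1
  obtain ⟨t, ht⟩ := Ideal.mem_span_singleton.mp hl'.2
  obtain ⟨w, hw⟩ := hmem (a * b) (dvd_mul_right a b) (dvd_mul_left b a)
  have htw : a = t * w := mul_left_cancel₀ hb (by rw [← mul_assoc, ← ht, ← hw, mul_comm])
  rcases ha.isUnit_or_isUnit htw with hu | hu
  · left
    obtain ⟨t', rfl⟩ := hu
    exact ⟨s * ((t'⁻¹ : Rˣ) : R), by
      rw [← mul_assoc, ← hs, ht, mul_assoc, Units.mul_inv, mul_one]⟩
  · right
    have h1 : a * b ∣ b * c := by
      rw [hw]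
      obtain ⟨d, hd⟩ := hmem (b * c) hbc (dvd_mul_right b c)
      rw [hd]
      exact mul_dvd_mul_left l (hu.dvd)
    rw [mul_comm a b] at h1
    exact (mul_dvd_mul_iff_left hb).mp h1

end Groth.Agent.S19890
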