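import Groth.Statements.S19892
import Groth.Agent.ValCritLib.Refined

set_option autoImplicit false
universe u
open CategoryTheory AlgebraicGeometry
open ValCrit

namespace Groth.Agent.S19892

/-- Let h : Z → Y and f : Y → X be morphisms of quasi-compact quasi-separated schemes, with h dominant
and f locally of finite type. Then f is proper if and only if the following refined valuative
criterion holds: for every point z of Z, every valuation ring R of the residue field κ(z) and every
morphism φ : Spec R → X whose restriction to Spec κ(z) is the canonical morphism Spec κ(z) → Z → Y →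
X, there is exactly one morphism Spec R → Y lying over φ and restricting to Spec κ(z) → Z → Y on the
generic point. (The published statement does not require h to be dominant; its proof uses that every
point of Y generalises to a point of h(Z), and for Z empty the criterion holds whatever f is, so
dominance of h is assumed here.) -/
theorem result {X Y Z : Scheme.{u}} (h : Z ⟶ Y) (f : Y ⟶ X)
    [CompactSpace ↥Z] [QuasiSeparatedSpace ↥Z] [CompactSpace ↥Y] [QuasiSeparatedSpace ↥Y]
    [CompactSpace ↥X] [QuasiSeparatedSpace ↥X] (hd : DenseRange h.base)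
    [LocallyOfFiniteType f] :
    IsProper f ↔
      ∀ (z : ↥Z) (R : ValuationSubring ↑(Z.residueField z)) (φ : Spec (CommRingCat.of ↥R) ⟶ X),
        Spec.map (CommRingCat.ofHom R.subtype) ≫ φ = Z.fromSpecResidueField z ≫ h ≫ f →
        ∃! φ' : Spec (CommRingCat.of ↥R) ⟶ Y,
          Spec.map (CommRingCat.ofHom R.subtype) ≫ φ' = Z.fromSpecResidueField z ≫ h ∧ φ' ≫ f = φ := by
  have : QuasiCompact h := inferInstance
  constructor
  · intro _ z R φ hφ
    let S : ValuativeCommSq f :=
      { R := R, K := Z.residueField z, i₁ := Z.fromSpecResidueField z ≫ h, i₂ := φ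
        commSq := ⟨by rw [Category.assoc]; exact hφ.symm⟩ }
    have hE : ValuativeCriterion.Existence f ∧ QuasiCompact f :=
      (iff_of_eq (congrFun (congrFun (congrFun UniversallyClosed.eq_valuativeCriterion Y) X) f)).mp
        inferInstance
    obtain ⟨l, hl, hl'⟩ := (hE.1 S).exists_lift.some
    exact ⟨l, ⟨hl, hl'⟩, fun l' hl₂ ↦ Groth.Agent.ValCritLib.refined_of_isSeparated h f z R l' l
      hl₂.1 hl (hl₂.2.trans hl'.symm)⟩
  · intro H
    have Hu : Groth.Agent.ValCritLib.RefinedUniqueness h f := fun z R φ₁ φ₂ h₁ h₂ e ↦
      (H z R (φ₁ ≫ f) (by rw [reassoc_of% h₁])).unique ⟨h₁, rfl⟩ ⟨h₂, e.symm⟩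
    have := Groth.Agent.ValCritLib.isSeparated_of_refined h f hd Hu
    have : UniversallyClosed f := UniversallyClosed.of_valuativeCriterion f
      (Groth.Agent.ValCritLib.existence_of_refined h f hd
        (fun z R φ hφ ↦ (H z R φ hφ).exists) Hu)
    exact { }

end Groth.Agent.S19892
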