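import Groth.Statements.S19893
import Groth.Agent.AlgGrpLib.AffineToProper
import Groth.Agent.AlgGrpLib.TorusIsogenyIff
import Groth.Agent.AlgGrpLib.AbelianSubvariety
import Groth.Agent.AlgGrpLib.ImageSubgroup
import Groth.Agent.IsoTriv.ExtensionComm
import Groth.Agent.DimLib.BaseChange
import Groth.Agent.AbCubeLib.MulBy
import Groth.Agent.SGA7Aut29.PowSurj
import Groth.Agent.UnipStruct.Step
import Groth.Agent.NeronLib.ProductDecomp
-- import your own Groth.Agent.* helpers here

set_option autoImplicit false
set_option linter.style.haveILetI false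
set_option backward.isDefEq.respectTransparency.types false
universe u
open CategoryTheory CategoryTheory.Limits MonoidalCategory CartesianMonoidalCategory AlgebraicGeometry MonObj
open Neron

namespace Groth.Agent.S19893

open CategoryTheory CategoryTheory.Limits MonObj AlgebraicGeometry in
open Groth.Agent in
/-- Let k be a field and P a pseudo-abelian variety over k, that is a smooth connected commutative
k-group scheme of finite type all of whose smooth connected affine closed subgroup schemes are
trivial. Suppose P is an extension 0 → E → P → V → 0 with E → P a closed immersion that is the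
kernel of a surjective homomorphism P → V, where E is an abelian variety over k (proper, smooth,
geometrically integral) and V is a smooth connected affine k-group whose base change to an algebraic
closure of k contains no non-trivial subtorus. Suppose L is a finite, purely inseparable field
extension of k such that the base change P_L is likewise an extension 0 → H → P_L → A → 0 with H a
smooth connected affine L-group having no non-trivial subtorus over an algebraic closure of L and A
an abelian variety over L of dimension g (so that g is the virtual abelian rank of P). Then the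
dimension of E equals g. (Both extensions are taken as data: their existence is a result of the
literature that the source quotes. The second assertion of the proposition, on good reduction, is
not part of this statement. The source works over the fraction field of an excellent discrete
valuation ring of characteristic p > 0; the assertion and its argument use only the field, so k is
an arbitrary field here.) -/
theorem result
    (k : Type u) [Field k]
    (P : Over (Spec (CommRingCat.of k))) [GrpObj P] [IsCommMonObj P]
    [Smooth P.hom] [LocallyOfFiniteType P.hom] [QuasiCompact P.hom] [ConnectedSpace ↥P.left]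
    (hP : ∀ (H : Over (Spec (CommRingCat.of k))) [GrpObj H] (j : H ⟶ P) [IsMonHom j],
      IsClosedImmersion j.left → Smooth H.hom → ConnectedSpace ↥H.left → IsAffine H.left → IsIso η[H])
    (E V : Over (Spec (CommRingCat.of k))) [GrpObj E] [GrpObj V]
    (iE : E ⟶ P) [IsMonHom iE] (q : P ⟶ V) [IsMonHom q]
    (hiE : IsClosedImmersion iE.left) (hkerE : AlgGrp.IsKernel iE q) (hq : Surjective q.left)
    [IsProper E.hom] [Smooth E.hom] [GeometricallyIntegral E.hom]
    [Smooth V.hom] [ConnectedSpace ↥V.left] [IsAffine V.left]
    (hV : Red.HasNoSubtorus (AlgebraicClosure k)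
      (Red.bc (Spec.map (CommRingCat.ofHom (algebraMap k (AlgebraicClosure k)))) V))
    (L : Type u) [Field L] [Algebra k L] [FiniteDimensional k L] [IsPurelyInseparable k L]
    (H A : Over (Spec (CommRingCat.of L))) [GrpObj H] [GrpObj A]
    (i : H ⟶ Red.bc (Spec.map (CommRingCat.ofHom (algebraMap k L))) P) [IsMonHom i] (π : Red.bc (Spec.map (CommRingCat.ofHom (algebraMap k L))) P ⟶ A) [IsMonHom π]
    (hi : IsClosedImmersion i.left) (hker : AlgGrp.IsKernel i π) (hπ : Surjective π.left)
    [Smooth H.hom] [ConnectedSpace ↥H.left] [IsAffine H.left]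
    (hH : Red.HasNoSubtorus (AlgebraicClosure L) (Red.bc (Spec.map (CommRingCat.ofHom (algebraMap L (AlgebraicClosure L)))) H))
    [IsProper A.hom] [Smooth A.hom] [GeometricallyIntegral A.hom]
    (g : ℕ) (hg : topologicalKrullDim ↥A.left = g) :
    topologicalKrullDim ↥E.left = g := by
  let σ := Spec.map (CommRingCat.ofHom (algebraMap k L))
  let F := Over.pullback σ
  let E' : Over (Spec (CommRingCat.of L)) := Red.bc σ E
  let V' : Over (Spec (CommRingCat.of L)) := Red.bc σ V
  let P' : Over (Spec (CommRingCat.of L)) := Red.bc σ P
  haveI : Mono iE := Over.mono_of_mono_left iE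
  haveI : IsProper E'.hom := MorphismProperty.pullback_snd (P := @IsProper) E.hom σ inferInstance
  haveI : Smooth E'.hom := MorphismProperty.pullback_snd (P := @Smooth) E.hom σ inferInstance
  haveI : Smooth V'.hom := MorphismProperty.pullback_snd (P := @Smooth) V.hom σ inferInstance
  haveI : Smooth P'.hom := MorphismProperty.pullback_snd (P := @Smooth) P.hom σ inferInstance
  haveI : QuasiCompact P'.hom := MorphismProperty.pullback_snd (P := @QuasiCompact) P.hom σ inferInstance
  haveI : GeometricallyIntegral E'.hom := MorphismProperty.pullback_snd (P := @GeometricallyIntegral) E.hom σ inferInstance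
  haveI : IsAffine V'.left := inferInstanceAs (IsAffine (pullback V.hom σ))
  haveI : GeometricallyConnected V.hom := AlgGrpLib.AbelianSubvariety.geometricallyConnected_of_connected V
  haveI : ConnectedSpace ↥V'.left := GeometricallyConnected.geometrically_connectedSpace (f := V.hom) σ
    (pullback.fst _ _) (pullback.snd _ _) (IsPullback.of_hasPullback _ _)
  haveI : IsReduced V'.left := AbSchLib.isReduced_of_smooth V'.hom
  haveI : IsCommMonObj A := isCommMonObj_of_isProper_of_geometricallyIntegral A
  haveI : IsCommMonObj E' := isCommMonObj_of_isProper_of_geometricallyIntegral E'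
  let iE' : E' ⟶ P' := F.map iE
  let q' : P' ⟶ V' := F.map q
  haveI : IsMonHom iE' := inferInstanceAs (IsMonHom (F.map iE))
  haveI : IsMonHom q' := inferInstanceAs (IsMonHom (F.map q))
  haveI : IsClosedImmersion iE'.left :=
    MorphismProperty.of_isPullback (SGA3cLib.MultHomLocus.isPullback_map iE σ) hiE
  haveI : Surjective q'.left :=
    MorphismProperty.of_isPullback (SGA3cLib.MultHomLocus.isPullback_map q σ) hq
  have hkerE' : AlgGrp.IsKernel iE' q' := IsoTriv.ExtensionComm.isKernel_bc iE q hkerE σ
  haveI : Flat q'.left := AlgGrpLib.IsogenyBC.flat_of_isogeny P' q'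
  haveI : QuasiCompact q'.left := AlgGrpLib.quasiCompact_left q'
  haveI := hπ
  haveI : Flat π.left := AlgGrpLib.IsogenyBC.flat_of_isogeny P' π
  haveI : QuasiCompact π.left := AlgGrpLib.quasiCompact_left π
  let f : E' ⟶ A := iE' ≫ π
  haveI : IsProper f.left := AbVarLib.isProper_left f
  obtain ⟨M, gM, j, p, hj, hp, hjc, hpj, hps, hpf, hMs, -, hMq⟩ := AlgGrpLib.ImageSubgroup.exists_image f
  letI := gM
  haveI := hj
  haveI := hp
  haveI := hjc
  haveI := hps
  haveI := hMs
  haveI := hMq
  haveI : Mono j := Over.mono_of_mono_left j
  haveI : IsIntegral E'.left := NeronLib.isIntegral_of_geometricallyIntegral E'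
  haveI : IsIntegral A.left := NeronLib.isIntegral_of_geometricallyIntegral A
  haveI : ConnectedSpace ↥M.left := p.left.surjective.connectedSpace p.left.continuous
  haveI : IsProper M.hom := by rw [← Over.w j]; infer_instance
  obtain ⟨ψ, n, hn, hψ, hjψ⟩ := AlgGrpLib.AbelianSubvariety.exists_hom j
  haveI := hψ
  haveI : IsMonHom ((𝟙 A : A ⟶ A) ^ n) := SGA7Aut29.isMonHom_pow n
  let χ : A ⟶ A := (ψ ≫ j) * ((𝟙 A : A ⟶ A) ^ n)⁻¹
  have hjχ : j ≫ χ = 1 := by
    rw [MonObj.comp_mul, GrpObj.comp_inv, ← Category.assoc, hjψ, MonObj.comp_pow, Category.comp_id,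
      MonObj.pow_comp, Category.id_comp, mul_inv_cancel]
  haveI : IsMonHom χ := SGA3cLib.BCPoints.isMonHom_of_mul _ fun T a b => by
    simp only [χ, MonObj.comp_mul, GrpObj.comp_inv, MonObj.comp_pow, Category.comp_id, ← Category.assoc,
      MonObj.mul_comp, mul_pow, mul_inv]
    rw [_root_.mul_mul_mul_comm]
  have hkill : iE' ≫ π ≫ χ = 1 := by
    rw [← Category.assoc, show iE' ≫ π = p ≫ j from hpj.symm, Category.assoc, hjχ, MonObj.comp_one]
  obtain ⟨d, hd⟩ := AlgGrpLib.ExactSeqBasics.exists_desc q' hkerE' (π ≫ χ) hkill
  haveI : IsMonHom (q' ≫ d) := by rw [hd]; infer_instance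
  haveI : IsMonHom d := UnipStruct.isMonHom_desc q' d
  have hd1 : d = 1 := AlgGrpLib.AffineToProper.eq_one_of_affine_to_proper d
  rw [hd1, MonObj.comp_one] at hd
  have hχ : χ = 1 := by
    haveI : Epi π.left := Flat.epi_of_flat_of_surjective _
    haveI : Epi π := Over.epi_of_epi_left _
    rw [← cancel_epi π, ← hd, MonObj.comp_one]
  have hψj : ψ ≫ j = (𝟙 A : A ⟶ A) ^ n := mul_inv_eq_one.1 hχ
  haveI : Surjective j.left := by
    haveI : Surjective (ψ.left ≫ j.left) := by
      rw [← Over.comp_left, hψj]
      exact AbCubeLib.surjective_pow hn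
    exact Surjective.of_comp ψ.left j.left
  haveI : Surjective f.left := by rw [← hpj, Over.comp_left]; infer_instance
  haveI : IsFinite (UnipStruct.kerObj f).hom := by
    let κ := UnipStruct.kerι f
    have h1 : (κ ≫ iE') ≫ π = toUnit _ ≫ η[A] := by
      rw [Category.assoc]; exact (UnipStruct.isKernel_kerι f).w
    let a := hker.lift (κ ≫ iE') (toUnit _) h1
    have ha : a ≫ i = κ ≫ iE' := hker.lift_fst _ _ _
    haveI : IsClosedImmersion κ.left := UnipStruct.isClosedImmersion_kerι f
    haveI := hi
    haveI : IsClosedImmersion (a.left ≫ i.left) := by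
      rw [← Over.comp_left, ha, Over.comp_left]; infer_instance
    haveI : IsClosedImmersion a.left := IsClosedImmersion.of_comp a.left i.left
    haveI : IsProper (UnipStruct.kerObj f).hom := by rw [← Over.w κ]; infer_instance
    haveI : IsAffineHom (UnipStruct.kerObj f).hom := by rw [← Over.w a]; infer_instance
    exact IsFinite.iff_isProper_and_isAffineHom.2 ⟨‹_›, ‹_›⟩
  haveI : IsFinite f.left := AlgGrpLib.TorusIsog.isFinite_of_kernel f
  haveI : LocallyOfFiniteType (f.left ≫ A.hom) := by rw [Over.w f]; infer_instance
  have h1 := AbVarLib.topologicalKrullDim_eq_of_lqf A.hom f.left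
  rw [← hg, ← h1]
  exact (DimLib.topologicalKrullDim_bc E.hom L).symm

end Groth.Agent.S19893
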