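import Groth.Statements.S19898
import Groth.Agent.SymTenLib.Alt

set_option autoImplicit false
universe u
open scoped TensorProduct
open SymTen

namespace Groth.Agent.S19898

/-- Let R be a commutative ring and R' a commutative R-algebra that is free of rank d as an R-module.
Let (C, γ) be the degree-d divided power algebra of R' over R, given as an R-algebra C with a
multiplicative homogeneous degree-d polynomial law γ : R' → C that is universal among such laws; let
φ : C → T^d_R(R') be the R-algebra homomorphism into the d-fold tensor power whose composite with γ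
is the law x ↦ x ⊗ ⋯ ⊗ x, and π : C → R the R-algebra homomorphism whose composite with γ is the
norm law of R' over R. Let T^d_R(R') act on itself factor by factor and let I_d ⊂ T^d_R(R') be the
R-span of the pure tensors with two equal factors, so that T^d_R(R')/I_d is the top exterior power
Λ^d_R(R'), free of rank one. Then for every c ∈ C and every x ∈ T^d_R(R') the element φ(c)·x − π(c)
x lies in I_d: the symmetric tensor φ(c) acts on Λ^d_R(R') as multiplication by the scalar π(c),
i.e. the homomorphism TS^d_R(R') → R given by the action on the top exterior power, composed with φ,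
equals π. (The source states this for R' finite locally free of constant rank d; the free case is
the affine-local form.) -/
theorem result (R : Type u) [CommRing R] (R' : Type u) [CommRing R']
    [Algebra R R'] [Module.Free R R'] [Module.Finite R R'] (d : ℕ) (hd : Module.finrank R R' = d)
    {C : Type u} [CommRing C] [Algebra R C] (γ : PolLaw.MulLaw R R' C d) (hγ : PolLaw.IsGammaD γ)
    (φ : C →ₐ[R] (⨂[R] _ : Fin d, R')) (hφ : PolLaw.MulLaw.postcomp φ γ = SymTen.tpowLaw R R' d)
    (π : C →ₐ[R] R) (hπ : PolLaw.MulLaw.postcomp π γ = PolLaw.normLaw R R' d hd)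
    (c : C) (x : ⨂[R] _ : Fin d, R') :
    SymTen.tpowAct R R' R' d (φ c) x - π c • x ∈ SymTen.altSpan R R' d := by
  classical
  rcases subsingleton_or_nontrivial R with hR | hR
  · haveI : Subsingleton (⨂[R] _ : Fin d, R') := Module.subsingleton R _
    rw [Subsingleton.elim (SymTen.tpowAct R R' R' d (φ c) x - π c • x) 0]
    exact Submodule.zero_mem _
  let b := Module.finBasisOfFinrankEq R R' hd
  -- the image consists of symmetric tensors
  have hsym : ∀ c, φ c ∈ SymTen.TS R R' d := by
    intro c σ
    rw [← SymTen.perm_apply]
    obtain ⟨g, -, huniq⟩ := hγ (⨂[R] _ : Fin d, R') (SymTen.tpowLaw R R' d)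
    have h1 : φ = g := huniq φ (congrArg PolLaw.MulLaw.law hφ)
    have h2 : (SymTen.perm R R' d σ).comp φ = g := by
      refine huniq _ ?_
      ext S _ _ y
      have hg : φ.toLinearMap.lTensor S (γ.law.toFun' S y) = (SymTen.tpowLaw R R' d).law.toFun' S y :=
        congrArg (fun F : PolLaw.MulLaw R R' _ d => F.law.toFun' S y) hφ
      change ((SymTen.perm R R' d σ).comp φ).toLinearMap.lTensor S (γ.law.toFun' S y) = _
      rw [AlgHom.comp_toLinearMap, LinearMap.lTensor_comp_apply, hg, SymTen.tpowLaw,
        PolLaw.MulLaw.prodMap_toFun', PolLaw.lTensor_algHom_apply, map_prod]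
      refine Fintype.prod_equiv σ _ _ fun j => ?_
      rw [← AlgHom.comp_apply,
        ← Algebra.TensorProduct.map_id_comp]
      congr 2
      ext a
      simp only [AlgHom.comp_apply, PiTensorProduct.singleAlgHom_apply, SymTen.perm_tprod]
      congr 1
      funext k
      simp only [MonoidHom.mulSingle_apply]
      by_cases hk : σ.symm k = j
      · have : k = σ j := by rw [← hk]; simp
        subst this; simp
      · have : k ≠ σ j := fun h => hk (by rw [h]; simp)
        simp [Pi.mulSingle_eq_of_ne hk, Pi.mulSingle_eq_of_ne this]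
    exact DFunLike.congr_fun (h2.trans h1.symm) c
  let ψ : C →ₐ[R] R := AlgHom.ofLinearMap ((Groth.Agent.SymTenLib.chi b) ∘ₗ φ.toLinearMap)
    (by simp [Groth.Agent.SymTenLib.chi_one])
    (fun a a' => by simp [Groth.Agent.SymTenLib.chi_mul b (hsym a)])
  have hψ : π = ψ := by
    obtain ⟨g, -, huniq⟩ := hγ R (PolLaw.normLaw R R' d hd)
    rw [huniq π (congrArg PolLaw.MulLaw.law hπ), eq_comm]
    refine (huniq ψ ?_).symm ▸ rfl
    have hring : ∀ (T : Type u) [CommRing T] [Algebra R T] (y : T ⊗[R] R'),
        (PolLaw.postcomp ψ.toLinearMap γ.law).toFun' T y = (PolLaw.normLaw R R' d hd).law.toFun' T y := by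
      intro T _ _ y
      have hg : φ.toLinearMap.lTensor T (γ.law.toFun' T y) = (SymTen.tpowLaw R R' d).law.toFun' T y :=
        congrArg (fun F : PolLaw.MulLaw R R' _ d => F.law.toFun' T y) hφ
      rw [PolLaw.normLaw_apply, ← Groth.Agent.SymTenLib.chi_tpowLaw b hd T y, ← hg, ← LinearMap.lTensor_comp_apply]
      rfl
    ext S _ _ y
    let e := (Algebra.TensorProduct.lid R S).toAlgHom
    let e' := (Algebra.TensorProduct.lid R S).symm.toAlgHom
    have hee : e.toLinearMap.rTensor R' (e'.toLinearMap.rTensor R' y) = y := by
      rw [← LinearMap.rTensor_comp_apply, show e.toLinearMap ∘ₗ e'.toLinearMap = LinearMap.id from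
        LinearMap.ext fun z => (Algebra.TensorProduct.lid R S).apply_symm_apply z, LinearMap.rTensor_id]
      rfl
    have h1 := congrFun ((PolLaw.postcomp ψ.toLinearMap γ.law).isCompat' e) (e'.toLinearMap.rTensor R' y)
    have h2 := congrFun ((PolLaw.normLaw R R' d hd).law.isCompat' e) (e'.toLinearMap.rTensor R' y)
    simp only [Function.comp_apply, hee] at h1 h2
    rw [← h1, ← h2, hring]
  have := Groth.Agent.SymTenLib.act_sub_chi_mem b (hsym c) x
  rw [hψ]
  exact this

end Groth.Agent.S19898
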