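import Groth.Statements.S19900
import Groth.Agent.Stk19b.Gerbe.Flat
import Groth.Agent.Stk19.DiagCalc
import Groth.Agent.Stk19.AlgSt.DescentSp
import Groth.Agent.Stk19.AlgSt.SepDiag
import Groth.Agent.Stk19.AlgSt.UnivTop
import Groth.Agent.Stk19.AlgSt.SrcLocal
import Groth.Agent.AlgSpLib.FpqcBaseTop
import Groth.Agent.AlgSpLib.FpqcBaseAffine2
import Groth.Agent.AlgSpLib.ProperImage

set_option autoImplicit false
universe u
open CategoryTheory AlgebraicGeometry
open AlgSt

set_option backward.isDefEq.respectTransparency.types false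
set_option backward.isDefEq.respectTransparency false

namespace Groth.Agent.S19900
open CategoryTheory CategoryTheory.Limits AlgebraicGeometry FibCat
open Groth.Agent Groth.Agent.Stk19 Groth.Agent.Desc19

variable {S : Scheme.{u}} {P Q R : MorphismProperty (AlgSp.Sp S)} {𝒳 𝒴 𝒵 : AlgSt.Cat S}

/-- A property of the second factor from the first factor and the composite, over algebraic spaces. -/
theorem with_of_comp_right (hR : RespSrc P) (h𝒳 : IsFibGrpd 𝒳.p) (h𝒴 : IsFibGrpd 𝒴.p)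
    {f : 𝒳 ⥤ᵇ 𝒴} {g : 𝒴 ⥤ᵇ 𝒵} (hf : AlgSt.RepByAlgSp1 f) (hg : AlgSt.RepByAlgSpWith Q g)
    (hfg : AlgSt.RepByAlgSpWith P (BasedFunctor.comp f g))
    (hkey : ∀ {U : Over S} {V W : AlgSp.Space S} (z : AlgSt.ofSp W.obj ⥤ᵇ 𝒴) (b : W.obj ⟶ (AlgSp.yon S).obj U)
      (e : AlgSt.ofSp V.obj ⥤ᵇ fp z f) (a : V.obj ⟶ W.obj), Q b → IsEquivOver e →
      (BasedFunctor.comp e (fpFst z f) ≅ AlgSt.ofSpMap a) → P (a ≫ b) → R b) :
    AlgSt.RepByAlgSpWith R g := fun U y => by
  obtain ⟨W, eW, heW, hb⟩ := hg U y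
  obtain ⟨V', e', he', hab⟩ := hfg U y
  let z := BasedFunctor.comp eW (fpSnd y g)
  obtain ⟨V, a, e, he, ⟨i⟩⟩ := exists_rep_map h𝒳 h𝒴 hf W z
  refine ⟨W, eW, heW, hkey z _ e a.hom hb he i ?_⟩
  have : (BasedFunctor.id 𝒴).toFunctor.Full := id_full _
  have : (BasedFunctor.id 𝒴).toFunctor.Faithful := id_faithful _
  let E : fp z f ⥤ᵇ fp (fpSnd y g) f :=
    fpMap (F' := fpSnd y g) (G' := f) eW (BasedFunctor.id _) (BasedFunctor.id _) (Iso.refl _) (Iso.refl _)
  have hE : IsEquivOver E := isEquivOver_fpMap _ _ _ _ _ heW (isEquivOver_id _)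
  let e₂ := BasedFunctor.comp e (BasedFunctor.comp E (fpCompFactor y f g))
  have h := repWith_any hR he' hab e₂
    (isEquivOver_comp he (isEquivOver_comp hE (isEquivOver_fpCompFactor y f g)))
  have k : BasedFunctor.comp e₂ (fpFst y (BasedFunctor.comp f g)) =
      BasedFunctor.comp (BasedFunctor.comp e (fpFst z f)) (BasedFunctor.comp eW (fpFst y g)) := rfl
  have k' : AlgSt.spMapOfOver (BasedFunctor.comp (BasedFunctor.comp e (fpFst z f))
      (BasedFunctor.comp eW (fpFst y g))) = a.hom ≫ AlgSt.spMapOfOver (BasedFunctor.comp eW (fpFst y g)) := by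
    rw [spMapOfOver_comp, spHom_congr i.hom, spHom_ofSpMap]
  rw [k, k'] at h
  exact h

theorem atlasDescent_univClosed : AtlasDescent (AlgSp.IsUnivClosedMor (S := S)) := fun V Z a W p hpe hps h =>
  (AlgSpLib.isLocalOnBase_fpqc_univClosed (fun _ : PUnit.{u + 1} => (AlgSp.yon S).obj W) (fun _ => p) Z.property
    (fun _ => AlgSp.IsAlgSpace.yon_obj W)
    (AlgSpLib.isFpqcCover_of_etale Z.property (fun _ : PUnit.{u + 1} => W) (fun _ => p) (fun _ => hpe)
      fun x => ⟨PUnit.unit, AlgSpLib.surjective_map_of_repWith hps x⟩)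
    a V.property (fun _ => pullback a p) (fun _ => pullback.snd a p) (fun _ => pullback.fst a p)
    (fun _ => AlgSpLib.isAlgSpace_pullback (Y := ⟨_, AlgSp.IsAlgSpace.yon_obj W⟩) a p)
    (fun _ => IsPullback.of_hasPullback a p)).2 fun _ => h

/-- A pair of points of `𝒴` over `𝒵` lifts fppf locally to a pair of points of `𝒳`. -/
theorem exists_pair_lift (h𝒳 : AlgSt.IsAlgStack Scheme.fppfPrecoverage 𝒳)
    (h𝒴 : AlgSt.IsAlgStack Scheme.fppfPrecoverage 𝒴) {f : 𝒳 ⥤ᵇ 𝒴} (g : 𝒴 ⥤ᵇ 𝒵)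
    (hf : Gerb.LocSurjObj (AlgSp.J S) f) (U : Over S) (y : overCat U ⥤ᵇ fp g g) :
    ∃ (W : Over S) (c : W ⟶ U), Flat c.left ∧ LocallyOfFinitePresentation c.left ∧ Surjective c.left ∧
      ∃ z : overCat W ⥤ᵇ fp (BasedFunctor.comp f g) (BasedFunctor.comp f g),
        Nonempty (BasedFunctor.comp z (relPairMap f f g) ≅ BasedFunctor.comp (AlgSt.overMap c) y) := by
  obtain ⟨W₁, c₁, hf₁, hl₁, hs₁, z₁, ⟨i₁⟩⟩ := Stk19b.Gerbe.exists_cover_of_locSurjObj h𝒳.isStack h𝒴.isStack hf U
    (BasedFunctor.comp y (fpFst g g))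
  obtain ⟨W₂, c₂, hf₂, hl₂, hs₂, z₂, ⟨i₂⟩⟩ := Stk19b.Gerbe.exists_cover_of_locSurjObj h𝒳.isStack h𝒴.isStack hf W₁
    (BasedFunctor.comp (AlgSt.overMap c₁) (BasedFunctor.comp y (fpSnd g g)))
  let M := BasedFunctor.comp (AlgSt.overMap c₂) (AlgSt.overMap c₁)
  let k₁ : BasedFunctor.comp (BasedFunctor.comp (AlgSt.overMap c₂) z₁) f ≅
      BasedFunctor.comp M (BasedFunctor.comp y (fpFst g g)) :=
    (Stk.restr (AlgSt.overMap c₂) _).mapIso i₁
  let α : BasedFunctor.comp (BasedFunctor.comp (AlgSt.overMap c₂) z₁) (BasedFunctor.comp f g) ≅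
      BasedFunctor.comp z₂ (BasedFunctor.comp f g) :=
    (postB _ g).mapIso k₁ ≪≫ (Stk.restr (BasedFunctor.comp M y) _).mapIso (fpIso g g) ≪≫ ((postB _ g).mapIso i₂).symm
  let t : BasedFunctor.comp (fpLift (BasedFunctor.comp (AlgSt.overMap c₂) z₁) z₂ α) (relPairMap f f g) ≅
      BasedFunctor.comp M y :=
    isoMk (fun a => fpIsoMk (appIso k₁ a) (appIso i₂ a) (by
        show g.map (k₁.hom.toNatTrans.app a) ≫ (y.obj (M.obj a)).obj.iso.hom =
          (g.map (k₁.hom.toNatTrans.app a) ≫ (y.obj (M.obj a)).obj.iso.hom ≫ g.map (i₂.inv.toNatTrans.app a)) ≫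
            g.map (i₂.hom.toNatTrans.app a)
        rw [Category.assoc, Category.assoc, ← g.toFunctor.map_comp]
        have : i₂.inv.toNatTrans.app a ≫ i₂.hom.toNatTrans.app a = 𝟙 _ := (appIso i₂ a).inv_hom_id
        rw [this]
        exact congrArg (g.map (k₁.hom.toNatTrans.app a) ≫ ·)
          (((congrArg ((y.obj (M.obj a)).obj.iso.hom ≫ ·) (g.toFunctor.map_id _)).trans (Category.comp_id _)).symm)))
      (fun a => fpIsoMk_vert _ _ _ (vert_change 𝒴.p _ (based_vert k₁ a) rfl))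
      (fun φ => fp_hom_ext (k₁.hom.toNatTrans.naturality φ) (i₂.hom.toNatTrans.naturality φ))
  have e : AlgSt.overMap (c₂ ≫ c₁) ≅ M := by
    refine (isoToSlice _ _ fun a => ?_)
    simp [AlgSt.overMap, M]
    exact (Category.assoc _ _ _).symm
  refine ⟨W₂, c₂ ≫ c₁, ?_, ?_, ?_, _, ⟨t ≪≫ (postB _ y).mapIso e.symm⟩⟩
  · rw [Over.comp_left]
    exact MorphismProperty.comp_mem @Flat _ _ hf₂ hf₁
  · rw [Over.comp_left]
    exact MorphismProperty.comp_mem @LocallyOfFinitePresentation _ _ hl₂ hl₁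
  · rw [Over.comp_left]
    exact MorphismProperty.comp_mem @Surjective _ _ hs₂ hs₁



/-- Let f : 𝒳 → 𝒴 and g : 𝒴 → 𝒵 be morphisms of algebraic stacks with composite h : 𝒳 → 𝒵. If f is flat,
surjective, universally injective and locally of finite presentation, the diagonal of f is
universally closed and h is separated, then g is separated. (The published statement does not ask
the diagonal of f to be universally closed, and without it the statement fails: over the affine line
T over a field let G be the constant group scheme with two elements, H the etale group scheme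
obtained from G by gluing its two sections over the complement of the origin, and f the morphism
from the classifying stack of G to that of H induced by the quotient map; then f is flat,
surjective, universally injective and locally of finite presentation, the classifying stack of G is
separated over T since G is finite, and that of H is not since H is not separated. The published
argument uses that the diagonal of f is universally closed.) -/
theorem result
    (S : Scheme.{u}) (𝒳 : AlgSt.Cat S) (𝒴 : AlgSt.Cat S) (𝒵 : AlgSt.Cat S)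
    (h𝒳 : AlgSt.IsAlgStack Scheme.fppfPrecoverage 𝒳)
    (h𝒴 : AlgSt.IsAlgStack Scheme.fppfPrecoverage 𝒴)
    (h𝒵 : AlgSt.IsAlgStack Scheme.fppfPrecoverage 𝒵)
    (f : 𝒳 ⥤ᵇ 𝒴) (g : 𝒴 ⥤ᵇ 𝒵)
    (hf₁ : AlgSt.IsSurjective f) (hf₂ : AlgSt.LocQ (AlgSp.LocP @Flat) f)
    (hf₃ : AlgSt.LocQ (AlgSp.LocP @LocallyOfFinitePresentation) f)
    (hf₄ : AlgSt.IsUnivInjective Scheme.fppfPrecoverage f)
    (hf₅ : AlgSt.RepByAlgSpWith AlgSp.IsUnivClosedMor (FibCat.diag f))
    (hh : AlgSt.IsSeparatedMor (BasedFunctor.comp f g)) :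
    AlgSt.IsSeparatedMor g := by
  have hx := h𝒳.isStack.1
  have hy := h𝒴.isStack.1
  have hR : RespSrc (AlgSp.IsProperMor (S := S)) := respSrc_of_baseChange pbStable_proper
  have hlft := diag_lft h𝒴 h𝒵 g
  have hd₁ := repByAlgSp1_of_with hf₅
  have hds : AlgSt.IsSurjective (FibCat.diag f) := fun p =>
    ⟨AlgSt.Points.map (fpFst f f) p, hf₄ 𝒳 h𝒳 f (by
      rw [← points_map_comp]
      exact points_map_id _)⟩
  have hsurj := with_surjective_of_isSurjective hx (fibGrpd_fp hx hx hy f f) hd₁ hds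
  have hdq : AlgSt.RepByAlgSpWith AlgSp.IsProperMor (BasedFunctor.comp (FibCat.diag f) (fpPush f f g)) :=
    repByAlgSpWith_of_iso (diagCompIso f g).symm hh
  have hq : AlgSt.RepByAlgSpWith AlgSp.IsProperMor (fpPush f f g) :=
    with_of_comp_right hR hx (fibGrpd_fp hx hx hy f f) hd₁ (fpPush_with' f f hlft) hdq
      fun {U V W} z b e a hb he i hab =>
        AlgSpLib.isProperMor_of_jointly_surjective (ι := PUnit.{u + 1}) W.property (AlgSp.IsAlgSpace.yon_obj U)
          (fun _ => V.property) (fun _ => a)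
          (fun x => ⟨PUnit.unit, rep_surjective hsurj z he i x⟩)
          (fun _ => rep_prop_desc respSrc_univSp atlasDescent_univClosed hf₅ z he i) hb (fun _ => hab)
  have hls := Stk19b.Gerbe.locSurjObj_of_flat_lfp h𝒳 h𝒴 hf₁ hf₂ hf₃
  refine with_of_lifts hR (repByAlgSp1_of_with hlft) (relPairMap f f g) (fun U y V a hlift => ?_)
    ((repByAlgSpWith_iff_of_square (f' := fpPush f f g) (f := fpFst (relPairMap f f g) (FibCat.diag g))
      (a := relMagic f f g) (b := BasedFunctor.id _) (isEquivOver_relMagic f f g) (isEquivOver_id _)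
      (Iso.refl _)).1 hq)
  obtain ⟨W, c, h₁, h₂, h₃, z, ⟨t⟩⟩ := exists_pair_lift h𝒳 h𝒴 g hls U y
  exact schDescent_proper a c h₁ h₂ h₃ (hlift W c z t)

end Groth.Agent.S19900
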