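import Groth.Statements.S19901
import Groth.Agent.Stk19b.LCIST.Basic

set_option autoImplicit false
universe u
open CategoryTheory AlgebraicGeometry
open AlgSt

set_option backward.isDefEq.respectTransparency.types false
set_option backward.isDefEq.respectTransparency false

namespace Groth.Agent.S19901


/-- Let f : 𝒳 → 𝒴, q : 𝒴 → 𝒵 and p : 𝒳 → 𝒵 be morphisms of algebraic stacks forming a 2-commutative
triangle (a 2-isomorphism between q ∘ f and p is given). If q is smooth and p is a local complete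
intersection morphism (Koszul), then f is a local complete intersection morphism. Smooth and local
complete intersection morphisms of algebraic stacks are read on one square of smooth scheme charts. -/
theorem result
    (S : Scheme.{u}) (𝒳 : AlgSt.Cat S) (𝒴 : AlgSt.Cat S) (𝒵 : AlgSt.Cat S)
    (h𝒳 : AlgSt.IsAlgStack Scheme.fppfPrecoverage 𝒳)
    (h𝒴 : AlgSt.IsAlgStack Scheme.fppfPrecoverage 𝒴)
    (h𝒵 : AlgSt.IsAlgStack Scheme.fppfPrecoverage 𝒵)
    (f : 𝒳 ⥤ᵇ 𝒴) (q : 𝒴 ⥤ᵇ 𝒵) (p : 𝒳 ⥤ᵇ 𝒵) (e : BasedFunctor.comp f q ≅ p)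
    (hq : AlgSt.LocQ (AlgSp.LocP @Smooth) q) (hp : AlgSt.LocQ AlgSp.IsLCIMor p) :
    AlgSt.LocQ AlgSp.IsLCIMor f := by
  obtain ⟨U, V, x, y, h, α, hx, hxs, hy, hh⟩ := hp
  refine Stk19.locQ_of_comp (Groth.Agent.Stk19b.LCIST.smST_lci) h𝒳 h𝒴 h𝒵 (g := q) Stk19.smST_smooth hq ?_
    ⟨U, V, x, y, h, (Stk.restr x _).mapIso e ≪≫ α, hx, hxs, hy, hh⟩
  intro T W V' t k hk htk
  haveI : Smooth k.left := (Stk19.locP_yon_iff AlgSpLib.etLocal_smooth k).1 hk
  refine Stk19b.LCIST.locP_lci_yon t (Stk19b.LCIST.lci_cancel t.left k.left ?_)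
  rw [← Over.comp_left]
  exact Stk19b.LCIST.lci_of_yon htk

end Groth.Agent.S19901
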