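import Groth.Statements.S19902
import Groth.Agent.Stk19b.OpenSub.Restrict

set_option autoImplicit false
universe u
open CategoryTheory AlgebraicGeometry
open AlgSt

set_option backward.isDefEq.respectTransparency.types false
set_option backward.isDefEq.respectTransparency false

namespace Groth.Agent.S19902


/-- Let f : 𝒳 → 𝒴 be a morphism of algebraic stacks and 𝒰 ⊂ 𝒳 the largest open substack on which f is
smooth. Formation of 𝒰 commutes with precomposing by smooth morphisms: for a smooth g : 𝒳' → 𝒳, the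
inverse image of 𝒰 in 𝒳' is the largest open substack of 𝒳' on which f ∘ g is smooth. Open substacks
are given by their object predicates, the inverse image by composing the predicate with g on
objects, and smoothness is read on one square of smooth scheme charts. -/
theorem result
    (S : Scheme.{u}) (𝒳' : AlgSt.Cat S) (𝒳 : AlgSt.Cat S) (𝒴 : AlgSt.Cat S)
    (h𝒳' : AlgSt.IsAlgStack Scheme.fppfPrecoverage 𝒳')
    (h𝒳 : AlgSt.IsAlgStack Scheme.fppfPrecoverage 𝒳)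
    (h𝒴 : AlgSt.IsAlgStack Scheme.fppfPrecoverage 𝒴)
    (g : 𝒳' ⥤ᵇ 𝒳) (hg : AlgSt.LocQ (AlgSp.LocP @Smooth) g) (f : 𝒳 ⥤ᵇ 𝒴)
    (Q : 𝒳.obj → Prop) (hQ₁ : AlgSt.IsOpenSubstack 𝒳 Q Scheme.fppfPrecoverage)
    (hQ₂ : AlgSt.LocQ (AlgSp.LocP @Smooth) (BasedFunctor.comp (AlgSt.subIncl 𝒳 Q) f))
    (hQ₃ : ∀ Q' : 𝒳.obj → Prop, AlgSt.IsOpenSubstack 𝒳 Q' Scheme.fppfPrecoverage →
      AlgSt.LocQ (AlgSp.LocP @Smooth) (BasedFunctor.comp (AlgSt.subIncl 𝒳 Q') f) → ∀ a, Q' a → Q a) :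
    AlgSt.IsOpenSubstack 𝒳' (fun a ↦ Q (g.obj a)) Scheme.fppfPrecoverage ∧
      AlgSt.LocQ (AlgSp.LocP @Smooth)
        (BasedFunctor.comp (AlgSt.subIncl 𝒳' (fun a ↦ Q (g.obj a))) (BasedFunctor.comp g f)) ∧
      ∀ Q' : 𝒳'.obj → Prop, AlgSt.IsOpenSubstack 𝒳' Q' Scheme.fppfPrecoverage →
        AlgSt.LocQ (AlgSp.LocP @Smooth) (BasedFunctor.comp (AlgSt.subIncl 𝒳' Q') (BasedFunctor.comp g f)) →
        ∀ a, Q' a → Q (g.obj a) := by
  have hg𝒳' := h𝒳'.isStack.1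
  have hg𝒳 := h𝒳.isStack.1
  have hc : ∀ ⦃T W V : Over S⦄ (t : T ⟶ W) (k : W ⟶ V), AlgSp.LocP @Smooth ((AlgSp.yon S).map t) →
      AlgSp.LocP @Smooth ((AlgSp.yon S).map k) → AlgSp.LocP @Smooth ((AlgSp.yon S).map (t ≫ k)) := by
    intro T W V t k ht hk
    haveI : Smooth t.left := (Stk19.locP_yon_iff AlgSpLib.etLocal_smooth t).1 ht
    haveI : Smooth k.left := (Stk19.locP_yon_iff AlgSpLib.etLocal_smooth k).1 hk
    exact (Stk19.locP_yon_iff AlgSpLib.etLocal_smooth _).2 (inferInstanceAs (Smooth (t.left ≫ k.left)))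
  let T := Set.range (AlgSt.Points.map (AlgSt.subIncl 𝒳 Q))
  have hT : IsOpen T := Stk19b.isOpen_range_openSub h𝒳 hQ₁
  have eQ : Q = Stk19b.inSet T := Stk19b.openSub_eq h𝒳 hQ₁
  let T₁ := AlgSt.Points.map g ⁻¹' T
  have hT₁ : IsOpen T₁ := hT.preimage (Stk19b.UCDvr.continuous_map' h𝒳 g)
  have e₁ : (fun a ↦ Q (g.obj a)) = Stk19b.inSet T₁ := funext fun a => by
    show Q (g.obj a) = _
    rw [eQ]
    exact propext (Stk19b.inSet_obj_iff hg𝒳' hg𝒳 g T a)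
  have hS₁ := Stk19b.isOpenSubstack_inSet h𝒳' hT₁
  have hS := Stk19b.isOpenSubstack_inSet h𝒳 hT
  refine ⟨e₁ ▸ hS₁, ?_, fun Q' hQ' h' a ha => ?_⟩
  · rw [e₁]
    rw [eQ] at hQ₂
    let gT := Stk19b.restrictTo g (Stk19b.inSet T₁) (Stk19b.inSet T) fun a ha =>
      (Stk19b.inSet_obj_iff hg𝒳' hg𝒳 g T a).2 ha
    haveI : (AlgSt.subIncl 𝒳 (Stk19b.inSet T)).toFunctor.Full := inferInstanceAs (ObjectProperty.ι _).Full
    haveI : (AlgSt.subIncl 𝒳 (Stk19b.inSet T)).toFunctor.Faithful := inferInstanceAs (ObjectProperty.ι _).Faithful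
    have hgT : AlgSt.LocQ (AlgSp.LocP @Smooth) gT :=
      Stk19b.locQ_of_comp_ff Stk19.smST_smooth hS₁.2.1 hS.2.1 h𝒳 gT (AlgSt.subIncl 𝒳 (Stk19b.inSet T))
        (Stk19b.smooth_openImm hS.2.2)
        (Stk19.locQ_comp (f := AlgSt.subIncl 𝒳' (Stk19b.inSet T₁)) (g := g) Stk19.smST_smooth hc hS₁.2.1 h𝒳' h𝒳
          (Stk19.locQ_of_with Stk19.smST_smooth hS₁.2.1 h𝒳' (Stk19b.smooth_openImm hS₁.2.2)) hg)
    exact Stk19.locQ_comp (f := gT) (g := BasedFunctor.comp (AlgSt.subIncl 𝒳 (Stk19b.inSet T)) f)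
      Stk19.smST_smooth hc hS₁.2.1 hS.2.1 h𝒴 hgT hQ₂
  · let T₂ := Set.range (AlgSt.Points.map (AlgSt.subIncl 𝒳' Q'))
    have hT₂ : IsOpen T₂ := Stk19b.isOpen_range_openSub h𝒳' hQ'
    rw [Stk19b.openSub_eq h𝒳' hQ'] at h' ha
    let A := AlgSt.Points.map g '' T₂
    have hA : IsOpen A := Stk19.isOpenMor_of_locQ h𝒳' h𝒳
      (Stk19b.locQ_mono (fun _ _ _ => AlgSpLib.locP_mono fun _ _ k (_ : Smooth k) => (inferInstance : Flat k)) hg)
      (Stk19b.locQ_mono (fun _ _ _ => AlgSpLib.locP_mono fun _ _ k (_ : Smooth k) =>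
        (inferInstance : LocallyOfFinitePresentation k)) hg) T₂ hT₂
    have hS₂ := Stk19b.isOpenSubstack_inSet h𝒳' hT₂
    have hSA := Stk19b.isOpenSubstack_inSet h𝒳 hA
    let gA := Stk19b.restrictTo g (Stk19b.inSet T₂) (Stk19b.inSet A) fun a ha =>
      (Stk19b.inSet_obj_iff hg𝒳' hg𝒳 g A a).2 (ha.trans fun z hz => ⟨z, hz, rfl⟩)
    haveI : (AlgSt.subIncl 𝒳 (Stk19b.inSet A)).toFunctor.Full := inferInstanceAs (ObjectProperty.ι _).Full
    haveI : (AlgSt.subIncl 𝒳 (Stk19b.inSet A)).toFunctor.Faithful := inferInstanceAs (ObjectProperty.ι _).Faithful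
    have hgA : AlgSt.LocQ (AlgSp.LocP @Smooth) gA :=
      Stk19b.locQ_of_comp_ff Stk19.smST_smooth hS₂.2.1 hSA.2.1 h𝒳 gA (AlgSt.subIncl 𝒳 (Stk19b.inSet A))
        (Stk19b.smooth_openImm hSA.2.2)
        (Stk19.locQ_comp (f := AlgSt.subIncl 𝒳' (Stk19b.inSet T₂)) (g := g) Stk19.smST_smooth hc hS₂.2.1 h𝒳' h𝒳
          (Stk19.locQ_of_with Stk19.smST_smooth hS₂.2.1 h𝒳' (Stk19b.smooth_openImm hS₂.2.2)) hg)
    have hs : AlgSt.IsSurjective gA := fun z => by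
      have hz : AlgSt.Points.map (AlgSt.subIncl 𝒳 (Stk19b.inSet A)) z ∈ A :=
        (Stk19b.range_subIncl_inSet A hg𝒳).le ⟨z, rfl⟩
      obtain ⟨w, hw, e⟩ := hz
      obtain ⟨w', rfl⟩ := (Stk19b.range_subIncl_inSet T₂ hg𝒳').ge hw
      refine ⟨w', Stk19b.points_map_subIncl_injective hg𝒳 (fun _ _ φ h => Stk19b.inSet_of_hom φ h) ?_⟩
      rw [← e, ← Stk19.points_map_comp, ← Stk19.points_map_comp]
      rfl
    have hf : AlgSt.LocQ (AlgSp.LocP @Smooth) (BasedFunctor.comp (AlgSt.subIncl 𝒳 (Stk19b.inSet A)) f) :=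
      Stk19.locQ_of_precomp (f := gA) Stk19.smST_smooth hS₂.2.1 hSA.2.1 h𝒴 hs (fun T W V t k x m hx hm i hsurj h => by
        rw [Functor.map_comp] at h
        exact Stk19.smST_source Stk19.smST_smooth (AlgSp.IsAlgSpace.yon_obj W) (AlgSp.IsAlgSpace.yon_obj V)
          (AlgSp.IsAlgSpace.yon_obj T) ((AlgSp.yon S).map t)
          (Stk19.good_of_locQ Stk19.smST_smooth hS₂.2.1 hSA.2.1 hgA hx T m t hm i)
          (Stk19.surjective_yon hsurj.surj) h) h'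
    have hsub : A ⊆ T := by
      have h1 := (Stk19b.openSub_le_iff h𝒳 hSA hQ₁).1 (fun y hy => hQ₃ _ hSA hf y hy)
      rwa [Stk19b.range_subIncl_inSet A hg𝒳] at h1
    rw [eQ]
    exact (Stk19b.inSet_obj_iff hg𝒳' hg𝒳 g T a).2 (ha.trans fun z hz => hsub ⟨z, hz, rfl⟩)

end Groth.Agent.S19902
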