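import Groth.Statements.S19904
import Groth.Agent.ArtFunLib.Tangent
-- import your own Groth.Agent.* helpers here

set_option autoImplicit false
universe u v
open CategoryTheory
open ArtFun

namespace Groth.Agent.S19904

/-- For functors F, G, G' on Artinian local Λ-algebras with residue field k and morphisms φ : F → G, ψ :
G' → G: if φ is smooth then the base change F ×_G G' → G' (second projection of the fibre product of
functors) is smooth. -/
theorem result {Λ : Type u} {k : Type u} [CommRing Λ] [Field k] [Algebra Λ k]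
    [IsNoetherianRing Λ] [Module.Finite Λ k]
    {F G G' : ArtFun.Art Λ k ⥤ Type v} (φ : F ⟶ G) (ψ : G' ⟶ G) (hφ : ArtFun.IsSmooth φ) :
    ArtFun.IsSmooth (Limits.pullback.snd φ ψ) := by
  intro B A μ hμ
  refine ArtFunLib.relCmp_surjective_iff.2 fun x y e => ?_
  obtain ⟨z, hz, hz'⟩ := ArtFunLib.relCmp_surjective_iff.1 (hφ μ hμ)
    ((Limits.pullback.fst φ ψ).app A x) (ψ.app B y)
    (by rw [← ArtFunLib.nat_app, ← e, ArtFunLib.pb_condition])
  obtain ⟨w, hw, hw'⟩ := ArtFunLib.pb_exists φ ψ z y hz'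
  refine ⟨w, ArtFunLib.pb_ext φ ψ ?_ ?_, hw'⟩
  · rw [ArtFunLib.nat_app, hw, hz]
  · rw [ArtFunLib.nat_app, hw', e]

end Groth.Agent.S19904
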