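import Groth.Statements.S19909
import Groth.Agent.Stk19b.OpenSub.SmoothNear

set_option autoImplicit false
universe u
open CategoryTheory AlgebraicGeometry CategoryTheory.Limits
open AlgSt

set_option backward.isDefEq.respectTransparency.types false
set_option backward.isDefEq.respectTransparency false

namespace Groth.Agent.S19909


/-- Let f : 𝒳 → 𝒴 be a morphism of algebraic stacks and 𝒰 ⊂ 𝒳 the largest open substack on which f is
smooth. Formation of 𝒰 commutes with base change along y : 𝒴' → 𝒴 when y is flat and locally of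
finite presentation, or when y is flat and f is locally of finite presentation: the inverse image of
𝒰 in 𝒴' ×_𝒴 𝒳 is the largest open substack on which the projection to 𝒴' is smooth. Open substacks
are given by their object predicates, the inverse image by reading the predicate on the second
component, and flat, locally of finite presentation and smooth are read on one square of smooth
scheme charts. -/
theorem result
    (S : Scheme.{u}) (𝒳 : AlgSt.Cat S) (𝒴 : AlgSt.Cat S) (𝒴' : AlgSt.Cat S)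
    (h𝒳 : AlgSt.IsAlgStack Scheme.fppfPrecoverage 𝒳)
    (h𝒴 : AlgSt.IsAlgStack Scheme.fppfPrecoverage 𝒴)
    (h𝒴' : AlgSt.IsAlgStack Scheme.fppfPrecoverage 𝒴')
    (f : 𝒳 ⥤ᵇ 𝒴) (y : 𝒴' ⥤ᵇ 𝒴) (hy : AlgSt.LocQ (AlgSp.LocP @Flat) y)
    (hfp : AlgSt.LocQ (AlgSp.LocP @LocallyOfFinitePresentation) y ∨
      AlgSt.LocQ (AlgSp.LocP @LocallyOfFinitePresentation) f)
    (Q : 𝒳.obj → Prop) (hQ₁ : AlgSt.IsOpenSubstack 𝒳 Q Scheme.fppfPrecoverage)
    (hQ₂ : AlgSt.LocQ (AlgSp.LocP @Smooth) (BasedFunctor.comp (AlgSt.subIncl 𝒳 Q) f))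
    (hQ₃ : ∀ Q' : 𝒳.obj → Prop, AlgSt.IsOpenSubstack 𝒳 Q' Scheme.fppfPrecoverage →
      AlgSt.LocQ (AlgSp.LocP @Smooth) (BasedFunctor.comp (AlgSt.subIncl 𝒳 Q') f) → ∀ a, Q' a → Q a) :
    AlgSt.IsOpenSubstack (FibCat.fp y f) (fun b ↦ Q b.obj.snd) Scheme.fppfPrecoverage ∧
      AlgSt.LocQ (AlgSp.LocP @Smooth)
        (BasedFunctor.comp (AlgSt.subIncl (FibCat.fp y f) fun b ↦ Q b.obj.snd) (FibCat.fpFst y f)) ∧
      ∀ Q' : (FibCat.fp y f).obj → Prop, AlgSt.IsOpenSubstack (FibCat.fp y f) Q' Scheme.fppfPrecoverage →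
        AlgSt.LocQ (AlgSp.LocP @Smooth) (BasedFunctor.comp (AlgSt.subIncl (FibCat.fp y f) Q') (FibCat.fpFst y f)) →
        ∀ b, Q' b → Q b.obj.snd := by
  have hN := Stk19.isAlgStack_fp h𝒴.isStack h𝒴.diag h𝒴' h𝒳 y f
  have hgN := hN.isStack.1
  have hg𝒳 := h𝒳.isStack.1
  let g := FibCat.fpSnd y f
  let T := Set.range (AlgSt.Points.map (AlgSt.subIncl 𝒳 Q))
  have hT : IsOpen T := Stk19b.isOpen_range_openSub h𝒳 hQ₁
  have eQ : Q = Stk19b.inSet T := Stk19b.openSub_eq h𝒳 hQ₁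
  let T₁ := AlgSt.Points.map g ⁻¹' T
  have hT₁ : IsOpen T₁ := hT.preimage (Stk19b.UCDvr.continuous_map' h𝒳 g)
  have e₁' : (fun b : (FibCat.fp y f).obj ↦ Q b.obj.snd) = Stk19b.inSet T₁ := funext fun b => by
    show Q (g.obj b) = _
    rw [eQ]
    exact propext (Stk19b.inSet_obj_iff hgN hg𝒳 g T b)
  have hS₁ := Stk19b.isOpenSubstack_inSet hN hT₁
  obtain ⟨V, yV, hyV, hyVs⟩ := h𝒴.atlas
  obtain ⟨G, eG, q, heG, -, ⟨iq⟩, hc, hcs, -⟩ := Stk19.exists_charts_over h𝒴' h𝒴 y yV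
  obtain ⟨U, e, k, he, hes, ⟨ik⟩, hx, hxs, -⟩ := Stk19.exists_charts_over h𝒳 h𝒴 f yV
  let c := BasedFunctor.comp eG (FibCat.fpSnd yV y)
  let x := BasedFunctor.comp e (FibCat.fpSnd yV f)
  let α : BasedFunctor.comp x f ≅ BasedFunctor.comp (AlgSt.overMap k) yV :=
    (Stk.restr e _).mapIso (FibCat.fpIso yV f).symm ≪≫ (Stk19.postB _ yV).mapIso ik
  let β : BasedFunctor.comp (AlgSt.overMap q) yV ≅ BasedFunctor.comp c y :=
    (Stk19.postB _ yV).mapIso iq.symm ≪≫ (Stk.restr eG _).mapIso (FibCat.fpIso yV y)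
  haveI hq : Flat q.left := (Stk19.locP_yon_iff AlgSpLib.etLocal_flat q).1
    (Stk19.good_of_locQ Stk19.smST_flat h𝒴' h𝒴 hy hyV G eG q heG iq)
  have hkq : LocallyOfFinitePresentation k.left ∨ LocallyOfFinitePresentation q.left := hfp.symm.imp
    (fun h => (Stk19.locP_yon_iff AlgSpLib.etLocal_lfp k).1
      (Stk19.good_of_locQ Stk19.smST_lfp h𝒳 h𝒴 h hyV U e k he ik))
    (fun h => (Stk19.locP_yon_iff AlgSpLib.etLocal_lfp q).1
      (Stk19.good_of_locQ Stk19.smST_lfp h𝒴' h𝒴 h hyV G eG q heG iq))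
  obtain ⟨e₁, ⟨j₁⟩, ⟨j₂⟩, he₁, hes₁⟩ := Stk19b.exists_chart_baseChange' q ik
  let P₁ := Stk19.fpPaste (AlgSt.overMap q) yV f
  have hP₁ := Stk19.isEquivOver_fpPaste (AlgSt.overMap q) yV f
  obtain ⟨E, hE, hEf, hEs⟩ := Stk19.exists_congr (F := BasedFunctor.comp (AlgSt.overMap q) yV) (G := f) β (Iso.refl _)
  obtain ⟨G₂, hG₂, -, ⟨c₂⟩⟩ := Stk19.exists_inverse (Stk19.isEquivOver_fpPaste c y f)
  let R := BasedFunctor.comp (BasedFunctor.comp P₁ E) G₂
  have hR : FibCat.IsEquivOver R := Stk19.isEquivOver_comp (Stk19.isEquivOver_comp hP₁ hE) hG₂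
  let e₂ := BasedFunctor.comp e₁ R
  have he₂ : AlgSt.RepByAlgSpWith (AlgSp.LocP @Smooth) e₂ := Stk19.with_comp_equiv hR (he₁ he)
  have hes₂ : AlgSt.RepByAlgSpWith AlgSp.IsSurjectiveMor e₂ := Stk19.with_comp_equiv hR (hes₁ hes)
  let W := pullback k q
  let r : W ⟶ G := pullback.snd k q
  let p : W ⟶ U := pullback.fst k q
  let zc := BasedFunctor.comp e₂ (FibCat.fpSnd c (FibCat.fpFst y f))
  let T₀ := BasedFunctor.comp e₁ (BasedFunctor.comp P₁ E)
  have i₂ : BasedFunctor.comp e₂ (FibCat.fpFst c (FibCat.fpFst y f)) ≅ AlgSt.overMap r :=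
    (Stk.restr T₀ _).mapIso ((Stk19.postB _ (FibCat.fpFst (BasedFunctor.comp c y) f)).mapIso c₂) ≪≫ eqToIso (by
      show BasedFunctor.comp e₁ (BasedFunctor.comp P₁ (BasedFunctor.comp E (FibCat.fpFst (BasedFunctor.comp c y) f))) = _
      rw [hEf]
      rfl) ≪≫ j₁
  have i₃ : BasedFunctor.comp zc g ≅ BasedFunctor.comp (AlgSt.overMap p) x :=
    (Stk.restr T₀ _).mapIso ((Stk19.postB _ (FibCat.fpSnd (BasedFunctor.comp c y) f)).mapIso c₂) ≪≫ eqToIso (by
      show BasedFunctor.comp e₁ (BasedFunctor.comp P₁ (BasedFunctor.comp E (FibCat.fpSnd (BasedFunctor.comp c y) f))) = _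
      rw [hEs]
      rfl) ≪≫ (Stk19.postB _ (FibCat.fpSnd yV f)).mapIso j₂
  have hzc : AlgSt.RepByAlgSpWith (AlgSp.LocP @Smooth) zc :=
    Stk19.with_comp_locP AlgSpLib.etLocal_smooth
      (Stk19.isAlgStack_fp h𝒴'.isStack h𝒴'.diag (Stk19.isAlgStack_overCat G) hN c (FibCat.fpFst y f)).isStack.1 he₂
      (Stk19.with_equiv_comp (Stk19.isEquivOver_fpSwap c (FibCat.fpFst y f))
        (Stk19.repByAlgSpWith_fpFst (FibCat.fpFst y f) (hc hyV)))
  have hzcs : AlgSt.RepByAlgSpWith AlgSp.IsSurjectiveMor zc :=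
    Stk19.repByAlgSpWith_comp_desc Stk19.respSrc_surjective Stk19.atlasDescent_surjective Stk19.compStable_surjective
      (Stk19.isFibGrpd_overCat W)
      (Stk19.isAlgStack_fp h𝒴'.isStack h𝒴'.diag (Stk19.isAlgStack_overCat G) hN c (FibCat.fpFst y f)).isStack.1 hes₂
      (Stk19.with_equiv_comp (Stk19.isEquivOver_fpSwap c (FibCat.fpFst y f))
        (Stk19.repByAlgSpWith_fpFst (FibCat.fpFst y f) (hcs hyVs)))
  have sq : IsPullback p.left r.left k.left q.left := (IsPullback.of_hasPullback k q).map (Over.forget S)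
  have hpt : ∀ w : W.left, AlgSt.Points.map g (AlgSt.Points.ofChart zc w) = AlgSt.Points.ofChart x (p.left w) :=
    fun w => by rw [Stk19.map_ofChart, Stk19.ofChart_congr i₃, Stk19.ofChart_overMap]
  refine ⟨e₁' ▸ hS₁, ?_, fun Q' hQ' h' b hb => ?_⟩
  · rw [e₁']
    rw [eQ] at hQ₂
    let O : W.left.Opens :=
      ⟨AlgSt.Points.ofChart zc ⁻¹' T₁, hT₁.preimage (Stk19.continuous_ofChart hN zc)⟩
    have hO : Smooth (O.ι ≫ r.left) := Stk19b.smooth_on r.left O fun w hw => by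
      obtain ⟨O', hw', hO'⟩ := Stk19b.smoothNear_of_locQ h𝒳 h𝒴 f hT hQ₂ hyV e k he ik (p.left w) (by
        show AlgSt.Points.ofChart x (p.left w) ∈ T
        rw [← hpt]; exact hw)
      exact ⟨p.left ⁻¹ᵁ O', hw', MorphismProperty.of_isPullback
        ((isPullback_morphismRestrict p.left O').paste_vert sq) hO'⟩
    have him : AlgSt.Points.ofChart zc '' O = T₁ :=
      Set.image_preimage_eq T₁ (Stk19.ofChart_surjective hgN hzcs)
    have := (Stk19b.locQ_image hN (FibCat.fpFst y f) (x := zc) (y := c) (k := r)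
      ((Stk.restr e₂ _).mapIso (FibCat.fpIso c (FibCat.fpFst y f)).symm ≪≫ (Stk19.postB _ c).mapIso i₂)
      hzc (hc hyV) O hO).2
    rwa [him] at this
  · let T₂ := Set.range (AlgSt.Points.map (AlgSt.subIncl (FibCat.fp y f) Q'))
    have hT₂ : IsOpen T₂ := Stk19b.isOpen_range_openSub hN hQ'
    rw [Stk19b.openSub_eq hN hQ'] at h' hb
    have hsub : T₂ ⊆ T₁ := fun z hz => by
      obtain ⟨w, rfl⟩ := Stk19.ofChart_surjective hgN hzcs z
      obtain ⟨O, hu, hO⟩ := Stk19b.smoothNear_of_baseChange sq hkq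
        (Stk19b.smoothNear_of_locQ hN h𝒴' (FibCat.fpFst y f) hT₂ h' (hc hyV) e₂ r he₂ i₂ w hz)
      obtain ⟨hB, hBf⟩ := Stk19b.locQ_image h𝒳 f α (hx hyV) hyV O hO
      have hSB := Stk19b.isOpenSubstack_inSet h𝒳 hB
      have h1 := (Stk19b.openSub_le_iff h𝒳 hSB hQ₁).1 (fun a ha => hQ₃ _ hSB hBf a ha)
      rw [Stk19b.range_subIncl_inSet _ hg𝒳] at h1
      show AlgSt.Points.map g _ ∈ T
      rw [hpt]
      exact h1 ⟨_, hu, rfl⟩
    show Q (g.obj b)
    rw [eQ]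
    exact (Stk19b.inSet_obj_iff hgN hg𝒳 g T b).2 (hb.trans hsub)

end Groth.Agent.S19909
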