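import Groth.Statements.S1991
import Groth.Agent.EtRamLib.TameCompositum
import Mathlib.FieldTheory.Galois.Basic
-- import your own Groth.Agent.* helpers here

set_option autoImplicit false
set_option linter.all false
universe u
open EtAlg

namespace Groth.Agent.S1991

open Groth.Agent.EtRamLib.TameComp

section Omega

variable {A K : Type u} [CommRing A] [IsDomain A] [IsDiscreteValuationRing A] [Field K] [Algebra A K] [IsFractionRing A K]

/-- Properties of finite separable extensions descend along `K`-embeddings. -/
theorem of_emb {L M : Type u} [Field L] [Field M] [Algebra K L] [Algebra K M] [FiniteDimensional K M]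
    [Algebra.IsSeparable K M] (f : L →ₐ[K] M) :
    (EtRam.IsTamelyRamified A (str A K M) → EtRam.IsTamelyRamified A (str A K L)) ∧
    (EtRam.IsUnramifiedExt A (str A K M) → EtRam.IsUnramifiedExt A (str A K L)) := by
  letI : Algebra L M := f.toRingHom.toAlgebra
  haveI : IsScalarTower K L M := IsScalarTower.of_algebraMap_eq fun c => (f.commutes c).symm
  exact CohDer1.TameTower.main A K L M

set_option maxHeartbeats 1600000 in
theorem closure (P : IntermediateField K (AlgebraicClosure K) → Prop)
    (L : Type u) [Field L] [Algebra K L] [FiniteDimensional K L] [Algebra.IsSeparable K L]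
    (hbot : P ⊥)
    (hsup : ∀ E₁ E₂ : IntermediateField K (AlgebraicClosure K), FiniteDimensional K E₁ → FiniteDimensional K E₂ →
      Algebra.IsSeparable K E₁ → Algebra.IsSeparable K E₂ → P E₁ → P E₂ → P (E₁ ⊔ E₂))
    (hrange : ∀ f : L →ₐ[K] AlgebraicClosure K, P f.fieldRange) :
    P (IntermediateField.normalClosure K L (AlgebraicClosure K)) ∧
      Algebra.IsSeparable K (IntermediateField.normalClosure K L (AlgebraicClosure K)) := by
  classical
  haveI : Fintype (L →ₐ[K] AlgebraicClosure K) := Fintype.ofFinite _
  have key : ∀ s : Finset (L →ₐ[K] AlgebraicClosure K), P (s.sup AlgHom.fieldRange) ∧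
      FiniteDimensional K ↥(s.sup AlgHom.fieldRange) ∧ Algebra.IsSeparable K ↥(s.sup AlgHom.fieldRange) := by
    intro s
    induction s using Finset.induction_on with
    | empty =>
      rw [Finset.sup_empty]
      exact ⟨hbot, inferInstance, inferInstance⟩
    | insert f s hf ih =>
      rw [Finset.sup_insert]
      obtain ⟨h1, h2, h3⟩ := ih
      let e := AlgEquiv.ofInjectiveField f
      haveI : FiniteDimensional K f.fieldRange := Module.Finite.equiv e.toLinearEquiv
      haveI : Algebra.IsSeparable K f.fieldRange := AlgEquiv.Algebra.isSeparable e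
      exact ⟨hsup _ _ inferInstance h2 inferInstance h3 (hrange f) h1, inferInstance, inferInstance⟩
  have hN : IntermediateField.normalClosure K L (AlgebraicClosure K) = (Finset.univ : Finset (L →ₐ[K] AlgebraicClosure K)).sup AlgHom.fieldRange := by
    rw [Finset.sup_univ_eq_iSup]; rfl
  rw [hN]
  exact ⟨(key _).1, (key _).2.2⟩

end Omega


/-- Let A be a discrete valuation ring with fraction field K. A finite separable extension L/K that is
unramified (resp. tamely ramified) with respect to A embeds over K into a finite Galois extension of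
K that is unramified (resp. tamely ramified) with respect to A; and two finite separable extensions
of K that are unramified (resp. tamely ramified) with respect to A embed over K into a common finite
separable extension with the same property. -/
theorem result (A K : Type u) [CommRing A] [IsDomain A] [IsDiscreteValuationRing A] [Field K] [Algebra A K] [IsFractionRing A K] :
    (∀ (L : Type u) [Field L] [Algebra K L] [FiniteDimensional K L] [Algebra.IsSeparable K L],
      (EtRam.IsUnramifiedExt A ((algebraMap K L).comp (algebraMap A K)) →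
        ∃ (M : Type u) (_ : Field M) (_ : Algebra K M) (_ : FiniteDimensional K M) (_ : IsGalois K M) (_ : L →ₐ[K] M),
          EtRam.IsUnramifiedExt A ((algebraMap K M).comp (algebraMap A K))) ∧
      (EtRam.IsTamelyRamified A ((algebraMap K L).comp (algebraMap A K)) →
        ∃ (M : Type u) (_ : Field M) (_ : Algebra K M) (_ : FiniteDimensional K M) (_ : IsGalois K M) (_ : L →ₐ[K] M),
          EtRam.IsTamelyRamified A ((algebraMap K M).comp (algebraMap A K)))) ∧
    (∀ (L₁ L₂ : Type u) [Field L₁] [Field L₂] [Algebra K L₁] [Algebra K L₂] [FiniteDimensional K L₁] [FiniteDimensional K L₂]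
      [Algebra.IsSeparable K L₁] [Algebra.IsSeparable K L₂],
      (EtRam.IsUnramifiedExt A ((algebraMap K L₁).comp (algebraMap A K)) →
        EtRam.IsUnramifiedExt A ((algebraMap K L₂).comp (algebraMap A K)) →
        ∃ (M : Type u) (_ : Field M) (_ : Algebra K M) (_ : FiniteDimensional K M) (_ : Algebra.IsSeparable K M)
          (_ : L₁ →ₐ[K] M) (_ : L₂ →ₐ[K] M), EtRam.IsUnramifiedExt A ((algebraMap K M).comp (algebraMap A K))) ∧
      (EtRam.IsTamelyRamified A ((algebraMap K L₁).comp (algebraMap A K)) →
        EtRam.IsTamelyRamified A ((algebraMap K L₂).comp (algebraMap A K)) →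
        ∃ (M : Type u) (_ : Field M) (_ : Algebra K M) (_ : FiniteDimensional K M) (_ : Algebra.IsSeparable K M)
          (_ : L₁ →ₐ[K] M) (_ : L₂ →ₐ[K] M), EtRam.IsTamelyRamified A ((algebraMap K M).comp (algebraMap A K)))) := by
  let Ω := AlgebraicClosure K
  have hb : ∀ (L : Type u) [Field L] [Algebra K L] [FiniteDimensional K L] [Algebra.IsSeparable K L],
      Nonempty (↥(⊥ : IntermediateField K Ω) →ₐ[K] L) :=
    fun L _ _ _ _ => ⟨(Algebra.ofId K L).comp (IntermediateField.botEquiv K Ω).toAlgHom⟩
  refine ⟨fun L _ _ _ _ => ⟨fun h => ?_, fun h => ?_⟩, fun L₁ L₂ _ _ _ _ _ _ _ _ => ⟨fun h₁ h₂ => ?_, fun h₁ h₂ => ?_⟩⟩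
  · obtain ⟨hP, hsep⟩ := closure (fun E => EtRam.IsUnramifiedExt A (str A K E)) L
      ((of_emb (hb L).some).2 h) (fun E₁ E₂ _ _ _ _ p q => unramified_sup E₁ E₂ p q)
      (fun f => (of_emb (AlgEquiv.ofInjectiveField f).symm.toAlgHom).2 h)
    exact ⟨↥(IntermediateField.normalClosure K L Ω), inferInstance, inferInstance, inferInstance, ⟨⟩,
      (IntermediateField.inclusion (AlgHom.fieldRange_le_normalClosure (IsAlgClosed.lift : L →ₐ[K] Ω))).comp
        (AlgEquiv.ofInjectiveField _).toAlgHom, hP⟩
  · obtain ⟨hP, hsep⟩ := closure (fun E => EtRam.IsTamelyRamified A (str A K E)) L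
      ((of_emb (hb L).some).1 h) (fun E₁ E₂ _ _ _ _ p q => tame_sup E₁ E₂ p q)
      (fun f => (of_emb (AlgEquiv.ofInjectiveField f).symm.toAlgHom).1 h)
    exact ⟨↥(IntermediateField.normalClosure K L Ω), inferInstance, inferInstance, inferInstance, ⟨⟩,
      (IntermediateField.inclusion (AlgHom.fieldRange_le_normalClosure (IsAlgClosed.lift : L →ₐ[K] Ω))).comp
        (AlgEquiv.ofInjectiveField _).toAlgHom, hP⟩
  all_goals
    let f₁ : L₁ →ₐ[K] Ω := IsAlgClosed.lift
    let f₂ : L₂ →ₐ[K] Ω := IsAlgClosed.lift
    let g₁ := AlgEquiv.ofInjectiveField f₁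
    let g₂ := AlgEquiv.ofInjectiveField f₂
    haveI : FiniteDimensional K f₁.fieldRange := Module.Finite.equiv g₁.toLinearEquiv
    haveI : Algebra.IsSeparable K f₁.fieldRange := AlgEquiv.Algebra.isSeparable g₁
    haveI : FiniteDimensional K f₂.fieldRange := Module.Finite.equiv g₂.toLinearEquiv
    haveI : Algebra.IsSeparable K f₂.fieldRange := AlgEquiv.Algebra.isSeparable g₂
    refine ⟨↥(f₁.fieldRange ⊔ f₂.fieldRange), inferInstance, inferInstance, inferInstance, inferInstance,
      (IntermediateField.inclusion le_sup_left).comp g₁.toAlgHom,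
      (IntermediateField.inclusion le_sup_right).comp g₂.toAlgHom, ?_⟩
  · exact unramified_sup _ _ ((of_emb g₁.symm.toAlgHom).2 h₁) ((of_emb g₂.symm.toAlgHom).2 h₂)
  · exact tame_sup _ _ ((of_emb g₁.symm.toAlgHom).1 h₁) ((of_emb g₂.symm.toAlgHom).1 h₂)

end Groth.Agent.S1991
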