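import Groth.Statements.S19912
import Groth.Agent.AlgSpLib.SmoothRegular
-- import your own Groth.Agent.* helpers here

set_option autoImplicit false
set_option backward.isDefEq.respectTransparency false
universe u
open CategoryTheory CategoryTheory.Limits AlgebraicGeometry
open Models

namespace Groth.Agent.S19912

/-- Let R be a discrete valuation ring with fraction field K and YR a scheme over Spec R. Let V be a
discrete valuation ring which is an R-algebra in such a way that the maximal ideal of R generates
the maximal ideal of V (ramification index one), and let σ : Spec V -> YR be a morphism over Spec R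
sending the closed point of Spec V to y. If the local ring of YR at y is regular, then the local
ring at y of the special fibre of YR, namely O_{YR,y}/𝔪_R O_{YR,y}, is regular. (The published
statement takes YR a normal projective flat model of a smooth projective geometrically connected
curve Y over K and phrases the hypothesis through a point Q of Y rational over an extension L of K
unramified over K with y in the closure of Q: by the valuative criterion such a point yields a
morphism as above from the spectrum of the localization of the integral closure of R in L at a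
maximal ideal over y, which is the form used here.) -/
theorem result
    (R : Type u) [CommRing R] [IsDomain R] [IsDiscreteValuationRing R]
    (YR : Over (Spec (CommRingCat.of R)))
    (V : Type u) [CommRing V] [IsDomain V] [IsDiscreteValuationRing V] [Algebra R V]
    (hV : Ideal.map (algebraMap R V) (IsLocalRing.maximalIdeal R) = IsLocalRing.maximalIdeal V)
    (σ : Spec (CommRingCat.of V) ⟶ YR.left)
    (hσ : σ ≫ YR.hom = Spec.map (CommRingCat.ofHom (algebraMap R V)))
    (y : YR.left) (hy : σ.base (IsLocalRing.closedPoint V) = y)
    (hreg : IsRegularLocalRing (YR.left.presheaf.stalk y)) :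
    IsRegularLocalRing (YR.left.presheaf.stalk y ⧸
      Ideal.map (Models.stalkHom R YR y) (IsLocalRing.maximalIdeal R)) := by
  subst hy
  haveI := hreg
  let φ := Models.stalkHom R YR (σ.base (IsLocalRing.closedPoint V))
  obtain ⟨ϖ, hϖ⟩ := IsDiscreteValuationRing.exists_irreducible R
  rw [hϖ.maximalIdeal_eq, Ideal.map_span, Set.image_singleton] at hV ⊢
  let χ := (σ.stalkMap (IsLocalRing.closedPoint V)).hom
  let α : (Spec (CommRingCat.of V)).presheaf.stalk (IsLocalRing.closedPoint V) →+* V :=
    (AlgebraicGeometry.stalkClosedPointIso (CommRingCat.of V)).hom.hom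
  haveI : IsLocalHom α := isLocalHom_of_isIso (AlgebraicGeometry.stalkClosedPointIso (CommRingCat.of V)).hom
  have hc : ∀ r, α (χ (φ r)) = algebraMap R V r := fun r => by
    have e1 : χ (φ r) = (Spec (CommRingCat.of V)).presheaf.germ ⊤ (IsLocalRing.closedPoint V) trivial
        (σ.appTop (Coh.toGlobal YR.hom r)) := Scheme.Hom.germ_stalkMap_apply σ ⊤ _ trivial _
    have e2 : σ.appTop (Coh.toGlobal YR.hom r) = (Scheme.ΓSpecIso (CommRingCat.of V)).inv.hom (algebraMap R V r) := by
      show (σ ≫ YR.hom).appTop ((Scheme.ΓSpecIso (CommRingCat.of R)).inv.hom r) = _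
      rw [hσ]
      exact (ConcreteCategory.congr_hom (Scheme.ΓSpecIso_inv_naturality (CommRingCat.ofHom (algebraMap R V))) r).symm
    rw [e1, e2]
    exact ConcreteCategory.congr_hom (germ_stalkClosedPointIso_hom (CommRingCat.of V)) _ |>.trans
      ((Scheme.ΓSpecIso (CommRingCat.of V)).commRingCatIsoToRingEquiv.apply_symm_apply _)
  have hv : algebraMap R V ϖ ∈ IsLocalRing.maximalIdeal V := hV ▸ Ideal.mem_span_singleton_self _
  have hm : φ ϖ ∈ IsLocalRing.maximalIdeal _ := (IsLocalRing.mem_maximalIdeal _).2 fun hu =>
    (IsLocalRing.mem_maximalIdeal _).1 hv (hc ϖ ▸ (hu.map χ).map α)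
  have hm2 : φ ϖ ∉ IsLocalRing.maximalIdeal _ ^ 2 := fun h => by
    have h1 : (α.comp χ) (φ ϖ) ∈ IsLocalRing.maximalIdeal V ^ 2 :=
      ((Ideal.map_pow (α.comp χ) _ 2).le.trans (Ideal.pow_right_mono (IsLocalRing.map_maximalIdeal_le _) 2))
        (Ideal.mem_map_of_mem _ h)
    rw [RingHom.comp_apply, hc, ← hV, Ideal.span_singleton_pow, Ideal.mem_span_singleton] at h1
    obtain ⟨c, hc'⟩ := h1
    have hne : algebraMap R V ϖ ≠ 0 := fun h0 => IsDiscreteValuationRing.not_a_field V
      (by rw [← hV, h0, Ideal.span_singleton_eq_bot])
    refine (IsLocalRing.mem_maximalIdeal _).1 hv (IsUnit.of_mul_eq_one c (mul_left_cancel₀ hne ?_))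
    rw [mul_one]
    linear_combination -hc'
  refine AlgSpLib.SmoothRegular.isRegularLocalRing_quotient (Ideal.span {φ ϖ})
    (fun h => (IsLocalRing.mem_maximalIdeal _).1 hm (Ideal.span_singleton_eq_top.1 h)) fun x hx hx2 => ?_
  obtain ⟨c, rfl⟩ := Ideal.mem_span_singleton'.1 hx
  refine Ideal.mul_mem_mul ?_ (Ideal.mem_span_singleton_self _)
  refine (IsLocalRing.mem_maximalIdeal _).2 fun hu => hm2 ?_
  exact (Ideal.unit_mul_mem_iff_mem _ hu).1 hx2

end Groth.Agent.S19912
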