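import Groth.Statements.S19913
import Groth.Agent.ConjConst26.RedCentre
import Groth.Agent.MaxTorImg10.TorusUnip
import Groth.Agent.S3917
import Groth.Agent.SGA3cLib.NormalMultCentral

set_option autoImplicit false
set_option backward.isDefEq.respectTransparency.types false
set_option maxHeartbeats 800000
set_option synthInstance.maxHeartbeats 200000
universe u
open CategoryTheory CategoryTheory.Limits MonoidalCategory CartesianMonoidalCategory MonObj GrpObj AlgebraicGeometry
open AGF

namespace Groth.Agent.S19913

/-- Let p be a prime, k a field of characteristic p, G a reductive k-group scheme (affine, smooth,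
connected reductive geometric fibre), z : Z ⟶ G its scheme-theoretic centre, and u : U ⟶ G a closed
subgroup scheme which is affine, smooth and connected and whose geometric fibre contains no
non-trivial subtorus (a smooth connected unipotent k-subgroup). Then Z ∩ U = 1 scheme-theoretically:
for every k-scheme X and all X-valued points a of Z and b of U with the same image in G(X), that
image is the identity. (The published assertion allows any smooth unipotent k-subgroup U; it is
stated here for connected U. The consequence that U maps by a closed immersion into the quotient of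
G by Z is not restated.) -/
theorem result (p : ℕ) [Fact p.Prime]
    (k : Type u) [Field k] [CharP k p]
    (G : Over (Spec (CommRingCat.of k))) [GrpObj G] (hG : Red.IsReductive G)
    (Z : Over (Spec (CommRingCat.of k))) [GrpObj Z] (z : Z ⟶ G) (hz : Red.IsCentre z)
    (U : Over (Spec (CommRingCat.of k))) [GrpObj U] [IsAffine U.left] [Smooth U.hom] [ConnectedSpace ↥U.left]
    (hU : ∀ s : ↥(Spec (CommRingCat.of k)),
      Red.HasNoSubtorus (AlgebraicClosure ((Spec (CommRingCat.of k)).residueField s)) (Red.geomFibre s U))
    (u : U ⟶ G) [IsMonHom u] (hu : IsClosedImmersion u.left)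
    (X : Over (Spec (CommRingCat.of k))) (a : X ⟶ Z) (b : X ⟶ U) (hab : a ≫ z = b ≫ u) :
    b ≫ u = 1 := by
  haveI := hu
  haveI := hG.1
  haveI := hG.2.1
  let s : ↥(Spec (CommRingCat.of k)) := IsLocalRing.closedPoint k
  let ω := Red.geomPt s
  let F := Over.pullback ω
  haveI : F.IsRightAdjoint := (Over.mapPullbackAdj _).isRightAdjoint
  haveI : Mono u := Over.mono_of_mono_left u
  have hGs := hG.2.2 s
  haveI : IsAffine (Red.geomFibre s G).left := hGs.1
  haveI : Smooth (Red.geomFibre s G).hom := hGs.2.1
  haveI : ConnectedSpace (Red.geomFibre s G).left := hGs.2.2.1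
  obtain ⟨T, gT, i, hT⟩ := Groth.Agent.ConjConst26.RedCentre.exists_maximalTorus (G := Red.geomFibre s G)
  haveI := hT.1
  haveI := hT.2.1
  have hKK := Groth.Agent.Luna12.isCentralizerOf_self hGs (Groth.Agent.HMTor29.MaxTorus.isMaxTorus hT)
  have hcomm := (hz.2.2 Z z).1 ⟨𝟙 Z, Category.id_comp z⟩
  obtain ⟨t, ht⟩ := (hKK.2.2 _ (F.map a ≫ F.map z)).2 fun X' x h => by
    obtain ⟨x', rfl⟩ := (Groth.Agent.SGA3cLib.BCPoints.pt ω X X').surjective x
    obtain ⟨g', hg'⟩ := (Groth.Agent.SGA3cLib.BCPoints.pt ω G X').surjective (h ≫ i)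
    rw [← hg', ← F.map_comp, ← Groth.Agent.SGA3cLib.BCPoints.pt_comp]
    have h1 := congrArg (Groth.Agent.SGA3cLib.BCPoints.pt ω G X') (hcomm _ (x' ≫ a) g')
    rw [Groth.Agent.SGA3cLib.BCPoints.pt_mul, Groth.Agent.SGA3cLib.BCPoints.pt_mul, Category.assoc] at h1
    exact h1
  let j₀ : Red.geomFibre s U ⟶ Red.geomFibre s G := F.map u
  haveI : IsMonHom j₀ := inferInstanceAs (IsMonHom ((Over.pullback ω).map u))
  haveI : Mono j₀ := inferInstanceAs (Mono (F.map u))
  haveI : ConnectedSpace (Red.geomFibre s U).left :=
    Groth.Agent.SGA3cLib.NormalMultCentral.connectedSpace_bc U (fun s' => by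
      have huniv : U.hom.base ⁻¹' {s'} = Set.univ :=
        Set.eq_univ_of_forall fun x => Subsingleton.elim (α := PrimeSpectrum k) _ _
      haveI : ConnectedSpace ↥(U.hom.base ⁻¹' {s'}) :=
        isConnected_iff_connectedSpace.1 (huniv ▸ isConnected_univ)
      exact (U.hom.fiberHomeo s').symm.surjective.connectedSpace (U.hom.fiberHomeo s').symm.continuous) ω
  haveI : Smooth (Red.geomFibre s U).hom := inferInstanceAs (Smooth (pullback.snd U.hom ω))
  haveI : QuasiCompact (Red.geomFibre s U).hom :=
    MorphismProperty.pullback_snd (P := @QuasiCompact) _ _ (inferInstance : QuasiCompact U.hom)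
  haveI : LocallyOfFiniteType (Red.geomFibre s G).hom := inferInstance
  have h0 := Groth.Agent.MaxTorImg10.inter_torus_unip hT.2.2.1 (hU s) i j₀
  have hb0 : F.map b ≫ j₀ = t ≫ i := by
    rw [ht]
    show F.map b ≫ F.map u = _
    rw [← F.map_comp, ← F.map_comp, hab]
  have hb : F.map b = F.map (1 : X ⟶ U) := by
    rw [← pullback.lift_fst (f := j₀) (g := i) (F.map b) t hb0, h0, MonObj.comp_one]
    exact (Functor.map_one F).symm
  haveI : Flat ω := inferInstance
  haveI : Surjective ω := ⟨fun y => ⟨IsLocalRing.closedPoint _, Subsingleton.elim (α := PrimeSpectrum k) _ _⟩⟩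
  haveI : Flat (pullback.fst X.hom ω) := MorphismProperty.pullback_fst _ _ inferInstance
  haveI : Surjective (pullback.fst X.hom ω) := MorphismProperty.pullback_fst _ _ inferInstance
  haveI := Flat.epi_of_flat_of_surjective (pullback.fst X.hom ω)
  have hb1 : b = 1 := by
    ext
    rw [← cancel_epi (pullback.fst X.hom ω)]
    have := congrArg (fun φ => Over.Hom.left φ ≫ pullback.fst U.hom ω) hb
    exact (pullback.lift_fst _ _ _).symm.trans (this.trans (pullback.lift_fst _ _ _))
  rw [hb1, MonObj.one_comp]

end Groth.Agent.S19913
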