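import Groth.Statements.S19917
import Groth.Agent.Et18.TameUnique
-- import your own Groth.Agent.* helpers here

set_option autoImplicit false
universe u
open CategoryTheory CategoryTheory.Limits AlgebraicGeometry MonObj
open SGA7
open scoped IntermediateField

namespace Groth.Agent.S19917

/-- Let R be a discrete valuation ring with fraction field K and residue field k, Ω a separable closure
of K and W a valuation subring of Ω lying over R. Assume that every K-automorphism of Ω belongs to
the inertia group at W, i.e. K coincides with its maximal extension inside Ω at which the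
restriction of W is unramified over R. Let r ≥ 1 be an integer whose image in k is non-zero. Then
there is exactly one intermediate field L of Ω over K with [L : K] = r and L Galois over K; moreover
every such L is totally (and tamely) ramified over R: every maximal ideal of the integral closure of
R in L has ramification index r over R. -/
theorem result (R K Ω : Type u) [CommRing R] [IsDomain R]
    [IsDiscreteValuationRing R] [Field K] [Algebra R K] [IsFractionRing R K] [Field Ω] [Algebra K Ω]
    [IsSepClosure K Ω] [Algebra R Ω] [IsScalarTower R K Ω]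
    (W : ValuationSubring Ω) (hW : SGA7.LiesOver K R W)
    (hI : ∀ σ : Ω ≃ₐ[K] Ω, SGA7.IsInertia W σ)
    (r : ℕ) (hr : 0 < r) (hrk : (r : IsLocalRing.ResidueField R) ≠ 0) :
    (∃! L : IntermediateField K Ω, Module.finrank K L = r ∧ IsGalois K L) ∧
      ∀ L : IntermediateField K Ω, Module.finrank K L = r → IsGalois K L →
        ∀ P : Ideal (integralClosure R L), P.IsMaximal → P.ramificationIdx R = r := by
  classical
  obtain ⟨π, hπ⟩ := IsDiscreteValuationRing.exists_irreducible R
  have hv := Et18.Tame.val_r W R hW hrk
  haveI : NeZero (r : Ω) := ⟨fun h => by rw [h, map_zero] at hv; exact zero_ne_one hv⟩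
  obtain ⟨ρ, hρ⟩ : ∃ ρ : Ω, ρ ^ r = algebraMap R Ω π := by
    haveI : IsSepClosed Ω := IsSepClosure.sep_closed (k := K)
    exact IsSepClosed.exists_pow_nat_eq _ r
  haveI := Et18.Tame.galois_adjoin W hI R hW hr hrk hπ hρ
  have hd := Et18.Tame.finrank_adjoin W hI R hW hr hrk hπ hρ
  have huniq : ∀ L : IntermediateField K Ω, Module.finrank K L = r → IsGalois K L → L = K⟮ρ⟯ := fun L hL _ => by
    haveI : FiniteDimensional K K⟮ρ⟯ := Module.finite_of_finrank_pos (hd ▸ hr)
    exact IntermediateField.eq_of_le_of_finrank_eq (Et18.Tame.le_adjoin W hI R hW hr hrk hπ hρ L hL) (hL.trans hd.symm)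
  refine ⟨⟨K⟮ρ⟯, ⟨hd, inferInstance⟩, fun L hL => huniq L hL.1 hL.2⟩, fun L hL hG P hP => ?_⟩
  haveI := hG
  exact Et18.Tame.ramificationIdx_eq W hI R hW hr hrk hπ hρ L hL
    (huniq L hL hG ▸ IntermediateField.mem_adjoin_simple_self K ρ) P

end Groth.Agent.S19917
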