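import Groth.Statements.S19918
import Groth.Agent.Inters29.ModelPic

set_option autoImplicit false
universe u
open CategoryTheory CategoryTheory.Limits AlgebraicGeometry
open Models

namespace Groth.Agent.S19918

/-- Kernel of Pic(X)[n] → Pic(C)[n]: let R be a discrete valuation ring with fraction field K, C a
smooth proper curve over K with H^0(C, O_C) = K, X a regular proper model of C with generic-fibre
inclusion g : C → X, Γ_1, …, Γ_n the irreducible components of the closed fibre with multiplicities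
m_1, …, m_n, d = gcd(m_1, …, m_n), and L_i invertible O_X-modules with L_i ⊗ I(Γ_i) ≅ O_X (that is,
L_i = O_X(Γ_i)). Let h ≥ 1 and put e = gcd(h, d). If M is an invertible O_X-module with M^{⊗h} ≅ O_X
whose pullback to C is trivial, then there is exactly one natural number k < e with M ≅ L_1^{k
m_1/e} ⊗ ⋯ ⊗ L_n^{k m_n/e} = O_X(k·(1/e)·X_s). In other words the kernel of Pic(X)[h] → Pic(C)[h] is
cyclic of order gcd(h, d), generated by the class of O_X((1/e)·X_s). -/
theorem result (R : Type u) [CommRing R] [IsDomain R] [IsDiscreteValuationRing R]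
    (C X : Scheme.{u}) (f : C ⟶ Spec (CommRingCat.of (FractionRing R))) (p : X ⟶ Spec (CommRingCat.of R))
    (hC : Curve.IsSmoothProperCurve (FractionRing R) C f) (hH0 : IsIso f.appTop)
    (hX : Models.IsRegularProperModel R X p C f)
    {n : ℕ} (Γ : Fin n → ArSurf.VertComp R (Over.mk p)) (hΓ : Models.IsComponentList R (Over.mk p) Γ)
    (g : C ⟶ X) (hg : IsPullback g f p (Spec.map (CommRingCat.ofHom (algebraMap R (FractionRing R)))))
    (L : Fin n → X.Modules) (hL : ∀ i, ClSub.IsInverseOf (L i) (ClSub.idealMod (Γ i).ι.ker))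
    (h : ℕ) (hh : 0 < h)
    (M : X.Modules) (hM : PicF.IsInvertible M)
    (htors : Nonempty (CohB1.tensorPow M h ≅ Coh.structureModule X))
    (htriv : Nonempty ((Scheme.Modules.pullback g).obj M ≅ Coh.structureModule C)) :
    ∃! k : ℕ, k < Nat.gcd h (Models.multGcd R (Over.mk p) Γ) ∧
      Nonempty (M ≅ FGA.multiTwist L (fun i => k * (Models.mult R (Over.mk p) (Γ i) / Nat.gcd h (Models.multGcd R (Over.mk p) Γ)))) := by
  let Z := Groth.Agent.Inters29.zcl hC hX hΓ hL
  let m : Fin n → ℤ := fun i => (Models.mult R (Over.mk p) (Γ i) : ℤ)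
  let d := Models.multGcd R (Over.mk p) Γ
  let e := Nat.gcd h d
  have he0 : 0 < e := Nat.gcd_pos_of_pos_left _ hh
  have hem : ∀ i, e ∣ Models.mult R (Over.mk p) (Γ i) := fun i =>
    (Nat.gcd_dvd_right h d).trans (Finset.gcd_dvd (Finset.mem_univ i))
  obtain ⟨w, hw⟩ : ∃ w : Fin n → ℕ, ∀ i, Models.mult R (Over.mk p) (Γ i) = e * w i :=
    ⟨_, fun i => (hem i).choose_spec⟩
  have hdiv : ∀ k i, k * (Models.mult R (Over.mk p) (Γ i) / e) = k * w i := fun k i => by
    rw [hw i, Nat.mul_div_cancel_left _ he0]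
  have hn : 0 < n := by
    by_contra hn
    obtain rfl : n = 0 := by omega
    obtain ⟨-, -, hint, -⟩ := hC
    obtain ⟨hm, hp, hreg⟩ := hX
    haveI := hint
    haveI := Groth.Agent.Inters29.isIntegral_model R hm hreg
    haveI : LocallyOfFiniteType p := hm.2.1
    haveI := hp
    haveI : IsLocallyNoetherian X := LocallyOfFiniteType.isLocallyNoetherian p
    haveI : IsLocallyNoetherian (Over.mk p).left := inferInstanceAs (IsLocallyNoetherian X)
    obtain ⟨z, hz⟩ := (Groth.Agent.Inters29.isConnected_specialFibreSet R hH0 g hg).nonempty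
    obtain ⟨i, -⟩ := Groth.Agent.Inters29.exists_genPt_specializes R (X := Over.mk p) Γ hΓ
      (show z ∈ Models.specialFibreSet R (Over.mk p) from hz)
    exact i.elim0
  let μ : Groth.Agent.PicLib.PicM X := Groth.Agent.PicLib.PicM.of hM
  obtain ⟨v, hv⟩ := Groth.Agent.Inters29.exists_eq_zcl_of_pull_eq_one hC hH0 hX hΓ hL g hg μ (by
    simp only [μ, Groth.Agent.PicLib.PicM.pull_of, Groth.Agent.PicLib.PicM.of_eq_one_iff]
    exact htriv)
  have hμh : μ ^ h = 1 := by
    rw [← Groth.Agent.PicLib.PicM.of_tensorPow hM h, Groth.Agent.PicLib.PicM.of_eq_one_iff]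
    exact htors
  rw [hv, ← Units.val_pow_eq_pow_val, Units.val_eq_one, ← zpow_natCast,
    ← Groth.Agent.Inters29.zcl_zsmul] at hμh
  obtain ⟨c, hc⟩ := (Groth.Agent.Inters29.zcl_eq_one_iff hC hH0 hX hΓ hL _).1 hμh
  simp only [Pi.smul_apply, smul_eq_mul] at hc
  obtain ⟨h', hh'⟩ : e ∣ h := Nat.gcd_dvd_left h d
  have hcd : (h : ℤ) ∣ c * (d : ℤ) := by
    have h2 : h ∣ Finset.univ.gcd fun i => c.natAbs * Models.mult R (Over.mk p) (Γ i) := Finset.dvd_gcd fun i _ => by
      have h3 := Int.natAbs_dvd_natAbs.2 (⟨v i, (hc i).symm⟩ : (h : ℤ) ∣ c * (Models.mult R (Over.mk p) (Γ i) : ℤ))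
      simpa [Int.natAbs_mul] using h3
    rw [Finset.gcd_mul_left] at h2
    refine Int.natCast_dvd.2 ?_
    rw [Int.natAbs_mul, Int.natAbs_natCast]
    simpa [d, Models.multGcd] using h2
  obtain ⟨t, ht⟩ : (h' : ℤ) ∣ c := by
    obtain ⟨d', hd'⟩ : e ∣ d := Nat.gcd_dvd_right h d
    have hco : Nat.Coprime h' d' := by
      have h1 : Nat.gcd (h / e) (d / e) = 1 := Nat.coprime_div_gcd_div_gcd (by exact he0)
      rw [hh', hd', Nat.mul_div_cancel_left _ he0, Nat.mul_div_cancel_left _ he0] at h1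
      exact h1
    rw [hh', hd', Nat.cast_mul, Nat.cast_mul, mul_left_comm] at hcd
    exact Int.dvd_of_dvd_mul_left_of_gcd_one (Int.dvd_of_mul_dvd_mul_left (by exact_mod_cast he0.ne') hcd) (by simpa using hco)
  have hh'0 : (h' : ℤ) ≠ 0 := by
    intro h0
    simp only [Nat.cast_eq_zero] at h0
    rw [h0, mul_zero] at hh'
    omega
  have hvt : ∀ i, v i = t * (w i : ℤ) := fun i => by
    have h1 := hc i
    rw [ht, hh', hw i] at h1
    push_cast at h1
    have hez : (e : ℤ) ≠ 0 := by exact_mod_cast he0.ne'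
    exact mul_left_cancel₀ (mul_ne_zero hez hh'0) (by linear_combination h1)
  have key : ∀ k : ℕ, Nonempty (M ≅ FGA.multiTwist L (fun i => k * (Models.mult R (Over.mk p) (Γ i) / e))) ↔
      (e : ℤ) ∣ t - k := by
    intro k
    obtain ⟨hK, hK'⟩ := Groth.Agent.Inters29.multiTwist_class hC hX hΓ hL (fun i => k * (Models.mult R (Over.mk p) (Γ i) / e))
    rw [← Groth.Agent.PicLib.PicM.of_eq_iff hM hK, hK', ← Groth.Agent.Inters29.zcl_natCast]
    show μ = _ ↔ _
    rw [hv, Units.val_inj]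
    have h1 : Z v = Z (fun i => ((k * (Models.mult R (Over.mk p) (Γ i) / e) : ℕ) : ℤ)) ↔
        Z (fun i => (t - k) * (w i : ℤ)) = 1 := by
      rw [show v = (fun i => (t - k) * (w i : ℤ)) + fun i => ((k * (Models.mult R (Over.mk p) (Γ i) / e) : ℕ) : ℤ) from
        funext fun i => by simp only [Pi.add_apply, hdiv, hvt i]; push_cast; ring]
      simp only [Z, Groth.Agent.Inters29.zcl_add, mul_eq_right]
    refine h1.trans ((Groth.Agent.Inters29.zcl_eq_one_iff hC hH0 hX hΓ hL _).trans ⟨?_, ?_⟩)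
    · rintro ⟨c', hc'⟩
      refine ⟨c', ?_⟩
      have h2 := hc' ⟨0, hn⟩
      rw [hw ⟨0, hn⟩] at h2
      push_cast at h2
      have hw0 : (w ⟨0, hn⟩ : ℤ) ≠ 0 := by
        intro h0
        simp only [Nat.cast_eq_zero] at h0
        have := Groth.Agent.Inters29.mult_pos_model hC hX hΓ ⟨0, hn⟩
        rw [hw ⟨0, hn⟩, h0, mul_zero] at this
        omega
      exact mul_right_cancel₀ hw0 (by linear_combination h2)
    · rintro ⟨c', hc'⟩
      exact ⟨c', fun i => by rw [hc', hw i]; push_cast; ring⟩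
  have hez : (e : ℤ) ≠ 0 := by exact_mod_cast he0.ne'
  refine ⟨(t % e).toNat, ⟨?_, (key _).2 ?_⟩, ?_⟩
  · have h1 := Int.emod_lt_of_pos t (show (0 : ℤ) < e by exact_mod_cast he0)
    have h2 := Int.emod_nonneg t hez
    show (t % (e : ℤ)).toNat < e
    omega
  · rw [Int.toNat_of_nonneg (Int.emod_nonneg t hez)]
    exact Int.dvd_self_sub_emod
  · rintro k ⟨hk, hkM⟩
    obtain ⟨q, hq⟩ := (key k).1 hkM
    have hk' : (k : ℤ) < e := by exact_mod_cast (show k < e from hk)
    have h1 : t % (e : ℤ) = k := by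
      rw [show t = (k : ℤ) + e * q by omega, Int.add_mul_emod_self_left, Int.emod_eq_of_lt (by omega) hk']
    omega

end Groth.Agent.S19918
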