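import Groth.Statements.S1992
import Mathlib.RingTheory.Henselian
import Mathlib.RingTheory.Polynomial.ScaleRoots
import Mathlib.RingTheory.Localization.Integer
import Mathlib.FieldTheory.IsSepClosed

set_option autoImplicit false
universe u
open Polynomial
open EtAlg

namespace Groth.Agent.S1992

/-- Let A be an absolutely integrally closed ring, i.e. every monic polynomial over A is a product of
linear factors X - a. Then for every prime p of A the localization A_p is a strictly henselian local
ring (henselian with separably closed residue field). -/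
theorem result (A : Type u) [CommRing A]
    (hA : ∀ f : A[X], f.Monic → ∃ s : Multiset A, f = (s.map fun a => X - C a).prod)
    (p : Ideal A) [p.IsPrime] :
    EtCoh.IsStrictlyHenselianLocalRing (Localization.AtPrime p) := by
  classical
  have key : ∀ f : (Localization.AtPrime p)[X], f.Monic → ∃ (s : p.primeCompl) (l : Multiset A),
      f.scaleRoots (algebraMap A _ (s : A)) =
        (l.map fun a => X - C (algebraMap A (Localization.AtPrime p) a)).prod := by
    intro f hf
    obtain ⟨s, hs⟩ := IsLocalization.exist_integer_multiples p.primeCompl f.support f.coeff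
    have hl : f.scaleRoots (algebraMap A _ (s : A)) ∈ lifts (algebraMap A (Localization.AtPrime p)) := by
      rw [lifts_iff_coeff_lifts]
      intro n
      rw [coeff_scaleRoots]
      by_cases hn : n ∈ f.support
      · rcases lt_or_eq_of_le (le_natDegree_of_mem_supp n hn) with hlt | heq
        · obtain ⟨a, ha⟩ := hs n hn
          refine ⟨a * (s : A) ^ (f.natDegree - n - 1), ?_⟩
          rw [map_mul, map_pow, ha, Algebra.smul_def]
          have : f.natDegree - n = (f.natDegree - n - 1) + 1 := by omega
          conv_rhs => rw [this, pow_succ]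
          ring
        · exact ⟨1, by rw [heq, hf.coeff_natDegree, Nat.sub_self]; simp⟩
      · exact ⟨0, by simp [notMem_support_iff.mp hn]⟩
    obtain ⟨g, hg, -, hgm⟩ := lifts_and_degree_eq_and_monic hl ((monic_scaleRoots_iff _).mpr hf)
    obtain ⟨l, hl'⟩ := hA g hgm
    refine ⟨s, l, ?_⟩
    rw [← hg, hl', Polynomial.map_multiset_prod, Multiset.map_map]
    simp [Function.comp_def, Polynomial.map_sub]
  have hroot : ∀ (f : (Localization.AtPrime p)[X]) (s : p.primeCompl) (a : A),
      eval (algebraMap A _ a) (f.scaleRoots (algebraMap A _ (s : A))) = 0 →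
      f.eval (IsLocalization.mk' (Localization.AtPrime p) a s) = 0 := by
    intro f s a h
    have hu := IsLocalization.map_units (Localization.AtPrime p) s
    rw [← IsLocalization.mk'_spec (Localization.AtPrime p) a s, mul_comm, scaleRoots_eval_mul] at h
    exact ((hu.pow f.natDegree).mul_right_eq_zero).mp h
  have hens : HenselianLocalRing (Localization.AtPrime p) := by
    refine ⟨fun f hf a₀ ha₀ _ => ?_⟩
    obtain ⟨s, l, hl⟩ := key f hf
    have hev : eval (algebraMap A _ (s : A) * a₀) (f.scaleRoots (algebraMap A _ (s : A))) ∈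
        IsLocalRing.maximalIdeal (Localization.AtPrime p) := by
      rw [scaleRoots_eval_mul]
      exact Ideal.mul_mem_left _ _ ha₀
    rw [hl, eval_multiset_prod, Multiset.map_map] at hev
    obtain ⟨z, hz, hzm⟩ := (Ideal.IsPrime.multiset_prod_mem_iff_exists_mem inferInstance _).mp hev
    obtain ⟨a, ha, rfl⟩ := Multiset.mem_map.mp hz
    simp only [Function.comp_apply, eval_sub, eval_X, eval_C] at hzm
    refine ⟨IsLocalization.mk' _ a s, hroot f s a ?_, ?_⟩
    · rw [hl, eval_multiset_prod, Multiset.map_map]
      refine Multiset.prod_eq_zero ?_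
      exact Multiset.mem_map.mpr ⟨a, ha, by simp⟩
    · have hu := IsLocalization.map_units (Localization.AtPrime p) s
      rw [← Ideal.mul_unit_mem_iff_mem _ hu, sub_mul, IsLocalization.mk'_spec, ← neg_mem_iff, neg_sub,
        mul_comm]
      exact hzm
  refine ⟨hens, IsSepClosed.of_exists_root _ fun q hq hirr _ => ?_⟩
  have hql : q ∈ lifts (IsLocalRing.residue (Localization.AtPrime p)) := by
    rw [lifts_iff_coeff_lifts]
    exact fun n => IsLocalRing.residue_surjective _
  obtain ⟨f, hf, hdeg, hfm⟩ := lifts_and_degree_eq_and_monic hql hq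
  obtain ⟨s, l, hl⟩ := key f hfm
  have hl0 : l ≠ 0 := by
    rintro rfl
    have h1 : (f.scaleRoots (algebraMap A _ (s : A))).degree = 0 := by rw [hl]; simp
    rw [degree_scaleRoots, hdeg] at h1
    exact hirr.not_isUnit (isUnit_iff_degree_eq_zero.mpr h1)
  obtain ⟨a, ha⟩ := Multiset.exists_mem_of_ne_zero hl0
  refine ⟨IsLocalRing.residue _ (IsLocalization.mk' (Localization.AtPrime p) a s), ?_⟩
  rw [← hf, eval_map, eval₂_hom, hroot f s a, map_zero]
  rw [hl, eval_multiset_prod, Multiset.map_map]
  exact Multiset.prod_eq_zero <| Multiset.mem_map.mpr ⟨a, ha, by simp⟩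

end Groth.Agent.S1992
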