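import Groth.Statements.S19920
import Groth.Agent.Inters29.GenCut
import Groth.Agent.Inters29.ArtinIndex
import Groth.Agent.Inters29.FibrePullback
import Groth.Agent.Inters29.Horizontal
import Groth.Agent.CycLib28.PushZero
import Groth.Agent.CycLib28.Push
import Groth.Agent.QsChow28.PtNorm

set_option autoImplicit false
universe u
open CategoryTheory CategoryTheory.Limits AlgebraicGeometry
open Models

open Groth.Agent
namespace Groth.Agent.S19920

/-- Let R be a discrete valuation ring that is Henselian, whose residue field k is algebraically closed,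
with fraction field K, and let 𝒳 be an R-scheme of finite type, flat over R, whose generic fibre is
X (𝒳 is a model of the K-scheme X) and special fibre Y = 𝒳 ⊗_R k. Then the index of X over K (the
greatest common divisor of the degrees of its closed points) divides the multiplicity of Y (the
greatest common divisor of the lengths of the local rings of Y at its points of codimension 0): for
every point η of Y which is maximal for specialization, the local ring O_{Y,η} has finite length ℓ
and ℓ lies in the subgroup of ℤ generated by the degrees of the closed points of X. -/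
theorem result (R : Type u) [CommRing R]
    [IsDomain R] [IsDiscreteValuationRing R] [HenselianLocalRing R] (hk : IsAlgClosed (IsLocalRing.ResidueField R))
    (X : Scheme.{u}) (f : X ⟶ Spec (CommRingCat.of (FractionRing R)))
    (𝒳 : Scheme.{u}) (p : 𝒳 ⟶ Spec (CommRingCat.of R)) (h𝒳 : Models.IsModel R 𝒳 p X f)
    (η : ↥(Models.specialFibre R 𝒳 p)) (hη : ∀ y : ↥(Models.specialFibre R 𝒳 p), y ⤳ η → y = η) :
    ∃ ℓ : ℕ, Module.length ((Models.specialFibre R 𝒳 p).presheaf.stalk η) ((Models.specialFibre R 𝒳 p).presheaf.stalk η) = ℓ ∧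
      (ℓ : ℤ) ∈ Curv2.indexSubgroup f := by
  classical
  haveI := hk
  obtain ⟨hflat, hlft, hqc, g, hg⟩ := h𝒳
  haveI := hflat
  haveI := hlft
  haveI : QuasiCompact (Over.mk p).hom := hqc
  let K := FractionRing R
  let S := Spec (CommRingCat.of R)
  let res := Spec.map (CommRingCat.ofHom (algebraMap R (IsLocalRing.ResidueField R)))
  haveI : IsClosedImmersion res := Inters29.isClosedImmersion_residue R
  let j : Models.specialFibre R 𝒳 p ⟶ 𝒳 := pullback.fst p res
  haveI : IsClosedImmersion j := inferInstanceAs (IsClosedImmersion (pullback.fst p res))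
  let y := j η
  have hrange : Set.range j = Models.specialFibreSet R (Over.mk p) := by
    show Set.range (pullback.fst p res) = p ⁻¹' {IsLocalRing.closedPoint R}
    rw [Scheme.Pullback.range_fst]
    congr 1
    refine Set.eq_singleton_iff_unique_mem.2 ⟨⟨IsLocalRing.closedPoint _, IsLocalRing.comap_closedPoint (IsLocalRing.residue R)⟩, ?_⟩
    rintro _ ⟨z, rfl⟩
    rw [Subsingleton.elim z (IsLocalRing.closedPoint (IsLocalRing.ResidueField R))]
    exact IsLocalRing.comap_closedPoint (IsLocalRing.residue R)
  obtain ⟨U, hU, hyU, -⟩ := exists_isAffineOpen_mem_and_subset (x := y) (U := ⊤) trivial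
  let A := Γ(𝒳, U)
  let φ : R →+* A := (𝒳.presheaf.map (homOfLE (le_top : U ≤ ⊤)).op).hom.comp (Coh.toGlobal p)
  letI : Algebra R A := φ.toAlgebra
  have hφ : φ = (p.appLE ⊤ U le_top).hom.comp (Scheme.ΓSpecIso (CommRingCat.of R)).inv.hom := rfl
  have hfs : hU.fromSpec ≫ p = Spec.map (CommRingCat.ofHom φ) := by
    rw [← IsAffineOpen.SpecMap_appLE_fromSpec p (isAffineOpen_top S) hU le_top, IsAffineOpen.fromSpec_top,
      Scheme.isoSpec_Spec_inv, ← Spec.map_comp]
    rfl
  haveI : Algebra.FiniteType R A := by
    rw [← RingHom.finiteType_algebraMap]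
    show φ.FiniteType
    rw [hφ]
    exact (LocallyOfFiniteType.finiteType_appLE (f := p) (isAffineOpen_top S) hU le_top).comp
      (RingHom.FiniteType.of_surjective _ (Scheme.ΓSpecIso (CommRingCat.of R)).symm.commRingCatIsoToRingEquiv.surjective)
  haveI : Module.Flat R A := by
    rw [← RingHom.flat_algebraMap_iff]
    show φ.Flat
    rw [hφ]
    exact RingHom.Flat.comp (RingHom.Flat.of_bijective
      (Scheme.ΓSpecIso (CommRingCat.of R)).symm.commRingCatIsoToRingEquiv.bijective)
      (Flat.flat_appLE (f := p) (isAffineOpen_top S) hU le_top)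
  haveI : IsNoetherianRing A := Algebra.FiniteType.isNoetherianRing R A
  obtain ⟨ϖ, hϖ⟩ := IsDiscreteValuationRing.exists_irreducible R
  have hreg : IsSMulRegular A (algebraMap R A ϖ) :=
    (((IsSMulRegular.of_ne_zero (hϖ.ne_zero) : IsSMulRegular R ϖ).of_flat (S := A)))
  let q := (hU.primeIdealOf ⟨y, hyU⟩)
  have hqy : hU.fromSpec q = y := hU.fromSpec_primeIdealOf ⟨y, hyU⟩
  have hmem : ∀ P : PrimeSpectrum A, algebraMap R A ϖ ∈ P.asIdeal ↔
      hU.fromSpec P ∈ Models.specialFibreSet R (Over.mk p) := fun P => by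
    show _ ↔ p (hU.fromSpec P) = IsLocalRing.closedPoint R
    rw [← Scheme.Hom.comp_apply, hfs]
    refine ⟨fun h => PrimeSpectrum.ext ((IsLocalRing.maximalIdeal.isMaximal R).eq_of_le
      (Ideal.comap_ne_top _ P.isPrime.ne_top) ?_).symm, fun h => ?_⟩
    · rw [hϖ.maximalIdeal_eq, Ideal.span_singleton_le_iff_mem]
      exact h
    · have h' : ϖ ∈ (Spec.map (CommRingCat.ofHom φ) P).asIdeal := by
        rw [h]; exact (IsLocalRing.mem_maximalIdeal _).2 hϖ.not_isUnit
      exact h'
  have hq : q.asIdeal ∈ (Ideal.span {algebraMap R A ϖ}).minimalPrimes := by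
    refine ⟨⟨q.isPrime, (Ideal.span_singleton_le_iff_mem _).2 ((hmem q).2 (by rw [hqy]; exact hrange.le ⟨η, rfl⟩))⟩,
      fun P ⟨hP, hπP⟩ hle => ?_⟩
    let P' : PrimeSpectrum A := ⟨P, hP⟩
    obtain ⟨η', hη'⟩ := hrange.ge ((hmem P').1 ((Ideal.span_singleton_le_iff_mem _).1 hπP))
    have hsp : η' ⤳ η := j.isClosedEmbedding.isInducing.specializes_iff.1 (by
      rw [hη', show j η = hU.fromSpec q from hqy.symm]
      exact ((PrimeSpectrum.le_iff_specializes P' q).1 hle).map hU.fromSpec.continuous)
    have he : hU.fromSpec P' = hU.fromSpec q := by rw [← hη', hη η' hsp, hqy]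
    exact (congrArg PrimeSpectrum.asIdeal (hU.fromSpec.isOpenEmbedding.injective he)).ge
  obtain ⟨C, _, _, _, ψ, _, _, hψ, hlen⟩ := Inters29.exists_finite_free_cut hϖ hreg q.asIdeal hq
  have hmemH : (Module.finrank R C : ℤ) ∈ Curv2.indexSubgroup f := by
    refine Inters29.finrank_mem ψ hψ _ fun L _ _ _ χ hχ hfrac => ?_
    let c : Spec (CommRingCat.of L) := IsLocalRing.closedPoint L
    have hsq : (Spec.map (CommRingCat.ofHom χ) ≫ hU.fromSpec) ≫ p =
        Spec.map (CommRingCat.ofHom (algebraMap K L)) ≫ Spec.map (CommRingCat.ofHom (algebraMap R K)) := by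
      rw [Category.assoc, hfs, ← Spec.map_comp, ← Spec.map_comp]
      congr 1
      exact CommRingCat.hom_ext (RingHom.ext fun r => hχ r)
    let t := hg.lift _ _ hsq
    haveI : IsPreimmersion (t ≫ g) := by
      rw [hg.lift_fst]
      let P := RingHom.ker χ
      haveI : P.IsPrime := RingHom.ker_isPrime χ
      let χ' := RingHom.kerLift χ
      letI : Algebra (A ⧸ P) L := χ'.toAlgebra
      haveI : FaithfulSMul (A ⧸ P) L := (faithfulSMul_iff_algebraMap_injective _ _).2 (RingHom.kerLift_injective χ)
      haveI : IsFractionRing (A ⧸ P) L := IsFractionRing.of_field (A ⧸ P) L fun z => by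
        obtain ⟨a, s, hz⟩ := hfrac z
        exact ⟨Ideal.Quotient.mk P a, Ideal.Quotient.mk P s, hz⟩
      haveI : IsPreimmersion (Spec.map (CommRingCat.ofHom (algebraMap (A ⧸ P) L))) :=
        IsPreimmersion.of_isLocalization (nonZeroDivisors (A ⧸ P))
      haveI : IsClosedImmersion (Spec.map (CommRingCat.ofHom (Ideal.Quotient.mk P))) :=
        IsClosedImmersion.spec_of_surjective _ Ideal.Quotient.mk_surjective
      rw [show CommRingCat.ofHom χ = CommRingCat.ofHom (Ideal.Quotient.mk P) ≫
        CommRingCat.ofHom (algebraMap (A ⧸ P) L) from rfl, Spec.map_comp]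
      infer_instance
    haveI := Inters29.isOpenImmersion_generic R
    haveI : IsOpenImmersion g := MorphismProperty.of_isPullback (P := @IsOpenImmersion) hg.flip inferInstance
    haveI : IsPreimmersion t := IsPreimmersion.of_comp t g
    have hdeg : f.residueDegree (t c) = Module.finrank K L := by
      have h := CycLib28.residueDegree_comp t f c
      rw [CycLib28.residueDegree_preimmersion t c, mul_one] at h
      rw [← h, hg.lift_snd]
      exact QsChow28.residueDegree_field K L c
    haveI : LocallyOfFiniteType f := MorphismProperty.of_isPullback (P := @LocallyOfFiniteType) hg hlft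
    haveI : LocallyOfFiniteType t := by
      haveI : LocallyOfFiniteType (t ≫ f) := by
        rw [hg.lift_snd]
        exact (HasRingHomProperty.Spec_iff (P := @LocallyOfFiniteType)).2
          (RingHom.finiteType_algebraMap.2 inferInstance)
      exact locallyOfFiniteType_of_comp t f
    haveI : JacobsonSpace X := LocallyOfFiniteType.jacobsonSpace f
    have hclosed : IsClosed ({t c} : Set X) :=
      t.closePoints_subset_preimage_closedPoints (IsLocalRing.isClosed_singleton_closedPoint L)
    rw [← hdeg]
    exact AddSubgroup.subset_closure ⟨t c, hclosed, rfl⟩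
  refine ⟨Module.finrank R C, ?_, hmemH⟩
  -- the local ring of the special fibre
  rw [← hlen, (Inters29.localizedCyclicEquiv q.asIdeal.primeCompl (Ideal.span {algebraMap R A ϖ})
    (LinearEquiv.refl A _)).length_eq]
  let Oy := 𝒳.presheaf.stalk y
  have hker : RingHom.ker (j.stalkMap η).hom = Ideal.span {Models.stalkHom R (Over.mk p) y ϖ} := by
    rw [Inters29.ker_stalkMap_eq_stk j η]
    show Misc15.DivDescent.stk (pullback.fst (Over.mk p).hom (Spec.map (CommRingCat.ofHom (IsLocalRing.residue R)))).ker y = _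
    rw [Inters29.ker_fst_specialFibre R, Inters29.stk_specialFibreIdeal_span R hϖ]
  letI := (j.stalkMap η).hom.toAlgebra
  have h1 : Module.length ((Models.specialFibre R 𝒳 p).presheaf.stalk η) ((Models.specialFibre R 𝒳 p).presheaf.stalk η) =
      Module.length Oy (Oy ⧸ Ideal.span {Models.stalkHom R (Over.mk p) y ϖ}) := by
    rw [← Module.length_eq_of_surjective (R := (Models.specialFibre R 𝒳 p).presheaf.stalk η) (S := Oy)
      (M := (Models.specialFibre R 𝒳 p).presheaf.stalk η) (j.stalkMap_surjective η)]
    exact ((Ideal.quotientKerAlgEquivOfSurjective (f := Algebra.ofId Oy ((Models.specialFibre R 𝒳 p).presheaf.stalk η))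
      (j.stalkMap_surjective η)).symm.toLinearEquiv.trans (Submodule.quotEquivOfEq _ _ hker)).length_eq
  rw [h1]
  letI algA : Algebra A Oy := (𝒳.presheaf.germ U y hyU).hom.toAlgebra
  haveI : IsLocalization.AtPrime Oy q.asIdeal := hU.isLocalization_stalk ⟨y, hyU⟩
  let Ap := Localization.AtPrime q.asIdeal
  let e : Ap ≃ₐ[A] Oy := IsLocalization.algEquiv q.asIdeal.primeCompl Ap Oy
  letI : Algebra Ap Oy := e.toRingEquiv.toRingHom.toAlgebra
  rw [← Module.length_eq_of_surjective (R := Oy) (S := Ap)
    (M := Oy ⧸ Ideal.span {Models.stalkHom R (Over.mk p) y ϖ}) e.surjective]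
  let e' : Ap ≃ₐ[Ap] Oy := AlgEquiv.ofBijective (Algebra.ofId Ap Oy) e.bijective
  refine (Ideal.quotientEquivAlg _ _ e' ?_).toLinearEquiv.length_eq.symm
  rw [Ideal.map_span, Set.image_singleton, Ideal.map_span, Set.image_singleton]
  congr 2
  show Models.stalkHom R (Over.mk p) y ϖ = e (algebraMap A Ap (algebraMap R A ϖ))
  rw [AlgEquiv.commutes]
  show 𝒳.presheaf.germ ⊤ y trivial (Coh.toGlobal p ϖ) =
    𝒳.presheaf.germ U y hyU (𝒳.presheaf.map (homOfLE (le_top : U ≤ ⊤)).op (Coh.toGlobal p ϖ))
  exact (TopCat.Presheaf.germ_res_apply _ _ _ _ _).symm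

end Groth.Agent.S19920
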