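import Groth.Statements.S19924
import Groth.Agent.Inters29.ModelPic

set_option autoImplicit false
universe u
open CategoryTheory CategoryTheory.Limits AlgebraicGeometry
open Models

namespace Groth.Agent.S19924

/-- Let R be a discrete valuation ring with fraction field K, C a smooth proper curve over K with H^0(C,
O_C) = K, X a regular proper model of C with generic-fibre inclusion g : C → X, Γ_1, …, Γ_n the
irreducible components of the closed fibre with multiplicities m_1, …, m_n, and L_i invertible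
O_X-modules with L_i ⊗ I(Γ_i) ≅ O_X. Let h ≥ 1, let N be an invertible O_C-module with N^{⊗h} ≅ O_C,
let M be an invertible O_X-module whose pullback to C is N, and let a, b be exponent vectors with
M^{⊗h} ⊗ L_1^{a_1} ⊗ ⋯ ⊗ L_n^{a_n} ≅ L_1^{b_1} ⊗ ⋯ ⊗ L_n^{b_n}, i.e. M^{⊗h} ≅ O_X(Σ (b_i − a_i)
Γ_i). Then N is the pullback of some invertible O_X-module M' with M'^{⊗h} ≅ O_X if and only if
there are integers c_1, …, c_n and e with b_i − a_i = h c_i + e m_i for all i: the class of Σ (b_i −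
a_i) Γ_i modulo h ℤ^n + ℤ·(m_1, …, m_n) is the obstruction to lifting the h-torsion class N to an
h-torsion class on X. -/
theorem result (R : Type u) [CommRing R] [IsDomain R] [IsDiscreteValuationRing R]
    (C X : Scheme.{u}) (f : C ⟶ Spec (CommRingCat.of (FractionRing R))) (p : X ⟶ Spec (CommRingCat.of R))
    (hC : Curve.IsSmoothProperCurve (FractionRing R) C f) (hH0 : IsIso f.appTop)
    (hX : Models.IsRegularProperModel R X p C f)
    {n : ℕ} (Γ : Fin n → ArSurf.VertComp R (Over.mk p)) (hΓ : Models.IsComponentList R (Over.mk p) Γ)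
    (g : C ⟶ X) (hg : IsPullback g f p (Spec.map (CommRingCat.ofHom (algebraMap R (FractionRing R)))))
    (L : Fin n → X.Modules) (hL : ∀ i, ClSub.IsInverseOf (L i) (ClSub.idealMod (Γ i).ι.ker))
    (h : ℕ) (hh : 0 < h)
    (N : C.Modules) (hN : PicF.IsInvertible N) (hNt : Nonempty (CohB1.tensorPow N h ≅ Coh.structureModule C))
    (M : X.Modules) (hM : PicF.IsInvertible M) (hMN : Nonempty ((Scheme.Modules.pullback g).obj M ≅ N))
    (a b : Fin n → ℕ)
    (hab : Nonempty (CohB1.tensorMod (CohB1.tensorPow M h) (FGA.multiTwist L a) ≅ FGA.multiTwist L b)) :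
    (∃ M' : X.Modules, PicF.IsInvertible M' ∧ Nonempty (CohB1.tensorPow M' h ≅ Coh.structureModule X) ∧
        Nonempty ((Scheme.Modules.pullback g).obj M' ≅ N)) ↔
      ∃ (c : Fin n → ℤ) (e : ℤ), ∀ i, ((b i : ℤ) - (a i : ℤ)) = (h : ℤ) * c i + e * (Models.mult R (Over.mk p) (Γ i) : ℤ) := by
  open Groth.Agent.PicLib Groth.Agent.Inters29 in
  obtain ⟨hA, hA'⟩ := multiTwist_class hC hX hΓ hL a
  open Groth.Agent.PicLib Groth.Agent.Inters29 in
  obtain ⟨hB, hB'⟩ := multiTwist_class hC hX hΓ hL b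
  let Z := Groth.Agent.Inters29.zcl hC hX hΓ hL
  let μ : Groth.Agent.PicLib.PicM X := Groth.Agent.PicLib.PicM.of hM
  obtain ⟨e'⟩ := hab
  have hMh : μ ^ h = (Z fun i => (b i : ℤ) - a i : Groth.Agent.PicLib.PicM X) := by
    refine mul_right_cancel ((?_ : μ ^ h * ∏ i, Groth.Agent.Inters29.lcl hC hX hΓ hL i ^ a i = _).trans
      (Groth.Agent.Inters29.zcl_sub_natCast hC hX hΓ hL b a _ fun i => rfl).symm)
    rw [← hA', ← Groth.Agent.PicLib.PicM.of_tensorPow hM h, Groth.Agent.PicLib.PicM.of_mul]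
    exact ((Groth.Agent.PicLib.PicM.of_eq_iff _ hB).2 ⟨e'⟩).trans hB'
  obtain ⟨eN⟩ := hMN
  constructor
  · rintro ⟨M', hM', htor, ⟨eN'⟩⟩
    obtain ⟨u, hu⟩ := Groth.Agent.PicLib.PicM.isUnit μ
    have hp : Groth.Agent.PicLib.PicM.pull g (Groth.Agent.PicLib.PicM.of hM') = Groth.Agent.PicLib.PicM.pull g μ := by
      simp only [μ, Groth.Agent.PicLib.PicM.pull_of, Groth.Agent.PicLib.PicM.of_eq_iff]
      exact ⟨eN' ≪≫ eN.symm⟩
    obtain ⟨v, hv⟩ := Groth.Agent.Inters29.exists_eq_zcl_of_pull_eq_one hC hH0 hX hΓ hL g hg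
      (Groth.Agent.PicLib.PicM.of hM' * (u⁻¹ : (Groth.Agent.PicLib.PicM X)ˣ)) (by
        rw [map_mul, hp, ← hu, ← map_mul, Units.mul_inv, map_one])
    have hM'1 : Groth.Agent.PicLib.PicM.of hM' = μ * (Z v : Groth.Agent.PicLib.PicM X) := by
      rw [← hv, mul_left_comm, ← hu, Units.mul_inv, mul_one]
    have h1 : Groth.Agent.PicLib.PicM.of hM' ^ h = 1 := by
      rw [← Groth.Agent.PicLib.PicM.of_tensorPow hM' h, Groth.Agent.PicLib.PicM.of_eq_one_iff]
      exact htor
    rw [hM'1, mul_pow, hMh, ← Units.val_pow_eq_pow_val, ← Units.val_mul, Units.val_eq_one, ← zpow_natCast,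
      ← Groth.Agent.Inters29.zcl_zsmul, ← Groth.Agent.Inters29.zcl_add] at h1
    obtain ⟨e, he⟩ := (Groth.Agent.Inters29.zcl_eq_one_iff hC hH0 hX hΓ hL _).1 h1
    refine ⟨-v, e, fun i => ?_⟩
    have h2 := he i
    simp only [Pi.add_apply, Pi.smul_apply, smul_eq_mul, Pi.neg_apply] at h2 ⊢
    linarith
  · rintro ⟨c, e, hce⟩
    obtain ⟨M', hM', hμ⟩ := Groth.Agent.PicLib.PicM.exists_eq_of (μ * (Z (-c) : Groth.Agent.PicLib.PicM X))
    refine ⟨M', hM', ?_, ?_⟩
    · rw [← Groth.Agent.PicLib.PicM.of_eq_one_iff (Groth.Agent.AmpleLib.isInvertible_tensorPow hM' h),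
        Groth.Agent.PicLib.PicM.of_tensorPow hM' h, ← hμ, mul_pow, hMh, ← Units.val_pow_eq_pow_val,
        ← Units.val_mul, Units.val_eq_one, ← zpow_natCast, ← Groth.Agent.Inters29.zcl_zsmul,
        ← Groth.Agent.Inters29.zcl_add, Groth.Agent.Inters29.zcl_eq_one_iff hC hH0 hX hΓ hL]
      exact ⟨e, fun i => by simp only [Pi.add_apply, Pi.smul_apply, smul_eq_mul, Pi.neg_apply]; linarith [hce i]⟩
    · have h1 := congrArg (Groth.Agent.PicLib.PicM.pull g) hμ
      rw [map_mul, Groth.Agent.Inters29.pull_zcl hC hX hΓ hL g hg, mul_one] at h1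
      simp only [μ, Groth.Agent.PicLib.PicM.pull_of, Groth.Agent.PicLib.PicM.of_eq_iff] at h1
      obtain ⟨e1⟩ := h1
      exact ⟨e1.symm ≪≫ eN⟩

end Groth.Agent.S19924
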