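import Groth.Statements.S19926
import Groth.Agent.Hilb24.Dim
import Groth.Agent.DimLib.ProjDim

set_option autoImplicit false
universe u
open ProjDeg

namespace Groth.Agent.S19926
open Groth.Agent Groth.Agent.Hilb24 Groth.Agent.DimLib.PN

/-- Let k be a field, n ≥ 0, S = k[X_0, …, X_n] graded by degree, and p a homogeneous prime ideal of S
which does not contain the irrelevant ideal S_+, so that X = V_+(p) is a nonempty integral closed
subscheme of P^n_k (every such subscheme arises this way); its affine cone C(X) ⊆ A^{n+1}_k, the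
closure of the preimage of X under the projection from A^{n+1} minus the origin, is the closed
subset V(p), with coordinate ring S/p. Then dim C(X) = dim X + 1: the Krull dimension of S/p is the
topological Krull dimension of the closed subset V_+(p) of Proj S plus one. -/
theorem result (k : Type u) [Field k] (n : ℕ)
    (p : Ideal (MvPolynomial (Fin (n + 1)) k)) [p.IsPrime] (hph : p.IsHomogeneous (CohB1.polyGrading n k))
    (hrel : ¬ (HomogeneousIdeal.irrelevant (CohB1.polyGrading n k)).toIdeal ≤ p) :
    ringKrullDim (MvPolynomial (Fin (n + 1)) k ⧸ p) =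
      topologicalKrullDim ↥(ProjectiveSpectrum.zeroLocus (CohB1.polyGrading n k) (p : Set (MvPolynomial (Fin (n + 1)) k))) + 1 := by
  have hne : p ≠ m0 n k := fun e => hrel (by rw [e]; exact irrelevant_le_m0)
  obtain ⟨z, hz⟩ := exists_point (n := n) (k := k) ‹p.IsPrime› hph hne
  let Z : Set (ProjectiveSpectrum (CohB1.polyGrading n k)) :=
    ProjectiveSpectrum.zeroLocus (CohB1.polyGrading n k) (p : Set (MvPolynomial (Fin (n + 1)) k))
  have hZ : ∀ w, w ∈ Z ↔ z ⤳ w := fun w => by
    rw [specializes_iff, hz]; rfl
  have hzZ : z ∈ Z := (hZ z).2 specializes_rfl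
  have hcl : Z = closure {z} := Set.ext fun w => (hZ w).trans specializes_iff_mem_closure
  have hgp : IsGenericPoint (pt z) (Z : Set ↥(CohB1.ProjSpace n k)) := hcl.symm
  have hk : topologicalKrullDim ↥Z = (DimLib.ptDim (CohB1.ProjSpace.toSpec n k) (pt z) : WithBot ℕ∞) :=
    DimLib.topologicalKrullDim_eq_ptDim_of_isGenericPoint _ hgp
  have h1 := ptDim_add_one z
  rw [hz] at h1
  rw [cdim_eq ‹p.IsPrime›, hk]
  exact_mod_cast h1.symm

end Groth.Agent.S19926
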