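import Groth.Statements.S19945
import Groth.Agent.ThetaLib.Points

set_option autoImplicit false
set_option linter.all false
universe u
open CategoryTheory MonoidalCategory CartesianMonoidalCategory MonObj GrpObj AlgebraicGeometry
open ThetaGrp

namespace Groth.Agent.S19945

/-- Let X be an abelian variety over a field k (a proper, geometrically integral, commutative k-group
scheme), L an invertible O_X-module and i : K → X a closed immersion exhibiting K as K(L), the
maximal closed subscheme of X over which the Mumford bundle m^*L ⊗ p_1^*L⁻¹ ⊗ p_2^*L⁻¹, restricted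
to X ×_k K, is the inverse image of an invertible module on K, with its universal property for
morphisms T → X. For a k-scheme T and a T-valued point x of X, the following are equivalent: x
factors through i; every point of T has an open neighbourhood U over which some point of the theta
group G(L)(U) lies over the restriction of x, that is, there is an isomorphism L_U ≅ t_x^*L_U of
modules on X ×_k U. In other words the map G(L) → X, (x, φ) ↦ x, has image the subfunctor K(L),
surjectively for the Zariski topology. -/
theorem result (k : Type u) [Field k]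
    (A : Over (Spec (CommRingCat.of k))) [GrpObj A] [IsCommMonObj A] [IsProper A.hom] [GeometricallyIntegral A.hom]
    (L : A.left.Modules) (hL : PicF.IsInvertible L)
    (K : Over (Spec (CommRingCat.of k))) (iK : K ⟶ A) (hK : ThetaGrp.IsKL A L iK)
    (T : Over (Spec (CommRingCat.of k))) (x : T ⟶ A) :
    (∃ y : T ⟶ K, y ≫ iK = x) ↔
      ∀ t : ↥T.left, ∃ U : T.left.Opens, t ∈ U ∧
        ∃ β : ThetaGrp.thetaPts A L (Over.mk (U.ι ≫ T.hom)),
          ThetaGrp.IsOverPt β ((Over.homMk U.ι rfl : Over.mk (U.ι ≫ T.hom) ⟶ T) ≫ x) := by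
  haveI := hK.closed
  constructor
  · intro hx t
    obtain ⟨m, hm⟩ := (KLLib.factors_iff hK hL x).1 hx
    obtain ⟨U, ht, hU⟩ := ThetaLib.exists_open_pull_eq_one m t
    have h := ThetaLib.translates_comp hm (Over.homMk U.ι rfl : Over.mk (U.ι ≫ T.hom) ⟶ T)
    simp only [Over.homMk_left] at h
    rw [hU] at h
    exact ⟨U, ht, (ThetaLib.exists_overPt_iff hL _).2 h⟩
  · intro h
    choose U ht β hβ using h
    have hfac : ∀ t, ∃ y : Over.mk ((U t).ι ≫ T.hom) ⟶ K,
        y ≫ iK = (Over.homMk (U t).ι rfl : Over.mk ((U t).ι ≫ T.hom) ⟶ T) ≫ x := fun t =>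
      (KLLib.factors_iff hK hL _).2 ⟨1, (ThetaLib.exists_overPt_iff hL _).1 ⟨β t, hβ t⟩⟩
    choose y hy using hfac
    have hsup : iSup U = ⊤ := top_le_iff.1 fun t _ => TopologicalSpace.Opens.mem_iSup.2 ⟨t, ht t⟩
    let 𝒰 := T.left.openCoverOfIsOpenCover U hsup
    have hy' : ∀ t, (y t).left ≫ iK.left = (U t).ι ≫ x.left := fun t => by
      rw [← Over.comp_left, hy t]
      rfl
    let g : T.left ⟶ K.left := 𝒰.glueMorphisms (fun t => (y t).left) fun a b => by
      rw [← cancel_mono iK.left]
      refine (Category.assoc _ _ _).trans ((congrArg (fun f => _ ≫ f) (hy' a)).trans ?_)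
      refine Eq.trans ?_ ((Category.assoc _ _ _).trans (congrArg (fun f => _ ≫ f) (hy' b))).symm
      exact (Category.assoc _ _ _).symm.trans ((congrArg (fun f => f ≫ x.left) Limits.pullback.condition).trans (Category.assoc _ _ _))
    have hg : g ≫ iK.left = x.left := 𝒰.hom_ext _ _ fun t => by
      rw [← Category.assoc, Scheme.Cover.ι_glueMorphisms]
      exact hy' t
    refine ⟨Over.homMk g ?_, Over.OverMorphism.ext hg⟩
    rw [← Over.w iK, ← Category.assoc, hg, Over.w]

end Groth.Agent.S19945
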