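import Groth.Statements.S19946
import Groth.Agent.ThetaLib.Commute
import Groth.Agent.ThetaLib.Commutator

set_option autoImplicit false
set_option backward.isDefEq.respectTransparency.types false
set_option linter.style.haveILetI false
set_option linter.unusedVariables false
universe u
open CategoryTheory MonoidalCategory CartesianMonoidalCategory MonObj GrpObj AlgebraicGeometry
open ThetaGrp Pseudofunctor Bicategory
open Groth.Agent Groth.Agent.ThetaLib Groth.Agent.PicLib

namespace Groth.Agent.S19946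

/-- Functions on the members of an open cover agreeing on overlaps glue. -/
theorem exists_function {X : Scheme.{u}} {J : Type u} (U : J → X.Opens) (hU : iSup U = ⊤)
    (r : ∀ p, Γ((U p).toScheme, ⊤))
    (h : ∀ p q, (X.homOfLE (inf_le_left : U p ⊓ U q ≤ U p)).appTop (r p) =
      (X.homOfLE (inf_le_right : U p ⊓ U q ≤ U q)).appTop (r q)) :
    ∃ R : Γ(X, ⊤), ∀ p, (U p).ι.appTop R = r p := by
  let V : J → X.Opens := fun p => (U p).ι ''ᵁ ⊤
  have hV : ∀ p, V p = U p := fun p => Scheme.Opens.ι_image_top (U p)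
  let c : ∀ p, Γ(X, V p) := r
  have hcomp : TopCat.Presheaf.IsCompatible X.presheaf V c := by
    intro p q
    let W := (U p ⊓ U q).ι ''ᵁ (⊤ : (U p ⊓ U q).toScheme.Opens)
    have hW : V p ⊓ V q = W := by rw [hV, hV]; exact (Scheme.Opens.ι_image_top _).symm
    have h2 : PicLib.res (X := X) (show W ≤ V p by rw [← hW]; exact inf_le_left) (c p) =
        PicLib.res (show W ≤ V q by rw [← hW]; exact inf_le_right) (c q) := by
      have e := h p q
      rw [Scheme.Hom.appTop, Scheme.Hom.appTop, Scheme.homOfLE_app, Scheme.homOfLE_app] at e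
      exact e
    have h3 := congrArg (PicLib.res (X := X) hW.le) h2
    rw [PicLib.res_res, PicLib.res_res] at h3
    exact h3
  obtain ⟨R, hR, -⟩ := TopCat.Sheaf.existsUnique_gluing' X.sheaf V ⊤ (fun p => homOfLE le_top)
    (by rw [show V = U from funext hV, hU]) c hcomp
  exact ⟨R, fun p => hR p⟩

/-- Let X be an abelian variety over a field k (a proper, geometrically integral, commutative k-group
scheme) and L an invertible O_X-module whose subscheme K(L) is all of X: the identity of X has the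
universal property of K(L), i.e. for every k-scheme Z and every Z-valued point z of X the Mumford
bundle m^*L ⊗ p_1^*L⁻¹ ⊗ p_2^*L⁻¹ restricted along X ×_k Z → X ×_k X is the inverse image of an
invertible module on Z (equivalently, the class of L lies in Pic⁰_{X/k}). Then the commutator
pairing e_L of the theta group is identically 1: for every k-scheme T, any two points (x₁, φ₁), (x₂,
φ₂) of G(L)(T) (x_i a T-valued point of X, φ_i : L_T ≅ t_{x_i}^*L_T) commute. -/
theorem result (k : Type u) [Field k]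
    (A : Over (Spec (CommRingCat.of k))) [GrpObj A] [IsCommMonObj A] [IsProper A.hom] [GeometricallyIntegral A.hom]
    (L : A.left.Modules) (hL : PicF.IsInvertible L)
    (hK : ThetaGrp.IsKL A L (𝟙 A))
    (T : Over (Spec (CommRingCat.of k))) (β₁ β₂ : ThetaGrp.thetaPts A L T) :
    β₁ * β₂ = β₂ * β₁ := by
  obtain ⟨x, hx⟩ := β₁.2
  obtain ⟨y, hy⟩ := β₂.2
  obtain ⟨m, hm⟩ := (KLLib.factors_iff hK hL (fst A T)).1 ⟨fst A T, Category.comp_id _⟩
  choose U hpU hU using fun p => exists_open_pull_eq_one m p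
  have hcov : iSup U = ⊤ := top_le_iff.1 fun p _ => TopologicalSpace.Opens.mem_iSup.2 ⟨p, hpU p⟩
  let W : (A ⊗ T).left → Over (Spec (CommRingCat.of k)) := fun p => Over.mk ((U p).ι ≫ (A ⊗ T).hom)
  let ιp : ∀ p, W p ⟶ A ⊗ T := fun p => Over.homMk (U p).ι
  have hex : ∀ p, ∃ βp : ThetaGrp.thetaPts A L (W p), ThetaGrp.IsOverPt βp (ιp p ≫ fst A T) := fun p => by
    have h1 : PicM.pull (ιp p).left m = 1 := hU p
    have h2 := translates_comp hm (ιp p)
    rw [h1] at h2
    exact (exists_overPt_iff hL _).2 h2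
  choose βp hβp using hex
  obtain ⟨νT, hνT, -⟩ := exists_res (snd A T) (x := y) (β := β₂) hy
  choose νp hνp hνpbc using fun p => exists_res (ιp p) (x := snd A T ≫ y) (β := νT) hνT
  choose r hr using fun p => exists_comRel hL (βp p) (νp p)
  -- restriction of the commutator functions
  have hres : ∀ {V : Over (Spec (CommRingCat.of k))} (p) (a : V ⟶ W p) (β ν : ThetaGrp.thetaPts A L V),
      ThetaGrp.IsOverPt β (a ≫ ιp p ≫ fst A T) → ThetaGrp.IsOverPt ν (a ≫ ιp p ≫ snd A T ≫ y) →
      ComRel β ν (a.left.appTop (r p)) := by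
    intro V p a β ν h₁ h₂
    obtain ⟨β', hβ', e₁⟩ := exists_res a (hβp p)
    obtain ⟨ν', hν', e₂⟩ := exists_res a (hνp p)
    exact comRel_congr hL hβ' h₁ hν' h₂ (comRel_res a (hβp p) (hνp p) e₁ e₂ hβ' hν' (mul_comm _ _) (hr p))
  obtain ⟨R, hR⟩ := exists_function U hcov r fun p q => by
    let V : Over (Spec (CommRingCat.of k)) := Over.mk ((U p ⊓ U q).ι ≫ (A ⊗ T).hom)
    let a : V ⟶ W p := Over.homMk ((A ⊗ T).left.homOfLE inf_le_left)
      (by show _ ≫ (U p).ι ≫ _ = _; rw [Scheme.homOfLE_ι_assoc]; rfl)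
    let b : V ⟶ W q := Over.homMk ((A ⊗ T).left.homOfLE inf_le_right)
      (by show _ ≫ (U q).ι ≫ _ = _; rw [Scheme.homOfLE_ι_assoc]; rfl)
    have hab : a ≫ ιp p = b ≫ ιp q := Over.OverMorphism.ext
      ((Scheme.homOfLE_ι (A ⊗ T).left inf_le_left).trans (Scheme.homOfLE_ι (A ⊗ T).left inf_le_right).symm)
    obtain ⟨β, hβ, -⟩ := exists_res a (hβp p)
    obtain ⟨ν, hν, -⟩ := exists_res a (hνp p)
    have h2 : ComRel β ν (b.left.appTop (r q)) := hres q b β ν
      (by rw [← reassoc_of% hab]; exact hβ) (by rw [← reassoc_of% hab]; exact hν)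
    exact comRel_unique hL (hres p a β ν hβ hν) h2
  obtain ⟨s, rfl⟩ : ∃ s, R = (snd A T).left.appTop s :=
    ⟨_, (appTop_snd_eq (A := A) (T := T) R).symm⟩
  -- the function at a `T`-point `z` of `A` is the commutator along `z`
  have hloc : ∀ (z : T ⟶ A) (βz : ThetaGrp.thetaPts A L T), ThetaGrp.IsOverPt βz z →
      ComRel βz β₂ s := by
    intro z βz hz
    obtain ⟨c, hc⟩ := exists_comRel hL βz β₂
    let a : T ⟶ A ⊗ T := lift z (𝟙 T)
    have hcs : c = s := by
      let O : (A ⊗ T).left → T.left.Opens := fun p => a.left ⁻¹ᵁ U p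
      have hO : iSup O = ⊤ := top_le_iff.1 fun t _ => TopologicalSpace.Opens.mem_iSup.2 ⟨a.left t, hpU _⟩
      refine TopCat.Sheaf.eq_of_locally_eq' T.left.sheaf (fun p => (O p).ι ''ᵁ ⊤) ⊤ (fun p => homOfLE le_top)
        (by rw [show (fun p => (O p).ι ''ᵁ ⊤) = O from funext fun p => Scheme.Opens.ι_image_top _, hO]) c s fun p => ?_
      let V : Over (Spec (CommRingCat.of k)) := Over.mk ((O p).ι ≫ T.hom)
      let v : V ⟶ T := Over.homMk (O p).ι
      have hle : Set.range (((O p).ι ≫ a.left).base) ⊆ Set.range (U p).ι.base := by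
        rintro _ ⟨w, rfl⟩
        rw [Scheme.Opens.range_ι]
        exact w.2
      let b : V ⟶ W p := Over.homMk (IsOpenImmersion.lift (U p).ι ((O p).ι ≫ a.left) hle) (by
        show _ ≫ (U p).ι ≫ _ = _
        rw [IsOpenImmersion.lift_fac_assoc, Category.assoc, Over.w a]; rfl)
      have hb : b ≫ ιp p = v ≫ a := Over.OverMorphism.ext (IsOpenImmersion.lift_fac _ _ _)
      obtain ⟨β, hβ, e₁⟩ := exists_res v hz
      obtain ⟨ν, hν, e₂⟩ := exists_res v (x := y) (β := β₂) hy
      have h1 := comRel_res v hz hy e₁ e₂ hβ hν (mul_comm _ _) hc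
      have h2 := hres p b β ν (by rw [reassoc_of% hb, lift_fst]; exact hβ)
        (by rw [reassoc_of% hb, lift_snd_assoc, Category.id_comp]; exact hν)
      have h3 := comRel_unique hL h1 h2
      rw [← hR p, ← CommRingCat.comp_apply, ← Scheme.Hom.comp_appTop, ← CommRingCat.comp_apply,
        ← Scheme.Hom.comp_appTop] at h3
      have e : b.left ≫ (U p).ι ≫ (snd A T).left = (O p).ι := by
        have e' : b ≫ ιp p ≫ snd A T = v := by rw [reassoc_of% hb, lift_snd, Category.comp_id]
        exact congrArg (fun w => w.left) e'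
      rw [Category.assoc, e] at h3
      exact h3
    exact hcs ▸ hc
  have h1 : ThetaGrp.IsOverPt (1 : ThetaGrp.thetaPts A L T) 1 := by rw [ThetaGrp.IsOverPt, ThetaGrp.transl_one]; rfl
  obtain rfl : s = 1 := comRel_unique hL (hloc 1 1 h1) (comRel_one_iff.2 (Commute.one_left β₂))
  exact (comRel_one_iff.1 (hloc x β₁ hx)).eq

end Groth.Agent.S19946
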