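import Groth.Statements.S1995
import Groth.Agent.HenselLib.PairHens
import Groth.Agent.HenselLib.Idem
import Groth.Agent.HenselLib.Perm

set_option autoImplicit false
universe u
open EtAlg

namespace Groth.Agent.S1995

/-- Let I_1, …, I_n be pairwise comaximal ideals of a ring A, B a henselization of the pair (A, I_1 ∩ …
∩ I_n) and B_i a henselization of (A, I_i) for each i. Then B is isomorphic as an A-algebra to the
product of the B_i (any such isomorphism is the natural comparison map, by the universal property). -/
theorem result (A : Type u) [CommRing A] {n : ℕ} (I : Fin n → Ideal A)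
    (hI : Pairwise fun i j => I i ⊔ I j = ⊤) (B : Type u) [CommRing B] [Algebra A B]
    (hB : Hens2.IsPairHenselization A (⨅ i, I i) B) (Bi : Fin n → Type u) [∀ i, CommRing (Bi i)] [∀ i, Algebra A (Bi i)]
    (hBi : ∀ i, Hens2.IsPairHenselization A (I i) (Bi i)) :
    Nonempty (B ≃ₐ[A] ∀ i, Bi i) := by
  classical
  set I₀ := ⨅ i, I i with hI₀
  have := hB.1
  set IB := I₀.map (algebraMap A B) with hIB
  -- approximate idempotents in `A`
  have hc : ∀ i, ∃ c : A, c - 1 ∈ I i ∧ ∀ j, j ≠ i → c ∈ I j := fun i => by
    obtain ⟨y, hy⟩ := Ideal.quotientInfToPiQuotient_surj (I := I) (fun a b hab => Ideal.isCoprime_iff_sup_eq.mpr (hI hab))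
      (Pi.single i (1 : A ⧸ I i))
    obtain ⟨c, rfl⟩ := Ideal.Quotient.mk_surjective y
    refine ⟨c, Ideal.Quotient.eq.mp ?_, fun j hj => Ideal.Quotient.eq_zero_iff_mem.mp ?_⟩
    · have := congrFun hy i
      simpa [Ideal.quotientInfToPiQuotient_mk'] using this
    · have := congrFun hy j
      simpa [Ideal.quotientInfToPiQuotient_mk', Pi.single_eq_of_ne hj] using this
  choose c hc1 hc0 using hc
  have hmem : ∀ a : A, (∀ j, a ∈ I j) → algebraMap A B a ∈ IB := fun a ha =>
    Ideal.mem_map_of_mem _ (Submodule.mem_iInf _ |>.mpr ha)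
  have he : ∀ i, ∃ e : B, IsIdempotentElem e ∧ e - algebraMap A B (c i) ∈ IB := fun i => by
    obtain ⟨e, he, he'⟩ := Groth.Agent.HenselLib.exists_idempotent IB (B := B) (algebraMap A B (c i)) (by
      rw [Algebra.algebraMap_self, Ideal.map_id, ← map_mul, ← map_sub]
      refine hmem _ fun j => ?_
      by_cases hj : j = i
      · subst hj
        rw [show c j * c j - c j = c j * (c j - 1) by ring]
        exact Ideal.mul_mem_left _ _ (hc1 j)
      · exact sub_mem (Ideal.mul_mem_left _ _ (hc0 i j hj)) (hc0 i j hj))
    rw [Algebra.algebraMap_self, Ideal.map_id] at he'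
    exact ⟨e, he, he'⟩
  choose e he he' using he
  have horth : ∀ i j, i ≠ j → e i * e j = 0 := fun i j hij => by
    refine Groth.Agent.HenselLib.eq_zero_of_isIdempotentElem_mem (hB.1).jac ((he i).mul (he j)) ?_
    have h1 : algebraMap A B (c i * c j) ∈ IB := hmem _ fun k => by
      by_cases hk : k = i
      · exact Ideal.mul_mem_left _ _ (hc0 j k (hk ▸ hij))
      · exact Ideal.mul_mem_right _ _ (hc0 i k hk)
    have h2 : e i * e j = (e i - algebraMap A B (c i)) * e j +
        (algebraMap A B (c i) * (e j - algebraMap A B (c j)) + algebraMap A B (c i * c j)) := by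
      rw [map_mul]; ring
    rw [h2]
    exact add_mem (Ideal.mul_mem_right _ _ (he' i)) (add_mem (Ideal.mul_mem_left _ _ (he' j)) h1)
  have hsum : ∑ i, e i = 1 := by
    have hidem : IsIdempotentElem (∑ i, e i) := by
      rw [IsIdempotentElem, Finset.sum_mul_sum]
      refine Finset.sum_congr rfl fun i _ => ?_
      rw [Finset.sum_eq_single i (fun j _ hj => horth i j (Ne.symm hj)) (by simp)]
      exact he i
    refine (sub_eq_zero.mp ?_).symm
    refine Groth.Agent.HenselLib.eq_zero_of_isIdempotentElem_mem (hB.1).jac hidem.one_sub ?_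
    have h1 : algebraMap A B (1 - ∑ i, c i) ∈ IB := hmem _ fun k => by
      rw [← Finset.sum_erase_add _ _ (Finset.mem_univ k), sub_add_eq_sub_sub_swap]
      exact sub_mem (by simpa using neg_mem (hc1 k))
        (Ideal.sum_mem _ fun j hj => hc0 j k (Finset.ne_of_mem_erase hj).symm)
    have h2 : 1 - ∑ i, e i = algebraMap A B (1 - ∑ i, c i) - ∑ i, (e i - algebraMap A B (c i)) := by
      rw [map_sub, map_one, map_sum, Finset.sum_sub_distrib]; ring
    rw [h2]
    exact sub_mem h1 (Ideal.sum_mem _ fun i _ => he' i)
  -- the factors are henselizations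
  have hfac : ∀ i, Groth.Agent.HenselLib.IsPairHull A (I i) (B ⧸ Ideal.span {1 - e i}) := fun i => by
    refine ⟨?_, fun C _ J f hJ hle => ?_⟩
    · have := Groth.Agent.HenselLib.henselianRing_quotient IB (Ideal.span {1 - e i})
      refine Groth.Agent.HenselLib.henselianRing_of_le (J := IB.map (Ideal.Quotient.mk (Ideal.span {1 - e i}))) ?_
      refine Ideal.map_le_iff_le_comap.mpr fun a ha => ?_
      have h1 : algebraMap A B a * e i ∈ IB := by
        have h2 : algebraMap A B (a * c i) ∈ IB := hmem _ fun k => by
          by_cases hk : k = i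
          · subst hk; exact Ideal.mul_mem_right _ _ ha
          · exact Ideal.mul_mem_left _ _ (hc0 i k hk)
        have h3 : algebraMap A B a * e i =
            algebraMap A B a * (e i - algebraMap A B (c i)) + algebraMap A B (a * c i) := by
          rw [map_mul]; ring
        rw [h3]
        exact add_mem (Ideal.mul_mem_left _ _ (he' i)) h2
      have h4 : algebraMap A (B ⧸ Ideal.span {1 - e i}) a = Ideal.Quotient.mk _ (algebraMap A B a * e i) := by
        rw [IsScalarTower.algebraMap_apply A B (B ⧸ Ideal.span {1 - e i}), Ideal.Quotient.algebraMap_eq,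
          Ideal.Quotient.eq]
        exact Ideal.mem_span_singleton.mpr ⟨algebraMap A B a, by ring⟩
      rw [Ideal.mem_comap, h4]
      exact Ideal.mem_map_of_mem _ h1
    · obtain ⟨g, hg, hgu⟩ := hB.2 C J f hJ ((Ideal.map_mono (iInf_le I i)).trans hle)
      have hge : g (e i) = 1 := by
        refine (sub_eq_zero.mp (Groth.Agent.HenselLib.eq_zero_of_isIdempotentElem_mem hJ.jac
          ((he i).map g).one_sub ?_)).symm
        have h1 : g (e i - algebraMap A B (c i)) ∈ J := by
          have := Ideal.mem_map_of_mem g (he' i)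
          rw [Ideal.map_map, hg] at this
          exact ((Ideal.map_mono (iInf_le I i)).trans hle) this
        have h2 : f (c i - 1) ∈ J := hle (Ideal.mem_map_of_mem f (hc1 i))
        have h3 : 1 - g (e i) = -(g (e i - algebraMap A B (c i)) + f (c i - 1)) := by
          rw [map_sub, map_sub, map_one, show g (algebraMap A B (c i)) = f (c i) from congr($hg (c i))]
          ring
        rw [h3]
        exact neg_mem (add_mem h1 h2)
      have hker : ∀ b ∈ Ideal.span {1 - e i}, g b = 0 := fun b hb => by
        obtain ⟨d, rfl⟩ := Ideal.mem_span_singleton.mp hb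
        rw [map_mul, map_sub, map_one, hge, sub_self, zero_mul]
      exact ⟨Ideal.Quotient.lift _ g hker, RingHom.ext fun a => congr($hg a), fun g' hg' =>
        Ideal.Quotient.ringHom_ext ((hgu (g'.comp (Ideal.Quotient.mk _)) (RingHom.ext fun a =>
          congr($hg' a))).trans rfl)⟩
  let φ := fun i => ((hfac i).nonempty_equiv (hBi i)).some
  let Φ : B →ₐ[A] ∀ i, B ⧸ Ideal.span {1 - e i} :=
    AlgHom.pi fun i => Ideal.Quotient.mkₐ A (Ideal.span {1 - e i})
  have hΦ : Function.Bijective Φ := by
    refine ⟨(injective_iff_map_eq_zero _).mpr fun b hb => ?_, fun y => ?_⟩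
    · have : ∀ i, e i * b = 0 := fun i => by
        obtain ⟨d, hd⟩ := Ideal.mem_span_singleton.mp (Ideal.Quotient.eq_zero_iff_mem.mp (congrFun hb i))
        rw [hd]; linear_combination (-d) * (he i).eq
      rw [← one_mul b, ← hsum, Finset.sum_mul]
      exact Finset.sum_eq_zero fun i _ => this i
    · choose b hb using fun i => Ideal.Quotient.mk_surjective (y i)
      refine ⟨∑ i, e i * b i, funext fun j => ?_⟩
      rw [← hb j]
      refine Ideal.Quotient.eq.mpr ?_
      rw [show ∑ i, e i * b i - b j = (1 - e j) * (∑ i, e i * b i - b j) from ?_]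
      · exact Ideal.mul_mem_right _ _ (Ideal.mem_span_singleton_self _)
      have h : e j * ∑ i, e i * b i = e j * b j := by
        rw [Finset.mul_sum, Finset.sum_eq_single j
          (fun k _ hk => by rw [← mul_assoc, horth j k (Ne.symm hk), zero_mul]) (by simp),
          ← mul_assoc, (he j).eq]
      linear_combination h
  exact ⟨(AlgEquiv.ofBijective Φ hΦ).trans (AlgEquiv.piCongrRight φ)⟩

end Groth.Agent.S1995
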