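import Groth.Statements.S19954
import Groth.Agent.ThetaLib.Commute
import Groth.Agent.ThetaLib.Commutator

set_option autoImplicit false
set_option backward.isDefEq.respectTransparency.types false
set_option linter.style.haveILetI false
set_option linter.unusedVariables false
universe u
open CategoryTheory MonoidalCategory CartesianMonoidalCategory MonObj GrpObj AlgebraicGeometry
open ThetaGrp Pseudofunctor Bicategory
open Groth.Agent Groth.Agent.ThetaLib Groth.Agent.PicLib

namespace Groth.Agent.S19954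

/-- Let f : X → Y be a homomorphism of abelian varieties over a field k (proper, geometrically integral,
commutative k-group schemes), L an invertible O_Y-module, and i_K : K → Y a closed immersion
exhibiting K as K(L), the maximal closed subscheme of Y over which the Mumford bundle m^*L ⊗
p_1^*L⁻¹ ⊗ p_2^*L⁻¹, restricted to Y ×_k K, is the inverse image of an invertible module on K, with
its universal property. The identity e_{f^*L} = e_L ∘ (f, f) on f⁻¹(K(L)) is stated here through the
vanishing of the two commutator pairings: for a k-scheme H and a k-morphism i_H : H → X such that f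
∘ i_H factors through i_K, the pairing e_L is trivial on the image of H in Y — for every k-scheme T,
any two points of G(L)(T) lying over the translations by f(i_H(h₁)), f(i_H(h₂)) for T-valued points
h₁, h₂ of H commute — if and only if e_{f^*L} is trivial on H: any two points of G(f^*L)(T) lying
over the translations by i_H(h₁), i_H(h₂) commute. -/
theorem result (k : Type u) [Field k]
    (A : Over (Spec (CommRingCat.of k))) [GrpObj A] [IsCommMonObj A] [IsProper A.hom] [GeometricallyIntegral A.hom]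
    (B : Over (Spec (CommRingCat.of k))) [GrpObj B] [IsCommMonObj B] [IsProper B.hom] [GeometricallyIntegral B.hom]
    (f : A ⟶ B) [IsMonHom f]
    (L : B.left.Modules) (hL : PicF.IsInvertible L)
    (K : Over (Spec (CommRingCat.of k))) (iK : K ⟶ B) (hK : ThetaGrp.IsKL B L iK)
    (H : Over (Spec (CommRingCat.of k))) (iH : H ⟶ A) (hH : ∃ y : H ⟶ K, y ≫ iK = iH ≫ f) :
    ThetaGrp.IsIsotropic L (iH ≫ f) ↔
      ThetaGrp.IsIsotropic ((Scheme.Modules.pullback f.left).obj L) iH := by
  have hfL := PicLoc.isInvertible_pullback f.left hL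
  obtain ⟨y₀, hy₀⟩ := hH
  have hm : ∀ {T} (z : T ⟶ H), ∃ m, KLLib.Translates hL (z ≫ iH ≫ f) m := fun z =>
    (KLLib.factors_iff hK hL _).1 ⟨z ≫ y₀, by rw [Category.assoc, hy₀]⟩
  have key : ∀ {T : Over (Spec (CommRingCat.of k))} {a c : T ⟶ A} {b₁ b₂ : ThetaGrp.thetaPts B L T}
      {β₁ β₂ : ThetaGrp.thetaPts A ((Scheme.Modules.pullback f.left).obj L) T},
      ThetaGrp.IsOverPt β₁ a → ThetaGrp.IsOverPt β₂ c → ThetaGrp.IsOverPt b₁ (a ≫ f) → ThetaGrp.IsOverPt b₂ (c ≫ f) →
      β₁.1.hom ≫ homLift f L T = homLift f L T ≫ b₁.1.hom → β₂.1.hom ≫ homLift f L T = homLift f L T ≫ b₂.1.hom →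
      ∀ r, ComRel b₁ b₂ r → ComRel β₁ β₂ r := by
    intro T a c b₁ b₂ β₁ β₂ h₁ h₂ hb₁ hb₂ e₁ e₂ r hr
    refine hom_ext_of_fiber (homLift f L T) ?_ ?_
    · have h12 := isOverPt_mul h₁ h₂
      rw [mul_comm] at h12
      exact h12.trans ((isOverPt_mul h₂ h₁).symm.trans (Category.id_comp _).symm)
    · have e : homLift f L T ≫ scalT L T r = scalT _ T r ≫ homLift f L T := by
        refine (comp_scal _ _).trans (congrArg (fun z => scal _ z ≫ homLift f L T) ?_)
        rw [← CommRingCat.comp_apply, ← Scheme.Hom.comp_appTop, homLift_base, ← Over.comp_left, whiskerRight_snd]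
      calc (β₁ * β₂).1.hom ≫ homLift f L T = homLift f L T ≫ (b₁ * b₂).1.hom := by
            rw [mul_hom, mul_hom, Category.assoc, e₁, reassoc_of% e₂]
        _ = homLift f L T ≫ scalT L T r ≫ (b₂ * b₁).1.hom := congrArg (_ ≫ ·) hr
        _ = (scalT _ T r ≫ (β₂ * β₁).1.hom) ≫ homLift f L T := by
            rw [mul_hom, mul_hom, reassoc_of% e, Category.assoc, Category.assoc, e₂, reassoc_of% e₁]
  constructor
  · intro h T x y β₁ β₂ h₁ h₂
    obtain ⟨m₁, hm₁⟩ := hm x
    obtain ⟨m₂, hm₂⟩ := hm y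
    rw [← Category.assoc] at hm₁ hm₂
    obtain ⟨b₁, hb₁⟩ := exists_pt_of_translates f hL h₁ hm₁
    obtain ⟨b₂, hb₂⟩ := exists_pt_of_translates f hL h₂ hm₂
    have hc : Commute b₁ b₂ := h T x y b₁ b₂ (by rw [← Category.assoc]; exact hb₁) (by rw [← Category.assoc]; exact hb₂)
    obtain ⟨β₁', hβ₁, e₁⟩ := exists_pullPt f L hb₁
    obtain ⟨β₂', hβ₂, e₂⟩ := exists_pullPt f L hb₂
    exact comRel_one_iff.1 (comRel_congr hfL hβ₁ h₁ hβ₂ h₂ (key hβ₁ hβ₂ hb₁ hb₂ e₁ e₂ 1 (comRel_one_iff.2 hc)))
  · intro h T x y b₁ b₂ hb₁ hb₂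
    rw [← Category.assoc] at hb₁ hb₂
    obtain ⟨β₁, hβ₁, e₁⟩ := exists_pullPt f L hb₁
    obtain ⟨β₂, hβ₂, e₂⟩ := exists_pullPt f L hb₂
    obtain ⟨r, hr⟩ := exists_comRel hL b₁ b₂
    obtain rfl : r = 1 := comRel_unique hfL (key hβ₁ hβ₂ hb₁ hb₂ e₁ e₂ r hr)
      (comRel_one_iff.2 (h T x y β₁ β₂ hβ₁ hβ₂))
    exact comRel_one_iff.1 hr

end Groth.Agent.S19954
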