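import Groth.Statements.S19952
import Groth.Agent.S19947
import Groth.Agent.ThetaLib.Rep
import Groth.Agent.AbCubeLib.SubgroupQuotient
import Groth.Agent.SGA3cLib.MonoClosed

set_option autoImplicit false
set_option backward.isDefEq.respectTransparency.types false
set_option linter.style.haveILetI false
universe u
open CategoryTheory MonoidalCategory CartesianMonoidalCategory MonObj GrpObj AlgebraicGeometry
open ThetaGrp

namespace Groth.Agent.S19952

/-- Let X be an abelian variety over a field k (a proper, geometrically integral, commutative k-group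
scheme), L an invertible O_X-module, and G a k-group scheme with a point u ∈ G(L)(G) representing
the theta group of L (every point of G(L)(T) is the base change of u along a unique T → G,
multiplicatively). Let j : H → G be a level subgroup — H a k-group scheme, j a homomorphism of group
schemes and an immersion, such that a point of H whose image lies over the identity translation is
trivial — and let i_H : H → X be the morphism it lies over: for every k-scheme T and T-valued point
h of H the base change of u along j(h) lies over the translation by i_H(h). Then there are an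
abelian variety Y over k (proper, geometrically integral k-group scheme), a surjective homomorphism
f : X → Y whose kernel is i_H (i_H and f form a cartesian square with the unit section of Y), and an
invertible O_Y-module M with f^*M ≅ L. (The source states a bijection between level subgroups and
isomorphism classes of such pairs (f, M); this row is the existence of a pair for a given level
subgroup.) -/
theorem result (k : Type u) [Field k]
    (A : Over (Spec (CommRingCat.of k))) [GrpObj A] [IsCommMonObj A] [IsProper A.hom] [GeometricallyIntegral A.hom]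
    (L : A.left.Modules) (hL : PicF.IsInvertible L)
    (G : Over (Spec (CommRingCat.of k))) [GrpObj G] (u : ThetaGrp.thetaPts A L G)
    (hG : ThetaGrp.IsThetaGrpSch A L G u)
    (H : Over (Spec (CommRingCat.of k))) [GrpObj H] (j : H ⟶ G) (hj : ThetaGrp.IsLevelSubgrp u j)
    (iH : H ⟶ A)
    (hover : ∀ (T : Over (Spec (CommRingCat.of k))) (h : T ⟶ H) (β : ThetaGrp.thetaPts A L T),
      ThetaGrp.IsBaseChange β (h ≫ j) u → ThetaGrp.IsOverPt β (h ≫ iH)) :
    ∃ (B : Over (Spec (CommRingCat.of k))) (_ : GrpObj B) (f : A ⟶ B),
      IsProper B.hom ∧ GeometricallyIntegral B.hom ∧ IsMonHom f ∧ Surjective f.left ∧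
      AlgGrp.IsKernel iH f ∧
      ∃ M : B.left.Modules, PicF.IsInvertible M ∧ Nonempty ((Scheme.Modules.pullback f.left).obj M ≅ L) := by
  haveI : IsImmersion j.left := hj.1
  haveI : IsMonHom j := hj.2.1
  have hbc : ∀ {T : Over (Spec (CommRingCat.of k))} (g : T ⟶ G), ThetaGrp.IsBaseChange (ThetaLib.res g u) g u :=
    fun g => ThetaLib.res_bc g u
  have hover' : ∀ {T : Over (Spec (CommRingCat.of k))} (h : T ⟶ H), ThetaLib.tpt (ThetaLib.res (h ≫ j) u) = h ≫ iH :=
    fun h => ThetaLib.tpt_eq (hover _ h _ (hbc _))
  haveI : IsMonHom iH := by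
    have hmul : ∀ {T : Over (Spec (CommRingCat.of k))} (a b : T ⟶ H), (a * b) ≫ iH = (a ≫ iH) * (b ≫ iH) :=
      fun {T} a b => by
        have e : ThetaLib.res ((a ≫ j) * (b ≫ j)) u = ThetaLib.res (a ≫ j) u * ThetaLib.res (b ≫ j) u :=
          (ThetaLib.eq_res (hG.mul T _ _ _ _ (hbc _) (hbc _))).symm
        rw [← hover' (a * b), MonObj.mul_comp, e, ThetaLib.tpt_mul, hover', hover', _root_.mul_comm]
    refine ⟨?_, ?_⟩
    · have e := hmul (1 : 𝟙_ (Over (Spec (CommRingCat.of k))) ⟶ H) 1
      rw [_root_.mul_one] at e
      rw [MonObj.one_eq_one, MonObj.one_eq_one]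
      exact left_eq_mul.1 e
    · have e := hmul (fst H H) (snd H H)
      rw [Hom.mul_def, lift_fst_snd, Category.id_comp] at e
      rw [e, Hom.mul_def]
      congr 1
  haveI : Mono iH := ⟨fun {T} a b hab => by
    have hb : (a / b) ≫ iH = 1 := by rw [GrpObj.div_comp, hab, div_self']
    exact div_eq_one.1 (hj.2.2 T (a / b) _ (hbc _) (by
      have h := hover T (a / b) _ (hbc _)
      rwa [hb] at h))⟩
  -- `G` is of finite type
  obtain ⟨G', _, u', hG', hlft, hqc⟩ := ThetaLib.exists_isThetaGrpSch (A := A) (L := L) hL
  obtain ⟨g, hg, -⟩ := hG'.univ G u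
  obtain ⟨g', hg', -⟩ := hG.univ G' u'
  have e1 : g ≫ g' = 𝟙 G := (hG.univ G u).unique (by
    show ThetaGrp.IsBaseChange u (g ≫ g') u
    have e := ThetaLib.res_bc (g ≫ g') u
    rwa [← ThetaLib.res_res, ← ThetaLib.eq_res hg', ← ThetaLib.eq_res hg] at e) (by
    have e := ThetaLib.res_bc (𝟙 G) u
    rwa [ThetaLib.res_id] at e)
  have e2 : g' ≫ g = 𝟙 G' := (hG'.univ G' u').unique (by
    show ThetaGrp.IsBaseChange u' (g' ≫ g) u'
    have e := ThetaLib.res_bc (g' ≫ g) u'
    rwa [← ThetaLib.res_res, ← ThetaLib.eq_res hg, ← ThetaLib.eq_res hg'] at e) (by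
    have e := ThetaLib.res_bc (𝟙 G') u'
    rwa [ThetaLib.res_id] at e)
  haveI : IsIso g.left := inferInstanceAs (IsIso ((Over.forget _).mapIso ⟨g, g', e1, e2⟩).hom)
  haveI : LocallyOfFiniteType G.hom := by rw [← Over.w g]; infer_instance
  haveI : QuasiCompact G.hom := by rw [← Over.w g]; infer_instance
  haveI : IsLocallyNoetherian G.left := LocallyOfFiniteType.isLocallyNoetherian G.hom
  haveI : CompactSpace G.left := QuasiCompact.compactSpace_of_compactSpace G.hom
  haveI : IsNoetherian G.left := ⟨⟩
  haveI : LocallyOfFiniteType H.hom := by rw [← Over.w j]; infer_instance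
  haveI : QuasiCompact iH.left := by
    haveI : CompactSpace H.left := ⟨by
      rw [j.left.isEmbedding.isCompact_iff]
      exact TopologicalSpace.NoetherianSpace.isCompact _⟩
    haveI : QuasiCompact (iH.left ≫ A.hom) := by
      rw [Over.w]
      exact (quasiCompact_iff_compactSpace H.hom).2 inferInstance
    exact QuasiCompact.of_comp iH.left A.hom
  haveI : IsClosedImmersion iH.left := SGA3cLib.isClosedImmersion_of_mono iH
  obtain ⟨B, hBgrp, f, hBp, hBg, hf, hfs, hker⟩ := AbCubeLib.exists_quotient_subgroup iH
  haveI : IsCommMonObj B := isCommMonObj_of_isProper_of_geometricallyIntegral B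
  obtain ⟨M, hM, hML⟩ := (S19947.result k A B f hfs H iH hker L hL G u hG).2 ⟨j, inferInstance, hover⟩
  exact ⟨B, hBgrp, f, hBp, hBg, hf, hfs, hker, M, hM, hML⟩

end Groth.Agent.S19952
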