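import Groth.Statements.S19955
import Groth.Agent.ThetaLib.Normalized
import Groth.Agent.ThetaLib.Commute
import Groth.Agent.AbCubeLib.FiniteProduct

set_option autoImplicit false
set_option backward.isDefEq.respectTransparency.types false
set_option linter.style.haveILetI false
set_option linter.unusedVariables false
universe u
open CategoryTheory MonoidalCategory CartesianMonoidalCategory MonObj GrpObj AlgebraicGeometry
open ThetaGrp Pseudofunctor Bicategory
open Groth.Agent Groth.Agent.ThetaLib Groth.Agent.PicLib

namespace Groth.Agent.S19955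

/-- Let A be an abelian variety over a field k (a proper, geometrically integral, commutative k-group
scheme), L an invertible O_A-module, and Λ an invertible module on A ×_k A which is the Mumford
bundle of L, stated without inverses: Λ ⊗ p_1^*L ⊗ p_2^*L ≅ m^*L for the group law m and the
projections p_1, p_2. Let i : K → A be a closed subgroup scheme exhibiting K as K(L) (the maximal
closed subscheme of A over which Λ, restricted to A ×_k K, is the inverse image of an invertible
module on K, with its universal property), and let G be a k-group scheme with a point u ∈ G(Λ)(G)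
representing the theta group of Λ on the k-group scheme A ×_k A (every point of G(Λ)(T) — a T-valued
point z of A × A with an isomorphism Λ_T ≅ t_z^*Λ_T — is the base change of u along a unique T → G,
multiplicatively). Then the action of K × {e} on A × A by translations lifts to Λ compatibly with
the group law of K: there is a homomorphism of group schemes j : K → G such that for every k-scheme
T and every T-valued point y of K, the base change of u along j(y) lies over the translation by the
point (i(y), e) of A × A. (In the source L is a fixed ample invertible module and the equivariant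
structure is moreover shown to be unique once an isomorphism of the fibre of L at e with k is fixed;
the argument for existence uses only that L is invertible, and the uniqueness is not part of this
statement.) -/
theorem result (k : Type u) [Field k]
    (A : Over (Spec (CommRingCat.of k))) [GrpObj A] [IsCommMonObj A] [IsProper A.hom] [GeometricallyIntegral A.hom]
    (L : A.left.Modules) (hL : PicF.IsInvertible L)
    (Λ : (A ⊗ A).left.Modules) (hΛi : PicF.IsInvertible Λ)
    (hΛ : AgPol.IsLambdaSheaf μ[A].left (fst A A).left (snd A A).left L Λ)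
    (K : Over (Spec (CommRingCat.of k))) [GrpObj K] (iK : K ⟶ A) [IsMonHom iK] (hK : ThetaGrp.IsKL A L iK)
    (G : Over (Spec (CommRingCat.of k))) [GrpObj G] (u : ThetaGrp.thetaPts (A ⊗ A) Λ G)
    (hG : ThetaGrp.IsThetaGrpSch (A ⊗ A) Λ G u) :
    ∃ j : K ⟶ G, IsMonHom j ∧
      ∀ (T : Over (Spec (CommRingCat.of k))) (y : T ⟶ K) (β : ThetaGrp.thetaPts (A ⊗ A) Λ T),
        ThetaGrp.IsBaseChange β (y ≫ j) u → ThetaGrp.IsOverPt β (y ≫ lift iK (1 : K ⟶ A)) := by
  haveI : GeometricallyIntegral (A ⊗ A).hom := AbCubeLib.geometricallyIntegral_tensor' A A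
  haveI : IsProper (A ⊗ A).hom := show IsProper (Limits.pullback.fst A.hom A.hom ≫ A.hom) from inferInstance
  have hlam : PicM.of hΛi * PicM.pull (fst A A).left (PicM.of hL) * PicM.pull (snd A A).left (PicM.of hL) =
      PicM.pull μ[A].left (PicM.of hL) :=
    ((PicM.of_eq_iff (AmpleLib.isInvertible_tensorMod (AmpleLib.isInvertible_tensorMod hΛi
      (PicLoc.isInvertible_pullback _ hL)) (PicLoc.isInvertible_pullback _ hL)) (PicLoc.isInvertible_pullback _ hL)).2 hΛ)
  have hlam' : ∀ {P : Over (Spec (CommRingCat.of k))} (g : P ⟶ A ⊗ A),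
      PicM.pull g.left (PicM.of hΛi) * PicM.pull (g ≫ fst A A).left (PicM.of hL) *
        PicM.pull (g ≫ snd A A).left (PicM.of hL) =
      PicM.pull ((g ≫ fst A A) * (g ≫ snd A A)).left (PicM.of hL) := by
    intro P g
    have h := congrArg (PicM.pull g.left) hlam
    have e : g ≫ μ[A] = (g ≫ fst A A) * (g ≫ snd A A) := by
      rw [Hom.mul_def, ← comp_lift, lift_fst_snd, Category.comp_id]
    rwa [map_mul, map_mul, PicM.pull_pull, PicM.pull_pull, PicM.pull_pull, ← Over.comp_left, ← Over.comp_left,
      ← Over.comp_left, e] at h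
  have hrig : Nonempty (Rig Λ) := by
    have h := hlam' (axis A)
    rw [lift_fst, lift_snd, _root_.mul_one, KLLib.pull_one hL, _root_.mul_one, Over.id_left, PicM.pull_id] at h
    have h1 : PicM.pull (axis A).left (PicM.of hΛi) = 1 :=
      PicM.mul_right_cancel' (h.trans (_root_.one_mul _).symm)
    have h2 : PicM.of (isInvertible_triv A) = 1 :=
      (PicM.pull_of (toUnit A).left (PicLoc.isInvertible_structureModule _)).symm.trans (map_one _)
    obtain ⟨e⟩ := (PicM.of_eq_iff (isInvertible_triv A) (PicLoc.isInvertible_pullback (axis A).left hΛi)).1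
      (h2.trans h1.symm)
    exact ⟨⟨⟨(axis A).left, e.hom⟩, rfl, e.isIso_hom⟩⟩
  obtain ⟨R⟩ := hrig
  have hex : ∀ {T} (y : T ⟶ K), ∃ α : ThetaGrp.thetaPts (A ⊗ A) Λ T, IsNorm R α (y ≫ iK) := by
    intro T y
    obtain ⟨m, hm⟩ := (KLLib.factors_iff hK hL (y ≫ iK)).1 ⟨y, rfl⟩
    have htr : KLLib.Translates hΛi (lift (y ≫ iK) (1 : T ⟶ A)) 1 := by
      let t := snd (A ⊗ A) T ≫ y ≫ iK
      let p := fst (A ⊗ A) T ≫ fst A A
      let q := fst (A ⊗ A) T ≫ snd A A
      have hg : ∀ g : (A ⊗ A) ⊗ T ⟶ A, PicM.pull (g * t).left (PicM.of hL) =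
          PicM.pull g.left (PicM.of hL) * PicM.pull (snd (A ⊗ A) T).left m := by
        intro g
        have h := congrArg (PicM.pull (lift g (snd (A ⊗ A) T)).left) hm
        rwa [map_mul, PicM.pull_pull, PicM.pull_pull, PicM.pull_pull, ← Over.comp_left, ← Over.comp_left,
          ← Over.comp_left, MonObj.comp_mul, lift_fst, lift_snd_assoc, lift_snd] at h
      have e1 : (fst (A ⊗ A) T * (snd (A ⊗ A) T ≫ lift (y ≫ iK) 1)) ≫ fst A A = p * t := by
        simp [p, t, MonObj.mul_comp]
      have e2 : (fst (A ⊗ A) T * (snd (A ⊗ A) T ≫ lift (y ≫ iK) 1)) ≫ snd A A = q := by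
        simp [q, MonObj.mul_comp]
      have hT := hlam' (fst (A ⊗ A) T * (snd (A ⊗ A) T ≫ lift (y ≫ iK) 1))
      rw [e1, e2, show p * t * q = p * q * t from mul_right_comm _ _ _, hg, hg, ← hlam' (fst (A ⊗ A) T)] at hT
      rw [KLLib.Translates, map_one, _root_.mul_one]
      refine PicM.mul_right_cancel' (c := PicM.pull p.left (PicM.of hL) * PicM.pull (snd (A ⊗ A) T).left m *
        PicM.pull q.left (PicM.of hL)) ?_
      rw [← _root_.mul_assoc, hT, ← _root_.mul_assoc, ← _root_.mul_assoc]
      exact mul_right_comm _ _ _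
    obtain ⟨α, hα⟩ := (exists_overPt_iff hΛi _).2 htr
    exact exists_isNorm R hΛi hα
  choose α hα using @hex
  obtain ⟨j, hju, -⟩ := hG.univ K (α (𝟙 K))
  have hlift : ∀ {T} (y : T ⟶ K), y ≫ lift iK (1 : K ⟶ A) = lift (y ≫ iK) 1 := fun y => by
    rw [comp_lift, MonObj.comp_one]
  have hbc : ∀ {T} (y : T ⟶ K), ThetaGrp.IsBaseChange (α y) (y ≫ j) u := by
    intro T y
    have hK0 : IsNorm R (α (𝟙 K)) iK := by simpa using hα (𝟙 K)
    obtain ⟨β, hβ, e⟩ := exists_res y hK0.1
    rw [hlift] at hβ
    obtain rfl : β = α y := (hK0.res R y hβ e).unique R hΛi (hα y)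
    rw [ThetaGrp.IsBaseChange, bcLift_comp, ← Category.assoc, e, Category.assoc, hju, ← Category.assoc]
  have hmul : ∀ {T} (n m : T ⟶ K), (n * m) ≫ j = (n ≫ j) * (m ≫ j) := by
    intro T n m
    have e : α n * α m = α (n * m) := by
      have h := (hα n).mul R (hα m)
      rw [mul_comm (m ≫ iK), ← MonObj.mul_comp] at h
      exact h.unique R hΛi (hα (n * m))
    have h1 := hG.mul T _ _ _ _ (hbc n) (hbc m)
    rw [e] at h1
    exact (hG.univ T _).unique (hbc (n * m)) h1
  refine ⟨j, ⟨?_, ?_⟩, fun T y β hb => ?_⟩
  · have h := hmul (1 : 𝟙_ _ ⟶ K) 1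
    rw [_root_.one_mul, left_eq_mul, Hom.one_def, Hom.one_def, toUnit_unit, Category.id_comp] at h
    simpa using h
  · have h := hmul (fst K K) (snd K K)
    rwa [Hom.mul_def, Hom.mul_def, lift_fst_snd, Category.id_comp, ← lift_map, lift_fst_snd, Category.id_comp] at h
  · obtain rfl := (hG.exists_bc T _).unique hb (hbc y)
    rw [hlift]
    exact (hα y).1

end Groth.Agent.S19955
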