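import Groth.Statements.S19956
import Groth.Agent.ThetaLib.Hom
import Groth.Agent.Desc19b.QCohFpqc

set_option autoImplicit false
set_option backward.isDefEq.respectTransparency.types false
set_option linter.style.haveILetI false
universe u
open CategoryTheory MonoidalCategory CartesianMonoidalCategory MonObj GrpObj AlgebraicGeometry
open ThetaGrp Pseudofunctor Bicategory
open Groth.Agent Groth.Agent.ThetaLib Groth.Agent.PicLib

namespace Groth.Agent.S19956

/-- Let f : X → Y be a surjective homomorphism of abelian varieties over a field k (proper,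
geometrically integral, commutative k-group schemes), i : N → X its kernel (a homomorphism forming a
cartesian square with the unit section of Y), M an invertible O_Y-module and L = f^*M. Let G be a
k-group scheme with a point u ∈ G(L)(G) representing the theta group of L (every point of G(L)(T) is
the base change of u along a unique T → G, multiplicatively), and j : N → G a level subgroup lying
over i: a homomorphism of group schemes and an immersion such that a point of N whose image lies
over the identity translation is trivial, and such that for every T-valued point n of N the base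
change of u along j(n) lies over the translation by i(n). Let i_M : K_M → Y be a closed immersion
exhibiting K_M as K(M) (the maximal closed subscheme of Y over which the Mumford bundle of M,
restricted to Y ×_k K_M, is the inverse image of an invertible module on K_M, with its universal
property). For a k-scheme T, a T-valued point g of G and the T-valued point x of X under it (the
base change of u along g lies over the translation by x): g lies in the centralizer of j(N) — for
every T' → T and every T'-valued point n of N, the restriction of g commutes with j(n) in the group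
G(T') — if and only if f(x) factors through i_M. (The source states this for the level subgroup
attached to the descent M; by the source's description of f⁻¹(K(M)) as Ker(f)^⊥ both sides depend
only on Ker(f), so it is stated for any level structure over i. The identification of G(M) with the
centralizer modulo j(N) is not part of this statement.) -/
theorem result (k : Type u) [Field k]
    (A : Over (Spec (CommRingCat.of k))) [GrpObj A] [IsCommMonObj A] [IsProper A.hom] [GeometricallyIntegral A.hom]
    (B : Over (Spec (CommRingCat.of k))) [GrpObj B] [IsCommMonObj B] [IsProper B.hom] [GeometricallyIntegral B.hom]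
    (f : A ⟶ B) [IsMonHom f] (hf : Surjective f.left)
    (N : Over (Spec (CommRingCat.of k))) [GrpObj N] (i : N ⟶ A) [IsMonHom i] (hN : AlgGrp.IsKernel i f)
    (M : B.left.Modules) (hM : PicF.IsInvertible M)
    (G : Over (Spec (CommRingCat.of k))) [GrpObj G]
    (u : ThetaGrp.thetaPts A ((Scheme.Modules.pullback f.left).obj M) G)
    (hG : ThetaGrp.IsThetaGrpSch A ((Scheme.Modules.pullback f.left).obj M) G u)
    (j : N ⟶ G) [IsMonHom j] (hj : ThetaGrp.IsLevelSubgrp u j)
    (hover : ∀ (T : Over (Spec (CommRingCat.of k))) (n : T ⟶ N)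
      (β : ThetaGrp.thetaPts A ((Scheme.Modules.pullback f.left).obj M) T),
      ThetaGrp.IsBaseChange β (n ≫ j) u → ThetaGrp.IsOverPt β (n ≫ i))
    (KM : Over (Spec (CommRingCat.of k))) (iM : KM ⟶ B) (hKM : ThetaGrp.IsKL B M iM)
    (T : Over (Spec (CommRingCat.of k))) (g : T ⟶ G) (x : T ⟶ A)
    (β : ThetaGrp.thetaPts A ((Scheme.Modules.pullback f.left).obj M) T)
    (hβ : ThetaGrp.IsBaseChange β g u) (hx : ThetaGrp.IsOverPt β x) :
    (∀ (T' : Over (Spec (CommRingCat.of k))) (t : T' ⟶ T) (n : T' ⟶ N),
        (t ≫ g) * (n ≫ j) = (n ≫ j) * (t ≫ g)) ↔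
      ∃ y : T ⟶ KM, y ≫ iM = x ≫ f := by
  have hL := PicLoc.isInvertible_pullback f.left hM
  obtain ⟨π, hπu⟩ := u.2
  have hgx : g ≫ π = x := isOverPt_unique (isOverPt_baseChange hβ hπu) hx
  have hif : i ≫ f = 1 := hN.w.trans Hom.one_def.symm
  constructor
  · intro h
    obtain ⟨hFlat, hSurj, hLfp⟩ := fppf_whiskerRight f hf T
    let F := homLift f M T
    haveI : Flat F.base := by rw [homLift_base]; exact hFlat
    haveI : Surjective F.base := by rw [homLift_base]; exact hSurj
    haveI : LocallyOfFinitePresentation F.base := by rw [homLift_base]; exact hLfp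
    have hinvM : PicF.IsInvertible (ThetaGrp.thetaObj B M T).fiber := PicLoc.isInvertible_pullback _ hM
    have hhor : (β.1.hom ≫ F).base = F.base ≫ (ThetaGrp.transl B (x ≫ f)).left := by
      rw [CoGrothendieck.categoryStruct_comp_base, hx, homLift_base, ← Over.comp_left, ← Over.comp_left,
        transl_whiskerRight]
    have hinv : ∀ (e : CoGrothendieck ThetaGrp.modPF.{u}) (π₁ π₂ : e ⟶ ThetaGrp.thetaObj A _ T),
        π₁ ≫ F = π₂ ≫ F → π₁ ≫ β.1.hom ≫ F = π₂ ≫ β.1.hom ≫ F := by
      intro e π₁ π₂ hπ
      let W : Over (Spec (CommRingCat.of k)) := Over.mk (π₁.base ≫ (A ⊗ T).hom)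
      have hb : π₁.base ≫ (f ▷ T).left = π₂.base ≫ (f ▷ T).left := by
        have := congrArg (fun z => z.base) hπ
        simpa [F, homLift_base] using this
      have hw2 : π₂.base ≫ (A ⊗ T).hom = π₁.base ≫ (A ⊗ T).hom := by
        rw [← Over.w (f ▷ T), ← Category.assoc, ← Category.assoc, hb]
      let a₁ : W ⟶ A ⊗ T := Over.homMk π₁.base rfl
      let a₂ : W ⟶ A ⊗ T := Over.homMk π₂.base hw2
      have ha : a₁ ≫ (f ▷ T) = a₂ ≫ (f ▷ T) := Over.OverMorphism.ext hb
      have hs : a₁ ≫ snd A T = a₂ ≫ snd A T := by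
        have := congrArg (· ≫ snd B T) ha
        simpa using this
      have hf' : a₁ ≫ fst A T ≫ f = a₂ ≫ fst A T ≫ f := by
        have := congrArg (· ≫ fst B T) ha
        simpa using this
      let t := a₁ ≫ snd A T
      let a := (a₁ ≫ fst A T)⁻¹ * (a₂ ≫ fst A T)
      have haf : a ≫ f = 1 := by
        rw [MonObj.mul_comp, GrpObj.inv_comp, Category.assoc, Category.assoc, hf', inv_mul_cancel]
      let n : W ⟶ N := hN.lift a (toUnit W) (haf.trans Hom.one_def)
      have hn : n ≫ i = a := hN.lift_fst _ _ _
      let w : W ⟶ A ⊗ W := lift (a₁ ≫ fst A T) (𝟙 W)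
      have hw1 : w ≫ (A ◁ t) = a₁ := by
        refine CartesianMonoidalCategory.hom_ext _ _ ?_ ?_
        · simp [w]
        · simp [w, t]
      have hwa : w ≫ ThetaGrp.transl A a ≫ (A ◁ t) = a₂ := by
        refine CartesianMonoidalCategory.hom_ext _ _ ?_ ?_
        · simp [w, a, ThetaGrp.transl, MonObj.comp_mul, mul_inv_cancel_left]
        · simp [w, t, ThetaGrp.transl, hs]
      obtain ⟨α, hα, hαF⟩ := exists_canonical f M haf
      obtain ⟨βt, hβt, -⟩ := hG.exists_bc W (t ≫ g)
      obtain ⟨γn, hγn, -⟩ := hG.exists_bc W (n ≫ j)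
      have hγ : ThetaGrp.IsOverPt γn a := hn ▸ hover W n γn hγn
      have hp1 := hG.mul W _ _ _ _ hβt hγn
      have hp2 := hG.mul W _ _ _ _ hγn hβt
      rw [h W t n] at hp1
      have hcomm : Commute βt γn := (hG.exists_bc W _).unique hp1 hp2
      have hcα : Commute βt α := commute_of_overPt hL hγ hα hcomm
      have hover' : ThetaGrp.IsOverPt βt (t ≫ x) := by
        rw [← hgx, ← Category.assoc]
        exact isOverPt_baseChange hβt hπu
      have hβbc : βt.1.hom ≫ ThetaGrp.bcLift A _ t = ThetaGrp.bcLift A _ t ≫ β.1.hom := by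
        refine hom_ext_of_fiber (ThetaGrp.bcLift A _ g) ?_ ?_
        · rw [CoGrothendieck.categoryStruct_comp_base, CoGrothendieck.categoryStruct_comp_base, hover', hx]
          exact congrArg (fun z => z.left) (transl_whisker t x)
        · rw [Category.assoc, Category.assoc, hβ, ← bcLift_comp, hβt, bcLift_comp, Category.assoc]
      obtain ⟨ρ, hρb, hρ⟩ := exists_lift_of_fiber (ThetaGrp.bcLift A _ t) π₁ w.left
        (congrArg (fun z => z.left) hw1).symm
      have hπ₂ : ρ ≫ α.1.hom ≫ ThetaGrp.bcLift A _ t = π₂ := by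
        refine hom_ext_of_fiber F ?_ ?_
        · rw [CoGrothendieck.categoryStruct_comp_base, CoGrothendieck.categoryStruct_comp_base, hρb, hα]
          exact congrArg (fun z => z.left) hwa
        · simp only [Category.assoc, F]
          rw [bcLift_homLift, reassoc_of% hαF, ← bcLift_homLift, reassoc_of% hρ]
          exact hπ
      have hc : βt.1.hom ≫ α.1.hom = α.1.hom ≫ βt.1.hom := by
        rw [← mul_hom, ← mul_hom, hcα.eq]
      calc π₁ ≫ β.1.hom ≫ F = ρ ≫ βt.1.hom ≫ ThetaGrp.bcLift A _ t ≫ F := by
            rw [← hρ, Category.assoc, ← reassoc_of% hβbc]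
        _ = ρ ≫ α.1.hom ≫ βt.1.hom ≫ ThetaGrp.bcLift A _ t ≫ F := by
            simp only [F, bcLift_homLift]
            rw [← reassoc_of% hc, reassoc_of% hαF]
        _ = π₂ ≫ β.1.hom ≫ F := by
            rw [← hπ₂, Category.assoc, Category.assoc, ← reassoc_of% hβbc]
    obtain ⟨ψ, hψb, hψ⟩ := exists_descend F hinvM hinvM (β.1.hom ≫ F) _ hhor hinv
    haveI : IsIso β.1.hom.fiber := ThetaLib.isIso_fiber β.1
    haveI hF : IsIso ((ThetaGrp.modPF.map F.base.op.toLoc).toFunctor.map ψ.fiber) := by
      have h1 : IsIso (F ≫ ψ).fiber := by rw [hψ]; exact isIso_comp_fiber _ _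
      rw [CoGrothendieck.categoryStruct_comp_fiber] at h1
      haveI := h1
      haveI := ((Cat.Hom.toNatIso (ThetaGrp.modPF.mapComp ψ.base.op.toLoc F.base.op.toLoc)).symm.app
        (ThetaGrp.thetaObj B M T).fiber).isIso_hom
      exact @IsIso.of_isIso_comp_right _ _ _ _ _ _ _ this
        (@IsIso.of_isIso_comp_left _ _ _ _ _ F.fiber _ inferInstance h1)
    haveI : IsIso ψ.fiber := @Desc19b.QFpqc.isIso_of_isIso_pullback _ _ F.base _ _ _ _ ψ.fiber hF
    haveI : IsIso ψ.base := by rw [hψb]; exact Functor.map_isIso (Over.forget _) (ThetaGrp.transl B (x ≫ f))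
    haveI := ThetaLib.isIso_of_base_fiber ψ
    have hψpt : ∃ b : ThetaGrp.thetaPts B M T, ThetaGrp.IsOverPt b (x ≫ f) := ⟨⟨asIso ψ, x ≫ f, hψb⟩, hψb⟩
    exact (KLLib.factors_iff hKM hM _).2 ⟨1, (exists_overPt_iff hM _).1 hψpt⟩
  · rintro ⟨y, hy⟩ T' t n
    obtain ⟨βt, hβt, -⟩ := hG.exists_bc T' (t ≫ g)
    obtain ⟨γn, hγn, -⟩ := hG.exists_bc T' (n ≫ j)
    have hover' : ThetaGrp.IsOverPt βt (t ≫ x) := by
      rw [← hgx, ← Category.assoc]
      exact isOverPt_baseChange hβt hπu
    have haf : (n ≫ i) ≫ f = 1 := by rw [Category.assoc, hif, MonObj.comp_one]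
    obtain ⟨m, hm⟩ := (KLLib.factors_iff hKM hM ((t ≫ x) ≫ f)).1
      ⟨t ≫ y, by rw [Category.assoc, hy, Category.assoc]⟩
    obtain rfl : m = 1 := by
      have e := KLLib.eq_pull ((exists_overPt_iff hL (t ≫ x)).1 ⟨βt, hover'⟩)
      rw [KLLib.eq_pull hm, e, Over.comp_left _ _ _ (t ≫ x) f, ← PicM.pull_pull, PicM.pull_of f.left hM]
    obtain ⟨b, hb⟩ := (exists_overPt_iff hM _).2 hm
    obtain ⟨β', hβ', hβ'F⟩ := exists_pullPt f M hb
    obtain ⟨α, hα, hαF⟩ := exists_canonical f M haf
    have hc : Commute β' α := by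
      refine pts_hom_ext (hom_ext_of_fiber (homLift f M T') ?_ ?_)
      · have h1 := isOverPt_mul hβ' hα
        have h2 := isOverPt_mul hα hβ'
        rw [mul_comm] at h1
        exact h1.trans h2.symm
      · rw [mul_hom, mul_hom, Category.assoc, Category.assoc, hβ'F, reassoc_of% hαF, hαF]
        exact hβ'F.symm
    have hc2 : Commute βt γn :=
      commute_of_overPt hL hα (hover T' n γn hγn)
        (commute_of_overPt hL hβ' hover' hc.symm).symm
    have hp1 := hG.mul T' _ _ _ _ hβt hγn
    have hp2 := hG.mul T' _ _ _ _ hγn hβt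
    rw [hc2.eq] at hp1
    exact (hG.univ T' _).unique hp1 hp2

end Groth.Agent.S19956
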