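import Groth.Statements.S19957
import Groth.Agent.Stk19b.GrpdSplit.Loops
open Groth.Agent

set_option autoImplicit false
universe u
open CategoryTheory CategoryTheory.Limits AlgebraicGeometry
open Grpd

set_option backward.isDefEq.respectTransparency.types false
set_option backward.isDefEq.respectTransparency false

namespace Groth.Agent.S19957


/-- Let (U, R, s, t, c) be a groupoid scheme over S with U affine and s, t separated, flat and locally
of finite presentation, and let u ∈ U be a point such that the set of points of the stabilizer G → U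
(the base change of j = (t, s) : R → U ×_S U along the diagonal of U) lying over u is finite and s
is quasi-finite at the image in R of each of these points. Then there exist an etale morphism U' → U
with U' affine and a point u' of U' lying over u with trivial residue field extension κ(u) = κ(u'),
such that the restriction R' of R to U' (the groupoid scheme on U' whose arrows form the base change
of j along U' ×_S U' → U ×_S U) is split over u': there is an open subscheme P ⊂ R' which is a
subgroupoid (the identity of U', the inverse of P and the composition of composable pairs of P land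
in P), with s'|_P and t'|_P finite, and containing the image in R' of every point of the stabilizer
G' → U' of R' lying over u'. -/
theorem result (S : Scheme.{u}) (G : Grpd.GroupoidScheme S) [IsAffine G.U]
    [IsSeparated G.s] [IsSeparated G.t] [Flat G.s] [Flat G.t]
    [LocallyOfFinitePresentation G.s] [LocallyOfFinitePresentation G.t]
    (u : ↥G.U) (hfin : Set.Finite {g : ↥G.stabilizer | G.stabilizerToU g = u})
    (hqf : ∀ g : ↥G.stabilizer, G.stabilizerToU g = u →
      Dual3.QuasiFiniteAt G.s ((pullback.fst G.j G.diag : G.stabilizer ⟶ G.R) g)) :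
    ∃ (G' : Grpd.GroupoidScheme S) (φ : Grpd.GroupoidScheme.Hom G' G) (u' : ↥G'.U),
      IsAffine G'.U ∧ Etale φ.fU ∧ φ.fU u' = u ∧ IsIso (φ.fU.residueFieldMap u') ∧
      IsPullback φ.fR G'.j G.j
        (pullback.map G'.pU G'.pU G.pU G.pU φ.fU φ.fU (𝟙 S)
          ((Category.comp_id _).trans φ.fU_over.symm) ((Category.comp_id _).trans φ.fU_over.symm)) ∧
      ∃ (P : Scheme.{u}) (ιP : P ⟶ G'.R), IsOpenImmersion ιP ∧
        (∃ eP : G'.U ⟶ P, eP ≫ ιP = G'.e) ∧ (∃ iP : P ⟶ P, iP ≫ ιP = ιP ≫ G'.i) ∧
        (∃ cP : pullback (ιP ≫ G'.s) (ιP ≫ G'.t) ⟶ P,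
          cP ≫ ιP = pullback.map (ιP ≫ G'.s) (ιP ≫ G'.t) G'.s G'.t ιP ιP (𝟙 G'.U)
            (Category.comp_id _) (Category.comp_id _) ≫ G'.c) ∧
        IsFinite (ιP ≫ G'.s) ∧ IsFinite (ιP ≫ G'.t) ∧
        ∀ g' : ↥G'.stabilizer, G'.stabilizerToU g' = u' →
          ∃ p : ↥P, ιP p = (pullback.fst G'.j G'.diag : G'.stabilizer ⟶ G'.R) g' := by
  obtain ⟨G', φ, u', h1, h2, h3, h4, h5, P, ιP, h6, h7, h8, h9, h10, h11, h12⟩ :=
    Stk19b.GrpdSplit.exists_split_of_loops G u (GrpdLib.stabArrow G '' {g | G.stabilizerToU g = u}) (hfin.image _)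
      (fun r ⟨g, hg, e⟩ => by rw [← e, ← Scheme.Hom.comp_apply, GrpdLib.stabArrow_s]; exact hg)
      (fun r ⟨g, hg, e⟩ => by rw [← e, ← Scheme.Hom.comp_apply, GrpdLib.stabArrow_t]; exact hg)
      (fun r ⟨g, hg, e⟩ => e ▸ hqf g hg)
      (Stk19b.GrpdSplit.mem_range_stabArrow G G.e (by rw [G.e_t, G.e_s]) u u
        (by rw [← Scheme.Hom.comp_apply, G.e_t]; rfl))
      (fun L _ α β h hα hβ x => Stk19b.GrpdSplit.div_stab G u α β h hα hβ x)
  refine ⟨G', φ, u', h1, h2, h3, h4, h5, P, ιP, h6, h7, h8, h9, h10, h11, fun g' hg => ?_⟩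
  have ht : G'.t ((GrpdLib.stabArrow G') g') = u' := by
    rw [← Scheme.Hom.comp_apply, GrpdLib.stabArrow_t]; exact hg
  have hs : G'.s ((GrpdLib.stabArrow G') g') = u' := by
    rw [← Scheme.Hom.comp_apply, GrpdLib.stabArrow_s]; exact hg
  refine h12 _ hs ht (Stk19b.GrpdSplit.mem_range_stabArrow G (GrpdLib.stabArrow G' ≫ φ.fR) ?_ g' u ?_)
  · rw [Category.assoc, φ.comm_t, Category.assoc, φ.comm_s, reassoc_of% (GrpdLib.stabArrow_t G'),
      reassoc_of% (GrpdLib.stabArrow_s G')]
  · rw [← Scheme.Hom.comp_apply, Category.assoc, φ.comm_t, reassoc_of% (GrpdLib.stabArrow_t G'),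
      Scheme.Hom.comp_apply, show G'.stabilizerToU g' = u' from hg, h3]

end Groth.Agent.S19957
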