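import Groth.Statements.S19963
import Mathlib
import Groth.Agent.CommAlg4.IdemSim
import Groth.Agent.CommAlg4.Horrocks
import Groth.Agent.CommAlg4.P1Bundle

set_option linter.all false

set_option autoImplicit false
open Polynomial TensorProduct
universe u
open CAlg

open Polynomial TensorProduct

namespace Groth.Agent.S19963

open Groth.Agent.CommAlg4.IdemSim Groth.Agent.CommAlg4.Horrocks in
theorem sim_of_monicLocalization {A : Type u} [CommRing A] (M : Submonoid A[X])
    (hM : ∀ f : A[X], f ∈ M ↔ f.Monic) {At : Type u} [CommRing At] [Algebra A[X] At]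
    [IsLocalization M At] {k l : ℕ} {e : Matrix (Fin k) (Fin k) A} {e' : Matrix (Fin l) (Fin l) A}
    (he : e * e = e) (he' : e' * e' = e')
    (x : Matrix (Fin k) (Fin l) At) (y : Matrix (Fin l) (Fin k) At)
    (hxy : x * y = (e.map C).map (algebraMap A[X] At))
    (hyx : y * x = (e'.map C).map (algebraMap A[X] At)) : Sim e e' := by
  have hcl := clears_of_isLocalization (S := At) M
  obtain ⟨f₁, hf₁, x', hx'⟩ := hcl.exists_matrix x
  obtain ⟨f₂, hf₂, y', hy'⟩ := hcl.exists_matrix y
  have h1 : (x' * y' - (f₁ * f₂) • e.map C).map (algebraMap A[X] At) = 0 := by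
    rw [Matrix.map_sub _ (map_sub _), Matrix.map_mul, hx', hy', map_smul_ringHom, map_mul,
      Matrix.smul_mul, Matrix.mul_smul, smul_smul, hxy, sub_self]
  have h2 : (y' * x' - (f₁ * f₂) • e'.map C).map (algebraMap A[X] At) = 0 := by
    rw [Matrix.map_sub _ (map_sub _), Matrix.map_mul, hx', hy', map_smul_ringHom, map_mul,
      Matrix.smul_mul, Matrix.mul_smul, smul_smul, mul_comm (algebraMap A[X] At f₂), hyx, sub_self]
  obtain ⟨a₁, ha₁, hk₁⟩ := hcl.exists_kill _ h1
  obtain ⟨a₂, ha₂, hk₂⟩ := hcl.exists_kill _ h2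
  rw [smul_sub, sub_eq_zero, smul_smul] at hk₁ hk₂
  set g := a₁ * a₂ * (f₁ * f₂) with hg
  have hgmonic : g.Monic := (hM g).mp (M.mul_mem (M.mul_mem ha₁ ha₂) (M.mul_mem hf₁ hf₂))
  set α := (a₁ * a₂) • y' with hα
  have e1 : α * x' = g • e'.map C := by
    rw [hα, Matrix.smul_mul, mul_smul, hk₂, smul_smul, hg, mul_assoc]
  have e2 : x' * α = g • e.map C := by
    rw [hα, Matrix.mul_smul, mul_comm a₁ a₂, mul_smul, hk₁, smul_smul, hg]
    congr 1; ring
  set D := g.natDegree + (∑ i, ∑ j, ((α i j).natDegree + (x' j i).natDegree)) with hD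
  have hle : ∀ i j, (α i j).natDegree ≤ D ∧ (x' j i).natDegree ≤ D := fun i j => by
    have := le_trans (Finset.single_le_sum (f := fun j => (α i j).natDegree + (x' j i).natDegree)
      (fun _ _ => Nat.zero_le _) (Finset.mem_univ j))
      (Finset.single_le_sum (f := fun i => ∑ j, ((α i j).natDegree + (x' j i).natDegree))
        (fun _ _ => Nat.zero_le _) (Finset.mem_univ i))
    constructor <;> lia
  choose αr hαr _ _ using fun ij : Fin l × Fin k => exists_reflect (α ij.1 ij.2) D (hle ij.1 ij.2).1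
  choose xr hxr _ _ using fun ij : Fin k × Fin l => exists_reflect (x' ij.1 ij.2) D (hle ij.2 ij.1).2
  obtain ⟨c, hc, hc0⟩ : ∃ c : A[X], pos c = LaurentPolynomial.T (g.natDegree : ℤ) * neg g ∧
      c.coeff 0 = 1 := by
    rcases Nat.eq_zero_or_pos g.natDegree with h0 | h0
    · refine ⟨1, ?_, by simp⟩
      rw [hgmonic.natDegree_eq_zero.mp h0]
      simp
    · obtain ⟨p, hp, -, -⟩ := exists_reflect g.eraseLead (g.natDegree - 1)
        (eraseLead_natDegree_le g)
      refine ⟨1 + X * p, ?_, by simp⟩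
      conv_rhs => arg 2; rw [← eraseLead_add_C_mul_X_pow g, hgmonic.leadingCoeff, map_one, one_mul]
      rw [map_add, map_one, map_mul, hp, pos_X, ← mul_assoc, ← LaurentPolynomial.T_add,
        map_add, mul_add, neg_X_pow, ← LaurentPolynomial.T_add, add_neg_cancel,
        LaurentPolynomial.T_zero, show (1 : ℤ) + ((g.natDegree - 1 : ℕ) : ℤ) = g.natDegree by lia,
        add_comm]
  obtain ⟨J, hJ⟩ : ∃ J : ℕ, (J : ℤ) = (D : ℤ) + D - g.natDegree := ⟨D + D - g.natDegree, by lia⟩
  have conv : ∀ {p q : ℕ} (P : Matrix (Fin p) (Fin q) A[X]) (Q : Matrix (Fin q) (Fin p) A[X])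
      (P' : Matrix (Fin p) (Fin q) A[X]) (Q' : Matrix (Fin q) (Fin p) A[X])
      (e : Matrix (Fin p) (Fin p) A),
      P'.map (pos (A := A)) = (LaurentPolynomial.T (D : ℤ) : LaurentPolynomial A) • P.map (neg (A := A)) →
      Q'.map (pos (A := A)) = (LaurentPolynomial.T (D : ℤ) : LaurentPolynomial A) • Q.map (neg (A := A)) →
      P * Q = g • e.map C → P' * Q' = (c * X ^ J) • e.map C := by
    intro p q P Q P' Q' e hP hQ h
    refine Matrix.map_injective pos_injective ?_
    show (P' * Q').map pos = ((c * X ^ J) • e.map C).map pos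
    rw [Matrix.map_mul, hP, hQ, Matrix.smul_mul, Matrix.mul_smul, smul_smul, ← Matrix.map_mul, h,
      map_smul_ringHom, map_smul_ringHom, smul_smul, map_mul pos c, hc, pos_X_pow,
      ← LaurentPolynomial.T_add, mul_right_comm, ← LaurentPolynomial.T_add, hJ,
      show (g.natDegree : ℤ) + ((D : ℤ) + D - g.natDegree) = (D : ℤ) + D by ring]
    congr 1
    exact Matrix.ext fun r s => by simp
  have hA : (Matrix.of fun i j => αr (i, j) : Matrix (Fin l) (Fin k) A[X]).map (pos (A := A)) =
      (LaurentPolynomial.T (D : ℤ) : LaurentPolynomial A) • α.map (neg (A := A)) :=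
    Matrix.ext fun i j => hαr (i, j)
  have hX : (Matrix.of fun i j => xr (i, j) : Matrix (Fin k) (Fin l) A[X]).map (pos (A := A)) =
      (LaurentPolynomial.T (D : ℤ) : LaurentPolynomial A) • x'.map (neg (A := A)) :=
    Matrix.ext fun i j => hxr (i, j)
  exact sim_of_glue he he' _ _ c hc0 J (conv _ _ _ _ e hX hA e2) (conv _ _ _ _ e' hA hX e1)

/-- Let A be a commutative ring and let A(t) denote the localization of the polynomial ring A[t] at the
multiplicative subset of monic polynomials, viewed as an A-algebra. If P and P' are finitely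
generated projective A-modules such that A(t) ⊗_A P and A(t) ⊗_A P' are isomorphic A(t)-modules,
then P and P' are isomorphic A-modules: non-isomorphic finite projective modules stay non-isomorphic
over A(t). (The published statement also covers base change to the ring A((t)) of Laurent power
series, and modules over A(t) itself; only the A(t) assertion for modules over A is stated.) -/
theorem result
    (A : Type u) [CommRing A] (M : Submonoid A[X]) (hM : ∀ f : A[X], f ∈ M ↔ f.Monic)
    (At : Type u) [CommRing At] [Algebra A[X] At] [IsLocalization M At]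
    [Algebra A At] [IsScalarTower A A[X] At]
    (P P' : Type u) [AddCommGroup P] [Module A P] [Module.Finite A P] [Module.Projective A P]
    [AddCommGroup P'] [Module A P'] [Module.Finite A P'] [Module.Projective A P']
    (h : Nonempty ((At ⊗[A] P) ≃ₗ[At] (At ⊗[A] P'))) :
    Nonempty (P ≃ₗ[A] P') := by
  classical
  obtain ⟨φ⟩ := h
  obtain ⟨k, i, p, hpi⟩ := Groth.Agent.CommAlg4.IdemSim.exists_retract A P
  obtain ⟨l, i', p', hpi'⟩ := Groth.Agent.CommAlg4.IdemSim.exists_retract A P'
  obtain ⟨iS, pS, hS, hSE⟩ :=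
    Groth.Agent.CommAlg4.Horrocks.exists_retract_baseChange (S := At) i p hpi
  obtain ⟨iS', pS', hS', hSE'⟩ :=
    Groth.Agent.CommAlg4.Horrocks.exists_retract_baseChange (S := At) i' p' hpi'
  obtain ⟨x, y, hxy, hyx⟩ :=
    Groth.Agent.CommAlg4.IdemSim.sim_of_linearEquiv iS pS hS iS' pS' hS' φ
  refine Groth.Agent.CommAlg4.IdemSim.nonempty_linearEquiv_of_sim i p hpi i' p' hpi' ?_
  refine sim_of_monicLocalization M hM (Groth.Agent.CommAlg4.IdemSim.retract_idem i p hpi)
    (Groth.Agent.CommAlg4.IdemSim.retract_idem i' p' hpi') x y ?_ ?_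
  · rw [hxy, hSE, IsScalarTower.algebraMap_eq A A[X] At]; rfl
  · rw [hyx, hSE', IsScalarTower.algebraMap_eq A A[X] At]; rfl

end Groth.Agent.S19963
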