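import Groth.Statements.S19965

set_option autoImplicit false
universe u
open CategoryTheory MonoidalCategory CartesianMonoidalCategory MonObj AlgebraicGeometry
open ChGrp

namespace Groth.Agent.S19965

theorem aux {E A B U : Scheme.{u}} (P : MorphismProperty Scheme.{u}) [P.IsStableUnderBaseChange]
    {a b : E ⟶ A} {f : A ⟶ B} (sq' : IsPullback a b f f) (ha : P a) (s : U ⟶ A) :
    P (Limits.pullback.snd f (s ≫ f)) := by
  have hcond : (Limits.pullback.snd f (s ≫ f) ≫ s) ≫ f = Limits.pullback.fst f (s ≫ f) ≫ f := by
    rw [Category.assoc]; exact Limits.pullback.condition.symm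
  have h1 := sq'.lift_fst _ _ hcond
  have h2 := sq'.lift_snd _ _ hcond
  have outer : IsPullback (sq'.lift _ _ hcond ≫ b) (Limits.pullback.snd f (s ≫ f)) f (s ≫ f) := by
    rw [h2]; exact IsPullback.of_hasPullback _ _
  exact MorphismProperty.of_isPullback (P := P) (IsPullback.of_right outer h1 sq'.flip) ha

/-- In the case of group schemes with the quotient given as a scheme, let S be a scheme, G a group
scheme over S, i : H → G a homomorphism from a group scheme H, and let the S-scheme Q with its
G-action and base point q₀ be the quotient G/H for the fppf topology: i is a homomorphism, the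
square exhibiting G ×_S H as G ×_Q G through (g, h) ↦ (g, g·i(h)) and the orbit map of q₀ is
cartesian, and the orbit map G → Q acquires sections on the members of an fppf covering family of Q.
Let P be a property of morphisms of schemes which is stable under base change and local on the
target for the fppf topology. If H → S has P, then the orbit map G → Q has P. (In the source G and H
are group algebraic spaces, H is flat and locally of finite presentation over S so that G/H exists
as an algebraic space, and P is a property of morphisms of algebraic spaces; here all three are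
schemes, the quotient is part of the data, and flatness of H plays no part.) -/
theorem result (S : Scheme.{u})
    (G H : Over S) [GrpObj G] [GrpObj H] (i : H ⟶ G)
    (Q : Over S) (aQ : AlgGrp.Action G Q) (q₀ : 𝟙_ (Over S) ⟶ Q)
    (hQ : ChGrp.IsHomog Scheme.fppfPrecoverage i aQ q₀)
    (P : MorphismProperty Scheme.{u}) [P.IsStableUnderBaseChange]
    [P.IsLocalAtTarget Scheme.fppfPrecoverage]
    (hP : P H.hom) : P (aQ.orbitMap q₀).left := by
  obtain ⟨hmon, sq, R, hR, hsec⟩ := hQ
  have hfst : P (fst G H).left := by
    rw [Over.fst_left]
    exact P.pullback_fst _ _ hP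
  have sq' : IsPullback (fst G H).left ((G ◁ i) ≫ μ[G]).left (aQ.orbitMap q₀).left
      (aQ.orbitMap q₀).left := sq.map (Over.forget S)
  refine MorphismProperty.IsLocalAtTarget.of_forall_pullbackSnd hR ?_
  intro U g _ hg
  obtain ⟨s, hs⟩ := hsec g hg
  change s ≫ (aQ.orbitMap q₀).left = g at hs
  subst hs
  exact aux P sq' hfst s

end Groth.Agent.S19965
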