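import Groth.Statements.S19967
import Mathlib.AlgebraicGeometry.Morphisms.SchemeTheoreticallyDominant
import Mathlib.AlgebraicGeometry.Noetherian
import Mathlib.AlgebraicGeometry.Morphisms.ClosedImmersion

set_option autoImplicit false
universe u
open CategoryTheory CategoryTheory.Limits AlgebraicGeometry
open FlatMor

namespace Groth.Agent.S19967

/-- Let f : S' → S be a flat morphism of locally Noetherian schemes, i : C → S and i' : C' → S' closed
immersions with C and C' integral, and g : C' → C with g ≫ i = i' ≫ f. Let φ : C' → C ×_S S' be the
induced morphism and η ∈ S the image of the generic point of C. If φ becomes an isomorphism after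
base change along the canonical morphism Spec O_{S,η} → S (that is, after pulling back to (C ×_S S')
×_S Spec O_{S,η}), then φ is an isomorphism. (In the source S and S' are excellent surfaces over an
algebraically closed field, C and C' regular curves not inside the singular loci, and the
isomorphism over Spec O_{S,η} is part of the definition of a morphism of surface-curve pairs; those
extra hypotheses play no part.) -/
theorem result
    {S S' C C' : Scheme.{u}} [IsLocallyNoetherian S] [IsLocallyNoetherian S']
    (f : S' ⟶ S) [Flat f] (i : C ⟶ S) [IsClosedImmersion i] [IsIntegral C]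
    (i' : C' ⟶ S') [IsClosedImmersion i'] [IsIntegral C']
    (g : C' ⟶ C) (hsq : g ≫ i = i' ≫ f)
    (hgen : IsIso (pullback.snd (pullback.lift g i' hsq)
      (pullback.fst (pullback.fst i f ≫ i) (S.fromSpecStalk (i.base (genericPoint C)))))) :
    IsIso (pullback.lift g i' hsq) := by
  let φ := pullback.lift g i' hsq
  let pr := pullback.fst i f
  have : IsClosedImmersion φ := by
    have : IsClosedImmersion (φ ≫ pullback.snd i f) := by rw [pullback.lift_snd]; infer_instance
    exact IsClosedImmersion.of_comp φ (pullback.snd i f)
  let η := genericPoint C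
  have : IsLocallyNoetherian C := LocallyOfFiniteType.isLocallyNoetherian i
  let e := C.fromSpecStalk η
  have : IsDominant e := ⟨by
    show Dense (Set.range e)
    rw [dense_iff_closure_eq]
    refine Set.univ_subset_iff.1 ((genericPoint_closure C).symm.le.trans (closure_mono ?_))
    rw [Set.singleton_subset_iff]
    exact ⟨_, Scheme.fromSpecStalk_closedPoint⟩⟩
  have : IsSchemeTheoreticallyDominant e := IsSchemeTheoreticallyDominant.of_isDominant e
  have : QuasiCompact e := inferInstance
  have : Flat pr := inferInstance
  let q := pullback.fst pr e
  have : IsSchemeTheoreticallyDominant q := inferInstance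
  have hw : q ≫ pr ≫ i = (pullback.snd pr e ≫ Spec.map (i.stalkMap η)) ≫ S.fromSpecStalk (i η) := by
    rw [Category.assoc, Scheme.SpecMap_stalkMap_fromSpecStalk, pullback.condition_assoc]
  let m := pullback.lift q (pullback.snd pr e ≫ Spec.map (i.stalkMap η)) hw
  let ψ := pullback.snd φ (pullback.fst (pr ≫ i) (S.fromSpecStalk (i η)))
  have : IsIso ψ := hgen
  have hq : (m ≫ inv ψ ≫ pullback.fst φ _) ≫ φ = q := by
    rw [Category.assoc, Category.assoc]
    refine (congrArg (fun t => m ≫ inv ψ ≫ t) pullback.condition).trans ?_
    show m ≫ inv ψ ≫ ψ ≫ _ = q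
    rw [IsIso.inv_hom_id_assoc]
    exact pullback.lift_fst _ _ _
  refine IsClosedImmersion.isIso_iff_ker_eq_bot.2 ?_
  rw [eq_bot_iff, ← q.ker_eq_bot, ← hq]
  exact Scheme.Hom.le_ker_comp _ _

end Groth.Agent.S19967
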