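import Groth.Statements.S19968
import Groth.Agent.AmpleLib.GenLocus

set_option autoImplicit false
universe u
open CategoryTheory AlgebraicGeometry Opposite
open LinSer

set_option backward.isDefEq.respectTransparency.types false
open TopologicalSpace
open Groth.Agent.Coherent Groth.Agent.PicLib Groth.Agent.AmpleLib

namespace Groth.Agent.S19968

/-- Rational points impose at most one condition each on a complete linear system. Let k be a field, X a
scheme over k, L an invertible O_X-module, and p_1, …, p_n morphisms Spec k → X over k (k-rational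
points). Suppose there are n + 1 global sections of L, given as morphisms t_0, …, t_n : O_X → L,
whose values in Γ(X, L) are linearly independent over k. Then there is a nonzero morphism s : O_X →
L such that no p_i lands in the open X_s where s generates L; that is, s vanishes at every p_i and
the p_i lie on a common member of the complete linear system of L. (The source has X an irreducible
projective variety over the complex numbers, L base-point-free and the points closed, and phrases
this as surjectivity of the incidence correspondence onto X^n for n at most the dimension of the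
linear system; only rationality of the points and the dimension count are used, and
base-point-freeness plays no part in this item.) -/
theorem result
    (k : Type u) [Field k] (X : Scheme.{u}) [X.Over (Spec (CommRingCat.of k))]
    (L : X.Modules) (hL : PicF.IsInvertible L)
    (n : ℕ) (p : Fin n → (Spec (CommRingCat.of k) ⟶ X))
    (hp : ∀ i, p i ≫ (X ↘ Spec (CommRingCat.of k)) = 𝟙 _)
    (t : Fin (n + 1) → (Coh.structureModule X ⟶ L))
    (ht : LinSer.LinIndep k X L (fun j => (L.unitHomEquiv (t j)).val (op ⊤))) :
    ∃ s : Coh.structureModule X ⟶ L, s ≠ 0 ∧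
      ∀ i, (p i) (IsLocalRing.closedPoint k) ∉ CohB1.genLocus L s := by
  classical
  let K := Spec (CommRingCat.of k)
  let a : Fin (n + 1) → Γ(L, ⊤) := fun j => unitVal (t j) ⊤
  have ha : ∀ j, (L.unitHomEquiv (t j)).val (op ⊤) = a j := fun j =>
    SheafOfModules.unitHomEquiv_apply_coe L (t j) (op ⊤)
  let ψ : k →+* Γ(K, ⊤) := (Scheme.ΓSpecIso (CommRingCat.of k)).inv.hom
  have hψ : Function.Bijective ψ := ConcreteCategory.bijective_of_isIso _
  have hpt : ∀ (U : K.Opens) (x : K), x ∈ U → U = ⊤ := fun U x hx => top_le_iff.1 fun y _ =>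
    (Subsingleton.elim x y : x = y) ▸ hx
  have hval : ∀ i j, ∃ v : k, ∀ g : Γ((Scheme.Modules.pullback (p i)).obj L, ⊤),
      IsGen _ ⊤ g → ∃ r : k, ψ r • g = PicLib.pullSec (p i) (a j) := fun i j => ⟨0, fun g hg => by
    obtain ⟨c, hc⟩ := (hg ⊤ le_rfl).2 (PicLib.pullSec (p i) (a j))
    obtain ⟨r, rfl⟩ := hψ.2 c
    exact ⟨r, (congrArg _ (resM_self _ _ g).symm).trans hc⟩⟩
  have hgen : ∀ i, ∃ g : Γ((Scheme.Modules.pullback (p i)).obj L, ⊤), IsGen _ ⊤ g := fun i => by
    obtain ⟨U, hx, g, hg⟩ := exists_isGen (PicLoc.isInvertible_pullback (p i) hL) (IsLocalRing.closedPoint k)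
    obtain rfl := hpt U _ hx
    exact ⟨g, hg⟩
  choose g hg using hgen
  choose v hv using fun i j => (hval i j).choose_spec (g i) (hg i)
  have hdep : ¬ LinearIndependent k (fun j => (fun i => v i j : Fin n → k)) := fun h => by
    have := h.fintype_card_le_finrank
    simp at this
  obtain ⟨c, hc, j₀, hj₀⟩ := Fintype.not_linearIndependent_iff.1 hdep
  let b : Γ(L, ⊤) := ∑ j, (show Γ(X, ⊤) from Coh.toGlobal (X ↘ Spec (CommRingCat.of k)) (c j)) • a j
  refine ⟨unitDesc L b, fun h0 => hj₀ ?_, fun i hi => ?_⟩
  · have hb : b = 0 := by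
      have h := unitVal_unitDesc L b ⊤
      rw [h0, resM_self] at h
      exact h.symm.trans (by first | rfl | simp [unitVal])
    refine congrFun (ht c ?_) j₀
    simp only [ha]
    exact hb
  · have hz : PicLib.pullSec (p i) b = 0 := by
      have hψc : ∀ r : k, (p i).app ⊤ (Coh.toGlobal (X ↘ Spec (CommRingCat.of k)) r) = ψ r := fun r => by
        show ((X ↘ Spec (CommRingCat.of k)).appTop ≫ (p i).appTop) (ψ r) = _
        rw [← Scheme.Hom.comp_appTop, hp i]
        rfl
      let P : Fin (n + 1) → Γ((Scheme.Modules.pullback (p i)).obj L, ⊤) := fun j => PicLib.pullSec (p i) (a j)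
      have h1 : PicLib.pullSec (p i) b = ∑ j, ψ (c j) • P j := by
        refine (map_sum (((Scheme.Modules.pullbackPushforwardAdjunction (p i)).unit.app L).app ⊤).hom _ _).trans ?_
        refine Finset.sum_congr rfl fun j _ => ?_
        exact (PicLib.pullSec_smul (p i) _ _).trans (congrArg (· • _) (hψc (c j)))
      rw [h1]
      have h2 : (∑ j, c j * v i j) = 0 := by simpa using congrFun hc i
      calc ∑ j, ψ (c j) • P j = ψ (∑ j, c j * v i j) • g i := by
            rw [map_sum, Finset.sum_smul]
            exact Finset.sum_congr rfl fun j _ => by rw [show P j = ψ (v i j) • g i from (hv i j).symm, map_mul, mul_smul]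
        _ = 0 := by rw [h2, map_zero, zero_smul]
    have hmem : IsLocalRing.closedPoint k ∈ glocus _ (PicLib.pullSec (p i) b) :=
      (glocus_pullSec (p i) hL b).ge hi
    have htop := hpt _ _ hmem
    have hg' := (le_glocus_iff _ _).1 (htop.ge)
    rw [hz] at hg'
    have := (hg' ⊤ le_rfl).1 (a₁ := ψ 1) (a₂ := ψ 0) (by simp [resM] <;> rfl)
    exact one_ne_zero (hψ.1 this)

end Groth.Agent.S19968
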