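import Groth.Statements.S1997
import Groth.Agent.HenselLib.WeakDim
import Mathlib.Algebra.Category.Ring.Epi

set_option autoImplicit false
universe u
open CategoryTheory
open EtAlg

namespace Groth.Agent.S1997

/-- Let A be a ring all of whose ideals are flat (weak dimension at most one) and A -> B a flat,
injective ring map which is an epimorphism in the category of commutative rings. Then A is
integrally closed in B. -/
theorem result (A B : Type u) [CommRing A] [CommRing B] [Algebra A B]
    (hA : ∀ I : Ideal A, Module.Flat A I) [Module.Flat A B] (hinj : Function.Injective (algebraMap A B))
    (hepi : Epi (CommRingCat.ofHom (algebraMap A B))) : IsIntegrallyClosedIn A B := by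
  haveI := CommRingCat.epi_iff_epi.mp hepi
  exact HenselLib.WeakDim.isIntegrallyClosedIn hA hinj

end Groth.Agent.S1997
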