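import Groth.Statements.S19971
import Groth.Agent.S7788
import Groth.Agent.AbSchLib.ConnectedFibres
import Groth.Agent.SGA3cLib.NeutralDimCons
import Groth.Agent.FlatMor12.FibreFlat
-- import your own Groth.Agent.* helpers here

set_option autoImplicit false
set_option linter.style.haveILetI false
set_option backward.isDefEq.respectTransparency.types false
universe u
open CategoryTheory CategoryTheory.Limits MonoidalCategory CartesianMonoidalCategory MonObj AlgebraicGeometry
open AbSch

namespace Groth.Agent.S19971

open CategoryTheory CategoryTheory.Limits MonObj AlgebraicGeometry in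
open Groth.Agent in
/-- Let S be a scheme and A, B, C abelian S-schemes (commutative S-group schemes which are smooth and
proper over S with connected fibres). Then the group of morphisms from A to the S-sheaf of
extensions of B by C is torsion-free: on the big fppf site of S, if φ is a morphism of abelian
sheaves from the sheaf of points of A to the first Ext sheaf from the sheaf of points of B with
values in the sheaf of points of C, and n · φ = 0 for some nonzero integer n, then φ = 0. -/
theorem result {S : Scheme.{u}} (A B C : Over S)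
    [GrpObj A] [IsCommMonObj A] [Smooth A.hom] [IsProper A.hom]
    (hA : ∀ s : S, ConnectedSpace ↥(A.hom.fiber s))
    [GrpObj B] [IsCommMonObj B] [Smooth B.hom] [IsProper B.hom]
    (hB : ∀ s : S, ConnectedSpace ↥(B.hom.fiber s))
    [GrpObj C] [IsCommMonObj C] [Smooth C.hom] [IsProper C.hom]
    (hC : ∀ s : S, ConnectedSpace ↥(C.hom.fiber s))
    (φ : (CGrpSh.pts Scheme.fppfPrecoverage A) ⟶ (HomSh.extSh (QuotSh.J Scheme.fppfPrecoverage S) (CGrpSh.pts Scheme.fppfPrecoverage B) 1).obj (CGrpSh.pts Scheme.fppfPrecoverage C))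
    (n : ℤ) (hn : n ≠ 0) (h : n • φ = 0) : φ = 0 := by
  haveI : GeometricallyConnected A.hom := AbSchLib.geometricallyConnected_of_section A.hom η[A].left (Over.w η[A]) hA
  haveI : GeometricallyReduced A.hom := AbSchLib.geometricallyReduced_of_smooth A.hom
  haveI : Flat A.hom := inferInstance
  haveI : LocallyOfFinitePresentation A.hom := inferInstance
  have hdim : ∀ s : S, ∃ m : ℕ, topologicalKrullDim ↥(A.hom.fiber s) = (m : WithBot ℕ∞) := fun s => by
    obtain ⟨m, hm⟩ := SGA3cLib.NeutralDim.exists_dim_eq_nat A s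
    exact ⟨m, ((IsHomeomorph.topologicalKrullDim_eq _ (A.hom.fiberHomeo s).isHomeomorph)).trans hm⟩
  choose g hg using hdim
  obtain ⟨-, hflat, hsurj, -⟩ := S7788.result A g hg n hn
  haveI := hflat
  haveI := hsurj
  haveI : LocallyOfFinitePresentation (𝟙 A ^ n).left := by
    haveI : LocallyOfFinitePresentation ((𝟙 A ^ n).left ≫ A.hom) := by rw [Over.w]; infer_instance
    exact FlatMor12.lfp_of_comp (𝟙 A ^ n).left A.hom
  let F := (HomSh.extSh (QuotSh.J Scheme.fppfPrecoverage S) (CGrpSh.pts Scheme.fppfPrecoverage B) 1).obj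
    (CGrpSh.pts Scheme.fppfPrecoverage C)
  refine Sheaf.hom_ext ?_
  ext T x
  obtain ⟨x⟩ := x
  let a : (Opposite.unop T) ⟶ A := Additive.toMul x
  let T' : Over S := Over.mk (pullback.fst a.left (𝟙 A ^ n).left ≫ (Opposite.unop T).hom)
  let q : T' ⟶ Opposite.unop T := Over.homMk (pullback.fst a.left (𝟙 A ^ n).left) rfl
  let y : T' ⟶ A := Over.homMk (pullback.snd a.left (𝟙 A ^ n).left) (by
    show _ ≫ A.hom = pullback.fst a.left (𝟙 A ^ n).left ≫ (Opposite.unop T).hom
    rw [← Over.w (𝟙 A ^ n), ← Category.assoc, ← pullback.condition, Category.assoc, Over.w a])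
  have hyq : y ^ n = q ≫ a := by
    rw [← Category.comp_id y, ← GrpObj.comp_zpow]
    exact Over.OverMorphism.ext pullback.condition.symm
  have hcov : Sieve.generate (Presieve.singleton q) ∈ (QuotSh.J Scheme.fppfPrecoverage S) (Opposite.unop T) := by
    refine (GrothendieckTopology.mem_over_iff _ _).2 ?_
    rw [Sieve.overEquiv_generate]
    refine GrothendieckTopology.superset_covering _ ((Sieve.generate_le_iff _ _).2 ?_)
      (Precoverage.generate_mem_toGrothendieck (J := Scheme.fppfPrecoverage)
        (R := Presieve.singleton (pullback.fst a.left (𝟙 A ^ n).left)) ?_)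
    · rintro Z h ⟨⟩
      exact ⟨T'.left, 𝟙 _, q.left, ⟨T', q, 𝟙 _, Presieve.singleton_self _, (Category.id_comp _).symm⟩, Category.id_comp _⟩
    · exact (Scheme.singleton_mem_precoverage_iff _ _).2
        ⟨(MorphismProperty.pullback_fst (P := @Surjective) a.left (𝟙 A ^ n).left hsurj).surj, inferInstance, inferInstance⟩
  have h1 : F.obj.map q.op (φ.hom.app T ⟨x⟩) = 0 := by
    rw [← ConcreteCategory.comp_apply, ← φ.hom.naturality q.op, ConcreteCategory.comp_apply]
    have e : (CGrpSh.pts Scheme.fppfPrecoverage A).obj.map q.op ⟨x⟩ =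
        n • (ULift.up (Additive.ofMul y) : ULift.{u + 1} (Additive (T' ⟶ A))) := by
      apply ULift.ext
      apply Additive.toMul.injective
      exact hyq.symm
    rw [e]
    show (ConcreteCategory.hom (φ.hom.app (Opposite.op T'))) _ = 0
    refine ((ConcreteCategory.hom (φ.hom.app (Opposite.op T'))).map_zsmul n (ULift.up (Additive.ofMul y))).trans ?_
    exact congrArg (fun ψ => ψ.hom.app (Opposite.op T') (ULift.up (Additive.ofMul y))) h
  have hF : Presheaf.IsSheaf (QuotSh.J Scheme.fppfPrecoverage S) (F.obj ⋙ forget AddCommGrpCat.{u + 1}) :=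
    (Presheaf.isSheaf_iff_isSheaf_comp _ F.obj (forget AddCommGrpCat.{u + 1})).1 F.2
  have hsep := (((isSheaf_iff_isSheaf_of_type _ _).1 hF).isSheafFor _ hcov).isSeparatedFor
  refine hsep.ext fun Z h hh => ?_
  obtain ⟨Z', g', f, ⟨⟩, rfl⟩ := hh
  show F.obj.map q.op (φ.hom.app T ⟨x⟩) = F.obj.map q.op 0
  rw [h1, map_zero]

end Groth.Agent.S19971
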