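import Groth.Statements.S19972
import Groth.Agent.ResProp20.AffineRep
-- import your own Groth.Agent.* helpers here

set_option autoImplicit false
universe u
open CategoryTheory AlgebraicGeometry
open StMod

namespace Groth.Agent.S19972

/-- Let `S` be an affine scheme and `𝒳` a locally Noetherian algebraic stack over `(Sch/S)` for the fppf
topology which is cohomologically affine over `S`: its structure functor `τ : 𝒳 ⟶ (Sch/S)` is
quasi-compact, quasi-separated and pushforward along it takes surjections of quasi-coherent modules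
to maps surjective on sections over every affine scheme etale over `S`. Let `ξ` be a point of `|𝒳|`
and `𝒢 ⊆ 𝒳` the residual gerbe at `ξ` (the strictly full substack cut out by `Q`: algebraic,
reduced, locally Noetherian, with a single point, mapping to `ξ`), and suppose the inclusion `𝒢 ⟶ 𝒳`
is affine (representable by algebraic spaces with affine base changes). Then `ξ` has linearly
reductive stabilizer, rendered as: the structure functor `σ : 𝒢 ⟶ (Sch/S)` over the affine base is
cohomologically affine and quasi-compact. (The base is taken affine so that cohomological affineness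
of `𝒳` and of `𝒢` can be expressed over it; standing conventions of the source: quasi-separated
schemes and spaces, stacks with quasi-compact separated diagonal.) -/
theorem result
    (S : Scheme.{u}) [IsAffine S]
    (𝒳 : AlgSt.Cat S) (h𝒳 : AlgSt.IsAlgStack Scheme.fppfPrecoverage 𝒳)
    (hN : AlgSt.SmoothLocally (fun T => IsLocallyNoetherian T) 𝒳)
    (τ : 𝒳 ⥤ᵇ AlgSt.ofSch (Over.mk (𝟙 S)))
    (hτqc : AlgSt.IsQuasiCompactMor Scheme.fppfPrecoverage τ) (hτqs : AlgSt.IsQuasiSeparatedMor τ)
    (hτ : StMod.IsCohAffine τ)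
    (ξ : AlgSt.Points 𝒳) (Q : 𝒳.obj → Prop) (hQ : Gerb.IsResGerbe Scheme.fppfPrecoverage 𝒳 ξ Q)
    (hι : AlgSt.RepByAlgSpWith AlgSp.IsAffineMor (AlgSt.subIncl 𝒳 Q))
    (σ : AlgSt.fullSub 𝒳 Q ⥤ᵇ AlgSt.ofSch (Over.mk (𝟙 S))) :
    StMod.IsCohAffine σ ∧ AlgSt.IsQuasiCompactMor Scheme.fppfPrecoverage σ := by
  exact ⟨ResProp20.AffineRep.isCohAffine (AlgSt.subIncl 𝒳 Q) hQ.2.1.isStack.1 h𝒳.isStack.1 hι σ τ hτ,
    ResProp20.AffineRep.isQuasiCompactMor (AlgSt.subIncl 𝒳 Q) hι σ τ hQ.2.1 h𝒳 hτqc⟩

end Groth.Agent.S19972
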