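import Groth.Statements.S19974
import Mathlib.LinearAlgebra.Finsupp.LSum
import Mathlib.Tactic

set_option autoImplicit false
universe u v w x
open scoped BigOperators
open DefMod

namespace Groth.Agent.S19974

/-- Let K be a field of characteristic 0, O a commutative K-algebra with a K-linear derivation δ, and D
the ring of differential operators O[∂], presented abstractly as a K-algebra D with an algebra map ι
: O → D and an element ∂ of D such that ∂ ι(f) = ι(f) ∂ + ι(δ f) for every f in O and such that
every element of D is in a unique way a finite sum of terms ι(f_i) ∂^i. Let E be a left D-module,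
given as a K-vector space with a K-algebra map ρ : D → End_K(E), which is finite free as an
O-module. A K-derivation of D with values in the D-bimodule End_K(E) is a K-linear map s with s(PQ)
= s(P) ρ(Q) + ρ(P) s(Q); a K-derivation of O with values in End_K(E) is a K-linear map r with r(fg)
= r(f) ρ(ι g) + ρ(ι f) r(g). Then: (a) for every K-derivation s of D into End_K(E), the pair (r, v)
= (s ∘ ι, s(∂)) satisfies the identity [r(f), ρ(∂)] + [ρ(ι f), v] + r(δ f) = 0 for all f in O; (b)
conversely, for every K-derivation r of O into End_K(E) and every v in End_K(E) satisfying that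
identity for all f, there is exactly one K-derivation s of D into End_K(E) with s ∘ ι = r and s(∂) =
v. In other words s ↦ (s ∘ ι, s(∂)) maps the K-derivations of D injectively onto the pairs
satisfying the identity. -/
theorem result
    (K : Type u) [Field K] [CharZero K]
    (O : Type v) [CommRing O] [Algebra K O] (δ : Derivation K O O)
    (D : Type w) [Ring D] [Algebra K D] (ι : O →ₐ[K] D) (d : D)
    (hd : ∀ f : O, d * ι f = ι f * d + ι (δ f))
    (hbasis : Function.Bijective (fun c : ℕ →₀ O => c.sum (fun i f => ι f * d ^ i)))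
    (E : Type x) [AddCommGroup E] [Module K E] (ρ : D →ₐ[K] Module.End K E)
    (hE : ∃ (n : ℕ) (b : Fin n → E), Function.Bijective (fun c : Fin n → O => ∑ i, ρ (ι (c i)) (b i))) :
    (∀ s : D →ₗ[K] Module.End K E, (∀ P Q : D, s (P * Q) = s P * ρ Q + ρ P * s Q) →
      ∀ f : O, (s (ι f) * ρ d - ρ d * s (ι f)) + (ρ (ι f) * s d - s d * ρ (ι f)) + s (ι (δ f)) = 0) ∧
    ∀ (r : O →ₗ[K] Module.End K E) (v : Module.End K E),
      (∀ f g : O, r (f * g) = r f * ρ (ι g) + ρ (ι f) * r g) →
      (∀ f : O, (r f * ρ d - ρ d * r f) + (ρ (ι f) * v - v * ρ (ι f)) + r (δ f) = 0) →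
      ∃! s : D →ₗ[K] Module.End K E,
        (∀ P Q : D, s (P * Q) = s P * ρ Q + ρ P * s Q) ∧ s ∘ₗ ι.toLinearMap = r ∧ s d = v := by
  refine ⟨fun s hs f => ?_, fun r v hr hid => ?_⟩
  · have h := congrArg s (hd f)
    rw [map_add, hs, hs] at h
    linear_combination (norm := abel) -h
  -- the basis
  let L : (ℕ →₀ O) →ₗ[K] D := Finsupp.lsum K fun i : ℕ => (LinearMap.mulRight K (d ^ i)).comp ι.toLinearMap
  have hL : Function.Bijective L := by
    refine (congrArg Function.Bijective (funext fun c => ?_)).mp hbasis
    simp [L, Finsupp.lsum_apply, Finsupp.sum]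
  let e := LinearEquiv.ofBijective L hL
  let w : ℕ → Module.End K E := fun i => i.rec 0 (fun j x => x * ρ d + ρ d ^ j * v)
  have w0 : w 0 = 0 := rfl
  have wS : ∀ j, w (j + 1) = w j * ρ d + ρ d ^ j * v := fun j => rfl
  let F : (ℕ →₀ O) →ₗ[K] Module.End K E := Finsupp.lsum K fun i : ℕ =>
    (LinearMap.mulRight K (ρ d ^ i)).comp r + (LinearMap.mulRight K (w i)).comp (ρ.toLinearMap.comp ι.toLinearMap)
  let s : D →ₗ[K] Module.End K E := F.comp e.symm.toLinearMap
  have hgen : ∀ f i, s (ι f * d ^ i) = r f * ρ d ^ i + ρ (ι f) * w i := by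
    intro f i
    have he : e.symm (ι f * d ^ i) = Finsupp.single i f := by
      apply e.injective
      simp [e, L]
    show F (e.symm (ι f * d ^ i)) = _
    rw [he]
    simp [F]
  have hspan : ∀ (p : D → Prop), p 0 → (∀ a b, p a → p b → p (a + b)) → (∀ f i, p (ι f * d ^ i)) → ∀ P, p P := by
    intro p h0 hadd hg P
    obtain ⟨c, rfl⟩ := hL.2 P
    induction c using Finsupp.induction_linear with
    | zero => simpa using h0
    | add a b ha hb => rw [map_add]; exact hadd _ _ ha hb
    | single i f => simpa [L] using hg f i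
  have hr1 : r 1 = 0 := by
    have h := hr 1 1
    simp only [map_one, mul_one, one_mul] at h
    exact left_eq_add.1 h
  have hsι : ∀ f, s (ι f) = r f := fun f => by simpa [w0] using hgen f 0
  have hs1 : s 1 = 0 := by simpa [hr1] using hsι 1
  have hsd : s d = v := by simpa [hr1, w0, wS] using hgen 1 1
  have hd' : ∀ P, s (P * d) = s P * ρ d + ρ P * v := by
    refine hspan _ (by simp) (fun a b ha hb => by rw [add_mul, map_add, ha, hb, map_add, map_add]; noncomm_ring) fun f i => ?_
    rw [mul_assoc, ← pow_succ, hgen, hgen, map_mul, map_pow, pow_succ, wS]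
    noncomm_ring
  have hι' : ∀ g P, s (P * ι g) = s P * ρ (ι g) + ρ P * r g := by
    intro g P
    revert g
    refine hspan (fun P => ∀ g, s (P * ι g) = s P * ρ (ι g) + ρ P * r g) (fun g => by simp)
      (fun a b ha hb g => by rw [add_mul, map_add, ha, hb, map_add, map_add]; noncomm_ring) (fun f i => ?_) P
    induction i with
    | zero =>
      intro g
      rw [pow_zero, mul_one, ← map_mul, hsι, hsι, hr]
    | succ i ih =>
      intro g
      rw [pow_succ, ← mul_assoc, mul_assoc (ι f * d ^ i) d, hd g, mul_add, ← mul_assoc, map_add, hd', ih, ih, hd',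
        map_mul ρ (ι f * d ^ i) (ι g), map_mul ρ (ι f * d ^ i) d]
      have h2 : ρ d * ρ (ι g) = ρ (ι g) * ρ d + ρ (ι (δ g)) := by rw [← map_mul, ← map_mul, ← map_add, hd g]
      linear_combination (norm := noncomm_ring) congrArg (fun z => ρ (ι f * d ^ i) * z) (hid g) -
        congrArg (fun z => s (ι f * d ^ i) * z) h2
  have hmul : ∀ Q, ∀ P, s (P * Q) = s P * ρ Q + ρ P * s Q := by
    have hclosed : ∀ a b : D, (∀ P, s (P * a) = s P * ρ a + ρ P * s a) → (∀ P, s (P * b) = s P * ρ b + ρ P * s b) →
        ∀ P, s (P * (a * b)) = s P * ρ (a * b) + ρ P * s (a * b) := by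
      intro a b ha hb P
      rw [← mul_assoc, hb, ha, hb a, map_mul, map_mul]
      noncomm_ring
    refine hspan _ (by simp) (fun a b ha hb P => by rw [mul_add, map_add, ha, hb, map_add, map_add]; noncomm_ring) fun f i => ?_
    refine hclosed _ _ (fun P => by rw [hι', hsι]) ?_
    induction i with
    | zero => intro P; simp [hs1]
    | succ i ih => rw [pow_succ]; exact hclosed _ _ ih (fun P => by rw [hd', hsd])
  refine ⟨s, ⟨fun P Q => hmul Q P, LinearMap.ext fun f => by simpa using hsι f, hsd⟩, fun s' hs' => ?_⟩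
  obtain ⟨h1, h2, h3⟩ := hs'
  have h2' : ∀ f, s' (ι f) = r f := fun f => LinearMap.congr_fun h2 f
  refine LinearMap.ext (hspan _ (by simp) (fun a b ha hb => by rw [map_add, map_add, ha, hb]) fun f i => ?_)
  induction i with
  | zero => rw [pow_zero, mul_one, h2', hsι]
  | succ i ih => rw [pow_succ, ← mul_assoc, h1, hd', ih, h3]

end Groth.Agent.S19974
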