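import Groth.Statements.S19978
import Groth.Agent.AlbProper27.Main
-- import your own Groth.Agent.* helpers here

set_option autoImplicit false
set_option linter.style.haveILetI false
set_option backward.isDefEq.respectTransparency.types false
universe u
open CategoryTheory MonoidalCategory CartesianMonoidalCategory MonObj GrpObj AlgebraicGeometry CategoryTheory.Limits
open AbVar

namespace Groth.Agent.S19978

open CategoryTheory CategoryTheory.Limits MonObj AlgebraicGeometry in
open Groth.Agent in
/-- Over an algebraically closed field k, let X be an integral separated k-scheme of finite type which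
is proper over k. Call large group a commutative separated k-group scheme G locally of finite type
given with a connected open subgroup scheme G⁰ (its neutral component) which is semiabelian: G⁰ has
a closed subgroup scheme T that is a torus and is the kernel of a flat surjective homomorphism from
G⁰ onto an abelian variety (a proper smooth connected k-group scheme). Let A be a large group, with
neutral component A⁰, and u : X → A a k-morphism which is universal for morphisms to large groups
(every k-morphism from X to a large group G is u followed by a unique homomorphism A → G), i.e. (A,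
u) is the Albanese scheme of X. Then A⁰ is proper over k: the neutral component of the Albanese
scheme of a proper scheme is an abelian variety. (The published statement is for any proper reduced
scheme of finite type over a perfect field; this row states the case of an integral scheme over an
algebraically closed field.) -/
theorem result (k : Type u) [Field k] [IsAlgClosed k]
    (X : Over (Spec (CommRingCat.of k))) [IsIntegral X.left] [IsProper X.hom]
    (A : Over (Spec (CommRingCat.of k))) [GrpObj A] [IsCommMonObj A] [IsSeparated A.hom] [LocallyOfFiniteType A.hom]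
    (A0 : Over (Spec (CommRingCat.of k))) [GrpObj A0] (e₀ : A0 ⟶ A) [IsMonHom e₀] [IsOpenImmersion e₀.left]
    [ConnectedSpace ↥A0.left]
    (T₀ : Over (Spec (CommRingCat.of k))) [GrpObj T₀] (i₀ : T₀ ⟶ A0) [IsMonHom i₀] [IsClosedImmersion i₀.left]
    (hT₀ : Red.IsTorus T₀)
    (B₀ : Over (Spec (CommRingCat.of k))) [GrpObj B₀] [IsProper B₀.hom] [Smooth B₀.hom] [ConnectedSpace ↥B₀.left]
    (q₀ : A0 ⟶ B₀) [IsMonHom q₀] [Surjective q₀.left] [Flat q₀.left] (hker₀ : AlgGrp.IsKernel i₀ q₀)
    (u : X ⟶ A)
    (huniv : ∀ (G : Over (Spec (CommRingCat.of k))) [GrpObj G] [IsCommMonObj G] [IsSeparated G.hom] [LocallyOfFiniteType G.hom]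
      (G0 : Over (Spec (CommRingCat.of k))) [GrpObj G0] (e : G0 ⟶ G) [IsMonHom e] [IsOpenImmersion e.left]
      [ConnectedSpace ↥G0.left]
      (T : Over (Spec (CommRingCat.of k))) [GrpObj T] (i : T ⟶ G0) [IsMonHom i] [IsClosedImmersion i.left]
      (_ : Red.IsTorus T)
      (B : Over (Spec (CommRingCat.of k))) [GrpObj B] [IsProper B.hom] [Smooth B.hom] [ConnectedSpace ↥B.left]
      (q : G0 ⟶ B) [IsMonHom q] [Surjective q.left] [Flat q.left] (_ : AlgGrp.IsKernel i q)
      (φ : X ⟶ G), ∃! h : A ⟶ G, IsMonHom h ∧ u ≫ h = φ) :
    IsProper A0.hom := by
  refine AlbProper27.isProper_neutral k X A A0 e₀ u (fun h hh he => ?_) huniv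
  obtain ⟨g, -, hg⟩ := huniv A A0 e₀ T₀ i₀ hT₀ B₀ q₀ hker₀ u
  exact (hg h ⟨hh, he⟩).trans (hg (𝟙 A) ⟨inferInstance, Category.comp_id u⟩).symm

end Groth.Agent.S19978
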