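import Groth.Statements.S1999
import Groth.Agent.HenselLib.TameInertia
import Mathlib.RingTheory.DedekindDomain.IntegralClosure
import Mathlib.Algebra.CharP.Algebra

set_option autoImplicit false
universe u
open scoped Pointwise
open EtAlg

namespace Groth.Agent.S1999

/-- Parts (2)–(5) in the case of part (6): let A be a discrete valuation ring with fraction field K, L/K
a finite Galois extension with group G, B the integral closure of A in L, m a maximal ideal of B
whose residue field is separable over that of A, and e the ramification index of m over A. Let D be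
the decomposition group (stabilizer of m), I the inertia group (elements acting trivially on B/m)
and P the wild inertia group, here the elements of D acting trivially on B/m² (the description valid
in the separable residue field case). Then P ≤ I, P is normal in D, P is a p-group if the residue
characteristic is p > 0 and trivial if it is 0, and I/P is cyclic of order the prime-to-p part of e
and isomorphic to a subgroup of the e-th roots of unity of B/m — more precisely to the full group of
e-th roots of unity of B/m. -/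
theorem result (A K L B : Type u) [CommRing A] [IsDomain A] [IsDiscreteValuationRing A]
    [CommRing B] [IsDomain B] [Field K] [Field L] [Algebra A K] [Algebra B L] [IsFractionRing A K] [IsFractionRing B L]
    [Algebra A B] [Algebra K L] [Algebra A L] [IsScalarTower A K L] [IsScalarTower A B L] [IsIntegralClosure B A L]
    [FiniteDimensional K L] [IsGalois K L] (m : Ideal B) [m.IsMaximal]
    [Algebra.IsSeparable (A ⧸ m.comap (algebraMap A B)) (B ⧸ m)] :
    letI := IsIntegralClosure.MulSemiringAction A K L B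
    let D : Subgroup (L ≃ₐ[K] L) := MulAction.stabilizer (L ≃ₐ[K] L) m
    let I : Subgroup (L ≃ₐ[K] L) := m.inertia (L ≃ₐ[K] L)
    let P : Subgroup (L ≃ₐ[K] L) := D ⊓ (m ^ 2).inertia (L ≃ₐ[K] L)
    let e : ℕ := Ideal.ramificationIdx' (IsLocalRing.maximalIdeal A) m
    P ≤ I ∧ I ≤ D ∧ (P.subgroupOf D).Normal ∧
    (∀ p : ℕ, p.Prime → CharP (A ⧸ m.comap (algebraMap A B)) p → IsPGroup p P) ∧
    (CharZero (A ⧸ m.comap (algebraMap A B)) → P = ⊥) ∧
    (∀ [(P.subgroupOf I).Normal],
      IsCyclic (I ⧸ P.subgroupOf I) ∧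
      (∀ p : ℕ, p.Prime → CharP (A ⧸ m.comap (algebraMap A B)) p → Nat.card (I ⧸ P.subgroupOf I) = e / p ^ e.factorization p) ∧
      (CharZero (A ⧸ m.comap (algebraMap A B)) → Nat.card (I ⧸ P.subgroupOf I) = e) ∧
      Nonempty (I ⧸ P.subgroupOf I ≃* ↥(rootsOfUnity e (B ⧸ m)))) := by
  letI := IsIntegralClosure.MulSemiringAction A K L B
  intro D I P e
  let p₀ : Ideal A := m.comap (algebraMap A B)
  haveI : Module.Finite A B := IsIntegralClosure.finite A K L B
  haveI : IsDedekindDomain B := IsIntegralClosure.isDedekindDomain A K L B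
  haveI : Algebra.IsIntegral A B := Algebra.IsIntegral.of_finite A B
  have hinjB : Function.Injective (algebraMap A B) := by
    intro x y h
    apply IsFractionRing.injective A K
    apply (algebraMap K L).injective
    rw [← IsScalarTower.algebraMap_apply, ← IsScalarTower.algebraMap_apply,
      IsScalarTower.algebraMap_apply A B L, IsScalarTower.algebraMap_apply A B L, h]
  haveI : FaithfulSMul A B := (faithfulSMul_iff_algebraMap_injective A B).mpr hinjB
  haveI : Module.IsTorsionFree A B := inferInstance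
  haveI : Module.Free A B := inferInstance
  haveI : IsGaloisGroup (L ≃ₐ[K] L) K L := inferInstance
  haveI : IsGaloisGroup (L ≃ₐ[K] L) A B := IsGaloisGroup.of_isFractionRing _ _ _ K L
  haveI hp₀ : p₀.IsMaximal := Ideal.isMaximal_comap_of_isIntegral_of_isMaximal m
  haveI : m.LiesOver p₀ := ⟨rfl⟩
  have hp₀eq : p₀ = IsLocalRing.maximalIdeal A := IsLocalRing.eq_maximalIdeal hp₀
  have hsep : Algebra.IsSeparable (A ⧸ p₀) (B ⧸ m) := ‹_›
  have hm0 : m ≠ ⊥ := by
    intro h
    apply IsDiscreteValuationRing.not_a_field A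
    rw [← hp₀eq]
    simp only [p₀, h]
    exact (RingHom.injective_iff_ker_eq_bot _).mp hinjB
  haveI : Algebra.FormallyUnramified A (B ⧸ m) := by
    letI := Ideal.Quotient.field p₀
    letI := Ideal.Quotient.field m
    haveI := hsep
    haveI : Algebra.FormallyUnramified (A ⧸ p₀) (B ⧸ m) := Algebra.FormallyUnramified.of_isSeparable _ _
    exact Algebra.FormallyUnramified.comp A (A ⧸ p₀) (B ⧸ m)
  obtain ⟨π, hπ, hπ2⟩ : ∃ π ∈ m, π ∉ m ^ 2 := by
    have := SetLike.exists_of_lt (Ideal.pow_succ_lt_pow hm0 1)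
    simpa using this
  have hgen : m ≤ Ideal.span {π} ⊔ m ^ 2 := by
    have h := Ideal.eq_prime_pow_of_succ_lt_of_le (P := m) (I := Ideal.span {π} ⊔ m ^ 2) (i := 1) hm0
      (lt_of_le_of_ne le_sup_right (fun h => hπ2 (by
        have := (le_sup_left : Ideal.span {π} ≤ Ideal.span {π} ⊔ m ^ 2) (Ideal.mem_span_singleton_self π)
        rwa [← h] at this)))
      (sup_le ((Ideal.span_singleton_le_iff_mem _).mpr (by simpa using hπ)) (Ideal.pow_le_pow_right (by norm_num)))
    rw [h, pow_one]
  obtain ⟨θ, hθ⟩ := Groth.Agent.HenselLib.TameInertia.exists_theta m (G := L ≃ₐ[K] L) A hπ hπ2 hgen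
  have hID : I ≤ D := Ideal.inertia_le_stabilizer (M := L ≃ₐ[K] L) m
  have hPI : P ≤ I := fun σ hσ => Groth.Agent.HenselLib.TameInertia.inertia_sq_le m hσ.2
  have hker : P.subgroupOf I = θ.ker := by
    ext σ
    rw [hθ, Subgroup.mem_subgroupOf]
    exact ⟨fun h => h.2, fun h => ⟨hID σ.2, h⟩⟩
  have hnorm : (P.subgroupOf D).Normal := by
    refine ⟨fun τ hτ σ => ?_⟩
    rw [Subgroup.mem_subgroupOf] at hτ ⊢
    refine ⟨(σ * τ * σ⁻¹).2, fun x => ?_⟩
    have hσm : ∀ a ∈ m ^ 2, ((σ : L ≃ₐ[K] L)) • a ∈ m ^ 2 := by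
      intro a ha
      rw [pow_two] at ha
      induction ha using Submodule.mul_induction_on' with
      | mem_mul_mem a ha c hc =>
        have hs : ((σ : L ≃ₐ[K] L)) • m = m := σ.2
        rw [smul_mul', pow_two]
        exact Ideal.mul_mem_mul (hs ▸ Ideal.smul_mem_pointwise_smul _ _ _ ha) (hs ▸ Ideal.smul_mem_pointwise_smul _ _ _ hc)
      | add x _ y _ hx hy => rw [smul_add]; exact Submodule.add_mem _ hx hy
    have := hσm _ (hτ.2 ((σ : L ≃ₐ[K] L)⁻¹ • x))
    rw [smul_sub, smul_inv_smul] at this
    rw [Subgroup.coe_mul, Subgroup.coe_mul, Subgroup.coe_inv, mul_smul, mul_smul]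
    exact this
  haveI hfaith : FaithfulSMul (L ≃ₐ[K] L) B := IsGaloisGroup.faithful A
  have hcardI : Nat.card I = e := by
    show Nat.card (m.inertia (L ≃ₐ[K] L)) = Ideal.ramificationIdx' (IsLocalRing.maximalIdeal A) m
    rw [Groth.Agent.HenselLib.TameInertia.card_inertia_eq_of_separable p₀ m hsep,
      Ideal.ramificationIdxIn_eq_ramificationIdx p₀ m (L ≃ₐ[K] L)]
    haveI : m.LiesOver (IsLocalRing.maximalIdeal A) := hp₀eq ▸ (inferInstance : m.LiesOver p₀)
    rw [Ideal.ramificationIdx'_eq_ramificationIdx (IsLocalRing.maximalIdeal A) m (IsDiscreteValuationRing.not_a_field A)]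
  letI := Ideal.Quotient.field m
  letI := Ideal.Quotient.field p₀
  have hsplit : Nat.card I = Nat.card θ.range * Nat.card θ.ker := by
    rw [Subgroup.card_eq_card_quotient_mul_card_subgroup θ.ker,
      Nat.card_congr (QuotientGroup.quotientKerEquivRange θ).toEquiv]
  haveI : Finite θ.range := Finite.of_surjective θ.rangeRestrict θ.rangeRestrict_surjective
  have hkerP : Nat.card θ.ker = Nat.card P := by
    rw [← hker]
    exact Nat.card_congr (Subgroup.subgroupOfEquivOfLe hPI).toEquiv
  have hgroup : ∀ q : ℕ, q.Prime → CharP (A ⧸ p₀) q → IsPGroup q P := by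
    intro q hq hcq
    haveI := Fact.mk hq
    haveI : CharP (B ⧸ m) q := charP_of_injective_algebraMap (algebraMap (A ⧸ p₀) (B ⧸ m)).injective q
    intro σ
    refine ⟨(orderOf σ).factorization q, ?_⟩
    have hn : orderOf σ ≠ 0 := (orderOf_pos σ).ne'
    have hone : ((σ : L ≃ₐ[K] L) ^ q ^ (orderOf σ).factorization q) ^ (orderOf σ / q ^ (orderOf σ).factorization q) = 1 := by
      rw [← pow_mul, Nat.ordProj_mul_ordCompl_eq_self, ← Subgroup.coe_pow, pow_orderOf_eq_one]
      rfl
    refine Subtype.ext ?_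
    rw [Subgroup.coe_pow]
    refine Groth.Agent.HenselLib.TameInertia.eq_one_of_pow_eq_one m
      (((m ^ 2).inertia (L ≃ₐ[K] L)).pow_mem σ.2.2 _) _ ?_ hone
    rw [map_natCast, isUnit_iff_ne_zero, Ne, CharP.cast_eq_zero_iff (B ⧸ m) q]
    exact Nat.not_dvd_ordCompl hq hn
  have hzero : CharZero (A ⧸ p₀) → P = ⊥ := by
    intro hc
    haveI : CharZero (B ⧸ m) := charZero_of_injective_algebraMap (algebraMap (A ⧸ p₀) (B ⧸ m)).injective
    rw [Subgroup.eq_bot_iff_forall]
    intro σ hσ
    refine Groth.Agent.HenselLib.TameInertia.eq_one_of_pow_eq_one m hσ.2 (orderOf σ) ?_ (pow_orderOf_eq_one σ)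
    rw [map_natCast, isUnit_iff_ne_zero, Nat.cast_ne_zero]
    exact (orderOf_pos σ).ne'
  refine ⟨hPI, hID, hnorm, hgroup, hzero, ?_⟩
  intro _
  let φ : I ⧸ P.subgroupOf I ≃* θ.range :=
    (QuotientGroup.quotientMulEquivOfEq hker).trans (QuotientGroup.quotientKerEquivRange θ)
  have hq : Nat.card (I ⧸ P.subgroupOf I) = Nat.card θ.range := Nat.card_congr φ.toEquiv
  have hcharP : ∀ q : ℕ, q.Prime → CharP (A ⧸ p₀) q →
      Nat.card θ.range = e / q ^ e.factorization q ∧ θ.range = rootsOfUnity e (B ⧸ m) := by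
    intro q hqp hcq
    haveI := Fact.mk hqp
    haveI : CharP (B ⧸ m) q := charP_of_injective_algebraMap (algebraMap (A ⧸ p₀) (B ⧸ m)).injective q
    obtain ⟨a, ha⟩ := IsPGroup.iff_card.mp (hgroup q hqp hcq)
    have he : e = q ^ a * Nat.card θ.range := by rw [← hcardI, hsplit, hkerP, ha, mul_comm]
    have hnd : ¬ q ∣ Nat.card θ.range := Groth.Agent.HenselLib.TameInertia.char_not_dvd_card q θ
    have hfac : e.factorization q = a := by
      rw [he, Nat.factorization_mul (pow_ne_zero _ hqp.ne_zero) Nat.card_pos.ne', hqp.factorization_pow,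
        Finsupp.add_apply, Finsupp.single_eq_same, Nat.factorization_eq_zero_of_not_dvd hnd, add_zero]
    refine ⟨?_, Groth.Agent.HenselLib.TameInertia.range_eq_rootsOfUnity θ e (q ^ a) he ?_⟩
    · rw [hfac]
      exact (Nat.eq_div_iff_mul_eq_left (pow_ne_zero _ hqp.ne_zero) (he ▸ Dvd.intro _ rfl)).mpr (he.trans (mul_comm _ _))
    · intro x hx
      haveI : ExpChar (B ⧸ m) q := .prime hqp
      exact iterateFrobenius_inj (B ⧸ m) q a (by simpa [iterateFrobenius_def] using hx)
  have hchar0 : CharZero (A ⧸ p₀) → Nat.card θ.range = e ∧ θ.range = rootsOfUnity e (B ⧸ m) := by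
    intro hc
    have he : e = 1 * Nat.card θ.range := by
      rw [← hcardI, hsplit, hkerP, hzero hc, Subgroup.card_bot, mul_one, one_mul]
    exact ⟨(he.trans (one_mul _)).symm,
      Groth.Agent.HenselLib.TameInertia.range_eq_rootsOfUnity θ e 1 he (fun x hx => by simpa using hx)⟩
  have hroots : θ.range = rootsOfUnity e (B ⧸ m) := by
    obtain ⟨q, hc⟩ := CharP.exists (A ⧸ p₀)
    rcases CharP.char_is_prime_or_zero (A ⧸ p₀) q with h | h
    · exact (hcharP q h hc).2
    · subst h
      exact (hchar0 (CharP.charP_to_charZero _)).2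
  exact ⟨isCyclic_of_surjective φ.symm φ.symm.surjective,
    fun q hqp hcq => hq.trans (hcharP q hqp hcq).1,
    fun hc => hq.trans (hchar0 hc).1,
    ⟨φ.trans (MulEquiv.subgroupCongr hroots)⟩⟩

end Groth.Agent.S1999
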