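import Groth.Statements.S19992
import Groth.Agent.Desc19b.Kummer
import Groth.Agent.Stk19b.Quot.Basic
import Groth.Agent.Stk19.FibGrpd
import Mathlib.CategoryTheory.Sites.EpiMono

set_option autoImplicit false
set_option linter.style.haveILetI false
set_option backward.isDefEq.respectTransparency false
set_option backward.isDefEq.respectTransparency.types false
universe u
open CategoryTheory CategoryTheory.Limits AlgebraicGeometry Opposite MonoidalCategory CartesianMonoidalCategory MonObj GrpObj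
open StCoh

namespace Groth.Agent.S19992

open Groth.Agent.SGA3cLib Groth.Agent.S5427 in
theorem comp_chi_eq_pow {S : Scheme.{u}} (n : ℕ) {W : Over S} (a : W ⟶ Red.Gm S) :
    a ≫ Red.chi S (n : ℤ) = a ^ n := by
  refine dsFn_injective (MonoidHom.ext fun m => ?_)
  rw [Groth.Agent.Desc19b.Kummer.dsFn_chi]
  induction n with
  | zero =>
    rw [Nat.cast_zero, mul_zero, ofAdd_zero, map_one]
    exact ((congrArg (fun q => dsFn q m) (pow_zero a)).trans (dsFn_one (U := S) (M := ℤ) m)).symm
  | succ k ih =>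
    refine Eq.trans ?_ ((congrArg (fun q => dsFn q m) (pow_succ a k)).trans
      (dsFn_mul (U := S) (M := ℤ) (a ^ k) a m)).symm
    rw [← ih, Nat.cast_succ, mul_add, Int.mul_one, ofAdd_add, map_mul, ofAdd_toAdd]

theorem app_nsmul_id {S : Scheme.{u}} {𝒳 : AlgSt.Cat S} {K : Precoverage Scheme.{u}}
    (F : StCoh.Ab K 𝒳) (n : ℕ) (x : 𝒳.objᵒᵖ) (a : F.obj.obj x) :
    ((n • 𝟙 F : F ⟶ F).hom.app x).hom a = n • a := by
  induction n with
  | zero => simp only [zero_smul]; rfl
  | succ k ih =>
    rw [add_smul, one_smul, add_smul, one_smul]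
    show ((k • 𝟙 F : F ⟶ F).hom.app x).hom a + a = _
    rw [ih]

theorem map_nsmul_id {C : Type*} [Category C] {J : GrothendieckTopology C}
    [HasSheafify J AddCommGrpCat.{u + 1}] [HasExt.{u + 1} (Sheaf J AddCommGrpCat.{u + 1})]
    (F : Sheaf J AddCommGrpCat.{u + 1}) (n m : ℕ) (x : Sheaf.H F m) :
    Sheaf.H.map (n • 𝟙 F) m x = n • x := by
  induction n with
  | zero =>
    simp only [zero_smul]
    rw [Sheaf.H.map_apply, Abelian.Ext.mk₀_zero, Abelian.Ext.comp_zero]
  | succ k ih => rw [add_smul, one_smul, add_smul, one_smul, Sheaf.H.map_add_apply, ih, Sheaf.H.map_id_apply]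

theorem epi_powMap {S : Scheme.{u}} (𝒳 : AlgSt.Cat S) (hf : FibCat.IsFibGrpd 𝒳.p)
    [StCoh.BaseCont Scheme.fppfPrecoverage 𝒳] (n : ℕ) (hn : 0 < n) :
    Epi (StCoh.powMap Scheme.fppfPrecoverage 𝒳 n) := by
  rw [← Sheaf.isLocallySurjective_iff_epi']
  refine ⟨fun {x} s => ?_⟩
  let t : 𝒳.p.obj x ⟶ Red.Gm S := Additive.toMul s.down
  obtain ⟨hfl, hsurj, hfp⟩ := Groth.Agent.Desc19b.Kummer.diagMap_props.{u} n hn
  haveI : Flat (Red.chi S (n : ℤ)).left := MorphismProperty.overPullbackMap (P := @Flat) _ _ hfl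
  haveI : Surjective (Red.chi S (n : ℤ)).left := MorphismProperty.overPullbackMap (P := @Surjective) _ _ hsurj
  haveI : LocallyOfFinitePresentation (Red.chi S (n : ℤ)).left :=
    MorphismProperty.overPullbackMap (P := @LocallyOfFinitePresentation) _ _ hfp
  let π : pullback t.left (Red.chi S (n : ℤ)).left ⟶ (𝒳.p.obj x).left := pullback.fst _ _
  let Z : Over S := Over.mk (π ≫ (𝒳.p.obj x).hom)
  let f : Z ⟶ 𝒳.p.obj x := Over.homMk π rfl
  let a : Z ⟶ Red.Gm S := Over.homMk (pullback.snd _ _) (by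
    show pullback.snd t.left _ ≫ (Red.Gm S).hom = pullback.fst t.left _ ≫ (𝒳.p.obj x).hom
    rw [← Over.w (Red.chi S (n : ℤ)), ← pullback.condition_assoc, Over.w t])
  have ha : a ≫ Red.chi S (n : ℤ) = f ≫ t := Over.OverMorphism.ext pullback.condition.symm
  obtain ⟨y, φ, e, hφ⟩ := Groth.Agent.Stk19.fibGrpd_lift hf x f
  apply Functor.mem_restrictedTopology_of_functorPushforward_mem
  rw [GrothendieckTopology.mem_over_iff]
  refine GrothendieckTopology.superset_covering _ ?_
    (Precoverage.generate_mem_toGrothendieck (Scheme.Hom.singleton_mem_fppfPrecoverage π))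
  rw [Sieve.generate_le_iff]
  rintro W g ⟨⟩
  show Sieve.overEquiv _ _ π
  rw [Sieve.overEquiv_iff]
  refine ⟨y, φ, eqToHom e.symm, ⟨ULift.up (Additive.ofMul (eqToHom e ≫ a)), ?_⟩, ?_⟩
  · rw [show (StCoh.powMap Scheme.fppfPrecoverage 𝒳 n).hom = (n • 𝟙 (StCoh.Gm Scheme.fppfPrecoverage 𝒳) :
      StCoh.Gm Scheme.fppfPrecoverage 𝒳 ⟶ _).hom from rfl]
    erw [app_nsmul_id]
    apply ULift.ext
    show n • Additive.ofMul (eqToHom e ≫ a) = Additive.ofMul (𝒳.p.map φ ≫ t)
    rw [← ofMul_pow, ← comp_chi_eq_pow, Category.assoc, ha, hφ, Category.assoc]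
  · rw [hφ, eqToHom_trans_assoc, eqToHom_refl, Category.id_comp]

theorem nonempty_quotient_equiv {A B : Type*} [AddCommGroup A] [AddCommGroup B] (δ : A →+ B)
    (hs : Function.Surjective δ) (N : AddSubgroup A) (h : N = δ.ker) : Nonempty (B ≃+ A ⧸ N) := by
  subst h
  exact ⟨(QuotientAddGroup.quotientKerEquivOfSurjective δ hs).symm⟩

/-- Let k be a field, G a finite étale group scheme over k, BG its classifying stack of fppf torsors and
n ≥ 1. The Kummer sequence gives a short exact sequence 0 → Pic(BG)/n → H²(BG, μ_n) → H²(BG, G_m)[n]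
→ 0 in the cohomology of the big fppf site of BG: the map H²(BG, μ_n) → H²(BG, G_m) induced by the
inclusion of the n-th roots of unity has image the subgroup of classes killed by n, and its kernel
is isomorphic to the quotient of H¹(BG, G_m) by the multiples of n (existence of an isomorphism for
the kernel; in the source it is induced by the connecting homomorphism). The description of the
central extension attached to a character, in the second sentence of the source, is not stated. -/
theorem result (k : Type u) [Field k]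
    (G : Over (Spec (CommRingCat.of k))) [GrpObj G] (hG : IsFinite G.hom ∧ Etale G.hom)
    [StCoh.BaseCont Scheme.fppfPrecoverage (AlgSt.BG Scheme.fppfPrecoverage G)] (n : ℕ) (hn : 0 < n) :
    (Sheaf.H.map (StCoh.muι Scheme.fppfPrecoverage (AlgSt.BG Scheme.fppfPrecoverage G) n) 2).range =
        (DistribSMul.toAddMonoidHom (StCoh.BrCoh Scheme.fppfPrecoverage (AlgSt.BG Scheme.fppfPrecoverage G)) n).ker ∧
      Nonempty ((Sheaf.H.map (StCoh.muι Scheme.fppfPrecoverage (AlgSt.BG Scheme.fppfPrecoverage G) n) 2).ker ≃+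
        StCoh.H Scheme.fppfPrecoverage (StCoh.Gm Scheme.fppfPrecoverage (AlgSt.BG Scheme.fppfPrecoverage G)) 1 ⧸
          (DistribSMul.toAddMonoidHom
            (StCoh.H Scheme.fppfPrecoverage (StCoh.Gm Scheme.fppfPrecoverage (AlgSt.BG Scheme.fppfPrecoverage G)) 1) n).range) := by
  let 𝒳 := AlgSt.BG Scheme.fppfPrecoverage G
  have hf : FibCat.IsFibGrpd 𝒳.p := Groth.Agent.Stk19b.Quot.isFibGrpd ..
  haveI := epi_powMap 𝒳 hf n hn
  let C : ShortComplex (StCoh.Ab Scheme.fppfPrecoverage 𝒳) :=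
    ShortComplex.mk (StCoh.muι Scheme.fppfPrecoverage 𝒳 n) (StCoh.powMap Scheme.fppfPrecoverage 𝒳 n)
      (kernel.condition _)
  haveI : Mono C.f := equalizer.ι_mono
  haveI : Epi C.g := ‹_›
  have hC : C.ShortExact := ⟨ShortComplex.exact_of_f_is_kernel _ (kernelIsKernel _)⟩
  have hpow : ∀ (m : ℕ) (x : StCoh.H Scheme.fppfPrecoverage (StCoh.Gm Scheme.fppfPrecoverage 𝒳) m),
      Sheaf.H.map C.g m x = n • x := fun m x => map_nsmul_id _ n m x
  constructor
  · ext x
    rw [AddMonoidHom.mem_range, AddMonoidHom.mem_ker]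
    show _ ↔ n • x = 0
    rw [← hpow]
    constructor
    · rintro ⟨y, rfl⟩
      show Sheaf.H.map C.g 2 (Sheaf.H.map C.f 2 y) = 0
      rw [← Sheaf.H.map_comp_apply, C.zero, Sheaf.H.map_apply, Abelian.Ext.mk₀_zero, Abelian.Ext.comp_zero]
    · exact fun h => Abelian.Ext.covariant_sequence_exact₂ _ hC x h
  · let δ : StCoh.H Scheme.fppfPrecoverage (StCoh.Gm Scheme.fppfPrecoverage 𝒳) 1 →+
        (Sheaf.H.map (StCoh.muι Scheme.fppfPrecoverage 𝒳 n) 2).ker :=
      { toFun := fun x => ⟨Abelian.Ext.comp x hC.extClass (show 1 + 1 = 2 from rfl), by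
          rw [AddMonoidHom.mem_ker, Sheaf.H.map_apply]
          show (Abelian.Ext.comp x hC.extClass _).comp (Abelian.Ext.mk₀ C.f) _ = 0
          rw [Abelian.Ext.comp_assoc_of_third_deg_zero, hC.extClass_comp, Abelian.Ext.comp_zero]⟩
        map_zero' := Subtype.ext (Abelian.Ext.zero_comp (X := _) (n := 1) hC.extClass 2 rfl)
        map_add' := fun x y => Subtype.ext (Abelian.Ext.add_comp x y hC.extClass rfl) }
    have hs : Function.Surjective δ := fun z => by
      obtain ⟨x, hx⟩ := Abelian.Ext.covariant_sequence_exact₁ _ hC z.1 z.2 (show 1 + 1 = 2 from rfl)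
      exact ⟨x, Subtype.ext hx⟩
    have hk : (DistribSMul.toAddMonoidHom
        (StCoh.H Scheme.fppfPrecoverage (StCoh.Gm Scheme.fppfPrecoverage 𝒳) 1) n).range = δ.ker := by
      ext x
      rw [AddMonoidHom.mem_range, AddMonoidHom.mem_ker]
      constructor
      · rintro ⟨y, rfl⟩
        refine Subtype.ext ?_
        show Abelian.Ext.comp (n • y : StCoh.H _ _ 1) hC.extClass (show 1 + 1 = 2 from rfl) = 0
        rw [← hpow, Sheaf.H.map_apply, Abelian.Ext.comp_assoc_of_second_deg_zero, hC.comp_extClass,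
          Abelian.Ext.comp_zero]
      · intro h
        obtain ⟨y, hy⟩ := Abelian.Ext.covariant_sequence_exact₃ _ hC x (show 1 + 1 = 2 from rfl)
          (congrArg Subtype.val h)
        exact ⟨y, ((hpow 1 y).symm.trans (Sheaf.H.map_apply _ _)).trans hy⟩
    exact nonempty_quotient_equiv δ hs _ hk

end Groth.Agent.S19992
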