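import Groth.Statements.S19994
import Mathlib
import Groth.Prelude
import Groth.Agent.CommAlg4.InvRing
import Groth.Agent.CAlgH3.RegularHom
import Groth.Agent.CAlgH3.RegularCore
import Groth.Agent.DimLib.Algebra

set_option linter.all false

set_option autoImplicit false
universe u v w
open WildQuot

open Groth.Agent IsLocalRing TensorProduct

namespace Groth.Agent.S19994

theorem exists_scaled_retract {R : Type u} [CommRing R] {A : Type v} [CommRing A]
  [Algebra R A] [Module.Finite R A] (hinj : Function.Injective (algebraMap R A))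
  {H : Type w} [Group H] [Finite H] [MulSemiringAction H A] [SMulCommClass H R A]
  (hfix : ∀ a : A, (∀ h : H, h • a = a) → a ∈ Set.range (algebraMap R A))
  (q : Ideal R) (hq : q.IsPrime) (hP : ∀ P : Ideal A, P.IsPrime → P.comap (algebraMap R A) = q → P.inertia H = ⊥) :
    ∃ (c : R) (S : Finset (A × A)) (α : A × A → (A →ₗ[R] R)), c ∉ q ∧ ∀ a : A, c • a = ∑ l ∈ S, α l a • l.2 := by
  classical
  let _ : Fintype H := Fintype.ofFinite H
  let ψ : H → (A ⊗[R] A →ₐ[R] A) := fun h =>
    Algebra.TensorProduct.productMap (AlgHom.id R A) (MulSemiringAction.toAlgHom R A h)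
  have hψ : ∀ h a b, ψ h (a ⊗ₜ b) = a * h • b := fun h a b => rfl
  -- trace
  choose tr htr using fun a : A => hfix (∑ h : H, h • a) (fun g => by
    rw [Finset.smul_sum]
    exact Fintype.sum_equiv (Equiv.mulLeft g) _ _ (fun h => by rw [Equiv.coe_mulLeft, mul_smul]))
  let T : A →ₗ[R] R :=
    { toFun := tr
      map_add' := fun a b => hinj (by simp only [map_add, htr, smul_add, Finset.sum_add_distrib])
      map_smul' := fun r a => hinj (by
        simp only [RingHom.id_apply, smul_eq_mul, map_mul, htr, Finset.mul_sum, Algebra.smul_def, smul_mul', smul_algebraMap]) }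
  have hT : ∀ a, algebraMap R A (T a) = ∑ h : H, h • a := htr
  -- solutions
  let Sol : R → Prop := fun c => ∃ t : A ⊗[R] A, ψ 1 t = algebraMap R A c ∧ ∀ h : H, h ≠ 1 → ψ h t = 0
  have hSol : ∀ q : Ideal R, q.IsPrime → (∀ P : Ideal A, P.IsPrime → P.comap (algebraMap R A) = q → P.inertia H = ⊥) → ∃ c, Sol c ∧ c ∉ q := by
    intro q hqp hP
    have hone : ∀ h : H, h ≠ 1 → ∃ r : R, r ∉ q ∧ ∃ t, ψ 1 t = algebraMap R A r ∧ ψ h t = 0 := by
      intro h hh
      let I : Ideal A := Ideal.span (Set.range fun a : A => h • a - a)
      have hnot : ¬ I.comap (algebraMap R A) ≤ q := fun hle => by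
        haveI := hqp
        obtain ⟨P, hIP, hPp, hPc⟩ := Ideal.exists_ideal_over_prime_of_isIntegral (q) I hle
        have hmem : h ∈ P.inertia H := fun a => hIP (Ideal.subset_span ⟨a, rfl⟩)
        rw [hP P hPp hPc] at hmem
        exact hh (Subgroup.mem_bot.1 hmem)
      obtain ⟨r, hrI, hrq⟩ := SetLike.not_le_iff_exists.1 hnot
      refine ⟨r, hrq, ?_⟩
      have key : ∀ y ∈ I, ∃ t, ψ 1 t = y ∧ ψ h t = 0 := by
        intro y hy
        induction hy using Submodule.span_induction with
        | mem y hy =>
          obtain ⟨a, rfl⟩ := hy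
          exact ⟨(h • a) ⊗ₜ 1 - 1 ⊗ₜ a, by simp [hψ], by simp [hψ]⟩
        | zero => exact ⟨0, map_zero _, map_zero _⟩
        | add y z _ _ hy hz =>
          obtain ⟨t, h1, h2⟩ := hy
          obtain ⟨t', h3, h4⟩ := hz
          exact ⟨t + t', by rw [map_add, h1, h3], by rw [map_add, h2, h4, add_zero]⟩
        | smul b y _ hy =>
          obtain ⟨t, h1, h2⟩ := hy
          exact ⟨(b ⊗ₜ 1) * t, by rw [map_mul, h1, hψ]; simp, by rw [map_mul, h2, mul_zero]⟩
      exact key _ hrI
    choose! r hr t ht using hone
    refine ⟨∏ h ∈ Finset.univ.erase 1, r h, ⟨∏ h ∈ Finset.univ.erase 1, t h, ?_, fun h hh => ?_⟩, fun hdvd => ?_⟩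
    · rw [map_prod, map_prod]
      exact Finset.prod_congr rfl fun h hh => (ht h (Finset.ne_of_mem_erase hh)).1
    · rw [map_prod]
      exact Finset.prod_eq_zero (Finset.mem_erase.2 ⟨hh, Finset.mem_univ h⟩) (ht h hh).2
    · obtain ⟨h, hh, hdvd'⟩ := hqp.prod_mem_iff.1 hdvd
      exact hr h (Finset.ne_of_mem_erase hh) hdvd'
  have hexp : ∀ c, Sol c → ∃ S : Finset (A × A), (∀ a : A, c • a = ∑ l ∈ S, T (a * l.1) • l.2) ∧
      ∀ h : H, ∑ l ∈ S, l.2 * h • l.1 = if h = 1 then algebraMap R A c else 0 := by
    rintro c ⟨t, ht1, ht2⟩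
    obtain ⟨S, rfl⟩ := TensorProduct.exists_finset t
    have hsum : ∀ h : H, ∑ l ∈ S, l.1 * h • l.2 = if h = 1 then algebraMap R A c else 0 := fun h => by
      have : ψ h (∑ l ∈ S, l.1 ⊗ₜ[R] l.2) = ∑ l ∈ S, l.1 * h • l.2 := by simp [map_sum, hψ]
      rw [← this]
      by_cases hh : h = 1
      · rw [if_pos hh, hh]; exact ht1
      · rw [if_neg hh]; exact ht2 h hh
    have hflip : ∀ h : H, ∑ l ∈ S, l.2 * h • l.1 = if h = 1 then algebraMap R A c else 0 := fun h => by
      have h1 := congrArg (h • ·) (hsum h⁻¹)
      simp only [Finset.smul_sum, smul_mul', smul_inv_smul, inv_eq_one, apply_ite (h • ·), smul_algebraMap, smul_zero] at h1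
      rw [← h1]
      exact Finset.sum_congr rfl fun l _ => mul_comm _ _
    refine ⟨S, fun a => ?_, hflip⟩
    simp only [Algebra.smul_def, hT, Finset.sum_mul]
    rw [Finset.sum_comm, Finset.sum_eq_single (1 : H)]
    · simp only [one_smul, mul_assoc, ← Finset.mul_sum]
      have := hsum 1
      simp only [one_smul, if_pos] at this
      rw [this, mul_comm]
    · intro h _ hh
      simp only [smul_mul', mul_assoc, ← Finset.mul_sum]
      have : ∑ l ∈ S, h • l.1 * l.2 = 0 := by
        have := hflip h
        rw [if_neg hh] at this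
        rw [← this]
        exact Finset.sum_congr rfl fun l _ => mul_comm _ _
      rw [this, mul_zero]
    · simp
  obtain ⟨c, hc, hcq⟩ := hSol q hq hP
  obtain ⟨S, hS, -⟩ := hexp c hc
  exact ⟨c, S, fun l => T ∘ₗ LinearMap.mulRight R l.1, hcq, fun a => hS a⟩

theorem flat_of_scaled_retract {B : Type u} [CommRing B] {A : Type u} [CommRing A] [Algebra B A]
    (L : Type u) [CommRing L] [Algebra A L] [Algebra B L] [IsScalarTower B A L] [Module.Flat A L]
    (c : B) (hc : IsUnit (algebraMap B L c)) (S : Finset (A × A)) (α : A × A → (A →ₗ[B] B))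
    (h : ∀ a : A, c • a = ∑ l ∈ S, α l a • l.2) : Module.Flat B L := by
  rw [Module.Flat.iff_lTensor_preserves_injective_linearMap]
  intro N N' _ _ _ _ f hf
  let g : A ⊗[B] N →ₗ[A] A ⊗[B] N' := f.baseChange A
  have hker : ∀ z, g z = 0 → algebraMap B A c • z = 0 := by
    intro z hz
    have h1 : algebraMap B A c • z = ∑ l ∈ S, LinearMap.rTensor N ((LinearMap.toSpanSingleton B A l.2).comp (α l)) z := by
      clear hz
      induction z using TensorProduct.induction_on with
      | zero => simp
      | add x y hx hy => simp only [smul_add, map_add, Finset.sum_add_distrib, hx, hy]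
      | tmul a n =>
        rw [algebraMap_smul, smul_tmul', h, sum_tmul]
        simp [LinearMap.toSpanSingleton_apply]
    rw [h1]
    refine Finset.sum_eq_zero fun l _ => ?_
    rw [LinearMap.rTensor_comp_apply]
    have h2 : LinearMap.rTensor N (α l) z = 0 := by
      apply Module.Flat.lTensor_preserves_injective_linearMap (M := B) f hf
      rw [map_zero, ← LinearMap.comp_apply, LinearMap.lTensor_comp_rTensor, ← LinearMap.rTensor_comp_lTensor, LinearMap.comp_apply,
        show LinearMap.lTensor A f z = 0 from (show g z = LinearMap.lTensor A f z from rfl) ▸ hz, map_zero]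
    rw [h2, map_zero]
  have hginj : Function.Injective (g.lTensor L) := by
    rw [← LinearMap.ker_eq_bot, eq_bot_iff]
    intro w hw
    obtain ⟨w', rfl⟩ := (@Module.Flat.lTensor_exact A L _ _ _ _ (LinearMap.ker g) (A ⊗[B] N) (A ⊗[B] N') _ _ _ _ _ _ (LinearMap.ker g).subtype g (LinearMap.exact_subtype_ker_map g) w).1 hw
    obtain ⟨u, hu⟩ := hc
    suffices h0 : w' = 0 by rw [h0, map_zero]; exact zero_mem _
    induction w' using TensorProduct.induction_on with
    | zero => rfl
    | add x y hx hy =>
      have hz : ∀ t : L ⊗[A] LinearMap.ker g, t = 0 := fun t => by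
        induction t using TensorProduct.induction_on with
        | zero => rfl
        | add a b ha hb => rw [ha, hb, add_zero]
        | tmul l z =>
          rw [show l = algebraMap B A c • ((↑u⁻¹ : L) * l) by
            rw [algebraMap_smul, Algebra.smul_def, ← hu, ← mul_assoc, Units.mul_inv, one_mul],
            smul_tmul, show algebraMap B A c • z = 0 from Subtype.ext (hker z z.2), tmul_zero]
      rw [hz x, hz y, add_zero]
    | tmul l z =>
      rw [show l = algebraMap B A c • ((↑u⁻¹ : L) * l) by
        rw [algebraMap_smul, Algebra.smul_def, ← hu, ← mul_assoc, Units.mul_inv, one_mul],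
        smul_tmul, show algebraMap B A c • z = 0 from Subtype.ext (hker z z.2), tmul_zero]
  let e := fun (M : Type u) [AddCommGroup M] [Module B M] =>
    TensorProduct.AlgebraTensorModule.cancelBaseChange B A A L M
  have hcomm : ∀ w, e N' (g.lTensor L w) = f.lTensor L (e N w) := by
    intro w
    induction w using TensorProduct.induction_on with
    | zero => simp
    | add x y hx hy => simp only [map_add, hx, hy]
    | tmul l z =>
      induction z using TensorProduct.induction_on with
      | zero => simp
      | add x y hx hy => simp only [tmul_add, map_add, hx, hy]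
      | tmul a n => simp [e, g]
  intro x y hxy
  obtain ⟨x, rfl⟩ := (e N).surjective x
  obtain ⟨y, rfl⟩ := (e N).surjective y
  rw [← hcomm, ← hcomm] at hxy
  rw [hginj ((e N').injective hxy)]

theorem core {p : ℕ} [Fact p.Prime] {A : Type u} [CommRing A] [IsRegularLocalRing A]
    [IsAdicComplete (maximalIdeal A) A]
    {k : Type v} [Field k] [Algebra k A] (hk : Function.Surjective (residue A ∘ algebraMap k A))
    {G : Type w} [Group G] [Finite G] [MulSemiringAction G A]
    (hGk : ∀ (σ : G) (c : k), σ • algebraMap k A c = algebraMap k A c)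
    (hram : ∀ P : Ideal A, P.IsPrime → P ≠ maximalIdeal A → P.inertia G = ⊥)
    (P : Ideal (FixedPoints.subring A G)) [P.IsPrime] (hP : ¬ P.IsMaximal) :
    IsRegularLocalRing (Localization.AtPrime P) := by
  obtain ⟨hN, hF, -⟩ := CommAlg4.InvRing.exists_param (A := A) (G := G) hk hGk
  haveI := CommAlg4.InvRing.isLocalRing (A := A) (G := G)
  haveI : SMulCommClass G (FixedPoints.subring A G) A := ⟨fun g b a => by
    show g • ((b : A) * a) = (b : A) * g • a
    rw [smul_mul', b.2 g]⟩
  haveI : Algebra.IsIntegral (FixedPoints.subring A G) A := Algebra.IsIntegral.of_finite _ _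
  have hinj : Function.Injective (algebraMap (FixedPoints.subring A G) A) := Subtype.val_injective
  obtain ⟨c, S, α, hcP, hS⟩ := exists_scaled_retract (R := FixedPoints.subring A G) (A := A) (H := G) hinj
    (fun a ha => ⟨⟨a, ha⟩, rfl⟩) P inferInstance fun Q hQ hQP => hram Q hQ fun e => hP (by
      rw [← hQP, e]
      exact Ideal.isMaximal_comap_of_isIntegral_of_isMaximal _)
  obtain ⟨Q, -, hQ, hQP⟩ := Ideal.exists_ideal_over_prime_of_isIntegral P (⊥ : Ideal A) (by
    rw [← RingHom.ker_eq_comap_bot, (RingHom.injective_iff_ker_eq_bot _).1 hinj]; exact bot_le)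
  haveI : IsDomain A := CAlgH3.isDomain_of_isRegularLocalRing A
  haveI := CAlgH3.isRegularLocalRing_localization (R := A) Q
  let L := Localization.AtPrime Q
  have hcQ : algebraMap (FixedPoints.subring A G) A c ∈ Q.primeCompl := fun h => hcP (hQP ▸ h)
  have hcu : IsUnit (algebraMap (FixedPoints.subring A G) L c) := by
    rw [IsScalarTower.algebraMap_apply (FixedPoints.subring A G) A L]
    exact IsLocalization.map_units L ⟨_, hcQ⟩
  haveI : Module.Flat A L := IsLocalization.flat L Q.primeCompl
  have hflat : Module.Flat (FixedPoints.subring A G) L := flat_of_scaled_retract L c hcu S α hS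
  haveI : Q.LiesOver P := ⟨hQP.symm⟩
  letI := (Localization.localRingHom P Q (algebraMap (FixedPoints.subring A G) A) hQP.symm).toAlgebra
  haveI : IsScalarTower (FixedPoints.subring A G) (Localization.AtPrime P) L := IsScalarTower.of_algebraMap_eq fun b => by
    rw [RingHom.algebraMap_toAlgebra, Localization.localRingHom_to_map]
    exact IsScalarTower.algebraMap_apply (FixedPoints.subring A G) A L b
  haveI : Module.Flat (Localization.AtPrime P) L :=
    (Module.flat_iff_of_isLocalization (S := Localization.AtPrime P) P.primeCompl L).2 hflat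
  haveI : IsLocalHom (algebraMap (Localization.AtPrime P) L) := by
    rw [RingHom.algebraMap_toAlgebra]; infer_instance
  haveI : IsNoetherianRing (Localization.AtPrime P) := IsLocalization.isNoetherianRing P.primeCompl _ hN
  exact CAlgH3.isRegularLocalRing_of_flat L

/-- Let `A` be a complete regular local ring of Krull dimension at least `2` and prime characteristic
`p`, with maximal ideal `m`; let `k` be a field with a ring map `k → A` whose composite with `A →
A/m` is onto; let `G` be a group of order `p` acting on `A` by ring automorphisms fixing the image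
of `k` and ramified precisely at the origin (for every prime `P ≠ m`, the inertia subgroup of `P`,
i.e. the elements of `G` fixing every element modulo `P`, is trivial). Then the singular locus of
`Spec A^G` is contained in the closed point: for every non-maximal prime ideal `P` of the invariant
ring `A^G`, the localization `(A^G)_P` is a regular local ring. (The published statement also
asserts that the punctured spectrum of `A` is a `G`-torsor over the punctured spectrum of `A^G`;
this row omits that clause. Together with the non-regularity of `A^G` itself, the singular locus is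
exactly the closed point.) -/
theorem result
    (p : ℕ) [Fact p.Prime] (A : Type u) [CommRing A] [IsRegularLocalRing A] [CharP A p]
    [IsAdicComplete (IsLocalRing.maximalIdeal A) A] (hdim : 2 ≤ ringKrullDim A)
    (k : Type v) [Field k] [Algebra k A]
    (hk : Function.Surjective (IsLocalRing.residue A ∘ algebraMap k A))
    (G : Type w) [Group G] [Finite G] [MulSemiringAction G A] (hcard : Nat.card G = p)
    (hGk : ∀ (σ : G) (c : k), σ • algebraMap k A c = algebraMap k A c)
    (hram : ∀ P : Ideal A, P.IsPrime → P ≠ IsLocalRing.maximalIdeal A → P.inertia G = ⊥)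
    (P : Ideal (FixedPoints.subring A G)) [P.IsPrime] (hP : ¬ P.IsMaximal) :
    IsRegularLocalRing (Localization.AtPrime P) := by
  exact core (p := p) hk hGk hram P hP

end Groth.Agent.S19994
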