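import Groth.Statements.S19996
import Mathlib
import Groth.Prelude
import Groth.Agent.CommAlg4.PSAut

set_option linter.all false

set_option autoImplicit false
universe u
open WildQuot

open PowerSeries

namespace Groth.Agent.S19996

theorem lin_pow {k : Type u} [Field k] (σ : k⟦X⟧ ≃ₐ[k] k⟦X⟧) (n : ℕ) :
    (σ.toLinearMap : Module.End k k⟦X⟧) ^ n = ((σ ^ n).toLinearMap : Module.End k k⟦X⟧) := by
  induction n with
  | zero => rfl
  | succ n ih => rw [pow_succ, ih, pow_succ]; rfl

theorem delta_pow_p {k : Type u} [Field k] {p : ℕ} [Fact p.Prime] [CharP k p]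
    (σ : k⟦X⟧ ≃ₐ[k] k⟦X⟧) (hσp : σ ^ p = 1) :
    ((σ.toLinearMap : Module.End k k⟦X⟧) - 1) ^ p = 0 := by
  haveI : CharP (Module.End k k⟦X⟧) p := charP_of_injective_algebraMap (FaithfulSMul.algebraMap_injective k _) p
  rw [sub_pow_char_of_commute p (Commute.one_right _), lin_pow, hσp, one_pow]
  exact sub_self _

/-- Let `k` be a field of characteristic `p > 0`, `A = k[[u]]`, and `σ` a `k`-algebra automorphism of
`A` of order exactly `p` with ramification break `m`, i.e. `σ u - u` has order `m + 1`. Then `p`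
divides `m + 1` if and only if there are a uniformizer `s` of `A` (a power series of order `1`) and
a `σ`-invariant power series `a` with `σ s = s + a`. (The published statement has a third equivalent
condition, that `Spec A` is a torsor under the effective model of the action; this row omits it.) -/
theorem result
    (p : ℕ) [Fact p.Prime] (k : Type u) [Field k] [CharP k p]
    (σ : PowerSeries k ≃ₐ[k] PowerSeries k) (hσp : σ ^ p = 1) (hσ1 : σ ≠ 1)
    (m : ℕ) (hm : (σ PowerSeries.X - PowerSeries.X).order = ((m + 1 : ℕ) : ℕ∞)) :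
    p ∣ m + 1 ↔
      ∃ s a : PowerSeries k, s.order = 1 ∧ σ a = a ∧ σ s = s + a := by
  have hp := (Fact.out : p.Prime).two_le
  constructor
  · rintro ⟨l, hl⟩
    let T : Module.End k k⟦X⟧ := σ.toLinearMap - 1
    have step : ∀ t, t ≤ p - 2 → ∃ w, (T ^ t) (X ^ (p - 1)) = X ^ (p - 1 + t * m) * w ∧ constantCoeff w ≠ 0 := by
      intro t ht
      induction t with
      | zero => exact ⟨1, by simp, by simp⟩
      | succ t ih =>
        obtain ⟨w, hw, hw0⟩ := ih (by omega)
        have hnd : ¬ p ∣ p - 1 + t * m := fun h => by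
          have h1 : p ∣ (p - 1 + t * m) + (t + 1) := ⟨1 + t * l, by
            have : t * (m + 1) = t * (p * l) := by rw [hl]
            calc (p - 1 + t * m) + (t + 1) = p + t * (m + 1) := by rw [mul_add, mul_one]; omega
              _ = p * (1 + t * l) := by rw [this]; ring⟩
          exact Nat.not_dvd_of_pos_of_lt (Nat.succ_pos t) (by omega) ((Nat.dvd_add_right h).1 h1)
        obtain ⟨w', h1, h2⟩ := Groth.Agent.CommAlg4.PSAut.delta_of_not_dvd σ hσp hm _ hnd _ w hw hw0
        refine ⟨w', ?_, h2⟩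
        rw [pow_succ', Module.End.mul_apply, show p - 1 + (t + 1) * m = p - 1 + t * m + m by ring]
        exact h1
    obtain ⟨w, hw, hw0⟩ := step (p - 2) le_rfl
    obtain ⟨W, hW, hW0⟩ := Groth.Agent.CommAlg4.PSAut.norm_shape σ hσp
    set x := ∏ i ∈ Finset.range p, (σ ^ i) X with hx
    let e := (p - 2) * l
    have hexp : p - 1 + (p - 2) * m = p * e + 1 := by
      have : (p - 2) * (m + 1) = (p - 2) * (p * l) := by rw [hl]
      rw [mul_add, mul_one, mul_left_comm] at this
      simp only [e]; omega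
    obtain ⟨U, hU⟩ : IsUnit (W ^ e) := (isUnit_iff_constantCoeff.2 (by rw [hW0]; exact isUnit_one)).pow e
    let s : k⟦X⟧ := X * (w * (↑U⁻¹ : k⟦X⟧))
    have hs : (T ^ (p - 2)) (X ^ (p - 1)) = x ^ e * s := by
      rw [hw, hexp, hW, mul_pow, ← hU, ← pow_mul]
      calc X ^ (p * e + 1) * w = X ^ (p * e) * X * w * ((U : k⟦X⟧) * (↑U⁻¹ : k⟦X⟧)) := by rw [Units.mul_inv, mul_one, pow_succ]
        _ = _ := by simp only [s]; ring
    have hxe : σ (x ^ e) = x ^ e := by rw [map_pow, Groth.Agent.CommAlg4.PSAut.norm_fixed σ hσp]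
    have hfix : σ (T (x ^ e * s)) = T (x ^ e * s) := by
      have h0 := LinearMap.congr_fun (delta_pow_p σ hσp) (X ^ (p - 1))
      rw [show p = 1 + (1 + (p - 2)) by omega, pow_add, pow_add, pow_one, Module.End.mul_apply, Module.End.mul_apply] at h0
      rw [show 1 + (1 + (p - 2)) - 1 = p - 1 by omega, hs] at h0
      exact sub_eq_zero.1 h0
    have hxe0 : x ^ e ≠ 0 := pow_ne_zero _ (by
      rw [hW]; exact mul_ne_zero (pow_ne_zero _ X_ne_zero) (fun h => by rw [h, map_zero] at hW0; exact zero_ne_one hW0))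
    refine ⟨s, σ s - s, ?_, ?_, (add_sub_cancel _ _).symm⟩
    · have hc : constantCoeff (w * (↑U⁻¹ : k⟦X⟧)) ≠ 0 := by
        rw [map_mul]; exact mul_ne_zero hw0 (isUnit_iff_constantCoeff.1 (Units.isUnit _)).ne_zero
      simpa using Groth.Agent.CommAlg4.PSAut.order_X_pow_mul 1 _ hc |> fun h => (show s.order = _ by rw [pow_one] at h; exact h)
    · have h1 : T (x ^ e * s) = x ^ e * (σ s - s) := by
        show σ (x ^ e * s) - x ^ e * s = _
        rw [map_mul, hxe, mul_sub]
      rw [h1, map_mul, hxe] at hfix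
      exact mul_left_cancel₀ hxe0 hfix
  · rintro ⟨s, a, hs, ha, hsa⟩
    have hne : s ≠ 0 := fun h => by rw [h, order_zero] at hs; exact ENat.top_ne_coe 1 hs
    obtain ⟨w, hw, hw0⟩ := Groth.Agent.CommAlg4.PSAut.delta_of_not_dvd σ hσp hm 1 (by rw [Nat.dvd_one]; omega) s (divXPowOrder s)
      (by conv_lhs => rw [← X_pow_order_mul_divXPowOrder (f := s), hs]
          simp)
      (fun h => hne (constantCoeff_divXPowOrder_eq_zero_iff.1 h))
    rw [hsa, add_sub_cancel_left] at hw
    have := Groth.Agent.CommAlg4.PSAut.dvd_order_of_fixed σ hσp hm (1 + m) a (by rw [hw]; exact Groth.Agent.CommAlg4.PSAut.order_X_pow_mul _ w hw0) ha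
    rwa [add_comm] at this

end Groth.Agent.S19996
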