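import Groth.Statements.S19998
import Mathlib
import Groth.Prelude
import Groth.Agent.WildAS.Basic
import Groth.Agent.CommAlg4.ASAut

set_option linter.all false

set_option autoImplicit false
universe u
open WildQuot

open MvPolynomial

namespace Groth.Agent.S19998

theorem core {p : ℕ} [Fact p.Prime] {k : Type u} [Field k] [CharP k p] {n : ℕ}
    (a : Fin n → MvPowerSeries (Fin n) k)
    (ham : ∀ i, MvPowerSeries.constantCoeff (a i) = 0)
    (σ : Groth.Agent.WildAS.Alg p (fun i => a i ^ (p - 1)) (fun i => (MvPowerSeries.X i : MvPowerSeries (Fin n) k)) ≃ₐ[MvPowerSeries (Fin n) k] Groth.Agent.WildAS.Alg p (fun i => a i ^ (p - 1)) (fun i => (MvPowerSeries.X i : MvPowerSeries (Fin n) k)))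
    (hσ : ∀ i, σ (Groth.Agent.WildAS.gen p _ _ i) = Groth.Agent.WildAS.gen p _ _ i + algebraMap _ _ (a i)) :
    Ideal.span (Set.range fun t => σ t - t) ≤ Ideal.span (Set.range (Groth.Agent.WildAS.gen p (fun i => a i ^ (p - 1)) (fun i => (MvPowerSeries.X i : MvPowerSeries (Fin n) k)))) ^ p ∧
      Module.length (Groth.Agent.WildAS.Alg p (fun i => a i ^ (p - 1)) (fun i => (MvPowerSeries.X i : MvPowerSeries (Fin n) k)))
        (Groth.Agent.WildAS.Alg p (fun i => a i ^ (p - 1)) (fun i => (MvPowerSeries.X i : MvPowerSeries (Fin n) k)) ⧸ Ideal.span (Set.range fun t => σ t - t)) =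
        (p ^ n : ℕ∞) * Module.length (MvPowerSeries (Fin n) k) (MvPowerSeries (Fin n) k ⧸ Ideal.span (Set.range a)) := by
  let x : Fin n → (MvPowerSeries (Fin n) k) := fun i => MvPowerSeries.X i
  let c : Fin n → (MvPowerSeries (Fin n) k) := fun i => a i ^ (p - 1)
  have hp := (Fact.out : p.Prime).two_le
  have hc : ∀ i, MvPowerSeries.constantCoeff (c i) = 0 := fun i => by
    simp only [c, map_pow, ham, zero_pow (show p - 1 ≠ 0 by omega)]
  haveI : IsLocalRing (Groth.Agent.WildAS.Alg p (fun i => a i ^ (p - 1)) (fun i => (MvPowerSeries.X i : MvPowerSeries (Fin n) k))) := Groth.Agent.WildAS.isLocalRing c hp hc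
  haveI : Module.Finite (MvPowerSeries (Fin n) k) (Groth.Agent.WildAS.Alg p (fun i => a i ^ (p - 1)) (fun i => (MvPowerSeries.X i : MvPowerSeries (Fin n) k))) := Groth.Agent.WildAS.finite c x hp
  haveI : IsNoetherianRing (MvPowerSeries (Fin n) k) := Groth.Agent.WildAS.isNoetherianRing_base
  haveI : IsNoetherianRing (Groth.Agent.WildAS.Alg p (fun i => a i ^ (p - 1)) (fun i => (MvPowerSeries.X i : MvPowerSeries (Fin n) k))) := IsNoetherianRing.of_finite (MvPowerSeries (Fin n) k) (Groth.Agent.WildAS.Alg p (fun i => a i ^ (p - 1)) (fun i => (MvPowerSeries.X i : MvPowerSeries (Fin n) k)))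
  have hmax : IsLocalRing.maximalIdeal (Groth.Agent.WildAS.Alg p (fun i => a i ^ (p - 1)) (fun i => (MvPowerSeries.X i : MvPowerSeries (Fin n) k))) = Ideal.span (Set.range (Groth.Agent.WildAS.gen p (fun i => a i ^ (p - 1)) (fun i => (MvPowerSeries.X i : MvPowerSeries (Fin n) k)))) :=
    (IsLocalRing.eq_maximalIdeal (Groth.Agent.WildAS.span_gen_isMaximal c hp hc)).symm
  set K : Ideal (Groth.Agent.WildAS.Alg p (fun i => a i ^ (p - 1)) (fun i => (MvPowerSeries.X i : MvPowerSeries (Fin n) k))) := (Ideal.span (Set.range a)).map (algebraMap (MvPowerSeries (Fin n) k) (Groth.Agent.WildAS.Alg p (fun i => a i ^ (p - 1)) (fun i => (MvPowerSeries.X i : MvPowerSeries (Fin n) k)))) with hK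
  have hI : Ideal.span (Set.range fun t : (Groth.Agent.WildAS.Alg p (fun i => a i ^ (p - 1)) (fun i => (MvPowerSeries.X i : MvPowerSeries (Fin n) k))) => σ t - t) = K := by
    refine le_antisymm (Ideal.span_le.2 ?_) ?_
    · rintro _ ⟨t, rfl⟩
      refine (Ideal.Quotient.eq).1 ?_
      have h2 : (Ideal.Quotient.mkₐ (MvPowerSeries (Fin n) k) K).comp σ.toAlgHom = Ideal.Quotient.mkₐ (MvPowerSeries (Fin n) k) K :=
        Ideal.Quotient.algHom_ext _ (MvPolynomial.algHom_ext fun i => by
          show Ideal.Quotient.mk K (σ ((Groth.Agent.WildAS.gen p (fun i => a i ^ (p - 1)) (fun i => (MvPowerSeries.X i : MvPowerSeries (Fin n) k))) i)) = Ideal.Quotient.mk K ((Groth.Agent.WildAS.gen p (fun i => a i ^ (p - 1)) (fun i => (MvPowerSeries.X i : MvPowerSeries (Fin n) k))) i)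
          rw [hσ, map_add, add_eq_left, Ideal.Quotient.eq_zero_iff_mem]
          exact Ideal.mem_map_of_mem _ (Ideal.subset_span ⟨i, rfl⟩))
      exact AlgHom.congr_fun h2 t
    · rw [hK, Ideal.map_span, Ideal.span_le]
      rintro _ ⟨_, ⟨i, rfl⟩, rfl⟩
      exact Ideal.subset_span ⟨(Groth.Agent.WildAS.gen p (fun i => a i ^ (p - 1)) (fun i => (MvPowerSeries.X i : MvPowerSeries (Fin n) k))) i, by simp [hσ]⟩
  have hu : ∀ i, (Groth.Agent.WildAS.gen p (fun i => a i ^ (p - 1)) (fun i => (MvPowerSeries.X i : MvPowerSeries (Fin n) k))) i ∈ IsLocalRing.maximalIdeal (Groth.Agent.WildAS.Alg p (fun i => a i ^ (p - 1)) (fun i => (MvPowerSeries.X i : MvPowerSeries (Fin n) k))) := fun i => hmax ▸ Ideal.subset_span ⟨i, rfl⟩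
  have hxm : ∀ i, algebraMap (MvPowerSeries (Fin n) k) (Groth.Agent.WildAS.Alg p (fun i => a i ^ (p - 1)) (fun i => (MvPowerSeries.X i : MvPowerSeries (Fin n) k))) (x i) = (Groth.Agent.WildAS.gen p (fun i => a i ^ (p - 1)) (fun i => (MvPowerSeries.X i : MvPowerSeries (Fin n) k))) i ^ p - algebraMap (MvPowerSeries (Fin n) k) (Groth.Agent.WildAS.Alg p (fun i => a i ^ (p - 1)) (fun i => (MvPowerSeries.X i : MvPowerSeries (Fin n) k))) (c i) * (Groth.Agent.WildAS.gen p (fun i => a i ^ (p - 1)) (fun i => (MvPowerSeries.X i : MvPowerSeries (Fin n) k))) i := fun i => by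
    rw [eq_sub_iff_add_eq, add_comm]; exact (Groth.Agent.WildAS.gen_pow p c x i).symm
  set J : Ideal (Groth.Agent.WildAS.Alg p (fun i => a i ^ (p - 1)) (fun i => (MvPowerSeries.X i : MvPowerSeries (Fin n) k))) := (IsLocalRing.maximalIdeal (MvPowerSeries (Fin n) k)).map (algebraMap (MvPowerSeries (Fin n) k) (Groth.Agent.WildAS.Alg p (fun i => a i ^ (p - 1)) (fun i => (MvPowerSeries.X i : MvPowerSeries (Fin n) k)))) with hJ
  have hJN : J ≤ Ideal.span (Set.range (Groth.Agent.WildAS.gen p (fun i => a i ^ (p - 1)) (fun i => (MvPowerSeries.X i : MvPowerSeries (Fin n) k)))) ^ p := by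
    refine Submodule.le_of_le_smul_of_le_jacobson_bot (I := IsLocalRing.maximalIdeal (Groth.Agent.WildAS.Alg p (fun i => a i ^ (p - 1)) (fun i => (MvPowerSeries.X i : MvPowerSeries (Fin n) k)))) (IsNoetherian.noetherian _)
      (IsLocalRing.maximalIdeal_le_jacobson (⊥ : Ideal (Groth.Agent.WildAS.Alg p (fun i => a i ^ (p - 1)) (fun i => (MvPowerSeries.X i : MvPowerSeries (Fin n) k))))) ?_
    rw [hJ, Groth.Agent.CAlgH3.maximalIdeal_mvPowerSeries_eq, Ideal.map_span, Ideal.span_le]
    rintro _ ⟨_, ⟨i, rfl⟩, rfl⟩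
    rw [← Ideal.map_span, ← Groth.Agent.CAlgH3.maximalIdeal_mvPowerSeries_eq, ← hJ, smul_eq_mul]
    show algebraMap (MvPowerSeries (Fin n) k) (Groth.Agent.WildAS.Alg p (fun i => a i ^ (p - 1)) (fun i => (MvPowerSeries.X i : MvPowerSeries (Fin n) k))) (x i) ∈ _
    rw [hxm]
    refine sub_mem (Submodule.mem_sup_left (Ideal.pow_mem_pow (Ideal.subset_span (Set.mem_range_self i)) p)) (Submodule.mem_sup_right ?_)
    rw [mul_comm (algebraMap (MvPowerSeries (Fin n) k) (Groth.Agent.WildAS.Alg p (fun i => a i ^ (p - 1)) (fun i => (MvPowerSeries.X i : MvPowerSeries (Fin n) k))) (c i))]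
    refine Ideal.mul_mem_mul (hu i) (Ideal.mem_map_of_mem _ ?_)
    rw [IsLocalRing.mem_maximalIdeal, mem_nonunits_iff, MvPowerSeries.isUnit_iff_constantCoeff, hc]
    exact not_isUnit_zero
  have hKJ : K ≤ J := Ideal.map_mono (Ideal.span_le.2 (by
    rintro _ ⟨i, rfl⟩
    rw [SetLike.mem_coe, IsLocalRing.mem_maximalIdeal, mem_nonunits_iff, MvPowerSeries.isUnit_iff_constantCoeff, ham]
    exact not_isUnit_zero))
  have hJm : J ≤ IsLocalRing.maximalIdeal (Groth.Agent.WildAS.Alg p (fun i => a i ^ (p - 1)) (fun i => (MvPowerSeries.X i : MvPowerSeries (Fin n) k))) := hmax ▸ hJN.trans (Ideal.pow_le_self (by omega))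
  haveI : IsLocalHom (algebraMap (MvPowerSeries (Fin n) k) (Groth.Agent.WildAS.Alg p (fun i => a i ^ (p - 1)) (fun i => (MvPowerSeries.X i : MvPowerSeries (Fin n) k)))) := ⟨fun r hr => by
    by_contra h
    exact (IsLocalRing.mem_maximalIdeal _).1 (hJm (Ideal.mem_map_of_mem _ ((IsLocalRing.mem_maximalIdeal _).2 h))) hr⟩
  rw [hI]
  refine ⟨hKJ.trans hJN, ?_⟩
  have hres : Function.Surjective (algebraMap (IsLocalRing.ResidueField (MvPowerSeries (Fin n) k)) (IsLocalRing.ResidueField (Groth.Agent.WildAS.Alg p (fun i => a i ^ (p - 1)) (fun i => (MvPowerSeries.X i : MvPowerSeries (Fin n) k))))) := by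
    intro y
    obtain ⟨z, rfl⟩ := IsLocalRing.residue_surjective y
    obtain ⟨r, hr⟩ := Groth.Agent.WildAS.exists_sub_mem_span c x hp z
    refine ⟨IsLocalRing.residue (MvPowerSeries (Fin n) k) r, ?_⟩
    rw [IsLocalRing.ResidueField.algebraMap_residue]
    refine (Ideal.Quotient.eq.2 ?_).symm
    rw [hmax]; exact hr
  have h1 : Module.length (IsLocalRing.ResidueField (MvPowerSeries (Fin n) k)) (IsLocalRing.ResidueField (Groth.Agent.WildAS.Alg p (fun i => a i ^ (p - 1)) (fun i => (MvPowerSeries.X i : MvPowerSeries (Fin n) k)))) = 1 := by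
    rw [← (LinearEquiv.ofBijective (Algebra.linearMap (IsLocalRing.ResidueField (MvPowerSeries (Fin n) k)) (IsLocalRing.ResidueField (Groth.Agent.WildAS.Alg p (fun i => a i ^ (p - 1)) (fun i => (MvPowerSeries.X i : MvPowerSeries (Fin n) k)))))
      ⟨RingHom.injective _, hres⟩).length_eq, Module.length_eq_one]
  have h2 := IsLocalRing.length_restrictScalars (MvPowerSeries (Fin n) k) (Groth.Agent.WildAS.Alg p (fun i => a i ^ (p - 1)) (fun i => (MvPowerSeries.X i : MvPowerSeries (Fin n) k))) ((Groth.Agent.WildAS.Alg p (fun i => a i ^ (p - 1)) (fun i => (MvPowerSeries.X i : MvPowerSeries (Fin n) k))) ⧸ K)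
  rw [h1, mul_one] at h2
  rw [← h2]
  let e := (Algebra.TensorProduct.quotIdealMapEquivTensorQuot (Groth.Agent.WildAS.Alg p (fun i => a i ^ (p - 1)) (fun i => (MvPowerSeries.X i : MvPowerSeries (Fin n) k))) (Ideal.span (Set.range a))).toLinearEquiv.restrictScalars (MvPowerSeries (Fin n) k)
  rw [hK, e.length_eq, (TensorProduct.equivFinsuppOfBasisLeft (N := (MvPowerSeries (Fin n) k) ⧸ Ideal.span (Set.range a)) (Groth.Agent.WildAS.basis c x hp)).length_eq,
    Module.length_finsupp]
  congr 1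
  simp [ENat.card_eq_coe_fintype_card]

open MvPolynomial in
/-- Let `k` be a field of characteristic `p > 0`, `n ≥ 2`, `R = k[[x_1, …, x_n]]`, `a_1, …, a_n ∈ R`
with zero constant term, `A = R[u_1, …, u_n] / (u_i ^ p - a_i ^ (p-1) u_i - x_i : i = 1..n)`, and
`σ` the `R`-algebra automorphism of `A` with `σ u_i = u_i + a_i` for every `i` (when some `a_i` is
non-zero it generates a group `G` of order `p`). Let `I ⊆ A` be the ideal generated by the elements
`σ t - t`, `t ∈ A`, which defines the fixed-point scheme of `G`. Then `I ⊆ (u_1, …, u_n) ^ p` (the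
`p`-th power of the maximal ideal of `A`), and the length of `A / I` over `A` equals `p ^ n` times
the length of `R / (a_1, …, a_n)` over `R`; in particular it is a multiple of `p ^ n`. (The
published statement is for an arbitrary moderately ramified action, which has this normal form with
`a_1, …, a_n` a system of parameters of `R`, and records only divisibility by `p ^ n`; here the
`a_i` are arbitrary non-units, both lengths being infinite when `(a_1, …, a_n)` is not primary to
the maximal ideal of `R`.) -/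
theorem result
    (p : ℕ) [Fact p.Prime] (k : Type u) [Field k] [CharP k p] (n : ℕ) (hn : 2 ≤ n)
    (a : Fin n → MvPowerSeries (Fin n) k)
    (ham : ∀ i, MvPowerSeries.constantCoeff (a i) = 0) :
    let R := MvPowerSeries (Fin n) k
    let I : Ideal (MvPolynomial (Fin n) R) :=
      Ideal.span (Set.range fun i : Fin n =>
        X i ^ p - C (a i ^ (p - 1)) * X i - C (MvPowerSeries.X i))
    let A := MvPolynomial (Fin n) R ⧸ I
    let u : Fin n → A := fun i => Ideal.Quotient.mk I (X i)
    ∀ σ : A ≃ₐ[R] A, (∀ i, σ (u i) = u i + algebraMap R A (a i)) →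
      Ideal.span (Set.range fun t : A => σ t - t) ≤ Ideal.span (Set.range u) ^ p ∧
        Module.length A (A ⧸ Ideal.span (Set.range fun t : A => σ t - t)) =
          (p ^ n : ℕ∞) * Module.length R (R ⧸ Ideal.span (Set.range a)) := by
  intro R I A u σ hσ
  exact core a ham σ hσ

end Groth.Agent.S19998
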