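import Groth.Statements.S2000
import Groth.Agent.HenselLib.BLModule

set_option autoImplicit false
universe u
open TensorProduct
open EtAlg

namespace Groth.Agent.S2000

/-- Beauville–Laszlo, essential surjectivity with glueability: take a glueing pair (R -> R', f). Fix an
R'-module M', an R-module M₁ on which multiplication by f is bijective (i.e. an R_f-module), and α
an R'-linear isomorphism from the localization of M' at f to R' ⊗_R M₁ (an isomorphism of
R'_f-modules). Then there is an R-module M, glueable for (R -> R', f), with an R'-isomorphism R' ⊗_R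
M ≅ M' and an R-isomorphism M_f ≅ M₁ under which α becomes the canonical identification (R' ⊗_R M)_f
= R' ⊗_R M_f. -/
theorem result (R R' : Type u) [CommRing R] [CommRing R'] [Algebra R R'] (f : R)
    (hRR : EtGlue.IsGlueingPair R R' f) (M' : Type u) [AddCommGroup M'] [Module R' M'] (M₁ : Type u) [AddCommGroup M₁]
    [Module R M₁] (hf : Function.Bijective fun x : M₁ => f • x)
    (α : LocalizedModule (Submonoid.powers (algebraMap R R' f)) M' ≃ₗ[R'] R' ⊗[R] M₁) :
    ∃ (M : Type u) (_ : AddCommGroup M) (_ : Module R M) (_ : EtGlue.IsGlueable R R' f M)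
      (e' : R' ⊗[R] M ≃ₗ[R'] M') (e₁ : LocalizedModule (Submonoid.powers f) M ≃ₗ[R] M₁),
      ∀ m : M, α (LocalizedModule.mkLinearMap (Submonoid.powers (algebraMap R R' f)) M' (e' ((1 : R') ⊗ₜ[R] m))) =
        (1 : R') ⊗ₜ[R] e₁ (LocalizedModule.mkLinearMap (Submonoid.powers f) M m) := by
  letI : Module R M' := Module.compHom M' (algebraMap R R')
  haveI : IsScalarTower R R' M' := IsScalarTower.of_algebraMap_smul fun r x => rfl
  let mk := LocalizedModule.mkLinearMap (Submonoid.powers (algebraMap R R' f)) M'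
  let η : M' →ₗ[R'] R' ⊗[R] M₁ := α.toLinearMap ∘ₗ mk
  have hker : ∀ x : M', η x = 0 → HenselLib.BL.IsTors f x := by
    intro x hx
    have h0 : mk x = 0 := α.injective (hx.trans (map_zero α).symm)
    obtain ⟨n, hn⟩ := (HenselLib.BL.mk_eq_zero_iff x).mp h0
    exact ⟨n, by rw [← IsScalarTower.algebraMap_smul R' (f ^ n) x, map_pow]; exact hn⟩
  have hsurj : ∀ z : R' ⊗[R] M₁, ∃ (n : ℕ) (x : M'), η x = f ^ n • z := by
    intro z
    obtain ⟨x, n, hx⟩ := HenselLib.BL.exists_mk' (α.symm z)
    refine ⟨n, x, ?_⟩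
    rw [IsLocalizedModule.mk'_eq_iff, Submonoid.smul_def] at hx
    change α (mk x) = _
    rw [show mk x = algebraMap R R' f ^ n • α.symm z from hx, map_smul, α.apply_symm_apply,
      ← map_pow, IsScalarTower.algebraMap_smul]
  haveI := HenselLib.BL.isLocalizedModule_gluedSnd η hf hker hsurj
  refine ⟨HenselLib.BL.glued η, inferInstance, inferInstance,
    HenselLib.BL.isGlueable_glued η hf hker hsurj hRR,
    LinearEquiv.ofBijective _ ⟨HenselLib.BL.injective_liftBaseChange_gluedFst η hf hker hsurj hRR,
      HenselLib.BL.surjective_liftBaseChange_gluedFst η hf hsurj hRR⟩,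
    IsLocalizedModule.iso (Submonoid.powers f) (HenselLib.BL.gluedSnd η), fun m => ?_⟩
  change α (mk ((HenselLib.BL.gluedFst η).liftBaseChange R' (1 ⊗ₜ m))) = _
  rw [LinearMap.liftBaseChange_tmul, one_smul,
    LocalizedModule.mkLinearMap_apply _ _ m, IsLocalizedModule.iso_mk_one]
  exact (HenselLib.BL.mem_glued η).mp m.2

end Groth.Agent.S2000
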