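import Groth.Statements.S20003
import Groth.Agent.S16381
import Groth.Agent.FMK16.DualGV

set_option autoImplicit false
set_option backward.isDefEq.respectTransparency false
set_option backward.defeqAttrib.useBackward true
set_option linter.style.haveILetI false
set_option synthInstance.maxHeartbeats 100000
set_option backward.isDefEq.respectTransparency.types false
universe u
open CategoryTheory CategoryTheory.Limits AlgebraicGeometry
attribute [local instance] HasDerivedCategory.standard
open FMK Groth.Agent.DCat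

namespace Groth.Agent.S20003

/-- Let k be an algebraically closed field, X and Y proper schemes over k with structure morphisms a and
b, X with Cohen–Macaulay local rings and equidimensional of dimension d, Y with Gorenstein local
rings. Let Ra_* on D_QCoh have the right adjoint a^× (given as data with its adjunction), O an
object of D_QCoh(Spec k) isomorphic to the structure sheaf in degree 0, and ω_X = H^{−d}(a^×O) the
dualizing module of X; write RΔ(F) = RHom(F, ω_X). Let P be a cochain complex of modules on X ×_k Y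
defining a perfect object and P' a cochain complex representing its derived dual RHom(P, O_{X×Y});
for a kernel K write Φ_K = Rpr_{Y,*}(Lpr_X^*(−) ⊗^L K) and R^iΦ_K = H^i ∘ Φ_K, the derived functors
involved being assumed to exist. Let F be a cochain complex of O_X-modules defining a perfect object
which is GV with respect to P: R^iΦ_P F = 0 for i < 0 and, for i ≥ 0, the local ring of Y at every
point of the support of R^iΦ_P F has dimension ≥ i. Suppose that Φ_{P'}(RΔ F)[d] is isomorphic in
D(O_Y) to a coherent O_Y-module G placed in degree 0 whose stalks are torsion-free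
(non-zero-divisors of O_{Y,y} act injectively on G_y for every y). Then F is M-regular with respect
to P: for every i > 0, the local ring of Y at every point of the support of R^iΦ_P F has dimension ≥
i + 1. (The published statement asserts the equivalence of M-regularity with this torsion-freeness
and with an injectivity condition on a natural map; this row is the implication from
torsion-freeness, and takes the sheaf G as given rather than deducing that the transform is a sheaf.
The published statement takes X and Y projective over k; this row takes them proper, the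
first-syzygy step being local on Y.) -/
theorem result (k : Type u) [Field k] [IsAlgClosed k]
    (X Y : Scheme.{u}) (a : X ⟶ Spec (CommRingCat.of k)) (b : Y ⟶ Spec (CommRingCat.of k)) [IsProper a] [IsProper b]
    (hXcm : ∀ x : ↥X, LocCoh.IsCohenMacaulayLocalRing ↑(X.presheaf.stalk x))
    (hYg : ∀ y : ↥Y, LocCoh.IsGorensteinLocalRing ↑(Y.presheaf.stalk y))
    (d : ℕ) (hd : topologicalKrullDim ↥X = (d : WithBot ℕ∞))
    (hXeq : ∀ Z ∈ irreducibleComponents ↥X, topologicalKrullDim ↥Z = (d : WithBot ℕ∞))
    [DCoh.HasRpush a] (ha : DCoh.RpushPreservesQCoh a)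
    (adx : DCoh.DQCoh (Spec (CommRingCat.of k)) ⥤ DCoh.DQCoh X) (adj : DCoh.RpushQ a ha ⊣ adx)
    (O : DCoh.DQCoh (Spec (CommRingCat.of k)))
    (hO : Nonempty (O.obj ≅ DCoh.inD (Spec (CommRingCat.of k)) (Coh.structureModule (Spec (CommRingCat.of k)))))
    (P : CochainComplex (pullback a b).Modules ℤ) (hP : DCoh.IsPerfect (DCoh.toD (pullback a b) P))
    [DCoh.HasLpull (pullback.fst a b)] [DCoh.HasLTensorCx P] [DCoh.HasRSheafHom P] [DCoh.HasRpush (pullback.snd a b)]
    (P' : CochainComplex (pullback a b).Modules ℤ) [DCoh.HasLTensorCx P']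
    (hP' : Nonempty (DCoh.toD (pullback a b) P' ≅
      (DCoh.RSheafHom P).obj (DCoh.inD (pullback a b) (Coh.structureModule (pullback a b)))))
    (F : CochainComplex X.Modules ℤ) (hF : DCoh.IsPerfect (DCoh.toD X F)) [DCoh.HasLTensorCx F] [DCoh.HasRSheafHom F]
    (hGVneg : ∀ i : ℤ, i < 0 → IsZero (DCoh.HD ((FMK.phi a b P).obj (DCoh.toD X F)) i))
    (hGV : ∀ (i : ℕ) (y : ↥Y), y ∈ CohB1.support (DCoh.HD ((FMK.phi a b P).obj (DCoh.toD X F)) (i : ℤ)) →
      ((i : ℕ) : WithBot ℕ∞) ≤ ringKrullDim ↑(Y.presheaf.stalk y))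
    (G : Y.Modules) (hGc : Coh.IsCoh G)
    (hG : Nonempty (DCoh.inD Y G ≅ (shiftFunctor (DCoh.D Y) (d : ℤ)).obj ((FMK.phi a b P').obj
      ((DCoh.RSheafHom F).obj (DCoh.inD X (DCoh.HD (adx.obj O).obj (-(d : ℤ))))))))
    (htf : ∀ (y : ↥Y) (r : ↑(Y.presheaf.stalk y)), r ∈ nonZeroDivisors ↑(Y.presheaf.stalk y) →
      ∀ m : ↑(G.presheaf.stalk y), r • m = 0 → m = 0)
    (i : ℕ) (hi : 0 < i) (y : ↥Y)
    (hy : y ∈ CohB1.support (DCoh.HD ((FMK.phi a b P).obj (DCoh.toD X F)) (i : ℤ))) :
    ((i + 1 : ℕ) : WithBot ℕ∞) ≤ ringKrullDim ↑(Y.presheaf.stalk y) := by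
  have hYcm : ∀ y : ↥Y, LocCoh.IsCohenMacaulayLocalRing ↑(Y.presheaf.stalk y) := fun y => by
    haveI := hYg y
    exact Groth.Agent.LocCoh.isCohenMacaulayLocalRing_of_gorenstein
  haveI : Flat a := inferInstance
  haveI : IsLocallyNoetherian Y := LocallyOfFiniteType.isLocallyNoetherian b
  haveI : ∀ y : ↥Y, DCoh.HasLpull (Y.fromSpecResidueField y) := fun y => DCat.hasLpull _
  let E := (FMK.phi a b P).obj (DCoh.toD X F)
  have hE : DCoh.IsPerfect E := (FMK16.isPerfect_phi k a b P hP _ hF).2
  obtain ⟨K, hKf, ⟨eK⟩⟩ := PullPerf.exists_kflat_rep E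
  haveI := LTensorSheaf.hasLTensorCx K
  haveI := RHomExist.hasRSheafHom K
  have hKp : DCoh.IsPerfect (DerivedCategory.Q.obj K) := PCTriangle.perfect_iso eK.symm hE
  let M := (DCoh.RSheafHom F).obj (DCoh.inD X (DCoh.HD (adx.obj O).obj (-(d : ℤ))))
  obtain ⟨c₀⟩ := S16381.result k X Y a b hXcm hYcm d hd hXeq ha adx adj O hO P hP P' hP' F hF K ⟨eK⟩
  obtain ⟨c₁⟩ := FMK16.nonempty_phi_shift k a b P' M (d : ℤ)
  obtain ⟨cG⟩ := hG
  let c := c₀ ≪≫ c₁ ≪≫ cG.symm
  obtain ⟨δ, hδ⟩ := FMK16.exists_dim (R := ↑(Y.presheaf.stalk y))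
  rw [hδ]
  by_contra hlt
  have hlt' : δ ≤ i := by
    by_contra h
    exact hlt (by exact_mod_cast Nat.succ_le_of_lt (Nat.lt_of_not_le h))
  refine hy (FMK16.subsingleton_stalk_of_iso
    ((DerivedCategory.homologyFunctor Y.Modules (i : ℤ)).mapIso eK) y ?_)
  exact FMK16.subsingleton_stalk_of_dual_torsionFree K hKf hKp G c y (htf y) (hYcm y) δ hδ i
    (by omega) (by omega)

end Groth.Agent.S20003
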