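import Groth.Statements.S20006
import Groth.Agent.S15954
import Groth.Agent.PinchSqLib.CohFlat
import Mathlib.AlgebraicGeometry.Morphisms.Flat
import Mathlib.AlgebraicGeometry.Morphisms.Proper
-- import your own Groth.Agent.* helpers here

set_option autoImplicit false
set_option backward.isDefEq.respectTransparency.types false
universe u
open Pinch

namespace Groth.Agent.S20006

section Helpers

open CategoryTheory AlgebraicGeometry Limits TensorProduct

theorem toSpecΓ_comp_injective (T : Scheme.{u}) {R : CommRingCat.{u}} {φ ψ : R ⟶ Γ(T, ⊤)}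
    (h : T.toSpecΓ ≫ Spec.map φ = T.toSpecΓ ≫ Spec.map ψ) : φ = ψ := by
  have h' := congrArg Scheme.Hom.appTop h
  simp only [Scheme.Hom.comp_appTop, Scheme.toSpecΓ_appTop, Scheme.ΓSpecIso_naturality] at h'
  exact (cancel_epi _).mp h'

theorem hom_ext_Γ {X T Z P : Scheme.{u}} {i : Z ⟶ X} {j : Z ⟶ T} {a : X ⟶ P} {b : T ⟶ P}
    (h : IsPushout i j a b) {R : CommRingCat.{u}} {φ ψ : R ⟶ Γ(P, ⊤)}
    (hX : φ ≫ a.appTop = ψ ≫ a.appTop) (hY : φ ≫ b.appTop = ψ ≫ b.appTop) : φ = ψ := by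
  refine toSpecΓ_comp_injective _ (h.hom_ext ?_ ?_)
  · rw [Scheme.toSpecΓ_naturality_assoc, Scheme.toSpecΓ_naturality_assoc, ← Spec.map_comp,
      ← Spec.map_comp, hX]
  · rw [Scheme.toSpecΓ_naturality_assoc, Scheme.toSpecΓ_naturality_assoc, ← Spec.map_comp,
      ← Spec.map_comp, hY]

theorem exists_desc_Γ {X T Z P : Scheme.{u}} {i : Z ⟶ X} {j : Z ⟶ T} {a : X ⟶ P} {b : T ⟶ P}
    (h : IsPushout i j a b) {R : CommRingCat.{u}} (φX : R ⟶ Γ(X, ⊤)) (φY : R ⟶ Γ(T, ⊤))
    (hφ : φX ≫ i.appTop = φY ≫ j.appTop) :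
    ∃ φ : R ⟶ Γ(P, ⊤), φ ≫ a.appTop = φX ∧ φ ≫ b.appTop = φY := by
  have hw : i ≫ X.toSpecΓ ≫ Spec.map φX = j ≫ T.toSpecΓ ≫ Spec.map φY := by
    rw [Scheme.toSpecΓ_naturality_assoc, Scheme.toSpecΓ_naturality_assoc, ← Spec.map_comp,
      ← Spec.map_comp, hφ]
  refine ⟨(Scheme.ΓSpecIso R).inv ≫ (h.desc _ _ hw).appTop, ?_, ?_⟩
  · rw [Category.assoc, ← Scheme.Hom.comp_appTop, h.inl_desc, Scheme.Hom.comp_appTop,
      Scheme.toSpecΓ_appTop, Scheme.ΓSpecIso_naturality, Iso.inv_hom_id_assoc]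
  · rw [Category.assoc, ← Scheme.Hom.comp_appTop, h.inr_desc, Scheme.Hom.comp_appTop,
      Scheme.toSpecΓ_appTop, Scheme.ΓSpecIso_naturality, Iso.inv_hom_id_assoc]

theorem eq_of_pushout {X T Z P : Scheme.{u}} {i : Z ⟶ X} {j : Z ⟶ T} {a : X ⟶ P} {b : T ⟶ P}
    (h : IsPushout i j a b) (s s' : Γ(P, ⊤)) (hX : a.appTop s = a.appTop s')
    (hY : b.appTop s = b.appTop s') : s = s' := by
  let ev : Γ(P, ⊤) → (CommRingCat.of (Polynomial (ULift.{u} ℤ)) ⟶ Γ(P, ⊤)) := fun v =>
    CommRingCat.ofHom (Polynomial.eval₂RingHom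
      ((Int.castRingHom Γ(P, ⊤)).comp ULift.ringEquiv.toRingHom) v)
  have hu : ∀ {S : Type u} [CommRing S] (f g : ULift.{u} ℤ →+* S), f = g := fun f g => by
    have e : f.comp ULift.ringEquiv.symm.toRingHom = g.comp ULift.ringEquiv.symm.toRingHom :=
      RingHom.ext_int _ _
    exact RingHom.ext fun n => RingHom.congr_fun e n.down
  have he : ∀ {S : CommRingCat.{u}} (k : Γ(P, ⊤) ⟶ S), k s = k s' → ev s ≫ k = ev s' ≫ k := fun k hk => by
    apply CommRingCat.hom_ext
    refine Polynomial.ringHom_ext (fun n => RingHom.congr_fun (hu ((ev s ≫ k).hom.comp Polynomial.C)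
      ((ev s' ≫ k).hom.comp Polynomial.C)) n) ?_
    simpa [ev] using hk
  have := congrArg (fun q : _ ⟶ Γ(P, ⊤) => q Polynomial.X)
    (hom_ext_Γ h (he a.appTop hX) (he b.appTop hY))
  simpa [ev] using this

theorem exists_of_pushout {X T Z P : Scheme.{u}} {i : Z ⟶ X} {j : Z ⟶ T} {a : X ⟶ P} {b : T ⟶ P}
    (h : IsPushout i j a b) (x : Γ(X, ⊤)) (y : Γ(T, ⊤)) (hxy : i.appTop x = j.appTop y) :
    ∃ s : Γ(P, ⊤), a.appTop s = x ∧ b.appTop s = y := by
  let C := RingHom.eqLocus (i.appTop.hom.comp (RingHom.fst Γ(X, ⊤) Γ(T, ⊤)))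
    (j.appTop.hom.comp (RingHom.snd Γ(X, ⊤) Γ(T, ⊤)))
  obtain ⟨φ, hφX, hφY⟩ := exists_desc_Γ h (R := CommRingCat.of C)
    (CommRingCat.ofHom ((RingHom.fst _ _).comp C.subtype))
    (CommRingCat.ofHom ((RingHom.snd _ _).comp C.subtype))
    (CommRingCat.hom_ext (RingHom.ext fun z => z.2))
  exact ⟨φ ⟨(x, y), hxy⟩, congrArg (fun q => q ⟨(x, y), hxy⟩) hφX,
    congrArg (fun q => q ⟨(x, y), hxy⟩) hφY⟩

/-- Sections of a base change from a pushout square of rings. -/
theorem exists_tensorEquiv {R W A W' : CommRingCat.{u}} [Algebra R A] [Algebra R W]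
    {rW : R ⟶ W} {rA : R ⟶ A} (hrW : rW.hom = algebraMap R W) (hrA : rA.hom = algebraMap R A)
    {r : W ⟶ W'} {s : A ⟶ W'} (h : IsPushout rW rA r s) :
    ∃ e : A ⊗[R] W ≃+* W', ∀ a w, e (a ⊗ₜ w) = s a * r w := by
  have h0 : IsPushout (CommRingCat.ofHom (algebraMap R A)) (CommRingCat.ofHom (algebraMap R W))
      (CommRingCat.ofHom (S := A ⊗[R] W) Algebra.TensorProduct.includeLeftRingHom)
      (CommRingCat.ofHom (S := A ⊗[R] W) Algebra.TensorProduct.includeRight.toRingHom) :=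
    CommRingCat.isPushout_tensorProduct R A W
  obtain rfl : rW = CommRingCat.ofHom (algebraMap R W) := CommRingCat.hom_ext hrW
  obtain rfl : rA = CommRingCat.ofHom (algebraMap R A) := CommRingCat.hom_ext hrA
  let i := h0.isoIsPushout _ _ h.flip
  refine ⟨i.commRingCatIsoToRingEquiv, fun a w => ?_⟩
  have h1 := congrArg (fun q => q a) (h0.inl_isoIsPushout_hom _ _ h.flip)
  have h2 := congrArg (fun q => q w) (h0.inr_isoIsPushout_hom _ _ h.flip)
  have e1 : i.hom (a ⊗ₜ[R] (1 : W)) = s a := h1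
  have e2 : i.hom ((1 : A) ⊗ₜ[R] w) = r w := h2
  show i.hom (a ⊗ₜ[R] w) = _
  rw [← e1, ← e2, ← map_mul, Algebra.TensorProduct.tmul_mul_tmul, mul_one, one_mul]

end Helpers

open CategoryTheory AlgebraicGeometry in
/-- Let Y be an affine scheme whose ring of functions R = Γ(Y, O_Y) is a Dedekind domain, f : X → Y a
proper flat morphism, t : T → Y a finite morphism, ξ : Z → T a finite faithfully flat morphism with
ξ ≫ t finite, and ι : Z → X a closed immersion over Y; assume every point of Y has an affine open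
neighbourhood U together with an affine open V of X inside f⁻¹(U) containing the image under ι of
the part of Z over U, and that over every affine open U of Y the cokernel of the map from functions
on t⁻¹(U) to functions on the part of Z over U is a projective module over the functions on U; let X
→ P ← T be a push-out of ι and ξ in the category of schemes and p : P → Y the induced morphism.
Suppose that f is cohomologically flat in dimension zero, rendered over the affine base as: for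
every commutative ring A and ring map φ : R → A, with Spec A → Y the corresponding morphism, the
square formed by R → Γ(X, O_X), φ, Γ(X, O_X) → Γ(X ×_Y Spec A, O) and A → Γ(X ×_Y Spec A, O) is a
push-out of commutative rings (Γ(X_A, O) = Γ(X, O) ⊗_R A). Suppose moreover that R → Γ(P, O_P) is an
isomorphism (p_* O_P = O_Y) and that Γ(X, O_X) is an étale R-algebra. Then p is cohomologically flat
in dimension zero in the same sense. (The published statement is over an arbitrary Dedekind scheme Y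
with the same local hypotheses; this row takes Y affine so that cohomological flatness can be
written through global sections.) -/
theorem result {X Y T Z : Scheme.{u}} [IsAffine Y]
    (hR : IsDedekindDomain Γ(Y, ⊤))
    (f : X ⟶ Y) (t : T ⟶ Y) (ξ : Z ⟶ T) (ι : Z ⟶ X)
    [IsProper f] [Flat f] [IsFinite t] [IsFinite (ξ ≫ t)] [IsClosedImmersion ι] (hsq : ι ≫ f = ξ ≫ t)
    (hstd : ∀ y : Y, ∃ U : Y.Opens, IsAffineOpen U ∧ y ∈ U ∧ ∃ V : X.Opens, IsAffineOpen V ∧
      V ≤ f ⁻¹ᵁ U ∧ ∀ z : Z, (ξ ≫ t).base z ∈ U → ι.base z ∈ V)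
    [IsFinite ξ] [Flat ξ] [Surjective ξ]
    {P : Scheme.{u}} (a : X ⟶ P) (b : T ⟶ P) (hP : IsPushout ι ξ a b)
    (hv : ∀ U : Y.affineOpens, @Pinch.CokerProjective Γ(Y, U) Γ(Z, (ξ ≫ t) ⁻¹ᵁ U) Γ(T, t ⁻¹ᵁ U) _ _ _
      ((ξ ≫ t).app U).hom.toAlgebra (ξ.app (t ⁻¹ᵁ U)).hom)
    (p : P ⟶ Y) (hap : a ≫ p = f) (hbp : b ≫ p = t)
    (hcf : ∀ (A : Type u) [CommRing A] (φ : Γ(Y, ⊤) →+* A),
      IsPushout f.appTop (CommRingCat.ofHom φ)
        (Limits.pullback.fst f (Spec.map (CommRingCat.ofHom φ) ≫ Y.isoSpec.inv)).appTop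
        ((Scheme.ΓSpecIso (CommRingCat.of A)).inv ≫
          (Limits.pullback.snd f (Spec.map (CommRingCat.ofHom φ) ≫ Y.isoSpec.inv)).appTop))
    (hpO : IsIso p.appTop)
    (het : @Algebra.Etale Γ(Y, ⊤) Γ(X, ⊤) _ _ f.appTop.hom.toAlgebra)
    (A : Type u) [CommRing A] (φ : Γ(Y, ⊤) →+* A) :
    IsPushout p.appTop (CommRingCat.ofHom φ)
      (Limits.pullback.fst p (Spec.map (CommRingCat.ofHom φ) ≫ Y.isoSpec.inv)).appTop
      ((Scheme.ΓSpecIso (CommRingCat.of A)).inv ≫
        (Limits.pullback.snd p (Spec.map (CommRingCat.ofHom φ) ≫ Y.isoSpec.inv)).appTop) := by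
  classical
  let R := Γ(Y, ⊤)
  haveI : IsDedekindDomain R := hR
  haveI : IsNoetherianRing R := inferInstance
  haveI : IsLocallyNoetherian Y := by
    haveI : IsLocallyNoetherian (Spec Γ(Y, ⊤)) := inferInstance
    exact isLocallyNoetherian_of_isOpenImmersion Y.isoSpec.hom
  haveI : IsAffine T := isAffine_of_isAffineHom t
  haveI : IsAffine Z := isAffine_of_isAffineHom (ξ ≫ t)
  letI : Algebra R Γ(X, ⊤) := f.appTop.hom.toAlgebra
  letI : Algebra R Γ(T, ⊤) := t.appTop.hom.toAlgebra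
  letI : Algebra R Γ(Z, ⊤) := (ξ ≫ t).appTop.hom.toAlgebra
  letI : Algebra R A := φ.toAlgebra
  let ι₀ : Γ(X, ⊤) →ₐ[R] Γ(Z, ⊤) := ⟨ι.appTop.hom, fun r => by
    change (f.appTop ≫ ι.appTop) r = (ξ ≫ t).appTop r
    rw [← Scheme.Hom.comp_appTop, hsq]⟩
  let ξ₀ : Γ(T, ⊤) →ₐ[R] Γ(Z, ⊤) := ⟨ξ.appTop.hom, fun r => by
    change (t.appTop ≫ ξ.appTop) r = (ξ ≫ t).appTop r
    rw [← Scheme.Hom.comp_appTop]⟩
  haveI : Algebra.Etale R Γ(X, ⊤) := het
  haveI : Algebra.IsIntegral R Γ(X, ⊤) := ⟨isIntegral_appTop_of_universallyClosed f⟩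
  haveI : Module.Finite R Γ(X, ⊤) := Algebra.IsIntegral.finite
  haveI : Module.Finite R Γ(Z, ⊤) := by
    have : (ξ ≫ t).appTop.hom.Finite := (ξ ≫ t).finite_app ⊤ (isAffineOpen_top Y)
    exact this
  haveI : Module.Flat R Γ(X, ⊤) := inferInstance
  have hξ : Function.Injective ξ₀ :=
    ((Flat.flat_and_surjective_iff_faithfullyFlat_of_isAffine ξ).mp ⟨‹_›, ‹_›⟩).injective
  have hspan : Submodule.span R (Set.range ξ.appTop.hom) = LinearMap.range ξ₀.toLinearMap :=
    Submodule.span_eq (LinearMap.range ξ₀.toLinearMap)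
  haveI : Module.Projective R (Γ(Z, ⊤) ⧸ LinearMap.range ξ₀.toLinearMap) := by
    have h := hv ⟨⊤, isAffineOpen_top Y⟩
    have h' : Module.Projective R (Γ(Z, ⊤) ⧸ Submodule.span R (Set.range ξ.appTop.hom)) := h
    exact Module.Projective.of_equiv (Submodule.quotEquivOfEq _ _ hspan)
  have hker : ∀ b' t', ι₀ b' = ξ₀ t' → ∃ r, algebraMap R Γ(X, ⊤) r = b' := fun b' t' h => by
    obtain ⟨s, hs, -⟩ := exists_of_pushout hP b' t' h
    obtain ⟨r, hr⟩ := (ConcreteCategory.bijective_of_isIso p.appTop).2 s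
    refine ⟨r, ?_⟩
    rw [← hs, ← hr]
    change f.appTop r = (p.appTop ≫ a.appTop) r
    rw [← Scheme.Hom.comp_appTop, hap]
  have hinj : Function.Injective (algebraMap R Γ(X, ⊤)) := fun r r' h => by
    refine (ConcreteCategory.bijective_of_isIso p.appTop).1 (eq_of_pushout hP _ _ ?_ ?_)
    · change (p.appTop ≫ a.appTop) r = (p.appTop ≫ a.appTop) r'
      rw [← Scheme.Hom.comp_appTop, hap]
      exact h
    · change (p.appTop ≫ b.appTop) r = (p.appTop ≫ b.appTop) r'
      rw [← Scheme.Hom.comp_appTop, hbp]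
      refine hξ ?_
      change (t.appTop ≫ ξ.appTop) r = (t.appTop ≫ ξ.appTop) r'
      rw [← Scheme.Hom.comp_appTop, ← hsq, Scheme.Hom.comp_appTop]
      exact congrArg ι.appTop h
  obtain ⟨hAinj, hAex⟩ := PinchSqLib.CohFlat.main ι₀ ξ₀ hξ hker hinj A
  let g : Spec (CommRingCat.of A) ⟶ Y := Spec.map (CommRingCat.ofHom φ) ≫ Y.isoSpec.inv
  let ε := (Scheme.ΓSpecIso (CommRingCat.of A)).inv
  have hg : g.appTop = CommRingCat.ofHom φ ≫ ε := by
    simp only [g, ε, Scheme.Hom.comp_appTop, Scheme.ΓSpecIso_inv_naturality, ← Category.assoc]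
    congr 1
    have h1 : Y.isoSpec.hom.appTop = (Scheme.ΓSpecIso Γ(Y, ⊤)).hom := Scheme.toSpecΓ_appTop Y
    have h2 : Y.isoSpec.hom.appTop ≫ Y.isoSpec.inv.appTop = 𝟙 _ := by
      rw [← Scheme.Hom.comp_appTop, Iso.inv_hom_id]; rfl
    rw [h1] at h2
    have h3 : Y.isoSpec.inv.appTop = (Scheme.ΓSpecIso Γ(Y, ⊤)).inv := by
      rw [← cancel_epi (Scheme.ΓSpecIso Γ(Y, ⊤)).hom, h2, Iso.hom_inv_id]
    rw [h3]
    rfl
  have hw : ∀ {W : Scheme.{u}} (k : W ⟶ Y), k.appTop ≫ (Limits.pullback.fst k g).appTop =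
      CommRingCat.ofHom φ ≫ ε ≫ (Limits.pullback.snd k g).appTop := fun k => by
    rw [← Category.assoc, ← hg, ← Scheme.Hom.comp_appTop, ← Scheme.Hom.comp_appTop,
      Limits.pullback.condition]
  have haff : ∀ {W : Scheme.{u}} (k : W ⟶ Y) [IsAffine W], IsPushout k.appTop (CommRingCat.ofHom φ)
      (Limits.pullback.fst k g).appTop (ε ≫ (Limits.pullback.snd k g).appTop) := fun k _ => by
    refine (isPushout_appTop_of_isPullback (IsPullback.of_hasPullback k g)).of_iso (Iso.refl _)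
      (Iso.refl _) (Scheme.ΓSpecIso (CommRingCat.of A)) (Iso.refl _) ?_ ?_ ?_ ?_
    · simp
    · simp [hg, ε]
    · simp
    · simp [ε]
  obtain ⟨eX, heX⟩ := exists_tensorEquiv (R := R) (W := Γ(X, ⊤)) (A := CommRingCat.of A) rfl rfl (hcf A φ)
  obtain ⟨eT, heT⟩ := exists_tensorEquiv (R := R) (W := Γ(T, ⊤)) (A := CommRingCat.of A) rfl rfl (haff t)
  obtain ⟨eZ, heZ⟩ := exists_tensorEquiv (R := R) (W := Γ(Z, ⊤)) (A := CommRingCat.of A) rfl rfl (haff (ξ ≫ t))
  have hPA := S15954.result f t ξ ι hsq hstd a b hP hv p hap hbp g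
  set iA := ((Over.pullback g).map (Over.homMk ι hsq : Over.mk (ξ ≫ t) ⟶ Over.mk f)).left with hiA
  set jA := ((Over.pullback g).map (Over.homMk ξ rfl : Over.mk (ξ ≫ t) ⟶ Over.mk t)).left with hjA
  set aA := ((Over.pullback g).map (Over.homMk a hap : Over.mk f ⟶ Over.mk p)).left with haA
  set bA := ((Over.pullback g).map (Over.homMk b hbp : Over.mk t ⟶ Over.mk p)).left with hbA
  have hi1 : iA ≫ Limits.pullback.fst f g = Limits.pullback.fst (ξ ≫ t) g ≫ ι := Limits.pullback.lift_fst _ _ _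
  have hi2 : iA ≫ Limits.pullback.snd f g = Limits.pullback.snd (ξ ≫ t) g := Limits.pullback.lift_snd _ _ _
  have hj1 : jA ≫ Limits.pullback.fst t g = Limits.pullback.fst (ξ ≫ t) g ≫ ξ := Limits.pullback.lift_fst _ _ _
  have hj2 : jA ≫ Limits.pullback.snd t g = Limits.pullback.snd (ξ ≫ t) g := Limits.pullback.lift_snd _ _ _
  have ha2 : aA ≫ Limits.pullback.snd p g = Limits.pullback.snd f g := Limits.pullback.lift_snd _ _ _
  have hb2 : bA ≫ Limits.pullback.snd p g = Limits.pullback.snd t g := Limits.pullback.lift_snd _ _ _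
  have hni : ∀ z, iA.appTop (eX z) = eZ (Algebra.TensorProduct.map (AlgHom.id R A) ι₀ z) := fun z => by
    induction z using TensorProduct.induction_on with
    | zero => rw [map_zero, map_zero, map_zero, map_zero]
    | tmul x w =>
      rw [heX, Algebra.TensorProduct.map_tmul, heZ, map_mul]
      congr 1
      · exact congrArg (fun q => q (ε x)) (congrArg Scheme.Hom.appTop hi2)
      · exact congrArg (fun q => q w) (congrArg Scheme.Hom.appTop hi1)
    | add x y hx hy => rw [map_add, map_add, hx, hy, map_add, map_add]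
  have hnj : ∀ z, jA.appTop (eT z) = eZ (Algebra.TensorProduct.map (AlgHom.id R A) ξ₀ z) := fun z => by
    induction z using TensorProduct.induction_on with
    | zero => rw [map_zero, map_zero, map_zero, map_zero]
    | tmul x w =>
      rw [heT, Algebra.TensorProduct.map_tmul, heZ, map_mul]
      congr 1
      · exact congrArg (fun q => q (ε x)) (congrArg Scheme.Hom.appTop hj2)
      · exact congrArg (fun q => q w) (congrArg Scheme.Hom.appTop hj1)
    | add x y hx hy => rw [map_add, map_add, hx, hy, map_add, map_add]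
  have hsX : ∀ c : A, eX (algebraMap A _ c) = aA.appTop ((ε ≫ (Limits.pullback.snd p g).appTop) c) := fun c => by
    rw [Algebra.TensorProduct.algebraMap_apply, Algebra.algebraMap_self_apply, heX, map_one, mul_one]
    exact (congrArg (fun q => q (ε c)) (congrArg Scheme.Hom.appTop ha2)).symm
  have hsT : ∀ c : A, eT (algebraMap A _ c) = bA.appTop ((ε ≫ (Limits.pullback.snd p g).appTop) c) := fun c => by
    rw [Algebra.TensorProduct.algebraMap_apply, Algebra.algebraMap_self_apply, heT, map_one, mul_one]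
    exact (congrArg (fun q => q (ε c)) (congrArg Scheme.Hom.appTop hb2)).symm
  have hbij : Function.Bijective (ε ≫ (Limits.pullback.snd p g).appTop) := by
    refine ⟨fun c c' h => hAinj (eX.injective ?_), fun s => ?_⟩
    · rw [hsX, hsX, h]
    · have hc : (aA.appTop ≫ iA.appTop) s = (bA.appTop ≫ jA.appTop) s := by
        rw [← Scheme.Hom.comp_appTop, ← Scheme.Hom.comp_appTop, hPA.w]
      obtain ⟨x, hx⟩ := eX.surjective (aA.appTop s)
      obtain ⟨y, hy⟩ := eT.surjective (bA.appTop s)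
      obtain ⟨c, hcx, hcy⟩ := hAex x y (eZ.injective (by
        rw [← hni, ← hnj, hx, hy]
        exact hc))
      exact ⟨c, eq_of_pushout hPA _ _ (by rw [← hsX, hcx, hx]) (by rw [← hsT, hcy, hy])⟩
  haveI := (ConcreteCategory.isIso_iff_bijective _).2 hbij
  exact IsPushout.of_horiz_isIso ⟨hw p⟩

end Groth.Agent.S20006
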