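import Groth.Statements.S20007
import Groth.Agent.AlgGrpLib.SpecialGL

set_option autoImplicit false
set_option backward.isDefEq.respectTransparency.types false
universe u
open CategoryTheory MonoidalCategory CartesianMonoidalCategory MonObj AlgebraicGeometry
open GIT

namespace Groth.Agent.S20007

/-- The general linear group is special. Over an algebraically closed field k of characteristic zero,
let n be a natural number and let the group scheme GL_{n,k} (the general linear group over Spec k)
act on a k-scheme X; let φ : X → Y be a GL_{n,k}-torsor over the k-scheme Y: the square formed by
the action, the second projection GL_{n,k} ×_k X → X and φ twice is cartesian, and φ acquires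
sections on the members of some fpqc covering family of Y. Then φ is locally trivial: it acquires
sections on the members of some Zariski open covering of Y. (The statement holds over any base; the
ground field is the standing one of the text.) -/
theorem result
    (k : Type u) [Field k] [IsAlgClosed k] [CharZero k] (n : ℕ)
    (X Y : Over (Spec (CommRingCat.of k)))
    (a : AlgGrp.Action (FrB.GLn n (Spec (CommRingCat.of k))) X) (φ : X ⟶ Y)
    (hcart : IsPullback a.act (snd (FrB.GLn n (Spec (CommRingCat.of k))) X) φ φ)
    (hloc : NonAbH1.IsLocallyTrivialFor Scheme.fpqcPrecoverage (Over.mk φ.left : Over Y.left)) :
    NonAbH1.IsLocallyTrivialFor Scheme.zariskiPrecoverage (Over.mk φ.left : Over Y.left) := by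
  exact Groth.Agent.AlgGrpLib.SpecialGL.special_GLn X Y a φ hcart hloc

end Groth.Agent.S20007
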