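import Groth.Statements.S20008
import Groth.Agent.AlgGrpLib.SpecialExtension
import Groth.Agent.AlgGrpLib.HomFlatRed
import Groth.Agent.HopfLib.SchemeCartier
import Groth.Agent.AbSchLib.SmoothReduced

set_option autoImplicit false
set_option backward.isDefEq.respectTransparency.types false
universe u
open CategoryTheory MonoidalCategory CartesianMonoidalCategory MonObj AlgebraicGeometry
open GIT

namespace Groth.Agent.S20008

/-- An extension of special groups is special. Over an algebraically closed field k of characteristic
zero, let G be an affine group scheme of finite type over k with a closed normal subgroup scheme N,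
the kernel of a surjective homomorphism q : G → Q onto an affine group scheme Q of finite type over
k (the factor group G/N). Call an affine group scheme H of finite type over k special when for every
action of H on a k-scheme X and every morphism ψ : X → Y of k-schemes which is an H-torsor over Y —
the square formed by the action, the second projection H ×_k X → X and ψ twice is cartesian, and ψ
acquires sections on the members of some fpqc covering family of Y — the morphism ψ acquires
sections on the members of some Zariski open covering of Y. If N and Q are special, then G is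
special. -/
theorem result
    (k : Type u) [Field k] [IsAlgClosed k] [CharZero k]
    (G N Q : Over (Spec (CommRingCat.of k))) [GrpObj G] [GrpObj N] [GrpObj Q]
    [IsAffine G.left] [LocallyOfFiniteType G.hom]
    (iN : N ⟶ G) [IsMonHom iN] [IsClosedImmersion iN.left] (hnorm : AlgGrp.IsNormalHom iN)
    (q : G ⟶ Q) [IsMonHom q] [Surjective q.left] [IsAffine Q.left] [LocallyOfFiniteType Q.hom]
    (hker : AlgGrp.IsKernel iN q)
    (hN : ∀ (X Y : Over (Spec (CommRingCat.of k))) (b : AlgGrp.Action N X) (ψ : X ⟶ Y),
      IsPullback b.act (snd N X) ψ ψ →
      NonAbH1.IsLocallyTrivialFor Scheme.fpqcPrecoverage (Over.mk ψ.left : Over Y.left) →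
      NonAbH1.IsLocallyTrivialFor Scheme.zariskiPrecoverage (Over.mk ψ.left : Over Y.left))
    (hQ : ∀ (X Y : Over (Spec (CommRingCat.of k))) (b : AlgGrp.Action Q X) (ψ : X ⟶ Y),
      IsPullback b.act (snd Q X) ψ ψ →
      NonAbH1.IsLocallyTrivialFor Scheme.fpqcPrecoverage (Over.mk ψ.left : Over Y.left) →
      NonAbH1.IsLocallyTrivialFor Scheme.zariskiPrecoverage (Over.mk ψ.left : Over Y.left))
    (X Y : Over (Spec (CommRingCat.of k))) (a : AlgGrp.Action G X) (φ : X ⟶ Y)
    (hcart : IsPullback a.act (snd G X) φ φ)
    (hloc : NonAbH1.IsLocallyTrivialFor Scheme.fpqcPrecoverage (Over.mk φ.left : Over Y.left)) :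
    NonAbH1.IsLocallyTrivialFor Scheme.zariskiPrecoverage (Over.mk φ.left : Over Y.left) := by
  haveI : Smooth Q.hom := Groth.Agent.HopfLib.smooth_of_grpObj Q
  haveI : GeometricallyReduced Q.hom := Groth.Agent.AbSchLib.geometricallyReduced_of_smooth Q.hom
  haveI : Flat q.left := Groth.Agent.AlgGrpLib.flat_hom_of_surjective q
  exact Groth.Agent.AlgGrpLib.SpecialExtension.special_of_extension iN q hker hN hQ X Y a φ hcart hloc

end Groth.Agent.S20008
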