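import Groth.Statements.S2001
import Groth.Agent.HenselLib.BLModule

set_option autoImplicit false
universe u
open TensorProduct
open EtAlg

namespace Groth.Agent.S2001

/-- Let (R -> R', f) be a glueing pair and M, N R-modules glueable for it. Given an R'-linear map φ' :
R' ⊗_R M -> R' ⊗_R N and an R-linear map φ₁ : M_f -> N_f which induce the same map into (R' ⊗_R N)_f
on elements of M, there is a unique R-linear map ψ : M -> N whose base change to R' is φ' and whose
localization is φ₁. -/
theorem result (R R' : Type u) [CommRing R] [CommRing R'] [Algebra R R'] (f : R)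
    (hRR : EtGlue.IsGlueingPair R R' f) (M N : Type u) [AddCommGroup M] [Module R M] [AddCommGroup N] [Module R N]
    (hM : EtGlue.IsGlueable R R' f M) (hN : EtGlue.IsGlueable R R' f N)
    (φ' : R' ⊗[R] M →ₗ[R'] R' ⊗[R] N)
    (φ₁ : LocalizedModule (Submonoid.powers f) M →ₗ[R] LocalizedModule (Submonoid.powers f) N)
    (hc : ∀ m : M, EtGlue.locOfTensor R R' f N (φ' ((1 : R') ⊗ₜ[R] m)) =
      EtGlue.tensorOfLoc R R' f N (φ₁ (LocalizedModule.mkLinearMap (Submonoid.powers f) M m))) :
    ∃! ψ : M →ₗ[R] N, ψ.baseChange R' = φ' ∧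
      IsLocalizedModule.map (Submonoid.powers f) (LocalizedModule.mkLinearMap (Submonoid.powers f) M)
        (LocalizedModule.mkLinearMap (Submonoid.powers f) N) ψ = φ₁ := by
  have key : ∀ m : M, ∃ n : N, (1 : R') ⊗ₜ[R] n = φ' (1 ⊗ₜ m) ∧
      LocalizedModule.mkLinearMap (Submonoid.powers f) N n =
        φ₁ (LocalizedModule.mkLinearMap (Submonoid.powers f) M m) :=
    fun m => hN.2 _ _ (hc m)
  choose ψ h1 h2 using key
  have huniq : ∀ a b : N, (1 : R') ⊗ₜ[R] a = (1 : R') ⊗ₜ[R] b →
      LocalizedModule.mkLinearMap (Submonoid.powers f) N a =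
        LocalizedModule.mkLinearMap (Submonoid.powers f) N b → a = b :=
    fun a b e1 e2 => hN.1 (Prod.ext e1 e2)
  let Ψ : M →ₗ[R] N :=
    { toFun := ψ
      map_add' := fun a b => huniq _ _
        (by rw [TensorProduct.tmul_add, h1, h1, h1, TensorProduct.tmul_add, map_add])
        (by rw [map_add, h2, h2, h2, map_add, map_add])
      map_smul' := fun c a => huniq _ _
        (by rw [RingHom.id_apply, TensorProduct.tmul_smul, h1, h1, TensorProduct.tmul_smul,
          LinearMap.map_smul_of_tower])
        (by rw [RingHom.id_apply, map_smul, h2, h2, map_smul, map_smul]) }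
  refine ⟨Ψ, ⟨?_, ?_⟩, ?_⟩
  · refine LinearMap.ext fun z => ?_
    induction z with
    | zero => simp
    | add a b ha hb => simp only [map_add, ha, hb]
    | tmul s m =>
      rw [LinearMap.baseChange_tmul, show (s ⊗ₜ[R] Ψ m : R' ⊗[R] N) = s • ((1 : R') ⊗ₜ[R] ψ m) by
        rw [TensorProduct.smul_tmul', smul_eq_mul, mul_one]; rfl, h1, ← map_smul,
        TensorProduct.smul_tmul', smul_eq_mul, mul_one]
  · refine IsLocalizedModule.ext (Submonoid.powers f) (LocalizedModule.mkLinearMap (Submonoid.powers f) M)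
      (IsLocalizedModule.map_units (LocalizedModule.mkLinearMap (Submonoid.powers f) N)) ?_
    refine LinearMap.ext fun m => ?_
    rw [LinearMap.comp_apply, LinearMap.comp_apply, IsLocalizedModule.map_apply]
    exact h2 m
  · rintro g ⟨g1, g2⟩
    refine LinearMap.ext fun m => huniq _ _ ?_ ?_
    · change _ = (1 : R') ⊗ₜ[R] ψ m
      rw [h1, ← g1, LinearMap.baseChange_tmul]
    · change _ = LocalizedModule.mkLinearMap (Submonoid.powers f) N (ψ m)
      rw [h2, ← g2, IsLocalizedModule.map_apply]

end Groth.Agent.S2001
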