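import Groth.Statements.S20010
import Mathlib.AlgebraicGeometry.AffineTransitionLimit

set_option autoImplicit false
set_option backward.isDefEq.respectTransparency.types false
universe u
open CategoryTheory CategoryTheory.Limits AlgebraicGeometry TopologicalSpace
open ModPair

namespace Groth.Agent.S20010

/-- Let (X_i) be a cofiltered system of schemes with affine transition morphisms such that X_{i₀} is
quasi-compact and quasi-separated for some index i₀, let X be its limit, and let {U_a ⟶ X} be a
family of quasi-compact open immersions (open immersions of finite presentation) which is jointly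
surjective (a covering family for the Zariski class). Then the covering descends: for some index i
there is a finite jointly surjective family {V_j ⟶ X_i}_{j < n} of quasi-compact open immersions
such that every V_j ×_{X_i} X is one of the U_a, i.e. for each j some U_{a_j} ⟶ X is the base change
of V_j ⟶ X_i along X ⟶ X_i. -/
theorem result {I : Type u} [SmallCategory I] [IsCofiltered I]
    (D : I ⥤ Scheme.{u}) (c : Cone D) (hc : IsLimit c)
    [∀ (i j : I) (t : i ⟶ j), IsAffineHom (D.map t)] (i₀ : I) [CompactSpace (D.obj i₀)]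
    [QuasiSeparatedSpace (D.obj i₀)] {ι : Type u} (U : ι → Scheme.{u}) (u : ∀ a, U a ⟶ c.pt)
    [∀ a, IsOpenImmersion (u a)] [∀ a, QuasiCompact (u a)] (hcov : ∀ x : c.pt, ∃ (a : ι) (y : U a), (u a).base y = x) :
    ∃ (i : I) (n : ℕ) (V : Fin n → Scheme.{u}) (v : ∀ j, V j ⟶ D.obj i) (a : Fin n → ι)
      (e : ∀ j, U (a j) ⟶ V j),
      (∀ j, IsOpenImmersion (v j) ∧ QuasiCompact (v j)) ∧
      (∀ x : D.obj i, ∃ (j : Fin n) (y : V j), (v j).base y = x) ∧
      ∀ j, IsPullback (e j) (u (a j)) (v j) (c.π.app i) := by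
  classical
  have : ∀ {i j : I} (t : i ⟶ j), IsAffineHom (D.map t) := fun {i j} t => inferInstance
  have := isAffineHom_π_app D c hc i₀
  have : CompactSpace c.pt := QuasiCompact.compactSpace_of_compactSpace (c.π.app i₀)
  obtain ⟨t, ht⟩ := isCompact_univ.elim_finite_subcover (fun a => Set.range (u a).base)
    (fun a => (u a).isOpenEmbedding.isOpen_range) fun x _ => Set.mem_iUnion.2 (by
      obtain ⟨a, y, hy⟩ := hcov x
      exact ⟨a, y, hy⟩)
  let m := t.card
  let a : Fin m → ι := fun j => (t.equivFin.symm j).1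
  have hc' : ∀ j, IsCompact ((u (a j)).opensRange : Set c.pt) := fun j => by
    have : CompactSpace (U (a j)) := QuasiCompact.compactSpace_of_compactSpace (u (a j))
    exact isCompact_range (u (a j)).continuous
  choose i V hV hVu using fun j => exists_preimage_eq D c hc _ (hc' j)
  obtain ⟨k, hk⟩ := IsCofiltered.inf_objs_exists (insert i₀ (Finset.univ.image i))
  have g₀ : k ⟶ i₀ := (hk (Finset.mem_insert_self _ _)).some
  have g : ∀ j, k ⟶ i j := fun j =>
    (hk (Finset.mem_insert_of_mem (Finset.mem_image_of_mem i (Finset.mem_univ j)))).some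
  let W : Fin m → (D.obj k).Opens := fun j => D.map (g j) ⁻¹ᵁ V j
  have hW : ∀ j, c.π.app k ⁻¹ᵁ W j = (u (a j)).opensRange := fun j => by
    rw [← Scheme.Hom.comp_preimage, c.w, hVu]
  have : CompactSpace (D.obj k) := QuasiCompact.compactSpace_of_compactSpace (D.map g₀)
  obtain ⟨l, f, hl⟩ := exists_map_preimage_le_map_preimage D c hc (i := k) (U := ⊤) (V := ⨆ j, W j)
    (by simpa using isCompact_univ) (fun x _ => by
      obtain ⟨b, hb, hx⟩ := Set.mem_iUnion₂.1 (ht (Set.mem_univ x))
      obtain ⟨j, hj⟩ : ∃ j, a j = b := ⟨t.equivFin ⟨b, hb⟩, by simp [a]⟩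
      subst hj
      exact Opens.mem_iSup.2 ⟨j, (hW j).ge hx⟩)
  let W' : Fin m → (D.obj l).Opens := fun j => D.map f ⁻¹ᵁ W j
  have hW' : ∀ j, c.π.app l ⁻¹ᵁ W' j = (u (a j)).opensRange := fun j => by
    rw [← Scheme.Hom.comp_preimage, c.w, hW]
  have hWc : ∀ j, IsCompact (W' j : Set (D.obj l)) := fun j =>
    (D.map f).isCompact_preimage ((D.map (g j)).isCompact_preimage (hV j))
  have : QuasiSeparatedSpace (D.obj l) := by
    have : IsSeparated (D.map (f ≫ g₀)) := inferInstance
    have : QuasiSeparated (D.map (f ≫ g₀)) := inferInstance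
    exact quasiSeparatedSpace_of_quasiSeparated (D.map (f ≫ g₀))
  have hr : ∀ j, Set.range (u (a j) ≫ c.π.app l) ⊆ Set.range (W' j).ι := fun j => by
    rintro _ ⟨y, rfl⟩
    rw [Scheme.Opens.range_ι]
    exact (hW' j).ge ⟨y, rfl⟩
  refine ⟨l, m, fun j => (W' j).toScheme, fun j => (W' j).ι, a,
    fun j => IsOpenImmersion.lift (W' j).ι (u (a j) ≫ c.π.app l) (hr j),
    fun j => ⟨inferInstance, ?_⟩, fun x => ?_, fun j => ?_⟩
  · have : CompactSpace (W' j).toScheme := isCompact_iff_compactSpace.1 (hWc j)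
    exact quasiCompact_of_compactSpace (W' j).ι
  · have hx : D.map f x ∈ ⨆ j, W j := hl (show x ∈ D.map f ⁻¹ᵁ ⊤ from trivial)
    obtain ⟨j, hj⟩ := Opens.mem_iSup.1 hx
    exact ⟨j, ⟨x, hj⟩, rfl⟩
  · refine IsOpenImmersion.isPullback _ _ _ _ (IsOpenImmersion.lift_fac _ _ _).symm ?_
    rw [Scheme.Opens.opensRange_ι, hW']

end Groth.Agent.S20010
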