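import Groth.Statements.S20018
import Mathlib.Algebra.Category.ModuleCat.Abelian
import Mathlib.CategoryTheory.Limits.Shapes.Countable
import Mathlib.CategoryTheory.Limits.Types.Pullbacks
import Mathlib.Dynamics.Newton
import Mathlib.Order.CompletePartialOrder
import Mathlib.RingTheory.AdicCompletion.Noetherian
import Mathlib.RingTheory.Etale.Weakly
import Mathlib.RingTheory.Flat.TorsionFree
import Mathlib.RingTheory.Ideal.AssociatedPrime.Localization
import Mathlib.RingTheory.PicardGroup
import Mathlib.RingTheory.PowerSeries.NoZeroDivisors
import Mathlib.RingTheory.PowerSeries.Trunc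
import Mathlib.RingTheory.TotallySplit
import Mathlib.Tactic
import Groth.Agent.CommAlg4.Nilpotent
import Groth.Agent.S14020

set_option linter.all false

set_option autoImplicit false
open CAlg

open CategoryTheory

namespace Groth.Agent.S20018

open PowerSeries in
/-- Product expansion of big Witt vectors: let R be a commutative ring and x ∈ 1 + tR[[t]] a formal
power series with constant term 1. Then x can be written uniquely as an infinite product ∏_{i ≥ 1}
(1 - α_i t^i) with α_i ∈ R. The infinite product is expressed through its truncations: there is a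
unique sequence α : ℕ → R (α i standing for the coefficient attached to t^{i+1}) such that for every
N the series x and the finite product ∏_{i=0}^{N} (1 - α_i t^{i+1}) agree modulo t^{N+2}. -/
theorem result
    (R : Type*) [CommRing R] (x : PowerSeries R) (hx : PowerSeries.constantCoeff x = 1) :
    ∃! α : ℕ → R, ∀ N : ℕ,
      PowerSeries.trunc (N + 2) x =
        PowerSeries.trunc (N + 2) (∏ i ∈ Finset.range (N + 1),
          (1 - PowerSeries.C (α i) * PowerSeries.X ^ (i + 1) : PowerSeries R)) := by
  let P : (ℕ → R) → ℕ → PowerSeries R := fun α N => ∏ i ∈ Finset.range N, (1 - C (α i) * X ^ (i + 1))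
  have hstep : ∀ α N j, j ≤ N + 1 → coeff j (P α (N+1)) = coeff j (P α N) - if j = N + 1 then α N else 0 := by
    intro α N j hj
    simp only [P, Finset.prod_range_succ]
    rw [mul_sub, mul_one, map_sub, ← mul_assoc, coeff_mul_X_pow']
    split_ifs with h1 h2 h2
    · subst h2
      have h0 : (constantCoeff (R := R)) (∏ i ∈ Finset.range N, (1 - C (α i) * X ^ (i + 1))) = 1 := by
        rw [map_prod]; exact Finset.prod_eq_one fun i _ => by simp
      simp [mul_comm (∏ i ∈ _, _) (C (α N)), coeff_C_mul, h0]
    · omega
    · omega
    · rfl
  have h0 : ∀ α N, coeff 0 (P α N) = 1 := by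
    intro α N; simp only [P, coeff_zero_eq_constantCoeff, map_prod]; exact Finset.prod_eq_one fun i _ => by simp
  have hst : ∀ α N M j, j ≤ N → N ≤ M → coeff j (P α M) = coeff j (P α N) := by
    intro α N M j hj hM
    induction M, hM using Nat.le_induction with
    | base => rfl
    | succ b hb ih => rw [hstep α b j (by omega), ih, if_neg (by omega), sub_zero]
  have hiff : ∀ α, (∀ N : ℕ, trunc (N + 2) x = trunc (N + 2) (P α (N+1))) ↔ ∀ N, coeff (N+1) (P α (N+1)) = coeff (N+1) x := by
    intro α
    constructor
    · intro h N
      have := congrArg (fun p => Polynomial.coeff p (N+1)) (h N)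
      simp only [coeff_trunc, show N + 1 < N + 2 by omega, if_true] at this
      exact this.symm
    · intro h N
      ext j
      simp only [coeff_trunc]
      split_ifs with hj
      · rcases j with _ | j
        · rw [h0, coeff_zero_eq_constantCoeff_apply, hx]
        · rw [hst α (j+1) (N+1) (j+1) le_rfl (by omega), h j]
      · rfl
  let g : ℕ → PowerSeries R := fun N => Nat.rec (1 : PowerSeries R) (fun i acc => acc * (1 - C (coeff (i+1) acc - coeff (i+1) x) * X ^ (i + 1))) N
  let α : ℕ → R := fun N => coeff (N+1) (g N) - coeff (N+1) x
  have hg : ∀ N, P α N = g N := by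
    intro N; induction N with
    | zero => simp [P, g]
    | succ N ih => simp only [P, Finset.prod_range_succ]; rw [show (∏ i ∈ Finset.range N, (1 - C (α i) * X ^ (i + 1))) = g N from ih]
  refine ⟨α, (hiff α).mpr fun N => ?_, fun β hβ => ?_⟩
  · rw [hstep α N _ le_rfl, if_pos rfl, hg]; simp [α]
  · have hβ' := (hiff β).mp hβ
    funext N
    induction N using Nat.strong_induction_on with
    | _ N ih =>
      have e : P β N = P α N := Finset.prod_congr rfl fun i hi => by rw [ih i (Finset.mem_range.mp hi)]
      have h1 := hβ' N
      rw [hstep β N _ le_rfl, if_pos rfl, e, hg] at h1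
      simp only [α]; rw [← h1]; ring

end Groth.Agent.S20018
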