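import Groth.Statements.S20022
import Mathlib.LinearAlgebra.Basis.Basic
-- import your own Groth.Agent.* helpers here

set_option autoImplicit false
universe u
open GrLC

namespace Groth.Agent.S20022

section
variable {R : Type*} [CommRing R] (𝒜 : ℤ → AddSubgroup R) [GradedRing 𝒜]
  {M : Type*} [AddCommGroup M] [Module R M] (ℳ : ℤ → AddSubgroup M)
  [DirectSum.Decomposition ℳ] [SetLike.GradedSMul 𝒜 ℳ]

theorem comp_smul {g : ℤ} {x : M} (hx : x ∈ ℳ g) (a : R) (n : ℤ) :
    ((DirectSum.decompose ℳ (a • x) (n + g) : ℳ (n + g)) : M) =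
      ((DirectSum.decompose 𝒜 a n : 𝒜 n) : R) • x := by
  classical
  induction a using DirectSum.Decomposition.inductionOn 𝒜 with
  | zero => simp
  | @homogeneous m y =>
    have hm : (y : R) • x ∈ ℳ (m + g) := SetLike.GradedSMul.smul_mem y.2 hx
    by_cases h : m = n
    · subst h
      rw [DirectSum.decompose_of_mem_same ℳ hm, DirectSum.decompose_of_mem_same 𝒜 y.2]
    · rw [DirectSum.decompose_of_mem_ne ℳ hm (by omega),
        DirectSum.decompose_of_mem_ne 𝒜 y.2 h, zero_smul]
  | add a b ha hb =>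
    simp only [add_smul, DirectSum.decompose_add, DirectSum.add_apply, AddSubgroup.coe_add, ha, hb]

include 𝒜 in
theorem comp_mem_span {S : Set M} (hS : ∀ x ∈ S, SetLike.IsHomogeneousElem ℳ x) {y : M}
    (hy : y ∈ Submodule.span R S) (k : ℤ) :
    ((DirectSum.decompose ℳ y k : ℳ k) : M) ∈ Submodule.span R S := by
  induction hy using Submodule.closure_induction with
  | zero => simp
  | add a b _ _ ha hb =>
    simpa only [DirectSum.decompose_add, DirectSum.add_apply, AddSubgroup.coe_add] using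
      Submodule.add_mem _ ha hb
  | smul_mem r x hxs =>
    obtain ⟨g, hg⟩ := hS x hxs
    have h := comp_smul 𝒜 ℳ hg r (k - g)
    rw [sub_add_cancel] at h
    rw [h]
    exact Submodule.smul_mem _ _ (Submodule.subset_span hxs)

end


/-- Let R be a commutative ℤ-graded ring whose degree-zero subring R_0 is a field k and which is the
Laurent polynomial ring k[T, T⁻¹] on a homogeneous invertible element T of positive degree d, in the
following intrinsic sense: T is a unit lying in R_d, and every nonzero homogeneous element of degree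
n equals a·T^j for some a ∈ R_0 and some integer j with j·d = n (so R_n = 0 unless d divides n, and
R_{jd} = k·T^j). Then every graded R-module M is free in the graded sense: M has an R-basis
consisting of homogeneous elements. (The other case of condition (2), R = k concentrated in degree
zero, is not included.) -/
theorem result (R : Type u) [CommRing R]
    (𝒜 : ℤ → AddSubgroup R) [GradedRing 𝒜] (h0 : IsField (GrLC.deg0 𝒜))
    (d : ℤ) (hd : 0 < d) (T : Rˣ) (hT : (T : R) ∈ 𝒜 d)
    (hA : ∀ (n : ℤ) (x : R), x ∈ 𝒜 n → x ≠ 0 →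
      ∃ j : ℤ, ∃ a ∈ 𝒜 0, j * d = n ∧ x = a * ((T ^ j : Rˣ) : R))
    (M : Type u) [AddCommGroup M] [Module R M] (ℳ : ℤ → AddSubgroup M)
    [DirectSum.Decomposition ℳ] [SetLike.GradedSMul 𝒜 ℳ] :
    ∃ (κ : Type u) (b : Module.Basis κ R M), ∀ i : κ, SetLike.IsHomogeneousElem ℳ (b i) := by
  classical
  -- nonzero homogeneous elements of the ring are units
  have hu : ∀ (n : ℤ) (x : R), x ∈ 𝒜 n → x ≠ 0 → IsUnit x := by
    intro n x hx hx0
    obtain ⟨j, a, ha, -, rfl⟩ := hA n x hx hx0
    have ha0 : a ≠ 0 := fun h => hx0 (by rw [h, zero_mul])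
    obtain ⟨b, hb⟩ := h0.mul_inv_cancel (a := (⟨a, ha⟩ : GrLC.deg0 𝒜))
      (fun h => ha0 (congrArg Subtype.val h))
    exact (IsUnit.of_mul_eq_one (b : R) (congrArg Subtype.val hb)).mul (Units.isUnit _)
  let v : {x : M // SetLike.IsHomogeneousElem ℳ x} → M := Subtype.val
  obtain ⟨s, hs, hmax⟩ := exists_maximal_linearIndepOn R v
  have hS : ∀ x ∈ v '' s, SetLike.IsHomogeneousElem ℳ x := by
    rintro _ ⟨x, -, rfl⟩; exact x.2
  have key : ∀ x : {x : M // SetLike.IsHomogeneousElem ℳ x}, v x ∈ Submodule.span R (v '' s) := by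
    intro x
    by_cases hx : x ∈ s
    · exact Submodule.subset_span ⟨x, hx, rfl⟩
    obtain ⟨a, ha, hax⟩ := hmax x hx
    obtain ⟨g, hg⟩ := x.2
    obtain ⟨n, hn⟩ : ∃ n, ((DirectSum.decompose 𝒜 a n : 𝒜 n) : R) ≠ 0 := by
      by_contra! h
      apply ha
      rw [← DirectSum.sum_support_decompose 𝒜 a]
      exact Finset.sum_eq_zero fun i _ => h i
    have hc := comp_mem_span 𝒜 ℳ hS hax (n + g)
    rw [comp_smul 𝒜 ℳ hg a n] at hc
    obtain ⟨u, hu'⟩ := hu n _ (DirectSum.decompose 𝒜 a n).2 hn
    rw [← hu'] at hc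
    simpa [Units.smul_def, smul_smul] using Submodule.smul_mem _ (↑u⁻¹ : R) hc
  have htop : ⊤ ≤ Submodule.span R (Set.range fun i : s => v i) := by
    intro x _
    rw [← DirectSum.sum_support_decompose ℳ x]
    refine Submodule.sum_mem _ fun i _ => ?_
    have := key ⟨_, ⟨i, (DirectSum.decompose ℳ x i).2⟩⟩
    rwa [Set.image_eq_range] at this
  refine ⟨s, Module.Basis.mk hs htop, fun i => ?_⟩
  rw [Module.Basis.mk_apply]
  exact (i : {x : M // SetLike.IsHomogeneousElem ℳ x}).2

end Groth.Agent.S20022
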