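import Groth.Statements.S20024
import Groth.Agent.WittFilLib.One

set_option autoImplicit false
universe u
open WittFil

namespace Groth.Agent.S20024

/-- Case q = 0: let p be a prime, S a commutative ring of characteristic p and B a commutative S-algebra
(in the source B = S[[π]][1/π]), u a unit of B (the uniformizer π), m, s natural numbers, i, l
integers and c a p-typical Witt vector over S. Write Φ_v(c) for the length-m truncation of V^s(c ·
[v]), where c is mapped to the Witt vectors of B, [v] is the Teichmüller representative of v ∈ B and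
V is the Verschiebung; for n = p^(m−1−s) · i the degree-zero piece F_n^{m,0}(S) is the set of all
Φ_{u^i}(c). Then multiplication by the truncated Teichmüller representative [u^l] satisfies [u^l] ·
Φ_{u^i}(c) = Φ_{u^(i + p^s l)}(c); consequently [u^l] · F_n^{m,0}(S) = F_{n + p^(m−1) l}^{m,0}(S).
(Only the part of the lemma in differential degree q = 0 is stated; the source's S is a regular
local F-finite F_p-algebra, and the identity holds for any S-algebra B of characteristic p.) -/
theorem result (p : ℕ) [Fact p.Prime] {S B : Type u}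
    [CommRing S] [CharP S p] [CommRing B] [Algebra S B] (m s : ℕ) (u : Bˣ) (i l : ℤ)
    (c : WittVector p S) :
    WittVector.truncate m (WittVector.teichmuller p ((u ^ l : Bˣ) : B)) *
        WittFil.vShiftTeich p m s ((u ^ i : Bˣ) : B) c =
      WittFil.vShiftTeich p m s ((u ^ (i + (p : ℤ) ^ s * l) : Bˣ) : B) c := by
  obtain ⟨X, hX⟩ := WittVector.truncate_surjective p m B (WittFil.vShiftTeich p m s ((u ^ i : Bˣ) : B) c)
  ext j
  have h := congrArg (TruncatedWittVector.coeff j) hX
  rw [WittVector.coeff_truncate, WittFilLib.vShiftTeich_coeff] at h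
  rw [← hX, ← map_mul, WittVector.coeff_truncate, Groth.Agent.CommAlg4.teichmuller_mul_coeff,
    WittFilLib.vShiftTeich_coeff, h]
  split_ifs with hj
  · rw [mul_zero]
  · rw [mul_left_comm, ← Units.val_pow_eq_pow_val, ← Units.val_pow_eq_pow_val,
      ← Units.val_pow_eq_pow_val, ← Units.val_mul]
    congr 2
    rw [← zpow_natCast (u ^ l), ← zpow_natCast (u ^ i), ← zpow_natCast (u ^ (i + (p : ℤ) ^ s * l)),
      ← zpow_mul, ← zpow_mul, ← zpow_mul, ← zpow_add]
    congr 1
    have : ((p ^ (j : ℕ) : ℕ) : ℤ) = (p : ℤ) ^ s * ((p ^ ((j : ℕ) - s) : ℕ) : ℤ) := by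
      push_cast; rw [← pow_add, Nat.add_sub_cancel' (not_lt.1 hj)]
    rw [this]; ring

end Groth.Agent.S20024
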