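import Groth.Statements.S20025
import Mathlib.LinearAlgebra.Matrix.NonsingularInverse
import Mathlib.Tactic.LinearCombination
import Mathlib.Tactic.FieldSimp
import Mathlib.Algebra.Polynomial.AlgebraMap
import Mathlib.Algebra.Polynomial.Degree.Lemmas
-- import your own Groth.Agent.* helpers here

set_option autoImplicit false
universe u
open InvQ

namespace Groth.Agent.S20025

/-- For the special fibre of the invariant map, over a field in which 2 and 3 are nonzero, consider a
split binary quartic f = ∏_i (μ_i X₀ − λ_i X₁) given by four root points (λ_i, μ_i) ≠ (0, 0), with a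
double zero (vanishing discriminant ∏_{i<j} (λ_j μ_i − λ_i μ_j)²) and no triple zero (no three root
points pairwise proportional); these are the forms of the fibre over the special point P³/Q² = 6 of
the invariant map. Then exactly one of the two alternatives holds: f is a nonzero constant times the
form X₀² X₁ (X₀ − X₁) after an invertible linear substitution of the variables, or f is a nonzero
constant times X₀² X₁² after such a substitution. So this fibre consists of exactly two classes
under substitutions and scalars (one double zero and two simple zeros; two double zeros). (The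
dimensions of the two orbits and which of them is open or closed in the fibre are not part of this
row; stated for split forms over any such field.) -/
theorem result (k : Type u) [Field k]
    (h2 : (2 : k) ≠ 0) (h3 : (3 : k) ≠ 0) (la mu : Fin 4 → k)
    (hne : ∀ i, la i ≠ 0 ∨ mu i ≠ 0) (hd : W4c6intromoduli.disc la mu = 0)
    (h3z : ∀ i j l : Fin 4, i ≠ j → j ≠ l → i ≠ l →
      ¬ (la i * mu j = la j * mu i ∧ la j * mu l = la l * mu j)) :
    Xor
      (∃ (M : Matrix (Fin 2) (Fin 2) k) (c : k), IsUnit M.det ∧ c ≠ 0 ∧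
        W4c6intromoduli.binForm la mu =
          MvPolynomial.C c * W4c6intromoduli.subst M
            (MvPolynomial.X 0 ^ 2 * MvPolynomial.X 1 * (MvPolynomial.X 0 - MvPolynomial.X 1)))
      (∃ (M : Matrix (Fin 2) (Fin 2) k) (c : k), IsUnit M.det ∧ c ≠ 0 ∧
        W4c6intromoduli.binForm la mu =
          MvPolynomial.C c * W4c6intromoduli.subst M
            (MvPolynomial.X 0 ^ 2 * MvPolynomial.X 1 ^ 2)) := by
  classical
  have _ := h2
  have _ := h3
  let L : Fin 4 → MvPolynomial (Fin 2) k := fun i =>
    MvPolynomial.C (mu i) * MvPolynomial.X 0 - MvPolynomial.C (la i) * MvPolynomial.X 1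
  have hf : W4c6intromoduli.binForm la mu = ∏ i, L i := rfl
  have hprop : ∀ i j, la i * mu j = la j * mu i → ∃ c : k, c ≠ 0 ∧ L j = MvPolynomial.C c * L i := by
    intro i j hij
    rcases hne i with hl | hm
    · have hlj : la j ≠ 0 := by
        intro h0
        rcases hne j with h | h
        · exact h h0
        · rw [h0, zero_mul] at hij
          exact (mul_ne_zero hl h) hij
      refine ⟨la j / la i, div_ne_zero hlj hl, ?_⟩
      have e1 : mu j = la j / la i * mu i := by field_simp; linear_combination hij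
      have e2 : la j = la j / la i * la i := by field_simp
      simp only [L]
      rw [congrArg MvPolynomial.C e1, congrArg (MvPolynomial.C (σ := Fin 2)) e2, map_mul, map_mul]
      ring
    · have hmj : mu j ≠ 0 := by
        intro h0
        rcases hne j with h | h
        · rw [h0, mul_zero] at hij
          exact (mul_ne_zero h hm) hij.symm
        · exact h h0
      refine ⟨mu j / mu i, div_ne_zero hmj hm, ?_⟩
      have e1 : la j = mu j / mu i * la i := by field_simp; linear_combination -hij
      have e2 : mu j = mu j / mu i * mu i := by field_simp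
      simp only [L]
      rw [congrArg MvPolynomial.C e1, congrArg (MvPolynomial.C (σ := Fin 2)) e2, map_mul, map_mul]
      ring
  obtain ⟨i, j, hij, hP⟩ : ∃ i j, i ≠ j ∧ la i * mu j = la j * mu i := by
    obtain ⟨p, hp, hp0⟩ := Finset.prod_eq_zero_iff.1 hd
    refine ⟨p.1, p.2, (Finset.mem_filter.1 hp).2.ne, ?_⟩
    have := sub_eq_zero.1 ((pow_eq_zero_iff two_ne_zero).1 hp0)
    linear_combination -this
  let σ : Equiv.Perm (Fin 4) := Equiv.swap (Equiv.swap 0 i 1) j * Equiv.swap 0 i
  have h0 : σ 0 = i := by
    simp only [σ, Equiv.Perm.mul_apply, Equiv.swap_apply_left]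
    refine Equiv.swap_apply_of_ne_of_ne ?_ hij
    intro h
    exact absurd ((Equiv.swap 0 i).injective ((Equiv.swap_apply_left 0 i).trans h)) (by decide)
  have h1 : σ 1 = j := by simp [σ]
  have hdet : ∀ a b, a ≠ b → a = 0 ∨ a = 1 → (b = 2 ∨ b = 3) →
      la (σ a) * mu (σ b) - la (σ b) * mu (σ a) ≠ 0 := by
    intro a b _ ha hb h
    have hP' : la (σ 0) * mu (σ 1) = la (σ 1) * mu (σ 0) := by rw [h0, h1]; exact hP
    rcases ha with rfl | rfl
    · refine h3z (σ 1) (σ 0) (σ b) (σ.injective.ne (by decide)) (σ.injective.ne ?_) (σ.injective.ne ?_)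
        ⟨hP'.symm, sub_eq_zero.1 h⟩ <;> rcases hb with rfl | rfl <;> decide
    · refine h3z (σ 0) (σ 1) (σ b) (σ.injective.ne (by decide)) (σ.injective.ne ?_) (σ.injective.ne ?_)
        ⟨hP', sub_eq_zero.1 h⟩ <;> rcases hb with rfl | rfl <;> decide
  obtain ⟨c, hc, hL1⟩ := hprop (σ 0) (σ 1) (by rw [h0, h1]; exact hP)
  have hprod : W4c6intromoduli.binForm la mu = MvPolynomial.C c * (L (σ 0) ^ 2 * L (σ 2) * L (σ 3)) := by
    rw [hf, ← Equiv.prod_comp σ, Fin.prod_univ_four, hL1]
    ring
  let row : k → Fin 4 → Fin 2 → k := fun r a => ![r * mu a, -(r * la a)]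
  have hrow : ∀ r a, (∑ l : Fin 2, MvPolynomial.C (row r a l) * MvPolynomial.X l) = MvPolynomial.C r * L a := by
    intro r a
    simp only [Fin.sum_univ_two, row, L, Matrix.cons_val_zero, Matrix.cons_val_one, map_neg, map_mul]
    ring
  have hxor : ¬ ((∃ (M : Matrix (Fin 2) (Fin 2) k) (c : k), IsUnit M.det ∧ c ≠ 0 ∧
        W4c6intromoduli.binForm la mu = MvPolynomial.C c * W4c6intromoduli.subst M
            (MvPolynomial.X 0 ^ 2 * MvPolynomial.X 1 * (MvPolynomial.X 0 - MvPolynomial.X 1))) ∧
      (∃ (M : Matrix (Fin 2) (Fin 2) k) (c : k), IsUnit M.det ∧ c ≠ 0 ∧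
        W4c6intromoduli.binForm la mu = MvPolynomial.C c * W4c6intromoduli.subst M
            (MvPolynomial.X 0 ^ 2 * MvPolynomial.X 1 ^ 2))) := by
    rintro ⟨⟨M, a, hM, ha, hA⟩, ⟨N, b, hN, hb, hB⟩⟩
    have hcomp : ∀ P, W4c6intromoduli.subst M⁻¹ (W4c6intromoduli.subst M P) = P := by
      intro P
      have : (W4c6intromoduli.subst M⁻¹).comp (W4c6intromoduli.subst M) = AlgHom.id k _ := by
        refine MvPolynomial.algHom_ext fun x => ?_
        have hMM := congrFun (congrFun (Matrix.mul_nonsing_inv M hM) x)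
        have hy : ∀ y, (∑ z, M x z * M⁻¹ z y) = (1 : Matrix (Fin 2) (Fin 2) k) x y := fun y => by
          rw [← Matrix.mul_apply]; exact hMM y
        simp only [AlgHom.comp_apply, W4c6intromoduli.subst, MvPolynomial.aeval_X, map_sum, map_mul,
          MvPolynomial.aeval_C, MvPolynomial.algebraMap_eq, AlgHom.id_apply]
        simp only [Finset.mul_sum, ← mul_assoc, ← MvPolynomial.C_mul]
        rw [Finset.sum_comm]
        simp only [← Finset.sum_mul, ← map_sum, hy]
        rw [Finset.sum_eq_single x] <;> simp +contextual [Matrix.one_apply, eq_comm]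
      exact AlgHom.congr_fun this P
    have h := congrArg (W4c6intromoduli.subst M⁻¹) (hA.symm.trans hB)
    simp only [map_mul (W4c6intromoduli.subst M⁻¹) (MvPolynomial.C a), map_mul (W4c6intromoduli.subst M⁻¹) (MvPolynomial.C b), hcomp] at h
    have hC : ∀ t : k, W4c6intromoduli.subst M⁻¹ (MvPolynomial.C t) = MvPolynomial.C t := fun t =>
      (W4c6intromoduli.subst M⁻¹).commutes t
    rw [hC, hC] at h
    let ev : MvPolynomial (Fin 2) k →ₐ[k] Polynomial k := MvPolynomial.aeval ![Polynomial.X, 1]
    have h' := congrArg ev h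
    rw [show (MvPolynomial.X (R := k) (0 : Fin 2)) ^ 2 * MvPolynomial.X 1 ^ 2 =
      (MvPolynomial.X 0 * MvPolynomial.X 1) ^ 2 from (mul_pow _ _ _).symm, map_pow, map_pow] at h'
    have h'' : Polynomial.C a * (Polynomial.X ^ 2 * (Polynomial.X - 1)) = Polynomial.C b *
        ev (W4c6intromoduli.subst M⁻¹ (W4c6intromoduli.subst N (MvPolynomial.X 0 * MvPolynomial.X 1))) ^ 2 := by
      simpa [ev] using h'
    have hd' := congrArg Polynomial.natDegree h''
    have hX1 : (Polynomial.X - 1 : Polynomial k) ≠ 0 := Polynomial.X_sub_C_ne_zero 1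
    rw [Polynomial.natDegree_C_mul ha, Polynomial.natDegree_C_mul hb, Polynomial.natDegree_pow,
      Polynomial.natDegree_mul (pow_ne_zero _ Polynomial.X_ne_zero) hX1, Polynomial.natDegree_X_pow,
      show (Polynomial.X - 1 : Polynomial k).natDegree = 1 from Polynomial.natDegree_X_sub_C 1] at hd'
    omega
  by_cases h23 : la (σ 2) * mu (σ 3) = la (σ 3) * mu (σ 2)
  · refine Or.inr ⟨?_, fun h => hxor ⟨h, ?_⟩⟩ <;>
    · obtain ⟨c', hc', hL3⟩ := hprop _ _ h23
      refine ⟨Matrix.of ![row 1 (σ 0), row 1 (σ 2)], c * c', ?_, mul_ne_zero hc hc', ?_⟩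
      · rw [isUnit_iff_ne_zero, Matrix.det_fin_two]
        simp only [row, Matrix.of_apply, Matrix.cons_val_zero, Matrix.cons_val_one, one_mul]
        have := hdet 0 2 (by decide) (Or.inl rfl) (Or.inl rfl)
        intro h'
        exact this (by linear_combination h')
      · rw [hprod, hL3]
        simp [W4c6intromoduli.subst, hrow, -Fin.sum_univ_two]
        ring
  · refine Or.inl ⟨?_, fun h => hxor ⟨?_, h⟩⟩ <;>
    · have d02 := hdet 0 2 (by decide) (Or.inl rfl) (Or.inl rfl)
      have d03 := hdet 0 3 (by decide) (Or.inl rfl) (Or.inr rfl)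
      set D := la (σ 3) * mu (σ 2) - la (σ 2) * mu (σ 3) with hD
      have hD0 : D ≠ 0 := fun h => h23 (by linear_combination -h)
      set e3 := la (σ 3) * mu (σ 0) - la (σ 0) * mu (σ 3) with he3
      have he30 : e3 ≠ 0 := fun h => d03 (by linear_combination -h)
      set e2 := la (σ 0) * mu (σ 2) - la (σ 2) * mu (σ 0) with he2
      have hkey : MvPolynomial.C D * L (σ 0) - MvPolynomial.C e3 * L (σ 2) = MvPolynomial.C e2 * L (σ 3) := by
        simp only [hD, he3, he2, L, map_sub, map_mul]
        ring
      have hne' : D ^ 2 * e3 * e2 ≠ 0 := mul_ne_zero (mul_ne_zero (pow_ne_zero _ hD0) he30) d02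
      refine ⟨Matrix.of ![row D (σ 0), row e3 (σ 2)], c * (D ^ 2 * e3 * e2)⁻¹, ?_,
        mul_ne_zero hc (inv_ne_zero hne'), ?_⟩
      · rw [isUnit_iff_ne_zero, Matrix.det_fin_two]
        simp only [row, Matrix.of_apply, Matrix.cons_val_zero, Matrix.cons_val_one]
        intro h'
        refine mul_ne_zero (mul_ne_zero hD0 he30) d02 ?_
        linear_combination h'
      · rw [hprod]
        simp only [W4c6intromoduli.subst, map_mul, map_pow, map_sub, MvPolynomial.aeval_X, Matrix.of_apply,
          Matrix.cons_val_zero, Matrix.cons_val_one, hrow, hkey]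
        have : MvPolynomial.C (D ^ 2 * e3 * e2)⁻¹ * (MvPolynomial.C D ^ 2 * MvPolynomial.C e3 * MvPolynomial.C e2) =
            (1 : MvPolynomial (Fin 2) k) := by
          rw [← map_pow, ← map_mul, ← map_mul, ← map_mul, inv_mul_cancel₀ hne', map_one]
        linear_combination (-(MvPolynomial.C c * L (σ 0) ^ 2 * L (σ 2) * L (σ 3))) * this
end Groth.Agent.S20025
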