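import Groth.Statements.S20027
import Groth.Agent.CAlgH3.GrVerPoly
-- import your own Groth.Agent.* helpers here

set_option autoImplicit false
universe u
open GrLC

namespace Groth.Agent.S20027

/-- Let k be a field, s ≥ 1, d ≥ 1, and R = k[X_1, …, X_s] graded with every variable in degree 1.
Present the Veronese subring R^(d) = ⊕_j R_{jd} as a commutative ring R' with an injective ring
homomorphism φ : R' → R whose image is the set of polynomials whose homogeneous components in all
degrees not divisible by d are zero, and let m' be the maximal ideal of R' that is the preimage of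
the ideal of polynomials with zero constant term (the irrelevant ideal of R^(d)). Let n be the least
integer such that n ≥ s and d divides n. Then the type of R^(d), namely the Bass number μ_s(m', R')
= dim over the residue field of Ext^s over the local ring R'_{m'} from its residue field to R'_{m'}
(here s = dim R'), equals the binomial coefficient (n − 1 choose s − 1). -/
theorem result (k : Type u) [Field k] (s d : ℕ) (hs : 1 ≤ s)
    (hd : 1 ≤ d) (R' : Type u) [CommRing R'] (φ : R' →+* MvPolynomial (Fin s) k)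
    (hφ : Function.Injective φ)
    (hrange : ∀ p : MvPolynomial (Fin s) k, p ∈ φ.range ↔
      ∀ j : ℕ, ¬ d ∣ j → MvPolynomial.homogeneousComponent j p = 0)
    (m' : Ideal R') [m'.IsMaximal]
    (hm' : m' = Ideal.comap φ (RingHom.ker (MvPolynomial.constantCoeff : MvPolynomial (Fin s) k →+* k)))
    (n : ℕ) (hsn : s ≤ n) (hdn : d ∣ n) (hmin : ∀ n' : ℕ, s ≤ n' → d ∣ n' → n ≤ n') :
    GrLC.bassNum m' R' s = (Nat.choose (n - 1) (s - 1) : ℕ∞) := by
  classical
  let 𝒜 := Groth.Agent.CAlgH3.GrVerPoly.gr k s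
  letI := Groth.Agent.CAlgH3.GrVerPoly.gradedRingVer φ d hrange hφ (by omega)
  haveI : LocCoh.IsGorensteinRing (MvPolynomial (Fin s) k) := Groth.Agent.CAlgH3.GrVerPoly.gorenstein k s
  haveI : LocCoh.IsCohenMacaulayRing (MvPolynomial (Fin s) k) := Groth.Agent.CAlgH3.GrVeroneseThms.cm_of_gorenstein
  let m := Groth.Agent.CAlgH3.GrVeroneseGor.posIdeal 𝒜
  let M' := Groth.Agent.CAlgH3.GrVeroneseGor.posIdeal (Groth.Agent.CAlgH3.GrVerPoly.verGr φ d)
  have hM : M'.toIdeal = m' :=
    (Groth.Agent.CAlgH3.GrVerPoly.span_pos_ver φ d hrange hφ (by omega)).trans hm'.symm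
  haveI : M'.toIdeal.IsMaximal := hM.symm ▸ inferInstance
  have hpos := Groth.Agent.CAlgH3.GrVerPoly.gr_neg k s
  have h0 := Groth.Agent.CAlgH3.GrVerPoly.isField_deg0 k s
  have hm : GrLC.IsStarLocal 𝒜 m := Groth.Agent.CAlgH3.GrVeroneseGor.isStarLocal_pos hpos h0 rfl
  letI := φ.toAlgebra
  have hV : Groth.Agent.CAlgH3.GrVeronese.IsVer 𝒜 (Groth.Agent.CAlgH3.GrVerPoly.verGr φ d) d :=
    ⟨by omega, hφ, Groth.Agent.CAlgH3.GrVerPoly.map_verGr φ d hrange⟩
  haveI : Nontrivial R' := φ.domain_nontrivial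
  let I := Groth.Agent.GrLib.starRes 𝒜 𝒜
  have hn := Groth.Agent.CAlgH3.GrVerPoly.ringKrullDim_eq k s
  have ha := Groth.Agent.CAlgH3.GrVerPoly.endDeg_top k s m hm rfl I
  have hlt : n - s < d := by
    by_contra hc
    have := hmin (n - d) (by omega) (Nat.dvd_sub hdn dvd_rfl)
    omega
  have hdvd : (d : ℤ) ∣ -(s : ℤ) - ((n - s : ℕ) : ℤ) := by
    rw [show -(s : ℤ) - ((n - s : ℕ) : ℤ) = -(n : ℤ) by omega]
    exact dvd_neg.2 (Int.natCast_dvd_natCast.2 hdn)
  have key := (Groth.Agent.CAlgH3.GrVeroneseGor.bassNum_ver_standard hV hpos h0 (m := m) rfl (m' := M') rfl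
    ((Groth.Agent.CAlgH3.GrVerPoly.span_pos k s).trans (Groth.Agent.CAlgH3.GrVerPoly.span_one k s).symm)
    hn I (fun i hi g => Groth.Agent.CAlgH3.GrVeroneseThms.Hgr_low hpos hm hn I i hi g)
    (Groth.Agent.CAlgH3.GrDualAt.isDualAt_top hpos h0 hm hn I ha) (Int.natCast_nonneg (n - s))
    (by exact_mod_cast hlt) hdvd).1
  obtain ⟨r, rfl⟩ := Nat.exists_eq_succ_of_ne_zero (show s ≠ 0 by omega)
  rw [Groth.Agent.CAlgH3.GrVerPoly.finrank_piece k (n - (r + 1))] at key
  rw [show n - 1 = r + (n - (r + 1)) by omega, Nat.succ_sub_one]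
  subst hM
  exact key

end Groth.Agent.S20027
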