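import Groth.Statements.S20029
import Groth.Agent.S19262
import Groth.Agent.S5976
import Groth.Agent.S5020
import Groth.Agent.Omega15.ConormalDiffExist
import Groth.Agent.Omega15.Compat
import Groth.Agent.Lef23.Formal
import Groth.Agent.Lef23.LongExact
import Groth.Agent.EulerPn5.TangentHyp
import Groth.Agent.WeilFin.EtaleTriv
import Groth.Agent.Coherent.SchemeCoh
import Groth.Agent.Coherent.ProjFormula
-- import your own Groth.Agent.* helpers here

set_option autoImplicit false
universe u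
open CategoryTheory CategoryTheory.Limits AlgebraicGeometry
open Coh

namespace Groth.Agent.S20029

open CategoryTheory CategoryTheory.Limits Opposite TopologicalSpace
open Groth.Agent.Coherent Groth.Agent.PicLib Groth.Agent.AmpleLib Groth.Agent.ExtFilt28

attribute [local instance] Limits.HasBinaryBiproducts.of_hasBinaryProducts

/-- The conormal sequence of absolute differentials of a smooth closed subscheme of a smooth scheme. -/
theorem exists_absolute_seq {k : Type u} [Field k] {X Z : Scheme.{u}} (i : Z ⟶ X) [IsClosedImmersion i]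
    (f : X ⟶ Spec (CommRingCat.of k)) [QuasiSeparated f] [Smooth (i ≫ f)] :
    ∃ S : ShortComplex Z.Modules, S.ShortExact ∧ S.X₁ = Omega.conormal i ∧
      S.X₂ = (Scheme.Modules.pullback i).obj (Omega.sheaf (f ≫ specULiftZIsTerminal.from (Spec (CommRingCat.of k)))) ∧
      S.X₃ = Omega.sheaf (i ≫ f ≫ specULiftZIsTerminal.from (Spec (CommRingCat.of k))) := by
  let q := specULiftZIsTerminal.from (Spec (CommRingCat.of k))
  let p := f ≫ q
  haveI : QuasiSeparated q := inferInstance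
  haveI : QuasiSeparated p := inferInstance
  haveI : QuasiSeparated (i ≫ p) := inferInstance
  obtain ⟨φ, hφ⟩ := Omega15.exists_conormalDiff i (OmegaSh.dOmega p)
  obtain ⟨c, hc, -⟩ := Omega15.existsUnique_compat (f' := i ≫ p) i (𝟙 _) (Category.comp_id _)
    (OmegaLib.isUniversal_dOmega p) (OmegaSh.dOmega (i ≫ p))
  obtain ⟨hepi, him⟩ := S5976.result p i _ _ (OmegaLib.isUniversal_dOmega p) _ _
    (OmegaLib.isUniversal_dOmega (i ≫ p)) φ hφ c hc
  let dk : OmegaSh.Der p (Omega.sheaf f) :=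
    { d := (OmegaSh.dOmega f).d
      d_mul := (OmegaSh.dOmega f).d_mul
      d_map := (OmegaSh.dOmega f).d_map
      d_app := fun a => (OmegaSh.dOmega f).d_app (q.c.app _ a) }
  obtain ⟨α, hα, -⟩ := OmegaLib.isUniversal_dOmega p _ dk
  haveI : Mono (φ ≫ (Scheme.Modules.pullback i).map α) := by
    refine S5020.result i f (Omega15.isFormallySmoothHom_of_smooth (i ≫ f)) _ _
      (OmegaLib.isUniversal_dOmega f) _ fun U s => ?_
    rw [Scheme.Modules.Hom.comp_app, ConcreteCategory.comp_apply, hφ U s]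
    have e := congr(($((Scheme.Modules.pullbackPushforwardAdjunction i).unit.naturality α)).app U
      ((OmegaSh.dOmega p).app U (OmegaSh.idealSect i.ker U s)))
    refine Eq.trans e.symm ?_
    exact congrArg (OmegaSh.pullSect i (Omega.sheaf f) U)
      congr(OmegaSh.Der.app $hα U (OmegaSh.idealSect i.ker U s))
  haveI : Mono φ := mono_of_mono φ ((Scheme.Modules.pullback i).map α)
  have w : φ ≫ c = 0 := by
    rw [← imageSubobject_arrow_comp φ, Category.assoc]
    rw [← Subobject.ofLE_arrow (le_of_eq him), Category.assoc, kernelSubobject_arrow_comp, comp_zero, comp_zero]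
  haveI := hepi
  exact ⟨ShortComplex.mk φ c w, { exact := (ShortComplex.exact_iff_image_eq_kernel _).2 him }, rfl, rfl, rfl⟩

/-- Higher exterior powers of an invertible module vanish. -/
theorem isZero_extPow_of_invertible {X : Scheme.{u}} {C L : X.Modules} (hC : PicF.IsInvertible C) {a : ℕ}
    (ha : 2 ≤ a) (h : ExtPow.IsExtPow a C L) : IsZero L := by
  obtain ⟨φ, -⟩ := h
  refine (IsZero.iff_id_eq_zero _).2 (InjMod14.Kosz.hom_ext_affine _ _ fun V s => AmpleLib.sec_ext _ _ _ fun x hx => ?_)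
  obtain ⟨U, hxU, ⟨e⟩⟩ := PicLib.isFinLocFreeOfRank_one hC x
  obtain ⟨W, hW, hxW, hle⟩ := exists_isAffineOpen_mem_and_subset (x := x) (U := V.1 ⊓ U) ⟨hx, hxU⟩
  obtain ⟨b⟩ := Props12.exists_basis_sections e (W := W) (show W ≤ U from fun y hy => (hle hy).2)
  let b' : Module.Basis (Fin 1) Γ(X, W) (C.val.obj (op W)) := b
  haveI : IsEmpty ↑(Set.powersetCard (Fin 1) a) := ⟨fun t => by
    have h1 := Finset.card_le_univ t.1
    rw [t.2, Fintype.card_fin] at h1
    omega⟩
  haveI : Subsingleton ↥(⋀[Γ(X, W)]^a (C.val.obj (op W))) :=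
    (b'.exteriorPower a).repr.toEquiv.subsingleton
  haveI : Subsingleton (L.val.obj (op W)) := (φ ⟨W, hW⟩).toEquiv.subsingleton
  exact ⟨W, fun y hy => (hle hy).1, hxW, (inferInstance : Subsingleton (L.val.obj (op W))).elim _ _⟩

/-- Let k be a field of characteristic p > 0 whose Frobenius endomorphism is finite, X a scheme smooth
and proper over k of relative dimension N, and 𝓘 a quasi-coherent ideal of X whose ideal module is
invertible with an ample tensor-inverse L, such that the closed subscheme Y defined by 𝓘, with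
inclusion i : Y → X, is smooth over k (a smooth hypersurface section; no boundary divisor). Suppose
Y is sufficiently ample with respect to X: for every q ≥ 0 and every O_X-module Ω which is a q-th
exterior power of the sheaf of absolute differentials Ω_{X/ℤ}, one has H^i(X, 𝓘^{⊗ n} ⊗ Ω) = 0 for
all n ≥ 1 and all i with i + q ≤ N − 1. Then the analogous vanishing holds on Y one degree lower:
for every q ≥ 0 and every O_Y-module Ω' which is a q-th exterior power of the absolute differentials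
Ω_{Y/ℤ}, H^i(Y, (i^*𝓘)^{⊗ n} ⊗ Ω') = 0 for all n ≥ 1 and all i with i + q ≤ N − 2, where i^*𝓘 is the
module pullback of the ideal module along i (the conormal sheaf O_Y(−Y)). -/
theorem result
    (k : Type u) [Field k] (p : ℕ) [Fact p.Prime] [CharP k p] (hF : (frobenius k p).Finite)
    (X : Scheme.{u}) (f : X ⟶ Spec (CommRingCat.of k)) [IsProper f] (N : ℕ)
    [SmoothOfRelativeDimension N f]
    (𝓘 : X.IdealSheafData) (L : X.Modules) (hL : ClSub.IsInverseOf L (ClSub.idealMod 𝓘)) (hamp : CohB1.IsAmple L)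
    [Smooth (𝓘.subschemeι ≫ f)]
    (hsa : ∀ (q : ℕ) (Ω : X.Modules), ExtPow.IsExtPow q (Omega.sheaf (specULiftZIsTerminal.from X)) Ω → ∀ n i : ℕ, 1 ≤ n → i + q + 1 ≤ N → Subsingleton (Coh.HH X (CohB1.tensorMod (CohB1.tensorPow (ClSub.idealMod 𝓘) n) Ω) i)) :
    ∀ (q : ℕ) (Ω' : (𝓘.subscheme).Modules),
      ExtPow.IsExtPow q (Omega.sheaf (specULiftZIsTerminal.from 𝓘.subscheme)) Ω' →
      ∀ n i : ℕ, 1 ≤ n → i + q + 2 ≤ N →
        Subsingleton (Coh.HH 𝓘.subscheme
          (CohB1.tensorMod (CohB1.tensorPow ((Scheme.Modules.pullback 𝓘.subschemeι).obj (ClSub.idealMod 𝓘)) n) Ω') i) := by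
  haveI : Smooth f := SmoothOfRelativeDimension.smooth N f
  haveI : IsLocallyNoetherian X := LocallyOfFiniteType.isLocallyNoetherian f
  let ι := 𝓘.subschemeι
  haveI : Smooth (ι ≫ f) := ‹_›
  let q₀ := specULiftZIsTerminal.from (Spec (CommRingCat.of k))
  let pX := f ≫ q₀
  have hpX : specULiftZIsTerminal.from X = pX := specULiftZIsTerminal.hom_ext _ _
  have hpY : specULiftZIsTerminal.from 𝓘.subscheme = ι ≫ pX := specULiftZIsTerminal.hom_ext _ _
  rw [hpX] at hsa
  let IM := ClSub.idealMod 𝓘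
  have hI : PicF.IsInvertible IM :=
    MorProj.isInvertible_of_tensor_iso ((tensorComm _ _) ≪≫ hL.some)
  have hk := S19262.isFinLocFree_omega_field k p hF
  have hΩX : FlatMod.IsFinLocFree (Omega.sheaf pX) := by
    obtain ⟨c, S, hS, h1, h2, h3⟩ := S19262.shortExact_omega f
    exact h2 ▸ isFinLocFree_extension hS (h1 ▸ DCat.PullPerf.isFinLocFree_pullback f hk)
      (h3 ▸ LiftObs29.isFinLocFree_omega f)
  have hΩY : FlatMod.IsFinLocFree (Omega.sheaf (ι ≫ pX)) := by
    obtain ⟨c, S, hS, h1, h2, h3⟩ := S19262.shortExact_omega (ι ≫ f)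
    have h := isFinLocFree_extension hS (h1 ▸ DCat.PullPerf.isFinLocFree_pullback (ι ≫ f) hk)
      (h3 ▸ LiftObs29.isFinLocFree_omega (ι ≫ f))
    rw [h2, Category.assoc] at h
    exact h
  obtain ⟨S, hS, hS₁, hS₂, hS₃⟩ := exists_absolute_seq ι f
  let i₁ := (Scheme.Modules.pullback ι).obj IM
  have hi₁ : PicF.IsInvertible i₁ := PicLoc.isInvertible_pullback ι hI
  have eC : S.X₁ ≅ i₁ :=
    eqToIso hS₁ ≪≫ (Scheme.Modules.pullback ι).mapIso (eqToIso (congrArg ClSub.idealMod 𝓘.ker_subschemeι))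
  have hC : PicF.IsInvertible S.X₁ := fun y => by
    obtain ⟨U, hy, ⟨e'⟩⟩ := hi₁ y
    exact ⟨U, hy, ⟨(Scheme.Modules.restrictFunctor U.ι).mapIso eC ≪≫ e'⟩⟩
  have h₁ : FlatMod.IsFinLocFree S.X₁ := isFinLocFree_congr eC.symm (isFinLocFree_of_invertible hi₁)
  have h₃ : FlatMod.IsFinLocFree S.X₃ := hS₃ ▸ hΩY
  have h₂ : FlatMod.IsFinLocFree S.X₂ := isFinLocFree_extension hS h₁ h₃
  choose L' hL'f hL' using fun a => ExtPowEx28.exists_isExtPow h₁ a
  choose L'' hL''f hL'' using fun a => ExtPowEx28.exists_isExtPow h₃ a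
  choose ΛX hΛXf hΛX using fun a => ExtPowEx28.exists_isExtPow hΩX a
  let Λ := fun a => (Scheme.Modules.pullback ι).obj (ΛX a)
  have hLf : ∀ a, FlatMod.IsFinLocFree (Λ a) := fun a => DCat.PullPerf.isFinLocFree_pullback ι (hΛXf a)
  have hΛ : ∀ a, ExtPow.IsExtPow a S.X₂ (Λ a) := fun a => hS₂ ▸ ExtPowEx28.isExtPow_pullback_vb ι hΩX (hΛX a)
  have hL'z : ∀ a, 2 ≤ a → IsZero (L' a) := fun a ha => isZero_extPow_of_invertible hC ha (hL' a)
  obtain ⟨e₀⟩ := KvbLam28.exists_iso_of_isExtPow (hL' 0) (KvbLam28.isExtPow_zero S.X₁)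
  obtain ⟨e₁⟩ := KvbLam28.exists_iso_of_isExtPow (hL' 1) (KvbLam28.isExtPow_one S.X₁)
  haveI : ∀ a, Coh.IsQCoh (L' a) := fun a => CAlgH3.LocFreeFactor.isQCoh_of_finLocFree (hL'f a)
  haveI : ∀ a, Coh.IsQCoh (L'' a) := fun a => CAlgH3.LocFreeFactor.isQCoh_of_finLocFree (hL''f a)
  haveI : ∀ a, Coh.IsQCoh (Λ a) := fun a => CAlgH3.LocFreeFactor.isQCoh_of_finLocFree (hLf a)
  -- the restricted vanishing
  have hres : ∀ (q n i : ℕ), 1 ≤ n → i + q + 2 ≤ N →
      Subsingleton (Coh.HH 𝓘.subscheme (CohB1.tensorMod (CohB1.tensorPow i₁ n) (Λ q)) i) := by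
    intro q n i hn hi
    let G := CohB1.tensorMod (CohB1.tensorPow IM n) (ΛX q)
    have hG : FlatMod.IsFinLocFree G :=
      isFinLocFree_tensor (isFinLocFree_of_invertible (isInvertible_tensorPow hI n)) (hΛXf q)
    haveI := AmpleLib.mono_idealModι 𝓘
    haveI := EulerPn5.mono_tensorMap_flat (ClSub.idealModι 𝓘) hG
    have hm : Mono ((DCoh.tensorBi.map (ClSub.idealModι 𝓘)).app G) := by
      rw [KoszTw.tensorBi_map_app]
      exact EulerPn5.mono_tensorMap_flat _ hG
    have hT := Lef23.shortExact_tensor 𝓘 G hm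
    have h2 : Subsingleton (Coh.HH X (CohB1.tensorMod (Coh.structureModule X) G) i) :=
      Lef23.subsingleton_HH_iso (unitTensorIso G).symm i (hsa q _ (hΛX q) n i hn (by omega))
    have h1 : Subsingleton (Coh.HH X (CohB1.tensorMod IM G) (i + 1)) :=
      Lef23.subsingleton_HH_iso ((AmpleLib.tensorIso (tensorComm _ _) (Iso.refl _)) ≪≫
        DCat.TensorAssoc.assocIso IM (CohB1.tensorPow IM n) (ΛX q)) (i + 1)
        (hsa q _ (hΛX q) (n + 1) (i + 1) (by omega) (by omega))
    have h3 : Subsingleton (Coh.HH X (CohB1.tensorMod ((Scheme.Modules.pushforward ι).obj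
        (Coh.structureModule 𝓘.subscheme)) G) i) := Lef23.subsingleton_right hT i h2 h1
    haveI := Coherent.isIso_projHom (f := ι) hG (Coh.structureModule 𝓘.subscheme)
    let Gi := (Scheme.Modules.pullback ι).obj G
    haveI : Coh.IsQCoh Gi := CAlgH3.LocFreeFactor.isQCoh_of_finLocFree (DCat.PullPerf.isFinLocFree_pullback ι hG)
    let e : CohB1.tensorMod ((Scheme.Modules.pushforward ι).obj (Coh.structureModule 𝓘.subscheme)) G ≅
        (Coh.push ι).obj Gi :=
      tensorComm _ _ ≪≫ asIso (projHom ι G (Coh.structureModule 𝓘.subscheme)) ≪≫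
        (Scheme.Modules.pushforward ι).mapIso (tensorComm _ _ ≪≫ unitTensorIso Gi)
    have h4 : Subsingleton (Coh.HH X ((Coh.push ι).obj Gi) i) := Lef23.subsingleton_HH_iso e i h3
    have h5 : Subsingleton (Coh.HH 𝓘.subscheme Gi i) := (HHAffinePushEquiv ι Gi i).toEquiv.subsingleton
    obtain ⟨et⟩ := WeilFin.nonempty_pullback_tensorPow ι IM n
    exact Lef23.subsingleton_HH_iso
      (DCat.PullTensor.pullTensorIso ι _ _ ≪≫ AmpleLib.tensorIso et (Iso.refl _)) i h5
  choose φ' c' using hL'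
  choose φ'' c'' using id hL''
  choose φ cφ using id hΛ
  suffices key : ∀ (q n i : ℕ), 1 ≤ n → i + q + 2 ≤ N →
      Subsingleton (Coh.HH 𝓘.subscheme (CohB1.tensorMod (CohB1.tensorPow i₁ n) (L'' q)) i) by
    intro q Ω' hΩ' n i hn hi
    rw [hpY] at hΩ'
    obtain ⟨eΩ⟩ := KvbLam28.exists_iso_of_isExtPow (hS₃ ▸ hL'' q : ExtPow.IsExtPow q _ (L'' q)) hΩ'
    exact Lef23.subsingleton_HH_iso (AmpleLib.tensorIso (Iso.refl _) eΩ) i (key q n i hn hi)
  intro q
  induction q with
  | zero =>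
    intro n i hn hi
    have eΛ : Λ 0 ≅ L'' 0 :=
      (KvbLam28.exists_iso_of_isExtPow (hΛ 0) (KvbLam28.isExtPow_zero S.X₂)).some ≪≫
        (KvbLam28.exists_iso_of_isExtPow (hL'' 0) (KvbLam28.isExtPow_zero S.X₃)).some.symm
    exact Lef23.subsingleton_HH_iso (AmpleLib.tensorIso (Iso.refl _) eΛ) i (hres 0 n i hn hi)
  | succ q ih =>
    intro n i hn hi
    let P := CohB1.tensorPow i₁ n
    have hP : PicF.IsInvertible P := isInvertible_tensorPow hi₁ n
    -- the zeroth step
    have h0 : 0 + (q + 1) = q + 1 := zero_add _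
    have h1 : 0 + 1 + q = q + 1 := by omega
    obtain ⟨w, hw⟩ := exists_step hS h₁ h₃ φ' φ φ'' c' cφ c'' h0 h1
    have hsurj : Epi (muH φ' φ c' cφ (zero_add (q + 1))) := epi_of_locally_surjective _ fun W a y hy => by
      obtain ⟨V, hyV, hVW, -⟩ := exists_good hS h₁ h₃ W y hy
      obtain ⟨b, hb⟩ := muSec_zero_surjective φ' φ (V := V) (resM _ hVW a)
      exact ⟨V.1, hVW, hyV, b, (muH_app φ' φ c' cφ (zero_add (q + 1)) V b).trans hb⟩
    haveI : IsIso (Abelian.image.ι (muH φ' φ c' cφ (zero_add (q + 1)))) := by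
      haveI : Epi (Abelian.image.ι (muH φ' φ c' cφ (zero_add (q + 1)))) :=
        epi_of_epi_fac (Abelian.image.fac (muH φ' φ c' cφ (zero_add (q + 1))))
      exact isIso_of_mono_of_epi _
    -- the first step
    have eF : Fil φ' φ c' cφ h1 ≅ CohB1.tensorMod (L' 1) (L'' q) := by
      haveI : IsIso (toQ hS h₁ h₃ φ' φ φ'' c' cφ c'' h1) := by
        cases q with
        | zero => exact isIso_toQ_zero hS h₁ h₃ φ' φ φ'' c' cφ c'' h1
        | succ r =>
          have h2 : 0 + 1 + 1 + r = r + 1 + 1 := by omega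
          obtain ⟨w', hw'⟩ := exists_step hS h₁ h₃ φ' φ φ'' c' cφ c'' (i := 0 + 1) (j := r) h1 h2
          refine @isIso_of_mono_of_epi _ _ _ _ _ _ ?_ hw'.epi_g
          refine hw'.exact.mono_g (IsZero.eq_of_src ?_ _ _)
          refine IsZero.of_mono_eq_zero (Abelian.image.ι (muH φ' φ c' cφ h2)) ?_
          rw [← cancel_epi (Abelian.factorThruImage (muH φ' φ c' cφ h2)), Abelian.image.fac, comp_zero]
          haveI : (Coherent.tensE (Λ r)).Additive := DCoh.additive_tensorBi_obj (Λ r)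
          exact IsZero.eq_of_src (IsZero.of_iso
            ((Coherent.tensE (Λ r)).map_isZero (hL'z _ (by omega))) (tensorComm _ _)) _ _
      exact asIso (toQ hS h₁ h₃ φ' φ φ'' c' cφ c'' h1)
    -- the twisted sequence
    have hT := EulerLib.twistSeq_shortExact hP hw
    have hA : Subsingleton (Coh.HH 𝓘.subscheme (CohB1.tensorMod (Fil φ' φ c' cφ h1) P) (i + 1)) :=
      Lef23.subsingleton_HH_iso
        (DCat.TensorAssoc.assocIso P i₁ (L'' q) ≪≫ tensorComm _ _ ≪≫
          AmpleLib.tensorIso (AmpleLib.tensorIso (eC.symm ≪≫ e₁.symm) (Iso.refl _) ≪≫ eF.symm) (Iso.refl P)) (i + 1)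
        (ih (n + 1) (i + 1) (by omega) (by omega))
    have hB : Subsingleton (Coh.HH 𝓘.subscheme (CohB1.tensorMod (Fil φ' φ c' cφ h0) P) i) :=
      Lef23.subsingleton_HH_iso
        (tensorComm _ _ ≪≫ AmpleLib.tensorIso (asIso (Abelian.image.ι (muH φ' φ c' cφ (zero_add (q + 1))))).symm (Iso.refl P))
        i (hres (q + 1) n i hn hi)
    have hQ := Lef23.subsingleton_right hT i hB hA
    exact Lef23.subsingleton_HH_iso
      (AmpleLib.tensorIso (AmpleLib.tensorIso e₀ (Iso.refl _) ≪≫ unitTensorIso _) (Iso.refl P) ≪≫ tensorComm _ _) i hQ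
end Groth.Agent.S20029
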