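import Groth.Statements.S2007
import Groth.Agent.HenselLib.FlatQuot

set_option autoImplicit false
universe u
open TensorProduct
open EtAlg

namespace Groth.Agent.S2007

/-- Let R -> S be a flat ring map and I a finitely generated ideal of R such that R/I -> S/IS is
bijective. Let N be an R-module, M' an S-module and φ : M' -> S ⊗_R N an S-linear map whose kernel
and cokernel are I-power torsion (every element of the kernel, resp. of the target modulo the image,
is killed by some power of I). Then there are an R-module M, an R-linear map ψ : M -> N and an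
S-isomorphism S ⊗_R M ≅ M' identifying φ with the base change of ψ. -/
theorem result (R S : Type u) [CommRing R] [CommRing S] [Algebra R S] [Module.Flat R S] (I : Ideal R)
    (hI : I.FG) (hq : Function.Bijective (Ideal.quotientMap (I.map (algebraMap R S)) (algebraMap R S) Ideal.le_comap_map))
    (N : Type u) [AddCommGroup N] [Module R N] (M' : Type u) [AddCommGroup M'] [Module S M'] (φ : M' →ₗ[S] S ⊗[R] N)
    (hker : ∀ x : M', φ x = 0 → ∃ n : ℕ, ∀ a ∈ I ^ n, algebraMap R S a • x = 0)
    (hcoker : ∀ y : S ⊗[R] N, ∃ n : ℕ, ∀ a ∈ I ^ n, algebraMap R S a • y ∈ LinearMap.range φ) :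
    ∃ (M : Type u) (_ : AddCommGroup M) (_ : Module R M) (ψ : M →ₗ[R] N) (e : S ⊗[R] M ≃ₗ[S] M'),
      φ ∘ₗ e.toLinearMap = ψ.baseChange S := by
  letI : Module R M' := Module.compHom M' (algebraMap R S)
  haveI : IsScalarTower R S M' := IsScalarTower.of_algebraMap_smul fun r x => rfl
  have hk : ∀ x : M', φ x = 0 → HenselLib.FlatQuot.IsTors I x := fun x hx => by
    obtain ⟨n, hn⟩ := hker x hx
    exact ⟨n, fun a ha => by rw [← IsScalarTower.algebraMap_smul S a x]; exact hn a ha⟩
  have hc : ∀ y : S ⊗[R] N, ∃ n : ℕ, ∀ a ∈ I ^ n, a • y ∈ LinearMap.range φ := fun y => by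
    obtain ⟨n, hn⟩ := hcoker y
    exact ⟨n, fun a ha => by rw [← IsScalarTower.algebraMap_smul S a y]; exact hn a ha⟩
  let e := LinearEquiv.ofBijective _
    (HenselLib.FlatQuot.bijective_liftBaseChange_gluedFst hq N φ hk hc)
  refine ⟨HenselLib.FlatQuot.glued N φ, inferInstance, inferInstance,
    HenselLib.FlatQuot.gluedSnd N φ, e, LinearMap.ext fun z => ?_⟩
  change φ ((HenselLib.FlatQuot.gluedFst N φ).liftBaseChange S z) = _
  induction z with
  | zero => simp
  | add a b ha hb => simp only [map_add, ha, hb]
  | tmul s m =>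
    rw [LinearMap.liftBaseChange_tmul, LinearMap.baseChange_tmul, map_smul,
      show φ (HenselLib.FlatQuot.gluedFst N φ m) = 1 ⊗ₜ[R] m.1.2 from
        (HenselLib.FlatQuot.mem_glued N φ).mp m.2,
      TensorProduct.smul_tmul', smul_eq_mul, mul_one]
    rfl

end Groth.Agent.S2007
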