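import Groth.Statements.S2008
import Groth.Agent.HenselLib.FlatQuot
import Mathlib.RingTheory.Spectrum.Prime.RingHom
import Mathlib.RingTheory.LocalRing.ResidueField.Ideal

set_option autoImplicit false
universe u
open TensorProduct
open EtAlg

namespace Groth.Agent.S2008

/-- For a ring map R -> S and an ideal I of R the following are equivalent: (1) S is flat over R and
S/IS is faithfully flat over R/I; (2) S is flat over R and Spec(S/IS) -> Spec(R/I) is surjective;
(3) S is flat over R and S ⊗_R M is nonzero for every nonzero R-module M killed by I; (4) S is flat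
over R and S ⊗_R M is nonzero for every nonzero I-power torsion R-module M. (Faithfulness of base
change on these subcategories is stated as detection of nonzero objects, which is equivalent for an
exact functor.) -/
theorem result (R S : Type u) [CommRing R] [CommRing S] [Algebra R S] (I : Ideal R) :
    List.TFAE [
      Module.Flat R S ∧ Module.FaithfullyFlat (R ⧸ I) (S ⧸ I.map (algebraMap R S)),
      Module.Flat R S ∧ Function.Surjective (PrimeSpectrum.comap (Ideal.quotientMap (I.map (algebraMap R S)) (algebraMap R S) Ideal.le_comap_map)),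
      Module.Flat R S ∧ ∀ (M : Type u) [AddCommGroup M] [Module R M], (∀ (a : R) (m : M), a ∈ I → a • m = 0) →
        Nontrivial M → Nontrivial (S ⊗[R] M),
      Module.Flat R S ∧ ∀ (M : Type u) [AddCommGroup M] [Module R M], (∀ m : M, ∃ n : ℕ, ∀ a ∈ I ^ n, a • m = 0) →
        Nontrivial M → Nontrivial (S ⊗[R] M)] := by
  tfae_have 1 → 2 := by
    rintro ⟨hf, hff⟩
    refine ⟨hf, ?_⟩
    exact PrimeSpectrum.comap_surjective_of_faithfullyFlat (A := R ⧸ I) (B := S ⧸ I.map (algebraMap R S))
  tfae_have 2 → 1 := by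
    rintro ⟨hf, hs⟩
    haveI := hf
    refine ⟨hf, ?_⟩
    haveI : Module.Flat (R ⧸ I) (S ⧸ I.map (algebraMap R S)) :=
      Module.Flat.of_linearEquiv (Algebra.TensorProduct.quotIdealMapEquivQuotTensor S I).toLinearEquiv
    exact Module.FaithfullyFlat.of_comap_surjective hs
  tfae_have 2 → 3 := by
    rintro ⟨hf, hs⟩
    haveI := hf
    refine ⟨hf, fun M _ _ hM hne => ?_⟩
    obtain ⟨m, hm⟩ := exists_ne (0 : M)
    let f : R →ₗ[R] M := LinearMap.toSpanSingleton R M m
    let J : Ideal R := LinearMap.ker f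
    have hJ : J ≠ ⊤ := fun h => hm (by
      have : f 1 = 0 := LinearMap.mem_ker.mp (show (1 : R) ∈ J from h ▸ Submodule.mem_top)
      simpa [f] using this)
    obtain ⟨p, hp, hJp⟩ := Ideal.exists_le_maximal J hJ
    have hIp : I ≤ p := fun a ha => hJp (show f a = 0 by simp [f, hM a m ha])
    obtain ⟨q, hq'⟩ := hs ⟨p.map (Ideal.Quotient.mk I), Ideal.map_isPrime_of_surjective
      Ideal.Quotient.mk_surjective (by rw [Ideal.mk_ker]; exact hIp)⟩
    let Q : Ideal S := q.asIdeal.comap (Ideal.Quotient.mk _)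
    have hQ : ∀ j ∈ J, algebraMap R S j ∈ Q := fun j hj => by
      have h1 : Ideal.Quotient.mk I j ∈ (PrimeSpectrum.comap (Ideal.quotientMap (I.map (algebraMap R S))
          (algebraMap R S) Ideal.le_comap_map) q).asIdeal := by
        rw [hq']; exact Ideal.mem_map_of_mem _ (hJp hj)
      simpa [Q] using h1
    let ρ : R ⧸ J →ₗ[R] M := J.liftQ f le_rfl
    have hρ : Function.Injective ρ := LinearMap.ker_eq_bot.mp (Submodule.ker_liftQ_eq_bot _ _ _ le_rfl)
    suffices Nontrivial (S ⊗[R] (R ⧸ J)) from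
      (Module.Flat.lTensor_preserves_injective_linearMap (M := S) ρ hρ).nontrivial
    let g : R ⧸ J →ₗ[R] S ⧸ Q :=
      J.liftQ (Algebra.linearMap R (S ⧸ Q)) fun j hj => by
        rw [LinearMap.mem_ker, Algebra.linearMap_apply, IsScalarTower.algebraMap_apply R S (S ⧸ Q)]
        exact Ideal.Quotient.eq_zero_iff_mem.mpr (hQ j hj)
    haveI : Nontrivial (S ⧸ Q) := Ideal.Quotient.nontrivial_iff.mpr
      (Ideal.IsPrime.ne_top inferInstance)
    refine ⟨⟨1 ⊗ₜ Submodule.Quotient.mk 1, 0, fun h => ?_⟩⟩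
    have := congrArg (g.liftBaseChange S) h
    rw [LinearMap.liftBaseChange_tmul, one_smul, map_zero] at this
    exact one_ne_zero (α := S ⧸ Q) ((map_one (algebraMap R (S ⧸ Q))).symm.trans this)
  tfae_have 3 → 4 := by
    rintro ⟨hf, h3⟩
    haveI := hf
    refine ⟨hf, fun M _ _ hM hne => ?_⟩
    obtain ⟨m₀, hm₀⟩ := exists_ne (0 : M)
    obtain ⟨n, hn⟩ := hM m₀
    obtain ⟨m, hm, hkill⟩ : ∃ m : M, m ≠ 0 ∧ ∀ a ∈ I, a • m = 0 := by
      induction n generalizing m₀ with
      | zero => exact absurd (by simpa using hn 1 (by simp)) hm₀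
      | succ n ih =>
        by_cases h : ∀ a ∈ I, a • m₀ = 0
        · exact ⟨m₀, hm₀, h⟩
        · push_neg at h
          obtain ⟨a, ha, hne'⟩ := h
          exact ih (a • m₀) hne' fun b hb => by
            rw [smul_smul]; exact hn _ (by rw [pow_succ]; exact Ideal.mul_mem_mul hb ha)
    let P : Submodule R M := Submodule.span R {m}
    have hP : Nontrivial P := ⟨⟨⟨m, Submodule.subset_span rfl⟩, 0, fun h => hm (congrArg Subtype.val h)⟩⟩
    haveI := h3 P (fun a x ha => by
      obtain ⟨c, hc⟩ := Submodule.mem_span_singleton.mp x.2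
      refine Subtype.ext ?_
      change a • x.1 = 0
      rw [← hc, smul_comm, hkill a ha, smul_zero]) hP
    exact (Module.Flat.lTensor_preserves_injective_linearMap (M := S) P.subtype P.injective_subtype).nontrivial
  tfae_have 4 → 2 := by
    rintro ⟨hf, h4⟩
    refine ⟨hf, fun P => ?_⟩
    let p : PrimeSpectrum R := PrimeSpectrum.comap (Ideal.Quotient.mk I) P
    have hIp : I ≤ p.asIdeal := fun a ha => by
      simp [p, Ideal.Quotient.eq_zero_iff_mem.mpr ha]
    haveI := h4 p.asIdeal.ResidueField (fun m => ⟨1, fun a ha => by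
      rw [pow_one] at ha
      rw [Algebra.smul_def, Ideal.algebraMap_residueField_eq_zero.mpr (hIp ha), zero_mul]⟩) inferInstance
    haveI : Nontrivial (p.asIdeal.ResidueField ⊗[R] S) :=
      (TensorProduct.comm R S p.asIdeal.ResidueField).toEquiv.symm.nontrivial
    obtain ⟨Q, hQ⟩ := p.nontrivial_iff_mem_rangeComap.mp ‹_›
    have hIQ : I.map (algebraMap R S) ≤ Q.asIdeal := by
      rw [Ideal.map_le_iff_le_comap, ← PrimeSpectrum.comap_asIdeal, hQ]; exact hIp
    refine ⟨⟨Q.asIdeal.map (Ideal.Quotient.mk _), Ideal.map_isPrime_of_surjective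
      Ideal.Quotient.mk_surjective (by rw [Ideal.mk_ker]; exact hIQ)⟩, ?_⟩
    refine (PrimeSpectrum.comap_injective_of_surjective _ Ideal.Quotient.mk_surjective) ?_
    change _ = p
    rw [← PrimeSpectrum.comap_comp_apply, Ideal.quotientMap_comp_mk, PrimeSpectrum.comap_comp_apply, ← hQ]
    refine congrArg _ (PrimeSpectrum.ext ?_)
    rw [PrimeSpectrum.comap_asIdeal, Ideal.comap_map_of_surjective _ Ideal.Quotient.mk_surjective,
      ← RingHom.ker_eq_comap_bot, Ideal.mk_ker, sup_eq_left.mpr hIQ]
  tfae_finish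

end Groth.Agent.S2008
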