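import Groth.Statements.S2009
import Groth.Agent.HenselLib.FlatQuot

set_option autoImplicit false
universe u
open TensorProduct
open EtAlg

namespace Groth.Agent.S2009

/-- Let R -> S be flat with S/IS faithfully flat over R/I. Then the natural map M -> S ⊗_R M is
bijective for every I-power torsion R-module M if and only if R/I -> S/IS is bijective. -/
theorem result (R S : Type u) [CommRing R] [CommRing S] [Algebra R S] (I : Ideal R)
    [Module.Flat R S] [Module.FaithfullyFlat (R ⧸ I) (S ⧸ I.map (algebraMap R S))] :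
    (∀ (M : Type u) [AddCommGroup M] [Module R M], (∀ m : M, ∃ n : ℕ, ∀ a ∈ I ^ n, a • m = 0) →
      Function.Bijective (TensorProduct.mk R S M 1)) ↔
    Function.Bijective (Ideal.quotientMap (I.map (algebraMap R S)) (algebraMap R S) Ideal.le_comap_map) := by
  refine ⟨fun h => ?_, fun hq M _ _ hM => HenselLib.FlatQuot.bijective_mk_of_torsion hq M hM⟩
  have hbij := h (R ⧸ I) (fun m => ⟨1, fun a ha => by
    obtain ⟨r, rfl⟩ := Ideal.Quotient.mk_surjective m
    rw [pow_one] at ha
    exact Ideal.Quotient.eq_zero_iff_mem.mpr (Ideal.mul_mem_right _ _ ha)⟩)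
  let g : R ⧸ I →ₗ[R] S ⧸ I.map (algebraMap R S) :=
    I.liftQ (Algebra.linearMap R _) fun j hj => by
      rw [LinearMap.mem_ker, Algebra.linearMap_apply, IsScalarTower.algebraMap_apply R S (S ⧸ I.map (algebraMap R S))]
      exact Ideal.Quotient.eq_zero_iff_mem.mpr (Ideal.mem_map_of_mem _ hj)
  have hg : ∀ x, g x = Ideal.quotientMap (I.map (algebraMap R S)) (algebraMap R S) Ideal.le_comap_map x := by
    intro x
    obtain ⟨r, rfl⟩ := Ideal.Quotient.mk_surjective x
    rw [Ideal.quotientMap_mk]
    rfl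
  refine ⟨(injective_iff_map_eq_zero _).mpr fun x hx => hbij.1 ?_, fun y => ?_⟩
  · obtain ⟨r, rfl⟩ := Ideal.Quotient.mk_surjective x
    rw [Ideal.quotientMap_mk, Ideal.Quotient.eq_zero_iff_mem] at hx
    rw [map_zero]
    change (1 : S) ⊗ₜ[R] (Ideal.Quotient.mk I r) = 0
    have : ∀ x ∈ I.map (algebraMap R S), (x ⊗ₜ[R] (1 : R ⧸ I) : S ⊗[R] (R ⧸ I)) = 0 := by
      intro x hx
      suffices ∀ t : S, ((t * x) ⊗ₜ[R] (1 : R ⧸ I) : S ⊗[R] (R ⧸ I)) = 0 by simpa using this 1
      induction hx using Submodule.span_induction with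
      | mem x hx =>
        obtain ⟨i, hi, rfl⟩ := hx
        intro t
        rw [mul_comm, ← Algebra.smul_def, TensorProduct.smul_tmul, Algebra.smul_def,
          Ideal.Quotient.algebraMap_eq, Ideal.Quotient.eq_zero_iff_mem.mpr hi, zero_mul, TensorProduct.tmul_zero]
      | zero => simp
      | add x y _ _ hx hy => exact fun t => by rw [mul_add, TensorProduct.add_tmul, hx, hy, add_zero]
      | smul c x _ hx => exact fun t => by rw [smul_eq_mul, ← mul_assoc, hx]
    rw [show Ideal.Quotient.mk I r = r • (1 : R ⧸ I) by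
      rw [Algebra.smul_def, mul_one, Ideal.Quotient.algebraMap_eq], ← TensorProduct.smul_tmul,
      ← Algebra.algebraMap_eq_smul_one]
    exact this _ hx
  · obtain ⟨s, rfl⟩ := Ideal.Quotient.mk_surjective y
    obtain ⟨m, hm⟩ := hbij.2 (s ⊗ₜ[R] (1 : R ⧸ I))
    refine ⟨m, ?_⟩
    rw [← hg]
    have := congrArg (g.liftBaseChange S) hm
    simp only [TensorProduct.mk_apply, LinearMap.liftBaseChange_tmul, one_smul] at this
    rw [this, show g 1 = 1 from map_one (algebraMap R _), Algebra.smul_def, mul_one,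
      Ideal.Quotient.algebraMap_eq]

end Groth.Agent.S2009
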