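import Groth.Statements.S2016
import Groth.Agent.HenselLib.Chain

set_option autoImplicit false
universe u
open EtAlg

namespace Groth.Agent.S2016

/-- Let R be a ring such that for every maximal ideal m and all a, b in R_m, either a divides b or b
divides a in R_m. Then each finitely presented R-module is a direct summand of a direct sum of
finitely many cyclic modules R/fR. -/
theorem result (R : Type u) [CommRing R]
    (h : ∀ (m : Ideal R) [m.IsMaximal], ∀ a b : Localization.AtPrime m, a ∣ b ∨ b ∣ a)
    (M : Type u) [AddCommGroup M] [Module R M] [Module.FinitePresentation R M] :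
    ∃ (n : ℕ) (f : Fin n → R) (N : Type u) (_ : AddCommGroup N) (_ : Module R N),
      Nonempty ((M × N) ≃ₗ[R] ((i : Fin n) → R ⧸ Ideal.span {f i})) := by
  exact HenselLib.Chain.summand h M

end Groth.Agent.S2016
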