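import Groth.Statements.S2017
import Mathlib.RingTheory.Adjoin.Tower
import Mathlib.RingTheory.FiniteType
import Mathlib.RingTheory.Finiteness.Basic

set_option autoImplicit false
universe u
open EtAlg

namespace Groth.Agent.S2017

/-- Let R be a Noetherian ring, A, B, C R-algebras of finite type, f : A -> B a surjective R-algebra map
and g : C -> B an R-algebra map making B a finite C-module. Then the fibre product A ×_B C (the
equalizer of f ∘ pr₁ and g ∘ pr₂ in A × C) is an R-algebra of finite type. -/
theorem result (R A B C : Type u) [CommRing R] [IsNoetherianRing R] [CommRing A] [CommRing B]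
    [CommRing C] [Algebra R A] [Algebra R B] [Algebra R C] [Algebra.FiniteType R A] [Algebra.FiniteType R B]
    [Algebra.FiniteType R C] (f : A →ₐ[R] B) (hf : Function.Surjective f) (g : C →ₐ[R] B)
    (hg : (g.toRingHom).Finite) :
    Algebra.FiniteType R ↥(AlgHom.equalizer (f.comp (AlgHom.fst R A C)) (g.comp (AlgHom.snd R A C))) := by
  classical
  let P := AlgHom.equalizer (f.comp (AlgHom.fst R A C)) (g.comp (AlgHom.snd R A C))
  letI := g.toRingHom.toAlgebra
  haveI : Module.Finite C B := hg
  obtain ⟨s, hs⟩ := (Module.Finite.fg_top : (⊤ : Submodule C B).FG)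
  choose a ha using hf
  let gens : Finset (A × C) := s.image (fun b => ((a b, 0) : A × C)) ∪ {((1 : A), (0 : C)), (0, 1)}
  have hmem : ∀ (x : A) (c : C), f x = g c → ((x, c) : A × C) ∈ P := fun x c h => h
  have smul : ∀ (p : P) (z : A × C), p • z = (p.1.1 * z.1, p.1.2 * z.2) := fun p z => rfl
  set M : Submodule P (A × C) := Submodule.span P (gens : Set (A × C))
  have h10 : ((1 : A), (0 : C)) ∈ M := Submodule.subset_span (by simp [gens])
  have h01 : ((0 : A), (1 : C)) ∈ M := Submodule.subset_span (by simp [gens])
  have hC : ∀ c : C, ((0 : A), c) ∈ M := fun c => by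
    have := M.smul_mem ⟨(a (g c), c), hmem _ _ (ha _)⟩ h01
    simpa [smul] using this
  have hA : ∀ (b : B) (x : A), f x = b → (x, (0 : C)) ∈ M := by
    intro b
    have hb : b ∈ Submodule.span C (s : Set B) := hs ▸ Submodule.mem_top
    have hker : ∀ k : A, f k = 0 → (k, (0 : C)) ∈ M := fun k hk => by
      have := M.smul_mem ⟨(k, 0), hmem _ _ (by rw [hk, map_zero])⟩ h10
      simpa [smul] using this
    induction hb using Submodule.span_induction with
    | mem b hb =>
      intro x hx
      have h1 : (a b, (0 : C)) ∈ M := Submodule.subset_span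
        (Finset.mem_union_left _ (Finset.mem_image_of_mem (fun b => ((a b, 0) : A × C)) hb))
      have := add_mem h1 (hker (x - a b) (by rw [map_sub, hx, ha, sub_self]))
      simpa using this
    | zero => exact hker
    | add y z _ _ hy hz =>
      intro x hx
      have := add_mem (hy (a y) (ha y)) (hz (x - a y) (by rw [map_sub, hx, ha, add_sub_cancel_left]))
      simpa using this
    | smul c y _ hy =>
      intro x hx
      have h1 := M.smul_mem ⟨(a (g c), c), hmem _ _ (ha _)⟩ (hy (a y) (ha y))
      have h2 := hker (x - a (g c) * a y) (by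
        rw [map_sub, map_mul, ha, ha, hx, Algebra.smul_def]; exact sub_self _)
      have := add_mem h1 h2
      simpa [smul] using this
  haveI hfin : Module.Finite P (A × C) := ⟨⟨gens, eq_top_iff.mpr fun z _ => by
    have := add_mem (hA (f z.1) z.1 rfl) (hC z.2)
    simpa using this⟩⟩
  haveI : Algebra.FiniteType R (A × C) := inferInstance
  exact ⟨fg_of_fg_of_fg (A := R) (B := P) (C := A × C) Algebra.FiniteType.out hfin.fg_top
    Subtype.val_injective⟩

end Groth.Agent.S2017
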