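import Groth.Statements.S2018
import Mathlib.RingTheory.IntegralClosure.Algebra.Basic

set_option autoImplicit false
universe u
open EtAlg

namespace Groth.Agent.S2018

/-- Let g : A' -> A be a surjective ring map and f : B -> A an integral ring map. Then the projection
from the fibre product B ×_A A' (the equalizer of f ∘ pr₁ and g ∘ pr₂ in B × A') to A' is integral. -/
theorem result (A A' B : Type u) [CommRing A] [CommRing A'] [CommRing B] (g : A' →+* A)
    (hg : Function.Surjective g) (f : B →+* A) (hf : f.IsIntegral) :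
    ((RingHom.snd B A').comp ((f.comp (RingHom.fst B A')).eqLocus (g.comp (RingHom.snd B A'))).subtype).IsIntegral := by
  intro x
  let P := (f.comp (RingHom.fst B A')).eqLocus (g.comp (RingHom.snd B A'))
  rcases subsingleton_or_nontrivial A' with hs | hn
  · exact ⟨1, Polynomial.monic_one, Subsingleton.elim _ _⟩
  haveI : Nontrivial P := ((RingHom.snd B A').comp P.subtype).domain_nontrivial
  obtain ⟨p, hp, hp'⟩ := hf (g x)
  choose lift hlift using fun b : B => (hg (f b))
  let σ : B → P := fun b => ⟨(b, lift b), (hlift b).symm⟩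
  let q : Polynomial P := Polynomial.X ^ p.natDegree +
    ∑ i ∈ Finset.range p.natDegree, Polynomial.C (σ (p.coeff i)) * Polynomial.X ^ i
  let π : P →+* A' := (RingHom.snd B A').comp P.subtype
  have hq : q.Monic := Polynomial.monic_X_pow_add ((Polynomial.degree_sum_le _ _).trans_lt
    ((Finset.sup_lt_iff (WithBot.bot_lt_coe _)).mpr fun i hi =>
      (Polynomial.degree_C_mul_X_pow_le _ _).trans_lt (WithBot.coe_lt_coe.mpr (Finset.mem_range.mp hi))))
  have hy : g (q.eval₂ π x) = 0 := by
    have e1 : g (q.eval₂ π x) = p.eval₂ f (g x) := by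
      conv_rhs => rw [hp.as_sum]
      simp only [q, Polynomial.eval₂_add, Polynomial.eval₂_pow, Polynomial.eval₂_X,
        Polynomial.eval₂_finsetSum, Polynomial.eval₂_mul, Polynomial.eval₂_C, map_add, map_pow,
        map_sum, map_mul]
      simp [π, σ, hlift]
    exact e1.trans hp'
  let c : P := ⟨(0, q.eval₂ π x), show f 0 = g (q.eval₂ π x) by rw [map_zero, hy]⟩
  rcases Nat.eq_zero_or_pos p.natDegree with h0 | hpos
  · have h1 : p = 1 := hp.natDegree_eq_zero.mp h0
    rw [h1, Polynomial.eval₂_one] at hp'
    refine ⟨Polynomial.X - Polynomial.C ⟨(0, x), show f 0 = g x by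
      rw [map_zero, ← mul_one (g x), hp', mul_zero]⟩, Polynomial.monic_X_sub_C _, ?_⟩
    simp
  · refine ⟨q - Polynomial.C c, hq.sub_of_left ?_, ?_⟩
    · refine Polynomial.degree_C_le.trans_lt ?_
      have hd : q.degree = p.natDegree := by
        rw [Polynomial.degree_add_eq_left_of_degree_lt, Polynomial.degree_X_pow]
        rw [Polynomial.degree_X_pow]
        exact (Polynomial.degree_sum_le _ _).trans_lt ((Finset.sup_lt_iff (WithBot.bot_lt_coe _)).mpr
          fun i hi => (Polynomial.degree_C_mul_X_pow_le _ _).trans_lt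
            (WithBot.coe_lt_coe.mpr (Finset.mem_range.mp hi)))
      rw [hd]; exact WithBot.coe_lt_coe.mpr hpos
    · rw [Polynomial.eval₂_sub, Polynomial.eval₂_C]
      exact sub_self _

end Groth.Agent.S2018
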