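import Groth.Statements.S2026
import Groth.Agent.CAlgH.SingularIdeal


set_option autoImplicit false
universe u
open Smoothing

namespace Groth.Agent.S2026

/-- For a finitely presented `R`-algebra `A`, the singular ideal (functions vanishing on the non-smooth
locus) coincides with the radical of the ideal spanned by all strictly standard elements, and
equally with the radical of the ideal spanned by all elementary standard elements. -/
theorem result {R A : Type u} [CommRing R] [CommRing A]
    [Algebra R A] [Algebra.FinitePresentation R A] :
    Smoothing.singularIdeal R A = (Ideal.span {a : A | Smoothing.IsStrictlyStandard R A a}).radical ∧
      Smoothing.singularIdeal R A =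
        (Ideal.span {a : A | Smoothing.IsElementaryStandard R A a}).radical := by
  exact Groth.Agent.CAlgH.SingularIdeal.singularIdeal_eq

end Groth.Agent.S2026
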