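import Mathlib.RingTheory.Etale.Basic
import Mathlib.RingTheory.Ideal.Over
import Mathlib.RingTheory.TensorProduct.Basic
import Mathlib.RingTheory.IntegralClosure.IsIntegralClosure.Basic
import Groth.Agent.CAlgMisc2.Nbhd

set_option autoImplicit false
universe u
namespace CAlg
end CAlg
open CAlg

namespace Groth.Agent.S2041
open TensorProduct
open Polynomial

open TensorProduct in
theorem aux {A B : Type u} [CommRing A] [CommRing B] [Algebra A B] (I : Ideal A) (b : B)
    (hb : b * b - b ∈ I.map (algebraMap A B)) (f : A[X]) (d : ℕ) (hd : 1 ≤ d) (hfb : aeval b f = 0)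
    (Q : Type u) [CommRing Q] [Algebra A Q] (g h : Q[X]) (hco : IsCoprime g h)
    (hfgh : f.map (algebraMap A Q) = g * h)
    (hg : g.map (Ideal.Quotient.mk (I.map (algebraMap A Q))) = X ^ d)
    (hh : h.map (Ideal.Quotient.mk (I.map (algebraMap A Q))) = (X - 1) ^ d) :
    ∃ e' : Q ⊗[A] B, IsIdempotentElem e' ∧
      ∀ b' : B, Ideal.Quotient.mk (I.map (algebraMap A B)) b' = Ideal.Quotient.mk (I.map (algebraMap A B)) b →
        e' - 1 ⊗ₜ b' ∈ I.map (algebraMap A (Q ⊗[A] B)) := by
  let J := I.map (algebraMap A (Q ⊗[A] B))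
  have hbT : IsIdempotentElem (Ideal.Quotient.mk J ((1 : Q) ⊗ₜ[A] b)) := by
    show _ * _ = _
    rw [← map_mul, Ideal.Quotient.eq, Algebra.TensorProduct.tmul_mul_tmul, one_mul, ← TensorProduct.tmul_sub]
    exact Groth.Agent.HenselLib.mem_map_algHom (Algebra.TensorProduct.includeRight : B →ₐ[A] Q ⊗[A] B) I hb
  obtain ⟨e', he', hee⟩ := Groth.Agent.CAlgMisc2.exists_idempotent_of_factor (Ideal.Quotient.mk J)
    (I.map (algebraMap A Q)) (fun a ha => Ideal.Quotient.eq_zero_iff_mem.2
      (Groth.Agent.HenselLib.mem_map_algHom (Algebra.TensorProduct.includeLeft : Q →ₐ[A] Q ⊗[A] B) I ha))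
    hbT hd (f := f.map (algebraMap A Q)) (by
      rw [Polynomial.aeval_map_algebraMap,
        show ((1 : Q) ⊗ₜ[A] b) = (Algebra.TensorProduct.includeRight : B →ₐ[A] Q ⊗[A] B) b from rfl,
        Polynomial.aeval_algHom_apply, hfb, map_zero])
    hfgh hco hg hh
  refine ⟨e', he', fun b' hb' => ?_⟩
  have h1 := Groth.Agent.HenselLib.mem_map_algHom (Algebra.TensorProduct.includeRight : B →ₐ[A] Q ⊗[A] B) I
    (Ideal.Quotient.eq.1 hb')
  have h2 := Ideal.Quotient.eq.1 hee
  rw [Algebra.TensorProduct.includeRight_apply, TensorProduct.tmul_sub] at h1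
  have := sub_mem h2 h1
  rwa [sub_sub_sub_cancel_right] at this

open TensorProduct in
/-- Let `I ⊆ A` be an ideal, `A → B` integral and `ē` an idempotent of `B/IB`. Then there is an étale
`A`-algebra `A'` with `A/I → A'/IA'` bijective and an idempotent of `A' ⊗ B` whose class modulo `I`
agrees with that of any lift of `ē`. -/
theorem result {A B : Type u} [CommRing A] [CommRing B] [Algebra A B]
    [Algebra.IsIntegral A B] (I : Ideal A) (e : B ⧸ I.map (algebraMap A B)) (he : IsIdempotentElem e) :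
    ∃ (A' : Type u) (_ : CommRing A') (_ : Algebra A A'), Algebra.Etale A A' ∧
      Function.Bijective (algebraMap (A ⧸ I) (A' ⧸ I.map (algebraMap A A'))) ∧
      ∃ e' : A' ⊗[A] B, IsIdempotentElem e' ∧
        ∀ b : B, Ideal.Quotient.mk (I.map (algebraMap A B)) b = e →
          e' - 1 ⊗ₜ b ∈ I.map (algebraMap A (A' ⊗[A] B)) := by
  obtain ⟨b, rfl⟩ := Ideal.Quotient.mk_surjective e
  have hb : b * b - b ∈ I.map (algebraMap A B) := by
    rw [← Ideal.Quotient.eq, map_mul]; exact he
  obtain ⟨f, d, hf, hd, hfb, hfm⟩ := Groth.Agent.HenselLib.exists_monic_annihilator I b hb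
  obtain ⟨Q, g, h, hQ, -, -, hco, hfgh, hg, hh⟩ := Groth.Agent.CAlgMisc2.exists_factor_nbhd I f hf _ _
    (Polynomial.monic_X_pow d) ((Polynomial.monic_X_sub_C (1 : A ⧸ I)).pow d) (IsCoprime.pow ⟨1, -1, by simp⟩)
    (by rw [map_one]; exact hfm)
  obtain ⟨e', he', he''⟩ := aux I b hb f d hd hfb Q.Ring g h hco hfgh (by rw [hg]; simp) (by rw [hh]; simp)
  exact ⟨Q.Ring, inferInstance, inferInstance, Q.etale, Groth.Agent.HenselLib.bijective_quotθ_pt I hQ,
    e', he', he''⟩

end Groth.Agent.S2041
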