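import Mathlib.RingTheory.Etale.Basic
import Mathlib.RingTheory.Ideal.Over
import Mathlib.RingTheory.TensorProduct.Basic
import Mathlib.RingTheory.Smooth.Basic
import Groth.Agent.CAlgMisc2.Nbhd

set_option autoImplicit false
universe u
namespace CAlg
end CAlg
open CAlg

namespace Groth.Agent.S2043
open TensorProduct

/-- Let `I ⊆ A` be an ideal, `B` a smooth `A`-algebra and `B → A/I` an `A`-algebra map. Then there is an
étale `A`-algebra `A'` with `A/I → A'/IA'` bijective and an `A`-algebra map `B → A'` lifting the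
given map. -/
theorem result {A B : Type u} [CommRing A] [CommRing B] [Algebra A B]
    [Algebra.Smooth A B] (I : Ideal A) (σ : B →ₐ[A] A ⧸ I) :
    ∃ (A' : Type u) (_ : CommRing A') (_ : Algebra A A'), Algebra.Etale A A' ∧
      Function.Bijective (algebraMap (A ⧸ I) (A' ⧸ I.map (algebraMap A A'))) ∧
      ∃ τ : B →ₐ[A] A', ∀ b : B,
        Ideal.Quotient.mk (I.map (algebraMap A A')) (τ b) =
          algebraMap (A ⧸ I) (A' ⧸ I.map (algebraMap A A')) (σ b) := by
  let H := Groth.Agent.HenselLib.PairH A I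
  have hens : HenselianRing H (I.map (algebraMap A H)) := (Groth.Agent.HenselLib.isPairHull_pairH A I).1
  let θ : A ⧸ I →ₐ[A] H ⧸ I.map (algebraMap A H) :=
    { Groth.Agent.HenselLib.quotθ I H with commutes' := fun r => rfl }
  let σH : H ⊗[A] B →ₐ[H] H ⧸ I.map (algebraMap A H) :=
    Algebra.TensorProduct.lift (Algebra.ofId H _) (θ.comp σ) fun _ _ => Commute.all _ _
  obtain ⟨τH, hτ⟩ := Groth.Agent.HenselLib.exists_lift_of_smooth (I.map (algebraMap A H)) σH
  let φ : B →ₐ[A] H := (τH.restrictScalars A).comp Algebra.TensorProduct.includeRight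
  obtain ⟨Q, ψ, hQ, hψ⟩ := Groth.Agent.CAlgMisc2.exists_stage_hom φ
  refine ⟨Q.Ring, inferInstance, inferInstance, Q.etale,
    Groth.Agent.HenselLib.bijective_quotθ_pt I hQ, ψ, fun b => ?_⟩
  obtain ⟨r, hr⟩ := Ideal.Quotient.mk_surjective (σ b)
  rw [← hr]
  show _ = Ideal.Quotient.mk _ (algebraMap A Q.Ring r)
  rw [Ideal.Quotient.eq, ← hQ, RingHom.mem_ker, map_sub, AlgHom.commutes, sub_eq_zero]
  have h1 : Q.pt (ψ b) = Groth.Agent.HenselLib.hullPt A (A ⧸ I) (φ b) := by
    rw [← hψ, AlgHom.comp_apply, Groth.Agent.HenselLib.hullPt_ι]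
  have h2 : Ideal.Quotient.mk (I.map (algebraMap A H)) (φ b) = θ (σ b) := by
    have := AlgHom.congr_fun hτ (1 ⊗ₜ[A] b)
    simpa [σH, φ] using this
  rw [← hr] at h2
  change _ = Ideal.Quotient.mk _ (algebraMap A H r) at h2
  rw [Ideal.Quotient.eq, ← Groth.Agent.HenselLib.ker_hullPt_pair, RingHom.mem_ker, map_sub, sub_eq_zero,
    AlgHom.commutes] at h2
  rw [h1, h2]

end Groth.Agent.S2043
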