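import Mathlib.RingTheory.Etale.Basic
import Mathlib.RingTheory.Ideal.Over
import Mathlib.RingTheory.TensorProduct.Basic
import Mathlib.RingTheory.Finiteness.Projective
import Groth.Agent.CAlgMisc2.Nbhd

set_option autoImplicit false
universe u
namespace CAlg
end CAlg
open CAlg

namespace Groth.Agent.S2044

open TensorProduct

section
variable {S Q K : Type u} [CommRing S] [CommRing Q] [CommRing K] [Algebra S K] [Algebra Q K]

theorem compare {n : ℕ} {P : Type u} [AddCommGroup P] [Module S P] (i : P →ₗ[S] (Fin n → S))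
    (p : (Fin n → S) →ₗ[S] P) (hpi : p.comp i = LinearMap.id) (e : Matrix (Fin n) (Fin n) Q)
    (he : IsIdempotentElem e)
    (hc : ∀ k j, algebraMap Q K (e k j) = algebraMap S K (i (p (Pi.single j 1)) k)) :
    Module.Finite Q (LinearMap.range e.mulVecLin) ∧ Module.Projective Q (LinearMap.range e.mulVecLin) ∧
      Nonempty (K ⊗[Q] (LinearMap.range e.mulVecLin) ≃ₗ[K] K ⊗[S] P) := by
  let P' := LinearMap.range e.mulVecLin
  let p' : (Fin n → Q) →ₗ[Q] P' := e.mulVecLin.rangeRestrict
  have hidem : ∀ v, e.mulVecLin (e.mulVecLin v) = e.mulVecLin v := fun v => by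
    rw [← LinearMap.comp_apply, ← Matrix.mulVecLin_mul, he.eq]
  have hp'i' : p'.comp P'.subtype = LinearMap.id := by
    refine LinearMap.ext fun x => Subtype.ext ?_
    obtain ⟨v, hv⟩ := x.2
    show e.mulVecLin x.1 = x.1
    rw [← hv, hidem]
  refine ⟨Module.Finite.range _, Module.Projective.of_split _ p' hp'i', ?_⟩
  let ψS : K ⊗[S] (Fin n → S) ≃ₗ[K] (Fin n → K) := TensorProduct.piScalarRight S K K (Fin n)
  let ψQ : K ⊗[Q] (Fin n → Q) ≃ₗ[K] (Fin n → K) := TensorProduct.piScalarRight Q K K (Fin n)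
  let a : K ⊗[S] P →ₗ[K] (Fin n → K) := ψS.toLinearMap.comp (i.baseChange K)
  let b : (Fin n → K) →ₗ[K] K ⊗[S] P := (p.baseChange K).comp ψS.symm.toLinearMap
  let a' : K ⊗[Q] P' →ₗ[K] (Fin n → K) := ψQ.toLinearMap.comp (P'.subtype.baseChange K)
  let b' : (Fin n → K) →ₗ[K] K ⊗[Q] P' := (p'.baseChange K).comp ψQ.symm.toLinearMap
  have hba : ∀ x, b (a x) = x := fun x => by
    show p.baseChange K (ψS.symm (ψS (i.baseChange K x))) = x
    rw [LinearEquiv.symm_apply_apply, ← LinearMap.comp_apply, ← LinearMap.baseChange_comp, hpi,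
      LinearMap.baseChange_id, LinearMap.id_apply]
  have hba' : ∀ x, b' (a' x) = x := fun x => by
    show p'.baseChange K (ψQ.symm (ψQ (P'.subtype.baseChange K x))) = x
    rw [LinearEquiv.symm_apply_apply, ← LinearMap.comp_apply, ← LinearMap.baseChange_comp, hp'i',
      LinearMap.baseChange_id, LinearMap.id_apply]
  have hab : a.comp b = a'.comp b' := by
    refine LinearMap.pi_ext' fun j => LinearMap.ext_ring (funext fun k => ?_)
    show ψS (i.baseChange K (p.baseChange K (ψS.symm (Pi.single j 1)))) k =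
      ψQ (P'.subtype.baseChange K (p'.baseChange K (ψQ.symm (Pi.single j 1)))) k
    have h1 : ψS.symm (Pi.single j 1) = (1 : K) ⊗ₜ[S] Pi.single j 1 := by
      rw [LinearEquiv.symm_apply_eq]
      funext l
      by_cases hl : l = j
      · subst hl; simp [ψS]
      · simp [ψS, hl]
    have h2 : ψQ.symm (Pi.single j 1) = (1 : K) ⊗ₜ[Q] Pi.single j 1 := by
      rw [LinearEquiv.symm_apply_eq]
      funext l
      by_cases hl : l = j
      · subst hl; simp [ψQ]
      · simp [ψQ, hl]
    rw [h1, h2]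
    simp only [LinearMap.baseChange_tmul, ψS, ψQ, TensorProduct.piScalarRight_apply,
      TensorProduct.piScalarRightHom_tmul, ← Algebra.algebraMap_eq_smul_one]
    show algebraMap S K _ = algebraMap Q K (e.mulVecLin (Pi.single j 1) k)
    rw [Matrix.mulVecLin_apply, Matrix.mulVec_single_one, ← hc]
    rfl
  refine ⟨LinearEquiv.ofLinearMap (b.comp a') (b'.comp a) ?_ ?_⟩
  · refine LinearMap.ext fun x => ?_
    show b (a' (b' (a x))) = x
    exact (congrArg b (LinearMap.congr_fun hab (a x)).symm).trans ((hba _).trans (hba x))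
  · refine LinearMap.ext fun x => ?_
    show b' (a (b (a' x))) = x
    exact (congrArg b' (LinearMap.congr_fun hab (a' x))).trans ((hba' _).trans (hba' x))

end

open Polynomial in
theorem lift_idem {A : Type u} [CommRing A] (I : Ideal A) {n : ℕ} (M : Matrix (Fin n) (Fin n) A) {d : ℕ}
    (hd : 1 ≤ d) (f : A[X]) (hfM : aeval M f = 0)
    (hM : (M * M - M).map (Ideal.Quotient.mk I) = 0)
    (Q : Type u) [CommRing Q] [Algebra A Q] (g h : Q[X]) (hco : IsCoprime g h)
    (hfgh : f.map (algebraMap A Q) = g * h)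
    (hg : g.map (Ideal.Quotient.mk (I.map (algebraMap A Q))) = X ^ d)
    (hh : h.map (Ideal.Quotient.mk (I.map (algebraMap A Q))) = (X - 1) ^ d) :
    ∃ e : Matrix (Fin n) (Fin n) Q, IsIdempotentElem e ∧ ∀ k j,
      algebraMap Q (Q ⧸ I.map (algebraMap A Q)) (e k j) =
        algebraMap (A ⧸ I) (Q ⧸ I.map (algebraMap A Q)) (Ideal.Quotient.mk I (M k j)) := by
  let J := I.map (algebraMap A Q)
  let ρ : Matrix (Fin n) (Fin n) Q →+* Matrix (Fin n) (Fin n) (Q ⧸ J) := (Ideal.Quotient.mk J).mapMatrix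
  have hb : IsIdempotentElem (ρ ((algebraMap A Q).mapMatrix M)) := by
    show _ * _ = _
    rw [← map_mul, ← map_mul, ← sub_eq_zero, ← map_sub, ← map_sub]
    ext k j
    have := congrFun (congrFun hM k) j
    simp only [Matrix.map_apply, Matrix.zero_apply, Ideal.Quotient.eq_zero_iff_mem] at this
    simp only [ρ, RingHom.mapMatrix_apply, Matrix.map_apply, Matrix.zero_apply, Ideal.Quotient.eq_zero_iff_mem]
    exact Ideal.mem_map_of_mem _ this
  obtain ⟨e, he, hee⟩ := Groth.Agent.CAlgMisc2.exists_idempotent_of_factor ρ J (fun a ha => by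
      ext k j
      rw [Matrix.algebraMap_eq_diagonal]
      simp [ρ, Matrix.diagonal_apply, apply_ite (Ideal.Quotient.mk J), Ideal.Quotient.eq_zero_iff_mem.2 ha])
    hb hd (f := f.map (algebraMap A Q)) (by
      rw [aeval_map_algebraMap,
        show (algebraMap A Q).mapMatrix M = (Algebra.ofId A Q).mapMatrix M from rfl,
        aeval_algHom_apply, hfM, map_zero]) hfgh hco hg hh
  refine ⟨e, he, fun k j => ?_⟩
  exact congrFun (congrFun hee k) j

/-- Let `I ⊆ A` be an ideal and `P` a finite projective `A/I`-module. Then there is an étale `A`-algebra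
`A'` with `A/I → A'/IA'` bijective and a finite projective `A'`-module whose reduction modulo `IA'`
is the base change of `P`. -/
theorem result {A : Type u} [CommRing A] (I : Ideal A) (P : Type u)
    [AddCommGroup P] [Module (A ⧸ I) P] [Module.Finite (A ⧸ I) P] [Module.Projective (A ⧸ I) P] :
    ∃ (A' : Type u) (_ : CommRing A') (_ : Algebra A A'), Algebra.Etale A A' ∧
      Function.Bijective (algebraMap (A ⧸ I) (A' ⧸ I.map (algebraMap A A'))) ∧
      ∃ (P' : Type u) (_ : AddCommGroup P') (_ : Module A' P'), Module.Finite A' P' ∧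
        Module.Projective A' P' ∧
        Nonempty (((A' ⧸ I.map (algebraMap A A')) ⊗[A'] P') ≃ₗ[A' ⧸ I.map (algebraMap A A')]
          ((A' ⧸ I.map (algebraMap A A')) ⊗[A ⧸ I] P)) := by
  obtain ⟨n, p, i, -, -, hpi⟩ := Module.Finite.exists_comp_eq_id_of_projective (A ⧸ I) P
  let M : Matrix (Fin n) (Fin n) A := fun k j => Function.surjInv Ideal.Quotient.mk_surjective (i (p (Pi.single j 1)) k)
  have hMk : ∀ k j, Ideal.Quotient.mk I (M k j) = i (p (Pi.single j 1)) k := fun k j =>
    Function.surjInv_eq Ideal.Quotient.mk_surjective _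
  have hMlin : M.map (Ideal.Quotient.mk I) = LinearMap.toMatrix' (i.comp p) := by
    ext k j
    rw [Matrix.map_apply, hMk, LinearMap.toMatrix'_apply]
    rfl
  have hM : (M * M - M).map (Ideal.Quotient.mk I) = 0 := by
    rw [← RingHom.mapMatrix_apply, map_sub, map_mul, RingHom.mapMatrix_apply, hMlin, ← LinearMap.toMatrix'_comp,
      show (i.comp p).comp (i.comp p) = i.comp ((p.comp i).comp p) from rfl, hpi, LinearMap.id_comp, sub_self]
  obtain ⟨f, d, hf, hd, hfM, hfm⟩ := Groth.Agent.CAlgMisc2.exists_monic_annihilator_matrix I M hM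
  obtain ⟨Q, g, h, hQ, -, -, hco, hfgh, hg, hh⟩ := Groth.Agent.CAlgMisc2.exists_factor_nbhd I f hf _ _
    (Polynomial.monic_X_pow d) ((Polynomial.monic_X_sub_C (1 : A ⧸ I)).pow d) (IsCoprime.pow ⟨1, -1, by simp⟩)
    (by rw [map_one]; exact hfm)
  obtain ⟨e, he, hee⟩ := lift_idem I M hd f hfM hM Q.Ring g h hco hfgh (by rw [hg]; simp) (by rw [hh]; simp)
  obtain ⟨h1, h2, h3⟩ := compare (K := Q.Ring ⧸ I.map (algebraMap A Q.Ring)) i p hpi e he
    (fun k j => by rw [hee, hMk])
  exact ⟨Q.Ring, inferInstance, inferInstance, Q.etale, Groth.Agent.HenselLib.bijective_quotθ_pt I hQ,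
    LinearMap.range e.mulVecLin, inferInstance, inferInstance, h1, h2, h3⟩

end Groth.Agent.S2044
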