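import Groth.Statements.S2046
import Groth.Agent.CAlgH.AdicSmoothRegular
import Groth.Agent.CAlgH.WEtRegular
import Groth.Agent.S1962
import Groth.Agent.S0540
import Groth.Agent.HenselLib.LocalHens
import Groth.Agent.HenselLib.HullWEt


set_option autoImplicit false
universe u
open CAlg

namespace Groth.Agent.CAlgH
open IsLocalRing

theorem isGRing_strictHenselization {R S : Type u} [CommRing R] [IsLocalRing R] [IsNoetherianRing R]
    (hR : CAlg.IsGRing R) [CommRing S] [IsLocalRing S] [Algebra R S] [IsLocalHom (algebraMap R S)]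
    [Hensel.IsStrictHenselization R S] : CAlg.IsGRing S := by
  haveI : IsNoetherianRing S := (Groth.Agent.S0540.result R S).mp inferInstance
  haveI := Groth.Agent.S1962.result R S
  obtain ⟨e⟩ := HenselLib.exists_equiv_localSH S (R := R)
  haveI : Algebra.WeaklyEtale R S := HenselLib.weaklyEtale_of_equiv e
  haveI : IsNoetherianRing (Localization.AtPrime (maximalIdeal R)) :=
    IsLocalization.isNoetherianRing (maximalIdeal R).primeCompl _ inferInstance
  let eR : R ≃ₐ[R] Localization.AtPrime (maximalIdeal R) :=
    IsLocalization.atUnits R (maximalIdeal R).primeCompl fun x hx => by simpa [IsUnit.mem_submonoid_iff] using hx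
  have hRc : CAlg.IsRegularHom R (EGA4.Cpl R) :=
    isRegularHom_cpl_surjective eR.symm.toRingEquiv.toRingHom eR.symm.surjective (hR.2 (maximalIdeal R))
  haveI := isLocalHom_algebraMap_cpl S
  haveI : IsLocalHom (algebraMap R (EGA4.Cpl S)) := by
    rw [IsScalarTower.algebraMap_eq R S (EGA4.Cpl S)]
    infer_instance
  haveI : IsNoetherianRing (EGA4.Cpl S) := Groth.Agent.Matlis6.isNoetherianRing_adicCompletion _
  have h1 := AdicSmooth.isRegularHom_of_adicSmooth hRc
    (AdicSmooth.cpl_target (AdicSmooth.of_formallySmooth (R := R) (S := S) (𝔫 := maximalIdeal S)))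
  have hS : CAlg.IsRegularHom S (EGA4.Cpl S) := isRegularHom_of_weaklyEtale_comp R S (EGA4.Cpl S) h1
  refine isGRing_of_maximals S fun n hn => ?_
  obtain rfl := eq_maximalIdeal hn
  let eS : S ≃ₐ[S] Localization.AtPrime (maximalIdeal S) :=
    IsLocalization.atUnits S (maximalIdeal S).primeCompl fun x hx => by simpa [IsUnit.mem_submonoid_iff] using hx
  exact isRegularHom_cpl_surjective eS.toRingEquiv.toRingHom eS.surjective hS

end Groth.Agent.CAlgH

namespace Groth.Agent.S2046

/-- If `R` is a Noetherian local G-ring then its strict henselization is a G-ring. -/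
theorem result {R S : Type u} [CommRing R] [IsLocalRing R] [IsNoetherianRing R]
    (hR : CAlg.IsGRing R) [CommRing S] [IsLocalRing S] [Algebra R S] [IsLocalHom (algebraMap R S)]
    [Hensel.IsStrictHenselization R S] : CAlg.IsGRing S := by
  exact Groth.Agent.CAlgH.isGRing_strictHenselization hR

end Groth.Agent.S2046
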