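import Groth.Statements.S2047
import Groth.Agent.CAlgH.GRingMaximal


set_option autoImplicit false
universe u
open CAlg

namespace Groth.Agent.S2047

/-- A Noetherian ring `R` is a G-ring if and only if for every maximal ideal `𝔪` the completion map of
`R_𝔪` is a regular ring map. -/
theorem result {R : Type u} [CommRing R] [IsNoetherianRing R] :
    CAlg.IsGRing R ↔ ∀ (m : Ideal R) [m.IsMaximal],
      CAlg.IsRegularHom (Localization.AtPrime m)
        (AdicCompletion (IsLocalRing.maximalIdeal (Localization.AtPrime m)) (Localization.AtPrime m)) := by
  exact ⟨fun h m _ => h.2 m, fun h => Groth.Agent.CAlgH.isGRing_of_maximals R h⟩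

end Groth.Agent.S2047
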