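import Groth.Statements.S2048
import Groth.Agent.CAlgH.GRingRegular
import Groth.Agent.CAlgH.NagataComplete

set_option autoImplicit false
universe u
open CAlg

namespace Groth.Agent.S2048

open IsLocalRing Groth.Agent.CAlgH

/-- A derivation of an algebraic finitely generated domain over a base with a good family. -/
theorem exists_derivation_of_algebraic (p : ℕ) [Fact p.Prime] (A : Type u) [CommRing A] [IsDomain A] [IsNoetherianRing A]
    [CharP A p] (hA : GoodFamily p A) (B : Type u) [CommRing B] [IsDomain B] [Algebra A B] [FaithfulSMul A B]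
    [Algebra.IsAlgebraic A B] [Algebra.FiniteType A B] (M : Type u) [Field M] [Algebra B M] [IsFractionRing B M]
    (f : B) (hf : ∀ x : M, x ^ p ≠ algebraMap B M f) : ∃ D : Derivation ℤ B B, D f ≠ 0 := by
  classical
  letI : Algebra A M := ((algebraMap B M).comp (algebraMap A B)).toAlgebra
  haveI : IsScalarTower A B M := .of_algebraMap_eq fun _ => rfl
  haveI : FaithfulSMul A M := (faithfulSMul_iff_algebraMap_injective A M).2
    ((IsFractionRing.injective B M).comp (FaithfulSMul.algebraMap_injective A B))
  let K := FractionRing A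
  letI : Algebra K M := FractionRing.liftAlgebra A M
  haveI : IsScalarTower A K M := FractionRing.isScalarTower_liftAlgebra A M
  haveI : Algebra.IsAlgebraic B M := IsLocalization.isAlgebraic M (nonZeroDivisors B)
  haveI : Algebra.IsAlgebraic A M := Algebra.IsAlgebraic.trans A B M
  haveI : Algebra.IsAlgebraic K M := (IsFractionRing.comap_isAlgebraic_iff (A := A) (K := K) (C := M)).1 inferInstance
  haveI : Algebra.EssFiniteType B M := Algebra.EssFiniteType.of_isLocalization M (nonZeroDivisors B)
  haveI : Algebra.EssFiniteType A M := Algebra.EssFiniteType.comp A B M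
  haveI : Algebra.EssFiniteType K M := Algebra.EssFiniteType.of_comp A K M
  haveI : FiniteDimensional K M := Algebra.finite_of_essFiniteType_of_isAlgebraic
  obtain ⟨B0, hB0, D, θ, -, hD, hθf⟩ := exists_derivation_scaled p A hA M (algebraMap B M f) hf
  haveI := hB0
  obtain ⟨s, hs⟩ := (inferInstance : Module.Finite A B0)
  obtain ⟨⟨d, hd⟩, hd'⟩ := IsLocalization.exist_integer_multiples_of_finset (nonZeroDivisors B)
    (s.image fun z : B0 => (z : M))
  have hd0 : ∀ z : B0, ∃ b : B, algebraMap B M b = algebraMap B M d * (z : M) := by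
    intro z
    have hz : z ∈ Submodule.span A (s : Set B0) := hs ▸ Submodule.mem_top
    induction hz using Submodule.span_induction with
    | mem z hz =>
      obtain ⟨b, hb⟩ := hd' _ (Finset.mem_image_of_mem _ hz)
      exact ⟨b, hb.trans (Algebra.smul_def _ _)⟩
    | zero => exact ⟨0, by rw [map_zero, ZeroMemClass.coe_zero, mul_zero]⟩
    | add x y _ _ hx hy =>
      obtain ⟨b, hb⟩ := hx
      obtain ⟨c, hc⟩ := hy
      exact ⟨b + c, by rw [map_add, hb, hc, ← mul_add]; rfl⟩
    | smul r x _ hx =>
      obtain ⟨b, hb⟩ := hx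
      exact ⟨algebraMap A B r * b, by rw [map_mul, hb, ← IsScalarTower.algebraMap_apply, SetLike.val_smul, Algebra.smul_def]; ring⟩
  obtain ⟨g, hg⟩ := (inferInstance : Algebra.FiniteType A B).1
  obtain ⟨⟨e, he⟩, he'⟩ := IsLocalization.exist_integer_multiples_of_finset (nonZeroDivisors B)
    (g.image fun x : B => θ (algebraMap B M x))
  let c : B := d * e
  have hkey : ∀ x : B, ∃ b : B, algebraMap B M b = algebraMap B M c * θ (algebraMap B M x) := by
    intro x
    have hx : x ∈ Algebra.adjoin A (g : Set B) := hg ▸ Algebra.mem_top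
    induction hx using Algebra.adjoin_induction with
    | mem x hx =>
      obtain ⟨b, hb⟩ := he' _ (Finset.mem_image_of_mem _ hx)
      refine ⟨d * b, ?_⟩
      rw [Algebra.smul_def] at hb
      rw [map_mul, hb, map_mul]; ring
    | algebraMap a =>
      obtain ⟨b, hb⟩ := hd0 (D (algebraMap A B0 a))
      refine ⟨e * b, ?_⟩
      rw [hD] at hb
      rw [map_mul, hb, map_mul, ← IsScalarTower.algebraMap_apply A B M]
      rw [show ((algebraMap A B0 a : B0) : M) = algebraMap A M a from rfl]
      ring
    | add x y _ _ hx hy =>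
      obtain ⟨b, hb⟩ := hx
      obtain ⟨c, hc⟩ := hy
      exact ⟨b + c, by rw [map_add, hb, hc, map_add, map_add, mul_add]⟩
    | mul x y _ _ hx hy =>
      obtain ⟨b, hb⟩ := hx
      obtain ⟨c, hc⟩ := hy
      exact ⟨x * c + y * b, by rw [map_add, map_mul, map_mul, hb, hc, map_mul _ x y, Derivation.leibniz, smul_eq_mul, smul_eq_mul]; ring⟩
  choose δ hδ using hkey
  have hinj := IsFractionRing.injective B M
  let δ0 : B →ₗ[ℤ] B := (AddMonoidHom.mk' δ fun x y => hinj (by rw [map_add, hδ, hδ, hδ, map_add, map_add, mul_add])).toIntLinearMap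
  refine ⟨Derivation.mk' δ0 fun x y => hinj ?_, fun h => ?_⟩
  · show algebraMap B M (δ (x * y)) = algebraMap B M (x • δ y + y • δ x)
    rw [smul_eq_mul, smul_eq_mul, map_add, map_mul, map_mul, hδ, hδ, hδ, map_mul _ x y, Derivation.leibniz, smul_eq_mul, smul_eq_mul]
    ring
  · have h1 : algebraMap B M (δ f) = 0 := by rw [show δ f = 0 from h, map_zero]
    rw [hδ] at h1
    refine (mul_ne_zero ((map_ne_zero_iff _ hinj).2 ?_) hθf) h1
    exact mul_ne_zero (nonZeroDivisors.ne_zero hd) (nonZeroDivisors.ne_zero he)

/-- Let `p` be a prime and `B` a domain of characteristic `p`, finitely generated as an algebra over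
some complete Noetherian local ring. If `f ∈ B` has no `p`-th root in the fraction field of `B`,
then some derivation `D : B → B` has `D(f) ≠ 0`. -/
theorem result {R B : Type u} [CommRing R] [IsLocalRing R]
    [IsNoetherianRing R] [IsAdicComplete (IsLocalRing.maximalIdeal R) R] [CommRing B] [IsDomain B]
    [Algebra R B] [Algebra.FiniteType R B] (p : ℕ) [Fact p.Prime] [CharP B p] (f : B)
    (hf : ∀ x : FractionRing B, x ^ p ≠ algebraMap B (FractionRing B) f) :
    ∃ D : Derivation ℤ B B, D f ≠ 0 := by
  classical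
  let P := RingHom.ker (algebraMap R B)
  haveI : P.IsPrime := RingHom.ker_isPrime _
  let R0 := R ⧸ P
  haveI : Nontrivial R0 := Ideal.Quotient.nontrivial_iff.mpr (Ideal.IsPrime.ne_top inferInstance)
  haveI : IsLocalRing R0 := IsLocalRing.of_surjective' (Ideal.Quotient.mk P) Ideal.Quotient.mk_surjective
  haveI : IsAdicComplete (maximalIdeal R0) R0 := isAdicComplete_quotient P
  obtain ⟨Λ, _, n, φ, hreg, hcase, hinj, hfin, -⟩ := exists_finite_injective_mvPowerSeries R0
  let P0 := MvPowerSeries (Fin n) Λ
  let j : P0 →+* B := (RingHom.kerLift (algebraMap R B)).comp φ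
  have hj : Function.Injective j := (RingHom.kerLift_injective _).comp hinj
  haveI : IsDomain P0 := hj.isDomain j
  haveI : CharP P0 p := (RingHom.charP_iff j hj p).mpr ‹_›
  have hfield : IsField Λ := by
    rcases hcase with h | h
    · exact h
    · exfalso
      haveI := isCohenRing_charZero h
      haveI : CharP Λ p := (RingHom.charP_iff (MvPowerSeries.C (σ := Fin n) (R := Λ)) MvPowerSeries.C_injective p).mpr inferInstance
      exact (Fact.out : p.Prime).ne_zero (CharP.eq Λ (inferInstance : CharP Λ p) (CharP.ofCharZero Λ))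
  letI := hfield.toField
  haveI : CharP Λ p := (RingHom.charP_iff (MvPowerSeries.C (σ := Fin n) (R := Λ)) MvPowerSeries.C_injective p).mpr inferInstance
  have hgood : GoodFamily p P0 := goodFamily_mvPowerSeries p (σ := Fin n) (goodFamily_field p Λ)
  haveI : IsRegularLocalRing P0 := (isRegularLocalRing_mvPowerSeries Λ n).1
  letI := j.toAlgebra
  haveI : FaithfulSMul P0 B := (faithfulSMul_iff_algebraMap_injective _ _).mpr hj
  haveI : Algebra.FiniteType P0 B := by
    have h1 : (RingHom.kerLift (algebraMap R B)).FiniteType :=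
      RingHom.FiniteType.of_comp_finiteType (f := Ideal.Quotient.mk P)
        (show ((RingHom.kerLift (algebraMap R B)).comp (Ideal.Quotient.mk P)).FiniteType from
          RingHom.finiteType_algebraMap.2 inferInstance)
    exact RingHom.finiteType_algebraMap.1 (h1.comp hfin.finiteType)
  obtain ⟨g, hg⟩ := (inferInstance : Algebra.FiniteType P0 B).1
  haveI : Algebra.IsAlgebraic (Algebra.adjoin P0 (g : Set B)) B := ⟨fun b =>
    isAlgebraic_algebraMap (⟨b, hg ▸ Algebra.mem_top⟩ : Algebra.adjoin P0 (g : Set B))⟩
  obtain ⟨t, ht, htb⟩ := exists_isTranscendenceBasis_subset (R := P0) (g : Set B)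
  haveI : Finite t := (g.finite_toSet.subset ht).to_subtype
  let et : t ≃ Fin (Nat.card t) := Finite.equivFin t
  have htb' := htb.comp_equiv et.symm
  let A := MvPolynomial (Fin (Nat.card t)) P0
  let ψ : A →ₐ[P0] B := MvPolynomial.aeval fun i => ((et.symm i : t) : B)
  have hψ : Function.Injective ψ := htb'.1
  haveI := charP_of_injective_ringHom (f := (MvPolynomial.C : P0 →+* A)) (MvPolynomial.C_injective _ _) p
  letI : Algebra A B := ψ.toRingHom.toAlgebra
  haveI : IsScalarTower P0 A B := .of_algebraMap_eq fun x => (ψ.commutes x).symm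
  haveI : FaithfulSMul A B := (faithfulSMul_iff_algebraMap_injective _ _).mpr hψ
  haveI : Algebra.FiniteType A B := Algebra.FiniteType.of_restrictScalars_finiteType P0 A B
  haveI : Algebra.IsAlgebraic A B := by
    haveI := htb'.isAlgebraic
    refine ⟨fun b => ?_⟩
    have hb := Algebra.IsAlgebraic.isAlgebraic (R := Algebra.adjoin P0 (Set.range ((Subtype.val : t → B) ∘ ⇑et.symm))) b
    obtain ⟨q, hq0, hq⟩ := hb
    have hr : ∀ x : Algebra.adjoin P0 (Set.range ((Subtype.val : t → B) ∘ ⇑et.symm)), ∃ a : A, ψ a = x := fun x => by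
      exact (Algebra.adjoin_range_eq_range_aeval P0 ((Subtype.val : t → B) ∘ ⇑et.symm)).le x.2
    choose r hr using hr
    let ρ : Algebra.adjoin P0 (Set.range ((Subtype.val : t → B) ∘ ⇑et.symm)) →+* A :=
      { toFun := r
        map_one' := hψ (by rw [hr, map_one]; rfl)
        map_mul' := fun x y => hψ (by rw [hr, map_mul, hr, hr]; rfl)
        map_zero' := hψ (by rw [hr, map_zero]; rfl)
        map_add' := fun x y => hψ (by rw [hr, map_add, hr, hr]; rfl) }
    have hρ : Function.Injective ρ := fun x y h => Subtype.ext (by rw [← hr x, ← hr y]; exact congrArg ψ h)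
    refine ⟨q.map ρ, (Polynomial.map_ne_zero_iff hρ).2 hq0, ?_⟩
    rw [Polynomial.aeval_def, Polynomial.eval₂_map]
    rw [show (algebraMap A B).comp ρ = algebraMap _ B from RingHom.ext hr]
    exact hq
  exact exists_derivation_of_algebraic p A (goodFamily_mvPolynomial p hgood) B (FractionRing B) f hf

end Groth.Agent.S2048
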