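import Groth.Statements.S2049
import Groth.Agent.PruferLib.CoherentPoly

set_option autoImplicit false
universe u
open CAlg

namespace Groth.Agent.S2049

theorem valuationRing_atPrime (A : Type u) [CommRing A] [IsDomain A] [ValuationRing A] (p : Ideal A)
    [p.IsPrime] : ValuationRing (Localization.AtPrime p) := by
  rw [ValuationRing.iff_dvd_total]
  refine ⟨fun a b => ?_⟩
  obtain ⟨x, s, rfl⟩ := IsLocalization.exists_mk'_eq p.primeCompl a
  obtain ⟨y, t, rfl⟩ := IsLocalization.exists_mk'_eq p.primeCompl b
  have key : ∀ (z : A) (w : p.primeCompl), Associated (algebraMap A (Localization.AtPrime p) z)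
      (IsLocalization.mk' (Localization.AtPrime p) z w) := fun z w =>
    (show Associated (IsLocalization.mk' (Localization.AtPrime p) z w)
        (algebraMap A (Localization.AtPrime p) z) from
      ⟨(IsLocalization.map_units _ w).unit, IsLocalization.mk'_spec _ z w⟩).symm
  rw [← (key x s).dvd_iff_dvd_left, ← (key y t).dvd_iff_dvd_right, ← (key y t).dvd_iff_dvd_left,
    ← (key x s).dvd_iff_dvd_right]
  exact (ValuationRing.dvd_total x y).imp (map_dvd _) (map_dvd _)

/-- Let `A` be a valuation ring, `A → B` a local homomorphism of local rings essentially of finite type,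
and `M` a finite `B`-module which is flat over `A`. Then `M` is finitely presented over `B`. -/
theorem result {A B M : Type u} [CommRing A] [IsDomain A]
    [ValuationRing A] [CommRing B] [IsLocalRing B] [Algebra A B] [IsLocalHom (algebraMap A B)]
    [Algebra.EssFiniteType A B] [AddCommGroup M] [Module B M] [Module A M] [IsScalarTower A B M]
    [Module.Finite B M] [Module.Flat A M] : Module.FinitePresentation B M := by
  classical
  obtain ⟨s, hs⟩ := Algebra.EssFiniteType.cond (R := A) (S := B)
  let π : MvPolynomial (Fin s.card) A →ₐ[A] B := MvPolynomial.aeval fun i => (s.equivFin.symm i).1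
  let S := MvPolynomial (Fin s.card) A
  have hrange : (π.range : Set B) = (Algebra.adjoin A (s : Set B) : Set B) := by
    have : π.range = Algebra.adjoin A (s : Set B) := by
      rw [← Algebra.adjoin_range_eq_range_aeval]
      congr 1
      ext x
      exact ⟨by rintro ⟨i, rfl⟩; exact (s.equivFin.symm i).2,
        fun hx => ⟨s.equivFin ⟨x, hx⟩, by simp⟩⟩
    rw [this]
  letI : Algebra S B := π.toRingHom.toAlgebra
  let T : Submonoid S := (IsUnit.submonoid B).comap π.toRingHom.toMonoidHom
  have hloc : ∀ b : B, ∃ x : S, ∃ t ∈ T, b * π t = π x := by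
    intro b
    obtain ⟨w, hw, hwu, hbw⟩ := (Algebra.essFiniteType_cond_iff A B s).1 hs b
    obtain ⟨w', hw'⟩ : w ∈ (π.range : Set B) := hrange ▸ hw
    obtain ⟨x', hx'⟩ : b * w ∈ (π.range : Set B) := hrange ▸ hbw
    refine ⟨x', w', ?_, ?_⟩
    · show IsUnit (π w')
      rwa [show π w' = w from hw']
    · rw [show π w' = w from hw', show π x' = b * w from hx']
  obtain ⟨n, g, hg⟩ := Module.Finite.exists_fin' B M
  letI : Module S M := Module.compHom M π.toRingHom
  haveI : IsScalarTower S B M := IsScalarTower.of_algebraMap_smul fun _ _ => rfl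
  let e : Fin n → M := fun i => g (Pi.single i 1)
  let f : (Fin n → S) →ₗ[S] M := Fintype.linearCombination S e
  have htf : ∀ (r : A) (m : M), r ≠ 0 → (MvPolynomial.C r : S) • m = 0 → m = 0 := fun r m hr h => by
    have h' : π (MvPolynomial.C r) • m = 0 := h
    rw [← MvPolynomial.algebraMap_eq, AlgHom.commutes, algebraMap_smul] at h'
    have : m ∈ Submodule.torsion A M := ⟨⟨r, mem_nonZeroDivisors_of_ne_zero hr⟩, h'⟩
    rwa [Module.Flat.torsion_eq_bot, Submodule.mem_bot] at this
  obtain ⟨k, hk⟩ := PruferLib.FlatFP.fg_of_isSat_prufer (fun p _ => valuationRing_atPrime A p)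
    (PruferLib.FlatFP.ker_isSat f htf)
  refine Module.finitePresentation_of_surjective g hg ?_
  let ι : (Fin n → S) →ₗ[S] (Fin n → B) := LinearMap.pi fun i => (Algebra.linearMap S B).comp (LinearMap.proj i)
  have hgι : ∀ v, g (ι v) = f v := fun v => by
    have : ι v = ∑ i, π (v i) • (Pi.single i (1 : B) : Fin n → B) := by
      funext j
      simp [ι, Finset.sum_apply, Pi.single_apply]
      rfl
    rw [this, map_sum]
    exact Finset.sum_congr rfl fun i _ => map_smul g _ _
  refine ⟨k.image ι, le_antisymm (Submodule.span_le.2 ?_) fun x hx => ?_⟩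
  · rw [Finset.coe_image]
    rintro _ ⟨v, hv, rfl⟩
    exact LinearMap.mem_ker.2 ((hgι v).trans (LinearMap.mem_ker.1 (hk ▸ Submodule.subset_span hv)))
  · choose y t ht hyt using fun i => hloc (x i)
    let u : S := ∏ i, t i
    let v : Fin n → S := fun i => y i * ∏ j ∈ Finset.univ.erase i, t j
    have hv : ι v = π u • x := by
      funext i
      show π (y i * ∏ j ∈ Finset.univ.erase i, t j) = π u * x i
      rw [map_mul, ← hyt, mul_assoc, ← map_mul, Finset.mul_prod_erase _ _ (Finset.mem_univ i), mul_comm]
    have hvk : v ∈ LinearMap.ker f := by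
      rw [LinearMap.mem_ker, ← hgι, hv, map_smul, LinearMap.mem_ker.1 hx, smul_zero]
    have hmem : π u • x ∈ Submodule.span B (k.image ι : Set (Fin n → B)) := by
      rw [← hv]
      refine Submodule.span_le_restrictScalars S B (k.image ι : Set (Fin n → B)) ?_
      rw [Finset.coe_image, Submodule.span_image]
      exact Submodule.mem_map_of_mem (hk ▸ hvk)
    have hu : IsUnit (π u) := T.prod_mem fun i _ => ht i
    exact (Submodule.smul_mem_iff_of_isUnit _ hu).1 hmem

end Groth.Agent.S2049
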