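import Groth.Statements.S2058
import Groth.Agent.CAlgH3.Depth
import Mathlib
-- import your own Groth.Agent.* helpers here

set_option autoImplicit false
universe u
open CAlg

open scoped Pointwise

namespace Groth.Agent.S2058

/-- Let R be a Noetherian local ring which is not Artinian, is not a regular local ring of dimension
one, and has depth at most one. Then there is a finite ring map R → R' with R' ≠ 0, not bijective,
whose kernel and cokernel are killed by a power of the maximal ideal of R, such that the maximal
ideal of R is not an associated prime of the R-module R'. (This says that the four cases for a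
Noetherian local ring — Artinian, regular of dimension one, depth at least two, or admitting such a
map — cover everything; that they are mutually exclusive is not asserted.) -/
theorem result {R : Type u} [CommRing R] [IsLocalRing R] [IsNoetherianRing R]
    (h1 : ¬ IsArtinianRing R) (h2 : ¬ (IsRegularLocalRing R ∧ ringKrullDim R = 1))
    (h3 : LocCoh.depth R R ≤ 1) :
    ∃ (R' : Type u) (_ : CommRing R') (_ : Algebra R R'), Nontrivial R' ∧ Module.Finite R R' ∧
      ¬ Function.Bijective (algebraMap R R') ∧
      (∃ n : ℕ, (∀ x : R, algebraMap R R' x = 0 → ∀ a ∈ IsLocalRing.maximalIdeal R ^ n, a * x = 0) ∧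
        (∀ y : R', ∀ a ∈ IsLocalRing.maximalIdeal R ^ n, a • y ∈ Set.range (algebraMap R R'))) ∧
      IsLocalRing.maximalIdeal R ∉ associatedPrimes R R' := by
  classical
  set m := IsLocalRing.maximalIdeal R with hm
  have hone : ∀ {M : Type u} [AddCommGroup M] [Module R M], m ∈ associatedPrimes R M →
      ∃ y : M, y ≠ 0 ∧ ∀ a ∈ m, a • y = 0 := by
    intro M _ _ h
    obtain ⟨hp, y, hy⟩ := Submodule.isAssociatedPrime_iff.1 h
    refine ⟨y, fun h0 => hp.ne_top ?_, fun a ha => ?_⟩
    · rw [hy, Ideal.eq_top_iff_one, Submodule.mem_colon_singleton, h0, smul_zero]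
      exact Submodule.zero_mem _
    · rw [hy, Submodule.mem_colon_singleton] at ha
      exact (Submodule.mem_bot R).1 ha
  have hnil : ∀ n : ℕ, m ^ n ≠ ⊥ := by
    intro n hn
    apply h1
    rw [isArtinianRing_iff_krullDimLE_zero, Ring.krullDimLE_zero_iff]
    intro p hp
    have hle : m ≤ p := by
      intro a ha
      have : a ^ n ∈ p := by
        have := Ideal.pow_mem_pow ha n
        rw [hn, Submodule.mem_bot] at this
        rw [this]; exact p.zero_mem
      exact hp.mem_of_pow_mem n this
    have := (IsLocalRing.maximalIdeal.isMaximal R).eq_of_le hp.ne_top hle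
    exact this ▸ IsLocalRing.maximalIdeal.isMaximal R
  rcases eq_or_ne (LocCoh.depth R R) 0 with hd | hd
  · -- depth zero: divide by the `m`-power torsion
    let f : ℕ →o Ideal R := ⟨fun n => (m ^ n).annihilator, fun a b hab =>
      Submodule.annihilator_mono (Ideal.pow_le_pow_right hab)⟩
    obtain ⟨N, hN⟩ := monotone_stabilizes_iff_noetherian.2 ‹IsNoetherianRing R› f
    have hmemf : ∀ n r, r ∈ f n ↔ ∀ a ∈ m ^ n, r * a = 0 := fun n r => Submodule.mem_annihilator
    have hJtop : f N ≠ ⊤ := by
      intro h
      refine hnil N (eq_bot_iff.2 fun a ha => ?_)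
      have := (hmemf N 1).1 (h ▸ Submodule.mem_top) a ha
      rw [one_mul] at this
      exact (Submodule.mem_bot R).2 this
    have : Nontrivial (R ⧸ f N) := Ideal.Quotient.nontrivial_iff.2 hJtop
    refine ⟨R ⧸ f N, inferInstance, inferInstance, inferInstance, inferInstance, ?_, ⟨N, ?_, ?_⟩, ?_⟩
    · intro hb
      obtain ⟨y, hy0, hy⟩ := hone ((CAlgH3.depth_eq_zero_iff (R := R) (M := R)).1 hd)
      have hyf : y ∈ f N := by
        have h' : y ∈ f 1 := (hmemf 1 y).2 fun a ha => by
          rw [pow_one] at ha
          rw [mul_comm]; exact hy a ha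
        have h'' : y ∈ f (max 1 N) := f.monotone (le_max_left _ _) h'
        rwa [← hN _ (le_max_right _ _)] at h''
      exact hy0 (hb.1 (show algebraMap R (R ⧸ f N) y = algebraMap R _ 0 by
        rw [map_zero]; exact Ideal.Quotient.eq_zero_iff_mem.2 hyf))
    · intro x hx a ha
      rw [mul_comm]
      exact (hmemf N x).1 (Ideal.Quotient.eq_zero_iff_mem.1 hx) a ha
    · intro y a _
      exact Ideal.Quotient.mk_surjective _
    · intro h
      obtain ⟨y, hy0, hy⟩ := hone h
      obtain ⟨y, rfl⟩ := Ideal.Quotient.mk_surjective y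
      refine hy0 (Ideal.Quotient.eq_zero_iff_mem.2 ?_)
      rw [hN (N + 1) (Nat.le_succ N), hmemf]
      intro a ha
      rw [pow_succ'] at ha
      refine Submodule.mul_induction_on ha (fun u hu v hv => ?_) (fun u v hu hv => by rw [mul_add, hu, hv, add_zero])
      have h' : u * y ∈ f N := by
        have := hy u hu
        rw [← Ideal.Quotient.eq_zero_iff_mem]
        exact this
      rw [← mul_assoc, mul_comm y u]
      exact (hmemf N _).1 h' v hv
  · -- depth one: adjoin `y / x`
    have hone' : 1 ≤ LocCoh.depth R R := Order.one_le_iff_pos.2 (pos_iff_ne_zero.2 hd)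
    obtain ⟨x, hxm, hx⟩ := CAlgH3.exists_regular_of_one_le_depth (M := R) hone'
    have hq0 : LocCoh.depth R (QuotSMulTop x R) = 0 := by
      have h' := CAlgH3.depth_quotSMulTop_add_one (M := R) hxm hx
      rw [← h'] at h3
      revert h3
      generalize LocCoh.depth R (QuotSMulTop x R) = e
      induction e using ENat.recTopCoe with
      | top => simp
      | coe e => intro h3; norm_cast at h3 ⊢; omega
    have hmul : ∀ r : R, (Submodule.mkQ (x • ⊤ : Submodule R R)) r = 0 ↔ ∃ c, r = x * c := by
      intro r
      rw [Submodule.mkQ_apply, Submodule.Quotient.mk_eq_zero, Submodule.mem_smul_pointwise_iff_exists]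
      constructor
      · rintro ⟨c, -, rfl⟩; exact ⟨c, rfl⟩
      · rintro ⟨c, rfl⟩; exact ⟨c, Submodule.mem_top, rfl⟩
    have : Nontrivial (QuotSMulTop x R) := by
      refine ⟨Submodule.mkQ _ (1 : R), 0, fun h => ?_⟩
      obtain ⟨c, hc⟩ := (hmul 1).1 h
      exact (IsLocalRing.mem_maximalIdeal x).1 hxm (IsUnit.of_mul_eq_one c hc.symm)
    obtain ⟨yb, hyb0, hyb⟩ := hone ((CAlgH3.depth_eq_zero_iff (R := R) (M := QuotSMulTop x R)).1 hq0)
    obtain ⟨y, rfl⟩ := Submodule.mkQ_surjective _ yb
    have hdiv : ∀ a ∈ m, ∃ c, y * a = x * c := by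
      intro a ha
      refine (hmul _).1 ?_
      rw [mul_comm y a, ← smul_eq_mul, map_smul]
      exact hyb a ha
    have hcan : ∀ {u v : R}, x * u = x * v → u = v := fun h => hx h
    have hall : ∀ a ∈ m, ∀ c, y * a = x * c → c ∈ m := by
      intro a ha c hc
      by_contra hcu
      obtain ⟨u, rfl⟩ := IsLocalRing.notMem_maximalIdeal.1 hcu
      apply h2
      have hgen : m = Ideal.span {a} := by
        refine le_antisymm (fun b hb => ?_) ((Ideal.span_singleton_le_iff_mem _).2 ha)
        obtain ⟨c', hc'⟩ := hdiv b hb
        rw [Ideal.mem_span_singleton']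
        refine ⟨c' * ↑u⁻¹, ?_⟩
        have h' : (↑u : R) * b = a * c' := hcan (by linear_combination b * hc.symm + a * hc')
        linear_combination (-(↑u⁻¹ : R)) * h' + b * u.inv_mul
      have hdim : (1 : WithBot ℕ∞) ≤ ringKrullDim R := by
        by_contra hlt
        refine h1 (isArtinianRing_iff_krullDimLE_zero.2 ?_)
        rw [Ring.krullDimLE_iff, Nat.cast_zero]
        revert hlt
        generalize ringKrullDim R = D
        induction D using WithBot.recBotCoe with
        | bot => simp
        | coe D =>
          intro hlt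
          have hD : D < 1 := WithBot.coe_lt_coe.1 (not_le.1 hlt)
          exact le_of_eq (congrArg _ (ENat.lt_one_iff_eq_zero.1 hD))
      have hsp : (IsLocalRing.maximalIdeal R).spanFinrank ≤ 1 := by
        rw [← hm, hgen]
        exact (Submodule.spanFinrank_span_le_ncard_of_finite (Set.finite_singleton a)).trans
          (by simp)
      have hle1 : ringKrullDim R ≤ 1 :=
        (ringKrullDim_le_spanFinrank_maximalIdeal R).trans (by exact_mod_cast hsp)
      exact ⟨IsRegularLocalRing.of_spanFinrank_maximalIdeal_le R
        (le_trans (by exact_mod_cast hsp) hdim), le_antisymm hle1 hdim⟩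
    let A := Localization.Away x
    have hinj : Function.Injective (algebraMap R A) := by
      refine IsLocalization.injective A (M := Submonoid.powers x) ?_
      rintro _ ⟨n, rfl⟩
      exact pow_mem (mem_nonZeroDivisors_iff.2 ⟨fun z hz => hx.right_eq_zero_of_smul hz,
        fun z hz => hx.right_eq_zero_of_smul (by rwa [smul_eq_mul, mul_comm])⟩) n
    have hxu : IsUnit (algebraMap R A x) :=
      IsLocalization.map_units A (⟨x, Submonoid.mem_powers x⟩ : Submonoid.powers x)
    let z : A := algebraMap R A y * ↑hxu.unit⁻¹
    have hz : ∀ a c, y * a = x * c → z * algebraMap R A a = algebraMap R A c := by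
      intro a c h
      have h' : algebraMap R A y * algebraMap R A a = algebraMap R A x * algebraMap R A c := by
        rw [← map_mul, ← map_mul, h]
      have hu : (↑hxu.unit⁻¹ : A) * algebraMap R A x = 1 := hxu.val_inv_mul
      show algebraMap R A y * ↑hxu.unit⁻¹ * algebraMap R A a = _
      linear_combination (↑hxu.unit⁻¹ : A) * h' + algebraMap R A c * hu
    choose φ₀ hφ₀ using hdiv
    let φ : Module.End R m :=
      { toFun := fun a => ⟨φ₀ a a.2, hall a a.2 _ (hφ₀ a a.2)⟩
        map_add' := fun a b => Subtype.ext (hcan (by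
          rw [← hφ₀]; simp only [Submodule.coe_add]; linear_combination hφ₀ a a.2 + hφ₀ b b.2))
        map_smul' := fun r a => Subtype.ext (hcan (by
          rw [← hφ₀]; simp only [Submodule.coe_smul, RingHom.id_apply, smul_eq_mul]
          linear_combination r * hφ₀ a a.2)) }
    have haev : ∀ (p : Polynomial R) (a : m),
        algebraMap R A ((Polynomial.aeval φ p a : m) : R) = Polynomial.aeval z p * algebraMap R A a := by
      intro p
      induction p using Polynomial.induction_on with
      | C r => intro a; simp [map_mul]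
      | add p q hp hq => intro a; simp [hp a, hq a, add_mul]
      | monomial n r ih =>
        intro a
        have he : Polynomial.C r * Polynomial.X ^ (n + 1) = Polynomial.C r * Polynomial.X ^ n * Polynomial.X := by
          rw [pow_succ, mul_assoc]
        rw [he, map_mul (Polynomial.aeval φ) (Polynomial.C r * Polynomial.X ^ n),
          map_mul (Polynomial.aeval z) (Polynomial.C r * Polynomial.X ^ n), Polynomial.aeval_X, Polynomial.aeval_X, Module.End.mul_apply, ih (φ a)]
        rw [mul_assoc (Polynomial.aeval z (Polynomial.C r * Polynomial.X ^ n))]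
        exact congrArg _ (hz a _ (hφ₀ a a.2)).symm
    have hint : IsIntegral R z := by
      obtain ⟨p, hp, hp0⟩ := LinearMap.exists_monic_and_aeval_eq_zero R φ
      refine ⟨p, hp, ?_⟩
      have h' := haev p ⟨x, hxm⟩
      rw [hp0, LinearMap.zero_apply, ZeroMemClass.coe_zero, map_zero] at h'
      rw [← Polynomial.aeval_def]
      exact hxu.mul_left_eq_zero.1 h'.symm
    let R' := Algebra.adjoin R ({z} : Set A)
    have hfin : Module.Finite R R' := Algebra.finite_adjoin_simple_of_isIntegral hint
    have : Nontrivial A := hinj.nontrivial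
    have hcok : ∀ w ∈ R', ∀ a ∈ m, ∃ b ∈ m, algebraMap R A a * w = algebraMap R A b := by
      intro w hw
      induction hw using Algebra.adjoin_induction with
      | mem w hw =>
        obtain rfl := Set.mem_singleton_iff.1 hw
        intro a ha
        exact ⟨_, hall a ha _ (hφ₀ a ha), by rw [mul_comm, hz a _ (hφ₀ a ha)]⟩
      | algebraMap r => intro a ha; exact ⟨a * r, m.mul_mem_right r ha, (map_mul _ _ _).symm⟩
      | add u v _ _ hu hv =>
        intro a ha
        obtain ⟨b, hb, e⟩ := hu a ha
        obtain ⟨b', hb', e'⟩ := hv a ha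
        exact ⟨b + b', add_mem hb hb', by rw [mul_add, e, e', map_add]⟩
      | mul u v _ _ hu hv =>
        intro a ha
        obtain ⟨b, hb, e⟩ := hu a ha
        obtain ⟨b', hb', e'⟩ := hv b hb
        exact ⟨b', hb', by rw [← mul_assoc, e, e']⟩
    refine ⟨R', inferInstance, inferInstance, inferInstance, hfin, ?_, ⟨1, ?_, ?_⟩, ?_⟩
    · intro hb
      obtain ⟨r, hr⟩ := hb.2 ⟨z, Algebra.self_mem_adjoin_singleton R z⟩
      have hr' : algebraMap R A r = z := congrArg Subtype.val hr
      refine hyb0 ((hmul y).2 ⟨r, hinj ?_⟩)
      have hu : (↑hxu.unit⁻¹ : A) * algebraMap R A x = 1 := hxu.val_inv_mul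
      rw [map_mul, hr']
      show _ = algebraMap R A x * (algebraMap R A y * ↑hxu.unit⁻¹)
      linear_combination (-algebraMap R A y) * hu
    · intro r hr a _
      have : r = 0 := hinj (by rw [map_zero]; exact congrArg Subtype.val hr)
      rw [this, mul_zero]
    · intro w a ha
      rw [pow_one] at ha
      obtain ⟨b, -, e⟩ := hcok w w.2 a ha
      exact ⟨b, Subtype.ext (e.symm.trans (Algebra.smul_def a (w : A)).symm)⟩
    · intro h
      obtain ⟨w, hw0, hw⟩ := hone h
      refine hw0 (Subtype.ext (hxu.mul_right_eq_zero.1 ?_))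
      have := congrArg Subtype.val (hw x hxm)
      rwa [Subalgebra.coe_smul, Algebra.smul_def] at this

end Groth.Agent.S2058
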