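import Groth.Statements.S2059
import Mathlib.RingTheory.Jacobson.Ring
import Mathlib.RingTheory.Algebraic.LinearIndependent
import Mathlib.SetTheory.Cardinal.Finsupp
import Mathlib.RingTheory.MvPolynomial.Basic
import Mathlib.LinearAlgebra.Dimension.StrongRankCondition
import Mathlib.RingTheory.Localization.Away.Basic
-- import your own Groth.Agent.* helpers here

set_option autoImplicit false
set_option linter.all false
universe u
open CAlg

namespace Groth.Agent.S2059

open Cardinal in
theorem isAlgebraic_of_small {k L : Type u} [Field k] [Field L] [Algebra k L] {ι : Type u}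
    (hι : Finite ι ∨ #ι < #k) (φ : MvPolynomial ι k →ₐ[k] L) (hφ : Function.Surjective φ) :
    Algebra.IsAlgebraic k L := by
  by_cases hfin : Finite ι
  · haveI : Algebra.FiniteType k L := Algebra.FiniteType.of_surjective φ hφ
    haveI := finite_of_finite_type_of_isJacobsonRing k L
    exact Algebra.IsAlgebraic.of_finite k L
  · haveI : Infinite ι := not_finite_iff_infinite.mp hfin
    have hlt := hι.resolve_left hfin
    refine ⟨fun x => ?_⟩
    by_contra hx
    have h1 : #k ≤ Module.rank k L := (Transcendental.linearIndependent_sub_inv hx).cardinal_le_rank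
    have h2 : Module.rank k L ≤ Module.rank k (MvPolynomial ι k) := LinearMap.rank_le_of_surjective φ.toLinearMap hφ
    have h3 : Module.rank k (MvPolynomial ι k) = #ι := by
      rw [← (MvPolynomial.basisMonomials ι k).mk_eq_rank'', Cardinal.mk_finsupp_nat,
        max_eq_left (Cardinal.aleph0_le_mk ι)]
    exact absurd ((h1.trans h2).trans h3.le) (not_le.mpr hlt)

/-- Let `k` be a field and `S` a `k`-algebra generated by a set of cardinality smaller than that of `k`.
Then for every maximal ideal `𝔪` of `S` the residue field `S/𝔪` is algebraic over `k`, and `S` is a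
Jacobson ring. -/
theorem result {k S : Type u} [Field k] [CommRing S] [Algebra k S]
    (s : Set S) (hs : Algebra.adjoin k s = ⊤) (hcard : Cardinal.mk s < Cardinal.mk k) :
    (∀ (m : Ideal S) [m.IsMaximal], Algebra.IsAlgebraic k (S ⧸ m)) ∧ IsJacobsonRing S := by
  classical
  let φ : MvPolynomial s k →ₐ[k] S := MvPolynomial.aeval ((↑) : s → S)
  have hφ : Function.Surjective φ := by
    rw [← AlgHom.range_eq_top, ← Algebra.adjoin_range_eq_range_aeval, Subtype.range_coe, hs]
  constructor
  · intro m hm
    letI : Field (S ⧸ m) := Ideal.Quotient.field m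
    exact isAlgebraic_of_small (Or.inr hcard) ((Ideal.Quotient.mkₐ k m).comp φ)
      ((Ideal.Quotient.mk_surjective).comp hφ)
  · have hι : Finite (Option s) ∨ Cardinal.mk (Option s) < Cardinal.mk k := by
      by_cases hf : Finite s
      · exact Or.inl inferInstance
      · haveI : Infinite s := not_finite_iff_infinite.mp hf
        exact Or.inr (by rwa [Cardinal.mk_option, Cardinal.add_one_eq (Cardinal.aleph0_le_mk s)])
    rw [isJacobsonRing_iff_prime_eq]
    intro P hP
    refine le_antisymm (fun x hx => ?_) Ideal.le_jacobson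
    by_contra hxP
    let T := S ⧸ P
    let x' : T := Ideal.Quotient.mk P x
    have hx' : x' ≠ 0 := fun h => hxP (Ideal.Quotient.eq_zero_iff_mem.mp h)
    let L := Localization.Away x'
    haveI : Nontrivial L := (IsLocalization.injective L (powers_le_nonZeroDivisors_of_noZeroDivisors hx')).nontrivial
    obtain ⟨M, hM⟩ := Ideal.exists_maximal L
    letI : Field (L ⧸ M) := Ideal.Quotient.field M
    let θ : S →ₐ[k] L ⧸ M := (Ideal.Quotient.mkₐ k M).comp ((IsScalarTower.toAlgHom k T L).comp (Ideal.Quotient.mkₐ k P))
    have hu : IsUnit (θ x) := (IsLocalization.Away.algebraMap_isUnit (S := L) x').map (Ideal.Quotient.mkₐ k M)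
    let ψ : MvPolynomial (Option s) k →ₐ[k] L ⧸ M :=
      MvPolynomial.aeval fun o => o.elim (θ x)⁻¹ fun a => θ a.1
    have hθ : ∀ a : S, θ a ∈ ψ.range := fun a => by
      obtain ⟨z, rfl⟩ := hφ a
      refine ⟨MvPolynomial.rename some z, ?_⟩
      show ψ (MvPolynomial.rename some z) = (θ.comp φ) z
      simp [ψ, φ, MvPolynomial.aeval_rename, MvPolynomial.comp_aeval, Function.comp_def]
    have hψ : Function.Surjective ψ := by
      intro y
      obtain ⟨z, rfl⟩ := Ideal.Quotient.mk_surjective y
      obtain ⟨⟨t, ⟨_, n, rfl⟩⟩, hz⟩ := IsLocalization.surj (Submonoid.powers x') z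
      obtain ⟨t, rfl⟩ := Ideal.Quotient.mk_surjective t
      obtain ⟨a, ha⟩ := hθ t
      refine ⟨a * MvPolynomial.X none ^ n, ?_⟩
      have h1 := congrArg (Ideal.Quotient.mk M) hz
      simp only [map_mul, map_pow] at h1
      have h1' : Ideal.Quotient.mk M z * θ x ^ n = θ t := h1
      rw [map_mul, map_pow, show ψ (MvPolynomial.X none) = (θ x)⁻¹ by simp [ψ],
        show ψ a = θ t from ha, ← h1', mul_assoc, ← mul_pow, mul_inv_cancel₀ hu.ne_zero, one_pow, mul_one]
    haveI := isAlgebraic_of_small hι ψ hψ
    have hfld : IsField θ.range := Subalgebra.isField_of_algebraic θ.range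
    have hmax : (RingHom.ker θ.rangeRestrict).IsMaximal := by
      letI := hfld.toField
      exact RingHom.ker_isMaximal_of_surjective _ θ.rangeRestrict_surjective
    have hPle : P ≤ RingHom.ker θ.rangeRestrict := fun a ha => by
      refine Subtype.ext ?_
      show θ a = 0
      simp [θ, T, Ideal.Quotient.eq_zero_iff_mem.mpr ha]
    have := (Ideal.mem_sInf.mp hx) ⟨hPle, hmax⟩
    exact hu.ne_zero (congrArg Subtype.val this)

end Groth.Agent.S2059
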