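import Mathlib.RingTheory.Ideal.Cotangent
import Mathlib.CategoryTheory.Abelian.Projective.Dimension
import Mathlib.Algebra.Category.ModuleCat.Abelian
import Mathlib.Algebra.Category.ModuleCat.Projective
import Mathlib.RingTheory.Noetherian.Basic
import Mathlib.LinearAlgebra.Dimension.Finrank
import Groth.Agent.CAlgH3.RegularHom

set_option autoImplicit false
universe u
namespace CategoryTheory
end CategoryTheory
open CategoryTheory
namespace CAlg
end CAlg
open CAlg

namespace Groth.Agent.S2061

/-- For a Noetherian local ring `R` write `𝔪` for its maximal ideal and `κ` for its residue field. The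
projective dimension of `κ` as an `R`-module is at least the `κ`-dimension of `𝔪/𝔪²`: if `κ` has
projective dimension less than `d` then `dim_κ 𝔪/𝔪² < d`. -/
theorem result {R : Type u} [CommRing R] [IsLocalRing R]
    [IsNoetherianRing R] (d : ℕ)
    (hd : HasProjectiveDimensionLT (ModuleCat.of R (IsLocalRing.ResidueField R)) d) :
    Module.finrank (IsLocalRing.ResidueField R) (IsLocalRing.CotangentSpace R) < d := by
  classical
  let k := R ⧸ IsLocalRing.maximalIdeal R
  have hk : Groth.Agent.CAlgH3.PD R d k := hd
  have : Nontrivial k := Ideal.Quotient.nontrivial_iff.2 (IsLocalRing.maximalIdeal.isMaximal R).ne_top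
  have := Groth.Agent.CAlgH3.isRegularLocalRing_of_pd hk
  have hex : ∃ n, Groth.Agent.CAlgH3.PD R n k := ⟨d, hk⟩
  have hle : Nat.find hex ≤ d := Nat.find_min' hex hk
  have hpos : Nat.find hex ≠ 0 := fun h => by
    have := h ▸ Nat.find_spec hex
    exact not_subsingleton k (Groth.Agent.CAlgH3.pd_zero_iff.1 this)
  obtain ⟨e, he⟩ := Nat.exists_eq_succ_of_ne_zero hpos
  have h1 := Groth.Agent.CAlgH3.depth_add_of_pd e k (by have := Nat.find_spec hex; rwa [he] at this) (Nat.find_min hex (by omega))
  have h2 : LocCoh.depth R k = 0 := Groth.Agent.CAlgH3.depth_eq_zero_iff.2 (isAssociatedPrime_iff.2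
    ⟨inferInstance, Ideal.Quotient.mk _ 1, by
      ext r
      rw [Submodule.mem_colon_singleton, Submodule.mem_bot, Algebra.smul_def, Ideal.Quotient.algebraMap_eq,
        ← map_mul, mul_one, Ideal.Quotient.eq_zero_iff_mem]⟩)
  rw [h2, add_zero, Groth.Agent.CAlgH3.depth_eq_spanFinrank, Nat.cast_inj] at h1
  rw [← IsLocalRing.spanFinrank_maximalIdeal_eq_finrank_cotangentSpace, h1]
  omega

end Groth.Agent.S2061
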