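import Groth.Statements.S2064
import Groth.Agent.CAlg15.DepthKernel

set_option autoImplicit false
universe u
open CategoryTheory
open CAlg

namespace Groth.Agent.S2064

/-- Let `R` be a Noetherian local ring and `0 → M_e → M_{e-1} → … → M_0` a complex of finite `R`-modules
with `depth(M_j) ≥ j`. If `i > 0` is the largest index at which the complex is not exact, then the
homology at `M_i` has depth at least one. -/
theorem result {R : Type u} [CommRing R] [IsLocalRing R] [IsNoetherianRing R]
    (C : ChainComplex (ModuleCat.{u} R) ℕ) (e : ℕ) (hzero : ∀ j, e < j → Limits.IsZero (C.X j))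
    (hfin : ∀ j, Module.Finite R (C.X j)) (hdepth : ∀ j, j ≤ e → (j : ℕ∞) ≤ LocCoh.depth R (C.X j))
    (i : ℕ) (hi : 0 < i) (hnot : ¬ C.ExactAt i) (habove : ∀ j, i < j → C.ExactAt j) :
    1 ≤ LocCoh.depth R (C.homology i) := by
  haveI := hfin
  obtain ⟨k, rfl⟩ : ∃ k, i = k + 1 := ⟨i - 1, by omega⟩
  have hX : ∀ j : ℕ, (j : ℕ∞) ≤ LocCoh.depth R (C.X j) := by
    intro j
    rcases le_or_gt j e with h | h
    · exact hdepth j h
    · haveI := ModuleCat.subsingleton_of_isZero (hzero j h)
      rw [CAlgH3.depth_eq_top_of_subsingleton]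
      exact le_top
  have hB : ∀ n j, e ≤ j + n → k + 1 ≤ j →
      ((j + 1 : ℕ) : ℕ∞) ≤ LocCoh.depth R (LinearMap.range (C.d (j + 1) j).hom) := by
    intro n
    induction n with
    | zero =>
      intro j hj _
      haveI := ModuleCat.subsingleton_of_isZero (hzero (j + 1) (by omega))
      haveI : Subsingleton (LinearMap.range (C.d (j + 1) j).hom) :=
        (LinearMap.surjective_rangeRestrict _).subsingleton
      rw [CAlgH3.depth_eq_top_of_subsingleton]
      exact le_top
    | succ n ih =>
      intro j hj hk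
      have hex : LinearMap.range (C.d (j + 2) (j + 1)).hom = LinearMap.ker (C.d (j + 1) j).hom :=
        (CategoryTheory.ShortComplex.moduleCat_exact_iff_range_eq_ker _).1
          ((C.exactAt_iff' (j + 2) (j + 1) j (by simp) (by simp)).1 (habove (j + 1) (by omega)))
      have h1 := (Groth.Agent.S0321.result R (IsLocalRing.maximalIdeal R)
        (LinearMap.range (C.d (j + 2) (j + 1)).hom) (C.X (j + 1)) (LinearMap.range (C.d (j + 1) j).hom)
        (Submodule.subtype _) (C.d (j + 1) j).hom.rangeRestrict (Submodule.subtype_injective _)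
        (LinearMap.surjective_rangeRestrict _) (by
          rw [LinearMap.exact_iff, Submodule.range_subtype, LinearMap.ker_rangeRestrict]
          exact hex.symm)).2.1
      refine le_trans (le_min (hX (j + 1)) ?_) h1
      have h2 := ih (j + 1) (by omega) (by omega)
      rw [ENat.coe_add, Nat.cast_one] at h2 ⊢
      exact ENat.le_sub_of_add_le_right ENat.one_ne_top h2
  let S := C.sc' (k + 2) (k + 1) k
  let e' : C.homology (k + 1) ≅ S.moduleCatLeftHomologyData.H :=
    (ShortComplex.homologyMapIso (C.isoSc' (k + 2) (k + 1) k (by simp) (by simp))).trans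
      S.moduleCatHomologyIso
  rw [CAlgH3.depth_congr e'.toLinearEquiv]
  let Z := LinearMap.ker (C.d (k + 1) k).hom
  let g : (C.X (k + 2) : Type u) →ₗ[R] Z := S.moduleCatToCycles
  show 1 ≤ LocCoh.depth R (Z ⧸ LinearMap.range g)
  have heq : Submodule.map Z.subtype (LinearMap.range g) = LinearMap.range (C.d (k + 2) (k + 1)).hom := by
    rw [← LinearMap.range_comp]
    rfl
  have hr : ((k + 2 : ℕ) : ℕ∞) ≤ LocCoh.depth R (LinearMap.range g) := by
    rw [CAlgH3.depth_congr ((Submodule.equivSubtypeMap Z (LinearMap.range g)).trans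
      (LinearEquiv.ofEq _ _ heq))]
    exact hB e (k + 1) (by omega) le_rfl
  have hZ : 1 ≤ LocCoh.depth R Z :=
    CAlg15.one_le_depth_of_injective Z.subtype Z.subtype_injective
      ((Nat.one_le_cast.2 (Nat.le_add_left 1 k) : (1 : ℕ∞) ≤ ((k + 1 : ℕ) : ℕ∞)).trans (hX (k + 1)))
  refine le_trans (le_min hZ ?_) (Groth.Agent.S0321.result R (IsLocalRing.maximalIdeal R)
    (LinearMap.range g) Z (Z ⧸ LinearMap.range g) (Submodule.subtype _) (Submodule.mkQ _)
    (Submodule.subtype_injective _) (Submodule.mkQ_surjective _) (LinearMap.exact_subtype_mkQ _)).2.1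
  refine ENat.le_sub_of_add_le_right ENat.one_ne_top (le_trans ?_ hr)
  rw [one_add_one_eq_two]
  exact_mod_cast Nat.le_add_left 2 k

end Groth.Agent.S2064
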