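import Groth.Prelude.Def_DRing2
import Mathlib.Algebra.Homology.DerivedCategory.HomologySequence
import Mathlib.CategoryTheory.Triangulated.Pretriangulated
import Mathlib.RingTheory.Finiteness.Defs
import Mathlib.Algebra.Module.FinitePresentation
import Groth.Agent.CAlgSmall.PCBundle

set_option autoImplicit false
universe u
namespace CategoryTheory
end CategoryTheory
open CategoryTheory
attribute [local instance] HasDerivedCategory.standard
namespace CAlg
end CAlg
open CAlg

namespace Groth.Agent.S2068

/-- If `K` is `m`-pseudo-coherent in `D(A)`, its cohomology in degree `m` is a finitely generated module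
when nothing above degree `m` survives, and its cohomology in degree `m+1` is finitely presented
when nothing above degree `m+1` survives. -/
theorem result {A : Type u} [CommRing A] (K : Dual.D A) (m : ℤ)
    (hK : DRing.IsPseudoCoherent A m K) :
    ((∀ i : ℤ, m < i → Limits.IsZero ((DerivedCategory.homologyFunctor (ModuleCat.{u} A) i).obj K)) →
        Module.Finite A ((DerivedCategory.homologyFunctor (ModuleCat.{u} A) m).obj K)) ∧
      ((∀ i : ℤ, m + 1 < i → Limits.IsZero ((DerivedCategory.homologyFunctor (ModuleCat.{u} A) i).obj K)) →
        Module.FinitePresentation A ((DerivedCategory.homologyFunctor (ModuleCat.{u} A) (m + 1)).obj K)) := by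
  refine ⟨fun h => ?_, fun h => ?_⟩
  · haveI : K.IsLE m := (DerivedCategory.isLE_iff K m).2 h
    exact Groth.Agent.DRingLib.finite_top hK
  · haveI : K.IsLE (m + 1) := (DerivedCategory.isLE_iff K (m + 1)).2 h
    exact Groth.Agent.CAlgSmall.PCBundle.finitePresentation_top hK

end Groth.Agent.S2068
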