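import Groth.Statements.S2071
import Mathlib.NumberTheory.NumberField.InfinitePlace.Embeddings
import Mathlib.FieldTheory.PurelyInseparable.Basic
import Mathlib.FieldTheory.Finite.Basic
import Mathlib.FieldTheory.IntermediateField.Adjoin.Basic
import Mathlib.FieldTheory.IsAlgClosed.AlgebraicClosure
import Mathlib.FieldTheory.Minpoly.IsConjRoot
import Mathlib.Algebra.Algebra.ZMod
-- import your own Groth.Agent.* helpers here

set_option autoImplicit false
set_option linter.all false
universe u
open CAlg

namespace Groth.Agent.S2071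

theorem exists_pow_eq_one_of_isAlgebraic_bot {F : Type u} [Field F] (p : ℕ) [hp : Fact p.Prime] [CharP F p]
    [Algebra.IsAlgebraic (⊥ : Subfield F) F] (x : F) (hx : x ≠ 0) : ∃ n, 0 < n ∧ x ^ n = 1 := by
  haveI : Finite (⊥ : Subfield F) := by
    have hle : (⊥ : Subfield F) ≤ (ZMod.castHom (dvd_refl p) F).fieldRange := bot_le
    haveI : Finite (ZMod.castHom (dvd_refl p) F).fieldRange :=
      Finite.of_surjective _ (ZMod.castHom (dvd_refl p) F).rangeRestrictField_bijective.2
    exact Finite.of_injective _ (Subfield.inclusion hle).injective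
  let L := IntermediateField.adjoin (⊥ : Subfield F) ({x} : Set F)
  haveI : FiniteDimensional (⊥ : Subfield F) L :=
    IntermediateField.adjoin.finiteDimensional (Algebra.IsIntegral.isIntegral x)
  haveI : Finite L := Module.finite_of_finite (⊥ : Subfield F)
  haveI : Fintype L := Fintype.ofFinite L
  have h := FiniteField.pow_card_sub_one_eq_one (⟨x, IntermediateField.mem_adjoin_simple_self _ x⟩ : L)
    (fun h => hx (congrArg Subtype.val h))
  exact ⟨Fintype.card L - 1, Nat.sub_pos_of_lt Fintype.one_lt_card, congrArg Subtype.val h⟩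

theorem finite_roots_of_unity {K : Type u} [Field K] [NumberField K] :
    {η : K | ∃ n, 0 < n ∧ η ^ n = 1}.Finite := by
  refine (NumberField.Embeddings.finite_of_norm_le K ℂ 1).subset ?_
  rintro η ⟨n, hn, h⟩
  refine ⟨IsIntegral.of_pow hn (h ▸ isIntegral_one), fun φ => le_of_eq ?_⟩
  exact Complex.norm_eq_one_of_pow_eq_one (by rw [← map_pow, h, map_one]) hn.ne'

/-- For a field extension `k'/k`, every element of `k'` has a positive power in `k` if and only if
either `k' = k`, or the characteristic is a prime `p` and either `k'/k` is purely inseparable or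
`k'` is algebraic over its prime field. -/
theorem result {k k' : Type u} [Field k] [Field k'] [Algebra k k'] :
    (∀ x : k', ∃ n : ℕ, 0 < n ∧ x ^ n ∈ Set.range (algebraMap k k')) ↔
      Function.Surjective (algebraMap k k') ∨
        ∃ p : ℕ, p.Prime ∧ CharP k' p ∧
          (IsPurelyInseparable k k' ∨ Algebra.IsAlgebraic (⊥ : Subfield k') k') := by
  classical
  constructor
  · intro h
    by_cases hsurj : Function.Surjective (algebraMap k k')
    · exact Or.inl hsurj
    refine Or.inr ?_
    haveI : Algebra.IsAlgebraic k k' := ⟨fun x => by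
      obtain ⟨n, hn, c, hc⟩ := h x
      exact (IsIntegral.of_pow hn (hc ▸ isIntegral_algebraMap)).isAlgebraic⟩
    let Ω := AlgebraicClosure k'
    let ι : k' →+* Ω := algebraMap k' Ω
    have key : ∀ (x : k') (y : Ω), IsConjRoot k (ι x) y → y ≠ ι x → ∀ t : k, algebraMap k k' t ≠ 0 →
        ∃ ζ η : Ω, (∃ n, 0 < n ∧ ζ ^ n = 1) ∧ (∃ n, 0 < n ∧ η ^ n = 1) ∧ y = ζ * ι x ∧
          η ≠ 1 ∧ algebraMap k Ω t * (η - 1) = ι x * (ζ - η) := by
      intro x y hy hne t ht
      obtain ⟨σ, hσ⟩ := (isConjRoot_iff_exists_algEquiv).mp hy.symm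
      have hx0 : ι x ≠ 0 := fun h0 => hne (by rw [← hσ, h0, map_zero])
      have hroot : ∀ z : k', ι z ≠ 0 → ∃ n, 0 < n ∧ (σ (ι z) / ι z) ^ n = 1 := by
        intro z hz
        obtain ⟨n, hn, c, hc⟩ := h z
        refine ⟨n, hn, ?_⟩
        rw [div_pow, ← map_pow, ← map_pow, ← hc, ← IsScalarTower.algebraMap_apply, AlgEquiv.commutes, div_self]
        rw [IsScalarTower.algebraMap_apply k k' Ω, hc, map_pow]
        exact pow_ne_zero n hz
      have hxt : ι (x + algebraMap k k' t) ≠ 0 := by
        intro h0
        have hx' : x = algebraMap k k' (-t) := by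
          rw [map_neg]; exact eq_neg_of_add_eq_zero_left (ι.injective (h0.trans (map_zero ι).symm))
        apply hne
        rw [← hσ, hx']
        show σ (algebraMap k' Ω _) = algebraMap k' Ω _
        rw [← IsScalarTower.algebraMap_apply, AlgEquiv.commutes]
      refine ⟨σ (ι x) / ι x, σ (ι (x + algebraMap k k' t)) / ι (x + algebraMap k k' t),
        hroot x hx0, hroot _ hxt, ?_, ?_, ?_⟩
      · rw [div_mul_cancel₀ _ hx0, hσ]
      · rw [Ne, div_eq_one_iff_eq hxt, map_add, map_add, show ι (algebraMap k k' t) = algebraMap k Ω t from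
          (IsScalarTower.algebraMap_apply k k' Ω t).symm, AlgEquiv.commutes, add_left_inj, hσ]
        exact hne
      · rw [map_add, show ι (algebraMap k k' t) = algebraMap k Ω t from
          (IsScalarTower.algebraMap_apply k k' Ω t).symm] at hxt ⊢
        rw [map_add, AlgEquiv.commutes]
        linear_combination div_mul_cancel₀ (σ (ι x) + algebraMap k Ω t) hxt - div_mul_cancel₀ (σ (ι x)) hx0
    by_cases hpi : IsPurelyInseparable k k'
    · rcases CharP.exists' k' with h0 | ⟨p, hp, hcp⟩
      · haveI : CharZero k' := h0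
        haveI : CharZero k := ⟨fun a b hab => Nat.cast_injective (R := k') (by simpa using congrArg (algebraMap k k') hab)⟩
        exact absurd (IsPurelyInseparable.surjective_algebraMap_of_isSeparable k k') hsurj
      · exact ⟨p, hp.out, hcp, Or.inl hpi⟩
    · obtain ⟨x, hxs, hxk⟩ : ∃ x : k', IsSeparable k x ∧ x ∉ Set.range (algebraMap k k') := by
        by_contra! hall
        exact hpi ⟨inferInstance, fun x hx => hall x hx⟩
      obtain ⟨y, hne, hy⟩ : ∃ y : Ω, y ≠ ι x ∧ IsConjRoot k (ι x) y := by
        have hx2 : ι x ∉ (⊥ : Subalgebra k Ω) := fun hb => by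
          obtain ⟨c, hc⟩ := Algebra.mem_bot.mp hb
          exact hxk ⟨c, ι.injective (by rw [← hc, IsScalarTower.algebraMap_apply k k' Ω])⟩
        have hsep : IsSeparable k (ι x) := IsSeparable.map (IsScalarTower.toAlgHom k k' Ω) ι.injective hxs
        obtain ⟨y, hne, hy⟩ := (notMem_iff_exists_ne_and_isConjRoot hsep (IsAlgClosed.splits _)).mp hx2
        exact ⟨y, hne.symm, hy⟩
      rcases CharP.exists' k' with h0 | ⟨p, hp, hcp⟩
      · exfalso
        haveI : CharZero k' := h0
        haveI : CharZero Ω := charZero_of_injective_ringHom ι.injective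
        haveI : CharZero k := ⟨fun a b hab => Nat.cast_injective (R := k') (by simpa using congrArg (algebraMap k k') hab)⟩
        choose ζ η hζ hη hyx hη1 heq using fun (n : ℕ) => key x y hy hne ((n : k) + 1)
          (by rw [map_add, map_natCast, map_one]; exact Nat.cast_add_one_ne_zero n)
        have hyζ : ∀ n, y = ζ n * ι x := hyx
        let K := IntermediateField.adjoin ℚ ({ι x, y} : Set Ω)
        have hint : IsIntegral ℚ (ι x) := by
          obtain ⟨e1, he1⟩ : ∃ e, e = (ι x : Ω) := ⟨_, rfl⟩
          have h2 := heq 0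
          have h3 : ι x * (ζ 0 - η 0) = η 0 - 1 := by rw [← h2]; simp
          have hz : ∀ z : Ω, (∃ n, 0 < n ∧ z ^ n = 1) → IsIntegral ℚ z :=
            fun z ⟨n, hn, hz⟩ => IsIntegral.of_pow hn (hz ▸ isIntegral_one)
          have h4 : ι x = (η 0 - 1) * (ζ 0 - η 0)⁻¹ := by
            rw [eq_mul_inv_iff_mul_eq₀ (fun h5 => hη1 0 (by rw [h5, mul_zero] at h3; exact (sub_eq_zero.mp h3.symm)))]
            exact h3
          rw [h4]
          exact ((hz _ (hη 0)).sub isIntegral_one).mul ((hz _ (hζ 0)).sub (hz _ (hη 0))).inv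
        have hinty : IsIntegral ℚ y := by
          rw [hyζ 0]
          obtain ⟨n, hn, hz⟩ := hζ 0
          exact (IsIntegral.of_pow hn (hz ▸ isIntegral_one)).mul hint
        haveI : FiniteDimensional ℚ K := IntermediateField.finiteDimensional_adjoin fun z hz => by
          rcases hz with rfl | rfl
          · exact hint
          · exact hinty
        haveI : NumberField K := { }
        have hxK : ι x ∈ K := IntermediateField.subset_adjoin _ _ (Set.mem_insert _ _)
        have hyK : y ∈ K := IntermediateField.subset_adjoin _ _ (Set.mem_insert_of_mem _ rfl)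
        have hx0 : ι x ≠ 0 := fun h0 => hne (by rw [hyζ 0, h0, mul_zero])
        have hcast : ∀ n : ℕ, algebraMap k Ω ((n : k) + 1) = (n : Ω) + 1 := fun n => by simp
        have hηK : ∀ n, η n ∈ K := fun n => by
          have hden : (n : Ω) + 1 + ι x ≠ 0 := fun h5 => by
            have h2 := heq n
            rw [hcast] at h2
            have : ι x * ζ n = -((n : Ω) + 1) := by linear_combination -h2 + η n * h5
            exact hne (by rw [hyζ n, mul_comm, this]; linear_combination -h5)
          have : η n = ((n : Ω) + 1 + y) / ((n : Ω) + 1 + ι x) := by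
            rw [eq_div_iff hden, hyζ n]
            have h2 := heq n
            rw [hcast] at h2
            linear_combination h2
          rw [this]
          exact K.div_mem (K.add_mem (K.add_mem (K.natCast_mem n) K.one_mem) hyK)
            (K.add_mem (K.add_mem (K.natCast_mem n) K.one_mem) hxK)
        have hfin := finite_roots_of_unity (K := K)
        refine Set.infinite_of_injective_forall_mem (f := fun n => (⟨η n, hηK n⟩ : K)) ?_ ?_ hfin
        · intro a b hab
          have e : η a = η b := congrArg Subtype.val hab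
          have h2 := heq a
          have h3 := heq b
          rw [hcast] at h2 h3
          have hζ' : ζ a = ζ b := mul_right_cancel₀ hx0 ((hyζ a).symm.trans (hyζ b))
          rw [← e, ← hζ'] at h3
          have h4 : ((a : Ω) - b) * (η a - 1) = 0 := by linear_combination h2 - h3
          rcases mul_eq_zero.mp h4 with h5 | h5
          · exact_mod_cast sub_eq_zero.mp h5
          · exact absurd (sub_eq_zero.mp h5) (hη1 a)
        · intro n
          obtain ⟨m, hm, hm'⟩ := hη n
          exact ⟨m, hm, Subtype.ext hm'⟩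
      · refine ⟨p, hp.out, hcp, Or.inr ?_⟩
        haveI : Fact p.Prime := hp
        haveI : CharP Ω p := charP_of_injective_ringHom ι.injective p
        letI : Algebra (ZMod p) Ω := ZMod.algebra Ω p
        have hz : ∀ z : Ω, (∃ n, 0 < n ∧ z ^ n = 1) → IsIntegral (ZMod p) z :=
          fun z ⟨n, hn, hz⟩ => IsIntegral.of_pow hn (hz ▸ isIntegral_one)
        obtain ⟨ζ, η, hζ, hη, -, hη1, heq⟩ := key x y hy hne 1 (by simp)
        have hint : IsIntegral (ZMod p) (ι x) := by
          rw [map_one, one_mul] at heq
          have h4 : ι x = (η - 1) * (ζ - η)⁻¹ := by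
            rw [eq_mul_inv_iff_mul_eq₀ (fun h5 => hη1 (by rw [h5, mul_zero] at heq; exact sub_eq_zero.mp heq))]
            exact heq.symm
          rw [h4]
          exact ((hz _ hη).sub isIntegral_one).mul ((hz _ hζ).sub (hz _ hη)).inv
        have hk : ∀ t : k, IsIntegral (ZMod p) (algebraMap k Ω t) := by
          intro t
          by_cases ht : t = 0
          · rw [ht, map_zero]; exact isIntegral_zero
          obtain ⟨ζ, η, hζ, hη, -, hη1, heq⟩ := key x y hy hne t (by simpa using ht)
          have h4 : algebraMap k Ω t = ι x * (ζ - η) * (η - 1)⁻¹ := by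
            rw [eq_mul_inv_iff_mul_eq₀ (sub_ne_zero.mpr hη1)]
            exact heq
          rw [h4]
          exact (hint.mul ((hz _ hζ).sub (hz _ hη))).mul ((hz _ hη).sub isIntegral_one).inv
        have hk' : ∀ z : k', IsIntegral (ZMod p) (ι z) := fun z => by
          obtain ⟨n, hn, c, hc⟩ := h z
          refine IsIntegral.of_pow hn ?_
          rw [← map_pow, ← hc, ← IsScalarTower.algebraMap_apply]
          exact hk c
        haveI : CharP (⊥ : Subfield k') p := inferInstance
        refine ⟨fun z => IsIntegral.isAlgebraic ?_⟩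
        obtain ⟨q, hq, hq0⟩ := hk' z
        refine ⟨q.map (ZMod.castHom (dvd_refl p) (⊥ : Subfield k')), hq.map _, ι.injective ?_⟩
        rw [Polynomial.eval₂_map, Polynomial.hom_eval₂, map_zero]
        exact (congrArg (fun g => Polynomial.eval₂ g (ι z) q) (Subsingleton.elim _ _)).trans hq0
  · rintro (hsurj | ⟨p, hp, hcp, hpi | halg⟩) x
    · exact ⟨1, one_pos, by simpa using hsurj x⟩
    · haveI := hpi
      haveI : Fact p.Prime := ⟨hp⟩
      haveI : CharP k p := (Algebra.charP_iff k k' p).mpr hcp
      obtain ⟨n, hn⟩ := IsPurelyInseparable.pow_mem k p x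
      exact ⟨p ^ n, pow_pos hp.pos n, hn⟩
    · haveI : Fact p.Prime := ⟨hp⟩
      haveI := halg
      by_cases hx : x = 0
      · exact ⟨1, one_pos, 0, by simp [hx]⟩
      obtain ⟨n, hn, h1⟩ := exists_pow_eq_one_of_isAlgebraic_bot p x hx
      exact ⟨n, hn, 1, by rw [h1, map_one]⟩

end Groth.Agent.S2071
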