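import Groth.Statements.S2072
import Groth.Agent.CAlgH.AnalyticallyUnramified


set_option autoImplicit false
universe u
open CAlg

namespace Groth.Agent.S2072

/-- A Noetherian local domain whose completion with respect to the maximal ideal is reduced (an
analytically unramified local domain) is N-1: its integral closure in its fraction field is a finite
module. -/
theorem result {R : Type u} [CommRing R] [IsDomain R] [IsLocalRing R]
    [IsNoetherianRing R] [IsReduced (AdicCompletion (IsLocalRing.maximalIdeal R) R)] : CAlg.IsN1 R := by
  exact Groth.Agent.CAlgH.isN1_of_isReduced_completion inferInstance

end Groth.Agent.S2072
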