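import Mathlib.RingTheory.AlgebraicIndependent.Basic
import Mathlib.RingTheory.FiniteType
import Mathlib.RingTheory.IntegralClosure.IsIntegralClosure.Basic
import Mathlib.RingTheory.Adjoin.Basic
import Mathlib

set_option autoImplicit false
universe u
namespace CAlg
end CAlg
open CAlg

namespace Groth.Agent.S2073

set_option maxHeartbeats 1000000 in
/-- Let `R` be a domain and `R → S` an injective ring map of finite type. Then there are elements `y_1,
…, y_d` of `S` algebraically independent over `R`, a finitely generated `R`-subalgebra `S'` of `S`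
containing them and integral over `R[y_1, …, y_d]`, and a nonzero `f ∈ R` such that every element of
`S` lands in `S'` after multiplication by a power of `f`. -/
theorem result {R S : Type u} [CommRing R] [IsDomain R] [CommRing S] [Algebra R S]
    [Algebra.FiniteType R S] (hinj : Function.Injective (algebraMap R S)) :
    ∃ (d : ℕ) (y : Fin d → S) (S' : Subalgebra R S), AlgebraicIndependent R y ∧ (∀ i, y i ∈ S') ∧ S'.FG ∧
      (∀ s ∈ S', IsIntegral (Algebra.adjoin R (Set.range y)) s) ∧
      ∃ f : R, f ≠ 0 ∧ ∀ s : S, ∃ n : ℕ, (f ^ n) • s ∈ S' := by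
  classical
  let K := FractionRing R
  let Mo : Submonoid S := Algebra.algebraMapSubmonoid S (nonZeroDivisors R)
  let SK := Localization Mo
  letI : Algebra K SK := localizationAlgebra (nonZeroDivisors R) S
  haveI : IsScalarTower R K SK := IsScalarTower.of_algebraMap_eq fun r => by
    rw [IsScalarTower.algebraMap_apply R S SK]
    exact (IsLocalization.map_eq (T := Mo) (Q := SK) (g := algebraMap R S) (Submonoid.le_comap_map _) r).symm
  haveI hne : Nontrivial SK := by
    refine ⟨⟨0, 1, fun h => ?_⟩⟩
    have h1 : algebraMap S SK 1 = algebraMap S SK 0 := by rw [map_one, map_zero]; exact h.symm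
    obtain ⟨⟨_, r, hr, rfl⟩, hm⟩ := (IsLocalization.eq_iff_exists Mo SK).1 h1
    exact nonZeroDivisors.ne_zero hr (hinj (by simpa using hm))
  haveI : Algebra.FiniteType K SK := by
    obtain ⟨G, hG⟩ := (Algebra.FiniteType.out : (⊤ : Subalgebra R S).FG)
    refine ⟨⟨G.image (algebraMap S SK), eq_top_iff.2 fun z hz => ?_⟩⟩
    clear hz
    obtain ⟨s, ⟨_, r, hr, rfl⟩, rfl⟩ := IsLocalization.exists_mk'_eq Mo z
    have h1 : algebraMap S SK s ∈ Algebra.adjoin K (↑(G.image (algebraMap S SK)) : Set SK) := by
      have hs : s ∈ Algebra.adjoin R (G : Set S) := hG ▸ Algebra.mem_top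
      induction hs using Algebra.adjoin_induction with
      | mem x hx => exact Algebra.subset_adjoin (Finset.mem_coe.2 (Finset.mem_image_of_mem _ hx))
      | algebraMap x =>
        rw [← IsScalarTower.algebraMap_apply R S SK, IsScalarTower.algebraMap_apply R K SK]
        exact Subalgebra.algebraMap_mem _ _
      | add x y _ _ hx hy => rw [map_add]; exact add_mem hx hy
      | mul x y _ _ hx hy => rw [map_mul]; exact mul_mem hx hy
    have hrK : algebraMap R K r ≠ 0 := IsFractionRing.to_map_ne_zero_of_mem_nonZeroDivisors hr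
    have e : IsLocalization.mk' SK s (⟨algebraMap R S r, r, hr, rfl⟩ : Mo) = algebraMap K SK (algebraMap R K r)⁻¹ * algebraMap S SK s := by
      rw [IsLocalization.mk'_eq_iff_eq_mul]
      show algebraMap S SK s = algebraMap K SK (algebraMap R K r)⁻¹ * algebraMap S SK s * algebraMap S SK (algebraMap R S r)
      rw [← IsScalarTower.algebraMap_apply R S SK, IsScalarTower.algebraMap_apply R K SK, mul_comm, ← mul_assoc, ← map_mul,
        mul_inv_cancel₀ hrK, map_one, one_mul]
    rw [e]
    exact mul_mem (Subalgebra.algebraMap_mem _ _) h1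
  obtain ⟨d, g, hg, hgfin⟩ := exists_finite_inj_algHom_of_fg K SK
  have hz : ∀ i, ∃ (y : S) (c : R), c ≠ 0 ∧ algebraMap S SK y = c • g (MvPolynomial.X i) := by
    intro i
    obtain ⟨⟨s, ⟨_, r, hr, rfl⟩⟩, hs⟩ := IsLocalization.surj Mo (g (MvPolynomial.X i))
    refine ⟨s, r, nonZeroDivisors.ne_zero hr, ?_⟩
    rw [Algebra.smul_def, IsScalarTower.algebraMap_apply R S SK, mul_comm]
    exact hs.symm
  choose y c hc hy using hz
  let θ : MvPolynomial (Fin d) R →ₐ[R] S := MvPolynomial.aeval y
  let σ : MvPolynomial (Fin d) K →ₐ[K] MvPolynomial (Fin d) K :=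
    MvPolynomial.aeval fun i => MvPolynomial.C (algebraMap R K (c i)) * MvPolynomial.X i
  let σ' : MvPolynomial (Fin d) K →ₐ[K] MvPolynomial (Fin d) K :=
    MvPolynomial.aeval fun i => MvPolynomial.C (algebraMap R K (c i))⁻¹ * MvPolynomial.X i
  have hcK : ∀ i, algebraMap R K (c i) ≠ 0 := fun i =>
    IsFractionRing.to_map_ne_zero_of_mem_nonZeroDivisors (mem_nonZeroDivisors_of_ne_zero (hc i))
  have hσσ' : σ'.comp σ = AlgHom.id K _ := MvPolynomial.algHom_ext fun i => by
    simp [σ, σ', ← mul_assoc, ← MvPolynomial.C_mul, mul_inv_cancel₀ (hcK i)]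
  have hgσ : ∀ i, g (σ (MvPolynomial.X i)) = algebraMap S SK (y i) := fun i => by
    simp only [σ, MvPolynomial.aeval_X, map_mul, hy, Algebra.smul_def]
    rw [← MvPolynomial.algebraMap_eq, AlgHom.commutes, ← IsScalarTower.algebraMap_apply]
  have hind : AlgebraicIndependent R y := by
    rw [AlgebraicIndependent]
    have e : (algebraMap S SK).comp θ.toRingHom = ((g.comp σ).toRingHom).comp (MvPolynomial.map (algebraMap R K)) := by
      refine MvPolynomial.ringHom_ext (fun r => ?_) (fun i => ?_)
      · show algebraMap S SK (θ (MvPolynomial.C r)) = g (σ (MvPolynomial.map (algebraMap R K) (MvPolynomial.C r)))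
        rw [MvPolynomial.map_C, ← MvPolynomial.algebraMap_eq, ← MvPolynomial.algebraMap_eq, AlgHom.commutes, AlgHom.commutes, AlgHom.commutes,
          ← IsScalarTower.algebraMap_apply, ← IsScalarTower.algebraMap_apply]
      · simp [θ, hgσ]
    refine Function.Injective.of_comp (f := algebraMap S SK) ?_
    have hmap : Function.Injective (MvPolynomial.map (σ := Fin d) (algebraMap R K)) :=
      MvPolynomial.map_injective _ (IsFractionRing.injective R K)
    have hσinj : Function.Injective σ := Function.LeftInverse.injective (g := σ') fun p => (AlgHom.congr_fun hσσ' p :)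
    intro p q h
    exact ((hg.comp hσinj).comp hmap) ((RingHom.congr_fun e p).symm.trans (h.trans (RingHom.congr_fun e q)))
  let B := Algebra.adjoin R (Set.range y)
  let Bm := Localization (Algebra.algebraMapSubmonoid B (nonZeroDivisors R))
  have hunit : ∀ m : Algebra.algebraMapSubmonoid B (nonZeroDivisors R), IsUnit (algebraMap B SK m) := by
    rintro ⟨_, r, hr, rfl⟩
    exact IsLocalization.map_units SK (⟨algebraMap R S r, r, hr, rfl⟩ : Mo)
  letI : Algebra Bm SK := (IsLocalization.lift hunit : Bm →+* SK).toAlgebra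
  haveI : IsScalarTower B Bm SK := IsScalarTower.of_algebraMap_eq (R := B) (S := Bm) (A := SK) fun b => (IsLocalization.lift_eq hunit b).symm
  letI : Algebra K Bm := localizationAlgebra (nonZeroDivisors R) B
  haveI : IsScalarTower R K Bm := IsScalarTower.of_algebraMap_eq fun r => by
    rw [IsScalarTower.algebraMap_apply R B Bm]
    exact (IsLocalization.map_eq (T := Algebra.algebraMapSubmonoid B (nonZeroDivisors R)) (Q := Bm) (g := algebraMap R B) (Submonoid.le_comap_map _) r).symm
  haveI : IsScalarTower K Bm SK := IsScalarTower.of_algebraMap_eq' (IsLocalization.ringHom_ext (nonZeroDivisors R) (by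
    rw [RingHom.comp_assoc, ← IsScalarTower.algebraMap_eq R K Bm, ← IsScalarTower.algebraMap_eq R K SK]
    ext r
    rw [RingHom.comp_apply, IsScalarTower.algebraMap_apply R B Bm, ← IsScalarTower.algebraMap_apply B Bm SK]
    rfl))
  have hSint : ∀ x : S, ∃ r : R, r ≠ 0 ∧ IsIntegral B (r • x) := by
    intro x
    let η : MvPolynomial (Fin d) K →ₐ[K] Bm := MvPolynomial.aeval fun i =>
      algebraMap K Bm (algebraMap R K (c i))⁻¹ * algebraMap B Bm ⟨y i, Algebra.subset_adjoin ⟨i, rfl⟩⟩
    have hfac : (IsScalarTower.toAlgHom K Bm SK).comp η = g := MvPolynomial.algHom_ext fun i => by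
      simp only [AlgHom.comp_apply, η, MvPolynomial.aeval_X, map_mul, AlgHom.commutes, IsScalarTower.coe_toAlgHom']
      rw [← IsScalarTower.algebraMap_apply B Bm SK]
      show _ * algebraMap S SK (y i) = _
      rw [hy, Algebra.smul_def, IsScalarTower.algebraMap_apply R K SK, ← mul_assoc, ← map_mul, inv_mul_cancel₀ (hcK i), map_one, one_mul]
    have hint : g.toRingHom.IsIntegral := RingHom.Finite.to_isIntegral hgfin
    have hx1 : IsIntegral Bm (algebraMap S SK x) := by
      refine RingHom.IsIntegral.tower_top η.toRingHom (algebraMap Bm SK) ?_ _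
      rw [show (algebraMap Bm SK).comp η.toRingHom = g.toRingHom from congrArg AlgHom.toRingHom hfac]
      exact hint
    obtain ⟨⟨_, r, hr, rfl⟩, hrx⟩ := IsIntegral.exists_multiple_integral_of_isLocalization
      (R := B) (Rₘ := Bm) (Algebra.algebraMapSubmonoid B (nonZeroDivisors R)) _ hx1
    have hrx' : IsIntegral B (algebraMap S SK (r • x)) := by
      have e0 : algebraMap S SK (r • x) = algebraMap R B r • algebraMap S SK x := by
        rw [Algebra.smul_def (algebraMap R B r), ← IsScalarTower.algebraMap_apply R B SK,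
          IsScalarTower.algebraMap_apply R S SK, ← map_mul, ← Algebra.smul_def]
      rw [e0]
      exact hrx
    obtain ⟨P, hPm, hP⟩ := hrx'
    rw [IsScalarTower.algebraMap_eq B S SK, ← Polynomial.hom_eval₂, IsLocalization.map_eq_zero_iff Mo SK] at hP
    obtain ⟨⟨_, r', hr', rfl⟩, hm⟩ := hP
    refine ⟨r' * r, mul_ne_zero (nonZeroDivisors.ne_zero hr') (nonZeroDivisors.ne_zero hr), P.scaleRoots (algebraMap R B r'), (Polynomial.monic_scaleRoots_iff _).2 hPm, ?_⟩
    rcases Nat.eq_zero_or_pos P.natDegree with h0 | h0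
    · exfalso
      rw [hPm.natDegree_eq_zero.1 h0, Polynomial.eval₂_one, mul_one] at hm
      exact nonZeroDivisors.ne_zero hr' (hinj (by rw [map_zero]; exact hm))
    have e : (r' * r) • x = algebraMap B S (algebraMap R B r') * (r • x) := by
      rw [mul_smul, Algebra.smul_def, ← IsScalarTower.algebraMap_apply]
    rw [e, Polynomial.scaleRoots_eval₂_mul, ← IsScalarTower.algebraMap_apply R B S, ← Nat.sub_add_cancel h0, pow_succ, mul_assoc, hm, mul_zero]
  choose F hF hFint using hSint
  obtain ⟨G, hG⟩ := (Algebra.FiniteType.out : (⊤ : Subalgebra R S).FG)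
  let f := ∏ x ∈ G, F x
  let S' := Algebra.adjoin R (Set.range y ∪ (fun x => f • x) '' (G : Set S))
  refine ⟨d, y, S', hind, fun i => Algebra.subset_adjoin (Or.inl ⟨i, rfl⟩),
    ?_, ?_,
    f, Finset.prod_ne_zero_iff.2 fun x _ => hF x, ?_⟩
  · exact ⟨(Finset.univ.image y) ∪ G.image (fun x => f • x), by simp [S']⟩
  · have hle : S' ≤ (integralClosure B S).restrictScalars R := by
      refine Algebra.adjoin_le ?_
      rintro _ (⟨i, rfl⟩ | ⟨x, hx, rfl⟩)
      · exact isIntegral_algebraMap (R := B) (A := S) (x := ⟨y i, Algebra.subset_adjoin ⟨i, rfl⟩⟩)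
      · obtain ⟨t, ht⟩ := Finset.dvd_prod_of_mem F hx
        show IsIntegral B (f • x)
        rw [show f = t * F x from ht.trans (mul_comm _ _), mul_smul, Algebra.smul_def, IsScalarTower.algebraMap_apply R B S]
        exact isIntegral_algebraMap.mul (hFint x)
    exact fun s hs => hle hs
  intro s
  have hs : s ∈ Algebra.adjoin R (G : Set S) := hG ▸ Algebra.mem_top
  induction hs using Algebra.adjoin_induction with
  | mem x hx => exact ⟨1, by rw [pow_one]; exact Algebra.subset_adjoin (Or.inr ⟨x, hx, rfl⟩)⟩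
  | algebraMap x => exact ⟨0, by rw [pow_zero, one_smul]; exact S'.algebraMap_mem x⟩
  | add a b _ _ ha hb =>
    obtain ⟨m, hm⟩ := ha
    obtain ⟨n, hn⟩ := hb
    refine ⟨m + n, ?_⟩
    rw [smul_add, pow_add, mul_comm, mul_smul, mul_comm (f ^ n), mul_smul]
    exact add_mem (S'.smul_mem hm _) (S'.smul_mem hn _)
  | mul a b _ _ ha hb =>
    obtain ⟨m, hm⟩ := ha
    obtain ⟨n, hn⟩ := hb
    refine ⟨m + n, ?_⟩
    rw [pow_add, ← smul_mul_smul_comm]
    exact mul_mem hm hn

end Groth.Agent.S2073
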