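import Groth.Prelude.Def_CAlg
import Mathlib.RingTheory.Flat.Basic
import Mathlib.RingTheory.LocalRing.RingHom.Basic
import Mathlib.RingTheory.Ideal.Maps
import Mathlib.RingTheory.Support
import Mathlib.RingTheory.Ideal.AssociatedPrime.Basic
import Mathlib.RingTheory.LocalRing.ResidueField.Fiber
import Groth.Agent.CAlgH3.CohenMacaulay

set_option autoImplicit false
universe u
namespace CAlg
end CAlg
open CAlg

namespace Groth.Agent.S2083

/-- Let `R` be a Noetherian local ring, `M` a finite Cohen–Macaulay `R`-module and `g` a member of the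
maximal ideal for which the support of `M/gM` has dimension exactly one less than that of `M`. Then
`g` is a nonzerodivisor on `M`, and the quotient `M/gM` is again Cohen–Macaulay, with depth one
smaller than that of `M`. -/
theorem result {R M : Type u} [CommRing R] [IsLocalRing R] [IsNoetherianRing R]
    [AddCommGroup M] [Module R M] [Module.Finite R M] (hM : LocCoh.IsCohenMacaulayModule R M) (g : R)
    (hg : g ∈ IsLocalRing.maximalIdeal R)
    (hdim : Module.supportDim R (M ⧸ Ideal.span {g} • (⊤ : Submodule R M)) + 1 = Module.supportDim R M) :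
    IsSMulRegular M g ∧ LocCoh.IsCohenMacaulayModule R (M ⧸ Ideal.span {g} • (⊤ : Submodule R M)) ∧
      LocCoh.depth R (M ⧸ Ideal.span {g} • (⊤ : Submodule R M)) + 1 = LocCoh.depth R M := by
  let e : (M ⧸ Ideal.span {g} • (⊤ : Submodule R M)) ≃ₗ[R] QuotSMulTop g M :=
    Submodule.quotEquivOfEq _ _ (Submodule.ideal_span_singleton_smul g ⊤)
  have hreg : IsSMulRegular M g := Groth.Agent.CAlgH3.isSMulRegular_of_supportDim_quot hM (by
    rw [← Module.supportDim_eq_of_equiv e]; exact hdim.le)
  have := Groth.Agent.CAlgH3.nontrivial_of_cm hM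
  refine ⟨hreg, ?_, ?_⟩
  · rw [Groth.Agent.CAlgH3.isCohenMacaulayModule_congr e,
      Groth.Agent.CAlgH3.isCohenMacaulayModule_quotSMulTop_iff hg hreg]
    exact hM
  · rw [Groth.Agent.CAlgH3.depth_congr e]
    exact Groth.Agent.CAlgH3.depth_quotSMulTop_add_one hg hreg

end Groth.Agent.S2083
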