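import Groth.Prelude.Def_CAlg
import Mathlib.RingTheory.Flat.Basic
import Mathlib.RingTheory.LocalRing.RingHom.Basic
import Mathlib.RingTheory.Ideal.Maps
import Mathlib.RingTheory.Support
import Mathlib.RingTheory.Ideal.AssociatedPrime.Basic
import Mathlib.RingTheory.LocalRing.ResidueField.Fiber
import Mathlib.Order.RelSeries
import Mathlib.RingTheory.Spectrum.Prime.Basic
import Groth.Agent.CAlgMisc2.CMChain

set_option autoImplicit false
universe u
namespace CAlg
end CAlg
open CAlg

namespace Groth.Agent.S2084

/-- Let `R` be a Noetherian local ring admitting a finite Cohen–Macaulay module whose support is all of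
`Spec R`. Then every maximal chain of prime ideals (starting at a minimal prime, ending at the
maximal ideal, with no prime strictly between consecutive members) has length equal to the dimension
of `R`. -/
theorem result {R M : Type u} [CommRing R] [IsLocalRing R] [IsNoetherianRing R]
    [AddCommGroup M] [Module R M] [Module.Finite R M] (hM : LocCoh.IsCohenMacaulayModule R M)
    (hsupp : Module.support R M = Set.univ) (s : LTSeries (PrimeSpectrum R))
    (hhead : s.head.asIdeal ∈ minimalPrimes R) (hlast : s.last.asIdeal = IsLocalRing.maximalIdeal R)
    (hsat : ∀ i : Fin s.length, s (Fin.castSucc i) ⋖ s (Fin.succ i)) :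
    (s.length : WithBot ℕ∞) = ringKrullDim R := by
  exact Groth.Agent.CAlgMisc2.length_eq_ringKrullDim hM hsupp s hhead hlast hsat

end Groth.Agent.S2084
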