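import Groth.Prelude.Def_CAlg
import Mathlib.RingTheory.Flat.Basic
import Mathlib.RingTheory.LocalRing.RingHom.Basic
import Mathlib.RingTheory.Ideal.Maps
import Mathlib.RingTheory.Support
import Mathlib.RingTheory.Ideal.AssociatedPrime.Basic
import Mathlib.RingTheory.LocalRing.ResidueField.Fiber
import Groth.Agent.CommAlg6.SerreOne

set_option autoImplicit false
universe u
namespace CAlg
end CAlg
open CAlg

namespace Groth.Agent.S2085

/-- Let `M` be a finite module over a Noetherian ring `R`. Then every associated prime of `M` is minimal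
in the support of `M` (no embedded primes) if and only if `M` satisfies Serre's condition `(S_1)`. -/
theorem result {R M : Type u} [CommRing R] [IsNoetherianRing R] [AddCommGroup M] [Module R M]
    [Module.Finite R M] :
    (∀ p ∈ associatedPrimes R M, p ∈ (Module.annihilator R M).minimalPrimes) ↔ LocCoh.HasSk 1 R M := by
  rw [Groth.Agent.CommAlg6.hasSk_one_iff]
  constructor
  · intro h p hp r hr hrp
    rw [Module.support_eq_zeroLocus] at hr
    exact le_antisymm hrp ((h _ hp).2 ⟨r.2, hr⟩ hrp)
  · intro h p hp
    have hprime := hp.isPrime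
    refine ⟨⟨hprime, ?_⟩, fun r hr hrp => ?_⟩
    · exact Submodule.annihilator_top (R := R) (M := M) ▸ IsAssociatedPrime.annihilator_le hp
    · exact (h ⟨p, hprime⟩ hp ⟨r, hr.1⟩ (by rw [Module.support_eq_zeroLocus]; exact hr.2) hrp).ge

end Groth.Agent.S2085
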