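import Mathlib.RingTheory.LocalRing.ResidueField.Basic
import Mathlib.RingTheory.Flat.Basic
import Mathlib.RingTheory.LocalRing.RingHom.Basic
import Mathlib.RingTheory.Ideal.Maps
import Groth.Agent.CAlgFlatExt.Main

set_option autoImplicit false
universe u
namespace CAlg
end CAlg
open CAlg

namespace Groth.Agent.S2088

/-- Let `(R, 𝔪, k)` be a local ring and `K/k` a field extension. Then there is a flat local homomorphism
of local rings `R → R'` with `𝔪R' = 𝔪_{R'}` whose residue field is isomorphic to `K` over `k`. -/
theorem result {R K : Type u} [CommRing R] [IsLocalRing R] [Field K]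
    [Algebra (IsLocalRing.ResidueField R) K] :
    ∃ (R' : Type u) (_ : CommRing R') (_ : IsLocalRing R') (_ : Algebra R R') (_ : IsLocalHom (algebraMap R R')),
      Module.Flat R R' ∧ (IsLocalRing.maximalIdeal R).map (algebraMap R R') = IsLocalRing.maximalIdeal R' ∧
      Nonempty (IsLocalRing.ResidueField R' ≃ₐ[IsLocalRing.ResidueField R] K) := by
  obtain ⟨L, hs, -⟩ := Groth.Agent.CAlgFlatExt.exists_lift
    (g := (algebraMap (IsLocalRing.ResidueField R) K).comp (IsLocalRing.residue R))
    (by rw [RingHom.ker_comp_of_injective _ (algebraMap (IsLocalRing.ResidueField R) K).injective, IsLocalRing.ker_residue])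
  let _ : Algebra R L.carrier := L.φ.toAlgebra
  have hloc : IsLocalHom (algebraMap R L.carrier) := L.isLocalHom
  refine ⟨L.carrier, inferInstance, inferInstance, inferInstance, hloc, L.flat, L.map_maximalIdeal,
    ⟨AlgEquiv.ofRingEquiv (f := (Ideal.quotEquivOfEq L.ker_ψ.symm).trans
      (RingHom.quotientKerEquivOfSurjective hs)) fun a => ?_⟩⟩
  obtain ⟨a, rfl⟩ := IsLocalRing.residue_surjective a
  exact congrFun (congrArg DFunLike.coe L.comp) a

end Groth.Agent.S2088
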