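import Groth.Prelude.Def_CAlg
import Mathlib.RingTheory.Ideal.AssociatedPrime.Basic
import Mathlib.Algebra.Module.LocalizedModule.Basic
import Groth.Agent.CAlgMisc1.Local
import Groth.Agent.CAlgH3.Depth

set_option autoImplicit false
universe u
namespace CAlg
end CAlg
open CAlg

namespace Groth.Agent.S2090

/-- Let `R` be Noetherian and `φ : M → N` a map of `R`-modules with `M` finite. Suppose that for every
prime `𝔭` either `φ_𝔭` is bijective, or `M_𝔭` has depth at least two and `𝔭` is not an associated
prime of `N`. Then `φ` is bijective. -/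
theorem result {R M N : Type u} [CommRing R] [IsNoetherianRing R] [AddCommGroup M]
    [Module R M] [Module.Finite R M] [AddCommGroup N] [Module R N] (φ : M →ₗ[R] N)
    (h : ∀ (p : Ideal R) [p.IsPrime],
      Function.Bijective (LocalizedModule.map p.primeCompl φ) ∨
        (2 ≤ LocCoh.depth (Localization.AtPrime p) (LocalizedModule p.primeCompl M) ∧
          p ∉ associatedPrimes R N)) :
    Function.Bijective φ := by
  have hinj : Function.Injective φ := Groth.Agent.CAlgMisc1.injective_of_associatedPrimes φ fun p hp => by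
    rcases h p with hb | ⟨hd, -⟩
    · exact Or.inl hb.1
    · refine Or.inr fun hass => ?_
      have hm := (Module.associatedPrimes.preimage_comap_associatedPrimes_eq_associatedPrimes_of_isLocalizedModule
        p.primeCompl (Localization.AtPrime p) (f := LocalizedModule.mkLinearMap p.primeCompl M)).le
        (show Ideal.comap (algebraMap R (Localization.AtPrime p)) (IsLocalRing.maximalIdeal (Localization.AtPrime p)) ∈
          associatedPrimes R M by
          rw [show Ideal.comap (algebraMap R (Localization.AtPrime p)) (IsLocalRing.maximalIdeal (Localization.AtPrime p)) = p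
            from IsLocalization.AtPrime.under_maximalIdeal (Localization.AtPrime p) p]
          exact hass)
      have : Nontrivial (LocalizedModule p.primeCompl M) := by
        by_contra hn
        rw [not_nontrivial_iff_subsingleton] at hn
        rw [associatedPrimes.eq_empty_of_subsingleton] at hm
        exact hm
      exact Groth.Agent.CAlgH3.one_le_depth_iff.1 (le_trans (by norm_num) hd) hm
  refine ⟨hinj, fun n => ?_⟩
  by_contra hn
  have hq : (Submodule.Quotient.mk n : N ⧸ LinearMap.range φ) ≠ 0 := by
    rwa [Ne, Submodule.Quotient.mk_eq_zero]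
  obtain ⟨p, hp, -⟩ := exists_le_isAssociatedPrime_of_isNoetherianRing R _ hq
  obtain ⟨hprime, zb, hz⟩ := isAssociatedPrime_iff.1 hp
  obtain ⟨z, rfl⟩ := Submodule.Quotient.mk_surjective _ zb
  have hmem : ∀ r, r ∈ p ↔ ∃ m, φ m = r • z := fun r => by
    rw [hz, Submodule.mem_colon_singleton, Submodule.mem_bot, ← Submodule.Quotient.mk_smul,
      Submodule.Quotient.mk_eq_zero, LinearMap.mem_range]
  rcases h p with hb | ⟨hd, hN⟩
  · obtain ⟨s, hs, m, hm⟩ := (Groth.Agent.CAlgMisc1.surjective_map_iff _ φ).1 hb.2 z
    exact hs ((hmem s).2 ⟨m, hm⟩)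
  let A := Localization.AtPrime p
  let ι := LocalizedModule.mkLinearMap p.primeCompl M
  let κ := LocalizedModule.mkLinearMap p.primeCompl N
  let ψ := LocalizedModule.map p.primeCompl φ
  have hψι : ∀ m, ψ (ι m) = κ (φ m) := fun m => LocalizedModule.map_mk p.primeCompl φ m 1
  have hψ : Function.Injective ψ :=
    (Groth.Agent.CAlgMisc1.injective_map_iff _ φ).2 fun m hm => ⟨1, one_mem _, by rw [one_smul]; exact hinj (by rw [hm, map_zero])⟩
  have hMp : Nontrivial (LocalizedModule p.primeCompl M) := by
    by_contra hcon
    rw [not_nontrivial_iff_subsingleton] at hcon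
    have h0 : ∀ r ∈ p, κ (r • z) = 0 := fun r hr => by
      obtain ⟨m, hm⟩ := (hmem r).1 hr
      rw [← hm, ← hψι, Subsingleton.elim (ι m) 0, map_zero]
    apply hN
    have hm := Module.associatedPrimes.preimage_comap_associatedPrimes_eq_associatedPrimes_of_isLocalizedModule
      p.primeCompl A (f := κ)
    have hassA : IsLocalRing.maximalIdeal A ∈ associatedPrimes A (LocalizedModule p.primeCompl N) := by
      refine isAssociatedPrime_iff.2 ⟨inferInstance, κ z, le_antisymm ?_ fun a ha => ?_⟩
      · rw [← Localization.AtPrime.map_eq_maximalIdeal, Ideal.map_le_iff_le_comap]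
        intro r hr
        rw [Ideal.mem_comap, Submodule.mem_colon_singleton, Submodule.mem_bot, algebraMap_smul, ← map_smul]
        exact h0 r hr
      · by_contra hu
        rw [IsLocalRing.mem_maximalIdeal, mem_nonunits_iff, not_not] at hu
        rw [Submodule.mem_colon_singleton, Submodule.mem_bot, hu.smul_eq_zero] at ha
        obtain ⟨s, hs⟩ := (IsLocalizedModule.eq_zero_iff p.primeCompl κ).1 ha
        exact s.2 ((hmem s).2 ⟨0, by rw [map_zero]; exact hs.symm⟩)
    rw [← hm, Set.mem_preimage] at hassA
    rwa [show Ideal.comap (algebraMap R A) (IsLocalRing.maximalIdeal A) = p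
      from IsLocalization.AtPrime.under_maximalIdeal A p] at hassA
  obtain ⟨x, hx, hxreg⟩ := Groth.Agent.CAlgH3.exists_regular_of_one_le_depth (le_trans (by norm_num) hd)
  have := Groth.Agent.CAlgH3.maximal_smul_top_ne_top (R := A) (M := LocalizedModule p.primeCompl M)
  have : Nontrivial (QuotSMulTop x (LocalizedModule p.primeCompl M)) :=
    nontrivial_quotSMulTop_of_mem_maximalIdeal _ hx
  have hd1 : 1 ≤ LocCoh.depth A (QuotSMulTop x (LocalizedModule p.primeCompl M)) := by
    rw [← Groth.Agent.CAlgH3.depth_quotSMulTop_add_one hx hxreg] at hd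
    exact_mod_cast (ENat.add_le_add_iff_right ENat.one_ne_top).1 (by rwa [one_add_one_eq_two])
  obtain ⟨y, hy, hyreg⟩ := Groth.Agent.CAlgH3.exists_regular_of_one_le_depth hd1
  have hpre : ∀ a ∈ IsLocalRing.maximalIdeal A, ∃ m, ψ m = a • κ z := by
    have hle : IsLocalRing.maximalIdeal A ≤
        Submodule.comap (LinearMap.toSpanSingleton A _ (κ z)) (LinearMap.range ψ) := by
      rw [← Localization.AtPrime.map_eq_maximalIdeal, Ideal.map_le_iff_le_comap]
      intro r hr
      obtain ⟨m, hm⟩ := (hmem r).1 hr
      refine ⟨ι m, ?_⟩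
      rw [hψι, hm, LinearMap.toSpanSingleton_apply, algebraMap_smul, map_smul]
    exact fun a ha => hle ha
  obtain ⟨a, ha⟩ := hpre x hx
  obtain ⟨b, hb⟩ := hpre y hy
  have hab : y • a = x • b := hψ (by rw [map_smul, map_smul, ha, hb, smul_comm])
  have hax : (Submodule.Quotient.mk a : QuotSMulTop x (LocalizedModule p.primeCompl M)) = 0 := by
    refine hyreg.right_eq_zero_of_smul ?_
    rw [← Submodule.Quotient.mk_smul, Submodule.Quotient.mk_eq_zero, hab]
    exact Submodule.smul_mem_pointwise_smul _ _ _ Submodule.mem_top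
  rw [Submodule.Quotient.mk_eq_zero, Submodule.mem_smul_pointwise_iff_exists] at hax
  obtain ⟨c, -, rfl⟩ := hax
  have hkill : ∀ w ∈ IsLocalRing.maximalIdeal A, w • (κ z - ψ c) = 0 := by
    intro w hw
    obtain ⟨d, hd'⟩ := hpre w hw
    have h1 : x • d = x • (w • c) := hψ (by
      rw [map_smul, hd', smul_comm, ← ha, ← map_smul, smul_comm])
    rw [smul_sub, ← hd', hxreg h1, ← map_smul, sub_self]
  have hne : κ z - ψ c ≠ 0 := by
    intro h0
    rw [sub_eq_zero] at h0
    induction c using LocalizedModule.induction_on with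
    | _ m s =>
      change LocalizedModule.mk z 1 = LocalizedModule.map p.primeCompl φ (LocalizedModule.mk m s) at h0
      rw [LocalizedModule.map_mk, LocalizedModule.mk_eq] at h0
      obtain ⟨u, hu⟩ := h0
      simp only [Submonoid.smul_def, Submonoid.coe_one, one_smul, ← mul_smul] at hu
      exact p.primeCompl.mul_mem u.2 s.2 ((hmem _).2 ⟨(u : R) • m, by rw [map_smul, hu]⟩)
  have hass : IsLocalRing.maximalIdeal A ∈ associatedPrimes A (LocalizedModule p.primeCompl N) := by
    refine isAssociatedPrime_iff.2 ⟨inferInstance, κ z - ψ c, le_antisymm (fun w hw => ?_) fun a ha => ?_⟩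
    · rw [Submodule.mem_colon_singleton, Submodule.mem_bot]; exact hkill w hw
    · by_contra hu
      rw [IsLocalRing.mem_maximalIdeal, mem_nonunits_iff, not_not] at hu
      rw [Submodule.mem_colon_singleton, Submodule.mem_bot, hu.smul_eq_zero] at ha
      exact hne ha
  rw [← Module.associatedPrimes.preimage_comap_associatedPrimes_eq_associatedPrimes_of_isLocalizedModule
      p.primeCompl A (f := κ), Set.mem_preimage,
    show Ideal.comap (algebraMap R A) (IsLocalRing.maximalIdeal A) = p
      from IsLocalization.AtPrime.under_maximalIdeal A p] at hass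
  exact hN hass

end Groth.Agent.S2090
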