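import Mathlib.LinearAlgebra.SymmetricAlgebra.Basic
import Mathlib.RingTheory.Smooth.Basic
import Mathlib.Algebra.Module.Projective
import Mathlib.RingTheory.Finiteness.Defs
import Groth.Agent.CAlgSmall.SymSmooth

set_option autoImplicit false
set_option maxSynthPendingDepth 3
universe u
namespace CAlg
end CAlg
open CAlg

namespace Groth.Agent.S2094

/-- The symmetric algebra of an `A`-module is a smooth `A`-algebra exactly when the module is finite
projective. -/
theorem result {A M : Type u} [CommRing A] [AddCommGroup M] [Module A M] :
    Algebra.Smooth A (SymmetricAlgebra A M) ↔ Module.Finite A M ∧ Module.Projective A M := by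
  exact CAlgSmall.sym_smooth_iff

end Groth.Agent.S2094
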