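import Groth.Prelude.Def_CAlgX
import Mathlib.RingTheory.TensorProduct.Basic
import Mathlib.RingTheory.Ideal.Maps

set_option autoImplicit false
universe u
namespace CAlg
end CAlg
open CAlg

namespace Groth.Agent.S2095

open TensorProduct in
/-- Let `R → S` be a ring map, `𝔫 ⊆ S` an ideal and `R → R'` a ring map admitting an `R`-linear
retraction. If `R' → R' ⊗ S` is formally smooth for the adic topology of the extension of `𝔫`, then
`R → S` is formally smooth for the `𝔫`-adic topology. -/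
theorem result {R S R' : Type u} [CommRing R] [CommRing S] [Algebra R S]
    (𝔫 : Ideal S) [CommRing R'] [Algebra R R'] (ρ : R' →ₗ[R] R) (hρ : ∀ r : R, ρ (algebraMap R R' r) = r)
    (h : CAlgX.IsAdicFormallySmooth R' (R' ⊗[R] S)
      (𝔫.map (Algebra.TensorProduct.includeRight : S →ₐ[R] R' ⊗[R] S))) :
    CAlgX.IsAdicFormallySmooth R S 𝔫 := by
  intro A _ _ J hJ ψ hψ
  obtain ⟨k, hk⟩ := hψ
  let incl : A →ₐ[R] R' ⊗[R] A := Algebra.TensorProduct.includeRight
  let J' : Ideal (R' ⊗[R] A) := J.map incl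
  have hJ' : J' ^ 2 = ⊥ := by
    show J.map incl ^ 2 = ⊥
    rw [← Ideal.map_pow, hJ, Ideal.map_bot]
  let ψ₀ : S →ₐ[R] (R' ⊗[R] A) ⧸ J' := (Ideal.quotientMapₐ J' incl Ideal.le_comap_map).comp ψ
  let ψ' : R' ⊗[R] S →ₐ[R'] (R' ⊗[R] A) ⧸ J' :=
    Algebra.TensorProduct.lift (Algebra.ofId R' _) ψ₀ fun _ _ => Commute.all _ _
  have hψ' : ∀ x ∈ (𝔫.map (Algebra.TensorProduct.includeRight : S →ₐ[R] R' ⊗[R] S)) ^ k, ψ' x = 0 := by
    intro x hx
    have hle : (𝔫 ^ k).map (Algebra.TensorProduct.includeRight : S →ₐ[R] R' ⊗[R] S) ≤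
        RingHom.ker ψ' := Ideal.map_le_iff_le_comap.mpr fun s hs => by
      show ψ' (1 ⊗ₜ[R] s) = 0
      simp [ψ', ψ₀, hk s hs]
    rw [← Ideal.map_pow] at hx
    exact hle hx
  obtain ⟨χ', hχ'⟩ := h (R' ⊗[R] A) J' hJ' ψ' ⟨k, hψ'⟩
  let χ₁ : S →ₐ[R] R' ⊗[R] A := (χ'.restrictScalars R).comp Algebra.TensorProduct.includeRight
  let ρA : R' ⊗[R] A →ₗ[R] A := (TensorProduct.lid R A).toLinearMap ∘ₗ ρ.rTensor A
  have hlin : ∀ (a : A) z, ρA (incl a * z) = a * ρA z := by
    intro a z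
    induction z with
    | zero => simp
    | add x y hx hy => rw [mul_add, map_add, hx, hy, map_add, mul_add]
    | tmul r b => simp [ρA, incl]
  have hρ1 : ∀ a, ρA (incl a) = a := fun a => by
    have h1 : ρ 1 = 1 := by simpa using hρ 1
    simp [ρA, incl, h1]
  have hJρ : ∀ j ∈ J', ρA j ∈ J := by
    intro j hj
    have key : ∀ c, ρA (c * j) ∈ J := by
      induction hj using Submodule.span_induction with
      | mem x hx =>
        obtain ⟨a, ha, rfl⟩ := hx
        intro c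
        rw [mul_comm, hlin]
        exact Ideal.mul_mem_right _ _ ha
      | zero => intro c; simp
      | add x y _ _ ihx ihy => intro c; rw [mul_add, map_add]; exact add_mem (ihx c) (ihy c)
      | smul d x _ ih => intro c; rw [smul_eq_mul, ← mul_assoc]; exact ih (c * d)
    simpa using key 1
  have hdec : ∀ s, ∃ a : A, ∃ j ∈ J', χ₁ s = incl a + j ∧ Ideal.Quotient.mk J a = ψ s := by
    intro s
    obtain ⟨a, ha⟩ := Ideal.Quotient.mk_surjective (ψ s)
    refine ⟨a, χ₁ s - incl a, ?_, by abel, ha⟩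
    rw [← Ideal.Quotient.eq_zero_iff_mem, map_sub, sub_eq_zero]
    have := AlgHom.congr_fun hχ' (1 ⊗ₜ[R] s)
    refine this.trans ?_
    simp [ψ', ψ₀, ← ha]
  have hmul : ∀ s t, ρA (χ₁ (s * t)) = ρA (χ₁ s) * ρA (χ₁ t) := by
    intro s t
    obtain ⟨a, j, hj, hs, -⟩ := hdec s
    obtain ⟨b, i, hi, ht, -⟩ := hdec t
    have h0 : j * i = 0 := by
      have hji := Ideal.mul_mem_mul hj hi
      rw [← pow_two, hJ'] at hji
      exact (Ideal.mem_bot).mp hji
    have h0' : ρA j * ρA i = 0 := by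
      have hji := Ideal.mul_mem_mul (hJρ j hj) (hJρ i hi)
      rw [← pow_two, hJ] at hji
      exact (Ideal.mem_bot).mp hji
    rw [map_mul, hs, ht, show (incl a + j) * (incl b + i) = incl (a * b) + incl a * i + incl b * j by
      rw [map_mul]; linear_combination h0]
    simp only [map_add, hρ1, hlin]
    linear_combination -h0'
  refine ⟨AlgHom.ofLinearMap (ρA ∘ₗ χ₁.toLinearMap) ?_ hmul, ?_⟩
  · show ρA (χ₁ 1) = 1
    rw [map_one, ← map_one incl, hρ1]
  · ext s
    obtain ⟨a, j, hj, hs, ha⟩ := hdec s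
    show Ideal.Quotient.mk J (ρA (χ₁ s)) = ψ s
    rw [hs, map_add ρA, hρ1, map_add, ha, Ideal.Quotient.eq_zero_iff_mem.mpr (hJρ j hj), add_zero]

end Groth.Agent.S2095
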