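import Mathlib.RingTheory.Smooth.Basic
import Mathlib.RingTheory.Nilpotent.Defs
import Mathlib.RingTheory.Ideal.Quotient.Operations
import Groth.Agent.CAlgMisc1.Imports

set_option autoImplicit false
universe u
namespace CAlg
end CAlg
open CAlg

namespace Groth.Agent.S2097

/-- Let `R → S` be smooth, `A` an `R`-algebra and `I ⊆ A` an ideal all of whose elements are nilpotent.
Every `R`-algebra map `S → A/I` lifts to an `R`-algebra map `S → A`. -/
theorem result {R S A : Type u} [CommRing R] [CommRing S] [Algebra R S] [Algebra.Smooth R S]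
    [CommRing A] [Algebra R A] (I : Ideal A) (hI : ∀ x ∈ I, IsNilpotent x) (g : S →ₐ[R] A ⧸ I) :
    ∃ f : S →ₐ[R] A, (Ideal.Quotient.mkₐ R I).comp f = g := by
  classical
  obtain ⟨n, φ, hφ, hker⟩ := (Algebra.FinitePresentation.out : ∃ (n : ℕ) (f : MvPolynomial (Fin n) R →ₐ[R] S),
    Function.Surjective f ∧ (RingHom.ker f.toRingHom).FG)
  choose a ha using fun i => Ideal.Quotient.mk_surjective (g (φ (MvPolynomial.X i)))
  let ψ : MvPolynomial (Fin n) R →ₐ[R] A := MvPolynomial.aeval a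
  have hψ : (Ideal.Quotient.mkₐ R I).comp ψ = g.comp φ := MvPolynomial.algHom_ext fun i => by simp [ψ, ha]
  obtain ⟨s, hs⟩ := hker
  let J : Ideal A := Ideal.span (ψ '' (s : Set (MvPolynomial (Fin n) R)))
  have hJI : J ≤ I := Ideal.span_le.2 (by
    rintro _ ⟨p, hp, rfl⟩
    have h1 : φ p = 0 := RingHom.mem_ker.1 (hs ▸ Ideal.subset_span hp)
    rw [SetLike.mem_coe, ← Ideal.Quotient.eq_zero_iff_mem]
    have := AlgHom.congr_fun hψ p
    simp only [AlgHom.comp_apply, h1, map_zero, Ideal.Quotient.mkₐ_eq_mk] at this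
    exact this)
  have hJ : IsNilpotent J := by
    have hfg : J.FG := ⟨s.image ψ, by simp [J, Finset.coe_image]⟩
    obtain ⟨k, hk⟩ := Ideal.exists_pow_le_of_le_radical_of_fg (I := J) (J := (⊥ : Ideal A))
      (fun x hx => by obtain ⟨k, hk⟩ := hI x (hJI hx); exact ⟨k, by simpa using hk⟩) hfg
    exact ⟨k, le_bot_iff.1 hk⟩
  have hkerψ : ∀ p, φ p = 0 → ψ p ∈ J := by
    intro p hp
    have : p ∈ Ideal.span (s : Set (MvPolynomial (Fin n) R)) := hs ▸ RingHom.mem_ker.2 hp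
    have := Ideal.mem_map_of_mem ψ this
    rwa [Ideal.map_span] at this
  let L : (MvPolynomial (Fin n) R ⧸ RingHom.ker φ.toRingHom) →ₐ[R] A ⧸ J :=
    Ideal.Quotient.liftₐ (RingHom.ker φ.toRingHom) ((Ideal.Quotient.mkₐ R J).comp ψ) fun p hp =>
      Ideal.Quotient.eq_zero_iff_mem.2 (hkerψ p hp)
  let g' : S →ₐ[R] A ⧸ J := L.comp (Ideal.quotientKerAlgEquivOfSurjective hφ).symm.toAlgHom
  obtain ⟨f, hf⟩ := Algebra.FormallySmooth.exists_lift J hJ g'
  refine ⟨f, AlgHom.ext fun x => ?_⟩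
  obtain ⟨p, rfl⟩ := hφ x
  have h1 : g' (φ p) = Ideal.Quotient.mk J (ψ p) := by
    show L ((Ideal.quotientKerAlgEquivOfSurjective hφ).symm (φ p)) = _
    rw [show (Ideal.quotientKerAlgEquivOfSurjective hφ).symm (φ p) = Ideal.Quotient.mk (RingHom.ker φ.toRingHom) p from
      (AlgEquiv.symm_apply_eq _).2 rfl]
    rfl
  have h2 := AlgHom.congr_fun hf (φ p)
  rw [h1] at h2
  have h3 := congrArg (Ideal.Quotient.factor hJI) h2
  simp only [AlgHom.comp_apply, Ideal.Quotient.mkₐ_eq_mk, Ideal.Quotient.factor_mk] at h3 ⊢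
  rw [h3]
  exact AlgHom.congr_fun hψ p

end Groth.Agent.S2097
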