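import Mathlib.RingTheory.Jacobson.Ideal
import Mathlib.RingTheory.Finiteness.Defs
import Mathlib.RingTheory.Noetherian.Basic
import Mathlib.LinearAlgebra.Quotient.Basic
import Mathlib.Algebra.Module.Submodule.Pointwise
import Groth.Agent.CAlgMisc1.Imports
import Mathlib

set_option autoImplicit false
universe u
namespace CAlg
end CAlg
open CAlg

namespace Groth.Agent.S2098

/-- Let `R` be Noetherian, `I` an ideal inside the Jacobson radical and `u : N → M` a map of finite
`R`-modules. If for arbitrarily large `n` the induced map `N/IⁿN → M/IⁿM` has a left inverse, then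
`u` has a left inverse. -/
theorem result {R M N : Type u} [CommRing R] [IsNoetherianRing R] (I : Ideal R)
    (hI : I ≤ (⊥ : Ideal R).jacobson) [AddCommGroup M] [Module R M] [Module.Finite R M] [AddCommGroup N] [Module R N]
    [Module.Finite R N] (u : N →ₗ[R] M)
    (h : ∀ n₀ : ℕ, ∃ n, n₀ ≤ n ∧ ∃ s : (M ⧸ (I ^ n) • (⊤ : Submodule R M)) →ₗ[R] (N ⧸ (I ^ n) • (⊤ : Submodule R N)),
      ∀ x : N, s (Submodule.Quotient.mk (u x)) = Submodule.Quotient.mk x) :
    ∃ s : M →ₗ[R] N, s.comp u = LinearMap.id := by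
  classical
  obtain ⟨b, σ, hσ⟩ := Module.Finite.exists_fin' R M
  have : Module.Finite R (LinearMap.ker σ) := Module.Finite.iff_fg.2 (IsNoetherian.noetherian _)
  obtain ⟨a, τ₀, hτ₀⟩ := Module.Finite.exists_fin' R (LinearMap.ker σ)
  let τ := (LinearMap.ker σ).subtype.comp τ₀
  let T : ((Fin b → R) →ₗ[R] N) →ₗ[R] ((Fin a → R) →ₗ[R] N) := LinearMap.lcomp R N τ
  obtain ⟨c, hc⟩ := Ideal.exists_pow_inf_eq_pow_smul I (LinearMap.range T)
  obtain ⟨n, hn, s₀, hs₀⟩ := h (c + 1)
  obtain ⟨φ, hφ⟩ := Module.projective_lifting_property (Submodule.mkQ (I ^ n • (⊤ : Submodule R N)))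
    (s₀.comp ((Submodule.mkQ _).comp σ)) (Submodule.mkQ_surjective _)
  have hsmul : ∀ {k d : ℕ} (g : (Fin d → R) →ₗ[R] N), (∀ x, g x ∈ I ^ k • (⊤ : Submodule R N)) →
      g ∈ I ^ k • (⊤ : Submodule R ((Fin d → R) →ₗ[R] N)) := by
    intro k d g hg
    have : g = ∑ j, (LinearMap.proj j).smulRight (g (Pi.single j 1)) :=
      LinearMap.pi_ext' fun i => LinearMap.ext_ring (by simp [Pi.single_apply])
    rw [this]
    refine Submodule.sum_mem _ fun j _ => ?_
    have h1 : g (Pi.single j 1) ∈ I ^ k • (⊤ : Submodule R N) := hg _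
    have h2 := Submodule.mem_map_of_mem (f := LinearMap.smulRightₗ (LinearMap.proj (R := R) (φ := fun _ : Fin d => R) j)) h1
    rw [Submodule.map_smul''] at h2
    exact Submodule.smul_mono le_rfl le_top h2
  have hsmul' : ∀ {k d : ℕ} (g : (Fin d → R) →ₗ[R] N), g ∈ I ^ k • (⊤ : Submodule R ((Fin d → R) →ₗ[R] N)) →
      ∀ x, g x ∈ I ^ k • (⊤ : Submodule R N) := by
    intro k d g hg x
    have h2 := Submodule.mem_map_of_mem (f := LinearMap.applyₗ (R := R) (M₂ := N) x) hg
    rw [Submodule.map_smul''] at h2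
    exact Submodule.smul_mono le_rfl le_top h2
  have hT : T φ ∈ I ^ n • (⊤ : Submodule R ((Fin a → R) →ₗ[R] N)) := hsmul _ fun x => by
    have h1 := LinearMap.congr_fun hφ (τ x)
    have h2 : σ (τ x) = 0 := (τ₀ x).2
    simp only [LinearMap.comp_apply, h2, map_zero, Submodule.mkQ_apply, Submodule.Quotient.mk_eq_zero] at h1
    exact h1
  have h3 : T φ ∈ I ^ n • (⊤ : Submodule R ((Fin a → R) →ₗ[R] N)) ⊓ LinearMap.range T := ⟨hT, φ, rfl⟩
  rw [hc n (by omega)] at h3
  have h4 := Submodule.smul_mono (le_refl (I ^ (n - c))) (inf_le_right (a := I ^ c • ⊤) (b := LinearMap.range T)) h3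
  rw [← Submodule.map_top, ← Submodule.map_smul''] at h4
  obtain ⟨ψ, hψ, hψT⟩ := h4
  have hker : LinearMap.ker σ ≤ LinearMap.ker (φ - ψ) := by
    intro x hx
    obtain ⟨y, hy⟩ := hτ₀ ⟨x, hx⟩
    have : τ y = x := congrArg Subtype.val hy
    rw [← this, LinearMap.mem_ker, LinearMap.sub_apply, sub_eq_zero]
    exact (LinearMap.congr_fun hψT y).symm
  let s' : M →ₗ[R] N := (Submodule.liftQ _ (φ - ψ) hker).comp (σ.quotKerEquivOfSurjective hσ).symm.toLinearMap
  have hs' : ∀ y, s' (σ y) = φ y - ψ y := fun y => by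
    show Submodule.liftQ _ (φ - ψ) hker ((σ.quotKerEquivOfSurjective hσ).symm (σ y)) = _
    rw [show (σ.quotKerEquivOfSurjective hσ).symm (σ y) = Submodule.Quotient.mk y from
      (LinearEquiv.symm_apply_eq _).2 rfl]
    rfl
  have hmod : ∀ x, s' (u x) - x ∈ I • (⊤ : Submodule R N) := by
    intro x
    obtain ⟨y, hy⟩ := hσ (u x)
    rw [← hy, hs']
    have h5 := LinearMap.congr_fun hφ y
    simp only [LinearMap.comp_apply, hy, Submodule.mkQ_apply, hs₀, Submodule.Quotient.eq] at h5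
    have h6 : I ^ n • (⊤ : Submodule R N) ≤ I • ⊤ := Submodule.smul_mono (Ideal.pow_le_self (by omega)) le_rfl
    have h7 : I ^ (n - c) • (⊤ : Submodule R N) ≤ I • ⊤ := Submodule.smul_mono (Ideal.pow_le_self (by omega)) le_rfl
    rw [show φ y - ψ y - x = (φ y - x) - ψ y by abel]
    exact Submodule.sub_mem _ (h6 h5) (h7 (hsmul' ψ hψ y))
  have hsurj : Function.Surjective (s'.comp u) := by
    rw [← LinearMap.range_eq_top]
    refine top_le_iff.1 (Submodule.le_of_le_smul_of_le_jacobson_bot Module.Finite.fg_top hI fun x _ => ?_)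
    rw [show x = s'.comp u x + -(s' (u x) - x) by simp]
    exact Submodule.add_mem_sup ⟨x, rfl⟩ (Submodule.neg_mem _ (hmod x))
  let e := LinearEquiv.ofBijective (s'.comp u) (OrzechProperty.bijective_of_surjective_endomorphism _ hsurj)
  exact ⟨e.symm.toLinearMap.comp s', LinearMap.ext fun x => e.symm_apply_apply x⟩

end Groth.Agent.S2098
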