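import Groth.Statements.S2100
import Groth.Agent.CAlgH.RefinedNoether

set_option autoImplicit false
universe u
open CAlg

namespace Groth.Agent.S2100

/-- Let `k` be a field, `𝔮` a prime of `k[x_1, …, x_n]` and `r` the transcendence degree of `κ(𝔮)` over
`k`. Then there is a finite `k`-algebra map `φ : k[y_1, …, y_n] → k[x_1, …, x_n]` with `φ⁻¹(𝔮) =
(y_{r+1}, …, y_n)`. -/
theorem result {k : Type u} [Field k] (n r : ℕ) (q : Ideal (MvPolynomial (Fin n) k))
    [q.IsPrime] (hr : Algebra.trdeg k q.ResidueField = r) :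
    ∃ φ : MvPolynomial (Fin n) k →ₐ[k] MvPolynomial (Fin n) k, φ.toRingHom.Finite ∧
      q.comap φ = Ideal.span (Set.range fun i : {i : Fin n // r ≤ (i : ℕ)} => MvPolynomial.X (i : Fin n)) := by
  obtain ⟨r', hr', φ, hfin, hφ⟩ := _root_.Groth.Agent.CAlgH.RefinedNoether.exists_refined k n q
  suffices r' = r by
    subst this
    exact ⟨φ, hfin, hφ⟩
  let θ : MvPolynomial (Fin n) k →ₐ[k] MvPolynomial (Fin n) k ⧸ q := (Ideal.Quotient.mkₐ k q).comp φ
  have hker : RingHom.ker θ = _root_.Groth.Agent.CAlgH.RefinedNoether.tailVars k n r' := by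
    rw [← hφ]
    ext g
    exact Ideal.Quotient.eq_zero_iff_mem
  have h1 := _root_.Groth.Agent.CAlgH.RefinedNoether.trdeg_eq_of_integral hr' θ hker
    (RingHom.IsIntegral.trans φ.toRingHom (Ideal.Quotient.mk q) (RingHom.IsIntegral.of_finite hfin)
      (RingHom.isIntegral_of_surjective _ Ideal.Quotient.mk_surjective))
  haveI : Algebra.IsAlgebraic (MvPolynomial (Fin n) k ⧸ q) q.ResidueField :=
    IsLocalization.isAlgebraic _ (nonZeroDivisors _)
  have h0 : Algebra.trdeg (MvPolynomial (Fin n) k ⧸ q) q.ResidueField = 0 := trdeg_eq_zero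
  have h2 := trdeg_add_eq k (MvPolynomial (Fin n) k ⧸ q) (A := q.ResidueField)
  rw [h0, add_zero, h1, hr] at h2
  exact_mod_cast h2

end Groth.Agent.S2100
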