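import Groth.Prelude.Def_Pi1
import Mathlib.AlgebraicGeometry.FunctionField
import Mathlib.RingTheory.IntegralClosure.IntegrallyClosed
import Groth.Agent.NormalExtLib.Basic

set_option autoImplicit false
universe u
namespace CategoryTheory
end CategoryTheory
namespace AlgebraicGeometry
end AlgebraicGeometry
open CategoryTheory AlgebraicGeometry
namespace Mor
end Mor
open Mor

namespace Groth.Agent.S2102

/-- A fraction integral over `R` becomes an element of any integrally closed domain containing `R`. -/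
theorem exists_mul_eq {R S : Type u} [CommRing R] [IsDomain R] [CommRing S] [IsDomain S] [IsIntegrallyClosed S]
    (g : R →+* S) (hg : Function.Injective g) (a b : R) (hb : b ∈ nonZeroDivisors R)
    (hz : IsIntegral R (algebraMap R (FractionRing R) a / algebraMap R (FractionRing R) b)) :
    ∃ c : S, g b * c = g a := by
  have hb' : g b ≠ 0 := fun h => nonZeroDivisors.ne_zero hb (hg (by rw [h, map_zero]))
  have hj := IsFractionRing.injective S (FractionRing S)
  let ρ : FractionRing R →+* FractionRing S :=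
    IsFractionRing.lift (g := (algebraMap S (FractionRing S)).comp g) (hj.comp hg)
  have hρ : ∀ w, ρ (algebraMap R (FractionRing R) w) = algebraMap S (FractionRing S) (g w) := fun w =>
    IsFractionRing.lift_algebraMap _ w
  obtain ⟨p, hp, hpz⟩ := hz
  have hint : IsIntegral S (ρ (algebraMap R (FractionRing R) a / algebraMap R (FractionRing R) b)) := by
    refine ⟨p.map g, hp.map g, ?_⟩
    rw [Polynomial.eval₂_map, show (algebraMap S (FractionRing S)).comp g = ρ.comp (algebraMap R (FractionRing R))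
      from RingHom.ext fun w => (hρ w).symm, ← Polynomial.hom_eval₂, hpz, map_zero]
  obtain ⟨c, hc⟩ := IsIntegrallyClosed.isIntegral_iff.1 hint
  refine ⟨c, hj ?_⟩
  rw [map_mul, hc, map_div₀, hρ, hρ, mul_div_cancel₀ _ fun h => hb' (hj (by rw [h, map_zero]))]

/-- The ring of global sections of an integral normal scheme is an integrally closed domain. -/
theorem result (X : Scheme.{u}) [IsIntegral X] (hX : Pi1.IsNormalScheme X) :
    IsIntegrallyClosed (Γ(X, ⊤) : Type u) := by
  classical
  rw [isIntegrallyClosed_iff (FractionRing Γ(X, ⊤))]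
  intro z hz
  obtain ⟨a, b, hb, rfl⟩ := IsFractionRing.div_surjective (A := Γ(X, ⊤)) z
  let ι := {U : X.Opens // IsAffineOpen U ∧ Nonempty U}
  let res := fun i : ι => (X.presheaf.map (homOfLE (le_top : i.1 ≤ ⊤)).op).hom
  have hc : ∀ i : ι, ∃ c : Γ(X, i.1), res i b * c = res i a := by
    rintro ⟨U, hU, hne⟩
    haveI := hne
    haveI := Groth.Agent.NormalExtLib.isIntegrallyClosed_sections hX U hU
    exact exists_mul_eq (res ⟨U, hU, hne⟩) (map_injective_of_isIntegral X _) a b hb hz
  choose c hc using hc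
  have hne' : ∀ i j : ι, Nonempty (↑(i.1 ⊓ j.1 : X.Opens) : Scheme.{u}) := fun i j =>
    let ⟨x, hx⟩ := (i.2.2).elim fun y => nonempty_preirreducible_inter i.1.isOpen j.1.isOpen ⟨y.1, y.2⟩
      ((j.2.2).elim fun y => ⟨y.1, y.2⟩)
    ⟨⟨x, hx⟩⟩
  have hcomp : TopCat.Presheaf.IsCompatible X.presheaf (fun i : ι => i.1) c := by
    intro i j
    haveI := hne' i j
    haveI : IsDomain Γ(X, i.1 ⊓ j.1) := inferInstance
    have hinj : Function.Injective (X.presheaf.map (homOfLE (le_top : i.1 ⊓ j.1 ≤ ⊤)).op).hom :=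
      map_injective_of_isIntegral X _
    have hb' : (X.presheaf.map (homOfLE (le_top : i.1 ⊓ j.1 ≤ ⊤)).op).hom b ≠ 0 :=
      fun h => nonZeroDivisors.ne_zero hb (hinj (by rw [h, map_zero]))
    refine mul_left_cancel₀ hb' ?_
    have h1 := congrArg (X.presheaf.map (TopologicalSpace.Opens.infLELeft i.1 j.1).op).hom (hc i)
    have h2 := congrArg (X.presheaf.map (TopologicalSpace.Opens.infLERight i.1 j.1).op).hom (hc j)
    simp only [res, map_mul, ← RingHom.comp_apply, ← CommRingCat.hom_comp, ← Functor.map_comp] at h1 h2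
    exact h1.trans h2.symm
  have hcov : (⊤ : X.Opens) ≤ iSup (fun i : ι => i.1) := fun x _ => by
    obtain ⟨U, hU, hxU, -⟩ := exists_isAffineOpen_mem_and_subset (x := x) (U := (⊤ : X.Opens)) trivial
    exact TopologicalSpace.Opens.mem_iSup.2 ⟨⟨U, hU, ⟨⟨x, hxU⟩⟩⟩, hxU⟩
  obtain ⟨y, hy⟩ : ∃ y : Γ(X, ⊤), ∀ i : ι, res i y = c i := by
    obtain ⟨y, hy, -⟩ := X.sheaf.existsUnique_gluing' (fun i : ι => i.1) ⊤ (fun i => homOfLE le_top) hcov c hcomp
    exact ⟨y, hy⟩
  refine ⟨(y : Γ(X, ⊤)), ?_⟩
  rw [eq_div_iff (IsFractionRing.to_map_ne_zero_of_mem_nonZeroDivisors hb)]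
  refine (map_mul (algebraMap Γ(X, ⊤) (FractionRing Γ(X, ⊤))) (y : Γ(X, ⊤)) b).symm.trans (congrArg _ ?_)
  refine X.sheaf.eq_of_locally_eq' (fun i : ι => i.1) ⊤ (fun i => homOfLE le_top) hcov _ _ fun i => ?_
  show (X.presheaf.map (homOfLE (le_top : i.1 ≤ ⊤)).op).hom (y * b) = res i a
  rw [map_mul, ← hc i, mul_comm]
  exact congrArg _ (hy i)

end Groth.Agent.S2102
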