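import Groth.Statements.S2106
import Groth.Agent.EGA43.Cons.FibreCritEss

set_option autoImplicit false
set_option backward.isDefEq.respectTransparency false
universe u
open CAlg

namespace Groth.Agent.S2106

/-- Let `R → S → S'` be local homomorphisms of local rings with `S` and `S'` essentially of finite
presentation over `R`, and `M` a nonzero finitely presented `S'`-module which is flat over `R` and
such that `M/𝔪_R M` is flat over `S/𝔪_R S`. Then `S` is flat over `R` and `M` is flat over `S`. -/
theorem result {R S S' M : Type u} [CommRing R] [CommRing S] [CommRing S']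
    [IsLocalRing R] [IsLocalRing S] [IsLocalRing S'] [Algebra R S] [Algebra S S'] [Algebra R S'] [IsScalarTower R S S']
    [IsLocalHom (algebraMap R S)] [IsLocalHom (algebraMap S S')]
    (hS : CAlgX.IsEssFinitePresentation R S) (hS' : CAlgX.IsEssFinitePresentation R S')
    [AddCommGroup M] [Module S' M] [Module S M] [Module R M] [IsScalarTower S S' M] [IsScalarTower R S' M]
    [IsScalarTower R S M] [Module.FinitePresentation S' M] [Nontrivial M] [Module.Flat R M]
    (hfib : Module.Flat (S ⧸ (IsLocalRing.maximalIdeal R).map (algebraMap R S))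
      (M ⧸ (IsLocalRing.maximalIdeal R).map (algebraMap R S) • (⊤ : Submodule S M))) :
    Module.Flat R S ∧ Module.Flat S M := by
  obtain ⟨S₀, _, _, _, _, L₀, hfp₀, hloc₀⟩ := hS
  obtain ⟨T₀, _, _, _, _, L₁, hfp₁, hloc₁⟩ := hS'
  obtain ⟨C, _, _, _, g, L, hfpC, _, hlocC, hg⟩ := Groth.Agent.EGA43.Cons.exists_fp_over L₁
    ((IsScalarTower.toAlgHom R S S').comp (IsScalarTower.toAlgHom R S₀ S))
  let := g.toRingHom.toAlgebra
  have : IsScalarTower R S₀ C := .of_algebraMap_eq fun r => (g.commutes r).symm
  let := Module.compHom M (algebraMap C S')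
  let := Module.compHom M (algebraMap S₀ S)
  have : IsScalarTower C S' M := .of_algebraMap_smul fun _ _ => rfl
  have : IsScalarTower S₀ S M := .of_algebraMap_smul fun _ _ => rfl
  have : IsScalarTower S₀ C M := .of_algebraMap_smul fun b m => by
    show algebraMap C S' (g b) • m = algebraMap S₀ S b • m
    rw [hg]
    exact algebraMap_smul S' (algebraMap S₀ S b) m
  have : IsScalarTower R C M := .of_algebraMap_smul fun r m => by
    show algebraMap C S' (algebraMap R C r) • m = r • m
    rw [← IsScalarTower.algebraMap_apply, algebraMap_smul]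
  obtain ⟨M₀, _, _, φ, _, _⟩ :=
    Groth.Agent.EGA43.Cons.exists_fp_model_module (S' := S') (M := M) L
  have : IsLocalHom (algebraMap R S') := by
    rw [IsScalarTower.algebraMap_eq R S S']
    infer_instance
  have hflat : Module.Flat S M :=
    Groth.Agent.EGA43.Cons.flat_of_fibre_local (R := R) (S' := S') L₀ L φ hfib
  refine ⟨?_, hflat⟩
  exact Groth.Agent.EGA43.Cons.flat_of_flat_nontrivial (U := S') (N := M)
end Groth.Agent.S2106
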