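import Mathlib.RingTheory.IntegralClosure.IntegrallyClosed
import Mathlib.RingTheory.Ideal.Height
import Mathlib.RingTheory.Localization.AtPrime.Basic
import Mathlib.RingTheory.Localization.FractionRing
import Mathlib.RingTheory.Noetherian.Basic
import Groth.Agent.CAlgMisc2.Normal

set_option autoImplicit false
universe u
namespace CAlg
end CAlg
open CAlg

namespace Groth.Agent.S2111

/-- Let `R` be a Noetherian normal domain with fraction field `K`. An element of `K` which lies in `R_𝔭`
for every prime `𝔭` of height one lies in `R`. -/
theorem result {R : Type u} [CommRing R] [IsDomain R] [IsNoetherianRing R]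
    [IsIntegrallyClosed R] (x : FractionRing R)
    (hx : ∀ (p : Ideal R) [p.IsPrime], p.height = 1 →
      x ∈ Set.range (algebraMap (Localization.AtPrime p) (FractionRing R))) :
    x ∈ Set.range (algebraMap R (FractionRing R)) := by
  refine Groth.Agent.CAlgMisc2.mem_range_of_forall_height_one x fun p _ hp => ?_
  obtain ⟨z, hz⟩ := hx p hp
  obtain ⟨a, s, rfl⟩ := IsLocalization.exists_mk'_eq p.primeCompl z
  refine ⟨a, s, s.2, ?_⟩
  rw [← hz, IsScalarTower.algebraMap_apply R (Localization.AtPrime p) (FractionRing R) s, ← map_mul,
    IsLocalization.mk'_spec, ← IsScalarTower.algebraMap_apply]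

end Groth.Agent.S2111
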