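import Groth.Prelude.Def_Found
import Mathlib.RingTheory.QuasiFinite.Basic
import Mathlib.RingTheory.FiniteType
import Groth.Agent.CAlgH.Nagata
import Mathlib

set_option autoImplicit false
universe u
namespace CAlg
end CAlg
open CAlg

namespace Groth.Agent.S2114

/-- Let `R ⊆ S` be an extension of domains which is of finite type and quasi-finite, with `R` Noetherian
and N-2 (integral closures in finite extensions of the fraction field are finite). Then `S` is N-2. -/
theorem result {R S : Type u} [CommRing R] [IsDomain R] [IsNoetherianRing R] [CommRing S]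
    [IsDomain S] [Algebra R S] (hinj : Function.Injective (algebraMap R S)) [Algebra.FiniteType R S]
    [Algebra.QuasiFinite R S] (hR : CAlg.IsN2 R) : CAlg.IsN2 S := by
  classical
  let KS := FractionRing S
  refine CAlgH.isN2_of (R := S) KS fun L _ _ _ _ _ => ?_
  letI : Algebra R L := ((algebraMap S L).comp (algebraMap R S)).toAlgebra
  haveI : IsScalarTower R S L := IsScalarTower.of_algebraMap_eq fun _ => rfl
  haveI : IsScalarTower R KS L := IsScalarTower.of_algebraMap_eq fun r => by
    rw [IsScalarTower.algebraMap_apply R S KS, ← IsScalarTower.algebraMap_apply S KS L]; rfl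
  have hSL : Function.Injective (algebraMap S L) := by
    rw [IsScalarTower.algebraMap_eq S KS L]
    exact (algebraMap KS L).injective.comp (IsFractionRing.injective S KS)
  let K := FractionRing R
  have hRKS : Function.Injective (algebraMap R KS) := by
    rw [IsScalarTower.algebraMap_eq R S KS]
    exact (IsFractionRing.injective S KS).comp hinj
  haveI : FaithfulSMul R KS := (faithfulSMul_iff_algebraMap_injective R KS).2 hRKS
  letI : Algebra K KS := FractionRing.liftAlgebra R KS
  haveI : IsScalarTower R K KS := inferInstance
  letI : Algebra K L := ((algebraMap KS L).comp (algebraMap K KS)).toAlgebra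
  haveI : IsScalarTower K KS L := IsScalarTower.of_algebraMap_eq fun _ => rfl
  haveI : IsScalarTower R K L := IsScalarTower.of_algebraMap_eq fun r => by
    show algebraMap R L r = algebraMap KS L (algebraMap K KS (algebraMap R K r))
    rw [← IsScalarTower.algebraMap_apply R K KS, ← IsScalarTower.algebraMap_apply R KS L]
  haveI : Algebra.QuasiFinite R KS := Algebra.QuasiFinite.of_isLocalization (nonZeroDivisors S)
  haveI : Algebra.QuasiFinite K KS := Algebra.QuasiFinite.of_restrictScalars R K KS
  haveI : Module.Finite K KS := Module.Finite.of_quasiFinite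
  haveI : FiniteDimensional K L := Module.Finite.trans KS L
  haveI hR'fin : Module.Finite R (integralClosure R L) := CAlgH.isN2_apply hR K L
  let R' := integralClosure R L
  obtain ⟨G, hG⟩ := hR'fin.fg_top
  let T : Subalgebra S L := Algebra.adjoin S ((fun g : R' => (g : L)) '' (G : Set R'))
  haveI hTfin : Module.Finite S T := Module.Finite.iff_fg.2 (fg_adjoin_of_finite (G.finite_toSet.image _)
    (by rintro _ ⟨g, -, rfl⟩; exact g.2.tower_top))
  have hR'T : ∀ x : L, x ∈ R' → x ∈ T := by
    intro x hx
    have h1 : (⟨x, hx⟩ : R') ∈ Submodule.span R (G : Set R') := hG ▸ Submodule.mem_top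
    have h2 := Submodule.mem_map_of_mem (f := R'.val.toLinearMap) h1
    rw [Submodule.map_span] at h2
    exact (Submodule.span_le (p := (Subalgebra.toSubmodule T).restrictScalars R)).2
      (fun y hy => Algebra.subset_adjoin hy) h2
  letI : Algebra R' T := RingHom.toAlgebra
    { toFun := fun x => ⟨(x : L), hR'T x x.2⟩
      map_one' := rfl, map_mul' := fun _ _ => rfl, map_zero' := rfl, map_add' := fun _ _ => rfl }
  haveI : IsScalarTower R R' T := IsScalarTower.of_algebraMap_eq fun r => Subtype.ext rfl
  haveI : IsScalarTower R' T L := IsScalarTower.of_algebraMap_eq fun r => rfl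
  haveI : Algebra.QuasiFinite R T := Algebra.QuasiFinite.trans R S T
  haveI : Algebra.QuasiFinite R' T := Algebra.QuasiFinite.of_restrictScalars R R' T
  haveI : Algebra.FiniteType R T := Algebra.FiniteType.trans (S := S) inferInstance inferInstance
  haveI : Algebra.FiniteType R' T := Algebra.FiniteType.of_restrictScalars_finiteType R R' T
  have hint : ∀ y : T, IsIntegral R' y → (y : L) ∈ R' := fun y hy =>
    isIntegral_trans (y : L) (hy.map (IsScalarTower.toAlgHom R' T L))
  have hnormal : ∀ x : L, IsIntegral S x → x ∈ T := by
    intro x hx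
    let D : Ideal T :=
      { carrier := {s | (s : L) * x ∈ T}
        zero_mem' := by simp
        add_mem' := fun {a b} ha hb => by
          show ((a + b : T) : L) * x ∈ T
          rw [Subalgebra.coe_add, add_mul]; exact add_mem ha hb
        smul_mem' := fun c a ha => by
          show ((c * a : T) : L) * x ∈ T
          rw [Subalgebra.coe_mul, mul_assoc]; exact mul_mem c.2 ha }
    suffices D = ⊤ by
      have h1 : (1 : T) ∈ D := this ▸ Submodule.mem_top
      simpa [D] using h1
    by_contra hD
    obtain ⟨q, hq, hDq⟩ := Ideal.exists_le_maximal D hD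
    have hz := Algebra.ZariskisMainProperty.of_finiteType (R := R') q
    rw [Algebra.zariskisMainProperty_iff] at hz
    obtain ⟨r, hrq, hri, hr⟩ := hz
    have hrR : (r : L) ∈ R' := hint r hri
    obtain ⟨P, hPm, hP⟩ := hx
    have hcoef : ∀ i, ∃ m, (r : L) ^ m * algebraMap S L (P.coeff i) ∈ R' := fun i => by
      obtain ⟨m, hm⟩ := hr ⟨_, T.algebraMap_mem (P.coeff i)⟩
      exact ⟨m, by simpa using hint _ hm⟩
    choose mm hmm using hcoef
    let M := (Finset.range P.natDegree).sup mm
    have hy : IsIntegral R' ((r : L) ^ M * x) := by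
      let Q := (P.map (algebraMap S L)).scaleRoots ((r : L) ^ M)
      have hQm : Q.Monic := (Polynomial.monic_scaleRoots_iff _).2 (hPm.map _)
      have hQ0 : Q.eval ((r : L) ^ M * x) = 0 :=
        Polynomial.scaleRoots_eval₂_eq_zero (RingHom.id L) (by rwa [Polynomial.eval₂_map, RingHom.id_comp])
      have hQl : Q ∈ Polynomial.lifts (algebraMap R' L) := by
        rw [Polynomial.lifts_iff_coeff_lifts]
        intro i
        rw [Polynomial.coeff_scaleRoots, Polynomial.coeff_map, Polynomial.natDegree_map_eq_of_injective hSL]
        rcases lt_or_ge i P.natDegree with hi | hi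
        · have hle : mm i ≤ M * (P.natDegree - i) :=
            le_trans (Finset.le_sup (Finset.mem_range.2 hi)) (Nat.le_mul_of_pos_right _ (by omega))
          refine ⟨⟨_, mul_mem (pow_mem hrR (M * (P.natDegree - i) - mm i)) (hmm i)⟩, ?_⟩
          show (r : L) ^ (M * (P.natDegree - i) - mm i) * ((r : L) ^ mm i * algebraMap S L (P.coeff i)) = _
          rw [← mul_assoc, ← pow_add, Nat.sub_add_cancel hle, ← pow_mul, mul_comm]
        · rcases hi.eq_or_lt with hi | hi
          · refine ⟨1, ?_⟩
            rw [← hi, hPm.coeff_natDegree]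
            simp
          · refine ⟨0, ?_⟩
            rw [Polynomial.coeff_eq_zero_of_natDegree_lt hi]
            simp
      obtain ⟨Q', hQ', -, hQ'm⟩ := Polynomial.lifts_and_degree_eq_and_monic hQl hQm
      exact ⟨Q', hQ'm, by rw [← Polynomial.eval_map, hQ', hQ0]⟩
    have hyR : (r : L) ^ M * x ∈ R' := isIntegral_trans _ hy
    have : r ^ M ∈ q := hDq (show ((r ^ M : T) : L) * x ∈ T by rw [SubmonoidClass.coe_pow]; exact hR'T _ hyR)
    exact hrq (hq.isPrime.mem_of_pow_mem M this)
  have hle : Subalgebra.toSubmodule (integralClosure S L) = Subalgebra.toSubmodule T :=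
    le_antisymm (fun x hx => hnormal x hx) (show T ≤ integralClosure S L from Algebra.adjoin_le (by
      rintro _ ⟨g, -, rfl⟩; exact g.2.tower_top))
  exact Module.Finite.equiv (LinearEquiv.ofEq _ _ hle.symm)

end Groth.Agent.S2114
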