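import Mathlib.RingTheory.Flat.Basic
import Mathlib.Algebra.Category.ModuleCat.Colimits
import Mathlib.CategoryTheory.Filtered.Basic
import Mathlib.LinearAlgebra.FreeModule.Basic
import Mathlib.RingTheory.Finiteness.Defs
import Groth.Agent.CAlgSmall.ColimFP

set_option autoImplicit false
set_option maxSynthPendingDepth 3
universe u
namespace CategoryTheory
end CategoryTheory
open CategoryTheory
namespace CAlg
end CAlg
open CAlg

namespace Groth.Agent.S2118

/-- An `R`-module `M` is flat if and only if it is isomorphic to the colimit of a diagram of finite free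
`R`-modules indexed by a nonempty directed preorder (in the same universe). -/
theorem result {R : Type u} [CommRing R] (M : Type u) [AddCommGroup M] [Module R M] :
    Module.Flat R M ↔
      ∃ (J : Type u) (_ : Preorder J) (_ : IsDirected J (fun a b => a ≤ b)) (_ : Nonempty J)
        (F : J ⥤ ModuleCat.{u} R), (∀ j, Module.Finite R (F.obj j) ∧ Module.Free R (F.obj j)) ∧
        Nonempty (Limits.colimit F ≅ ModuleCat.of R M) := by
  classical
  constructor
  · intro hM
    let Q : CAlgSmall.ColimFP.Idx R M → Prop := fun i ↦ Module.Free R (CAlgSmall.ColimFP.G i)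
    have hQ : ∀ i, ∃ j, i ≤ j ∧ Q j := fun i ↦ CAlgSmall.ColimFP.exists_free_ge i
    refine ⟨{i // Q i}, inferInstance, CAlgSmall.ColimFP.isDirected_sub Q hQ,
      CAlgSmall.ColimFP.nonempty_sub Q hQ,
      ModuleCat.directLimitDiagram (R := R) (fun i : {i // Q i} ↦ CAlgSmall.ColimFP.G i.1)
        (fun i j h ↦ CAlgSmall.ColimFP.f i.1 j.1 h),
      fun i ↦ ⟨CAlgSmall.ColimFP.finite_G i.1, i.2⟩, CAlgSmall.ColimFP.exists_directLimit Q hQ⟩
  · rintro ⟨J, _, _, _, F, hF, ⟨e⟩⟩
    exact CAlgSmall.ColimFP.flat_of_colimit_free F hF e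

end Groth.Agent.S2118
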