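import Mathlib.RingTheory.UniqueFactorizationDomain.Basic
import Mathlib.RingTheory.Localization.Basic
import Groth.Agent.CAlgMisc1.Imports

set_option autoImplicit false
universe u
namespace CAlg
end CAlg
open CAlg

namespace Groth.Agent.S2119

/-- Nagata's criterion for factoriality, final assertion: let `A` be a domain in which every nonzero
nonunit factors into irreducibles, and `S` the multiplicative subset generated by a set of prime
elements. If the localization `S⁻¹A` is a unique factorization domain, then so is `A`. -/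
theorem result {A : Type u} [CommRing A] [IsDomain A]
    (hfac : ∀ a : A, a ≠ 0 → ¬ IsUnit a → ∃ f : Multiset A, (∀ b ∈ f, Irreducible b) ∧ Associated f.prod a) (P : Set A)
    (hP : ∀ p ∈ P, Prime p) [IsDomain (Localization (Submonoid.closure P))]
    (hS : UniqueFactorizationMonoid (Localization (Submonoid.closure P))) : UniqueFactorizationMonoid A := by
  classical
  let S := Submonoid.closure P
  let L := Localization S
  have h0 : (0 : A) ∉ S := by
    intro h
    obtain ⟨l, hl, hl'⟩ := Submonoid.exists_multiset_of_mem_closure h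
    exact (hP _ (hl _ (Multiset.prod_eq_zero_iff.1 hl'))).ne_zero rfl
  have hinj : Function.Injective (algebraMap A L) := IsLocalization.injective L
    (fun x hx => mem_nonZeroDivisors_of_ne_zero fun hx0 => h0 (hx0 ▸ hx))
  have hsplit : ∀ s ∈ S, ∀ x a b : A, x * s = a * b →
      ∃ a' b' u v : A, u ∈ S ∧ v ∈ S ∧ a = a' * u ∧ b = b' * v ∧ x = a' * b' := by
    intro s hs
    induction hs using Submonoid.closure_induction with
    | mem p hp =>
      intro x a b hab
      rcases (hP p hp).dvd_or_dvd (show p ∣ a * b from ⟨x, by rw [← hab, mul_comm]⟩) with ⟨c, hc⟩ | ⟨c, hc⟩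
      · exact ⟨c, b, p, 1, Submonoid.subset_closure hp, one_mem _, by rw [hc, mul_comm], (mul_one b).symm,
          mul_right_cancel₀ (hP p hp).ne_zero (by rw [hab, hc]; ring)⟩
      · exact ⟨a, c, 1, p, one_mem _, Submonoid.subset_closure hp, (mul_one a).symm, by rw [hc, mul_comm],
          mul_right_cancel₀ (hP p hp).ne_zero (by rw [hab, hc]; ring)⟩
    | one => intro x a b hab; exact ⟨a, b, 1, 1, one_mem _, one_mem _, (mul_one a).symm, (mul_one b).symm, by rwa [mul_one] at hab⟩
    | mul s t hs ht ihs iht =>
      intro x a b hab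
      obtain ⟨a', b', u, v, hu, hv, rfl, rfl, hx⟩ := iht (x * s) a b (by rw [← hab, mul_assoc])
      obtain ⟨a'', b'', u', v', hu', hv', rfl, rfl, hx'⟩ := ihs x a' b' hx
      exact ⟨a'', b'', u' * u, v' * v, mul_mem hu' hu, mul_mem hv' hv, mul_assoc _ _ _, mul_assoc _ _ _, hx'⟩
  have hirr : ∀ q : A, Irreducible q → Prime q := by
    intro q hq
    by_cases hex : ∃ p ∈ P, p ∣ q
    · obtain ⟨p, hp, hpq⟩ := hex
      exact ((hP p hp).irreducible.associated_of_dvd hq hpq).prime (hP p hp)
    push Not at hex
    have hndvd : ∀ s ∈ S, ∀ c a : A, q * c = s * a → q ∣ a := by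
      intro s hs
      induction hs using Submonoid.closure_induction with
      | mem p hp =>
        intro c a hca
        obtain ⟨d, rfl⟩ := ((hP p hp).dvd_or_dvd ⟨a, hca⟩).resolve_left (hex p hp)
        exact ⟨d, mul_left_cancel₀ (hP p hp).ne_zero (by rw [← hca]; ring)⟩
      | one => intro c a hca; exact ⟨c, by rw [hca, one_mul]⟩
      | mul s t hs ht ihs iht =>
        intro c a hca
        obtain ⟨d, hd⟩ := ihs c (t * a) (by rw [hca, mul_assoc])
        exact iht d a hd.symm
    have hnu : ¬ IsUnit (algebraMap A L q) := fun hu => by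
      obtain ⟨c, hc, d, hd⟩ := (IsLocalization.algebraMap_isUnit_iff S).1 hu
      exact hq.not_isUnit (isUnit_of_dvd_one (hndvd _ hc d 1 (by rw [mul_one, hd])))
    have hqL : Irreducible (algebraMap A L q) := by
      refine ⟨hnu, fun x y hxy => ?_⟩
      obtain ⟨a, s, rfl⟩ := IsLocalization.exists_mk'_eq S x
      obtain ⟨b, t, rfl⟩ := IsLocalization.exists_mk'_eq S y
      rw [← IsLocalization.mk'_mul, IsLocalization.eq_mk'_iff_mul_eq, ← map_mul] at hxy
      obtain ⟨a', b', u, v, hu, hv, ha, hb, hx⟩ := hsplit _ (s * t).2 q a b (hinj hxy)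
      rcases hq.isUnit_or_isUnit hx with h | h
      · exact Or.inl (by
          rw [IsLocalization.mk'_eq_mul_mk'_one, ha, map_mul]
          exact ((h.map _).mul (IsLocalization.map_units L ⟨u, hu⟩)).mul
            (isUnit_iff_exists_inv.2 ⟨algebraMap A L s, by rw [IsLocalization.mk'_spec, map_one]⟩))
      · exact Or.inr (by
          rw [IsLocalization.mk'_eq_mul_mk'_one, hb, map_mul]
          exact ((h.map _).mul (IsLocalization.map_units L ⟨v, hv⟩)).mul
            (isUnit_iff_exists_inv.2 ⟨algebraMap A L t, by rw [IsLocalization.mk'_spec, map_one]⟩))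
    have hpr : Prime (algebraMap A L q) := UniqueFactorizationMonoid.irreducible_iff_prime.1 hqL
    refine ⟨hq.ne_zero, hq.not_isUnit, fun a b hab => ?_⟩
    have key : ∀ a : A, algebraMap A L q ∣ algebraMap A L a → q ∣ a := by
      rintro a ⟨z, hz⟩
      obtain ⟨c, s, rfl⟩ := IsLocalization.exists_mk'_eq S z
      rw [IsLocalization.mul_mk'_eq_mk'_of_mul, IsLocalization.eq_mk'_iff_mul_eq, ← map_mul] at hz
      exact hndvd _ s.2 c a (by rw [← hinj hz, mul_comm])
    rcases hpr.dvd_or_dvd (map_mul (algebraMap A L) a b ▸ map_dvd (algebraMap A L) hab) with h | h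
    · exact Or.inl (key a h)
    · exact Or.inr (key b h)
  refine UniqueFactorizationMonoid.of_exists_prime_factors fun a ha => ?_
  by_cases hau : IsUnit a
  · exact ⟨0, by simp, by simpa using (associated_one_iff_isUnit.2 hau).symm⟩
  obtain ⟨f, hf, hfa⟩ := hfac a ha hau
  exact ⟨f, fun b hb => hirr b (hf b hb), hfa⟩

end Groth.Agent.S2119
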