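import Mathlib.AlgebraicGeometry.Morphisms.UniversallyClosed
import Mathlib.AlgebraicGeometry.Morphisms.Separated
import Mathlib.AlgebraicGeometry.Morphisms.QuasiSeparated
import Groth.Agent.MorProj.SepDescent

set_option autoImplicit false
universe u
namespace CategoryTheory
end CategoryTheory
namespace AlgebraicGeometry
end AlgebraicGeometry
open CategoryTheory AlgebraicGeometry
namespace Mor
end Mor
open Mor

namespace Groth.Agent.S2120

/-- Let `f : X → Y` be surjective and universally closed. If `X` is quasi-separated then so is `Y`; if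
`X` is separated then so is `Y`. -/
theorem result {X Y : Scheme.{u}} (f : X ⟶ Y) [Surjective f] [UniversallyClosed f] :
    (QuasiSeparatedSpace X → QuasiSeparatedSpace Y) ∧ (X.IsSeparated → Y.IsSeparated) := by
  refine ⟨fun hX => ?_, fun hX => ?_⟩
  · rw [quasiSeparatedSpace_iff_forall_affineOpens] at hX ⊢
    intro U V
    have hc : IsCompact ((f ⁻¹ᵁ U.1 : X.Opens) ∩ (f ⁻¹ᵁ V.1 : X.Opens) : Set X) := by
      haveI : QuasiSeparatedSpace X := quasiSeparatedSpace_iff_forall_affineOpens.2 hX
      exact QuasiSeparatedSpace.inter_isCompact _ _ (f ⁻¹ᵁ U.1).isOpen (f.isCompact_preimage U.2.isCompact)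
        (f ⁻¹ᵁ V.1).isOpen (f.isCompact_preimage V.2.isCompact)
    have := hc.image f.continuous
    rwa [show f '' ((f ⁻¹ᵁ U.1 : X.Opens) ∩ (f ⁻¹ᵁ V.1 : X.Opens) : Set X) = (U.1 : Set Y) ∩ V.1 from
      Set.image_preimage_eq ((U.1 : Set Y) ∩ V.1) f.surjective] at this
  · haveI : IsSeparated (f ≫ Limits.terminal.from Y) := by rw [Limits.terminal.comp_from]; infer_instance
    exact ⟨Groth.Agent.MorProj.isSeparated_of_universallyClosed_surjective f (Limits.terminal.from Y)⟩

end Groth.Agent.S2120
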