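import Groth.Prelude.Def_CAlgX
import Mathlib.RingTheory.AdicCompletion.Functoriality
import Mathlib.LinearAlgebra.Finsupp.Defs
import Mathlib.RingTheory.Noetherian.Basic
import Groth.Agent.CAlgMisc2.DecayingFlat
import Mathlib

set_option autoImplicit false
universe u
namespace CAlg
end CAlg
open CAlg

namespace Groth.Agent.S2124

/-- Let `R` be Noetherian and `I`-adically complete and `α` any index set. The map from the `I`-adic
completion of the direct sum `⊕_α R` to the product `∏_α R^∧ = ∏_α R`, induced by the coordinate
projections, is universally injective. -/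
theorem result {R : Type u} [CommRing R] [IsNoetherianRing R] (I : Ideal R)
    [IsAdicComplete I R] (α : Type u) :
    CAlgX.UniversallyInjective R
      (LinearMap.pi fun a : α => AdicCompletion.map I (Finsupp.lapply a : (α →₀ R) →ₗ[R] R) :
        AdicCompletion I (α →₀ R) →ₗ[R] (α → AdicCompletion I R)) := by
  intro Q _ _
  have : IsAdicComplete I (AdicCompletion I R) := AdicCompletion.isAdicComplete (IsNoetherian.noetherian I)
  obtain ⟨h1, h2⟩ := Groth.Agent.S17539.result I α R
  exact Groth.Agent.CAlgMisc2.universallyInjective_completion I α _ h1 h2 Q

end Groth.Agent.S2124
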