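import Mathlib.RingTheory.Henselian
import Mathlib.Algebra.Category.Ring.Colimits
import Mathlib.CategoryTheory.Filtered.Basic
import Mathlib.RingTheory.LocalRing.RingHom.Basic
import Groth.Agent.CAlgMisc1.Imports
import Mathlib

set_option autoImplicit false
universe u
namespace CategoryTheory
end CategoryTheory
open CategoryTheory
namespace CAlg
end CAlg
open CAlg

namespace Groth.Agent.S2132

/-- Let `F : J ⥤ CommRingCat` be a filtered diagram of henselian local rings with local transition maps
and `c` a colimit cocone. Then the colimit is a henselian local ring. -/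
theorem result {J : Type u} [SmallCategory J] [IsFiltered J] (F : J ⥤ CommRingCat.{u})
    (hF : ∀ j, HenselianLocalRing (F.obj j)) (hloc : ∀ (i j : J) (a : i ⟶ j), IsLocalHom (F.map a).hom)
    (c : Limits.Cocone F) (hc : Limits.IsColimit c) : HenselianLocalRing c.pt := by
  classical
  have hrep : ∀ x : c.pt, ∃ j y, c.ι.app j y = x := fun x => CategoryTheory.Limits.Concrete.isColimit_exists_rep F hc x
  have heq : ∀ {i j : J} (x : F.obj i) (y : F.obj j), c.ι.app i x = c.ι.app j y →
      ∃ (k : J) (f : i ⟶ k) (g : j ⟶ k), F.map f x = F.map g y := fun x y h =>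
    CategoryTheory.Limits.Concrete.isColimit_exists_of_rep_eq F hc x y h
  have hmap : ∀ {i j : J} (a : i ⟶ j) (x : F.obj i), c.ι.app j (F.map a x) = c.ι.app i x :=
    fun a x => congr($(c.w a).hom x)
  have hlocι : ∀ (j : J) (x : F.obj j), IsUnit (c.ι.app j x) → IsUnit x := by
    intro j x hx
    obtain ⟨y', hy'⟩ := hx.exists_right_inv
    obtain ⟨i, y, rfl⟩ := hrep y'
    let k := IsFiltered.max j i
    let a := IsFiltered.leftToMax j i
    let b := IsFiltered.rightToMax j i
    have h1 : c.ι.app k (F.map a x * F.map b y) = c.ι.app k 1 := by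
      rw [map_mul, hmap, hmap, hy', map_one]
    obtain ⟨l, f, g, hfg⟩ := heq _ _ h1
    rw [map_mul, map_one] at hfg
    have := hloc _ _ (a ≫ f)
    refine this.map_nonunit x ?_
    rw [F.map_comp]
    exact IsUnit.of_mul_eq_one _ hfg
  have hnt : Nontrivial c.pt := by
    obtain ⟨j⟩ := IsFiltered.nonempty (C := J)
    have := hF j
    refine nontrivial_of_ne (0 : c.pt) 1 fun h => not_isUnit_zero (M₀ := F.obj j) (hlocι j 0 ?_)
    rw [map_zero, h]; exact isUnit_one
  have : IsLocalRing c.pt := by
    refine IsLocalRing.of_isUnit_or_isUnit_one_sub_self fun x => ?_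
    obtain ⟨j, y, rfl⟩ := hrep x
    have := hF j
    rcases IsLocalRing.isUnit_or_isUnit_one_sub_self y with h | h
    · exact Or.inl (h.map (c.ι.app j).hom)
    · right; have := h.map (c.ι.app j).hom; rwa [map_sub, map_one] at this
  refine { is_henselian := fun f hf a₀ h0 h1 => ?_ }
  have hfin : ∀ s : Finset c.pt, ∃ j, ∀ x ∈ s, x ∈ Set.range (c.ι.app j) := by
    intro s
    induction s using Finset.induction_on with
    | empty =>
      obtain ⟨j⟩ := IsFiltered.nonempty (C := J)
      exact ⟨j, by simp⟩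
    | insert a s _ ih =>
      obtain ⟨j, hj⟩ := ih
      obtain ⟨i, y, rfl⟩ := hrep a
      refine ⟨IsFiltered.max j i, fun x hx => ?_⟩
      rcases Finset.mem_insert.1 hx with rfl | hx
      · exact ⟨F.map (IsFiltered.rightToMax j i) y, hmap _ _⟩
      · obtain ⟨z, rfl⟩ := hj x hx
        exact ⟨F.map (IsFiltered.leftToMax j i) z, hmap _ _⟩
  obtain ⟨j, hj⟩ := hfin (insert a₀ ((Finset.range (f.natDegree + 1)).image f.coeff))
  obtain ⟨a, ha⟩ := hj a₀ (Finset.mem_insert_self _ _)
  have hlift : f ∈ Polynomial.lifts (c.ι.app j).hom := by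
    rw [Polynomial.lifts_iff_coeff_lifts]
    intro n
    by_cases hn : n ≤ f.natDegree
    · exact hj _ (Finset.mem_insert_of_mem (Finset.mem_image.2 ⟨n, by simp; omega, rfl⟩))
    · exact ⟨0, by rw [map_zero, Polynomial.coeff_eq_zero_of_natDegree_lt (by omega)]⟩
  obtain ⟨g, hg, -, hgm⟩ := Polynomial.lifts_and_natDegree_eq_and_monic hlift hf
  have hev : ∀ q : Polynomial (F.obj j), (q.map (c.ι.app j).hom).eval a₀ = c.ι.app j (q.eval a) := fun q => by
    rw [← ha]; exact (Polynomial.eval_map _ _).trans (Polynomial.eval₂_at_apply _ _)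
  have := hF j
  obtain ⟨z, hz, hza⟩ := HenselianLocalRing.is_henselian g hgm a
    (fun hu => h0 (by rw [← hg, hev]; exact hu.map (c.ι.app j).hom))
    (hlocι j _ (by rw [← hev, ← Polynomial.derivative_map, hg]; exact h1))
  refine ⟨c.ι.app j z, ?_, fun hu => hza (hlocι j _ (by rw [map_sub, ha]; exact hu))⟩
  rw [Polynomial.IsRoot, ← hg, Polynomial.eval_map]
  exact (Polynomial.eval₂_at_apply _ _).trans (by rw [hz.eq_zero, map_zero])

end Groth.Agent.S2132
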