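import Mathlib.FieldTheory.IntermediateField.Adjoin.Basic
import Mathlib.LinearAlgebra.Pi
import Groth.Agent.CAlgMisc1.Imports

set_option autoImplicit false
universe u
namespace CAlg
end CAlg
open CAlg

namespace Groth.Agent.S2134

/-- Let `K/k` be a field extension and `(K_α)` a nonempty family of intermediate fields, directed
downwards, with intersection `k`. For a `K`-subspace `V` of `K^n` (`n ≥ 1`), `V` contains a nonzero
vector with all coordinates in `k` if and only if for every `α` it contains a nonzero vector with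
all coordinates in `K_α`. -/
theorem result {k K : Type u} [Field k] [Field K] [Algebra k K] {ι : Type u} [Nonempty ι]
    (F : ι → IntermediateField k K) (hdir : ∀ a b : ι, ∃ c, F c ≤ F a ⊓ F b) (hinf : ⨅ a, F a = ⊥) (n : ℕ) (hn : 1 ≤ n)
    (V : Submodule K (Fin n → K)) :
    (∃ v ∈ V, v ≠ 0 ∧ ∀ i, v i ∈ Set.range (algebraMap k K)) ↔
      ∀ a, ∃ v ∈ V, v ≠ 0 ∧ ∀ i, v i ∈ F a := by
  classical
  refine ⟨fun ⟨v, hv, hv0, hk⟩ a => ⟨v, hv, hv0, fun i => ?_⟩, fun h => ?_⟩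
  · obtain ⟨x, hx⟩ := hk i; rw [← hx]; exact (F a).algebraMap_mem x
  let 𝒯 : ι → Finset (Finset (Fin n)) := fun a =>
    Finset.univ.filter fun T => ∃ v ∈ V, v ≠ 0 ∧ (∀ i ∉ T, v i = 0) ∧ ∀ i, v i ∈ F a
  let a := Function.argmin (fun a => (𝒯 a).card)
  have hmono : ∀ {c b}, F c ≤ F b → 𝒯 c ⊆ 𝒯 b := fun {c b} hcb T hT => by
    simp only [𝒯, Finset.mem_filter] at hT ⊢
    obtain ⟨hu, v, hv, hv0, hs, hF⟩ := hT
    exact ⟨hu, v, hv, hv0, hs, fun i => hcb (hF i)⟩
  obtain ⟨T, hT⟩ := (𝒯 a).exists_minimal (by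
    obtain ⟨v, hv, hv0, hF⟩ := h a
    exact ⟨Finset.univ, Finset.mem_filter.2 ⟨Finset.mem_univ _, v, hv, hv0, fun i hi => absurd (Finset.mem_univ i) hi, hF⟩⟩)
  have hTmem := hT.1
  simp only [𝒯, Finset.mem_filter] at hTmem
  obtain ⟨-, v, hv, hv0, hs, hF⟩ := hTmem
  obtain ⟨i, hi⟩ : ∃ i, v i ≠ 0 := by by_contra! hc; exact hv0 (funext hc)
  refine ⟨(v i)⁻¹ • v, V.smul_mem _ hv, smul_ne_zero (inv_ne_zero hi) hv0, fun j => ?_⟩
  rw [← IntermediateField.mem_bot, ← hinf, ← SetLike.mem_coe, IntermediateField.coe_iInf, Set.mem_iInter]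
  intro b
  obtain ⟨c, hc⟩ := hdir a b
  have heq : 𝒯 c = 𝒯 a := Finset.eq_of_subset_of_card_le (hmono (hc.trans inf_le_left))
    (Function.argmin_le (fun a => (𝒯 a).card) c)
  have hTc : T ∈ 𝒯 c := heq ▸ hT.1
  simp only [𝒯, Finset.mem_filter] at hTc
  obtain ⟨-, w, hw, hw0, hsw, hFw⟩ := hTc
  have hwi : w i ≠ 0 := by
    intro hwi
    have : T.erase i ∈ 𝒯 a := Finset.mem_filter.2 ⟨Finset.mem_univ _, w, hw, hw0, fun l hl => by
      by_cases hli : l = i
      · exact hli ▸ hwi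
      · exact hsw l fun h => hl (Finset.mem_erase.2 ⟨hli, h⟩), fun l => hc.trans inf_le_left (hFw l)⟩
    exact Finset.notMem_erase i T (hT.2 this (Finset.erase_subset i T) (show i ∈ T from by_contra fun h => hi (hs i h)))
  have hd : (v i)⁻¹ • v = (w i)⁻¹ • w := by
    by_contra hne
    have : T.erase i ∈ 𝒯 a := Finset.mem_filter.2 ⟨Finset.mem_univ _, (v i)⁻¹ • v - (w i)⁻¹ • w,
      V.sub_mem (V.smul_mem _ hv) (V.smul_mem _ hw), sub_ne_zero.2 hne, fun l hl => by
        by_cases hli : l = i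
        · subst hli; simp [hi, hwi]
        · have hlT : l ∉ T := fun h => hl (Finset.mem_erase.2 ⟨hli, h⟩)
          simp [hs l hlT, hsw l hlT], fun l => by
        simp only [Pi.sub_apply, Pi.smul_apply, smul_eq_mul]
        exact sub_mem (mul_mem (inv_mem (hF i)) (hF l))
          (mul_mem (inv_mem (hc.trans inf_le_left (hFw i))) (hc.trans inf_le_left (hFw l)))⟩
    exact Finset.notMem_erase i T (hT.2 this (Finset.erase_subset i T) (show i ∈ T from by_contra fun h => hi (hs i h)))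
  rw [hd]
  simp only [Pi.smul_apply, smul_eq_mul]
  exact hc.trans inf_le_right (mul_mem (inv_mem (hFw i)) (hFw j))

end Groth.Agent.S2134
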