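import Groth.Prelude.Def_DDual2
import Groth.Agent.CAlgSmall.PCBundle

set_option autoImplicit false
universe u
namespace CategoryTheory
end CategoryTheory
open CategoryTheory
attribute [local instance] HasDerivedCategory.standard
namespace CAlg
end CAlg
open CAlg

namespace Groth.Agent.S2137

/-- Let `A → B` be a ring map and `K` an `m`-pseudo-coherent object of `D(A)`. Then `K ⊗^L_A B` is
`m`-pseudo-coherent in `D(B)`. (Stated assuming the total left derived functor of base change exists
on `D(A)`, a fact not available as a library result here.) -/
theorem result {A B : Type u} [CommRing A] [CommRing B] (φ : A →+* B) [DRing.HasLBaseChange φ]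
    (K : Dual.D A) (m : ℤ) (hK : DRing.IsPseudoCoherent A m K) :
    DRing.IsPseudoCoherent B m ((DRing.LBaseChange φ).obj K) := by
  exact Groth.Agent.CAlgSmall.PCBundle.pc_lbaseChange φ hK

end Groth.Agent.S2137
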