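import Mathlib.RingTheory.Flat.Basic
import Mathlib.RingTheory.Localization.AtPrime.Basic
import Mathlib.RingTheory.Ideal.Maps
import Groth.Agent.CAlgMisc2.TorsionFree
import Mathlib

set_option autoImplicit false
universe u
namespace CAlg
end CAlg
open CAlg

namespace Groth.Agent.S2138
open TensorProduct

/-- Let `R → S` be flat and `𝔭` a prime of `R` whose extension `𝔮 = 𝔭S` is prime. Then for every `n` the
extension to `S` of the symbolic power `𝔭^{(n)}` (the contraction of `𝔭ⁿR_𝔭`) equals the symbolic
power `𝔮^{(n)}`. -/
theorem result {R S : Type u} [CommRing R] [CommRing S] [Algebra R S] [Module.Flat R S]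
    (p : Ideal R) [p.IsPrime] [(p.map (algebraMap R S)).IsPrime] (n : ℕ) :
    (((p ^ n).map (algebraMap R (Localization.AtPrime p))).comap (algebraMap R (Localization.AtPrime p))).map
        (algebraMap R S) =
      (((p.map (algebraMap R S)) ^ n).map (algebraMap S (Localization.AtPrime (p.map (algebraMap R S))))).comap
        (algebraMap S (Localization.AtPrime (p.map (algebraMap R S)))) := by
  classical
  set q := p.map (algebraMap R S) with hq
  have hq' : q.comap (algebraMap R S) = p := by
    refine le_antisymm (fun r hr => ?_) Ideal.le_comap_map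
    have hle : p ≤ q.comap (algebraMap R S) := Ideal.le_comap_map
    have : q.LiesOver (q.comap (algebraMap R S)) := ⟨rfl⟩
    obtain ⟨Q, hQle, hQp, hQ⟩ := Ideal.exists_ideal_le_liesOver_of_le (S := S) q hle
    have hQq : q = Q := le_antisymm (Ideal.map_le_iff_le_comap.2 (le_of_eq hQ.over)) hQle
    rw [hQ.over, ← hQq]; exact hr
  have hp' : ∀ r ∉ p, algebraMap R S r ∉ q := fun r hr h => hr (hq'.le h)
  -- fundamental regularity
  have hreg : ∀ (n : ℕ) (X : Type u) [AddCommGroup X] [Module R X], (∀ a ∈ p ^ n, ∀ x : X, a • x = 0) →
      (∀ t ∉ p, Function.Bijective fun x : X => t • x) → ∀ t' ∉ q, ∀ z : S ⊗[R] X, t' • z = 0 → z = 0 := by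
    intro n
    induction n with
    | zero =>
      intro X _ _ hk _ t' _ z _
      have : Subsingleton X := ⟨fun x y => by
        rw [← one_smul R x, ← one_smul R y, hk 1 (by simp), hk 1 (by simp)]⟩
      exact Subsingleton.elim _ _
    | succ n ih =>
      intro X _ _ hk hb t' ht' z hz
      let X₁ : Submodule R X := p • ⊤
      have hinv : ∀ t ∉ p, ∀ x, t • x ∈ X₁ → x ∈ X₁ := by
        intro t ht x hx
        let e := LinearEquiv.ofBijective (t • LinearMap.id : X →ₗ[R] X) (hb t ht)
        have := Submodule.mem_map_of_mem (f := e.symm.toLinearMap) hx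
        rw [Submodule.map_smul''] at this
        have h2 := Submodule.smul_mono le_rfl le_top this
        rwa [show e.symm.toLinearMap (t • x) = x from e.symm_apply_apply x] at h2
      have hq0 : ∀ y : X ⧸ X₁, ∀ a ∈ p, a • y = 0 := by
        intro y a ha
        induction y using Submodule.Quotient.induction_on with
        | _ x => rw [← Submodule.Quotient.mk_smul, Submodule.Quotient.mk_eq_zero]; exact Submodule.smul_mem_smul ha trivial
      have hqinj : ∀ t ∉ p, ∀ y : X ⧸ X₁, t • y = 0 → y = 0 := by
        intro t ht y hy
        induction y using Submodule.Quotient.induction_on with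
        | _ x =>
          rw [← Submodule.Quotient.mk_smul, Submodule.Quotient.mk_eq_zero] at hy
          rw [Submodule.Quotient.mk_eq_zero]; exact hinv t ht x hy
      -- the quotient: torsion free over `R / p`
      have hz1 : X₁.mkQ.lTensor S z = 0 := by
        obtain ⟨M', hM', hsub⟩ := TensorProduct.exists_finite_submodule_right_of_setFinite
          ({X₁.mkQ.lTensor S z} : Set (S ⊗[R] (X ⧸ X₁))) (Set.finite_singleton _)
        obtain ⟨w, hw⟩ := hsub rfl
        rw [← hw]
        letI : Module (R ⧸ p) M' :=
          Module.IsTorsionBySet.module (I := p) fun y a => Subtype.ext (hq0 y.1 a.1 a.2)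
        have : IsScalarTower R (R ⧸ p) M' := ⟨fun a b y => by
          induction b using Quotient.inductionOn' with | h b => exact mul_smul a b y⟩
        have : Module.Finite (R ⧸ p) M' := Module.Finite.of_restrictScalars_finite R _ _
        have : Module.IsTorsionFree (R ⧸ p) M' := .of_smul_eq_zero fun c y hcy => by
          induction c using Quotient.inductionOn' with
          | h c =>
            by_cases hc : c ∈ p
            · exact Or.inl (Ideal.Quotient.eq_zero_iff_mem.2 hc)
            · exact Or.inr (Subtype.ext (hqinj c hc y.1 (congrArg Subtype.val hcy)))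
        obtain ⟨m, f, hf⟩ := Groth.Agent.CAlgMisc2.exists_injective_pi (R := R ⧸ p) (M := M')
        have hfi := Module.Flat.lTensor_preserves_injective_linearMap (M := S) (f.restrictScalars R) hf
        have hsi := Module.Flat.lTensor_preserves_injective_linearMap (M := S) M'.subtype Subtype.val_injective
        have hw0 : t' • w = 0 := by
          apply hsi
          rw [map_zero]
          have h3 := congrArg (X₁.mkQ.baseChange S) hz
          rw [map_smul, map_zero] at h3
          have h4 : M'.subtype.baseChange S (t' • w) = t' • (X₁.mkQ.baseChange S z) := by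
            rw [map_smul]; exact congrArg _ hw
          exact h4.trans h3
        suffices h5 : (f.restrictScalars R).lTensor S w = 0 by
          rw [hfi (h5.trans (map_zero _).symm), map_zero]
        let ψ := TensorProduct.piRight R S S (fun _ : Fin m => R ⧸ p)
        apply ψ.injective
        rw [map_zero]
        funext k
        let θ := Algebra.TensorProduct.quotIdealMapEquivTensorQuot S p
        have h6 : t' • ψ ((f.restrictScalars R).baseChange S w) k = 0 := by
          rw [← Pi.smul_apply, ← map_smul, ← map_smul, hw0, map_zero, map_zero, Pi.zero_apply]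
        have h7 : Ideal.Quotient.mk q t' * θ.symm (ψ ((f.restrictScalars R).baseChange S w) k) = 0 := by
          have := congrArg θ.symm h6
          rwa [map_smul, map_zero, Algebra.smul_def] at this
        exact (map_eq_zero_iff θ.symm θ.symm.injective).1
          ((mul_eq_zero.1 h7).resolve_left fun h8 => ht' (Ideal.Quotient.eq_zero_iff_mem.1 h8))
      -- descend to the submodule
      obtain ⟨w, rfl⟩ := (lTensor_exact S (LinearMap.exact_subtype_mkQ X₁) (Submodule.mkQ_surjective _) z).1 hz1
      suffices hw : w = 0 by rw [hw, map_zero]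
      refine ih X₁ (fun a ha x => ?_) (fun t ht => ?_) t' ht' w ?_
      · refine Subtype.ext ?_
        show a • (x : X) = 0
        refine Submodule.smul_induction_on x.2 (fun b hb y _ => ?_) (fun u v hu hv => ?_)
        · rw [← mul_smul]; exact hk _ (by rw [pow_succ]; exact Ideal.mul_mem_mul ha hb) y
        · rw [smul_add, hu, hv, add_zero]
      · refine ⟨fun x y h => Subtype.ext ((hb t ht).1 (congrArg Subtype.val h)), fun y => ?_⟩
        obtain ⟨x, hx⟩ := (hb t ht).2 y.1
        exact ⟨⟨x, hinv t ht x (by rw [show t • x = y.1 from hx]; exact y.2)⟩, Subtype.ext hx⟩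
      · apply Module.Flat.lTensor_preserves_injective_linearMap (M := S) X₁.subtype Subtype.val_injective
        rw [map_zero]
        exact (map_smul (X₁.subtype.baseChange S) t' w).trans hz
  -- apply to `R_p / p^n R_p`
  let A := Localization.AtPrime p
  let pn := (p ^ n).map (algebraMap R A)
  let a := pn.comap (algebraMap R A)
  let L := A ⧸ pn
  let j : R →ₗ[R] L := Algebra.linearMap R L
  have hker : LinearMap.ker j = a := by
    ext x
    rw [LinearMap.mem_ker, Algebra.linearMap_apply, IsScalarTower.algebraMap_apply R A L,
      Ideal.Quotient.algebraMap_eq, Ideal.Quotient.eq_zero_iff_mem]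
    rfl
  have hsm : ∀ (r : R) (x : L), r • x = algebraMap R L r * x := fun r x => by
    obtain ⟨b, rfl⟩ := Ideal.Quotient.mk_surjective x
    show Ideal.Quotient.mk pn (r • b) = _
    rw [Algebra.smul_def, map_mul]; rfl
  have hL1 : ∀ b ∈ p ^ n, ∀ x : L, b • x = 0 := by
    intro b hb x
    rw [hsm, IsScalarTower.algebraMap_apply R A L, Ideal.Quotient.algebraMap_eq,
      Ideal.Quotient.eq_zero_iff_mem.2 (Ideal.mem_map_of_mem _ hb), zero_mul]
  have hL2 : ∀ t ∉ p, Function.Bijective fun x : L => t • x := by
    intro t ht
    have hu : IsUnit (algebraMap R L t) := by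
      rw [IsScalarTower.algebraMap_apply R A L]
      exact (IsLocalization.map_units (M := p.primeCompl) A ⟨t, ht⟩).map _
    obtain ⟨u, hu'⟩ := hu
    simp only [hsm, ← hu']
    exact (Units.mulLeft u).bijective
  refine le_antisymm (Ideal.map_le_iff_le_comap.2 fun x hx => ?_) fun y hy => ?_
  · rw [Ideal.mem_comap, IsLocalization.algebraMap_mem_map_algebraMap_iff p.primeCompl] at hx
    obtain ⟨t, ht, htx⟩ := hx
    rw [Ideal.mem_comap, Ideal.mem_comap, IsLocalization.algebraMap_mem_map_algebraMap_iff q.primeCompl]
    refine ⟨algebraMap R S t, hp' t ht, ?_⟩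
    rw [← map_mul, ← Ideal.map_pow]
    exact Ideal.mem_map_of_mem _ htx
  · rw [Ideal.mem_comap, IsLocalization.algebraMap_mem_map_algebraMap_iff q.primeCompl] at hy
    obtain ⟨t', ht', hty⟩ := hy
    have hle : (p ^ n).map (algebraMap R S) ≤ a.map (algebraMap R S) := Ideal.map_mono Ideal.le_comap_map
    have h1 : t' * y ∈ a.map (algebraMap R S) := hle (by rw [Ideal.map_pow, ← hq]; exact hty)
    let φ : S →ₗ[S] S ⊗[R] L := (j.baseChange S).comp (TensorProduct.AlgebraTensorModule.rid R S S).symm.toLinearMap
    have hφ : LinearMap.ker φ = a.map (algebraMap R S) := by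
      refine le_antisymm (fun s hs => ?_) ?_
      · obtain ⟨w, hw⟩ := (Module.Flat.lTensor_exact S (LinearMap.exact_subtype_ker_map j) (s ⊗ₜ[R] (1 : R))).1
          (by simpa [φ] using hs)
        have key : ∀ w : S ⊗[R] LinearMap.ker j,
            TensorProduct.AlgebraTensorModule.rid R S S ((LinearMap.ker j).subtype.lTensor S w) ∈ a.map (algebraMap R S) := by
          intro w
          induction w using TensorProduct.induction_on with
          | zero => simp
          | tmul s r =>
            rw [LinearMap.lTensor_tmul, TensorProduct.AlgebraTensorModule.rid_tmul, Algebra.smul_def]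
            exact Ideal.mul_mem_right _ _ (Ideal.mem_map_of_mem _ (hker.le r.2))
          | add u v hu hv => rw [map_add, map_add]; exact add_mem hu hv
        have := key w
        rw [hw, TensorProduct.AlgebraTensorModule.rid_tmul, one_smul] at this
        exact this
      · refine Ideal.map_le_iff_le_comap.2 fun r hr => ?_
        have : r • (1 : L) = 0 := by
          rw [← Algebra.algebraMap_eq_smul_one]; exact hker.ge hr
        show algebraMap R S r ⊗ₜ[R] j 1 = 0
        rw [Algebra.algebraMap_eq_smul_one, TensorProduct.smul_tmul, ← map_smul, smul_eq_mul, mul_one,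
          show j r = 0 from hker.ge hr, TensorProduct.tmul_zero]
    rw [← hφ, LinearMap.mem_ker] at h1 ⊢
    exact hreg n L hL1 hL2 t' ht' _ ((φ.map_smul t' y).symm.trans h1)

end Groth.Agent.S2138
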