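import Mathlib.RingTheory.FinitePresentation
import Mathlib.RingTheory.Localization.Away.Basic
import Mathlib.RingTheory.FiniteType
import Groth.Agent.CAlgSmall.GenericFP

set_option autoImplicit false
universe u
namespace CAlg
end CAlg
open CAlg

namespace Groth.Agent.S2140

/-- Let `R → S` be an injective ring map of finite type between domains. Then there are nonzero `f ∈ R`
and `g ∈ S` such that `S_{fg}` is a finitely presented `R_f`-algebra. -/
theorem result {R S : Type u} [CommRing R] [IsDomain R] [CommRing S] [IsDomain S]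
    [Algebra R S] [Algebra.FiniteType R S] (hinj : Function.Injective (algebraMap R S)) :
    ∃ (f : R) (g : S), f ≠ 0 ∧ g ≠ 0 ∧
      ∀ (Rf Sfg : Type u) [CommRing Rf] [CommRing Sfg] [Algebra R Rf] [IsLocalization.Away f Rf]
        [Algebra S Sfg] [IsLocalization.Away (algebraMap R S f * g) Sfg] [Algebra Rf Sfg] [Algebra R Sfg]
        [IsScalarTower R S Sfg] [IsScalarTower R Rf Sfg], Algebra.FinitePresentation Rf Sfg := by
  obtain ⟨f, hf, H⟩ := Groth.Agent.CAlgSmall.exists_localization_finitePresentation (R := R) (S := S)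
  refine ⟨f, 1, hf, one_ne_zero, fun Rf Sfg => ?_⟩
  intro _ _ _ _ _ _ _ _ _ _
  have : IsLocalization.Away (algebraMap R S f) Sfg := by
    simpa using ‹IsLocalization.Away (algebraMap R S f * 1) Sfg›
  exact H Rf Sfg

end Groth.Agent.S2140
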