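import Groth.Prelude.Def_Flat
import Mathlib.RingTheory.KrullDimension.Basic
import Mathlib.RingTheory.Localization.AtPrime.Basic
import Mathlib.RingTheory.AlgebraicIndependent.Transcendental
import Mathlib.RingTheory.LocalRing.ResidueField.Ideal
import Mathlib.RingTheory.FiniteType
import Mathlib.RingTheory.TensorProduct.Basic
import Mathlib.RingTheory.Ideal.Over
import Groth.Agent.AlgSpLib.RelDimLocus
import Groth.Agent.GenSmoothLib.SmoothDim

set_option autoImplicit false
universe u
namespace CAlg
end CAlg
open CAlg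
open CategoryTheory AlgebraicGeometry

namespace Groth.Agent.S2142

open TensorProduct in
/-- Let `S` be of finite type over a field `k`, `K/k` a field extension, `𝔮` a prime of `S` and `𝔮_K` a
prime of `K ⊗_k S` lying over `𝔮`. Then the local dimension of `Spec (K ⊗_k S)` at `𝔮_K` equals the
local dimension of `Spec S` at `𝔮`. -/
theorem result {k S K : Type u} [Field k] [CommRing S] [Algebra k S] [Algebra.FiniteType k S] [Field K]
    [Algebra k K] (q : Ideal S) [q.IsPrime] (qK : Ideal (K ⊗[k] S)) [qK.IsPrime]
    (hq : qK.comap (Algebra.TensorProduct.includeRight.toRingHom : S →+* K ⊗[k] S) = q) :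
    FlatMor.localDim (PrimeSpectrum (K ⊗[k] S)) ⟨qK, inferInstance⟩ = FlatMor.localDim (PrimeSpectrum S) ⟨q, inferInstance⟩ := by
  have hc := (isPullback_SpecMap_of_isPushout _ _ _ _ (CommRingCat.isPushout_tensorProduct k K S)).flip
  have : LocallyOfFiniteType (Spec.map (CommRingCat.ofHom (algebraMap k S))) := by
    rw [HasRingHomProperty.Spec_iff (P := @LocallyOfFiniteType)]
    exact RingHom.finiteType_algebraMap.mpr inferInstance
  have h := Groth.Agent.AlgSpLib.fibreDimAt_baseChange hc (⟨qK, inferInstance⟩ : PrimeSpectrum (K ⊗[k] S))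
  refine (Groth.Agent.GenSmoothLib.fibreDimAt_toField (k := K)
    (Spec.map (CommRingCat.ofHom (Algebra.TensorProduct.includeLeftRingHom : K →+* K ⊗[k] S))) _).symm.trans
    (h.trans ((Groth.Agent.GenSmoothLib.fibreDimAt_toField (k := k)
      (Spec.map (CommRingCat.ofHom (algebraMap k S))) _).trans ?_))
  have e : PrimeSpectrum.comap (Algebra.TensorProduct.includeRight.toRingHom : S →+* K ⊗[k] S)
      ⟨qK, inferInstance⟩ = ⟨q, inferInstance⟩ := PrimeSpectrum.ext hq
  rw [← e]
  rfl

end Groth.Agent.S2142
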