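import Groth.Statements.S2147
import Groth.Agent.S0590
import Groth.Agent.S2079
import Groth.Agent.H8Lim.ClosedImageLimit
import Groth.Agent.H8Lim.SchemeDescent
import Groth.Agent.H8Lim.DescentProper
import Groth.Agent.H8Lim.BaseChange
import Mathlib

set_option backward.isDefEq.respectTransparency.types false

set_option autoImplicit false
universe u
open CategoryTheory AlgebraicGeometry
open Lim

namespace Groth.Agent.S2147

/-- Let `f : X → S` be proper with `S` quasi-compact and quasi-separated. Then `f` is a limit of proper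
morphisms `f_i : X_i → S_i` with `S_i` of finite type over `ℤ`: there are cofiltered diagrams of
schemes `X_i`, `S_i` with affine transition morphisms, a natural transformation with proper
components, and limit cones identified with `X` and `S` compatibly with `f`. -/
theorem result {X S : Scheme.{u}} (f : X ⟶ S) [IsProper f] [CompactSpace S]
    [QuasiSeparatedSpace S] :
    ∃ (I : Type u) (_ : SmallCategory I) (_ : IsCofiltered I) (DX DS : I ⥤ Scheme.{u}) (φ : DX ⟶ DS)
      (cX : Limits.Cone DX) (cS : Limits.Cone DS) (_ : Limits.IsLimit cX) (_ : Limits.IsLimit cS)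
      (eX : cX.pt ≅ X) (eS : cS.pt ≅ S),
      (∀ (i j : I) (a : i ⟶ j), IsAffineHom (DX.map a) ∧ IsAffineHom (DS.map a)) ∧
      (∀ i, IsProper (φ.app i) ∧ CompactSpace (DS.obj i) ∧
        LocallyOfFiniteType (Limits.IsTerminal.from specULiftZIsTerminal (DS.obj i))) ∧
      (∀ i, cX.π.app i ≫ φ.app i = eX.hom ≫ f ≫ eS.inv ≫ cS.π.app i) := by
  obtain ⟨I, _, _, _, D, c, hc, htr, hDp, ⟨e⟩⟩ := S0590.result S
  obtain ⟨J, _, _, D', c', _, e', -, hPr⟩ := S2079.result f
  obtain ⟨l⟩ := IsCofiltered.nonempty (C := J)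
  obtain ⟨hcl, hp, hfp⟩ := hPr l
  let P := (D'.obj l).left
  let p : P ⟶ S := (D'.obj l).hom
  have : IsProper p := hp
  have : LocallyOfFinitePresentation p := hfp
  let g : X ⟶ P := e'.inv.left ≫ (c'.π.app l).left
  have hgp : g ≫ p = f := by
    show (e'.inv.left ≫ (c'.π.app l).left) ≫ (D'.obj l).hom = f
    rw [Category.assoc, Over.w]
    exact Over.w e'.inv
  have : IsClosedImmersion g := by
    have : IsIso e'.inv.left := inferInstanceAs (IsIso ((Over.forget S).map e'.inv))
    have : IsClosedImmersion (c'.π.app l).left := hcl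
    infer_instance
  let p' : P ⟶ c.pt := p ≫ e.inv
  have : ∀ {i j} (a : i ⟶ j), IsAffineHom (D.map a) := fun a => htr _ _ a
  have : ∀ i, CompactSpace (D.obj i) := fun i => (hDp i).1
  have : ∀ i, QuasiSeparatedSpace (D.obj i) := fun i => by
    have := (hDp i).2
    have : IsNoetherianRing (ULift.{u} ℤ) := isNoetherianRing_of_ringEquiv ℤ ULift.ringEquiv.symm
    have : IsLocallyNoetherian (D.obj i) :=
      LocallyOfFiniteType.isLocallyNoetherian (specULiftZIsTerminal.from (D.obj i))
    infer_instance
  obtain ⟨j, Z, h, q, h1, h2, h3, sq⟩ := H8Lim.exists_stage_scheme hc p'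
  obtain ⟨k, φ, hk⟩ := H8Lim.descends_isProper D c hc (fun a => htr _ _ a) j h
    (inferInstanceAs (LocallyOfFiniteType h)) p' q sq inferInstance
  let Z' := Limits.pullback h (D.map φ)
  let z : Z' ⟶ D.obj k := Limits.pullback.snd h (D.map φ)
  have : IsProper z := hk
  have : CompactSpace Z' := QuasiCompact.compactSpace_of_compactSpace z
  have : QuasiSeparatedSpace Z' := quasiSeparatedSpace_of_quasiSeparated z
  have sq' := H8Lim.isPullback_later (D := D) (c := c) sq φ (by rw [Category.assoc, c.w, sq.w])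
  let cP := H8Lim.stageCone z c _ p' sq'
  let hcP : Limits.IsLimit cP := H8Lim.isLimitStageCone z _ p' sq' hc
  let gX : X ⟶ cP.pt := g
  have : IsClosedImmersion gX := ‹IsClosedImmersion g›
  have : CompactSpace X := QuasiCompact.compactSpace_of_compactSpace f
  have : ∀ a, QuasiCompact (gX ≫ cP.π.app a) := fun a =>
    quasiCompact_of_compactSpace (gX ≫ cP.π.app a)
  let ψ : H8Lim.imageDiagram cP gX ⟶ Over.forget k ⋙ D :=
    H8Lim.imageIncl cP gX ≫
      { app := fun a => H8Lim.stageSnd D z a
        naturality := fun a b m => H8Lim.stageMap_snd D z m }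
  refine ⟨Over k, inferInstance, inferInstance, H8Lim.imageDiagram cP gX, Over.forget k ⋙ D, ψ,
    H8Lim.imageCone cP gX, c.whisker (Over.forget k), (H8Lim.nonempty_isLimit_imageCone gX hcP).some,
    (Functor.Initial.isLimitWhiskerEquiv (Over.forget k) c).symm hc, Iso.refl _, e,
    fun a b m => ⟨H8Lim.isAffineHom_imageTrans cP gX m, htr _ _ m.left⟩,
    fun a => ⟨?_, (hDp a.left).1, (hDp a.left).2⟩, fun a => ?_⟩
  · have : IsProper (H8Lim.stageSnd D z a) :=
      MorphismProperty.of_isPullback (P := @IsProper) (H8Lim.isPullback_stage D z a) ‹IsProper z›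
    exact MorphismProperty.comp_mem @IsProper _ _
      (inferInstanceAs (IsProper (gX ≫ cP.π.app a).imageι)) this
  · show (gX ≫ cP.π.app a).toImage ≫ (gX ≫ cP.π.app a).imageι ≫ H8Lim.stageSnd D z a =
      𝟙 X ≫ f ≫ e.inv ≫ c.π.app a.left
    rw [Scheme.Hom.toImage_imageι_assoc, Category.id_comp, Category.assoc]
    show g ≫ H8Lim.stageProj z c _ p' sq' a ≫ H8Lim.stageSnd D z a = _
    rw [H8Lim.stageProj_snd, ← hgp]
    simp [p']

end Groth.Agent.S2147
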