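import Groth.Prelude.Def_CAlgX
import Mathlib.Algebra.Module.LocalizedModule.Basic
import Mathlib.RingTheory.Ideal.Maximal
import Mathlib

set_option autoImplicit false
universe u
namespace CAlg
end CAlg
open CAlg

namespace Groth.Agent.S2149
open TensorProduct

/-- Let `R → S` be a ring map and `u : M → M'` a map of `S`-modules. Then `u`, viewed as an `R`-linear
map, is universally injective exactly when, for every maximal ideal `𝔪` of `S`, the localized map
`M_𝔪 → M'_𝔪` is also universally injective as an `R`-linear map. -/
theorem result {R S M M' : Type u} [CommRing R] [CommRing S] [Algebra R S]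
    [AddCommGroup M] [Module S M] [Module R M] [IsScalarTower R S M] [AddCommGroup M'] [Module S M'] [Module R M']
    [IsScalarTower R S M'] (u : M →ₗ[S] M') :
    CAlgX.UniversallyInjective R (u.restrictScalars R) ↔
      ∀ (m : Ideal S) [m.IsMaximal],
        CAlgX.UniversallyInjective R ((LocalizedModule.map m.primeCompl u).restrictScalars R) := by
  have hF : ∀ (Q : Type u) [AddCommGroup Q] [Module R Q],
      ⇑((u.restrictScalars R).rTensor Q) = ⇑(TensorProduct.AlgebraTensorModule.rTensor R Q u) := fun Q _ _ => rfl
  have key : ∀ (Q : Type u) [AddCommGroup Q] [Module R Q] (m : Ideal S) [m.IsMaximal],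
      ⇑(((LocalizedModule.map m.primeCompl u).restrictScalars R).rTensor Q) =
        ⇑(IsLocalizedModule.map m.primeCompl
          (TensorProduct.AlgebraTensorModule.rTensor R Q (LocalizedModule.mkLinearMap m.primeCompl M))
          (TensorProduct.AlgebraTensorModule.rTensor R Q (LocalizedModule.mkLinearMap m.primeCompl M'))
          (TensorProduct.AlgebraTensorModule.rTensor R Q u)) := by
    intro Q _ _ m _
    let H := TensorProduct.AlgebraTensorModule.rTensor R Q ((LocalizedModule.map m.primeCompl u).restrictScalars S)
    have h1 : H = IsLocalizedModule.map m.primeCompl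
          (TensorProduct.AlgebraTensorModule.rTensor R Q (LocalizedModule.mkLinearMap m.primeCompl M))
          (TensorProduct.AlgebraTensorModule.rTensor R Q (LocalizedModule.mkLinearMap m.primeCompl M'))
          (TensorProduct.AlgebraTensorModule.rTensor R Q u) := by
      refine IsLocalizedModule.ext m.primeCompl (TensorProduct.AlgebraTensorModule.rTensor R Q (LocalizedModule.mkLinearMap m.primeCompl M))
        (IsLocalizedModule.map_units (TensorProduct.AlgebraTensorModule.rTensor R Q (LocalizedModule.mkLinearMap m.primeCompl M'))) ?_
      rw [IsLocalizedModule.map_comp]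
      refine LinearMap.ext fun z => ?_
      induction z with
      | zero => simp
      | add a b ha hb => simp only [map_add, ha, hb]
      | tmul a b => simp [H, LocalizedModule.map_mk]
    rw [← h1]
    rfl
  constructor
  · intro h m hm Q _ _
    rw [key Q m]
    refine IsLocalizedModule.map_injective m.primeCompl _ _ _ ?_
    rw [← hF]
    exact h Q
  · intro h Q _ _
    rw [hF]
    refine injective_of_isLocalized_maximal _ (fun P _ => TensorProduct.AlgebraTensorModule.rTensor R Q (LocalizedModule.mkLinearMap P.primeCompl M))
      _ (fun P _ => TensorProduct.AlgebraTensorModule.rTensor R Q (LocalizedModule.mkLinearMap P.primeCompl M')) _ fun P _ => ?_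
    rw [← key Q P]
    exact h P Q

end Groth.Agent.S2149
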