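import Groth.Statements.S2154
import Groth.Agent.H8Lim.Absolute

set_option autoImplicit false
universe u
open CategoryTheory AlgebraicGeometry
open Lim

namespace Groth.Agent.S2154

/-- Let `S` be quasi-compact and quasi-separated and `X = lim X_i` a cofiltered limit of quasi-compact
quasi-separated `S`-schemes locally of finite type over `S`, with finite transition morphisms. If `X
→ S` is integral then `X_i → S` is finite for all `i` beyond some index. -/
theorem result {I : Type u} [SmallCategory I] [IsCofiltered I] (S : Scheme.{u}) [CompactSpace S]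
    [QuasiSeparatedSpace S] (D : I ⥤ Over S) (c : Limits.Cone D) (hc : Limits.IsLimit c)
    [∀ (i j : I) (f : i ⟶ j), IsFinite (D.map f).left] [∀ i, CompactSpace (D.obj i).left]
    [∀ i, QuasiSeparatedSpace (D.obj i).left] [∀ i, LocallyOfFiniteType (D.obj i).hom] [IsIntegralHom c.pt.hom] :
    ∃ i₀ : I, ∀ (i : I) (_ : i ⟶ i₀), IsFinite (D.obj i).hom := by
  let t : D ⋙ Over.forget S ⟶ (Functor.const I).obj S :=
    { app := fun i ↦ (D.obj i).hom, naturality := fun i j f ↦ by simp }
  have : IsConnected I := IsCofiltered.isConnected _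
  have : ∀ i, CompactSpace ((D ⋙ Over.forget S).obj i) := fun i ↦ inferInstanceAs (CompactSpace (D.obj i).left)
  have : ∀ i, QuasiSeparatedSpace ((D ⋙ Over.forget S).obj i) :=
    fun i ↦ inferInstanceAs (QuasiSeparatedSpace (D.obj i).left)
  have : ∀ {i j : I} (f : i ⟶ j), IsAffineHom ((D ⋙ Over.forget S).map f) :=
    fun f ↦ inferInstanceAs (IsAffineHom (D.map f).left)
  let s : ((Over.forget S).mapCone c).pt ⟶ S := c.pt.hom
  have : IsIntegralHom s := ‹IsIntegralHom c.pt.hom›
  exact H8Lim.exists_forall_isFinite t (Limits.isLimitOfPreserves (Over.forget S) hc) (s := s)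
    (fun i ↦ Over.w (c.π.app i)) (fun f ↦ inferInstanceAs (IsIntegralHom (D.map f).left))
    (fun i ↦ inferInstanceAs (LocallyOfFiniteType (D.obj i).hom))

end Groth.Agent.S2154
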