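import Mathlib.Algebra.Module.Projective
import Mathlib.LinearAlgebra.Prod

set_option autoImplicit false
universe u
namespace CAlg
end CAlg
open CAlg

namespace Groth.Agent.S2159

/-- Given surjections `p₁ : P₁ → M` and `p₂ : P₂ → M` from projective modules, with kernels `K` and `L`,
there is an isomorphism `K ⊕ P₂ ≅ L ⊕ P₁`. -/
theorem result {R M P₁ P₂ : Type u} [CommRing R] [AddCommGroup M] [Module R M] [AddCommGroup P₁] [Module R P₁]
    [Module.Projective R P₁] [AddCommGroup P₂] [Module R P₂] [Module.Projective R P₂] (p₁ : P₁ →ₗ[R] M) (p₂ : P₂ →ₗ[R] M)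
    (h₁ : Function.Surjective p₁) (h₂ : Function.Surjective p₂) :
    Nonempty ((LinearMap.ker p₁ × P₂) ≃ₗ[R] (LinearMap.ker p₂ × P₁)) := by
  obtain ⟨h, hh⟩ := Module.projective_lifting_property p₂ p₁ h₂
  obtain ⟨k, hk⟩ := Module.projective_lifting_property p₁ p₂ h₁
  have hh' : ∀ a, p₂ (h a) = p₁ a := fun a => LinearMap.congr_fun hh a
  have hk' : ∀ b, p₁ (k b) = p₂ b := fun b => LinearMap.congr_fun hk b
  let F : (LinearMap.ker p₁ × P₂) →ₗ[R] LinearMap.ker p₂ × P₁ :=
    ((LinearMap.snd R _ P₂ - h ∘ₗ ((LinearMap.ker p₁).subtype.coprod k)).codRestrict (LinearMap.ker p₂)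
      (fun z => by simp [hh', hk', show p₁ z.1 = 0 from z.1.2])).prod
    ((LinearMap.ker p₁).subtype.coprod k)
  let G : (LinearMap.ker p₂ × P₁) →ₗ[R] LinearMap.ker p₁ × P₂ :=
    ((LinearMap.snd R _ P₁ - k ∘ₗ ((LinearMap.ker p₂).subtype.coprod h)).codRestrict (LinearMap.ker p₁)
      (fun z => by simp [hh', hk', show p₂ z.1 = 0 from z.1.2])).prod
    ((LinearMap.ker p₂).subtype.coprod h)
  refine ⟨LinearEquiv.ofLinear F G (LinearMap.ext fun z => ?_) (LinearMap.ext fun z => ?_)⟩ <;>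
  · obtain ⟨⟨a, ha⟩, b⟩ := z
    apply Prod.ext
    · apply Subtype.ext
      simp [F, G]
    · simp [F, G]

end Groth.Agent.S2159
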