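import Groth.Statements.S2161
import Mathlib
-- import your own Groth.Agent.* helpers here

set_option autoImplicit false
universe u
open CAlg

namespace Groth.Agent.S2161

theorem agree {R S : Type*} [CommRing R] [CommRing S] [Algebra R S] {G : Set S}
    (hG : Algebra.adjoin R G = ⊤)
    (hpow : ∀ x ∈ G, ∃ (n : ℕ) (P : Polynomial R), 0 < n ∧
      Polynomial.map (algebraMap R S) P = (Polynomial.X - Polynomial.C x) ^ n)
    {Ω : Type*} [Field Ω] (g h : S →+* Ω)
    (hgh : g.comp (algebraMap R S) = h.comp (algebraMap R S)) : g = h := by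
  refine RingHom.ext fun s => ?_
  have hs : s ∈ Algebra.adjoin R G := hG ▸ Algebra.mem_top
  induction hs using Algebra.adjoin_induction with
  | mem x hx =>
    obtain ⟨n, P, hn, hP⟩ := hpow x hx
    have e1 := congrArg (fun Q : Polynomial S => Polynomial.map g Q) hP
    have e2 := congrArg (fun Q : Polynomial S => Polynomial.map h Q) hP
    simp only [Polynomial.map_map, Polynomial.map_pow, Polynomial.map_sub, Polynomial.map_X,
      Polynomial.map_C] at e1 e2
    rw [hgh, e2] at e1
    have e3 := congrArg (Polynomial.eval (g x)) e1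
    simp only [Polynomial.eval_pow, Polynomial.eval_sub, Polynomial.eval_X, Polynomial.eval_C,
      sub_self, zero_pow hn.ne'] at e3
    exact sub_eq_zero.1 ((pow_eq_zero_iff hn.ne').1 e3)
  | algebraMap r => exact RingHom.congr_fun hgh r
  | add a b _ _ ha hb => rw [map_add, map_add, ha, hb]
  | mul a b _ _ ha hb => rw [map_mul, map_mul, ha, hb]


set_option synthInstance.maxHeartbeats 400000 in
set_option maxHeartbeats 800000 in
/-- Let R → S be a ring map whose kernel consists of nilpotent elements, and suppose S is generated as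
an R-algebra by elements x for which some power (T − x)ⁿ, n > 0, is the image of a polynomial over
R. Then Spec S → Spec R is a homeomorphism, and for every prime 𝔮 of S over 𝔭 the extension
κ(𝔮)/κ(𝔭) is purely inseparable. -/
theorem result {R S : Type u} [CommRing R] [CommRing S] [Algebra R S]
    (hker : ∀ r : R, algebraMap R S r = 0 → IsNilpotent r) (G : Set S) (hG : Algebra.adjoin R G = ⊤)
    (hpow : ∀ x ∈ G, ∃ (n : ℕ) (P : Polynomial R), 0 < n ∧
      Polynomial.map (algebraMap R S) P = (Polynomial.X - Polynomial.C x) ^ n) :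
    IsHomeomorph (PrimeSpectrum.comap (algebraMap R S)) ∧
      ∀ (q : Ideal S) [q.IsPrime] (p : Ideal R) [p.IsPrime] [q.LiesOver p],
        @IsPurelyInseparable p.ResidueField q.ResidueField _ _
          (Ideal.ResidueField.mapₐ p q (Algebra.ofId R S) (q.over_def p)).toRingHom.toAlgebra := by
  classical
  haveI hint : Algebra.IsIntegral R S := by
    refine ⟨fun s => ?_⟩
    have : Algebra.adjoin R G ≤ integralClosure R S := by
      refine Algebra.adjoin_le fun x hx => ?_
      obtain ⟨n, P, hn, hP⟩ := hpow x hx
      obtain ⟨Q, hQ, -, hQm⟩ := Polynomial.lifts_and_natDegree_eq_and_monic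
        (f := algebraMap R S) (p := (Polynomial.X - Polynomial.C x) ^ n) ⟨P, hP⟩
        ((Polynomial.monic_X_sub_C x).pow n)
      refine ⟨Q, hQm, ?_⟩
      rw [← Polynomial.eval_map, hQ]
      simp [hn.ne']
    exact this (hG ▸ Algebra.mem_top)
  have hres : ∀ (q : Ideal S) [q.IsPrime] (p : Ideal R) [p.IsPrime] [q.LiesOver p],
      @Algebra.IsAlgebraic p.ResidueField q.ResidueField _ _
        (Ideal.ResidueField.mapₐ p q (Algebra.ofId R S) (q.over_def p)).toRingHom.toAlgebra := by
    intro q _ p _ _
    letI := (Ideal.ResidueField.mapₐ p q (Algebra.ofId R S) (q.over_def p)).toRingHom.toAlgebra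
    haveI : IsScalarTower R p.ResidueField q.ResidueField :=
      .of_algebraMap_eq fun r => ((Ideal.ResidueField.mapₐ p q (Algebra.ofId R S) (q.over_def p)).commutes r).symm
    have hint' : ∀ s : S, IsIntegral p.ResidueField (algebraMap S q.ResidueField s) := fun s =>
      ((hint.isIntegral s).map (IsScalarTower.toAlgHom R S q.ResidueField)).tower_top
    refine ⟨fun z => ?_⟩
    obtain ⟨a, b, -, rfl⟩ := IsFractionRing.div_surjective (A := S ⧸ q) z
    obtain ⟨a, rfl⟩ := Ideal.Quotient.mk_surjective a
    obtain ⟨b, rfl⟩ := Ideal.Quotient.mk_surjective b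
    rw [div_eq_mul_inv]
    exact ((hint' a).mul (hint' b).inv).isAlgebraic
  refine ⟨?_, fun q _ p _ _ => ?_⟩
  · have hk : RingHom.ker (algebraMap R S) ≤ nilradical R := fun r hr => hker r hr
    refine isHomeomorph_iff_continuous_isClosedMap_bijective.2
      ⟨PrimeSpectrum.continuous_comap _,
        PrimeSpectrum.isClosedMap_comap_of_isIntegral _ (algebraMap_isIntegral_iff.2 hint), ?_, ?_⟩
    · intro Q Q' hQQ
      let p : Ideal R := Q.asIdeal.under R
      haveI : Q.asIdeal.LiesOver p := ⟨rfl⟩
      haveI : Q'.asIdeal.LiesOver p := ⟨congrArg PrimeSpectrum.asIdeal hQQ⟩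
      let jA := Ideal.ResidueField.mapₐ p Q.asIdeal (Algebra.ofId R S) (Q.asIdeal.over_def p)
      let jB := Ideal.ResidueField.mapₐ p Q'.asIdeal (Algebra.ofId R S) (Q'.asIdeal.over_def p)
      letI := jA.toRingHom.toAlgebra
      letI := jB.toRingHom.toAlgebra
      haveI := hres Q.asIdeal p
      haveI := hres Q'.asIdeal p
      let iA : Q.asIdeal.ResidueField →ₐ[p.ResidueField] AlgebraicClosure p.ResidueField := IsAlgClosed.lift
      let iB : Q'.asIdeal.ResidueField →ₐ[p.ResidueField] AlgebraicClosure p.ResidueField := IsAlgClosed.lift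
      have he := agree hG hpow (iA.toRingHom.comp (algebraMap S Q.asIdeal.ResidueField))
        (iB.toRingHom.comp (algebraMap S Q'.asIdeal.ResidueField)) (RingHom.ext fun r => by
          simp only [RingHom.comp_apply]
          rw [← IsScalarTower.algebraMap_apply R S Q.asIdeal.ResidueField, ← jA.commutes r,
            ← IsScalarTower.algebraMap_apply R S Q'.asIdeal.ResidueField, ← jB.commutes r]
          exact (iA.commutes _).trans (iB.commutes _).symm)
      refine PrimeSpectrum.ext (Ideal.ext fun s => ?_)
      rw [← Ideal.algebraMap_residueField_eq_zero, ← Ideal.algebraMap_residueField_eq_zero (I := Q'.asIdeal),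
        ← map_eq_zero_iff iA.toRingHom (RingHom.injective _), ← map_eq_zero_iff iB.toRingHom (RingHom.injective _)]
      show (iA.toRingHom.comp _) s = 0 ↔ _
      rw [he]
      rfl
    · intro P
      haveI := hint
      obtain ⟨Q, hQle, hQp, hQ⟩ := Ideal.exists_ideal_over_prime_of_isIntegral P.asIdeal (⊥ : Ideal S)
        (fun r hr => by
          obtain ⟨n, hn⟩ := hker r hr
          exact P.isPrime.mem_of_pow_mem n (hn ▸ P.asIdeal.zero_mem))
      exact ⟨⟨Q, hQp⟩, PrimeSpectrum.ext hQ⟩
  · letI := (Ideal.ResidueField.mapₐ p q (Algebra.ofId R S) (q.over_def p)).toRingHom.toAlgebra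
    haveI := hres q p
    haveI : Subsingleton (Field.Emb p.ResidueField q.ResidueField) := ⟨fun σ τ => by
      refine AlgHom.coe_ringHom_injective (Ideal.ResidueField.ringHom_ext ?_)
      refine agree hG hpow _ _ (RingHom.ext fun r => ?_)
      simp only [RingHom.comp_apply]
      rw [← IsScalarTower.algebraMap_apply R S q.ResidueField,
        ← (Ideal.ResidueField.mapₐ p q (Algebra.ofId R S) (q.over_def p)).commutes r]
      exact (σ.commutes _).trans (τ.commutes _).symm⟩
    refine isPurelyInseparable_of_finSepDegree_eq_one ?_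
    exact Nat.card_eq_one_iff_unique.2 ⟨inferInstance, inferInstance⟩

end Groth.Agent.S2161
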