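import Groth.Statements.S2169
import Groth.Agent.CAlgH.CIPresentation


set_option autoImplicit false
universe u
open LCI

namespace Groth.Agent.S2169

/-- Let A be a complete Noetherian local ring whose completion is a regular local ring modulo a regular
sequence. Then for every surjection R -> A from a regular local ring R, the kernel is generated by a
regular sequence of R. -/
theorem result {A R : Type u} [CommRing A] [CommRing R]
    [IsNoetherianRing A] [IsLocalRing A] [IsAdicComplete (IsLocalRing.maximalIdeal A) A]
    [IsRegularLocalRing R] (f : R →+* A) (hf : Function.Surjective f)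
    (hA : Pi1.IsCompleteIntersection A) :
    ∃ rs : List R, Ideal.ofList rs = RingHom.ker f ∧ RingTheory.Sequence.IsRegular R rs := by
  obtain ⟨rs, h1, h2⟩ := (CAlgH.CIPresentation.isCompleteIntersection_iff f hf).1 hA
  exact ⟨rs, h2, h1⟩

end Groth.Agent.S2169
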