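import Groth.Statements.S2170
import Mathlib.Tactic.Linarith
import Mathlib.Tactic.Ring
import Mathlib.Algebra.Order.BigOperators.Group.Finset
import Mathlib.Algebra.Order.Ring.Pow

set_option autoImplicit false
open Finset
open Models

namespace Groth.Agent.S2170

/-- The Laplacian-type identity for a symmetric matrix. -/
theorem form_identity {ι : Type*} [Fintype ι] [DecidableEq ι] (A : Matrix ι ι ℝ) (hsymm : A.IsSymm)
    (m y : ι → ℝ) :
    ∑ i, (y i * m i) * ∑ j, A i j * (y j * m j) =
      ∑ i, y i ^ 2 * m i * ∑ j, A i j * m j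
        - (∑ i, ∑ j, A i j * m i * m j * (y i - y j) ^ 2) / 2 := by
  have h1 : ∑ i, ∑ j, A i j * m i * m j * y j ^ 2 = ∑ i, ∑ j, A i j * m i * m j * y i ^ 2 := by
    rw [sum_comm]
    refine sum_congr rfl fun i _ => sum_congr rfl fun j _ => ?_
    rw [hsymm.apply i j]; ring
  have h2 : ∑ i, ∑ j, A i j * m i * m j * (y i - y j) ^ 2 =
      ∑ i, ∑ j, A i j * m i * m j * y i ^ 2
      + ∑ i, ∑ j, A i j * m i * m j * y j ^ 2
      - 2 * ∑ i, ∑ j, A i j * m i * m j * y i * y j := by
    simp only [mul_sum, ← sum_add_distrib, ← sum_sub_distrib]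
    refine sum_congr rfl fun i _ => sum_congr rfl fun j _ => ?_
    ring
  have h3 : ∑ i, (y i * m i) * ∑ j, A i j * (y j * m j) =
      ∑ i, ∑ j, A i j * m i * m j * y i * y j := by
    simp only [mul_sum]
    refine sum_congr rfl fun i _ => sum_congr rfl fun j _ => ?_
    ring
  have h4 : ∑ i, y i ^ 2 * m i * ∑ j, A i j * m j =
      ∑ i, ∑ j, A i j * m i * m j * y i ^ 2 := by
    simp only [mul_sum]
    refine sum_congr rfl fun i _ => sum_congr rfl fun j _ => ?_
    ring
  rw [h2, h1, h3, h4]; ring

/-- Let A be a symmetric real n × n matrix with non-negative off-diagonal entries and m a vector with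
positive entries such that for every i, ∑_{j ≠ i} A_{ij} m_j ≤ −A_{ii} m_i. Then the kernel of A is
the span of the vectors equal to m on an index set I and zero off I, for those I such that A_{ij} =
0 whenever i ∈ I and j ∉ I and such that equality holds in the above inequality for every i ∈ I. The
published statement omits the symmetry of A (without which it fails) and applies it only to
symmetric matrices; stated here with A symmetric. -/
theorem result {n : ℕ} (A : Matrix (Fin n) (Fin n) ℝ) (m : Fin n → ℝ)
    (hsymm : A.IsSymm) (hA : ∀ i j, i ≠ j → 0 ≤ A i j) (hm : ∀ i, 0 < m i)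
    (hle : ∀ i, ∑ j ∈ univ.erase i, A i j * m j ≤ -(A i i * m i)) :
    LinearMap.ker (Matrix.mulVecLin A) = Submodule.span ℝ
      {x : Fin n → ℝ | ∃ I : Finset (Fin n), (∀ i ∈ I, ∀ j ∉ I, A i j = 0) ∧
        (∀ i ∈ I, ∑ j ∈ univ.erase i, A i j * m j = -(A i i * m i)) ∧
        x = fun i => if i ∈ I then m i else 0} := by
  have hd : ∀ i, ∑ j, A i j * m j = ∑ j ∈ univ.erase i, A i j * m j + A i i * m i := fun i =>
    (sum_erase_add univ (fun j => A i j * m j) (mem_univ i)).symm
  have hd0 : ∀ i, ∑ j, A i j * m j ≤ 0 := fun i => by rw [hd]; linarith [hle i]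
  apply le_antisymm
  · intro x hx
    have hAx : ∀ i, ∑ j, A i j * x j = 0 := fun i => congrFun hx i
    set y : Fin n → ℝ := fun i => x i / m i with hy
    have hxy : ∀ i, y i * m i = x i := fun i => div_mul_cancel₀ (x i) (hm i).ne'
    have hid := form_identity A hsymm m y
    simp only [hxy, hAx, mul_zero, sum_const_zero] at hid
    have hT : ∀ i, y i ^ 2 * m i * ∑ j, A i j * m j ≤ 0 := fun i =>
      mul_nonpos_of_nonneg_of_nonpos (mul_nonneg (sq_nonneg _) (hm i).le) (hd0 i)
    have hS : ∀ i j, 0 ≤ A i j * m i * m j * (y i - y j) ^ 2 := by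
      intro i j
      rcases eq_or_ne i j with h | h
      · subst h; simp
      · exact mul_nonneg (mul_nonneg (mul_nonneg (hA i j h) (hm i).le) (hm j).le) (sq_nonneg _)
    have hT' : ∑ i, y i ^ 2 * m i * ∑ j, A i j * m j ≤ 0 := sum_nonpos fun i _ => hT i
    have hS' : 0 ≤ ∑ i, ∑ j, A i j * m i * m j * (y i - y j) ^ 2 :=
      sum_nonneg fun i _ => sum_nonneg fun j _ => hS i j
    have hT0 : ∀ i, y i ^ 2 * m i * ∑ j, A i j * m j = 0 := fun i =>
      (sum_eq_zero_iff_of_nonpos (fun i _ => hT i)).1 (by linarith) i (mem_univ i)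
    have hS0 : ∀ i j, A i j * m i * m j * (y i - y j) ^ 2 = 0 := fun i j =>
      (sum_eq_zero_iff_of_nonneg (fun j _ => hS i j)).1
        ((sum_eq_zero_iff_of_nonneg (fun i _ => sum_nonneg fun j _ => hS i j)).1
          (by linarith) i (mem_univ i)) j (mem_univ j)
    classical
    have hdec : x = ∑ c ∈ univ.image y,
        c • (fun i => if i ∈ univ.filter (fun l => y l = c) then m i else 0) := by
      funext i
      simp only [Finset.sum_apply, Pi.smul_apply, smul_eq_mul, mem_filter, mem_univ, true_and,
        mul_ite, mul_zero]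
      rw [sum_ite_eq, if_pos (mem_image_of_mem y (mem_univ i)), hxy]
    rw [hdec]
    refine Submodule.sum_mem _ fun c _ => ?_
    rcases eq_or_ne c 0 with hc | hc
    · subst hc; rw [zero_smul]; exact Submodule.zero_mem _
    refine Submodule.smul_mem _ _ (Submodule.subset_span ⟨univ.filter (fun l => y l = c), ?_, ?_, rfl⟩)
    · intro i hi j hj
      simp only [mem_filter, mem_univ, true_and] at hi hj
      have := hS0 i j
      simpa [(hm i).ne', (hm j).ne', sub_ne_zero.2 (show y i ≠ y j by rw [hi]; exact Ne.symm hj)] using this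
    · intro i hi
      simp only [mem_filter, mem_univ, true_and] at hi
      have := hT0 i
      rw [hd] at this
      have h0 : ∑ j ∈ univ.erase i, A i j * m j + A i i * m i = 0 := by
        simpa [(hm i).ne', hi, hc] using this
      linarith
  · rw [Submodule.span_le]
    rintro x ⟨I, h1, h2, rfl⟩
    rw [SetLike.mem_coe, LinearMap.mem_ker]
    funext i
    simp only [Matrix.mulVecLin_apply, Matrix.mulVec, dotProduct, mul_ite, mul_zero,
      Pi.zero_apply]
    by_cases hi : i ∈ I
    · rw [sum_congr rfl (g := fun j => A i j * m j) (fun j _ => ?_), hd, h2 i hi]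
      · ring
      · split_ifs with hj
        · rfl
        · rw [h1 i hi j hj, zero_mul]
    · refine sum_eq_zero fun j _ => ?_
      split_ifs with hj
      · rw [← hsymm.apply i j, h1 j hj i hi, zero_mul]
      · rfl

end Groth.Agent.S2170
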