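import Groth.Statements.S2178
import Groth.Agent.NumTypeLib.Coker

set_option autoImplicit false
open Finset
open Models Models.NumericalType

namespace Groth.Agent.S2178

/-- The Picard group of a numerical type (the cokernel of the matrix (a i j / w i) acting on Z^n) has
free rank one: its rank as a Z-module is 1. -/
theorem result {n : ℕ} (T : Models.NumericalType n) : Module.finrank ℤ T.Pic = 1 := by
  refine (Groth.Agent.NumTypeLib.IsNull.of_type T).finrank_coker T.pos fun x => ?_
  have key : ∀ i, T.a.mulVec x i = T.w i * T.picMatrix.mulVec x i := fun i => by
    simp only [Matrix.mulVec, dotProduct, Finset.mul_sum, ← mul_assoc]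
    exact Finset.sum_congr rfl fun j _ => by rw [Models.NumericalType.picMatrix, Int.mul_ediv_cancel' (T.w_dvd i j)]
  constructor <;> intro h <;> funext i
  · rw [key, h, Pi.zero_apply, mul_zero]
  · have := key i
    rw [h, Pi.zero_apply, eq_comm, mul_eq_zero] at this
    exact this.resolve_left (T.w_pos i).ne' 

end Groth.Agent.S2178
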