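import Groth.Statements.S2179
import Groth.Agent.NumTypeLib.Coker

set_option autoImplicit false
open Finset
open Models Models.NumericalType

namespace Groth.Agent.S2179

/-- For a numerical type T, the map Z^n -> Z^n multiplying the i-th coordinate by w i induces a
well-defined injective homomorphism from Pic(T), the cokernel of (a i j / w i), to the cokernel of
the matrix a. -/
theorem result {n : ℕ} (T : Models.NumericalType n) :
    ∃ f : T.Pic →+ T.CokerA, Function.Injective f ∧
      ∀ x : Fin n → ℤ, f (Submodule.Quotient.mk x) = Submodule.Quotient.mk (fun i => T.w i * x i) := by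
  let D : (Fin n → ℤ) →ₗ[ℤ] (Fin n → ℤ) :=
    LinearMap.pi fun i => T.w i • LinearMap.proj i
  have key : ∀ y, D (T.picMatrix.mulVec y) = T.a.mulVec y := fun y => funext fun i => by
    simp only [D, LinearMap.pi_apply, LinearMap.smul_apply, LinearMap.proj_apply, smul_eq_mul, Matrix.mulVec,
      dotProduct, Finset.mul_sum, ← mul_assoc]
    exact Finset.sum_congr rfl fun j _ => by rw [Models.NumericalType.picMatrix, Int.mul_ediv_cancel' (T.w_dvd i j)]
  let f : T.Pic →ₗ[ℤ] T.CokerA := Submodule.mapQ _ _ D (by
    rintro _ ⟨y, rfl⟩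
    exact ⟨y, (key y).symm⟩)
  refine ⟨f.toAddMonoidHom, ?_, fun x => rfl⟩
  rw [injective_iff_map_eq_zero]
  intro z hz
  obtain ⟨x, rfl⟩ := Submodule.Quotient.mk_surjective _ z
  obtain ⟨y, hy⟩ := (Submodule.Quotient.mk_eq_zero _).1 hz
  refine (Submodule.Quotient.mk_eq_zero _).2 ⟨y, funext fun i => mul_left_cancel₀ (T.w_pos i).ne' ?_⟩
  exact congrFun ((key y).trans hy) i

end Groth.Agent.S2179
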