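import Groth.Statements.S2181
import Groth.Agent.NumTypeLib.Pic
import Groth.Agent.S2178
import Mathlib.Algebra.Group.Subgroup.ZPowers.Basic
import Mathlib.RingTheory.Int.Basic
import Mathlib.GroupTheory.Archimedean
import Mathlib.LinearAlgebra.Dimension.Free

set_option autoImplicit false
open Finset
open Models Models.NumericalType

namespace Groth.Agent.S2181

/-- If the genus of a numerical type is at most 0 then its Picard group is infinite cyclic. -/
theorem result {n : ℕ} (T : Models.NumericalType n) (hg : T.genus ≤ 0) : Nonempty (T.Pic ≃+ ℤ) := by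
  obtain ⟨k, T', hmin, hg', f, hf⟩ := Groth.Agent.NumTypeLib.exists_minimal T
  have hk : k = 1 := by
    by_contra hk
    have := Groth.Agent.NumTypeLib.one_le_genus hmin (show 1 < k by have := T'.pos; omega)
    omega
  subst hk
  let g : T.Pic →+ ℤ := (Groth.Agent.NumTypeLib.picEquivOne T').toAddEquiv.toAddMonoidHom.comp f
  have hg0 : Function.Injective g := (Groth.Agent.NumTypeLib.picEquivOne T').injective.comp hf
  obtain ⟨d, hd⟩ := Int.subgroup_cyclic g.range
  have hd0 : d ≠ 0 := by
    rintro rfl
    have : Subsingleton T.Pic := by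
      refine ⟨fun a b => hg0 ?_⟩
      have key : ∀ z, g z = 0 := fun z => by
        have hz : g z ∈ g.range := ⟨z, rfl⟩
        rw [hd, AddSubgroup.mem_closure_singleton] at hz
        obtain ⟨c, hc⟩ := hz
        simpa using hc.symm
      rw [key, key]
    have h1 := Groth.Agent.S2178.result T
    rw [Module.finrank_zero_of_subsingleton] at h1
    omega
  let e : ℤ →+ g.range := (zmultiplesHom g.range) ⟨d, hd ▸ AddSubgroup.subset_closure rfl⟩
  have he : Function.Bijective e := by
    constructor
    · intro a b hab
      have := congrArg Subtype.val hab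
      simpa [e, hd0] using this
    · rintro ⟨z, hz⟩
      rw [hd, AddSubgroup.mem_closure_singleton] at hz
      obtain ⟨c, rfl⟩ := hz
      exact ⟨c, Subtype.ext (by simp [e])⟩
  exact ⟨(AddMonoidHom.ofInjective hg0).trans (AddEquiv.ofBijective e he).symm⟩

end Groth.Agent.S2181
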