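import Groth.Statements.S2182
import Groth.Agent.NumTypeLib.Core

set_option autoImplicit false
open Finset
open Models Models.NumericalType

namespace Groth.Agent.S2182

/-- In a numerical type, whenever a i j > 0 one has m i * a i j at most m j * |a j j| and m i * w i at
most m j * |a j j|. -/
theorem result {n : ℕ} (T : Models.NumericalType n) (i j : Fin n) (hij : 0 < T.a i j) :
    T.m i * T.a i j ≤ T.m j * |T.a j j| ∧ T.m i * T.w i ≤ T.m j * |T.a j j| := by
  obtain rfl | hne := eq_or_ne i j
  · rcases Nat.lt_or_ge 1 n with hn | hn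
    · exact absurd hij (Groth.Agent.NumTypeLib.diag_neg T hn i).not_gt
    · obtain rfl : n = 1 := le_antisymm hn T.pos
      have h := Groth.Agent.NumTypeLib.row_eq T i
      rw [Fin.sum_univ_one, Fin.fin_one_eq_zero i] at *
      nlinarith [T.m_pos 0]
  have h := Groth.Agent.NumTypeLib.mul_le_neg_diag T hne.symm
  rw [Groth.Agent.NumTypeLib.a_comm T j i] at h
  have hneg := neg_le_abs (T.a j j)
  have := T.m_pos i
  have := T.m_pos j
  have := mul_le_mul_of_nonneg_left (Groth.Agent.NumTypeLib.w_le_a T hij).1 (T.m_pos i).le
  constructor <;> nlinarith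

end Groth.Agent.S2182
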