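import Groth.Statements.S2183
import Groth.Agent.NumTypeLib.Core

set_option autoImplicit false
open Finset
open Models Models.NumericalType

namespace Groth.Agent.S2183

open Classical in
/-- Let T be a minimal numerical type with n > 1 indices and genus g at least 2, and let J be the set of
indices which are not (-2)-indices. Then J has at most 2g - 2 elements, and for j in J one has g j <
g, m j * |a j j| at most 6g - 6, and m i * a i j at most 6g - 6 for every index i. -/
theorem result {n : ℕ} (T : Models.NumericalType n) (hmin : T.IsMinimal) (hn : 1 < n) (hg : 2 ≤ T.genus) :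
    ((univ.filter fun j => ¬T.IsMinusTwo j).card : ℤ) ≤ 2 * T.genus - 2 ∧
      ∀ j, ¬T.IsMinusTwo j →
        T.g j < T.genus ∧ T.m j * |T.a j j| ≤ 6 * T.genus - 6 ∧
          ∀ i, T.m i * T.a i j ≤ 6 * T.genus - 6 := by
  have key : ∀ j, ¬T.IsMinusTwo j → 1 ≤ Groth.Agent.NumTypeLib.contrib T j := fun j hj =>
    Int.add_one_le_iff.2 (lt_of_le_of_ne (Groth.Agent.NumTypeLib.contrib_nonneg hmin hn j) fun h => hj (Groth.Agent.NumTypeLib.isMinusTwo_of_contrib_zero T hn j h.symm))
  refine ⟨?_, fun j hj => ?_⟩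
  · have h1 := Finset.card_nsmul_le_sum (univ.filter fun j => ¬T.IsMinusTwo j) _ 1 fun j hj => key j (mem_filter.1 hj).2
    have h2 := Finset.sum_le_sum_of_subset_of_nonneg (filter_subset (fun j => ¬T.IsMinusTwo j) univ)
      fun i _ _ => Groth.Agent.NumTypeLib.contrib_nonneg hmin hn i
    rw [Groth.Agent.NumTypeLib.sum_contrib] at h2
    rw [nsmul_eq_mul, mul_one] at h1
    linarith
  obtain ⟨k, hk, ha⟩ := Groth.Agent.NumTypeLib.exists_neg_diag T hn j
  have hc := Groth.Agent.NumTypeLib.contrib_le hmin hn j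
  have hc1 := key j hj
  have hm := T.m_pos j
  have hw := T.w_pos j
  have hgj := T.g_nonneg j
  have he : Groth.Agent.NumTypeLib.contrib T j = T.m j * T.w j * (2 * (T.g j - 1) + k) := by
    rw [Groth.Agent.NumTypeLib.contrib, ha]; ring
  rw [he] at hc hc1
  have hM : 1 ≤ T.m j * T.w j := Int.add_one_le_iff.2 (mul_pos hm hw)
  have hpos : 0 < 2 * (T.g j - 1) + k := pos_of_mul_pos_right (by linarith) (mul_pos hm hw).le
  have h0 : 2 * (T.g j - 1) + k ≤ 2 * T.genus - 2 := le_trans (le_mul_of_one_le_left hpos.le hM) hc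
  have hdiag : T.m j * |T.a j j| = T.m j * T.w j * k := by
    rw [abs_of_neg (Groth.Agent.NumTypeLib.diag_neg T hn j), ha]; ring
  have hbound : T.m j * |T.a j j| ≤ 6 * T.genus - 6 := by
    rw [hdiag]
    refine le_trans (mul_le_mul_of_nonneg_left (show k ≤ 3 * (2 * (T.g j - 1) + k) by omega) (mul_pos hm hw).le) ?_
    linarith
  refine ⟨by omega, hbound, fun i => ?_⟩
  obtain rfl | hne := eq_or_ne i j
  · have := Groth.Agent.NumTypeLib.diag_neg T hn i
    nlinarith
  · have h := Groth.Agent.NumTypeLib.mul_le_neg_diag T hne.symm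
    rw [Groth.Agent.NumTypeLib.a_comm T j i] at h
    rw [abs_of_neg (Groth.Agent.NumTypeLib.diag_neg T hn j)] at hbound
    linarith

end Groth.Agent.S2183
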