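import Groth.Statements.S2185
import Groth.Agent.NumTypeLib.Bound
import Groth.Agent.NumTypeLib.Torsion
import Groth.Agent.NumTypeLib.Pic
import Groth.Agent.NumTypeLib.Edges
import Mathlib.Algebra.Module.PID
import Mathlib.GroupTheory.FiniteAbelian.Basic

set_option autoImplicit false
open Finset
open Models Models.NumericalType

namespace Groth.Agent.S2185

/-- Let T be a numerical type of genus g at least 2 and l a prime bigger than 768 g. Then the l-torsion
subgroup of Pic(T) has at most l^g elements (F_l-dimension at most g); if T is minimal it has at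
most l^(g_top) elements where g_top is the topological genus, itself at most g. -/
theorem result {n : ℕ} (T : Models.NumericalType n) (hg : 2 ≤ T.genus) (ℓ : ℕ) (hℓ : ℓ.Prime)
    (hℓg : 768 * T.genus < ℓ) :
    Nat.card (Submodule.torsionBy ℤ T.Pic (ℓ : ℤ)) ≤ ℓ ^ T.genus.toNat ∧
      (T.IsMinimal → Nat.card (Submodule.torsionBy ℤ T.Pic (ℓ : ℤ)) ≤ ℓ ^ T.topGenus.toNat ∧
        T.topGenus ≤ T.genus) := by
  have key : ∀ {k : ℕ} (S : Models.NumericalType k), S.IsMinimal → S.genus = T.genus →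
      Nat.card (Submodule.torsionBy ℤ S.Pic (ℓ : ℤ)) ≤ ℓ ^ S.topGenus.toNat ∧ S.topGenus ≤ S.genus := by
    intro k S hS hgS
    rcases Nat.lt_or_ge 1 k with hk | hk
    swap
    · obtain rfl : k = 1 := le_antisymm hk S.pos
      refine ⟨le_trans ?_ (Nat.one_le_pow _ _ hℓ.pos), ?_⟩
      · have : Subsingleton (Submodule.torsionBy ℤ S.Pic (ℓ : ℤ)) := ⟨fun a b => Subtype.ext ((Groth.Agent.NumTypeLib.picEquivOne S).injective (by
          have h : ∀ z : Submodule.torsionBy ℤ S.Pic (ℓ : ℤ), (Groth.Agent.NumTypeLib.picEquivOne S) z = 0 := fun z => by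
            have h1 : (ℓ : ℤ) • (Groth.Agent.NumTypeLib.picEquivOne S) z = 0 := by
              rw [← map_smul, (Submodule.mem_torsionBy_iff _ _).1 z.2, map_zero]
            exact (mul_eq_zero.1 h1).resolve_left (Nat.cast_ne_zero.2 hℓ.ne_zero)
          rw [h, h]))⟩
        exact Finite.card_le_one_iff_subsingleton.2 this
      · have : S.topGenus = 0 := by
          rw [Models.NumericalType.topGenus, Models.NumericalType.edgeCount,
            Finset.card_eq_zero.2 (Finset.filter_eq_empty_iff.2 fun p _ h => absurd h.1 (by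
              rw [Fin.fin_one_eq_zero p.1, Fin.fin_one_eq_zero p.2]; exact lt_irrefl _))]
          norm_num
        omega
    refine ⟨?_, Groth.Agent.NumTypeLib.topGenus_le_genus hS hk⟩
    have hb : ∀ i j, S.m i * |S.a i j| < ℓ := fun i j => by
      have := Groth.Agent.NumTypeLib.mul_abs_le hS (hgS ▸ hg) i j
      rw [hgS] at this
      linarith
    have hlt : ∀ z : ℤ, z ≠ 0 → |z| < ℓ → ¬(ℓ : ℤ) ∣ z := fun z hz h hd =>
      absurd (Int.le_of_dvd (abs_pos.2 hz) ((dvd_abs _ _).2 hd)) (not_le.2 h)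
    have h := Groth.Agent.NumTypeLib.card_torsionBy_le (Groth.Agent.NumTypeLib.IsNull.of_type S) S.pos (B := S.picMatrix) (w := S.w)
      (fun i => (S.w_pos i).ne') (fun i j => (Int.mul_ediv_cancel' (S.w_dvd i j)).symm) ℓ hℓ
      (fun i j _ ha => hlt _ ha (lt_of_le_of_lt (le_mul_of_one_le_left (abs_nonneg _)
        (Int.add_one_le_iff.2 (S.m_pos i))) (hb i j)))
      (fun i => hlt _ (S.m_pos i).ne' (lt_of_le_of_lt (by
        rw [abs_of_pos (S.m_pos i)]
        exact le_mul_of_one_le_right (S.m_pos i).le (Int.add_one_le_iff.2 (abs_pos.2 (Groth.Agent.NumTypeLib.diag_neg S hk i).ne))) (hb i i)))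
    refine h.trans (Nat.pow_le_pow_right hℓ.pos (le_of_eq ?_))
    rw [Models.NumericalType.topGenus, Models.NumericalType.edgeCount, Groth.Agent.NumTypeLib.edges]
    omega
  refine ⟨?_, fun hmin => key T hmin rfl⟩
  obtain ⟨k, S, hS, hgS, f, hf⟩ := Groth.Agent.NumTypeLib.exists_minimal T
  obtain ⟨h1, h2⟩ := key S hS hgS
  refine le_trans ?_ (h1.trans (Nat.pow_le_pow_right hℓ.pos (Int.toNat_le_toNat (hgS ▸ h2))))
  let f' : Submodule.torsionBy ℤ T.Pic (ℓ : ℤ) → Submodule.torsionBy ℤ S.Pic (ℓ : ℤ) := fun z => ⟨f z, by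
    rw [Submodule.mem_torsionBy_iff, ← map_zsmul, (Submodule.mem_torsionBy_iff _ _).1 z.2, map_zero]⟩
  haveI : Finite (Submodule.torsionBy ℤ S.Pic (ℓ : ℤ)) := by
    haveI : Module.Finite ℤ (Submodule.torsionBy ℤ S.Pic (ℓ : ℤ)) := inferInstance
    exact Module.finite_of_fg_torsion _ fun z => ⟨⟨(ℓ : ℤ), mem_nonZeroDivisors_of_ne_zero (Nat.cast_ne_zero.2 hℓ.ne_zero)⟩,
      Submodule.smul_torsionBy _ z⟩
  exact Nat.card_le_card_of_injective f' fun a b h => Subtype.ext (hf (congrArg Subtype.val h))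

end Groth.Agent.S2185
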