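import Groth.Statements.S2189
import Groth.Agent.LCI15.Conormal

set_option autoImplicit false
universe u
open CategoryTheory
open LCI

namespace Groth.Agent.S2189

/-- Let R be a Noetherian ring and I an ideal which has finite projective dimension as an R-module and
whose conormal module I/I^2 is finite locally free (projective) over R/I. Then I is a regular ideal:
for every prime p containing I there is g outside p such that the extension of I to R_g is generated
by a regular sequence of R_g. -/
theorem result {R : Type u} [CommRing R]
    [IsNoetherianRing R] (I : Ideal R) (n : ℕ)
    (hpd : HasProjectiveDimensionLT (ModuleCat.of R I) n)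
    [Module.Projective (R ⧸ I) I.Cotangent] (p : Ideal R) [p.IsPrime] (hIp : I ≤ p) :
    ∃ g : R, g ∉ p ∧ ∃ rs : List (Localization.Away g),
      RingTheory.Sequence.IsRegular (Localization.Away g) rs ∧
        Ideal.ofList rs = I.map (algebraMap R (Localization.Away g)) := by
  exact Groth.Agent.LCI15.exists_away_regular I hpd p hIp

end Groth.Agent.S2189
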