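import Groth.Statements.S3349
import Groth.Agent.NumTypeLib.Core

set_option autoImplicit false
open Finset
open Models Models.NumericalType

namespace Groth.Agent.S3349

/-- Let T be a numerical type with exactly one index. Then a_11 = 0 and the genus of T is g = 1 + m_1
w_1 (g_1 - 1). Consequently: if g < 0 then g_1 = 0 (and m_1 w_1 = 1 - g); if g = 0 then m_1 = w_1 =
1 and g_1 = 0; if g = 1 then g_1 = 1; if g > 1 then g_1 > 1 (and m_1 w_1 (g_1 - 1) = g - 1). -/
theorem result (T : Models.NumericalType 1) :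
    T.a 0 0 = 0 ∧ T.genus = 1 + T.m 0 * T.w 0 * (T.g 0 - 1) ∧
      (T.genus < 0 → T.g 0 = 0) ∧ (T.genus = 0 → T.m 0 = 1 ∧ T.w 0 = 1 ∧ T.g 0 = 0) ∧
      (T.genus = 1 → T.g 0 = 1) ∧ (1 < T.genus → 1 < T.g 0) := by
  have ha : T.a 0 0 = 0 := by
    have h := Groth.Agent.NumTypeLib.row_eq T 0
    rw [Fin.sum_univ_one, mul_eq_zero] at h
    exact h.resolve_right (T.m_pos 0).ne'
  have hg : T.genus = 1 + T.m 0 * T.w 0 * (T.g 0 - 1) := by
    simp [Models.NumericalType.genus, ha]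
  have hm := T.m_pos 0
  have hw := T.w_pos 0
  have hM : 0 < T.m 0 * T.w 0 := mul_pos hm hw
  have hn := T.g_nonneg 0
  refine ⟨ha, hg, fun h => ?_, fun h => ?_, fun h => ?_, fun h => ?_⟩ <;> rw [hg] at h
  · by_contra hh
    have : 1 ≤ T.g 0 := by omega
    nlinarith
  · have h0 : T.g 0 = 0 := by
      by_contra hh
      have : 1 ≤ T.g 0 := by omega
      nlinarith
    rw [h0] at h
    exact ⟨Int.eq_one_of_mul_eq_one_right hm.le (show T.m 0 * T.w 0 = 1 by linarith), Int.eq_one_of_mul_eq_one_left hw.le (show T.m 0 * T.w 0 = 1 by linarith), h0⟩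
  · have : T.g 0 - 1 = 0 := (mul_eq_zero.1 (by linarith : T.m 0 * T.w 0 * (T.g 0 - 1) = 0)).resolve_left hM.ne'
    omega
  · have := pos_of_mul_pos_right (by linarith : 0 < T.m 0 * T.w 0 * (T.g 0 - 1)) hM.le
    omega

end Groth.Agent.S3349
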