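import Groth.Statements.S2194
import Mathlib
import Groth.Agent.CommAlg4.DPEnv

set_option linter.all false

set_option autoImplicit false
universe u
open DPow

open Groth.Agent.CommAlg4

namespace Groth.Agent.S2194

/-- Let (A, I) be a ring with a divided power structure on I, B an A-algebra and J an ideal of B
containing I B. Then there is a divided power ring (D, J') with a ring map B -> D carrying J into J'
whose composite with A -> B is a homomorphism of divided power rings, universal for such data: for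
every divided power ring (C, K) with a divided power homomorphism A -> C and every A-algebra map B
-> C carrying J into K there is exactly one divided power homomorphism D -> C compatible with the
maps from B. -/
theorem result {A B : Type u} [CommRing A] [CommRing B] [Algebra A B] {I : Ideal A}
    (γ : DividedPowers I) (J : Ideal B) (hIJ : I.map (algebraMap A B) ≤ J) :
    ∃ (D : Type u) (_ : CommRing D) (_ : Algebra B D) (JD : Ideal D) (γD : DividedPowers JD),
      J.map (algebraMap B D) ≤ JD ∧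
      γ.IsDPMorphism γD ((algebraMap B D).comp (algebraMap A B)) ∧
      ∀ (C : Type u) [CommRing C] [Algebra A C] (K : Ideal C) (δ : DividedPowers K),
        γ.IsDPMorphism δ (algebraMap A C) →
        ∀ ψ : B →ₐ[A] C, J.map ψ ≤ K →
          ∃! χ : D →+* C, χ.comp (algebraMap B D) = ψ ∧ γD.IsDPMorphism δ χ := by
  let F := MvPolynomial (↥J × ℕ) B
  let G : Set F := {g | ∃ (j : J) (n : ℕ), 1 ≤ n ∧ g = MvPolynomial.X (j, n)}
  let T : ∀ (C : Type u) [CommRing C] (K : Ideal C), DividedPowers K → (F →+* C) → Prop :=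
    fun C _ K δ π => γ.IsDPMorphism δ ((π.comp MvPolynomial.C).comp (algebraMap A B)) ∧
      ∀ j : J, π (MvPolynomial.C (j : B)) ∈ K ∧
        ∀ n, π (MvPolynomial.X (j, n)) = δ.dpow n (π (MvPolynomial.C (j : B)))
  obtain ⟨D, _, q, JD, δD, hq, hJD, heq, hd, huniv⟩ := DP.exists_universal G T
    (by
      rintro C _ K δ π ⟨h1, h2⟩ g ⟨i, n, hn, rfl⟩
      rw [(h2 i).2 n]; exact δ.dpow_mem (by omega) (h2 i).1)
    (by
      rintro g ⟨i, n, hn, rfl⟩ m
      refine ⟨(m.uniformBell n : F) * MvPolynomial.X (i, m * n), fun hm => Ideal.mul_mem_left _ _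
          (Ideal.subset_span ⟨i, m * n, Nat.one_le_iff_ne_zero.mpr (Nat.mul_ne_zero hm (by omega)), rfl⟩), ?_⟩
      rintro C _ K δ π ⟨h1, h2⟩
      rw [map_mul, map_natCast, (h2 i).2 (m * n), (h2 i).2 n, δ.dpow_comp (by omega) (h2 i).1])
  letI : Algebra B D := (q.comp MvPolynomial.C).toAlgebra
  have hX1 : ∀ j : J, q (MvPolynomial.X (j, 1)) = q (MvPolynomial.C (j : B)) := fun j =>
    heq _ _ fun C _ K δ π hT => by rw [(hT.2 j).2 1, δ.dpow_one (hT.2 j).1]
  have hj : ∀ b ∈ J, q (MvPolynomial.C b) ∈ JD := fun b hb => by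
    rw [← hX1 ⟨b, hb⟩, hJD]; exact Ideal.mem_map_of_mem q (Ideal.subset_span ⟨⟨b, hb⟩, 1, le_rfl, rfl⟩)
  have hdX : ∀ (j : J) n, δD.dpow n (q (MvPolynomial.C (j : B))) = q (MvPolynomial.X (j, n)) := fun j n =>
    hd n _ _ (hj _ j.2) (fun C _ K δ π hT => (hT.2 j).2 n)
  have hI : ∀ a ∈ I, algebraMap A B a ∈ J := fun a ha => hIJ (Ideal.mem_map_of_mem _ ha)
  refine ⟨D, inferInstance, inferInstance, JD, δD, Ideal.map_le_iff_le_comap.mpr hj,
    ⟨Ideal.map_le_iff_le_comap.mpr fun a ha => hj _ (hI a ha), fun {n} a ha =>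
      hd n _ (MvPolynomial.C (algebraMap A B (γ.dpow n a))) (hj _ (hI a ha))
        fun C _ K δ π hT => (hT.1.dpow_comp a ha).symm⟩, ?_⟩
  intro C _ _ K δ hδ ψ hψ
  let π : F →+* C := MvPolynomial.eval₂Hom ψ.toRingHom fun p => δ.dpow p.2 (ψ (p.1 : B))
  have hψK : ∀ j : J, ψ (j : B) ∈ K := fun j => hψ (Ideal.mem_map_of_mem _ j.2)
  have hπC : ∀ b, π (MvPolynomial.C b) = ψ b := fun b => MvPolynomial.eval₂Hom_C _ _ b
  have hπX : ∀ (j : J) n, π (MvPolynomial.X (j, n)) = δ.dpow n (ψ (j : B)) := fun j n => MvPolynomial.eval₂Hom_X' _ _ _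
  have hcomp : (π.comp MvPolynomial.C).comp (algebraMap A B) = algebraMap A C :=
    RingHom.ext fun a => (hπC _).trans (ψ.commutes a)
  obtain ⟨χ, hχ, hχdp⟩ := huniv C K δ π ⟨by rw [hcomp]; exact hδ, fun j =>
    ⟨by rw [hπC]; exact hψK j, fun n => by rw [hπX, hπC]⟩⟩
  have hχq : ∀ u, χ (q u) = π u := fun u => RingHom.congr_fun hχ u
  refine ⟨χ, ⟨RingHom.ext fun b => (hχq _).trans (hπC b), hχdp⟩, ?_⟩
  rintro χ' ⟨h1, h2⟩
  refine RingHom.ext fun z => ?_
  obtain ⟨u, rfl⟩ := hq z
  have e : χ'.comp q = π := by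
    refine MvPolynomial.ringHom_ext (fun b => ?_) fun p => ?_
    · exact (RingHom.congr_fun h1 b).trans (hπC b).symm
    · change χ' (q (MvPolynomial.X (p.1, p.2))) = π _
      rw [← hdX, hπX]
      rw [← h2.dpow_comp _ (hj _ p.1.2)]
      exact congrArg _ (RingHom.congr_fun h1 _)
  exact (RingHom.congr_fun e u).trans (hχq u).symm

end Groth.Agent.S2194
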