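import Groth.Statements.S2195
import Groth.Agent.FiniteEt.Trace
import Mathlib.Algebra.Algebra.Shrink

set_option autoImplicit false
universe u v
open Disc

namespace Groth.Agent.S2195

/-- Ring form of the statement: let B be an A-algebra which is finite free as an A-module with basis b.
Then A -> B is etale if and only if the discriminant of b (the determinant of the matrix of traces
Tr(b_i b_j)) is a unit of A, i.e. the discriminant locus is empty. -/
theorem result {A : Type u} {B : Type v} [CommRing A] [CommRing B]
    [Algebra A B] {ι : Type} [Fintype ι] [DecidableEq ι] (b : Module.Basis ι A B) :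
    Algebra.Etale A B ↔ IsUnit (Algebra.discr A b) := by
  have : Small.{u} B := small_of_injective b.equivFun.injective
  let e : Shrink.{u} B ≃ₐ[A] B := Shrink.algEquiv A B
  let b' : Module.Basis (ULift.{u} ι) A (Shrink.{u} B) :=
    (b.map e.symm.toLinearEquiv).reindex Equiv.ulift.symm
  have : Module.Free A (Shrink.{u} B) := .of_basis b'
  have : Module.Finite A (Shrink.{u} B) := .of_basis b'
  have h := Groth.Agent.FiniteEt.isUnit_det_iff_etale A (Shrink.{u} B) b'
  rw [← Algebra.discr_def] at h
  have hd : Algebra.discr A b' = Algebra.discr A b := by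
    rw [Module.Basis.coe_reindex, Algebra.discr_reindex, Algebra.discr_eq_discr_of_algEquiv (⇑b) e.symm]
    rfl
  rw [hd] at h
  rw [h]
  exact ⟨fun _ => Algebra.Etale.of_equiv e.symm, fun _ => Algebra.Etale.of_equiv e⟩

end Groth.Agent.S2195
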