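import Groth.Statements.S2202
import Groth.Agent.CAlgH.CIHom


set_option autoImplicit false
universe u
open LCI

namespace Groth.Agent.S2202

/-- Special case: A and B complete. For a local homomorphism A -> B of complete Noetherian local rings,
the following are equivalent: B is a complete intersection with only finitely many nonzero
Tor^A_p(B, k_A); A is a complete intersection and A -> B factors as A -> S -> B with S Noetherian
local, A -> S flat with regular closed fibre S/m_A S, and S -> B surjective with kernel cut out by a
regular sequence (a complete intersection homomorphism). -/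
theorem result {A B : Type u} [CommRing A] [CommRing B] [IsNoetherianRing A]
    [IsNoetherianRing B] [IsLocalRing A] [IsLocalRing B]
    [IsAdicComplete (IsLocalRing.maximalIdeal A) A] [IsAdicComplete (IsLocalRing.maximalIdeal B) B]
    [Algebra A B] [IsLocalHom (algebraMap A B)] :
    (Pi1.IsCompleteIntersection B ∧
        Set.Finite {p : ℕ | ¬Subsingleton (DRing.Tor A p B (IsLocalRing.ResidueField A))}) ↔
      (Pi1.IsCompleteIntersection A ∧
        ∃ (S : Type u) (_ : CommRing S) (_ : IsNoetherianRing S) (_ : IsLocalRing S) (_ : Algebra A S)
          (_ : Module.Flat A S)
          (_ : IsRegularLocalRing (S ⧸ Ideal.map (algebraMap A S) (IsLocalRing.maximalIdeal A)))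
          (g : S →ₐ[A] B), Function.Surjective g ∧
            ∃ rs : List S, Ideal.ofList rs = RingHom.ker g ∧ RingTheory.Sequence.IsRegular S rs) := by
  exact CAlgH.CIHom.avramov_map_complete

end Groth.Agent.S2202
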