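import Groth.Statements.S2203
import Mathlib.CategoryTheory.Preadditive.AdditiveFunctor
import Mathlib.Algebra.Category.ModuleCat.Abelian
import Mathlib.Algebra.Category.ModuleCat.Projective

set_option autoImplicit false
universe u
open CategoryTheory
open QCohCat

set_option backward.isDefEq.respectTransparency.types false
set_option backward.isDefEq.respectTransparency false

namespace Groth.Agent.S2203


/-- Ring-isomorphism part of the statement: let A and B be commutative rings whose categories of modules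
are equivalent. Then A and B are isomorphic as rings. (The source moreover describes the equivalence
as base change followed by tensoring with an invertible module.) -/
theorem result (A B : Type u) [CommRing A] [CommRing B]
    (F : ModuleCat.{u} A ≌ ModuleCat.{u} B) : Nonempty (A ≃+* B) := by
  haveI : F.functor.Additive := Functor.additive_of_preserves_binary_products _
  have scalar : ∀ {R : Type u} [CommRing R] (τ : ∀ N : ModuleCat.{u} R, N ⟶ N)
      (_ : ∀ {M N : ModuleCat.{u} R} (g : M ⟶ N), τ M ≫ g = g ≫ τ N) (N : ModuleCat.{u} R),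
      τ N = ((τ (ModuleCat.of R R)).hom (1 : R) : R) • 𝟙 N := by
    intro R _ τ hτ N
    ext x
    have h := congrArg (fun k => k.hom (1 : R)) (hτ (ModuleCat.ofHom (LinearMap.toSpanSingleton R N x) : ModuleCat.of R R ⟶ N))
    simp at h
    simpa using h.symm
  let τ : A → ∀ N : ModuleCat.{u} B, N ⟶ N := fun a N =>
    F.counitInv.app N ≫ F.functor.map (a • 𝟙 (F.inverse.obj N)) ≫ F.counit.app N
  have hτ : ∀ (a : A) {M N : ModuleCat.{u} B} (g : M ⟶ N), τ a M ≫ g = g ≫ τ a N := fun a M N g => by
    have h1 : (a • 𝟙 (F.inverse.obj M)) ≫ F.inverse.map g = F.inverse.map g ≫ (a • 𝟙 (F.inverse.obj N)) := by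
      simp
    calc τ a M ≫ g = F.counitInv.app M ≫ F.functor.map (a • 𝟙 _) ≫ F.functor.map (F.inverse.map g) ≫ F.counit.app N := by
          simp [τ]
      _ = F.counitInv.app M ≫ F.functor.map (F.inverse.map g) ≫ F.functor.map (a • 𝟙 _) ≫ F.counit.app N := by
          rw [← F.functor.map_comp_assoc, h1, F.functor.map_comp_assoc]
      _ = g ≫ τ a N := by simp [τ]
  let φ : A → B := fun a => (τ a (ModuleCat.of B B)).hom (1 : B)
  have hφ : ∀ (a : A) (M : ModuleCat.{u} A), F.functor.map (a • 𝟙 M) = φ a • 𝟙 (F.functor.obj M) := fun a M => by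
    rw [← scalar (τ a) (hτ a) (F.functor.obj M)]
    show _ = F.counitInv.app _ ≫ F.functor.map (a • 𝟙 _) ≫ F.counit.app _
    rw [F.counitInv_app_functor, F.counit_app_functor, ← F.functor.map_comp, ← F.functor.map_comp]
    congr 1
    simp
  have cancelA : ∀ {a a' : A}, a • 𝟙 (ModuleCat.of A A) = a' • 𝟙 (ModuleCat.of A A) → a = a' := fun h => by
    simpa using congrArg (fun k => k.hom (1 : A)) h
  have cancelB : ∀ {b b' : B}, b • 𝟙 (ModuleCat.of B B) = b' • 𝟙 (ModuleCat.of B B) → b = b' := fun h => by
    simpa using congrArg (fun k => k.hom (1 : B)) h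
  have cancel' : ∀ {b b' : B}, (∀ M : ModuleCat.{u} A, b • 𝟙 (F.functor.obj M) = b' • 𝟙 (F.functor.obj M)) → b = b' := fun {b b'} h => by
    apply cancelB
    have h2 := h (F.inverse.obj (ModuleCat.of B B))
    calc b • 𝟙 (ModuleCat.of B B) = F.counitInv.app _ ≫ (b • 𝟙 _) ≫ F.counit.app _ := by simp
      _ = F.counitInv.app _ ≫ (b' • 𝟙 _) ≫ F.counit.app _ := congrArg (F.counitInv.app _ ≫ · ≫ F.counit.app _) h2
      _ = b' • 𝟙 (ModuleCat.of B B) := by simp
  refine ⟨RingEquiv.ofBijective
    ({ toFun := φ
       map_one' := cancel' fun M => by rw [← hφ, one_smul, F.functor.map_id, one_smul]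
       map_zero' := cancel' fun M => by rw [← hφ, zero_smul, F.functor.map_zero, zero_smul]
       map_add' := fun a a' => cancel' fun M => by rw [← hφ, add_smul, F.functor.map_add, hφ, hφ, add_smul]
       map_mul' := fun a a' => cancel' fun M => by
        rw [← hφ, show (a * a') • 𝟙 M = (a' • 𝟙 M) ≫ (a • 𝟙 M) by simp [smul_smul],
          F.functor.map_comp, hφ, hφ]
        simp [smul_smul] } : A →+* B) ⟨fun a a' h => ?_, fun b => ?_⟩⟩
  · refine cancelA (F.functor.map_injective ?_)
    rw [hφ, hφ]
    exact congrArg (· • 𝟙 _) h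
  · let η : ∀ M : ModuleCat.{u} A, M ⟶ M := fun M => F.functor.preimage (b • 𝟙 (F.functor.obj M))
    have hη : ∀ {M N : ModuleCat.{u} A} (g : M ⟶ N), η M ≫ g = g ≫ η N := fun {M N} g => F.functor.map_injective (by
      simp [η])
    refine ⟨(η (ModuleCat.of A A)).hom (1 : A), cancel' fun M => ?_⟩
    show φ ((η (ModuleCat.of A A)).hom (1 : A)) • 𝟙 (F.functor.obj M) = _
    rw [← hφ, ← scalar η hη M]
    simp [η]

end Groth.Agent.S2203
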