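import Groth.Statements.S2204
import Mathlib

set_option autoImplicit false
universe u
open CategoryTheory CategoryTheory.Limits TensorProduct
open QCohCat

open CategoryTheory CategoryTheory.Limits TensorProduct

namespace Groth.Agent.S2204

/-- The implication (2) to (1): for commutative rings A and B, any functor from A-modules to B-modules
preserving finite colimits and arbitrary direct sums is given by tensoring: there is a module K over
both A and B with commuting actions and B-linear isomorphisms K tensor_A M = F(M), natural in the
A-module M. -/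
theorem result (A B : Type u) [CommRing A]
    [CommRing B] (F : ModuleCat.{u} A ⥤ ModuleCat.{u} B) [PreservesFiniteColimits F]
    (hsum : ∀ J : Type u, PreservesColimitsOfShape (Discrete J) F) :
    ∃ (K : Type u) (_ : AddCommGroup K) (_ : Module A K) (_ : Module B K) (_ : SMulCommClass A B K)
      (η : ∀ M : ModuleCat.{u} A, (K ⊗[A] M) ≃ₗ[B] F.obj M),
      ∀ (M N : ModuleCat.{u} A) (f : M ⟶ N) (x : K ⊗[A] M),
        η N (LinearMap.lTensor K f.hom x) = F.map f (η M x) := by
  classical
  haveI : F.Additive := by
    haveI : PreservesColimitsOfShape (Discrete WalkingPair) F := inferInstance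
    haveI := preservesBinaryBiproducts_of_preservesBinaryCoproducts F
    exact Functor.additive_of_preservesBinaryBiproducts F
  let AA : ModuleCat.{u} A := ModuleCat.of A A
  let K : Type u := F.obj AA
  let act : A →+* Module.End B (F.obj AA) :=
    { toFun := fun a => (F.map (a • 𝟙 AA)).hom
      map_one' := by rw [one_smul, F.map_id]; rfl
      map_mul' := fun a b => by
        show _ = (F.map (b • 𝟙 AA) ≫ F.map (a • 𝟙 AA)).hom
        rw [← F.map_comp]
        congr 2
        simp [smul_smul]
      map_zero' := by rw [zero_smul, F.map_zero]; rfl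
      map_add' := fun a b => by rw [add_smul, F.map_add]; rfl }
  letI : Module A K :=
    { smul := fun a x => act a x
      one_smul := fun x => by show act 1 x = x; rw [map_one]; rfl
      mul_smul := fun a b x => by show act (a * b) x = act a (act b x); rw [map_mul]; rfl
      smul_zero := fun a => map_zero _
      smul_add := fun a x y => map_add _ x y
      add_smul := fun a b x => by show act (a + b) x = act a x + act b x; rw [map_add]; rfl
      zero_smul := fun x => by show act 0 x = 0; rw [map_zero]; rfl }
  haveI hcomm : SMulCommClass A B K := ⟨fun a b x => map_smul (act a) b x⟩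
  let ψ : ∀ (M : ModuleCat.{u} A), M → (AA ⟶ M) := fun M m => ModuleCat.ofHom (LinearMap.toSpanSingleton A M m)
  have hψadd : ∀ M m m', ψ M (m + m') = ψ M m + ψ M m' := fun M m m' =>
    ModuleCat.hom_ext (LinearMap.ext fun r => smul_add r m m')
  have hψsmul : ∀ M (a : A) m, ψ M (a • m) = (a • 𝟙 AA) ≫ ψ M m := fun M a m =>
    ModuleCat.hom_ext (LinearMap.ext fun r => ((smul_smul r a m).trans (by rw [mul_comm]; rfl)))
  let β : ∀ M : ModuleCat.{u} A, K →+ M →+ F.obj M := fun M =>
    AddMonoidHom.mk' (fun x => AddMonoidHom.mk' (fun m => F.map (ψ M m) x) (fun m m' => by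
      rw [hψadd, F.map_add]; rfl)) (fun x y => AddMonoidHom.ext fun m => map_add (F.map (ψ M m)).hom x y)
  have hbal : ∀ (M : ModuleCat.{u} A) (a : A) (x : K) (m : M), β M (a • x) m = β M x (a • m) := fun M a x m => by
    show F.map (ψ M m) (F.map (a • 𝟙 AA) x) = F.map (ψ M (a • m)) x
    refine Eq.trans ?_ (congrArg (fun q => F.map q x) (hψsmul M a m).symm)
    exact (congrArg (fun q => q.hom x) (F.map_comp (a • 𝟙 AA) (ψ M m))).symm
  let ℓ : ∀ M : ModuleCat.{u} A, K ⊗[A] M →+ F.obj M := fun M => TensorProduct.liftAddHom (β M) (hbal M)
  let θ : ∀ M : ModuleCat.{u} A, K ⊗[A] M →ₗ[B] F.obj M := fun M =>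
    { toFun := ℓ M
      map_add' := map_add (ℓ M)
      map_smul' := fun b t => by
        induction t using TensorProduct.induction_on with
        | zero => rw [smul_zero]; exact (map_zero (ℓ M)).trans ((congrArg _ (map_zero (ℓ M))).trans (smul_zero _)).symm
        | tmul x m => exact map_smul (F.map (ψ M m)).hom b x
        | add s t hs ht =>
          rw [RingHom.id_apply] at hs ht ⊢
          rw [smul_add, map_add (ℓ M), map_add (ℓ M), smul_add, hs, ht] }
  have hnat : ∀ (M N : ModuleCat.{u} A) (f : M ⟶ N) (x : K ⊗[A] M),
      θ N (LinearMap.lTensor K f.hom x) = F.map f (θ M x) := by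
    intro M N f x
    induction x using TensorProduct.induction_on with
    | zero => simp
    | tmul x m =>
      show F.map (ψ N (f m)) x = F.map f (F.map (ψ M m) x)
      rw [show ψ N (f m) = ψ M m ≫ f from ModuleCat.hom_ext (LinearMap.ext fun r => (map_smul f.hom r m).symm),
        F.map_comp]
      rfl
    | add s t hs ht => simp only [map_add, hs, ht]
  have hfree : ∀ J : Type u, Function.Bijective (θ (ModuleCat.of A (J →₀ A))) := by
    intro J
    let P := ModuleCat.of A (J →₀ A)
    let e : J → P := fun j => Finsupp.single j 1
    let c : Cofan (fun _ : J => AA) := Cofan.mk P fun j => ψ P (e j)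
    let hc : IsColimit c := mkCofanColimit c
      (fun s => ModuleCat.ofHom (Finsupp.linearCombination A fun j => (s.inj j).hom (1 : A)))
      (fun s j => ModuleCat.hom_ext (LinearMap.ext_ring (by
        show Finsupp.linearCombination A (fun j => (s.inj j).hom (1 : A)) ((1 : A) • Finsupp.single j 1) = _
        simp)))
      (fun s m hm => ModuleCat.hom_ext (Finsupp.lhom_ext fun j r => by
        have h1 : m.hom ((1 : A) • Finsupp.single j 1) = (s.inj j).hom (1 : A) :=
          congrArg (fun q => q.hom (1 : A)) (hm j)
        rw [one_smul] at h1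
        show m.hom (Finsupp.single j r) = Finsupp.linearCombination A _ (Finsupp.single j r)
        rw [Finsupp.linearCombination_single, ← h1, ← map_smul, Finsupp.smul_single', mul_one]))
    haveI := hsum J
    let hFc := isColimitOfPreserves F hc
    let s : Cocone (Discrete.functor (fun _ : J => AA) ⋙ F) :=
      { pt := ModuleCat.of B (K ⊗[A] P)
        ι := Discrete.natTrans fun j => ModuleCat.ofHom
          { toFun := fun x => (show K from x) ⊗ₜ[A] e j.as
            map_add' := fun x y => TensorProduct.add_tmul _ _ _
            map_smul' := fun b x => rfl } }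
    let inv := hFc.desc s
    have hinv : ∀ j (x : K), inv (F.map (ψ P (e j)) x) = x ⊗ₜ[A] e j := fun j x =>
      congrArg (fun q => q.hom x) (hFc.fac s ⟨j⟩)
    have h1 : ∀ t, inv (θ P t) = t := by
      intro t
      induction t using TensorProduct.induction_on with
      | zero => simp
      | tmul x p =>
        induction p using Finsupp.induction_linear with
        | zero => rw [TensorProduct.tmul_zero, map_zero]; exact map_zero _
        | add p q hp hq => rw [TensorProduct.tmul_add, map_add]; exact (map_add _ _ _).trans (congrArg₂ _ hp hq)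
        | single j r =>
          rw [show (Finsupp.single j r : P) = r • e j from (Finsupp.smul_single_one j r).symm, TensorProduct.tmul_smul, TensorProduct.smul_tmul']
          exact hinv j _
      | add s t hs ht => rw [map_add]; exact (map_add _ _ _).trans (congrArg₂ _ hs ht)
    have h2 : inv ≫ ModuleCat.ofHom (θ P) = 𝟙 _ := hFc.hom_ext fun ⟨j⟩ => by
      ext x
      exact (congrArg (θ P) (hinv j x))
    exact ⟨Function.LeftInverse.injective h1, fun z => ⟨inv z, congrArg (fun q => q.hom z) h2⟩⟩
  have hbij : ∀ M, Function.Bijective (θ M) := by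
    intro M
    let P0 := ModuleCat.of A (M →₀ A)
    let π : P0 ⟶ M := ModuleCat.ofHom (Finsupp.linearCombination A (id : M → M))
    let R := LinearMap.ker π.hom
    let P1 := ModuleCat.of A (R →₀ A)
    let d : P1 ⟶ P0 := ModuleCat.ofHom (Finsupp.linearCombination A (fun r : R => (r.1 : P0)))
    have hπ : Function.Surjective π.hom := fun m => ⟨Finsupp.single m 1, (Finsupp.linearCombination_single A 1 m).trans (one_smul _ _)⟩
    have hd : d ≫ π = 0 := ModuleCat.hom_ext (Finsupp.lhom_ext fun r a => by
      show π.hom (Finsupp.linearCombination A _ (Finsupp.single r a)) = 0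
      rw [Finsupp.linearCombination_single, map_smul, r.2, smul_zero])
    let S := ShortComplex.mk d π hd
    have hS : S.Exact := S.moduleCat_exact_iff.2 fun x hx => ⟨Finsupp.single ⟨x, hx⟩ 1, by
      show Finsupp.linearCombination A _ _ = x
      simp⟩
    haveI : Epi π := (ModuleCat.epi_iff_surjective _).2 hπ
    haveI : Epi S.g := inferInstanceAs (Epi π)
    haveI : F.PreservesZeroMorphisms := inferInstance
    have hFS := hS.map_of_epi_of_preservesCokernel F inferInstance inferInstance
    have hFπ : Function.Surjective (F.map π) := (ModuleCat.epi_iff_surjective _).1 inferInstance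
    refine ⟨(injective_iff_map_eq_zero _).2 fun x hx => ?_, fun z => ?_⟩
    · obtain ⟨y, rfl⟩ := LinearMap.lTensor_surjective K hπ x
      rw [hnat] at hx
      obtain ⟨z, hz⟩ := (S.map F).moduleCat_exact_iff.1 hFS _ hx
      obtain ⟨w, rfl⟩ := (hfree _).2 z
      have : y = LinearMap.lTensor K d.hom w := (hfree _).1 (hz.symm.trans (hnat P1 P0 d w).symm)
      rw [this, ← LinearMap.comp_apply, ← LinearMap.lTensor_comp, ← ModuleCat.hom_comp, hd]
      simp
    · obtain ⟨w, rfl⟩ := hFπ z
      obtain ⟨y, rfl⟩ := (hfree _).2 w
      exact ⟨_, hnat _ _ π y⟩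
  exact ⟨K, inferInstance, inferInstance, inferInstance, hcomm, fun M => LinearEquiv.ofBijective (θ M) (hbij M), hnat⟩

end Groth.Agent.S2204
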