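import Groth.Statements.S2209
import Groth.Agent.Inters29.Connected
import Groth.Agent.Inters29.Matrix

set_option autoImplicit false
universe u
open CategoryTheory AlgebraicGeometry
open Models

namespace Groth.Agent.S2209

/-- Let R be a discrete valuation ring with fraction field K, C a smooth proper curve over K whose ring
of global functions is K (the map K -> H^0(C, O_C) is an isomorphism), and X a regular proper model
of C over R. Then the special fibre of X is connected. -/
theorem result (R : Type u) [CommRing R] [IsDomain R]
    [IsDiscreteValuationRing R] (C X : Scheme.{u})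
    (f : C ⟶ Spec (CommRingCat.of (FractionRing R))) (p : X ⟶ Spec (CommRingCat.of R))
    (hC : Curve.IsSmoothProperCurve (FractionRing R) C f) (hH0 : IsIso f.appTop)
    (hX : Models.IsRegularProperModel R X p C f) :
    ConnectedSpace ↥(Models.specialFibre R X p) := by
  obtain ⟨-, -, hint, -⟩ := hC
  obtain ⟨hm, hp, hreg⟩ := hX
  haveI := hint
  haveI := Groth.Agent.Inters29.isIntegral_model R hm hreg
  haveI := hp
  obtain ⟨g, hg⟩ := hm.2.2.2
  have hconn := Groth.Agent.Inters29.isConnected_specialFibreSet R hH0 g hg
  let c := Spec.map (CommRingCat.ofHom (algebraMap R (IsLocalRing.ResidueField R)))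
  haveI : IsClosedImmersion c := IsClosedImmersion.spec_of_surjective _ IsLocalRing.residue_surjective
  have hc : Set.range c = {IsLocalRing.closedPoint R} := by
    ext z
    constructor
    · rintro ⟨t, rfl⟩
      rw [Subsingleton.elim t (IsLocalRing.closedPoint _)]
      exact IsLocalRing.comap_closedPoint (IsLocalRing.residue R)
    · rintro rfl
      exact ⟨IsLocalRing.closedPoint _, IsLocalRing.comap_closedPoint (IsLocalRing.residue R)⟩
  have he := (CategoryTheory.Limits.pullback.fst p c).isEmbedding
  show ConnectedSpace ↥(CategoryTheory.Limits.pullback p c)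
  rw [← hc, ← Scheme.Pullback.range_fst, ← Set.image_univ] at hconn
  rw [connectedSpace_iff_univ]
  exact ⟨hconn.nonempty.of_image, he.isInducing.isPreconnected_image.1 hconn.isPreconnected⟩

end Groth.Agent.S2209
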