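import Groth.Statements.S2213
import Mathlib
import Groth.Agent.CommAlg4.DPEnv

set_option linter.all false

set_option autoImplicit false
universe u
open DPow

open Groth.Agent.CommAlg4

namespace Groth.Agent.S2213

/-- Let (A, I) be a ring with divided powers and t a natural number. There is a divided power ring (D,
J) with an A-algebra structure making A -> D a divided power homomorphism and elements x_1, ..., x_t
of J, such that for every divided power ring (C, K) with a divided power homomorphism A -> C and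
every choice of k_1, ..., k_t in K there is exactly one divided power homomorphism D -> C over A
sending x_i to k_i (the divided power polynomial algebra). -/
theorem result {A : Type u} [CommRing A] {I : Ideal A} (γ : DividedPowers I) (t : ℕ) :
    ∃ (D : Type u) (_ : CommRing D) (_ : Algebra A D) (J : Ideal D) (δ : DividedPowers J)
      (x : Fin t → D), (∀ i, x i ∈ J) ∧ γ.IsDPMorphism δ (algebraMap A D) ∧
      ∀ (C : Type u) [CommRing C] [Algebra A C] (K : Ideal C) (ε : DividedPowers K),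
        γ.IsDPMorphism ε (algebraMap A C) → ∀ k : Fin t → C, (∀ i, k i ∈ K) →
          ∃! φ : D →ₐ[A] C, (∀ i, φ (x i) = k i) ∧ δ.IsDPMorphism ε φ.toRingHom := by
  let F := MvPolynomial (Fin t × ℕ) A
  let G : Set F := {g | ∃ i n, 1 ≤ n ∧ g = MvPolynomial.X (i, n)} ∪ MvPolynomial.C '' (I : Set A)
  let T : ∀ (C : Type u) [CommRing C] (K : Ideal C), DividedPowers K → (F →+* C) → Prop :=
    fun C _ K δ π => γ.IsDPMorphism δ (π.comp MvPolynomial.C) ∧
      ∀ i, π (MvPolynomial.X (i, 1)) ∈ K ∧ ∀ n, π (MvPolynomial.X (i, n)) = δ.dpow n (π (MvPolynomial.X (i, 1)))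
  obtain ⟨D, _, q, JD, δD, hq, hJD, heq, hd, huniv⟩ := DP.exists_universal G T
    (by
      rintro C _ K δ π ⟨h1, h2⟩ g (⟨i, n, hn, rfl⟩ | ⟨a, ha, rfl⟩)
      · rw [(h2 i).2 n]; exact δ.dpow_mem (by omega) (h2 i).1
      · exact h1.ideal_comp (Ideal.mem_map_of_mem _ ha))
    (by
      rintro g (⟨i, n, hn, rfl⟩ | ⟨a, ha, rfl⟩) m
      · refine ⟨(m.uniformBell n : F) * MvPolynomial.X (i, m * n), fun hm => Ideal.mul_mem_left _ _
          (Ideal.subset_span (Or.inl ⟨i, m * n, Nat.one_le_iff_ne_zero.mpr (Nat.mul_ne_zero hm (by omega)), rfl⟩)), ?_⟩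
        rintro C _ K δ π ⟨h1, h2⟩
        rw [map_mul, map_natCast, (h2 i).2 (m * n), (h2 i).2 n, δ.dpow_comp (by omega) (h2 i).1]
      · refine ⟨MvPolynomial.C (γ.dpow m a),
          fun hm => Ideal.subset_span (Or.inr ⟨_, γ.dpow_mem hm ha, rfl⟩), ?_⟩
        rintro C _ K δ π ⟨h1, h2⟩
        exact (h1.dpow_comp a ha).symm)
  letI : Algebra A D := (q.comp MvPolynomial.C).toAlgebra
  have hX : ∀ i, q (MvPolynomial.X (i, 1)) ∈ JD := fun i => hJD ▸ Ideal.mem_map_of_mem q
    (Ideal.subset_span (Or.inl ⟨i, 1, le_rfl, rfl⟩))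
  have hC : ∀ a ∈ I, q (MvPolynomial.C a) ∈ JD := fun a ha => hJD ▸ Ideal.mem_map_of_mem q
    (Ideal.subset_span (Or.inr ⟨a, ha, rfl⟩))
  have hdX : ∀ i n, δD.dpow n (q (MvPolynomial.X (i, 1))) = q (MvPolynomial.X (i, n)) := fun i n =>
    hd n _ _ (hX i) (fun C _ K δ π hT => (hT.2 i).2 n)
  refine ⟨D, inferInstance, inferInstance, JD, δD, fun i => q (MvPolynomial.X (i, 1)), hX,
    ⟨Ideal.map_le_iff_le_comap.mpr hC, fun {n} a ha =>
      hd n _ (MvPolynomial.C (γ.dpow n a)) (hC a ha) fun C _ K δ π hT => (hT.1.dpow_comp a ha).symm⟩, ?_⟩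
  intro C _ _ K ε hε k hk
  let π : F →+* C := MvPolynomial.eval₂Hom (algebraMap A C) fun p => ε.dpow p.2 (k p.1)
  have hπC : π.comp MvPolynomial.C = algebraMap A C := RingHom.ext fun a => MvPolynomial.eval₂Hom_C _ _ a
  have hπX : ∀ i n, π (MvPolynomial.X (i, n)) = ε.dpow n (k i) := fun i n => MvPolynomial.eval₂Hom_X' _ _ _
  obtain ⟨χ, hχ, hχdp⟩ := huniv C K ε π ⟨by rw [hπC]; exact hε, fun i =>
    ⟨by rw [hπX, ε.dpow_one (hk i)]; exact hk i, fun n => by rw [hπX, hπX, ε.dpow_one (hk i)]⟩⟩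
  have hχq : ∀ u, χ (q u) = π u := fun u => RingHom.congr_fun hχ u
  let φ : D →ₐ[A] C := ⟨χ, fun a => (hχq _).trans (RingHom.congr_fun hπC a)⟩
  refine ⟨φ, ⟨fun i => ?_, hχdp⟩, ?_⟩
  · change χ (q (MvPolynomial.X (i, 1))) = k i
    rw [hχq, hπX, ε.dpow_one (hk i)]
  · rintro ψ ⟨hψ1, hψ2⟩
    refine AlgHom.ext fun z => ?_
    obtain ⟨u, rfl⟩ := hq z
    have e : ψ.toRingHom.comp q = π := by
      refine MvPolynomial.ringHom_ext (fun a => ?_) fun p => ?_
      · exact (ψ.commutes a).trans (RingHom.congr_fun hπC a).symm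
      · change ψ (q (MvPolynomial.X (p.1, p.2))) = π _
        rw [← hdX, hπX, ← hψ1 p.1]
        exact (hψ2.dpow_comp _ (hX p.1)).symm
    exact (RingHom.congr_fun e u).trans (hχq u).symm

end Groth.Agent.S2213
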