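import Groth.Statements.S2214
import Groth.Agent.QCohFP14.HomColim
import Groth.Agent.CAlgSmall.FPFiltered
import Groth.Agent.SerreDual.QCohCat
import Groth.Agent.H8Lim.ModFPDescent

set_option autoImplicit false
universe u
open CategoryTheory AlgebraicGeometry
open QCohCat

namespace Groth.Agent.S2214
open CategoryTheory.Limits

theorem isFP_of_retract {X : Scheme.{u}} {F G : X.Modules} [Coh.IsQCoh G] (hG : CohB1.IsFP G)
    (s : F ⟶ G) (r : G ⟶ F) (h : s ≫ r = 𝟙 F) : CohB1.IsFP F := by
  haveI : IsSplitEpi r := IsSplitEpi.mk' ⟨s, h⟩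
  have hz : (𝟙 G - r ≫ s) ≫ r = 0 := by
    rw [Preadditive.sub_comp, Category.id_comp, Category.assoc, h, Category.comp_id, sub_self]
  have hc : IsColimit (CokernelCofork.ofπ r hz) :=
    CokernelCofork.IsColimit.ofπ r hz (fun g _ => s ≫ g)
      (fun g hg => by
        rw [Preadditive.sub_comp, Category.id_comp, Category.assoc, sub_eq_zero] at hg
        exact hg.symm)
      (fun g hg m hm => by rw [← hm, ← Category.assoc, h, Category.id_comp])
  have hE : CohB1.IsFP (cokernel (𝟙 G - r ≫ s)) := H8Lim.isFP_cokernel _ (CAlgSmall.FPExtend.isFT_of_isFP G hG) hG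
  exact (SheafOfModules.isFinitePresentation X.ringCatSheaf).prop_of_iso
    ((cokernelIsCokernel (𝟙 G - r ≫ s)).coconePointUniqueUpToIso hc) hE


/-- For a qcqs scheme X and a quasi-coherent O_X-module F: Hom(F, -) on QCoh(O_X) commutes with filtered
colimits (F is categorically compact) if and only if F is an O_X-module of finite presentation. -/
theorem result (X : Scheme.{u}) [CompactSpace X]
    [QuasiSeparatedSpace X] (F : QCohCat.QCoh X) :
    IsFinitelyPresentable.{u} F ↔ SheafOfModules.IsFinitePresentation F.obj := by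
  haveI : Coh.IsQCoh F.obj := F.property
  constructor
  · intro hF
    obtain ⟨I, _, _, D, c, hc, hFP, hpt⟩ := CAlgSmall.FPFiltered.exists_filtered F.obj
    let D' : I ⥤ QCohCat.QCoh X :=
      (QCohCat.isQCoh X).lift D fun i => CAlgSmall.FPExtend.isQCoh_of_isFP _ (hFP i)
    let e : c.pt ≅ F.obj := eqToIso hpt
    let c' : Cocone D' := Cocone.mk F
      { app := fun i => ObjectProperty.homMk (c.ι.app i ≫ e.hom)
        naturality := fun i j φ => ObjectProperty.hom_ext _
          ((Category.assoc _ _ _).symm.trans ((congrArg (· ≫ e.hom) (c.w φ)).trans (Category.comp_id _).symm)) }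
    have hc' : IsColimit c' := isColimitOfReflects (QCohCat.isQCoh X).ι
      (hc.ofIsoColimit (Cocone.ext e fun i => rfl))
    obtain ⟨i, s, hs⟩ := IsFinitelyPresentable.exists_hom_of_isColimit hc' (𝟙 F)
    haveI : Coh.IsQCoh (D'.obj i).obj := (D'.obj i).property
    exact isFP_of_retract (hFP i) s.hom (c'.ι.app i).hom (congrArg (fun z => z.hom) hs)
  · intro hF
    rw [isFinitelyPresentable_iff_preservesFilteredColimitsOfSize]
    refine ⟨fun J _ _ => ⟨fun {D} => ⟨fun {c} hc => ⟨?_⟩⟩⟩⟩
    let c₀ := (QCohCat.isQCoh X).ι.mapCocone c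
    have hc₀ : IsColimit c₀ := isColimitOfPreserves _ hc
    have hD : ∀ j, Coh.IsQCoh ((D ⋙ (QCohCat.isQCoh X).ι).obj j) := fun j => (D.obj j).property
    refine Types.FilteredColimit.isColimitOf' _ _ (fun h => ?_) (fun j g g' h => ?_)
    · obtain ⟨j, g, hg⟩ := QCohFP14.exists_stage_hom hc₀ hD F.obj hF h.hom
      exact ⟨j, ObjectProperty.homMk g, ObjectProperty.hom_ext _ hg.symm⟩
    · have h0 : (g.hom - g'.hom) ≫ c₀.ι.app j = 0 := by
        rw [Preadditive.sub_comp, sub_eq_zero]
        exact congrArg (fun z => z.hom) h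
      obtain ⟨k, f, hf⟩ := QCohFP14.exists_stage_eq_zero hc₀ hD F.obj
        (CAlgSmall.FPExtend.isFT_of_isFP F.obj hF) _ h0
      rw [Preadditive.sub_comp, sub_eq_zero] at hf
      exact ⟨k, f, ObjectProperty.hom_ext _ hf⟩

end Groth.Agent.S2214
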