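import Groth.Statements.S2219
import Groth.Agent.Disc12.LocalTrace

set_option autoImplicit false
universe u
open Disc

namespace Groth.Agent.S2219

/-- Equivalence of (1) and (3): let k be a field and A a finite-dimensional local k-algebra with residue
field k'. Then the trace map Tr_{A/k} is not identically zero if and only if k' is separable over k
and the length of A as a module over itself is not divisible by the characteristic of k (no
condition in characteristic zero). -/
theorem result (k A : Type u) [Field k] [CommRing A]
    [Algebra k A] [FiniteDimensional k A] [IsLocalRing A] :
    Algebra.trace k A ≠ 0 ↔
      (Algebra.IsSeparable k (IsLocalRing.ResidueField A) ∧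
        ∀ p : ℕ, p.Prime → CharP k p → ¬ p ∣ (Module.length A A).toNat) := by
  exact Groth.Agent.Disc12.trace_ne_zero_iff

end Groth.Agent.S2219
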