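import Groth.Statements.S2223
import Groth.Agent.Models7.PicModel
import Groth.Agent.Inters29.FibrePullback
-- import your own Groth.Agent.* helpers here

set_option autoImplicit false
set_option linter.style.haveILetI false
set_option backward.isDefEq.respectTransparency false
universe u
open CategoryTheory AlgebraicGeometry
open Models

namespace Groth.Agent.S2223

/-- Weakened form (special fibre instead of its reduction, which follows from the source): let R be a
discrete valuation ring with fraction field K and residue field k, C a smooth proper curve over K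
with H^0(C, O_C) = K, and X a regular proper model of C. Let h be a positive integer prime to the
characteristic of k and L an invertible O_X-module whose h-th tensor power is trivial. If the
pullback of L to the special fibre is trivial then L is trivial; i.e. Pic(X)[h] -> Pic(X_k)[h] is
injective. -/
theorem result (R : Type u) [CommRing R] [IsDomain R]
    [IsDiscreteValuationRing R] (C X : Scheme.{u})
    (f : C ⟶ Spec (CommRingCat.of (FractionRing R))) (p : X ⟶ Spec (CommRingCat.of R))
    (hC : Curve.IsSmoothProperCurve (FractionRing R) C f) (hH0 : IsIso f.appTop)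
    (hX : Models.IsRegularProperModel R X p C f) (h : ℕ) (hh : 0 < h)
    (hchar : ∀ q : ℕ, q.Prime → CharP (IsLocalRing.ResidueField R) q → ¬ q ∣ h)
    (L : X.Modules) (hL : PicF.IsInvertible L)
    (htors : Nonempty (CohB1.tensorPow L h ≅ Coh.structureModule X))
    (htriv : Nonempty ((Scheme.Modules.pullback
        (Limits.pullback.fst p (Spec.map (CommRingCat.ofHom
          (algebraMap R (IsLocalRing.ResidueField R)))))).obj L ≅
        Coh.structureModule (Models.specialFibre R X p))) :
    Nonempty (L ≅ Coh.structureModule X) := by
  haveI := hX.2.1
  haveI : QuasiCompact (Over.mk p).hom := inferInstanceAs (QuasiCompact p)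
  let c := Spec.map (CommRingCat.ofHom (algebraMap R (IsLocalRing.ResidueField R)))
  let j := Limits.pullback.fst p c
  haveI : IsClosedImmersion c := Groth.Agent.Inters29.isClosedImmersion_residue R
  haveI : IsClosedImmersion j := MorphismProperty.pullback_fst _ _ inferInstance
  have hle : j.ker ≤ (Models.redFibreIdeal R (Over.mk p)).subschemeι.ker := by
    rw [Scheme.IdealSheafData.ker_subschemeι]
    refine le_of_eq_of_le (Groth.Agent.Inters29.ker_fst_specialFibre R (X := Over.mk p)) ?_
    exact Scheme.IdealSheafData.le_support_iff_le_vanishingIdeal.1
      (Groth.Agent.Inters29.support_specialFibreIdeal R (X := Over.mk p)).ge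
  let σ := IsClosedImmersion.lift j (Models.redFibreIdeal R (Over.mk p)).subschemeι hle
  have hσ : σ ≫ j = (Models.redFibreIdeal R (Over.mk p)).subschemeι := IsClosedImmersion.lift_fac _ _ _
  refine Groth.Agent.Models7.torsion_trivial hC hH0 hX hh hchar hL htors ?_
  have h1 := (Groth.Agent.PicLib.PicM.of_eq_one_iff (PicLoc.isInvertible_pullback j hL)).2 htriv
  rw [← Groth.Agent.PicLib.PicM.of_eq_one_iff (PicLoc.isInvertible_pullback _ hL),
    ← Groth.Agent.PicLib.PicM.pull_of _ hL]
  show Groth.Agent.PicLib.PicM.pull (Models.redFibreIdeal R (Over.mk p)).subschemeι _ = 1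
  rw [← hσ, ← Groth.Agent.PicLib.PicM.pull_pull]
  exact (congrArg (Groth.Agent.PicLib.PicM.pull σ) ((Groth.Agent.PicLib.PicM.pull_of j hL).trans h1)).trans (map_one _)

end Groth.Agent.S2223
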