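import Groth.Statements.S2224
import Groth.Agent.FM14.FlatMod
import Groth.Agent.S1001

set_option autoImplicit false
universe u
open CategoryTheory AlgebraicGeometry
attribute [local instance] HasDerivedCategory.standard
open QCohCat

namespace Groth.Agent.S2224

/-- Case (2) with the kernel a single coherent module: let S be a Noetherian scheme, X -> S and Y -> S
of finite type, and K a coherent module on X x_S Y which is flat over X and whose support is proper
over Y. Assuming the derived functors L pr_1^*, - tensor^L K and R pr_2,* exist (assumed as unproved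
hypotheses), the Fourier-Mukai transform R pr_2,* (L pr_1^* M tensor^L K) of any bounded object M of
D(O_X) with coherent cohomology sheaves is a bounded object of D(O_Y) with coherent cohomology
sheaves. -/
theorem result {S X Y : Scheme.{u}} [IsNoetherian S]
    (a : X ⟶ S) (b : Y ⟶ S) [LocallyOfFiniteType a] [QuasiCompact a] [LocallyOfFiniteType b]
    [QuasiCompact b] (K : (Limits.pullback a b).Modules) (hK : Coh.IsCoh K)
    (hflat : FlatMod.IsFlatOver (Limits.pullback.fst a b) K)
    (hsupp : ClSub.IsProperOver (Limits.pullback.snd a b) (CohB1.support K))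
    [DCoh.HasLpull (Limits.pullback.fst a b)] [DCoh.HasLTensorMod K]
    [DCoh.HasRpush (Limits.pullback.snd a b)]
    (M : DCoh.D X) (hM : DCoh.IsCohD M) (m n : ℤ) (hMge : DerivedCategory.IsGE M m)
    (hMle : DerivedCategory.IsLE M n) :
    DCoh.IsCohD ((DCoh.Rpush (Limits.pullback.snd a b)).obj
        ((DCoh.LTensorMod K).obj ((DCoh.Lpull (Limits.pullback.fst a b)).obj M))) ∧
      ∃ m' n' : ℤ, DerivedCategory.IsGE ((DCoh.Rpush (Limits.pullback.snd a b)).obj
          ((DCoh.LTensorMod K).obj ((DCoh.Lpull (Limits.pullback.fst a b)).obj M))) m' ∧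
        DerivedCategory.IsLE ((DCoh.Rpush (Limits.pullback.snd a b)).obj
          ((DCoh.LTensorMod K).obj ((DCoh.Lpull (Limits.pullback.fst a b)).obj M))) n' := by
  haveI : IsLocallyNoetherian X := LocallyOfFiniteType.isLocallyNoetherian a
  haveI : CompactSpace X := QuasiCompact.compactSpace_of_compactSpace a
  haveI : IsNoetherian X := {}
  haveI : IsLocallyNoetherian Y := LocallyOfFiniteType.isLocallyNoetherian b
  haveI : CompactSpace Y := QuasiCompact.compactSpace_of_compactSpace b
  haveI : IsNoetherian Y := {}
  haveI : IsLocallyNoetherian (Limits.pullback a b) :=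
    LocallyOfFiniteType.isLocallyNoetherian (Limits.pullback.fst a b)
  haveI := hMge
  haveI := hMle
  obtain ⟨hc, hge, hle, hs⟩ := Groth.Agent.FM14.isCohD_amp_of_flat (Limits.pullback.fst a b) K hK hflat M hM m n
  haveI := hge
  haveI := hle
  obtain ⟨hR, hRge, b', hRle⟩ := Groth.Agent.S1001.result (Limits.pullback.snd a b) _ m n hc
    (fun i => Groth.Agent.Et18.IsProperOver.of_subset hsupp
      (Groth.Agent.Coherent.isClosed_support _ (Groth.Agent.Coherent.locallyFinGen_of_isFT _ (hc i).2)) (hs i))
  exact ⟨hR, m, b', hRge, hRle⟩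

end Groth.Agent.S2224
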