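import Groth.Statements.S2225
import Groth.Agent.ModelLib7.SpecialFibre
import Groth.Agent.DualLib.GorRing
-- import your own Groth.Agent.* helpers here

set_option autoImplicit false
set_option backward.isDefEq.respectTransparency false
universe u
open CategoryTheory AlgebraicGeometry
open Models

namespace Groth.Agent.S2225

/-- Part (1), for the closed fibre: let R be a discrete valuation ring with fraction field K, C a smooth
proper curve over K and X a regular model of C over R (flat, of finite type, all local rings
regular). Then every local ring of the special fibre X_k is a Gorenstein local ring; together with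
flatness and regularity of the generic fibre this says X -> Spec R is a Gorenstein morphism. -/
theorem result (R : Type u) [CommRing R] [IsDomain R]
    [IsDiscreteValuationRing R] (C X : Scheme.{u})
    (f : C ⟶ Spec (CommRingCat.of (FractionRing R))) (p : X ⟶ Spec (CommRingCat.of R))
    (hC : Curve.IsSmoothProperCurve (FractionRing R) C f) (hX : Models.IsModel R X p C f)
    (hreg : Models.IsRegularScheme X) (x : ↥(Models.specialFibre R X p)) :
    LocCoh.IsGorensteinLocalRing ((Models.specialFibre R X p).presheaf.stalk x) := by
  obtain ⟨hsurj, hker⟩ := ModelLib7.ker_stalkMap_closedFibre p x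
  obtain ⟨hflat, -, -, -⟩ := hX
  haveI := hflat
  haveI := hreg ((Limits.pullback.fst p (Spec.map (CommRingCat.ofHom (algebraMap R (IsLocalRing.ResidueField R))))) x)
  obtain ⟨ϖ, hϖ⟩ := IsDiscreteValuationRing.exists_irreducible R
  let z := (Limits.pullback.fst p (Spec.map (CommRingCat.ofHom (algebraMap R (IsLocalRing.ResidueField R))))) x
  let φ : R →+* X.presheaf.stalk z := (X.presheaf.germ ⊤ z trivial).hom.comp (Coh.toGlobal p)
  have hm : IsLocalRing.maximalIdeal R = Ideal.span {ϖ} := hϖ.maximalIdeal_eq
  have hk : RingHom.ker ((Limits.pullback.fst p (Spec.map (CommRingCat.ofHom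
      (algebraMap R (IsLocalRing.ResidueField R))))).stalkMap x).hom = Ideal.ofList [φ ϖ] := by
    rw [hker, hm, Ideal.map_span, Set.image_singleton, Ideal.ofList_singleton]
  have hmem : φ ϖ ∈ IsLocalRing.maximalIdeal (X.presheaf.stalk z) :=
    IsLocalRing.le_maximalIdeal (RingHom.ker_ne_top _) (show φ ϖ ∈ RingHom.ker ((Limits.pullback.fst p (Spec.map (CommRingCat.ofHom (algebraMap R (IsLocalRing.ResidueField R))))).stalkMap x).hom by rw [hk, Ideal.ofList_singleton]; exact Ideal.mem_span_singleton_self _)
  have hreg' : IsSMulRegular (X.presheaf.stalk z) (φ ϖ) := by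
    letI := φ.toAlgebra
    haveI : Module.Flat R (X.presheaf.stalk z) := ModelLib7.flat_germ_toGlobal p z
    have h0 : IsSMulRegular R ϖ := fun a b h => mul_left_cancel₀ hϖ.ne_zero h
    exact h0.of_flat (S := X.presheaf.stalk z)
  have h1 := (DualLib.GorFlat.gor_quot_iff [φ ϖ] (by simpa using hmem)
    (by rw [RingTheory.Sequence.isWeaklyRegular_singleton_iff]; exact hreg')).1
    (DualLib.GorRing.gor_of_isRegularLocalRing (X.presheaf.stalk z))
  exact (DualLib.GorFlat.gor_congr ((Ideal.quotEquivOfEq hk.symm).trans (RingHom.quotientKerEquivOfSurjective hsurj))).1 h1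

end Groth.Agent.S2225
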