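import Groth.Statements.S2226
import Groth.Agent.Models7.NodeResolve.Main
-- import your own Groth.Agent.* helpers here

set_option autoImplicit false
set_option linter.style.haveILetI false
set_option backward.isDefEq.respectTransparency false
universe u
open CategoryTheory AlgebraicGeometry
open Models

namespace Groth.Agent.S2226

/-- Consequence stated without the blow-up sequence: let R be a discrete valuation ring with fraction
field K and C a smooth proper curve over K with H^0(C, O_C) = K (the map K -> H^0 is an
isomorphism). If C has semistable reduction over R (some proper model is an at-worst-nodal family of
relative dimension one), then C has a proper model over R which is at the same time regular and an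
at-worst-nodal family. (The source's statement is the stronger one that any nodal model can be
improved to such a model by blowing up closed points.) -/
theorem result (R : Type u) [CommRing R] [IsDomain R]
    [IsDiscreteValuationRing R] (C : Scheme.{u}) (f : C ⟶ Spec (CommRingCat.of (FractionRing R)))
    (hC : Curve.IsSmoothProperCurve (FractionRing R) C f) (hH0 : IsIso f.appTop)
    (h : Models.HasSemistableReduction R C f) :
    ∃ (X : Scheme.{u}) (p : X ⟶ Spec (CommRingCat.of R)),
      Models.IsRegularProperModel R X p C f ∧ Curv2.IsNodalFamily p := by
  obtain ⟨ϖ, hϖ⟩ := IsDiscreteValuationRing.exists_irreducible R
  exact Groth.Agent.Models7.NodeResolve.exists_regular_nodal_model hϖ hC h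

end Groth.Agent.S2226
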