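import Groth.Statements.S2232
import Groth.Agent.FM14.Bounded
import Groth.Agent.S1001
import Groth.Agent.KZeroLib.RegularPerfect
import Groth.Agent.KZeroLib.PerfectCoh
import Groth.Agent.DCat.PullPerf

set_option autoImplicit false
universe u
open CategoryTheory AlgebraicGeometry
attribute [local instance] HasDerivedCategory.standard
open QCohCat

namespace Groth.Agent.S2232

/-- Case (3): let S be Noetherian, X -> S and Y -> S of finite type with all local rings of X regular,
and K a bounded complex of modules on X x_S Y with coherent cohomology sheaves whose supports are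
proper over Y. Assuming the derived functors L pr_1^*, - tensor^L K and R pr_2,* exist (unproved
hypotheses carried as binders), the Fourier-Mukai transform of a bounded object of D(O_X) with
coherent cohomology sheaves is a bounded object of D(O_Y) with coherent cohomology sheaves. -/
theorem result {S X Y : Scheme.{u}} [IsNoetherian S]
    (a : X ⟶ S) (b : Y ⟶ S) [LocallyOfFiniteType a] [QuasiCompact a] [LocallyOfFiniteType b]
    [QuasiCompact b] (hreg : Models.IsRegularScheme X)
    (K : CochainComplex (Limits.pullback a b).Modules ℤ)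
    (hKcoh : DCoh.IsCohD (DCoh.toD (Limits.pullback a b) K)) (kₗ kᵤ : ℤ)
    (hKge : DerivedCategory.IsGE (DCoh.toD (Limits.pullback a b) K) kₗ)
    (hKle : DerivedCategory.IsLE (DCoh.toD (Limits.pullback a b) K) kᵤ)
    (hsupp : ∀ i : ℤ, ClSub.IsProperOver (Limits.pullback.snd a b)
      (CohB1.support (DCoh.HD (DCoh.toD (Limits.pullback a b) K) i)))
    [DCoh.HasLpull (Limits.pullback.fst a b)] [DCoh.HasLTensorCx K]
    [DCoh.HasRpush (Limits.pullback.snd a b)]
    (M : DCoh.D X) (hM : DCoh.IsCohD M) (m n : ℤ) (hMge : DerivedCategory.IsGE M m)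
    (hMle : DerivedCategory.IsLE M n) :
    DCoh.IsCohD ((DCoh.Rpush (Limits.pullback.snd a b)).obj
        ((DCoh.LTensorCx K).obj ((DCoh.Lpull (Limits.pullback.fst a b)).obj M))) ∧
      ∃ m' n' : ℤ, DerivedCategory.IsGE ((DCoh.Rpush (Limits.pullback.snd a b)).obj
        ((DCoh.LTensorCx K).obj ((DCoh.Lpull (Limits.pullback.fst a b)).obj M))) m' ∧
        DerivedCategory.IsLE ((DCoh.Rpush (Limits.pullback.snd a b)).obj
        ((DCoh.LTensorCx K).obj ((DCoh.Lpull (Limits.pullback.fst a b)).obj M))) n' := by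
  haveI : IsLocallyNoetherian X := LocallyOfFiniteType.isLocallyNoetherian a
  haveI : CompactSpace X := QuasiCompact.compactSpace_of_compactSpace a
  haveI : IsNoetherian X := {}
  haveI : IsLocallyNoetherian Y := LocallyOfFiniteType.isLocallyNoetherian b
  haveI : CompactSpace Y := QuasiCompact.compactSpace_of_compactSpace b
  haveI : IsNoetherian Y := {}
  haveI : LocallyOfFiniteType (Limits.pullback.fst a b) := inferInstance
  haveI : IsLocallyNoetherian (Limits.pullback a b) :=
    LocallyOfFiniteType.isLocallyNoetherian (Limits.pullback.fst a b)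
  haveI : CompactSpace ↥(Limits.pullback a b) :=
    QuasiCompact.compactSpace_of_compactSpace (Limits.pullback.fst a b)
  haveI : IsNoetherian (Limits.pullback a b) := {}
  have hMp : DCoh.IsPerfect M :=
    (Groth.Agent.KZeroLib.isPerfect_iff_bounded_coh hreg M).2 ⟨hM, m, n, hMge, hMle⟩
  have hEp := Groth.Agent.DCat.PullPerf.isPerfect_Lpull (Limits.pullback.fst a b) M hMp
  obtain ⟨hEc, ea, eb, hea, heb⟩ := Groth.Agent.KZeroLib.hd_of_perfect hEp
  haveI := hKge
  haveI := hKle
  haveI := heb
  obtain ⟨hTc, N, hN⟩ := Groth.Agent.DQCoh.isCohD_bddAbove_LTensor K _ hEc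
    ⟨eb, fun i hi => DerivedCategory.isZero_of_isLE _ eb i hi⟩ hKcoh
    ⟨kᵤ, fun i hi => DerivedCategory.isZero_of_isLE _ kᵤ i hi⟩
  obtain ⟨A, hA⟩ := Groth.Agent.FM14.exists_isGE_LTensorCx K kₗ _ hEp
  haveI := hA
  haveI := (DerivedCategory.isLE_iff _ N).2 hN
  obtain ⟨hR, hRge, b', hRle⟩ := Groth.Agent.S1001.result (Limits.pullback.snd a b) _ A N hTc
    (fun i => Groth.Agent.FM14.isProperOver_support (Limits.pullback.snd a b) K kₗ kᵤ hsupp _ i (hTc i))
  exact ⟨hR, A, b', hRge, hRle⟩

end Groth.Agent.S2232
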