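import Groth.Statements.S2233
import Groth.Agent.DQCoh.PerfProperPush17
import Groth.Agent.DCat.TensorCongr

set_option autoImplicit false
universe u
open CategoryTheory AlgebraicGeometry
attribute [local instance] HasDerivedCategory.standard
open QCohCat

open CategoryTheory.Pretriangulated
open Groth.Agent.DCat Groth.Agent.DCat.PerfLocal Groth.Agent.Dual22Lib
attribute [local instance] HasDerivedCategory.standard

namespace Groth.Agent.S2233

/-- Case (2): let X -> S be quasi-compact, quasi-separated and locally of finite presentation, Y -> S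
arbitrary, and K a bounded complex of finitely presented modules on X x_S Y, each flat over Y and
with support proper over Y. Assuming the derived functors L pr_1^*, - tensor^L K and R pr_2,* exist
(unproved hypotheses carried as binders), the Fourier-Mukai transform of a perfect object of D(O_X)
is a perfect object of D(O_Y). -/
theorem result {S X Y : Scheme.{u}} (a : X ⟶ S)
    (b : Y ⟶ S) [QuasiCompact a] [QuasiSeparated a] [LocallyOfFinitePresentation a]
    (K : CochainComplex (Limits.pullback a b).Modules ℤ) (kₗ kᵤ : ℤ)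
    (hKb : DCoh.VanishesOutside K kₗ kᵤ) (hKfp : ∀ i : ℤ, CohB1.IsFP (K.X i))
    (hKflat : ∀ i : ℤ, FlatMod.IsFlatOver (Limits.pullback.snd a b) (K.X i))
    (hKsupp : ∀ i : ℤ, ClSub.IsProperOver (Limits.pullback.snd a b) (CohB1.support (K.X i)))
    [DCoh.HasLpull (Limits.pullback.fst a b)] [DCoh.HasLTensorCx K]
    [DCoh.HasRpush (Limits.pullback.snd a b)] (M : DCoh.D X) (hM : DCoh.IsPerfect M) :
    DCoh.IsPerfect ((DCoh.Rpush (Limits.pullback.snd a b)).obj
        ((DCoh.LTensorCx K).obj ((DCoh.Lpull (Limits.pullback.fst a b)).obj M))) := by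
  let f := Limits.pullback.snd a b
  haveI : QuasiCompact f := MorphismProperty.pullback_snd (P := @QuasiCompact) _ _ ‹_›
  haveI : QuasiSeparated f := MorphismProperty.pullback_snd (P := @QuasiSeparated) _ _ ‹_›
  haveI : LocallyOfFinitePresentation f := MorphismProperty.pullback_snd (P := @LocallyOfFinitePresentation) _ _ ‹_›
  have hE : DCoh.IsPerfect ((DCoh.Lpull (Limits.pullback.fst a b)).obj M) := PullPerf.isPerfect_Lpull _ M hM
  obtain ⟨D, hD, ⟨eD⟩⟩ := PullPerf.exists_kflat_rep ((DCoh.Lpull (Limits.pullback.fst a b)).obj M)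
  haveI := LTensorSheaf.hasLTensorCx D
  obtain ⟨K', hK', ⟨eK⟩⟩ := PullPerf.exists_kflat_rep (DerivedCategory.Q.obj K)
  haveI := LTensorSheaf.hasLTensorCx K'
  obtain ⟨c⟩ := TensorCongr.nonempty_congr (E := K) (E' := K') eK.symm
  let w : (DCoh.LTensorCx K).obj ((DCoh.Lpull (Limits.pullback.fst a b)).obj M) ≅
      (DCoh.LTensorCx D).obj (DerivedCategory.Q.obj K) :=
    c.app _ ≪≫ (DCoh.LTensorCx K').mapIso eD.symm ≪≫ LTensorSheaf.ltensorCxIso K' hD ≪≫
      DerivedCategory.Q.mapIso (ShSymm.symm D K') ≪≫ (LTensorSheaf.ltensorCxIso D hK').symm ≪≫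
      (DCoh.LTensorCx D).mapIso eK
  refine PCTriangle.perfect_iso ((DCoh.Rpush f).mapIso w).symm ?_
  refine (DQCoh.PerfProperPush17.isDev_inverseImage_perfect
    (F := DCoh.LTensorCx D ⋙ DCoh.Rpush f)
    ((TenLocal.triExact_LTensor D).comp (TenLocal.triExact_Rpush f))).bounded K hKb fun n => ?_
  haveI := DCat.hasLTensorMod (K.X n)
  obtain ⟨m⟩ := DQCoh.PerfProperPush17.nonempty_mod_cx (K.X n) D hD
  exact PCTriangle.perfect_iso ((DCoh.Rpush f).mapIso (((DCoh.LTensorMod (K.X n)).mapIso eD.symm) ≪≫ m))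
    (DQCoh.PerfProperPush17.isPerfect f _ hE (K.X n) (hKfp n) (hKflat n) (hKsupp n))

end Groth.Agent.S2233
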