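import Groth.Statements.S2237
import Groth.Agent.CAlgH.NLTorAmp
import Groth.Agent.CAlgH.NLPerfect
import Groth.Agent.FlatMor12.LCISyntomic
import Groth.Agent.Disc12.SyntomicPres
-- import your own Groth.Agent.* helpers here

set_option autoImplicit false
universe u
attribute [local instance] HasDerivedCategory.standard
open LCI

namespace Groth.Agent.S2237

/-- Implication (2) to (5), affine form: let A -> B be flat, quasi-finite and a local complete
intersection homomorphism (finite type with a Koszul-regular presentation). Then for every prime q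
of B there are g in B outside q, a natural number n and polynomials f_1, ..., f_n in A[x_1, ...,
x_n] such that B_g is isomorphic as an A-algebra to A[x_1, ..., x_n]/(f_1, ..., f_n). -/
theorem result {A B : Type u} [CommRing A]
    [CommRing B] [Algebra A B] [Module.Flat A B] [Algebra.QuasiFinite A B] (hlci : LCI.IsLCI A B)
    (q : Ideal B) [q.IsPrime] :
    ∃ g : B, g ∉ q ∧ ∃ (n : ℕ) (f : Fin n → MvPolynomial (Fin n) A),
      Nonempty (Localization.Away g ≃ₐ[A]
        (MvPolynomial (Fin n) A ⧸ Ideal.span (Set.range f))) := by
  haveI : Algebra.FinitePresentation A B := _root_.Groth.Agent.FlatMor12.LCISyntomic.finitePresentation_of_isLCI hlci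
  have hS : Synt.IsSyntomic A B := _root_.Groth.Agent.CAlgH.NLTorAmp.isSyntomic_of_torAmplitude
    (_root_.Groth.Agent.CAlgH.NLPerfect.perfect_of_isLCI hlci).2
  obtain ⟨g, hg, S, _, _, _, _, _, N, ψ, F, hψ, hF⟩ :=
    _root_.Groth.Agent.Disc12.exists_square_presentation (A := A) q
      (hS.2.2 ⟨q.under A, inferInstance⟩)
  refine ⟨g, hg, N, F, ⟨?_⟩⟩
  exact ((IsLocalization.algEquiv (Submonoid.powers g) (Localization.Away g) S).restrictScalars A).trans
    (((Ideal.quotientEquivAlgOfEq A hF).symm.trans (Ideal.quotientKerAlgEquivOfSurjective hψ)).symm)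

end Groth.Agent.S2237
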