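import Groth.Statements.S2326
import Groth.Agent.AmpleLib.FTIdeal
import Groth.Agent.AmpleLib.Relative2

set_option autoImplicit false
universe u
open CategoryTheory CategoryTheory.Limits AlgebraicGeometry
open EGA2

open Groth.Agent.AmpleLib Groth.Agent.PicLib Groth.Agent.Coherent

namespace Groth.Agent.S2326

/-- Let X be a quasi-compact separated scheme (the source also allows a prescheme with Noetherian
underlying space) and L an invertible module. Suppose that for every quasi-coherent ideal sheaf I of
finite type there are n > 0 and k > 0 with I ⊗ L^{⊗n} a quotient of O_X^k. Then L is ample. -/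
theorem result (X : Scheme.{u}) [CompactSpace X] [X.IsSeparated] (L : X.Modules) (hL : PicF.IsInvertible L)
    (h : ∀ I : X.IdealSheafData, BlowUp.IsFiniteTypeIdeal I →
      ∃ (n k : ℕ) (p : FlatMod.freeMod X k ⟶ CohB1.tensorMod (ClSub.idealMod I) (CohB1.tensorPow L (n + 1))), 0 < k ∧ Epi p) :
    CohB1.IsAmple L := by
  classical
  refine isAmple_iff_affGlocus.2 ⟨hL, inferInstance, fun x => ?_⟩
  obtain ⟨U, hU, hxU, -⟩ := exists_isAffineOpen_mem_and_subset (x := x) (U := ⊤) trivial
  obtain ⟨I, hI, -, hO⟩ := exists_idealMod_compl hU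
  obtain ⟨n, k, p, -, hp⟩ := h I hI
  let q : Coherent.freeMod X (ULift.{u} (Fin k)) ⟶ FlatMod.freeMod X k :=
    freeDesc fun i => Sigma.ι (fun _ : Fin k => Coh.structureModule X) i.down
  have hq : Epi q := by
    have : (Sigma.desc fun i => freeInj (⟨i⟩ : ULift.{u} (Fin k))) ≫ q = 𝟙 _ := by
      refine Sigma.hom_ext _ _ fun i => ?_
      rw [← Category.assoc, Sigma.ι_desc, freeInj_freeDesc, Category.comp_id]
    exact epi_of_epi_fac this
  have hP := isInvertible_tensorPow hL (n + 1)
  obtain ⟨i, hi⟩ := exists_mem_glocus_of_epi_free hP (twistMul I _)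
    (hitsAt_twistMul I hP (x := x) (hO.ge hxU)) (q ≫ p)
  refine ⟨n + 1, n.succ_pos, _, hi, le_top, ?_⟩
  rw [← inf_eq_left.2 ((glocus_twistMul_le I hP _).trans hO.le)]
  exact isAffineOpen_glocus_inf hP _ hU

end Groth.Agent.S2326
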