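import Groth.Statements.S2342
import Groth.Agent.ValExtLib.Criterion

set_option autoImplicit false
universe u
open CategoryTheory CategoryTheory.Limits AlgebraicGeometry
open EGA2

namespace Groth.Agent.S2342

/-- Let A be a valuation ring with Y = Spec A, X an integral separated scheme and f : X → Y a morphism
which is closed as a map of topological spaces, such that the fibre over the generic point of Y
consists of exactly one point x and the induced map from the residue field of the generic point of Y
to that of x is bijective. Then f is an isomorphism. -/
theorem result (A : Type u) [CommRing A] [IsDomain A] [ValuationRing A]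
    (X : Scheme.{u}) [IsIntegral X] [X.IsSeparated] (f : X ⟶ Spec (CommRingCat.of A)) (hf : IsClosedMap f.base)
    (x : X) (hx : f.base ⁻¹' {genericPoint (Spec (CommRingCat.of A))} = {x})
    (hres : Function.Bijective (f.residueFieldMap x).hom) : IsIso f := by
  let m := Spec.map (CommRingCat.ofHom (algebraMap A (FractionRing A)))
  have hfx : f x = genericPoint (Spec (CommRingCat.of A)) := by
    have : x ∈ f.base ⁻¹' {genericPoint (Spec (CommRingCat.of A))} := hx ▸ rfl
    exact this
  have hxη : genericPoint X = x := by
    have h : f (genericPoint X) = genericPoint (Spec (CommRingCat.of A)) :=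
      (((genericPoint_specializes x).map f.continuous).trans (specializes_of_eq hfx)).antisymm
        (genericPoint_specializes _) |>.eq
    have : genericPoint X ∈ f.base ⁻¹' {genericPoint (Spec (CommRingCat.of A))} := h
    rwa [hx] at this
  have hm : m (IsLocalRing.closedPoint (FractionRing A)) = f x := by
    rw [hfx, genericPoint_eq_bot_of_affine]
    refine PrimeSpectrum.ext ((DVRDom.spec_field_apply _ _).trans ?_)
    exact (RingHom.injective_iff_ker_eq_bot _).mp (IsFractionRing.injective A (FractionRing A))
  obtain ⟨g, hg⟩ := ValCritLib.exists_residue_factor m (f x) hm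
  have hgs : Function.Surjective g.hom := by
    intro q
    obtain ⟨a, b, hb, rfl⟩ := IsFractionRing.div_surjective A q
    let c : CommRingCat.of A ⟶ (Spec (CommRingCat.of A)).residueField (f x) :=
      Spec.preimage ((Spec (CommRingCat.of A)).fromSpecResidueField (f x))
    have hc : c ≫ g = CommRingCat.ofHom (algebraMap A (FractionRing A)) := Spec.map_injective (by
      rw [Spec.map_comp, Spec.map_preimage, hg])
    refine ⟨c.hom a / c.hom b, ?_⟩
    rw [map_div₀]
    exact congr_arg₂ (· / ·) (ConcreteCategory.congr_hom hc a) (ConcreteCategory.congr_hom hc b)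
  have : IsIso (f.residueFieldMap x) := (ConcreteCategory.isIso_iff_bijective _).mpr hres
  let xK := Spec.map (inv (f.residueFieldMap x) ≫ g) ≫ X.fromSpecResidueField x
  have hxK : xK ≫ f = m := by
    rw [Category.assoc, ← Scheme.Hom.SpecMap_residueFieldMap_fromSpecResidueField, ← Spec.map_comp_assoc,
      IsIso.hom_inv_id_assoc, hg]
  have : IsSeparated f := by
    have : IsSeparated (f ≫ terminal.from _) := by rw [terminal.comp_from]; infer_instance
    exact IsSeparated.of_comp f (terminal.from _)
  obtain ⟨s, ⟨hs, hs'⟩, -⟩ := ValExtLib.existsUnique_section A (FractionRing A) f hf xK hxK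
  have : IsClosedImmersion (s ≫ f) := by rw [hs]; infer_instance
  have : IsClosedImmersion s := IsClosedImmersion.of_comp s f
  have hmem : genericPoint X ∈ Set.range s := by
    refine ⟨m (IsLocalRing.closedPoint (FractionRing A)), ?_⟩
    rw [← Scheme.Hom.comp_apply]
    refine (congrArg (fun φ : Spec (CommRingCat.of (FractionRing A)) ⟶ X ↦ φ (IsLocalRing.closedPoint _)) hs').trans ?_
    rw [hxη]
    simp [xK]
  have : Surjective s := ⟨fun y ↦ (genericPoint_specializes y).mem_closed s.isClosedEmbedding.isClosed_range hmem⟩
  have := isIso_of_isClosedImmersion_of_surjective s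
  have : IsIso (s ≫ f) := by rw [hs]; infer_instance
  exact IsIso.of_isIso_comp_left s f

end Groth.Agent.S2342
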