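import Groth.Statements.S2343
import Groth.Agent.HenselLib.SchemeFinitePart
import Mathlib.RingTheory.Henselian

set_option autoImplicit false
universe u
open CategoryTheory CategoryTheory.Limits AlgebraicGeometry
open EGA2

namespace Groth.Agent.S2343

/-- Let A be a complete Noetherian local ring, X a separated scheme locally of finite type over Spec A,
and x a point of X over the closed point which is isolated in its fibre. Then the local ring of X at
x is a finite A-module and the canonical morphism Spec O_{X,x} → X is both an open and a closed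
immersion (X is the disjoint sum of Spec O_{X,x} and another open subscheme). -/
theorem result (A : Type u) [CommRing A] [IsLocalRing A] [IsNoetherianRing A]
    [IsAdicComplete (IsLocalRing.maximalIdeal A) A] (X : Scheme.{u}) (f : X ⟶ Spec (CommRingCat.of A)) [LocallyOfFiniteType f] [IsSeparated f]
    (x : X) (hx : f.base x = IsLocalRing.closedPoint A)
    (hisol : IsOpen ((Subtype.val : (f.base ⁻¹' {IsLocalRing.closedPoint A}) → X) ⁻¹' {x})) :
    ((Scheme.ΓSpecIso (CommRingCat.of A)).inv ≫ f.appTop ≫ X.presheaf.germ ⊤ x trivial).hom.Finite ∧ IsOpenImmersion (X.fromSpecStalk x) ∧ IsClosedImmersion (X.fromSpecStalk x) := by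
  have := IsAdicComplete.henselianRing A (IsLocalRing.maximalIdeal A)
  have : HenselianLocalRing A :=
    { is_henselian := fun p hp a₀ h1 h2 ↦ HenselianRing.is_henselian (I := IsLocalRing.maximalIdeal A) p hp a₀ h1
        (h2.map (Ideal.Quotient.mk _)) }
  obtain ⟨O, hO, hOx⟩ := isOpen_induced_iff.mp hisol
  have hOx' : ∀ z ∈ O, f z = IsLocalRing.closedPoint A → z = x := fun z hz hzf ↦
    (Set.ext_iff.mp hOx ⟨z, hzf⟩).mp hz
  have hxO : x ∈ O := (Set.ext_iff.mp hOx ⟨x, hx⟩).mpr rfl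
  have hq : x ∈ f.quasiFiniteLocus := by
    rw [Scheme.Hom.mem_quasiFiniteLocus, Scheme.Hom.quasiFiniteAt_iff_isOpen_singleton_asFiber,
      ← (f.fiberHomeo (f x)).isOpen_image, Set.image_singleton, Scheme.Hom.asFiber,
      Homeomorph.apply_symm_apply]
    refine isOpen_induced_iff.mpr ⟨O, hO, Set.ext fun z ↦ ⟨fun hz ↦ ?_, fun hz ↦ ?_⟩⟩
    · exact Subtype.ext (hOx' z.1 hz (z.2.trans hx))
    · rw [Set.mem_preimage, show z.1 = x from congrArg Subtype.val hz]; exact hxO
  let Q : X.Opens := f.quasiFiniteLocus ⊓ ⟨O, hO⟩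
  obtain ⟨U, hU, hxU, hUQ⟩ := exists_isAffineOpen_mem_and_subset (x := x) (U := Q) ⟨hq, hxO⟩
  have : LocallyQuasiFinite (Q.ι ≫ f) := by
    rw [← X.homOfLE_ι (show Q ≤ f.quasiFiniteLocus from inf_le_left), Category.assoc]
    infer_instance
  have : IsAffine (Q.ι ⁻¹ᵁ U) := hU.preimage_of_isOpenImmersion _ (by simpa using hUQ)
  obtain ⟨V', -, hxV', hV'⟩ := HenselLib.SchemeFinite.exists_finite_open (Q.ι ≫ f) (Q.ι ⁻¹ᵁ U)
    (hU.preimage_of_isOpenImmersion _ (by simpa using hUQ)) ⟨x, hq, hxO⟩ hxU hx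
  let V : X.Opens := Q.ι ''ᵁ V'
  have hVfin : IsFinite (V.ι ≫ f) := by
    have h : (Q.ι.isoImage V').hom ≫ V.ι ≫ f = V'.ι ≫ Q.ι ≫ f := by
      rw [← Category.assoc, Scheme.Hom.isoImage_hom_ι, Category.assoc]
    rw [← MorphismProperty.cancel_left_of_respectsIso @IsFinite (Q.ι.isoImage V').hom, h]
    exact hV'
  have hxV : x ∈ V := ⟨⟨x, hq, hxO⟩, hxV', rfl⟩
  have hVQ : ∀ z ∈ V, f z = IsLocalRing.closedPoint A → z = x := by
    rintro _ ⟨w, -, rfl⟩ hw
    exact hOx' w.1 w.2.2 hw
  have hVc : IsClosed (V : Set X) := HenselLib.SchemeFinite.isClosed_of_isFinite f V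
  have hVa : IsAffineOpen V := isAffine_of_isAffineHom (V.ι ≫ f)
  let c : CommRingCat.of A ⟶ Γ(X, V) := (Scheme.ΓSpecIso (CommRingCat.of A)).inv ≫ f.appLE ⊤ V le_top
  have hc : hVa.fromSpec ≫ f = Spec.map c := by
    rw [Spec.map_comp, ← IsAffineOpen.SpecMap_appLE_fromSpec f (isAffineOpen_top _) hVa le_top,
      IsAffineOpen.fromSpec_top, Scheme.isoSpec_Spec_inv]
  have hcfin : c.hom.Finite := by
    rw [← IsFinite.SpecMap_iff, ← hc, ← MorphismProperty.cancel_left_of_respectsIso @IsFinite hVa.isoSpec.hom]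
    show IsFinite (hVa.isoSpec.hom ≫ hVa.fromSpec ≫ f)
    rw [hVa.isoSpec_hom, hVa.toSpecΓ_fromSpec_assoc]
    exact hVfin
  let p := hVa.primeIdealOf ⟨x, hxV⟩
  have hmax : ∀ m : Ideal Γ(X, V), m.IsMaximal → m = p.asIdeal := by
    intro m hm
    let := c.hom.toAlgebra
    have : Module.Finite A Γ(X, V) := hcfin
    have hm' : (m.comap (algebraMap A Γ(X, V))).IsMaximal := Ideal.isMaximal_comap_of_isIntegral_of_isMaximal m
    have h1 : Spec.map c ⟨m, hm.isPrime⟩ = IsLocalRing.closedPoint A :=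
      PrimeSpectrum.ext (IsLocalRing.eq_maximalIdeal hm')
    rw [← hc, Scheme.Hom.comp_apply] at h1
    have h2 : hVa.fromSpec ⟨m, hm.isPrime⟩ = x := hVQ _ (by
      rw [← SetLike.mem_coe, ← hVa.range_fromSpec]; exact ⟨_, rfl⟩) h1
    exact congrArg PrimeSpectrum.asIdeal
      (hVa.fromSpec.isOpenEmbedding.injective (h2.trans (hVa.fromSpec_primeIdealOf ⟨x, hxV⟩).symm))
  have hiso : IsIso (X.presheaf.germ V x hxV) := by
    let := (X.presheaf.germ V x hxV).hom.toAlgebra
    have := hVa.isLocalization_stalk ⟨x, hxV⟩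
    refine (ConcreteCategory.isIso_iff_bijective _).mpr
      (IsLocalization.atUnits Γ(X, V) p.asIdeal.primeCompl (S := X.presheaf.stalk x) ?_).bijective
    intro a ha
    refine by_contra fun hu ↦ ?_
    obtain ⟨m, hm, ham⟩ := exists_max_ideal_of_mem_nonunits hu
    exact ha (hmax m hm ▸ ham)
  have hfs : X.fromSpecStalk x = Spec.map (X.presheaf.germ V x hxV) ≫ hVa.fromSpec :=
    (hVa.fromSpecStalk_eq_fromSpecStalk hxV).symm
  refine ⟨?_, hfs ▸ inferInstance, ?_⟩
  · have h : (Scheme.ΓSpecIso (CommRingCat.of A)).inv ≫ f.appTop ≫ X.presheaf.germ ⊤ x trivial =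
        c ≫ X.presheaf.germ V x hxV := by
      rw [Category.assoc, Scheme.Hom.appLE, Category.assoc, TopCat.Presheaf.germ_res]
      rfl
    rw [h]
    exact (RingHom.Finite.of_surjective (X.presheaf.germ V x hxV).hom
      (ConcreteCategory.bijective_of_isIso (X.presheaf.germ V x hxV)).2).comp hcfin
  · have : IsClosedImmersion hVa.fromSpec :=
      .of_isPreimmersion _ (hVa.range_fromSpec ▸ hVc)
    rw [hfs]
    infer_instance

end Groth.Agent.S2343
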