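import Groth.Statements.S2346
import Groth.Agent.CurveLib.Basic
import Groth.Agent.DimLib.Components

set_option autoImplicit false
universe u
open CategoryTheory CategoryTheory.Limits AlgebraicGeometry
open EGA2

namespace Groth.Agent.S2346

/-- Let X and Y be irreducible algebraic curves over k (separated, of finite type, local rings at closed
points one-dimensional) and f : X → Y a k-morphism. Then f is dominant if and only if every fibre
f⁻¹(y) is a finite set. -/
theorem result (k : Type u) [Field k] (X Y : Scheme.{u}) [X.Over (Spec (CommRingCat.of k))] [Y.Over (Spec (CommRingCat.of k))]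
    [LocallyOfFiniteType (X ↘ (Spec (CommRingCat.of k)))] [QuasiCompact (X ↘ (Spec (CommRingCat.of k)))] [IsSeparated (X ↘ (Spec (CommRingCat.of k)))] [LocallyOfFiniteType (Y ↘ (Spec (CommRingCat.of k)))] [QuasiCompact (Y ↘ (Spec (CommRingCat.of k)))] [IsSeparated (Y ↘ (Spec (CommRingCat.of k)))] [IrreducibleSpace X] [IrreducibleSpace Y]
    (hX : (∀ x : X, IsClosed ({x} : Set X) → ringKrullDim (X.presheaf.stalk x) = 1)) (hY : (∀ x : Y, IsClosed ({x} : Set Y) → ringKrullDim (Y.presheaf.stalk x) = 1))
    (f : X ⟶ Y) (hf : f ≫ (Y ↘ (Spec (CommRingCat.of k))) = X ↘ (Spec (CommRingCat.of k))) :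
    IsDominant f ↔ ∀ y : Y, (f.base ⁻¹' {y}).Finite := by
  let sX := X ↘ Spec (CommRingCat.of k)
  let sY := Y ↘ Spec (CommRingCat.of k)
  have : JacobsonSpace X := LocallyOfFiniteType.jacobsonSpace sX
  have : JacobsonSpace Y := LocallyOfFiniteType.jacobsonSpace sY
  have : LocallyOfFiniteType (f ≫ sY) := by rw [hf]; infer_instance
  have : CompactSpace X := QuasiCompact.compactSpace_of_compactSpace sX
  have : IsLocallyNoetherian X := LocallyOfFiniteType.isLocallyNoetherian sX
  have : IsNoetherian X := { }
  constructor
  · intro hd y
    by_cases hy : IsClosed ({y} : Set Y)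
    · refine (CurveLib.finite_of_isClosed hX (hy.preimage f.continuous) fun h ↦ ?_).1
      have hr : closure (Set.range f) ⊆ {y} := hy.closure_subset_iff.2 (by
        rintro _ ⟨x, rfl⟩; exact Set.eq_univ_iff_forall.1 h x)
      rw [f.denseRange.closure_range] at hr
      exact CurveLib.not_isClosed_genericPoint hY ((hr trivial : genericPoint Y = y) ▸ hy)
    · refine (Set.finite_singleton (genericPoint X)).subset fun x hx ↦ ?_
      by_contra hne
      have hxc : IsClosed ({x} : Set X) := by
        by_contra h
        exact hne (CurveLib.eq_genericPoint_of_not_isClosed hX h)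
      exact hy ((show f x = y from hx) ▸ DimLib.isClosed_singleton_image sY f hxc)
  · intro hfin
    have hη : ¬ IsClosed ({f (genericPoint X)} : Set Y) := fun hc ↦ by
      have huniv : f.base ⁻¹' {f (genericPoint X)} = Set.univ :=
        Set.eq_univ_of_forall fun x ↦
          (genericPoint_specializes x).mem_closed (hc.preimage f.continuous) rfl
      have : Finite X := Set.finite_univ_iff.1 (huniv ▸ hfin _)
      have hcl : IsClosed (closedPoints X) := by
        rw [← Set.biUnion_of_singleton (closedPoints X)]
        exact (Set.toFinite _).isClosed_biUnion fun x hx ↦ hx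
      have h := closure_closedPoints (X := X)
      rw [hcl.closure_eq] at h
      exact CurveLib.not_isClosed_genericPoint hX (Set.eq_univ_iff_forall.1 h (genericPoint X))
    have h := CurveLib.eq_genericPoint_of_not_isClosed hY hη
    refine ⟨fun y ↦ closure_mono (Set.singleton_subset_iff.2 (show genericPoint Y ∈ Set.range f from ⟨genericPoint X, h⟩))
      (specializes_iff_mem_closure.1 (genericPoint_specializes y))⟩

end Groth.Agent.S2346
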