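import Groth.Statements.S2348
import Groth.Agent.ProjLib.BlowUpBasics

set_option autoImplicit false
universe u
open CategoryTheory CategoryTheory.Limits AlgebraicGeometry
open EGA2

namespace Groth.Agent.S2348

/-- For an ideal of O_Y: let Y be an integral scheme, I a nonzero quasi-coherent ideal sheaf and b : X →
Y a blowing up of Y in I (characterised by its universal property). Then X is integral, b sends the
generic point of X to that of Y and induces a bijection on their residue fields (b is birational).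
The printed statement also asserts that b is surjective; the proof does not show this and it fails
when I is not of finite type, so it is left out. -/
theorem result {X Y : Scheme.{u}} [IsIntegral Y] (I : Y.IdealSheafData) (hI : I ≠ ⊥)
    (b : X ⟶ Y) (hb : BlowUp.IsBlowUp b I) :
    ∃ (_ : IsIntegral X), ∃ hgen : b.base (genericPoint X) = genericPoint Y,
      Function.Bijective (b.residueFieldMap (genericPoint X)).hom := by
  let W : Y.Opens := ⟨(I.support : Set Y)ᶜ, I.support.isClosed.isOpen_compl⟩
  have hW : Disjoint (I.support : Set Y) (W : Set Y) := disjoint_compl_right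
  have hne : Nonempty W := by
    by_contra h
    rw [not_nonempty_iff] at h
    refine hI (Scheme.IdealSheafData.ext (funext fun V ↦ ?_))
    rw [Scheme.IdealSheafData.ideal_bot, Pi.bot_apply, eq_bot_iff]
    intro s hs
    refine (AlgebraicGeometry.basicOpen_eq_bot_iff s).1 (eq_bot_iff.2 fun y hy ↦ ?_)
    have hy' : y ∈ (I.support : Set Y) := by
      by_contra h'
      exact h.false ⟨y, h'⟩
    exact (Scheme.mem_zeroLocus_iff _ _ _).1 ((I.coe_support_inter V).le ⟨hy', Y.basicOpen_le _ hy⟩).1 s hs hy
  have := ProjLib.isIso_morphismRestrict hb W hW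
  have : IsIntegral (W : Scheme.{u}) := inferInstance
  have : Nonempty (b ⁻¹ᵁ W : Scheme.{u}) := by
    obtain ⟨w⟩ := hne
    exact ⟨(inv (b ∣_ W)) w⟩
  have hW' : IsIntegral (b ⁻¹ᵁ W : Scheme.{u}) := isIntegral_of_isOpenImmersion (b ∣_ W)
  choose U hxU f hf hIf using hb.1
  have hD : ∀ x, X.basicOpen (f x) ≤ b ⁻¹ᵁ W := fun x y hy hy' ↦ by
    have hy'' : y ∈ ((I.comap b).support : Set X) := by
      rw [Scheme.IdealSheafData.support_comap]; exact hy'
    have := ((I.comap b).coe_support_inter (U x)).le ⟨hy'', X.basicOpen_le _ hy⟩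
    exact (Scheme.mem_zeroLocus_iff _ _ _).1 this.1 (f x)
      (by rw [hIf x]; exact Ideal.mem_span_singleton_self _) hy
  have hinj : ∀ x, Function.Injective (X.presheaf.map (homOfLE (X.basicOpen_le (f x))).op).hom := fun x ↦
    have := (U x).2.isLocalization_basicOpen (f x)
    IsLocalization.injective (M := Submonoid.powers (f x)) Γ(X, X.basicOpen (f x)) (Submonoid.powers_le.2 (hf x))
  have hredD : ∀ x, _root_.IsReduced Γ(X, X.basicOpen (f x)) := fun x ↦ by
    have : IsReduced (X.basicOpen (f x) : Scheme.{u}) := isReduced_of_isOpenImmersion (X.homOfLE (hD x))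
    exact isReduced_of_injective ((X.basicOpen (f x)).topIso.inv.hom)
      (ConcreteCategory.bijective_of_isIso (X.basicOpen (f x)).topIso.inv).1
  have hcov : ⨆ x, (U x).1 = ⊤ := top_le_iff.1 fun x _ ↦ TopologicalSpace.Opens.mem_iSup.2 ⟨x, hxU x⟩
  have hred : IsReduced X := by
    have : ∀ x, IsReduced ((U x).1 : Scheme.{u}) := fun x ↦ by
      have := hredD x
      have : _root_.IsReduced (CommRingCat.of Γ(X, (U x).1)) := isReduced_of_injective _ (hinj x)
      exact isReduced_of_isOpenImmersion (U x).2.isoSpec.hom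
    have : ∀ i, IsReduced ((X.openCoverOfIsOpenCover _ (TopologicalSpace.IsOpenCover.mk hcov)).X i) := this
    exact IsReduced.of_openCover _ (X.openCoverOfIsOpenCover _ (TopologicalSpace.IsOpenCover.mk hcov))
  have hdense : ∀ x : X, x ∈ closure ((b ⁻¹ᵁ W : X.Opens) : Set X) := fun x ↦ by
    rw [mem_closure_iff]
    intro O hO hxO
    obtain ⟨z, hz⟩ : x ∈ Set.range (U x).2.fromSpec := by rw [(U x).2.range_fromSpec]; exact hxU x
    have hd := (PrimeSpectrum.denseRange_comap_iff_ker_le_nilRadical _).2
      (((RingHom.injective_iff_ker_eq_bot _).1 (hinj x)).le.trans bot_le)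
    obtain ⟨w, hw⟩ := hd.exists_mem_open (hO.preimage (U x).2.fromSpec.continuous) ⟨z, by
      show (U x).2.fromSpec z ∈ O
      rw [hz]; exact hxO⟩
    refine ⟨_, hw, hD x ?_⟩
    have h := congrArg (fun m : Spec Γ(X, X.basicOpen (f x)) ⟶ X ↦ m w)
      ((U x).2.map_fromSpec ((U x).2.basicOpen (f x)) (homOfLE (X.basicOpen_le (f x))).op)
    simp only [Scheme.Hom.comp_apply] at h
    have hr : ((U x).2.basicOpen (f x)).fromSpec w ∈ Set.range ((U x).2.basicOpen (f x)).fromSpec := ⟨w, rfl⟩
    rw [((U x).2.basicOpen (f x)).range_fromSpec, ← h] at hr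
    exact hr
  have hirr : IrreducibleSpace X := by
    rw [irreducibleSpace_def]
    convert! (((IrreducibleSpace.isIrreducible_univ (b ⁻¹ᵁ W : Scheme.{u})).image _
      (b ⁻¹ᵁ W).ι.continuous.continuousOn).closure)
    rw [Set.image_univ, Scheme.Opens.range_ι]
    exact (Set.eq_univ_of_forall hdense).symm
  have : IsIntegral X := isIntegral_of_irreducibleSpace_of_isReduced _
  refine ⟨this, ?_⟩
  have hgX : (b ⁻¹ᵁ W).ι (genericPoint (b ⁻¹ᵁ W : Scheme.{u})) = genericPoint X :=
    genericPoint_eq_of_isOpenImmersion (b ⁻¹ᵁ W).ι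
  have hgW : (b ∣_ W) (genericPoint (b ⁻¹ᵁ W : Scheme.{u})) = genericPoint (W : Scheme.{u}) :=
    genericPoint_eq_of_isOpenImmersion (b ∣_ W)
  have hgen : b.base (genericPoint X) = genericPoint Y := by
    rw [← hgX, ← genericPoint_eq_of_isOpenImmersion W.ι, ← hgW, ← Scheme.Hom.comp_apply,
      ← Scheme.Hom.comp_apply, morphismRestrict_ι]
  refine ⟨hgen, RingHom.injective _, ?_⟩
  have key : ∀ z : X, z = (genericPoint (b ⁻¹ᵁ W : Scheme.{u})).1 → Function.Surjective (b.residueFieldMap z).hom := by
    rintro z rfl y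
    obtain ⟨t, rfl⟩ := Scheme.residue_surjective X _ y
    have hs : Function.Surjective (b.stalkMap (genericPoint (b ⁻¹ᵁ W : Scheme.{u})).1).hom :=
      ((MorphismProperty.surjective CommRingCat).arrow_mk_iso_iff
        (morphismRestrictStalkMap b W (genericPoint (b ⁻¹ᵁ W : Scheme.{u})))).1
        (ConcreteCategory.bijective_of_isIso ((b ∣_ W).stalkMap _)).2
    obtain ⟨o, rfl⟩ := hs t
    exact ⟨Y.residue _ o, ConcreteCategory.congr_hom (Scheme.residue_residueFieldMap b _) o⟩
  exact key _ hgX.symm

end Groth.Agent.S2348
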