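import Groth.Statements.S2349


set_option autoImplicit false
universe u
open CategoryTheory CategoryTheory.Limits AlgebraicGeometry
open EGA2

namespace Groth.Agent.S2349

/-- Let f : X → Y be separated and of finite type, and let j_i : X_i → X and h_i : Y_i → Y (i in a
finite index type) be closed immersions with morphisms f_i : X_i → Y_i satisfying j_i ≫ f = f_i ≫
h_i, such that the images of the j_i cover X. Then f is proper if and only if every f_i is proper. -/
theorem result {X Y : Scheme.{u}} (f : X ⟶ Y) [IsSeparated f] [LocallyOfFiniteType f] [QuasiCompact f]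
    (ι : Type u) [Finite ι] (Xi Yi : ι → Scheme.{u}) (j : ∀ i, Xi i ⟶ X) (h : ∀ i, Yi i ⟶ Y) (fi : ∀ i, Xi i ⟶ Yi i)
    [∀ i, IsClosedImmersion (j i)] [∀ i, IsClosedImmersion (h i)] (hcomm : ∀ i, j i ≫ f = fi i ≫ h i)
    (hcov : ∀ x : X, ∃ i, x ∈ Set.range (j i).base) : IsProper f ↔ ∀ i, IsProper (fi i) := by
  constructor
  · intro hf i
    have : IsProper (fi i ≫ h i) := hcomm i ▸ inferInstance
    exact IsProper.of_comp (fi i) (h i)
  · intro hp
    have : UniversallyClosed f := by
      constructor
      intro X' Y' i₁ i₂ f' H C hC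
      let c (i : ι) := pullback.fst i₁ (j i)
      have hd : ∀ i, IsClosedMap (c i ≫ f').base := fun i ↦ by
        have := hp i
        have : UniversallyClosed (j i ≫ f) := hcomm i ▸ inferInstance
        exact UniversallyClosed.universally_isClosedMap (f := j i ≫ f) _ _ _
          ((IsPullback.of_hasPullback i₁ (j i)).paste_horiz H)
      have hc : f'.base '' C = ⋃ i, (c i ≫ f').base '' ((c i).base ⁻¹' C) := by
        ext y
        simp only [Set.mem_image, Set.mem_iUnion, Set.mem_preimage]
        constructor
        · rintro ⟨x, hx, rfl⟩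
          obtain ⟨i, hi⟩ := hcov (i₁.base x)
          obtain ⟨z, rfl⟩ := (Scheme.Pullback.range_fst i₁ (j i)).ge hi
          exact ⟨i, z, hx, rfl⟩
        · rintro ⟨i, z, hz, rfl⟩
          exact ⟨_, hz, rfl⟩
      rw [hc]
      exact isClosed_iUnion_of_finite fun i ↦ hd i _ (hC.preimage (c i).continuous)
    exact { }

end Groth.Agent.S2349
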