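import Groth.Statements.S2357
import Groth.Agent.ProjLib.GradedGen

set_option autoImplicit false
universe u
open CategoryTheory CategoryTheory.Limits AlgebraicGeometry
open EGA2

namespace Groth.Agent.S2357

/-- If A is a graded ring which is Noetherian, then Proj A is a Noetherian scheme. -/
theorem result {R A : Type u} [CommRing R] [CommRing A] [Algebra R A] (𝒜 : ℕ → Submodule R A) [GradedAlgebra 𝒜] [IsNoetherianRing A] :
    IsNoetherian (Proj 𝒜) := by
  obtain ⟨h0, hft⟩ := (Groth.Agent.ProjLib.isNoetherianRing_iff_degZero 𝒜).mp inferInstance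
  obtain ⟨s, hs, hspan⟩ := Groth.Agent.ProjLib.exists_finset_homogeneous_span_eq_irrelevant 𝒜
    ((Groth.Agent.ProjLib.irrelevant_fg_iff 𝒜).mpr hft)
  choose d hd hmem using hs
  let S : ↥(s : Set A) → (Proj 𝒜).affineOpens := fun e ↦
    ⟨Proj.basicOpen 𝒜 e.1, Proj.isAffineOpen_basicOpen 𝒜 e.1 (hmem e.1 e.2) (hd e.1 e.2)⟩
  have hS : (⨆ i, S i : (Proj 𝒜).Opens) = ⊤ :=
    Proj.iSup_basicOpen_eq_top 𝒜 (fun e : ↥(s : Set A) ↦ (e : A)) (by rw [Subtype.range_coe, hspan])
  refine (isNoetherian_iff_of_finite_iSup_eq_top hS).mpr fun e ↦ ?_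
  have : IsNoetherianRing (HomogeneousLocalization.Away 𝒜 (e : A)) :=
    have := HomogeneousLocalization.Away.finiteType (𝒜 := 𝒜) (e : A) (d e.1 e.2) (hmem e.1 e.2)
    Algebra.FiniteType.isNoetherianRing (𝒜 0) _
  exact isNoetherianRing_of_ringEquiv _
    (Proj.basicOpenIsoAway 𝒜 (e : A) (hmem e.1 e.2) (hd e.1 e.2)).commRingCatIsoToRingEquiv

end Groth.Agent.S2357
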