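import Groth.Statements.S2453
import Groth.Agent.EGA41Lib.FieldSeparableSmooth
import Groth.Agent.CAlgH.AdicSmoothRegularField
import Groth.Agent.CAlgH.CompleteLocal
import Groth.Agent.CAlgH.RegularPowerSeries
import Groth.Agent.CAlgH.GRingRegular
import Groth.Agent.S19474
import Mathlib

set_option backward.isDefEq.respectTransparency.types false

set_option autoImplicit false
universe u
open EGA41

namespace Groth.Agent.S2453

open IsLocalRing in
/-- Let k be a field and A a Noetherian local k-algebra with maximal ideal 𝔪 and residue field K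
separable over k; give A the 𝔪-adic topology (k discrete). The following are equivalent: (a) A is
formally smooth over k; (b) the 𝔪-adic completion of A is isomorphic to some K[[T_1, …, T_n]] by an
isomorphism carrying the image of k in A to the image of k under k → K → K[[T]]; (b') the completion
is isomorphic as a ring to some K[[T_1, …, T_n]]; (c) A is a regular local ring. -/
theorem result {k A : Type u} [Field k] [CommRing A] [IsLocalRing A] [IsNoetherianRing A] [Algebra k A]
    [Algebra.IsGeometricallyReduced k (ResidueField A)] :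
    [CAlgX.IsAdicFormallySmooth k A (maximalIdeal A),
     ∃ (n : ℕ) (e : AdicCompletion (maximalIdeal A) A ≃+* MvPowerSeries (Fin n) (ResidueField A)),
       ∀ x : k, e (algebraMap A (AdicCompletion (maximalIdeal A) A) (algebraMap k A x)) =
         algebraMap (ResidueField A) (MvPowerSeries (Fin n) (ResidueField A)) (algebraMap k (ResidueField A) x),
     ∃ n : ℕ, Nonempty (AdicCompletion (maximalIdeal A) A ≃+* MvPowerSeries (Fin n) (ResidueField A)),
     IsRegularLocalRing A].TFAE := by
  haveI : Algebra.FormallySmooth k (ResidueField A) :=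
    (Groth.Agent.EGA41Lib.formallySmooth_iff_isGeometricallyReduced_field k (ResidueField A)).2 inferInstance
  tfae_have 1 → 4 := Groth.Agent.CAlgH.AdicSmooth.isRegularLocalRing_of_adicSmooth
  tfae_have 4 → 1 := fun h => by
    haveI := h
    exact Groth.Agent.CAlgH.AdicSmooth.of_regular_formallySmooth_residueField
  tfae_have 2 → 3 := fun ⟨n, e, _⟩ => ⟨n, ⟨e⟩⟩
  tfae_have 3 → 4 := fun ⟨n, ⟨e⟩⟩ => by
    haveI := (Groth.Agent.CAlgH.isRegularLocalRing_mvPowerSeries (ResidueField A) n).1
    exact ((Groth.Agent.S19474.result A _ (maximalIdeal.isMaximal A).ne_top).2).mpr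
      (IsRegularLocalRing.of_ringEquiv e.symm)
  tfae_have 4 → 2 := fun h => by
    haveI := h
    haveI : IsNoetherianRing (EGA4.Cpl A) := Groth.Agent.Matlis6.isNoetherianRing_adicCompletion _
    haveI : IsRegularLocalRing (EGA4.Cpl A) := Groth.Agent.CAlgH.isRegularLocalRing_cpl A
    haveI := Groth.Agent.CAlgH.isLocalHom_algebraMap_cpl A
    let eK : ResidueField A ≃+* ResidueField (EGA4.Cpl A) :=
      RingEquiv.ofBijective _ (AdicCompletion.residueField_map_bijective A)
    obtain ⟨s, hs1, hs2⟩ := Groth.Agent.CAlgH.AdicSmooth.exists_lift_complete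
      (Groth.Agent.CAlgH.AdicSmooth.of_formallySmooth (R := k) (S := ResidueField A) (𝔫 := ⊥))
      ((algebraMap A (EGA4.Cpl A)).comp (algebraMap k A)) (maximalIdeal (EGA4.Cpl A)) eK.toRingHom
      (RingHom.ext fun x => rfl) ⟨1, fun x hx => by
        rw [pow_one, Ideal.mem_bot] at hx
        rw [hx, map_zero]⟩
    obtain ⟨n, e, he⟩ := Groth.Agent.CAlgH.exists_equiv_mvPowerSeries_of_coefficient s fun y =>
      ⟨eK.symm y, (RingHom.congr_fun hs2 (eK.symm y)).trans (eK.apply_symm_apply y)⟩
    refine ⟨n, e.symm, fun x => ?_⟩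
    rw [RingEquiv.symm_apply_eq, MvPowerSeries.algebraMap_apply, Algebra.algebraMap_self, RingHom.id_apply, he]
    exact (RingHom.congr_fun hs1 x).symm
  tfae_finish

end Groth.Agent.S2453
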