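import Groth.Statements.S2454
import Groth.Agent.EGA41Lib.AdicBridge
import Groth.Agent.EGA41Lib.FieldSeparableSmooth
import Groth.Agent.CAlgH.AdicSmoothFlat
import Mathlib

set_option backward.isDefEq.respectTransparency.types false

set_option autoImplicit false
universe u
open EGA41

namespace Groth.Agent.S2454

open IsLocalRing in
/-- Let A → B be a local homomorphism of Noetherian local rings making B a Cohen A-algebra. Then B, with
its adic topology, is formally smooth over A with its adic topology. -/
theorem result {A B : Type u} [CommRing A] [IsLocalRing A] [CommRing B] [IsLocalRing B]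
    [Algebra A B] [IsLocalHom (algebraMap A B)] (h : EGA41.IsCohenAlgebra A B) :
    EGA41.IsFormallySmoothAdic A (maximalIdeal A) B (maximalIdeal B) := by
  obtain ⟨hA, hB, -, hflat, hm, hK⟩ := h
  haveI := hA
  haveI := hB
  haveI := hflat
  haveI := hK
  haveI : Algebra.FormallySmooth (ResidueField A) (ResidueField B) :=
    (Groth.Agent.EGA41Lib.formallySmooth_iff_isGeometricallyReduced_field _ _).2 hK
  rw [Groth.Agent.EGA41Lib.isFormallySmoothAdic_iff Groth.Agent.EGA41Lib.exists_map_pow_maximalIdeal_le]
  refine Groth.Agent.CAlgH.AdicSmooth.of_flat_of_fibre (residue A) residue_surjective (residue B) residue_surjective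
    ?_ rfl (maximalIdeal B) ?_ Groth.Agent.CAlgH.AdicSmooth.of_formallySmooth
  · rw [ker_residue, ker_residue, hm]
  · rw [ker_residue, hm]

end Groth.Agent.S2454
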