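import Groth.Statements.S2455
import Groth.Agent.EGA41Lib.CohenAlgebra
import Mathlib

set_option backward.isDefEq.respectTransparency.types false

set_option autoImplicit false
universe u
open EGA41

namespace Groth.Agent.S2455

open IsLocalRing in
/-- Let A be a Noetherian local ring with residue field k and K a separable extension field of k. Then
there is a Cohen A-algebra B whose residue field is k-isomorphic to K; and two Cohen A-algebras
whose residue fields are k-isomorphic to K are isomorphic as A-algebras. -/
theorem result {A : Type u} [CommRing A] [IsLocalRing A] [IsNoetherianRing A]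
    (K : Type u) [Field K] [Algebra (ResidueField A) K] [Algebra.IsGeometricallyReduced (ResidueField A) K] :
    (∃ (B : Type u) (_ : CommRing B) (_ : IsLocalRing B) (_ : Algebra A B) (_ : IsLocalHom (algebraMap A B)),
      EGA41.IsCohenAlgebra A B ∧ Nonempty (ResidueField B ≃ₐ[ResidueField A] K)) ∧
    ∀ (B B' : Type u) [CommRing B] [IsLocalRing B] [Algebra A B] [IsLocalHom (algebraMap A B)]
      [CommRing B'] [IsLocalRing B'] [Algebra A B'] [IsLocalHom (algebraMap A B')],
      EGA41.IsCohenAlgebra A B → EGA41.IsCohenAlgebra A B' →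
      Nonempty (ResidueField B ≃ₐ[ResidueField A] K) → Nonempty (ResidueField B' ≃ₐ[ResidueField A] K) →
      Nonempty (B ≃ₐ[A] B') := by
  constructor
  · haveI : IsAdicComplete (maximalIdeal K) K := by
      rw [(isField_iff_maximalIdeal_eq.1 (Field.toIsField K) : maximalIdeal K = ⊥)]
      infer_instance
    obtain ⟨C, iC, lC, iA, ρ, h1, h2, h3, h4, h5, h6, h7⟩ := Groth.Agent.EGA41Lib.exists_flat_lift_residueField A K
    have hker : RingHom.ker ρ = maximalIdeal C :=
      IsLocalRing.eq_maximalIdeal (RingHom.ker_isMaximal_of_surjective ρ h5)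
    let e₀ : ResidueField C ≃+* K := (Ideal.quotEquivOfEq hker.symm).trans (RingHom.quotientKerEquivOfSurjective h5)
    haveI := h4
    let e : ResidueField C ≃ₐ[ResidueField A] K := AlgEquiv.ofRingEquiv (f := e₀) fun x => by
      obtain ⟨a, rfl⟩ := residue_surjective x
      exact RingHom.congr_fun h7 a
    refine ⟨C, iC, lC, iA, h4, ⟨inferInstance, h1, h2, h3, h6.symm.trans hker, ?_⟩, ⟨e⟩⟩
    haveI : Algebra.FormallySmooth (ResidueField A) K :=
      (Groth.Agent.EGA41Lib.formallySmooth_iff_isGeometricallyReduced_field (ResidueField A) K).2 inferInstance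
    exact (Groth.Agent.EGA41Lib.formallySmooth_iff_isGeometricallyReduced_field (ResidueField A) (ResidueField C)).1
      (Algebra.FormallySmooth.of_equiv e.symm)
  · intro B B' _ _ _ _ _ _ _ _ hB hB' ⟨e⟩ ⟨e'⟩
    have hfs := Groth.Agent.EGA41Lib.isAdicFormallySmooth_of_isCohenAlgebra hB
    obtain ⟨-, h1, h2, -, h3, -⟩ := hB
    obtain ⟨-, h1', h2', h4', h3', -⟩ := hB'
    haveI := h1
    haveI := h2
    haveI := h1'
    haveI := h2'
    haveI := h4'
    obtain ⟨w, -⟩ := Groth.Agent.EGA41Lib.exists_algEquiv_lift hfs (maximalIdeal A) h3.le h3'.le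
      ((e : ResidueField B →+* K).comp (residue B)) ((e' : ResidueField B' →+* K).comp (residue B'))
      (e.surjective.comp residue_surjective) (e'.surjective.comp residue_surjective)
      (by rw [RingHom.ker_comp_of_injective _ e.injective, ker_residue]; exact h3.symm)
      (by rw [RingHom.ker_comp_of_injective _ e'.injective, ker_residue]; exact h3'.symm) (RingHom.ext fun a =>
        (e.commutes (residue A a)).trans (e'.commutes (residue A a)).symm)
    exact ⟨w⟩

end Groth.Agent.S2455
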