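import Groth.Statements.S2456
import Groth.Agent.EGA41Lib.CohenAlgebra
import Mathlib

set_option backward.isDefEq.respectTransparency.types false

set_option autoImplicit false
universe u
open EGA41

namespace Groth.Agent.S2456

open IsLocalRing in
/-- Let W be a Cohen ring (a field of characteristic zero, or a complete discrete valuation ring with
maximal ideal generated by the residue characteristic), C a complete Noetherian local ring and J ≠ C
an ideal of C. Then every local homomorphism u : W → C/J is induced by a local homomorphism v : W →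
C. -/
theorem result {W C : Type u} [CommRing W] [IsLocalRing W] (hW : EGA41.IsCohenRingEGA W)
    [CommRing C] [IsLocalRing C] [IsNoetherianRing C] [IsAdicComplete (maximalIdeal C) C]
    (J : Ideal C) (hJ : J ≠ ⊤) [IsLocalRing (C ⧸ J)] (u : W →+* C ⧸ J) [IsLocalHom u] :
    ∃ v : W →+* C, IsLocalHom v ∧ (Ideal.Quotient.mk J).comp v = u := by
  refine Groth.Agent.EGA41Lib.exists_lift_cohen_ideal hW J hJ u (Ideal.map_le_iff_le_comap.2 fun x hx => ?_)
  rw [Ideal.mem_comap]
  obtain ⟨c, hc⟩ := Ideal.Quotient.mk_surjective (u x)
  rw [← hc]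
  refine Ideal.mem_map_of_mem _ ((mem_maximalIdeal c).2 fun hu => (mem_maximalIdeal x).1 hx ?_)
  exact IsLocalHom.map_nonunit x (hc ▸ hu.map (Ideal.Quotient.mk J))

end Groth.Agent.S2456
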