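import Groth.Statements.S2457
import Groth.Agent.EGA41Lib.CohenAlgebra
import Mathlib

set_option backward.isDefEq.respectTransparency.types false

set_option autoImplicit false
universe u
open EGA41

namespace Groth.Agent.S2457

open IsLocalRing in
/-- Let W and W' be Cohen rings with residue fields K and K' and u : K ≅ K' an isomorphism. Then u is
induced by some isomorphism v : W ≅ W'. -/
theorem result {W W' : Type u} [CommRing W] [IsLocalRing W] [CommRing W'] [IsLocalRing W']
    (hW : EGA41.IsCohenRingEGA W) (hW' : EGA41.IsCohenRingEGA W') (u : ResidueField W ≃+* ResidueField W') :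
    ∃ v : W ≃+* W', ∀ x : W, residue W' (v x) = u (residue W x) := by
  classical
  rcases hW with ⟨hF, hC0⟩ | hW1
  · rcases hW' with ⟨hF', -⟩ | ⟨_, _, -, p, hp, hm⟩
    · letI := hF.toField
      letI := hF'.toField
      let r : W ≃+* ResidueField W := RingEquiv.ofBijective (residue W) ⟨(residue W).injective, residue_surjective⟩
      let r' : W' ≃+* ResidueField W' := RingEquiv.ofBijective (residue W') ⟨(residue W').injective, residue_surjective⟩
      refine ⟨(r.trans u).trans r'.symm, fun x => ?_⟩
      change r' (r'.symm (u (r x))) = _
      rw [RingEquiv.apply_symm_apply]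
      rfl
    · exfalso
      have h0 : residue W' (p : W') = 0 := by
        rw [residue_eq_zero_iff, hm]; exact Ideal.mem_span_singleton_self _
      have h1 : residue W (p : W) = 0 := u.injective (by rw [map_natCast, map_natCast, map_zero, ← map_natCast (residue W'), h0])
      letI := hF.toField
      exact hp.ne_zero (Nat.cast_eq_zero.1 ((residue W).injective (h1.trans (map_zero _).symm)))
  · obtain ⟨_, _, hc, p, hp, hm⟩ := id hW1
    have h0 : residue W (p : W) = 0 := by rw [residue_eq_zero_iff, hm]; exact Ideal.mem_span_singleton_self _
    have h0' : residue W' (p : W') = 0 := by rw [map_natCast, ← map_natCast u, ← map_natCast (residue W), h0, map_zero]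
    rcases hW' with ⟨hF', hC'⟩ | hW2
    · exfalso
      letI := hF'.toField
      exact hp.ne_zero (Nat.cast_eq_zero.1 ((residue W').injective (h0'.trans (map_zero _).symm)))
    · obtain ⟨_, _, hc', q, hq, hm'⟩ := id hW2
      haveI := hc
      haveI := hc'
      have hpq : p = q := by
        by_contra hne
        have hco : IsCoprime (p : ℤ) (q : ℤ) := Int.isCoprime_iff_gcd_eq_one.mpr (by
          simpa using (Nat.coprime_primes hp hq).mpr hne)
        obtain ⟨a, b, hab⟩ := hco
        have hq0 : residue W' (q : W') = 0 := by rw [residue_eq_zero_iff, hm']; exact Ideal.mem_span_singleton_self _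
        have := congrArg (fun z : ℤ => residue W' (z : W')) hab
        simp only [Int.cast_add, Int.cast_mul, Int.cast_natCast, Int.cast_one, map_add, map_mul, h0', hq0, mul_zero,
          add_zero, map_one] at this
        exact zero_ne_one this
      subst hpq
      haveI : IsLocalHom ((u : ResidueField W →+* ResidueField W').comp (residue W)) :=
        (u.surjective.comp residue_surjective).isLocalHom
      obtain ⟨v, hvloc, hv⟩ := Groth.Agent.EGA41Lib.exists_lift_cohen_ideal (Or.inr hW1) (maximalIdeal W')
        (maximalIdeal.isMaximal W').ne_top ((u : ResidueField W →+* ResidueField W').comp (residue W))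
        (Ideal.map_le_iff_le_comap.2 fun x hx => by
          rw [Ideal.mem_comap]
          change u (residue W x) ∈ _
          rw [(residue_eq_zero_iff x).2 hx, map_zero]
          exact Ideal.zero_mem _)
      have hv' : ∀ x, residue W' (v x) = u (residue W x) := fun x => RingHom.congr_fun hv x
      have hmap : (maximalIdeal W).map v = maximalIdeal W' := by
        rw [hm, hm', Ideal.map_span, Set.image_singleton, map_natCast]
      haveI : IsHausdorff ((maximalIdeal W).map v) W' := by rw [hmap]; infer_instance
      have hsurj : Function.Surjective v := Groth.Agent.EGA41Lib.surjective_of_mod v (maximalIdeal W) (fun y => by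
        obtain ⟨x, hx⟩ := u.surjective (residue W' y)
        obtain ⟨x, rfl⟩ := residue_surjective x
        refine ⟨x, ?_⟩
        rw [hmap, ← residue_eq_zero_iff, map_sub, hv', hx, sub_self])
      have hinj : Function.Injective v := by
        rw [RingHom.injective_iff_ker_eq_bot]
        by_contra hne
        haveI : (RingHom.ker v).IsPrime := RingHom.ker_isPrime v
        have h1 : (RingHom.ker v) = maximalIdeal W := IsLocalRing.eq_maximalIdeal (Ideal.IsPrime.isMaximal inferInstance hne)
        refine IsDiscreteValuationRing.not_a_field W' ?_
        rw [← hmap, ← h1, Ideal.map_eq_bot_iff_le_ker]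
      exact ⟨RingEquiv.ofBijective v ⟨hinj, hsurj⟩, hv'⟩

end Groth.Agent.S2457
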