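import Groth.Statements.S2458
import Groth.Agent.CAlgH.CompleteLocal
import Groth.Agent.CAlgH.AdicSmooth
import Groth.Agent.CAlgH3.RegularLocal
import Groth.Agent.CAlgH3.FibreRegular
import Mathlib

set_option backward.isDefEq.respectTransparency.types false

set_option autoImplicit false
universe u
open EGA41

namespace Groth.Agent.S2458

open IsLocalRing in
/-- Let A be an Artinian local ring whose maximal ideal 𝔪 satisfies 𝔪² = 0. Then there is a regular
local ring B with maximal ideal 𝔫 such that A ≅ B/𝔫². -/
theorem result {A : Type u} [CommRing A] [IsLocalRing A] [IsArtinianRing A]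
    (h : maximalIdeal A ^ 2 = ⊥) :
    ∃ (B : Type u) (_ : CommRing B) (_ : IsRegularLocalRing B), Nonempty (A ≃+* B ⧸ IsLocalRing.maximalIdeal B ^ 2) := by
  classical
  have key : ∀ (d : ℕ) (B : Type u) [CommRing B] [IsRegularLocalRing B] (f : B →+* A),
      Function.Surjective f → (maximalIdeal B).spanFinrank = d →
      ∃ (B' : Type u) (_ : CommRing B') (_ : IsRegularLocalRing B'), Nonempty (A ≃+* B' ⧸ IsLocalRing.maximalIdeal B' ^ 2) := by
    intro d
    induction d using Nat.strong_induction_on with
    | _ d ih =>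
      intro B _ _ f hf hd
      haveI : IsLocalHom f := .of_surjective f hf
      by_cases hker : RingHom.ker f ≤ maximalIdeal B ^ 2
      · have hge : maximalIdeal B ^ 2 ≤ RingHom.ker f := by
          intro x hx
          have h1 := Ideal.mem_map_of_mem f hx
          rw [Ideal.map_pow] at h1
          have h2 := Ideal.pow_right_mono
            (Ideal.map_le_iff_le_comap.2 (le_of_eq (IsLocalRing.maximalIdeal_comap f).symm)) 2 h1
          rw [h, Ideal.mem_bot] at h2
          exact h2
        exact ⟨B, inferInstance, inferInstance,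
          ⟨((Ideal.quotEquivOfEq (le_antisymm hge hker)).trans (RingHom.quotientKerEquivOfSurjective hf)).symm⟩⟩
      · obtain ⟨x, hxk, hx2⟩ := SetLike.not_le_iff_exists.1 hker
        have hxm : x ∈ maximalIdeal B := fun hu => by
          have := hu.map f
          rw [RingHom.mem_ker.1 hxk] at this
          exact not_isUnit_zero this
        haveI := (Groth.Agent.CAlgH3.regular_quotient_of_notMem_sq hxm hx2).1
        have hrank := Groth.Agent.CAlgH3.spanFinrank_quotient_add_one_of_notMem_sq hxm hx2
        exact ih _ (by omega) (B ⧸ Ideal.span {x})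
          (Ideal.Quotient.lift _ f ((Ideal.span_singleton_le_iff_mem _).2 hxk))
          (Ideal.Quotient.lift_surjective_of_surjective _ _ hf) rfl
  haveI : IsAdicComplete (maximalIdeal A) A := Groth.Agent.CAlgH.AdicSmooth.isAdicComplete_of_pow_eq_bot h
  obtain ⟨Λ, _, φ, hΛ, hres, -⟩ := Groth.Agent.CAlgH.exists_coefficient_ring A
  obtain ⟨n, a, ha⟩ := Submodule.fg_iff_exists_fin_generating_family.mp (IsNoetherian.noetherian (maximalIdeal A))
  have hI : ∀ i, a i ∈ maximalIdeal A := fun i => ha ▸ Submodule.subset_span ⟨i, rfl⟩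
  obtain ⟨f, hfC, hfX⟩ := Groth.Agent.CAlgH.exists_mvPowerSeries_eval φ (maximalIdeal A) a hI
  haveI := hΛ
  haveI : IsRegularLocalRing (MvPowerSeries (Fin n) Λ) := (Groth.Agent.CAlgH.isRegularLocalRing_mvPowerSeries Λ n).1
  refine key _ (MvPowerSeries (Fin n) Λ) f ?_ rfl
  refine Groth.Agent.CAlgH.surjective_mvPowerSeries_hom f (maximalIdeal A) (fun i => (hfX i).symm ▸ hI i) ?_
  rw [show (fun i => f (MvPowerSeries.X i)) = a from funext hfX, hfC, show Ideal.span (Set.range a) = maximalIdeal A from ha]
  exact hres

end Groth.Agent.S2458
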