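import Groth.Statements.S2459
import Groth.Agent.CAlgH.CompleteLocal
import Groth.Agent.CAlgH.CohenExistence
import Groth.Agent.CAlgH.AdicSmooth
import Groth.Agent.EGA41Lib.CohenLifting
import Mathlib

set_option backward.isDefEq.respectTransparency.types false

set_option autoImplicit false
universe u
open EGA41

namespace Groth.Agent.S2459

open IsLocalRing in
/-- Let A be an Artinian local ring with maximal ideal 𝔪 and residue field of characteristic p (p = 0
allowed). Then A is isomorphic to a quotient of a Cohen ring if and only if 𝔪 is generated by p·1. -/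
theorem result {A : Type u} [CommRing A] [IsLocalRing A] [IsArtinianRing A]
    (p : ℕ) [CharP (ResidueField A) p] :
    (∃ (W : Type u) (_ : CommRing W) (I : Ideal W), EGA41.IsCohenRingEGA W ∧ Nonempty (A ≃+* W ⧸ I)) ↔
      maximalIdeal A = Ideal.span {(p : A)} := by
  classical
  have hpm : (p : A) ∈ maximalIdeal A := by
    rw [← residue_eq_zero_iff, map_natCast, CharP.cast_eq_zero]
  constructor
  · rintro ⟨W, _, I, hW, ⟨e⟩⟩
    let π : W →+* A := e.symm.toRingHom.comp (Ideal.Quotient.mk I)
    have hπ : Function.Surjective π := e.symm.surjective.comp Ideal.Quotient.mk_surjective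
    rcases hW with ⟨hF, hC⟩ | ⟨_, _, -, q, hq, hm⟩
    · letI := hF.toField
      haveI : CharP W p := (((residue A).comp π).charP_iff ((residue A).comp π).injective p).2 inferInstance
      have hp0 : p = 0 := CharP.eq W inferInstance (CharP.ofCharZero W)
      subst hp0
      rw [Nat.cast_zero, Ideal.span_singleton_zero, eq_bot_iff]
      intro y hy
      obtain ⟨w, rfl⟩ := hπ y
      by_contra hne
      have hw : w ≠ 0 := fun h => hne (by rw [h, map_zero]; exact zero_mem _)
      exact hy ((isUnit_iff_ne_zero.2 hw).map π)
    · haveI : IsLocalHom π := .of_surjective π hπ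
      have hmap : (maximalIdeal W).map π = maximalIdeal A := by
        refine le_antisymm (Ideal.map_le_iff_le_comap.2 (le_of_eq (IsLocalRing.maximalIdeal_comap π).symm)) fun y hy => ?_
        obtain ⟨w, rfl⟩ := hπ y
        exact Ideal.mem_map_of_mem π fun hu => hy (hu.map π)
      rw [hm, Ideal.map_span, Set.image_singleton, map_natCast] at hmap
      have hdvd : p ∣ q := (CharP.cast_eq_zero_iff (ResidueField A) p q).1 (by
        rw [← map_natCast (residue A), residue_eq_zero_iff, ← hmap]; exact Ideal.mem_span_singleton_self _)
      rcases (Nat.dvd_prime hq).1 hdvd with h1 | h1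
      · exact absurd h1 (CharP.char_ne_one (ResidueField A) p)
      · rw [← hmap, h1]
  · intro hm
    have hnil : IsNilpotent (maximalIdeal A) := by
      rw [← IsLocalRing.jacobson_eq_maximalIdeal (⊥ : Ideal A) bot_ne_top]
      exact IsArtinianRing.isNilpotent_jacobson_bot
    obtain ⟨N, hN⟩ := hnil
    haveI : IsAdicComplete (maximalIdeal A) A := Groth.Agent.CAlgH.AdicSmooth.isAdicComplete_of_pow_eq_bot hN
    obtain ⟨Λ, _, φ, -, hres, hcase⟩ := Groth.Agent.CAlgH.exists_coefficient_ring A
    rcases hcase with ⟨hF, -⟩ | ⟨hΛ, -, q, hq, hqm, hq0, hl, hc, hqΛ⟩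
    · letI := hF.toField
      haveI : CharP Λ p := (((residue A).comp φ).charP_iff ((residue A).comp φ).injective p).2 inferInstance
      have hp0 : (p : A) = 0 := by rw [← map_natCast φ, CharP.cast_eq_zero, map_zero]
      rw [hp0, Ideal.span_singleton_zero] at hm
      have hfield : IsField A := IsLocalRing.isField_iff_maximalIdeal_eq.2 hm
      rcases CharP.char_is_prime_or_zero (ResidueField A) p with hp | hp
      · haveI := Fact.mk hp
        letI : Field A := hfield.toField
        haveI : CharP A p := ((residue A).charP_iff (residue A).injective p).2 inferInstance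
        obtain ⟨W, _, _, hW, ⟨e⟩⟩ := Groth.Agent.CAlgH.exists_cohenRing p A
        exact ⟨W, inferInstance, maximalIdeal W, Or.inr hW, ⟨e.symm⟩⟩
      · subst hp
        letI : Field A := hfield.toField
        haveI : CharP A 0 := ((residue A).charP_iff (residue A).injective 0).2 inferInstance
        exact ⟨A, inferInstance, ⊥, Or.inl ⟨hfield, CharP.charP_to_charZero A⟩, ⟨(RingEquiv.quotientBot A).symm⟩⟩
    · have hdvd : p ∣ q := (CharP.cast_eq_zero_iff (ResidueField A) p q).1 (by
        rw [← map_natCast (residue A), residue_eq_zero_iff]; exact hqm)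
      rcases (Nat.dvd_prime hq).1 hdvd with h1 | h1
      · exact absurd h1 (CharP.char_ne_one (ResidueField A) p)
      · subst h1
        have hmap : (maximalIdeal Λ).map φ = maximalIdeal A := by
          rw [hqΛ, Ideal.map_span, Set.image_singleton, map_natCast, hm]
        haveI : IsHausdorff ((maximalIdeal Λ).map φ) A := by rw [hmap]; infer_instance
        haveI := hc
        have hsurj : Function.Surjective φ := Groth.Agent.EGA41Lib.surjective_of_mod φ (maximalIdeal Λ) fun y => by
          obtain ⟨b, hb⟩ := hres (residue A y)
          exact ⟨b, by rw [hmap, ← residue_eq_zero_iff, map_sub, show residue A (φ b) = residue A y from hb, sub_self]⟩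
        exact ⟨Λ, inferInstance, RingHom.ker φ, Or.inr hΛ, ⟨(RingHom.quotientKerEquivOfSurjective hsurj).symm⟩⟩

end Groth.Agent.S2459
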