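import Groth.Statements.S2460
import Groth.Agent.CommAlg6.CompletedKaehlerRank
import Mathlib

set_option backward.isDefEq.respectTransparency.types false

set_option autoImplicit false
universe u
open EGA41

namespace Groth.Agent.S2460

open IsLocalRing in
/-- Let A be a complete Noetherian local domain containing a field k₀ such that the residue field of A
is a finite extension of k₀. Then there are n and an injective local k₀-algebra homomorphism from
the power series ring k₀[[T_1, …, T_n]] into A making A a finite module over it. -/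
theorem result {k₀ A : Type u} [Field k₀] [CommRing A] [IsDomain A] [IsLocalRing A] [IsNoetherianRing A]
    [IsAdicComplete (maximalIdeal A) A] [Algebra k₀ A] [Module.Finite k₀ (ResidueField A)] :
    ∃ (n : ℕ) (w : MvPowerSeries (Fin n) k₀ →ₐ[k₀] A), Function.Injective w ∧ IsLocalHom w.toRingHom ∧ w.toRingHom.Finite := by
  classical
  obtain ⟨n, t, hn, ht, hart⟩ := CAlgH.exists_sop A
  obtain ⟨N, hN⟩ : ∃ N, maximalIdeal A ^ N ≤ Ideal.span (Set.range t) := by
    haveI := hart
    haveI : Nontrivial (A ⧸ Ideal.span (Set.range t)) := Ideal.Quotient.nontrivial_iff.mpr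
      (ne_top_of_le_ne_top (maximalIdeal.isMaximal A).ne_top (Ideal.span_le.mpr (by rintro _ ⟨i, rfl⟩; exact ht i)))
    haveI : IsLocalRing (A ⧸ Ideal.span (Set.range t)) := IsLocalRing.of_surjective' _ Ideal.Quotient.mk_surjective
    obtain ⟨N, hN⟩ := IsArtinianRing.isNilpotent_jacobson_bot (R := A ⧸ Ideal.span (Set.range t))
    rw [IsLocalRing.jacobson_eq_maximalIdeal ⊥ bot_ne_top] at hN
    refine ⟨N, ?_⟩
    rw [← Ideal.mk_ker (I := Ideal.span (Set.range t)), ← Ideal.map_eq_bot_iff_le_ker, Ideal.map_pow]
    rw [IsLocalRing.map_maximalIdeal_of_surjective _ Ideal.Quotient.mk_surjective, hN]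
    rfl
  obtain ⟨φ, hC, hX, hfin, hloc⟩ := CommAlg6.exists_mvPowerSeries_algebra k₀ A t ht N hN
  have hinj : Function.Injective φ := CAlgH.injective_mvPowerSeries_hom φ hfin
    (by rw [hn, ringKrullDim_eq_zero_of_field, zero_add])
  exact ⟨n, { φ with commutes' := fun c => RingHom.congr_fun hC c }, hinj, hloc, hfin⟩

end Groth.Agent.S2460
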