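import Groth.Statements.S2461
import Groth.Agent.EGA41Lib.AdicBridge
import Mathlib

set_option backward.isDefEq.respectTransparency.types false

set_option autoImplicit false
universe u
open EGA41

namespace Groth.Agent.S2461

/-- Let A carry the 𝔞-adic topology and let B be a Noetherian A-algebra with the 𝔟-adic topology. Then B
is formally smooth over A if and only if the 𝔟-adic completion of B, with the adic topology of the
extended ideal, is formally smooth over A. -/
theorem result {A B : Type u} [CommRing A] (𝔞 : Ideal A) [CommRing B] [IsNoetherianRing B] [Algebra A B] (𝔟 : Ideal B) :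
    EGA41.IsFormallySmoothAdic A 𝔞 B 𝔟 ↔
      EGA41.IsFormallySmoothAdic A 𝔞 (AdicCompletion 𝔟 B) (𝔟.map (algebraMap B (AdicCompletion 𝔟 B))) := by
  have ht : Groth.Agent.CAlgH.AdicSmooth.IsTruncIso (algebraMap B (AdicCompletion 𝔟 B)) 𝔟 :=
    Groth.Agent.CAlgH.AdicSmooth.isTruncIso_adicCompletion 𝔟 (IsNoetherian.noetherian 𝔟)
  have hcomm : ∀ a : A, algebraMap B (AdicCompletion 𝔟 B) (algebraMap A B a) = algebraMap A (AdicCompletion 𝔟 B) a :=
    fun a => (IsScalarTower.algebraMap_apply A B (AdicCompletion 𝔟 B) a).symm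
  constructor
  · intro h C _ _ J hJ hC u ⟨k, hk⟩
    have huι : ∀ x ∈ 𝔟 ^ k, u (algebraMap B (AdicCompletion 𝔟 B) x) = 0 := fun x hx => hk _ (by
      rw [← Ideal.map_pow]; exact Ideal.mem_map_of_mem _ hx)
    obtain ⟨v, hv⟩ := h C J hJ hC (u.comp (IsScalarTower.toAlgHom A B (AdicCompletion 𝔟 B))) ⟨k, huι⟩
    obtain ⟨N, hN⟩ := Groth.Agent.EGA41Lib.exists_pow_kill v.toRingHom hJ (k := k) fun x hx => by
      rw [← Ideal.Quotient.eq_zero_iff_mem]
      exact (DFunLike.congr_fun hv x).trans (huι x hx)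
    obtain ⟨g, hg, hgN⟩ := ht.exists_extend v.toRingHom N hN
    refine ⟨{ toRingHom := g, commutes' := fun a => ?_ }, ?_⟩
    · rw [← hcomm]
      exact (RingHom.congr_fun hg _).trans (v.commutes a)
    · refine AlgHom.ext fun x => RingHom.congr_fun (f := (Ideal.Quotient.mk J).comp g) (g := u.toRingHom) ?_ x
      refine ht.hom_ext (max k N) (fun x hx => ?_) (fun x hx => ?_) ?_
      · rw [RingHom.comp_apply, hgN x (Ideal.pow_le_pow_right (le_max_right k N) hx), map_zero]
      · exact hk x (Ideal.pow_le_pow_right (le_max_left k N) hx)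
      · rw [RingHom.comp_assoc, hg]
        exact RingHom.ext fun b => DFunLike.congr_fun hv b
  · intro h C _ _ J hJ hC u ⟨k, hk⟩
    obtain ⟨g, hg, hgN⟩ := ht.exists_extend u.toRingHom k hk
    let gₐ : AdicCompletion 𝔟 B →ₐ[A] C ⧸ J :=
      { toRingHom := g
        commutes' := fun a => by rw [← hcomm]; exact (RingHom.congr_fun hg _).trans (u.commutes a) }
    obtain ⟨v, hv⟩ := h C J hJ hC gₐ ⟨k, hgN⟩
    refine ⟨v.comp (IsScalarTower.toAlgHom A B (AdicCompletion 𝔟 B)), AlgHom.ext fun b => ?_⟩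
    exact (DFunLike.congr_fun hv (algebraMap B (AdicCompletion 𝔟 B) b)).trans (RingHom.congr_fun hg b)

end Groth.Agent.S2461
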