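import Groth.Statements.S2463
import Groth.Agent.EGA41Lib.SmoothQuotientCrit
import Mathlib

set_option backward.isDefEq.respectTransparency.types false

set_option autoImplicit false
universe u
open EGA41

namespace Groth.Agent.S2463

open TensorProduct KaehlerDifferential in
/-- Let B be a formally smooth A-algebra (discrete topologies), B → C a surjection with kernel J such
that J/J² is a finitely generated module (over B, equivalently over C), and p a prime of C. The
following are equivalent: the local ring C_p is formally smooth over A; the map κ(p) ⊗ J/J² → κ(p) ⊗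
(C ⊗_B Ω_{B/A}) induced by d is injective (tensor products over B, which agree with those over C =
B/J); there is f ∈ C outside p with C_f formally smooth over A. -/
theorem result {A B C : Type u} [CommRing A] [CommRing B] [CommRing C] [Algebra A B] [Algebra B C] [Algebra A C]
    [IsScalarTower A B C] [Algebra.FormallySmooth A B] (hsurj : Function.Surjective (algebraMap B C))
    [Module.Finite B (RingHom.ker (algebraMap B C)).Cotangent] (p : Ideal C) [p.IsPrime] :
    [Algebra.FormallySmooth A (Localization.AtPrime p),
     Function.Injective ((kerCotangentToTensor A B C).lTensor p.ResidueField),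
     ∃ f : C, f ∉ p ∧ Algebra.FormallySmooth A (Localization.Away f)].TFAE := by
  classical
  tfae_have 1 → 2 := fun h => by
    haveI := h
    obtain ⟨b, hb, hgood⟩ := Groth.Agent.EGA41Lib.SQL.exists_good_of_formallySmooth (A := A) hsurj p.primeCompl
      (Localization.AtPrime p)
    exact Groth.Agent.EGA41Lib.SQL.injective_of_good hsurj p hb hgood
  tfae_have 2 → 3 := fun h => by
    obtain ⟨b, hb, hgood⟩ := Groth.Agent.EGA41Lib.SQL.exists_good_of_injective hsurj p h
    exact ⟨algebraMap B C b, hb, Groth.Agent.EGA41Lib.SQL.formallySmooth_of_good hsurj
      (Submonoid.powers (algebraMap B C b)) _ b (Submonoid.mem_powers _) hgood⟩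
  tfae_have 3 → 1 := fun ⟨f, hf, h⟩ => by
    haveI := h
    obtain ⟨b, ⟨n, hn⟩, hgood⟩ := Groth.Agent.EGA41Lib.SQL.exists_good_of_formallySmooth (A := A) hsurj
      (Submonoid.powers f) (Localization.Away f)
    refine Groth.Agent.EGA41Lib.SQL.formallySmooth_of_good hsurj p.primeCompl _ b ?_ hgood
    rw [← hn]
    exact p.primeCompl.pow_mem hf n
  tfae_finish

end Groth.Agent.S2463
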