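import Groth.Statements.S2464
import Groth.Agent.EGA41Lib.PBasisBase
import Mathlib

set_option backward.isDefEq.respectTransparency.types false

set_option autoImplicit false
universe u
open EGA41

namespace Groth.Agent.S2464

/-- Let p be a prime, B a ring of characteristic p and A → B an injective ring map whose image contains
every p-th power, and (x_α) a p-basis of B over A. Let E be an A-algebra and q : E → B a surjective
A-algebra homomorphism whose kernel K has K^p = 0. (i) q admits an A-algebra right inverse if and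
only if, for all z ∈ E and a ∈ A with a ↦ q(z)^p in B, the image of a in E is z^p. (ii) When this
holds, for every family (z_α) in E with q(z_α) = x_α there is a unique A-algebra homomorphism v : B
→ E with v(x_α) = z_α for all α, and q ∘ v is the identity. -/
theorem result (p : ℕ) [Fact p.Prime] {A B : Type u} [CommRing A] [CommRing B] [Algebra A B] [CharP B p]
    (hinj : Function.Injective (algebraMap A B)) (hpow : ∀ b : B, b ^ p ∈ Set.range (algebraMap A B))
    {ι : Type u} (x : ι → B) (hx : EGA41.IsPBasis p A x)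
    {E : Type u} [CommRing E] [Algebra A E] (q : E →ₐ[A] B) (hq : Function.Surjective q) (hK : RingHom.ker q.toRingHom ^ p = ⊥) :
    ((∃ v : B →ₐ[A] E, q.comp v = AlgHom.id A B) ↔ ∀ (z : E) (a : A), algebraMap A B a = q z ^ p → algebraMap A E a = z ^ p) ∧
    ((∀ (z : E) (a : A), algebraMap A B a = q z ^ p → algebraMap A E a = z ^ p) →
      ∀ z : ι → E, (∀ i, q (z i) = x i) →
        (∃! v : B →ₐ[A] E, ∀ i, v (x i) = z i) ∧ ∀ v : B →ₐ[A] E, (∀ i, v (x i) = z i) → q.comp v = AlgHom.id A B) := by
  have hp : 0 < p := (Fact.out : p.Prime).pos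
  haveI : CharP A p := (algebraMap A B).charP hinj p
  have hpE : (p : E) = 0 := by rw [← map_natCast (algebraMap A E) p, CharP.cast_eq_zero, map_zero]
  haveI : Nontrivial B := CharP.nontrivial_of_char_ne_one (Fact.out : p.Prime).ne_one
  haveI : Nontrivial E := q.toRingHom.domain_nontrivial
  haveI : CharP E p := (CharP.charP_iff_prime_eq_zero Fact.out).2 hpE
  have hadj := (Groth.Agent.EGA41Lib.PB.isPGenerating_iff_adjoin hp hpow).1 hx.2
  have hlift : (∀ (z : E) (a : A), algebraMap A B a = q z ^ p → algebraMap A E a = z ^ p) →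
      ∀ z : ι → E, (∀ i, q (z i) = x i) →
        (∃! v : B →ₐ[A] E, ∀ i, v (x i) = z i) ∧ ∀ v : B →ₐ[A] E, (∀ i, v (x i) = z i) → q.comp v = AlgHom.id A B := by
    intro hcond z hz
    obtain ⟨v, hv⟩ := Groth.Agent.EGA41Lib.PB.exists_algHom_base hp hinj hpow hx z
      (fun i a ha => (hcond (z i) a (by rw [hz]; exact ha)).symm)
    refine ⟨⟨v, hv, fun w hw => AlgHom.ext_of_adjoin_eq_top hadj ?_⟩,
      fun w hw => AlgHom.ext_of_adjoin_eq_top hadj ?_⟩
    · rintro _ ⟨i, rfl⟩
      rw [hv, hw]
    · rintro _ ⟨i, rfl⟩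
      rw [AlgHom.comp_apply, hw, hz]
      rfl
  refine ⟨⟨?_, fun hcond => ?_⟩, hlift⟩
  · rintro ⟨v, hv⟩ z a ha
    have hk : (z - v (q z)) ^ p = 0 := by
      have h1 : z - v (q z) ∈ RingHom.ker q.toRingHom := by
        rw [RingHom.mem_ker]
        change q (z - v (q z)) = 0
        rw [map_sub, ← AlgHom.comp_apply q v, hv, AlgHom.id_apply, sub_self]
      have := Ideal.pow_mem_pow h1 p
      rwa [hK, Submodule.mem_bot] at this
    rw [sub_pow_char, sub_eq_zero] at hk
    rw [hk, ← map_pow, ← ha, AlgHom.commutes]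
  · choose z hz using fun i => hq (x i)
    obtain ⟨⟨v, hv, -⟩, h2⟩ := hlift hcond z hz
    exact ⟨v, h2 v hv⟩

end Groth.Agent.S2464
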