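import Groth.Statements.S2465
import Groth.Agent.EGA41Lib.PBasisBase
import Mathlib

set_option backward.isDefEq.respectTransparency.types false

set_option autoImplicit false
universe u
open EGA41

namespace Groth.Agent.S2465

/-- Let p be a prime, B a ring of characteristic p, A → B injective with image containing all p-th
powers, (x_α) a p-basis of B over A, and L a B-module. (i) An additive derivation D : A → L extends
to a derivation of B if and only if D vanishes on the elements of A mapping to p-th powers. (ii) In
that case, for every family (y_α) in L there is a unique derivation D' of B into L extending D with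
D'(x_α) = y_α for all α. -/
theorem result (p : ℕ) [Fact p.Prime] {A B : Type u} [CommRing A] [CommRing B] [Algebra A B] [CharP B p]
    (hinj : Function.Injective (algebraMap A B)) (hpow : ∀ b : B, b ^ p ∈ Set.range (algebraMap A B))
    {ι : Type u} (x : ι → B) (hx : EGA41.IsPBasis p A x)
    (L : Type u) [AddCommGroup L] [Module B L] [Module A L] [IsScalarTower A B L] (D : Derivation ℤ A L) :
    ((∃ D' : Derivation ℤ B L, ∀ a : A, D' (algebraMap A B a) = D a) ↔ ∀ (a : A) (b : B), algebraMap A B a = b ^ p → D a = 0) ∧
    ((∀ (a : A) (b : B), algebraMap A B a = b ^ p → D a = 0) →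
      ∀ y : ι → L, ∃! D' : Derivation ℤ B L, (∀ a : A, D' (algebraMap A B a) = D a) ∧ ∀ i, D' (x i) = y i) := by
  have hp : 0 < p := (Fact.out : p.Prime).pos
  have hadj := (Groth.Agent.EGA41Lib.PB.isPGenerating_iff_adjoin hp hpow).1 hx.2
  have hfwd : ∀ D' : Derivation ℤ B L, (∀ a, D' (algebraMap A B a) = D a) →
      ∀ (a : A) (b : B), algebraMap A B a = b ^ p → D a = 0 := fun D' hD' a b hab => by
    rw [← hD', hab, Groth.Agent.EGA41Lib.PB.derivation_pow_eq_zero]
  have hbwd : (∀ (a : A) (b : B), algebraMap A B a = b ^ p → D a = 0) →
      ∀ y : ι → L, ∃! D' : Derivation ℤ B L, (∀ a : A, D' (algebraMap A B a) = D a) ∧ ∀ i, D' (x i) = y i := by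
    intro hD y
    letI : Module Bᵐᵒᵖ L := Module.compHom L (RingEquiv.toOpposite B).symm.toRingHom
    haveI : IsCentralScalar B L := ⟨fun _ _ => rfl⟩
    let g : A →+* TrivSqZeroExt B L :=
      { toFun := fun a => TrivSqZeroExt.inl (algebraMap A B a) + TrivSqZeroExt.inr (D a)
        map_one' := by ext <;> simp
        map_mul' := fun a c => by ext <;> simp [add_comm]
        map_zero' := by ext <;> simp
        map_add' := fun a c => by ext <;> simp }
    letI : Algebra A (TrivSqZeroExt B L) := g.toAlgebra
    obtain ⟨v, hv⟩ := Groth.Agent.EGA41Lib.PB.exists_algHom_base (E := TrivSqZeroExt B L) hp hinj hpow hx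
      (fun i => TrivSqZeroExt.inl (x i) + TrivSqZeroExt.inr (y i)) (fun i a ha => by
        change _ = g a
        apply TrivSqZeroExt.ext
        · rw [TrivSqZeroExt.fst_pow]
          simp [g, ha]
        · rw [TrivSqZeroExt.snd_pow, ← Nat.cast_smul_eq_nsmul B, CharP.cast_eq_zero B p]
          simp [g, hD a (x i) ha])
    have hfst : ∀ b, (v b).fst = b := by
      intro b
      let φ : TrivSqZeroExt B L →ₐ[A] B :=
        { toRingHom :=
            { toFun := TrivSqZeroExt.fst
              map_one' := TrivSqZeroExt.fst_one
              map_mul' := TrivSqZeroExt.fst_mul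
              map_zero' := TrivSqZeroExt.fst_zero
              map_add' := TrivSqZeroExt.fst_add }
          commutes' := fun a => by
            change (g a).fst = algebraMap A B a
            simp [g] }
      have : φ.comp v = AlgHom.id A B := AlgHom.ext_of_adjoin_eq_top hadj (by
        rintro _ ⟨i, rfl⟩
        change (v (x i)).fst = x i
        simp [hv])
      exact DFunLike.congr_fun this b
    let D' : Derivation ℤ B L := Derivation.mk'
      (AddMonoidHom.mk' (fun b => (v b).snd) (fun b c => by rw [map_add, TrivSqZeroExt.snd_add])).toIntLinearMap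
      (fun b c => by
        change (v (b * c)).snd = b • (v c).snd + c • (v b).snd
        rw [map_mul, TrivSqZeroExt.snd_mul, hfst, hfst, op_smul_eq_smul])
    refine ⟨D', ⟨fun a => ?_, fun i => ?_⟩, fun D'' h'' => Derivation.ext fun b => ?_⟩
    · change (v (algebraMap A B a)).snd = D a
      rw [AlgHom.commutes]
      change (g a).snd = D a
      simp [g]
    · change (v (x i)).snd = y i
      simp [hv]
    · have hb : b ∈ Algebra.adjoin A (Set.range x) := hadj ▸ Algebra.mem_top
      induction hb using Algebra.adjoin_induction with
      | mem t ht =>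
        obtain ⟨i, rfl⟩ := ht
        rw [h''.2]
        change y i = (v (x i)).snd
        simp [hv]
      | algebraMap a =>
        rw [h''.1]
        change D a = (v (algebraMap A B a)).snd
        rw [AlgHom.commutes]
        change D a = (g a).snd
        simp [g]
      | add t t' _ _ ht ht' => rw [map_add, map_add, ht, ht']
      | mul t t' _ _ ht ht' => rw [Derivation.leibniz, Derivation.leibniz, ht, ht']
  exact ⟨⟨fun ⟨D', hD'⟩ => hfwd D' hD', fun h => ⟨(hbwd h 0).choose, (hbwd h 0).choose_spec.1.1⟩⟩, hbwd⟩

end Groth.Agent.S2465
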