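import Groth.Statements.S2467
import Groth.Agent.EGA41Lib.PBasisKaehler
import Mathlib

set_option backward.isDefEq.respectTransparency.types false

set_option autoImplicit false
universe u
open EGA41

namespace Groth.Agent.S2467

/-- Let k ⊆ K be fields of characteristic p > 0, S ⊆ K a system of p-generators of K over k and L ⊆ S a
subset which is p-free over k. Then there is a p-basis B of K over k with L ⊆ B ⊆ S. In particular
every extension of k has a p-basis over k. -/
theorem result (p : ℕ) [Fact p.Prime] {k K : Type u} [Field k] [Field K] [Algebra k K] [CharP K p]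
    (S L : Set K) (hLS : L ⊆ S) (hS : EGA41.IsPGenerating p k (Subtype.val : S → K)) (hL : EGA41.IsPIndependent p k (Subtype.val : L → K)) :
    ∃ B : Set K, L ⊆ B ∧ B ⊆ S ∧ EGA41.IsPBasis p k (Subtype.val : B → K) := by
  have hpow := Groth.Agent.EGA41Lib.PB.pow_mem_range_powAlg (K := K) p k
  have hS' : Algebra.adjoin (EGA41.pPowerSubalgebra p k K) (Set.range (Subtype.val : S → K)) = ⊤ :=
    (Groth.Agent.EGA41Lib.PB.span_mon_eq_top_iff (Nat.Prime.pos Fact.out) _ (fun i => hpow _)).1 hS
  rw [Subtype.range_coe] at hS'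
  have hL' : Groth.Agent.EGA41Lib.PB.IndOn p (EGA41.pPowerSubalgebra p k K) (id : K → K) L := by
    have := Groth.Agent.EGA41Lib.PB.indOn_range_of_linearIndependent hpow (x := (id : K → K))
      (Subtype.val : L → K) Subtype.val_injective hL
    rwa [Subtype.range_coe] at this
  obtain ⟨B, hLB, hBS, hB, hgen⟩ := Groth.Agent.EGA41Lib.PB.exists_indOn_between hpow Subtype.val_injective
    (id : K → K) hLS hL'
  refine ⟨B, hLB, hBS, Groth.Agent.EGA41Lib.PB.linearIndependent_comp_of_indOn (x := (id : K → K))
    Subtype.val Subtype.val_injective (fun i => i.2) hB,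
    (Groth.Agent.EGA41Lib.PB.span_mon_eq_top_iff (Nat.Prime.pos Fact.out) _ (fun i => hpow _)).2 ?_⟩
  rw [Subtype.range_coe, _root_.eq_top_iff]
  refine hS'.ge.trans (Algebra.adjoin_le fun y hy => ?_)
  have h2 := hgen y hy
  rw [Set.image_id] at h2
  exact h2

end Groth.Agent.S2467
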