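import Groth.Statements.S2470
import Groth.Agent.CAlgH3.MiracleFlat
import Groth.Agent.CAlgH3.RegularHom
import Groth.Agent.CAlgH3.DimIneq
import Groth.Agent.CAlgH3.RegularCore
import Mathlib

set_option backward.isDefEq.respectTransparency.types false

set_option autoImplicit false
universe u
open EGA41

namespace Groth.Agent.S2470

theorem exists_nat_dim (R : Type*) [CommRing R] [IsNoetherianRing R] [IsLocalRing R] :
    ∃ n : ℕ, ringKrullDim R = n := by
  obtain ⟨d, hd⟩ := ENat.ne_top_iff_exists.1
    (((IsLocalRing.maximalIdeal R).finiteHeight_iff).1 inferInstance |>.resolve_left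
      (IsLocalRing.maximalIdeal.isMaximal R).ne_top)
  exact ⟨d, by rw [← IsLocalRing.maximalIdeal_height_eq_ringKrullDim, ← hd]; rfl⟩

open IsLocalRing in
/-- Let A → B be a local homomorphism of Noetherian local rings with maximal ideals 𝔪, 𝔫 and residue
fields k, k', and let B₀ = B/𝔪B be the closed fibre. The following are equivalent: (a) B is regular
and the canonical map (𝔪/𝔪²) ⊗_k k' → 𝔫/𝔫² is injective — stated here through dimensions, as
rank_{k'} 𝔫/𝔫² = rank_k 𝔪/𝔪² + rank_{k'} of the cotangent space of B₀, which is equivalent since the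
cokernel of that map is the cotangent space of B₀; (c) B and B₀ are regular and B is flat over A;
(d) A and B₀ are regular and B is flat over A; (e) A and B₀ are regular and dim B = dim A + dim B₀.
(Condition (b) of the source, on regular systems of parameters, is not stated.) -/
theorem result {A B : Type u} [CommRing A] [IsLocalRing A] [IsNoetherianRing A] [CommRing B] [IsLocalRing B] [IsNoetherianRing B]
    [Algebra A B] [IsLocalHom (algebraMap A B)] [IsLocalRing (B ⧸ (maximalIdeal A).map (algebraMap A B))] :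
    [IsRegularLocalRing B ∧
       Module.finrank (ResidueField B) (CotangentSpace B) =
         Module.finrank (ResidueField A) (CotangentSpace A) +
           Module.finrank (ResidueField (B ⧸ (maximalIdeal A).map (algebraMap A B))) (CotangentSpace (B ⧸ (maximalIdeal A).map (algebraMap A B))),
     IsRegularLocalRing B ∧ IsRegularLocalRing (B ⧸ (maximalIdeal A).map (algebraMap A B)) ∧ Module.Flat A B,
     IsRegularLocalRing A ∧ IsRegularLocalRing (B ⧸ (maximalIdeal A).map (algebraMap A B)) ∧ Module.Flat A B,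
     IsRegularLocalRing A ∧ IsRegularLocalRing (B ⧸ (maximalIdeal A).map (algebraMap A B)) ∧
       ringKrullDim B = ringKrullDim A + ringKrullDim (B ⧸ (maximalIdeal A).map (algebraMap A B))].TFAE := by
  classical
  let I := (maximalIdeal A).map (algebraMap A B)
  haveI : IsNoetherianRing (B ⧸ I) := inferInstance
  let dA := ringKrullDim A
  have hA := (ringKrullDim_le_spanFinrank_maximalIdeal (R := A))
  have hB0 := (ringKrullDim_le_spanFinrank_maximalIdeal (R := B ⧸ I))
  have hB := (ringKrullDim_le_spanFinrank_maximalIdeal (R := B))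
  have he : (maximalIdeal B).spanFinrank ≤ (maximalIdeal A).spanFinrank + (maximalIdeal (B ⧸ I)).spanFinrank := by
    refine le_trans (Groth.Agent.CAlgH3.spanFinrank_maximalIdeal_le_add I) (Nat.add_le_add_right ?_ _)
    obtain ⟨s, hs, hs'⟩ := (IsNoetherian.noetherian (maximalIdeal A)).exists_span_finset_card_eq_spanFinrank
    have : I = Ideal.span ((s.image (algebraMap A B) : Finset B) : Set B) := by
      rw [Finset.coe_image, ← Ideal.map_span]
      exact congrArg (Ideal.map (algebraMap A B)) hs'.symm
    rw [this, ← hs]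
    refine le_trans (Submodule.spanFinrank_span_le_ncard_of_finite (Finset.finite_toSet _)) ?_
    rw [Set.ncard_coe_finset]
    exact Finset.card_image_le
  haveI : (maximalIdeal B).LiesOver (maximalIdeal A) :=
    ⟨((IsLocalRing.local_hom_TFAE (algebraMap A B)).out 0 4 rfl rfl).1 inferInstance |>.symm⟩
  have hd : ringKrullDim B ≤ ringKrullDim A + ringKrullDim (B ⧸ I) := by
    have h := Ideal.height_le_height_add_of_liesOver (maximalIdeal A) (maximalIdeal B)
    rw [IsLocalRing.map_maximalIdeal_of_surjective _ Ideal.Quotient.mk_surjective] at h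
    rw [← IsLocalRing.maximalIdeal_height_eq_ringKrullDim, ← IsLocalRing.maximalIdeal_height_eq_ringKrullDim,
      ← IsLocalRing.maximalIdeal_height_eq_ringKrullDim, ← WithBot.coe_add]
    exact WithBot.coe_le_coe.2 h
  obtain ⟨a, ha⟩ : ∃ a : ℕ, ringKrullDim A = a := exists_nat_dim A
  obtain ⟨b, hb⟩ : ∃ b : ℕ, ringKrullDim B = b := exists_nat_dim B
  obtain ⟨c, hc⟩ : ∃ c : ℕ, ringKrullDim (B ⧸ I) = c := exists_nat_dim (B ⧸ I)
  rw [ha, Nat.cast_le] at hA
  rw [hb, Nat.cast_le] at hB
  rw [hc, Nat.cast_le] at hB0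
  rw [hb, ha, hc, ← Nat.cast_add, Nat.cast_le] at hd
  have eA := IsLocalRing.spanFinrank_maximalIdeal_eq_finrank_cotangentSpace A
  have eB := IsLocalRing.spanFinrank_maximalIdeal_eq_finrank_cotangentSpace B
  have eC := IsLocalRing.spanFinrank_maximalIdeal_eq_finrank_cotangentSpace (B ⧸ I)
  have rA : IsRegularLocalRing A ↔ (maximalIdeal A).spanFinrank = a := by
    rw [isRegularLocalRing_iff, ha, Nat.cast_inj]
  have rB : IsRegularLocalRing B ↔ (maximalIdeal B).spanFinrank = b := by
    rw [isRegularLocalRing_iff, hb, Nat.cast_inj]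
  have rC : IsRegularLocalRing (B ⧸ I) ↔ (maximalIdeal (B ⧸ I)).spanFinrank = c := by
    rw [isRegularLocalRing_iff, hc, Nat.cast_inj]
  tfae_have 1 → 4 := by
    rintro ⟨h1, h2⟩
    rw [← eA, ← eB, ← eC] at h2
    have := rB.1 h1
    refine ⟨rA.2 (by omega), rC.2 (by omega), ?_⟩
    rw [hb, ha, hc, ← Nat.cast_add, Nat.cast_inj]
    omega
  tfae_have 4 → 1 := by
    rintro ⟨h1, h2, h3⟩
    rw [hb, ha, hc, ← Nat.cast_add, Nat.cast_inj] at h3
    have := rA.1 h1
    have := rC.1 h2
    refine ⟨rB.2 (by omega), ?_⟩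
    rw [← eA, ← eB, ← eC]
    omega
  tfae_have 3 → 4 := fun ⟨h1, h2, h3⟩ => ⟨h1, h2, by
    haveI := h3
    have h := Ideal.height_eq_height_add_of_liesOver_of_hasGoingDown (maximalIdeal A) (maximalIdeal B)
    rw [IsLocalRing.map_maximalIdeal_of_surjective _ Ideal.Quotient.mk_surjective] at h
    rw [← IsLocalRing.maximalIdeal_height_eq_ringKrullDim, ← IsLocalRing.maximalIdeal_height_eq_ringKrullDim,
      ← IsLocalRing.maximalIdeal_height_eq_ringKrullDim, h, WithBot.coe_add]⟩
  tfae_have 4 → 3 := by
    rintro ⟨h1, h2, h3⟩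
    haveI := h1
    haveI : IsRegularLocalRing B := rB.2 (by
      have := rA.1 h1
      have := rC.1 h2
      rw [hb, ha, hc, ← Nat.cast_add, Nat.cast_inj] at h3
      omega)
    haveI := Groth.Agent.CAlgH3.isCohenMacaulayLocalRing_of_regular B
    exact ⟨h1, h2, Groth.Agent.CAlgH3.flat_of_dim_eq _ A rfl B h3⟩
  tfae_have 3 → 2 := fun ⟨h1, h2, h3⟩ => ⟨rB.2 (by
      have := rA.1 h1
      have := rC.1 h2
      haveI := h3
      have h := Ideal.height_eq_height_add_of_liesOver_of_hasGoingDown (maximalIdeal A) (maximalIdeal B)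
      rw [IsLocalRing.map_maximalIdeal_of_surjective _ Ideal.Quotient.mk_surjective] at h
      have h4 := congrArg (WithBot.some : ℕ∞ → WithBot ℕ∞) h
      rw [WithBot.coe_add, IsLocalRing.maximalIdeal_height_eq_ringKrullDim,
        IsLocalRing.maximalIdeal_height_eq_ringKrullDim, IsLocalRing.maximalIdeal_height_eq_ringKrullDim,
        hb, ha, hc, ← Nat.cast_add, Nat.cast_inj] at h4
      omega), h2, h3⟩
  tfae_have 2 → 3 := fun ⟨h1, h2, h3⟩ => by
    haveI := h1
    haveI := h3
    exact ⟨Groth.Agent.CAlgH3.isRegularLocalRing_of_flat B, h2, h3⟩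
  tfae_finish

end Groth.Agent.S2470
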