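import Groth.Statements.S2473
import Groth.Agent.EGA41Lib.PPolyCotangent
import Mathlib

set_option backward.isDefEq.respectTransparency.types false

set_option autoImplicit false
universe u
open EGA41

namespace Groth.Agent.S2473

open IsLocalRing TensorProduct in
/-- Let A be a regular local ring whose residue field K has characteristic p > 0; for 1 ≤ i ≤ r let F_i
= T_i^p + p Σ_{j=1}^{p-1} c_{ij} T_i^{p-j} − f_i with c_{ij}, f_i ∈ A, and let B be the quotient of
A[T_1, …, T_r] by the ideal generated by the F_i. Then B is a local ring, and B is regular if and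
only if the elements d f_i ⊗ 1 of Ω_{A/ℤ} ⊗_A K are linearly independent over K. Assumed in
addition: p lies in the square of the maximal ideal of A (which covers the case where A has
characteristic p); the printed statement omits this, and the equivalence can fail for A absolutely
unramified, e.g. A = ℤ_(p), r = 1, f_1 = p. (Condition (c) of the source, on the characteristic
homomorphism Ξ, is not stated.) -/
theorem result {A : Type u} [CommRing A] [IsRegularLocalRing A] (p : ℕ) [Fact p.Prime] [CharP (ResidueField A) p]
    {r : ℕ} (c : Fin r → Fin p → A) (f : Fin r → A)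
    (hp : (p : A) ∈ maximalIdeal A ^ 2) :
    let F : Fin r → MvPolynomial (Fin r) A := fun i =>
      MvPolynomial.X i ^ p + (p : MvPolynomial (Fin r) A) * (Finset.univ.sum fun j : Fin p =>
        if (j : ℕ) = 0 then 0 else MvPolynomial.C (c i j) * MvPolynomial.X i ^ (p - (j : ℕ))) - MvPolynomial.C (f i)
    IsLocalRing (MvPolynomial (Fin r) A ⧸ Ideal.span (Set.range F)) ∧
      (IsRegularRing (MvPolynomial (Fin r) A ⧸ Ideal.span (Set.range F)) ↔
        LinearIndependent (ResidueField A) (fun i => (1 : ResidueField A) ⊗ₜ[A] KaehlerDifferential.D ℤ A (f i))) := by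
  classical
  intro F
  obtain ⟨hloc, hiff⟩ := EGA41Lib.PPoly.main p hp c f
  have hmon : ∀ i, (EGA41Lib.PPoly.poly p (c i) (f i)).Monic := fun i => EGA41Lib.PPoly.poly_monic p _ _
  haveI := EGA41Lib.SepQuot.moduleFinite _ hmon
  have hinj := EGA41Lib.SepQuot.nontrivial _ hmon (fun i => by
    rw [EGA41Lib.PPoly.poly_natDegree]; exact (Fact.out : p.Prime).pos)
  have hreg := (EGA41Lib.isRegularRing_iff_finrank_cotangent hinj).trans hiff
  have heq := EGA41Lib.PPoly.rel_poly p c f
  unfold EGA41Lib.SepQuot.Alg at hloc hreg
  clear this hiff hinj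
  revert hloc hreg
  rw [heq]
  intro hloc hreg
  exact ⟨hloc, hreg⟩

end Groth.Agent.S2473
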