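import Groth.Statements.S2475
import Groth.Agent.EGA41Lib.AdmissibleFamily
import Mathlib

set_option backward.isDefEq.respectTransparency.types false

set_option autoImplicit false
universe u
open EGA41

namespace Groth.Agent.S2475

/-- Let K be a field of characteristic p > 0, k₀ ⊆ K a subfield and (k_α) a decreasing filtered family
of subfields of K containing k₀. Then ⋂_α k_α(K^p) = k₀(K^p) if and only if the canonical map
Ω_{K/k₀} → lim_α Ω_{K/k_α} is injective (an element of Ω_{K/k₀} whose image in every Ω_{K/k_α}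
vanishes is zero). (Conditions (b), (b') of the source, on admissible subfields, are not stated.) -/
theorem result (p : ℕ) [Fact p.Prime] {k₀ K : Type u} [Field k₀] [Field K] [Algebra k₀ K] [CharP K p]
    {ι : Type u} [Preorder ι] [IsDirected ι (· ≤ ·)] [Nonempty ι] (k : ι → IntermediateField k₀ K) (hk : Antitone k) :
    (⨅ i, k i ⊔ IntermediateField.adjoin k₀ (Set.range fun y : K => y ^ p)) = IntermediateField.adjoin k₀ (Set.range fun y : K => y ^ p) ↔
      ∀ ω : Ω[K⁄k₀], (∀ i, KaehlerDifferential.map k₀ (k i) K K ω = 0) → ω = 0 := by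
  have hk' : ∀ a b, ∃ c, k c ≤ k a ∧ k c ≤ k b := fun a b => by
    obtain ⟨c, hac, hbc⟩ := exists_ge_ge a b
    exact ⟨c, hk hac, hk hbc⟩
  constructor
  · intro h ω hω
    obtain ⟨i, hi⟩ := Groth.Agent.EGA41Lib.exists_stage_injOn (p := p) (L := K) k hk' h
      (Submodule.span K {TensorProduct.tmul K (1 : K) ω}) (Submodule.fg_span_singleton _)
    have h2 := hi _ (Submodule.mem_span_singleton_self _) (by
      rw [LinearMap.baseChange_tmul, hω, TensorProduct.tmul_zero])
    simpa using congrArg (TensorProduct.lid K Ω[K⁄k₀]) h2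
  · intro h
    refine le_antisymm (fun x hx => ?_) (le_iInf fun i => le_sup_right)
    rw [Groth.Agent.EGA41Lib.mem_powField₀_iff, ← Groth.Agent.EGA41Lib.PB.D_eq_zero_iff_mem]
    refine h _ fun i => ?_
    rw [KaehlerDifferential.map_D, Algebra.algebraMap_self, RingHom.id_apply,
      Groth.Agent.EGA41Lib.PB.D_eq_zero_iff_mem p, ← Groth.Agent.EGA41Lib.mem_powField_iff]
    exact SetLike.le_def.1 (iInf_le _ i) hx

end Groth.Agent.S2475
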