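import Groth.Statements.S2476
import Groth.Agent.EGA41Lib.CompleteSmoothKaehler
import Mathlib

set_option backward.isDefEq.respectTransparency.types false

set_option autoImplicit false
universe u
open EGA41 TensorProduct

namespace Groth.Agent.S2476

open IsLocalRing in
/-- Let k₀ be a field and A a complete Noetherian local k₀-algebra, formally smooth over k₀ for the adic
topology, whose residue field K is a finitely generated extension of k₀. Then the 𝔪-adic completion
Ω̂_{A/k₀} of Ω_{A/k₀} is a free A-module of rank dim A + trdeg_{k₀} K. -/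
theorem result {k₀ A : Type u} [Field k₀] [CommRing A] [IsLocalRing A] [IsNoetherianRing A] [Algebra k₀ A]
    [IsAdicComplete (maximalIdeal A) A] (hfs : CAlgX.IsAdicFormallySmooth k₀ A (maximalIdeal A))
    [Algebra.EssFiniteType k₀ (ResidueField A)] :
    Module.Finite A (AdicCompletion (maximalIdeal A) (Ω[A⁄k₀])) ∧ Module.Free A (AdicCompletion (maximalIdeal A) (Ω[A⁄k₀])) ∧
      (Module.finrank A (AdicCompletion (maximalIdeal A) (Ω[A⁄k₀])) : WithBot ℕ∞) =
        ringKrullDim A + (Cardinal.toNat (Algebra.trdeg k₀ (ResidueField A)) : WithBot ℕ∞) := by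
  classical
  haveI hfin : Module.Finite A (AdicCompletion (maximalIdeal A) (Ω[A⁄k₀])) := Groth.Agent.S4528.result
  obtain ⟨hV, hrank⟩ := Groth.Agent.EGA41Lib.CKS.finite_finrank_residue_kaehler hfs
  haveI := hV
  let K := ResidueField A
  have hmk : Function.Surjective (TensorProduct.mk A K (Ω[A⁄k₀]) 1) :=
    TensorProduct.mk_surjective A (Ω[A⁄k₀]) K IsLocalRing.residue_surjective
  let b := Module.finBasis K (K ⊗[A] Ω[A⁄k₀])
  choose v hv using fun i => hmk (b i)
  have hv' : ∀ c : Fin (Module.finrank K (K ⊗[A] Ω[A⁄k₀])) → A,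
      (1 : K) ⊗ₜ[A] (∑ i, c i • v i) = ∑ i, residue A (c i) • b i := fun c => by
    rw [TensorProduct.tmul_sum]
    refine Finset.sum_congr rfl fun i _ => ?_
    rw [TensorProduct.tmul_smul, ← algebraMap_smul K (c i), IsLocalRing.ResidueField.algebraMap_eq, ← hv i]
    rfl
  have hkerm : RingHom.ker (algebraMap A K) = maximalIdeal A := by
    rw [IsLocalRing.ResidueField.algebraMap_eq, IsLocalRing.ker_residue]
  have hfree := Groth.Agent.EGA41Lib.CKS.free_adicCompletion (A := A) v ?_ ?_ fun N => ?_
  · exact ⟨hfin, hfree.1, by rw [hfree.2]; exact hrank⟩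
  · refine eq_top_iff.2 fun w _ => ?_
    choose c hc using fun i => IsLocalRing.residue_surjective (b.repr ((1 : K) ⊗ₜ[A] w) i)
    have h0 : (1 : K) ⊗ₜ[A] (w - ∑ i, c i • v i) = 0 := by
      rw [TensorProduct.tmul_sub, hv', sub_eq_zero]
      simp only [hc]
      exact (b.sum_repr _).symm
    have h1 := Groth.Agent.EGA41Lib.CKS.mem_ker_smul_of_one_tmul_eq_zero IsLocalRing.residue_surjective h0
    rw [hkerm] at h1
    rw [← add_sub_cancel (∑ i, c i • v i) w]
    exact Submodule.add_mem_sup (Submodule.sum_mem _ fun i _ => Submodule.smul_mem _ _ (Submodule.subset_span ⟨i, rfl⟩)) h1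
  · intro c hc i
    have h0 : (1 : K) ⊗ₜ[A] (∑ i, c i • v i) = 0 := by
      refine Submodule.smul_induction_on hc (fun a ha w _ => ?_) fun x y hx hy => by rw [TensorProduct.tmul_add, hx, hy, add_zero]
      rw [← TensorProduct.smul_tmul, Algebra.smul_def, mul_one, IsLocalRing.ResidueField.algebraMap_eq,
        (IsLocalRing.residue_eq_zero_iff a).2 ha, TensorProduct.zero_tmul]
    rw [hv'] at h0
    rw [← IsLocalRing.residue_eq_zero_iff]
    exact Fintype.linearIndependent_iff.1 b.linearIndependent (fun i => residue A (c i)) h0 i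
  · exact Groth.Agent.EGA41Lib.projective_kaehler_mod (𝔞 := (⊥ : Ideal k₀)) (𝔟 := maximalIdeal A) ⟨1, by rw [pow_one, Ideal.map_bot]; exact bot_le⟩
      ((Groth.Agent.EGA41Lib.isFormallySmoothAdic_iff ⟨1, by rw [pow_one, Ideal.map_bot]; exact bot_le⟩).2 hfs) _ ⟨N, le_rfl⟩

end Groth.Agent.S2476
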