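import Groth.Statements.S2477
import Groth.Agent.CommAlg6.CompletedKaehler
import Groth.Agent.CAlgH.PowerSeriesEval
import Mathlib

set_option backward.isDefEq.respectTransparency.types false

set_option autoImplicit false
universe u
open EGA41

namespace Groth.Agent.S2477

open IsLocalRing in
/-- Let k be a field and A = k[[T_1, …, T_r]] with its usual k-algebra structure. Then the adic
completion Ω̂_{A/k} of Ω_{A/k} is a free A-module of rank r. -/
theorem result (k : Type u) [Field k] (r : ℕ) :
    Module.Finite (MvPowerSeries (Fin r) k) (AdicCompletion (maximalIdeal (MvPowerSeries (Fin r) k)) (Ω[MvPowerSeries (Fin r) k⁄k])) ∧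
    Module.Free (MvPowerSeries (Fin r) k) (AdicCompletion (maximalIdeal (MvPowerSeries (Fin r) k)) (Ω[MvPowerSeries (Fin r) k⁄k])) ∧
      Module.finrank (MvPowerSeries (Fin r) k) (AdicCompletion (maximalIdeal (MvPowerSeries (Fin r) k)) (Ω[MvPowerSeries (Fin r) k⁄k])) = r := by
  classical
  let A := MvPowerSeries (Fin r) k
  haveI : IsAdicComplete (maximalIdeal A) A := by
    rw [Groth.Agent.CAlgH3.maximalIdeal_mvPowerSeries_eq]; exact Groth.Agent.CAlgH.isAdicComplete_mvPowerSeries (Fin r) k
  haveI : Module.Finite k (ResidueField A) := Module.Finite.of_surjective (Algebra.linearMap k (ResidueField A)) (fun z => by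
    obtain ⟨f, rfl⟩ := IsLocalRing.residue_surjective z
    refine ⟨MvPowerSeries.constantCoeff f, ?_⟩
    show IsLocalRing.residue A (MvPowerSeries.C (MvPowerSeries.constantCoeff f)) = IsLocalRing.residue A f
    refine Ideal.Quotient.eq.2 ?_
    rw [IsLocalRing.mem_maximalIdeal, mem_nonunits_iff, MvPowerSeries.isUnit_iff_constantCoeff, map_sub,
      MvPowerSeries.constantCoeff_C, sub_self]
    exact not_isUnit_zero)
  haveI hfin := Groth.Agent.CommAlg6.finite_cKaehler k A
  let φ : (Fin r → A) →ₗ[A] Groth.Agent.CommAlg6.CKaehler k A :=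
    Fintype.linearCombination A fun i => Groth.Agent.CommAlg6.cD k A (MvPowerSeries.X i)
  let grad : Derivation k A (Fin r → A) := Derivation.mk'
    (LinearMap.pi fun i => (MvPowerSeries.pderiv k i).toLinearMap)
    fun a b => funext fun i => (MvPowerSeries.pderiv k i).leibniz a b
  obtain ⟨ψ, hψ⟩ := Groth.Agent.CommAlg6.exists_cKaehler_lift k A grad
  have h1 : ψ ∘ₗ φ = LinearMap.id := by
    refine LinearMap.pi_ext fun i a => ?_
    rw [LinearMap.comp_apply, Fintype.linearCombination_apply_single, map_smul, hψ, LinearMap.id_apply]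
    funext j
    show a * MvPowerSeries.pderiv k j (MvPowerSeries.X i) = _
    rw [MvPowerSeries.pderiv_X, Pi.single_apply, Pi.single_apply]
    by_cases h : i = j
    · subst h; simp
    · simp [h, Ne.symm h]
  have h2 : φ ∘ₗ ψ = LinearMap.id := by
    refine Groth.Agent.CommAlg6.cKaehler_hom_ext k A fun a => ?_
    rw [LinearMap.comp_apply, hψ, LinearMap.id_apply]
    let δ : Derivation k A (Groth.Agent.CommAlg6.CKaehler k A) := φ.compDer grad - Groth.Agent.CommAlg6.cD k A
    haveI : IsHausdorff (maximalIdeal A) (Groth.Agent.CommAlg6.CKaehler k A) :=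
      (Groth.Agent.CommAlg6.isAdicComplete_cKaehler k A).toIsHausdorff
    have h := Groth.Agent.CommAlg6.derivation_eq_zero_mvPowerSeries δ (fun i => by
      show φ (fun j => MvPowerSeries.pderiv k j (MvPowerSeries.X i)) - Groth.Agent.CommAlg6.cD k A (MvPowerSeries.X i) = 0
      rw [show (fun j => MvPowerSeries.pderiv k j (MvPowerSeries.X i : A)) = Pi.single i 1 from funext fun j => by
        rw [MvPowerSeries.pderiv_X, Pi.single_apply, Pi.single_apply]
        by_cases hij : i = j
        · subst hij; simp
        · simp [hij, Ne.symm hij], Fintype.linearCombination_apply_single, one_smul, sub_self]) a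
    exact sub_eq_zero.1 h
  let e : (Fin r → A) ≃ₗ[A] Groth.Agent.CommAlg6.CKaehler k A := LinearEquiv.ofLinear φ ψ h2 h1
  exact ⟨hfin, Module.Free.of_equiv e, by
    rw [← LinearEquiv.finrank_eq e, Module.finrank_fintype_fun_eq_card, Fintype.card_fin]⟩

end Groth.Agent.S2477
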