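import Groth.Statements.S2478
import Groth.Agent.H8ProCons.Global

set_option autoImplicit false
universe u
open EGA41

namespace Groth.Agent.S2478

open Topology in
/-- Equivalence of (a'') and (b) for X = Spec A affine: a subset E of Spec A is the image of the map
Spec B → Spec A induced by some ring homomorphism A → B if and only if E is an intersection of a
family of constructible subsets of Spec A. -/
theorem result {A : Type u} [CommRing A] (E : Set (PrimeSpectrum A)) :
    (∃ (B : Type u) (_ : CommRing B) (f : A →+* B), Set.range (PrimeSpectrum.comap f) = E) ↔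
      ∃ S : Set (Set (PrimeSpectrum A)), (∀ s ∈ S, IsConstructible s) ∧ E = ⋂₀ S := by
  refine ⟨fun ⟨B, _, f, hf⟩ ↦ ?_, fun ⟨S, hS, hE⟩ ↦ ?_⟩
  · refine H8ProCons.exists_eq_sInter_of_isProConstructible (X := AlgebraicGeometry.Spec (CommRingCat.of A)) ?_
    rw [← hf]
    have := H8ProCons.isProConstructible_image (AlgebraicGeometry.Spec.map (CommRingCat.ofHom f))
      (H8ProCons.isLocallyConstructible_iff_ind_and_pro.mp Topology.IsLocallyConstructible.univ).2
    rwa [Set.image_univ] at this
  · obtain ⟨B, _, f, hf⟩ := H8ProCons.exists_range_eq_sInter S hS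
    exact ⟨B, inferInstance, f, hE ▸ hf⟩

end Groth.Agent.S2478
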