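import Groth.Statements.S2481
import Groth.Agent.EGA41Lib.AdicBridge
import Groth.Agent.CAlgH.AdicSmoothLift
import Mathlib

set_option backward.isDefEq.respectTransparency.types false

set_option autoImplicit false
universe u
open EGA41

namespace Groth.Agent.S2481

open IsLocalRing in
/-- Let A → B be a local homomorphism of Noetherian local rings with the adic topologies, K the residue
field of B. Then B is formally smooth over A if and only if: for every Artinian local ring C with a
local homomorphism A → C, every nilpotent ideal J of C and every local A-algebra homomorphism u : B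
→ C/J inducing a bijection of residue fields (so that C has residue field K and u induces the
identity on it), u is induced by a local A-algebra homomorphism B → C. -/
theorem result {A B : Type u} [CommRing A] [IsLocalRing A] [IsNoetherianRing A] [CommRing B] [IsLocalRing B] [IsNoetherianRing B]
    [Algebra A B] [IsLocalHom (algebraMap A B)] :
    EGA41.IsFormallySmoothAdic A (maximalIdeal A) B (maximalIdeal B) ↔
      ∀ (C : Type u) [CommRing C] [IsLocalRing C] [IsArtinianRing C] [Algebra A C] [IsLocalHom (algebraMap A C)]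
        (J : Ideal C), IsNilpotent J → ∀ [IsLocalRing (C ⧸ J)] (u : B →ₐ[A] C ⧸ J) [IsLocalHom u.toRingHom],
        Function.Bijective (ResidueField.map u.toRingHom) →
        ∃ f : B →ₐ[A] C, IsLocalHom f.toRingHom ∧ (Ideal.Quotient.mkₐ A J).comp f = u := by
  constructor
  · intro h C _ _ _ _ _ J hJ _ u _ _
    obtain ⟨N, hN⟩ : IsNilpotent (maximalIdeal C) := IsArtinianRing.isNilpotent_jacobson_bot |>.imp fun n hn => by
      rwa [IsLocalRing.jacobson_eq_maximalIdeal (⊥ : Ideal C) bot_ne_top] at hn
    obtain ⟨f, hf⟩ := h C J hJ ⟨N, eq_bot_iff.2 (by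
      rw [Ideal.map_pow]
      refine le_trans (Ideal.pow_right_mono ?_ N) hN.le
      rw [Ideal.map_le_iff_le_comap]
      intro a ha
      rw [Ideal.mem_comap, mem_maximalIdeal, mem_nonunits_iff]
      exact fun hu => ha (IsLocalHom.map_nonunit a hu))⟩ u ⟨N, Groth.Agent.CAlgH.AdicSmooth.kills_pow_of_isLocalHom hN u⟩
    refine ⟨f, ⟨fun b hb => ?_⟩, hf⟩
    have h1 : IsUnit (u.toRingHom b) := by
      rw [← hf]
      exact hb.map (Ideal.Quotient.mk J)
    exact IsLocalHom.map_nonunit b h1
  · intro H
    rw [Groth.Agent.EGA41Lib.isFormallySmoothAdic_iff Groth.Agent.EGA41Lib.exists_map_pow_maximalIdeal_le]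
    refine Groth.Agent.CAlgH.AdicSmooth.of_lift_small fun C _ _ _ _ J hloc hJ hlen ψ hψ => ?_
    haveI := hloc
    haveI : Nontrivial (C ⧸ J) := Ideal.Quotient.nontrivial_iff.2 fun h => by
      rw [h, pow_two, Ideal.top_mul] at hJ
      exact top_ne_bot hJ
    haveI : IsLocalRing (C ⧸ J) := IsLocalRing.of_surjective' (Ideal.Quotient.mk J) Ideal.Quotient.mk_surjective
    haveI : IsLocalHom ψ.toRingHom := hψ.isLocalHom
    obtain ⟨f, -, hf⟩ := H C J ⟨2, hJ⟩ ψ ⟨RingHom.injective _, fun y => by
      obtain ⟨c, rfl⟩ := residue_surjective y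
      obtain ⟨b, rfl⟩ := hψ c
      exact ⟨residue B b, rfl⟩⟩
    exact ⟨f, hf⟩

end Groth.Agent.S2481
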