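import Groth.Statements.S2482
import Groth.Agent.EGA41Lib.CohenAlgebra
import Mathlib

set_option backward.isDefEq.respectTransparency.types false

set_option autoImplicit false
universe u
open EGA41

namespace Groth.Agent.S2482

open IsLocalRing in
/-- (a) ⟹ (b): let A, B be complete discrete valuation rings and u : A → B a ring homomorphism with
u(𝔪_A)B = 𝔪_B, such that the residue field L of B is separable over the residue field K of A. Then
for every complete discrete valuation ring B', every homomorphism u' : A → B' with u'(𝔪_A)B' =
𝔪_{B'} and every isomorphism σ of residue fields L ≅ L' compatible with the maps from K, there is an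
isomorphism w : B ≅ B' with u' = w ∘ u inducing σ on residue fields. -/
theorem result {A B B' : Type u} [CommRing A] [IsDomain A] [IsDiscreteValuationRing A] [IsAdicComplete (maximalIdeal A) A]
    [CommRing B] [IsDomain B] [IsDiscreteValuationRing B] [IsAdicComplete (maximalIdeal B) B]
    [CommRing B'] [IsDomain B'] [IsDiscreteValuationRing B'] [IsAdicComplete (maximalIdeal B') B']
    (u : A →+* B) [IsLocalHom u] (hu : (maximalIdeal A).map u = maximalIdeal B)
    (hsep : letI := (ResidueField.map u).toAlgebra; Algebra.IsGeometricallyReduced (ResidueField A) (ResidueField B))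
    (u' : A →+* B') [IsLocalHom u'] (hu' : (maximalIdeal A).map u' = maximalIdeal B')
    (σ : ResidueField B ≃+* ResidueField B') (hσ : (σ : ResidueField B →+* ResidueField B').comp (ResidueField.map u) = ResidueField.map u') :
    ∃ w : B ≃+* B', (w : B →+* B').comp u = u' ∧ ∀ b : B, residue B' (w b) = σ (residue B b) := by
  classical
  letI : Algebra A B := u.toAlgebra
  letI : Algebra A B' := u'.toAlgebra
  haveI : IsLocalHom (algebraMap A B) := ‹IsLocalHom u›
  have hinj : ∀ {R : Type u} [CommRing R] [IsDomain R] [IsDiscreteValuationRing R] (f : A →+* R),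
      (maximalIdeal A).map f = maximalIdeal R → Function.Injective f := fun {R} _ _ _ f hf => by
    rw [RingHom.injective_iff_ker_eq_bot]
    by_contra hne
    haveI : (RingHom.ker f).IsPrime := RingHom.ker_isPrime f
    have h1 : RingHom.ker f = maximalIdeal A := IsLocalRing.eq_maximalIdeal (Ideal.IsPrime.isMaximal inferInstance hne)
    exact IsDiscreteValuationRing.not_a_field R (by rw [← hf, ← h1, Ideal.map_eq_bot_iff_le_ker])
  haveI : FaithfulSMul A B := (faithfulSMul_iff_algebraMap_injective A B).2 (hinj u hu)
  haveI : FaithfulSMul A B' := (faithfulSMul_iff_algebraMap_injective A B').2 (hinj u' hu')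
  have hB : CAlgX.IsAdicFormallySmooth A B (maximalIdeal B) := Groth.Agent.EGA41Lib.isAdicFormallySmooth_of_isCohenAlgebra
    ⟨inferInstance, inferInstance, inferInstance, inferInstance, hu, by
      convert hsep using 2
      refine Algebra.algebra_ext _ _ fun x => ?_
      obtain ⟨a, rfl⟩ := residue_surjective x
      rfl⟩
  obtain ⟨w, hw⟩ := Groth.Agent.EGA41Lib.exists_algEquiv_lift hB (maximalIdeal A) hu.le hu'.le
    ((σ : ResidueField B →+* ResidueField B').comp (residue B)) (residue B')
    (σ.surjective.comp residue_surjective) residue_surjective
    (by rw [RingHom.ker_comp_of_injective _ σ.injective, ker_residue]; exact hu.symm)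
    (by rw [ker_residue]; exact hu'.symm) (by
      rw [RingHom.comp_assoc]
      refine RingHom.ext fun a => ?_
      exact RingHom.congr_fun hσ (residue A a))
  exact ⟨w.toRingEquiv, RingHom.ext fun a => w.commutes a, hw⟩

end Groth.Agent.S2482
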