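import Groth.Statements.S2483
import Groth.Agent.EGA41Lib.SymGrPrime
import Groth.Agent.CAlgH.AdicSmoothField
import Mathlib

set_option backward.isDefEq.respectTransparency.types false

set_option autoImplicit false
universe u
open EGA41

namespace Groth.Agent.S2483

open IsLocalRing in
/-- Let C be a complete Noetherian local ring with maximal ideal 𝔍 ≠ 0 and residue field K, and u : K →
C a ring homomorphism which is a section of the residue map. Then u is the only such section if and
only if Ω_{K/ℤ} = 0. -/
theorem result {C : Type u} [CommRing C] [IsLocalRing C] [IsNoetherianRing C] [IsAdicComplete (maximalIdeal C) C]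
    (hm : maximalIdeal C ≠ ⊥) (u : ResidueField C →+* C) (hu : ∀ x, residue C (u x) = x) :
    (∀ v : ResidueField C →+* C, (∀ x, residue C (v x) = x) → v = u) ↔ Subsingleton (Ω[ResidueField C⁄ℤ]) := by
  classical
  haveI hZ : ∀ (M : Type u) [AddCommGroup M] [Module (ResidueField C) M],
      @IsScalarTower ℤ (ResidueField C) M Algebra.toSMul _ _ := fun M _ _ =>
    IsScalarTower.of_algebraMap_smul fun r x => by rw [eq_intCast, Int.cast_smul_eq_zsmul]
  constructor
  · intro huniq
    by_contra hne
    obtain ⟨t, htm, ht2⟩ : ∃ t ∈ maximalIdeal C, t ∉ maximalIdeal C ^ 2 := by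
      by_contra! hall
      refine hm ?_
      refine Submodule.eq_bot_of_le_smul_of_le_jacobson_bot (maximalIdeal C) _ (IsNoetherian.noetherian _) ?_
        (IsLocalRing.maximalIdeal_le_jacobson _)
      intro x hx
      rw [smul_eq_mul, ← sq]
      exact hall x hx
    haveI : Nontrivial (Ω[ResidueField C⁄ℤ]) := not_subsingleton_iff_nontrivial.1 hne
    obtain ⟨ω, hω⟩ := exists_ne (0 : Ω[ResidueField C⁄ℤ])
    obtain ⟨l, hl⟩ : ∃ l : Ω[ResidueField C⁄ℤ] →ₗ[ResidueField C] ResidueField C, l ω ≠ 0 := by
      by_contra! hall
      exact hω ((Module.forall_dual_apply_eq_zero_iff (ResidueField C) ω).1 hall)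
    let δ : Derivation ℤ (ResidueField C) (ResidueField C) := l.compDer (KaehlerDifferential.D ℤ (ResidueField C))
    obtain ⟨x₀, hx₀⟩ : ∃ x, δ x ≠ 0 := by
      by_contra! hall
      refine hl ?_
      clear hω hl
      have h : ω ∈ Submodule.span (ResidueField C) (Set.range (KaehlerDifferential.D ℤ (ResidueField C))) := by
        rw [KaehlerDifferential.span_range_derivation]; trivial
      induction h using Submodule.span_induction with
      | mem y hy => obtain ⟨z, rfl⟩ := hy; exact hall z
      | zero => exact map_zero l
      | add y z _ _ hy hz => rw [map_add, hy, hz, add_zero]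
      | smul c y _ hy => rw [map_smul, hy, smul_zero]
    have ht0 : Ideal.Quotient.mk (maximalIdeal C ^ 2) t * Ideal.Quotient.mk (maximalIdeal C ^ 2) t = 0 := by
      rw [← map_mul, Ideal.Quotient.eq_zero_iff_mem, sq]
      exact Ideal.mul_mem_mul htm htm
    let ψ : ResidueField C →+* C ⧸ maximalIdeal C ^ 2 :=
      { toFun := fun x => Ideal.Quotient.mk _ (u x) + Ideal.Quotient.mk _ t * Ideal.Quotient.mk _ (u (δ x))
        map_one' := by simp
        map_zero' := by simp
        map_add' := fun a b => by simp only [map_add]; ring
        map_mul' := fun a b => by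
          simp only [map_mul, Derivation.leibniz, smul_eq_mul, map_add]
          linear_combination (-(Ideal.Quotient.mk _ (u (δ a)) * Ideal.Quotient.mk _ (u (δ b)))) * ht0 }
    haveI := Groth.Agent.EGA41Lib.SymGr.perfectField_bot (k := ResidueField C)
    haveI : Algebra.FormallySmooth (⊥ : Subfield (ResidueField C)) (ResidueField C) :=
      Groth.Agent.CAlgH.formallySmooth_of_perfectField_any _ _
    haveI : IsAdicComplete (maximalIdeal C ^ 2) C := Groth.Agent.CAlgH.AdicSmooth.isAdicComplete_pow _ 2 two_ne_zero
    obtain ⟨v, -, hv⟩ := Groth.Agent.CAlgH.AdicSmooth.exists_lift_complete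
      (Groth.Agent.CAlgH.AdicSmooth.of_formallySmooth (R := (⊥ : Subfield (ResidueField C))) (S := ResidueField C)
        (𝔫 := ⊥)) (u.comp (⊥ : Subfield (ResidueField C)).subtype) (maximalIdeal C ^ 2) ψ
      (RingHom.ext fun a => by
        have h1 : δ (a : ResidueField C) = 0 := by
          induction a using Groth.Agent.EGA41Lib.SymGr.bot_induction with
          | h1 => exact Derivation.map_one_eq_zero _
          | hadd x y hx hy => simp [hx, hy]
          | hneg x hx => simp [hx]
          | hmul x y hx hy => simp [hx, hy]
          | hinv x hx => simp [Derivation.leibniz_inv, hx]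
        show Ideal.Quotient.mk _ (u (a : ResidueField C)) +
          Ideal.Quotient.mk _ t * Ideal.Quotient.mk _ (u (δ (a : ResidueField C))) = _
        rw [h1, map_zero, map_zero, mul_zero, add_zero]
        rfl)
      ⟨1, fun x hx => by
        rw [pow_one, Ideal.mem_bot] at hx
        rw [hx, map_zero]⟩
    have hv' : ∀ x, Ideal.Quotient.mk (maximalIdeal C ^ 2) (v x) =
        Ideal.Quotient.mk (maximalIdeal C ^ 2) (u x + t * u (δ x)) := fun x => by
      rw [map_add, map_mul]
      exact RingHom.congr_fun hv x
    have hvu : v = u := huniq v fun x => by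
      have h1 := Ideal.pow_le_self two_ne_zero (Ideal.Quotient.eq.1 (hv' x))
      rw [← residue_eq_zero_iff, map_sub, map_add, map_mul, (residue_eq_zero_iff t).2 htm, zero_mul, add_zero, hu,
        sub_eq_zero] at h1
      exact h1
    have h2 := Ideal.Quotient.eq.1 (hv' x₀)
    rw [hvu, sub_add_cancel_left, neg_mem_iff] at h2
    have hunit : IsUnit (u (δ x₀)) := (isUnit_iff_ne_zero.2 hx₀).map u
    exact ht2 ((Ideal.mul_unit_mem_iff_mem _ hunit).1 h2)
  · intro hsub v hv
    refine RingHom.ext fun x => ?_
    have key : ∀ n : ℕ, ∀ y, v y - u y ∈ maximalIdeal C ^ (n + 1) := by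
      intro n
      induction n with
      | zero =>
        intro y
        rw [zero_add, pow_one, ← residue_eq_zero_iff, map_sub, hv, hu, sub_self]
      | succ n ih =>
        intro y
        letI : Algebra (ResidueField C) (C ⧸ maximalIdeal C ^ (n + 1 + 1)) :=
          ((Ideal.Quotient.mk (maximalIdeal C ^ (n + 1 + 1))).comp u).toAlgebra
        let D : Derivation ℤ (ResidueField C) (C ⧸ maximalIdeal C ^ (n + 1 + 1)) := Derivation.mk'
          (AddMonoidHom.mk' (fun z => Ideal.Quotient.mk (maximalIdeal C ^ (n + 1 + 1)) (v z - u z)) fun a b => by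
            simp only [map_add, map_sub]; ring).toIntLinearMap fun a b => by
            simp only [AddMonoidHom.coe_toIntLinearMap, AddMonoidHom.mk'_apply, Algebra.smul_def]
            show Ideal.Quotient.mk _ (v (a * b) - u (a * b)) = Ideal.Quotient.mk _ (u a) *
              Ideal.Quotient.mk _ (v b - u b) + Ideal.Quotient.mk _ (u b) * Ideal.Quotient.mk _ (v a - u a)
            rw [← map_mul, ← map_mul, ← map_add, Ideal.Quotient.eq, map_mul, map_mul,
              show v a * v b - u a * u b - (u a * (v b - u b) + u b * (v a - u a)) = (v a - u a) * (v b - u b) by ring,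
              pow_succ]
            refine Ideal.mul_mem_mul (ih a) ?_
            exact Ideal.pow_le_self (Nat.succ_ne_zero n) (ih b)
        have h1 : D y = 0 := by
          rw [← D.liftKaehlerDifferential_comp_D y, Subsingleton.elim (KaehlerDifferential.D ℤ (ResidueField C) y) 0,
            map_zero]
        exact Ideal.Quotient.eq_zero_iff_mem.1 h1
    rw [← sub_eq_zero]
    refine IsHausdorff.haus (inferInstance : IsHausdorff (maximalIdeal C) C) _ fun n => ?_
    rw [SModEq.zero, smul_eq_mul, Ideal.mul_top]
    exact Ideal.pow_le_pow_right (Nat.le_succ n) (key n x)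

end Groth.Agent.S2483
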