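import Groth.Statements.S2486
import Groth.Agent.EGA41Lib.InseparableSurjective
import Mathlib

set_option backward.isDefEq.respectTransparency.types false

set_option autoImplicit false
universe u
open EGA41

namespace Groth.Agent.S2486

/-- Let p be a prime, B an A-algebra of characteristic p and (x_α) a family of elements of B. Then (a) B
is generated as an A[B^p]-algebra by the x_α if and only if (b) (x_α) is a system of p-generators of
B over A; these imply (c) Ω_{B/A} is generated by the d x_α; and if B is an A[B^p]-algebra of finite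
type, (c) implies (a). -/
theorem result (p : ℕ) [Fact p.Prime] {A B : Type u} [CommRing A] [CommRing B] [Algebra A B] [CharP B p]
    {ι : Type u} (x : ι → B) :
    (Algebra.adjoin (EGA41.pPowerSubalgebra p A B) (Set.range x) = ⊤ ↔ EGA41.IsPGenerating p A x) ∧
    (EGA41.IsPGenerating p A x → Submodule.span B (Set.range fun i => KaehlerDifferential.D A B (x i)) = ⊤) ∧
    (Algebra.FiniteType (EGA41.pPowerSubalgebra p A B) B →
      Submodule.span B (Set.range fun i => KaehlerDifferential.D A B (x i)) = ⊤ → EGA41.IsPGenerating p A x) := by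
  let M := EGA41.pPowerSubalgebra p A B
  have hpow : ∀ i, x i ^ p ∈ Set.range (algebraMap M B) :=
    fun i => ⟨⟨x i ^ p, Algebra.subset_adjoin ⟨x i, rfl⟩⟩, rfl⟩
  have hg : EGA41.IsPGenerating p A x ↔ Algebra.adjoin M (Set.range x) = ⊤ :=
    Groth.Agent.EGA41Lib.PB.span_mon_eq_top_iff (Nat.Prime.pos Fact.out) x hpow
  refine ⟨hg.symm, fun h => ?_, fun hft hspan => ?_⟩
  · have key : ∀ b : B, KaehlerDifferential.D A B b ∈
        Submodule.span B (Set.range fun i => KaehlerDifferential.D A B (x i)) := by
      intro b
      have hb : b ∈ Algebra.adjoin M (Set.range x) := (hg.1 h) ▸ Algebra.mem_top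
      induction hb using Algebra.adjoin_induction with
      | mem y hy => obtain ⟨i, rfl⟩ := hy; exact Submodule.subset_span ⟨i, rfl⟩
      | algebraMap m =>
        rw [show KaehlerDifferential.D A B (algebraMap M B m) = 0 from
          Groth.Agent.EGA41Lib.PB.derivation_eq_zero_of_mem_adjoin_pow _ m.2]
        exact Submodule.zero_mem _
      | add y y' _ _ hy hy' => rw [map_add]; exact Submodule.add_mem _ hy hy'
      | mul y y' _ _ hy hy' =>
        rw [Derivation.leibniz]
        exact Submodule.add_mem _ (Submodule.smul_mem _ _ hy') (Submodule.smul_mem _ _ hy)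
    rw [_root_.eq_top_iff, ← KaehlerDifferential.span_range_derivation, Submodule.span_le]
    rintro _ ⟨b, rfl⟩
    exact key b
  · rw [hg]
    let S := Algebra.adjoin M (Set.range x)
    haveI : Algebra.FiniteType S B := Algebra.FiniteType.of_restrictScalars_finiteType M S B
    haveI : Subsingleton Ω[B⁄S] := by
      refine subsingleton_of_forall_eq 0 fun ω => ?_
      obtain ⟨η, rfl⟩ := KaehlerDifferential.map_surjective A S B ω
      have hη : η ∈ Submodule.span B (Set.range fun i => KaehlerDifferential.D A B (x i)) := hspan ▸ Submodule.mem_top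
      induction hη using Submodule.span_induction with
      | mem y hy =>
        obtain ⟨i, rfl⟩ := hy
        rw [KaehlerDifferential.map_D, Algebra.algebraMap_self, RingHom.id_apply]
        exact (KaehlerDifferential.D S B).map_algebraMap ⟨x i, Algebra.subset_adjoin ⟨i, rfl⟩⟩
      | zero => rw [map_zero]
      | add y z _ _ hy hz => rw [map_add, hy, hz, add_zero]
      | smul a y _ hy => rw [map_smul, hy, smul_zero]
    refine _root_.eq_top_iff.2 fun b _ => ?_
    obtain ⟨a, ha⟩ := Groth.Agent.EGA41Lib.surjective_of_subsingleton_kaehler p (A := S) (B := B) 1 (fun b => by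
      rw [pow_one]
      exact ⟨⟨b ^ p, S.algebraMap_mem ⟨b ^ p, Algebra.subset_adjoin ⟨b, rfl⟩⟩⟩, rfl⟩) b
    exact ha ▸ a.2

end Groth.Agent.S2486
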