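import Groth.Statements.S2487
import Groth.Agent.EGA41Lib.CohenAlgebra
import Groth.Agent.CAlgH.CompleteLocal
import Groth.Agent.CAlgH.AdicSmoothFlatness
import Mathlib

set_option backward.isDefEq.respectTransparency.types false

set_option autoImplicit false
universe u
open EGA41

namespace Groth.Agent.S2487

open IsLocalRing TensorProduct in
/-- Let A be a Noetherian local ring, J an ideal contained in the maximal ideal, A₀ = A/J, and B₀ a
complete Noetherian local ring with a local homomorphism A₀ → B₀ making B₀ formally smooth over A₀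
(adic topologies). Then (existence) there are a complete Noetherian local ring B, a local
homomorphism A → B making B a flat A-module, and an A₀-algebra isomorphism u : A₀ ⊗_A B ≅ B₀;
(uniqueness) if (B', u') is another such pair, there is an A-algebra isomorphism v : B ≅ B' with u'
∘ (1 ⊗ v) = u. -/
theorem result {A : Type u} [CommRing A] [IsLocalRing A] [IsNoetherianRing A]
    (J : Ideal A) (hJ : J ≤ maximalIdeal A) [IsLocalRing (A ⧸ J)]
    (B₀ : Type u) [CommRing B₀] [IsLocalRing B₀] [IsNoetherianRing B₀] [IsAdicComplete (maximalIdeal B₀) B₀]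
    [Algebra (A ⧸ J) B₀] [IsLocalHom (algebraMap (A ⧸ J) B₀)]
    (hfs : EGA41.IsFormallySmoothAdic (A ⧸ J) (maximalIdeal (A ⧸ J)) B₀ (maximalIdeal B₀)) :
    (∃ (B : Type u) (_ : CommRing B) (_ : IsLocalRing B) (_ : IsNoetherianRing B) (_ : Algebra A B) (_ : IsLocalHom (algebraMap A B)),
      IsAdicComplete (maximalIdeal B) B ∧ Module.Flat A B ∧ Nonempty ((A ⧸ J) ⊗[A] B ≃ₐ[A ⧸ J] B₀)) ∧
    ∀ (B B' : Type u) [CommRing B] [IsLocalRing B] [IsNoetherianRing B] [Algebra A B] [IsLocalHom (algebraMap A B)]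
      [CommRing B'] [IsLocalRing B'] [IsNoetherianRing B'] [Algebra A B'] [IsLocalHom (algebraMap A B')],
      IsAdicComplete (maximalIdeal B) B → Module.Flat A B → IsAdicComplete (maximalIdeal B') B' → Module.Flat A B' →
      ∀ (u : (A ⧸ J) ⊗[A] B ≃ₐ[A ⧸ J] B₀) (u' : (A ⧸ J) ⊗[A] B' ≃ₐ[A ⧸ J] B₀),
      ∃ v : B ≃ₐ[A] B', (u' : (A ⧸ J) ⊗[A] B' →ₐ[A ⧸ J] B₀).comp
          (Algebra.TensorProduct.map (AlgHom.id (A ⧸ J) (A ⧸ J)) (v : B →ₐ[A] B')) = (u : (A ⧸ J) ⊗[A] B →ₐ[A ⧸ J] B₀) := by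
  classical
  have hmapsurj : ∀ {R S : Type u} [CommRing R] [IsLocalRing R] [CommRing S] [IsLocalRing S] (f : R →+* S),
      Function.Surjective f → (maximalIdeal R).map f = maximalIdeal S := fun {R S} _ _ _ _ f hf => by
    haveI := hf.isLocalHom
    refine le_antisymm (Ideal.map_le_iff_le_comap.2 fun x hx => ?_) fun y hy => ?_
    · rw [Ideal.mem_comap, mem_maximalIdeal, mem_nonunits_iff]
      exact fun h => (mem_maximalIdeal x).1 hx (IsLocalHom.map_nonunit x h)
    · obtain ⟨x, rfl⟩ := hf y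
      exact Ideal.mem_map_of_mem _ ((mem_maximalIdeal x).2 fun h => (mem_maximalIdeal _).1 hy (h.map f))
  have hfs' : CAlgX.IsAdicFormallySmooth (A ⧸ J) B₀ (maximalIdeal B₀) :=
    (Groth.Agent.EGA41Lib.isFormallySmoothAdic_iff Groth.Agent.EGA41Lib.exists_map_pow_maximalIdeal_le).1 hfs
  haveI hflat₀ : Module.Flat (A ⧸ J) B₀ := Groth.Agent.CAlgH.AdicSmooth.flat hfs'
  letI : Algebra A B₀ := ((algebraMap (A ⧸ J) B₀).comp (Ideal.Quotient.mk J)).toAlgebra
  haveI : IsScalarTower A (A ⧸ J) B₀ := .of_algebraMap_eq fun _ => rfl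
  have hmA : (maximalIdeal A).map (Ideal.Quotient.mk J) = maximalIdeal (A ⧸ J) := hmapsurj _ Ideal.Quotient.mk_surjective
  have hincs : ∀ (B : Type u) [CommRing B] [Algebra A B],
      Function.Surjective (Algebra.TensorProduct.includeRight : B →ₐ[A] (A ⧸ J) ⊗[A] B) := fun B _ _ =>
    Groth.Agent.CAlgH.AdicSmooth.includeRight_surjective_of_surjective A (A ⧸ J) B Ideal.Quotient.mk_surjective
  have hinck : ∀ (B : Type u) [CommRing B] [Algebra A B],
      RingHom.ker (Algebra.TensorProduct.includeRight : B →ₐ[A] (A ⧸ J) ⊗[A] B).toRingHom = J.map (algebraMap A B) :=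
    fun B _ _ => by
      rw [Groth.Agent.CAlgH.AdicSmooth.ker_includeRight_of_surjective A (A ⧸ J) B Ideal.Quotient.mk_surjective,
        Ideal.Quotient.algebraMap_eq, Ideal.mk_ker]
  constructor
  · let M := (maximalIdeal A).map (algebraMap A B₀)
    have hM : M ≤ maximalIdeal B₀ := by
      change Ideal.map ((algebraMap (A ⧸ J) B₀).comp (Ideal.Quotient.mk J)) _ ≤ _
      rw [← Ideal.map_map, hmA, Ideal.map_le_iff_le_comap]
      intro x hx
      rw [Ideal.mem_comap, mem_maximalIdeal, mem_nonunits_iff]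
      exact fun h => (mem_maximalIdeal x).1 hx (IsLocalHom.map_nonunit x h)
    have hMne : M ≠ ⊤ := ne_top_of_le_ne_top (maximalIdeal.isMaximal B₀).ne_top hM
    haveI : Nontrivial (B₀ ⧸ M) := Ideal.Quotient.nontrivial_iff.2 hMne
    haveI : IsLocalRing (B₀ ⧸ M) := IsLocalRing.of_surjective' (Ideal.Quotient.mk M) Ideal.Quotient.mk_surjective
    haveI : IsAdicComplete (maximalIdeal (B₀ ⧸ M)) (B₀ ⧸ M) := Groth.Agent.CAlgH.isAdicComplete_quotient M
    letI : Algebra (ResidueField A) (B₀ ⧸ M) :=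
      (Ideal.Quotient.lift (maximalIdeal A) ((Ideal.Quotient.mk M).comp (algebraMap A B₀)) fun a ha =>
        Ideal.Quotient.eq_zero_iff_mem.2 (Ideal.mem_map_of_mem _ ha)).toAlgebra
    have hk : ∀ a, algebraMap (ResidueField A) (B₀ ⧸ M) (residue A a) = Ideal.Quotient.mk M (algebraMap A B₀ a) := fun _ => rfl
    let α : A ⧸ J →+* ResidueField A := Ideal.Quotient.lift J (residue A) fun a ha => (residue_eq_zero_iff a).2 (hJ ha)
    have hα : Function.Surjective α := fun y => by
      obtain ⟨a, rfl⟩ := residue_surjective y; exact ⟨Ideal.Quotient.mk J a, rfl⟩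
    have hα' : RingHom.ker α = maximalIdeal (A ⧸ J) := IsLocalRing.eq_maximalIdeal (RingHom.ker_isMaximal_of_surjective α hα)
    have hfib : CAlgX.IsAdicFormallySmooth (ResidueField A) (B₀ ⧸ M) (maximalIdeal (B₀ ⧸ M)) := by
      rw [← hmapsurj (Ideal.Quotient.mk M) Ideal.Quotient.mk_surjective]
      refine Groth.Agent.CAlgH.AdicSmooth.fibre α hα (Ideal.Quotient.mk M) Ideal.Quotient.mk_surjective ?_ ?_ hfs'
      · rw [Ideal.mk_ker, hα', ← hmA, Ideal.map_map]
        rfl
      · refine Ideal.Quotient.ringHom_ext (RingHom.ext fun a => ?_)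
        exact (hk a).symm
    haveI : IsRegularLocalRing (B₀ ⧸ M) := Groth.Agent.CAlgH.AdicSmooth.isRegularLocalRing_of_adicSmooth hfib
    obtain ⟨C, iC, lC, iA, ρ, h1, h2, h3, h4, h5, h6, h7⟩ :=
      Groth.Agent.EGA41Lib.exists_flat_lift_residueField A (B₀ ⧸ M)
    haveI := h1
    haveI := h3
    haveI := h4
    have hCfs : CAlgX.IsAdicFormallySmooth A C (maximalIdeal C) := by
      refine Groth.Agent.CAlgH.AdicSmooth.of_flat_of_fibre (residue A) residue_surjective ρ h5 ?_ h7 (maximalIdeal C) ?_ ?_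
      · rw [ker_residue]; exact h6
      · rw [ker_residue, ← h6]
        exact le_maximalIdeal (RingHom.ker_ne_top ρ)
      · rw [hmapsurj ρ h5]; exact hfib
    let u : C →ₐ[A] B₀ ⧸ M :=
      { toRingHom := ρ
        commutes' := fun a => (RingHom.congr_fun h7 a).trans (hk a) }
    obtain ⟨w, hwloc, hw⟩ := Groth.Agent.EGA41Lib.exists_algHom_lift hCfs M hMne u (le_of_eq (by
      rw [hmapsurj (Ideal.Quotient.mk M) Ideal.Quotient.mk_surjective]
      exact hmapsurj ρ h5))
    have hw' : ∀ c, Ideal.Quotient.mk M (w c) = ρ c := fun c => DFunLike.congr_fun hw c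
    have hMmap : ((maximalIdeal A).map (algebraMap A C)).map w.toRingHom = M := by
      rw [Ideal.map_map]; exact congrArg (fun f => Ideal.map f (maximalIdeal A)) w.comp_algebraMap
    have hmC : (maximalIdeal A).map (algebraMap A C) ≤ maximalIdeal C := by
      rw [← h6]; exact le_maximalIdeal (RingHom.ker_ne_top ρ)
    haveI : IsAdicComplete ((maximalIdeal A).map (algebraMap A C)) C :=
      Groth.Agent.CAlgMisc1.isAdicComplete_of_le _ _ hmC (IsNoetherian.noetherian _) C
    haveI : IsHausdorff (((maximalIdeal A).map (algebraMap A C)).map w.toRingHom) B₀ := by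
      rw [hMmap]; exact IsHausdorff.of_isLocalRing _ _ hMne
    have hwsurj : Function.Surjective w := Groth.Agent.EGA41Lib.surjective_of_mod w.toRingHom _ (fun y => by
      rw [hMmap]
      obtain ⟨c, hc⟩ := h5 (Ideal.Quotient.mk M y)
      refine ⟨c, ?_⟩
      rw [← Ideal.Quotient.mk_eq_mk_iff_sub_mem]
      exact hc.symm.trans (hw' c).symm)
    let φ : (A ⧸ J) ⊗[A] C →ₐ[A ⧸ J] B₀ :=
      Algebra.TensorProduct.lift (Algebra.ofId (A ⧸ J) B₀) w fun _ _ => Commute.all _ _
    have hφ : ∀ c, φ ((1 : A ⧸ J) ⊗ₜ[A] c) = w c := fun c => by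
      rw [Algebra.TensorProduct.lift_tmul, map_one, one_mul]
    haveI : IsNoetherianRing ((A ⧸ J) ⊗[A] C) := isNoetherianRing_of_surjective C _ _ (hincs C)
    have hsurjφ : Function.Surjective φ := fun y => by
      obtain ⟨c, rfl⟩ := hwsurj y; exact ⟨_, hφ c⟩
    haveI : Nontrivial ((A ⧸ J) ⊗[A] C) := φ.toRingHom.domain_nontrivial
    haveI : IsLocalRing ((A ⧸ J) ⊗[A] C) :=
      IsLocalRing.of_surjective' (Algebra.TensorProduct.includeRight : C →ₐ[A] (A ⧸ J) ⊗[A] C).toRingHom (hincs C)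
    have hmT : (maximalIdeal (A ⧸ J)).map (algebraMap (A ⧸ J) ((A ⧸ J) ⊗[A] C)) =
        ((maximalIdeal A).map (algebraMap A C)).map
          (Algebra.TensorProduct.includeRight : C →ₐ[A] (A ⧸ J) ⊗[A] C).toRingHom := by
      rw [← hmA, Ideal.map_map, Ideal.map_map]
      congr 1
      exact RingHom.ext fun a => (AlgHom.commutes (Algebra.TensorProduct.includeRight : C →ₐ[A] (A ⧸ J) ⊗[A] C) a).symm
    have hinjφ : Function.Injective φ := by
      refine Groth.Agent.EGA41Lib.injective_of_flat (maximalIdeal (A ⧸ J)) ?_ φ hsurjφ fun z hz => ?_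
      · refine le_trans ?_ (IsLocalRing.maximalIdeal_le_jacobson _)
        rw [hmT, ← hmapsurj _ (hincs C)]
        exact Ideal.map_mono hmC
      · obtain ⟨c, rfl⟩ := hincs C z
        rw [hmT]
        refine Ideal.mem_map_of_mem _ ?_
        rw [← h6, RingHom.mem_ker, ← hw', Ideal.Quotient.eq_zero_iff_mem, ← hφ]
        rw [← hmA, Ideal.map_map] at hz
        exact hz
    exact ⟨C, iC, lC, h1, iA, h4, h2, h3, ⟨AlgEquiv.ofBijective φ ⟨hinjφ, hsurjφ⟩⟩⟩
  · intro B B' _ _ _ _ _ _ _ _ _ _ hBc hBf hBc' hBf' u u'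
    haveI := hBc
    haveI := hBf
    haveI := hBc'
    haveI := hBf'
    let ρ : B →+* B₀ := (u : (A ⧸ J) ⊗[A] B →+* B₀).comp (Algebra.TensorProduct.includeRight : B →ₐ[A] (A ⧸ J) ⊗[A] B).toRingHom
    let ρ' : B' →+* B₀ := (u' : (A ⧸ J) ⊗[A] B' →+* B₀).comp (Algebra.TensorProduct.includeRight : B' →ₐ[A] (A ⧸ J) ⊗[A] B').toRingHom
    have hρ : Function.Surjective ρ := u.surjective.comp (hincs B)
    have hρ' : Function.Surjective ρ' := u'.surjective.comp (hincs B')
    have hkρ : RingHom.ker ρ = J.map (algebraMap A B) := by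
      rw [RingHom.ker_comp_of_injective _ u.injective, hinck]
    have hkρ' : RingHom.ker ρ' = J.map (algebraMap A B') := by
      rw [RingHom.ker_comp_of_injective _ u'.injective, hinck]
    have hcρ : ρ.comp (algebraMap A B) = (algebraMap (A ⧸ J) B₀).comp (Ideal.Quotient.mk J) := RingHom.ext fun a => by
      change u (Algebra.TensorProduct.includeRight (algebraMap A B a)) = _
      rw [AlgHom.commutes, IsScalarTower.algebraMap_apply A (A ⧸ J) ((A ⧸ J) ⊗[A] B), u.commutes]
      rfl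
    have hcρ' : ρ'.comp (algebraMap A B') = (algebraMap (A ⧸ J) B₀).comp (Ideal.Quotient.mk J) := RingHom.ext fun a => by
      change u' (Algebra.TensorProduct.includeRight (algebraMap A B' a)) = _
      rw [AlgHom.commutes, IsScalarTower.algebraMap_apply A (A ⧸ J) ((A ⧸ J) ⊗[A] B'), u'.commutes]
      rfl
    have hJB : J.map (algebraMap A B) ≤ maximalIdeal B := hkρ ▸ le_maximalIdeal (RingHom.ker_ne_top ρ)
    have hJB' : J.map (algebraMap A B') ≤ maximalIdeal B' := hkρ' ▸ le_maximalIdeal (RingHom.ker_ne_top ρ')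
    have hBfs : CAlgX.IsAdicFormallySmooth A B (maximalIdeal B) := by
      refine Groth.Agent.CAlgH.AdicSmooth.of_flat_of_fibre (Ideal.Quotient.mk J) Ideal.Quotient.mk_surjective ρ hρ ?_ hcρ
        (maximalIdeal B) ?_ ?_
      · rw [Ideal.mk_ker]; exact hkρ
      · rw [Ideal.mk_ker]; exact hJB
      · rw [hmapsurj ρ hρ]; exact hfs'
    obtain ⟨v, hv⟩ := Groth.Agent.EGA41Lib.exists_algEquiv_lift hBfs J hJB hJB' ρ ρ' hρ hρ' hkρ hkρ' (hcρ.trans hcρ'.symm)
    refine ⟨v, Algebra.TensorProduct.ext (Subsingleton.elim _ _) (AlgHom.ext fun b => ?_)⟩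
    exact hv b

end Groth.Agent.S2487
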