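import Groth.Statements.S2562
import Groth.Agent.EGA43.DvrCrit.Main
import Groth.Agent.EGA43.DvrCrit.Structure
-- import your own Groth.Agent.* helpers here

set_option autoImplicit false
set_option backward.isDefEq.respectTransparency false
open CategoryTheory AlgebraicGeometry
universe u
open EGA43

namespace Groth.Agent.S2562

open CategoryTheory.Limits in
/-- Let f : X ⟶ Y be locally of finite presentation, x a point of X, y = f x, and suppose the local ring
O_{Y,y} is reduced and Noetherian. Then O_{Y,y} ⟶ O_{X,x} is flat if and only if, for every discrete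
valuation ring A' and every local homomorphism O_{Y,y} ⟶ A', the base change X' = X ×_Y Spec A' ⟶
Spec A' is flat at every point of X' lying over x and over the closed point of Spec A'. -/
theorem result {X Y : Scheme.{u}} (f : X ⟶ Y) [LocallyOfFinitePresentation f]
    (x : X) [IsNoetherianRing (Y.presheaf.stalk (f.base x))] [_root_.IsReduced (Y.presheaf.stalk (f.base x))] :
    (f.stalkMap x).hom.Flat ↔
      ∀ (A' : Type u) [CommRing A'] [IsDomain A'] [IsDiscreteValuationRing A']
        (φ : (Y.presheaf.stalk (f.base x) : Type u) →+* A') [IsLocalHom φ],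
        ∀ x' : ↥(pullback f (Spec.map (CommRingCat.ofHom φ) ≫ Y.fromSpecStalk (f.base x))),
          (pullback.fst f _).base x' = x →
          (pullback.snd f _).base x' = IsLocalRing.closedPoint A' →
          ((pullback.snd f (Spec.map (CommRingCat.ofHom φ) ≫ Y.fromSpecStalk (f.base x))).stalkMap x').hom.Flat := by
  constructor
  · intro hf A' _ _ _ φ _ x' h1 h2
    refine Groth.Agent.Desc19b.flat_stalkMap_baseChange _ _ _ f (IsPullback.of_hasPullback f _).flip x' ?_
    rw [h1]
    exact hf
  · intro H
    haveI : Module.Finite (X.presheaf.stalk x) ((Coh.structureModule X).presheaf.stalk x) :=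
      Module.Finite.equiv (Groth.Agent.EGA43.FibDepth.unitStalkEquiv x)
    refine (Groth.Agent.EGA43.FibDepth.isFlatOverAt_structureModule f x).1
      (Groth.Agent.EGA43.DvrCrit.isFlatOverAt_of_dvr f (Coh.structureModule X) x ?_)
    intro V _ _ _ φ _ w h1 h2
    exact (Groth.Agent.EGA43.DvrCrit.isFlatOverAt_pullback_structureModule _ _ w).2 (H V φ w h1 h2)

end Groth.Agent.S2562
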