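import Groth.Statements.S2572
import Groth.Agent.EGA43.DimFormula.Dedekind
-- import your own Groth.Agent.* helpers here

set_option autoImplicit false
set_option backward.isDefEq.respectTransparency false
open CategoryTheory AlgebraicGeometry
universe u
open EGA43

namespace Groth.Agent.S2572

/-- Let Y be an irreducible locally Noetherian scheme whose local rings are regular of dimension at most
one, f : X ⟶ Y locally of finite type, and y a point of Y. If every irreducible component of X
meeting the fibre over y has dense image in Y, then there is an open subset U of X containing that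
fibre such that the restriction of f to U is universally open. -/
theorem result {X Y : Scheme.{u}} [IsLocallyNoetherian Y]
    [IrreducibleSpace Y]
    (hY : ∀ y : Y, IsRegularLocalRing (Y.presheaf.stalk y) ∧ ringKrullDim (Y.presheaf.stalk y) ≤ 1)
    (f : X ⟶ Y) [LocallyOfFiniteType f] (y : Y)
    (h : ∀ Z ∈ irreducibleComponents (X : Type u), (Z ∩ f.base ⁻¹' {y}).Nonempty → Dense (f.base '' Z)) :
    ∃ U : X.Opens, f.base ⁻¹' {y} ⊆ (U : Set X) ∧ UniversallyOpen (U.ι ≫ f) := by
  refine Groth.Agent.EGA43.DimFormula.exists_universallyOpen_nhd hY f y fun ξ x hξ hx hfx => ?_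
  obtain ⟨η, hη, Z, hZ, hgen⟩ := Groth.Agent.FlatMorWeight.exists_isMaximalPt_specializes ξ
  obtain rfl := hξ η hη
  have hxZ : x ∈ Z := hgen.specializes_iff_mem.1 hx
  have h1 := h Z hZ ⟨x, hxZ, hfx⟩
  have h2 : Dense (f.base '' (closure {η})) := by rw [hgen.def]; exact h1
  refine IsGenericPoint.eq (isGenericPoint_def.2 ?_) (genericPoint_spec Y)
  refine Set.eq_univ_of_forall fun a => ?_
  have h3 : f.base '' closure {η} ⊆ closure {f η} := by
    have := image_closure_subset_closure_image (s := {η}) f.continuous
    rwa [Set.image_singleton] at this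
  exact (closure_minimal h3 isClosed_closure) (h2 a)

end Groth.Agent.S2572
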