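import Groth.Statements.S2573
import Groth.Agent.EGA43.FlatDescent.Main
import Groth.Agent.EGA43.FlatDescent.Model
import Groth.Agent.EGA43.FlatDescent.NilFree
import Mathlib.RingTheory.Localization.InvSubmonoid
import Mathlib.RingTheory.Nilpotent.Lemmas

set_option autoImplicit false
set_option backward.isDefEq.respectTransparency false
universe u
open EGA43

namespace Groth.Agent.S2573

open TensorProduct in
/-- A finitely presented algebra mapping to `A_p` maps to some `A_t`. -/
theorem exists_lift_away {R₀ A : Type u} [CommRing R₀] [CommRing A] [Algebra R₀ A]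
    (p : Ideal A) [p.IsPrime] (C : Type u) [CommRing C] [Algebra R₀ C]
    [Algebra.FinitePresentation R₀ C] (φ : C →ₐ[R₀] Localization.AtPrime p) :
    ∃ t : A, t ∉ p ∧ Nonempty (C →ₐ[R₀] Localization.Away t) := by
  classical
  obtain ⟨n, π, hπ, S, hS⟩ := ‹Algebra.FinitePresentation R₀ C›.out
  choose ak hak using fun k => IsLocalization.surj p.primeCompl (φ (π (MvPolynomial.X k)))
  let s : A := ∏ k, ((ak k).2 : A)
  have hs : s ∉ p := fun h => by
    obtain ⟨k, -, hk⟩ := Ideal.IsPrime.prod_mem_iff.1 h
    exact (ak k).2.2 hk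
  have hdvd : ∀ k, ((ak k).2 : A) ∣ s := fun k => Finset.dvd_prod_of_mem _ (Finset.mem_univ k)
  have hmk : ∀ (t : A), s ∣ t → ∀ k, IsUnit (algebraMap A (Localization.Away t) (ak k).2) :=
    fun t ht k => isUnit_of_dvd_unit (map_dvd _ ((hdvd k).trans ht))
      (IsLocalization.Away.algebraMap_isUnit t)
  let ev (t : A) (ht : s ∣ t) : MvPolynomial (Fin n) R₀ →ₐ[R₀] Localization.Away t :=
    MvPolynomial.aeval fun k =>
      algebraMap A (Localization.Away t) (ak k).1 * ((hmk t ht k).unit⁻¹ : (Localization.Away t)ˣ)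
  have hl : ∀ t, t ∉ p → IsUnit (algebraMap A (Localization.AtPrime p) t) := fun t ht =>
    IsLocalization.map_units (Localization.AtPrime p) (⟨t, ht⟩ : p.primeCompl)
  let χ (t : A) (ht : t ∉ p) : Localization.Away t →+* Localization.AtPrime p :=
    IsLocalization.Away.lift (S := Localization.Away t) t
      (g := algebraMap A (Localization.AtPrime p)) (hl t ht)
  have hχ : ∀ t ht a, χ t ht (algebraMap A _ a) = algebraMap A _ a := fun t ht a =>
    IsLocalization.Away.lift_eq (S := Localization.Away t) t (hl t ht) a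
  have hev : ∀ t (hst : s ∣ t) ht f, χ t ht (ev t hst f) = φ (π f) := by
    intro t hst ht f
    induction f using MvPolynomial.induction_on with
    | C r =>
      rw [MvPolynomial.algHom_C, IsScalarTower.algebraMap_apply R₀ A (Localization.Away t),
        hχ t ht, ← IsScalarTower.algebraMap_apply]
      exact ((φ.comp π).commutes r).symm
    | add f g hf hg => simp only [map_add, hf, hg]
    | mul_X f k hf =>
      simp only [map_mul, hf, ev, MvPolynomial.aeval_X]
      congr 1
      refine (IsLocalization.map_units (Localization.AtPrime p) (ak k).2).mul_right_cancel ?_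
      rw [hak k, mul_assoc, ← hχ t ht (ak k).2, ← map_mul, ← hχ t ht (ak k).1, IsUnit.val_inv_mul,
        map_one, mul_one]
  have H : ∀ f ∈ S, ∃ u, u ∉ p ∧ ∀ t (hst : s ∣ t), u ∣ t → ev t hst f = 0 := by
    intro f hf
    obtain ⟨⟨a, _, m, rfl⟩, ha⟩ := IsLocalization.surj (Submonoid.powers s) (ev s dvd_rfl f)
    have h0 : algebraMap A (Localization.AtPrime p) a = 0 := by
      have hf0 : π f = 0 := RingHom.mem_ker.1 (hS ▸ Ideal.subset_span hf : f ∈ RingHom.ker π.toRingHom)
      rw [← hχ s hs a, ← ha, map_mul, hev s dvd_rfl hs, hf0, map_zero, zero_mul]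
    obtain ⟨⟨u, hu⟩, hu0⟩ := (IsLocalization.map_eq_zero_iff p.primeCompl _ a).1 h0
    refine ⟨u, hu, fun t hst hut => ?_⟩
    let θ : Localization.Away s →+* Localization.Away t :=
      IsLocalization.Away.lift (S := Localization.Away s) s (g := algebraMap A (Localization.Away t))
        (isUnit_of_dvd_unit (map_dvd _ hst) (IsLocalization.Away.algebraMap_isUnit t))
    have hθ : ∀ a, θ (algebraMap A _ a) = algebraMap A _ a := fun a =>
      IsLocalization.Away.lift_eq (S := Localization.Away s) s _ a
    have hθev : θ (ev s dvd_rfl f) = ev t hst f := by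
      let θ' : Localization.Away s →ₐ[R₀] Localization.Away t :=
        { θ with
          commutes' := fun r => by
            show θ (algebraMap R₀ _ r) = _
            rw [IsScalarTower.algebraMap_apply R₀ A (Localization.Away s), hθ,
              ← IsScalarTower.algebraMap_apply] }
      have : θ'.comp (ev s dvd_rfl) = ev t hst := MvPolynomial.algHom_ext fun k => by
        simp only [AlgHom.comp_apply, ev, MvPolynomial.aeval_X]
        show θ (_ * _) = _
        refine (hmk t hst k).mul_right_cancel ?_
        rw [mul_assoc, IsUnit.val_inv_mul, mul_one, ← hθ (ak k).2, ← map_mul, mul_assoc,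
          IsUnit.val_inv_mul, mul_one, hθ]
      exact AlgHom.congr_fun this f
    have hsu : IsUnit (algebraMap A (Localization.Away t) (s ^ m)) := by
      rw [map_pow]
      exact (isUnit_of_dvd_unit (map_dvd _ hst) (IsLocalization.Away.algebraMap_isUnit t)).pow m
    refine hsu.mul_left_eq_zero.1 ?_
    rw [← hθev, ← hθ (s ^ m), ← map_mul, ha, hθ]
    refine (isUnit_of_dvd_unit (map_dvd (algebraMap A (Localization.Away t)) hut)
      (IsLocalization.Away.algebraMap_isUnit t)).mul_right_eq_zero.1 ?_
    rw [← map_mul]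
    show algebraMap A (Localization.Away t) (u * a) = 0
    rw [hu0, map_zero]
  choose u hup hu using H
  let t : A := s * ∏ f : S, u f.1 f.2
  have ht : t ∉ p := fun h => (‹p.IsPrime›.mem_or_mem h).elim hs fun h => by
    obtain ⟨f, -, hf⟩ := Ideal.IsPrime.prod_mem_iff.1 h
    exact hup f.1 f.2 hf
  refine ⟨t, ht, ⟨AlgHom.liftOfSurjective π hπ (ev t (dvd_mul_right _ _)) ?_⟩⟩
  rw [← hS, Ideal.span_le]
  intro f hf
  exact hu f hf t (dvd_mul_right _ _)
    ((Finset.dvd_prod_of_mem (fun f : S => u f.1 f.2) (Finset.mem_univ ⟨f, hf⟩)).trans (dvd_mul_left _ _))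

set_option maxHeartbeats 1000000 in
set_option synthInstance.maxHeartbeats 100000 in
open TensorProduct Groth.Agent.EGA43 in
/-- A flat model over a Noetherian ring with nil prime becomes free after inverting one element. -/
theorem stage_free {R₀ P₀ M₀ C : Type u} [CommRing R₀] [CommRing P₀] [Algebra R₀ P₀]
    [AddCommGroup M₀] [Module R₀ M₀] [Module P₀ M₀] [IsScalarTower R₀ P₀ M₀]
    [Algebra.FiniteType R₀ P₀] [Module.Finite P₀ M₀] [CommRing C] [Algebra R₀ C]
    [IsNoetherianRing C] [Module.Flat C (C ⊗[R₀] M₀)] (pC : Ideal C) [pC.IsPrime]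
    (hnil : ∀ x ∈ pC, IsNilpotent x) :
    ∃ a ∉ pC, Module.Free (Localization.Away a) (Localization.Away a ⊗[R₀] M₀) := by
  let _ : Module (C ⊗[R₀] P₀) (C ⊗[R₀] M₀) := FlatDescent.bcModule R₀ P₀ M₀ C
  have : Module.Finite (C ⊗[R₀] P₀) (C ⊗[R₀] M₀) := FlatDescent.finite_bc R₀ P₀ M₀ C
  have : Algebra.FiniteType C (C ⊗[R₀] P₀) := Algebra.FiniteType.baseChange (A := P₀) C
  obtain ⟨f, hf0, hfree⟩ := FlatOpen.gFree_baseChange C (C ⊗[R₀] P₀) (C ⊗[R₀] M₀) (C ⧸ pC)
  obtain ⟨a, rfl⟩ := Ideal.Quotient.mk_surjective f
  have ha : a ∉ pC := fun h => hf0 (Ideal.Quotient.eq_zero_iff_mem.2 h)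
  let Lb := Localization.Away (Ideal.Quotient.mk pC a)
  let χ : Localization.Away a →+* Lb :=
    IsLocalization.Away.lift (S := Localization.Away a) a (g := algebraMap C Lb) (by
      rw [IsScalarTower.algebraMap_apply C (C ⧸ pC) Lb, Ideal.Quotient.algebraMap_eq]
      exact IsLocalization.Away.algebraMap_isUnit _)
  have hχ : ∀ c, χ (algebraMap C _ c) = algebraMap C Lb c := fun c =>
    IsLocalization.Away.lift_eq (S := Localization.Away a) a _ c
  let _ : Algebra (Localization.Away a) Lb := χ.toAlgebra
  have : IsScalarTower C (Localization.Away a) Lb := .of_algebraMap_eq fun c => (hχ c).symm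
  have : IsScalarTower R₀ (Localization.Away a) Lb := .of_algebraMap_eq fun r => by
    rw [IsScalarTower.algebraMap_apply R₀ C Lb, IsScalarTower.algebraMap_apply R₀ C (Localization.Away a)]
    exact (hχ _).symm
  have hsurj : Function.Surjective (algebraMap (Localization.Away a) Lb) := fun z => by
    obtain ⟨n, r, h⟩ := IsLocalization.Away.surj (Ideal.Quotient.mk pC a) z
    obtain ⟨r, rfl⟩ := Ideal.Quotient.mk_surjective r
    obtain ⟨v, hv⟩ := (IsLocalization.Away.algebraMap_isUnit a (S := Localization.Away a)).pow n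
    refine ⟨algebraMap C _ r * (↑v⁻¹ : Localization.Away a), ?_⟩
    apply ((IsLocalization.Away.algebraMap_isUnit (Ideal.Quotient.mk pC a) (S := Lb)).pow n).mul_left_injective
    show χ _ * _ = z * _
    rw [h]
    have he : algebraMap (C ⧸ pC) Lb (Ideal.Quotient.mk pC a) ^ n = χ ↑v := by
      rw [hv, map_pow, hχ]; rfl
    rw [he, ← map_mul, mul_assoc, Units.inv_mul, mul_one, hχ]
    rfl
  have hker : IsNilpotent (RingHom.ker (algebraMap (Localization.Away a) Lb)) := by
    have : IsNoetherianRing (Localization.Away a) :=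
      IsLocalization.isNoetherianRing (Submonoid.powers a) _ inferInstance
    have hle : RingHom.ker (algebraMap (Localization.Away a) Lb) ≤ nilradical (Localization.Away a) := by
      intro z hz
      obtain ⟨n, r, h⟩ := IsLocalization.Away.surj a z
      have h0 : algebraMap (C ⧸ pC) Lb (Ideal.Quotient.mk pC r) = 0 := by
        show algebraMap C Lb r = 0
        rw [← hχ, ← h, map_mul, show χ z = 0 from hz, zero_mul]
      obtain ⟨⟨_, k, rfl⟩, hk⟩ := (IsLocalization.map_eq_zero_iff
        (Submonoid.powers (Ideal.Quotient.mk pC a)) Lb _).1 h0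
      have hr : r ∈ pC := by
        have hk' : a ^ k * r ∈ pC := by
          rw [← Ideal.Quotient.eq_zero_iff_mem, map_mul, map_pow]; exact hk
        exact (‹pC.IsPrime›.mem_or_mem hk').resolve_left
          (fun h => ha (‹pC.IsPrime›.mem_of_pow_mem k h))
      have hz' : IsNilpotent (z * algebraMap C (Localization.Away a) a ^ n) := by
        rw [h]; exact (hnil r hr).map _
      obtain ⟨m, hm⟩ := hz'
      refine ⟨m, ?_⟩
      rw [mul_pow] at hm
      exact ((((IsLocalization.Away.algebraMap_isUnit a).pow n).pow m).mul_left_eq_zero).1 hm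
    obtain ⟨m, hm⟩ := IsNoetherianRing.isNilpotent_nilradical (Localization.Away a)
    exact ⟨m, le_bot_iff.1 ((Ideal.pow_right_mono hle m).trans hm.le)⟩
  have hflatC : Module.Flat (Localization.Away a) (Localization.Away a ⊗[R₀] M₀) :=
    Module.Flat.of_linearEquiv
      (AlgebraTensorModule.cancelBaseChange R₀ C (Localization.Away a) (Localization.Away a) M₀).symm
  have hfreeL : Module.Free Lb (Lb ⊗[Localization.Away a] (Localization.Away a ⊗[R₀] M₀)) :=
    .of_equiv ((AlgebraTensorModule.cancelBaseChange C (C ⧸ pC) Lb Lb (C ⊗[R₀] M₀)) ≪≫ₗ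
      (AlgebraTensorModule.cancelBaseChange R₀ C Lb Lb M₀) ≪≫ₗ
      (AlgebraTensorModule.cancelBaseChange R₀ (Localization.Away a) Lb Lb M₀).symm)
  have hfreeC : Module.Free (Localization.Away a) (Localization.Away a ⊗[R₀] M₀) :=
    FlatDescent.free_of_flat_of_free_quot hsurj hker _ hfreeL
  exact ⟨a, ha, hfreeC⟩

set_option maxHeartbeats 1000000 in
set_option synthInstance.maxHeartbeats 100000 in
open TensorProduct Groth.Agent.EGA43 in
theorem aux2 {A R₀ P₀ M₀ M : Type u} [CommRing A] [CommRing R₀] [IsNoetherianRing R₀] [Algebra R₀ A]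
    [CommRing P₀] [Algebra R₀ P₀] [AddCommGroup M₀] [Module R₀ M₀] [Module P₀ M₀]
    [IsScalarTower R₀ P₀ M₀] [Algebra.FiniteType R₀ P₀] [Module.Finite P₀ M₀]
    [AddCommGroup M] [Module A M] (e : A ⊗[R₀] M₀ ≃ₗ[A] M) (p : Ideal A) [p.IsPrime]
    (hp : minimalPrimes A = {p})
    (hflat : Module.Flat (Localization.AtPrime p) (LocalizedModule p.primeCompl M)) :
    ∃ t : A, t ∉ p ∧
      Module.Free (Localization.Away t) (LocalizedModule (Submonoid.powers t) M) := by
  let eT (L : Type u) [CommRing L] [Algebra A L] [Algebra R₀ L] [IsScalarTower R₀ A L] : L ⊗[R₀] M₀ ≃ₗ[L] L ⊗[A] M :=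
    (AlgebraTensorModule.cancelBaseChange R₀ A L L M₀).symm ≪≫ₗ
      AlgebraTensorModule.congr (LinearEquiv.refl L L) e
  have eL := ((isLocalizedModule_iff_isBaseChange p.primeCompl (Localization.AtPrime p)
    (LocalizedModule.mkLinearMap p.primeCompl M)).1 inferInstance).equiv
  have : Module.Flat (Localization.AtPrime p) (Localization.AtPrime p ⊗[R₀] M₀) :=
    Module.Flat.of_linearEquiv (eT _ ≪≫ₗ eL)
  obtain ⟨C, hC, hCflat⟩ :=
    FlatDescent.exists_stage_flat (R := R₀) P₀ (M := M₀) (A := Localization.AtPrime p)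
  have : Algebra.FiniteType R₀ C := C.fg_iff_finiteType.1 hC
  have : IsNoetherianRing C := FlatDescent.isNoetherianRing_of_fg hC
  let pC : Ideal C := (IsLocalRing.maximalIdeal (Localization.AtPrime p)).comap C.val.toRingHom
  have hnil : ∀ x ∈ pC, IsNilpotent x := fun x hx => by
    obtain ⟨a, s, hs⟩ := IsLocalization.exists_mk'_eq p.primeCompl (x : Localization.AtPrime p)
    have hx' : IsLocalization.mk' (Localization.AtPrime p) a s ∈
        IsLocalRing.maximalIdeal (Localization.AtPrime p) := by rw [hs]; exact hx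
    rw [IsLocalization.AtPrime.mk'_mem_maximal_iff (Localization.AtPrime p) p] at hx'
    have hrad : nilradical A = p := by
      rw [nilradical, ← Ideal.sInf_minimalPrimes, Submodule.zero_eq_bot]
      show sInf (minimalPrimes A) = p
      rw [hp, sInf_singleton]
    have hnilA : IsNilpotent a := by rw [← mem_nilradical, hrad]; exact hx'
    obtain ⟨m, hm⟩ := hnilA
    refine ⟨m, Subtype.ext ?_⟩
    show (x : Localization.AtPrime p) ^ m = 0
    rw [← hs, ← IsLocalization.mk'_pow, hm, IsLocalization.mk'_zero]
  have : pC.IsPrime := Ideal.IsPrime.comap _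
  obtain ⟨a, ha, hfreeC⟩ := stage_free (R₀ := R₀) (P₀ := P₀) (M₀ := M₀) (C := C) pC hnil
  have : Algebra.FiniteType R₀ (Localization.Away a) := Algebra.FiniteType.trans ‹Algebra.FiniteType R₀ C› (IsLocalization.finiteType_of_monoid_fg (Submonoid.powers a) _)
  have : Algebra.FinitePresentation R₀ (Localization.Away a) :=
    Algebra.FinitePresentation.of_finiteType.1 inferInstance
  let φ₀ : Localization.Away a →+* Localization.AtPrime p :=
    IsLocalization.Away.lift (S := Localization.Away a) a (g := C.val.toRingHom)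
      (not_not.1 fun h => ha (by rwa [Ideal.mem_comap, IsLocalRing.mem_maximalIdeal]))
  let φ : Localization.Away a →ₐ[R₀] Localization.AtPrime p :=
    { φ₀ with
      commutes' := fun r => by
        show φ₀ (algebraMap R₀ _ r) = _
        rw [IsScalarTower.algebraMap_apply R₀ C (Localization.Away a)]
        exact IsLocalization.Away.lift_eq (S := Localization.Away a) a _ _ }
  obtain ⟨t, ht, ⟨θ⟩⟩ := exists_lift_away p (Localization.Away a) φ
  refine ⟨t, ht, ?_⟩
  let _ : Algebra (Localization.Away a) (Localization.Away t) := θ.toRingHom.toAlgebra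
  have : IsScalarTower R₀ (Localization.Away a) (Localization.Away t) :=
    .of_algebraMap_eq fun r => (θ.commutes r).symm
  have et := ((isLocalizedModule_iff_isBaseChange (Submonoid.powers t) (Localization.Away t)
    (LocalizedModule.mkLinearMap (Submonoid.powers t) M)).1 inferInstance).equiv
  exact .of_equiv ((AlgebraTensorModule.cancelBaseChange R₀ (Localization.Away a)
    (Localization.Away t) (Localization.Away t) M₀) ≪≫ₗ eT (Localization.Away t) ≪≫ₗ et)

set_option maxHeartbeats 1000000 in
open TensorProduct Groth.Agent.EGA43 in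
theorem aux {A B : Type u} [CommRing A] [CommRing B] [Algebra A B]
    [Algebra.FinitePresentation A B] (p : Ideal A) [p.IsPrime] (hp : minimalPrimes A = {p})
    (M : Type u) [AddCommGroup M] [Module B M] [Module A M] [IsScalarTower A B M]
    [Module.FinitePresentation B M]
    (hflat : Module.Flat (Localization.AtPrime p) (LocalizedModule p.primeCompl M)) :
    ∃ t : A, t ∉ p ∧
      Module.Free (Localization.Away t) (LocalizedModule (Submonoid.powers t) M) := by
  obtain ⟨R₀, _, P₀, M₀, _, _, _, _, _, _, _, _, ψ, e, -, -⟩ :=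
    FlatDescent.exists_model_of_finitePresentation (A := A) (S := B) (N := M)
  exact aux2 (P₀ := P₀) e p hp hflat

/-- Let A be a commutative ring whose spectrum is irreducible, with unique minimal prime p, let B be a
finitely presented A-algebra and M a finitely presented B-module. If the localization M_p is flat
over A_p, then there is t ∉ p such that M_t is a free A_t-module. -/
theorem result {A B : Type u} [CommRing A] [CommRing B] [Algebra A B]
    [Algebra.FinitePresentation A B] (p : Ideal A) [p.IsPrime] (hp : minimalPrimes A = {p})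
    (M : Type u) [AddCommGroup M] [Module B M] [Module A M] [IsScalarTower A B M] [Module.FinitePresentation B M]
    (hflat : Module.Flat (Localization.AtPrime p) (LocalizedModule p.primeCompl M)) :
    ∃ t : A, t ∉ p ∧ Module.Free (Localization.Away t) (LocalizedModule (Submonoid.powers t) M) := by
  exact aux (B := B) p hp M hflat

end Groth.Agent.S2573
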