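import Groth.Statements.S2576
import Groth.Agent.EGA43.Cons.FibreProper
-- import your own Groth.Agent.* helpers here

set_option autoImplicit false
set_option backward.isDefEq.respectTransparency false
open CategoryTheory AlgebraicGeometry
universe u
open EGA43

namespace Groth.Agent.S2576

open CategoryTheory.Limits in
/-- Let g : Y ⟶ S and f : X ⟶ Y be such that X and Y are of finite presentation over S (locally of
finite presentation, quasi-compact and quasi-separated). For each point s of S let f_s be the
induced morphism from the fibre of f ≫ g over s to the fibre of g over s. Then the set of s for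
which f_s is a closed immersion is locally constructible in S. -/
theorem result {X Y S : Scheme.{u}} (f : X ⟶ Y) (g : Y ⟶ S)
    [LocallyOfFinitePresentation g] [QuasiCompact g] [QuasiSeparated g]
    [LocallyOfFinitePresentation (f ≫ g)] [QuasiCompact (f ≫ g)] [QuasiSeparated (f ≫ g)] :
    Topology.IsLocallyConstructible {s : S |
      IsClosedImmersion (pullback.lift (pullback.fst (f ≫ g) (S.fromSpecResidueField s) ≫ f) (pullback.snd (f ≫ g) (S.fromSpecResidueField s))
          ((Category.assoc _ _ _).trans pullback.condition) :
        pullback (f ≫ g) (S.fromSpecResidueField s) ⟶ pullback g (S.fromSpecResidueField s))} := by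
  have := Groth.Agent.EGA43.Limit.locallyOfFinitePresentation_of_comp f g
  have : QuasiCompact f := QuasiCompact.of_comp f g
  have : QuasiSeparated f := QuasiSeparated.of_comp f g
  convert Groth.Agent.EGA43.Cons.FibreProper.isLocallyConstructible_setOf_isClosedImmersion f g using 1
  ext s
  exact Groth.Agent.EGA43.Cons.fibre_iff (P := @IsClosedImmersion.{u}) f g (S.fromSpecResidueField s)

end Groth.Agent.S2576
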