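import Groth.Statements.S2591
import Groth.Agent.EGA43.FlatDescent.Strata
import Groth.Agent.EGA43.FlatDescent.Model

set_option autoImplicit false
set_option backward.isDefEq.respectTransparency false
open TensorProduct
universe u
open EGA43

namespace Groth.Agent.S2591

set_option maxHeartbeats 1000000 in
set_option synthInstance.maxHeartbeats 100000 in
open TensorProduct Groth.Agent.EGA43 in
theorem aux2 {A R₀ P₀ M₀ M : Type u} [CommRing A] [CommRing R₀] [IsNoetherianRing R₀] [Algebra R₀ A]
    [CommRing P₀] [Algebra R₀ P₀] [AddCommGroup M₀] [Module R₀ M₀] [Module P₀ M₀]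
    [IsScalarTower R₀ P₀ M₀] [Algebra.FiniteType R₀ P₀] [Module.Finite P₀ M₀]
    [AddCommGroup M] [Module A M] [Module.Flat A M] (e : A ⊗[R₀] M₀ ≃ₗ[A] M) :
    ∃ l : List A, Ideal.span {a | a ∈ l} = ⊤ ∧
      ∀ (i : ℕ) (hi : i < l.length),
        letI J : Ideal (Localization.Away l[i]) :=
          (Ideal.span {a | a ∈ l.take i}).map (algebraMap A (Localization.Away l[i]))
        Module.Free (Localization.Away l[i] ⧸ J) ((Localization.Away l[i] ⧸ J) ⊗[A] M) := by
  have : Module.Flat A (A ⊗[R₀] M₀) := Module.Flat.of_linearEquiv e
  obtain ⟨C, hC, hCflat⟩ := FlatDescent.exists_stage_flat (R := R₀) P₀ (M := M₀) (A := A)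
  have : IsNoetherianRing C := FlatDescent.isNoetherianRing_of_fg hC
  obtain ⟨l, hl, hfree⟩ := FlatDescent.stratified (R₀ := R₀) P₀ (M₀ := M₀) (⊥ : Ideal C)
  refine ⟨l.map C.val, ?_, ?_⟩
  · rw [bot_sup_eq] at hl
    have h := congrArg (Ideal.map C.val.toRingHom) hl
    rw [Ideal.map_span, Ideal.map_top] at h
    rw [← h]
    congr 1
    ext a
    simp
  · intro i hi
    have hi' : i < l.length := by simpa using hi
    have key : ∀ (a : A), (l[i] : A) = a → ∀ J : Ideal (Localization.Away a),
        (∀ c ∈ Ideal.span {c | c ∈ l.take i}, algebraMap A (Localization.Away a) (c : C) ∈ J) →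
        Module.Free (Localization.Away a ⧸ J) ((Localization.Away a ⧸ J) ⊗[A] M) := by
      intro a ha J hJ
      let K : Ideal (Localization.Away l[i]) :=
        Ideal.map (algebraMap C (Localization.Away l[i])) (⊥ ⊔ Ideal.span {c | c ∈ l.take i})
      let g : C →ₐ[R₀] Localization.Away a ⧸ J :=
        (IsScalarTower.toAlgHom R₀ A (Localization.Away a ⧸ J)).comp C.val
      have hg : IsUnit (g.toRingHom l[i]) := by
        show IsUnit (algebraMap A (Localization.Away a ⧸ J) (l[i] : A))
        rw [ha, IsScalarTower.algebraMap_apply A (Localization.Away a) (Localization.Away a ⧸ J)]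
        exact (IsLocalization.Away.algebraMap_isUnit a).map _
      let θ : Localization.Away l[i] →ₐ[R₀] Localization.Away a ⧸ J :=
        { IsLocalization.Away.lift (S := Localization.Away l[i]) l[i] (g := g.toRingHom) hg with
          commutes' := fun r => by
            show IsLocalization.Away.lift (S := Localization.Away l[i]) l[i] (g := g.toRingHom) hg
              (algebraMap R₀ _ r) = _
            rw [IsScalarTower.algebraMap_apply R₀ C (Localization.Away l[i]),
              IsLocalization.Away.lift_eq]
            exact g.commutes r }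
      have hK : K ≤ RingHom.ker θ.toRingHom := by
        refine Ideal.map_le_iff_le_comap.2 fun c hc => ?_
        rw [bot_sup_eq] at hc
        show θ (algebraMap C _ c) = 0
        have : θ (algebraMap C _ c) = g c :=
          IsLocalization.Away.lift_eq (S := Localization.Away l[i]) l[i] (g := g.toRingHom) hg c
        rw [this]
        show algebraMap A (Localization.Away a ⧸ J) (c : A) = 0
        rw [IsScalarTower.algebraMap_apply A (Localization.Away a) (Localization.Away a ⧸ J),
          Ideal.Quotient.algebraMap_eq, Ideal.Quotient.eq_zero_iff_mem]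
        exact hJ c hc
      have := FlatDescent.free_of_hom (M₀ := M₀)
        (Ideal.Quotient.liftₐ K θ fun x hx => hK hx) (hfree i hi')
      exact .of_equiv ((AlgebraTensorModule.cancelBaseChange R₀ A (Localization.Away a ⧸ J)
        (Localization.Away a ⧸ J) M₀).symm ≪≫ₗ
          AlgebraTensorModule.congr (LinearEquiv.refl _ _) e)
    refine key ((l.map C.val)[i]) (by simp)
      (Ideal.map (algebraMap A (Localization.Away (l.map C.val)[i]))
        (Ideal.span {a | a ∈ (l.map C.val).take i})) (fun c hc => Ideal.mem_map_of_mem _ ?_)
    induction hc using Submodule.span_induction with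
    | mem c hc =>
      refine Ideal.subset_span ?_
      show (c : A) ∈ (l.map C.val).take i
      rw [← List.map_take]
      exact List.mem_map_of_mem (f := C.val) hc
    | zero => simp
    | add x y _ _ hx hy => rw [AddMemClass.coe_add]; exact add_mem hx hy
    | smul r x _ hx => rw [smul_eq_mul, MulMemClass.coe_mul]; exact Ideal.mul_mem_left _ _ hx

open TensorProduct Groth.Agent.EGA43 in
theorem aux {A B : Type u} [CommRing A] [CommRing B] [Algebra A B]
    [Algebra.FinitePresentation A B] (M : Type u) [AddCommGroup M] [Module B M] [Module A M]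
    [IsScalarTower A B M] [Module.FinitePresentation B M] [Module.Flat A M] :
    ∃ l : List A, Ideal.span {a | a ∈ l} = ⊤ ∧
      ∀ (i : ℕ) (hi : i < l.length),
        letI J : Ideal (Localization.Away l[i]) :=
          (Ideal.span {a | a ∈ l.take i}).map (algebraMap A (Localization.Away l[i]))
        Module.Free (Localization.Away l[i] ⧸ J) ((Localization.Away l[i] ⧸ J) ⊗[A] M) := by
  obtain ⟨R₀, _, P₀, M₀, _, _, _, _, _, _, _, _, ψ, e, -, -⟩ :=
    FlatDescent.exists_model_of_finitePresentation (A := A) (S := B) (N := M)
  exact aux2 (P₀ := P₀) e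

/-- Let A be a commutative ring, B a finitely presented A-algebra and M a finitely presented B-module
which is flat over A. Then there are finitely many elements f₁, …, fₙ of A generating the unit ideal
such that, for each i < n, writing A' for the localization of A at f_{i+1} modulo the ideal
generated by f₁, …, fᵢ, the module A' ⊗_A M is free over A'. -/
theorem result {A B : Type u} [CommRing A] [CommRing B] [Algebra A B]
    [Algebra.FinitePresentation A B] (M : Type u) [AddCommGroup M] [Module B M] [Module A M] [IsScalarTower A B M]
    [Module.FinitePresentation B M] [Module.Flat A M] :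
    ∃ l : List A, Ideal.span {a | a ∈ l} = ⊤ ∧
      ∀ (i : ℕ) (hi : i < l.length),
        letI J : Ideal (Localization.Away l[i]) :=
          (Ideal.span {a | a ∈ l.take i}).map (algebraMap A (Localization.Away l[i]))
        Module.Free (Localization.Away l[i] ⧸ J) ((Localization.Away l[i] ⧸ J) ⊗[A] M) := by
  exact aux (B := B) M

end Groth.Agent.S2591
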