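import Groth.Statements.S2596
import Groth.Agent.EGA43.ProperDvr.Closed
-- import your own Groth.Agent.* helpers here

set_option autoImplicit false
set_option backward.isDefEq.respectTransparency false
open CategoryTheory AlgebraicGeometry
universe u
open EGA43

namespace Groth.Agent.S2596

open CategoryTheory.Limits in
/-- Let Y be locally Noetherian, f : X ⟶ Y separated and of finite type, and y a point of Y. Suppose
that for every discrete valuation ring A with fraction field K and every morphism g : Spec A ⟶ Y
sending the closed point to y, every K-point σ of X ×_Y Spec A lying over the generic point Spec K ⟶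
Spec A extends to a section of X ×_Y Spec A ⟶ Spec A. Then f is proper over some open neighbourhood
of y. -/
theorem result {X Y : Scheme.{u}} [IsLocallyNoetherian Y]
    (f : X ⟶ Y) [IsSeparated f] [LocallyOfFiniteType f] [QuasiCompact f] (y : Y)
    (h : ∀ (A : Type u) [CommRing A] [IsDomain A] [IsDiscreteValuationRing A]
      (g : Spec (CommRingCat.of A) ⟶ Y), g.base (IsLocalRing.closedPoint A) = y →
      ∀ σ : Spec (CommRingCat.of (FractionRing A)) ⟶ pullback f g,
        σ ≫ pullback.snd f g = Spec.map (CommRingCat.ofHom (algebraMap A (FractionRing A))) →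
        ∃ s : Spec (CommRingCat.of A) ⟶ pullback f g, s ≫ pullback.snd f g = 𝟙 _ ∧
          Spec.map (CommRingCat.ofHom (algebraMap A (FractionRing A))) ≫ s = σ) :
    ∃ U : Y.Opens, y ∈ U ∧ IsProper (f ∣_ U) := by
  refine EGA43.ProperDvr.exists_isProper_of_dvr f y fun ξ _ A _ _ _ K _ _ _ g σ hσ hg _ => ?_
  let e : FractionRing A ≃ₐ[A] K := FractionRing.algEquiv A K
  let ε : CommRingCat.of (FractionRing A) ≅ CommRingCat.of K := e.toRingEquiv.toCommRingCatIso
  have hε : CommRingCat.ofHom (algebraMap A (FractionRing A)) ≫ ε.hom = CommRingCat.ofHom (algebraMap A K) :=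
    CommRingCat.hom_ext (RingHom.ext fun a => e.commutes a)
  have hε' : CommRingCat.ofHom (algebraMap A K) ≫ ε.inv = CommRingCat.ofHom (algebraMap A (FractionRing A)) := by
    rw [← hε, Category.assoc, ε.hom_inv_id, Category.comp_id]
  let σ' := pullback.lift (Spec.map ε.inv ≫ σ) (Spec.map (CommRingCat.ofHom (algebraMap A (FractionRing A))))
    (show (Spec.map ε.inv ≫ σ) ≫ f = _ ≫ g by rw [Category.assoc, hσ, ← Category.assoc, ← Spec.map_comp, hε'])
  obtain ⟨s, hs, hsσ⟩ := h A g hg σ' (pullback.lift_snd _ _ _)
  refine ⟨s ≫ pullback.fst f g, by rw [Category.assoc, pullback.condition, ← Category.assoc, hs, Category.id_comp], ?_⟩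
  rw [← hε, Spec.map_comp, Category.assoc, ← Category.assoc (Spec.map _) s, hsσ, pullback.lift_fst,
    ← Category.assoc, ← Spec.map_comp, ε.inv_hom_id, Spec.map_id, Category.id_comp]

end Groth.Agent.S2596
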