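import Groth.Statements.S4725

set_option autoImplicit false
universe u
open EGA4

namespace Groth.Agent.S4725

/-- The direct limit of a nonempty directed system of commutative integral domains is an integral domain
(no injectivity of the transition maps is assumed). -/
theorem result (ι : Type u) [Preorder ι] [Nonempty ι] [IsDirectedOrder ι] (G : ι → Type u)
    [∀ i, CommRing (G i)] (f : ∀ i j, i ≤ j → G i →+* G j) [DirectedSystem G (fun i j h ↦ f i j h)]
    [∀ i, IsDomain (G i)] : IsDomain (Ring.DirectLimit G (fun i j h ↦ f i j h)) := by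
  classical
  haveI : Nontrivial (Ring.DirectLimit G (fun i j h ↦ f i j h)) := by
    refine ⟨⟨0, 1, fun h => ?_⟩⟩
    obtain ⟨i⟩ := ‹Nonempty ι›
    rw [← map_one (Ring.DirectLimit.of G (fun i j h ↦ f i j h) i)] at h
    obtain ⟨j, hij, hj⟩ := Ring.DirectLimit.of.zero_exact h.symm
    exact one_ne_zero ((map_one (f i j hij)).symm.trans hj)
  haveI : NoZeroDivisors (Ring.DirectLimit G (fun i j h ↦ f i j h)) := by
    constructor
    intro a b hab
    obtain ⟨i, x, rfl⟩ := Ring.DirectLimit.exists_of a
    obtain ⟨j, y, rfl⟩ := Ring.DirectLimit.exists_of b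
    obtain ⟨k, hik, hjk⟩ := exists_ge_ge i j
    rw [← Ring.DirectLimit.of_f (f := fun i j h ↦ f i j h) hik x,
      ← Ring.DirectLimit.of_f (f := fun i j h ↦ f i j h) hjk y, ← map_mul] at hab
    obtain ⟨l, hkl, hl⟩ := Ring.DirectLimit.of.zero_exact hab
    rw [map_mul, mul_eq_zero] at hl
    rcases hl with hl | hl
    · left
      rw [← Ring.DirectLimit.of_f (f := fun i j h ↦ f i j h) hik x,
        ← Ring.DirectLimit.of_f (f := fun i j h ↦ f i j h) hkl]
      exact (congrArg _ hl).trans (map_zero _)
    · right
      rw [← Ring.DirectLimit.of_f (f := fun i j h ↦ f i j h) hjk y,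
        ← Ring.DirectLimit.of_f (f := fun i j h ↦ f i j h) hkl]
      exact (congrArg _ hl).trans (map_zero _)
  exact NoZeroDivisors.to_isDomain _

end Groth.Agent.S4725
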