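import Groth.Statements.S2903
import Groth.Agent.FlatMor12.EtBridge.Proper
import Groth.Agent.FEtDesc.Submersive
import Groth.Agent.FEtQuot.DescentGen
import Mathlib.AlgebraicGeometry.ZariskisMainTheorem
-- import your own Groth.Agent.* helpers here

set_option autoImplicit false
open CategoryTheory CategoryTheory.Limits AlgebraicGeometry Opposite
universe u
open SGA1

namespace Groth.Agent.S2903

/-- Let g : S' ⟶ S be proper, surjective and locally of finite presentation. Then every descent datum
relative to g whose underlying scheme is a finite etale cover of S' is isomorphic to the canonical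
descent datum of a finite etale cover of S. (Descent data relative to g are taken in
functor-of-points form.) -/
theorem result {S' S : Scheme.{u}} (g : S' ⟶ S) [IsProper g] [Surjective g]
    [LocallyOfFinitePresentation g] (D : Desc.SchDD g) [IsFinite D.obj.hom] [Etale D.obj.hom] :
    ∃ U : Over S, IsFinite U.hom ∧ Etale U.hom ∧ Nonempty ((Desc.toDD g).obj U ≅ D) := by
  obtain ⟨U, hc, hs, he, hi⟩ := Groth.Agent.FlatMor12.EtBridge.effective_qc_of_isCoupleHom D
  obtain ⟨e⟩ := hi
  refine ⟨U, ?_, he, ⟨e⟩⟩
  have hw : e.hom.hom.left ≫ D.obj.hom = pullback.fst g U.hom := Over.w e.hom.hom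
  let i : ((Desc.toDD g).obj U).obj ≅ D.obj := ⟨e.hom.hom, e.inv.hom,
    congrArg Desc.SchDD.Hom.hom e.hom_inv_id, congrArg Desc.SchDD.Hom.hom e.inv_hom_id⟩
  haveI : IsIso e.hom.hom.left := inferInstanceAs (IsIso ((Over.forget S').mapIso i).hom)
  haveI : IsFinite (pullback.fst g U.hom) := by
    rw [← hw]
    exact MorphismProperty.comp_mem @IsFinite _ _ (inferInstance : IsFinite e.hom.hom.left) ‹IsFinite D.obj.hom›
  haveI : UniversallyClosed U.hom := Groth.Agent.FEtDesc.universallyClosed_of_isPullback
    (IsPullback.of_hasPullback g U.hom).flip (Groth.Agent.FEtQuot.univSubmersive_of_isProper g)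
  haveI := hs
  haveI := hc
  haveI := he
  haveI : IsProper U.hom := {}
  haveI : LocallyQuasiFinite U.hom := Groth.Agent.AlgSpLib.locallyQuasiFinite_of_etale U.hom
  exact IsFinite.of_isProper_of_locallyQuasiFinite U.hom

end Groth.Agent.S2903
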