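import Groth.Statements.S2910
import Groth.Agent.SGA1Quot.Free
import Groth.Agent.FEtLib.EqLocus

set_option autoImplicit false
set_option backward.isDefEq.respectTransparency.types false
open CategoryTheory CategoryTheory.Limits AlgebraicGeometry
universe u
open SGA1

namespace Groth.Agent.S2910

/-- Let a finite group G act faithfully on a connected scheme X, let p : X ⟶ Y be a quotient of X by G
with Y locally Noetherian and p finite, and suppose p is etale. Then G acts freely on the geometric
points of X (all inertia groups are trivial), and every automorphism of X over Y is the action of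
exactly one element of G. -/
theorem result {X Y : Scheme.{u}} {G : Type u} [Group G] [Finite G] (ρ : G →* Aut X)
    (p : X ⟶ Y) (hp : SGA1.IsQuot ρ p) [IsLocallyNoetherian Y] [IsFinite p] [ConnectedSpace X]
    (hfaith : Function.Injective ρ) [Etale p] :
    (∀ (K : Type u) [Field K] [IsAlgClosed K] (ξ : Spec (CommRingCat.of K) ⟶ X) (g : G), ξ ≫ (ρ g).hom = ξ → g = 1) ∧
    ∀ u : Aut X, u.hom ≫ p = p → ∃! g : G, ρ g = u := by
  have fact : ∀ (u v : X ⟶ X) (_ : u ≫ p = v ≫ p) (K : Type u) [Field K] (ξ : Spec (CommRingCat.of K) ⟶ X),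
      ξ ≫ u = ξ ≫ v → u = v := fun u v w K _ ξ h =>
    Groth.Agent.FEtLib.eq_of_preconnected p u v ξ h w
  have hfree : Groth.Agent.SGA1Quot.IsFree ρ := fun K _ _ ξ g h =>
    hfaith ((Iso.ext (fact _ (𝟙 X) (by rw [hp.inv, Category.id_comp]) K ξ (h.trans (Category.comp_id ξ).symm))).trans
      (map_one ρ).symm)
  refine ⟨fun K _ _ ξ g h => hfree K ξ g h, fun u hu => ?_⟩
  haveI := Groth.Agent.SGA1Quot.isIso_torsorMap hp hfree
  let x : X := Classical.arbitrary X
  let ξ : Spec (CommRingCat.of (X.residueField x)) ⟶ X := X.fromSpecResidueField x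
  let T := Groth.Agent.SGA1Quot.torsorMap hp
  let a : Spec (CommRingCat.of (X.residueField x)) ⟶ ∐ fun _ : G => X :=
    pullback.lift ξ (ξ ≫ u.hom) (by rw [Category.assoc, hu]) ≫ inv T
  obtain ⟨g, z, hz⟩ : ∃ g z, Sigma.ι (fun _ : G => X) g z = a default := by
    obtain ⟨g, z, hz⟩ := (sigmaOpenCover fun _ : G => X).exists_eq (a default)
    exact ⟨g, z, hz⟩
  let l := IsOpenImmersion.lift (Sigma.ι (fun _ : G => X) g) a (by
    rintro _ ⟨t, rfl⟩
    rw [Subsingleton.elim t default]
    exact ⟨z, hz⟩)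
  have hl : l ≫ Sigma.ι (fun _ : G => X) g = a := IsOpenImmersion.lift_fac _ _ _
  have h0 := congrArg (· ≫ T) hl
  simp only [T, a, Groth.Agent.SGA1Quot.torsorMap, Category.assoc, IsIso.inv_hom_id, Category.comp_id,
    Sigma.ι_desc] at h0
  have h1 := congrArg (· ≫ pullback.fst p p) h0
  have h2 := congrArg (· ≫ pullback.snd p p) h0
  simp only [Category.assoc, pullback.lift_fst, pullback.lift_snd, Category.comp_id] at h1 h2
  rw [h1] at h2
  refine ⟨g, Iso.ext (fact _ _ (by rw [hp.inv, hu]) _ ξ h2), fun g' hg' => hfaith (hg'.trans ?_)⟩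
  exact (Iso.ext (fact _ _ (by rw [hp.inv, hu]) _ ξ h2)).symm

end Groth.Agent.S2910
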