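import Groth.Statements.S2911
import Groth.Agent.SGA1Quot.Affine
import Groth.Agent.FEtQuot.EtaleInvariant
import Groth.Agent.AlgSpLib.SourceRingEtale
import Mathlib.AlgebraicGeometry.Morphisms.Etale

set_option linter.style.haveILetI false
set_option backward.isDefEq.respectTransparency.types false
set_option backward.isDefEq.respectTransparency false

set_option autoImplicit false
open CategoryTheory CategoryTheory.Limits AlgebraicGeometry
universe u
open SGA1

namespace Groth.Agent.S2911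

/-- With the existence of the quotient taken as a hypothesis: Let Y be locally Noetherian, f : X ⟶ Y
etale, separated and quasi-compact, G a finite group acting on X by Y-automorphisms, p : X ⟶ X' a
quotient of X by G and q : X' ⟶ Y the induced morphism. Then p and q are etale, and if f is finite
then q is finite. -/
theorem result {X X' Y : Scheme.{u}} {G : Type u} [Group G] [Finite G] (ρ : G →* Aut X)
    [IsLocallyNoetherian Y] (f : X ⟶ Y) [Etale f] [IsSeparated f] [QuasiCompact f] (hρ : ∀ g : G, (ρ g).hom ≫ f = f)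
    (p : X ⟶ X') (hp : SGA1.IsQuot ρ p) (q : X' ⟶ Y) (hq : p ≫ q = f) :
    Etale p ∧ Etale q ∧ (IsFinite f → IsFinite q) := by
  subst hq
  haveI := hp.affine
  have key : ∀ {V : Y.Opens} (_ : IsAffineOpen V) {U : X'.Opens} (hU : IsAffineOpen U) (e : U ≤ q ⁻¹ᵁ V),
      (q.appLE V U e).hom.Etale := by
    intro V hV U hU e
    letI := (q.appLE V U e).hom.toAlgebra
    letI := (p.app U).hom.toAlgebra
    letI := ((q.appLE V U e) ≫ p.app U).hom.toAlgebra
    letI := Groth.Agent.SGA1Quot.action hp U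
    haveI := Groth.Agent.SGA1Quot.action_invariant hp U
    haveI := Groth.Agent.SGA1Quot.action_comm hp U
    haveI : IsScalarTower Γ(Y, V) Γ(X', U) Γ(X, p ⁻¹ᵁ U) := IsScalarTower.of_algebraMap_eq' rfl
    haveI : IsNoetherianRing Γ(Y, V) := IsLocallyNoetherian.component_noetherian ⟨V, hV⟩
    haveI : FaithfulSMul Γ(X', U) Γ(X, p ⁻¹ᵁ U) := (faithfulSMul_iff_algebraMap_injective _ _).2 (hp.injective U)
    have e' : p ⁻¹ᵁ U ≤ (p ≫ q) ⁻¹ᵁ V := p.preimage_mono e
    have hRB : (q.appLE V U e ≫ p.app U).hom.Etale := by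
      have h := (p ≫ q).etale_appLE hV (hU.preimage p) e'
      rw [Scheme.Hom.comp_appLE] at h
      have h2 : q.app V ≫ p.appLE (q ⁻¹ᵁ V) (p ⁻¹ᵁ U) e' = q.appLE V U e ≫ p.app U := by
        rw [Scheme.Hom.app_eq_appLE, Scheme.Hom.app_eq_appLE, Scheme.Hom.appLE_comp_appLE, Scheme.Hom.appLE_comp_appLE]
      rw [h2] at h
      exact h
    haveI : Algebra.Etale Γ(Y, V) Γ(X, p ⁻¹ᵁ U) := hRB
    have hAB : (p.app U).hom.Etale :=
      RingHom.etale_algebraMap.2 (Groth.Agent.FEtQuot.etale_of_invariant Γ(Y, V) G)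
    haveI : Algebra.Etale Γ(X', U) Γ(X, p ⁻¹ᵁ U) := hAB
    have hff : (p.app U).hom.FaithfullyFlat := by
      rw [RingHom.FaithfullyFlat.iff_flat_and_comap_surjective]
      exact ⟨RingHom.flat_algebraMap_iff.2 inferInstance,
        ((Groth.Agent.SGA1Quot.isIntegralHom hp).isIntegral_app U hU).comap_surjective (hp.injective U)⟩
    exact Groth.Agent.AlgSpLib.etale_of_comp _ _ hAB hff (by simpa only [CommRingCat.hom_comp] using hRB)
  have hqe : Etale q := by
    rw [HasRingHomProperty.iff_appLE (P := @Etale)]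
    intro V U e
    exact key V.2 U.2 e
  haveI := hqe
  refine ⟨Etale.of_comp p q, hqe, fun hf => ?_⟩
  haveI := hf
  haveI := Groth.Agent.SGA1Quot.isAffineHom_of_comp hp q
  refine ⟨fun V hV => ?_⟩
  letI := (q.app V).hom.toAlgebra
  letI := (p.app (q ⁻¹ᵁ V)).hom.toAlgebra
  letI := ((p ≫ q).app V).hom.toAlgebra
  haveI : IsNoetherianRing Γ(Y, V) := IsLocallyNoetherian.component_noetherian ⟨V, hV⟩
  haveI : Module.Finite Γ(Y, V) Γ(X, (p ≫ q) ⁻¹ᵁ V) := (p ≫ q).finite_app V hV
  let l : Γ(X', q ⁻¹ᵁ V) →ₐ[Γ(Y, V)] Γ(X, (p ≫ q) ⁻¹ᵁ V) :=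
    { (p.app (q ⁻¹ᵁ V)).hom with
      commutes' := fun r => by
        show p.app (q ⁻¹ᵁ V) (q.app V r) = (p ≫ q).app V r
        rfl }
  show Module.Finite Γ(Y, V) Γ(X', q ⁻¹ᵁ V)
  exact Module.Finite.of_injective l.toLinearMap (hp.injective (q ⁻¹ᵁ V))

end Groth.Agent.S2911
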