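import Groth.Statements.S2913
import Groth.Agent.FEtLib.Section
import Mathlib.AlgebraicGeometry.Fiber

set_option autoImplicit false
open CategoryTheory CategoryTheory.Limits AlgebraicGeometry Opposite
universe u
open SGA1

namespace Groth.Agent.S2913
open CategoryTheory CategoryTheory.Limits AlgebraicGeometry

/-- Let g : S' ⟶ S be a surjective morphism of schemes such that for every open U of S the map O_S(U) →
O_{S'}(g⁻¹U) is injective. Then g is an epimorphism in the category of schemes. -/
theorem result {S' S : Scheme.{u}} (g : S' ⟶ S) [Surjective g]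
    (hinj : ∀ U : S.Opens, Function.Injective (g.app U).hom) : Epi g := by
  refine ⟨fun {Z} u v huv => ?_⟩
  have hb : u.base = v.base := by
    ext x
    obtain ⟨y, rfl⟩ := g.surjective x
    rw [← Scheme.Hom.comp_apply, huv, Scheme.Hom.comp_apply]
  refine Scheme.Hom.ext hb fun U => ?_
  have hc := Scheme.Hom.congr_app huv U
  simp only [Scheme.Hom.comp_app] at hc
  ext x
  apply hinj
  have key : (u.app U ≫ S.presheaf.map (eqToHom congr((TopologicalSpace.Opens.map $hb.symm).obj U)).op) ≫ g.app (v ⁻¹ᵁ U) =
      v.app U ≫ g.app (v ⁻¹ᵁ U) := by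
    rw [Category.assoc, Scheme.Hom.naturality, ← Category.assoc, hc]
    refine (Category.assoc _ _ _).trans ?_
    refine (congrArg (_ ≫ ·) (S'.presheaf.map_comp _ _).symm).trans ?_
    exact (congrArg (_ ≫ ·) ((S'.presheaf.congr_map (Subsingleton.elim _ (𝟙 _))).trans (S'.presheaf.map_id _))).trans (Category.comp_id _)
  exact congrArg (fun t => t.hom x) key

end Groth.Agent.S2913
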