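import Groth.Statements.S2914
import Groth.Agent.SGA1Quot.Factor
import Mathlib.AlgebraicGeometry.PullbackCarrier

set_option autoImplicit false
set_option backward.isDefEq.respectTransparency.types false
open CategoryTheory CategoryTheory.Limits AlgebraicGeometry Opposite
universe u
open SGA1

namespace Groth.Agent.S2914

/-- Let g : S' ⟶ S be a morphism of schemes whose underlying map is a quotient map, and such that for
every open U of S the sequence O_S(U) → O_{S'}(g⁻¹U) ⇉ O_{S''}(h⁻¹U) is an equalizer, where S'' = S'
×_S S' with structure map h and the two arrows are restriction along the projections. Then g is an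
effective epimorphism in the category of schemes. -/
theorem result {S' S : Scheme.{u}} (g : S' ⟶ S) (hq : Topology.IsQuotientMap g.base)
    (hinj : ∀ U : S.Opens, Function.Injective (g.app U).hom)
    (heq : ∀ (U : S.Opens) (s' : Γ(S', g ⁻¹ᵁ U)), (SGA1.overlapFstApp g U).hom s' = (SGA1.overlapSndApp g U).hom s' →
      s' ∈ Set.range (g.app U).hom) :
    EffectiveEpi g := by
  have key : ∀ {W : Scheme.{u}} (e : S' ⟶ W)
      (_ : pullback.fst g g ≫ e = pullback.snd g g ≫ e), ∃ m : S ⟶ W, g ≫ m = e := by
    intro W e he
    refine Groth.Agent.SGA1Quot.exists_factor hq hinj e (fun x x' hx => ?_) (fun O V hle a => ?_)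
    · obtain ⟨z, hz1, hz2⟩ := Scheme.Pullback.exists_preimage_pullback (f := g) (g := g) x x' hx
      rw [← hz1, ← hz2, ← Scheme.Hom.comp_apply, he, Scheme.Hom.comp_apply]
    · apply heq
      unfold SGA1.overlapFstApp SGA1.overlapSndApp
      rw [Scheme.Hom.app_eq_appLE, ← CommRingCat.comp_apply, ← CommRingCat.comp_apply,
        Scheme.Hom.appLE_comp_appLE, Scheme.Hom.appLE_comp_appLE]
      exact congrArg (fun φ : Γ(W, O) ⟶ Γ(pullback g g, pullback.fst g g ⁻¹ᵁ (g ⁻¹ᵁ V)) => φ a)
        (Groth.Agent.SGA1Quot.appLE_congr O _ _ _ he)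
  exact ⟨⟨{
    desc := fun e he => (key e (he _ _ pullback.condition)).choose
    fac := fun e he => (key e (he _ _ pullback.condition)).choose_spec
    uniq := fun e he m hm => Groth.Agent.SGA1Quot.hom_ext hq.surjective hinj _ _
      (hm.trans (key e (he _ _ pullback.condition)).choose_spec.symm) }⟩⟩

end Groth.Agent.S2914
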