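import Groth.Statements.S2916
import Groth.Agent.FEtDesc.EtaleHom
import Groth.Agent.FEtDesc.Fpqc
import Mathlib.AlgebraicGeometry.AlgClosed.Basic
import Mathlib.FieldTheory.IsAlgClosed.AlgebraicClosure

set_option autoImplicit false
set_option backward.isDefEq.respectTransparency.types false
set_option backward.isDefEq.respectTransparency false
open CategoryTheory CategoryTheory.Limits AlgebraicGeometry Opposite
universe u
open SGA1

namespace Groth.Agent.S2916

open AlgebraicGeometry CategoryTheory CategoryTheory.Limits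

theorem connectedSpace_of_fibres {S' S : Scheme.{u}} (g : S' ⟶ S) (hgq : Topology.IsQuotientMap g)
    (hconn : ∀ (K : Type u) [Field K] [IsAlgClosed K] (ξ : Spec (CommRingCat.of K) ⟶ S),
      ConnectedSpace ↑(pullback g ξ)) [ConnectedSpace S] : ConnectedSpace S' := by
  have hfib : ∀ s : S, _root_.IsConnected (g ⁻¹' {s}) := fun s => by
    let K := AlgebraicClosure (S.residueField s)
    let ξ : Spec (CommRingCat.of K) ⟶ S :=
      Spec.map (CommRingCat.ofHom (algebraMap (S.residueField s) K)) ≫ S.fromSpecResidueField s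
    have hr : Set.range ξ = {s} := by
      haveI : Surjective (Spec.map (CommRingCat.ofHom (algebraMap (S.residueField s) K))) :=
        ⟨fun x => ⟨default, Subsingleton.elim _ _⟩⟩
      rw [Scheme.Hom.comp_base, TopCat.coe_comp, Set.range_comp, Set.range_eq_univ.mpr (Scheme.Hom.surjective _),
        Set.image_univ]
      exact Scheme.range_fromSpecResidueField s
    haveI := hconn K ξ
    have := isConnected_range (pullback.fst g ξ).continuous
    rwa [Scheme.Pullback.range_fst, hr] at this
  haveI : Nonempty S' := ⟨(hfib (Classical.arbitrary S)).nonempty.some⟩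
  haveI : PreconnectedSpace S' := ⟨by
    rw [← Set.preimage_univ (f := g)]
    have := preimage_connectedComponent_connected hfib
      hgq.isCoinducing (Classical.arbitrary S)
    rw [PreconnectedSpace.connectedComponent_eq_univ] at this
    exact this.isPreconnected⟩
  exact ⟨inferInstance⟩

theorem cocycle {S' S X Y : Scheme.{u}} (g : S' ⟶ S)
    (hconn : ∀ (K : Type u) [Field K] [IsAlgClosed K] (ξ : Spec (CommRingCat.of K) ⟶ S),
      ConnectedSpace ↑(pullback g ξ))
    (p : X ⟶ S) (q : Y ⟶ S) [Etale q] (f : pullback p g ⟶ pullback q g)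
    (hf : f ≫ pullback.snd q g = pullback.snd p g) {T : Scheme.{u}} (a b : T ⟶ pullback p g)
    (hab : a ≫ pullback.fst p g = b ≫ pullback.fst p g) :
    a ≫ f ≫ pullback.fst q g = b ≫ f ≫ pullback.fst q g := by
  have hq : ∀ {R : Scheme.{u}} (c : R ⟶ pullback p g), (c ≫ f ≫ pullback.fst q g) ≫ q = (c ≫ pullback.fst p g) ≫ p := by
    intro R c
    simp only [Category.assoc, pullback.condition, reassoc_of% hf]
  have w : (a ≫ f ≫ pullback.fst q g) ≫ q = (b ≫ f ≫ pullback.fst q g) ≫ q := by rw [hq, hq, hab]
  refine Groth.Agent.FEtLib.eq_of_eqLocus_eq_top q _ _ w (top_unique fun t _ => ?_)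
  let K := AlgebraicClosure (T.residueField t)
  let τ : Spec (CommRingCat.of K) ⟶ T :=
    Spec.map (CommRingCat.ofHom (algebraMap (T.residueField t) K)) ≫ T.fromSpecResidueField t
  have hτ : τ default = t := by
    simp only [τ, Scheme.Hom.comp_apply]
    exact Scheme.fromSpecResidueField_apply t _
  rw [← hτ]
  refine Groth.Agent.FEtLib.mem_of_comp_eq q _ _ w τ ?_ default
  let x : Spec (CommRingCat.of K) ⟶ X := τ ≫ a ≫ pullback.fst p g
  let ξ : Spec (CommRingCat.of K) ⟶ S := x ≫ p
  haveI := hconn K ξ
  let ψ : pullback g ξ ⟶ pullback p g :=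
    pullback.lift (pullback.snd g ξ ≫ x) (pullback.fst g ξ) (by rw [Category.assoc]; exact pullback.condition.symm)
  let φ : pullback g ξ ⟶ pullback q ξ :=
    pullback.lift (ψ ≫ f ≫ pullback.fst q g) (pullback.snd g ξ) (by rw [hq, pullback.lift_fst, Category.assoc])
  have hφ : φ ≫ pullback.snd q ξ = pullback.snd g ξ := pullback.lift_snd _ _ _
  have key : ∀ (c : Spec (CommRingCat.of K) ⟶ pullback p g) (hc : c ≫ pullback.fst p g = x),
      ∃ γ : Spec (CommRingCat.of K) ⟶ pullback g ξ, γ ≫ pullback.snd g ξ = 𝟙 _ ∧ γ ≫ ψ = c := by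
    intro c hc
    refine ⟨pullback.lift (c ≫ pullback.snd p g) (𝟙 _)
      (by rw [Category.id_comp, Category.assoc, ← pullback.condition, ← Category.assoc, hc]), pullback.lift_snd _ _ _, ?_⟩
    apply pullback.hom_ext
    · simp only [ψ, Category.assoc, pullback.lift_fst, pullback.lift_snd_assoc]; rw [hc]; exact Category.id_comp x
    · simp [ψ]
  obtain ⟨γ₁, hγ₁, hγ₁'⟩ := key (τ ≫ a) (Category.assoc _ _ _)
  obtain ⟨γ₂, hγ₂, hγ₂'⟩ := key (τ ≫ b) (by rw [Category.assoc, ← hab])
  haveI : LocallyQuasiFinite (pullback.snd q ξ) :=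
    Groth.Agent.FEtDesc.locallyQuasiFinite_of_formallyUnramified _
  haveI : DiscreteTopology ↑(pullback q ξ) := by
    rw [← isDiscrete_univ_iff]
    have := (pullback.snd q ξ).isDiscrete_preimage_singleton default
    rwa [show (pullback.snd q ξ) ⁻¹' {default} = Set.univ from
      Set.eq_univ_of_forall fun _ => Subsingleton.elim _ _] at this
  have hpt : (γ₁ ≫ φ) (IsLocalRing.closedPoint K) = (γ₂ ≫ φ) (IsLocalRing.closedPoint K) := by
    rw [Scheme.Hom.comp_apply, Scheme.Hom.comp_apply]
    exact PreconnectedSpace.constant ‹ConnectedSpace ↑(pullback g ξ)›.toPreconnectedSpace φ.continuous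
  have e : γ₁ ≫ φ = γ₂ ≫ φ := congrArg Subtype.val ((pointEquivClosedPoint (pullback.snd q ξ)).injective
    (a₁ := ⟨γ₁ ≫ φ, by rw [Category.assoc, hφ, hγ₁]⟩) (a₂ := ⟨γ₂ ≫ φ, by rw [Category.assoc, hφ, hγ₂]⟩)
    (Subtype.ext hpt))
  have e' := congrArg (· ≫ pullback.fst q ξ) e
  simp only [φ, Category.assoc, pullback.lift_fst, reassoc_of% hγ₁', reassoc_of% hγ₂'] at e'
  exact e'

/-- Let g : S' ⟶ S be universally submersive with geometrically connected fibres (the base change of S'
to any algebraically closed field valued point of S is connected). Then S' is connected whenever S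
is, and for schemes X, Y etale over S every S'-morphism between their base changes comes from
exactly one S-morphism X ⟶ Y. -/
theorem result {S' S : Scheme.{u}} (g : S' ⟶ S)
    (hg : SGA1.UnivSubmersive g)
    (hconn : ∀ (K : Type u) [Field K] [IsAlgClosed K] (ξ : Spec (CommRingCat.of K) ⟶ S), ConnectedSpace ↑(pullback g ξ)) :
    (ConnectedSpace S → ConnectedSpace S') ∧
    ∀ (X Y : Over S) [Etale X.hom] [Etale Y.hom], Function.Bijective ((Over.pullback g).map : (X ⟶ Y) → _) := by
  have hgq := Groth.Agent.FEtDesc.isQuotientMap_of_univSubmersive hg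
  haveI := Groth.Agent.FEtDesc.surjective_of_univSubmersive hg
  refine ⟨fun _ => connectedSpace_of_fibres g hgq hconn, fun X Y _ _ => ⟨fun u v huv => ?_, fun f => ?_⟩⟩
  · have h : pullback.fst X.hom g ≫ u.left = pullback.fst X.hom g ≫ v.left := by
      have := congrArg (fun k => k.left ≫ pullback.fst Y.hom g) huv
      simpa using this
    haveI : Surjective (pullback.fst X.hom g) :=
      Groth.Agent.FEtDesc.surjective_of_univSubmersive (MorphismProperty.pullback_fst _ _ hg)
    exact Over.OverMorphism.ext (Groth.Agent.FEtLib.eq_of_surjective Y.hom u.left v.left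
      (pullback.fst X.hom g) h (by rw [Over.w u, Over.w v]))
  · obtain ⟨w, ⟨hw1, hw2⟩, -⟩ := Groth.Agent.FEtDesc.existsUnique_hom_descend g hg X.hom Y.hom f.left
      (Over.w f) (fun {T} a b hab => cocycle g hconn X.hom Y.hom f.left (Over.w f) a b hab)
    refine ⟨Over.homMk w hw1, Over.OverMorphism.ext (pullback.hom_ext ?_ ?_)⟩
    · simp [hw2]
    · have : f.left ≫ pullback.snd Y.hom g = pullback.snd X.hom g := Over.w f
      simp [this]

end Groth.Agent.S2916
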