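import Groth.Statements.S2918
import Groth.Agent.BiratPi1H10.Basic

set_option linter.style.haveILetI false
-- import your own Groth.Agent.* helpers here

set_option autoImplicit false
universe u
open SGA1

namespace Groth.Agent.S2918

open AlgebraicGeometry CategoryTheory CategoryTheory.Limits in
/-- Birational invariance of the fundamental group, in terms of finite etale covers: Let X and Y be
proper over a field k, locally Noetherian with all local rings regular, and birational over k: some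
dense open of X is k-isomorphic to some dense open of Y. Then the categories of finite etale covers
of X and of Y are equivalent compatibly with restriction to the common dense open. -/
theorem result (k : Type u) [Field k] {X Y : Scheme.{u}}
    (f : X ⟶ Spec (CommRingCat.of k)) (g : Y ⟶ Spec (CommRingCat.of k)) [IsProper f] [IsProper g]
    [IsLocallyNoetherian X] [IsLocallyNoetherian Y]
    (hX : ∀ x : X, IsRegularLocalRing (X.presheaf.stalk x)) (hY : ∀ y : Y, IsRegularLocalRing (Y.presheaf.stalk y))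
    (U : X.Opens) (V : Y.Opens) (hU : Dense (U : Set X)) (hV : Dense (V : Set Y))
    (e : (U : Scheme.{u}) ≅ (V : Scheme.{u})) (he : e.hom ≫ V.ι ≫ g = U.ι ≫ f) :
    ∃ Φ : FEt.Cat X ≌ FEt.Cat Y, Nonempty (FEt.restrict U.ι ≅ Φ.functor ⋙ FEt.restrict V.ι ⋙ FEt.restrict e.hom) := by
  haveI : IsNoetherian X :=
    { toIsLocallyNoetherian := ‹_›, toCompactSpace := QuasiCompact.compactSpace_of_compactSpace f }
  haveI : IsNoetherian Y :=
    { toIsLocallyNoetherian := ‹_›, toCompactSpace := QuasiCompact.compactSpace_of_compactSpace g }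
  obtain ⟨F, ⟨α⟩⟩ := _root_.Groth.Agent.BiratPi1H10.exists_functor hX f g U hU (e.hom ≫ V.ι)
    (by rw [Category.assoc]; exact he)
  obtain ⟨G, ⟨β⟩⟩ := _root_.Groth.Agent.BiratPi1H10.exists_functor hY g f V hV (e.inv ≫ U.ι)
    (by rw [Category.assoc, ← he, Iso.inv_hom_id_assoc])
  let p1 : FEt.restrict (e.hom ≫ V.ι) ≅ FEt.restrict V.ι ⋙ FEt.restrict e.hom :=
    MorphismProperty.Over.pullbackComp (P := FEt.prop) (Q := ⊤) e.hom V.ι (e.hom ≫ V.ι) rfl
  let p2 : FEt.restrict (e.inv ≫ U.ι) ≅ FEt.restrict U.ι ⋙ FEt.restrict e.inv :=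
    MorphismProperty.Over.pullbackComp (P := FEt.prop) (Q := ⊤) e.inv U.ι (e.inv ≫ U.ι) rfl
  let p3 : FEt.restrict U.ι ≅ FEt.restrict (e.inv ≫ U.ι) ⋙ FEt.restrict e.hom :=
    MorphismProperty.Over.pullbackComp (P := FEt.prop) (Q := ⊤) e.hom (e.inv ≫ U.ι) U.ι
      (Iso.hom_inv_id_assoc e U.ι).symm
  let p4 : FEt.restrict V.ι ≅ FEt.restrict (e.hom ≫ V.ι) ⋙ FEt.restrict e.inv :=
    MorphismProperty.Over.pullbackComp (P := FEt.prop) (Q := ⊤) e.inv (e.hom ≫ V.ι) V.ι
      (Iso.inv_hom_id_assoc e V.ι).symm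
  obtain ⟨h1, h2⟩ := _root_.Groth.Agent.BiratPi1H10.restrict_dense hX U hU
  obtain ⟨h3, h4⟩ := _root_.Groth.Agent.BiratPi1H10.restrict_dense hY V hV
  let c1 : (G ⋙ F) ⋙ FEt.restrict U.ι ≅ 𝟭 _ ⋙ FEt.restrict U.ι :=
    Functor.associator _ _ _ ≪≫ Functor.isoWhiskerLeft G (α ≪≫ p1) ≪≫ (Functor.associator _ _ _).symm ≪≫
      Functor.isoWhiskerRight β _ ≪≫ p3.symm ≪≫ (Functor.leftUnitor _).symm
  let c2 : (F ⋙ G) ⋙ FEt.restrict V.ι ≅ 𝟭 _ ⋙ FEt.restrict V.ι :=
    Functor.associator _ _ _ ≪≫ Functor.isoWhiskerLeft F (β ≪≫ p2) ≪≫ (Functor.associator _ _ _).symm ≪≫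
      Functor.isoWhiskerRight α _ ≪≫ p4.symm ≪≫ (Functor.leftUnitor _).symm
  let i1 : G ⋙ F ≅ 𝟭 _ := Functor.fullyFaithfulCancelRight _ c1
  let i2 : F ⋙ G ≅ 𝟭 _ := Functor.fullyFaithfulCancelRight _ c2
  exact ⟨CategoryTheory.Equivalence.mk G F i1.symm i2,
    ⟨p3 ≪≫ Functor.isoWhiskerRight β.symm _ ≪≫ Functor.associator _ _ _⟩⟩

end Groth.Agent.S2918
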