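import Groth.Statements.S2919
import Groth.Agent.SGA1Quot.Free

set_option autoImplicit false
set_option backward.isDefEq.respectTransparency.types false
open CategoryTheory CategoryTheory.Limits AlgebraicGeometry
universe u
open SGA1

namespace Groth.Agent.S2919

/-- Let a finite group G act on X, p : X ⟶ Y a quotient with Y locally Noetherian and p finite, G acting
freely on geometric points, and suppose p has a section. Then the morphism from the disjoint union
of copies of Y indexed by G to X which is s followed by the action of g on the g-th copy is an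
isomorphism. -/
theorem result {X Y : Scheme.{u}} {G : Type u} [Group G] [Finite G] (ρ : G →* Aut X)
    (p : X ⟶ Y) (hp : SGA1.IsQuot ρ p) [IsLocallyNoetherian Y] [IsFinite p]
    (hfree : (∀ (K : Type u) [Field K] [IsAlgClosed K] (ξ : Spec (CommRingCat.of K) ⟶ X) (g : G), ξ ≫ (ρ g).hom = ξ → g = 1)) (s : Y ⟶ X) (hs : s ≫ p = 𝟙 Y) :
    IsIso (Sigma.desc (fun g : G => s ≫ (ρ g).hom) : (∐ fun _ : G => Y) ⟶ X) := by
  haveI := Groth.Agent.SGA1Quot.isIso_torsorMap hp hfree
  let T := Groth.Agent.SGA1Quot.torsorMap hp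
  let σ : X ⟶ pullback p p := pullback.lift (p ≫ s) (𝟙 X) (by rw [Category.assoc, hs, Category.comp_id, Category.id_comp])
  let k : X ⟶ ∐ fun _ : G => X := σ ≫ inv T
  let dn : (∐ fun _ : G => X) ⟶ ∐ fun _ : G => Y := Sigma.desc fun g : G => p ≫ Sigma.ι (fun _ : G => Y) g
  let up : (∐ fun _ : G => Y) ⟶ ∐ fun _ : G => X := Sigma.desc fun g : G => s ≫ Sigma.ι (fun _ : G => X) g
  have hk : k ≫ T = σ := by simp [k]
  have hfix : k ≫ dn ≫ up = k := by
    refine Scheme.hom_ext_of_forall _ _ fun x => ?_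
    obtain ⟨g, z, hz⟩ : ∃ g z, Sigma.ι (fun _ : G => X) g z = k x := by
      obtain ⟨g, z, hz⟩ := (sigmaOpenCover fun _ : G => X).exists_eq (k x)
      exact ⟨g, z, hz⟩
    let U := k ⁻¹ᵁ (Sigma.ι (fun _ : G => X) g).opensRange
    refine ⟨U, ⟨z, hz⟩, ?_⟩
    let l : U.toScheme ⟶ X := IsOpenImmersion.lift (Sigma.ι (fun _ : G => X) g) (U.ι ≫ k)
      (by rintro _ ⟨w, rfl⟩; exact w.2)
    have hl : l ≫ Sigma.ι (fun _ : G => X) g = U.ι ≫ k := IsOpenImmersion.lift_fac _ _ _
    have hl1 : l = U.ι ≫ p ≫ s := by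
      have h1 := congrArg (· ≫ T ≫ pullback.fst p p) hl
      simp only [Category.assoc, T, Groth.Agent.SGA1Quot.torsorMap, Sigma.ι_desc_assoc, pullback.lift_fst,
        Category.comp_id] at h1
      exact h1.trans (congrArg (U.ι ≫ ·) ((reassoc_of% hk) (pullback.fst p p) |>.trans (pullback.lift_fst _ _ _)))
    have hl2 : l ≫ p ≫ s = l := by rw [hl1, Category.assoc, Category.assoc, reassoc_of% hs]
    calc U.ι ≫ k ≫ dn ≫ up = l ≫ Sigma.ι (fun _ : G => X) g ≫ dn ≫ up := by rw [reassoc_of% hl]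
      _ = (l ≫ p ≫ s) ≫ Sigma.ι (fun _ : G => X) g := by simp only [dn, up, Sigma.ι_desc_assoc, Category.assoc, Sigma.ι_desc]
      _ = U.ι ≫ k := by rw [hl2, hl]
  have hup : ∀ g : G, Sigma.ι (fun _ : G => Y) g ≫ up ≫ T = s ≫ (ρ g).hom ≫ σ := fun g => by
    simp only [up, T, Groth.Agent.SGA1Quot.torsorMap, Sigma.ι_desc_assoc, Category.assoc, Sigma.ι_desc]
    apply pullback.hom_ext
    · simp only [σ, Category.assoc, pullback.lift_fst, Category.comp_id]
      rw [reassoc_of% (hp.inv g), reassoc_of% hs]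
    · simp only [σ, Category.assoc]; erw [pullback.lift_snd, pullback.lift_snd, Category.comp_id]
  refine ⟨k ≫ dn, ?_, ?_⟩
  · refine Sigma.hom_ext _ _ fun g => ?_
    have h : s ≫ (ρ g).hom ≫ k = Sigma.ι (fun _ : G => Y) g ≫ up := by
      rw [← cancel_mono T, Category.assoc, Category.assoc, hk, Category.assoc, hup]
    rw [Sigma.ι_desc_assoc, Category.comp_id, Category.assoc, reassoc_of% h]
    simp only [up, dn, Sigma.ι_desc_assoc, Category.assoc, Sigma.ι_desc]
    rw [reassoc_of% hs]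
  · have h : up ≫ T ≫ pullback.snd p p = Sigma.desc (fun g : G => s ≫ (ρ g).hom) := by
      refine Sigma.hom_ext _ _ fun g => ?_
      rw [reassoc_of% (hup g), Sigma.ι_desc, pullback.lift_snd, Category.comp_id]
    rw [← h, Category.assoc, reassoc_of% hfix, reassoc_of% hk, pullback.lift_snd]

end Groth.Agent.S2919
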