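import Groth.Statements.S2923
import Groth.Agent.TameKum.Dominated

set_option linter.style.haveILetI false
-- import your own Groth.Agent.* helpers here

set_option autoImplicit false
universe u
open IsLocalRing
open SGA1

namespace Groth.Agent.S2923

open AlgebraicGeometry CategoryTheory CategoryTheory.Limits in
/-- The Kummer coverings are cofinal among tame covers: let A be a strictly henselian regular local ring
(henselian with separably closed residue field), f_1, …, f_r part of a regular system of parameters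
with each (f_i) a prime ideal, U ⊆ X = Spec A the open where f_1 ⋯ f_r is invertible, and V a
connected finite etale cover of U tamely ramified along each f_i. Then for some exponents n_i ≥ 1
invertible in the residue field there is a surjective U-morphism from the restriction to U of the
Kummer covering Spec A[T_1, …, T_r]/(T_i^{n_i} − f_i) onto V. -/
theorem result (A : Type u) [CommRing A] [IsRegularLocalRing A] [IsDomain A] (r : ℕ) (f : Fin r → A)
    (hm : ∀ i, f i ∈ maximalIdeal A)
    (hf : LinearIndependent (ResidueField A) (fun i => (maximalIdeal A).toCotangent ⟨f i, hm i⟩))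
    [∀ i, (Ideal.span {f i}).IsPrime]
    [HenselianLocalRing A] [IsSepClosed (ResidueField A)]
    (V : FEt.Cat ((SGA1.specBasicOpen A (∏ i, f i)) : Scheme.{u})) [ConnectedSpace V.left] (htame : SGA1.IsTameAlong f (((V.hom ≫ ((SGA1.specBasicOpen A (∏ i, f i))).ι).appTop).hom.comp (Scheme.ΓSpecIso (CommRingCat.of A)).inv.hom)) :
    ∃ n : Fin r → ℕ, (∀ i, 1 ≤ n i) ∧ (∀ i, IsUnit ((n i : ℕ) : ResidueField A)) ∧
      ∃ φ : (↑((Spec.map (CommRingCat.ofHom (algebraMap A (SGA1.kummerAlg A f n)))) ⁻¹ᵁ (SGA1.specBasicOpen A (∏ i, f i))) : Scheme.{u}) ⟶ V.left, φ ≫ V.hom = (Spec.map (CommRingCat.ofHom (algebraMap A (SGA1.kummerAlg A f n)))) ∣_ (SGA1.specBasicOpen A (∏ i, f i)) ∧ Surjective φ := by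
  obtain ⟨_, θ, hθ, hθf, hθe, hV⟩ := Groth.Agent.TameKum.cover_affine (∏ i, f i) V
  letI : Algebra A Γ(V.left, ⊤) := (Groth.Agent.TameKum.coverHom (∏ i, f i) V).toAlgebra
  letI : Algebra (Localization.Away (∏ i, f i)) Γ(V.left, ⊤) := θ.toAlgebra
  haveI : IsScalarTower A (Localization.Away (∏ i, f i)) Γ(V.left, ⊤) :=
    IsScalarTower.of_algebraMap_eq fun a => (RingHom.congr_fun hθ a).symm
  haveI : Module.Finite (Localization.Away (∏ i, f i)) Γ(V.left, ⊤) := hθf
  haveI : Algebra.Etale (Localization.Away (∏ i, f i)) Γ(V.left, ⊤) := RingHom.etale_algebraMap.1 hθe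
  haveI : Nontrivial Γ(V.left, ⊤) := by
    have hne : Nonempty V.left := inferInstance
    exact PrimeSpectrum.nonempty_iff_nontrivial.1 (hne.map fun x => V.left.isoSpec.hom x)
  have hg : (∏ i, f i) ≠ 0 := Finset.prod_ne_zero_iff.2 fun i _ => Groth.Agent.TameKum.param_ne_zero f hm hf i
  obtain ⟨q, hq, hq0⟩ := Groth.Agent.TameKum.exists_prime_generic (∏ i, f i) hg Γ(V.left, ⊤)
  haveI := hq
  obtain ⟨n, hn, hu, ⟨χ⟩⟩ := Groth.Agent.TameKum.exists_point (B := Γ(V.left, ⊤)) f hm hf htame q hq0
  obtain ⟨_, _, _, _, hinj, -⟩ := Groth.Agent.TameKum.isRegular_kummer f hm hf n hn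
  exact ⟨n, hn, hu, Groth.Agent.TameKum.exists_surjection (∏ i, f i) ((map_ne_zero_iff _ hinj).2 hg)
    (Groth.Agent.TameKum.etale_awayMap f n hn hu) V rfl hV χ⟩

end Groth.Agent.S2923
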