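import Groth.Statements.S2924
import Groth.Agent.TameKum.KummerTame

set_option linter.style.haveILetI false
set_option maxHeartbeats 1000000
set_option backward.isDefEq.respectTransparency.types false
set_option backward.isDefEq.respectTransparency false
-- import your own Groth.Agent.* helpers here

set_option autoImplicit false
universe u
open IsLocalRing
open SGA1

namespace Groth.Agent.S2924

/-- Let A be a regular local ring, f_1, …, f_r part of a regular system of parameters and n_i ≥ 1
invertible in the residue field. Then the Kummer algebra A[T_1, …, T_r]/(T_i^{n_i} − f_i) is tamely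
ramified along each f_i (at every point of its generic fibre, with respect to the discrete valuation
rings A_{(f_i)}). -/
theorem result (A : Type u) [CommRing A] [IsRegularLocalRing A] [IsDomain A] (r : ℕ) (f : Fin r → A)
    (hm : ∀ i, f i ∈ maximalIdeal A)
    (hf : LinearIndependent (ResidueField A) (fun i => (maximalIdeal A).toCotangent ⟨f i, hm i⟩))
    [∀ i, (Ideal.span {f i}).IsPrime] (n : Fin r → ℕ) (hn : ∀ i, 1 ≤ n i) (hu : ∀ i, IsUnit ((n i : ℕ) : ResidueField A)) :
    SGA1.IsTameAlong f (algebraMap A (SGA1.kummerAlg A f n)) := by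
  intro i q _ hq
  obtain ⟨_, _, _, _, hinj, hht⟩ := Groth.Agent.TameKum.isRegular_kummer f hm hf n hn
  haveI : FaithfulSMul A (SGA1.kummerAlg A f n) := (faithfulSMul_iff_algebraMap_injective _ _).2 hinj
  haveI : IsLocalHom (algebraMap A (SGA1.kummerAlg A f n)) := Algebra.IsIntegral.isLocalHom A _
  let x := Groth.Agent.CAlgH.KummerAlg.root f n
  have hsq := Groth.Agent.TameKum.root_notMem_sq f hm hf n hn i
  have hxm : x i ∈ maximalIdeal (SGA1.kummerAlg A f n) := fun hu => (mem_maximalIdeal _).1 (hm i)
    (isUnit_of_map_unit (algebraMap A (SGA1.kummerAlg A f n)) (f i)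
      (Groth.Agent.CAlgH.KummerAlg.root_pow f n i ▸ hu.pow _))
  haveI : (Ideal.span {x i}).IsPrime := by
    haveI := (Groth.Agent.CAlgH3.regular_quotient_of_notMem_sq hxm hsq).1
    haveI := Groth.Agent.CAlgH3.isDomain_of_isRegularLocalRing (SGA1.kummerAlg A f n ⧸ Ideal.span {x i})
    exact (Ideal.Quotient.isDomain_iff_prime _).1 inferInstance
  refine Groth.Agent.TameKum.tame_of_roots f i ?_ n hn (fun j => ?_) x
    (Groth.Agent.CAlgH.KummerAlg.root_pow f n) (Groth.Agent.CAlgH.KummerAlg.adjoin_root f n) hinj hht q hq
  · exact fun h0 => hf.ne_zero i (by rw [show (⟨f i, hm i⟩ : maximalIdeal A) = 0 from Subtype.ext h0, map_zero])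
  · have hA : IsUnit (n j : A) := by
      by_contra h
      exact (hu j).ne_zero (by rw [← map_natCast (residue A)]; exact (residue_eq_zero_iff _).2 h)
    rw [← map_natCast (algebraMap A (ResidueField (Localization.AtPrime (Ideal.span {f i}))))]
    exact (hA.map _).ne_zero

end Groth.Agent.S2924
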