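import Groth.Statements.S2928
import Groth.Agent.SerreDual.VanishingDepth

set_option autoImplicit false
universe u
open CategoryTheory AlgebraicGeometry
open ProjDual

namespace Groth.Agent.S2928

/-- (i)⇔(ii): Let k be a field, X = P^r_k, F a coherent O_X-module and n ≥ 0. Then H^i(X, F(−m)) = 0 for
all i ≤ n and all sufficiently large m if and only if at every closed point x of X the stalk F_x has
depth greater than n over O_{X,x}. -/
theorem result (k : Type u) [Field k] (r : ℕ) (F : (CohB1.ProjSpace r k).Modules) (hF : Coh.IsCoh F) (n : ℕ) : (∃ m₀ : ℤ, ∀ m : ℤ, m₀ ≤ m → ∀ i : ℕ, i ≤ n → Subsingleton (Coh.HH (CohB1.ProjSpace r k) (Twist.twistBy _ F (-m)) i)) ↔ ∀ x : (CohB1.ProjSpace r k), IsClosed ({x} : Set (CohB1.ProjSpace r k)) → (n : ℕ∞) < LocCoh.depth ((CohB1.ProjSpace r k).presheaf.stalk x) (F.presheaf.stalk x) := by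
  rw [← SerreDual.vanishing_iff_depth hF n]
  constructor
  · rintro ⟨m₀, hm₀⟩ i hi
    exact ⟨m₀.toNat, fun m hm => hm₀ (m : ℤ) (by omega) i hi⟩
  · intro h
    choose N hN using h
    refine ⟨(((Finset.range (n + 1)).attach.sup fun i => N i.1 (Nat.lt_succ_iff.1 (Finset.mem_range.1 i.2)) : ℕ) : ℤ),
      fun m hm i hi => ?_⟩
    obtain ⟨m, rfl⟩ := Int.eq_ofNat_of_zero_le ((Int.natCast_nonneg _).trans hm)
    exact hN i hi m ((Finset.le_sup (f := fun j : {x // x ∈ Finset.range (n + 1)} =>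
      N j.1 (Nat.lt_succ_iff.1 (Finset.mem_range.1 j.2)))
      (Finset.mem_attach _ ⟨i, Finset.mem_range.2 (Nat.lt_succ_of_le hi)⟩)).trans (by exact_mod_cast hm))

end Groth.Agent.S2928
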