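import Groth.Statements.S2933
import Groth.Agent.CAlgH3.CatenaryS2Equidim
import Groth.Agent.CAlgH3.Serre
import Mathlib

set_option autoImplicit false
universe u
open LocCoh

namespace Groth.Agent.S2933

/-- Let A be a Noetherian ring with connected spectrum and d ≥ 1 an integer such that every prime p with
dim A_p ≥ d has depth A_p ≥ 2. Then for any two minimal primes p', p'' of A there is a finite
sequence of minimal primes starting at p' and ending at p'' such that any two consecutive members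
are both contained in some prime of height at most d − 1 (Spec A is connected in codimension d − 1). -/
theorem result (A : Type u) [CommRing A] [IsNoetherianRing A] [ConnectedSpace (PrimeSpectrum A)] (d : ℕ) (hd : 1 ≤ d) (h : ∀ p : PrimeSpectrum A, (d : ℕ∞) ≤ p.asIdeal.height → (2 : ℕ∞) ≤ LocCoh.depth (Localization.AtPrime p.asIdeal) (Localization.AtPrime p.asIdeal)) (p' p'' : PrimeSpectrum A) (hp' : p'.asIdeal ∈ minimalPrimes A) (hp'' : p''.asIdeal ∈ minimalPrimes A) : ∃ l : List (PrimeSpectrum A), l.head? = some p' ∧ l.getLast? = some p'' ∧ (∀ p ∈ l, p.asIdeal ∈ minimalPrimes A) ∧ List.IsChain (fun p q => ∃ r : PrimeSpectrum A, p ≤ r ∧ q ≤ r ∧ r.asIdeal.height ≤ (d - 1 : ℕ)) l := by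
  classical
  let Rel : PrimeSpectrum A → PrimeSpectrum A → Prop := fun p q =>
    ∃ r : PrimeSpectrum A, p ≤ r ∧ q ≤ r ∧ r.asIdeal.height ≤ (d - 1 : ℕ)
  let Reach : Ideal A → Prop := fun p => ∃ (hp : p ∈ minimalPrimes A) (l : List (PrimeSpectrum A)),
    l.head? = some p' ∧ l.getLast? = some ⟨p, hp.1.1⟩ ∧ (∀ q ∈ l, q.asIdeal ∈ minimalPrimes A) ∧
      List.IsChain Rel l
  suffices hR : Reach p''.asIdeal by
    obtain ⟨_, l, h1, h2, h3, h4⟩ := hR
    exact ⟨l, h1, h2, h3, h4⟩
  have hstart : Reach p'.asIdeal :=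
    ⟨hp', [p'], rfl, rfl, fun q hq => by rw [List.mem_singleton] at hq; exact hq ▸ hp',
      List.isChain_singleton _⟩
  -- no prime contains minimal primes of both kinds
  have key : ∀ (n : ℕ) (r : Ideal A) [r.IsPrime], r.height ≤ n → ∀ p q : Ideal A,
      p ∈ minimalPrimes A → q ∈ minimalPrimes A → p ≤ r → q ≤ r → Reach p → Reach q := by
    intro n
    induction n using Nat.strong_induction_on with
    | _ n ih =>
      intro r _ hr p q hp hq hpr hqr hRp
      by_cases hsmall : r.height ≤ (d - 1 : ℕ)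
      · obtain ⟨hp₀, l, h1, h2, h3, h4⟩ := hRp
        refine ⟨hq, l ++ [⟨q, hq.1.1⟩], ?_, List.getLast?_concat, ?_, ?_⟩
        · rcases l with _ | ⟨x, l⟩
          · simp at h1
          · simpa using h1
        · intro x hx
          rcases List.mem_append.1 hx with hx | hx
          · exact h3 x hx
          · rw [List.mem_singleton] at hx; subst hx; exact hq
        · rw [List.isChain_append]
          refine ⟨h4, List.isChain_singleton _, fun x hx y hy => ?_⟩
          rw [h2, Option.mem_some_iff] at hx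
          rw [List.head?_cons, Option.mem_some_iff] at hy
          subst hx hy
          exact ⟨⟨r, inferInstance⟩, hpr, hqr, hsmall⟩
      · rcases Nat.eq_zero_or_pos n with rfl | hn
        · exact absurd (hr.trans (by simp)) hsmall
        by_contra hRq
        have hne : r.height ≠ 0 := fun h0 => hsmall (by simp [h0])
        have hdr : (d : ℕ∞) ≤ r.height := by
          have h1 := Order.add_one_le_of_lt (not_le.1 hsmall)
          rwa [show ((d - 1 : ℕ) : ℕ∞) + 1 = (d : ℕ∞) by exact_mod_cast Nat.sub_add_cancel hd] at h1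
        obtain ⟨s, p₁, q₁, hs, hsr, hp₁, hq₁, hps, hqs, hR1, hR2⟩ :=
          Groth.Agent.CAlgH3.DepthTwoSplit.exists_lt_of_depth_two r (h ⟨r, inferInstance⟩ hdr) Reach hp hq
            (Groth.Agent.CAlgH3.DepthTwoSplit.lt_of_height_pos hp hpr hne)
            (Groth.Agent.CAlgH3.DepthTwoSplit.lt_of_height_pos hq hqr hne) hRp hRq
        haveI := hs
        obtain ⟨m, rfl⟩ : ∃ m, n = m + 1 := ⟨n - 1, by omega⟩
        exact hR2 (ih m (by omega) s
          (Groth.Agent.CAlgH3.DepthTwoSplit.height_lt_of_lt hsr hr) p₁ q₁ hp₁ hq₁ hps hqs hR1)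
  by_contra hR
  let Z : (Ideal A → Prop) → Set (PrimeSpectrum A) := fun f =>
    ⋃ p ∈ {p : Ideal A | p ∈ minimalPrimes A ∧ f p}, PrimeSpectrum.zeroLocus (p : Set A)
  have hclosed : ∀ f, IsClosed (Z f) := fun f =>
    ((minimalPrimes.finite_of_isNoetherianRing A).subset fun p hp => hp.1).isClosed_biUnion
      fun p _ => PrimeSpectrum.isClosed_zeroLocus _
  have hcover : Set.univ ⊆ Z Reach ∪ Z (fun p => ¬ Reach p) := by
    intro P _
    obtain ⟨p, hp, hpP⟩ := Ideal.exists_minimalPrimes_le (bot_le : (⊥ : Ideal A) ≤ P.asIdeal)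
    by_cases hf : Reach p
    · exact Or.inl (Set.mem_biUnion ⟨hp, hf⟩ (SetLike.coe_subset_coe.2 hpP))
    · exact Or.inr (Set.mem_biUnion ⟨hp, hf⟩ (SetLike.coe_subset_coe.2 hpP))
  obtain ⟨P, -, hP1, hP2⟩ := isPreconnected_closed_iff.1 isPreconnected_univ _ _ (hclosed Reach)
    (hclosed _) hcover ⟨p', trivial, Set.mem_biUnion ⟨hp', hstart⟩ (Set.Subset.refl _)⟩
    ⟨p'', trivial, Set.mem_biUnion ⟨hp'', hR⟩ (Set.Subset.refl _)⟩
  simp only [Z, Set.mem_iUnion, Set.mem_setOf_eq, exists_prop] at hP1 hP2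
  obtain ⟨p, ⟨hp, hfp⟩, hpP⟩ := hP1
  obtain ⟨q, ⟨hq, hfq⟩, hqP⟩ := hP2
  obtain ⟨N, hN⟩ := ENat.ne_top_iff_exists.1 P.asIdeal.height_ne_top_of_isPrime
  exact hfq (key N P.asIdeal hN.ge p q hp hq hpP hqP hfp)

end Groth.Agent.S2933
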