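import Groth.Statements.S2937
import Groth.Agent.FEtFF.PurityDescent
import Groth.Agent.FEtFF.Punctured

set_option linter.style.haveILetI false
set_option backward.isDefEq.respectTransparency.types false
set_option backward.isDefEq.respectTransparency false

set_option autoImplicit false
universe u
open CategoryTheory AlgebraicGeometry
open Pi1

namespace Groth.Agent.S2937

open CategoryTheory.Limits in
theorem bijective_homOfLE {X : Scheme.{u}} [IsLocallyNoetherian X] (U : X.Opens)
    (hU : ∀ x : X, x ∉ U → (2 : ℕ∞) ≤ LocCoh.depth (X.presheaf.stalk x) (X.presheaf.stalk x)) (V : X.Opens)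
    (W : V.toScheme.Opens) (hW : IsAffineOpen W) :
    Function.Bijective ((X.homOfLE (inf_le_left : V ⊓ U ≤ V)).app W) := by
  let U' := V.ι ⁻¹ᵁ U
  let e := IsOpenImmersion.isoOfRangeEq (X.homOfLE (inf_le_left : V ⊓ U ≤ V)) U'.ι (by
    rw [Scheme.Opens.range_ι, ← Scheme.Hom.coe_opensRange, Scheme.opensRange_homOfLE, Scheme.Hom.preimage_inf,
      Scheme.Opens.ι_preimage_self, top_inf_eq])
  rw [show X.homOfLE (inf_le_left : V ⊓ U ≤ V) = e.hom ≫ U'.ι from
    (IsOpenImmersion.isoOfRangeEq_hom_fac _ _ _).symm, Scheme.Hom.comp_app]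
  haveI : IsIso e.hom := e.isIso_hom
  exact (ConcreteCategory.bijective_of_isIso (e.hom.app _)).comp
    (Groth.Agent.FEtFF.Hartogs.bijective_ι_app U' (fun x hx => (hU x.1 hx).trans_eq
      (Groth.Agent.CAlgH3.depth_ringEquiv (V.stalkIso x).commRingCatIsoToRingEquiv).symm) hW)

/-- Let X be a locally Noetherian scheme and U an open subscheme such that O_X → i_*O_U is an
isomorphism, equivalently, every local ring of X at a point outside U has depth ≥ 2. Let f : X_1 → X
be faithfully flat and quasi-compact. If the pair (X_1, X_1 − f⁻¹U) is pure (restriction of finite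
étale covers from every open V to V ∩ f⁻¹U is an equivalence), then so is (X, X − U). -/
theorem result (X X₁ : Scheme.{u}) [IsLocallyNoetherian X] (U : X.Opens) (hU : ∀ x : X, x ∉ U → (2 : ℕ∞) ≤ LocCoh.depth (X.presheaf.stalk x) (X.presheaf.stalk x)) (f : X₁ ⟶ X) [Flat f] [Surjective f] [QuasiCompact f] (h : SGA2.IsPurePair X₁ (f ⁻¹ᵁ U)) : SGA2.IsPurePair X U := by
  intro V
  let j := X.homOfLE (inf_le_left : V ⊓ U ≤ V)
  have hj := bijective_homOfLE U hU V
  haveI : QuasiCompact j := inferInstance
  let V₁ := f ⁻¹ᵁ V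
  let j₁ := X₁.homOfLE (inf_le_left : V₁ ⊓ f ⁻¹ᵁ U ≤ V₁)
  let fV : (V₁ : Scheme.{u}) ⟶ V.toScheme := f ∣_ V
  haveI : Flat fV := MorphismProperty.of_isPullback (P := @Flat) (isPullback_morphismRestrict f V).flip inferInstance
  haveI : Surjective fV := MorphismProperty.of_isPullback (P := @Surjective) (isPullback_morphismRestrict f V).flip inferInstance
  haveI : QuasiCompact fV := MorphismProperty.of_isPullback (P := @QuasiCompact) (isPullback_morphismRestrict f V).flip inferInstance
  haveI : (FEt.restrict j).EssSurj := ⟨fun E => by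
    haveI : IsFinite E.hom := E.prop.1
    haveI : Etale E.hom := E.prop.2
    let k := IsOpenImmersion.isoOfRangeEq (Limits.pullback.fst fV j) j₁ (by
      rw [Scheme.Pullback.range_fst, ← Scheme.Hom.coe_opensRange, ← Scheme.Hom.coe_opensRange,
        Scheme.opensRange_homOfLE, Scheme.opensRange_homOfLE, Scheme.Hom.preimage_inf, Scheme.Hom.preimage_inf,
        Scheme.Opens.ι_preimage_self, Scheme.Opens.ι_preimage_self, top_inf_eq, top_inf_eq]
      change SetLike.coe (fV ⁻¹ᵁ (V.ι ⁻¹ᵁ U)) = _
      rw [← Scheme.Hom.comp_preimage, morphismRestrict_ι, Scheme.Hom.comp_preimage])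
    have hk : k.hom ≫ j₁ = Limits.pullback.fst fV j := IsOpenImmersion.isoOfRangeEq_hom_fac _ _ _
    haveI : IsIso k.hom := k.isIso_hom
    let eh := Limits.pullback.fst (Limits.pullback.snd fV j) E.hom ≫ k.hom
    haveI : IsFinite (Limits.pullback.fst (Limits.pullback.snd fV j) E.hom) := MorphismProperty.pullback_fst _ _ inferInstance
    haveI : Etale (Limits.pullback.fst (Limits.pullback.snd fV j) E.hom) := MorphismProperty.pullback_fst _ _ inferInstance
    let E₁ : FEt.Cat (V₁ ⊓ f ⁻¹ᵁ U : X₁.Opens).toScheme :=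
      MorphismProperty.Over.mk ⊤ eh ⟨(inferInstance : IsFinite eh), (inferInstance : Etale eh)⟩
    haveI := h V₁
    obtain ⟨A, ⟨θ⟩⟩ := Functor.EssSurj.mem_essImage (F := FEt.restrict j₁) E₁
    haveI : IsFinite A.hom := A.prop.1
    haveI : Etale A.hom := A.prop.2
    let θl : Limits.pullback A.hom j₁ ≅ Limits.pullback (Limits.pullback.snd fV j) E.hom :=
      { hom := θ.hom.left
        inv := θ.inv.left
        hom_inv_id := congrArg (fun k => k.left) θ.hom_inv_id
        inv_hom_id := congrArg (fun k => k.left) θ.inv_hom_id }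
    have hθ : θl.hom ≫ eh = Limits.pullback.snd A.hom j₁ := Groth.Agent.FEtQuot.hom_w θ.hom
    let m : Limits.pullback (A.hom ≫ fV) j ≅ Limits.pullback A.hom j₁ :=
      { hom := Limits.pullback.lift (Limits.pullback.fst _ _)
          (Limits.pullback.lift (Limits.pullback.fst _ _ ≫ A.hom) (Limits.pullback.snd _ _)
            (by rw [Category.assoc]; exact Limits.pullback.condition) ≫ k.hom)
          (by rw [Category.assoc, hk, Limits.pullback.lift_fst])
        inv := Limits.pullback.lift (Limits.pullback.fst _ _)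
          (Limits.pullback.snd A.hom j₁ ≫ k.inv ≫ Limits.pullback.snd fV j) (by
            have : k.inv ≫ Limits.pullback.fst fV j = j₁ := by rw [Iso.inv_comp_eq, hk]
            rw [Category.assoc, Category.assoc, ← Limits.pullback.condition (f := fV), ← Category.assoc k.inv, this,
              ← Category.assoc, Limits.pullback.condition, Category.assoc])
        hom_inv_id := by apply Limits.pullback.hom_ext <;> simp
        inv_hom_id := by
          apply Limits.pullback.hom_ext
          · simp
          · have : k.inv ≫ Limits.pullback.fst fV j = j₁ := by rw [Iso.inv_comp_eq, hk]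
            rw [Category.assoc, Limits.pullback.lift_snd, ← Category.assoc, ← Iso.eq_comp_inv, Category.id_comp]
            apply Limits.pullback.hom_ext
            · simp [this, Limits.pullback.condition]
            · simp }
    let w : Limits.pullback (A.hom ≫ fV) j ⟶ E.left :=
      m.hom ≫ θl.hom ≫ Limits.pullback.snd (Limits.pullback.snd fV j) E.hom
    have Hw : IsPullback (Limits.pullback.fst (A.hom ≫ fV) j ≫ A.hom) w fV (E.hom ≫ j) := by
      have H := ((IsPullback.of_hasPullback (Limits.pullback.snd fV j) E.hom).flip.paste_vert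
        (IsPullback.of_hasPullback fV j).flip).flip
      refine H.of_iso (m ≪≫ θl).symm (Iso.refl _) (Iso.refl _) (Iso.refl _) ?_ ?_ (by simp) (by simp)
      · rw [Iso.refl_hom, Category.comp_id, Iso.symm_hom, Iso.eq_inv_comp, Iso.trans_hom, Category.assoc, ← hk,
          ← Category.assoc (Limits.pullback.fst _ _), ← Category.assoc θl.hom]
        show m.hom ≫ (θl.hom ≫ eh) ≫ j₁ = _
        rw [hθ, ← Limits.pullback.condition, ← Category.assoc]
        simp [m]
      · rw [Iso.refl_hom, Category.comp_id, Iso.symm_hom, Iso.eq_inv_comp, Iso.trans_hom, Category.assoc]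
    obtain ⟨B, v, hv1, hv2, i, hi⟩ :=
      Groth.Agent.FEtFF.PurityDescent.exists_extension j hj fV E.hom A.hom w Hw
    exact ⟨MorphismProperty.Over.mk ⊤ v ⟨hv1, hv2⟩, ⟨MorphismProperty.Over.isoMk i hi⟩⟩⟩
  have hff := Groth.Agent.FEtFF.restrict_full_faithful j
    (fun Y W hW => (Groth.Agent.FEtFF.bijective_app j Y.hom (IsPullback.of_hasPullback Y.hom j) hW (hj W hW)).1)
    (fun Y W hW z _ => (Groth.Agent.FEtFF.bijective_app j Y.hom (IsPullback.of_hasPullback Y.hom j) hW (hj W hW)).2 z)
  haveI := hff.1
  haveI := hff.2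
  exact {}

end Groth.Agent.S2937
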