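import Groth.Statements.S2942
-- import your own Groth.Agent.* helpers here
import Groth.Agent.Lef23.Structure

set_option autoImplicit false
universe u
open CategoryTheory AlgebraicGeometry
open Lef

namespace Groth.Agent.S2942

/-- Over a field and for the structure sheaf. Let k be a field and X a proper k-scheme; let 𝓘 be a
quasi-coherent ideal sheaf whose ideal module is invertible with an ample inverse L (so 𝓘 defines an
effective Cartier divisor Y with O_X(Y) = L ample), and suppose that at every closed point x the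
local ring O_{X,x} has depth greater than n. Then there is m₀ such that for all m ≥ m₀ the map
H^i(X, O_X) → H^i(X, O_X/𝓘^{m+1}) induced by the quotient map is bijective for every i < n and
injective for i = n. -/
theorem result (k : Type u) [Field k] (X : Scheme.{u}) [X.Over (Spec (CommRingCat.of k))] [IsProper (X ↘ (Spec (CommRingCat.of k)))] (𝓘 : X.IdealSheafData) (L : X.Modules) (hL : ClSub.IsInverseOf L (ClSub.idealMod 𝓘)) (hamp : CohB1.IsAmple L) (n : ℕ) (hdepth : ∀ x : X, IsClosed ({x} : Set X) → (n : ℕ∞) < LocCoh.depth (X.presheaf.stalk x) (X.presheaf.stalk x)) : ∃ m₀ : ℕ, ∀ m : ℕ, m₀ ≤ m → (∀ i : ℕ, i < n → Function.Bijective (Sheaf.H.map ((SheafOfModules.toSheaf X.ringCatSheaf).map (ClSub.toSubscheme (𝓘 ^ (m + 1)))) i)) ∧ Function.Injective (Sheaf.H.map ((SheafOfModules.toSheaf X.ringCatSheaf).map (ClSub.toSubscheme (𝓘 ^ (m + 1)))) n) := by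
  haveI : Subsingleton ↥(Spec (CommRingCat.of k)) := inferInstanceAs (Subsingleton (PrimeSpectrum k))
  haveI : Flat (X ↘ Spec (CommRingCat.of k)) := inferInstance
  open Groth.Agent.Lef23 in
  obtain ⟨m₀, h⟩ := exists_thick (A := k) 𝓘 hL hamp (Coh.structureModule X)
    (Groth.Agent.Coherent.CohBC.isCoh_of_isFinLocFree (Groth.Agent.Coherent.CohBC.isFinLocFree_structureModule X))
    (isFlatOver_structureModule _) (mono_structure 𝓘) (n + 1) fun x hx => by
    rw [depth_fibre_structure]
    show ((n + 1 : ℕ) : ℕ∞) ≤ LocCoh.depth (CInt.fiberStalk (X ↘ Spec (CommRingCat.of k)) x) _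
    rw [depth_fiberStalk_of_field]
    have := Order.add_one_le_of_lt (hdepth x (isClosed_singleton_of_fibre _ x hx))
    exact_mod_cast this
  refine ⟨m₀, fun m hm => ?_⟩
  have key : ∀ i, Sheaf.H.map ((SheafOfModules.toSheaf X.ringCatSheaf).map (ClSub.toSubscheme (𝓘 ^ (m + 1)))) i =
      (Groth.Agent.Lef23.hmEquiv (Groth.Agent.Lef23.rightUnit (ClSub.quotMod (𝓘 ^ (m + 1)))) i) ∘
        Groth.Agent.Lef23.toThick 𝓘 (Coh.structureModule X) m i ∘
        (Groth.Agent.Lef23.hmEquiv (Groth.Agent.Lef23.rightUnit (Coh.structureModule X)) i).symm := fun i => by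
    funext x
    simp only [Function.comp_apply]
    rw [← Groth.Agent.Lef23.hm_rightUnit, AddEquiv.apply_symm_apply]
  refine ⟨fun i hi => ?_, ?_⟩
  · rw [key i]
    exact (AddEquiv.bijective _).comp (((h m hm).1 i (by omega)).comp (AddEquiv.bijective _))
  · rw [key n]
    exact (AddEquiv.injective _).comp (((h m hm).2 n (by omega)).comp (AddEquiv.injective _))

end Groth.Agent.S2942
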