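import Groth.Statements.S2946
-- import your own Groth.Agent.* helpers here
import Groth.Agent.HenselLib.SectionsIdem
import Groth.Agent.Lef23.Connected

set_option autoImplicit false
universe u
open CategoryTheory CategoryTheory.Limits AlgebraicGeometry
open Lef

namespace Groth.Agent.S2946

/-- Let X be a locally Noetherian scheme and 𝓘 a quasi-coherent ideal sheaf with Y = V(𝓘), and suppose
Lef(X, Y) holds (this prelude's Lef.LefCond). Then for every open U of X containing Y, Y is
connected if and only if U is connected. -/
theorem result (X : Scheme.{u}) [IsLocallyNoetherian X] (𝓘 : X.IdealSheafData) (h : Lef.LefCond X 𝓘) (U : X.Opens) (hU : (𝓘.support : Set X) ⊆ (U : Set X)) : ConnectedSpace (𝓘.support : Set X) ↔ ConnectedSpace U := by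
  exact Groth.Agent.Lef23.connected_iff X 𝓘 h U hU

end Groth.Agent.S2946
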