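import Groth.Statements.S2949
-- import your own Groth.Agent.* helpers here
import Groth.Agent.Lef23.PicExtend

set_option autoImplicit false
universe u
open CategoryTheory CategoryTheory.Limits AlgebraicGeometry
open Lef

namespace Groth.Agent.S2949

/-- Case 'resp.' with the parafactoriality hypothesis. Let k be a field, X a proper k-scheme, 𝓘 a
quasi-coherent ideal sheaf whose ideal module 𝓘O_X is invertible with ample inverse L (so X₀ = V(𝓘)
is an effective Cartier divisor with O_X(X₀) = L ample and X is projective), and let ι : X₀ → X be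
the closed immersion. Assume: every closed point of X has depth O_{X,x} ≥ 2; H^i(X, (𝓘O_X)^{⊗m} ⊗
O_X/𝓘) = 0 for all m ≥ 1 and i = 1, 2 (these are the groups H^i(X₀, O_{X₀}(−m))); and for every
closed point x ∉ X₀ every invertible module on the punctured spectrum of O_{X,x} is trivial (O_{X,x}
parafactorial). Then pullback along ι induces a bijection on isomorphism classes of invertible
modules: invertible M, M' on X with ι^*M ≅ ι^*M' are isomorphic, and every invertible O_{X₀}-module
is isomorphic to ι^*M for some invertible M on X. -/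
theorem result (k : Type u) [Field k] (X : Scheme.{u}) [X.Over (Spec (CommRingCat.of k))] [IsProper (X ↘ (Spec (CommRingCat.of k)))] (𝓘 : X.IdealSheafData) (L : X.Modules) (hL : ClSub.IsInverseOf L (ClSub.idealMod 𝓘)) (hamp : CohB1.IsAmple L) (hdepth : ∀ x : X, IsClosed ({x} : Set X) → (2 : ℕ∞) ≤ LocCoh.depth (X.presheaf.stalk x) (X.presheaf.stalk x)) (hH : ∀ m : ℕ, 1 ≤ m → ∀ i : ℕ, (i = 1 ∨ i = 2) → Subsingleton (Coh.HH X ((DCoh.tensorBi.obj (CohB1.tensorPow (ClSub.idealMod 𝓘) m)).obj (ClSub.quotMod 𝓘)) i)) (hpf : ∀ x : X, IsClosed ({x} : Set X) → x ∉ (𝓘.support : Set X) → ∀ N : (↑(FEt.puncturedSpec (X.presheaf.stalk x)) : Scheme.{u}).Modules, PicF.IsInvertible N → Nonempty (N ≅ Coh.structureModule _)) : (∀ M M' : X.Modules, PicF.IsInvertible M → PicF.IsInvertible M' → Nonempty ((Scheme.Modules.pullback 𝓘.subschemeι).obj M ≅ (Scheme.Modules.pullback 𝓘.subschemeι).obj M') → Nonempty (M ≅ M')) ∧ ∀ N : (𝓘.subscheme).Modules, PicF.IsInvertible N → ∃ M : X.Modules, PicF.IsInvertible M ∧ Nonempty ((Scheme.Modules.pullback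 𝓘.subschemeι).obj M ≅ N) := by
  have hg : Groth.Agent.Lef23.Good k 𝓘 := ⟨hdepth, hH⟩
  exact ⟨fun M M' hM hM' ⟨e⟩ => Groth.Agent.Lef23.pic_injective k hL hamp hg hM hM' e,
    fun N hN => Groth.Agent.Lef23.pic_surjective k hL hamp hg (fun x hx hs => hpf x hx hs) hN⟩

end Groth.Agent.S2949
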