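import Groth.Statements.S2955
import Groth.Agent.RootDat.BaseR

set_option autoImplicit false
open RootPairing
open scoped Pointwise Classical
universe u
open RootD Groth.Agent.RootDat

namespace Groth.Agent.S2955

/-- Let P be a finite crystallographic reduced root pairing over a domain of characteristic zero, with a
base b, and write 2ρ for the sum of the positive roots with respect to b. Then for every simple root
β (an index in the support of b) the reflection in β sends 2ρ to 2ρ − 2β (equivalently, the coroot
of β pairs to 1 with ρ; only the reflection identity is asserted). -/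
theorem result {ι R M N : Type*} [CommRing R] [CharZero R] [IsDomain R] [AddCommGroup M] [Module R M]
    [AddCommGroup N] [Module R N] (P : RootPairing ι R M N) [Finite ι] [P.IsCrystallographic] [P.IsReduced]
    [Fintype ι] (b : P.Base) (j : ι) (hj : j ∈ b.support) :
    P.reflection j (∑ i, if b.IsPos i then P.root i else 0) =
      (∑ i, if b.IsPos i then P.root i else 0) - (2 : R) • P.root j := by
  classical
  set S := Finset.univ.filter b.IsPos with hS
  rw [← Finset.sum_filter]
  have hjS : j ∈ S := Finset.mem_filter.mpr
    ⟨Finset.mem_univ _, RootPairing.Base.isPos_of_mem_support hj⟩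
  have hperm : ∀ k ∈ S.erase j, P.reflectionPerm j k ∈ S.erase j := fun k hk => by
    simp only [hS, Finset.mem_erase, Finset.mem_filter, Finset.mem_univ, true_and] at hk ⊢
    refine ⟨fun e => ?_, RootPairing.Base.IsPos.reflectionPerm hk.2 hj hk.1⟩
    have e2 : k = Groth.Agent.RootDat.neg P j := by
      rw [← P.reflectionPerm_self j k, e]
    rw [e2, isPos_neg_iff] at hk
    exact hk.2 (RootPairing.Base.isPos_of_mem_support hj)
  rw [← Finset.add_sum_erase _ _ hjS, map_add, map_sum, P.reflection_apply_self]
  have hsum : ∑ k ∈ S.erase j, P.reflection j (P.root k) = ∑ k ∈ S.erase j, P.root k :=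
    Finset.sum_nbij' (P.reflectionPerm j) (P.reflectionPerm j) hperm hperm
      (fun k _ => P.reflectionPerm_self j k) (fun k _ => P.reflectionPerm_self j k)
      fun k _ => (P.root_reflectionPerm j k).symm
  rw [hsum, two_smul]
  abel

end Groth.Agent.S2955
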