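import Groth.Statements.S2956
-- import your own Groth.Agent.* helpers here

set_option autoImplicit false
open RootPairing
open scoped Pointwise
universe u
open RootD

namespace Groth.Agent.S2956


section Abstract

variable {B G H : Type*} [Group G] [Group H] (f : B → G) (g : B → H)

/-- The product of a word. -/
def wd (l : List B) : G := (l.map f).prod

theorem wd_append (a b : List B) : wd f (a ++ b) = wd f a * wd f b := by simp [wd]

theorem wd_cons (i : B) (a : List B) : wd f (i :: a) = f i * wd f a := by simp [wd]

theorem wd_nil : wd f ([] : List B) = 1 := by simp [wd]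

theorem wd_singleton (i : B) : wd f [i] = f i := by simp [wd]

theorem wd_reverse (hf : ∀ i, f i * f i = 1) (l : List B) : wd f l.reverse = (wd f l)⁻¹ := by
  induction l with
  | nil => simp [wd]
  | cons i t ih =>
    rw [List.reverse_cons, wd_append, wd_singleton, ih, wd_cons, mul_inv_rev,
      inv_eq_of_mul_eq_one_right (hf i)]

/-- The exchange condition on a word. -/
def HasPair (u : List B) : Prop :=
  ∃ (a : List B) (i : B) (b : List B) (j : B) (c : List B),
    u = a ++ i :: b ++ j :: c ∧ f i * wd f b = wd f b * f j

theorem wd_rotate {l : List B} (h : wd f l = 1) (k : ℕ) : wd f (l.rotate k) = 1 := by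
  rw [List.rotate_eq_drop_append_take_mod, wd_append]
  apply mul_eq_one_comm.1
  rwa [← wd_append, List.take_append_drop]

theorem wd_alternating : ∀ (n : ℕ) (l : List B), l.length = 2 * n →
    (∀ k, k + 2 < l.length → l[k]? = l[k + 2]?) → ∀ a b : B, (0 < n → l[0]? = some a ∧ l[1]? = some b) →
      wd g l = (g a * g b) ^ n ∧ wd f l = (f a * f b) ^ n := by
  intro n
  induction n with
  | zero =>
    intro l hl _ a b _
    obtain rfl := List.eq_nil_of_length_eq_zero (by simpa using hl)
    simp [wd]
  | succ n ih =>
    intro l hl hp a b hab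
    obtain ⟨h0, h1⟩ := hab (Nat.succ_pos n)
    rcases l with _ | ⟨x, _ | ⟨y, t⟩⟩
    · simp at hl
    · simp at hl; omega
    simp only [List.getElem?_cons_zero, List.getElem?_cons_succ, Option.some.injEq] at h0 h1
    subst h0 h1
    simp only [List.length_cons] at hl hp
    obtain ⟨e1, e2⟩ := ih t (by omega) (fun k hk => by simpa using hp (k + 2) (by omega)) x y fun hn => by
      have h2 := hp 0 (by omega)
      have h3 := hp 1 (by omega)
      simp only [List.getElem?_cons_zero, List.getElem?_cons_succ] at h2 h3
      exact ⟨h2.symm, h3.symm⟩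
    exact ⟨by rw [wd_cons, wd_cons, e1, pow_succ', mul_assoc], by rw [wd_cons, wd_cons, e2, pow_succ', mul_assoc]⟩

variable (hf : ∀ i, f i * f i = 1) (hg : ∀ i, g i * g i = 1) (hinj : Function.Injective f)
  (hrel : ∀ a b n, (f a * f b) ^ n = 1 → (g a * g b) ^ n = 1)
  (heven : ∀ l, wd f l = 1 → Even l.length)
  (hpair : ∀ u v, wd f u = wd f v → v.length < u.length → HasPair f u)

include hf hg hinj hrel heven hpair in
/-- The word problem is solved by the exchange condition. -/
theorem wd_eq_one : ∀ (n : ℕ) (ω : List B), ω.length ≤ n → wd f ω = 1 → wd g ω = 1 := by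
  intro n
  induction n with
  | zero =>
    intro ω hl _
    obtain rfl := List.eq_nil_of_length_eq_zero (Nat.le_zero.1 hl)
    exact wd_nil g
  | succ n ih =>
    intro ω hl hω
    rcases Nat.lt_or_ge ω.length (n + 1) with hlt | hge
    · exact ih ω (by omega) hω
    have hlen : ω.length = n + 1 := le_antisymm hl hge
    obtain ⟨q, hq⟩ := heven ω hω
    -- the dichotomy for every relation of this length
    have key : ∀ l : List B, l.length = 2 * q → wd f l = 1 → wd g l ≠ 1 →
        wd f (l.take q) = wd f ((l.drop 1).take q) ∧
          wd g (l.take q ++ ((l.drop 1).take q).reverse) ≠ 1 := by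
      intro l hll hl1 hbad
      have hu : wd f (l.take (q + 1)) = wd f (l.drop (q + 1)).reverse := by
        rw [wd_reverse f hf, eq_inv_iff_mul_eq_one, ← wd_append, List.take_append_drop]
        exact hl1
      obtain ⟨a, i, b, j, c, hu', hex⟩ := hpair _ _ hu (by
        simp only [List.length_reverse, List.length_drop, List.length_take]; omega)
      have hul := congrArg List.length hu'
      simp only [List.length_take, List.length_append, List.length_cons] at hul
      let R := i :: b ++ (b ++ [j]).reverse
      have hR : wd f R = 1 := by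
        show wd f (i :: b ++ (b ++ [j]).reverse) = 1
        rw [wd_append, wd_reverse f hf, wd_cons, wd_append, wd_singleton, hex, mul_inv_cancel]
      have hl' : l = a ++ i :: b ++ j :: c ++ l.drop (q + 1) := by
        rw [← hu', List.take_append_drop]
      have hcut : wd g R = 1 → False := fun hRg => by
        refine hbad ?_
        have e : g i * wd g b = wd g b * g j := by
          have h' : wd g (i :: b ++ (b ++ [j]).reverse) = 1 := hRg
          rw [wd_append, wd_reverse g hg, wd_cons, wd_append, wd_singleton, mul_inv_eq_one] at h'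
          exact h'
        have hsmall : wd f (a ++ b ++ c ++ l.drop (q + 1)) = 1 := by
          rw [← hl1]
          conv_rhs => rw [hl']
          simp only [wd_append, wd_cons, mul_assoc]
          congr 1
          simp only [← mul_assoc]
          rw [hex, mul_assoc (wd f b) (f j) (f j), hf, mul_one]
        have h2 := ih _ (by
          simp only [List.length_append, List.length_drop]; omega) hsmall
        rw [hl', ← h2]
        simp only [wd_append, wd_cons, mul_assoc]
        congr 1
        simp only [← mul_assoc]
        rw [e, mul_assoc (wd g b) (g j) (g j), hg, mul_one]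
      by_cases hshort : b.length + 1 < q
      · exact (hcut (ih R (by simp [R]; omega) hR)).elim
      obtain rfl := List.eq_nil_of_length_eq_zero (show a.length = 0 by omega)
      obtain rfl := List.eq_nil_of_length_eq_zero (show c.length = 0 by omega)
      have hb : b.length + 1 = q := by simp at hul; omega
      have e1 : l.take q = i :: b := by
        rw [hl', List.nil_append, List.append_assoc, List.take_left' (by simpa using hb)]
      have e2 : (l.drop 1).take q = b ++ [j] := by
        rw [hl', List.nil_append]
        simp only [List.cons_append, List.drop_succ_cons, List.drop_zero]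
        rw [List.take_left' (by simpa using hb)]
      rw [e1, e2]
      exact ⟨by rw [wd_cons, wd_append, wd_singleton, hex], hcut⟩
    by_contra hbad
    have hrot : ∀ l : List B, wd g l ≠ 1 → ∀ k, wd g (l.rotate k) ≠ 1 := fun l hl k h => by
      obtain ⟨m, hm⟩ : ∃ m, (l.rotate k).rotate m = l :=
        ⟨l.length * k - k, by
          rw [List.rotate_rotate]
          rcases Nat.eq_zero_or_pos l.length with h0 | h0
          · rw [List.eq_nil_of_length_eq_zero h0]; simp
          · rw [Nat.add_sub_cancel' (Nat.le_mul_of_pos_left k h0), List.rotate_length_mul]⟩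
      exact hl (hm ▸ wd_rotate g h m)
    -- a bad relation repeats with period two
    have hthree : ∀ l : List B, l.length = 2 * q → wd f l = 1 → wd g l ≠ 1 → 2 ≤ q → l[0]? = l[2]? := by
      intro l hll hl1 hbad h2q
      obtain ⟨q', rfl⟩ : ∃ q', q = q' + 2 := ⟨q - 2, by omega⟩
      rcases l with _ | ⟨x, _ | ⟨y, _ | ⟨z, t⟩⟩⟩
      · simp at hll
      · simp at hll
        try omega
      · simp at hll
        try omega
      simp only [List.length_cons] at hll
      obtain ⟨E1, -⟩ := key _ (by simp; omega) hl1 hbad
      have hrl : (x :: y :: z :: t).rotate 1 = y :: z :: (t ++ [x]) := by simp [List.rotate_cons_succ]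
      obtain ⟨E2, hD⟩ := key _ (by simp; omega) (wd_rotate f hl1 1) (hrot _ hbad 1)
      rw [hrl] at E2 hD
      simp only [List.take_succ_cons, List.drop_succ_cons, List.drop_zero, List.reverse_cons] at E2 hD
      set T := (t ++ [x]).take q' with hT
      set T' := (t ++ [x]).take (q' + 1) with hT'
      have hlT : T.length = q' := by simp [hT]; omega
      have hlT' : T'.length = q' + 1 := by simp [hT']; omega
      set D := y :: z :: T ++ (T'.reverse ++ [z]) with hDdef
      have hD1 : wd f D = 1 := by
        rw [hDdef, wd_append, ← List.reverse_cons, wd_reverse f hf, E2, mul_inv_cancel]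
      have hDr : D.rotate (D.length - 1) = z :: y :: z :: T ++ T'.reverse := by
        have hD2 : D = (y :: z :: T ++ T'.reverse) ++ [z] := by rw [hDdef, List.append_assoc]
        rw [hD2, List.length_append, List.length_singleton, Nat.add_sub_cancel,
          List.rotate_append_length_eq]
        simp
      obtain ⟨E3, -⟩ := key (D.rotate (D.length - 1)) (by
        rw [List.length_rotate, hDdef]; simp [hlT, hlT']; omega) (wd_rotate f hD1 _) (hrot _ hD _)
      rw [hDr] at E3
      simp only [List.cons_append, List.take_succ_cons, List.drop_succ_cons, List.drop_zero] at E3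
      rw [List.take_left' hlT] at E3
      have e0 : t.take q' = T := by rw [hT, List.take_append_of_le_length (by omega)]
      simp only [List.take_succ_cons, List.drop_succ_cons, List.drop_zero] at E1
      have e1 : (z :: T).take q' ++ [] = (z :: t).take q' ++ [] := by
        rw [← e0]
        cases q' with
        | zero => simp
        | succ m => simp [List.take_take]
      simp only [List.append_nil] at e1
      have e4 : (z :: (T ++ T'.reverse)).take q' = (z :: T).take q' := by
        rw [← List.cons_append, List.take_append_of_le_length (by simp [hlT])]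
      have e2 : (z :: t).take (q' + 1) = z :: T := by rw [List.take_succ_cons, e0]
      rw [e0] at E1
      have e3 : (y :: z :: T).take (q' + 1) = y :: (z :: t).take q' := by rw [List.take_succ_cons, e1]
      have hxz : f z = f x := by
        have h1 : f x * wd f (y :: (z :: t).take q') = wd f (y :: z :: T) := by
          exact (wd_cons f _ _).symm.trans E1
        have h2 : f z * wd f (y :: (z :: t).take q') = wd f (y :: z :: T) := by
          rw [← e1, ← e4]
          exact (wd_cons f _ _).symm.trans E3
        exact mul_right_cancel (h2.trans h1.symm)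
      simp [hinj hxz]
    rcases Nat.lt_or_ge q 2 with hq2 | hq2
    · obtain ⟨a, b, rfl⟩ := List.length_eq_two.1 (show ω.length = 2 by omega)
      have hab : a = b := hinj (by
        rw [wd_cons, wd_singleton] at hω
        rw [eq_inv_of_mul_eq_one_left hω, inv_eq_of_mul_eq_one_right (hf b)])
      exact hbad (by rw [hab, wd_cons, wd_singleton, hg])
    have hper : ∀ k, k + 2 < ω.length → ω[k]? = ω[k + 2]? := fun k hk => by
      have h := hthree (ω.rotate k) (by rw [List.length_rotate]; omega) (wd_rotate f hω k) (hrot _ hbad k) hq2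
      rw [List.getElem?_rotate (by omega), List.getElem?_rotate (by omega), zero_add,
        Nat.mod_eq_of_lt (by omega), Nat.mod_eq_of_lt (by omega), add_comm 2 k] at h
      exact h
    obtain ⟨a, b, t, rfl⟩ : ∃ a b t, ω = a :: b :: t := by
      rcases ω with _ | ⟨a, _ | ⟨b, t⟩⟩
      · simp at hlen
      · simp at hq; omega
      · exact ⟨a, b, t, rfl⟩
    obtain ⟨e1, e2⟩ := wd_alternating f g q _ (by omega) hper a b fun _ => by simp
    exact hbad (e1.trans (hrel a b q (e2.symm.trans hω)))

end Abstract

section Roots

open Function Set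

variable {ι R M N : Type*} [CommRing R] [CharZero R] [IsDomain R] [AddCommGroup M] [Module R M]
  [AddCommGroup N] [Module R N] (P : RootPairing ι R M N) [Finite ι] [P.IsCrystallographic] [P.IsReduced]
  (b : P.Base)

open RootPairing

/-- The simple reflection. -/
def sr (j : ↥b.support) : P.Aut := Equiv.reflection P (j : ι)

omit [CharZero R] [IsDomain R] [Finite ι] [P.IsCrystallographic] [P.IsReduced] in
theorem refl_mul_self (i : ι) : Equiv.reflection P i * Equiv.reflection P i = 1 := by
  rw [mul_eq_one_iff_inv_eq, Equiv.reflection_inv]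

omit [CharZero R] [IsDomain R] [Finite ι] [P.IsCrystallographic] [P.IsReduced] in
theorem refl_perm (i j : ι) : Equiv.reflection P (P.reflectionPerm j i) =
    Equiv.reflection P j * Equiv.reflection P i * Equiv.reflection P j := by
  apply Equiv.weightHom_injective P
  simp only [map_mul]
  refine LinearEquiv.ext fun x => ?_
  exact LinearMap.congr_fun (congrArg LinearEquiv.toLinearMap (P.reflection_reflectionPerm (i := i) (j := j))) x

omit [CharZero R] [IsDomain R] [Finite ι] [P.IsCrystallographic] [P.IsReduced] in
theorem refl_wd (i : ι) : ∀ l : List ↥b.support, Equiv.reflection P (wd (sr P b) l • i) =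
    wd (sr P b) l * Equiv.reflection P i * (wd (sr P b) l)⁻¹
  | [] => by simp [wd_nil]
  | k :: l => by
    rw [wd_cons, mul_smul]
    refine (refl_perm P _ _).trans ?_
    rw [refl_wd i l, mul_inv_rev, show (sr P b k)⁻¹ = sr P b k from Equiv.reflection_inv P _]
    simp only [sr, mul_assoc]

/-- The inversion set. -/
def invSet (g : P.Aut) : Set ι := {i | b.IsPos i ∧ ¬ b.IsPos (g • i)}

omit [CharZero R] [IsDomain R] [Finite ι] [P.IsCrystallographic] [P.IsReduced] in
theorem smul_perm_self (l : List ↥b.support) (i : ι) : wd (sr P b) l • P.reflectionPerm i i =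
    P.reflectionPerm (wd (sr P b) l • i) (wd (sr P b) l • i) := by
  show _ = Equiv.reflection P (wd (sr P b) l • i) • (wd (sr P b) l • i)
  rw [refl_wd, mul_smul, mul_smul, inv_smul_smul]
  rfl

theorem isPos_perm_self_iff (i : ι) : b.IsPos (P.reflectionPerm i i) ↔ ¬ b.IsPos i :=
  Base.IsPos.neg_iff_not b i

theorem ncard_step (l : List ↥b.support) (j : ↥b.support) :
    (b.IsPos (wd (sr P b) l • (j : ι)) ∧
      (invSet P b (wd (sr P b) (l ++ [j]))).ncard = (invSet P b (wd (sr P b) l)).ncard + 1) ∨
    (¬ b.IsPos (wd (sr P b) l • (j : ι)) ∧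
      (invSet P b (wd (sr P b) (l ++ [j]))).ncard + 1 = (invSet P b (wd (sr P b) l)).ncard) := by
  classical
  set g := wd (sr P b) l
  have hw : ∀ i : ι, wd (sr P b) (l ++ [j]) • i = g • P.reflectionPerm (j : ι) i := fun i => by
    rw [wd_append, wd_singleton, mul_smul]
    rfl
  have hperm : ∀ i : ι, b.IsPos i → i ≠ j → P.reflectionPerm (j : ι) i ≠ j ∧ b.IsPos (P.reflectionPerm (j : ι) i) :=
    fun i hi hij => by
      refine ⟨fun h => ?_, hi.reflectionPerm j.2 hij⟩
      have h' := congrArg (P.reflectionPerm (j : ι)) h
      rw [P.reflectionPerm_self] at h'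
      exact (isPos_perm_self_iff P b _).1 (h' ▸ hi) (Base.isPos_of_mem_support j.2)
  have heq : invSet P b (wd (sr P b) (l ++ [j])) \ {(j : ι)} =
      P.reflectionPerm (j : ι) '' (invSet P b g \ {(j : ι)}) := by
    ext i
    constructor
    · rintro ⟨⟨hi, hn⟩, hij⟩
      obtain ⟨h1, h2⟩ := hperm i hi hij
      exact ⟨_, ⟨⟨h2, hw i ▸ hn⟩, h1⟩, P.reflectionPerm_self (j : ι) i⟩
    · rintro ⟨k, ⟨⟨hk, hn⟩, hkj⟩, rfl⟩
      obtain ⟨h1, h2⟩ := hperm k hk hkj
      exact ⟨⟨h2, by rwa [hw, P.reflectionPerm_self]⟩, h1⟩
  have hc : (invSet P b (wd (sr P b) (l ++ [j])) \ {(j : ι)}).ncard = (invSet P b g \ {(j : ι)}).ncard := by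
    rw [heq, ncard_image_of_injective _ (P.reflectionPerm (j : ι)).injective]
  have hjpos : b.IsPos (j : ι) := Base.isPos_of_mem_support j.2
  have hmem : (j : ι) ∈ invSet P b (wd (sr P b) (l ++ [j])) ↔ b.IsPos (g • (j : ι)) := by
    show b.IsPos (j : ι) ∧ ¬ b.IsPos _ ↔ _
    rw [hw, smul_perm_self, isPos_perm_self_iff, not_not]
    exact and_iff_right hjpos
  by_cases h : b.IsPos (g • (j : ι))
  · refine Or.inl ⟨h, ?_⟩
    rw [← ncard_diff_singleton_add_one (hmem.2 h), hc, diff_singleton_eq_self]
    exact fun h' => h'.2 h
  · refine Or.inr ⟨h, ?_⟩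
    rw [← ncard_diff_singleton_add_one (show (j : ι) ∈ invSet P b g from ⟨hjpos, h⟩), ← hc,
      diff_singleton_eq_self]
    exact fun h' => h (hmem.1 h')

theorem invSet_nil : invSet P b (wd (sr P b) []) = ∅ := by
  ext i
  simp [invSet, wd_nil]

theorem ncard_le_and_parity (l : List ↥b.support) :
    (invSet P b (wd (sr P b) l)).ncard ≤ l.length ∧
      (Even (invSet P b (wd (sr P b) l)).ncard ↔ Even l.length) := by
  induction l using List.reverseRecOn with
  | nil => simp [invSet_nil]
  | append_singleton l j ih =>
    simp only [List.length_append, List.length_singleton, Nat.even_iff] at ih ⊢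
    rcases ncard_step P b l j with ⟨-, h⟩ | ⟨-, h⟩ <;> omega

theorem exists_flip (j : ι) (hj : b.IsPos j) : ∀ l : List ↥b.support, ¬ b.IsPos (wd (sr P b) l • j) →
    ∃ (a : List ↥b.support) (i : ↥b.support) (c : List ↥b.support), l = a ++ i :: c ∧ wd (sr P b) c • j = (i : ι)
  | [], h => absurd hj (by simpa [wd_nil] using h)
  | i :: c, h => by
    by_cases hc : b.IsPos (wd (sr P b) c • j)
    · by_cases he : wd (sr P b) c • j = (i : ι)
      · exact ⟨[], i, c, rfl, he⟩
      · refine absurd ?_ h
        rw [wd_cons, mul_smul]
        exact hc.reflectionPerm i.2 he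
    · obtain ⟨a, i', c', rfl, he⟩ := exists_flip j hj c hc
      exact ⟨i :: a, i', c', rfl, he⟩

theorem ncard_eq_or_hasPair (l : List ↥b.support) :
    (invSet P b (wd (sr P b) l)).ncard = l.length ∨ HasPair (sr P b) l := by
  induction l using List.reverseRecOn with
  | nil => simp [invSet_nil]
  | append_singleton l j ih =>
    rcases ih with ih | ⟨a, i, m, j', c, rfl, he⟩
    · rcases ncard_step P b l j with ⟨-, h⟩ | ⟨hn, -⟩
      · exact Or.inl (by rw [h, ih]; simp)
      · obtain ⟨a, i, c, rfl, he⟩ := exists_flip P b _ (Base.isPos_of_mem_support j.2) l hn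
        refine Or.inr ⟨a, i, c, j, [], rfl, ?_⟩
        have h' := refl_wd P b (j : ι) c
        rw [he] at h'
        show Equiv.reflection P (i : ι) * _ = _
        rw [h', inv_mul_cancel_right]
        rfl
    · exact Or.inr ⟨a, i, m, j', c ++ [j], by simp, he⟩

theorem sr_injective : Function.Injective (sr P b) := fun j k h => by
  by_contra hne
  have h1 : P.reflectionPerm (k : ι) (j : ι) = P.reflectionPerm (j : ι) (j : ι) :=
    congrArg (fun g : P.Aut => g • (j : ι)) h.symm
  have h2 := (Base.isPos_of_mem_support j.2).reflectionPerm k.2 fun e => hne (Subtype.ext e)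
  rw [h1, isPos_perm_self_iff] at h2
  exact h2 (Base.isPos_of_mem_support j.2)

theorem weylGroup_le {K : Subgroup P.Aut} (hK : ∀ j, sr P b j ∈ K) : P.weylGroup ≤ K := by
  refine (Subgroup.closure_le _).2 ?_
  rintro _ ⟨i, rfl⟩
  refine Base.induction_reflect (b := b) (p := fun i => Equiv.reflection P i ∈ K) i (fun i hi => ?_)
    (fun i hi => hK ⟨i, hi⟩) fun i j hi hj => ?_
  · rw [refl_perm]
    exact mul_mem (mul_mem hi hi) hi
  · rw [refl_perm]
    exact mul_mem (mul_mem (hK ⟨j, hj⟩) hi) (hK ⟨j, hj⟩)

end Roots

open RootPairing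

/-- For a finite crystallographic reduced root pairing with a base b: the Weyl group is presented by the
simple reflections s_i (i in the base) subject to the relations (s_i s_j)^{n_{ij}} = 1, where n_{ij}
is the order of s_i s_j; i.e. it carries a Coxeter system whose simple reflections are the s_i and
whose Coxeter matrix is (n_{ij}). -/
theorem result {ι R M N : Type*} [CommRing R] [CharZero R] [IsDomain R] [AddCommGroup M] [Module R M]
    [AddCommGroup N] [Module R N] (P : RootPairing ι R M N) [Finite ι] [P.IsCrystallographic] [P.IsReduced]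
    (b : P.Base) :
    ∃ (C : CoxeterMatrix ↥b.support) (cs : CoxeterSystem C P.weylGroup),
      (∀ j : ↥b.support, ((cs.simple j : P.weylGroup) : P.Aut) = Equiv.reflection P (j : ι)) ∧
      ∀ j k : ↥b.support, C.M j k = orderOf (Equiv.reflection P (j : ι) * Equiv.reflection P (k : ι)) := by
  classical
  let s : ↥b.support → P.weylGroup := fun j => ⟨sr P b j, P.reflection_mem_weylGroup _⟩
  let C : CoxeterMatrix ↥b.support :=
    { M := Matrix.of fun j k => orderOf (sr P b j * sr P b k)
      isSymm := by
        ext j k
        show orderOf (sr P b k * sr P b j) = orderOf (sr P b j * sr P b k)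
        rw [← orderOf_inv, mul_inv_rev, show (sr P b j)⁻¹ = sr P b j from Equiv.reflection_inv P _,
          show (sr P b k)⁻¹ = sr P b k from Equiv.reflection_inv P _]
      diagonal := fun j => orderOf_eq_one_iff.2 (refl_mul_self P _)
      off_diagonal := fun j k hjk h => hjk (sr_injective P b (by
        have h' := orderOf_eq_one_iff.1 h
        rw [eq_inv_of_mul_eq_one_left h']
        exact Equiv.reflection_inv P _)) }
  let φ : C.Group →* P.weylGroup := C.toCoxeterSystem.lift
    ⟨s, fun j k => Subtype.ext (pow_orderOf_eq_one (sr P b j * sr P b k))⟩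
  have hφ : ∀ j, ((φ (C.simple j) : P.weylGroup) : P.Aut) = sr P b j := fun j =>
    congrArg Subtype.val (CoxeterSystem.lift_apply_simple C.toCoxeterSystem _ j)
  have hwd : ∀ l, ((φ (wd C.simple l) : P.weylGroup) : P.Aut) = wd (sr P b) l := by
    intro l
    induction l with
    | nil => simp [wd_nil]
    | cons i t ih => rw [wd_cons, wd_cons, map_mul, Subgroup.coe_mul, hφ, ih]
  have hsurj : Function.Surjective φ := fun w => by
    have h1 : P.weylGroup ≤ φ.range.map P.weylGroup.subtype :=
      weylGroup_le P b fun j => ⟨φ (C.simple j), ⟨_, rfl⟩, hφ j⟩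
    obtain ⟨_, ⟨x, rfl⟩, hx⟩ := h1 w.2
    exact ⟨x, Subtype.ext hx⟩
  have hinj : Function.Injective φ := by
    refine (injective_iff_map_eq_one φ).2 fun x hx => ?_
    obtain ⟨l, hl⟩ := C.toCoxeterSystem.wordProd_surjective x
    have hl' : wd C.simple l = x := by rw [← hl]; simp [wd, CoxeterSystem.wordProd]
    rw [← hl'] at hx ⊢
    refine wd_eq_one (sr P b) C.simple (fun i => refl_mul_self P _)
      (fun i => C.toCoxeterSystem.simple_mul_simple_self i) (sr_injective P b) (fun a c n h => ?_)
      (fun l h => ?_) (fun u v h hlen => ?_) l.length l le_rfl (by rw [← hwd, hx]; rfl)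
    · obtain ⟨m, rfl⟩ := orderOf_dvd_of_pow_eq_one h
      rw [pow_mul]
      exact (congrArg (· ^ m) (C.toCoxeterSystem.simple_mul_simple_pow a c)).trans (one_pow m)
    · have h2 := (ncard_le_and_parity P b l).2
      rw [h, ← wd_nil (sr P b), invSet_nil] at h2
      exact h2.1 (by simp)
    · refine (ncard_eq_or_hasPair P b u).resolve_left fun he => ?_
      have h2 := (ncard_le_and_parity P b v).1
      rw [← h] at h2
      omega
  refine ⟨C, ⟨(MulEquiv.ofBijective φ ⟨hinj, hsurj⟩).symm⟩, fun j => hφ j, fun j k => rfl⟩

end Groth.Agent.S2956
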