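import Groth.Statements.S2957
import Groth.Agent.RootDat.BaseR

set_option autoImplicit false
open RootPairing
open scoped Pointwise
universe u
open RootD Groth.Agent.RootDat

namespace Groth.Agent.S2957

/-- For a finite crystallographic reduced root pairing with a base b: let α, β be simple roots and w an
element of the Weyl group with w(α) = β. Then there are simple roots α = α_0, ..., α_m = β and Weyl
group elements w_0, ..., w_{m-1} with w = w_{m-1} ... w_0, w_i(α_i) = α_{i+1}, and each w_i lying in
the subgroup generated by the reflections in α_i and in a simple root γ_i, where γ_i = α_{i+1}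
whenever α_i ≠ α_{i+1}. -/
theorem result {ι R M N : Type*} [CommRing R] [CharZero R] [IsDomain R] [AddCommGroup M] [Module R M]
    [AddCommGroup N] [Module R N] (P : RootPairing ι R M N) [Finite ι] [P.IsCrystallographic] [P.IsReduced]
    (b : P.Base) (α β : ι) (hα : α ∈ b.support) (hβ : β ∈ b.support) (w : P.Aut) (hw : w ∈ P.weylGroup)
    (hwα : w • α = β) :
    ∃ (m : ℕ) (a : Fin (m + 1) → ι) (ws : Fin m → P.Aut),
      (∀ i, a i ∈ b.support) ∧ a 0 = α ∧ a (Fin.last m) = β ∧
      (∀ i, ws i ∈ P.weylGroup) ∧
      w = (List.ofFn fun i : Fin m => ws (Fin.rev i)).prod ∧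
      (∀ i : Fin m, ws i • a (Fin.castSucc i) = a (Fin.succ i)) ∧
      ∀ i : Fin m, ∃ γ ∈ b.support,
        ws i ∈ Subgroup.closure {Equiv.reflection P (a (Fin.castSucc i)), Equiv.reflection P γ} ∧
        (a (Fin.castSucc i) ≠ a (Fin.succ i) → γ = a (Fin.succ i)) := by
  classical
  have key : ∀ (n : ℕ) (l : List ι), l.length ≤ n → (∀ a ∈ l, a ∈ (↑b.support : Set ι)) →
      ∀ α ∈ b.support, ∀ β ∈ b.support, wprod P l • α = β →
      ∃ (m : ℕ) (a : Fin (m + 1) → ι) (ws : Fin m → P.Aut),
        (∀ i, a i ∈ b.support) ∧ a 0 = α ∧ a (Fin.last m) = β ∧ (∀ i, ws i ∈ P.weylGroup) ∧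
        wprod P l = (List.ofFn fun i : Fin m => ws (Fin.rev i)).prod ∧
        (∀ i : Fin m, ws i • a (Fin.castSucc i) = a (Fin.succ i)) ∧
        ∀ i : Fin m, ∃ γ ∈ b.support,
          ws i ∈ Subgroup.closure {RootPairing.Equiv.reflection P (a (Fin.castSucc i)),
            RootPairing.Equiv.reflection P γ} ∧
          (a (Fin.castSucc i) ≠ a (Fin.succ i) → γ = a (Fin.succ i)) := by
    intro n
    induction n with
    | zero =>
      intro l hl _ α hα β hβ h
      obtain rfl : l = [] := List.length_eq_zero_iff.mp (Nat.le_zero.mp hl)
      simp only [wprod_nil, one_smul] at h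
      subst h
      exact ⟨0, fun _ => α, Fin.elim0, fun _ => hα, rfl, rfl, fun i => i.elim0, by simp, fun i => i.elim0,
        fun i => i.elim0⟩
    | succ n ih =>
      intro l hl hlD α hα β hβ h
      by_cases h1 : wprod P l = 1
      · rw [h1, one_smul] at h
        subst h
        exact ⟨0, fun _ => α, Fin.elim0, fun _ => hα, rfl, rfl, fun i => i.elim0, by simp [h1],
          fun i => i.elim0, fun i => i.elim0⟩
      have hW := baseWalls b
      obtain ⟨γ, hγ, hγneg⟩ := hW.exists_shorter (wprod_mem P hlD) h1
      have hne : α ≠ γ := by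
        rintro rfl
        rw [h] at hγneg
        exact hγneg (RootPairing.Base.isPos_of_mem_support hβ)
      -- peel off the part of the word in the rank two subgroup
      have peel : ∀ (k : ℕ) (v : List ι), v.length ≤ k → (∀ a ∈ v, a ∈ (↑b.support : Set ι)) →
          ∃ v' : List ι, v'.length ≤ v.length ∧ (∀ a ∈ v', a ∈ (↑b.support : Set ι)) ∧
            ∃ u ∈ Subgroup.closure ({RootPairing.Equiv.reflection P α,
              RootPairing.Equiv.reflection P γ} : Set P.Aut),
              wprod P v = wprod P v' * u ∧ b.IsPos (wprod P v' • α) ∧ b.IsPos (wprod P v' • γ) := by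
        intro k
        induction k with
        | zero =>
          intro v hv _
          obtain rfl : v = [] := List.length_eq_zero_iff.mp (Nat.le_zero.mp hv)
          exact ⟨[], le_rfl, by simp, 1, one_mem _, by simp,
            by simpa using RootPairing.Base.isPos_of_mem_support hα,
            by simpa using RootPairing.Base.isPos_of_mem_support hγ⟩
        | succ k ihk =>
          intro v hv hvD
          have recx : ∀ x ∈ ({α, γ} : Set ι), ¬ b.IsPos (wprod P v • x) →
              ∃ v' : List ι, v'.length ≤ v.length ∧ (∀ a ∈ v', a ∈ (↑b.support : Set ι)) ∧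
                ∃ u ∈ Subgroup.closure ({RootPairing.Equiv.reflection P α,
                  RootPairing.Equiv.reflection P γ} : Set P.Aut),
                  wprod P v = wprod P v' * u ∧ b.IsPos (wprod P v' • α) ∧
                    b.IsPos (wprod P v' • γ) := by
            intro x hx hneg
            have hxD : x ∈ (↑b.support : Set ι) := by
              rcases hx with rfl | rfl
              · exact hα
              · exact hγ
            obtain ⟨v₁, h₁, h₂, h₃⟩ := hW.exchange v hvD x hxD hneg
            obtain ⟨v', hv', hv'D, u, hu, he, hp⟩ := ihk v₁ (by omega) h₁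
            refine ⟨v', by omega, hv'D, u * RootPairing.Equiv.reflection P x, mul_mem hu ?_, ?_, hp⟩
            · rcases hx with rfl | rfl
              · exact Subgroup.subset_closure (Set.mem_insert _ _)
              · exact Subgroup.subset_closure (Set.mem_insert_of_mem _ rfl)
            · rw [h₃, he, mul_assoc]
          by_cases hA : b.IsPos (wprod P v • α)
          · by_cases hG : b.IsPos (wprod P v • γ)
            · exact ⟨v, le_rfl, hvD, 1, one_mem _, by simp, hA, hG⟩
            · exact recx γ (Set.mem_insert_of_mem _ rfl) hG
          · exact recx α (Set.mem_insert _ _) hA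
      obtain ⟨l₁, hl₁, hlen, hle⟩ := hW.exchange l hlD γ hγ hγneg
      obtain ⟨v, hv, hvD, u₀, hu₀, he, hpa, hpg⟩ := peel l₁.length l₁ le_rfl hl₁
      set u := u₀ * RootPairing.Equiv.reflection P γ with hu_def
      have hu : u ∈ Subgroup.closure ({RootPairing.Equiv.reflection P α,
          RootPairing.Equiv.reflection P γ} : Set P.Aut) :=
        mul_mem hu₀ (Subgroup.subset_closure (Set.mem_insert_of_mem _ rfl))
      have hwu : wprod P l = wprod P v * u := by rw [hle, he, hu_def, mul_assoc]
      have hspan : P.root (u • α) ∈ Submodule.span ℤ ({P.root α, P.root γ} : Set M) := by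
        rw [smul_root]
        have hstab : ∀ x ∈ ({α, γ} : Set ι), ∀ z ∈ Submodule.span ℤ ({P.root α, P.root γ} : Set M),
            RootPairing.Equiv.reflection P x • z ∈ Submodule.span ℤ ({P.root α, P.root γ} : Set M) := by
          intro x hx z hz
          obtain ⟨s, t, rfl⟩ := Submodule.mem_span_pair.mp hz
          have hsp : P.root x ∈ Submodule.span ℤ ({P.root α, P.root γ} : Set M) := by
            rcases hx with rfl | rfl <;> exact Submodule.subset_span (by simp)
          have hr : ∀ y : ι, RootPairing.Equiv.reflection P x • P.root y =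
              P.root y - P.pairingIn ℤ y x • P.root x := fun y => by
            rw [RootPairing.Equiv.reflection_smul, P.reflection_apply_root' ℤ]
          rw [smul_add, smul_comm _ s, smul_comm _ t, hr, hr]
          refine add_mem (Submodule.smul_mem _ _ (sub_mem ?_ (Submodule.smul_mem _ _ hsp)))
            (Submodule.smul_mem _ _ (sub_mem ?_ (Submodule.smul_mem _ _ hsp))) <;>
            exact Submodule.subset_span (by simp)
        have hgen : ∀ z ∈ Submodule.span ℤ ({P.root α, P.root γ} : Set M),
            u • z ∈ Submodule.span ℤ ({P.root α, P.root γ} : Set M) ∧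
            u⁻¹ • z ∈ Submodule.span ℤ ({P.root α, P.root γ} : Set M) := by
          clear hwu hu_def
          clear_value u
          induction hu using Subgroup.closure_induction with
          | mem x hx =>
            intro z hz
            rcases hx with rfl | rfl
            · exact ⟨hstab α (Set.mem_insert _ _) z hz, by
                rw [RootPairing.Equiv.reflection_inv]; exact hstab α (Set.mem_insert _ _) z hz⟩
            · exact ⟨hstab γ (Set.mem_insert_of_mem _ rfl) z hz, by
                rw [RootPairing.Equiv.reflection_inv]; exact hstab γ (Set.mem_insert_of_mem _ rfl) z hz⟩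
          | one => intro z hz; simpa using hz
          | mul x y _ _ hx hy =>
            intro z hz
            exact ⟨by rw [mul_smul]; exact (hx _ (hy z hz).1).1,
              by rw [mul_inv_rev, mul_smul]; exact (hy _ (hx z hz).2).2⟩
          | inv x _ hx => intro z hz; rw [inv_inv]; exact ⟨(hx z hz).2, (hx z hz).1⟩
        exact (hgen _ (Submodule.subset_span (by simp))).1
      obtain ⟨a, c, hac⟩ := Submodule.mem_span_pair.mp hspan
      have hβ' : P.root β = a • P.root (wprod P v • α) + c • P.root (wprod P v • γ) := by
        rw [← h, hwu, mul_smul, smul_root, ← hac, smul_add, smul_comm _ a, smul_comm _ c,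
          ← smul_root, ← smul_root]
      have hh := height_lin b hβ'
      rw [RootPairing.Base.height_one_of_mem_support hβ] at hh
      have hpa' : 0 < b.height (wprod P v • α) := hpa
      have hpg' : 0 < b.height (wprod P v • γ) := hpg
      let f : ι → ℤ := Pi.single α a + Pi.single γ c
      have hf : ∑ j ∈ b.support, f j • P.root j = P.root (u • α) := by
        simp only [f, Pi.add_apply, add_smul, Finset.sum_add_distrib]
        rw [Finset.sum_eq_single_of_mem α hα (fun x _ hx => by simp [Pi.single_eq_of_ne hx]),
          Finset.sum_eq_single_of_mem γ hγ (fun x _ hx => by simp [Pi.single_eq_of_ne hx]),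
          Pi.single_eq_same, Pi.single_eq_same, hac]
      have hsupp : f.support ⊆ ↑b.support := fun x hx => by
        by_contra hxD
        have h₁ : x ≠ α := fun e => hxD (e ▸ hα)
        have h₂ : x ≠ γ := fun e => hxD (e ▸ hγ)
        simp [f, Pi.single_eq_of_ne h₁, Pi.single_eq_of_ne h₂] at hx
      have hfα : f α = a := by simp [f, Pi.single_eq_of_ne hne]
      have hfγ : f γ = c := by simp [f, Pi.single_eq_of_ne (Ne.symm hne)]
      have hsign : (0 ≤ a ∧ 0 ≤ c) ∨ (a ≤ 0 ∧ c ≤ 0) := by
        rcases b.pos_or_neg_of_sum_smul_root_mem f ⟨u • α, hf.symm⟩ hsupp with hp | hp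
        · exact Or.inl ⟨hfα ▸ hp.le α, hfγ ▸ hp.le γ⟩
        · exact Or.inr ⟨hfα ▸ hp.le α, hfγ ▸ hp.le γ⟩
      have hnn : 0 ≤ a ∧ 0 ≤ c := hsign.resolve_right fun ⟨ha, hc⟩ => by nlinarith
      have hα' : u • α = α ∨ u • α = γ := by
        rcases eq_or_lt_of_le hnn.1 with ha | ha
        · right
          apply P.root.injective
          rw [← ha, zero_mul, zero_add] at hh
          have hc1 : c = 1 := by
            have : 0 < c := pos_of_mul_pos_left (by omega) hpg'.le
            nlinarith
          rw [← hac, ← ha, hc1, zero_smul, zero_add, one_smul]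
        · left
          have hc0 : c = 0 := by nlinarith
          rw [hc0, zero_mul, add_zero] at hh
          have ha1 : a = 1 := by nlinarith
          apply P.root.injective
          rw [← hac, ha1, hc0, zero_smul, add_zero, one_smul]
      have hα'D : u • α ∈ b.support := by
        rcases hα' with e | e <;> rw [e] <;> assumption
      obtain ⟨m, A, ws, hA, hA0, hAl, hws, hprod, hstep, hrel⟩ :=
        ih v (by omega) hvD (u • α) hα'D β hβ (by rw [← mul_smul, ← hwu, h])
      refine ⟨m + 1, Fin.cons α A, Fin.cons u ws, ?_, ?_, ?_, ?_, ?_, ?_, ?_⟩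
      · exact Fin.cases (by simpa using hα) (fun i => by simpa using hA i)
      · simp
      · rw [← Fin.succ_last, Fin.cons_succ, hAl]
      · refine Fin.cases ?_ (fun i => by simpa using hws i)
        simp only [Fin.cons_zero]
        refine (Subgroup.closure_le _).mpr ?_ hu
        rintro x (rfl | rfl) <;> exact P.reflection_mem_weylGroup _
      · rw [List.ofFn_succ', List.concat_eq_append, List.prod_append, hwu, hprod]
        simp [Fin.rev_castSucc, Fin.rev_last]
      · refine Fin.cases ?_ (fun i => ?_)
        · simpa using hA0.symm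
        · simp only [Fin.cons_succ, ← Fin.succ_castSucc]
          exact hstep i
      · refine Fin.cases ⟨γ, hγ, by simpa using hu, ?_⟩ (fun i => ?_)
        · simp only [Fin.castSucc_zero, Fin.cons_zero, Fin.cons_succ, hA0]
          exact fun hn => ((hα'.resolve_left fun e => hn e.symm)).symm
        · simp only [Fin.cons_succ, ← Fin.succ_castSucc]
          exact hrel i
  obtain ⟨l, hl, rfl, -⟩ := base_min_word b hw
  exact key l.length l le_rfl hl α hα β hβ hwα

end Groth.Agent.S2957
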