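import Groth.Statements.S2962
import Groth.Agent.SplitCentral26.Weights
import Groth.Agent.MaxCent26.Basic
import Groth.Agent.Cochar26.FibreChar
import Groth.Agent.S19142

set_option autoImplicit false
set_option linter.style.haveILetI false
set_option backward.isDefEq.respectTransparency.types false
set_option maxHeartbeats 1000000
set_option synthInstance.maxHeartbeats 200000
open CategoryTheory CategoryTheory.Limits MonoidalCategory CartesianMonoidalCategory MonObj GrpObj AlgebraicGeometry
universe u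
open RedX

namespace Groth.Agent.S2962

/-- Let G be a split reductive group scheme over S with splitting D (maximal torus T = D(M), roots in
M). A point g of G with values in X is central (commutes with every point of G after every base
change X' -> X) if and only if it factors through T and every root, viewed as a character T -> G_m,
is trivial on it; i.e. the centre of G is the intersection of the kernels of the roots. -/
theorem result {S : Scheme.{u}} {G : Over S} [GrpObj G] (D : Red.SplitRed G)
    (X : Over S) (g : X ⟶ G) :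
    (∀ (X' : Over S) (x : X' ⟶ X) (h : X' ⟶ G), (x ≫ g) * h = h * (x ≫ g)) ↔
      ∃ t : X ⟶ D.T, t ≫ D.i = g ∧ ∀ a : D.idx, t ≫ D.split.hom.hom.hom ≫ Red.chi S (D.P.root a) = 1 := by
  classical
  haveI := D.maximalTorus.1
  haveI := D.maximalTorus.2.1
  haveI := D.reductive.1
  haveI := D.reductive.2.1
  have hconn : ∀ s : S, _root_.IsConnected (G.hom.base ⁻¹' {s}) := fun s => by
    haveI := (D.reductive.2.2 s).2.2.1
    exact Groth.Agent.ConjConst26.TorusInvariants.isConnected_fibre G s
  have hTm := Groth.Agent.MultExt26.isMultTypeFT_of_torus D.T D.maximalTorus.2.2.1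
  constructor
  · intro hg
    obtain ⟨Z, _, z, hz, -, hzs⟩ := Groth.Agent.S19142.result D.T G
      (Groth.Agent.SGA3cLib.CentralFib.locally_of_multTypeFT hTm) inferInstance inferInstance D.i
    haveI := hz.1
    haveI := hz.2.1
    obtain ⟨f, hf⟩ := (hz.2.2 D.T D.i).2 fun X' x y => by
      rw [← MonObj.mul_comp, ← MonObj.mul_comp, Groth.Agent.SGA3cLib.torus_mul_comm D.maximalTorus.2.2.1]
    have hgeoT : ∀ s : S, IsIso ((Over.pullback (Red.geomPt s)).map f) := fun s => by
      let p := Red.geomPt s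
      haveI : (Over.pullback p).IsRightAdjoint := (Over.mapPullbackAdj _).isRightAdjoint
      haveI : Mono ((Over.pullback p).map D.i) := inferInstance
      haveI : Mono ((Over.pullback p).map z) := inferInstance
      have hKK := Groth.Agent.Luna12.isCentralizerOf_self (D.reductive.2.2 s)
        (Groth.Agent.HMTor29.MaxTorus.isMaxTorus (Groth.Agent.MaxTorus26.isMaximalTorus_geom D.maximalTorus s))
      have hcomm := (hz.2.2 Z z).1 ⟨𝟙 Z, Category.id_comp z⟩
      obtain ⟨w, hw⟩ := (hKK.2.2 _ ((Over.pullback p).map z)).2 fun X' x y => by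
        obtain ⟨a, rfl⟩ := (Groth.Agent.SGA3cLib.BCPoints.pt p Z X').surjective x
        obtain ⟨b, rfl⟩ := (Groth.Agent.SGA3cLib.BCPoints.pt p D.T X').surjective y
        rw [← Groth.Agent.SGA3cLib.BCPoints.pt_comp, ← Groth.Agent.SGA3cLib.BCPoints.pt_comp]
        have h1 := congrArg (Groth.Agent.SGA3cLib.BCPoints.pt p G X') (hcomm _ a b)
        rwa [Groth.Agent.SGA3cLib.BCPoints.pt_mul, Groth.Agent.SGA3cLib.BCPoints.pt_mul] at h1
      refine ⟨w, ?_, ?_⟩
      · rw [← cancel_mono ((Over.pullback p).map D.i), Category.assoc, hw, ← Functor.map_comp, hf, Category.id_comp]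
      · rw [← cancel_mono ((Over.pullback p).map z), Category.assoc, ← Functor.map_comp, hf, hw, Category.id_comp]
    haveI : IsIso f.left := by
      haveI := hzs
      haveI : LocallyOfFinitePresentation Z.hom := inferInstance
      haveI : LocallyOfFinitePresentation (f.left ≫ Z.hom) := by
        rw [Over.w]; exact Groth.Agent.SGA3cLib.TrivLocus.locallyOfFinitePresentation_of_multTypeFT _ hTm
      haveI : Flat (f.left ≫ Z.hom) := by
        rw [Over.w]; exact Groth.Agent.IsoTriv.ExtensionMT.flat_of_multTypeFT D.T hTm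
      exact (Groth.Agent.FlatMor12.isIso_iff_fibres f.left Z.hom).2 fun s => by
        haveI := hgeoT s
        exact Groth.Agent.MaxCent26.isIso_fibre f s
    haveI : IsIso ((Over.forget S).map f) := ‹IsIso f.left›
    haveI : IsIso f := isIso_of_reflects_iso f (Over.forget S)
    obtain ⟨w, hw⟩ := (hz.2.2 X g).2 fun X' x h => hg X' x (h ≫ D.i)
    refine ⟨w ≫ inv f, by rw [← hf, Category.assoc, IsIso.inv_hom_id_assoc, hw], fun a => ?_⟩
    obtain ⟨x, hx⟩ := Groth.Agent.SGA3cLib.exists_gaFn (S := S) (X := X) 1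
    obtain ⟨y, hy, hyv⟩ := (D.rootHom a).2.2 X (w ≫ inv f) x
    haveI := (D.rootHom a).2.1
    haveI : Mono (D.u a) := Over.mono_of_mono_left _
    have hti : (w ≫ inv f) ≫ D.i = g := by rw [← hf, Category.assoc, IsIso.inv_hom_id_assoc, hw]
    have h1 := hg X (𝟙 X) (x ≫ D.u a)
    rw [Category.id_comp] at h1
    rw [hti, h1, mul_inv_cancel_right, cancel_mono] at hy
    rw [hy, hx, _root_.mul_one] at hyv
    exact Groth.Agent.SGA3cLib.gmFn_injective (hyv.symm.trans Groth.Agent.SGA3cLib.gmFn_one.symm)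
  · rintro ⟨t, rfl, hroot⟩ X' x h
    let Q : AddSubgroup D.M := AddSubgroup.closure (Set.range fun a => D.P.root a)
    let π : D.M →+ D.M ⧸ Q := QuotientAddGroup.mk' Q
    let ds : D.T ⟶ Red.DS S D.M := D.split.hom.hom.hom
    let ds' : Red.DS S D.M ⟶ D.T := D.split.inv.hom.hom
    have hds : ds ≫ ds' = 𝟙 _ := by
      show (D.split.hom ≫ D.split.inv).hom.hom = _
      rw [D.split.hom_inv_id]; rfl
    have hds' : ds' ≫ ds = 𝟙 _ := by
      show (D.split.inv ≫ D.split.hom).hom.hom = _
      rw [D.split.inv_hom_id]; rfl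
    haveI : IsMonHom ds' := D.split.inv.hom.isMonHom_hom
    haveI : Mono ds' := ⟨fun a b hab => by
      have := congrArg (· ≫ ds) hab
      simpa [Category.assoc, hds'] using this⟩
    let j₀ : Red.DS S (D.M ⧸ Q) ⟶ Red.DS S D.M := Red.DSmap S π
    haveI : IsMonHom j₀ := Groth.Agent.S5427.isMonHom_DSmap (U := S) π
    haveI : Mono j₀ := ⟨fun a b hab => Groth.Agent.SGA3cLib.dsFn_injective (MonoidHom.ext fun m => by
      obtain ⟨m₀, hm₀⟩ := QuotientAddGroup.mk'_surjective Q m.toAdd
      have h1 := congrArg (fun z => Groth.Agent.SGA3cLib.dsFn z (Multiplicative.ofAdd m₀)) hab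
      simp only [j₀, Groth.Agent.S5427.dsFn_DSmap] at h1
      have h2 : AddMonoidHom.toMultiplicative π (Multiplicative.ofAdd m₀) = m := congrArg Multiplicative.ofAdd hm₀
      rwa [h2] at h1)⟩
    let jH : Red.DS S (D.M ⧸ Q) ⟶ G := j₀ ≫ ds' ≫ D.i
    haveI : IsMonHom jH := inferInstanceAs (IsMonHom (j₀ ≫ ds' ≫ D.i))
    haveI : Mono jH := inferInstanceAs (Mono (j₀ ≫ ds' ≫ D.i))
    haveI : AddGroup.FG (D.M ⧸ Q) := by
      haveI : AddGroup.FG D.M := Module.Finite.iff_addGroup_fg.1 inferInstance
      exact AddGroup.fg_of_surjective (f := π) (QuotientAddGroup.mk'_surjective Q)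
    have hH := Groth.Agent.Cochar26.isMultTypeFT_DS S (D.M ⧸ Q)
    obtain ⟨C, _, c, hc, hcc, hcs⟩ := Groth.Agent.S19142.result (Red.DS S (D.M ⧸ Q)) G
      (Groth.Agent.SGA3cLib.CentralFib.locally_of_multTypeFT hH) inferInstance inferInstance jH
    haveI := hc.1
    haveI := hc.2.1
    haveI := hcc
    haveI := hcs
    obtain ⟨jT, hjT⟩ := (hc.2.2 D.T D.i).2 fun X' y q => by
      have e : q ≫ jH = (q ≫ j₀ ≫ ds') ≫ D.i := by simp [jH]
      rw [e, ← MonObj.mul_comp, ← MonObj.mul_comp, Groth.Agent.SGA3cLib.torus_mul_comm D.maximalTorus.2.2.1]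
    have hu : ∀ a : D.idx, ∃ v : Red.Ga S ⟶ C, v ≫ c = D.u a := fun a => (hc.2.2 _ (D.u a)).2 fun X' y q => by
      obtain ⟨y', hy', hyv⟩ := (D.rootHom a).2.2 X' (q ≫ j₀ ≫ ds') y
      have hy'' : y' = y := Groth.Agent.SGA3cLib.gaFn_injective (by
        rw [hyv]
        have e : (q ≫ j₀ ≫ ds') ≫ ds ≫ Red.chi S (D.P.root a) = (q ≫ j₀) ≫ Red.chi S (D.P.root a) := by
          simp only [Category.assoc]
          rw [← Category.assoc ds', hds', Category.id_comp]
        rw [e, Groth.Agent.SplitCentral26.gmFn_chi', Groth.Agent.S5427.dsFn_DSmap]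
        have h0 : AddMonoidHom.toMultiplicative π (Multiplicative.ofAdd (D.P.root a)) = 1 :=
          congrArg Multiplicative.ofAdd ((QuotientAddGroup.eq_zero_iff (D.P.root a)).2
            (AddSubgroup.subset_closure ⟨a, rfl⟩))
        rw [h0, map_one, _root_.one_mul])
      rw [hy''] at hy'
      simp only [jH, Category.assoc] at hy' ⊢
      exact eq_mul_inv_iff_mul_eq.1 hy'
    choose v hv using hu
    have hgeo := Groth.Agent.SplitCentral26.isIso_geomFibre D c jT hjT v hv
    haveI : IsIso c.left := by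
      haveI : LocallyOfFinitePresentation (c.left ≫ G.hom) := by rw [Over.w]; infer_instance
      haveI : Flat (c.left ≫ G.hom) := by rw [Over.w]; infer_instance
      exact (Groth.Agent.FlatMor12.isIso_iff_fibres c.left G.hom).2 fun s => by
        haveI := hgeo s
        exact Groth.Agent.MaxCent26.isIso_fibre c s
    haveI : IsIso ((Over.forget S).map c) := ‹IsIso c.left›
    haveI : IsIso c := isIso_of_reflects_iso c (Over.forget S)
    have hall := (hc.2.2 G (𝟙 G)).1 ⟨inv c, IsIso.inv_hom_id c⟩
    let φ : Multiplicative D.M →* Γ(X'.left, ⊤) := Groth.Agent.SGA3cLib.dsFn (x ≫ t ≫ ds)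
    have hkill : Q ≤ (MonoidHom.toAdditiveRight φ).ker := by
      rw [AddSubgroup.closure_le]
      rintro _ ⟨a, rfl⟩
      show Additive.ofMul (φ (Multiplicative.ofAdd (D.P.root a))) = 0
      have h1 := congrArg (fun z => Red.gmFn (x ≫ z)) (hroot a)
      simp only [MonObj.comp_one, Groth.Agent.SGA3cLib.gmFn_one] at h1
      rw [← Category.assoc t, ← Category.assoc x, Groth.Agent.SplitCentral26.gmFn_chi'] at h1
      exact congrArg Additive.ofMul h1
    obtain ⟨q, hq⟩ := Groth.Agent.SGA3cLib.exists_dsPt (U := S) (W := X')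
      (MonoidHom.toAdditiveRight.symm (QuotientAddGroup.lift Q (MonoidHom.toAdditiveRight φ) hkill))
    have hqt : q ≫ j₀ = x ≫ t ≫ ds := Groth.Agent.SGA3cLib.dsFn_injective (MonoidHom.ext fun m => by
      rw [Groth.Agent.S5427.dsFn_DSmap, hq]
      rfl)
    have h2 : x ≫ t ≫ D.i = q ≫ jH := by
      show _ = q ≫ j₀ ≫ ds' ≫ D.i
      rw [← Category.assoc q j₀, hqt]
      simp only [Category.assoc]
      rw [← Category.assoc ds, hds, Category.id_comp]
    have h3 := hall X' h q
    rw [Category.comp_id] at h3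
    rw [h2, h3]

end Groth.Agent.S2962
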