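import Groth.Statements.S2965
import Mathlib.Tactic.LinearCombination
import Mathlib.LinearAlgebra.Matrix.Charpoly.LinearMap
import Mathlib.RingTheory.Polynomial.Basic
import Mathlib.RingTheory.Coprime.Lemmas
import Mathlib.LinearAlgebra.Charpoly.Basic

set_option autoImplicit false
universe u
open SGA3t2b

namespace Groth.Agent.S2965

open Polynomial in
/-- Implication (iv) ⇒ (i) (global form, finite free module): let u be an endomorphism of a finite free
module M over a commutative ring A whose characteristic polynomial is X^r · Q with Q(0) invertible.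
Then M is the direct sum of two u-stable submodules M', M'' such that u is nilpotent on M' and
bijective on M''. -/
theorem result {A : Type u} [CommRing A] {M : Type u} [AddCommGroup M] [Module A M]
    [Module.Free A M] [Module.Finite A M] (u : M →ₗ[A] M) (r : ℕ) (Q : A[X]) (hQ : IsUnit (Q.coeff 0))
    (h : u.charpoly = X ^ r * Q) :
    ∃ M' M'' : Submodule A M, IsCompl M' M'' ∧ (∀ x ∈ M', u x ∈ M') ∧ (∀ x ∈ M'', u x ∈ M'') ∧
      (∃ n : ℕ, ∀ x ∈ M', (u ^ n) x = 0) ∧ Set.BijOn u M'' M'' := by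
  have hcop : IsCoprime (X ^ r : A[X]) Q := by
    refine IsCoprime.pow_left ?_
    refine ⟨-(C (↑hQ.unit⁻¹ : A)) * Q.divX, C (↑hQ.unit⁻¹ : A), ?_⟩
    have e : C (↑hQ.unit⁻¹ : A) * C (Q.coeff 0) = 1 := by rw [← C_mul, IsUnit.val_inv_mul, C_1]
    linear_combination (-(C (↑hQ.unit⁻¹ : A))) * Q.X_mul_divX_add + e
  set M' := LinearMap.ker (Polynomial.aeval u (X ^ r : A[X]))
  set M'' := LinearMap.ker (Polynomial.aeval u Q)
  have hsup : M' ⊔ M'' = ⊤ := by
    rw [Polynomial.sup_ker_aeval_eq_ker_aeval_mul_of_coprime u hcop, ← h, LinearMap.aeval_self_charpoly,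
      LinearMap.ker_zero]
  have hstab : ∀ (p : A[X]) (x : M), x ∈ LinearMap.ker (Polynomial.aeval u p) →
      ∀ q : A[X], Polynomial.aeval u q x ∈ LinearMap.ker (Polynomial.aeval u p) := by
    intro p x hx q
    rw [LinearMap.mem_ker] at hx ⊢
    rw [← Module.End.mul_apply, ← map_mul, mul_comm, map_mul, Module.End.mul_apply, hx, map_zero]
  refine ⟨M', M'', ⟨Polynomial.disjoint_ker_aeval_of_isCoprime u hcop, codisjoint_iff.mpr hsup⟩,
    fun x hx => by have := hstab _ x hx X; rwa [aeval_X] at this, fun x hx => by have := hstab _ x hx X; rwa [aeval_X] at this,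
    ⟨r, fun x hx => by simpa [M'] using hx⟩, ?_⟩
  -- the inverse of `u` on the non-nilpotent part
  set R₀ : A[X] := -(C (↑hQ.unit⁻¹ : A)) * Q.divX
  have hRX : R₀ * X = 1 - C (↑hQ.unit⁻¹ : A) * Q := by
    have e : C (↑hQ.unit⁻¹ : A) * C (Q.coeff 0) = 1 := by rw [← C_mul, IsUnit.val_inv_mul, C_1]
    linear_combination (-(C (↑hQ.unit⁻¹ : A))) * Q.X_mul_divX_add + e
  have hinv : ∀ x ∈ M'', Polynomial.aeval u R₀ (u x) = x ∧ u (Polynomial.aeval u R₀ x) = x := by
    intro x hx
    have e1 : Polynomial.aeval u (R₀ * X) x = x := by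
      rw [hRX, map_sub, map_mul, LinearMap.sub_apply, Module.End.mul_apply, LinearMap.mem_ker.mp hx]
      simp
    refine ⟨by simpa using e1, ?_⟩
    rw [mul_comm] at e1
    simpa using e1
  exact ⟨fun x hx => by have := hstab _ x hx X; rwa [aeval_X] at this,
    fun x hx y hy hxy => by rw [← (hinv x hx).1, ← (hinv y hy).1, hxy],
    fun y hy => ⟨_, hstab _ y hy R₀, (hinv y hy).2⟩⟩

end Groth.Agent.S2965
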