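import Groth.Statements.S2967
import Mathlib.RingTheory.Noetherian.Basic

set_option autoImplicit false
universe u
open SGA3t2b

namespace Groth.Agent.S2967

/-- A commutative p-Lie algebra over a field k of characteristic p is recorded as a k-vector space g
together with its p-th power map φ, which is additive and Frobenius-semilinear. Let g be
finite-dimensional and non-zero, and assume every element of g is killed by some iterate of φ (g is
unipotent). Then the k-subspace of g spanned by the image φ(g) is a proper subspace. -/
theorem result {k : Type u} [Field k] (p : ℕ) [Fact p.Prime] [CharP k p]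
    {V : Type u} [AddCommGroup V] [Module k V] [FiniteDimensional k V] [Nontrivial V]
    (φ : V →ₛₗ[frobenius k p] V) (hφ : ∀ x : V, ∃ n : ℕ, φ^[n] x = 0) :
    Submodule.span k (Set.range φ) ≠ ⊤ := by
  intro htop
  let K : ℕ → Submodule k V := fun n => Nat.rec ⊥ (fun _ S => S.comap φ) n
  have hK : ∀ n x, x ∈ K n ↔ φ^[n] x = 0 := by
    intro n
    induction n with
    | zero => intro x; simp [K]
    | succ n ih => intro x; rw [Function.iterate_succ_apply]; exact ih (φ x)
  have hmono : Monotone K := monotone_nat_of_le_succ fun n x hx => by
    exact (hK (n + 1) x).mpr (by rw [Function.iterate_succ_apply', (hK n x).mp hx, map_zero])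
  obtain ⟨N, hN⟩ := monotone_stabilizes_iff_noetherian.mpr inferInstance ⟨K, hmono⟩
  have hall : K N = ⊤ := by
    refine eq_top_iff.mpr fun x _ => ?_
    obtain ⟨n, hn⟩ := hφ x
    exact (hN (max N n) (le_max_left _ _)).ge (hmono (le_max_right N n) ((hK n x).mpr hn))
  have hdown : ∀ n, K n = ⊤ → K 0 = ⊤ := by
    intro n
    induction n with
    | zero => exact id
    | succ n ih =>
      intro h
      refine ih (eq_top_iff.mpr (htop ▸ Submodule.span_le.mpr ?_))
      rintro _ ⟨x, rfl⟩
      exact (h.ge trivial : x ∈ K (n + 1))
  exact bot_ne_top (hdown N hall : (⊥ : Submodule k V) = ⊤)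

end Groth.Agent.S2967
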