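import Groth.Statements.S2972
import Groth.Agent.IsoTriv.TorsionClopen
import Groth.Agent.IsoTriv.MultBasic

set_option autoImplicit false
universe u
open TensorProduct SGA3b
open SGA3b

namespace Groth.Agent.S2972

/-- Let R be a Noetherian ring, separated and complete for the I-adic topology, and H = Spec A an
R-group of multiplicative type and of finite type. If the base change of H to R/I is isotrivial,
then H is isotrivial. (Affine group schemes over an affine base are taken in Hopf-algebra form; base
change is the tensor product.) -/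
theorem result (R : Type u) [CommRing R] (A : Type u) [CommRing A] [HopfAlgebra R A] [IsNoetherianRing R] (I : Ideal R) [IsAdicComplete I R]
    (hft : Algebra.FiniteType R A) (h : IsMultType R A) (h0 : IsIsotrivial (R ⧸ I) ((R ⧸ I) ⊗[R] A)) :
    IsIsotrivial R A := by
  have := Groth.Agent.IsoTriv.flat_of_isMultType h
  have := Groth.Agent.IsoTriv.isCocomm_of_isMultType h
  obtain ⟨e, R', _, _, N, _, he, hspan, het, hfin, hff, -, Φ, hΦ, hK⟩ :=
    Groth.Agent.IsoTriv.exists_clopen_isotrivial I hft (fun n => inferInstance) h0
  have := het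
  have := hfin
  have := hff
  have := hft
  have heI : e ∈ I.map (algebraMap R A) := by
    have h1 : e ∈ Groth.Agent.IsoTriv.formalIdeal I A := hspan ▸ Ideal.mem_span_singleton_self e
    have h2 := (Groth.Agent.IsoTriv.mem_formalIdeal I).mp h1 1
    rwa [pow_one] at h2
  have h0e : e = 0 := Groth.Agent.IsoTriv.eq_zero_of_torsion R' Φ hΦ he hK fun n hn => by
    have := Groth.Agent.SGA3bLib.finite_quotient_torsion hft h hn
    exact Groth.Agent.IsoTriv.mem_of_finite_quotient I (IsAdicComplete.le_jacobson_bot I) _ he heI
  refine ⟨R', inferInstance, inferInstance, het, hfin, hff, N, inferInstance, ⟨BialgEquiv.ofBijective Φ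
    ⟨(RingHom.injective_iff_ker_eq_bot (Φ : R' ⊗[R] A →ₐ[R'] MonoidAlgebra R' N).toRingHom).mpr ?_, hΦ⟩⟩⟩
  refine hK.trans ?_
  rw [h0e, Ideal.span_singleton_eq_bot.mpr rfl, Ideal.map_bot]

end Groth.Agent.S2972
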