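import Groth.Statements.S2978
import Mathlib

set_option autoImplicit false
universe u
open SGA3b

namespace Groth.Agent.S2978

/-- Let A be a Noetherian ring, M a set and a : M × M → A a family vanishing off the diagonal which is a
finite sum of decomposable families: a(m, m') = Σ_i b_i(m) c_i(m') for finitely many b_i, c_i : M →
A. Then a has finite support. -/
theorem result (A : Type u) [CommRing A] [IsNoetherianRing A] (M : Type u)
    (a : M × M → A) (hdiag : ∀ m m', m ≠ m' → a (m, m') = 0)
    (ι : Type u) [Fintype ι] (b c : ι → M → A) (hdec : ∀ m m', a (m, m') = ∑ i, b i m * c i m') :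
    Set.Finite {p : M × M | a p ≠ 0} := by
  classical
  let v : M → ι → A := fun m i => b i m
  obtain ⟨t, hts, htf, ht⟩ : ∃ t ⊆ Set.range v, t.Finite ∧ Submodule.span A t = Submodule.span A (Set.range v) := by
    obtain ⟨t, ht, hspan⟩ := (Submodule.fg_span_iff_fg_span_finset_subset _).mp (IsNoetherian.noetherian (Submodule.span A (Set.range v)))
    exact ⟨t, ht, t.finite_toSet, hspan.symm⟩
  choose g hg using hts
  let S : Set M := Set.range fun x : t => g x.2
  have hSf : S.Finite := by
    have := htf.to_subtype
    exact Set.finite_range _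
  refine ((hSf.image fun m => (m, m))).subset ?_
  rintro ⟨m, m'⟩ hp
  obtain rfl : m = m' := by_contra fun h => hp (hdiag m m' h)
  by_contra hnot
  refine hp ?_
  let Φ : (ι → A) →ₗ[A] A := ∑ i, c i m • LinearMap.proj i
  have hΦ : ∀ k, Φ (v k) = a (k, m) := fun k => by
    simp [Φ, v, hdec, mul_comm]
  have : v m ∈ LinearMap.ker Φ := by
    have hle : Submodule.span A t ≤ LinearMap.ker Φ := by
      refine Submodule.span_le.mpr fun x hx => ?_
      rw [SetLike.mem_coe, LinearMap.mem_ker, ← hg hx, hΦ]
      exact hdiag _ _ fun e => hnot ⟨g hx, ⟨⟨x, hx⟩, rfl⟩, by rw [e]⟩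
    exact hle (ht ▸ Submodule.subset_span (Set.mem_range_self m))
  rwa [LinearMap.mem_ker, hΦ] at this

end Groth.Agent.S2978
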