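import Groth.Statements.S2984
import Groth.Agent.SGA3bLib.Torsion

set_option autoImplicit false
universe u
open TensorProduct SGA3b
open SGA3b

namespace Groth.Agent.S2984

/-- Let R be a ring and G = Spec A an R-group scheme of multiplicative type and of finite type, with A a
Hopf algebra over R. Then A is finite over R if and only if the n-th power map of G is trivial for
some n > 0 (the kernel ₙG is all of G). (Affine group schemes over an affine base are taken in
Hopf-algebra form; base change is the tensor product.) -/
theorem result (R : Type u) [CommRing R] (A : Type u) [CommRing A] [HopfAlgebra R A] (hft : Algebra.FiniteType R A) (h : IsMultType R A) :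
    Module.Finite R A ↔ ∃ n : ℕ, 0 < n ∧ torsionIdeal R A n = ⊥ := by
  constructor
  · intro hfin
    obtain ⟨s, hs, hloc⟩ := h
    obtain ⟨t, hts, ht⟩ := Submodule.mem_span_finite_of_mem_span (show (1 : R) ∈ Submodule.span R s by
      rw [show Submodule.span R s = ⊤ from hs]; trivial)
    have key : ∀ f ∈ t, ∃ n : ℕ, 0 < n ∧ ∀ k, n ∣ k → torsionIdeal (Localization.Away f) (Localization.Away f ⊗[R] A) k = ⊥ := by
      intro f hf
      obtain ⟨R', _, _, hff, M, _, ⟨e⟩⟩ := hloc f (hts hf)
      have := hff
      have hinj : Function.Injective (Algebra.TensorProduct.includeRight :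
          (Localization.Away f ⊗[R] A) →ₐ[Localization.Away f] R' ⊗[Localization.Away f] (Localization.Away f ⊗[R] A)) :=
        Module.FaithfullyFlat.tensorProduct_mk_injective (A := Localization.Away f) (B := R') _
      rcases subsingleton_or_nontrivial R' with hR | hR
      · have : Subsingleton (R' ⊗[Localization.Away f] (Localization.Away f ⊗[R] A)) := Module.subsingleton R' _
        refine ⟨1, one_pos, fun k _ => eq_bot_iff.mpr fun x _ => hinj (Subsingleton.elim _ _)⟩
      have : Module.Finite R' (MonoidAlgebra R' M) := Module.Finite.equiv e.toAlgEquiv.toLinearEquiv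
      have : Module.Finite R' (M →₀ R') := Module.Finite.equiv (MonoidAlgebra.coeffLinearEquiv R')
      have : Finite M := Module.Finite.finite_basis (Finsupp.basisSingleOne (R := R') (ι := M))
      refine ⟨Nat.card M, Nat.card_pos, fun k hk => eq_bot_iff.mpr fun x hx => ?_⟩
      change x = 0
      apply hinj
      rw [map_zero]
      have h1 := Ideal.mem_map_of_mem (Algebra.TensorProduct.includeRight :
          (Localization.Away f ⊗[R] A) →ₐ[Localization.Away f] R' ⊗[Localization.Away f] (Localization.Away f ⊗[R] A)) hx
      rw [← SGA3bLib.torsionIdeal_baseChange, SGA3bLib.torsionIdeal_eq_comap e, Ideal.mem_comap,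
        SGA3bLib.torsionIdeal_monoidAlgebra, SGA3bLib.ker_mapDomain] at h1
      have hbot : Ideal.span {z : MonoidAlgebra R' M | ∃ m ∈ (powMonoidHom k : M →* M).range, z = MonoidAlgebra.single m (1 : R') - 1} = ⊥ := by
        rw [Ideal.span_eq_bot]
        rintro _ ⟨_, ⟨m, rfl⟩, rfl⟩
        obtain ⟨j, rfl⟩ := hk
        rw [powMonoidHom_apply, pow_mul, pow_card_eq_one', one_pow, sub_eq_zero]
        rfl
      rw [hbot] at h1
      exact e.injective (h1.trans (map_zero e).symm)
    choose! N hN0 hN using key
    refine ⟨∏ f ∈ t, N f, Finset.prod_pos hN0, eq_bot_iff.mpr fun x hx => ?_⟩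
    refine SGA3bLib.eq_zero_of_away_cover (s := (t : Set R)) (top_le_iff.mp fun r _ => ?_) fun f hf => ?_
    · rw [← mul_one r]; exact Ideal.mul_mem_left _ r ht
    · have h1 := Ideal.mem_map_of_mem (Algebra.TensorProduct.includeRight : A →ₐ[R] Localization.Away f ⊗[R] A) hx
      rw [← SGA3bLib.torsionIdeal_baseChange, hN f hf _ (Finset.dvd_prod_of_mem N hf)] at h1
      exact h1
  · rintro ⟨n, hn, hbot⟩
    refine SGA3bLib.finite_of_ker_torsion hft h (BialgHom.id R A) Function.surjective_id hn ?_
    rw [hbot]
    ext x
    simp [RingHom.mem_ker]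

end Groth.Agent.S2984
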