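import Groth.Statements.S2986
import Groth.Agent.SGA3cLib.SmoothLevel

set_option autoImplicit false
universe u
open TensorProduct
open SGA3b

namespace Groth.Agent.S2986

/-- Let R be a ring, B a smooth R-algebra whose geometric fibres are connected (for every algebraically
closed field K under R, Spec (K ⊗_R B) is connected), e : B → R an R-algebra section with kernel 𝔪,
and J a finitely generated ideal of B (a finitely presented closed subscheme Y of X = Spec B). Then
there is n ≥ 0 such that for every R-algebra R': the base change of X to R' lies in Y (every element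
of J becomes zero in R' ⊗_R B) if and only if the base change of the n-th infinitesimal
neighbourhood Spec (B/𝔪^(n+1)) of the section lies in Y. (The published statement is for a general
base and X; this is the affine case.) -/
theorem result (R B : Type u) [CommRing R] [CommRing B] [Algebra R B]
    [Algebra.Smooth R B]
    (hconn : ∀ (K : Type u) [Field K] [IsAlgClosed K] [Algebra R K], ConnectedSpace (PrimeSpectrum (K ⊗[R] B)))
    (e : B →ₐ[R] R) (J : Ideal B) (hJ : J.FG) :
    ∃ n : ℕ, ∀ (R' : Type u) [CommRing R'] [Algebra R R'],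
      (∀ x ∈ J, (1 : R') ⊗ₜ[R] x = (0 : R' ⊗[R] B)) ↔
        (∀ x ∈ J, (1 : R') ⊗ₜ[R] (Ideal.Quotient.mk (RingHom.ker e ^ (n + 1)) x) = (0 : R' ⊗[R] (B ⧸ RingHom.ker e ^ (n + 1)))) := by
  classical
  have chart : ∀ p : PrimeSpectrum R, ∃ r : R, r ∉ p.asIdeal ∧ ∀ x : B, ∃ n : ℕ,
      ∀ (R' : Type u) [CommRing R'] [Algebra R R'], (1 : R') ⊗ₜ[R] x ∈ RingHom.ker (SGA3cLib.Jet.augBC e R') ^ (n + 1) →
        ∃ N : ℕ, algebraMap R (R' ⊗[R] B) r ^ N * ((1 : R') ⊗ₜ[R] x) = 0 := by
    intro p
    haveI : (p.asIdeal.comap e).IsPrime := Ideal.comap_isPrime _ _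
    obtain ⟨f, hf, hsm⟩ := Algebra.IsSmoothAt.exists_notMem_isStandardSmooth (R := R) (p.asIdeal.comap e)
    refine ⟨e f, hf, fun x => ?_⟩
    let R'' := Localization.Away (e f)
    let Bf := Localization.Away f
    have hu : ∀ y : Submonoid.powers f, IsUnit (((IsScalarTower.toAlgHom R R R'').comp e : B →ₐ[R] R'') y) := by
      rintro ⟨_, k, rfl⟩
      show IsUnit (algebraMap R R'' (e (f ^ k)))
      rw [map_pow, map_pow]
      exact (IsLocalization.Away.algebraMap_isUnit (e f)).pow k
    let s₀ : Bf →ₐ[R] R'' :=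
      IsLocalization.liftAlgHom (M := Submonoid.powers f) (S := Bf) (f := (IsScalarTower.toAlgHom R R R'').comp e) hu
    let σ : R'' ⊗[R] Bf →ₐ[R''] R'' :=
      Algebra.TensorProduct.lift (AlgHom.id R'' R'') s₀ (fun _ _ => Commute.all _ _)
    have hs₀ : ∀ b : B, s₀ (algebraMap B Bf b) = algebraMap R R'' (e b) := fun b =>
      (IsLocalization.lift_eq (M := Submonoid.powers f) (S := Bf) hu b :)
    have hdom : ∀ (L : Type u) [Field L] [Algebra R'' L], IsDomain (L ⊗[R''] (R'' ⊗[R] Bf)) := by
      intro L _ _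
      letI : Algebra R L := ((algebraMap R'' L).comp (algebraMap R R'')).toAlgebra
      haveI : IsScalarTower R R'' L := IsScalarTower.of_algebraMap_eq fun _ => rfl
      haveI := SGA3cLib.Jet.isDomain_away hconn e f L
        ((IsLocalization.Away.algebraMap_isUnit (S := R'') (e f)).map (algebraMap R'' L)).ne_zero
      exact MulEquiv.isDomain (L ⊗[R] Bf) (Algebra.TensorProduct.cancelBaseChange R R'' L L Bf).toMulEquiv
    obtain ⟨n, hn⟩ := SGA3cLib.Jet.exists_level σ hdom ((1 : R'') ⊗ₜ[R] algebraMap B Bf x)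
    refine ⟨n, fun R' _ _ hmem => ?_⟩
    let C := Localization.Away (algebraMap R R' (e f))
    have huC : IsUnit (algebraMap R C (e f)) := by
      rw [IsScalarTower.algebraMap_apply R R' C]; exact IsLocalization.Away.algebraMap_isUnit _
    letI : Algebra R'' C := (IsLocalization.Away.lift (e f) huC).toAlgebra
    haveI : IsScalarTower R R'' C := IsScalarTower.of_algebraMap_eq fun a =>
      (IsLocalization.Away.lift_eq (e f) huC a).symm
    let E := Algebra.TensorProduct.cancelBaseChange R R'' C C Bf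
    let ι : B →ₐ[R] Bf := IsScalarTower.toAlgHom R B Bf
    let T : R' ⊗[R] B →ₐ[R] C ⊗[R''] (R'' ⊗[R] Bf) :=
      (E.symm.toAlgHom.restrictScalars R).comp (Algebra.TensorProduct.map (IsScalarTower.toAlgHom R R' C) ι)
    have hT : ∀ z, SGA3cLib.Jet.augBC σ C (T z) = algebraMap R' C (SGA3cLib.Jet.augBC e R' z) := fun z => by
      induction z using TensorProduct.induction_on with
      | zero => simp
      | add z w hz hw => simp only [map_add, hz, hw]
      | tmul c b =>
        have h1 : T (c ⊗ₜ b) = (algebraMap R' C c) ⊗ₜ[R''] ((1 : R'') ⊗ₜ[R] algebraMap B Bf b) := by simp [T, E, ι]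
        rw [h1, SGA3cLib.Jet.augBC_tmul, SGA3cLib.Jet.augBC_tmul, map_mul]
        congr 1
        simp only [σ, Algebra.TensorProduct.lift_tmul, map_one, _root_.one_mul]
        rw [hs₀, ← IsScalarTower.algebraMap_apply, ← IsScalarTower.algebraMap_apply]
    have hTx : T ((1 : R') ⊗ₜ x) = (1 : C) ⊗ₜ[R''] ((1 : R'') ⊗ₜ[R] algebraMap B Bf x) := by simp [T, E, ι]
    have h0 := hn C (hTx ▸ SGA3cLib.Jet.map_mem_pow (SGA3cLib.Jet.augBC e R') (SGA3cLib.Jet.augBC σ C) T
      (fun z hz => by rw [hT, hz, map_zero]) hmem)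
    have h1 : (1 : C) ⊗ₜ[R] algebraMap B Bf x = 0 := by
      have := congrArg E h0
      simpa [E] using this
    have h2 : algebraMap (C ⊗[R] B) (Localization.Away ((1 : C) ⊗ₜ[R] f)) ((1 : C) ⊗ₜ[R] x) = 0 := by
      rw [← IsLocalization.Away.tensorProductEquivTMulRight_tmul (R := R) (S := C) B f Bf, h1, map_zero]
    have h3 : (1 : C) ⊗ₜ[R] x = 0 := by
      refine SGA3cLib.Jet.eq_zero_of_away (fun K _ _ _ => ?_) (SGA3cLib.Jet.augBC e C) _ ?_ _ h2
      · letI : Algebra R K := ((algebraMap C K).comp (algebraMap R C)).toAlgebra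
        haveI : IsScalarTower R C K := IsScalarTower.of_algebraMap_eq fun _ => rfl
        haveI := hconn K
        exact (PrimeSpectrum.homeomorphOfRingEquiv
          (Algebra.TensorProduct.cancelBaseChange R C K K B).toRingEquiv).connectedSpace_iff.mpr inferInstance
      · rw [SGA3cLib.Jet.augBC_tmul, _root_.one_mul]; exact huC
    let r' := algebraMap R (R' ⊗[R] B) (e f)
    let D := Localization.Away r'
    let ξ : R' →+* D := (algebraMap (R' ⊗[R] B) D).comp Algebra.TensorProduct.includeLeftRingHom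
    have hξu : IsUnit (ξ (algebraMap R R' (e f))) := by
      exact IsLocalization.Away.algebraMap_isUnit (S := D) r'
    have hξc : ∀ a, IsLocalization.Away.lift (S := C) (algebraMap R R' (e f)) hξu (algebraMap R C a) = algebraMap R D a :=
      fun a => by
        rw [IsScalarTower.algebraMap_apply R R' C, IsLocalization.Away.lift_eq,
          IsScalarTower.algebraMap_apply R (R' ⊗[R] B) D]
        rfl
    let ξC : C →ₐ[R] D := { IsLocalization.Away.lift (S := C) (algebraMap R R' (e f)) hξu with commutes' := hξc }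
    let φD : C ⊗[R] B →ₐ[R] D := Algebra.TensorProduct.lift ξC
      ((IsScalarTower.toAlgHom R (R' ⊗[R] B) D).comp Algebra.TensorProduct.includeRight) (fun _ _ => Commute.all _ _)
    have h4 := congrArg φD h3
    simp only [φD, Algebra.TensorProduct.lift_tmul, map_one, _root_.one_mul, map_zero, AlgHom.comp_apply,
      Algebra.TensorProduct.includeRight_apply, IsScalarTower.coe_toAlgHom'] at h4
    obtain ⟨⟨_, N, rfl⟩, hN⟩ := (IsLocalization.map_eq_zero_iff (Submonoid.powers r') D _).mp h4
    exact ⟨N, hN⟩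
  choose r hr n hn using chart
  have hspan : Ideal.span (Set.range r) = ⊤ := by
    by_contra h
    obtain ⟨M, hM, hle⟩ := Ideal.exists_le_maximal _ h
    exact hr ⟨M, hM.isPrime⟩ (hle (Ideal.subset_span ⟨⟨M, hM.isPrime⟩, rfl⟩))
  obtain ⟨t, ht, h1⟩ := Submodule.mem_span_finite_of_mem_span ((Ideal.eq_top_iff_one _).mp hspan)
  choose ix hix using fun y : t => ht y.2
  obtain ⟨S₀, hS₀⟩ := hJ
  refine ⟨(Finset.univ ×ˢ S₀).sup fun q : t × B => n (ix q.1) q.2, fun R' _ _ => ⟨fun h x hx => ?_, fun h => ?_⟩⟩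
  · exact (congrArg (Algebra.TensorProduct.map (AlgHom.id R R') (Ideal.Quotient.mkₐ R _)) (h x hx)).trans (map_zero _)
  · intro x hx
    rw [← hS₀] at hx
    refine Submodule.span_induction (fun x hxS => ?_) (by simp) (fun a b _ _ ha hb => ?_) (fun c a _ ha => ?_) hx
    · have hxJ : x ∈ J := hS₀ ▸ Ideal.subset_span hxS
      have hspan' : Ideal.span (Set.range fun y : t => algebraMap R (R' ⊗[R] B) (r (ix y))) = ⊤ := by
        rw [Ideal.eq_top_iff_one, ← map_one (algebraMap R (R' ⊗[R] B))]
        have := Ideal.mem_map_of_mem (algebraMap R (R' ⊗[R] B)) h1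
        rw [Ideal.map_span] at this
        refine Ideal.span_mono ?_ this
        rintro _ ⟨y, hy, rfl⟩
        exact ⟨⟨y, hy⟩, by simp only [hix]⟩
      have hz : ∀ y : t, ∃ N : ℕ, algebraMap R (R' ⊗[R] B) (r (ix y)) ^ N * ((1 : R') ⊗ₜ[R] x) = 0 := fun y => by
        refine hn (ix y) x R' ?_
        have hle := Finset.le_sup (f := fun q : t × B => n (ix q.1) q.2)
          (Finset.mem_product.mpr ⟨Finset.mem_univ y, hxS⟩ : (y, x) ∈ Finset.univ ×ˢ S₀)
        refine Ideal.pow_le_pow_right (Nat.succ_le_succ hle) ?_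
        rw [SGA3cLib.Jet.ker_augBC, ← Ideal.map_pow]
        have hk := Algebra.TensorProduct.lTensor_ker (A := R') (Ideal.Quotient.mkₐ R
          (RingHom.ker e ^ ((Finset.univ ×ˢ S₀).sup (fun q : t × B => n (ix q.1) q.2) + 1)))
          (Ideal.Quotient.mkₐ_surjective R _)
        have hmem : (1 : R') ⊗ₜ[R] x ∈ RingHom.ker (Algebra.TensorProduct.map (AlgHom.id R R') (Ideal.Quotient.mkₐ R
          (RingHom.ker e ^ ((Finset.univ ×ˢ S₀).sup (fun q : t × B => n (ix q.1) q.2) + 1)))) := by
          exact h x hxJ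
        rw [hk] at hmem
        have hker : RingHom.ker (Ideal.Quotient.mkₐ R
            (RingHom.ker e ^ ((Finset.univ ×ˢ S₀).sup (fun q : t × B => n (ix q.1) q.2) + 1))) =
            RingHom.ker e ^ ((Finset.univ ×ˢ S₀).sup (fun q : t × B => n (ix q.1) q.2) + 1) :=
          Ideal.Quotient.mkₐ_ker R _
        rw [hker] at hmem
        exact hmem
      choose N hN using hz
      have htop := Ideal.span_pow_eq_top _ hspan' (∑ y, N y)
      have hz0 : (1 : R' ⊗[R] B) * ((1 : R') ⊗ₜ[R] x) = 0 := by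
        refine Submodule.span_induction (p := fun a _ => a * ((1 : R') ⊗ₜ[R] x) = 0) ?_ (zero_mul _)
          (fun a b _ _ ha hb => by rw [add_mul, ha, hb, add_zero])
          (fun c a _ ha => by rw [smul_eq_mul, _root_.mul_assoc, ha, mul_zero])
          (htop.ge Submodule.mem_top : (1 : R' ⊗[R] B) ∈ _)
        rintro _ ⟨_, ⟨y, rfl⟩, rfl⟩
        show algebraMap R (R' ⊗[R] B) (r (ix y)) ^ (∑ y, N y) * _ = 0
        rw [← Finset.add_sum_erase Finset.univ N (Finset.mem_univ y), pow_add, mul_comm (_ ^ N y), _root_.mul_assoc, hN,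
          mul_zero]
      rwa [_root_.one_mul] at hz0
    · rw [TensorProduct.tmul_add, ha, hb, add_zero]
    · rw [smul_eq_mul, show (1 : R') ⊗ₜ[R] (c * a) = ((1 : R') ⊗ₜ c) * ((1 : R') ⊗ₜ a) by simp, ha, mul_zero]

end Groth.Agent.S2986
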