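import Groth.Statements.S2989
import Groth.Agent.Luna12.Hom
import Groth.Agent.SGA3cLib.DiagPoints
import Groth.Agent.SGA3cLib.BCPoints
import Groth.Agent.NeronModel27.GaSmoothBase
-- import your own Groth.Agent.* helpers here

set_option autoImplicit false
set_option backward.isDefEq.respectTransparency false
set_option backward.isDefEq.respectTransparency.types false
open CategoryTheory.Limits
set_option maxHeartbeats 2000000
set_option synthInstance.maxHeartbeats 400000
open CategoryTheory MonoidalCategory CartesianMonoidalCategory MonObj GrpObj AlgebraicGeometry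
universe u
open Red

namespace Groth.Agent.S2989

theorem bc_torsion {S S' : Scheme.{u}} (p : S' ⟶ S) (H : Over S) [GrpObj H] (X' : Over S') (n : ℕ)
    (h : ∀ a : (Over.map p).obj X' ⟶ H, a ^ n = 1 → a = 1) (y : X' ⟶ Red.bc p H) (hy : y ^ n = 1) : y = 1 := by
  let e := SGA3cLib.BCPoints.pt p H X'
  obtain ⟨a, rfl⟩ := e.surjective y
  let f := MonoidHom.mk' e (SGA3cLib.BCPoints.pt_mul p)
  have h1 : f (a ^ n) = f 1 := by rw [map_pow, map_one]; exact hy
  have h2 : a = 1 := h a (e.injective h1)
  show f a = 1
  rw [h2, map_one]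

end Groth.Agent.S2989

namespace Groth.Agent.S2989

/-- First assertion (H¹(G, k) = 0 for k with trivial action). Let k be a field and G a reductive
k-group. Then every homomorphism of k-groups from G to the additive group is trivial. -/
theorem result (k : Type u) [Field k] (G : Over (Spec (CommRingCat.of k))) [GrpObj G]
    (hG : Red.IsReductive G) (φ : G ⟶ Red.Ga (Spec (CommRingCat.of k))) [IsMonHom φ] :
    φ = toUnit G ≫ η[Red.Ga (Spec (CommRingCat.of k))] := by
  obtain ⟨s⟩ : Nonempty ↥(Spec (CommRingCat.of k)) := ⟨IsLocalRing.closedPoint k⟩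
  let p := Red.geomPt s
  haveI : (Over.pullback p).IsRightAdjoint := (Over.mapPullbackAdj _).isRightAdjoint
  haveI : Surjective p := AGFImage11.surjective_fieldMap p
  haveI : IsAffineHom (Red.Ga (Spec (CommRingCat.of k))).hom := inferInstance
  haveI : Smooth (Red.Ga (Spec (CommRingCat.of k))).hom := NeronModel27.smooth_ga _
  haveI : LocallyOfFiniteType (Red.bc p (Red.Ga (Spec (CommRingCat.of k)))).hom :=
    MorphismProperty.pullback_snd _ _ (inferInstanceAs (LocallyOfFiniteType (Red.Ga (Spec (CommRingCat.of k))).hom))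
  haveI : IsSeparated (Red.bc p (Red.Ga (Spec (CommRingCat.of k)))).hom :=
    MorphismProperty.pullback_snd _ _ (inferInstanceAs (IsSeparated (Red.Ga (Spec (CommRingCat.of k))).hom))
  rw [← Hom.one_def]
  refine Luna12.hom_ext_of_map p ?_
  rw [show (Over.pullback p).map (1 : G ⟶ Red.Ga (Spec (CommRingCat.of k))) = 1 from Functor.map_one _]
  refine Luna12.eq_one_of_torsionFree (hG.2.2 s) ((Over.pullback p).map φ) fun y n hn hy => ?_
  let X := (Over.map p).obj (𝟙_ (Over (Spec (CommRingCat.of (AlgebraicClosure ((Spec (CommRingCat.of k)).residueField s))))))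
  refine bc_torsion p (Red.Ga (Spec (CommRingCat.of k))) _ n (fun a h1 => ?_) y hy
  refine SGA3cLib.gaFn_injective ?_
  rw [SGA3cLib.gaFn_one]
  have h2 : ∀ m : ℕ, Red.gaFn (a ^ m) = (m : Γ(X.left, ⊤)) * Red.gaFn a := fun m => by
    induction m with
    | zero => rw [pow_zero, SGA3cLib.gaFn_one, Nat.cast_zero, zero_mul]
    | succ m ih => rw [pow_succ, SGA3cLib.gaFn_mul, ih, Nat.cast_succ, add_mul, _root_.one_mul]
  have h3 := h2 n
  rw [h1, SGA3cLib.gaFn_one] at h3
  have hu : IsUnit (n : Γ(X.left, ⊤)) := by
    have h4 := (IsUnit.mk0 _ hn).map (Scheme.ΓSpecIso (CommRingCat.of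
      (AlgebraicClosure ((Spec (CommRingCat.of k)).residueField s)))).inv.hom
    rw [map_natCast] at h4
    exact h4
  exact hu.mul_right_eq_zero.1 h3.symm


end Groth.Agent.S2989
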