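import Groth.Statements.S2990
import Groth.Agent.PinAut26.Basic
-- import your own Groth.Agent.* helpers here

set_option autoImplicit false
open CategoryTheory MonoidalCategory CartesianMonoidalCategory MonObj GrpObj AlgebraicGeometry
set_option linter.style.haveILetI false
set_option backward.isDefEq.respectTransparency.types false
set_option maxHeartbeats 1000000
set_option synthInstance.maxHeartbeats 200000
universe u
open Red

namespace Groth.Agent.S2990

/-- Let G be a reductive S-group scheme with a pinning (a split maximal torus T, a root datum with a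
chosen base, and root homomorphisms u_a), and let g be an S-point of G such that the inner
automorphism int(g) normalises T and commutes with the root homomorphism u_a of every simple root a.
Then int(g) is the identity: g centralises every point of G with values in any S-scheme. (This is
the case of an inner automorphism respecting the pinning without permuting the simple roots.) -/
theorem result {S : Scheme.{u}} {G : Over S} [GrpObj G] (D : Red.Pinning G)
    (g : 𝟙_ (Over S) ⟶ G)
    (hT : ∀ (X : Over S) (t : X ⟶ D.T), ∃ t' : X ⟶ D.T, (toUnit X ≫ g) * (t ≫ D.i) * (toUnit X ≫ g)⁻¹ = t' ≫ D.i)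
    (hu : ∀ a ∈ D.base.support, ∀ (X : Over S) (x : X ⟶ Red.Ga S),
      (toUnit X ≫ g) * (x ≫ D.u a) * (toUnit X ≫ g)⁻¹ = x ≫ D.u a) :
    ∀ (X : Over S) (y : X ⟶ G), (toUnit X ≫ g) * y * (toUnit X ≫ g)⁻¹ = y := by
  classical
  intro X₀ y₀
  haveI := D.maximalTorus.1
  haveI := D.maximalTorus.2.1
  let ds : D.T ⟶ Red.DS S D.M := D.split.hom.hom.hom
  let ds' : Red.DS S D.M ⟶ D.T := D.split.inv.hom.hom
  have hds : ds ≫ ds' = 𝟙 _ := by
    show (D.split.hom ≫ D.split.inv).hom.hom = _
    rw [D.split.hom_inv_id]; rfl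
  have hds' : ds' ≫ ds = 𝟙 _ := by
    show (D.split.inv ≫ D.split.hom).hom.hom = _
    rw [D.split.inv_hom_id]; rfl
  haveI : IsMonHom ds' := D.split.inv.hom.isMonHom_hom
  haveI : IsMonHom ds := D.split.hom.hom.isMonHom_hom
  haveI := PinAut26.isMonHom_cj g
  obtain ⟨τ, hτ⟩ := hT D.T (𝟙 D.T)
  rw [Category.id_comp, ← SplitUniq26.comp_cj] at hτ
  haveI : IsMonHom τ := SGA3cLib.BCPoints.isMonHom_of_mul τ fun X x y => by
    rw [← cancel_mono D.i, MonObj.mul_comp _ _ D.i]
    simp only [Category.assoc, ← hτ]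
    rw [MonObj.mul_comp _ _ (D.i ≫ SplitUniq26.cj g)]
  let Q : AddSubgroup D.M := AddSubgroup.closure (Set.range fun a => D.P.root a)
  have hQ : Q ≤ AddSubgroup.closure (D.P.root '' D.base.support) := by
    rw [AddSubgroup.closure_le]
    rintro _ ⟨a, rfl⟩
    have hle : AddSubmonoid.closure (D.P.root '' D.base.support) ≤
        (AddSubgroup.closure (D.P.root '' D.base.support)).toAddSubmonoid :=
      AddSubmonoid.closure_le.2 AddSubgroup.subset_closure
    rcases D.base.root_mem_or_neg_mem a with h | h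
    · exact hle h
    · exact neg_mem_iff.1 (hle h)
  obtain ⟨one, hone⟩ := SGA3cLib.exists_gaFn (S := S) (X := Red.DS S D.M) 1
  have hsimple : ∀ a ∈ D.base.support, ds' ≫ τ ≫ ds ≫ Red.chi S (D.P.root a) = Red.chi S (D.P.root a) := fun a ha => by
    obtain ⟨y, hy, hyv⟩ := (D.rootHom a).2.2 _ ds' one
    obtain ⟨y', hy', hyv'⟩ := (D.rootHom a).2.2 _ (ds' ≫ τ) one
    haveI := (D.rootHom a).2.1
    haveI : Mono (D.u a) := Over.mono_of_mono_left _
    have hfix : ∀ (W : Over S) (x : W ⟶ Red.Ga S), (x ≫ D.u a) ≫ SplitUniq26.cj g = x ≫ D.u a := fun W x => by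
      rw [SplitUniq26.comp_cj, hu a ha]
    have h1 : y = y' := by
      rw [← cancel_mono (D.u a), ← hfix _ y, hy, hy', MonObj.mul_comp, MonObj.mul_comp, GrpObj.inv_comp, hfix]
      simp only [Category.assoc, hτ]
    rw [← h1, hyv, hone, _root_.mul_one, _root_.mul_one] at hyv'
    have h2 := SGA3cLib.gmFn_injective hyv'
    rw [Category.assoc, ← Category.assoc ds', hds', Category.id_comp] at h2
    exact h2.symm
  have hfix : ∀ m ∈ Q, ds' ≫ τ ≫ ds ≫ Red.chi S m = Red.chi S m := fun m hm => by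
    let ρ := ds' ≫ τ ≫ ds
    let f : D.M →+ Additive Γ((Red.DS S D.M).left, ⊤) := MonoidHom.toAdditiveRight (SGA3cLib.dsFn ρ)
    let f' : D.M →+ Additive Γ((Red.DS S D.M).left, ⊤) := MonoidHom.toAdditiveRight (SGA3cLib.dsFn (𝟙 (Red.DS S D.M)))
    have key : ∀ m, f m = f' m ↔ ρ ≫ Red.chi S m = Red.chi S m := fun m => by
      constructor
      · intro h
        apply SGA3cLib.gmFn_injective
        conv_rhs => rw [← Category.id_comp (Red.chi S m)]
        rw [SplitCentral26.gmFn_chi', SplitCentral26.gmFn_chi']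
        exact congrArg Additive.toMul h
      · intro h
        have h1 := congrArg Red.gmFn h
        conv_rhs at h1 => rw [← Category.id_comp (Red.chi S m)]
        rw [SplitCentral26.gmFn_chi', SplitCentral26.gmFn_chi'] at h1
        exact congrArg Additive.ofMul h1
    have h := AddMonoidHom.eqOn_closure (f := f) (g := f') (s := D.P.root '' D.base.support) (by
      rintro _ ⟨a, ha, rfl⟩
      exact (key _).2 (by simpa only [ρ, Category.assoc] using hsimple a ha)) (hQ hm)
    simpa only [ρ, Category.assoc] using (key m).1 h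
  have hmod : Red.DSmap S (QuotientAddGroup.mk' Q) ≫ ds' ≫ τ ≫ ds = Red.DSmap S (QuotientAddGroup.mk' Q) := by
    let j₀ := Red.DSmap S (QuotientAddGroup.mk' Q)
    have hcen := (S2962.result D.toSplitRed (Red.DS S (D.M ⧸ Q)) (j₀ ≫ ds' ≫ D.i)).2
      ⟨j₀ ≫ ds', Category.assoc _ _ _, fun a => by
        apply SGA3cLib.gmFn_injective
        rw [SGA3cLib.gmFn_one]
        show Red.gmFn ((j₀ ≫ ds') ≫ ds ≫ Red.chi S (D.P.root a)) = 1
        rw [Category.assoc, ← Category.assoc ds', hds', Category.id_comp, SplitCentral26.gmFn_chi']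
        have h0 : AddMonoidHom.toMultiplicative (QuotientAddGroup.mk' Q) (Multiplicative.ofAdd (D.P.root a)) = 1 :=
          congrArg Multiplicative.ofAdd ((QuotientAddGroup.eq_zero_iff (D.P.root a)).2
            (AddSubgroup.subset_closure ⟨a, rfl⟩))
        rw [← Category.id_comp j₀, S5427.dsFn_DSmap, h0, map_one]⟩
    have h1 : (j₀ ≫ ds' ≫ D.i) ≫ SplitUniq26.cj g = j₀ ≫ ds' ≫ D.i := by
      rw [SplitUniq26.comp_cj]
      have h2 := hcen _ (𝟙 _) (toUnit _ ≫ g)
      rw [Category.id_comp] at h2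
      rw [← h2, mul_inv_cancel_right]
    simp only [Category.assoc, hτ] at h1
    have h3 : (j₀ ≫ ds' ≫ τ) ≫ D.i = (j₀ ≫ ds') ≫ D.i := by simpa only [Category.assoc] using h1
    rw [cancel_mono] at h3
    show j₀ ≫ ds' ≫ τ ≫ ds = j₀
    calc j₀ ≫ ds' ≫ τ ≫ ds = (j₀ ≫ ds' ≫ τ) ≫ ds := by simp only [Category.assoc]
      _ = _ := by rw [h3, Category.assoc, hds', Category.comp_id]
  haveI : AddGroup.FG D.M := Module.Finite.iff_addGroup_fg.1 inferInstance
  haveI : IsMonHom (ds' ≫ τ ≫ ds) := inferInstance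
  have hρ : ds' ≫ τ ≫ ds = 𝟙 _ :=
    PinAut26.eq_id_of_fibres D.M _ (PinAut26.fibre_eq_id D.toSplitRed g τ hτ Q hfix hmod)
  have hτ1 : τ = 𝟙 _ := by
    calc τ = (ds ≫ ds') ≫ τ ≫ (ds ≫ ds') := by rw [hds, Category.id_comp, Category.comp_id]
      _ = ds ≫ (ds' ≫ τ ≫ ds) ≫ ds' := by simp only [Category.assoc]
      _ = _ := by rw [hρ, Category.id_comp, hds]
  rw [hτ1, Category.id_comp] at hτ
  have hcT : ∀ (X : Over S) (t : X ⟶ D.T), (toUnit X ≫ g) * (t ≫ D.i) = (t ≫ D.i) * (toUnit X ≫ g) := fun X t => by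
    rw [← mul_inv_eq_iff_eq_mul, ← SplitUniq26.comp_cj, Category.assoc, hτ]
  obtain ⟨t, ht⟩ := PinAut26.exists_lift D.toSplitRed _ g fun X' x t => by
    rw [toUnit_unique x (toUnit X')]
    exact hcT X' t
  obtain ⟨one', hone'⟩ := SGA3cLib.exists_gaFn (S := S) (X := 𝟙_ (Over S)) 1
  let f : D.M →+ Additive Γ((𝟙_ (Over S)).left, ⊤) := MonoidHom.toAdditiveRight (SGA3cLib.dsFn (t ≫ ds))
  have hker : ∀ a ∈ D.base.support, f (D.P.root a) = 0 := fun a ha => by
    obtain ⟨y, hy, hyv⟩ := (D.rootHom a).2.2 _ t one'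
    haveI := (D.rootHom a).2.1
    haveI : Mono (D.u a) := Over.mono_of_mono_left _
    have h := hu a ha _ one'
    rw [toUnit_unique (toUnit (𝟙_ (Over S))) (𝟙 _), Category.id_comp] at h
    rw [ht, h, cancel_mono] at hy
    rw [hy, hone', _root_.mul_one, ← Category.assoc, SplitCentral26.gmFn_chi'] at hyv
    exact congrArg Additive.ofMul hyv.symm
  have hroots : ∀ a : D.idx, t ≫ D.split.hom.hom.hom ≫ Red.chi S (D.P.root a) = 1 := fun a => by
    have h : f (D.P.root a) = 0 := AddMonoidHom.eqOn_closure (f := f) (g := 0) (by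
      rintro _ ⟨b, hb, rfl⟩
      exact hker b hb) (hQ (AddSubgroup.subset_closure ⟨a, rfl⟩))
    apply SGA3cLib.gmFn_injective
    rw [SGA3cLib.gmFn_one, ← Category.assoc, SplitCentral26.gmFn_chi']
    exact congrArg Additive.toMul h
  have hc := (S2962.result D.toSplitRed _ g).2 ⟨t, ht, hroots⟩ X₀ (toUnit X₀) y₀
  rw [hc, mul_inv_cancel_right]

end Groth.Agent.S2990
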