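import Groth.Statements.S3014
import Groth.Agent.SGA3cLib.AlgClosedDescent26
import Groth.Agent.IsoTriv.SchemeBridge
import Groth.Agent.IsoTriv.SchemeLocal

set_option autoImplicit false
set_option linter.style.haveILetI false
set_option backward.isDefEq.respectTransparency.types false
universe u
open CategoryTheory MonoidalCategory CartesianMonoidalCategory MonObj GrpObj AlgebraicGeometry
open Red

namespace Groth.Agent.S3014

/-- (i)⇒(ii): Let G and G' be reductive S-groups and f : S' → S a surjective morphism such that the base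
changes of G and G' to S' are isomorphic as group schemes. Then for every s ∈ S the geometric fibres
G_{s̄} and G'_{s̄} are isomorphic. -/
theorem result (S : Scheme.{u}) (G G' : Over S) [GrpObj G] [GrpObj G'] (hG : Red.IsReductive G) (hG' : Red.IsReductive G') (S' : Scheme.{u}) (f : S' ⟶ S) [Surjective f] (hiso : Nonempty (Grp.mk (Red.bc f G) ≅ Grp.mk (Red.bc f G'))) (s : S) : Nonempty (Grp.mk (Red.geomFibre s G) ≅ Grp.mk (Red.geomFibre s G')) := by
  obtain ⟨s', rfl⟩ := f.surjective s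
  let k := AlgebraicClosure (S.residueField (f s'))
  let K := AlgebraicClosure (S'.residueField s')
  letI : Algebra (S.residueField (f s')) K :=
    ((algebraMap (S'.residueField s') K).comp (f.residueFieldMap s').hom).toAlgebra
  let j : k →ₐ[S.residueField (f s')] K := IsAlgClosed.lift
  letI : Algebra k K := j.toRingHom.toAlgebra
  have hcomm : HopfLib.SpPoints.str k K ≫ geomPt (f s') = geomPt s' ≫ f := by
    show Spec.map (CommRingCat.ofHom j.toRingHom) ≫ Spec.map (CommRingCat.ofHom (algebraMap _ k)) ≫ _ =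
      (Spec.map (CommRingCat.ofHom (algebraMap _ K)) ≫ _) ≫ f
    rw [← Category.assoc, ← Spec.map_comp, Category.assoc, ← Scheme.Hom.SpecMap_residueFieldMap_fromSpecResidueField,
      ← Category.assoc (Spec.map (CommRingCat.ofHom (algebraMap (S'.residueField s') K))), ← Spec.map_comp]
    congr 2
    exact CommRingCat.hom_ext j.comp_algebraMap
  obtain ⟨hA, hs, -⟩ := hG.2.2 (f s')
  obtain ⟨hA', hs', -⟩ := hG'.2.2 (f s')
  obtain ⟨A, _, _, ⟨eA⟩⟩ := IsoTriv.SchemeSpec.exists_spec (geomFibre (f s') G)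
  obtain ⟨B, _, _, ⟨eB⟩⟩ := IsoTriv.SchemeSpec.exists_spec (geomFibre (f s') G')
  have hft : ∀ {H : Over (Spec (CommRingCat.of k))} [GrpObj H] {C : Type u} [CommRing C] [HopfAlgebra k C],
      Smooth H.hom → (Grp.mk H ≅ Grp.mk (CoactBr.sp k C)) → Algebra.FiniteType k C := by
    intro H _ C _ _ hH e
    haveI := hH
    let i : H ≅ CoactBr.sp k C := (Grp.forget _).mapIso e
    have h1 : LocallyOfFiniteType (CoactBr.sp k C).hom := by
      haveI : IsIso i.inv.left := inferInstanceAs (IsIso ((Over.forget _).map i.inv))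
      rw [← Over.w i.inv]; infer_instance
    change LocallyOfFiniteType (Spec.map (CommRingCat.ofHom (algebraMap k C))) at h1
    rw [HasRingHomProperty.Spec_iff (P := @LocallyOfFiniteType), CommRingCat.hom_ofHom,
      RingHom.finiteType_algebraMap] at h1
    exact h1
  haveI : Algebra.FiniteType k A := hft hs eA
  haveI : Algebra.FiniteType k B := hft hs' eB
  obtain ⟨e⟩ := hiso
  obtain ⟨e'⟩ := IsoTriv.SchemeSpec.nonempty_bc_congr (geomPt s') e
  obtain ⟨cG⟩ := IsoTriv.SchemeLocal.nonempty_bc_comp f (geomPt s') _ rfl G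
  obtain ⟨cG'⟩ := IsoTriv.SchemeLocal.nonempty_bc_comp f (geomPt s') _ rfl G'
  obtain ⟨dG⟩ := IsoTriv.SchemeLocal.nonempty_bc_comp (geomPt (f s')) (HopfLib.SpPoints.str k K) _ hcomm G
  obtain ⟨dG'⟩ := IsoTriv.SchemeLocal.nonempty_bc_comp (geomPt (f s')) (HopfLib.SpPoints.str k K) _ hcomm G'
  obtain ⟨bA⟩ := IsoTriv.SchemeSpec.nonempty_bc_spec (R := k) K A
  obtain ⟨bB⟩ := IsoTriv.SchemeSpec.nonempty_bc_spec (R := k) K B
  obtain ⟨fA⟩ := IsoTriv.SchemeSpec.nonempty_bc_congr (HopfLib.SpPoints.str k K) eA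
  obtain ⟨fB⟩ := IsoTriv.SchemeSpec.nonempty_bc_congr (HopfLib.SpPoints.str k K) eB
  obtain ⟨Φ⟩ := IsoTriv.SchemeSpec.nonempty_bialgEquiv
    (bA.symm ≪≫ fA.symm ≪≫ dG ≪≫ cG.symm ≪≫ e' ≪≫ cG' ≪≫ dG'.symm ≪≫ fB ≪≫ bB)
  obtain ⟨φ⟩ := SGA3cLib.AlgClosedDescent26.nonempty_bialgEquiv_of_extension Φ
  obtain ⟨g⟩ := IsoTriv.SchemeSpec.nonempty_grpIso φ
  exact ⟨eA ≪≫ g ≪≫ eB.symm⟩

end Groth.Agent.S3014
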