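import Groth.Statements.S3017
import Groth.Agent.GrpQ26.Thick

set_option autoImplicit false
set_option linter.style.haveILetI false
set_option backward.isDefEq.respectTransparency.types false
universe u
open CategoryTheory MonoidalCategory CartesianMonoidalCategory MonObj GrpObj AlgebraicGeometry TensorProduct
open SGA3

namespace Groth.Agent.S3017

/-- Let A be a local artinian ring, F and G group schemes flat and locally of finite type over A, and u
: F → G a homomorphism which is a quasi-compact monomorphism. Then there are an A-scheme X and a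
morphism p : G → X over A (the quotient F\G) such that p is faithfully flat and locally of finite
presentation, the square formed by (f, g) ↦ u(f) · g, the second projection F ×_A G → G and p is
cartesian, and X is separated and flat over A, and smooth over A when G is. -/
theorem result (A : Type u) [CommRing A] [IsArtinianRing A] [IsLocalRing A]
    (F G : Over (Spec (CommRingCat.of A))) [GrpObj F] [GrpObj G] [Flat F.hom] [LocallyOfFiniteType F.hom]
    [Flat G.hom] [LocallyOfFiniteType G.hom] (u : F ⟶ G) [IsMonHom u] [Mono u] [QuasiCompact u.left] :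
    ∃ (X : Over (Spec (CommRingCat.of A))) (p : G ⟶ X),
      Flat p.left ∧ Surjective p.left ∧ LocallyOfFinitePresentation p.left ∧
      IsPullback ((u ▷ G) ≫ μ[G]) (snd F G) p p ∧
      IsSeparated X.hom ∧ Flat X.hom ∧ (Smooth G.hom → Smooth X.hom) := by
  let cs : Spec (CommRingCat.of (IsLocalRing.ResidueField A)) ⟶ Spec (CommRingCat.of A) :=
    Spec.map (CommRingCat.ofHom (IsLocalRing.residue A))
  haveI : IsClosedImmersion cs := IsClosedImmersion.spec_of_surjective _ IsLocalRing.residue_surjective
  haveI : Subsingleton ↥(Spec (CommRingCat.of A)) :=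
    ⟨fun a b => PrimeSpectrum.ext ((IsLocalRing.eq_maximalIdeal (Ideal.isMaximal_of_isPrime a.asIdeal)).trans
      (IsLocalRing.eq_maximalIdeal (Ideal.isMaximal_of_isPrime b.asIdeal)).symm)⟩
  haveI : Surjective cs := ⟨fun x => ⟨IsLocalRing.closedPoint (IsLocalRing.ResidueField A), Subsingleton.elim _ _⟩⟩
  haveI : IsClosedImmersion u.left := Groth.Agent.GrpQ26.isClosedImmersion_of_mono_thick cs u
  haveI : LocallyOfFinitePresentation G.hom := LocallyOfFinitePresentation.iff_locallyOfFiniteType.2 inferInstance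
  haveI : LocallyOfFinitePresentation F.hom := LocallyOfFinitePresentation.iff_locallyOfFiniteType.2 inferInstance
  obtain ⟨Q, q, hf, hs, hl, sq, hsep, hfl, hsm⟩ := Groth.Agent.GrpQ26.exists_quotient_thick cs u
  haveI := hf
  haveI := hs
  haveI := hl
  let ν : G ≅ G := ⟨(𝟙 G)⁻¹, (𝟙 G)⁻¹, by rw [GrpObj.comp_inv, Category.comp_id, _root_.inv_inv],
    by rw [GrpObj.comp_inv, Category.comp_id, _root_.inv_inv]⟩
  let w : G ⊗ F ≅ F ⊗ G :=
    { hom := lift (snd G F)⁻¹ (fst G F)⁻¹
      inv := lift (snd F G)⁻¹ (fst F G)⁻¹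
      hom_inv_id := CartesianMonoidalCategory.hom_ext _ _
        (by rw [Category.assoc, lift_fst, GrpObj.comp_inv, lift_snd, _root_.inv_inv, Category.id_comp])
        (by rw [Category.assoc, lift_snd, GrpObj.comp_inv, lift_fst, _root_.inv_inv, Category.id_comp])
      inv_hom_id := CartesianMonoidalCategory.hom_ext _ _
        (by rw [Category.assoc, lift_fst, GrpObj.comp_inv, lift_snd, _root_.inv_inv, Category.id_comp])
        (by rw [Category.assoc, lift_snd, GrpObj.comp_inv, lift_fst, _root_.inv_inv, Category.id_comp]) }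
  haveI : IsIso ν.hom.left := ((Over.forget (Spec (CommRingCat.of A))).mapIso ν).isIso_hom
  have hμ : ∀ (W : Over (Spec (CommRingCat.of A))) (r : W ⟶ G ⊗ F),
      r ≫ (G ◁ u) ≫ μ[G] = (r ≫ fst G F) * (r ≫ snd G F ≫ u) := fun W r => by
    rw [← MonObj.comp_mul]
    rfl
  have hμ' : ∀ (W : Over (Spec (CommRingCat.of A))) (r : W ⟶ F ⊗ G),
      r ≫ (u ▷ G) ≫ μ[G] = (r ≫ fst F G ≫ u) * (r ≫ snd F G) := fun W r => by
    rw [← MonObj.comp_mul]
    rfl
  refine ⟨Q, ν.hom ≫ q, by rw [Over.comp_left]; infer_instance, by rw [Over.comp_left]; infer_instance,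
    by rw [Over.comp_left]; infer_instance, ?_, hsep, hfl inferInstance, hsm⟩
  refine sq.of_iso w ν ν (Iso.refl Q) ?_ ?_ ?_ ?_
  · rw [hμ']
    show ((G ◁ u) ≫ μ[G]) ≫ (𝟙 G)⁻¹ = _
    rw [GrpObj.comp_inv, Category.comp_id, ← Category.id_comp ((G ◁ u) ≫ μ[G]), hμ]
    simp only [w, lift_fst_assoc, lift_snd, Category.id_comp, GrpObj.inv_comp, _root_.mul_inv_rev]
  · show fst G F ≫ (𝟙 G)⁻¹ = w.hom ≫ snd F G
    rw [GrpObj.comp_inv, Category.comp_id]
    exact (lift_snd _ _).symm
  · rw [Iso.refl_hom, Category.comp_id]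
    exact (ν.inv_hom_id_assoc q).symm
  · rw [Iso.refl_hom, Category.comp_id]
    exact (ν.inv_hom_id_assoc q).symm

end Groth.Agent.S3017
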