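import Groth.Statements.S3019
import Groth.Agent.HopfUnip26.Chevalley
import Mathlib.RingTheory.HopfAlgebra.Quotient
-- import your own Groth.Agent.* helpers here

set_option autoImplicit false
set_option linter.style.haveILetI false
universe u
open CategoryTheory MonoidalCategory CartesianMonoidalCategory MonObj GrpObj AlgebraicGeometry TensorProduct
open SGA3

namespace Groth.Agent.S3019

/-- Let A be a finitely generated commutative Hopf algebra over a field k (an affine algebraic k-group
G) and I a Hopf ideal (a closed subgroup scheme H). Then there are a finite-dimensional A-comodule V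
and a nonzero vector v ∈ V such that, for every k-algebra R, an R-point of G kills I exactly when it
carries v to an R-multiple of v: H is the stabilizer of the line through v. -/
theorem result (k : Type u) [Field k] (A : Type u) [CommRing A] [HopfAlgebra k A]
    [Algebra.FiniteType k A] (I : Ideal A) [I.IsHopfIdeal k] :
    ∃ (V : Type u) (_ : AddCommGroup V) (_ : Module k V) (_ : HopfRep.Comod k A V) (_ : Module.Finite k V) (v : V),
      v ≠ 0 ∧ Dyn.Represents k A I (fun R _ _ g => SGA3.StabilizesLine k A v R g) := by
  let π : A →ₐc[k] A ⧸ I := Bialgebra.Quotient.mkBialgHom (R := k) I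
  have hπ : Function.Surjective π := Ideal.Quotient.mk_surjective
  obtain ⟨V, i₁, i₂, i₃, i₄, v, hv, h⟩ := Groth.Agent.HopfLib.exists_stabilizesLine_any π hπ
  have e : RingHom.ker (π : A →+* A ⧸ I) = I := Ideal.mk_ker
  rw [e] at h
  exact ⟨V, i₁, i₂, i₃, i₄, v, hv, h⟩

end Groth.Agent.S3019
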