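import Groth.Statements.S3021
import Groth.Agent.HopfLib.Comod
import Mathlib.Algebra.Module.Projective

set_option autoImplicit false
universe u
open CategoryTheory MonoidalCategory CartesianMonoidalCategory MonObj GrpObj AlgebraicGeometry TensorProduct
open SGA3

namespace Groth.Agent.S3021

open Groth.Agent TensorProduct

theorem exists_decomp (A : Type u) [CommRing A] (C : Type u) [AddCommGroup C] [Module A C]
    [Module.Projective A C] (V : Type u) [AddCommGroup V] [Module A V] (x : V ⊗[A] C) :
    ∃ (F : Finset C) (g : C → (C →ₗ[A] A)), x = ∑ b ∈ F, HopfLib.sliceR (g b) x ⊗ₜ[A] b := by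
  classical
  obtain ⟨s, hs⟩ := Module.projective_def.mp (inferInstance : Module.Projective A C)
  let g : C → (C →ₗ[A] A) := fun b => Finsupp.lapply b ∘ₗ s
  suffices h : ∃ F : Finset C, ∀ F' : Finset C, F ⊆ F' → x = ∑ b ∈ F', HopfLib.sliceR (g b) x ⊗ₜ[A] b from
    ⟨h.choose, g, h.choose_spec _ (Finset.Subset.refl _)⟩
  induction x using TensorProduct.induction_on with
  | zero => exact ⟨∅, fun F' _ => by simp⟩
  | tmul v c =>
    refine ⟨(s c).support, fun F' hF' => ?_⟩
    conv_lhs => rw [← hs c]
    simp only [HopfLib.sliceR_tmul, TensorProduct.smul_tmul, ← TensorProduct.tmul_sum]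
    congr 1
    rw [Finsupp.linearCombination_apply, Finsupp.sum_of_support_subset _ hF' _ (by simp)]
    rfl
  | add p q hp hq =>
    obtain ⟨F, hF⟩ := hp
    obtain ⟨G, hG⟩ := hq
    refine ⟨F ∪ G, fun F' hF' => ?_⟩
    conv_lhs => rw [hF F' (Finset.union_subset_left hF'), hG F' (Finset.union_subset_right hF')]
    simp [TensorProduct.add_tmul, Finset.sum_add_distrib]

/-- Let A be a commutative ring, C an A-coalgebra which is projective as an A-module, V a C-comodule and
M an A-submodule of V. Then there is a smallest subcomodule of V containing M, and it is finitely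
generated over A when M is. -/
theorem result (A : Type u) [CommRing A] (C : Type u) [AddCommGroup C] [Module A C]
    [Coalgebra A C] [Module.Projective A C] (V : Type u) [AddCommGroup V] [Module A V] [HopfRep.Comod A C V]
    (M : Submodule A V) :
    ∃ W : Submodule A V, HopfRep.IsSubcomod (k := A) (A := C) W ∧ M ≤ W ∧
      (∀ W' : Submodule A V, HopfRep.IsSubcomod (k := A) (A := C) W' → M ≤ W' → W ≤ W') ∧
      (M.FG → W.FG) := by
  classical
  refine ⟨⨆ m : M, HopfLib.orbit A C (m : V), ?_, ?_, ?_, ?_⟩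
  · refine HopfLib.isSubcomod_iSup fun m => ?_
    rintro _ ⟨h, rfl⟩
    obtain ⟨F, g, hF⟩ := exists_decomp A C V (HopfRep.Comod.coact (k := A) (A := C) (HopfLib.orbitMap (m : V) h))
    rw [hF]
    refine Submodule.sum_mem _ fun b _ => ⟨⟨_, ⟨HopfLib.formMul (g b) h, ?_⟩⟩ ⊗ₜ b, rfl⟩
    exact (HopfLib.hit_hit (g b) h (m : V)).symm
  · intro m hm
    exact Submodule.mem_iSup_of_mem ⟨m, hm⟩ (HopfLib.mem_orbit_self m)
  · intro W' hW' hMW'
    refine iSup_le fun m => ?_
    rintro _ ⟨h, rfl⟩
    exact HopfLib.IsSubcomod.hit_mem hW' h (hMW' m.2)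
  · rintro ⟨T, rfl⟩
    have horb : ∀ v : V, (HopfLib.orbit A C v).FG := by
      intro v
      obtain ⟨F, g, hF⟩ := exists_decomp A C V (HopfRep.Comod.coact (k := A) (A := C) v)
      refine ⟨F.image fun b => HopfLib.hit (g b) v, le_antisymm ?_ ?_⟩
      · rw [Submodule.span_le]
        intro y hy
        obtain ⟨b, -, rfl⟩ := Finset.mem_image.mp hy
        exact ⟨g b, rfl⟩
      · rintro _ ⟨h, rfl⟩
        change HopfLib.hit h v ∈ _
        rw [HopfLib.hit_apply, hF, map_sum]
        refine Submodule.sum_mem _ fun b hb => ?_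
        rw [HopfLib.sliceR_tmul]
        exact Submodule.smul_mem _ _ (Submodule.subset_span (Finset.mem_image.mpr ⟨b, hb, rfl⟩))
    have heq : (⨆ m : ↥(Submodule.span A (T : Set V)), HopfLib.orbit A C (m : V)) =
        ⨆ v ∈ T, HopfLib.orbit A C v := by
      refine le_antisymm (iSup_le fun m => ?_) (iSup₂_le fun v hv =>
        le_iSup_of_le ⟨v, Submodule.subset_span hv⟩ le_rfl)
      rintro _ ⟨h, rfl⟩
      change HopfLib.hit h (m : V) ∈ _
      refine Submodule.span_induction (p := fun y _ => HopfLib.hit h y ∈ ⨆ v ∈ T, HopfLib.orbit A C v)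
        (fun y hy => Submodule.mem_iSup_of_mem y (Submodule.mem_iSup_of_mem hy ⟨h, rfl⟩))
        (by simp) (fun y z _ _ hy hz => by rw [map_add]; exact add_mem hy hz)
        (fun c y _ hy => by rw [map_smul]; exact Submodule.smul_mem _ _ hy) m.2
    rw [heq]
    exact Submodule.fg_biSup T _ fun v _ => horb v

end Groth.Agent.S3021
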