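import Groth.Statements.S3022
import Groth.Agent.SGA3cLib.NeutralUnivOpen

set_option autoImplicit false
universe u
open CategoryTheory MonoidalCategory CartesianMonoidalCategory MonObj GrpObj AlgebraicGeometry TensorProduct
open SGA3

namespace Groth.Agent.S3022

/-- Let S be a scheme and G a group scheme over S which is flat and locally of finite presentation. Then
s ↦ dim G_s (the dimension of the fibre, i.e. of the subspace of G lying over s) is a locally
constant function on S. -/
theorem result (S : Scheme.{u}) (G : Over S) [GrpObj G] [Flat G.hom]
    [LocallyOfFinitePresentation G.hom] :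
    IsLocallyConstant (fun s : S => topologicalKrullDim ↥(G.hom.base ⁻¹' {s})) := by
  refine (IsLocallyConstant.iff_eventually_eq _).2 fun s => ?_
  haveI : UniversallyOpen G.hom := inferInstance
  obtain ⟨U, hU, h⟩ := SGA3cLib.NeutralDim.dim_const_of_univOpenAt G s ⊤ trivial
    fun x _ _ => EGA43.DvrCrit.isUnivOpenAt_of_universallyOpen G.hom x
  exact Filter.eventually_of_mem hU h

end Groth.Agent.S3022
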