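import Groth.Statements.S3031
import Groth.Agent.SGA3Word26.Generated

set_option autoImplicit false
set_option linter.style.haveILetI false
set_option backward.isDefEq.respectTransparency.types false
universe u
open CategoryTheory MonoidalCategory CartesianMonoidalCategory MonObj GrpObj AlgebraicGeometry TensorProduct
open SGA3

namespace Groth.Agent.S3031

/-- With X connected and possessing a rational point over the identity, a case of 'geometrically
connected with e ∈ f(X)': let G be a group scheme over a field k, X a connected, geometrically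
reduced k-scheme, x a k-point of X and f : X → G a k-morphism with f(x) the identity. Then the
smallest closed subgroup scheme of G through which f factors is connected. -/
theorem result (k : Type u) [Field k] (G X : Over (Spec (CommRingCat.of k))) [GrpObj G]
    [GeometricallyReduced X.hom] [ConnectedSpace X.left] (x : 𝟙_ (Over (Spec (CommRingCat.of k))) ⟶ X) (f : X ⟶ G)
    (hx : x ≫ f = η[G])
    (Γ : Over (Spec (CommRingCat.of k))) [GrpObj Γ] (i : Γ ⟶ G) [IsMonHom i] [IsClosedImmersion i.left]
    (hf : ∃ f' : X ⟶ Γ, f' ≫ i = f)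
    (hmin : ∀ (Γ' : Over (Spec (CommRingCat.of k))) (_ : GrpObj Γ') (i' : Γ' ⟶ G), IsMonHom i' → IsClosedImmersion i'.left →
        (∃ f'' : X ⟶ Γ', f'' ≫ i' = f) → ∃ j : Γ ⟶ Γ', j ≫ i' = i) :
    ConnectedSpace Γ.left := by
  obtain ⟨H, gH, i₀, hi₀, hci₀, -, -, hrange, hf₀, hmin₀⟩ := SGA3Word26.Gen.exists_smallest f
  obtain ⟨j, hj⟩ := hmin H gH i₀ hi₀ hci₀ hf₀
  obtain ⟨j', hj'⟩ := hmin₀ Γ inferInstance i inferInstance inferInstance hf
  have hr : Set.range i.left.base = closure (AlgGrpLib.Generated.productPoints (SGA3Word26.Gen.sym f)) := by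
    rw [← hrange]
    apply Set.Subset.antisymm
    · rintro _ ⟨z, rfl⟩; exact ⟨j.left z, by rw [← hj]; rfl⟩
    · rintro _ ⟨z, rfl⟩; exact ⟨j'.left z, by rw [← hj']; rfl⟩
  have : Nonempty ↥(Spec (CommRingCat.of k)) := inferInstance
  obtain ⟨t⟩ := this
  let e : G.left := (η[G]).left t
  have hconn : _root_.IsConnected (Set.range i.left.base) := by
    rw [hr]
    refine _root_.IsConnected.closure ⟨⟨e, ?_⟩, isPreconnected_of_forall e fun y hy => ?_⟩
    · exact ⟨𝟙_ (Over (Spec (CommRingCat.of k))), [], t, by rw [List.map_nil, List.prod_nil, Hom.one_def, show toUnit (𝟙_ (Over (Spec (CommRingCat.of k)))) = 𝟙 _ from Subsingleton.elim _ _, Category.id_comp]⟩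
    rw [AlgGrpLib.Generated.productPoints_eq] at hy
    obtain ⟨n, hn⟩ := Set.mem_iUnion.1 hy
    obtain ⟨s, hs, hes, hys, hsc⟩ := SGA3Word26.Gen.exists_preconnected_join f x
      (by rw [hx, Hom.one_def, show toUnit (𝟙_ (Over (Spec (CommRingCat.of k)))) = 𝟙 _ from Subsingleton.elim _ _, Category.id_comp]) e ⟨t, rfl⟩ n y hn
    exact ⟨s, hs, hes, hys, hsc⟩
  haveI := isConnected_iff_connectedSpace.mp hconn
  exact i.left.isClosedEmbedding.isEmbedding.toHomeomorph.symm.surjective.connectedSpace
    i.left.isClosedEmbedding.isEmbedding.toHomeomorph.symm.continuous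

end Groth.Agent.S3031
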