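import Groth.Statements.S3038
import Groth.Agent.SGA3Homog26.OpenHom

set_option autoImplicit false
set_option linter.style.haveILetI false
set_option backward.isDefEq.respectTransparency.types false
universe u
open CategoryTheory MonoidalCategory CartesianMonoidalCategory MonObj GrpObj AlgebraicGeometry TensorProduct
open SGA3

namespace Groth.Agent.S3038

/-- (ii) ⇒ (i): let A be a local artinian ring and u : G → H a homomorphism between group schemes
locally of finite type over A. If the underlying map of u is open, then u is universally open. -/
theorem result (A : Type u) [CommRing A] [IsArtinianRing A] [IsLocalRing A]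
    (G H : Over (Spec (CommRingCat.of A))) [GrpObj G] [GrpObj H] [LocallyOfFiniteType G.hom] [LocallyOfFiniteType H.hom]
    (u : G ⟶ H) [IsMonHom u] (hu : IsOpenMap u.left.base) : UniversallyOpen u.left := by
  let r : Spec (CommRingCat.of (IsLocalRing.ResidueField A)) ⟶ Spec (CommRingCat.of A) :=
    Spec.map (CommRingCat.ofHom (IsLocalRing.residue A))
  haveI : IsClosedImmersion r := IsClosedImmersion.spec_of_surjective _ IsLocalRing.residue_surjective
  haveI : Surjective r := ⟨fun p => ⟨IsLocalRing.closedPoint (IsLocalRing.ResidueField A),
    Subsingleton.elim (α := PrimeSpectrum A) _ _⟩⟩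
  let F := Over.pullback r
  letI : GrpObj (F.obj G) := Functor.grpObjObj
  letI : GrpObj (F.obj H) := Functor.grpObjObj
  haveI : LocallyOfFiniteType (F.obj G).hom := MorphismProperty.pullback_snd (P := @LocallyOfFiniteType) _ _ inferInstance
  haveI : LocallyOfFiniteType (F.obj H).hom := MorphismProperty.pullback_snd (P := @LocallyOfFiniteType) _ _ inferInstance
  have sq := SGA3UnitSec.isPullback_map_left r u
  haveI : IsClosedImmersion (Limits.pullback.fst G.hom r) := MorphismProperty.pullback_fst (P := @IsClosedImmersion) _ _ inferInstance
  haveI : Surjective (Limits.pullback.fst G.hom r) := MorphismProperty.pullback_fst (P := @Surjective) _ _ inferInstance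
  haveI : IsClosedImmersion (Limits.pullback.fst H.hom r) := MorphismProperty.pullback_fst (P := @IsClosedImmersion) _ _ inferInstance
  haveI : Surjective (Limits.pullback.fst H.hom r) := MorphismProperty.pullback_fst (P := @Surjective) _ _ inferInstance
  haveI := Desc19.universallyOpen_of_closedImm_surjective (Limits.pullback.fst G.hom r)
  haveI := Desc19.universallyOpen_of_closedImm_surjective (Limits.pullback.fst H.hom r)
  haveI := SGA3Homog26.universallyOpen_of_isOpenMap_field (F.map u) fun O hO => by
    have h1 := hu _ ((Limits.pullback.fst G.hom r).isOpenMap _ hO)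
    have h2 : (F.map u).left.base '' O =
        (Limits.pullback.fst H.hom r).base ⁻¹' (u.left.base '' ((Limits.pullback.fst G.hom r).base '' O)) := by
      rw [← Set.image_comp, ← TopCat.coe_comp, ← Scheme.Hom.comp_base, sq.w, Scheme.Hom.comp_base, TopCat.coe_comp,
        Set.image_comp, Set.preimage_image_eq _ (Limits.pullback.fst H.hom r).isClosedEmbedding.injective]
    rw [h2]
    exact h1.preimage (Limits.pullback.fst H.hom r).continuous
  haveI : UniversallyOpen (Limits.pullback.fst G.hom r ≫ u.left) := by rw [sq.w]; infer_instance
  exact Desc19.universallyOpen_of_comp_surjective (Limits.pullback.fst G.hom r) u.left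

end Groth.Agent.S3038
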