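import Groth.Statements.S5259
import Groth.Agent.SGA3cLib.GroupCut

set_option autoImplicit false
open CategoryTheory MonoidalCategory CartesianMonoidalCategory MonObj GrpObj AlgebraicGeometry
universe u
open SGA3x

namespace Groth.Agent.S5259

/-- Centralizer: Let G be an S-group locally of finite type and quasi-separated over S, H an S-group
which is smooth and of finite presentation over S with connected fibres, and i : H ⟶ G a
homomorphism which is a monomorphism. Then the centralizer of H in G is representable by a closed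
subgroup scheme of G whose immersion into G is of finite presentation. -/
theorem result {S : Scheme.{u}} (G H : Over S) [GrpObj G] [GrpObj H]
    [LocallyOfFiniteType G.hom] [QuasiSeparated G.hom] [Smooth H.hom] [QuasiCompact H.hom] [QuasiSeparated H.hom]
    (hconn : ∀ s : S, ConnectedSpace ↥(Limits.pullback H.hom (S.fromSpecResidueField s)))
    (i : H ⟶ G) [IsMonHom i] [Mono i] :
    ∃ (Z : Over S) (_ : GrpObj Z) (j : Z ⟶ G), Red.IsCentralizerOf i j ∧ IsClosedImmersion j.left ∧
      LocallyOfFinitePresentation j.left := by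
  classical
  obtain ⟨D, e, _, _, he⟩ := SGA3cLib.GroupLocus.exists_cut_eq
    ((snd H G) * (fst H G ≫ i)) ((fst H G ≫ i) * (snd H G))
  have hmem : ∀ (Y : Over S) (g : Y ⟶ G) (h : Y ⟶ H),
      SGA3cLib.GroupLocus.Mem e h g ↔ Commute g (h ≫ i) := fun Y g h => (he Y _).trans (by
    simp only [MonObj.comp_mul, ← Category.assoc, lift_fst, lift_snd]; exact Iff.rfl)
  obtain ⟨Z, j, hj, hj', hZ⟩ := SGA3cLib.GroupLocus.exists_locus hconn e
    (fun Y g => (hmem _ _ _).2 (by rw [MonObj.one_comp]; exact Commute.one_right g))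
    (fun Y g h h' a b => (hmem _ _ _).2 (by rw [MonObj.mul_comp]; exact ((hmem _ _ _).1 a).mul_right ((hmem _ _ _).1 b)))
    (fun Y g h a => (hmem _ _ _).2 (by rw [GrpObj.inv_comp]; exact ((hmem _ _ _).1 a).inv_right))
  simp only [hmem] at hZ
  haveI : Mono j := (Over.forget S).mono_of_mono_map (inferInstanceAs (Mono j.left))
  have hz : ∀ {T : Over S} (z : T ⟶ Z) (X' : Over S) (x : X' ⟶ T) (h : X' ⟶ H), Commute (x ≫ z ≫ j) (h ≫ i) :=
    fun {T} z => (hZ T (z ≫ j)).1 ⟨z, rfl⟩
  obtain ⟨_, hmon⟩ := SGA3cLib.exists_grpObj_of_subgroup j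
    (fun T => (hZ T 1).2 fun X' x h => by rw [MonObj.comp_one]; exact Commute.one_left _)
    (fun T a b => (hZ T _).2 fun X' x h => by rw [MonObj.comp_mul]; exact (hz a X' x h).mul_left (hz b X' x h))
    (fun T a => (hZ T _).2 fun X' x h => by rw [GrpObj.comp_inv]; exact (hz a X' x h).inv_left)
  exact ⟨Z, inferInstance, j, ⟨hmon, inferInstance, hZ⟩, hj, hj'⟩

end Groth.Agent.S5259
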