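import Groth.Statements.S3043
import Mathlib.AlgebraicGeometry.Morphisms.Affine
import Mathlib.AlgebraicGeometry.Morphisms.Integral
import Mathlib.Topology.Homeomorph.Lemmas

set_option autoImplicit false
universe u
open CategoryTheory MonoidalCategory CartesianMonoidalCategory MonObj GrpObj AlgebraicGeometry TensorProduct
open SGA3

namespace Groth.Agent.S3043

/-- Let π : X → S be a morphism of schemes admitting a section ε (ε followed by π is the identity). If π
is injective on underlying points, then π is an integral morphism. -/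
theorem result (X S : Scheme.{u}) (π : X ⟶ S) (ε : S ⟶ X) (hε : ε ≫ π = 𝟙 S)
    (hinj : Function.Injective π.base) : IsIntegralHom π := by
  have hl : ∀ s, π.base (ε.base s) = s := fun s => by
    change (ε ≫ π).base s = s
    rw [hε]; rfl
  have hr : ∀ x, ε.base (π.base x) = x := fun x => hinj (hl (π.base x))
  let e : X ≃ₜ S :=
    { toFun := π.base
      invFun := ε.base
      left_inv := hr
      right_inv := hl
      continuous_toFun := π.continuous
      continuous_invFun := ε.continuous }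
  haveI : IsAffineHom π := isAffineHom_of_isInducing π e.isInducing
    (by rw [show Set.range π.base = Set.univ from e.surjective.range_eq]; exact isClosed_univ)
  refine ⟨fun U hU a => ?_⟩
  have hV : IsAffineOpen (π ⁻¹ᵁ U) := hU.preimage π
  have hVU : U ≤ ε ⁻¹ᵁ (π ⁻¹ᵁ U) := fun s hs => by
    change π.base (ε.base s) ∈ U
    rw [hl]; exact hs
  have hcomp : (ε ≫ π).appLE U U (fun s hs => hVU hs) = π.app U ≫ ε.appLE (π ⁻¹ᵁ U) U hVU :=
    Scheme.Hom.comp_appLE ε π U U _
  have hid : ∀ r : Γ(S, U), (ε.appLE (π ⁻¹ᵁ U) U hVU).hom ((π.app U).hom r) = r := by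
    intro r
    rw [← CommRingCat.comp_apply, ← hcomp]
    have : ∀ (f : S ⟶ S) (hf : f = 𝟙 S) (h : U ≤ f ⁻¹ᵁ U), (f.appLE U U h).hom r = r := by
      rintro f rfl h
      simp [Scheme.Hom.appLE]
      erw [S.presheaf.map_id]
      rfl
    exact this _ hε _
  set b : Γ(X, π ⁻¹ᵁ U) := a - (π.app U).hom ((ε.appLE (π ⁻¹ᵁ U) U hVU).hom a) with hb
  have hb0 : (ε.appLE (π ⁻¹ᵁ U) U hVU).hom b = 0 := by rw [hb, map_sub, hid, sub_self]
  have hnil : IsNilpotent b := by
    rw [Scheme.isNilpotent_iff_basicOpen_eq_bot_of_isCompact hV.isCompact]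
    rw [eq_bot_iff]
    intro x hx
    have h := Scheme.basicOpen_appLE ε U (π ⁻¹ᵁ U) hVU b
    rw [hb0, Scheme.basicOpen_zero] at h
    have hxU : π.base x ∈ U := X.basicOpen_le b hx
    have : π.base x ∈ U ⊓ ε ⁻¹ᵁ X.basicOpen b := ⟨hxU, by change ε.base (π.base x) ∈ X.basicOpen b; rw [hr]; exact hx⟩
    rw [← h] at this
    exact this
  obtain ⟨k, hk⟩ := hnil
  have h1 : (π.app U).hom.IsIntegralElem b := ⟨Polynomial.X ^ k, Polynomial.monic_X_pow k, by simp [hk]⟩
  have h2 : (π.app U).hom.IsIntegralElem ((π.app U).hom ((ε.appLE (π ⁻¹ᵁ U) U hVU).hom a)) :=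
    RingHom.isIntegralElem_map _
  have h3 := RingHom.IsIntegralElem.add (π.app U).hom h1 h2
  rw [hb, sub_add_cancel] at h3
  exact h3

end Groth.Agent.S3043
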