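import Groth.Statements.S3045
import Mathlib.RingTheory.HopfAlgebra.Convolution

set_option autoImplicit false
universe u
open TensorProduct
open SGA3

namespace Groth.Agent.S3045

open WithConv in
theorem conv3_eq (k : Type u) [CommRing k] (A : Type u) [CommRing A] [HopfAlgebra k A]
    {C : Type u} [CommRing C] [Algebra k C] (f g h : A →ₐ[k] C) :
    toConv (Dyn.conv3 k A f g h) = toConv f * toConv g * toConv h := by
  simp only [AlgHom.convMul_def, Dyn.conv3, WithConv.ofConv_toConv]
  congr 2
  rw [← AlgHom.comp_assoc, ← Algebra.TensorProduct.map_comp]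
  rfl

/-- The linear tangent vector of a point. -/
noncomputable def tl (k : Type u) [CommRing k] (A : Type u) [CommRing A] [HopfAlgebra k A]
    (φ : LieHopf.LiePts k A) : A →ₗ[k] k :=
  (TrivSqZeroExt.sndHom k k).restrictScalars k ∘ₗ φ.1.toLinearMap

/-- Let A be a commutative Hopf algebra over a commutative ring k (the coordinate ring of an affine
group G = Spec A) and φ, ψ two k[ε]-valued points of G reducing to the unit point modulo ε (tangent
vectors at the identity). Then for every a ∈ A the ε-component of the product point φ · ψ at a — the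
product of points being convolution, formed here as the triple convolution of φ, ψ and the unit
point — is the sum of the ε-components of φ(a) and ψ(a): on tangent vectors at the identity the
group law of G induces addition. -/
theorem result (k : Type u) [CommRing k] (A : Type u) [CommRing A] [HopfAlgebra k A]
    (φ ψ : LieHopf.LiePts k A) (a : A) :
    TrivSqZeroExt.snd (Dyn.conv3 k A φ.1 ψ.1 ((Algebra.ofId k (DualNumber k)).comp (Bialgebra.counitAlgHom k A)) a) =
      LieHopf.LiePts.tangent k A φ a + LieHopf.LiePts.tangent k A ψ a := by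
  have h3 := conv3_eq k A φ.1 ψ.1 ((Algebra.ofId k (DualNumber k)).comp (Bialgebra.counitAlgHom k A))
  rw [← AlgHom.convOne_def] at h3
  replace h3 := h3.trans (mul_one (WithConv.toConv φ.1 * WithConv.toConv ψ.1))
  rw [WithConv.toConv_injective h3 |> congrArg (· a)]
  let 𝓡 := Coalgebra.Repr.arbitrary k a
  have hsum : (WithConv.toConv φ.1 * WithConv.toConv ψ.1) a =
      ∑ i ∈ 𝓡.index, φ.1 (𝓡.left i) * ψ.1 (𝓡.right i) := by
    rw [AlgHom.convMul_apply, ← 𝓡.eq, map_sum]
    simp
  erw [hsum]
  rw [TrivSqZeroExt.snd_sum]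
  simp only [TrivSqZeroExt.snd_mul, φ.2, ψ.2, smul_eq_mul, MulOpposite.smul_eq_mul_unop,
    MulOpposite.unop_op]
  rw [Finset.sum_add_distrib, add_comm]
  have hr : ∑ i ∈ 𝓡.index, Coalgebra.counit (R := k) (𝓡.right i) • 𝓡.left i = a := by
    have := congrArg (TensorProduct.rid k A) (Coalgebra.sum_tmul_counit_eq 𝓡)
    rw [map_sum] at this
    simpa [-Coalgebra.sum_tmul_counit_eq] using this
  have hl := Coalgebra.sum_counit_smul 𝓡
  have e1 : LieHopf.LiePts.tangent k A φ a = tl k A φ a := rfl
  have e2 : LieHopf.LiePts.tangent k A ψ a = tl k A ψ a := rfl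
  rw [e1, e2]
  congr 1
  · refine Eq.trans ?_ (congrArg (tl k A φ) hr)
    simp [tl, mul_comm]
  · refine Eq.trans ?_ (congrArg (tl k A ψ) hl)
    simp [tl]

end Groth.Agent.S3045
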