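import Groth.Statements.S3046
import Mathlib.RingTheory.HopfAlgebra.Convolution
import Mathlib.Tactic.NoncommRing

set_option autoImplicit false
universe u
open TensorProduct
open SGA3

namespace Groth.Agent.S3046

open WithConv in
theorem conv3_eq (k : Type u) [CommRing k] (A : Type u) [CommRing A] [HopfAlgebra k A]
    {C : Type u} [CommRing C] [Algebra k C] (f g h : A →ₐ[k] C) :
    toConv (Dyn.conv3 k A f g h) = toConv f * toConv g * toConv h := by
  simp only [AlgHom.convMul_def, Dyn.conv3, WithConv.ofConv_toConv]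
  congr 2
  rw [← AlgHom.comp_assoc, ← Algebra.TensorProduct.map_comp]
  rfl

theorem commutator_one_add {W : Type u} [Ring W] {u v : W} (hu : u * u = 0) (hv : v * v = 0)
    (huvu : u * (v * u) = 0) (hvuv : v * (u * v) = 0) :
    (1 + u) * (1 + v) * (1 - u) * (1 - v) = 1 + (u * v - v * u) := by
  have h1 : ∀ x, u * (u * x) = 0 := fun x => by rw [← mul_assoc, hu, zero_mul]
  have h2 : ∀ x, v * (v * x) = 0 := fun x => by rw [← mul_assoc, hv, zero_mul]
  have h3 : ∀ x, u * (v * (u * x)) = 0 := fun x => by
    rw [← mul_assoc v, ← mul_assoc u, huvu, zero_mul]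
  have h4 : ∀ x, v * (u * (v * x)) = 0 := fun x => by
    rw [← mul_assoc u, ← mul_assoc v, hvuv, zero_mul]
  simp only [add_mul, mul_add, sub_mul, mul_sub, mul_assoc, one_mul, mul_one, hu, hv, huvu, hvuv,
    h1, h2, h3, h4, mul_zero, zero_mul]
  abel

/-- Let A be a commutative Hopf algebra over a commutative ring k, D and E two ε-derivations A → k
(tangent vectors at the identity of G = Spec A), R a commutative k-algebra and t, t' ∈ R with t² = 0
= t'². Let x = e + tD and y = e + t'E be the corresponding R-points of G. Then the commutator x y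
x⁻¹ y⁻¹ (product of points; the inverse of a point is its composite with the antipode) is the point
a ↦ ε(a) + [D, E](a) · t t', where [D, E] = D ⋆ E − E ⋆ D is the convolution commutator. -/
theorem result (k : Type u) [CommRing k] (A : Type u) [CommRing A] [HopfAlgebra k A]
    (D E : LieHopf.Lie k A) (R : Type u) [CommRing R] [Algebra k R] (t t' : R) (ht : t * t = 0) (ht' : t' * t' = 0)
    (a : A) :
    Dyn.conv3 k A
        (Dyn.conv3 k A (LieHopf.ptOfLie D R t ht) (LieHopf.ptOfLie E R t' ht')
          ((LieHopf.ptOfLie D R t ht).comp (HopfAlgebra.antipodeAlgHom k A)))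
        ((LieHopf.ptOfLie E R t' ht').comp (HopfAlgebra.antipodeAlgHom k A))
        ((Algebra.ofId k R).comp (Bialgebra.counitAlgHom k A)) a =
      algebraMap k R (Bialgebra.counitAlgHom k A a) + algebraMap k R (LieHopf.bracketLin D E a) * (t * t') := by
  let u : WithConv (A →ₗ[k] R) := t • WithConv.toConv ((Algebra.linearMap k R) ∘ₗ LieHopf.dlin D)
  let v : WithConv (A →ₗ[k] R) := t' • WithConv.toConv ((Algebra.linearMap k R) ∘ₗ LieHopf.dlin E)
  have hP : WithConv.toConv (LieHopf.ptOfLie D R t ht).toLinearMap = 1 + u := by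
    apply WithConv.ext; apply LinearMap.ext; intro b
    simp [u, LieHopf.ptOfLie, mul_comm]
  have hQ : WithConv.toConv (LieHopf.ptOfLie E R t' ht').toLinearMap = 1 + v := by
    apply WithConv.ext; apply LinearMap.ext; intro b
    simp [v, LieHopf.ptOfLie, mul_comm]
  have hu : u * u = 0 := by simp [u, smul_smul, ht]
  have hv : v * v = 0 := by simp [v, smul_smul, ht']
  have huvu : u * (v * u) = 0 := by
    simp only [u, v, mul_smul_comm, smul_mul_assoc, smul_smul]
    rw [show t * t' * t = (t * t) * t' by ring, ht, zero_mul, zero_smul]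
  have hvuv : v * (u * v) = 0 := by
    simp only [u, v, mul_smul_comm, smul_mul_assoc, smul_smul]
    rw [show t' * t * t' = (t' * t') * t by ring, ht', zero_mul, zero_smul]
  have hinv : ∀ (f : A →ₐ[k] R) (w : WithConv (A →ₗ[k] R)), WithConv.toConv f.toLinearMap = 1 + w →
      w * w = 0 →
      WithConv.toConv (f.comp (HopfAlgebra.antipodeAlgHom k A)).toLinearMap = 1 - w := by
    intro f w hf hw
    have h1 : WithConv.toConv (f.comp (HopfAlgebra.antipodeAlgHom k A)).toLinearMap *
        WithConv.toConv f.toLinearMap = 1 := by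
      rw [AlgHom.comp_toLinearMap, HopfAlgebra.toLinearMap_antipodeAlgHom]
      have := congrArg (fun x : WithConv (A →ₗ[k] A) => WithConv.toConv (f.toLinearMap ∘ₗ x.ofConv))
        (LinearMap.antipode_mul_id (R := k) (C := A))
      simp only [LinearMap.algHom_comp_convMul_distrib, WithConv.ofConv_toConv, WithConv.toConv_ofConv,
        LinearMap.comp_id] at this
      rw [this]
      ext b
      simp
    rw [hf] at h1
    calc _ = WithConv.toConv (f.comp (HopfAlgebra.antipodeAlgHom k A)).toLinearMap *
          ((1 + w) * (1 - w)) := by rw [add_mul, mul_sub, mul_sub, hw]; simp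
      _ = 1 - w := by rw [← mul_assoc, h1, one_mul]
  set P := LieHopf.ptOfLie D R t ht
  set Q := LieHopf.ptOfLie E R t' ht'
  have h3 := conv3_eq k A (Dyn.conv3 k A P Q (P.comp (HopfAlgebra.antipodeAlgHom k A)))
    (Q.comp (HopfAlgebra.antipodeAlgHom k A)) ((Algebra.ofId k R).comp (Bialgebra.counitAlgHom k A))
  rw [conv3_eq k A P Q (P.comp (HopfAlgebra.antipodeAlgHom k A)), ← AlgHom.convOne_def] at h3
  replace h3 := h3.trans (mul_one _)
  have h4 := congrArg (fun x : WithConv (A →ₐ[k] R) => WithConv.toConv x.ofConv.toLinearMap) h3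
  simp only [AlgHom.toLinearMap_convMul, WithConv.ofConv_toConv] at h4
  rw [hP, hQ, hinv P u hP hu, hinv Q v hQ hv, commutator_one_add hu hv huvu hvuv] at h4
  have h5 := congrArg (fun x : WithConv (A →ₗ[k] R) => x a) h4
  have h6 : u * v - v * u = (t * t') •
      WithConv.toConv ((Algebra.linearMap k R) ∘ₗ LieHopf.bracketLin D E) := by
    have hc : ∀ d e : A →ₗ[k] k, WithConv.toConv ((Algebra.linearMap k R) ∘ₗ d) *
        WithConv.toConv ((Algebra.linearMap k R) ∘ₗ e) =
        WithConv.toConv ((Algebra.linearMap k R) ∘ₗ LieHopf.conv d e) := by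
      intro d e
      exact (WithConv.ext (LinearMap.algHom_comp_convMul_distrib (Algebra.ofId k R)
        (WithConv.toConv d) (WithConv.toConv e))).symm
    simp only [u, v, mul_smul_comm, smul_mul_assoc, smul_smul, hc, mul_comm t' t, ← smul_sub]
    rw [← WithConv.toConv_sub, ← LinearMap.comp_sub]
    rfl
  rw [h6] at h5
  simpa [mul_comm] using h5

end Groth.Agent.S3046
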