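import Mathlib.CategoryTheory.Sites.Point.Conservative
import Mathlib.CategoryTheory.Sites.Sieves
import Mathlib.CategoryTheory.Limits.Shapes.FiniteLimits
import Groth.Agent.Et18.Deligne

set_option autoImplicit false
namespace CategoryTheory
end CategoryTheory
namespace CategoryTheory.Limits
end CategoryTheory.Limits
namespace Opposite
end Opposite
open CategoryTheory CategoryTheory.Limits Opposite
universe u
namespace ToposFin
end ToposFin
open ToposFin

namespace Groth.Agent.S3053

/-- Let C be a small category with finite limits and J a Grothendieck topology on C such that every
covering sieve of every object contains finitely many arrows which already generate a covering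
sieve. Then the site (C, J) has enough points: there is a small conservative family of points of its
topos of sheaves. The published statement is for locally coherent topoi and reduces to this case. -/
theorem result (C : Type u) [SmallCategory C] [HasFiniteLimits C]
    (J : GrothendieckTopology C)
    (hJ : ∀ (U : C) (S : Sieve U), S ∈ J U →
      ∃ (n : ℕ) (V : Fin n → C) (g : ∀ k, V k ⟶ U), (∀ k, S (g k)) ∧ Sieve.ofArrows V g ∈ J U) :
    GrothendieckTopology.HasEnoughPoints.{u} J := by
  refine Groth.Agent.Et18.Deligne.hasEnoughPoints (A := fun _ => True) (J := J)
    { exists_pullback := fun X Y Z f g _ _ _ => ⟨pullback f g, pullback.fst f g, pullback.snd f g, trivial, IsPullback.of_hasPullback f g⟩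
      exists_finite := fun X R _ hR => ?_
      exists_mem := fun X R hR => ⟨X, 𝟙 X, trivial, by rwa [Sieve.pullback_id]⟩ }
  obtain ⟨n, V, g, hg, hcov⟩ := hJ X R hR
  exact ⟨n, V, g, fun _ => trivial, hg, hcov⟩

end Groth.Agent.S3053
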