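import Groth.Prelude.Def_SGA4c
import Mathlib.CategoryTheory.Limits.Filtered
import Mathlib.CategoryTheory.Limits.Types.Filtered
import Groth.Agent.ToposFinLib.Criteria

set_option autoImplicit false
namespace CategoryTheory
end CategoryTheory
namespace CategoryTheory.Limits
end CategoryTheory.Limits
namespace Opposite
end Opposite
open CategoryTheory CategoryTheory.Limits Opposite
universe u
namespace ToposFin
end ToposFin
open ToposFin

namespace Groth.Agent.S3058

/-- For a topos of sheaves of sets on a small site: the coproduct of a small family of objects is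
quasi-compact if and only if every member is quasi-compact and all but finitely many members are
initial (empty) objects. -/
theorem result {C : Type u} [SmallCategory C] {J : GrothendieckTopology C} {ι : Type u}
    (F : ι → ToposFin.Sh J) :
    ToposFin.IsQC (∐ F) ↔ (∀ i, ToposFin.IsQC (F i)) ∧ {i | IsEmpty (F i ≅ ⊥_ (ToposFin.Sh J))}.Finite := by
  have h := Groth.Agent.ToposFinLib.DisjCover.of_isColimit (Cofan.mk _ (Sigma.ι F)) (coproductIsCoproduct F)
  have key : ∀ i, ¬ Nonempty (IsInitial (F i)) ↔ IsEmpty (F i ≅ ⊥_ (ToposFin.Sh J)) := fun i =>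
    ⟨fun hi => ⟨fun e => hi ⟨initialIsInitial.ofIso e.symm⟩⟩, fun hi ⟨t⟩ => hi.false (t.uniqueUpToIso initialIsInitial)⟩
  rw [show {i | IsEmpty (F i ≅ ⊥_ (ToposFin.Sh J))} = {i | ¬ Nonempty (IsInitial (F i))} from
    Set.ext fun i => (key i).symm]
  exact h.isQC_iff

end Groth.Agent.S3058
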