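import Groth.Prelude.Def_SGA4c
import Mathlib.CategoryTheory.Limits.Filtered
import Mathlib.CategoryTheory.Limits.Types.Filtered
import Groth.Agent.ToposFinLib.Criteria

set_option autoImplicit false
namespace CategoryTheory
end CategoryTheory
namespace CategoryTheory.Limits
end CategoryTheory.Limits
namespace Opposite
end Opposite
open CategoryTheory CategoryTheory.Limits Opposite
universe u
namespace ToposFin
end ToposFin
open ToposFin

namespace Groth.Agent.S3063

/-- For a topos of sheaves of sets on a small site: suppose given a family of quasi-compact objects G_a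
which is generating (every object receives a jointly epimorphic family from the G_a). Then f : X ->
Y is quasi-compact if and only if X x_Y G_a is quasi-compact for every a and every morphism G_a ->
Y. -/
theorem result {C : Type u} [SmallCategory C] {J : GrothendieckTopology C} {α : Type u} (G : α → ToposFin.Sh J)
    (hG : ∀ a, ToposFin.IsQC (G a))
    (hgen : ∀ X : ToposFin.Sh J, ∃ (ι : Type u) (a : ι → α) (π : ∀ i, G (a i) ⟶ X), Epi (Sigma.desc π))
    {X Y : ToposFin.Sh J} (f : X ⟶ Y) :
    ToposFin.IsQCHom f ↔ ∀ (a : α) (s : G a ⟶ Y), ToposFin.IsQC (pullback f s) := by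
  refine ⟨fun h a s => h (G a) s (hG a), fun h Y' g hY' => ?_⟩
  obtain ⟨n, W, w, hw, hW⟩ := Groth.Agent.ToposFinLib.exists_fin_cover' (Groth.Agent.ToposFinLib.gen_of_family hgen) hY'
  refine Groth.Agent.ToposFinLib.isQC_of_efam (hw.pullback_fst (pullback.snd f g)) fun k => ?_
  obtain ⟨a, ha⟩ := hW k
  have := h a (eqToHom ha.symm ≫ w k ≫ g)
  have hp : IsPullback (pullback.fst (pullback.snd f g) (w k) ≫ pullback.fst f g)
      (pullback.snd (pullback.snd f g) (w k)) f (w k ≫ g) :=
    ((IsPullback.of_hasPullback _ _).flip.paste_vert (IsPullback.of_hasPullback f g).flip).flip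
  refine Groth.Agent.ToposFinLib.isQC_of_iso ?_ this
  exact asIso (pullback.map f (eqToHom ha.symm ≫ w k ≫ g) f (w k ≫ g) (𝟙 X) (eqToHom ha.symm) (𝟙 Y) (by simp) (by simp)) ≪≫
    hp.isoPullback.symm

end Groth.Agent.S3063
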