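import Groth.Prelude.Def_SGA4c
import Mathlib.CategoryTheory.Limits.Filtered
import Mathlib.CategoryTheory.Limits.Types.Filtered
import Groth.Agent.ToposFinLib.Criteria

set_option autoImplicit false
namespace CategoryTheory
end CategoryTheory
namespace CategoryTheory.Limits
end CategoryTheory.Limits
namespace Opposite
end Opposite
open CategoryTheory CategoryTheory.Limits Opposite
universe u
namespace ToposFin
end ToposFin
open ToposFin

namespace Groth.Agent.S3064

/-- For a topos of sheaves of sets on a small site admitting a generating family of quasi-compact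
objects: for a jointly epimorphic family (Y_i -> Y), a morphism f : X -> Y is quasi-compact (resp.
quasi-separated) if and only if all its base changes X x_Y Y_i -> Y_i are. -/
theorem result {C : Type u} [SmallCategory C] {J : GrothendieckTopology C} (hE : ToposFin.HasQCGenerators J) {X Y : ToposFin.Sh J}
    (f : X ⟶ Y) {ι : Type u} (Yi : ι → ToposFin.Sh J) (g : ∀ i, Yi i ⟶ Y) (hg : Epi (Sigma.desc g)) :
    (ToposFin.IsQCHom f ↔ ∀ i, ToposFin.IsQCHom (pullback.snd f (g i))) ∧
    (ToposFin.IsQSHom f ↔ ∀ i, ToposFin.IsQSHom (pullback.snd f (g i))) := by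
  have hE' := Groth.Agent.ToposFinLib.gen_of_hasQCGenerators hE
  have hg' := (Groth.Agent.ToposFinLib.epi_desc_iff g).1 hg
  constructor
  · exact ⟨fun h i => MorphismProperty.pullback_snd (P := Groth.Agent.ToposFinLib.qc) f (g i) h,
      fun h => Groth.Agent.ToposFinLib.qc_of_cover (hg'.refinable hE') (fun i => IsPullback.of_hasPullback f (g i)) h⟩
  · exact ⟨fun h i => MorphismProperty.pullback_snd (P := Groth.Agent.ToposFinLib.qs) f (g i) h,
      fun h => Groth.Agent.ToposFinLib.qs_of_cover hE' hg' (fun i => IsPullback.of_hasPullback f (g i)) h⟩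

end Groth.Agent.S3064
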