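import Groth.Prelude.Def_SGA4c
import Mathlib.CategoryTheory.Limits.Filtered
import Mathlib.CategoryTheory.Limits.Types.Filtered
import Groth.Agent.ToposFinLib.Criteria

set_option autoImplicit false
namespace CategoryTheory
end CategoryTheory
namespace CategoryTheory.Limits
end CategoryTheory.Limits
namespace Opposite
end Opposite
open CategoryTheory CategoryTheory.Limits Opposite
universe u
namespace ToposFin
end ToposFin
open ToposFin

namespace Groth.Agent.S3065

/-- For a topos of sheaves of sets on a small site: let g : Y -> Z and let (f_k : X_k -> Y) be a finite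
jointly epimorphic family. If every composite g o f_k : X_k -> Z is quasi-compact, then g is
quasi-compact. -/
theorem result {C : Type u} [SmallCategory C] {J : GrothendieckTopology C} {Y Z : ToposFin.Sh J} (g : Y ⟶ Z) {n : ℕ}
    (X : Fin n → ToposFin.Sh J) (f : ∀ k, X k ⟶ Y) (hf : Epi (Sigma.desc f))
    (h : ∀ k, ToposFin.IsQCHom (f k ≫ g)) : ToposFin.IsQCHom g := by
  intro Z' t hZ'
  have hf' := (Groth.Agent.ToposFinLib.epi_desc_iff f).1 hf
  refine Groth.Agent.ToposFinLib.isQC_of_efam (hf'.pullback_fst (pullback.fst g t)) fun k => ?_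
  refine Groth.Agent.ToposFinLib.isQC_of_iso ?_ (h k Z' t hZ')
  exact ((IsPullback.of_hasPullback (pullback.fst g t) (f k)).flip.paste_vert
      (IsPullback.of_hasPullback g t)).isoPullback.symm

end Groth.Agent.S3065
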