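import Groth.Prelude.Def_SGA4c
import Mathlib.CategoryTheory.Limits.Filtered
import Mathlib.CategoryTheory.Limits.Types.Filtered
import Groth.Agent.ToposFinLib.Criteria

set_option autoImplicit false
namespace CategoryTheory
end CategoryTheory
namespace CategoryTheory.Limits
end CategoryTheory.Limits
namespace Opposite
end Opposite
open CategoryTheory CategoryTheory.Limits Opposite
universe u
namespace ToposFin
end ToposFin
open ToposFin

namespace Groth.Agent.S3068

/-- For a topos of sheaves of sets on a small site: given a generating family of quasi-compact objects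
G_a, an object Y is quasi-separated if and only if every morphism G_a -> Y is quasi-compact. -/
theorem result {C : Type u} [SmallCategory C] {J : GrothendieckTopology C} {α : Type u} (G : α → ToposFin.Sh J) (hG : ∀ a, ToposFin.IsQC (G a))
    (hgen : ∀ X : ToposFin.Sh J, ∃ (ι : Type u) (a : ι → α) (π : ∀ i, G (a i) ⟶ X), Epi (Sigma.desc π))
    (Y : ToposFin.Sh J) :
    ToposFin.IsQS Y ↔ ∀ (a : α) (s : G a ⟶ Y), ToposFin.IsQCHom s := by
  refine ⟨fun h a s => Groth.Agent.ToposFinLib.qc_of_isQS s (hG a) h, fun h => ?_⟩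
  intro A B a b hA hB
  obtain ⟨n, W, w, hw, hW⟩ := Groth.Agent.ToposFinLib.exists_fin_cover' (Groth.Agent.ToposFinLib.gen_of_family hgen) hA
  refine Groth.Agent.ToposFinLib.isQC_of_efam (hw.pullback_fst (pullback.fst a b)) fun k => ?_
  obtain ⟨i, hi⟩ := hW k
  have := h i (eqToHom hi.symm ≫ w k ≫ a) B b hB
  refine Groth.Agent.ToposFinLib.isQC_of_iso ?_ this
  exact asIso (pullback.map (eqToHom hi.symm ≫ w k ≫ a) b (w k ≫ a) b (eqToHom hi.symm) (𝟙 B) (𝟙 Y) (by simp) (by simp)) ≪≫
    (((IsPullback.of_hasPullback (pullback.fst a b) (w k)).flip.paste_vert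
      (IsPullback.of_hasPullback a b))).isoPullback.symm

end Groth.Agent.S3068
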