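import Groth.Prelude.Def_SGA4c
import Mathlib.CategoryTheory.Limits.Filtered
import Mathlib.CategoryTheory.Limits.Types.Filtered
import Groth.Agent.ToposFinLib.Criteria

set_option autoImplicit false
namespace CategoryTheory
end CategoryTheory
namespace CategoryTheory.Limits
end CategoryTheory.Limits
namespace Opposite
end Opposite
open CategoryTheory CategoryTheory.Limits Opposite
universe u
namespace ToposFin
end ToposFin
open ToposFin

namespace Groth.Agent.S3071

/-- Implication (ii bis) => (i bis), for a topos of sheaves of sets on a small site: suppose given a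
generating family of coherent objects G_a such that every product G_a x G_b is quasi-separated. Then
for every morphism f : X -> Y with X quasi-separated, f is quasi-separated. -/
theorem result {C : Type u} [SmallCategory C] {J : GrothendieckTopology C} {α : Type u} (G : α → ToposFin.Sh J)
    (hG : ∀ a, ToposFin.IsCoherent (G a))
    (hgen : ∀ X : ToposFin.Sh J, ∃ (ι : Type u) (a : ι → α) (π : ∀ i, G (a i) ⟶ X), Epi (Sigma.desc π))
    (hprod : ∀ a b, ToposFin.IsQS (G a ⨯ G b)) {X Y : ToposFin.Sh J} (f : X ⟶ Y) (hX : ToposFin.IsQS X) :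
    ToposFin.IsQSHom f := by
  refine Groth.Agent.ToposFinLib.qs_of_isQS_of_prod (Groth.Agent.ToposFinLib.gen_of_family hgen) ?_ ?_ f hX
  · rintro _ ⟨a, rfl⟩
    exact (hG a).1
  · rintro _ _ ⟨a, rfl⟩ ⟨b, rfl⟩
    exact hprod a b

end Groth.Agent.S3071
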