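import Groth.Prelude.Def_SGA4c
import Mathlib.CategoryTheory.Limits.Filtered
import Mathlib.CategoryTheory.Limits.Types.Filtered
import Groth.Agent.ToposFinLib.Presentation

set_option autoImplicit false
namespace CategoryTheory
end CategoryTheory
namespace CategoryTheory.Limits
end CategoryTheory.Limits
namespace Opposite
end Opposite
open CategoryTheory CategoryTheory.Limits Opposite
universe u
namespace ToposFin
end ToposFin
open ToposFin

namespace Groth.Agent.S3072

/-- For a topos of sheaves of sets on a small site admitting a generating family of coherent objects: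
Hom(X, -) commutes with small filtered colimits if and only if X is a retract (image of an
idempotent) of the coequalizer of some pair of morphisms X_1 => X_0 with X_0 and X_1 coherent. -/
theorem result {C : Type u} [SmallCategory C] {J : GrothendieckTopology C} (hE : ToposFin.HasCoherentGenerators J)
    (X : ToposFin.Sh J) :
    ToposFin.IsFP X ↔ ∃ (X₀ X₁ : ToposFin.Sh J) (a b : X₁ ⟶ X₀) (i : X ⟶ coequalizer a b)
      (p : coequalizer a b ⟶ X), ToposFin.IsCoherent X₀ ∧ ToposFin.IsCoherent X₁ ∧ i ≫ p = 𝟙 X := by
  have hG := Groth.Agent.ToposFinLib.gen_of_hasCoherentGenerators hE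
  refine ⟨fun hX => ?_, fun ⟨X₀, X₁, a, b, i, p, h₀, h₁, hip⟩ =>
    Groth.Agent.ToposFinLib.isFP_of_retract (hG.mono fun _ h => h.1) h₀ h₁.1 a b i p hip⟩
  obtain ⟨pr⟩ := Groth.Agent.ToposFinLib.nonempty_pres hG X
  obtain ⟨q, i, r, hir⟩ := pr.exists_retract hX
  exact ⟨_, _, pr.relFst q, pr.relSnd q, i, r,
    Groth.Agent.ToposFinLib.isCoherent_sigma _ fun j => pr.hG j.1,
    Groth.Agent.ToposFinLib.isCoherent_sigma _ fun j => pr.hT j.1, hir⟩

end Groth.Agent.S3072
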