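import Groth.Prelude.Def_SGA4c
import Mathlib.CategoryTheory.Limits.Filtered
import Mathlib.CategoryTheory.Limits.Types.Filtered
import Groth.Agent.ToposFinLib.Criteria

set_option autoImplicit false
namespace CategoryTheory
end CategoryTheory
namespace CategoryTheory.Limits
end CategoryTheory.Limits
namespace Opposite
end Opposite
open CategoryTheory CategoryTheory.Limits Opposite
universe u
namespace ToposFin
end ToposFin
open ToposFin

namespace Groth.Agent.S3074

/-- For a topos of sheaves of sets on a small site: (1) a subobject of a quasi-separated object is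
quasi-separated; (2) the coproduct of a small family (X_i) is quasi-separated if and only if every
X_i is. -/
theorem result {C : Type u} [SmallCategory C] {J : GrothendieckTopology C} :
    (∀ {X Y : ToposFin.Sh J} (i : X ⟶ Y) [Mono i], ToposFin.IsQS Y → ToposFin.IsQS X) ∧
    ∀ {ι : Type u} (F : ι → ToposFin.Sh J), ToposFin.IsQS (∐ F) ↔ ∀ i, ToposFin.IsQS (F i) := by
  refine ⟨fun i _ h => Groth.Agent.ToposFinLib.isQS_of_mono i h, fun {ι} F => ?_⟩
  have h := Groth.Agent.ToposFinLib.DisjCover.of_isColimit (Cofan.mk _ (Sigma.ι F)) (coproductIsCoproduct F)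
  refine ⟨fun hF i => ?_, fun hF => ?_⟩
  · have := h.mono i
    exact Groth.Agent.ToposFinLib.isQS_of_mono ((Cofan.mk _ (Sigma.ι F)).inj i) hF
  · refine Groth.Agent.ToposFinLib.isQS_iff.2 fun A a hA => ?_
    refine Groth.Agent.ToposFinLib.qc_of_cover h.refinable (fun i => IsPullback.of_hasPullback a _) fun i => ?_
    exact Groth.Agent.ToposFinLib.qc_of_isQS _ ((h.pullback_fst a).isQC_component hA i) (hF i)

end Groth.Agent.S3074
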