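import Groth.Prelude.Def_SGA4c
import Mathlib.CategoryTheory.Limits.Filtered
import Mathlib.CategoryTheory.Limits.Types.Filtered
import Groth.Agent.ToposFinLib.Criteria

set_option autoImplicit false
namespace CategoryTheory
end CategoryTheory
namespace CategoryTheory.Limits
end CategoryTheory.Limits
namespace Opposite
end Opposite
open CategoryTheory CategoryTheory.Limits Opposite
universe u
namespace ToposFin
end ToposFin
open ToposFin

namespace Groth.Agent.S3076

/-- For a topos of sheaves of sets on a small site admitting a generating family of quasi-compact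
objects: let g : Y -> Z and let (f_i : X_i -> Y) be a jointly epimorphic family of quasi-compact
morphisms. If every g o f_i is quasi-separated then g is quasi-separated; if moreover the family is
finite and every g o f_i is coherent, then g is coherent. -/
theorem result {C : Type u} [SmallCategory C] {J : GrothendieckTopology C} (hE : ToposFin.HasQCGenerators J) {Y Z : ToposFin.Sh J}
    (g : Y ⟶ Z) :
    (∀ {ι : Type u} (X : ι → ToposFin.Sh J) (f : ∀ i, X i ⟶ Y), Epi (Sigma.desc f) →
      (∀ i, ToposFin.IsQCHom (f i)) → (∀ i, ToposFin.IsQSHom (f i ≫ g)) → ToposFin.IsQSHom g) ∧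
    (∀ {n : ℕ} (X : Fin n → ToposFin.Sh J) (f : ∀ k, X k ⟶ Y), Epi (Sigma.desc f) →
      (∀ k, ToposFin.IsQCHom (f k)) → (∀ k, ToposFin.IsCohHom (f k ≫ g)) → ToposFin.IsCohHom g) := by
  have hE' := Groth.Agent.ToposFinLib.gen_of_hasQCGenerators hE
  have h1 : ∀ {ι : Type u} (X : ι → ToposFin.Sh J) (f : ∀ i, X i ⟶ Y), Groth.Agent.ToposFinLib.EFam f →
      (∀ i, ToposFin.IsQCHom (f i)) → (∀ i, ToposFin.IsQSHom (f i ≫ g)) → ToposFin.IsQSHom g := by
    intro ι X f hf hqc hqs
    refine Groth.Agent.ToposFinLib.qs_of_forall_map hE' hf g fun i j => ?_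
    refine Groth.Agent.ToposFinLib.qc_of_comp (g := pullback.snd (f i ≫ g) (f j ≫ g))
      (MorphismProperty.pullback_snd (P := Groth.Agent.ToposFinLib.qs) _ _ (hqs i)) ?_
    simp only [pullback.map, pullback.lift_snd, Category.comp_id]
    exact MorphismProperty.pullback_snd (P := Groth.Agent.ToposFinLib.qc) _ _ (hqc i)
  refine ⟨fun {ι} X f hf => h1 X f ((Groth.Agent.ToposFinLib.epi_desc_iff f).1 hf), fun {n} X f hf hqc hcoh => ⟨?_, ?_⟩⟩
  · intro Z' t hZ'
    refine Groth.Agent.ToposFinLib.isQC_of_efam (((Groth.Agent.ToposFinLib.epi_desc_iff f).1 hf).pullback_fst (pullback.fst g t)) fun k => ?_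
    refine Groth.Agent.ToposFinLib.isQC_of_iso ?_ ((hcoh k).1 Z' t hZ')
    exact ((IsPullback.of_hasPullback (pullback.fst g t) (f k)).flip.paste_vert
      (IsPullback.of_hasPullback g t)).isoPullback.symm
  · exact h1 (fun k : ULift.{u} (Fin n) => X k.down) (fun k => f k.down)
      (((Groth.Agent.ToposFinLib.epi_desc_iff f).1 hf).reindex ULift.down (fun k => ⟨⟨k⟩, rfl⟩))
      (fun k => hqc k.down) fun k => (hcoh k.down).2

end Groth.Agent.S3076
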