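import Groth.Prelude.Def_SGA4a
import Mathlib.CategoryTheory.Limits.Shapes.FiniteLimits
import Groth.Agent.CanonTopos16.Limits
import Mathlib.CategoryTheory.Limits.Preserves.Opposites
import Mathlib.CategoryTheory.Limits.Presheaf
import Mathlib.CategoryTheory.Adjunction.Restrict

set_option autoImplicit false
universe v u
namespace CategoryTheory
end CategoryTheory
open CategoryTheory
namespace SGA4
end SGA4
open SGA4

namespace Groth.Agent.S3080

open CategoryTheory.Limits Opposite CanonTopos16

variable {C D : Type u} [SmallCategory C] [SmallCategory D]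
    {J : GrothendieckTopology C} {K : GrothendieckTopology D} (f : Sheaf J (Type u) ⥤ Sheaf K (Type u))

lemma locSurj_map (hf : SGA4.PreservesEpiFamilies.{u + 1, u + 1, u} f) {ι : Type u}
    {X : Sheaf J (Type u)} {G : ι → Sheaf J (Type u)} (φ : ∀ i, G i ⟶ X) (h : LocSurj φ) :
    LocSurj (fun i => f.map (φ i)) :=
  locSurj_of_jointlyEpi _ (hf ι X G φ (jointlyEpi_of_locSurj φ h))

lemma locSurj_pullback {ι : Type u} {X W : Sheaf J (Type u)} {G : ι → Sheaf J (Type u)}
    (φ : ∀ i, G i ⟶ X) (h : LocSurj φ) (g : W ⟶ X) : LocSurj (fun i => pullback.snd (φ i) g) := by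
  intro c z
  refine J.superset_covering ?_ (h c (g.hom.app (op c) z))
  rintro d k ⟨i, y, hy⟩
  have hp := ((IsPullback.of_hasPullback (φ i) g).map (sheafToPresheaf J (Type u))).app (op d)
  obtain ⟨p, -, hp₂⟩ := ((Types.isPullback_iff _ _ _ _).1 hp).2.2 y (W.obj.map k.op z)
    (hy.trans (NatTrans.naturality_apply g.hom k.op z).symm)
  exact ⟨i, p, hp₂⟩

lemma isSheaf_comp [PreservesFiniteLimits f] (hf : SGA4.PreservesEpiFamilies.{u + 1, u + 1, u} f)
    (P : (Sheaf K (Type u))ᵒᵖ ⥤ Type u) [PreservesLimitsOfSize.{u, u} P] :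
    Presieve.IsSheaf (Sheaf.canonicalTopology (Sheaf J (Type u))) (f.op ⋙ P) := by
  intro X S hS x hx
  obtain ⟨ι, c, φ, hφS, hφ⟩ := exists_locSurj_of_mem_canonical hS
  have hφ' := locSurj_map f hf φ hφ
  obtain ⟨t, ht⟩ := glue P _ hφ' (fun i => x (φ i) (hφS i)) (fun W i j a b e => by
    let l := ((IsPullback.of_hasPullback (φ i) (φ j)).map f).lift a b e
    have e₁ : l ≫ f.map (pullback.fst (φ i) (φ j)) = a := IsPullback.lift_fst _ _ _ _
    have e₂ : l ≫ f.map (pullback.snd (φ i) (φ j)) = b := IsPullback.lift_snd _ _ _ _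
    rw [← e₁, ← e₂, op_comp, op_comp, Functor.map_comp_apply, Functor.map_comp_apply]
    exact congrArg (P.map l.op) (hx _ _ (hφS i) (hφS j) pullback.condition))
  refine ⟨t, fun W g hg => ?_, fun t' ht' =>
    separated P _ hφ' fun i => (ht' _ (hφS i)).trans (ht i).symm⟩
  refine separated P _ (locSurj_map f hf _ (locSurj_pullback φ hφ g)) fun i => ?_
  have e := hx (pullback.fst (φ i) g) (pullback.snd (φ i) g) (hφS i) hg pullback.condition
  refine Eq.trans ?_ e
  rw [← ht i]
  change P.map _ (P.map (f.map g).op t) = P.map (f.map (pullback.fst (φ i) g)).op (P.map (f.map (φ i)).op t)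
  rw [← Functor.map_comp_apply, ← Functor.map_comp_apply, ← op_comp, ← op_comp, ← f.map_comp,
    ← f.map_comp, pullback.condition]

lemma isLeftAdjoint_of_colimits [PreservesColimitsOfSize.{u, u} f] : f.IsLeftAdjoint := by
  let a := presheafToSheaf J (Type u)
  let adj := sheafificationAdjunction J (Type u)
  haveI : PreservesColimitsOfSize.{u, u} a := adj.leftAdjoint_preservesColimits
  haveI : PreservesColimitsOfSize.{u, u} (a ⋙ f) := comp_preservesColimits _ _
  haveI : (a ⋙ f).IsLeftAdjoint := Presheaf.isLeftAdjoint_of_preservesColimits.{u} (C := Cᵒᵖ) (a ⋙ f)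
  let adjL := Adjunction.ofIsLeftAdjoint (a ⋙ f)
  let R := (a ⋙ f).rightAdjoint
  have hR : ∀ Z, Presheaf.IsSheaf J (R.obj Z) := fun Z => by
    haveI hη : IsIso (a.map (toSheafify J (R.obj Z))) := by
      have : J.W (toSheafify J (R.obj Z)) := J.W_toSheafify _
      rwa [J.W_iff] at this
    haveI : IsIso ((a ⋙ f).map (toSheafify J (R.obj Z))) :=
      inferInstanceAs (IsIso (f.map (a.map (toSheafify J (R.obj Z)))))
    let r : sheafify J (R.obj Z) ⟶ R.obj Z :=
      adjL.homEquiv _ _ (inv ((a ⋙ f).map (toSheafify J (R.obj Z))) ≫ adjL.counit.app Z)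
    have h1 : toSheafify J (R.obj Z) ≫ r = 𝟙 _ := by
      refine (adjL.homEquiv _ _).symm.injective ?_
      rw [Adjunction.homEquiv_naturality_left_symm, Equiv.symm_apply_apply]
      rw [IsIso.hom_inv_id_assoc, Adjunction.homEquiv_counit, CategoryTheory.Functor.map_id]
      exact (Category.id_comp _).symm
    have h2 : r ≫ toSheafify J (R.obj Z) = 𝟙 _ :=
      sheafify_hom_ext J _ _ ((presheafToSheaf J (Type u)).obj _).property (by
        rw [reassoc_of% h1, Category.comp_id])
    exact (Presheaf.isSheaf_of_iso_iff (Iso.mk r (toSheafify J (R.obj Z)) h2 h1)).1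
      ((presheafToSheaf J (Type u)).obj (R.obj Z)).property
  let R' : Sheaf K (Type u) ⥤ Sheaf J (Type u) := ObjectProperty.lift _ R hR
  exact ⟨R', ⟨adjL.restrictFullyFaithful (fullyFaithfulSheafToPresheaf J (Type u))
    (Functor.FullyFaithful.id (Sheaf K (Type u))) (L := f) (R := R')
    ((Functor.associator _ _ _).symm ≪≫
      Functor.isoWhiskerRight (asIso adj.counit) f ≪≫ f.leftUnitor ≪≫ f.rightUnitor.symm)
    (Functor.leftUnitor _ ≪≫ (Iso.refl _ : R ≅ R' ⋙ sheafToPresheaf J (Type u)))⟩⟩

open CategoryTheory.Limits in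
/-- Let (C, J) and (D, K) be small sites and f a functor from sheaves of sets on (C, J) to sheaves of
sets on (D, K) which preserves finite limits and sends u-small jointly epimorphic families to
jointly epimorphic families. Then f is a left adjoint (so it is the inverse-image functor of a
morphism of topoi) and f preserves all u-small colimits. -/
theorem result {C D : Type u} [SmallCategory C] [SmallCategory D]
    (J : GrothendieckTopology C) (K : GrothendieckTopology D) (f : Sheaf J (Type u) ⥤ Sheaf K (Type u))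
    [PreservesFiniteLimits f] (hf : SGA4.PreservesEpiFamilies.{u + 1, u + 1, u} f) :
    f.IsLeftAdjoint ∧ PreservesColimitsOfSize.{u, u} f := by
  haveI hc : PreservesColimitsOfSize.{u, u} f := by
    haveI : PreservesLimitsOfSize.{u, u} f.op :=
      (isSheaf_canonical_iff f.op).1 fun e => isSheaf_comp f hf (coyoneda.obj (op e))
    exact preservesColimitsOfSize_of_op f
  exact ⟨isLeftAdjoint_of_colimits f, hc⟩

end Groth.Agent.S3080
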