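import Groth.Prelude.Def_SGA4a
import Mathlib.CategoryTheory.Sites.RegularEpi
import Mathlib.CategoryTheory.Limits.Types.Coproducts
import Mathlib.CategoryTheory.Limits.Types.Pullbacks
import Mathlib.CategoryTheory.Limits.Shapes.Pullback.IsPullback.Basic
import Mathlib.CategoryTheory.Sites.LocallyBijective

set_option autoImplicit false
universe u
namespace CategoryTheory
end CategoryTheory
open CategoryTheory
namespace SGA4
end SGA4
open SGA4

namespace Groth.Agent.S3081

open CategoryTheory.Limits Opposite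

lemma isColimit_discrete_iff {ι : Type u} {F : Discrete ι ⥤ Type u} (c : Cocone F) :
    Nonempty (IsColimit c) ↔
      Function.Bijective (fun p : Σ i : ι, F.obj ⟨i⟩ => c.ι.app ⟨p.1⟩ p.2) := by
  let X : ι → Type u := fun i => F.obj ⟨i⟩
  let e : Discrete.functor X ≅ F := Discrete.natIsoFunctor.symm
  rw [← (IsColimit.precomposeHomEquiv e c).nonempty_congr]
  let d : Cofan X := (Cocone.precompose e.hom).obj c
  refine (Cofan.nonempty_isColimit_iff_bijective_fromSigma d).trans ?_
  have : d.cofanTypes.fromSigma = fun p : Σ i : ι, F.obj ⟨i⟩ => c.ι.app ⟨p.1⟩ p.2 := by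
    funext ⟨i, x⟩
    change (e.hom.app ⟨i⟩ ≫ c.ι.app ⟨i⟩) x = c.ι.app ⟨i⟩ x
    simp [e, Discrete.natIsoFunctor]
    rfl
  rw [this]
  exact Iff.rfl

lemma vanKampen_discrete_type {ι : Type u} {F : Discrete ι ⥤ Type u} (c : Cocone F)
    (hc : IsColimit c) : IsVanKampenColimit c := by
  have hb := (isColimit_discrete_iff c).1 ⟨hc⟩
  intro F' c' α f h _
  have w : ∀ i x, f (c'.ι.app i x) = c.ι.app i (α.app i x) := fun i x =>
    (ConcreteCategory.congr_hom (congrArg (fun t => NatTrans.app t i) h) x).symm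
  rw [isColimit_discrete_iff]
  constructor
  · rintro hb' ⟨j⟩
    rw [Types.isPullback_iff]
    refine ⟨(congrArg (fun t => NatTrans.app t (⟨j⟩ : Discrete ι)) h).symm,
      fun x y hxy => ?_, fun x y hxy => ?_⟩
    · exact eq_of_heq (Sigma.mk.inj_iff.1 (hb'.1 (a₁ := ⟨j, x⟩) (a₂ := ⟨j, y⟩) hxy.1)).2
    · obtain ⟨⟨i, a⟩, rfl⟩ := hb'.2 x
      have := hb.1 (a₁ := ⟨i, α.app ⟨i⟩ a⟩) (a₂ := ⟨j, y⟩) ((w _ a).symm.trans hxy)
      obtain rfl : i = j := congrArg Sigma.fst this
      exact ⟨a, rfl, eq_of_heq (Sigma.mk.inj_iff.1 this).2⟩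
  · intro hp
    refine ⟨?_, fun x => ?_⟩
    · rintro ⟨i, a⟩ ⟨j, b⟩ e
      have := hb.1 (a₁ := ⟨i, α.app ⟨i⟩ a⟩) (a₂ := ⟨j, α.app ⟨j⟩ b⟩)
        (((w _ a).symm.trans (congrArg f e)).trans (w _ b))
      obtain rfl : i = j := congrArg Sigma.fst this
      exact Sigma.ext rfl (heq_of_eq (((Types.isPullback_iff _ _ _ _).1 (hp ⟨i⟩)).2.1 a b
        ⟨e, eq_of_heq (Sigma.mk.inj_iff.1 this).2⟩))
    · obtain ⟨⟨i, y⟩, hy⟩ := hb.2 (f x)
      obtain ⟨a, ha, -⟩ := ((Types.isPullback_iff _ _ _ _).1 (hp ⟨i⟩)).2.2 x y hy.symm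
      exact ⟨⟨i, a⟩, ha⟩

variable {C : Type u} [SmallCategory C] (J : GrothendieckTopology C)

lemma coproducts : SGA4.HasDisjointUniversalCoproducts.{u + 1, u} (Sheaf J (Type u)) := by
  intro ι X
  let G : Discrete ι ⥤ Sheaf J (Type u) := Discrete.functor X
  let adj := sheafificationAdjunction J (Type u)
  let c₀ := colimit.cocone (G ⋙ sheafToPresheaf J (Type u))
  have h₀ : IsVanKampenColimit c₀ := isVanKampenColimit_of_evaluation _ c₀ fun x =>
    vanKampen_discrete_type _ (isColimitOfPreserves _ (colimit.isColimit _))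
  have h₁ := (IsVanKampenColimit.map_reflective adj h₀).precompose_isIso
    (Functor.isoWhiskerLeft G (asIso adj.counit) ≪≫ G.rightUnitor).inv
  let c : Cofan X := (Cocone.precompose
    (Functor.isoWhiskerLeft G (asIso adj.counit) ≪≫ G.rightUnitor).inv).obj
      ((presheafToSheaf J (Type u)).mapCocone c₀)
  change IsVanKampenColimit c at h₁
  have hc : IsColimit c := h₁.isColimit
  haveI : ∀ i, Mono (c.inj i) := fun i => mono_of_cofan_isVanKampen h₁ ⟨i⟩
  refine ⟨c, hc, CoproductDisjoint.of_cofan hc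
    (fun {i j} hij => PullbackCone.mk (initial.to (X i)) (initial.to (X j))
      (initialIsInitial.hom_ext _ _))
    (fun {i j} hij => (isPullback_initial_to_of_cofan_isVanKampen h₁ ⟨i⟩ ⟨j⟩
      (fun e => hij (congrArg Discrete.as e))).isLimit)
    (fun {i j} hij => initialIsInitial), h₁.isUniversal⟩

variable {J} in
lemma effective {R A : Sheaf J (Type u)} (p₁ p₂ : R ⟶ A) (h : SGA4.IsEquivRel p₁ p₂) :
    SGA4.IsEffectiveUniversalEquivRel p₁ p₂ := by
  let adj := sheafificationAdjunction J (Type u)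
  let rel : ∀ c : Cᵒᵖ, A.obj.obj c → A.obj.obj c → Prop :=
    fun c a b => ∃ r : R.obj.obj c, p₁.hom.app c r = a ∧ p₂.hom.app c r = b
  have pts : ∀ (F : Sheaf J (Type u)) (c : Cᵒᵖ), Nonempty
      {e : ((presheafToSheaf J (Type u)).obj (yoneda.obj c.unop) ⟶ F) ≃ F.obj.obj c //
        True} := fun F c =>
    ⟨⟨(adj.homEquiv _ _).trans CategoryTheory.yonedaEquiv, trivial⟩⟩
  have key : ∀ c : Cᵒᵖ, (∀ r r' : R.obj.obj c, p₁.hom.app c r = p₁.hom.app c r' →
      p₂.hom.app c r = p₂.hom.app c r' → r = r') ∧ Equivalence (rel c) := by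
    intro c
    let T := (presheafToSheaf J (Type u)).obj (yoneda.obj c.unop)
    let e : ∀ F : Sheaf J (Type u), (T ⟶ F) ≃ F.obj.obj c := fun F =>
      (adj.homEquiv _ _).trans CategoryTheory.yonedaEquiv
    have he : ∀ {F F' : Sheaf J (Type u)} (g : T ⟶ F) (m : F ⟶ F'),
        e F' (g ≫ m) = m.hom.app c (e F g) := fun g m => by
      simp only [e, Equiv.trans_apply, Adjunction.homEquiv_naturality_right]
      exact CategoryTheory.yonedaEquiv_comp _ _
    obtain ⟨hinj, hrefl, hsymm, htrans⟩ := h T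
    have hrel : ∀ a b : T ⟶ A, (∃ f : T ⟶ R, f ≫ p₁ = a ∧ f ≫ p₂ = b) ↔ rel c (e A a) (e A b) := by
      intro a b
      constructor
      · rintro ⟨f, rfl, rfl⟩
        exact ⟨e R f, (he f p₁).symm, (he f p₂).symm⟩
      · rintro ⟨r, h1, h2⟩
        refine ⟨(e R).symm r, (e A).injective ?_, (e A).injective ?_⟩
        · rw [he, Equiv.apply_symm_apply, h1]
        · rw [he, Equiv.apply_symm_apply, h2]
    refine ⟨fun r r' h1 h2 => ?_, fun a => ?_, fun {a b} hab => ?_, fun {a b d} hab hbd => ?_⟩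
    · obtain ⟨g, rfl⟩ := (e R).surjective r
      obtain ⟨g', rfl⟩ := (e R).surjective r'
      rw [← he, ← he] at h1 h2
      exact congrArg (e R) (hinj (Prod.ext ((e A).injective h1) ((e A).injective h2)))
    · obtain ⟨a, rfl⟩ := (e A).surjective a
      exact (hrel a a).1 (hrefl a)
    · obtain ⟨a, rfl⟩ := (e A).surjective a
      obtain ⟨b, rfl⟩ := (e A).surjective b
      exact (hrel b a).1 (hsymm ((hrel a b).2 hab))
    · obtain ⟨a, rfl⟩ := (e A).surjective a
      obtain ⟨b, rfl⟩ := (e A).surjective b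
      obtain ⟨d, rfl⟩ := (e A).surjective d
      exact (hrel a d).1 (htrans ((hrel a b).2 hab) ((hrel b d).2 hbd))
  let Q : Cᵒᵖ ⥤ Type u :=
    { obj := fun c => Quot (rel c)
      map := fun {c d} f => ↾ Quot.map (A.obj.map f) (by
        rintro a b ⟨r, rfl, rfl⟩
        exact ⟨R.obj.map f r, NatTrans.naturality_apply p₁.hom f r, NatTrans.naturality_apply p₂.hom f r⟩)
      map_id := fun c => by
        refine ConcreteCategory.hom_ext _ _ fun x => ?_
        induction x using Quot.ind with
        | mk a => exact congrArg (Quot.mk _) (Functor.map_id_apply A.obj c a)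
      map_comp := fun {c d d'} f g => by
        refine ConcreteCategory.hom_ext _ _ fun x => ?_
        induction x using Quot.ind with
        | mk a => exact congrArg (Quot.mk _) (Functor.map_comp_apply A.obj f g a) }
  let q : A.obj ⟶ Q :=
    { app := fun c => ↾ Quot.mk _
      naturality := fun c d f => rfl }
  have hq : IsPullback p₁.hom p₂.hom q q := by
    refine IsPullback.of_forall_isPullback_app fun c => ?_
    rw [Types.isPullback_iff]
    refine ⟨?_, fun r r' hrr => (key c).1 r r' hrr.1 hrr.2, fun a b hab => ?_⟩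
    · refine ConcreteCategory.hom_ext _ _ fun r => ?_
      exact Quot.sound ⟨r, rfl, rfl⟩
    · exact (key c).2.eqvGen_iff.1 (Quot.eqvGen_exact hab)
  let B := (presheafToSheaf J (Type u)).obj Q
  let π : A ⟶ B := ⟨q ≫ toSheafify J Q⟩
  haveI : Sheaf.IsLocallySurjective π := by
    haveI : Presheaf.IsLocallySurjective J q := Presheaf.isLocallySurjective_of_surjective J q
      (fun c => fun x => by
        induction x using Quot.ind with
        | mk a => exact ⟨a, rfl⟩)
    change Presheaf.IsLocallySurjective J (q ≫ toSheafify J Q)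
    infer_instance
  haveI : Epi π := inferInstance
  have hsq : IsPullback p₁ p₂ π π := by
    have hm := hq.map (presheafToSheaf J (Type u))
    have hπ : (presheafToSheaf J (Type u)).map q = adj.counit.app A ≫ π := by
      refine (adj.homEquiv _ _).injective ?_
      rw [adj.homEquiv_unit, adj.homEquiv_unit]
      refine (adj.unit.naturality q).symm.trans ?_
      rw [Functor.map_comp]
      erw [← Category.assoc, adj.right_triangle_components, Category.id_comp]
      rfl
    refine hm.of_iso (asIso (adj.counit.app R)) (asIso (adj.counit.app A))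
      (asIso (adj.counit.app A)) (Iso.refl _) ?_ ?_ ?_ ?_
    · exact adj.counit.naturality p₁
    · exact adj.counit.naturality p₂
    · simpa using hπ
    · simpa using hπ
  have hdiag : ∃ d : A ⟶ R, d ≫ p₁ = 𝟙 A ∧ d ≫ p₂ = 𝟙 A := (h A).2.refl (𝟙 A)
  obtain ⟨d, hd₁, hd₂⟩ := hdiag
  haveI : IsRegularEpi π := IsRegularEpiCategory.regularEpiOfEpi π
  have hcoeq := isColimitCoforkOfEffectiveEpi π _ hsq.isLimit
  have hpo : IsPushout p₁ p₂ π π := by
    refine ⟨⟨hsq.w⟩, ⟨PushoutCocone.IsColimit.mk hsq.w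
      (fun s => hcoeq.desc (Cofork.ofπ s.inl (by
        have : s.inl = s.inr := by
          simpa [reassoc_of% hd₁, reassoc_of% hd₂] using congrArg (d ≫ ·) s.condition
        exact s.condition.trans (by rw [this]; rfl))))
      (fun s => Cofork.IsColimit.π_desc hcoeq)
      (fun s => ?_) (fun s m h₁ _ => Cofork.IsColimit.hom_ext hcoeq ?_)⟩⟩
    · refine (Cofork.IsColimit.π_desc hcoeq).trans ?_
      simpa [reassoc_of% hd₁, reassoc_of% hd₂] using congrArg (d ≫ ·) s.condition
    · refine h₁.trans ?_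
      symm
      exact Cofork.IsColimit.π_desc hcoeq
  refine ⟨B, π, hsq, hpo, fun B' g => ?_⟩
  haveI : Sheaf.IsLocallySurjective (pullback.snd π g) := by
    have hp := ((IsPullback.of_hasPullback π g).map (sheafToPresheaf J (Type u)))
    refine ⟨fun {U} y => ?_⟩
    refine J.superset_covering ?_ (Presheaf.imageSieve_mem J π.hom (g.hom.app (op U) y))
    rintro V f ⟨a, ha⟩
    obtain ⟨z, -, hz⟩ := ((Types.isPullback_iff _ _ _ _).1 (hp.app (op V))).2.2 a (B'.obj.map f.op y)
      (ha.trans (NatTrans.naturality_apply g.hom f.op y).symm)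
    exact ⟨z, hz⟩
  haveI : Epi (pullback.snd π g) := inferInstance
  haveI : IsRegularEpi (pullback.snd π g) := IsRegularEpiCategory.regularEpiOfEpi _
  infer_instance

open CategoryTheory.Limits in
/-- c): in the category of sheaves of u-small sets on a u-small site, every u-small family has a
coproduct which is disjoint and stable under base change, and every equivalence relation is
effective with universally effective-epimorphic quotient map. -/
theorem result {C : Type u} [SmallCategory C] (J : GrothendieckTopology C) :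
    SGA4.HasDisjointUniversalCoproducts.{u + 1, u} (Sheaf J (Type u)) ∧
    ∀ (R A : Sheaf J (Type u)) (p₁ p₂ : R ⟶ A), SGA4.IsEquivRel p₁ p₂ → SGA4.IsEffectiveUniversalEquivRel p₁ p₂ := by
  exact ⟨coproducts J, fun R A p₁ p₂ h => effective p₁ p₂ h⟩

end Groth.Agent.S3081
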