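import Groth.Prelude.Def_SGA4a
import Mathlib.CategoryTheory.Sites.LocallyBijective

set_option autoImplicit false
universe u
namespace CategoryTheory
end CategoryTheory
open CategoryTheory
namespace SGA4
end SGA4
open SGA4

namespace Groth.Agent.S3082

/-- Let (C, J) be a small site and G a set of objects of C such that each object of C has a covering
family whose members all lie in G. Then the sheafifications of the presheaves represented by the
members of G form a detecting family in the category Sh(C, J) of set-valued sheaves on (C, J): any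
morphism of sheaves that is bijective on sections over each member of G is an isomorphism. -/
theorem result {C : Type u} [SmallCategory C] (J : GrothendieckTopology C) (G : Set C)
    (hG : ∀ X : C, ∃ (ι : Type u) (Y : ι → C) (f : ∀ i, Y i ⟶ X), Sieve.ofArrows Y f ∈ J X ∧ ∀ i, Y i ∈ G) :
    (ObjectProperty.ofObj fun X : G => (presheafToSheaf J (Type u)).obj (yoneda.obj (X : C))).IsDetecting := by
  intro F H m h
  have hb : ∀ X : C, X ∈ G → Function.Bijective (m.hom.app (Opposite.op X)) := by
    intro X hX
    let e : ∀ P : Sheaf J (Type u),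
        ((presheafToSheaf J (Type u)).obj (yoneda.obj X) ⟶ P) ≃ P.obj.obj (Opposite.op X) :=
      fun P => ((sheafificationAdjunction J (Type u)).homEquiv _ _).trans CategoryTheory.yonedaEquiv
    have hne : ∀ g, e H (g ≫ m) = m.hom.app _ (e F g) := fun g => by
      simp only [e, Equiv.trans_apply, Adjunction.homEquiv_naturality_right]
      exact CategoryTheory.yonedaEquiv_comp _ _
    have hu := h _ (ObjectProperty.ofObj_apply (fun X : G => (presheafToSheaf J (Type u)).obj (yoneda.obj (X : C))) ⟨X, hX⟩)
    refine ⟨fun a b hab => ?_, fun y => ?_⟩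
    · obtain ⟨a', rfl⟩ := (e F).surjective a
      obtain ⟨b', rfl⟩ := (e F).surjective b
      rw [← hne, ← hne] at hab
      exact congrArg (e F) ((hu (a' ≫ m)).unique rfl ((e H).injective hab).symm)
    · obtain ⟨g, hg, -⟩ := hu ((e H).symm y)
      exact ⟨e F g, by rw [← hne, hg, Equiv.apply_symm_apply]⟩
  haveI : Presheaf.IsLocallyInjective J m.hom := ⟨fun {c} a b hab => by
    obtain ⟨X⟩ := c
    obtain ⟨ι, Y, f, hf, hY⟩ := hG X
    refine J.superset_covering ?_ hf
    rw [Sieve.ofArrows, Sieve.generate_le_iff]
    rintro _ _ ⟨i⟩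
    refine (hb _ (hY i)).1 ?_
    rw [NatTrans.naturality_apply, NatTrans.naturality_apply, hab]⟩
  haveI : Presheaf.IsLocallySurjective J m.hom := ⟨fun {X} y => by
    obtain ⟨ι, Y, f, hf, hY⟩ := hG X
    refine J.superset_covering ?_ hf
    rw [Sieve.ofArrows, Sieve.generate_le_iff]
    rintro _ _ ⟨i⟩
    exact (hb _ (hY i)).2 _⟩
  exact (Sheaf.isLocallyBijective_iff_isIso m).1 ⟨‹Presheaf.IsLocallyInjective J m.hom›,
    ‹Presheaf.IsLocallySurjective J m.hom›⟩

end Groth.Agent.S3082
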