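import Groth.Prelude.Def_SGA4a
import Mathlib.CategoryTheory.Comma.Basic
import Mathlib.CategoryTheory.Presentable.Basic
import Mathlib.CategoryTheory.Limits.Shapes.FiniteLimits
import Groth.Agent.Giraud16.Site
import Groth.Agent.Giraud16.Conservative
import Groth.Agent.CanonTopos16.Basic
import Mathlib.CategoryTheory.Limits.Comma
import Mathlib.CategoryTheory.Presentable.Presheaf
import Mathlib.CategoryTheory.Presentable.Type
import Mathlib.CategoryTheory.Presentable.StrongGenerator

set_option autoImplicit false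
universe u
namespace CategoryTheory
end CategoryTheory
open CategoryTheory
namespace SGA4
end SGA4
open SGA4

namespace Groth.Agent.S3086

open CategoryTheory.Limits Opposite CanonTopos16

variable {C D : Type u} [SmallCategory C] [SmallCategory D] {J : GrothendieckTopology C}
    {K : GrothendieckTopology D} (ρ : Sheaf J (Type u) ⥤ Sheaf K (Type u))

/-- A small set of objects whose images cover every value of `ρ`. -/
lemma exists_small_covering [ρ.IsAccessible.{u}] :
    ∃ (ι : Type u) (W : ι → Sheaf J (Type u)), ∀ (X : Sheaf J (Type u)),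
      ∃ (Λ : Type u) (a : Λ → ι) (g : ∀ l, W (a l) ⟶ X), LocSurj (fun l => ρ.map (g l)) := by
  obtain ⟨κρ, _, _⟩ := Functor.IsAccessible.exists_cardinal.{u} (F := ρ)
  obtain ⟨κP, _, _⟩ := IsLocallyPresentable.exists_cardinal.{u} (Cᵒᵖ ⥤ Type u)
  haveI : Fact (κρ ⊔ κP).IsRegular := ⟨iteInduction (fun _ ↦ Fact.out) (fun _ ↦ Fact.out)⟩
  haveI : IsCardinalLocallyPresentable (Cᵒᵖ ⥤ Type u) (κρ ⊔ κP) :=
    IsCardinalLocallyPresentable.of_le (κ := κP) _ (by simp)
  haveI := ρ.isCardinalAccessible_of_le (by simp : κρ ≤ κρ ⊔ κP)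
  obtain ⟨P, hP, hgen⟩ := HasCardinalFilteredGenerator.exists_small_generator (Cᵒᵖ ⥤ Type u) (κρ ⊔ κP)
  haveI : Small.{u} (Subtype P) := hP
  let e := equivShrink.{u} (Subtype P)
  refine ⟨Shrink.{u} (Subtype P), fun s => (presheafToSheaf J (Type u)).obj (e.symm s).1, fun X => ?_⟩
  obtain ⟨I, _, _, ⟨p⟩⟩ := hgen.exists_colimitsOfShape X.obj
  let adj := sheafificationAdjunction J (Type u)
  haveI : PreservesColimitsOfSize.{u, u} (presheafToSheaf J (Type u)) := adj.leftAdjoint_preservesColimits
  haveI := ρ.preservesColimitsOfShape_of_isCardinalAccessible (κρ ⊔ κP) I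
  have hc := isColimitOfPreserves ρ (isColimitOfPreserves (presheafToSheaf J (Type u)) p.isColimit)
  let a : I → Shrink.{u} (Subtype P) := fun i => e ⟨p.diag.obj i, p.prop_diag_obj i⟩
  have ha : ∀ i, (e.symm (a i)).1 = p.diag.obj i := fun i => congrArg Subtype.val (e.symm_apply_apply _)
  refine ⟨I, a, fun i => eqToHom (congrArg (presheafToSheaf J (Type u)).obj (ha i)) ≫
    (presheafToSheaf J (Type u)).map (p.ι.app i) ≫ adj.counit.app X, ?_⟩
  refine locSurj_of_jointlyEpi _ fun Z s t h => ?_
  rw [← cancel_epi (ρ.map (adj.counit.app X))]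
  refine hc.hom_ext fun i => ?_
  have := h i
  simp only [Functor.map_comp, Category.assoc, cancel_epi] at this
  exact this

lemma lift_locally {ι : Type u} {W : ι → Sheaf J (Type u)}
    (hW : ∀ (X : Sheaf J (Type u)), ∃ (Λ : Type u) (a : Λ → ι) (g : ∀ l, W (a l) ⟶ X),
      LocSurj (fun l => ρ.map (g l)))
    {X : Sheaf J (Type u)} {c : D} (z : (ρ.obj X).obj.obj (op c)) :
    ∃ S ∈ K c, ∀ ⦃d : D⦄ (f : d ⟶ c), S f → ∃ (i : ι) (s : rep K d ⟶ ρ.obj (W i)) (g : W i ⟶ X),
      s ≫ ρ.map g = el.symm ((ρ.obj X).obj.map f.op z) := by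
  obtain ⟨Λ, a, g, hg⟩ := hW X
  refine ⟨_, hg c z, fun d f ⟨l, y, hy⟩ => ⟨a l, el.symm y, g l, ?_⟩⟩
  rw [el_symm_comp, hy]

/-- Sites of the two projections. -/
def SiteOf (C D : Type u) : Bool → Type u
  | true => C
  | false => D

instance siteOfCat : ∀ k, SmallCategory (SiteOf C D k)
  | true => inferInstanceAs (SmallCategory C)
  | false => inferInstanceAs (SmallCategory D)

variable (J K) in
/-- Their topologies. -/
def topOf : ∀ k, GrothendieckTopology (SiteOf C D k)
  | true => J
  | false => K

/-- The two projections. -/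
noncomputable def proj : ∀ k, Comma (𝟭 (Sheaf K (Type u))) ρ ⥤ Sheaf (topOf J K k) (Type u)
  | true => Comma.snd _ _
  | false => Comma.fst _ _

lemma proj_preservesFiniteLimits [PreservesFiniteLimits ρ] : ∀ k, PreservesFiniteLimits (proj ρ k)
  | true => ⟨fun I _ _ => ⟨fun {F} => preservesLimit_of_preserves_limit_cone
      (Comma.coneOfPreservesIsLimit F (limit.isLimit _) (limit.isLimit _)) (limit.isLimit (F ⋙ Comma.snd _ _))⟩⟩
  | false => ⟨fun I _ _ => ⟨fun {F} => preservesLimit_of_preserves_limit_cone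
      (Comma.coneOfPreservesIsLimit F (limit.isLimit _) (limit.isLimit _)) (limit.isLimit (F ⋙ Comma.fst _ _))⟩⟩

lemma proj_preservesColimits : ∀ k, PreservesColimitsOfSize.{u, u} (proj ρ k)
  | true => ⟨fun {I} _ => ⟨fun {F} => preservesColimit_of_preserves_colimit_cocone
      (Comma.coconeOfPreservesIsColimit F (colimit.isColimit _) (colimit.isColimit _))
      (colimit.isColimit (F ⋙ Comma.snd _ _))⟩⟩
  | false => ⟨fun {I} _ => ⟨fun {F} => preservesColimit_of_preserves_colimit_cocone
      (Comma.coconeOfPreservesIsColimit F (colimit.isColimit _) (colimit.isColimit _))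
      (colimit.isColimit (F ⋙ Comma.fst _ _))⟩⟩

lemma proj_conservative {X Y : Comma (𝟭 (Sheaf K (Type u))) ρ} (f : X ⟶ Y)
    (h : ∀ k, IsIso ((proj ρ k).map f)) : IsIso f := by
  haveI : IsIso f.left := h false
  haveI : IsIso f.right := h true
  exact (inferInstance : IsIso (Comma.isoMk (asIso f.left) (asIso f.right) f.w).hom)

variable (J) in
/-- The generators. -/
noncomputable def gen {ι : Type u} (W : ι → Sheaf J (Type u)) :
    (Σ (i : ι) (c : D), (rep K c ⟶ ρ.obj (W i))) ⊕ C → Comma (𝟭 (Sheaf K (Type u))) ρ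
  | .inl ⟨i, c, s⟩ => { left := rep K c, right := W i, hom := s }
  | .inr d => { left := ⊥_ _, right := rep J d, hom := initial.to _ }

lemma detects {ι : Type u} {W : ι → Sheaf J (Type u)}
    (hW : ∀ (X : Sheaf J (Type u)), ∃ (Λ : Type u) (a : Λ → ι) (g : ∀ l, W (a l) ⟶ X),
      LocSurj (fun l => ρ.map (g l)))
    {A B : Comma (𝟭 (Sheaf K (Type u))) ρ} (φ : A ⟶ B)
    (h : ∀ (k : _) (g : gen J ρ W k ⟶ B), ∃! g', g' ≫ φ = g) : IsIso φ := by
  have hr : IsIso φ.right := by
    rw [← isIso_iff_of_reflects_iso φ.right (sheafToPresheaf J _), NatTrans.isIso_iff_isIso_app]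
    rintro ⟨d⟩
    rw [isIso_iff_bijective]
    refine Function.bijective_iff_existsUnique _ |>.2 fun y => ?_
    let hy : gen J ρ W (.inr d) ⟶ B :=
      { left := initial.to _, right := el.symm y, w := initialIsInitial.hom_ext _ _ }
    obtain ⟨g, hg, hu⟩ := h _ hy
    have hval : ∀ z, φ.right.hom.app (op d) z = y ↔ el.symm z ≫ φ.right = el.symm y := fun z => by
      rw [el_symm_comp, el.symm.apply_eq_iff_eq]
    refine ⟨el g.right, (hval _).2 (by rw [Equiv.symm_apply_apply]; exact congrArg CommaMorphism.right hg),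
      fun z hz => ?_⟩
    let gz : gen J ρ W (.inr d) ⟶ A :=
      { left := initial.to _, right := el.symm z, w := initialIsInitial.hom_ext _ _ }
    have : gz = g := hu gz (CommaMorphism.ext (initialIsInitial.hom_ext _ _) ((hval z).1 hz))
    exact (el.apply_symm_apply z).symm.trans (congrArg (fun t => el t.right) this)
  have hβ : IsIso (ρ.map φ.right) := inferInstance
  have hw : φ.left ≫ B.hom = A.hom ≫ ρ.map φ.right := φ.w
  have hinjρ : ∀ (c : D) (a b : (ρ.obj A.right).obj.obj (op c)),
      (ρ.map φ.right).hom.app (op c) a = (ρ.map φ.right).hom.app (op c) b → a = b := by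
    intro c a b hab
    have hc := congrArg (fun t : ρ.obj A.right ⟶ ρ.obj A.right => t.hom.app (op c))
      (IsIso.hom_inv_id (ρ.map φ.right))
    refine (ConcreteCategory.congr_hom hc a).symm.trans (Eq.trans ?_ (ConcreteCategory.congr_hom hc b))
    exact congrArg ((inv (ρ.map φ.right)).hom.app (op c)) hab
  haveI : Presheaf.IsLocallyInjective K φ.left.hom := ⟨fun {c} a b hab => by
    obtain ⟨c⟩ := c
    have hz : A.hom.hom.app (op c) a = A.hom.hom.app (op c) b := hinjρ c _ _ (by
      have e := congrArg (fun t : A.left ⟶ ρ.obj B.right => t.hom.app (op c)) hw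
      exact (ConcreteCategory.congr_hom e a).symm.trans
        ((congrArg (B.hom.hom.app (op c)) hab).trans (ConcreteCategory.congr_hom e b)))
    obtain ⟨S, hS, hS'⟩ := lift_locally ρ hW (A.hom.hom.app (op c) a)
    refine K.superset_covering ?_ hS
    intro d f hf
    obtain ⟨i, s, g, hsg⟩ := hS' f hf
    let ga : gen J ρ W (.inl ⟨i, d, s⟩) ⟶ A :=
      { left := el.symm (A.left.obj.map f.op a), right := g
        w := by
          change el.symm _ ≫ A.hom = s ≫ ρ.map g
          rw [el_symm_comp, hsg]
          exact congrArg el.symm ((NatTrans.naturality_apply A.hom.hom f.op a).trans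
            (congrArg ((ρ.obj A.right).obj.map f.op) rfl)) }
    let gb : gen J ρ W (.inl ⟨i, d, s⟩) ⟶ A :=
      { left := el.symm (A.left.obj.map f.op b), right := g
        w := by
          change el.symm _ ≫ A.hom = s ≫ ρ.map g
          rw [el_symm_comp, hsg]
          exact congrArg el.symm ((NatTrans.naturality_apply A.hom.hom f.op b).trans
            (congrArg ((ρ.obj A.right).obj.map f.op) hz.symm)) }
    have e : ga = gb := (h _ (gb ≫ φ)).unique (CommaMorphism.ext (by
      change el.symm (A.left.obj.map f.op a) ≫ φ.left = el.symm (A.left.obj.map f.op b) ≫ φ.left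
      rw [el_symm_comp, el_symm_comp, NatTrans.naturality_apply, NatTrans.naturality_apply, hab]) rfl) rfl
    exact el.symm.injective (congrArg CommaMorphism.left e)⟩
  haveI : Presheaf.IsLocallySurjective K φ.left.hom := ⟨fun {c} y => by
    obtain ⟨S, hS, hS'⟩ := lift_locally ρ hW
      ((inv (ρ.map φ.right)).hom.app (op c) (B.hom.hom.app (op c) y))
    refine K.superset_covering ?_ hS
    intro d f hf
    obtain ⟨i, s, g, hsg⟩ := hS' f hf
    let gy : gen J ρ W (.inl ⟨i, d, s⟩) ⟶ B :=
      { left := el.symm (B.left.obj.map f.op y), right := g ≫ φ.right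
        w := by
          change el.symm _ ≫ B.hom = s ≫ ρ.map (g ≫ φ.right)
          rw [ρ.map_comp, ← Category.assoc, hsg, el_symm_comp, el_symm_comp]
          refine (congrArg el.symm (NatTrans.naturality_apply B.hom.hom f.op y)).trans
            (Eq.trans ?_ (congrArg el.symm (NatTrans.naturality_apply (ρ.map φ.right).hom f.op _)).symm)
          exact congrArg (fun t => el.symm ((ρ.obj B.right).obj.map f.op t))
            (ConcreteCategory.congr_hom (congrArg (fun t : ρ.obj B.right ⟶ ρ.obj B.right => t.hom.app (op c))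
              (IsIso.inv_hom_id (ρ.map φ.right))) (B.hom.hom.app (op c) y)).symm }
    obtain ⟨g', hg', -⟩ := h _ gy
    exact ⟨el g'.left, (el_comp g'.left φ.left).symm.trans
      ((congrArg (fun t => el t.left) hg').trans (el.apply_symm_apply _))⟩⟩
  haveI : IsIso φ.left := (Sheaf.isLocallyBijective_iff_isIso φ.left).1
    ⟨‹Presheaf.IsLocallyInjective K φ.left.hom›, ‹Presheaf.IsLocallySurjective K φ.left.hom›⟩
  exact (inferInstance : IsIso (Comma.isoMk (asIso φ.left) (asIso φ.right) φ.w).hom)

open CategoryTheory.Limits in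
/-- For sheaf topoi on small sites): let ρ be a functor from sheaves of sets on (C, J) to sheaves of
sets on (D, K) which preserves finite limits and is accessible. Then the glued category of triples
(Y, X, Y -> ρ X) is a topos. -/
theorem result {C D : Type u} [SmallCategory C] [SmallCategory D] (J : GrothendieckTopology C)
    (K : GrothendieckTopology D) (ρ : Sheaf J (Type u) ⥤ Sheaf K (Type u)) [PreservesFiniteLimits ρ]
    [ρ.IsAccessible.{u}] :
    SGA4.IsTopos.{u + 1, u} (Comma (𝟭 (Sheaf K (Type u))) ρ) := by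
  obtain ⟨ι, W, hW⟩ := exists_small_covering ρ
  haveI := proj_preservesFiniteLimits ρ
  haveI := proj_preservesColimits ρ
  exact Giraud16.giraud (Giraud16.coproducts_of_family (proj ρ) (proj_conservative ρ))
    (Giraud16.effective_of_family (proj ρ) (proj_conservative ρ)) (gen J ρ W)
    (fun f h => detects ρ hW f h)

end Groth.Agent.S3086
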