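import Groth.Prelude.Def_SGA4a
import Mathlib.Algebra.Category.ModuleCat.Sheaf.PushforwardContinuous
import Mathlib.Algebra.Category.ModuleCat.Sheaf.Limits
import Mathlib.Algebra.Category.ModuleCat.Sheaf.Colimits
import Mathlib.CategoryTheory.Limits.Shapes.FiniteLimits
import Groth.Agent.DerCompLib.ExtZero

set_option autoImplicit false
universe u
namespace CategoryTheory
end CategoryTheory
open CategoryTheory
namespace SGA4
end SGA4
open SGA4

namespace Groth.Agent.S3087

set_option backward.isDefEq.respectTransparency false
set_option backward.isDefEq.respectTransparency.types false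

section
open CategoryTheory.Limits Opposite

variable {C : Type u} [SmallCategory C] {J : GrothendieckTopology C} (X : C) (A : Sheaf J RingCat.{u})

/-- Extension by zero, computed on presheaves. -/
noncomputable abbrev extModel : SheafOfModules.{u} (A.over X) ⥤ SheafOfModules.{u} A :=
  SheafOfModules.forget (A.over X) ⋙
    (DerCompLib.sumFunctor (R := A.obj) (U := X) :
      PresheafOfModules.{u} (A.over X).obj ⥤ PresheafOfModules.{u} A.obj) ⋙
      PresheafOfModules.sheafification.{u} (R := A) (𝟙 A.obj)

/-- The model computes extension by zero. -/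
noncomputable def extModelIso :
    extModel X A ≅ SheafOfModules.pullback.{u} (F := Over.forget X) (𝟙 (A.over X)) :=
  Functor.isoWhiskerLeft (SheafOfModules.forget (A.over X))
    (Functor.isoWhiskerRight ((DerCompLib.sumAdj A.obj X).leftAdjointUniq
      (PresheafOfModules.pullbackPushforwardAdjunction
        (F := Over.forget X) (𝟙 (DerCompLib.overRing A.obj X))))
      (PresheafOfModules.sheafification.{u} (R := A) (𝟙 A.obj))) ≪≫
    (SheafOfModules.pullbackIso.{u} (F := Over.forget X) (𝟙 (A.over X))).symm

theorem preservesMono_extModel : (extModel X A).PreservesMonomorphisms := by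
  have h1 : (SheafOfModules.forget.{u} (A.over X)).PreservesMonomorphisms := by
    have : (SheafOfModules.forget.{u} (A.over X)).IsRightAdjoint :=
      (PresheafOfModules.sheafificationAdjunction (𝟙 (A.over X).obj)).isRightAdjoint
    exact Functor.preservesMonomorphisms_of_isRightAdjoint _
  have h2 : (DerCompLib.sumFunctor (R := A.obj) (U := X) :
      PresheafOfModules.{u} (A.over X).obj ⥤ PresheafOfModules.{u} A.obj).PreservesMonomorphisms :=
    inferInstanceAs (DerCompLib.sumFunctor (R := A.obj) (U := X)).PreservesMonomorphisms
  have h3 : (PresheafOfModules.sheafification.{u} (R := A) (𝟙 A.obj)).PreservesMonomorphisms :=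
    inferInstance
  infer_instance

theorem faithful_extModel : (extModel X A).Faithful where
  map_injective {G H} f g hfg := by
    classical
    apply SheafOfModules.hom_ext
    refine PresheafOfModules.hom_ext fun V => ModuleCat.hom_ext (LinearMap.ext fun x => ?_)
    let adj := PresheafOfModules.sheafificationAdjunction.{u} (R := A) (𝟙 A.obj)
    let s := DerCompLib.sumFunctor (R := A.obj) (U := X)
    have e : s.map f.val ≫ adj.unit.app (s.obj H.val) = s.map g.val ≫ adj.unit.app (s.obj H.val) :=
      (adj.unit.naturality (s.map f.val)).trans ((congrArg (fun t => adj.unit.app (s.obj G.val) ≫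
        (SheafOfModules.forget A ⋙ PresheafOfModules.restrictScalars (𝟙 A.obj)).map t) hfg).trans
          (adj.unit.naturality (s.map g.val)).symm)
    let V' : Cᵒᵖ := op V.unop.left
    let φ : V'.unop ⟶ X := V.unop.hom
    let z : DerCompLib.summand (R := A.obj) (U := X) G.val V' φ := x
    have e' := congrArg (fun t => (t.app V').hom ((DerCompLib.sumIncl G.val V' φ).hom z)) e
    change (adj.unit.app (s.obj H.val)).app V' _ = (adj.unit.app (s.obj H.val)).app V' _ at e'
    haveI : Presheaf.IsLocallyInjective J
        ((PresheafOfModules.toPresheaf _).map (adj.unit.app (s.obj H.val))) := by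
      rw [PresheafOfModules.toPresheaf_map_sheafificationAdjunction_unit_app]
      exact ((J.W_iff_isLocallyBijective _).1 (J.W_toSheafify _)).1
    have hS := Presheaf.equalizerSieve_mem J
      ((PresheafOfModules.toPresheaf _).map (adj.unit.app (s.obj H.val))) (X := V') _ _ e'
    obtain ⟨T, hT, hT'⟩ : ∃ T : Sieve V.unop.left, T ∈ J V.unop.left ∧
        ∀ ⦃W : C⦄ (w : W ⟶ V.unop.left), T w → (DerCompLib.sumMap H.val w.op).hom
            (((s.map f.val).app V').hom ((DerCompLib.sumIncl G.val V' φ).hom z)) =
          (DerCompLib.sumMap H.val w.op).hom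
            (((s.map g.val).app V').hom ((DerCompLib.sumIncl G.val V' φ).hom z)) :=
      ⟨_, hS, fun W w hw => hw⟩
    refine (((CategoryTheory.isSheaf_iff_isSheaf_of_type _ _).1
      ((Presheaf.isSheaf_iff_isSheaf_forget (J.over X) H.val.presheaf (forget AddCommGrpCat.{u})).1
        H.isSheaf)) ((Sieve.overEquiv V.unop).symm T) ?_).isSeparatedFor.ext fun W k hk => ?_
    · exact J.overEquiv_symm_mem_over _ _ hT
    · have hk' := hT' _ ((Sieve.overEquiv_symm_iff _ _).1 hk)
      have inj := DirectSum.of_injective
        (β := fun ψ : (op W.left : Cᵒᵖ).unop ⟶ X =>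
          (DerCompLib.summand (R := A.obj) (U := X) H.val (op W.left) ψ : Type u)) (k.left ≫ φ)
      have h1 := (congrArg (DerCompLib.sumMap H.val k.left.op).hom
          (DerCompLib.sumPresheafMapApp_incl f.val V' φ z)).symm.trans
        (hk'.trans (congrArg (DerCompLib.sumMap H.val k.left.op).hom
          (DerCompLib.sumPresheafMapApp_incl g.val V' φ z)))
      have h2 := inj (((DerCompLib.sumMap_incl H.val k.left.op φ _).symm.trans h1).trans
        (DerCompLib.sumMap_incl H.val k.left.op φ _))
      let b : W ⟶ Over.mk (k.left ≫ φ) := Over.homMk (𝟙 W.left) ((Category.id_comp _).trans (Over.w k))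
      let a : Over.mk (k.left ≫ φ) ⟶ V.unop := Over.homMk k.left
      have hk0 : k.op = a.op ≫ b.op :=
        congrArg Quiver.Hom.op (show k = b ≫ a from Over.OverMorphism.ext (Category.id_comp _).symm)
      refine (H.val.congr_map_apply hk0 _).trans (Eq.trans ?_ (H.val.congr_map_apply hk0 _).symm)
      exact (H.val.map_comp_apply a.op b.op _).trans
        ((congrArg (H.val.map b.op).hom h2).trans (H.val.map_comp_apply a.op b.op _).symm)

end

open CategoryTheory.Limits in
/-- For the ringed topos of sheaves on a small site (C, J) with sheaf of rings A, localised at an object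
X of C: the restriction functor j_X^* from sheaves of A-modules to sheaves of A|X-modules on the
site of objects over X admits a left adjoint (extension by zero j_{X!}), and any such left adjoint
is exact (preserves finite limits and finite colimits) and faithful. -/
theorem result {C : Type u} [SmallCategory C] (J : GrothendieckTopology C) (X : C)
    (A : Sheaf J RingCat.{u}) :
    (SheafOfModules.overFunctor.{u} A X).IsRightAdjoint ∧
    ∀ (L : SheafOfModules.{u} (A.over X) ⥤ SheafOfModules.{u} A) (_ : L ⊣ SheafOfModules.overFunctor.{u} A X),
      PreservesFiniteLimits L ∧ PreservesFiniteColimits L ∧ L.Faithful := by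
  haveI hR : (SheafOfModules.overFunctor.{u} A X).IsRightAdjoint :=
    inferInstanceAs (SheafOfModules.pushforward.{u} (F := Over.forget X) (𝟙 (A.over X))).IsRightAdjoint
  refine ⟨hR, fun L adj => ?_⟩
  haveI : L.IsLeftAdjoint := adj.isLeftAdjoint
  haveI : L.Additive := by
    haveI := preservesBinaryBiproducts_of_preservesBinaryCoproducts L
    exact Functor.additive_of_preservesBinaryBiproducts L
  let e : extModel X A ≅ L := extModelIso X A ≪≫
    (SheafOfModules.pullbackPushforwardAdjunction.{u} (F := Over.forget X) (𝟙 (A.over X))).leftAdjointUniq adj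
  haveI : L.PreservesMonomorphisms :=
    @Functor.PreservesMonomorphisms.of_iso _ _ _ _ _ _ (preservesMono_extModel X A) e
  haveI : L.PreservesHomology := Functor.preservesHomology_of_preservesMonos_and_cokernels _
  haveI := faithful_extModel X A
  exact ⟨Functor.preservesFiniteLimits_of_preservesHomology _, inferInstance, Functor.Faithful.of_iso e⟩

end Groth.Agent.S3087
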