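import Groth.Prelude.Def_CohCx
import Groth.Agent.SiteCoh.FreePullback

set_option autoImplicit false
universe u
open CategoryTheory
open CohSite

namespace Groth.Agent.S3089

open CategoryTheory.Limits CategoryTheory.Abelian in
lemma exists_extend {A : Type*} [Category* A] [Abelian A] [HasExt.{u} A] {a b P : A} (f : a ⟶ b)
    [Mono f] (inl inr : b ⟶ P) (h : IsPushout f f inl inr) (F : A)
    (hP : Subsingleton (Ext P F 1)) (x : a ⟶ F) : ∃ y : b ⟶ F, f ≫ y = x := by
  let S := ShortComplex.mk f (cokernel.π f) (cokernel.condition f)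
  have hS : S.ShortExact :=
    { exact := ShortComplex.exact_cokernel _
      mono_f := inferInstanceAs (Mono f)
      epi_g := inferInstanceAs (Epi (cokernel.π f)) }
  let r : P ⟶ cokernel f := h.desc (cokernel.π f) 0 (by rw [cokernel.condition, comp_zero])
  let s : cokernel f ⟶ P := cokernel.desc f (inl - inr) (by rw [Preadditive.comp_sub, h.w, sub_self])
  have hsr : s ≫ r = 𝟙 _ := by
    rw [← cancel_epi (cokernel.π f)]
    simp [s, r, Preadditive.sub_comp]
  have hc : Subsingleton (Ext S.X₃ F 1) := by
    refine subsingleton_of_forall_eq 0 fun z => ?_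
    have : z = (Ext.mk₀ s).comp ((Ext.mk₀ r).comp z (zero_add 1)) (zero_add 1) := by
      rw [Ext.mk₀_comp_mk₀_assoc, hsr]
      exact (Ext.mk₀_id_comp z).symm
    rw [this, Subsingleton.elim ((Ext.mk₀ r).comp z (zero_add 1)) 0, Ext.comp_zero]
  obtain ⟨y, hy⟩ := Ext.contravariant_sequence_exact₁ hS F (Ext.mk₀ x) (add_zero 1)
    (Subsingleton.elim _ _)
  obtain ⟨y, rfl⟩ := (Ext.mk₀_bijective _ _).2 y
  rw [Ext.mk₀_comp_mk₀] at hy
  exact ⟨y, (Ext.mk₀_bijective _ _).1 hy⟩

open Opposite in
/-- For abelian sheaves on the topos of sheaves of sets on a small site: let F be an abelian sheaf which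
is totally acyclic, i.e. H^q(X, F) = 0 for every sheaf of sets X and every q > 0, and let Y -> X be
a monomorphism of sheaves of sets. Then the restriction map H^0(X, F) -> H^0(Y, F) is surjective. -/
theorem result {C : Type u} [SmallCategory C] {J : GrothendieckTopology C}
    (F : Sheaf J AddCommGrpCat.{u}) (hF : CohCx.IsTotallyAcyclic F) {Y X : Sheaf J (Type u)} (ι : Y ⟶ X) [Mono ι] :
    Function.Surjective ((CohCx.HK0Functor J F).map ι.op) := by
  let Fr := Sheaf.composeAndSheafify J AddCommGrpCat.free.{u}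
  have : Fr.IsLeftAdjoint := (Groth.Agent.SiteCoh.freeShAdj J).isLeftAdjoint
  have : AddCommGrpCat.free.{u}.PreservesMonomorphisms := inferInstance
  have : Mono (Fr.map ι) := by
    have : Mono ι.hom := inferInstanceAs (Mono ((sheafToPresheaf J (Type u)).map ι))
    have : Mono (Functor.whiskerRight ι.hom AddCommGrpCat.free.{u}) := by
      rw [NatTrans.mono_iff_mono_app]
      exact fun W => inferInstanceAs (Mono (AddCommGrpCat.free.map (ι.hom.app W)))
    exact inferInstanceAs (Mono ((presheafToSheaf J AddCommGrpCat.{u}).map _))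
  intro x
  exact exists_extend (Fr.map ι) _ _ ((IsPushout.of_hasPushout ι ι).map Fr) F
    (hF (Limits.pushout ι ι) 0) x

end Groth.Agent.S3089
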