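import Groth.Prelude.Def_CohCx
import Mathlib.CategoryTheory.Sites.CoverPreserving
import Groth.Agent.SiteCoh.FreePullback
import Groth.Agent.S0865
import Mathlib.CategoryTheory.Functor.Flat

set_option autoImplicit false
universe u
open CategoryTheory
open CohSite

namespace Groth.Agent.S3090

open CategoryTheory CategoryTheory.Limits in
attribute [local instance] reflectsLimits_of_reflectsIsomorphisms in
lemma sheafPullback_lex {C D : Type u} [SmallCategory C] [SmallCategory D]
    (J : GrothendieckTopology C) (K : GrothendieckTopology D) (u : D ⥤ C) [u.IsContinuous K J]
    [RepresentablyFlat u] : PreservesFiniteLimits (u.sheafPullback AddCommGrpCat.{u} K J) := by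
  have : PreservesFiniteLimits (u.op.lan : (_ ⥤ _ ⥤ AddCommGrpCat.{u})) :=
    lan_preservesFiniteLimits_of_flat _ _
  exact Functor.sheafPullbackConstruction.preservesFiniteLimits _ _ _ _

open CategoryTheory.Limits in
/-- Let C and D be small sites, D having finite limits, and u : D ⥤ C a continuous functor which
preserves finite limits and sends coverings to coverings (so that u defines a morphism of sites, and
of the associated topoi). If F is a flasque (totally acyclic) abelian sheaf on C, then its direct
image V ↦ F(u(V)) is a flasque abelian sheaf on D. -/
theorem result {C D : Type u} [SmallCategory C] [SmallCategory D]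
    [HasFiniteLimits D] (J : GrothendieckTopology C) (K : GrothendieckTopology D) (u : D ⥤ C)
    (hu : CoverPreserving K J u) [PreservesFiniteLimits u] [u.IsContinuous K J]
    (F : Sheaf J AddCommGrpCat.{u}) (hF : CohCx.IsTotallyAcyclic F) :
    CohCx.IsTotallyAcyclic ((CohSite.push J K u).obj F) := by
  haveI : RepresentablyFlat u := flat_of_preservesFiniteLimits u
  haveI := sheafPullback_lex J K u
  exact Groth.Agent.SiteCoh.isTotallyAcyclic_push J K u F
    (fun q => Groth.Agent.S0865.result J K u F hF q) hF

end Groth.Agent.S3090
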