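import Groth.Prelude.Def_Hyper
import Mathlib.CategoryTheory.Sites.Adjunction
import Groth.Agent.HTop16.CoskImageSite

set_option autoImplicit false
universe u
namespace CategoryTheory
end CategoryTheory
open CategoryTheory
namespace Hyper
end Hyper
open Hyper

namespace Groth.Agent.S3092

open Opposite CategoryTheory.Limits in
/-- In the topos of sheaves of sets on a small site; coskeleta assumed to exist: let v : K -> L be a
morphism of simplicial sheaves of sets and n ≥ 0 such that v_p is an isomorphism for p < n, v_n is
an epimorphism, and K, L are n-coskeletal (the units K -> cosk_n K, L -> cosk_n L are isomorphisms).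
Then every v_p is an epimorphism and v induces a quasi-isomorphism between the chain complexes of
free abelian sheaves Z[K] -> Z[L]. -/
theorem result {C : Type u} [SmallCategory C] (J : GrothendieckTopology C)
    [∀ (n : ℕ) (F : (SimplexCategory.Truncated n)ᵒᵖ ⥤ Sheaf J (Type u)),
      (SimplexCategory.Truncated.inclusion n).op.HasRightKanExtension F]
    {K L : SimplicialObject (Sheaf J (Type u))} (v : K ⟶ L) (n : ℕ)
    (h1 : ∀ p : ℕ, p < n → IsIso (v.app (op (SimplexCategory.mk p))))
    (h2 : Epi (v.app (op (SimplexCategory.mk n))))
    (h3 : IsIso ((SimplicialObject.coskAdj n).unit.app K) ∧ IsIso ((SimplicialObject.coskAdj n).unit.app L)) :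
    (∀ p : ℕ, Epi (v.app (op (SimplexCategory.mk p)))) ∧
    QuasiIso ((AlgebraicTopology.alternatingFaceMapComplex _).map
      (Functor.whiskerRight v (Sheaf.composeAndSheafify J AddCommGrpCat.free.{u}))) := by
  haveI := (SimplicialObject.isCoskeletal_iff_isIso K n).2 h3.1
  haveI := (SimplicialObject.isCoskeletal_iff_isIso L n).2 h3.2
  let F := sheafToPresheaf J (Type u)
  haveI := Groth.Agent.HTop16.CoskImage.isCoskeletal_comp F n K
  haveI := Groth.Agent.HTop16.CoskImage.isCoskeletal_comp F n L
  have h1' : ∀ p : ℕ, p < n → IsIso ((Functor.whiskerRight v F).app (op (SimplexCategory.mk p))) :=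
    fun p hp => by
      haveI := h1 p hp
      exact inferInstanceAs (IsIso (F.map (v.app (op (SimplexCategory.mk p)))))
  haveI := h2
  have h2' : Presheaf.IsLocallySurjective J ((Functor.whiskerRight v F).app (op (SimplexCategory.mk n))) :=
    ((Sheaf.isLocallySurjective_iff_epi' (Type u) (v.app (op (SimplexCategory.mk n)))).2 inferInstance : _)
  refine ⟨fun p => (Sheaf.isLocallySurjective_iff_epi' (Type u) _).1
    (Groth.Agent.HTop16.CoskImage.isLocallySurjective_app (Functor.whiskerRight v F) n J h1' h2' p), ?_⟩
  exact Groth.Agent.HTop16.CoskImage.quasiIso_free (Functor.whiskerRight v F) n J h1' h2'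

end Groth.Agent.S3092
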