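import Mathlib.Topology.Separation.Hausdorff
import Mathlib.Tactic
import Mathlib

set_option autoImplicit false
universe u
namespace CohTop
end CohTop
open CohTop

namespace Groth.Agent.S3093

/-- Let X be a topological space and K ⊆ X a compact subset such that any two distinct points of K have
disjoint open neighbourhoods in X. If A and B are subsets of K that are closed in K and W is an open
subset of X containing A ∩ B, then there are open subsets U ⊇ A and V ⊇ B of X with U ∩ V ⊆ W. -/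
theorem result {X : Type u} [TopologicalSpace X] {K : Set X} (hK : IsCompact K)
    (hsep : ∀ x ∈ K, ∀ y ∈ K, x ≠ y → ∃ U V : Set X, IsOpen U ∧ IsOpen V ∧ x ∈ U ∧ y ∈ V ∧ Disjoint U V)
    {A B W : Set X} (hA : A ⊆ K) (hB : B ⊆ K) (hAc : IsClosed (Subtype.val ⁻¹' A : Set K))
    (hBc : IsClosed (Subtype.val ⁻¹' B : Set K)) (hW : IsOpen W) (hABW : A ∩ B ⊆ W) :
    ∃ U V : Set X, IsOpen U ∧ IsOpen V ∧ A ⊆ U ∧ B ⊆ V ∧ U ∩ V ⊆ W := by
  have hcpt : ∀ S : Set X, S ⊆ K → IsClosed (Subtype.val ⁻¹' S : Set K) → IsCompact (S \ W) := by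
    intro S hS hSc
    have := isCompact_iff_compactSpace.1 hK
    have h2 : IsCompact (Subtype.val ⁻¹' (S \ W) : Set K) :=
      (hSc.sdiff (hW.preimage continuous_subtype_val)).isCompact
    have h3 := h2.image continuous_subtype_val
    rwa [Subtype.image_preimage_coe, Set.inter_eq_right.2 (Set.sdiff_subset.trans hS)] at h3
  have hp : ∀ a ∈ A \ W, SeparatedNhds {a} (B \ W) := by
    intro a ha
    refine (hcpt B hB hBc).induction_on (p := fun S => SeparatedNhds {a} S)
      (SeparatedNhds.empty_right _) (fun S T hST h => h.mono le_rfl hST)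
      (fun S T h₁ h₂ => h₁.union_right h₂) fun b hb => ?_
    obtain ⟨U, V, hU, hV, haU, hbV, hUV⟩ := hsep a (hA ha.1) b (hB hb.1) fun h =>
      ha.2 (hABW ⟨ha.1, h ▸ hb.1⟩)
    exact ⟨V, mem_nhdsWithin_of_mem_nhds (hV.mem_nhds hbV), U, V, hU, hV,
      Set.singleton_subset_iff.2 haU, le_rfl, hUV⟩
  have h : SeparatedNhds (A \ W) (B \ W) := by
    refine (hcpt A hA hAc).induction_on (p := fun S => SeparatedNhds S (B \ W))
      (SeparatedNhds.empty_left _) (fun S T hST h => h.mono hST le_rfl)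
      (fun S T h₁ h₂ => h₁.union_left h₂) fun a ha => ?_
    obtain ⟨U, V, hU, hV, haU, hbV, hUV⟩ := hp a ha
    exact ⟨U, mem_nhdsWithin_of_mem_nhds (hU.mem_nhds (Set.singleton_subset_iff.1 haU)), U, V,
      hU, hV, le_rfl, hbV, hUV⟩
  obtain ⟨U, V, hU, hV, hAU, hBV, hUV⟩ := h
  refine ⟨U ∪ W, V ∪ W, hU.union hW, hV.union hW, fun x hx => ?_, fun x hx => ?_, ?_⟩
  · exact (em (x ∈ W)).elim Or.inr fun h => Or.inl (hAU ⟨hx, h⟩)
  · exact (em (x ∈ W)).elim Or.inr fun h => Or.inl (hBV ⟨hx, h⟩)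
  · rintro x ⟨h₁ | h₁, h₂ | h₂⟩
    · exact (Set.disjoint_left.1 hUV h₁ h₂).elim
    all_goals assumption

end Groth.Agent.S3093
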