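import Groth.Prelude.Def_CohCx
import Mathlib.CategoryTheory.Sites.Over
import Groth.Agent.SiteCoh.FreePullback
import Groth.Agent.SiteCoh.Restrict

set_option autoImplicit false
universe u
open CategoryTheory
open CohSite

namespace Groth.Agent.S3094

/-- For abelian sheaves on a small site and an object X of the site: if F is flasque in the sense of
being totally acyclic (H^q(K, F) = 0 for every sheaf of sets K and every q > 0), then its
restriction to the site of objects over X is again flasque in this sense. -/
theorem result {C : Type u} [SmallCategory C] (J : GrothendieckTopology C) (X : C)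
    (F : Sheaf J AddCommGrpCat.{u}) (hF : CohCx.IsTotallyAcyclic F) :
    CohCx.IsTotallyAcyclic (((Over.forget X).sheafPushforwardContinuous AddCommGrpCat.{u} (J.over X) J).obj F) := by
  haveI := Groth.Agent.SiteCoh.sheafPullback_overForget_preservesFiniteLimits J X
  haveI : Limits.PreservesFiniteColimits (CohSite.push J (J.over X) (Over.forget X)) :=
    Groth.Agent.SiteCoh.overPullback_preservesFiniteColimits J X
  exact Groth.Agent.SiteCoh.isTotallyAcyclic_push J (J.over X) (Over.forget X) F
    (Groth.Agent.SiteCoh.isZero_rightDerived_of_exact _ F) hF

end Groth.Agent.S3094
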