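import Groth.Statements.S3107
import Groth.Agent.RelPurity2.Glue
import Groth.Agent.RelPurity2.FullFaithful
-- import your own Groth.Agent.* helpers here

set_option autoImplicit false
set_option backward.isDefEq.respectTransparency.types false
universe u
open CategoryTheory CategoryTheory.Limits AlgebraicGeometry
open Pi1

namespace Groth.Agent.S3107

/-- Let f : X -> S be smooth and j : U -> X an open immersion such that for every point s of S, every
point of the fibre X_s not lying over the image of j has local ring in X_s of Krull dimension at
least 2 (the complement of U has codimension at least 2 in every fibre). Then restriction of finite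
etale covers from X to U is an equivalence of categories. -/
theorem result {X U S : Scheme.{u}} (f : X ⟶ S) [Smooth f]
    (j : U ⟶ X) [IsOpenImmersion j]
    (hcodim : ∀ (s : S) (z : f.fiber s), (f.fiberι s).base z ∉ Set.range j →
      (2 : WithBot ℕ∞) ≤ ringKrullDim ((f.fiber s).presheaf.stalk z)) :
    (FEt.restrict j).IsEquivalence := by
  have hU : Agent.RelPurity2.Cond f j.opensRange := fun x hx => by
    refine hcodim (f x) (f.asFiber x) ?_
    rw [f.fiberι_asFiber]
    exact hx
  haveI := Agent.RelPurity2.restrict_faithful' hU
  haveI := Agent.RelPurity2.restrict_full' hU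
  haveI : (FEt.restrict j.opensRange.ι).EssSurj :=
    ⟨fun V => Agent.RelPurity2.exists_extension hU V⟩
  haveI : (FEt.restrict j.opensRange.ι).IsEquivalence := { }
  haveI := Agent.FEtFF.BiratPurity.restrict_isEquivalence_of_isIso j.isoOpensRange.hom
  haveI : (FEt.restrict j.opensRange.ι ⋙ FEt.restrict j.isoOpensRange.hom).IsEquivalence := inferInstance
  exact Functor.isEquivalence_of_iso
    (Agent.FEtStein.restrictCompIso j.isoOpensRange.hom j.opensRange.ι j j.isoOpensRange_hom_ι).symm

end Groth.Agent.S3107
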