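import Groth.Statements.S3128
import Groth.Agent.Et18.HasseDavenport
-- import your own Groth.Agent.* helpers here

set_option autoImplicit false
open BigOperators
open SGA4h

namespace Groth.Agent.S3128

/-- Let F ⊂ F' be finite fields with [F' : F] = n, χ a multiplicative character of F and ψ a nontrivial
additive character of F, with values in a domain of characteristic zero. Writing τ(χ, ψ) = -Σ_x χ(x)
ψ(x), one has τ(χ ∘ N_{F'/F}, ψ ∘ Tr_{F'/F}) = τ(χ, ψ)^n. (The source writes χ⁻¹ inside τ; replacing
χ by χ⁻¹ gives the same family of identities.) -/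
theorem result (F F' : Type) [Field F] [Fintype F] [Field F'] [Fintype F'] [Algebra F F']
    (R : Type) [CommRing R] [IsDomain R] [CharZero R] (χ : MulChar F R) (ψ : AddChar F R) (hψ : ψ ≠ 1) :
    -(∑ x : F', χ (Algebra.norm F x) * ψ (Algebra.trace F F' x)) =
      (-(∑ x : F, χ x * ψ x)) ^ Module.finrank F F' := by
  classical
  obtain ⟨k, hk⟩ := Nat.exists_eq_add_one_of_ne_zero (Module.finrank_pos (R := F) (M := F')).ne'
  rw [← Et18.HD.S_eq_sum χ ψ, hk, Et18.HD.S_eq χ ψ hψ, neg_pow (∑ x, χ x * ψ x), pow_succ]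
  ring

end Groth.Agent.S3128
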