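import Groth.Statements.S3129
import Mathlib
-- import your own Groth.Agent.* helpers here

set_option autoImplicit false
open BigOperators
open SGA4h

namespace Groth.Agent.S3129

/-- Let F be a finite field with q elements, N ≥ 1, χ₀, …, χ_N multiplicative characters of F with
values in a domain, not all trivial and with product 1, and Ψ a nontrivial additive character of F.
Put τ(χ, Ψ) = −Σ_{x ∈ F} Ψ(x) χ⁻¹(x) and J(χ) = (−1)^{N−1} Σ χ₁⁻¹(x₁) ⋯ χ_N⁻¹(x_N), the sum over x₁,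
…, x_N ∈ F^* with x₁ + ⋯ + x_N = −1. Then q · J(χ) = τ(χ₀, Ψ) ⋯ τ(χ_N, Ψ). -/
theorem result (F : Type) [Field F] [Fintype F] [DecidableEq F] (R : Type) [CommRing R] [IsDomain R]
    (N : ℕ) (hN : 1 ≤ N) (χ : Fin (N + 1) → MulChar F R) (hprod : ∏ i, χ i = 1) (hnt : ∃ i, χ i ≠ 1)
    (Ψ : AddChar F R) (hΨ : Ψ ≠ 1) :
    (Fintype.card F : R) * ((-1) ^ (N - 1) *
        ∑ x ∈ (Finset.univ : Finset (Fin N → Fˣ)).filter (fun x => ∑ i, ((x i : Fˣ) : F) = -1),
          ∏ i : Fin N, (χ i.succ)⁻¹ ((x i : Fˣ) : F)) =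
      ∏ i : Fin (N + 1), (-(∑ y : F, Ψ y * (χ i)⁻¹ y)) := by
  classical
  have hunits : ∀ g : F → R, (∑ a : Fˣ, g a) = (∑ y : F, g y) - g 0 := fun g => by
    rw [eq_sub_iff_add_eq, add_comm, Fintype.sum_eq_add_sum_compl (0 : F)]
    refine congrArg _ (Finset.sum_bij' (fun a _ => (a : F)) (fun y hy => Units.mk0 y (by simpa using hy))
      (fun a _ => by simp) (fun y hy => Finset.mem_univ _) (fun a _ => Units.ext rfl) (fun y hy => rfl) (fun a _ => rfl))
  have hprim : Ψ.IsPrimitive := AddChar.IsPrimitive.of_ne_one hΨ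
  have hinner : ∀ c : F, (∑ a : Fˣ, Ψ ((a : F) * c)) = (if c = 0 then (Fintype.card F : R) else 0) - 1 := fun c => by
    rw [hunits (fun y => Ψ (y * c)), AddChar.sum_mulShift c hprim, zero_mul, AddChar.map_zero_eq_one, Nat.cast_ite,
      Nat.cast_zero]
  have hτ : ∀ i, (∑ y : F, Ψ y * (χ i)⁻¹ y) = ∑ a : Fˣ, Ψ a * (χ i)⁻¹ (a : F) := fun i => by
    rw [hunits (fun y => Ψ y * (χ i)⁻¹ y), MulChar.map_nonunit _ not_isUnit_zero, mul_zero, sub_zero]
  let P : (Fin N → Fˣ) → R := fun x => ∏ i : Fin N, (χ i.succ)⁻¹ ((x i : Fˣ) : F)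
  have hP : ∑ x, P x = 0 := by
    obtain ⟨i, hi⟩ : ∃ i : Fin N, χ i.succ ≠ 1 := by
      by_contra h
      push Not at h
      obtain ⟨j, hj⟩ := hnt
      rw [Fin.prod_univ_succ, Finset.prod_eq_one (fun i _ => h i), mul_one] at hprod
      exact hj (Fin.cases hprod h j)
    simp only [P]
    rw [← Fintype.prod_sum (fun (i : Fin N) (a : Fˣ) => (χ i.succ)⁻¹ (a : F))]
    refine Finset.prod_eq_zero (Finset.mem_univ i) ?_
    rw [hunits (fun y => (χ i.succ)⁻¹ y), MulChar.sum_eq_zero_of_ne_one (inv_ne_one.2 hi),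
      MulChar.map_nonunit _ not_isUnit_zero, sub_zero]
  let e : Fˣ × (Fin N → Fˣ) ≃ (Fin (N + 1) → Fˣ) :=
    { toFun := fun p => Fin.cons p.1 (fun i => p.1 * p.2 i)
      invFun := fun y => (y 0, fun i => (y 0)⁻¹ * y i.succ)
      left_inv := fun p => by simp
      right_inv := fun y => funext fun i => by induction i using Fin.cases <;> simp }
  have hone : ∀ a : Fˣ, ∏ i, (χ i)⁻¹ (a : F) = 1 := fun a => by
    have hp : ∀ t : Finset (Fin (N + 1)), (∏ i ∈ t, χ i) ((a⁻¹ : Fˣ) : F) = ∏ i ∈ t, χ i ((a⁻¹ : Fˣ) : F) := fun t => by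
      induction t using Finset.induction_on with
      | empty => rw [Finset.prod_empty, Finset.prod_empty]; exact MulChar.one_apply_coe _
      | insert j t hj ih => rw [Finset.prod_insert hj, Finset.prod_insert hj, MulChar.mul_apply, ih]
    have h := hp Finset.univ
    rw [hprod, MulChar.one_apply_coe] at h
    simpa [MulChar.inv_apply'] using h.symm
  have key : ∀ p, (∏ i, Ψ ((e p i : Fˣ) : F) * (χ i)⁻¹ ((e p i : Fˣ) : F)) =
      Ψ ((p.1 : F) * (1 + ∑ i, ((p.2 i : Fˣ) : F))) * P p.2 := fun p => by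
    rw [Finset.prod_mul_distrib]
    refine congrArg₂ (· * ·) ?_ ?_
    · rw [show (∏ i, Ψ ((e p i : Fˣ) : F)) = Ψ (∑ i, ((e p i : Fˣ) : F)) from
        (map_prod Ψ.toMonoidHom (fun i => Multiplicative.ofAdd ((e p i : Fˣ) : F)) _).symm, Fin.sum_univ_succ]
      simp [e, mul_add, Finset.mul_sum]
    · rw [Fin.prod_univ_succ]
      simp only [e, Equiv.coe_fn_mk, Fin.cons_zero, Fin.cons_succ, Units.val_mul, map_mul, Finset.prod_mul_distrib,
        ← mul_assoc]
      rw [← Fin.prod_univ_succ (fun i => (χ i)⁻¹ (p.1 : F)), hone, one_mul]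
  have hS : (∑ y : Fin (N + 1) → Fˣ, ∏ i, Ψ ((y i : Fˣ) : F) * (χ i)⁻¹ ((y i : Fˣ) : F)) =
      (Fintype.card F : R) * ∑ x ∈ (Finset.univ : Finset (Fin N → Fˣ)).filter (fun x => ∑ i, ((x i : Fˣ) : F) = -1), P x := by
    rw [← e.sum_comp, Fintype.sum_prod_type_right]
    simp only [key, ← Finset.sum_mul, hinner, sub_mul, one_mul, Finset.sum_sub_distrib, hP, sub_zero, ite_mul, zero_mul]
    rw [← Finset.sum_filter, Finset.mul_sum]
    refine Finset.sum_congr (Finset.filter_congr fun x _ => ?_) fun _ _ => rfl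
    rw [add_comm, add_eq_zero_iff_eq_neg]
  simp only [hτ]
  rw [Finset.prod_neg, Finset.card_univ, Fintype.card_fin, Fintype.prod_sum, hS,
    show N + 1 = N - 1 + 2 by omega, pow_add, neg_one_sq, mul_one]
  simp only [P]
  ring

end Groth.Agent.S3129
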