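import Groth.Statements.S3133
import Groth.Agent.Et18.CharRev
-- import your own Groth.Agent.* helpers here

set_option autoImplicit false
open Polynomial
open SGA4h

namespace Groth.Agent.S3133

/-- Let A be a square matrix over a commutative ring and n ≥ 1, and let B be the matrix on n blocks of
the endomorphism (x_1, …, x_n) ↦ (A x_n, x_1, …, x_{n-1}). Then det(1 − B·T) = det(1 − A·Tⁿ), i.e.
the reverse characteristic polynomial of B is that of A expanded by n. -/
theorem result (R : Type) [CommRing R] (m : Type) [Fintype m] [DecidableEq m]
    (A : Matrix m m R) (n : ℕ) (hn : 1 ≤ n) :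
    (Matrix.of fun (p q : Fin n × m) =>
        if p.1.val = 0 then (if q.1.val = n - 1 then A p.2 q.2 else 0)
        else (if q.1.val + 1 = p.1.val ∧ p.2 = q.2 then 1 else 0)).charpolyRev =
      Polynomial.expand R n A.charpolyRev := by
  exact Groth.Agent.Et18.CharRev.charpolyRev_cyc A n hn

end Groth.Agent.S3133
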