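import Groth.Statements.S3140
import Groth.Agent.Et18.RegularChain
-- import your own Groth.Agent.* helpers here

set_option autoImplicit false
universe u
open RingTheory.Sequence
open SGA4h

namespace Groth.Agent.S3140

/-- Let A be a Noetherian local ring and u, v two regular sequences of elements of A generating the same
ideal. Then there is a finite chain of regular sequences generating that same ideal, starting at u
and ending at v, in which each sequence is obtained from the previous one either by a permutation or
by changing only its last element. -/
theorem result (A : Type u) [CommRing A] [IsLocalRing A] [IsNoetherianRing A]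
    (u v : List A) (hu : IsRegular A u) (hv : IsRegular A v) (huv : Ideal.span {x | x ∈ u} = Ideal.span {x | x ∈ v}) :
    ∃ ws : List (List A), ws.head? = some u ∧ ws.getLast? = some v ∧
      (∀ w ∈ ws, IsRegular A w ∧ Ideal.span {x | x ∈ w} = Ideal.span {x | x ∈ u}) ∧
      List.IsChain (fun w w' : List A => w.Perm w' ∨ (w.length = w'.length ∧ w.dropLast = w'.dropLast)) ws := by
  have hR := Et18.RegChain.reflTransGen hv v [] u rfl hu huv
  rw [List.nil_append] at hR
  obtain ⟨ws, hchain, hlast⟩ := List.exists_isChain_cons_of_relationReflTransGen hR
  clear hR
  refine ⟨u :: ws, rfl, ?_, ?_, hchain.imp fun _ _ h => h.1⟩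
  · rw [List.getLast?_eq_getLast_of_ne_nil (List.cons_ne_nil _ _), hlast]
  · intro w hw
    rcases List.mem_cons.1 hw with rfl | hw
    · exact ⟨hu, rfl⟩
    · clear hlast
      induction ws generalizing u w with
      | nil => simp at hw
      | cons a ws ih =>
        obtain ⟨⟨-, ha, haI⟩, hrest⟩ := List.isChain_cons_cons.1 hchain
        rcases List.mem_cons.1 hw with rfl | hw
        · exact ⟨ha, haI.trans huv.symm⟩
        · obtain ⟨h1, h2⟩ := ih a ha haI hrest w (List.mem_cons_of_mem _ hw) hw
          exact ⟨h1, h2.trans (haI.trans huv.symm)⟩

end Groth.Agent.S3140
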