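import Groth.Statements.S3144
import Groth.Agent.Et18.PushDual.Main
-- import your own Groth.Agent.* helpers here

set_option autoImplicit false
universe u
open CategoryTheory CategoryTheory.Limits AlgebraicGeometry Opposite
open EtModD

namespace Groth.Agent.S3144

/-- Let S be a Noetherian separated scheme whose local rings are regular of dimension at most 1 (the
source assumes S purely of dimension 1; dimension-0 components are harmless), n an integer
invertible on S, Λ = ℤ/n, j : U ⟶ S an open immersion with dense image, and F a locally constant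
constructible (finite-type locally constant) sheaf of Λ-modules on the étale site of U. Assuming the
internal Hom functors Hom_Λ(j_*F, -) and Hom_Λ(F, -) exist, the local Ext sheaves Ext^i_Λ(j_*F, Λ_S)
vanish for all i > 0, and Hom_Λ(j_*F, Λ_S) is isomorphic to j_* Hom_Λ(F, Λ_U). -/
theorem result (n : ℕ) {S U : Scheme.{u}} [IsNoetherian S] [S.IsSeparated]
    (hreg : ∀ s : S, IsRegularLocalRing (S.presheaf.stalk s)) (hdim : ∀ s : S, ringKrullDim (S.presheaf.stalk s) ≤ 1)
    (hn : IsUnit (n : Γ(S, ⊤))) (j : U ⟶ S) [IsOpenImmersion j] (hU : Dense (Set.range j.base))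
    (F : EtModW.Mod (ULift.{u+1} (ZMod n)) U) (hF : EtModW.IsFTLocConst (ULift.{u+1} (ZMod n)) F)
    [EtModD.HasSheafHom ((EtModW.push (ULift.{u+1} (ZMod n)) j).obj F)] [EtModD.HasSheafHom F] :
    (∀ i : ℕ, 0 < i → IsZero ((EtModD.extSheaf ((EtModW.push (ULift.{u+1} (ZMod n)) j).obj F) i).obj (EtModW.constMod (ULift.{u+1} (ZMod n)) S (ULift.{u+1} (ZMod n))))) ∧
      Nonempty ((EtModD.sheafHom ((EtModW.push (ULift.{u+1} (ZMod n)) j).obj F)).obj (EtModW.constMod (ULift.{u+1} (ZMod n)) S (ULift.{u+1} (ZMod n))) ≅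
        (EtModW.push (ULift.{u+1} (ZMod n)) j).obj ((EtModD.sheafHom F).obj (EtModW.constMod (ULift.{u+1} (ZMod n)) U (ULift.{u+1} (ZMod n))))) := by
  rcases eq_or_ne n 0 with rfl | hn0
  · have he : IsEmpty S := ⟨fun s => by
      have h := hn.map (S.presheaf.germ ⊤ s trivial).hom
      simp at h⟩
    have hz : ∀ Z : EtModW.Mod (ULift.{u+1} (ZMod 0)) S, IsZero Z := fun Z =>
      Groth.Agent.Et18.Mod.isZero_of_stalks fun x => he.elim x
    exact ⟨fun i _ => hz _, ⟨(hz _).iso (hz _)⟩⟩
  haveI : NeZero n := ⟨hn0⟩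
  exact ⟨fun i hi => Groth.Agent.Et18.PushDual.isZero_ext_push n hreg hdim hn j hU F hF i hi,
    Groth.Agent.Et18.PushDual.nonempty_hom_push' n hreg hdim j hU F⟩

end Groth.Agent.S3144
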