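import Groth.Statements.S3193
import Groth.Agent.KAff28.Iterate

set_option autoImplicit false
set_option linter.style.haveILetI false
set_option backward.isDefEq.respectTransparency false
universe u
open CategoryTheory CategoryTheory.Limits AlgebraicGeometry
attribute [local instance] HasDerivedCategory.standard
open SGA6

namespace Groth.Agent.S3193

/-- For a trivial vector bundle: let S be a Noetherian scheme, r a natural number and f : 𝔸^r_S ⟶ S the
projection of affine r-space. Pullback of modules along the flat morphism f is exact (carried as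
instance hypotheses) and preserves coherence (hypothesis hf); the induced homomorphism f^* : K₀(Coh
S) ⟶ K₀(Coh 𝔸^r_S) is bijective. (The source treats the vector bundle of any finite locally free E.) -/
theorem result (S : Scheme.{u}) [IsNoetherian S] (r : ℕ)
    [(Scheme.Modules.pullback (𝔸(ULift.{u} (Fin r); S) ↘ S)).Additive] [PreservesFiniteLimits (Scheme.Modules.pullback (𝔸(ULift.{u} (Fin r); S) ↘ S))]
    [PreservesFiniteColimits (Scheme.Modules.pullback (𝔸(ULift.{u} (Fin r); S) ↘ S))]
    (hf : ∀ M : S.Modules, Coh.IsCoh M → Coh.IsCoh ((Scheme.Modules.pullback (𝔸(ULift.{u} (Fin r); S) ↘ S)).obj M)) :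
    Function.Bijective (SGA6.mapSub (Scheme.Modules.pullback (𝔸(ULift.{u} (Fin r); S) ↘ S)) (fun M : (S).Modules => Coh.IsCoh M) (fun M : (𝔸(ULift.{u} (Fin r); S)).Modules => Coh.IsCoh M) hf) := by
  obtain ⟨ψ, hψ, hc⟩ := Groth.Agent.KAff28.bijPull_affine S r
  convert hψ using 2
  refine Groth.Agent.KPerfPn28.hom_ext_sub _ ψ fun M hM => ?_
  rw [Groth.Agent.KLoc28.mapSub_clSub _ _ _ hf hM]
  exact (hc M hM).symm

end Groth.Agent.S3193
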