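import Groth.Statements.S3194
import Mathlib

set_option autoImplicit false
universe u
open CategoryTheory
open SGA6

namespace Groth.Agent.S3194

/-- Let A be a principal ideal domain and K_•(Spec A) = K₀ of the category of finitely generated
A-modules (free abelian group on finitely generated modules modulo short exact sequences). The
homomorphism ℤ ⟶ K_•(Spec A) sending k to k·[A] is bijective. -/
theorem result (A : Type u) [CommRing A] [IsDomain A] [IsPrincipalIdealRing A] :
    Function.Bijective (fun k : ℤ => k • KZero.clSub (fun M : ModuleCat.{u} A => Module.Finite A M) (ModuleCat.of A A)) := by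
  let P : ObjectProperty (ModuleCat.{u} A) := fun M => Module.Finite A M
  let cl : ModuleCat.{u} A → KZero.K0sub P := KZero.clSub P
  have hcl : ∀ (M : ModuleCat.{u} A) (h : Module.Finite A M), cl M = QuotientAddGroup.mk (FreeAbelianGroup.of ⟨M, h⟩) :=
    fun M h => dif_pos h
  have rel : ∀ {M₁ M₂ M₃ : Type u} [AddCommGroup M₁] [Module A M₁] [AddCommGroup M₂] [Module A M₂] [AddCommGroup M₃]
      [Module A M₃] [Module.Finite A M₁] [Module.Finite A M₂] [Module.Finite A M₃] (f : M₁ →ₗ[A] M₂) (g : M₂ →ₗ[A] M₃),
      Function.Injective f → Function.Surjective g → Function.Exact f g →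
      cl (ModuleCat.of A M₂) = cl (ModuleCat.of A M₁) + cl (ModuleCat.of A M₃) := by
    intro M₁ M₂ M₃ _ _ _ _ _ _ h1 h2 h3 f g hf hg hfg
    let S := ShortComplex.mk (ModuleCat.ofHom f) (ModuleCat.ofHom g) (ModuleCat.hom_ext (LinearMap.ext hfg.apply_apply_eq_zero))
    have hS : S.ShortExact :=
      { exact := (ShortComplex.ShortExact.moduleCat_exact_iff_function_exact S).mpr hfg
        mono_f := (ModuleCat.mono_iff_injective _).mpr hf
        epi_g := (ModuleCat.epi_iff_surjective _).mpr hg }
    rw [hcl (ModuleCat.of A M₁) h1, hcl (ModuleCat.of A M₂) h2, hcl (ModuleCat.of A M₃) h3, ← sub_eq_zero, ← sub_sub]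
    exact (QuotientAddGroup.eq_zero_iff _).mpr (AddSubgroup.subset_closure ⟨S, h1, h2, h3, hS, rfl⟩)
  have hsub : ∀ (M : Type u) [AddCommGroup M] [Module A M] [Subsingleton M], cl (ModuleCat.of A M) = 0 := by
    intro M _ _ _
    exact left_eq_add.mp (rel (0 : M →ₗ[A] M) (0 : M →ₗ[A] M) (fun _ _ _ => Subsingleton.elim _ _)
      (fun x => ⟨x, Subsingleton.elim _ _⟩) (fun x => ⟨fun _ => ⟨0, Subsingleton.elim _ _⟩, fun _ => Subsingleton.elim _ _⟩))
  have hiso : ∀ {M N : Type u} [AddCommGroup M] [Module A M] [AddCommGroup N] [Module A N] [Module.Finite A M],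
      (M ≃ₗ[A] N) → cl (ModuleCat.of A M) = cl (ModuleCat.of A N) := by
    intro M N _ _ _ _ _ e
    haveI : Module.Finite A N := Module.Finite.equiv e
    haveI : Subsingleton ↥(LinearMap.ker e.toLinearMap) := by
      rw [LinearEquiv.ker]; infer_instance
    rw [rel (LinearMap.ker e.toLinearMap).subtype e.toLinearMap Subtype.val_injective e.surjective
      (LinearMap.exact_subtype_ker_map _), hsub, zero_add]
  have hfree : ∀ r : ℕ, cl (ModuleCat.of A (Fin r → A)) = (r : ℤ) • cl (ModuleCat.of A A) := by
    intro r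
    induction r with
    | zero => rw [hsub, Nat.cast_zero, zero_smul]
    | succ r ih =>
      let e := Fin.consLinearEquiv A (fun _ : Fin (r + 1) => A)
      rw [← hiso e, rel (LinearMap.inr A A (Fin r → A)) (LinearMap.fst A A (Fin r → A)) LinearMap.inr_injective
        LinearMap.fst_surjective (fun x => ⟨fun h => ⟨x.2, Prod.ext h.symm rfl⟩, by rintro ⟨y, rfl⟩; rfl⟩), ih, Nat.cast_succ, add_smul, one_smul]
  have hrk : ∀ x ∈ KZero.relSub P, FreeAbelianGroup.lift (fun M : Subtype P => (Module.finrank A M.1 : ℤ)) x = 0 := by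
    intro x hx
    refine (AddSubgroup.closure_le (FreeAbelianGroup.lift fun M : Subtype P => (Module.finrank A M.1 : ℤ)).ker).mpr ?_ hx
    rintro _ ⟨S, h1, h2, h3, hS, rfl⟩
    haveI : Module.Finite A S.X₂ := h2
    have hex := (ShortComplex.ShortExact.moduleCat_exact_iff_function_exact S).mp hS.exact
    have e1 := Submodule.finrank_quotient_add_finrank (LinearMap.ker S.g.hom)
    rw [(S.g.hom.quotKerEquivOfSurjective ((ModuleCat.epi_iff_surjective _).mp hS.epi_g)).finrank_eq,
      (LinearMap.exact_iff.mp hex), ← (LinearEquiv.ofInjective S.f.hom ((ModuleCat.mono_iff_injective _).mp hS.mono_f)).finrank_eq] at e1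
    rw [SetLike.mem_coe, AddMonoidHom.mem_ker]
    simp only [map_sub, FreeAbelianGroup.lift_apply_of]
    omega
  let rk : KZero.K0sub P →+ ℤ := QuotientAddGroup.lift _ _ hrk
  have hrkA : rk (cl (ModuleCat.of A A)) = 1 := by
    rw [hcl _ (inferInstance : Module.Finite A A)]
    show FreeAbelianGroup.lift (fun M : Subtype P => (Module.finrank A M.1 : ℤ)) (FreeAbelianGroup.of _) = 1
    rw [FreeAbelianGroup.lift_apply_of]
    exact_mod_cast Module.finrank_self A
  refine ⟨fun a b h => ?_, fun x => ?_⟩
  · have h2 := congrArg rk (show a • cl (ModuleCat.of A A) = b • cl (ModuleCat.of A A) from h)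
    rwa [map_zsmul, map_zsmul, hrkA, smul_eq_mul, smul_eq_mul, mul_one, mul_one] at h2
  · show x ∈ AddSubgroup.zmultiples (cl (ModuleCat.of A A))
    obtain ⟨y, rfl⟩ := QuotientAddGroup.mk_surjective x
    induction y using FreeAbelianGroup.induction_on with
    | zero => exact zero_mem _
    | neg X hX => exact neg_mem hX
    | add a b ha hb => exact add_mem ha hb
    | of X =>
      obtain ⟨M, hM⟩ := X
      haveI : Module.Finite A M := hM
      rw [← hcl M hM]
      obtain ⟨r, φ, hφ⟩ := Module.Finite.exists_fin' A M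
      let b := Module.Free.chooseBasis A ↥(LinearMap.ker φ)
      have e := hiso (b.equivFun.trans (LinearEquiv.funCongrLeft A A (Fintype.equivFin _).symm))
      have h1 := rel (LinearMap.ker φ).subtype φ Subtype.val_injective hφ (LinearMap.exact_subtype_ker_map _)
      rw [e, hfree, hfree] at h1
      have h2 : cl M = _ - _ := eq_sub_of_add_eq' (show _ + cl M = _ from h1.symm)
      rw [h2, ← sub_smul]
      exact AddSubgroup.mem_zmultiples_iff.mpr ⟨_, rfl⟩
end Groth.Agent.S3194
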