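import Groth.Statements.S3198
import Groth.Agent.KFib28.Main
import Groth.Agent.Coherent.CohBC.PushStructure

set_option autoImplicit false
set_option linter.style.haveILetI false
set_option backward.isDefEq.respectTransparency false
universe u
open CategoryTheory CategoryTheory.Limits AlgebraicGeometry
attribute [local instance] HasDerivedCategory.standard
open SGA6

namespace Groth.Agent.S3198

/-- Let f : X ⟶ S be a flat morphism of Noetherian schemes such that for every point s of S the map ℤ ⟶
K₀(Coh X_s), k ↦ k·[O_{X_s}], is bijective. Pullback along f is exact (instance hypotheses) and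
preserves coherence (hypothesis hf); the induced homomorphism f^* : K₀(Coh S) ⟶ K₀(Coh X) is
surjective. (The source adds that f^* is bijective when f has a section of finite tor-dimension.) -/
theorem result {X S : Scheme.{u}} [IsNoetherian X] [IsNoetherian S] (f : X ⟶ S) [Flat f]
    [(Scheme.Modules.pullback f).Additive] [PreservesFiniteLimits (Scheme.Modules.pullback f)] [PreservesFiniteColimits (Scheme.Modules.pullback f)]
    (hf : ∀ M : S.Modules, Coh.IsCoh M → Coh.IsCoh ((Scheme.Modules.pullback f).obj M))
    (hfib : ∀ s : S, Function.Bijective (fun k : ℤ => k • KZero.clSub (fun M : (f.fiber s).Modules => Coh.IsCoh M) (Coh.structureModule (f.fiber s)))) :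
    Function.Surjective (SGA6.mapSub (Scheme.Modules.pullback f) (fun M : (S).Modules => Coh.IsCoh M) (fun M : (X).Modules => Coh.IsCoh M) hf) := by
  intro y
  have hE : FlatMod.IsFinLocFree (Coh.structureModule X) :=
    Groth.Agent.Coherent.CohBC.isFinLocFree_structureModule X
  have hO : ∀ s : S, IsLocallyNoetherian (f.fiber s) → AddSubgroup.closure (Set.range (fun _ : Fin 1 =>
      KZero.clSub (fun M : (f.fiber s).Modules => Coh.IsCoh M)
        ((Scheme.Modules.pullback (f.fiberι s)).obj (Coh.structureModule X)))) = ⊤ := by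
    intro s _
    refine (AddSubgroup.eq_top_iff' _).2 fun z => ?_
    obtain ⟨k, rfl⟩ := (hfib s).2 z
    refine AddSubgroup.zsmul_mem _ ?_ k
    refine AddSubgroup.subset_closure ⟨0, ?_⟩
    obtain ⟨e⟩ := Groth.Agent.AmpleLib.exists_pullStructureIso (f.fiberι s)
    exact Groth.Agent.KFib28.cl_iso' e
  refine (AddSubgroup.closure_le ((SGA6.mapSub (Scheme.Modules.pullback f) (fun M : S.Modules => Coh.IsCoh M) (fun M : X.Modules => Coh.IsCoh M) hf).range)).2 ?_ (Groth.Agent.KFib28.main f (fun _ : Fin 1 => Coh.structureModule X) (fun _ => hE) hO y)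
  rintro c ⟨_, M, hM, rfl⟩
  refine ⟨KZero.clSub (fun M : S.Modules => Coh.IsCoh M) M, ?_⟩
  rw [Groth.Agent.KLoc28.mapSub_clSub _ _ _ _ hM]
  exact Groth.Agent.KFib28.cl_iso' (Groth.Agent.AmpleLib.unitTensorIso _).symm

end Groth.Agent.S3198
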