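import Groth.Statements.S3199
import Groth.Agent.KBlow28.Gen
import Groth.Agent.S3202
import Groth.Agent.S2894
import Groth.Agent.ProjEmbH2.Regular

set_option autoImplicit false
set_option linter.style.haveILetI false
set_option backward.isDefEq.respectTransparency false
universe u
open CategoryTheory CategoryTheory.Limits AlgebraicGeometry
attribute [local instance] HasDerivedCategory.standard
open SGA6

namespace Groth.Agent.S3199

/-- Let X be a Noetherian scheme with an ample invertible module, i : Y ⟶ X a regular closed immersion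
with Y regular, f : X' ⟶ X the blow-up of X along Y and j : Y' ⟶ X' the closed immersion of Y' = X'
×_X Y. On K^• = K₀ of perfect complexes, let j_* be induced by the exact direct image along j
(exactness as instance hypotheses; it carries perfect complexes to perfect complexes — hypothesis
hj) and f^* by the derived pullback Lf^* (assumed to exist, with its triangulated structure as
instance hypotheses; it preserves perfect complexes — hypothesis hf). Then the map (y', x) ↦ j_*(y')
+ f^*(x) from K^•(Y') × K^•(X) to K^•(X') is surjective. (The full published statement is an exact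
sequence 0 → K^•(Y) → K^•(Y') × K^•(X) → K^•(X') → 0 whose first map involves λ-operations; only
surjectivity of the last map is asserted here.) -/
theorem result {X Y X' Y' : Scheme.{u}} [IsNoetherian X]
    (L : X.Modules) (hL : CohB1.IsAmple L)
    (i : Y ⟶ X) (hi : Mor2.IsRegularClosedImmersion i) (hYreg : ∀ y : Y, IsRegularLocalRing (Y.presheaf.stalk y))
    (f : X' ⟶ X) (hf₀ : BlowUp.IsBlowUp f i.ker) (j : Y' ⟶ X') (g : Y' ⟶ Y) [IsClosedImmersion j] (hsq : IsPullback j g f i)
    [(Scheme.Modules.pushforward j).Additive] [PreservesFiniteLimits (Scheme.Modules.pushforward j)] [PreservesFiniteColimits (Scheme.Modules.pushforward j)]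
    (hj : ∀ K : DCoh.D Y', DCoh.IsPerfect K → DCoh.IsPerfect ((Scheme.Modules.pushforward j).mapDerivedCategory.obj K))
    [DCoh.HasLpull f] [(DCoh.Lpull f).CommShift ℤ] [(DCoh.Lpull f).IsTriangulated]
    (hf : ∀ K : DCoh.D X, DCoh.IsPerfect K → DCoh.IsPerfect ((DCoh.Lpull f).obj K)) :
    Function.Surjective (fun p : SGA6.Kperf Y' × SGA6.Kperf X =>
      SGA6.mapTr ((Scheme.Modules.pushforward j).mapDerivedCategory) (SGA6.perfP Y') (SGA6.perfP X') hj p.1 +
      SGA6.mapTr (DCoh.Lpull f) (SGA6.perfP X) (SGA6.perfP X') hf p.2) := by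
  haveI : IsClosedImmersion i := hi.1
  haveI : IsLocallyNoetherian Y := LocallyOfFiniteType.isLocallyNoetherian i
  haveI : IsProper f := Groth.Agent.BlowUpLib.isProper_of_isBlowUp hf₀ fun U =>
    haveI := IsLocallyNoetherian.component_noetherian (X := X) U
    IsNoetherian.noetherian _
  haveI : IsLocallyNoetherian X' := LocallyOfFiniteType.isLocallyNoetherian f
  haveI : CompactSpace ↥X' := QuasiCompact.compactSpace_of_compactSpace f
  haveI : IsNoetherian X' := {}
  haveI : IsIso (f ∣_ i.ker.support.compl) := Groth.Agent.SDiv28.isIso_off_center hf₀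
  let E := (BlowUp.exceptional f i.ker).subscheme
  let e : E ⟶ X' := (BlowUp.exceptional f i.ker).subschemeι
  have hker : j.ker = e.ker := by
    rw [Scheme.IdealSheafData.ker_subschemeι]
    show j.ker = i.ker.comap f
    rw [← Scheme.IdealSheafData.ker_fst_of_isClosedImmersion i f, ← hsq.isoPullback_hom_fst,
      Scheme.Hom.ker_comp_of_isIso]
  let a : E ⟶ Y' := IsClosedImmersion.lift j e hker.le
  let b : Y' ⟶ E := IsClosedImmersion.lift e j hker.ge
  have ha : a ≫ j = e := IsClosedImmersion.lift_fac _ _ _
  have hb : b ≫ e = j := IsClosedImmersion.lift_fac _ _ _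
  haveI : IsIso b := ⟨a, by rw [← cancel_mono j, Category.assoc, ha, hb, Category.id_comp],
    by rw [← cancel_mono e, Category.assoc, hb, ha, Category.id_comp]⟩
  haveI : Smooth g := by
    haveI := Groth.Agent.S2894.result i hi f hf₀ (inv b ≫ g) (by
      rw [Category.assoc, ← hsq.w, ← hb, Category.assoc, IsIso.inv_hom_id_assoc])
    rw [← IsIso.hom_inv_id_assoc b g]
    infer_instance
  have hrange : ((f ⁻¹ᵁ i.ker.support.compl : X'.Opens) : Set X')ᶜ ⊆ Set.range j := by
    intro x hx
    have hx' : f x ∈ (i.ker.support : Set X) := by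
      by_contra hn
      exact hx hn
    rw [Scheme.Hom.support_ker] at hx'
    change f x ∈ closure (Set.range i) at hx'
    rw [i.isClosedEmbedding.isClosed_range.closure_eq] at hx'
    obtain ⟨y, hy⟩ := hx'
    obtain ⟨z, hz, -⟩ := Scheme.exists_preimage_of_isPullback hsq x y hy.symm
    exact ⟨z, hz⟩
  intro y
  obtain ⟨p, q, h⟩ := Groth.Agent.KBlow28.exists_decomp (Groth.Agent.S3202.result i hi f hf₀) i.ker.support.compl j
    hrange (Groth.Agent.ProjEmbH2.isRegularLocalRing_of_smooth g hYreg) hj hf y
  exact ⟨(p, q), h⟩

end Groth.Agent.S3199
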