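import Groth.Statements.S3204
import Groth.Agent.KTor28.Main
import Groth.Agent.KTor28.KClass
import Groth.Agent.EulerPn5.Wedge
import Groth.Agent.WedgeDual5.Sheaf
import Groth.Agent.ExtPowEx28.Basic
import Groth.Agent.ExtFilt28.LocFree
import Groth.Agent.LocFreeLib.Semilocal
import Groth.Agent.KPerfPn28.Main

set_option autoImplicit false
set_option linter.style.haveILetI false
set_option backward.isDefEq.respectTransparency false
universe u
open CategoryTheory CategoryTheory.Limits AlgebraicGeometry
attribute [local instance] HasDerivedCategory.standard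
open SGA6

namespace Groth.Agent.S3204

/-- Self-intersection formula for a regular closed immersion, on generators of K^•: let X be a scheme
and i : Y ⟶ X a regular closed immersion whose conormal module N is finite locally free of constant
rank c, and let L_0, …, L_c be exterior powers of N, L_p = Λ^p N (ExtPow.IsExtPow p N L_p). Let i_*
: K^•(Y) ⟶ K^•(X) be the map on Grothendieck groups of perfect complexes induced by the direct image
functor on modules, assumed exact (instance hypotheses) and to carry perfect complexes to perfect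
ones (hypothesis hi), and i^* : K^•(X) ⟶ K^•(Y) the map induced by the derived pullback Li^*,
assumed to exist as a triangulated functor and to carry perfect complexes to perfect ones
(hypothesis hi′). Then for every finite locally free O_Y-module M, i^*(i_*[M]) = Σ_{p=0}^{c} (−1)^p
[M ⊗ L_p] in K^•(Y). (The published statement lets the rank of N vary locally, assumes that X has an
ample invertible module, and asserts i^* i_*(x) = x · λ_{−1}(N) for all x ∈ K^•(Y); here the
identity is stated only on the classes [M] of finite locally free modules, where no ampleness is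
needed.) -/
theorem result {X Y : Scheme.{u}}
    (i : Y ⟶ X) (hi₀ : Mor2.IsRegularClosedImmersion i) [IsClosedImmersion i] (c : ℕ) (hN : FlatMod.IsFinLocFreeOfRank c (Omega.conormal i))
    (L : ℕ → Y.Modules) (hL : ∀ p : ℕ, p ≤ c → ExtPow.IsExtPow p (Omega.conormal i) (L p))
    [(Scheme.Modules.pushforward i).Additive] [PreservesFiniteLimits (Scheme.Modules.pushforward i)] [PreservesFiniteColimits (Scheme.Modules.pushforward i)]
    (hi : ∀ K : DCoh.D Y, DCoh.IsPerfect K → DCoh.IsPerfect ((Scheme.Modules.pushforward i).mapDerivedCategory.obj K))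
    [DCoh.HasLpull i] [(DCoh.Lpull i).CommShift ℤ] [(DCoh.Lpull i).IsTriangulated]
    (hi' : ∀ K : DCoh.D X, DCoh.IsPerfect K → DCoh.IsPerfect ((DCoh.Lpull i).obj K))
    (M : Y.Modules) (hM : FlatMod.IsFinLocFree M) :
    SGA6.mapTr (DCoh.Lpull i) (SGA6.perfP X) (SGA6.perfP Y) hi'
      (SGA6.mapTr ((Scheme.Modules.pushforward i).mapDerivedCategory) (SGA6.perfP Y) (SGA6.perfP X) hi (KZero.clTr (SGA6.perfP Y) (DCoh.inD Y M))) =
    ∑ p ∈ Finset.range (c + 1), (-1 : ℤ) ^ p • KZero.clTr (SGA6.perfP Y) (DCoh.inD Y (((DCoh.tensorBi (X := Y)).obj M).obj (L p))) := by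
  have hfr := Groth.Agent.KTor28.hasFrames_of_mor2 i hi₀
  have hN' : FlatMod.IsFinLocFree (Omega.conormal i) := Groth.Agent.LocFreeLib.isFinLocFree_of_rank hN
  have hiM : DCoh.IsPerfect (DCoh.inD Y M) := Groth.Agent.KZeroLib.isPerfect_inD_finLocFree hM
  have e := ((Scheme.Modules.pushforward i).mapDerivedCategorySingleFunctor 0).app M
  rw [Groth.Agent.KPerfPn28.mapTr_cl _ hi hiM, Groth.Agent.KPerfPn28.mapTr_cl _ hi' (hi _ hiM)]
  have hK' := hi' _ (hi _ hiM)
  let K := (DCoh.Lpull i).obj (DCoh.inD X ((Scheme.Modules.pushforward i).obj M))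
  refine (Groth.Agent.KBlow28.cl_iso' ((DCoh.Lpull i).mapIso e : _ ≅ K) hK').trans ?_
  have hH : ∀ p : ℕ, p ≤ c → Nonempty (DCoh.HD K (-(p : ℤ)) ≅ CohB1.tensorMod M (L p)) := fun p hp =>
    Groth.Agent.KTor28.nonempty_HD_Lpull_iso i hfr hM (hL p hp)
  have hfree : ∀ p : ℕ, p ≤ c → FlatMod.IsFinLocFree (DCoh.HD K (-(p : ℤ))) := fun p hp => by
    obtain ⟨f⟩ := hH p hp
    exact Groth.Agent.DCat.PerfTensor.isFinLocFree_of_iso f.symm (Groth.Agent.ExtFilt28.isFinLocFree_tensor hM
      (Groth.Agent.WedgeDual5.isFinLocFree_of_isExtPow hN' (hL p hp)))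
  have hle : K.IsLE 0 := (DerivedCategory.isLE_iff K 0).2 fun k hk =>
    Groth.Agent.KTor28.isZero_HD_Lpull_pos i M k hk
  obtain ⟨-, hcl⟩ := Groth.Agent.KTor28.cl_eq_sum_HD c K hle (fun k hk => by
      obtain ⟨q, rfl⟩ : ∃ q : ℕ, k = -(q : ℤ) := ⟨(-k).toNat, by omega⟩
      obtain ⟨L', hLf, hL'⟩ := Groth.Agent.ExtPowEx28.exists_isExtPow hN' q
      obtain ⟨f⟩ := Groth.Agent.KTor28.nonempty_HD_Lpull_iso i hfr hM hL'
      exact IsZero.of_iso (((DCoh.tensorBi (X := Y)).obj M).map_isZero
        (Groth.Agent.EulerPn5.isZero_of_isExtPow hN hL' (by omega))) f)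
    fun p hp => Groth.Agent.KZeroLib.isPerfect_inD_finLocFree (hfree p hp)
  rw [hcl]
  refine Finset.sum_congr rfl fun p hp => ?_
  have hp' : p ≤ c := by simp only [Finset.mem_range] at hp; omega
  obtain ⟨f⟩ := hH p hp'
  exact congrArg _ (Groth.Agent.KBlow28.cl_iso' ((DerivedCategory.singleFunctor Y.Modules 0).mapIso f)
    (Groth.Agent.KZeroLib.isPerfect_inD_finLocFree (hfree p hp')))

end Groth.Agent.S3204
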