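import Groth.Statements.S3205
import Groth.Agent.ExtFilt28.Main

set_option backward.isDefEq.respectTransparency.types false

set_option autoImplicit false
universe u
open CategoryTheory CategoryTheory.Limits AlgebraicGeometry
attribute [local instance] HasDerivedCategory.standard
open SGA6

namespace Groth.Agent.S3205

/-- Let X be a scheme and 0 → E' → E → E'' → 0 a short exact sequence of finite locally free
O_X-modules. Let L'_i, L_n, L''_j be finite locally free exterior powers of E', E, E'' (in the sense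
of the affine-local predicate ExtPow.IsExtPow). Then in K₀ of finite locally free modules, [L_n] =
Σ_{i=0}^{n} [L'_i ⊗ L''_{n-i}] for every n. (The source constructs a filtration of Λⁿ E with
successive quotients Λ^i E' ⊗ Λ^{n-i} E''; the equality of classes is its consequence in K₀.) -/
theorem result (X : Scheme.{u}) (S : ShortComplex X.Modules) (hS : S.ShortExact)
    (h₁ : FlatMod.IsFinLocFree S.X₁) (h₂ : FlatMod.IsFinLocFree S.X₂) (h₃ : FlatMod.IsFinLocFree S.X₃)
    (L' L L'' : ℕ → X.Modules)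
    (hL' : ∀ i, FlatMod.IsFinLocFree (L' i) ∧ ExtPow.IsExtPow i S.X₁ (L' i))
    (hL : ∀ i, FlatMod.IsFinLocFree (L i) ∧ ExtPow.IsExtPow i S.X₂ (L i))
    (hL'' : ∀ i, FlatMod.IsFinLocFree (L'' i) ∧ ExtPow.IsExtPow i S.X₃ (L'' i)) (n : ℕ) :
    KZero.clSub (fun M : X.Modules => FlatMod.IsFinLocFree M) (L n) =
      ∑ i ∈ Finset.range (n + 1), KZero.clSub (fun M : X.Modules => FlatMod.IsFinLocFree M) (((DCoh.tensorBi (X := X)).obj (L' i)).obj (L'' (n - i))) := by
  choose φ' c' using fun i => (hL' i).2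
  choose φ c using fun i => (hL i).2
  choose φ'' c'' using fun i => (hL'' i).2
  haveI : ∀ i, Coh.IsQCoh (L' i) := fun i => CAlgH3.LocFreeFactor.isQCoh_of_finLocFree (hL' i).1
  haveI : ∀ i, Coh.IsQCoh (L i) := fun i => CAlgH3.LocFreeFactor.isQCoh_of_finLocFree (hL i).1
  haveI : ∀ i, Coh.IsQCoh (L'' i) := fun i => CAlgH3.LocFreeFactor.isQCoh_of_finLocFree (hL'' i).1
  exact ExtFilt28.clv_extPow hS h₁ h₃ φ' φ φ'' c' c c'' (fun i => (hL' i).1) (fun i => (hL'' i).1) n

end Groth.Agent.S3205
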