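import Groth.Statements.S3206
import Groth.Agent.Et18.Morse
-- import your own Groth.Agent.* helpers here

set_option autoImplicit false
open SGA7

namespace Groth.Agent.S3206

/-- Let k be a field and f a formal power series in n variables over k without constant term whose
partial derivatives ∂f/∂x_1, …, ∂f/∂x_n generate the maximal ideal of k[[x_1, …, x_n]]. Then there
are power series ε_1, …, ε_n with no terms of degree < 2 and a quadratic form q such that f = q(x_1
+ ε_1, …, x_n + ε_n). -/
theorem result (k : Type) [Field k] (n : ℕ) (f : MvPowerSeries (Fin n) k)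
    (hf0 : MvPowerSeries.constantCoeff f = 0)
    (hJ : Ideal.span (Set.range fun i : Fin n => MvPowerSeries.pderiv k i f) = IsLocalRing.maximalIdeal (MvPowerSeries (Fin n) k)) :
    ∃ (ε : Fin n → MvPowerSeries (Fin n) k) (_ : ∀ i (m : Fin n →₀ ℕ), m.degree < 2 → MvPowerSeries.coeff m (ε i) = 0)
      (q : MvPolynomial (Fin n) k) (_ : q.IsHomogeneous 2)
      (_ : MvPowerSeries.HasSubst (fun i : Fin n => MvPowerSeries.X i + ε i)),
      f = MvPowerSeries.subst (fun i : Fin n => MvPowerSeries.X i + ε i) (q : MvPowerSeries (Fin n) k) := by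
  classical
  open MvPowerSeries in
  have hmem : ∀ i, constantCoeff (pderiv k i f) = 0 := fun i =>
    Et18.mem_maximalIdeal_iff.1 (hJ ▸ Ideal.subset_span ⟨i, rfl⟩)
  have hlow : VanCyc.NoLowTerms f :=
    ⟨hf0, fun i => (Et18.constantCoeff_pderiv_eq f i).symm.trans (hmem i)⟩
  have hq : VanCyc.QuadNondeg (VanCyc.quadPart f) := by
    have hX : ∀ j, ∃ c : Fin n → MvPowerSeries (Fin n) k,
        ∑ i, c i * MvPowerSeries.pderiv k i f = MvPowerSeries.X j := fun j => by
      have : (MvPowerSeries.X j : MvPowerSeries (Fin n) k) ∈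
          Ideal.span (Set.range fun i : Fin n => MvPowerSeries.pderiv k i f) := by
        rw [hJ, Et18.mem_maximalIdeal_iff, MvPowerSeries.constantCoeff_X]
      exact Ideal.mem_span_range_iff_exists_fun.1 this
    choose c hc using hX
    refine Matrix.isUnit_det_of_left_inverse
      (B := fun j i => MvPowerSeries.constantCoeff (c j i)) ?_
    ext j l
    have e := congrArg (MvPowerSeries.coeff (Finsupp.single l 1)) (hc j)
    rw [map_sum, MvPowerSeries.coeff_X] at e
    simp only [Et18.coeff_single_mul (hmem _), Et18.coeff_single_pderiv] at e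
    rw [Matrix.mul_apply, e, Matrix.one_apply]
    simp [Finsupp.single_left_inj, eq_comm]
  obtain ⟨g, hg, hs, e⟩ := Et18.exists_subst_qSeries_add_eq (VanCyc.quadPart f) hq 0 le_rfl
    (Et18.ordGE_sub_quadPart hlow)
  refine ⟨g, hg, VanCyc.quadPoly (VanCyc.quadPart f), ?_, hs, ?_⟩
  · refine MvPolynomial.IsHomogeneous.sum _ _ _ fun i _ => MvPolynomial.IsHomogeneous.sum _ _ _ fun j _ => ?_
    split_ifs
    · exact (MvPolynomial.isHomogeneous_C_mul_X _ i).mul (MvPolynomial.isHomogeneous_X k j)
    · exact MvPolynomial.isHomogeneous_zero _ _ _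
  · rw [Et18.coe_quadPoly]
    exact e.symm.trans (by rw [map_zero, add_zero])

end Groth.Agent.S3206
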