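import Groth.Statements.S3207
import Mathlib
-- import your own Groth.Agent.* helpers here

set_option autoImplicit false
universe u
open CategoryTheory CategoryTheory.Limits AlgebraicGeometry
open SGA7

namespace Groth.Agent.S3207

/-- Let g : T -> S be locally quasi-finite, of finite presentation, separated and flat. If for every
maximal point s of S (a point with no proper generization) the fibre of g over s is either empty or
mapped isomorphically onto Spec κ(s) (rank at most 1), then g is an open immersion. -/
theorem result {T S : Scheme.{u}} (g : T ⟶ S) [LocallyQuasiFinite g]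
    [LocallyOfFinitePresentation g] [QuasiCompact g] [IsSeparated g] [Flat g]
    (h : ∀ s : S, (∀ t : S, t ⤳ s → t = s) →
      IsEmpty ↑(pullback g (S.fromSpecResidueField s)) ∨ IsIso (pullback.snd g (S.fromSpecResidueField s))) :
    IsOpenImmersion g := by
  -- maximal points
  have hmax : ∀ {X : Scheme.{u}} (x : X), ∃ η : X, η ⤳ x ∧ ∀ t : X, t ⤳ η → t = η := fun {X} x => by
    have hC : IsIrreducible (irreducibleComponent x) := isIrreducible_irreducibleComponent
    refine ⟨hC.genericPoint, ?_, fun t ht => ?_⟩
    · rw [specializes_iff_mem_closure, hC.isGenericPoint_genericPoint isClosed_irreducibleComponent]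
      exact mem_irreducibleComponent
    · have hsub : irreducibleComponent x ⊆ closure {t} := by
        rw [← hC.isGenericPoint_genericPoint isClosed_irreducibleComponent]
        exact specializes_iff_closure_subset.1 ht
      have heq : closure {t} = irreducibleComponent x :=
        (eq_irreducibleComponent (isPreirreducible_singleton.closure) hsub)
      exact (IsGenericPoint.eq (show IsGenericPoint t (irreducibleComponent x) from heq)
        (hC.isGenericPoint_genericPoint isClosed_irreducibleComponent))
  let p : pullback g g ⟶ T := pullback.snd g g
  let δ : T ⟶ pullback g g := pullback.diagonal g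
  have hδp : δ ≫ p = 𝟙 T := pullback.diagonal_snd g
  haveI : Flat p := inferInstanceAs (Flat (pullback.snd g g))
  haveI : LocallyOfFinitePresentation p := inferInstanceAs (LocallyOfFinitePresentation (pullback.snd g g))
  haveI : LocallyQuasiFinite p := inferInstanceAs (LocallyQuasiFinite (pullback.snd g g))
  haveI : IsSeparated p := inferInstanceAs (IsSeparated (pullback.snd g g))
  haveI : QuasiCompact p := inferInstanceAs (QuasiCompact (pullback.snd g g))
  -- the diagonal is surjective
  haveI : Surjective δ := by
    refine ⟨fun w₀ => ?_⟩
    by_contra hw₀
    let W : (pullback g g).Opens := ⟨(Set.range δ)ᶜ, δ.isClosedEmbedding.isClosed_range.isOpen_compl⟩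
    let q : pullback g g ⟶ S := p ≫ g
    haveI : Flat q := inferInstanceAs (Flat (pullback.snd g g ≫ g))
    have hopen : IsOpen (q '' (W : Set (pullback g g : Scheme.{u}))) := q.isOpenMap _ W.2
    obtain ⟨η, hη, hηmax⟩ := hmax (q w₀)
    obtain ⟨w, hwW, hw⟩ := hη.mem_open hopen ⟨w₀, hw₀, rfl⟩
    subst hw
    apply hwW
    let s := q w
    let a := (pullback g g).fromSpecResidueField w ≫ pullback.fst g g
    let b := (pullback g g).fromSpecResidueField w ≫ pullback.snd g g
    let m := Spec.map (q.residueFieldMap w)
    have hb : b ≫ g = m ≫ S.fromSpecResidueField s := by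
      rw [Category.assoc]; exact (Scheme.Hom.SpecMap_residueFieldMap_fromSpecResidueField q w).symm
    have ha : a ≫ g = m ≫ S.fromSpecResidueField s := by
      rw [Category.assoc, pullback.condition, ← Category.assoc]; exact hb
    let a' := pullback.lift (f := g) (g := S.fromSpecResidueField s) a m ha
    let b' := pullback.lift (f := g) (g := S.fromSpecResidueField s) b m hb
    rcases h s hηmax with hem | hiso
    · exact (hem.false (a' default)).elim
    · have hab : a' = b' := (cancel_mono (pullback.snd g (S.fromSpecResidueField s))).1
        ((pullback.lift_snd _ _ ha).trans (pullback.lift_snd _ _ hb).symm)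
      have hab' : a = b := by
        exact (pullback.lift_fst _ _ ha).symm.trans
          ((congrArg (· ≫ pullback.fst g (S.fromSpecResidueField s)) hab).trans (pullback.lift_fst _ _ hb))
      have hw : (pullback g g).fromSpecResidueField w = a ≫ δ := by
        apply pullback.hom_ext
        · simp [δ, a]
        · simp only [δ, Category.assoc, pullback.diagonal_snd, Category.comp_id]
          exact hab'.symm
      refine ⟨a default, ?_⟩
      rw [← Scheme.Hom.comp_apply, ← hw, Scheme.fromSpecResidueField_apply]
  -- the projection is finite
  haveI : UniversallyClosed (δ ≫ p) := by rw [hδp]; infer_instance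
  haveI : UniversallyClosed p := UniversallyClosed.of_comp_surjective δ p
  haveI : IsProper p := {}
  haveI : IsFinite p := IsFinite.of_isProper_of_locallyQuasiFinite p
  -- of rank one
  have hrank : p.finrank = 1 := by
    funext t
    obtain ⟨τ, hτ, hτmax⟩ := hmax t
    have hval : p.finrank t = p.finrank τ := by
      have hU : IsOpen (p.finrank ⁻¹' {p.finrank t}) := p.isLocallyConstant_finrank _
      exact (hτ.mem_open hU rfl : p.finrank τ = p.finrank t).symm
    rw [hval]
    have hsmax : ∀ u : S, u ⤳ g τ → u = g τ := fun u hu => by
      obtain ⟨τ', hτ', rfl⟩ := Flat.generalizingMap g hu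
      rw [hτmax τ' hτ']
    rcases h (g τ) hsmax with hem | hiso
    · exact (hem.false (pullback.lift (f := g) (g := S.fromSpecResidueField (g τ))
        (T.fromSpecResidueField τ) (Spec.map (g.residueFieldMap τ))
        (Scheme.Hom.SpecMap_residueFieldMap_fromSpecResidueField g τ).symm default)).elim
    · have hiso' : IsIso (pullback.snd g (T.fromSpecResidueField τ ≫ g)) := by
        have hsq : T.fromSpecResidueField τ ≫ g =
            Spec.map (g.residueFieldMap τ) ≫ S.fromSpecResidueField (g τ) :=
          (Scheme.Hom.SpecMap_residueFieldMap_fromSpecResidueField g τ).symm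
        rw [hsq, ← pullbackLeftPullbackSndIso_inv_snd_snd g (S.fromSpecResidueField (g τ))
          (Spec.map (g.residueFieldMap τ))]
        infer_instance
      haveI : IsIso (pullback.snd p (T.fromSpecResidueField τ)) := by
        change IsIso (pullback.snd (pullback.snd g g) (T.fromSpecResidueField τ))
        rw [← pullbackLeftPullbackSndIso_hom_snd g g (T.fromSpecResidueField τ)]
        infer_instance
      have h1 := Scheme.Hom.finrank_pullback_snd p (T.fromSpecResidueField τ) default
      rw [Scheme.Hom.finrank_eq_one_of_isIso, Scheme.fromSpecResidueField_apply] at h1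
      exact h1.symm
  haveI : IsIso p := (Scheme.Hom.isIso_iff_finrank_eq p).2 hrank
  haveI : IsIso δ := IsIso.of_isIso_fac_right hδp
  haveI : Mono g := (pullback.isIso_diagonal_iff g).1 inferInstance
  exact IsOpenImmersion.of_flat_of_mono g

end Groth.Agent.S3207
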