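import Groth.Statements.S3208
import Mathlib.LinearAlgebra.FreeModule.PID
import Mathlib.RingTheory.Int.Basic
import Mathlib.Tactic.LinearCombination
import Mathlib.Tactic.Ring
import Mathlib.Algebra.Ring.GeomSum
import Mathlib.Data.Nat.Factors
-- import your own Groth.Agent.* helpers here

set_option autoImplicit false
open SGA7

namespace Groth.Agent.S3208

/-- Let E be a commutative ring which is finitely generated and torsion-free as an additive group, u an
element of E of finite multiplicative order (u^m = 1 for some m > 0), and n ≥ 2 an integer with u ≡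
1 modulo nE (i.e. 1 - u = n·v for some v ∈ E). Then u² = 1, and if n ≥ 3 then u = 1. -/
theorem result (E : Type) [CommRing E] [NoZeroSMulDivisors ℤ E] [Module.Finite ℤ E] (u : E) (m : ℕ) (hm : 0 < m)
    (hu : u ^ m = 1) (n : ℕ) (hn : 2 ≤ n) (hcong : ∃ v : E, 1 - u = (n : E) * v) :
    u ^ 2 = 1 ∧ (3 ≤ n → u = 1) := by
  classical
  haveI : Module.IsTorsionFree ℤ E := inferInstance
  let B := Module.Free.chooseBasis ℤ E
  have inf : ∀ (l : ℕ) (z t : E), 2 ≤ l → z = (l : E) * z * t → z = 0 := by
    intro l z t hl hz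
    have h1 : ∀ k : ℕ, z = ((l : ℤ) ^ k) • (z * t ^ k) := by
      intro k
      induction k with
      | zero => simp
      | succ k ih =>
        conv_lhs => rw [ih, hz]
        simp only [zsmul_eq_mul, Int.cast_pow, Int.cast_natCast]
        ring
    refine B.ext_elem fun i => ?_
    rw [map_zero, Finsupp.zero_apply]
    refine Int.eq_zero_of_dvd_of_natAbs_lt_natAbs (d := (l : ℤ) ^ ((B.repr z i).natAbs)) ?_ ?_ <;>
      try (rw [Int.natAbs_pow, Int.natAbs_natCast]; exact Nat.lt_pow_self hl)
    conv_rhs => rw [h1 (B.repr z i).natAbs]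
    rw [map_smul, Finsupp.smul_apply, smul_eq_mul]
    exact dvd_mul_right _ _
  have canc : ∀ (c : ℕ) (x : E), c ≠ 0 → (c : E) * x = 0 → x = 0 := fun c x hc hx => by
    have h : (c : ℤ) • x = 0 := by rw [zsmul_eq_mul, Int.cast_natCast]; exact hx
    exact (smul_eq_zero.mp h).resolve_left (by exact_mod_cast hc)
  have geom : ∀ (l : ℕ) (z : E) (i : ℕ), ∃ t : E, (1 + (l : E) * z) ^ i = 1 + (i : E) * ((l : E) * z) + (l : E) * l * t := by
    intro l z i
    induction i with
    | zero => exact ⟨0, by simp⟩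
    | succ i ih =>
      obtain ⟨t, ht⟩ := ih
      exact ⟨t + (i : E) * z * z + (l : E) * z * t, by rw [pow_succ, ht]; push_cast; ring⟩
  have prime_step : ∀ (l : ℕ), (l.Prime ∧ 3 ≤ l) ∨ l = 4 → ∀ (q : ℕ), q.Prime → ∀ w z : E,
      w = 1 + (l : E) * z → w ^ q = 1 → w = 1 := by
    intro l hl q hq w z hw hwq
    have hl2 : 2 ≤ l := by rcases hl with h | h <;> omega
    suffices hz : z = 0 by rw [hw, hz, mul_zero, add_zero]
    choose t ht using geom l z
    have hsum : ∑ i ∈ Finset.range q, w ^ i =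
        (q : E) + ((∑ i ∈ Finset.range q, i : ℕ) : E) * ((l : E) * z) + (l : E) * l * ∑ i ∈ Finset.range q, t i := by
      rw [hw, Finset.sum_congr rfl fun i _ => ht i, Finset.sum_add_distrib, Finset.sum_add_distrib,
        Finset.sum_const, Finset.card_range, Nat.cast_sum, Finset.sum_mul, Finset.mul_sum]
      simp
    have h0 : (∑ i ∈ Finset.range q, w ^ i) * z = 0 := by
      refine canc l _ (by omega) ?_
      have h := geom_sum_mul w q
      rw [hwq, sub_self] at h
      rw [show (l : E) * ((∑ i ∈ Finset.range q, w ^ i) * z) = (∑ i ∈ Finset.range q, w ^ i) * (w - 1) by rw [hw]; ring]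
      exact h
    set S : E := ∑ i ∈ Finset.range q, t i
    rw [hsum] at h0
    by_cases hql : q ∣ l
    · rcases hl with ⟨hlp, hl3⟩ | hl4
      · obtain rfl : q = l := (Nat.prime_dvd_prime_iff_eq hq hlp).mp hql
        obtain ⟨h, hh⟩ : ∃ h, (∑ i ∈ Finset.range q, i) = q * h := by
          rw [Finset.sum_range_id]
          obtain ⟨k, hk⟩ := (hq.odd_of_ne_two (by omega))
          exact ⟨k, by rw [show q - 1 = 2 * k by omega, ← mul_assoc, mul_comm q 2, mul_assoc, Nat.mul_div_cancel_left _ (by omega : 0 < 2)]⟩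
        rw [hh] at h0
        push_cast at h0
        have h2 := canc q ((1 + (h : E) * ((q : E) * z) + (q : E) * S) * z) (by omega) (by linear_combination h0)
        exact inf q z (-((h : E) * z + S)) hl2 (by linear_combination h2)
      · subst hl4
        obtain rfl : q = 2 := (Nat.prime_dvd_prime_iff_eq hq Nat.prime_two).mp (hq.dvd_of_dvd_pow (show q ∣ 2 ^ 2 from hql))
        rw [show (∑ i ∈ Finset.range 2, i) = 1 from rfl] at h0
        push_cast at h0
        have h2 := canc 2 ((1 + 2 * z + 8 * S) * z) (by omega) (by push_cast; linear_combination h0)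
        exact inf 2 z (-(z + 4 * S)) le_rfl (by push_cast; linear_combination h2)
    · have hcop : IsCoprime (q : ℤ) (l : ℤ) :=
        Int.isCoprime_iff_nat_coprime.mpr (by simpa using (Nat.Prime.coprime_iff_not_dvd hq).mpr hql)
      obtain ⟨a, b, hab⟩ := hcop
      have hab' : (a : E) * (q : E) + (b : E) * (l : E) = 1 := by exact_mod_cast congrArg (fun x : ℤ => (x : E)) hab
      refine inf l z (b - (a : E) * (((∑ i ∈ Finset.range q, i : ℕ) : E) * z + l * S)) hl2 ?_
      linear_combination (a : E) * h0 - z * hab'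
  have main : ∀ (l : ℕ), (l.Prime ∧ 3 ≤ l) ∨ l = 4 → ∀ (k : ℕ), 0 < k → ∀ w : E,
      (∃ z : E, w = 1 + (l : E) * z) → w ^ k = 1 → w = 1 := by
    intro l hl k
    induction k using Nat.strong_induction_on with
    | _ k ih =>
      intro hk w hwz hwk
      by_cases hk1 : k = 1
      · subst hk1; rwa [pow_one] at hwk
      obtain ⟨z, hz⟩ := hwz
      have hq := Nat.minFac_prime hk1
      obtain ⟨k', hk'⟩ := Nat.minFac_dvd k
      have hk'pos : 0 < k' := Nat.pos_of_ne_zero fun h => by rw [h, mul_zero] at hk'; omega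
      have hk'lt : k' < k := by rw [hk']; exact lt_mul_left hk'pos hq.one_lt
      obtain ⟨t, ht⟩ := geom l z k'
      have hpow : w ^ k' = 1 := by
        refine prime_step l hl _ hq (w ^ k') ((k' : E) * z + (l : E) * t) (by rw [hz, ht]; ring) ?_
        rw [← pow_mul, mul_comm, ← hk', hwk]
      exact ih k' hk'lt hk'pos w ⟨z, hz⟩ hpow
  obtain ⟨v, hv⟩ := hcong
  have hu' : u = 1 + (n : E) * (-v) := by linear_combination -hv
  have h3 : 3 ≤ n → u = 1 := by
    intro h3
    by_cases hodd : ∃ l, l.Prime ∧ 3 ≤ l ∧ l ∣ n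
    · obtain ⟨l, hl, hl3, c, hc⟩ := hodd
      exact main l (Or.inl ⟨hl, hl3⟩) m hm u ⟨(c : E) * (-v), by rw [hu', hc]; push_cast; ring⟩ hu
    · obtain ⟨c, hc⟩ : 4 ∣ n := by
        have h2 : ∀ p, p.Prime → p ∣ n → p = 2 := fun p hp hpn => by
          by_contra hne
          exact hodd ⟨p, hp, by have := hp.two_le; omega, hpn⟩
        have := Nat.eq_prime_pow_of_unique_prime_dvd (p := 2) (n := n) (by omega) fun {d} hd hdn => h2 d hd hdn
        rw [this]
        refine dvd_trans (show (4 : ℕ) = 2 ^ 2 from rfl).dvd (pow_dvd_pow 2 ?_)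
        by_contra hlt
        have : 2 ^ n.primeFactorsList.length ≤ 2 ^ 1 := Nat.pow_le_pow_right (by omega) (by omega)
        omega
      exact main 4 (Or.inr rfl) m hm u ⟨(c : E) * (-v), by rw [hu', hc]; push_cast; ring⟩ hu
  refine ⟨?_, h3⟩
  rcases lt_or_ge n 3 with h | h
  · obtain rfl : n = 2 := by omega
    refine main 4 (Or.inr rfl) m hm (u ^ 2) ⟨v * v - v, by rw [hu']; push_cast; ring⟩ ?_
    rw [← pow_mul, mul_comm, pow_mul, hu, one_pow]
  · rw [h3 h, one_pow]

end Groth.Agent.S3208
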