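import Groth.Statements.S3209
import Mathlib.LinearAlgebra.TensorProduct.RightExactness
import Mathlib.RingTheory.TensorProduct.Maps
-- import your own Groth.Agent.* helpers here

set_option autoImplicit false
universe u
open TensorProduct
open SGA7

namespace Groth.Agent.S3209

/-- Let f : B' → B be a surjective map of R-algebras with kernel J, g : C → B a map of R-algebras, P =
B' ×_B C their fibre product (the equalizer of f ∘ pr₁ and g ∘ pr₂ in B' × C) and S an R-algebra
such that S ⊗_R J → S ⊗_R B' is injective (this holds when Tor_1^R(B, S) = 0, the published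
hypothesis, and in particular when S is flat). Then the canonical map S ⊗_R P → (S ⊗_R B') ×_{S ⊗_R
B} (S ⊗_R C) is bijective: it is injective, and every pair with the same image in S ⊗_R B comes from
S ⊗_R P. -/
theorem result (R B' B C S : Type u) [CommRing R] [CommRing B'] [CommRing B] [CommRing C]
    [CommRing S] [Algebra R B'] [Algebra R B] [Algebra R C] [Algebra R S]
    (f : B' →ₐ[R] B) (hf : Function.Surjective f) (g : C →ₐ[R] B)
    (hJ : Function.Injective (LinearMap.lTensor S (LinearMap.ker f.toLinearMap).subtype)) :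
    letI P := AlgHom.equalizer (f.comp (AlgHom.fst R B' C)) (g.comp (AlgHom.snd R B' C))
    letI φ₁ := Algebra.TensorProduct.map (AlgHom.id R S) ((AlgHom.fst R B' C).comp P.val)
    letI φ₂ := Algebra.TensorProduct.map (AlgHom.id R S) ((AlgHom.snd R B' C).comp P.val)
    Function.Injective (fun z : S ⊗[R] ↥P => (φ₁ z, φ₂ z)) ∧
    ∀ (x : S ⊗[R] B') (y : S ⊗[R] C),
      Algebra.TensorProduct.map (AlgHom.id R S) f x = Algebra.TensorProduct.map (AlgHom.id R S) g y →
        ∃ z : S ⊗[R] ↥P, φ₁ z = x ∧ φ₂ z = y := by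
  let P := AlgHom.equalizer (f.comp (AlgHom.fst R B' C)) (g.comp (AlgHom.snd R B' C))
  let φ₁ := Algebra.TensorProduct.map (AlgHom.id R S) ((AlgHom.fst R B' C).comp P.val)
  let φ₂ := Algebra.TensorProduct.map (AlgHom.id R S) ((AlgHom.snd R B' C).comp P.val)
  show Function.Injective (fun z : S ⊗[R] ↥P => (φ₁ z, φ₂ z)) ∧ ∀ (x : S ⊗[R] B') (y : S ⊗[R] C),
      Algebra.TensorProduct.map (AlgHom.id R S) f x = Algebra.TensorProduct.map (AlgHom.id R S) g y →
        ∃ z : S ⊗[R] ↥P, φ₁ z = x ∧ φ₂ z = y
  have hmem : ∀ z : B' × C, z ∈ P ↔ f z.1 = g z.2 := fun z => Iff.rfl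
  let J := LinearMap.ker f.toLinearMap
  let p₁ : ↥P →ₗ[R] B' := ((AlgHom.fst R B' C).comp P.val).toLinearMap
  let p₂ : ↥P →ₗ[R] C := ((AlgHom.snd R B' C).comp P.val).toLinearMap
  let j : J →ₗ[R] ↥P :=
    { toFun := fun b => ⟨((b : B'), 0), (hmem _).mpr (by rw [map_zero]; exact b.2)⟩
      map_add' := fun _ _ => Subtype.ext (Prod.ext rfl (add_zero 0).symm)
      map_smul' := fun r _ => Subtype.ext (Prod.ext rfl (smul_zero r).symm) }
  have hex : Function.Exact j p₂ := fun z => by
    refine ⟨fun h => ?_, ?_⟩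
    · have h0 : (z : B' × C).2 = 0 := h
      exact ⟨⟨(z : B' × C).1, show f (z : B' × C).1 = 0 by rw [(hmem _).mp z.2, h0, map_zero]⟩,
        Subtype.ext (Prod.ext rfl h0.symm)⟩
    · rintro ⟨b, rfl⟩
      rfl
  have hsur : Function.Surjective p₂ := fun c => by
    obtain ⟨b, hb⟩ := hf (g c)
    exact ⟨⟨(b, c), (hmem _).mpr hb⟩, rfl⟩
  have hexS := lTensor_exact S hex hsur
  have hexJ := lTensor_exact S (LinearMap.exact_subtype_ker_map f.toLinearMap) hf
  have e₁ : ∀ z, φ₁ z = p₁.lTensor S z := fun z => by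
    induction z using TensorProduct.induction_on with
    | zero => simp
    | tmul s x => rfl
    | add a b ha hb => rw [map_add, map_add, ha, hb]
  have e₂ : ∀ z, φ₂ z = p₂.lTensor S z := fun z => by
    induction z using TensorProduct.induction_on with
    | zero => simp
    | tmul s x => rfl
    | add a b ha hb => rw [map_add, map_add, ha, hb]
  have ef : ∀ x, Algebra.TensorProduct.map (AlgHom.id R S) f x = f.toLinearMap.lTensor S x := fun z => by
    induction z using TensorProduct.induction_on with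
    | zero => simp
    | tmul s x => rfl
    | add a b ha hb => rw [map_add, map_add, ha, hb]
  have eg : ∀ x, Algebra.TensorProduct.map (AlgHom.id R S) g x = g.toLinearMap.lTensor S x := fun z => by
    induction z using TensorProduct.induction_on with
    | zero => simp
    | tmul s x => rfl
    | add a b ha hb => rw [map_add, map_add, ha, hb]
  have hpj : ∀ w, p₁.lTensor S (j.lTensor S w) = J.subtype.lTensor S w := fun w => by
    rw [← LinearMap.comp_apply, ← LinearMap.lTensor_comp]
    rfl
  refine ⟨fun z z' h => ?_, fun x y hxy => ?_⟩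
  · have h1 : p₁.lTensor S z = p₁.lTensor S z' := by rw [← e₁, ← e₁]; exact congrArg Prod.fst h
    have h2 : p₂.lTensor S z = p₂.lTensor S z' := by rw [← e₂, ← e₂]; exact congrArg Prod.snd h
    obtain ⟨w, hw⟩ := (hexS (z - z')).mp (by rw [map_sub, h2, sub_self])
    have hw0 : w = 0 := hJ (by rw [← hpj, hw, map_sub, h1, sub_self, map_zero])
    rw [← sub_eq_zero, ← hw, hw0, map_zero]
  · obtain ⟨z₀, hz₀⟩ := LinearMap.lTensor_surjective S hsur y
    have hfp : f.toLinearMap ∘ₗ p₁ = g.toLinearMap ∘ₗ p₂ := LinearMap.ext fun z => (hmem _).mp z.2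
    obtain ⟨w, hw⟩ := (hexJ (x - p₁.lTensor S z₀)).mp (by
      rw [map_sub, ← ef, hxy, eg, ← hz₀, ← LinearMap.comp_apply, ← LinearMap.lTensor_comp, ← LinearMap.comp_apply,
        ← LinearMap.lTensor_comp, hfp, sub_self])
    refine ⟨z₀ + j.lTensor S w, ?_, ?_⟩
    · rw [e₁, map_add, hpj]
      exact (congrArg (p₁.lTensor S z₀ + ·) hw).trans (add_sub_cancel _ _)
    · rw [e₂, map_add, hz₀, hexS.apply_apply_eq_zero, add_zero]

end Groth.Agent.S3209
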