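import Groth.Statements.S3210
import Groth.Agent.FEtLib.EqLocus
import Groth.Agent.NeronLib.MonHomOfUnit
import Groth.Agent.AbVarLib.MulIsogeny
import Groth.Agent.AbSchLib.SmoothReduced
import Mathlib
-- import your own Groth.Agent.* helpers here

set_option autoImplicit false
universe u
open CategoryTheory CategoryTheory.Limits AlgebraicGeometry MonObj
open SGA7
open MonoidalCategory CartesianMonoidalCategory

namespace Groth.Agent.S3210

/-- Direction (i) ⇒ (v bis) of the Néron–Ogg–Chafarévitch criterion (only this direction of the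
criterion is stated): let R be a discrete valuation ring with fraction field K and residue
characteristic different from the prime ℓ, Ω a separable closure of K, W a valuation subring of Ω
lying over R, and A an abelian variety over K (a proper, geometrically integral group scheme). If A
extends to an abelian scheme over R (a proper smooth group scheme over Spec R with connected
geometric fibres whose generic fibre is K-isomorphic to A), then for every ν every element of the
inertia group at W fixes all the ℓ^ν-torsion Ω-points of A. -/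
theorem result (R K Ω : Type u) [CommRing R] [IsDomain R] [IsDiscreteValuationRing R] [Field K]
    [Algebra R K] [IsFractionRing R K] [Field Ω] [Algebra K Ω] [IsSepClosure K Ω]
    (W : ValuationSubring Ω) (hW : SGA7.LiesOver K R W) (ℓ : ℕ) (hℓ : ℓ.Prime) (hℓp : (ℓ : IsLocalRing.ResidueField R) ≠ 0)
    (A : Over (Spec (CommRingCat.of K))) [GrpObj A] [IsProper A.hom] [GeometricallyIntegral A.hom]
    (hgood : (∃ (B : Over (Spec (CommRingCat.of R))) (_ : GrpObj B), IsProper B.hom ∧ Smooth B.hom ∧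
        (∀ (k' : Type u) [Field k'] (t : Spec (CommRingCat.of k') ⟶ Spec (CommRingCat.of R)), ConnectedSpace ↑(pullback B.hom t)) ∧
        Nonempty ((Over.pullback (Spec.map (CommRingCat.ofHom (algebraMap R K)))).obj B ≅ A))) :
    ∀ (ν : ℕ) (σ : Ω ≃ₐ[K] Ω), SGA7.IsInertia W σ → ∀ x : SGA7.Pts Ω A, x ^ (ℓ ^ ν) = 1 → SGA7.galAct σ x = x := by
  intro ν σ hσ x hx
  obtain ⟨B, _, hBp, hBs, hBc, ⟨φ⟩⟩ := hgood
  haveI : GeometricallyConnected B.hom := by
    constructor
    rw [geometrically_iff_of_isClosedUnderIsomorphisms]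
    intro k' _ t
    exact hBc k' t
  haveI := Groth.Agent.AbSchLib.geometricallyReduced_of_smooth B.hom
  set N : ℕ := ℓ ^ ν with hN
  -- the unit in `Γ(Spec R, ⊤)`
  have hNR : IsUnit ((N : ℤ) : R) := by
    rw [Int.cast_natCast, hN, Nat.cast_pow]
    refine IsUnit.pow ν ?_
    by_contra h
    exact hℓp (by
      have : IsLocalRing.residue R (ℓ : R) = 0 :=
        (IsLocalRing.residue_eq_zero_iff _).2 ((IsLocalRing.mem_maximalIdeal _).2 h)
      simpa using this)
  have hNΓ : IsUnit ((N : ℤ) : Γ(Spec (CommRingCat.of R), ⊤)) := by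
    have := hNR.map (Scheme.ΓSpecIso (CommRingCat.of R)).inv.hom
    simpa using this
  obtain ⟨-, het, -⟩ := Groth.Agent.AbVarLib.mul_isFinite_etale_surjective B (N : ℤ) hNΓ
  haveI := Groth.Agent.AbSchLib.isCommMonObj_of_proper B
  haveI : Etale ((𝟙 B : B ⟶ B) ^ N).left := by rw [← zpow_natCast]; exact het
  -- move the problem to the generic fibre of `B`
  let j := Spec.map (CommRingCat.ofHom (algebraMap R K))
  let F := Over.pullback j
  let BK := F.obj B
  letI : GrpObj BK := Functor.grpObjObj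
  haveI : Smooth BK.hom := MorphismProperty.pullback_snd _ _ inferInstance
  haveI : GeometricallyIntegral BK.hom := by
    rw [← Over.w φ.hom]
    exact MorphismProperty.RespectsIso.precomp @GeometricallyIntegral _ _ inferInstance
  let c : 𝟙_ _ ⟶ A := η[BK] ≫ φ.hom
  let ψ : BK ⟶ A := φ.hom * (toUnit BK ≫ c)⁻¹
  have hψ1 : η[BK] ≫ ψ = η[A] := by
    change η[BK] ≫ (φ.hom * (toUnit BK ≫ c)⁻¹) = η[A]
    rw [MonObj.comp_mul, GrpObj.comp_inv, ← Category.assoc, toUnit_unique (η[BK] ≫ toUnit BK) (𝟙 _),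
      Category.id_comp, mul_inv_cancel, CategoryTheory.Hom.one_def, toUnit_unique (toUnit _) (𝟙 _),
      Category.id_comp]
  haveI : IsMonHom ψ := Groth.Agent.NeronLib.isMonHom_of_map_unit BK A ψ hψ1
  let Q := SGA7.pt (K := K) Ω
  have hψinj : Function.Injective (fun y : Q ⟶ BK => y ≫ ψ) := by
    intro y y' h
    simp only [ψ, MonObj.comp_mul, GrpObj.comp_inv, ← Category.assoc,
      toUnit_unique (y ≫ toUnit BK) (toUnit Q), toUnit_unique (y' ≫ toUnit BK) (toUnit Q)] at h
    exact (cancel_mono φ.hom).1 (mul_right_cancel h)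
  have hψsurj : ∃ y : Q ⟶ BK, y ≫ ψ = x := by
    refine ⟨(x * (toUnit Q ≫ c)) ≫ φ.inv, ?_⟩
    simp only [ψ, MonObj.comp_mul, GrpObj.comp_inv, Category.assoc, Iso.inv_hom_id, Category.comp_id]
    rw [← Category.assoc φ.inv (toUnit BK) c, toUnit_unique (φ.inv ≫ toUnit BK) (toUnit A),
      ← Category.assoc (x * (toUnit Q ≫ c)) (toUnit A) c,
      toUnit_unique ((x * (toUnit Q ≫ c)) ≫ toUnit A) (toUnit Q), mul_inv_cancel_right]
  obtain ⟨y, rfl⟩ := hψsurj
  have hy : y ^ N = 1 := hψinj (by
    simp only [MonObj.pow_comp, MonObj.one_comp]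
    exact hx)
  suffices SGA7.specAut σ ≫ y = y by
    rw [SGA7.galAct, ← Category.assoc, this]
  clear hx
  -- transport along the adjunction
  let adj := Over.mapPullbackAdj j
  let P := (Over.map j).obj Q
  have hmul : ∀ a b : P ⟶ B, adj.homEquiv Q B (a * b) = adj.homEquiv Q B a * adj.homEquiv Q B b :=
    fun a b => by
      rw [Adjunction.homEquiv_unit, Adjunction.homEquiv_unit, Adjunction.homEquiv_unit, Functor.map_mul,
        MonObj.comp_mul]
  let Φ : (P ⟶ B) →* (Q ⟶ BK) :=
    MonoidHom.mk' (fun a => adj.homEquiv Q B a) hmul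
  obtain ⟨yb, rfl⟩ := (adj.homEquiv Q B).surjective y
  have hyb : yb ^ N = 1 := (adj.homEquiv Q B).injective (by
    change Φ (yb ^ N) = Φ 1
    rw [map_pow, map_one]; exact hy)
  suffices hgoal : (Over.map j).map (SGA7.specAut σ) ≫ yb = yb by
    rw [← Adjunction.homEquiv_naturality_left, hgoal]
  -- the valuation ring
  let iW : R →+* W := ((algebraMap K Ω).comp (algebraMap R K)).codRestrict W.toSubring hW.1
  let PW : Over (Spec (CommRingCat.of R)) := Over.mk (Spec.map (CommRingCat.ofHom iW))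
  let g : P ⟶ PW := Over.homMk (Spec.map (CommRingCat.ofHom W.subtype)) (by
    change Spec.map _ ≫ Spec.map _ = Spec.map _ ≫ Spec.map _
    rw [← Spec.map_comp, ← Spec.map_comp]; rfl)
  obtain ⟨hex, -⟩ : ValuativeCriterion.Existence B.hom ∧ True :=
    ⟨((UniversallyClosed.eq_valuativeCriterion ▸ (inferInstance : UniversallyClosed B.hom)) :
      (ValuativeCriterion.Existence ⊓ @QuasiCompact) B.hom).1, trivial⟩
  have hsq : CommSq yb.left (Spec.map (CommRingCat.ofHom (algebraMap W Ω))) B.hom PW.hom :=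
    ⟨(Over.w yb).trans (Over.w g).symm⟩
  obtain ⟨⟨⟨l, hl₁, hl₂⟩⟩⟩ := hex ⟨W, Ω, yb.left, PW.hom, hsq⟩
  let z : PW ⟶ B := Over.homMk l hl₂
  have hgz : g ≫ z = yb := Over.OverMorphism.ext hl₁
  have hginj : ∀ a b : PW ⟶ B, g ≫ a = g ≫ b → a = b := fun a b h => by
    have h' : Spec.map (CommRingCat.ofHom (algebraMap W Ω)) ≫ a.left =
        Spec.map (CommRingCat.ofHom (algebraMap W Ω)) ≫ b.left := congrArg (·.left) h
    have huniq := IsSeparated.valuativeCriterion B.hom
      ⟨W, Ω, Spec.map (CommRingCat.ofHom (algebraMap W Ω)) ≫ a.left, PW.hom, ⟨by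
        rw [Category.assoc, Over.w a]⟩⟩
    exact Over.OverMorphism.ext (congrArg CommSq.LiftStruct.l
      (@Subsingleton.elim _ huniq ⟨a.left, rfl, Over.w a⟩ ⟨b.left, h'.symm, Over.w b⟩))
  have hz : z ^ N = 1 := hginj _ _ (by rw [MonObj.comp_pow, hgz, hyb, MonObj.comp_one])
  -- the action of `σ` on the valuation ring
  let σW : W →+* W := ((σ : Ω →+* Ω).comp W.subtype).codRestrict W.toSubring fun w => (hσ w.1 w.2).1
  have hσiW : σW.comp iW = iW := RingHom.ext fun r => Subtype.ext (σ.commutes (algebraMap R K r))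
  let s : PW ⟶ PW := Over.homMk (Spec.map (CommRingCat.ofHom σW)) (by
    change Spec.map _ ≫ Spec.map _ = Spec.map _
    rw [← Spec.map_comp, ← CommRingCat.ofHom_comp, hσiW])
  have hgs : (Over.map j).map (SGA7.specAut σ) ≫ g = g ≫ s := by
    apply Over.OverMorphism.ext
    change Spec.map _ ≫ Spec.map _ = Spec.map _ ≫ Spec.map _
    rw [← Spec.map_comp, ← Spec.map_comp]; rfl
  -- comparison at the closed point
  let κ : Spec (CommRingCat.of (IsLocalRing.ResidueField W)) ⟶ PW.left :=
    Spec.map (CommRingCat.ofHom (IsLocalRing.residue W))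
  have hκ : κ ≫ s.left = κ := by
    change Spec.map _ ≫ Spec.map _ = Spec.map _
    rw [← Spec.map_comp, ← CommRingCat.ofHom_comp]
    congr 2
    ext w
    rw [RingHom.comp_apply]
    refine sub_eq_zero.1 ?_
    rw [← map_sub, IsLocalRing.residue_eq_zero_iff]
    exact (W.valuation_lt_one_iff _).2 (hσ w.1 w.2).2
  let Pκ : Over (Spec (CommRingCat.of R)) := Over.mk (κ ≫ PW.hom)
  let κ' : Pκ ⟶ PW := Over.homMk κ rfl
  have hκ' : κ' ≫ s = κ' := Over.OverMorphism.ext hκ
  let t : PW ⟶ B := z⁻¹ * (s ≫ z)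
  have ht : t ^ N = 1 := by
    rw [_root_.mul_pow, inv_pow, hz, ← MonObj.comp_pow, hz, MonObj.comp_one, inv_one, _root_.mul_one]
  have htκ : κ' ≫ t = 1 := by
    rw [MonObj.comp_mul, GrpObj.comp_inv, ← Category.assoc, hκ', inv_mul_cancel]
  have hw : ∀ (a : PW ⟶ B), a ≫ (𝟙 B) ^ N = a ^ N := fun a => by rw [MonObj.comp_pow, Category.comp_id]
  have ht1 : t = 1 := by
    refine Over.OverMorphism.ext ?_
    have htl : κ ≫ t.left = κ ≫ (1 : PW ⟶ B).left :=
      congrArg (·.left) (htκ.trans (MonObj.comp_one κ').symm)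
    haveI : IsSeparated (((𝟙 B : B ⟶ B) ^ N).left ≫ B.hom) := by rw [Over.w]; infer_instance
    haveI : IsSeparated ((𝟙 B : B ⟶ B) ^ N).left := IsSeparated.of_comp _ B.hom
    haveI : PreconnectedSpace PW.left := inferInstanceAs (PreconnectedSpace (PrimeSpectrum W))
    haveI : Nonempty Pκ.left := inferInstanceAs (Nonempty (PrimeSpectrum (IsLocalRing.ResidueField W)))
    refine Groth.Agent.FEtLib.eq_of_preconnected ((𝟙 B : B ⟶ B) ^ N).left _ _ κ htl ?_
    exact congrArg (·.left) ((hw t).trans ((ht.trans (one_pow N).symm).trans (hw 1).symm))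
  have hsz : s ≫ z = z := (inv_mul_eq_one.1 ht1).symm
  rw [← hgz, ← Category.assoc, hgs, Category.assoc, hsz]

end Groth.Agent.S3210
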