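import Groth.Statements.S3211
import Groth.Agent.Et18.NeronProper
import Groth.Agent.Et18.NeronGroup
import Groth.Agent.S18483
import Groth.Agent.S11098
-- import your own Groth.Agent.* helpers here

set_option autoImplicit false
universe u
open CategoryTheory CategoryTheory.Limits AlgebraicGeometry MonObj
open SGA7

namespace Groth.Agent.S3211

/-- (i) ⟺ (iv): let R be a discrete valuation ring with fraction field K, A an abelian variety over K (a
proper, geometrically integral group scheme) and N a Néron model of A over Spec R. Then A extends to
an abelian scheme over R (a proper smooth group scheme with connected geometric fibres and generic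
fibre K-isomorphic to A) if and only if N is proper over Spec R. -/
theorem result (R : Type u) [CommRing R] [IsDomain R] [IsDiscreteValuationRing R]
    (A : Over (Spec (CommRingCat.of (FractionRing R)))) [GrpObj A] [IsProper A.hom] [GeometricallyIntegral A.hom]
    (N : Over (Spec (CommRingCat.of R))) (e : (Neron.genericFibre R).obj N ≅ A) (hN : Neron.IsNeronModelOf R N A e) :
    (∃ (B : Over (Spec (CommRingCat.of R))) (_ : GrpObj B), IsProper B.hom ∧ Smooth B.hom ∧
        (∀ (k' : Type u) [Field k'] (t : Spec (CommRingCat.of k') ⟶ Spec (CommRingCat.of R)), ConnectedSpace ↑(pullback B.hom t)) ∧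
        Nonempty ((Over.pullback (Spec.map (CommRingCat.ofHom (algebraMap R (FractionRing R))))).obj B ≅ A)) ↔ IsProper N.hom := by
  constructor
  · rintro ⟨B, hB, hBp, hBs, -, ⟨e'⟩⟩
    have hB0 := Groth.Agent.S18483.result R B
    have hBN : Neron.IsNeronModelOf R B A e' := by
      refine ⟨hBs, inferInstance, inferInstance, inferInstance, fun Y hY => ?_⟩
      have h := hB0.2.2.2.2 Y hY
      refine ⟨fun a b hab => h.1 ((cancel_mono e'.hom).1 ?_), fun g => ?_⟩
      · simpa using hab
      · obtain ⟨a, ha⟩ := h.2 (g ≫ e'.inv)
        refine ⟨a, ?_⟩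
        simp only [Iso.refl_hom, Category.comp_id] at ha
        show (Neron.genericFibre R).map a ≫ e'.hom = g
        rw [ha, Category.assoc, e'.inv_hom_id, Category.comp_id]
    obtain ⟨⟨ψ, hψ, -⟩, hiso⟩ := Groth.Agent.S11098.result R A N B e e' hN hBN
    haveI := hiso ψ hψ
    rw [← Over.w ψ]
    haveI : IsIso ψ.left := (Over.forget _).map_isIso ψ
    infer_instance
  · intro hP
    obtain ⟨hG⟩ := Groth.Agent.Et18.NeronGroup.nonempty_grpObj A N e hN
    letI := hG
    haveI := hN.1
    haveI : Subsingleton ↥(Spec (CommRingCat.of (FractionRing R))) :=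
      inferInstanceAs (Subsingleton (PrimeSpectrum (FractionRing R)))
    haveI : IsIntegral A.left := GeometricallyIntegral.isIntegral_of_subsingleton A.hom
    haveI : IrreducibleSpace
        ↥(pullback N.hom (Spec.map (CommRingCat.ofHom (algebraMap R (FractionRing R))))) := by
      haveI : IsIso e.inv.left := (Over.forget _).map_isIso e.inv
      haveI : IsIntegral ((Neron.genericFibre R).obj N).left :=
        IsIntegral.of_isIso e.inv.left
      exact inferInstanceAs (IrreducibleSpace ↥((Neron.genericFibre R).obj N).left)
    haveI := Groth.Agent.Et18.NeronProper.geometricallyConnected_of_proper (K := FractionRing R)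
      N.hom η[N].left (Over.w η[N])
    exact ⟨N, hG, hP, hN.1, fun k' _ t =>
      GeometricallyConnected.geometrically_connectedSpace (f := N.hom) t (pullback.fst _ _)
        (pullback.snd _ _) (.of_hasPullback _ _), ⟨e⟩⟩

end Groth.Agent.S3211
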