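import Groth.Statements.S3214
import Mathlib.RingTheory.Polynomial.Vieta
import Mathlib.Algebra.Polynomial.Div
-- import your own Groth.Agent.* helpers here

set_option autoImplicit false
open Polynomial
universe u
open SGA7II

namespace Groth.Agent.S3214

/-- In the recursive form established in its proof: let A = Z[X_1, ..., X_a] (a >= 1), P = prod_i (T -
X_i) in A[T] and S_i the i-th elementary symmetric function. Writing a_j for the coefficient of
T^{a-1} in the remainder of T^{a-1+j} modulo P, one has a_0 = 1 and sum_{i=0}^{a} (-1)^i S_i a_{j-i}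
= 0 for every j > 0 (with a_m = 0 for m < 0); equivalently sum_j (-1)^j a_j is the inverse of sum_i
S_i. (The source works in formal power series; the identity involves only polynomials.) -/
theorem result (a : ℕ) (ha : 0 < a) :
    let P : (MvPolynomial (Fin a) ℤ)[X] := ∏ i : Fin a, (X - C (MvPolynomial.X i))
    let coef : ℤ → MvPolynomial (Fin a) ℤ := fun j =>
      if j < 0 then 0 else ((X : (MvPolynomial (Fin a) ℤ)[X]) ^ (a - 1 + j.toNat) %ₘ P).coeff (a - 1)
    coef 0 = 1 ∧ ∀ j : ℕ, 0 < j →
      (∑ i ∈ Finset.range (a + 1), (-1 : MvPolynomial (Fin a) ℤ) ^ i * MvPolynomial.esymm (Fin a) ℤ i *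
        coef ((j : ℤ) - i)) = 0 := by
  intro P coef
  have hmon : P.Monic := monic_prod_X_sub_C _ _
  have hdeg : P.natDegree = a := by simp [P]
  let r : ℕ → MvPolynomial (Fin a) ℤ := fun m => ((X : (MvPolynomial (Fin a) ℤ)[X]) ^ m %ₘ P).coeff (a - 1)
  have hsmall : ∀ m, m < a → ((X : (MvPolynomial (Fin a) ℤ)[X]) ^ m %ₘ P) = X ^ m := fun m hm => by
    refine (modByMonic_eq_self_iff hmon).mpr ?_
    rw [degree_X_pow, degree_eq_natDegree hmon.ne_zero, hdeg]
    exact_mod_cast hm
  refine ⟨?_, fun j hj => ?_⟩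
  · simp [coef, hsmall (a - 1) (by omega)]
  have hcoef : ∀ i ∈ Finset.range (a + 1), coef ((j : ℤ) - i) = r (j - 1 + (a - i)) := by
    intro i hi
    rw [Finset.mem_range] at hi
    by_cases h : i ≤ j
    · have h' : ¬ ((j : ℤ) - i < 0) := by omega
      simp only [coef, if_neg h', r]
      rw [show a - 1 + ((j : ℤ) - i).toNat = j - 1 + (a - i) by omega]
    · have h' : ((j : ℤ) - i < 0) := by omega
      simp only [coef, if_pos h', r]
      rw [hsmall _ (by omega), coeff_X_pow, if_neg (by omega)]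
  have hP : P = ∑ i ∈ Finset.range (a + 1),
      C ((-1 : MvPolynomial (Fin a) ℤ) ^ i * MvPolynomial.esymm (Fin a) ℤ i) * X ^ (a - i) := by
    have h := Multiset.prod_X_sub_X_eq_sum_esymm ((Finset.univ : Finset (Fin a)).val.map (MvPolynomial.X (R := ℤ)))
    rw [Multiset.map_map] at h
    simp only [Multiset.card_map, Finset.card_val, Finset.card_univ, Fintype.card_fin] at h
    rw [show P = _ from h]
    refine Finset.sum_congr rfl fun i hi => ?_
    rw [← MvPolynomial.esymm_eq_multiset_esymm, map_mul, map_pow, map_neg, map_one, mul_assoc]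
  have key : (((X : (MvPolynomial (Fin a) ℤ)[X]) ^ (j - 1) * P) %ₘ P).coeff (a - 1) = 0 := by
    rw [(modByMonic_eq_zero_iff_dvd hmon).mpr (dvd_mul_left _ _), coeff_zero]
  nth_rewrite 1 [hP] at key
  rw [Finset.mul_sum] at key
  have hlin : ∀ (c : MvPolynomial (Fin a) ℤ) (m : ℕ),
      ((C c * (X : (MvPolynomial (Fin a) ℤ)[X]) ^ m) %ₘ P).coeff (a - 1) = c * r m := fun c m => by
    rw [← smul_eq_C_mul, smul_modByMonic, coeff_smul, smul_eq_mul]
  have hmodsum : ∀ (s : Finset ℕ) (f : ℕ → (MvPolynomial (Fin a) ℤ)[X]),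
      ((∑ i ∈ s, f i) %ₘ P).coeff (a - 1) = ∑ i ∈ s, (f i %ₘ P).coeff (a - 1) := fun s f => by
    induction s using Finset.cons_induction with
    | empty => simp
    | cons x s hx ih => rw [Finset.sum_cons, Finset.sum_cons, add_modByMonic, coeff_add, ih]
  rw [hmodsum] at key
  refine (Finset.sum_congr rfl fun i hi => ?_).trans key
  rw [hcoef i hi, mul_left_comm (X ^ (j - 1)), ← pow_add, hlin]

end Groth.Agent.S3214
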