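import Groth.Statements.S3215
import Groth.Agent.Et18.EvenSplit
-- import your own Groth.Agent.* helpers here

set_option autoImplicit false
universe u
open SGA7II
open Matrix

namespace Groth.Agent.S3215

/-- Let A be a commutative ring and Q(x) = sum over pairs i <= j of a_{ij} x_i x_j a quadratic form in
2m variables on the free module A^{2m} (the source allows a locally free module, which is free
Zariski-locally; the variables indexed by two copies of Fin m, ordered first copy then second),
whose polar bilinear form (matrix entries 2a_{ii} on the diagonal, a_{ij} for i < j) has invertible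
determinant (Q is ordinary). Then there are finitely many etale A-algebras B_t whose spectra jointly
cover Spec A and, over each B_t, an invertible matrix g with Q(g x) = sum_j x_j x_{m+j}, the split
form. -/
theorem result (A : Type u) [CommRing A] (m : ℕ)
    (a : (Fin m ⊕ Fin m) → (Fin m ⊕ Fin m) → A) :
    let rk : Fin m ⊕ Fin m → ℕ := Sum.elim Fin.val (fun k => m + k.val)
    let QB : ∀ (B : Type u) [CommRing B] [Algebra A B], ((Fin m ⊕ Fin m) → B) → B :=
      fun B _ _ x => ∑ i, ∑ j, if rk i ≤ rk j then algebraMap A B (a i j) * x i * x j else 0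
    IsUnit (Matrix.det (Matrix.of fun i j : Fin m ⊕ Fin m =>
      if i = j then a i i + a i i else if rk i ≤ rk j then a i j else a j i)) →
    ∃ (n : ℕ) (B : Fin n → Type u) (_ : ∀ t, CommRing (B t)) (_ : ∀ t, Algebra A (B t)),
      (∀ t, Algebra.Etale A (B t)) ∧
      (∀ p : PrimeSpectrum A, ∃ (t : Fin n) (q : PrimeSpectrum (B t)),
        q.asIdeal.comap (algebraMap A (B t)) = p.asIdeal) ∧
      ∀ t, ∃ g : Matrix (Fin m ⊕ Fin m) (Fin m ⊕ Fin m) (B t), IsUnit g.det ∧
        ∀ x : Fin m ⊕ Fin m → B t, QB (B t) (g.mulVec x) = ∑ j : Fin m, x (Sum.inl j) * x (Sum.inr j) := by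
  intro rk QB hdet
  classical
  let e : Fin m ⊕ Fin m ≃ Fin (m + m) := finSumFinEquiv
  have hrk : ∀ i, rk i = (e i).val := fun i => by
    rcases i with i | i <;> simp [rk, e] <;> omega
  have hle : ∀ i j, (rk i ≤ rk j) = (e i ≤ e j) := fun i j => by rw [hrk, hrk, Fin.le_def]
  let Bm : Matrix (Fin (m + m)) (Fin (m + m)) A :=
    Matrix.of fun i j => if i ≤ j then a (e.symm i) (e.symm j) else 0
  have hB : IsUnit (Bm + Bm.transpose).det := by
    rw [← Matrix.det_submatrix_equiv_self e]
    convert hdet using 2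
    ext i j
    simp only [Matrix.submatrix_apply, Matrix.add_apply, Matrix.transpose_apply, Bm, Matrix.of_apply,
      Equiv.symm_apply_apply, hle]
    rcases eq_or_ne i j with rfl | hij
    · simp
    · rw [if_neg hij]
      rcases lt_or_gt_of_ne (e.injective.ne hij) with h | h
      · rw [if_pos h.le, if_neg h.not_ge, if_pos h.le, add_zero]
      · rw [if_neg h.not_ge, if_pos h.le, if_neg h.not_ge, zero_add]
  obtain ⟨R', _, _, hee, hff, G, hG, hGc⟩ := Et18.EvenSplit.exists_etale_split Bm hB
  refine ⟨1, fun _ => R', fun _ => inferInstance, fun _ => inferInstance, fun _ => hee, fun p => ?_, fun _ => ?_⟩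
  · haveI := hff
    obtain ⟨q, hq⟩ := PrimeSpectrum.comap_surjective_of_faithfullyFlat (B := R') p
    exact ⟨0, q, by rw [← hq]; rfl⟩
  have hq : ∀ x : Fin (m + m) → R', x ⬝ᵥ ((G.transpose * Bm.map (algebraMap A R') * G) *ᵥ x) =
      x ⬝ᵥ (Et18.EvenSplit.splitMat m R' *ᵥ x) := fun x => by
    rw [← sub_eq_zero, ← dotProduct_sub, ← Matrix.sub_mulVec]
    exact (QuadLib.qv_eq_zero_iff _).2 (by rw [QuadLib.cf_sub, hGc, sub_self]) x
  refine ⟨G.submatrix e e, by rw [Matrix.det_submatrix_equiv_self]; exact hG, fun x => ?_⟩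
  have hgx : G.submatrix e e *ᵥ x = (G *ᵥ (x ∘ e.symm)) ∘ e := Matrix.submatrix_mulVec_equiv G x e e
  have h := hq (x ∘ e.symm)
  rw [← QuadLib.qv_transpose_mul_mul, Et18.EvenSplit.qv_split] at h
  simp only [Function.comp_apply, show (finSumFinEquiv : Fin m ⊕ Fin m ≃ Fin (m + m)) = e from rfl,
    Equiv.symm_apply_apply] at h
  rw [← h, hgx]
  generalize G *ᵥ (x ∘ e.symm) = y
  simp only [QB, dotProduct, Matrix.mulVec, Matrix.map_apply, Bm, Matrix.of_apply, Function.comp_apply,
    Finset.mul_sum]
  rw [← e.sum_comp]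
  refine Finset.sum_congr rfl fun i _ => ?_
  rw [← e.sum_comp]
  refine Finset.sum_congr rfl fun j _ => ?_
  simp only [Equiv.symm_apply_apply, hle]
  split_ifs
  · ring
  · simp

end Groth.Agent.S3215
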