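import Groth.Statements.S3240
import Groth.Agent.GalEt.Torsion

set_option autoImplicit false
set_option linter.all false
set_option backward.isDefEq.respectTransparency.types false
set_option backward.isDefEq.respectTransparency false
set_option synthInstance.maxHeartbeats 400000
set_option maxHeartbeats 1000000
universe u
open CategoryTheory CategoryTheory.Limits CategoryTheory.Abelian AlgebraicGeometry Opposite
open Dix Groth.Agent.Et18

namespace Groth.Agent.S3240

/-- A cocycle of positive degree on a qcqs scheme étale over a field is a coboundary up to torsion. -/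
theorem exists_nsmul_eq_d {K : Type u} [Field K] (W : (Spec (CommRingCat.of K)).Etale)
    [QuasiCompact (LocCoh.str W)] (F : EtCoh.Ab (Spec (CommRingCat.of K))) (q : ℕ)
    (s : ((injectiveResolution F).cocomplex.X (q + 1)).obj.obj (op W))
    (hs : ((injectiveResolution F).cocomplex.d (q + 1) (q + 2)).hom.app (op W) s = 0) :
    ∃ (m : ℕ) (t : ((injectiveResolution F).cocomplex.X q).obj.obj (op W)), 0 < m ∧
      ((injectiveResolution F).cocomplex.d q (q + 1)).hom.app (op W) t = m • s := by
  let I := injectiveResolution F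
  haveI : EtShriek.JCont (LocCoh.str W) := Groth.Agent.Et18.jCont _
  haveI : PreservesFiniteColimits (LocCoh.res W) :=
    preservesFiniteColimits_of_natIso (pullRestrIso (LocCoh.str W))
  haveI : PreservesFiniteLimits (LocCoh.res W) :=
    preservesFiniteLimits_of_natIso (pullRestrIso (LocCoh.str W))
  let R : InjectiveResolution ((LocCoh.res W).obj F) :=
    { cocomplex := ((LocCoh.res W).mapHomologicalComplex _).obj I.cocomplex
      injective := fun n => LocCoh.injective_res W _
      ι := (HomologicalComplex.singleMapHomologicalComplex _ _ _).inv.app F ≫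
        ((LocCoh.res W).mapHomologicalComplex _).map I.ι }
  let i := TorsionColim.topIso W
  let s' : (R.cocomplex.X (q + 1)).obj.obj (op (EtCoh.top W.left)) :=
    (I.cocomplex.X (q + 1)).obj.map i.hom.op s
  obtain ⟨f, hf⟩ := EtLimit.exists_secOf s'
  have hfd : f ≫ R.cocomplex.d (q + 1) (q + 2) = 0 := EtLimit.secOf_injective (by
    rw [TorsionColim.secOf_comp, hf, EtLimit.secOf_zero]
    refine (NatTrans.naturality_apply (I.cocomplex.d (q + 1) (q + 2)).hom i.hom.op s).trans ?_
    exact (congrArg _ hs).trans (map_zero _))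
  obtain ⟨m, hm, h0⟩ := isOfFinAddOrder_iff_nsmul_eq_zero.1
    (GalEt.isAddTorsion_H_etale (LocCoh.str W) ((LocCoh.res W).obj F) (q + 1) (Nat.succ_pos q)
      (R.extMk f (q + 2) rfl hfd))
  have h1 : R.extMk (m • f) (q + 2) rfl (by rw [Preadditive.nsmul_comp, hfd, smul_zero]) = 0 :=
    (TorsionColim.nsmul_extMk R f (q + 2) rfl hfd m).symm.trans h0
  obtain ⟨g, hg⟩ := (R.extMk_eq_zero_iff _ _ _ _ q rfl).1 h1
  have h2 : (R.cocomplex.d q (q + 1)).hom.app (op (EtCoh.top W.left)) (EtLimit.secOf g) = m • s' :=
    (TorsionColim.secOf_comp g _).symm.trans ((congrArg EtLimit.secOf hg).trans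
      ((TorsionColim.secOf_nsmul f m).trans (congrArg (m • ·) hf)))
  refine ⟨m, (I.cocomplex.X q).obj.map i.inv.op (EtLimit.secOf g), hm, ?_⟩
  refine (NatTrans.naturality_apply (I.cocomplex.d q (q + 1)).hom i.inv.op _).trans ?_
  refine (congrArg _ h2).trans ((map_nsmul _ m s').trans (congrArg (m • ·) ?_))
  exact (ConcreteCategory.congr_hom ((I.cocomplex.X (q + 1)).obj.map_comp i.hom.op i.inv.op) s).symm.trans
    (by rw [← op_comp, i.inv_hom_id, op_id, CategoryTheory.Functor.map_id]; rfl)

/-- Higher direct images from a field to a quasi-separated scheme are torsion sheaves. -/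
theorem isTorsion_Rpush_field {X : Scheme.{u}} [QuasiSeparatedSpace X] {K : Type u} [Field K]
    (i : Spec (CommRingCat.of K) ⟶ X) (F : EtCoh.Ab (Spec (CommRingCat.of K))) (q : ℕ) :
    EtCoh.IsTorsion ((EtCoh.Rpush i (q + 1)).obj F) := by
  refine (TorsionColim.isTorsion_iff _).2 ?_
  let I := injectiveResolution F
  let C := ((EtCoh.push i).mapHomologicalComplex _).obj I.cocomplex
  suffices hK : EtAcyc.IsLTorsion Set.univ (C.homology (q + 1)) from
    isLTorsion_of_epi Set.univ (I.isoRightDerivedObj (EtCoh.push i) (q + 1)).inv hK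
  intro U z x
  obtain ⟨V, g, hV, hv, c, hc⟩ := TorsionColim.exists_local_lift (C.homologyπ (q + 1)) U z x
  haveI := GalEt.quasiCompact_bc_str' i V hV
  let s : EtCoh.sect (C.X (q + 1)) V := (C.iCycles (q + 1)).hom.app (op V) c
  have hinj : Function.Injective ((C.iCycles (q + 1)).hom.app (op V)) :=
    (AddCommGrpCat.mono_iff_injective _).1
      (inferInstanceAs (Mono (((sheafToPresheaf _ _).map (C.iCycles (q + 1))).app (op V))))
  have hds : (C.d (q + 1) (q + 1 + 1)).hom.app (op V) s = 0 :=
    ConcreteCategory.congr_hom (congrArg (fun k => k.hom.app (op V)) (C.iCycles_d (q + 1) (q + 1 + 1))) c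
  obtain ⟨m, t, hm, ht⟩ := exists_nsmul_eq_d ((EtCoh.bc i).obj V) F q s hds
  refine ⟨V, g, m, hv, ⟨hm, fun _ _ _ => trivial⟩, ?_⟩
  have hc' : (C.toCycles q (q + 1)).hom.app (op V) t = m • c := hinj (by
    refine (ConcreteCategory.congr_hom (congrArg (fun k => k.hom.app (op V)) (C.toCycles_i q (q + 1))) t).trans ?_
    exact ht.trans (map_nsmul ((C.iCycles (q + 1)).hom.app (op V)).hom m c).symm)
  rw [← hc]
  refine (map_nsmul ((C.homologyπ (q + 1)).hom.app (op V)).hom m c).symm.trans ?_
  rw [← hc']
  exact ConcreteCategory.congr_hom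
    (congrArg (fun k => k.hom.app (op V)) (C.toCycles_comp_homologyπ q (q + 1))) t

/-- Let X be quasi-compact and quasi-separated, x a point of X with i_x : Spec κ(x) → X, and F an
abelian étale sheaf on Spec κ(x). Then for every q ≥ 1 the sheaf R^q i_{x*} F is a torsion sheaf on
X_ét and the group H^q(X_ét, i_{x*} F) is a torsion group. -/
theorem result (X : Scheme.{u}) [CompactSpace X] [QuasiSeparatedSpace X] (x : X) (F : EtCoh.Ab (Spec (X.residueField x))) (q : ℕ) (hq : 1 ≤ q) : EtCoh.IsTorsion ((EtCoh.Rpush (X.fromSpecResidueField x) q).obj F) ∧ IsAddTorsion (EtCoh.H X ((Dix.skyPush X x).obj F) q) := by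
  obtain ⟨p, rfl⟩ : ∃ p, q = p + 1 := ⟨q - 1, by omega⟩
  exact ⟨isTorsion_Rpush_field (K := X.residueField x) (X.fromSpecResidueField x) F p,
    GalEt.isAddTorsion_H_push_field (K := X.residueField x) (X.fromSpecResidueField x) p F⟩

end Groth.Agent.S3240
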