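import Groth.Statements.S3253
import Groth.Agent.Inters29.Family

set_option autoImplicit false
universe u
open AlgebraicGeometry CategoryTheory CategoryTheory.Limits
open ArSurf

namespace Groth.Agent.S3253

/-- Let R be a discrete valuation ring, X an arithmetic surface over Spec R (regular, integral,
2-dimensional, flat and projective), Γ_1, …, Γ_r vertical prime divisors of X over the closed point
(integral curves over the residue field, closed in X) and L_1, …, L_r invertible O_X-modules with
L_j ⊗ I(Γ_j) ≅ O_X (L_j = O_X(Γ_j)). Then for all integers a_1, …, a_r, Σ_{i,j} a_i a_j (Γ_i · Γ_j)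
≤ 0, where Γ_i · Γ_j = deg over the residue field of L_j restricted to Γ_i. -/
theorem result (R : Type u) [CommRing R] [IsDomain R] [IsDiscreteValuationRing R]
    (X : Over (Spec (CommRingCat.of R))) (hX : ArSurf.IsArithSurface R X)
    {r : ℕ} (Γ : Fin r → ArSurf.VertComp R X) (L : Fin r → X.left.Modules)
    (hL : ∀ j, ClSub.IsInverseOf (L j) (ClSub.idealMod ((Γ j).ι.ker))) (a : Fin r → ℤ) :
    (Finset.univ : Finset (Fin r × Fin r)).sum
      (fun p => a p.1 * a p.2 * ArSurf.inter R X (L p.2) (Γ p.1)) ≤ 0 := by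
  haveI : IsIntegral X.left := hX.2.1
  haveI : Flat X.hom := hX.2.2.2.1
  haveI := Groth.Agent.Inters29.isProper_of_isArithSurface R hX
  haveI := Groth.Agent.Inters29.isLocallyNoetherian_of_isProper R (X := X)
  obtain ⟨n, D, hD⟩ := Groth.Agent.Inters29.exists_componentList R hX.2.2.1
  choose M hM using fun j => Groth.Agent.Inters29.exists_inverse_ker R hX.1
    (Groth.Agent.Inters29.isEffCartier_listComp R D hX.1 hD j)
  choose σ hσ using fun i => Groth.Agent.Inters29.exists_range_eq R hX.1 hX.2.2.1.le D hD (Γ i)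
  let b : Fin n → ℤ := fun j => ∑ i ∈ Finset.univ.filter (fun i => σ i = j), a i
  have h := Groth.Agent.Inters29.quad_nonpos R hX.1 D hD M hM b
  refine le_of_eq_of_le ?_ h
  rw [Fintype.sum_prod_type, Fintype.sum_prod_type, ← Finset.sum_fiberwise Finset.univ σ]
  refine Finset.sum_congr rfl fun j _ => ?_
  have hswap : ∀ i, ∑ k, a i * a k * ArSurf.inter R X (L k) (Γ i) =
      a i * ∑ l, b l * ArSurf.inter R X (M l) (D (σ i)) := by
    intro i
    rw [Finset.mul_sum, ← Finset.sum_fiberwise Finset.univ σ (fun k => a i * a k * ArSurf.inter R X (L k) (Γ i))]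
    refine Finset.sum_congr rfl fun l _ => ?_
    rw [Finset.sum_mul, Finset.mul_sum]
    refine Finset.sum_congr rfl fun k hk => ?_
    rw [Groth.Agent.Inters29.inter_eq_listInter R hX.1 hX.2.2.1.le D hD M hM (Γ i) (Γ k) (L k) (hL k)
      (σ i) (σ k) (hσ i) (hσ k), (Finset.mem_filter.1 hk).2]
    ring
  rw [Finset.sum_congr rfl fun i hi => by rw [hswap i, (Finset.mem_filter.1 hi).2]]
  rw [← Finset.sum_mul, Finset.mul_sum]
  exact Finset.sum_congr rfl fun l _ => by ring

end Groth.Agent.S3253
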