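import Groth.Statements.S3256
import Groth.Agent.Models7.RelMinExists

set_option autoImplicit false
set_option backward.isDefEq.respectTransparency false
universe u
open AlgebraicGeometry CategoryTheory CategoryTheory.Limits
open ArSurf

namespace Groth.Agent.S3256

/-- Let R be a Dedekind domain and X an arithmetic surface over Spec R. Then there are a relatively
minimal arithmetic surface Y over Spec R and an R-morphism X -> Y inducing an isomorphism on generic
fibres. -/
theorem result {R : Type u} [CommRing R] [IsDedekindDomain R]
    (X : Over (Spec (CommRingCat.of R))) (hX : ArSurf.IsArithSurface R X) :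
    ∃ (Y : Over (Spec (CommRingCat.of R))) (f : X ⟶ Y), ArSurf.IsArithSurface R Y ∧
      Neron.IsRelMinimalRegularModel R Y ∧ IsIso ((Neron.genericFibre R).map f) := by
  haveI := hX.2.2.2.1
  by_cases hR : IsField R
  · refine ⟨X, 𝟙 X, hX, ⟨hX.1, hX.2.2.2.2, hX.2.2.2.1, fun Y _ _ _ g hg => ?_⟩, inferInstance⟩
    haveI := hg
    haveI : IsIso (Neron.genPt R) := by
      haveI : IsIso (CommRingCat.ofHom (algebraMap R (FractionRing R))) :=
        (ConcreteCategory.isIso_iff_bijective _).2 ⟨IsFractionRing.injective R (FractionRing R),
          (IsFractionRing.surjective_iff_isField (R := R) (K := FractionRing R)).2 hR⟩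
      infer_instance
    let gK := ((Neron.genericFibre R).map g).left
    haveI : IsIso gK := inferInstanceAs (IsIso ((Over.forget _).map ((Neron.genericFibre R).map g)))
    haveI : IsIso g.left := by
      haveI h : IsIso (pullback.fst X.hom (Neron.genPt R) ≫ g.left) := by
        rw [← Groth.Agent.Models7.genericFibre_map_fst g]
        exact inferInstanceAs (IsIso (gK ≫ pullback.fst Y.hom (Neron.genPt R)))
      exact IsIso.of_isIso_comp_left (pullback.fst X.hom (Neron.genPt R)) g.left
    haveI : IsIso ((Over.forget _).map g) := ‹IsIso g.left›
    exact isIso_of_reflects_iso g (Over.forget _)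
  obtain ⟨V, hηV, hV⟩ := Groth.Agent.Models7.exists_opens_fibreSep hR hX
  exact Groth.Agent.Models7.exists_relMinimal hR hX V hηV hV _ X (𝟙 X) hX inferInstance rfl

end Groth.Agent.S3256
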