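import Groth.Statements.S3257
import Groth.Agent.Models7.PointBlowUpIso
import Groth.Agent.Models7.Contract
-- import your own Groth.Agent.* helpers here

set_option autoImplicit false
set_option linter.style.haveILetI false
set_option backward.isDefEq.respectTransparency false
universe u
open AlgebraicGeometry CategoryTheory CategoryTheory.Limits
open ArSurf

namespace Groth.Agent.S3257

/-- Let R be a Dedekind domain, X and Y arithmetic surfaces over Spec R, f : X -> Y an R-morphism and y
a closed point of Y such that f restricts to an isomorphism over Y minus y while the fibre of f over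
y is irreducible and has more than one point (so the exceptional locus of the birational morphism f
is irreducible). Then f is the blowing-up of Y at y: it has the universal property of the blow-up
along the ideal of the reduced closed point y (BlowUp.IsBlowUp). (The factorization result of the
source says more generally that every birational morphism of regular fibered surfaces is a finite
sequence of blow-ups of closed points.) -/
theorem result {R : Type u} [CommRing R] [IsDedekindDomain R]
    (X Y : Over (Spec (CommRingCat.of R))) (hX : ArSurf.IsArithSurface R X) (hY : ArSurf.IsArithSurface R Y)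
    (f : X ⟶ Y) (y : Y.left) (hy : IsClosed ({y} : Set Y.left))
    (hiso : IsIso (f.left ∣_ (⟨{y}ᶜ, hy.isOpen_compl⟩ : Y.left.Opens)))
    (hirr : IsPreirreducible (f.left.base ⁻¹' {y}))
    (hbig : ∃ x x' : X.left, x ≠ x' ∧ f.left.base x = y ∧ f.left.base x' = y) :
    BlowUp.IsBlowUp f.left (Scheme.IdealSheafData.vanishingIdeal ⟨{y}, hy⟩) := by
  haveI := hX.2.1
  haveI := hY.2.1
  haveI : IsProper X.hom := Models7.isProper_of_projective hX.2.2.2.2
  haveI : IsProper Y.hom := Models7.isProper_of_projective hY.2.2.2.2
  haveI : IsLocallyNoetherian X.left := LocallyOfFiniteType.isLocallyNoetherian X.hom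
  haveI : IsLocallyNoetherian Y.left := LocallyOfFiniteType.isLocallyNoetherian Y.hom
  haveI : CompactSpace X.left := QuasiCompact.compactSpace_of_compactSpace X.hom
  haveI : IsProper (f.left ≫ Y.hom) := by rw [Over.w f]; infer_instance
  haveI : IsProper f.left := IsProper.of_comp f.left Y.hom
  have hYn : Pi1.IsNormalScheme Y.left := fun q => by
    haveI := hY.1 q
    haveI : UniqueFactorizationMonoid (Y.left.presheaf.stalk q) := CAlgH3.ufm_of_regular _
    exact ⟨inferInstance, inferInstance⟩
  have hy0 : y ≠ genericPoint Y.left := by
    intro h
    subst h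
    haveI : Subsingleton Y.left := ⟨fun a b => ((genericPoint_specializes a).mem_closed hy rfl).trans
      ((genericPoint_specializes b).mem_closed hy rfl).symm⟩
    have h0 : topologicalKrullDim Y.left ≤ 0 := iSup_le fun p => by
      by_contra hp
      have hl : 1 ≤ p.length := by
        by_contra h
        exact hp (by exact_mod_cast (Nat.lt_one_iff.1 (not_le.1 h)).le)
      refine (p.strictMono (show (⟨0, by omega⟩ : Fin (p.length + 1)) < ⟨1, by omega⟩ from Fin.mk_lt_mk.2 Nat.zero_lt_one)).ne ?_
      refine TopologicalSpace.IrreducibleCloseds.ext (Set.Subset.antisymm (fun z _ => ?_) fun z _ => ?_)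
      · obtain ⟨w, hw⟩ := (p ⟨1, by omega⟩).isIrreducible.nonempty
        exact Subsingleton.elim w z ▸ hw
      · obtain ⟨w, hw⟩ := (p ⟨0, by omega⟩).isIrreducible.nonempty
        exact Subsingleton.elim w z ▸ hw
    rw [hY.2.2.1] at h0
    exact absurd h0 (by decide)
  haveI : Y.left.IsSeparated := ⟨by rw [← terminal.comp_from Y.hom]; infer_instance⟩
  haveI : X.left.IsSeparated := ⟨by rw [← terminal.comp_from X.hom]; infer_instance⟩
  exact Models7.isBlowUp_of_irreducible_fibre hX.1 hY.1 hX.2.2.1.le hY.2.2.1.le f.left y hy hy0 hiso hirr hbig

end Groth.Agent.S3257
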