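import Groth.Statements.S3258
import Groth.Agent.Models7.SmoothRelMin
-- import your own Groth.Agent.* helpers here

set_option autoImplicit false
set_option linter.style.haveILetI false
set_option backward.isDefEq.respectTransparency false
universe u
open AlgebraicGeometry CategoryTheory CategoryTheory.Limits
open ArSurf

namespace Groth.Agent.S3258

/-- Let R be a Dedekind domain and X an arithmetic surface over Spec R (a regular, integral scheme of
dimension 2, flat and projective over Spec R) which is smooth over Spec R. Then X is relatively
minimal: every R-morphism from X to a regular, projective, flat R-scheme that is an isomorphism on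
generic fibres is an isomorphism. -/
theorem result {R : Type u} [CommRing R] [IsDedekindDomain R]
    (X : Over (Spec (CommRingCat.of R))) (hX : ArSurf.IsArithSurface R X) [Smooth X.hom] :
    Neron.IsRelMinimalRegularModel R X := by
  exact ⟨hX.1, hX.2.2.2.2, hX.2.2.2.1, fun Y hY hpY hfY g hg =>
    Groth.Agent.Models7.isIso_of_smooth hX hY hpY hfY g hg⟩

end Groth.Agent.S3258
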