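import Groth.Statements.S3259
import Groth.Agent.Models7.LocalNoExc
import Groth.Agent.ModPairLib.MProd
import Groth.Agent.RelVALib.ChowPn
-- import your own Groth.Agent.* helpers here

set_option autoImplicit false
set_option linter.style.haveILetI false
set_option backward.isDefEq.respectTransparency false
universe u
open AlgebraicGeometry CategoryTheory CategoryTheory.Limits
open ArSurf

namespace Groth.Agent.S3259

/-- Let R be a Dedekind domain with fraction field K and C a smooth projective curve over K (smooth,
proper, of dimension 1, admitting a closed immersion into some P^n_K). Then there are a non-empty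
open subscheme U of Spec R containing the generic point and a smooth proper morphism 𝒞 -> U whose
fibre over the generic point is K-isomorphic to C. In particular C has good reduction at every
closed point of U, that is, at all but finitely many closed points. (Stated in the form the
published proof gives.) -/
theorem result {R : Type u} [CommRing R] [IsDedekindDomain R]
    (C : Over (Spec (CommRingCat.of (FractionRing R)))) [Smooth C.hom] [IsProper C.hom]
    (hdim : topologicalKrullDim C.left = 1) (hproj : Neron.IsProjectiveOver (FractionRing R) C) :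
    ∃ (U : (Spec (CommRingCat.of R)).Opens) (ξ : Spec (CommRingCat.of (FractionRing R)) ⟶ (U : Scheme.{u}))
      (𝒞 : Scheme.{u}) (π : 𝒞 ⟶ (U : Scheme.{u})),
      ξ ≫ U.ι = Neron.genPt R ∧ Smooth π ∧ IsProper π ∧
      Nonempty (Over.mk (pullback.snd π ξ) ≅ C) := by
  classical
  obtain ⟨n, i, hi, hiw⟩ := hproj
  let T : CommRingCat.{u} := CommRingCat.of R
  let PR := CohB1.ProjSpaceOver n (Spec T)
  let pR : PR ⟶ Spec T := CohB1.ProjSpaceOver.toBase n (Spec T)
  let PK := CohB1.ProjSpaceOver n (Spec (CommRingCat.of (FractionRing R)))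
  let pK : PK ⟶ Spec (CommRingCat.of (FractionRing R)) := CohB1.ProjSpaceOver.toBase n _
  let q : PK ⟶ PR := pullback.lift (pullback.fst _ _) (pK ≫ Neron.genPt R)
    (by rw [pullback.condition, Category.assoc]; congr 1; exact specULiftZIsTerminal.hom_ext _ _)
  have hsq : IsPullback q pK pR (Neron.genPt R) := by
    refine IsPullback.of_right ?_ (pullback.lift_snd _ _ _) (IsPullback.of_hasPullback _ _)
    rw [show q ≫ pullback.fst (CohB1.ProjSpace.toSpec n (ULift.{u} ℤ)) (specULiftZIsTerminal.from (Spec T)) = _
        from pullback.lift_fst _ _ _,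
      show Neron.genPt R ≫ specULiftZIsTerminal.from (Spec T) = specULiftZIsTerminal.from _
        from specULiftZIsTerminal.hom_ext _ _]
    exact IsPullback.of_hasPullback _ _
  haveI : IsPreimmersion q := MorphismProperty.of_isPullback (P := @IsPreimmersion) hsq.flip inferInstance
  haveI : Flat q := MorphismProperty.of_isPullback (P := @Flat) hsq.flip inferInstance
  haveI : IsProper pR := Groth.Agent.RelVALib.isProper_toBase n (Spec T)
  haveI : QuasiCompact q := MorphismProperty.of_isPullback (P := @QuasiCompact) hsq.flip inferInstance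
  let h : C.left ⟶ PR := i ≫ q
  haveI : QuasiCompact h := inferInstanceAs (QuasiCompact (i ≫ q))
  haveI : IsSchemeTheoreticallyDominant h.toImage := ⟨Groth.Agent.ModPairLib.ker_toImage h⟩
  -- the generic fibre of the closure is `C`
  let P' := pullback h.imageι q
  let e : C.left ⟶ P' := pullback.lift h.toImage i h.toImage_imageι
  haveI : IsClosedImmersion e := by
    haveI : IsClosedImmersion (e ≫ pullback.snd h.imageι q) := by
      rw [show e ≫ pullback.snd h.imageι q = i from pullback.lift_snd _ _ _]; exact hi
    exact IsClosedImmersion.of_comp e (pullback.snd h.imageι q)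
  haveI : Flat (pullback.fst h.imageι q) := inferInstance
  have hc : IsPullback (𝟙 C.left) e h.toImage (pullback.fst h.imageι q) := by
    refine IsPullback.of_bot ?_ (by rw [Category.id_comp]; exact (pullback.lift_fst _ _ _).symm)
      (IsPullback.of_hasPullback h.imageι q)
    rw [h.toImage_imageι, show e ≫ pullback.snd h.imageι q = i from pullback.lift_snd _ _ _]
    exact (Groth.Agent.Models7.isPullback_id_of_mono i q).flip
  haveI : IsSchemeTheoreticallyDominant e := IsSchemeTheoreticallyDominant.of_isPullback hc
  haveI : IsIso e := IsClosedImmersion.isIso_of_ker_eq e (𝟙 P') e (Category.comp_id e)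
    (e.ker_eq_bot.trans (IsSchemeTheoreticallyDominant.ker_eq_bot (𝟙 P')).symm)
  let p : h.image ⟶ Spec T := h.imageι ≫ pR
  haveI : IsProper p := inferInstanceAs (IsProper (h.imageι ≫ pR))
  haveI : LocallyOfFinitePresentation p := LocallyOfFinitePresentation.iff_locallyOfFiniteType.2 inferInstance
  have hgen : IsPullback h.toImage C.hom p (Neron.genPt R) := by
    have h1 : IsPullback h.toImage i h.imageι q := (IsPullback.of_hasPullback h.imageι q).of_iso
      (asIso e).symm (Iso.refl _) (Iso.refl _) (Iso.refl _)
      (by simp [e]) (by simp [e]) (by simp) (by simp)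
    have h2 := h1.paste_vert hsq
    rwa [show i ≫ pK = C.hom from hiw] at h2
  haveI : IsPreimmersion h.toImage := MorphismProperty.of_isPullback (P := @IsPreimmersion) hgen.flip inferInstance
  haveI : Flat h.toImage := MorphismProperty.of_isPullback (P := @Flat) hgen.flip inferInstance
  haveI : LocallyOfFinitePresentation C.hom := inferInstance
  have hsmooth : ∀ c : C.left, h.toImage c ∈ p.smoothLocus := by
    intro c
    rw [Scheme.Hom.mem_smoothLocus]
    haveI := Groth.Agent.VarietyLib.isIso_stalkMap_of_flat_of_isPreimmersion h.toImage c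
    haveI := Groth.Agent.VarietyLib.isIso_stalkMap_of_flat_of_isPreimmersion (Neron.genPt R) (C.hom c)
    have h1 : ((C.hom ≫ Neron.genPt R).stalkMap c).hom.FormallySmooth := by
      rw [Scheme.Hom.stalkMap_comp, CommRingCat.hom_comp]
      exact (RingHom.FormallySmooth.respectsIso.cancel_left_isIso _ _).2
        (C.hom.smoothLocus_eq_top.ge (show c ∈ (⊤ : C.left.Opens) from trivial))
    have h2 : ((h.toImage ≫ p).stalkMap c).hom.FormallySmooth := by
      have key : ∀ {f f' : C.left ⟶ Spec T}, f = f' → (f.stalkMap c).hom.FormallySmooth →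
          (f'.stalkMap c).hom.FormallySmooth := by
        rintro f _ rfl hf; exact hf
      exact key hgen.w.symm h1
    rw [Scheme.Hom.stalkMap_comp, CommRingCat.hom_comp] at h2
    exact (RingHom.FormallySmooth.respectsIso.cancel_right_isIso _ _).1 h2
  let Z : Set (Spec T) := p.base '' ((p.smoothLocus : Set h.image)ᶜ)
  have hZ : IsClosed Z := p.isClosedMap _ p.smoothLocus.isOpen.isClosed_compl
  let U : (Spec T).Opens := ⟨Zᶜ, hZ.isOpen_compl⟩
  have hr : Set.range (Neron.genPt R).base ⊆ Set.range U.ι.base := by
    rw [Scheme.Opens.range_ι]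
    rintro _ ⟨z, rfl⟩ ⟨x, hx, hxz⟩
    obtain ⟨c, rfl⟩ : x ∈ Set.range h.toImage.base := by
      rw [← hgen.isoPullback_hom_fst, Scheme.Hom.comp_base, TopCat.coe_comp, Set.range_comp,
        Set.range_eq_univ.2 hgen.isoPullback.hom.surjective, Set.image_univ,
        Scheme.Pullback.range_fst]
      exact ⟨z, hxz.symm⟩
    exact hx (hsmooth c)
  let ξ := IsOpenImmersion.lift U.ι (Neron.genPt R) hr
  have hξ : ξ ≫ U.ι = Neron.genPt R := IsOpenImmersion.lift_fac _ _ _
  haveI : Smooth (p ∣_ U) := by
    rw [← Scheme.Hom.smoothLocus_eq_top_iff, eq_top_iff]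
    intro x _
    rw [Scheme.Hom.mem_smoothLocus]
    refine (RingHom.FormallySmooth.respectsIso.arrow_mk_iso_iff (morphismRestrictStalkMap p U x)).2 ?_
    by_contra hns
    exact x.2 ⟨x.1, hns, rfl⟩
  refine ⟨U, ξ, (p ⁻¹ᵁ U).toScheme, p ∣_ U, hξ, inferInstance, inferInstance, ⟨?_⟩⟩
  have hr' : Set.range h.toImage.base ⊆ Set.range (p ⁻¹ᵁ U).ι.base := by
    rw [Scheme.Opens.range_ι]
    rintro _ ⟨c, rfl⟩
    show p (h.toImage c) ∈ U
    rw [← Scheme.Hom.comp_apply, hgen.w, Scheme.Hom.comp_apply]
    obtain ⟨u, hu⟩ := hr ⟨C.hom c, rfl⟩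
    exact hu ▸ u.2
  have hC : IsPullback (IsOpenImmersion.lift (p ⁻¹ᵁ U).ι h.toImage hr') C.hom (p ∣_ U) ξ := by
    refine IsPullback.of_right ?_ ?_ (isPullback_morphismRestrict p U).flip
    · rw [IsOpenImmersion.lift_fac, hξ]; exact hgen
    · rw [← cancel_mono U.ι, Category.assoc, Category.assoc, morphismRestrict_ι,
        IsOpenImmersion.lift_fac_assoc, hξ]
      exact hgen.w
  exact (Over.isoMk hC.isoPullback (hC.isoPullback_hom_snd)).symm

end Groth.Agent.S3259
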