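import Groth.Statements.S3260
import Groth.Agent.Models7.SteinDescend
-- import your own Groth.Agent.* helpers here

set_option autoImplicit false
set_option linter.style.haveILetI false
set_option backward.isDefEq.respectTransparency false
universe u
open AlgebraicGeometry CategoryTheory CategoryTheory.Limits
open ArSurf

open Groth.Agent Groth.Agent.Coherent
namespace Groth.Agent.S3260

/-- Let R -> R' be an étale homomorphism of Dedekind domains with Spec R' -> Spec R surjective, X a
relatively minimal arithmetic surface over Spec R whose generic fibre has arithmetic genus ≥ 1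
(χ_K(O) ≤ 0), and suppose X' = X ×_{Spec R} Spec R' is integral. Then X' is a relatively minimal
arithmetic surface over Spec R'. (The source states 'X minimal iff X ×_S S' minimal' for S' -> S
étale surjective or a completion; only the passage of relative minimality up to X' in the étale case
is stated here.) -/
theorem result {R R' : Type u} [CommRing R] [IsDedekindDomain R] [CommRing R'] [IsDedekindDomain R']
    [Algebra R R'] [Algebra.Etale R R'] (hsurj : Function.Surjective (PrimeSpectrum.comap (algebraMap R R')))
    (X : Over (Spec (CommRingCat.of R))) (hX : ArSurf.IsArithSurface R X) (hmin : Neron.IsRelMinimalRegularModel R X)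
    (hg : FGA.eulerCharLE (FractionRing R) ((Neron.genericFibre R).obj X).left (Coh.structureModule _) 1 ≤ 0)
    [IsIntegral ((Over.pullback (Spec.map (CommRingCat.ofHom (algebraMap R R')))).obj X).left] :
    ArSurf.IsArithSurface R' ((Over.pullback (Spec.map (CommRingCat.ofHom (algebraMap R R')))).obj X) ∧
      Neron.IsRelMinimalRegularModel R' ((Over.pullback (Spec.map (CommRingCat.ofHom (algebraMap R R')))).obj X) := by
  let X' : Over (Spec (CommRingCat.of R')) := Models7.sfc X R'
  show ArSurf.IsArithSurface R' X' ∧ Neron.IsRelMinimalRegularModel R' X'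
  haveI : AlgebraicGeometry.IsIntegral X'.left :=
    ‹AlgebraicGeometry.IsIntegral ((Over.pullback (Spec.map (CommRingCat.ofHom (algebraMap R R')))).obj X).left›
  have hX' : ArSurf.IsArithSurface R' X' := Models7.isArithSurface_sfc_etale hX hsurj
  refine ⟨hX', ?_⟩
  by_cases hR : IsField R
  · -- over a field the base extension is again a field
    letI := hR.toField
    haveI : Module.Finite R R' := Algebra.FormallyUnramified.finite_of_free R R'
    haveI : Algebra.IsIntegral R R' := Algebra.IsIntegral.of_finite R R'
    have hR' : IsField R' := isField_of_isIntegral_of_isField' (R := R) (S := R') hR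
    haveI : IsIso (Neron.genPt R') := by
      letI := hR'.toField
      let e : R' ≃ₐ[R'] FractionRing R' := IsLocalization.atUnits R' (nonZeroDivisors R') fun x hx =>
        isUnit_iff_ne_zero.2 (nonZeroDivisors.ne_zero hx)
      haveI : IsIso (CommRingCat.ofHom (algebraMap R' (FractionRing R'))) := by
        rw [ConcreteCategory.isIso_iff_bijective]
        have : (algebraMap R' (FractionRing R') : R' → FractionRing R') = e := funext fun r => (e.commutes r).symm
        exact this ▸ e.bijective
      infer_instance
    refine ⟨hX'.1, hX'.2.2.2.2, hX'.2.2.2.1, fun Y _ _ _ g hg => ?_⟩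
    haveI := hg
    let p₁ := pullback.fst X'.hom (Neron.genPt R')
    let p₂ := pullback.fst Y.hom (Neron.genPt R')
    haveI : IsIso p₁ := inferInstanceAs (IsIso (pullback.fst X'.hom (Neron.genPt R')))
    haveI : IsIso p₂ := inferInstanceAs (IsIso (pullback.fst Y.hom (Neron.genPt R')))
    let G : pullback X'.hom (Neron.genPt R') ⟶ pullback Y.hom (Neron.genPt R') := ((Neron.genericFibre R').map g).left
    haveI : IsIso G := inferInstanceAs (IsIso ((Over.forget _).map ((Neron.genericFibre R').map g)))
    have h : G ≫ p₂ = p₁ ≫ g.left := pullback.lift_fst _ _ _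
    haveI : IsIso ((Over.forget _).map g) := by
      show IsIso g.left
      rw [show g.left = inv p₁ ≫ G ≫ p₂ by rw [h, IsIso.inv_hom_id_assoc]]
      infer_instance
    exact isIso_of_reflects_iso _ (Over.forget _)
  -- reduce to trivial constants
  obtain ⟨A, _, _, _, π, _, hinjA, hA, hπ, hπapp, hXA, hmA, hH1⟩ := Models7.exists_steinData hR hX hmin hg
  have hR'F : ¬ IsField R' := fun h => hR (by
    by_contra hne
    obtain ⟨P, hP⟩ := Ideal.exists_maximal R
    obtain ⟨P', hP'⟩ := hsurj (⟨P, hP.isPrime⟩ : PrimeSpectrum R)
    letI := h.toField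
    have h0 : P'.asIdeal = ⊥ := (Ideal.eq_bot_or_top _).resolve_right P'.isPrime.ne_top
    have h1 : P = RingHom.ker (algebraMap R R') := by
      rw [RingHom.ker_eq_comap_bot, ← h0]; exact (congrArg PrimeSpectrum.asIdeal hP').symm
    obtain ⟨Q, hQ⟩ := hsurj (⟨⊥, Ideal.isPrime_bot⟩ : PrimeSpectrum R)
    have h2 : Q.asIdeal = ⊥ := (Ideal.eq_bot_or_top _).resolve_right Q.isPrime.ne_top
    have h3 : RingHom.ker (algebraMap R R') = ⊥ := by
      rw [RingHom.ker_eq_comap_bot, ← h2]; exact congrArg PrimeSpectrum.asIdeal hQ
    exact Ring.ne_bot_of_isMaximal_of_not_isField hP hne (h1.trans h3))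
  let A' : Type u := TensorProduct R A R'
  letI algR' : Algebra R' A' := Algebra.TensorProduct.rightAlgebra
  haveI : Algebra.Etale A A' := inferInstance
  haveI : Module.Finite R' A' := by
    haveI : Algebra.IsPushout R A R' A' := TensorProduct.isPushout
    haveI : Algebra.IsPushout R R' A A' := Algebra.IsPushout.symm inferInstance
    exact Module.Finite.equiv (Algebra.IsPushout.equiv R R' A A').toLinearEquiv
  haveI := hXA.2.1
  haveI := hXA.2.2.2.1
  haveI : IsProper π := Models7.isProper_of_projective hXA.2.2.2.2
  haveI : CompactSpace X.left := QuasiCompact.compactSpace_of_compactSpace π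
  let YA := Models7.sfc (Over.mk π) A'
  have hsq : IsPullback (Spec.map (CommRingCat.ofHom (algebraMap A A')))
      (Spec.map (CommRingCat.ofHom (algebraMap R' A'))) (Models7.baseMap R A) (Models7.baseMap R R') :=
    isPullback_SpecMap_of_isPushout _ _ _ _ (CommRingCat.isPushout_tensorProduct R A R')
  have hpb : IsPullback (pullback.fst π (Models7.baseMap A A'))
      (pullback.snd π (Models7.baseMap A A') ≫ Models7.baseMap R' A') X.hom (Models7.baseMap R R') := by
    have h := (IsPullback.of_hasPullback π (Models7.baseMap A A')).paste_vert hsq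
    rw [hπ] at h
    exact h
  let e : YA.left ≅ X'.left := hpb.isoPullback
  haveI : Nonempty YA.left := ⟨e.inv (genericPoint X'.left)⟩
  haveI : AlgebraicGeometry.IsIntegral YA.left := isIntegral_of_isOpenImmersion e.hom
  haveI : Flat (Models7.baseMap A A') := by
    haveI := Models7.etale_baseMap (R := A) (A := A')
    infer_instance
  haveI : X.left.IsSeparated := ⟨by rw [← terminal.comp_from π]; infer_instance⟩
  have happ : Function.Bijective YA.hom.appTop :=
    PicLib.bijective_appTop_of_isPullback (pullback.fst π (Models7.baseMap A A')) (pullback.snd π (Models7.baseMap A A'))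
      π (Models7.baseMap A A') (IsPullback.of_hasPullback _ _) hπapp
  let eA : A' ≃+* Γ(YA.left, ⊤) := ((Scheme.ΓSpecIso (CommRingCat.of A')).symm ≪≫
    (haveI : IsIso YA.hom.appTop := (ConcreteCategory.isIso_iff_bijective _).2 happ; asIso YA.hom.appTop)).commRingCatIsoToRingEquiv
  haveI : IsDomain A' := eA.toMulEquiv.isDomain
  have hsA : Function.Surjective (Models7.baseMap A A').base := by
    haveI : Surjective (Models7.baseMap R R') := ⟨hsurj⟩
    haveI : Surjective (Spec.map (CommRingCat.ofHom (algebraMap A A'))) :=
      MorphismProperty.of_isPullback (P := @Surjective) hsq.flip inferInstance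
    exact (inferInstance : Surjective (Spec.map (CommRingCat.ofHom (algebraMap A A')))).surj
  haveI : IsLocallyNoetherian X.left := LocallyOfFiniteType.isLocallyNoetherian π
  have hregY : ∀ y : YA.left, IsRegularLocalRing (YA.left.presheaf.stalk y) := by
    haveI : Etale (pullback.fst π (Models7.baseMap A A')) := Models7.sfc_etale (A := A') (Over.mk π)
    exact AlgSpLib.regular_stalks_of_etale (pullback.fst π (Models7.baseMap A A')) hX.1
  haveI : IsIntegrallyClosed A' :=
    haveI : IsIntegrallyClosed Γ(YA.left, ⊤) := Models7.isIntegrallyClosed_appTop fun x =>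
      haveI := hregY x
      CAlgH3.isIntegrallyClosed_of_regular _
    IsIntegrallyClosed.of_equiv eA.symm
  haveI : Algebra.IsIntegral R' A' := Algebra.IsIntegral.of_finite R' A'
  haveI : IsNoetherianRing A' := isNoetherian_of_tower R' (inferInstance : IsNoetherian R' A')
  have hinj' : Function.Injective (algebraMap R' A') := by
    haveI : Module.Flat R R' := inferInstance
    exact Algebra.TensorProduct.includeRight_injective hinjA
  haveI : Ring.DimensionLEOne A' := ⟨fun {p} hp hp' => by
    haveI := hp'
    refine Ideal.isMaximal_of_isIntegral_of_isMaximal_comap (R := R') p ?_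
    exact Ring.DimensionLEOne.maximalOfPrime (fun h => hp (Ideal.eq_bot_of_comap_eq_bot h)) inferInstance⟩
  haveI : IsDedekindDomain A' := (isDedekindDomain_iff A' (FractionRing A')).2
    ⟨inferInstance, inferInstance, inferInstance, (isIntegrallyClosed_iff (FractionRing A')).1 inferInstance⟩
  have hA' : ¬ IsField A' := fun h => hR'F ((Algebra.IsIntegral.isField_iff_isField hinj').2 h)
  have hYA : ArSurf.IsArithSurface A' YA := Models7.isArithSurface_sfc_etale hXA hsA
  have hinjAA' : Function.Injective (algebraMap A A') := by
    intro a b hab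
    by_contra hne
    obtain ⟨Q, hQ⟩ := hsA ((⟨⊥, Ideal.isPrime_bot⟩ : PrimeSpectrum A))
    have h0 : a - b ∈ Ideal.comap (algebraMap A A') (show PrimeSpectrum A' from Q).asIdeal := by
      rw [Ideal.mem_comap, map_sub, hab, sub_self]; exact Ideal.zero_mem _
    rw [show Ideal.comap (algebraMap A A') (show PrimeSpectrum A' from Q).asIdeal = ⊥ from
      congrArg PrimeSpectrum.asIdeal hQ] at h0
    exact hne (sub_eq_zero.1 ((Submodule.mem_bot A).1 h0))
  have hmY : Neron.IsRelMinimalRegularModel A' YA := by
    refine Models7.isRelMinimal_of_no_exc hA' hYA fun Q _ _ Γ hΓ => ?_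
    have hP : (Q.under A).IsMaximal := by
      refine Ring.DimensionLEOne.maximalOfPrime ?_ inferInstance
      intro h
      haveI := Models7.etale_baseMap (R := A) (A := A')
      -- a maximal ideal of an etale extension does not lie over the generic point
      have hQ0 : Q ≠ ⊥ := Ring.ne_bot_of_isMaximal_of_not_isField ‹_› hA'
      have hq := Models7.eq_of_specializes_etale (Models7.baseMap A A')
        (t := (⟨⊥, Ideal.isPrime_bot⟩ : PrimeSpectrum A')) (t' := (⟨Q, inferInstance⟩ : PrimeSpectrum A'))
      refine hQ0 (congrArg PrimeSpectrum.asIdeal (hq ((PrimeSpectrum.le_iff_specializes _ _).1 bot_le) ?_)).symm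
      refine PrimeSpectrum.ext ?_
      show Ideal.comap (algebraMap A A') ⊥ = Q.under A
      rw [h, ← RingHom.ker_eq_comap_bot]
      exact (RingHom.injective_iff_ker_eq_bot _).1 hinjAA'
    -- pass to the base change of the constants
    let T' := Models7.sfc (Over.mk π) (Localization.AtPrime Q)
    let c : pullback YA.hom (Models7.locMap Q) ≅ T'.left :=
      ((IsPullback.of_hasPullback YA.hom (Models7.locMap Q)).paste_horiz
        (IsPullback.of_hasPullback π (Models7.baseMap A A'))).isoPullback ≪≫
      pullback.congrHom rfl (by
        show Models7.locMap Q ≫ Models7.baseMap A A' = Models7.baseMap A (Localization.AtPrime Q)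
        simp only [Models7.locMap, Models7.baseMap, ← Spec.map_comp, ← CommRingCat.ofHom_comp,
          ← IsScalarTower.algebraMap_eq])
    have hc : c.hom ≫ T'.hom = pullback.snd YA.hom (Models7.locMap Q) := by
      simp [c, T']
    haveI : IsClosedImmersion Γ.ι := Γ.isClosedImmersion
    obtain ⟨hT', -, -⟩ := Models7.sfc_local (R := A) hA hXA hπapp hH1 Q hP
    haveI := hT'.2.1
    haveI : IsProper T'.hom := Models7.isProper_of_projective hT'.2.2.2.2
    haveI : IsLocallyNoetherian T'.left := LocallyOfFiniteType.isLocallyNoetherian T'.hom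
    haveI : Nonempty ↥(pullback YA.hom (Models7.locMap Q)) := ⟨c.inv (genericPoint T'.left)⟩
    haveI : AlgebraicGeometry.IsIntegral (pullback YA.hom (Models7.locMap Q)) := isIntegral_of_isOpenImmersion c.hom
    haveI : IsIso (c.hom ∣_ ⊤) := inferInstance
    obtain ⟨hcl, hexc⟩ := Models7.isExcCurve_comp_of_isIso_over c.hom ⊤
      (show Γ.curve.left ⟶ pullback YA.hom (Models7.locMap Q) from Γ.ι) (fun _ _ => trivial) hΓ
    exact Models7.no_exc_etale (R := A) hA hXA hπapp hH1 hmA Q hP
      { curve := Γ.curve, ι := (show Γ.curve.left ⟶ pullback YA.hom (Models7.locMap Q) from Γ.ι) ≫ c.hom,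
        isClosedImmersion := hcl, isIntegral := Γ.isIntegral, dim_eq := Γ.dim_eq
        w := by
          show ((show Γ.curve.left ⟶ pullback YA.hom (Models7.locMap Q) from Γ.ι) ≫ c.hom) ≫ T'.hom = _
          rw [Category.assoc, hc]; exact Γ.w } hexc
  -- descend from the constants
  let π' : X'.left ⟶ Spec (CommRingCat.of A') := e.inv ≫ YA.hom
  have hπ' : π' ≫ Models7.baseMap R' A' = X'.hom := by
    show (e.inv ≫ pullback.snd π (Models7.baseMap A A')) ≫ Models7.baseMap R' A' = pullback.snd X.hom (Models7.baseMap R R')
    rw [Category.assoc, ← hpb.isoPullback_inv_snd]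
  have h' : Neron.IsRelMinimalRegularModel A' (Over.mk π') := by
    refine Models7.isRelMinimal_of_iso (X := YA) (Over.isoMk e (by simp [π'])) hmY hX'.1
      (Models7.isProjectiveOver_factor hX'.2.2.2.2 π' hπ') ?_
    exact (Models7.isArithSurface_factor hX' π' hπ').2.2.2.1
  refine Models7.isRelMinimal_descend hinj' hR'F hX' π' hπ' ?_ h'
  show Function.Bijective (e.inv ≫ YA.hom).appTop
  rw [Scheme.Hom.comp_appTop]
  exact (ConcreteCategory.bijective_of_isIso e.inv.appTop).comp happ

end Groth.Agent.S3260
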