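import Groth.Statements.S3314
import Groth.Agent.Inters29.Kernel
import Groth.Agent.Inters29.Connected

set_option autoImplicit false
universe u
open CategoryTheory CategoryTheory.Limits AlgebraicGeometry
open Models

namespace Groth.Agent.S3314

/-- Let R be a discrete valuation ring with fraction field K, C a smooth proper curve over K with H⁰(C,
O_C) = K, X a regular proper model of C over R, Γ_1, …, Γ_n the irreducible components of the closed
fibre with multiplicities m_i, and L_i invertible O_X-modules with L_i ⊗ I(Γ_i) ≅ O_X (that is, L_i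
= O_X(Γ_i)). For exponent vectors a, b with natural-number entries, the modules L_1^{a_1} ⊗ ⋯ ⊗
L_n^{a_n} and L_1^{b_1} ⊗ ⋯ ⊗ L_n^{b_n} are isomorphic if and only if a − b is an integer multiple
of (m_1, …, m_n). (Equivalently: the kernel of ℤⁿ → Pic(X), e_i ↦ [O_X(Γ_i)], is generated by (m_1,
…, m_n).) -/
theorem result (R : Type u) [CommRing R] [IsDomain R] [IsDiscreteValuationRing R]
    (C X : Scheme.{u}) (f : C ⟶ Spec (CommRingCat.of (FractionRing R))) (p : X ⟶ Spec (CommRingCat.of R))
    (hC : Curve.IsSmoothProperCurve (FractionRing R) C f) (hH0 : IsIso f.appTop)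
    (hX : Models.IsRegularProperModel R X p C f)
    {n : ℕ} (Γ : Fin n → ArSurf.VertComp R (Over.mk p)) (hΓ : Models.IsComponentList R (Over.mk p) Γ)
    (L : Fin n → X.Modules) (hL : ∀ i, ClSub.IsInverseOf (L i) (ClSub.idealMod (Γ i).ι.ker)) (a b : Fin n → ℕ) :
    Nonempty (FGA.multiTwist L a ≅ FGA.multiTwist L b) ↔
      ∃ c : ℤ, ∀ i, (a i : ℤ) - (b i : ℤ) = c * (Models.mult R (Over.mk p) (Γ i) : ℤ) := by
  obtain ⟨-, -, hint, -⟩ := hC
  obtain ⟨hm, hp, hreg⟩ := hX
  haveI := hint
  haveI := Groth.Agent.Inters29.isIntegral_model R hm hreg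
  haveI : LocallyOfFiniteType p := hm.2.1
  haveI := hp
  obtain ⟨g, hg⟩ := hm.2.2.2
  haveI : IsLocallyNoetherian X := LocallyOfFiniteType.isLocallyNoetherian p
  haveI : IsIntegral (Over.mk p).left := inferInstanceAs (IsIntegral X)
  haveI : IsLocallyNoetherian (Over.mk p).left := inferInstanceAs (IsLocallyNoetherian X)
  haveI : Flat (Over.mk p).hom := hm.1
  haveI : IsProper (Over.mk p).hom := hp
  have hconn : _root_.IsConnected (Models.specialFibreSet R (Over.mk p)) :=
    Groth.Agent.Inters29.isConnected_specialFibreSet R hH0 g hg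
  have hG : Function.Bijective (Coh.toGlobal (Over.mk p).hom) :=
    Groth.Agent.Inters29.toGlobal_bijective R hH0 g hg
  have hD := fun i => Groth.Agent.Inters29.isEffCartier_listComp R Γ (X := Over.mk p) hreg hΓ i
  have hLi : ∀ i, PicF.IsInvertible (L i) := fun i =>
    Groth.Agent.Inters29.isInvertible_of_inverse R (X := Over.mk p) (hD i) (hL i)
  let l : Fin n → Groth.Agent.PicLib.PicM X := fun i => Groth.Agent.PicLib.PicM.of (hLi i)
  let d : Fin n → Groth.Agent.PicLib.PicM X := fun i => Groth.Agent.Inters29.idealCl (Γ i).ι.ker (hD i)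
  let m : Fin n → ℕ := fun i => Models.mult R (Over.mk p) (Γ i)
  have hld : ∀ i, l i * d i = 1 := fun i => by
    simp only [l, d, Groth.Agent.Inters29.idealCl, Groth.Agent.PicLib.PicM.of_mul, Groth.Agent.PicLib.PicM.of_eq_one_iff]
    exact hL i
  have hprod : ∀ e : Fin n → ℕ, ∏ i, l i ^ e i = 1 ↔ ∏ i, d i ^ e i = 1 := fun e => by
    have h : (∏ i, l i ^ e i) * ∏ i, d i ^ e i = 1 := by
      rw [← Finset.prod_mul_distrib]
      exact Finset.prod_eq_one fun i _ => by rw [← mul_pow, hld, one_pow]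
    exact ⟨fun h1 => by rwa [h1, one_mul] at h, fun h1 => by rwa [h1, mul_one] at h⟩
  obtain ⟨hA, hA'⟩ := Groth.Agent.Inters29.exists_multiTwist_class L hLi a
  obtain ⟨hB, hB'⟩ := Groth.Agent.Inters29.exists_multiTwist_class L hLi b
  rw [← Groth.Agent.PicLib.PicM.of_eq_iff hA hB, hA', hB']
  show (∏ i, l i ^ a i = ∏ i, l i ^ b i) ↔ _
  have hdiff : ∀ (a b : Fin n → ℕ), (∀ i, b i ≤ a i) → ∏ i, l i ^ a i = ∏ i, l i ^ b i →
      ∃ k : ℕ, ∀ i, a i = b i + k * m i := by
    intro a b hle h
    have h1 : ∏ i, l i ^ (a i - b i) = 1 := by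
      refine mul_left_cancel (a := ∏ i, l i ^ b i) ?_
      rw [mul_one, ← Finset.prod_mul_distrib]
      refine Eq.trans (Finset.prod_congr rfl fun i _ => ?_) h
      rw [← pow_add, Nat.add_sub_cancel' (hle i)]
    obtain ⟨k, hk⟩ := Groth.Agent.Inters29.exists_eq_mul_mult R (X := Over.mk p) hreg Γ hΓ hG
      (fun i => a i - b i) ((hprod _).1 h1)
    refine ⟨k, fun i => ?_⟩
    have h2 : a i - b i = k * m i := hk i
    have h3 := hle i
    omega
  constructor
  · intro h
    let x : Fin n → ℚ := fun j => (a j : ℚ) - (b j : ℚ)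
    have h0 : Matrix.mulVec (Groth.Agent.Inters29.interMat R Γ L ℚ) x = 0 := by
      funext i
      haveI := Groth.Agent.Inters29.isProper_curve R (Γ i)
      have hi := congrArg (Groth.Agent.Inters29.intCl R (Γ i)) h
      replace hi := ((Groth.Agent.Inters29.intCl_prod R (X := Over.mk p) (Γ i) Finset.univ fun j => l j ^ a j).symm.trans hi).trans
        (Groth.Agent.Inters29.intCl_prod R (X := Over.mk p) (Γ i) Finset.univ fun j => l j ^ b j)
      rw [Finset.sum_congr rfl fun j _ => Groth.Agent.Inters29.intCl_pow R (X := Over.mk p) (Γ i) (l j) (a j),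
        Finset.sum_congr rfl fun j _ => Groth.Agent.Inters29.intCl_pow R (X := Over.mk p) (Γ i) (l j) (b j)] at hi
      have hv : ∀ j, Groth.Agent.Inters29.intCl R (Γ i) (l j) = ArSurf.inter R (Over.mk p) (L j) (Γ i) :=
        fun j => Groth.Agent.Inters29.intCl_of R (X := Over.mk p) (Γ i) (hLi j)
      simp only [hv] at hi
      have hi' := congrArg (Int.cast : ℤ → ℚ) hi
      push_cast at hi'
      show ∑ j, (ArSurf.inter R (Over.mk p) (L j) (Γ i) : ℚ) * x j = 0
      rw [Finset.sum_congr rfl fun j _ => (show (ArSurf.inter R (Over.mk p) (L j) (Γ i) : ℚ) * x j =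
        (a j : ℚ) * ArSurf.inter R (Over.mk p) (L j) (Γ i) - (b j : ℚ) * ArSurf.inter R (Over.mk p) (L j) (Γ i)
        by simp only [x]; ring), Finset.sum_sub_distrib, hi', sub_self]
    obtain ⟨q, hq⟩ := (Groth.Agent.Inters29.quad_nonpos_and_of_connected R (X := Over.mk p) hreg Γ hΓ L hL
      hconn x).2.1 (by rw [h0, dotProduct_zero])
    have hq' : ∀ i, (a i : ℚ) - b i = q * m i := fun i => congrFun hq i
    rcases le_total 0 q with hq0 | hq0
    · obtain ⟨k, hk⟩ := hdiff a b (fun i => by
        have := mul_nonneg hq0 (Nat.cast_nonneg (α := ℚ) (m i))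
        exact_mod_cast (by linarith [hq' i] : (b i : ℚ) ≤ a i)) h
      exact ⟨k, fun i => by rw [hk i]; push_cast; ring⟩
    · obtain ⟨k, hk⟩ := hdiff b a (fun i => by
        have := mul_nonpos_of_nonpos_of_nonneg hq0 (Nat.cast_nonneg (α := ℚ) (m i))
        exact_mod_cast (by linarith [hq' i] : (a i : ℚ) ≤ b i)) h.symm
      exact ⟨-k, fun i => by rw [hk i]; push_cast; ring⟩
  · rintro ⟨c, hc⟩
    have hM : ∏ i, l i ^ m i = 1 :=
      (hprod m).2 (Groth.Agent.Inters29.prod_idealCl_eq_one R (X := Over.mk p) hreg Γ hΓ)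
    have key : ∀ (a b : Fin n → ℕ) (k : ℕ), (∀ i, a i = b i + k * m i) →
        ∏ i, l i ^ a i = ∏ i, l i ^ b i := fun a b k hk => by
      rw [Finset.prod_congr rfl fun i _ => show l i ^ a i = l i ^ b i * (l i ^ m i) ^ k by
        rw [hk i, pow_add, ← pow_mul, mul_comm k], Finset.prod_mul_distrib, Finset.prod_pow, hM, one_pow, mul_one]
    rcases Int.eq_nat_or_neg c with ⟨k, rfl | rfl⟩
    · refine key a b k fun i => ?_
      have h1 : (a i : ℤ) = b i + k * m i := by linarith [hc i]
      exact_mod_cast h1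
    · refine (key b a k fun i => ?_).symm
      have h1 : (b i : ℤ) = a i + k * m i := by linarith [hc i]
      exact_mod_cast h1

end Groth.Agent.S3314
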