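import Groth.Statements.S3320
import Groth.Agent.Inters29.Connected
import Groth.Agent.Inters29.Matrix

set_option autoImplicit false
universe u
open CategoryTheory CategoryTheory.Limits AlgebraicGeometry
open Models

namespace Groth.Agent.S3320

/-- In the following situation (R a discrete valuation ring, C a smooth proper curve over its fraction
field with H^0(C, O_C) = K, X a regular proper model, Γ_1, …, Γ_n the irreducible components of the
closed fibre with multiplicities m_i, L_j ⊗ I(Γ_j) ≅ O_X), for every integer vector a one has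
Σ_{i,j} a_i a_j (Γ_i · Γ_j) ≤ 0, with equality if and only if a is a rational multiple of (m_1, …,
m_n). -/
theorem result (R : Type u) [CommRing R] [IsDomain R] [IsDiscreteValuationRing R]
    (C X : Scheme.{u}) (f : C ⟶ Spec (CommRingCat.of (FractionRing R))) (p : X ⟶ Spec (CommRingCat.of R))
    (hC : Curve.IsSmoothProperCurve (FractionRing R) C f) (hH0 : IsIso f.appTop)
    (hX : Models.IsRegularProperModel R X p C f)
    {n : ℕ} (Γ : Fin n → ArSurf.VertComp R (Over.mk p)) (hΓ : Models.IsComponentList R (Over.mk p) Γ)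
    (L : Fin n → X.Modules) (hL : ∀ i, ClSub.IsInverseOf (L i) (ClSub.idealMod (Γ i).ι.ker)) (a : Fin n → ℤ) :
    (∑ q : Fin n × Fin n, a q.1 * a q.2 * ArSurf.inter R (Over.mk p) (L q.2) (Γ q.1)) ≤ 0 ∧
      ((∑ q : Fin n × Fin n, a q.1 * a q.2 * ArSurf.inter R (Over.mk p) (L q.2) (Γ q.1)) = 0 ↔
        ∃ c : ℚ, ∀ i, (a i : ℚ) = c * (Models.mult R (Over.mk p) (Γ i) : ℚ)) := by
  obtain ⟨-, -, hint, -⟩ := hC
  obtain ⟨hm, hp, hreg⟩ := hX
  haveI := hint
  haveI := Groth.Agent.Inters29.isIntegral_model R hm hreg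
  haveI : LocallyOfFiniteType p := hm.2.1
  haveI := hp
  obtain ⟨g, hg⟩ := hm.2.2.2
  haveI : IsLocallyNoetherian X := LocallyOfFiniteType.isLocallyNoetherian p
  haveI : IsIntegral (Over.mk p).left := inferInstanceAs (IsIntegral X)
  haveI : IsLocallyNoetherian (Over.mk p).left := inferInstanceAs (IsLocallyNoetherian X)
  haveI : Flat (Over.mk p).hom := hm.1
  haveI : IsProper (Over.mk p).hom := hp
  have hconn : _root_.IsConnected (Models.specialFibreSet R (Over.mk p)) :=
    Groth.Agent.Inters29.isConnected_specialFibreSet R hH0 g hg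
  let x : Fin n → ℚ := fun j => (a j : ℚ)
  let M := Groth.Agent.Inters29.interMat R Γ L ℚ
  have hq := Groth.Agent.Inters29.quad_nonpos_and_of_connected R (X := Over.mk p) hreg Γ hΓ L hL hconn x
  have he : ((∑ q : Fin n × Fin n, a q.1 * a q.2 * ArSurf.inter R (Over.mk p) (L q.2) (Γ q.1) : ℤ) : ℚ) =
      dotProduct x (Matrix.mulVec M x) := by
    rw [Fintype.sum_prod_type]
    push_cast
    refine Finset.sum_congr rfl fun i _ => ?_
    show _ = x i * ∑ j, (ArSurf.inter R (Over.mk p) (L j) (Γ i) : ℚ) * (a j : ℚ)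
    rw [Finset.mul_sum]
    exact Finset.sum_congr rfl fun j _ => by simp only [x]; ring
  refine ⟨Groth.Agent.Inters29.quad_nonpos R (X := Over.mk p) hreg Γ hΓ L hL a, ?_⟩
  rw [← Int.cast_inj (α := ℚ), he, Int.cast_zero, hq.2]
  exact ⟨fun ⟨q, h⟩ => ⟨q, fun i => congrFun h i⟩, fun ⟨q, h⟩ => ⟨q, funext h⟩⟩

end Groth.Agent.S3320
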