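import Groth.Statements.S3322
import Groth.Agent.Models7.GenusFormula
import Groth.Agent.Models7.WdegDvd
import Groth.Agent.Inters29.Connected
-- import your own Groth.Agent.* helpers here

set_option autoImplicit false
set_option backward.isDefEq.respectTransparency false
universe u
open CategoryTheory CategoryTheory.Limits AlgebraicGeometry
open Models

namespace Groth.Agent.S3322

/-- In the following situation (R a discrete valuation ring with residue field k, C a smooth proper
curve over its fraction field K with H^0(C, O_C) = K, X a regular proper model, Γ_1, …, Γ_n the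
irreducible components of the closed fibre with multiplicities m_i, L_i ⊗ I(Γ_i) ≅ O_X) the data n,
m_i, a_ij = (Γ_i · Γ_j) = deg_k(L_j|Γ_i), w_i = dim_k H^0(Γ_i, O) and g_i with w_i g_i = dim_k
H^1(Γ_i, O) is a numerical type (n > 0, m_i > 0, (a_ij) symmetric with non-negative off-diagonal
entries, connected, killing m, w_i | a_ij, g_i ≥ 0), and its genus is the genus dim_K H^1(C, O_C) of
C. -/
theorem result (R : Type u) [CommRing R] [IsDomain R] [IsDiscreteValuationRing R]
    (C X : Scheme.{u}) (f : C ⟶ Spec (CommRingCat.of (FractionRing R))) (p : X ⟶ Spec (CommRingCat.of R))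
    (hC : Curve.IsSmoothProperCurve (FractionRing R) C f) (hH0 : IsIso f.appTop)
    (hX : Models.IsRegularProperModel R X p C f)
    {n : ℕ} (Γ : Fin n → ArSurf.VertComp R (Over.mk p)) (hΓ : Models.IsComponentList R (Over.mk p) Γ)
    (L : Fin n → X.Modules) (hL : ∀ i, ClSub.IsInverseOf (L i) (ClSub.idealMod (Γ i).ι.ker)) :
    ∃ T : Models.NumericalType n,
      (∀ i, T.m i = (Models.mult R (Over.mk p) (Γ i) : ℤ)) ∧ (∀ i j, T.a i j = ArSurf.inter R (Over.mk p) (L j) (Γ i)) ∧
      (∀ i, T.w i = (Models.wdeg R (Over.mk p) (Γ i) : ℤ)) ∧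
      (∀ i, T.w i * T.g i = (Models.h1 R (Over.mk p) (Γ i) : ℤ)) ∧
      T.genus = (Models.curveGenus (FractionRing R) C f : ℤ) := by
  have hC' := hC
  have hint : IsIntegral C := hC.2.2.1
  haveI := hint
  haveI := Groth.Agent.Inters29.isIntegral_model R hX.1 hX.2.2
  haveI := hX.2.1
  haveI : IsLocallyNoetherian X := LocallyOfFiniteType.isLocallyNoetherian p
  haveI : IsIntegral (Over.mk p).left := inferInstanceAs (IsIntegral X)
  haveI : IsLocallyNoetherian (Over.mk p).left := inferInstanceAs (IsLocallyNoetherian X)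
  haveI : Flat (Over.mk p).hom := hX.1.1
  haveI : IsProper (Over.mk p).hom := hX.2.1
  haveI : ∀ i, IsProper (Γ i).curve.hom := fun i => Groth.Agent.Inters29.isProper_curve R (Γ i)
  obtain ⟨g, hg⟩ := hX.1.2.2.2
  have hconn : _root_.IsConnected (Models.specialFibreSet R (Over.mk p)) :=
    Groth.Agent.Inters29.isConnected_specialFibreSet R hH0 g hg
  obtain ⟨z, hz⟩ := hconn.nonempty
  obtain ⟨i₀, -⟩ := Groth.Agent.Inters29.exists_genPt_specializes R Γ hΓ hz
  let m : Fin n → ℤ := fun i => (Models.mult R (Over.mk p) (Γ i) : ℤ)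
  let a : Matrix (Fin n) (Fin n) ℤ := Matrix.of fun i j => ArSurf.inter R (Over.mk p) (L j) (Γ i)
  let w : Fin n → ℤ := fun i => (Models.wdeg R (Over.mk p) (Γ i) : ℤ)
  have hd := fun i => Groth.Agent.Models7.wdeg_pos_and_dvd R (Γ i)
  let g' : Fin n → ℤ := fun i => ((Models.h1 R (Over.mk p) (Γ i) / Models.wdeg R (Over.mk p) (Γ i) : ℕ) : ℤ)
  have hwg : ∀ i, w i * g' i = (Models.h1 R (Over.mk p) (Γ i) : ℤ) := fun i => by
    simp only [w, g']
    rw [← Nat.cast_mul, Nat.mul_div_cancel' (show Models.wdeg R (Over.mk p) (Γ i) ∣ Models.h1 R (Over.mk p) (Γ i) from (hd i).2 _ 1)]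
  let T : Models.NumericalType n :=
    { m := m
      a := a
      w := w
      g := g'
      pos := Fin.pos i₀
      m_pos := fun i => Int.natCast_pos.2 (Groth.Agent.Inters29.mult_pos_model hC' hX hΓ i)
      w_pos := fun i => Int.natCast_pos.2 (hd i).1
      g_nonneg := fun i => Int.natCast_nonneg _
      symm := Matrix.IsSymm.ext fun i j => Groth.Agent.Models7.inter_symm_model hC' hX hΓ L hL j i
      offDiag_nonneg := fun i j hij =>
        (Groth.Agent.Inters29.inter_offDiag R (X := Over.mk p) hX.2.2 Γ hΓ L hL hij).1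
      connected := fun I hI hI' =>
        Groth.Agent.Inters29.inter_connected_of_list R (X := Over.mk p) hX.2.2 Γ hΓ L hL hconn I hI hI'
      mulVec_m := funext fun i => by
        show ∑ j, a i j * m j = 0
        rw [← Groth.Agent.Inters29.sum_mult_mul_inter R (X := Over.mk p) hX.2.2 Γ hΓ L hL (Γ i)]
        exact Finset.sum_congr rfl fun j _ => mul_comm _ _
      w_dvd := fun i j => Groth.Agent.Models7.wdeg_dvd_inter R (Γ i) (L j) }
  refine ⟨T, fun i => rfl, fun i j => rfl, fun i => rfl, hwg, ?_⟩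
  have h := Groth.Agent.Models7.genus_formula hC' hH0 hX hΓ L hL
  have e : ∑ i, (Models.mult R (Over.mk p) (Γ i) : ℤ) *
      (2 * ((Models.h1 R (Over.mk p) (Γ i) : ℤ) - (Models.wdeg R (Over.mk p) (Γ i) : ℤ)) -
        ArSurf.inter R (Over.mk p) (L i) (Γ i)) =
      2 * (∑ i, m i * w i * (g' i - 1)) - ∑ i, m i * a i i := by
    rw [Finset.mul_sum, ← Finset.sum_sub_distrib]
    refine Finset.sum_congr rfl fun i _ => ?_
    rw [← hwg i]
    show m i * (2 * (w i * g' i - w i) - a i i) = _
    ring
  rw [e] at h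
  show 1 + (∑ i, m i * w i * (g' i - 1)) - (∑ i, m i * a i i) / 2 = _
  omega

end Groth.Agent.S3322
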