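import Groth.Statements.S3324
import Groth.Agent.Models7.ChainField
import Groth.Agent.Models7.GenusFormula
import Groth.Agent.Inters29.Connected
-- import your own Groth.Agent.* helpers here

set_option autoImplicit false
set_option backward.isDefEq.respectTransparency false
universe u
open CategoryTheory CategoryTheory.Limits AlgebraicGeometry
open Models

namespace Groth.Agent.S3324

/-- In the following situation (R a discrete valuation ring with residue field k, C a smooth proper
curve over its fraction field K with H^0(C, O_C) = K, X a regular proper model, Γ_1, …, Γ_n the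
irreducible components of the closed fibre with multiplicities m_i) let d = gcd(m_1, …, m_n) and let
D be the closed subscheme Σ (m_i/d) Γ_i, with ideal sheaf Π I(Γ_i)^{m_i/d}. Then κ = H^0(D, O_D) is
a field and 1 - g_C = d [κ : k] (1 - g_D), where g_C = dim_K H^1(C, O_C) and g_D = dim_κ H^1(D,
O_D). Here the right hand side is written as d (dim_k H^0(D, O_D) - dim_k H^1(D, O_D)), the
k-dimensions being computed as R-lengths of the cohomology groups of O_D on X. -/
theorem result (R : Type u) [CommRing R] [IsDomain R] [IsDiscreteValuationRing R]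
    (C X : Scheme.{u}) (f : C ⟶ Spec (CommRingCat.of (FractionRing R))) (p : X ⟶ Spec (CommRingCat.of R))
    (hC : Curve.IsSmoothProperCurve (FractionRing R) C f) (hH0 : IsIso f.appTop)
    (hX : Models.IsRegularProperModel R X p C f)
    {n : ℕ} (Γ : Fin n → ArSurf.VertComp R (Over.mk p)) (hΓ : Models.IsComponentList R (Over.mk p) Γ) :
    IsField ↑(Γ((∏ i, (Γ i).ι.ker ^ (Models.mult R (Over.mk p) (Γ i) / Models.multGcd R (Over.mk p) Γ)).subscheme, ⊤)) ∧
      (1 : ℤ) - (Models.curveGenus (FractionRing R) C f : ℤ) =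
        (Models.multGcd R (Over.mk p) Γ : ℤ) * ((Models.lengthH R (Over.mk p) (ClSub.quotMod (∏ i, (Γ i).ι.ker ^ (Models.mult R (Over.mk p) (Γ i) / Models.multGcd R (Over.mk p) Γ))) 0 : ℤ) -
          (Models.lengthH R (Over.mk p) (ClSub.quotMod (∏ i, (Γ i).ι.ker ^ (Models.mult R (Over.mk p) (Γ i) / Models.multGcd R (Over.mk p) Γ))) 1 : ℤ)) := by
  have hint : IsIntegral C := hC.2.2.1
  haveI := hint
  haveI := Groth.Agent.Inters29.isIntegral_model R hX.1 hX.2.2
  haveI := hX.2.1
  haveI : IsLocallyNoetherian X := LocallyOfFiniteType.isLocallyNoetherian p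
  haveI : IsIntegral (Over.mk p).left := inferInstanceAs (IsIntegral X)
  haveI : IsLocallyNoetherian (Over.mk p).left := inferInstanceAs (IsLocallyNoetherian X)
  haveI : Flat (Over.mk p).hom := hX.1.1
  haveI : IsProper (Over.mk p).hom := hX.2.1
  obtain ⟨g, hg⟩ := hX.1.2.2.2
  have hconn : _root_.IsConnected (Models.specialFibreSet R (Over.mk p)) :=
    Groth.Agent.Inters29.isConnected_specialFibreSet R hH0 g hg
  have hD := Groth.Agent.Inters29.isEffCartier_model hC hX hΓ
  choose L hL using fun i => Groth.Agent.Inters29.exists_inverse_ker R (X := Over.mk p) hX.2.2 (hD i)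
  obtain ⟨s, a, h0, hlast, hstep, hrig⟩ :=
    Groth.Agent.Models7.exists_chain R (X := Over.mk p) hX.2.2 Γ L hL hΓ hconn
  obtain ⟨hr1, hr2⟩ := hrig (Fin.last s)
  rw [hlast] at hr1 hr2
  refine ⟨(Groth.Agent.Models7.isField_of_rigid R (X := Over.mk p) hX.2.2 Γ L hL hΓ hconn _ hr1 hr2).1, ?_⟩
  let d := Models.multGcd R (Over.mk p) Γ
  let m' : Fin n → ℕ := fun i => Models.mult R (Over.mk p) (Γ i) / d
  have hmd : ∀ i, (Models.mult R (Over.mk p) (Γ i) : ℤ) = (d : ℤ) * (m' i : ℤ) := fun i => by
    exact_mod_cast (Nat.mul_div_cancel' (Finset.gcd_dvd (Finset.mem_univ i) : d ∣ Models.mult R (Over.mk p) (Γ i))).symm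
  have h1 := Groth.Agent.Models7.chi_specialFibre_eq hC hH0 hX hΓ L hL
  have h2 := Groth.Agent.Models7.chi_prod hC hX hΓ L hL m'
  have h3 := Groth.Agent.Models7.chi_prod hC hX hΓ L hL (fun i => Models.mult R (Over.mk p) (Γ i))
  rw [← Groth.Agent.Models7.specialFibre_eq_prod hC hX hΓ, h1] at h3
  have hz : ∀ i, (d : ℤ) * ∑ j, (m' j : ℤ) * ArSurf.inter R (Over.mk p) (L i) (Γ j) = 0 := fun i => by
    rw [Finset.mul_sum, ← Groth.Agent.Models7.sum_mult_inter hC hX hΓ L hL i]
    exact Finset.sum_congr rfl fun j _ => by rw [hmd]; ring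
  rw [Finset.sum_eq_zero fun i _ => by rw [Groth.Agent.Models7.sum_mult_inter hC hX hΓ L hL i, mul_zero]] at h3
  simp only [hmd, mul_assoc, ← Finset.mul_sum] at h3
  have h4 := congrArg (fun t => (d : ℤ) * t) h2
  simp only [mul_add, mul_neg, Finset.mul_sum, mul_left_comm (d : ℤ)] at h4
  simp only [← Finset.mul_sum, mul_left_comm (d : ℤ)] at h4
  simp only [Finset.mul_sum] at h4
  rw [Finset.sum_eq_zero (fun i _ => by
    rw [← Finset.mul_sum, show ∑ j, (m' j : ℤ) * ((d : ℤ) * ArSurf.inter R (Over.mk p) (L i) (Γ j)) = 0 from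
      (Finset.sum_congr rfl fun j _ => mul_left_comm _ _ _).trans ((Finset.mul_sum _ _ _).symm.trans (hz i)), mul_zero])] at h4
  simp only [Finset.mul_sum, mul_add, mul_left_comm (d : ℤ)] at h3 h4 ⊢
  linarith

end Groth.Agent.S3324
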