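import Groth.Statements.S3331
import Groth.Agent.Models7.MinimalModel
-- import your own Groth.Agent.* helpers here

set_option autoImplicit false
set_option linter.style.haveILetI false
set_option backward.isDefEq.respectTransparency false
universe u
open CategoryTheory CategoryTheory.Limits AlgebraicGeometry
open Models

namespace Groth.Agent.S3331

/-- Let R be a discrete valuation ring with fraction field K, C a smooth proper curve over K with H^0(C,
O_C) = K and positive genus, X a minimal model of C and Y a regular proper model of C, with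
generic-fibre inclusions g_X, g_Y. Then there is exactly one morphism of models Y → X, and it is a
finite composite of contractions of exceptional curves of the first kind. -/
theorem result (R : Type u) [CommRing R] [IsDomain R] [IsDiscreteValuationRing R]
    (C X Y : Scheme.{u}) (f : C ⟶ Spec (CommRingCat.of (FractionRing R)))
    (p : X ⟶ Spec (CommRingCat.of R)) (q : Y ⟶ Spec (CommRingCat.of R))
    (hC : Curve.IsSmoothProperCurve (FractionRing R) C f) (hH0 : IsIso f.appTop)
    (hg : 0 < Models.curveGenus (FractionRing R) C f)
    (hX : Models.IsMinimalModel R X p C f) (hY : Models.IsRegularProperModel R Y q C f)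
    (gX : C ⟶ X) (hgX : IsPullback gX f p (Spec.map (CommRingCat.ofHom (algebraMap R (FractionRing R)))))
    (gY : C ⟶ Y) (hgY : IsPullback gY f q (Spec.map (CommRingCat.ofHom (algebraMap R (FractionRing R))))) :
    (∃! b : Y ⟶ X, b ≫ p = q ∧ gY ≫ b = gX) ∧
      ∀ b : Y ⟶ X, b ≫ p = q → gY ≫ b = gX → Models.IsContractionSeq b := by
  have hC' := hC
  haveI := hC.2.2.1
  have hXm : Groth.Agent.Models7.GenModel R C f X p gX := ⟨hX.1, hgX⟩
  have hYm : Groth.Agent.Models7.GenModel R C f Y q gY := ⟨hY, hgY⟩
  refine ⟨Groth.Agent.Models7.existsUnique_to_minimal hC hH0 hg hXm hYm hX.2, fun b hbp hbg => ?_⟩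
  haveI := hXm.isIntegral
  haveI : IsProper p := hX.1.2.1
  obtain ⟨-, -, -, h⟩ := (hYm.ptSeq hC' hXm b hbp hbg).contractionSeq R p (hXm.regSurf hC') hXm.genericPoint_ne
  have h2 := h (Iso.refl Y)
  rwa [Iso.refl_hom, Category.id_comp] at h2

end Groth.Agent.S3331
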