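import Groth.Statements.S3332
import Groth.Agent.Models7.MinimalSmooth
-- import your own Groth.Agent.* helpers here

set_option autoImplicit false
set_option linter.style.haveILetI false
set_option backward.isDefEq.respectTransparency false
universe u
open CategoryTheory CategoryTheory.Limits AlgebraicGeometry
open Models

namespace Groth.Agent.S3332

/-- Let R be a discrete valuation ring with residue field k and fraction field K, and C a smooth proper
curve over K with H^0(C, O_C) = K and genus zero. Suppose C has two minimal models X₁, X₂ (with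
generic-fibre inclusions g₁, g₂) that are not isomorphic as models. Then the closed fibre of every
minimal model X of C is k-isomorphic to the projective line over k. -/
theorem result (R : Type u) [CommRing R] [IsDomain R] [IsDiscreteValuationRing R]
    (C X₁ X₂ X : Scheme.{u}) (f : C ⟶ Spec (CommRingCat.of (FractionRing R)))
    (p₁ : X₁ ⟶ Spec (CommRingCat.of R)) (p₂ : X₂ ⟶ Spec (CommRingCat.of R)) (p : X ⟶ Spec (CommRingCat.of R))
    (hC : Curve.IsSmoothProperCurve (FractionRing R) C f) (hH0 : IsIso f.appTop)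
    (hg : Models.curveGenus (FractionRing R) C f = 0)
    (h₁ : Models.IsMinimalModel R X₁ p₁ C f) (h₂ : Models.IsMinimalModel R X₂ p₂ C f)
    (hXm : Models.IsMinimalModel R X p C f)
    (g₁ : C ⟶ X₁) (hg₁ : IsPullback g₁ f p₁ (Spec.map (CommRingCat.ofHom (algebraMap R (FractionRing R)))))
    (g₂ : C ⟶ X₂) (hg₂ : IsPullback g₂ f p₂ (Spec.map (CommRingCat.ofHom (algebraMap R (FractionRing R)))))
    (hne : ∀ e : X₁ ≅ X₂, e.hom ≫ p₂ = p₁ → g₁ ≫ e.hom ≠ g₂) :
    ∃ e : Models.specialFibre R X p ≅ CohB1.ProjSpace 1 (IsLocalRing.ResidueField R),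
      e.hom ≫ CohB1.ProjSpace.toSpec 1 (IsLocalRing.ResidueField R) =
        pullback.snd p (Spec.map (CommRingCat.ofHom (algebraMap R (IsLocalRing.ResidueField R)))) := by
  haveI := hC.2.2.1
  obtain ⟨gX, hgX⟩ := hXm.1.1.2.2.2
  by_cases h : ∃ e : X₁ ≅ X, e.hom ≫ p = p₁ ∧ g₁ ≫ e.hom = gX
  · refine Groth.Agent.Models7.specialFibre_iso_projLine hC hH0 hg (gX := gX) (gY := g₂) ⟨hXm.1, hgX⟩ ⟨h₂.1, hg₂⟩ hXm.2 h₂.2 ?_
    rintro ⟨e', he', he''⟩
    obtain ⟨e, he, he0⟩ := h
    refine hne (e ≪≫ e'.symm) ?_ ?_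
    · show (e.hom ≫ e'.inv) ≫ p₂ = p₁
      rw [← he', Category.assoc, e'.inv_hom_id_assoc, he]
    · show g₁ ≫ e.hom ≫ e'.inv = g₂
      rw [reassoc_of% he0, ← he'', Category.assoc, e'.hom_inv_id, Category.comp_id]
  · exact Groth.Agent.Models7.specialFibre_iso_projLine hC hH0 hg (gX := gX) (gY := g₁) ⟨hXm.1, hgX⟩ ⟨h₁.1, hg₁⟩ hXm.2 h₁.2 h

end Groth.Agent.S3332
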