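import Groth.Statements.S3336
import Groth.Agent.Models7.MinimalNodal
-- import your own Groth.Agent.* helpers here

set_option autoImplicit false
set_option linter.style.haveILetI false
set_option backward.isDefEq.respectTransparency false
universe u
open CategoryTheory CategoryTheory.Limits AlgebraicGeometry
open Models

namespace Groth.Agent.S3336

/-- Let R be a discrete valuation ring with fraction field K and C a smooth proper curve over K with
H^0(C, O_C) = K. If some proper model of C is an at-worst-nodal family of relative dimension one
over R (C has semistable reduction), then every minimal model of C is an at-worst-nodal family of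
relative dimension one over R. -/
theorem result (R : Type u) [CommRing R] [IsDomain R] [IsDiscreteValuationRing R]
    (C X : Scheme.{u}) (f : C ⟶ Spec (CommRingCat.of (FractionRing R))) (p : X ⟶ Spec (CommRingCat.of R))
    (hC : Curve.IsSmoothProperCurve (FractionRing R) C f) (hH0 : IsIso f.appTop)
    (hss : Models.HasSemistableReduction R C f) (hX : Models.IsMinimalModel R X p C f) :
    Curv2.IsNodalFamily p := by
  haveI := hC.2.2.1
  obtain ⟨g, hg⟩ := hX.1.1.2.2.2
  exact Groth.Agent.Models7.minimal_nodal hC hH0 hss ⟨hX.1, hg⟩ hX.2

end Groth.Agent.S3336
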