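import Groth.Statements.S3337
import Groth.Agent.Models7.MinimalSmooth
import Groth.Agent.NeronLib.Regular
-- import your own Groth.Agent.* helpers here

set_option autoImplicit false
set_option linter.style.haveILetI false
set_option backward.isDefEq.respectTransparency false
universe u
open CategoryTheory CategoryTheory.Limits AlgebraicGeometry
open Models

namespace Groth.Agent.S3337

/-- Let R be a discrete valuation ring with fraction field K and C a smooth proper curve over K with
H^0(C, O_C) = K. If C has a proper smooth model over R (good reduction), then every minimal model of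
C is smooth over R. -/
theorem result (R : Type u) [CommRing R] [IsDomain R] [IsDiscreteValuationRing R]
    (C X : Scheme.{u}) (f : C ⟶ Spec (CommRingCat.of (FractionRing R))) (p : X ⟶ Spec (CommRingCat.of R))
    (hC : Curve.IsSmoothProperCurve (FractionRing R) C f) (hH0 : IsIso f.appTop)
    (hgood : Models.HasGoodReduction R C f) (hX : Models.IsMinimalModel R X p C f) :
    Smooth p := by
  haveI := hC.2.2.1
  obtain ⟨X₀, p₀, hm₀, hp₀, hs₀⟩ := hgood
  obtain ⟨gX, hgX⟩ := hX.1.1.2.2.2
  obtain ⟨g₀, hg₀⟩ := hm₀.2.2.2
  haveI := hs₀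
  haveI := hp₀
  have hreg : Models.IsRegularScheme X₀ := fun x => by
    haveI : IsLocallyNoetherian X₀ := LocallyOfFiniteType.isLocallyNoetherian p₀
    exact Groth.Agent.NeronLib.isRegularLocalRing_stalk_of_smooth p₀ x
  exact Groth.Agent.Models7.smooth_of_goodReduction hC hH0 (X₀ := X₀) ⟨hX.1, hgX⟩ ⟨⟨hm₀, hp₀, hreg⟩, hg₀⟩ hX.2

end Groth.Agent.S3337
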