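import Groth.Statements.S3339
import Groth.Agent.Models7.NodalContract
-- import your own Groth.Agent.* helpers here

set_option autoImplicit false
set_option linter.style.haveILetI false
set_option backward.isDefEq.respectTransparency false
universe u
open CategoryTheory CategoryTheory.Limits AlgebraicGeometry
open Models

namespace Groth.Agent.S3339

/-- Let R be a discrete valuation ring and p : X → Spec R an at-worst-nodal family of curves (flat,
locally of finite presentation, every fibre having all irreducible components of dimension one and
at-worst-nodal singularities). Let ι : E → X be a closed subscheme which is an exceptional curve of
the first kind, and b : X → X' a contraction of E: X' is Noetherian, b is proper, maps E onto a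
single closed point x' whose local ring is regular of dimension 2, and is a blowing up of X' in x'.
Let p' : X' → Spec R be a morphism locally of finite type with p = p' ∘ b. Then p' is again an
at-worst-nodal family of curves. (The published statement does not list the hypothesis that p' is
locally of finite type separately, its contractions being projective over R; it is assumed
explicitly here.) -/
theorem result (R : Type u) [CommRing R] [IsDomain R] [IsDiscreteValuationRing R]
    (X X' E : Scheme.{u}) (p : X ⟶ Spec (CommRingCat.of R)) (p' : X' ⟶ Spec (CommRingCat.of R))
    (hp : Curv2.IsNodalFamily p) (ι : E ⟶ X) [IsClosedImmersion ι] (hE : Models.IsExcCurve ι)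
    (b : X ⟶ X') (hb : Models.IsContractionOf ι b) (hcomm : b ≫ p' = p) [LocallyOfFiniteType p'] :
    Curv2.IsNodalFamily p' := by
  exact Groth.Agent.Models7.NodalContract.main p p' hp ι hE b hb hcomm

end Groth.Agent.S3339
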