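import Groth.Statements.S3340
import Groth.Agent.Inters29.CompGroup

set_option autoImplicit false
universe u
open CategoryTheory CategoryTheory.Limits AlgebraicGeometry
open Models

open Groth.Agent

namespace Groth.Agent.S3340

/-- In the following situation (R a discrete valuation ring, C a smooth proper curve over its fraction
field K with H^0(C, O_C) = K, X a regular proper model with generic-fibre inclusion g, Γ_1, …, Γ_n
the irreducible components of the closed fibre with multiplicities m_i) let d = gcd(m_1, …, m_n). If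
M is an invertible O_X-module whose pullback to C is trivial and whose degree on each Γ_i is zero,
then the d-th tensor power of M is trivial. -/
theorem result (R : Type u) [CommRing R] [IsDomain R] [IsDiscreteValuationRing R]
    (C X : Scheme.{u}) (f : C ⟶ Spec (CommRingCat.of (FractionRing R))) (p : X ⟶ Spec (CommRingCat.of R))
    (hC : Curve.IsSmoothProperCurve (FractionRing R) C f) (hH0 : IsIso f.appTop)
    (hX : Models.IsRegularProperModel R X p C f)
    {n : ℕ} (Γ : Fin n → ArSurf.VertComp R (Over.mk p)) (hΓ : Models.IsComponentList R (Over.mk p) Γ)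
    (g : C ⟶ X) (hg : IsPullback g f p (Spec.map (CommRingCat.ofHom (algebraMap R (FractionRing R))))) (M : X.Modules) (hM : PicF.IsInvertible M)
    (htriv : Nonempty ((Scheme.Modules.pullback g).obj M ≅ Coh.structureModule C))
    (hdeg : ∀ i, ArSurf.inter R (Over.mk p) M (Γ i) = 0) :
    Nonempty (CohB1.tensorPow M (Models.multGcd R (Over.mk p) Γ) ≅ Coh.structureModule X) := by
  have hint : IsIntegral C := hC.2.2.1
  haveI := hint
  haveI := Inters29.isIntegral_model R hX.1 hX.2.2
  haveI := hX.2.1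
  haveI : IsLocallyNoetherian X := LocallyOfFiniteType.isLocallyNoetherian p
  haveI : IsIntegral (Over.mk p).left := inferInstanceAs (IsIntegral X)
  haveI : IsLocallyNoetherian (Over.mk p).left := inferInstanceAs (IsLocallyNoetherian X)
  haveI : Flat (Over.mk p).hom := hX.1.1
  haveI : IsProper (Over.mk p).hom := hX.2.1
  haveI : ∀ i, IsProper (Γ i).curve.hom := fun i => Inters29.isProper_curve R (Γ i)
  have hD := fun i => Inters29.isEffCartier_model hC hX hΓ i
  obtain ⟨L, hL⟩ : ∃ L : Fin n → X.Modules, ∀ i, ClSub.IsInverseOf (L i) (ClSub.idealMod (Γ i).ι.ker) :=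
    ⟨_, fun i => (Inters29.exists_inverse_ker R (X := Over.mk p) hX.2.2 (hD i)).choose_spec⟩
  have hμ : PicLib.PicM.pull g (PicLib.PicM.of hM) = 1 := by
    rw [PicLib.PicM.pull_of, PicLib.PicM.of_eq_one_iff]
    exact htriv
  obtain ⟨v, hv⟩ := Inters29.exists_eq_zcl_of_pull_eq_one hC hH0 hX hΓ hL g hg _ hμ
  have hMv : Matrix.mulVecLin (Matrix.of fun j i => ArSurf.inter R (Over.mk p) (L i) (Γ j)) v = 0 := by
    rw [← Inters29.degVec_zcl hC hX hΓ hL, ← hv, Inters29.degVec_of]
    exact funext hdeg
  have hconn : _root_.IsConnected (Models.specialFibreSet R (Over.mk p)) :=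
    Inters29.isConnected_specialFibreSet R hH0 g hg
  obtain ⟨q, hq⟩ := (Inters29.quad_nonpos_and_of_connected R (X := Over.mk p) hX.2.2 Γ hΓ L hL hconn
    (fun i => (v i : ℚ))).2.1 (by
      rw [show Matrix.mulVec (Inters29.interMat R Γ L ℚ) (fun i => (v i : ℚ)) = 0 from funext fun i => by
        show ∑ j, (ArSurf.inter R (Over.mk p) (L j) (Γ i) : ℚ) * (v j : ℚ) = 0
        exact_mod_cast congrFun hMv i, dotProduct_zero])
  have hqi : ∀ i, v i * (q.den : ℤ) = q.num * (Models.mult R (Over.mk p) (Γ i) : ℤ) := fun i => by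
    have h1 : (v i : ℚ) = q * (Models.mult R (Over.mk p) (Γ i) : ℚ) := congrFun hq i
    have h2 : (v i : ℚ) * (q.den : ℚ) = (q.num : ℚ) * (Models.mult R (Over.mk p) (Γ i) : ℚ) := by
      rw [h1, mul_right_comm, Rat.mul_den_eq_num]
    exact_mod_cast h2
  obtain ⟨k, hk⟩ : q.den ∣ Models.multGcd R (Over.mk p) Γ := Finset.dvd_gcd fun i _ => by
    have h1 : (q.den : ℤ) ∣ q.num * (Models.mult R (Over.mk p) (Γ i) : ℤ) := ⟨v i, by rw [← hqi i]; ring⟩
    have h2 := Int.natAbs_dvd_natAbs.2 h1
    simp only [Int.natAbs_natCast, Int.natAbs_mul] at h2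
    exact q.reduced.symm.dvd_of_dvd_mul_left h2
  have hz : Inters29.zcl hC hX hΓ hL ((Models.multGcd R (Over.mk p) Γ : ℤ) • v) = 1 :=
    (Inters29.zcl_eq_one_iff hC hH0 hX hΓ hL _).2 ⟨(k : ℤ) * q.num, fun i => by
      simp only [Pi.smul_apply, smul_eq_mul]
      rw [hk, mul_assoc, ← hqi i]
      push_cast
      ring⟩
  rw [Inters29.zcl_zsmul, zpow_natCast] at hz
  rw [← PicLib.PicM.of_eq_one_iff (AmpleLib.isInvertible_tensorPow hM _), PicLib.PicM.of_tensorPow, hv,
    ← Units.val_pow_eq_pow_val, hz, Units.val_one]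
  exact hM

end Groth.Agent.S3340
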