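import Groth.Statements.S3341
import Groth.Agent.S3314
import Groth.Agent.S3315
import Groth.Agent.Inters29.Family

set_option autoImplicit false
universe u
open CategoryTheory CategoryTheory.Limits AlgebraicGeometry
open Models

namespace Groth.Agent.S3341

/-- In the following situation (R a discrete valuation ring, C a smooth proper curve over its fraction
field K with H^0(C, O_C) = K, X a regular proper model with generic-fibre inclusion g, Γ_1, …, Γ_n
the irreducible components of the closed fibre with multiplicities m_i) let d = gcd(m_1, …, m_n) and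
let h ≥ 1 be prime to d. If M is an invertible O_X-module with M^{⊗h} ≅ O_X whose pullback to C is
trivial, then M ≅ O_X: the map Pic(X)[h] → Pic(C)[h] is injective. -/
theorem result (R : Type u) [CommRing R] [IsDomain R] [IsDiscreteValuationRing R]
    (C X : Scheme.{u}) (f : C ⟶ Spec (CommRingCat.of (FractionRing R))) (p : X ⟶ Spec (CommRingCat.of R))
    (hC : Curve.IsSmoothProperCurve (FractionRing R) C f) (hH0 : IsIso f.appTop)
    (hX : Models.IsRegularProperModel R X p C f)
    {n : ℕ} (Γ : Fin n → ArSurf.VertComp R (Over.mk p)) (hΓ : Models.IsComponentList R (Over.mk p) Γ)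
    (g : C ⟶ X) (hg : IsPullback g f p (Spec.map (CommRingCat.ofHom (algebraMap R (FractionRing R))))) (h : ℕ) (hh : 0 < h) (hcop : Nat.Coprime h (Models.multGcd R (Over.mk p) Γ))
    (M : X.Modules) (hM : PicF.IsInvertible M)
    (htors : Nonempty (CohB1.tensorPow M h ≅ Coh.structureModule X))
    (htriv : Nonempty ((Scheme.Modules.pullback g).obj M ≅ Coh.structureModule C)) :
    Nonempty (M ≅ Coh.structureModule X) := by
  have hC' := hC
  have hX' := hX
  obtain ⟨-, -, hint, -⟩ := hC
  obtain ⟨hm, hp, hreg⟩ := hX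
  haveI := hint
  haveI := Groth.Agent.Inters29.isIntegral_model R hm hreg
  haveI : LocallyOfFiniteType p := hm.2.1
  haveI := hp
  haveI : IsLocallyNoetherian X := LocallyOfFiniteType.isLocallyNoetherian p
  haveI : IsIntegral (Over.mk p).left := inferInstanceAs (IsIntegral X)
  haveI : IsLocallyNoetherian (Over.mk p).left := inferInstanceAs (IsLocallyNoetherian X)
  haveI : Flat (Over.mk p).hom := hm.1
  have hD := fun i => Groth.Agent.Inters29.isEffCartier_listComp R Γ (X := Over.mk p) hreg hΓ i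
  obtain ⟨L, hL⟩ : ∃ L : Fin n → X.Modules, ∀ i, ClSub.IsInverseOf (L i) (ClSub.idealMod (Γ i).ι.ker) :=
    ⟨_, fun i => (Groth.Agent.Inters29.exists_inverse_ker R (X := Over.mk p) hreg (hD i)).choose_spec⟩
  have hLi : ∀ i, PicF.IsInvertible (L i) := fun i =>
    Groth.Agent.Inters29.isInvertible_of_inverse R (X := Over.mk p) (hD i) (hL i)
  let m : Fin n → ℕ := fun i => Models.mult R (Over.mk p) (Γ i)
  let l : Fin n → Groth.Agent.PicLib.PicM X := fun i => Groth.Agent.PicLib.PicM.of (hLi i)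
  obtain ⟨a, b, ⟨e⟩⟩ := Groth.Agent.S3315.result R C X f p hC' hH0 hX' Γ hΓ g hg L hL M hM htriv
  obtain ⟨hA, hA'⟩ := Groth.Agent.Inters29.exists_multiTwist_class L hLi a
  obtain ⟨hB, hB'⟩ := Groth.Agent.Inters29.exists_multiTwist_class L hLi b
  have he : Groth.Agent.PicLib.PicM.of hM * ∏ i, l i ^ a i = ∏ i, l i ^ b i := by
    show Groth.Agent.PicLib.PicM.of hM * ∏ i, Groth.Agent.PicLib.PicM.of (hLi i) ^ a i = _
    rw [← hA', Groth.Agent.PicLib.PicM.of_mul]
    exact ((Groth.Agent.PicLib.PicM.of_eq_iff _ hB).2 ⟨e⟩).trans hB'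
  have hM1 : Groth.Agent.PicLib.PicM.of hM ^ h = 1 := by
    rw [← Groth.Agent.PicLib.PicM.of_tensorPow hM h, Groth.Agent.PicLib.PicM.of_eq_one_iff]
    exact htors
  have heh := congrArg (· ^ h) he
  simp only [mul_pow, hM1, one_mul, ← Finset.prod_pow, ← pow_mul] at heh
  obtain ⟨hA2, hA2'⟩ := Groth.Agent.Inters29.exists_multiTwist_class L hLi (fun i => a i * h)
  obtain ⟨hB2, hB2'⟩ := Groth.Agent.Inters29.exists_multiTwist_class L hLi (fun i => b i * h)
  obtain ⟨c, hc⟩ := (Groth.Agent.S3314.result R C X f p hC' hH0 hX' Γ hΓ L hL (fun i => a i * h) (fun i => b i * h)).1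
    ((Groth.Agent.PicLib.PicM.of_eq_iff hA2 hB2).1 (hA2'.trans (heh.trans hB2'.symm)))
  have hdvd : ∀ i, (h : ℤ) ∣ c * (m i : ℤ) := fun i => ⟨(a i : ℤ) - b i, by rw [← hc i]; push_cast; ring⟩
  have hhc : (h : ℤ) ∣ c := by
    have h1 : h ∣ c.natAbs * Models.multGcd R (Over.mk p) Γ := by
      rw [Models.multGcd]
      have h2 : h ∣ Finset.univ.gcd fun i => c.natAbs * m i := Finset.dvd_gcd fun i _ => by
        have h3 := Int.natAbs_dvd_natAbs.2 (hdvd i)
        simpa [Int.natAbs_mul] using h3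
      rw [Finset.gcd_mul_left] at h2
      simpa using h2
    exact Int.natCast_dvd.2 (hcop.dvd_of_dvd_mul_right h1)
  obtain ⟨c', rfl⟩ := hhc
  have hab : ∀ i, (a i : ℤ) - b i = c' * (m i : ℤ) := fun i => by
    have h1 := hc i
    push_cast at h1
    have hh' : (h : ℤ) ≠ 0 := Int.natCast_ne_zero.2 hh.ne'
    exact mul_left_cancel₀ hh' (by linarith [h1])
  obtain ⟨e2⟩ := (Groth.Agent.S3314.result R C X f p hC' hH0 hX' Γ hΓ L hL a b).2 ⟨c', hab⟩
  have hlab : ∏ i, l i ^ a i = ∏ i, l i ^ b i :=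
    hA'.symm.trans (((Groth.Agent.PicLib.PicM.of_eq_iff hA hB).2 ⟨e2⟩).trans hB')
  rw [hlab] at he
  exact (Groth.Agent.PicLib.PicM.of_eq_one_iff hM).1 (mul_right_cancel (he.trans (one_mul _).symm))

end Groth.Agent.S3341
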