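import Groth.Statements.S3342
import Groth.Agent.Inters29.ModelPic
import Groth.Agent.S19924

set_option autoImplicit false
universe u
open CategoryTheory CategoryTheory.Limits AlgebraicGeometry
open Models

namespace Groth.Agent.S3342

/-- In the following situation (R a discrete valuation ring with residue field k, C a smooth proper
curve over its fraction field K with H^0(C, O_C) = K, X a regular proper model with generic-fibre
inclusion g, Γ_1, …, Γ_n the irreducible components of the closed fibre with multiplicities m_i, L_j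
⊗ I(Γ_j) ≅ O_X, a_ij = deg_k(L_j|Γ_i), w_i = dim_k H^0(Γ_i, O)) let d = gcd(m_i) and h ≥ 1 prime to
d. Let N be an invertible O_C-module with N^{⊗h} ≅ O_C which is the restriction of an invertible
O_X-module M whose degree vector (deg_k(M|Γ_i) / w_i)_i lies in the image of the matrix (a_ij / w_i)
(that is, the class of N maps to zero in the Picard group of the numerical type). Then N is the
restriction of an invertible O_X-module M' with M'^{⊗h} ≅ O_X. -/
theorem result (R : Type u) [CommRing R] [IsDomain R] [IsDiscreteValuationRing R]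
    (C X : Scheme.{u}) (f : C ⟶ Spec (CommRingCat.of (FractionRing R))) (p : X ⟶ Spec (CommRingCat.of R))
    (hC : Curve.IsSmoothProperCurve (FractionRing R) C f) (hH0 : IsIso f.appTop)
    (hX : Models.IsRegularProperModel R X p C f)
    {n : ℕ} (Γ : Fin n → ArSurf.VertComp R (Over.mk p)) (hΓ : Models.IsComponentList R (Over.mk p) Γ)
    (g : C ⟶ X) (hg : IsPullback g f p (Spec.map (CommRingCat.ofHom (algebraMap R (FractionRing R))))) (L : Fin n → X.Modules) (hL : ∀ i, ClSub.IsInverseOf (L i) (ClSub.idealMod (Γ i).ι.ker))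
    (h : ℕ) (hh : 0 < h) (hcop : Nat.Coprime h (Models.multGcd R (Over.mk p) Γ))
    (N : C.Modules) (hN : PicF.IsInvertible N) (hNt : Nonempty (CohB1.tensorPow N h ≅ Coh.structureModule C))
    (M : X.Modules) (hM : PicF.IsInvertible M) (hMN : Nonempty ((Scheme.Modules.pullback g).obj M ≅ N))
    (v : Fin n → ℤ)
    (hv : ∀ i, ArSurf.inter R (Over.mk p) M (Γ i) = ∑ j, ArSurf.inter R (Over.mk p) (L j) (Γ i) * v j) :
    ∃ M' : X.Modules, PicF.IsInvertible M' ∧ Nonempty (CohB1.tensorPow M' h ≅ Coh.structureModule X) ∧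
      Nonempty ((Scheme.Modules.pullback g).obj M' ≅ N) := by
  let μ : Groth.Agent.PicLib.PicM X := Groth.Agent.PicLib.PicM.of hM
  obtain ⟨eN⟩ := hMN
  obtain ⟨et⟩ := hNt
  have htriv : Groth.Agent.PicLib.PicM.pull g (μ ^ h) = 1 := by
    rw [map_pow, show Groth.Agent.PicLib.PicM.pull g μ = Groth.Agent.PicLib.PicM.of hN by
      simp only [μ, Groth.Agent.PicLib.PicM.pull_of, Groth.Agent.PicLib.PicM.of_eq_iff]; exact ⟨eN⟩,
      ← Groth.Agent.PicLib.PicM.of_tensorPow hN h, Groth.Agent.PicLib.PicM.of_eq_one_iff]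
    exact ⟨et⟩
  obtain ⟨a, b, heq⟩ := Groth.Agent.Inters29.exists_eq_of_pull_eq_one hC hH0 hX hΓ hL g hg (μ ^ h) htriv
  obtain ⟨hA, hA'⟩ := Groth.Agent.Inters29.multiTwist_class hC hX hΓ hL a
  obtain ⟨hB, hB'⟩ := Groth.Agent.Inters29.multiTwist_class hC hX hΓ hL b
  have hab : Nonempty (CohB1.tensorMod (CohB1.tensorPow M h) (FGA.multiTwist L a) ≅ FGA.multiTwist L b) := by
    rw [← Groth.Agent.PicLib.PicM.of_eq_iff (Groth.Agent.AmpleLib.isInvertible_tensorMod
      (Groth.Agent.AmpleLib.isInvertible_tensorPow hM h) hA) hB, ← Groth.Agent.PicLib.PicM.of_mul (Groth.Agent.AmpleLib.isInvertible_tensorPow hM h) hA,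
      Groth.Agent.PicLib.PicM.of_tensorPow hM h, hA', hB']
    exact heq
  have hC' := hC
  have hX' := hX
  have hint : IsIntegral C := hC.2.2.1
  have hm := hX.1
  have hp := hX.2.1
  have hreg := hX.2.2
  haveI := hint
  haveI := Groth.Agent.Inters29.isIntegral_model R hm hreg
  haveI : LocallyOfFiniteType p := hm.2.1
  haveI := hp
  haveI : IsLocallyNoetherian X := LocallyOfFiniteType.isLocallyNoetherian p
  haveI : IsIntegral (Over.mk p).left := inferInstanceAs (IsIntegral X)
  haveI : IsLocallyNoetherian (Over.mk p).left := inferInstanceAs (IsLocallyNoetherian X)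
  haveI : Flat (Over.mk p).hom := hm.1
  haveI : IsProper (Over.mk p).hom := hp
  haveI : ∀ i, IsProper (Γ i).curve.hom := fun i => Groth.Agent.Inters29.isProper_curve R (Γ i)
  have hconn : _root_.IsConnected (Models.specialFibreSet R (Over.mk p)) :=
    Groth.Agent.Inters29.isConnected_specialFibreSet R hH0 g hg
  let x : Fin n → ℤ := fun i => (b i : ℤ) - a i - h * v i
  have hker : ∀ i, ∑ j, ArSurf.inter R (Over.mk p) (L j) (Γ i) * x j = 0 := by
    intro i
    let ν := Groth.Agent.Inters29.intHom R (X := Over.mk p) (Γ i)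
    have hl : ∀ j, Groth.Agent.Inters29.intCl R (X := Over.mk p) (Γ i) (Groth.Agent.Inters29.lcl hC' hX' hΓ hL j) =
        ArSurf.inter R (Over.mk p) (L j) (Γ i) := fun j =>
      Groth.Agent.Inters29.intCl_of R (X := Over.mk p) (Γ i) (Groth.Agent.Inters29.isInvertible_model hC' hX' hΓ hL j)
    have hi := congrArg (Groth.Agent.Inters29.intCl R (X := Over.mk p) (Γ i)) heq
    replace hi := ((Groth.Agent.Inters29.intCl_mul R (X := Over.mk p) (Γ i) _ _).symm.trans hi).trans
      (Groth.Agent.Inters29.intCl_prod R (X := Over.mk p) (Γ i) Finset.univ _)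
    rw [show Groth.Agent.Inters29.intCl R (X := Over.mk p) (Γ i) (μ ^ h) = h * ArSurf.inter R (Over.mk p) M (Γ i) from
      (Groth.Agent.Inters29.intCl_pow R (X := Over.mk p) (Γ i) μ h).trans
        (congrArg ((h : ℤ) * ·) (Groth.Agent.Inters29.intCl_of R (X := Over.mk p) (Γ i) hM))] at hi
    rw [show Groth.Agent.Inters29.intCl R (X := Over.mk p) (Γ i) (∏ j, Groth.Agent.Inters29.lcl hC' hX' hΓ hL j ^ a j) =
        ∑ j, (a j : ℤ) * ArSurf.inter R (Over.mk p) (L j) (Γ i) from
      (Groth.Agent.Inters29.intCl_prod R (X := Over.mk p) (Γ i) Finset.univ _).trans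
        (Finset.sum_congr rfl fun j _ => (Groth.Agent.Inters29.intCl_pow R (X := Over.mk p) (Γ i) _ _).trans
          (congrArg ((a j : ℤ) * ·) (hl j)))] at hi
    rw [Finset.sum_congr rfl fun j _ => (Groth.Agent.Inters29.intCl_pow R (X := Over.mk p) (Γ i) (Groth.Agent.Inters29.lcl hC' hX' hΓ hL j) (b j)).trans
          (congrArg ((b j : ℤ) * ·) (hl j)), hv i, Finset.mul_sum] at hi
    simp only [x, mul_sub, Finset.sum_sub_distrib]
    rw [Finset.sum_congr rfl fun j (_ : j ∈ Finset.univ) => (show ArSurf.inter R (Over.mk p) (L j) (Γ i) * ((h : ℤ) * v j) = (h : ℤ) * (ArSurf.inter R (Over.mk p) (L j) (Γ i) * v j) by ring)]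
    simp only [mul_comm (ArSurf.inter R (Over.mk p) _ (Γ i)) (Nat.cast _)]
    linarith
  obtain ⟨q, hq⟩ := (Groth.Agent.Inters29.quad_nonpos_and_of_connected R (X := Over.mk p) hreg Γ hΓ L hL hconn
    (fun i => (x i : ℚ))).2.1 (by
      rw [show Matrix.mulVec (Groth.Agent.Inters29.interMat R Γ L ℚ) (fun i => (x i : ℚ)) = 0 from funext fun i => by
        show ∑ j, (ArSurf.inter R (Over.mk p) (L j) (Γ i) : ℚ) * (x j : ℚ) = 0
        exact_mod_cast hker i, dotProduct_zero])
  have hqi : ∀ i, x i * (q.den : ℤ) = q.num * (Models.mult R (Over.mk p) (Γ i) : ℤ) := fun i => by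
    have h1 : (x i : ℚ) = q * (Models.mult R (Over.mk p) (Γ i) : ℚ) := congrFun hq i
    have h2 : (x i : ℚ) * (q.den : ℚ) = (q.num : ℚ) * (Models.mult R (Over.mk p) (Γ i) : ℚ) := by
      rw [h1, mul_right_comm, Rat.mul_den_eq_num]
    exact_mod_cast h2
  have hden : q.den ∣ Models.multGcd R (Over.mk p) Γ := Finset.dvd_gcd fun i _ => by
    have h1 : (q.den : ℤ) ∣ q.num * (Models.mult R (Over.mk p) (Γ i) : ℤ) := ⟨x i, by rw [← hqi i]; ring⟩
    have h2 := Int.natAbs_dvd_natAbs.2 h1
    simp only [Int.natAbs_natCast, Int.natAbs_mul] at h2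
    exact q.reduced.symm.dvd_of_dvd_mul_left h2
  obtain ⟨s, hs⟩ := hden
  have hb := Nat.gcd_eq_gcd_ab h (Models.multGcd R (Over.mk p) Γ)
  rw [hcop.gcd_eq_one] at hb
  push_cast at hb
  refine (Groth.Agent.S19924.result R C X f p hC' hH0 hX' Γ hΓ g hg L hL h hh N hN ⟨et⟩ M hM ⟨eN⟩ a b hab).2
    ⟨fun i => v i + Nat.gcdA h (Models.multGcd R (Over.mk p) Γ) * x i,
      Nat.gcdB h (Models.multGcd R (Over.mk p) Γ) * s * q.num, fun i => ?_⟩
  have h1 : (b i : ℤ) - a i = x i + h * v i := by simp only [x]; ring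
  rw [h1]
  rw [hs] at hb ⊢
  push_cast at hb ⊢
  linear_combination (x i) * hb + (Nat.gcdB h (q.den * s) * (s : ℤ)) * hqi i

end Groth.Agent.S3342
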