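import Groth.Statements.S3344
import Groth.Agent.Models7.RationalPoint
import Groth.Agent.Models7.GenusFormula
import Groth.Agent.Models7.ChainField
import Groth.Agent.Inters29.Connected
-- import your own Groth.Agent.* helpers here

set_option autoImplicit false
set_option backward.isDefEq.respectTransparency false
universe u
open CategoryTheory CategoryTheory.Limits AlgebraicGeometry
open Models

namespace Groth.Agent.S3344

/-- In the following situation (R a discrete valuation ring with residue field k, C a smooth proper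
curve over its fraction field K with H^0(C, O_C) = K, X a regular proper model, Γ_1, …, Γ_n the
irreducible components of the closed fibre X_k with multiplicities m_i) assume C has a K-rational
point. Then (1) some closed point x of X on the closed fibre has residue field k (R → κ(x)
surjective) and the local ring of X_k at x, namely O_{X,x}/𝔪_R O_{X,x}, is regular (x is a smooth
point of X_k over k); (2) the component Γ_i through x has H^0(Γ_i, O) = k and m_i = 1; (3) H^0(X_k,
O_{X_k}) = k and dim_k H^1(X_k, O_{X_k}) = dim_K H^1(C, O_C) (k-dimensions as R-lengths of the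
cohomology of O_{X_k} on X). -/
theorem result (R : Type u) [CommRing R] [IsDomain R] [IsDiscreteValuationRing R]
    (C X : Scheme.{u}) (f : C ⟶ Spec (CommRingCat.of (FractionRing R))) (p : X ⟶ Spec (CommRingCat.of R))
    (hC : Curve.IsSmoothProperCurve (FractionRing R) C f) (hH0 : IsIso f.appTop)
    (hX : Models.IsRegularProperModel R X p C f)
    {n : ℕ} (Γ : Fin n → ArSurf.VertComp R (Over.mk p)) (hΓ : Models.IsComponentList R (Over.mk p) Γ)
    (s : Spec (CommRingCat.of (FractionRing R)) ⟶ C) (hs : s ≫ f = 𝟙 _) :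
    (∃ (i : Fin n) (x : X), x ∈ Set.range ((Γ i).ι.base : (Γ i).curve.left → X) ∧ IsClosed ({x} : Set X) ∧
        Function.Surjective ((X.residue x).hom.comp (Models.stalkHom R (Over.mk p) x)) ∧
        IsRegularLocalRing (X.presheaf.stalk x ⧸
          Ideal.map (Models.stalkHom R (Over.mk p) x) (IsLocalRing.maximalIdeal R)) ∧
        Models.wdeg R (Over.mk p) (Γ i) = 1 ∧ Models.mult R (Over.mk p) (Γ i) = 1) ∧
      Models.lengthH R (Over.mk p) (ClSub.quotMod (Models.specialFibreIdeal R (Over.mk p))) 0 = 1 ∧
      Models.lengthH R (Over.mk p) (ClSub.quotMod (Models.specialFibreIdeal R (Over.mk p))) 1 =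
        Models.curveGenus (FractionRing R) C f := by
  have hint : IsIntegral C := hC.2.2.1
  haveI := hint
  haveI := Groth.Agent.Inters29.isIntegral_model R hX.1 hX.2.2
  haveI := hX.2.1
  haveI : IsLocallyNoetherian X := LocallyOfFiniteType.isLocallyNoetherian p
  haveI : IsIntegral (Over.mk p).left := inferInstanceAs (IsIntegral X)
  haveI : IsLocallyNoetherian (Over.mk p).left := inferInstanceAs (IsLocallyNoetherian X)
  haveI : Flat (Over.mk p).hom := hX.1.1
  haveI : IsProper (Over.mk p).hom := hX.2.1
  haveI : ∀ i, IsProper (Γ i).curve.hom := fun i => Groth.Agent.Inters29.isProper_curve R (Γ i)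
  obtain ⟨g, hg⟩ := hX.1.2.2.2
  have hconn : _root_.IsConnected (Models.specialFibreSet R (Over.mk p)) :=
    Groth.Agent.Inters29.isConnected_specialFibreSet R hH0 g hg
  have hD := Groth.Agent.Inters29.isEffCartier_model hC hX hΓ
  choose L hL using fun i => Groth.Agent.Inters29.exists_inverse_ker R (X := Over.mk p) hX.2.2 (hD i)
  -- the rational point extends
  let Sq : ValuativeCommSq p :=
    { R := R, K := FractionRing R, i₁ := s ≫ g, i₂ := 𝟙 _,
      commSq := ⟨by rw [Category.assoc, hg.w, reassoc_of% hs, Category.comp_id]⟩ }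
  have hE : ValuativeCriterion.Existence p :=
    ((iff_of_eq (congrFun (congrFun (congrFun UniversallyClosed.eq_valuativeCriterion X) _) p)).mp inferInstance).1
  obtain ⟨σ, -, hσ⟩ := (hE Sq).exists_lift.some
  let x : X := σ (IsLocalRing.closedPoint R)
  obtain ⟨hres, hregq, ⟨i, hi, -⟩, hmult⟩ :=
    Groth.Agent.Models7.section_data R (Over.mk p) hX.2.2 Γ hΓ σ hσ
  obtain ⟨z, hz⟩ := hi
  have hw : Models.wdeg R (Over.mk p) (Γ i) = 1 :=
    Groth.Agent.Models7.wdeg_eq_one_of_point R (Γ i) z (by rw [hz]; exact hres)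
  have hm : Models.mult R (Over.mk p) (Γ i) = 1 := hmult i ⟨z, hz⟩
  have hxc : IsClosed ({x} : Set X) := by
    haveI : IsClosedImmersion σ := by
      haveI : IsClosedImmersion (σ ≫ p) := by rw [hσ]; infer_instance
      exact IsClosedImmersion.of_comp σ p
    rw [← Set.image_singleton (f := σ)]
    exact σ.isClosedEmbedding.isClosedMap _ (IsLocalRing.isClosed_singleton_closedPoint R)
  refine ⟨⟨i, x, ⟨z, hz⟩, hxc, hres, hregq, hw, hm⟩, ?_⟩
  have hgcd : Models.multGcd R (Over.mk p) Γ = 1 :=
    Nat.dvd_one.1 (hm ▸ Finset.gcd_dvd (Finset.mem_univ i))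
  obtain ⟨t, a, h0, hlast, hstep, hrig⟩ :=
    Groth.Agent.Models7.exists_chain R (X := Over.mk p) hX.2.2 Γ L hL hΓ hconn
  obtain ⟨hr1, hr2⟩ := hrig (Fin.last t)
  rw [hlast, hgcd] at hr1 hr2
  simp only [Nat.div_one] at hr1 hr2
  have hf := (Groth.Agent.Models7.isField_of_rigid R (X := Over.mk p) hX.2.2 Γ L hL hΓ hconn _ hr1 hr2).1
  rw [← Groth.Agent.Models7.specialFibre_eq_prod hC hX hΓ] at hf
  have hl0 : Models.lengthH R (Over.mk p) (ClSub.quotMod (Models.specialFibreIdeal R (Over.mk p))) 0 = 1 := by
    obtain ⟨z', hz'⟩ : x ∈ Set.range (Models.specialFibreIdeal R (Over.mk p)).subschemeι.base := by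
      rw [Scheme.IdealSheafData.range_subschemeι]
      refine (Groth.Agent.Inters29.support_specialFibreIdeal R (X := Over.mk p)).ge ?_
      show p (σ (IsLocalRing.closedPoint R)) = IsLocalRing.closedPoint R
      rw [← Scheme.Hom.comp_apply, hσ]
      rfl
    exact Groth.Agent.Models7.lengthH_zero_eq_one R _ hf
      (Groth.Agent.Models7.surjective_toGlobal_of_point R _ hf z' (by rw [hz']; exact hres))
  refine ⟨hl0, ?_⟩
  have h := Groth.Agent.Models7.chi_specialFibre_eq hC hH0 hX hΓ L hL
  rw [hl0] at h
  omega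

end Groth.Agent.S3344
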