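import Groth.Statements.S3345
import Groth.Agent.Models7.GenusFormula
import Groth.Agent.Models7.ExcCriterion
import Groth.Agent.Models7.WdegDvd
import Groth.Agent.Models7.ChainField
import Groth.Agent.Models7.RedFibre
import Groth.Agent.Models7.ConstRestrict
import Groth.Agent.Inters29.Connected
import Groth.Agent.Inters29.Family
-- import your own Groth.Agent.* helpers here

set_option autoImplicit false
set_option linter.style.haveILetI false
set_option backward.isDefEq.respectTransparency false
universe u
open CategoryTheory CategoryTheory.Limits AlgebraicGeometry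
open Models

namespace Groth.Agent.S3345

/-- In the following situation (R a discrete valuation ring with residue field k, C a smooth proper
curve over its fraction field K with H^0(C, O_C) = K, X a regular proper model, Γ_1, …, Γ_n the
irreducible components of the closed fibre with multiplicities m_i) assume X is a minimal model,
gcd(m_1, …, m_n) = 1 and H^0((X_k)_red, O) = k. Then dim_k H^1((X_k)_red, O) ≤ dim_k H^1(X_k, O),
and the inequality is strict when X_k is not reduced (k-dimensions computed as R-lengths of the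
cohomology on X of the structure sheaves of the two closed subschemes). The published statement is
the stronger one that H^1(X_k, O_{X_k}) → H^1((X_k)_red, O) is surjective, with non-zero kernel when
X_k is not reduced; this is its form in terms of dimensions. -/
theorem result (R : Type u) [CommRing R] [IsDomain R] [IsDiscreteValuationRing R]
    (C X : Scheme.{u}) (f : C ⟶ Spec (CommRingCat.of (FractionRing R))) (p : X ⟶ Spec (CommRingCat.of R))
    (hC : Curve.IsSmoothProperCurve (FractionRing R) C f) (hH0 : IsIso f.appTop)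
    (hX : Models.IsRegularProperModel R X p C f)
    {n : ℕ} (Γ : Fin n → ArSurf.VertComp R (Over.mk p)) (hΓ : Models.IsComponentList R (Over.mk p) Γ)
    (hmin : Models.IsMinimalModel R X p C f) (hgcd : Models.multGcd R (Over.mk p) Γ = 1)
    (hH0k : Models.lengthH R (Over.mk p) (ClSub.quotMod (Models.redFibreIdeal R (Over.mk p))) 0 = 1) :
    Models.lengthH R (Over.mk p) (ClSub.quotMod (Models.redFibreIdeal R (Over.mk p))) 1 ≤
        Models.lengthH R (Over.mk p) (ClSub.quotMod (Models.specialFibreIdeal R (Over.mk p))) 1 ∧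
      (Models.specialFibreIdeal R (Over.mk p) ≠ Models.redFibreIdeal R (Over.mk p) →
        Models.lengthH R (Over.mk p) (ClSub.quotMod (Models.redFibreIdeal R (Over.mk p))) 1 <
          Models.lengthH R (Over.mk p) (ClSub.quotMod (Models.specialFibreIdeal R (Over.mk p))) 1) := by
  classical
  have hC' := hC
  haveI := hC.2.2.1
  haveI : IsIntegral X := Groth.Agent.Inters29.isIntegral_model R hX.1 hX.2.2
  haveI := hX.2.1
  haveI : IsLocallyNoetherian X := LocallyOfFiniteType.isLocallyNoetherian p
  haveI : IsIntegral (Over.mk p).left := inferInstanceAs (IsIntegral X)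
  haveI : IsLocallyNoetherian (Over.mk p).left := inferInstanceAs (IsLocallyNoetherian X)
  haveI : Flat (Over.mk p).hom := hX.1.1
  haveI : IsProper (Over.mk p).hom := hX.2.1
  haveI : ∀ i, IsProper (Γ i).curve.hom := fun i => Groth.Agent.Inters29.isProper_curve R (Γ i)
  obtain ⟨g, hg⟩ := hX.1.2.2.2
  have hconn : _root_.IsConnected (Models.specialFibreSet R (Over.mk p)) :=
    Groth.Agent.Inters29.isConnected_specialFibreSet R hH0 g hg
  have hD := Groth.Agent.Inters29.isEffCartier_model hC' hX hΓ
  choose L hL using fun i => Groth.Agent.Inters29.exists_inverse_ker R (X := Over.mk p) hX.2.2 (hD i)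
  obtain ⟨s, a, h0, hlast, hstep, hrig⟩ :=
    Groth.Agent.Models7.exists_chain R (X := Over.mk p) hX.2.2 Γ L hL hΓ hconn
  simp only [hgcd, Nat.div_one] at hlast
  let Z : Fin (s + 1) → (Over.mk p).left.IdealSheafData := fun j => ∏ i, (Γ i).ι.ker ^ a j i
  have hZ0 : Models.redFibreIdeal R (Over.mk p) = Z 0 := by
    rw [Groth.Agent.Models7.redFibreIdeal_eq_prod R Γ hX.2.2 hΓ]
    simp only [Z, h0, pow_one]
  have hZs : Models.specialFibreIdeal R (Over.mk p) = Z (Fin.last s) := by
    rw [Groth.Agent.Models7.specialFibre_eq_prod hC' hX hΓ]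
    simp only [Z, hlast]
  have hfield := fun j =>
    Groth.Agent.Models7.isField_of_rigid R (X := Over.mk p) hX.2.2 Γ L hL hΓ hconn (a j) (hrig j).1 (hrig j).2
  -- only the constants on the reduced fibre, hence on every member of the chain
  have hf0 : IsField ↑(Γ((Z 0).subscheme, ⊤)) := (hfield 0).1
  have hs0 : Function.Surjective (Coh.toGlobal ((Z 0).subschemeι ≫ p)) :=
    Groth.Agent.Models7.surjective_of_lengthH_zero R (X := Over.mk p) _ hf0 (hZ0 ▸ hH0k)
  have hh0 : ∀ j, Models.lengthH R (Over.mk p) (ClSub.quotMod (Z j)) 0 = 1 := fun j => by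
    refine Groth.Agent.Models7.lengthH_zero_eq_one R (X := Over.mk p) _ (hfield j).1
      (Groth.Agent.Models7.surjective_of_le R (X := Over.mk p) ?_ (hfield j).1 hf0 hs0)
    simp only [Z, h0, pow_one]
    exact Groth.Agent.Models7.prod_pow_le_prod _ _ _ fun i _ => Nat.one_le_iff_ne_zero.1 ((hrig j).1 i)
  let h : Fin (s + 1) → ℤ := fun j => (Models.lengthH R (Over.mk p) (ClSub.quotMod (Z j)) 1 : ℤ)
  let α : Fin n → Fin n → ℤ := fun l i => ArSurf.inter R (Over.mk p) (L i) (Γ l)
  have hsym : ∀ l i, α l i = α i l := fun l i => Groth.Agent.Models7.inter_symm_model hC' hX hΓ L hL l i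
  -- one step
  have hstep' : ∀ (j : Fin s) (i : Fin n), a j.succ = a j.castSucc + Pi.single i 1 →
      h j.succ = h j.castSucc + (∑ l, (a j.castSucc l : ℤ) * α i l -
        (Models.wdeg R (Over.mk p) (Γ i) : ℤ) + Models.h1 R (Over.mk p) (Γ i)) ∧
      (Models.wdeg R (Over.mk p) (Γ i) : ℤ) ≤ ∑ l, (a j.castSucc l : ℤ) * α i l := fun j i hi => by
    have hc := (Groth.Agent.Models7.chi_single hC' hX hΓ L hL (a j.castSucc) i
      (Groth.Agent.Models7.finLen_prod hC' hX hΓ L hL _)).2
    have he : (fun l => a j.castSucc l + if l = i then 1 else 0) = a j.succ := by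
      funext l; rw [hi, Pi.add_apply, Pi.single_apply]
    have e0 : (∏ l, (Γ l).ι.ker ^ (a j.castSucc l + if l = i then 1 else 0)) = Z j.succ := by
      simp only [Z, ← he]
    rw [e0, hh0 j.succ, show (∏ l, (Γ l).ι.ker ^ a j.castSucc l) = Z j.castSucc from rfl, hh0 j.castSucc,
      show (∑ l, (a j.castSucc l : ℤ) * ArSurf.inter R (Over.mk p) (L i) (Γ l)) =
        ∑ l, (a j.castSucc l : ℤ) * α i l from Finset.sum_congr rfl fun l _ => by
          show _ * α l i = _; rw [hsym]] at hc
    refine ⟨by simp only [h]; push_cast at hc ⊢; linarith, ?_⟩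
    obtain ⟨l, hl, hpos⟩ := (hrig j.succ).2 (a j.castSucc) (hrig j.castSucc).1
      (fun l => by rw [hi, Pi.add_apply]; exact Nat.le_add_right _ _)
      (fun hne => by
        have := congrFun (hne.symm.trans rfl : a j.succ = a j.castSucc) i
        rw [hi, Pi.add_apply, Pi.single_eq_same] at this
        omega)
    obtain rfl : l = i := by
      by_contra hli
      rw [hi, Pi.add_apply, Pi.single_eq_of_ne hli, add_zero] at hl
      exact lt_irrefl _ hl
    exact Int.le_of_dvd hpos (Finset.dvd_sum fun l' _ =>
      Dvd.dvd.mul_left (Groth.Agent.Models7.wdeg_dvd_inter R (Γ l) (L l')) _)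
  have hmono : ∀ j, h 0 ≤ h j := Fin.induction le_rfl fun j ih => by
    obtain ⟨i, hi⟩ := hstep j
    obtain ⟨h1, h2⟩ := hstep' j i hi
    linarith [Int.natCast_nonneg (Models.h1 R (Over.mk p) (Γ i))]
  rw [hZ0, hZs]
  refine ⟨Int.ofNat_le.1 (hmono _), fun hne => Int.ofNat_lt.1 (show h 0 < h (Fin.last s) from ?_)⟩
  cases s with
  | zero => exact absurd rfl hne
  | succ t =>
    obtain ⟨i, hi⟩ := hstep (Fin.last t)
    obtain ⟨h1, h2⟩ := hstep' (Fin.last t) i hi
    rw [Fin.succ_last] at hi h1
    have hrow : ∑ l, (a (Fin.last t).castSucc l : ℤ) * α i l = -α i i := by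
      have hm := Groth.Agent.Inters29.sum_mult_mul_inter R (X := Over.mk p) hX.2.2 Γ hΓ L hL (Γ i)
      have : ∀ l, (Models.mult R (Over.mk p) (Γ l) : ℤ) =
          (a (Fin.last t).castSucc l : ℤ) + if l = i then 1 else 0 := fun l => by
        rw [show Models.mult R (Over.mk p) (Γ l) = a (Fin.last (t + 1)) l from (congrFun hlast l).symm, hi,
          Pi.add_apply, Pi.single_apply]
        push_cast; rfl
      simp only [this, add_mul, Finset.sum_add_distrib, ite_mul, one_mul, zero_mul, Finset.sum_ite_eq',
        Finset.mem_univ, if_true] at hm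
      show ∑ l, (a (Fin.last t).castSucc l : ℤ) * α i l = -α i i
      simp only [α]
      linarith
    have hpos : 0 < ∑ l, (a (Fin.last t).castSucc l : ℤ) * α i l -
        (Models.wdeg R (Over.mk p) (Γ i) : ℤ) + Models.h1 R (Over.mk p) (Γ i) := by
      by_contra hle
      have hh : (0 : ℤ) ≤ Models.h1 R (Over.mk p) (Γ i) := Int.natCast_nonneg _
      refine hmin.2 (Γ i) (Groth.Agent.Models7.isExcCurve_of R (Γ i) (hD i) (hL i)
        (Int.natCast_inj.1 (show (Models.h1 R (Over.mk p) (Γ i) : ℤ) = (0 : ℕ) by push_cast; linarith))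
        (show α i i = _ by linarith))
    linarith [hmono (Fin.last t).castSucc]

end Groth.Agent.S3345
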