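import Groth.Statements.S3346
import Groth.Agent.Models7.ContractInter
import Groth.Agent.Models7.RedFibre
import Groth.Agent.Inters29.Vertical
import Groth.Agent.Inters29.PullIdeal
-- import your own Groth.Agent.* helpers here

set_option autoImplicit false
set_option linter.style.haveILetI false
set_option backward.isDefEq.respectTransparency false
set_option maxHeartbeats 1000000
universe u
open CategoryTheory CategoryTheory.Limits AlgebraicGeometry
open Models

namespace Groth.Agent.S3346

/-- In the following situation (R a discrete valuation ring with residue field k, C a smooth proper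
curve over its fraction field K with H^0(C, O_C) = K, X a regular proper model with generic-fibre
inclusion g, Γ_0, …, Γ_n the irreducible components of the closed fibre with multiplicities m_i, L_j
⊗ I(Γ_j) ≅ O_X, a_ij = deg_k(L_j|Γ_i)) assume the last component Γ_n is an exceptional curve of the
first kind and let b : X → X' be a contraction of Γ_n over R (X' Noetherian, p = b ≫ p'). Then X'
(with g ≫ b) is a regular proper model of C, the irreducible components of its closed fibre are
exactly the images Γ'_i = b(Γ_i), i < n, and for any enumeration Γ' of them with these images and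
any L'_j ⊗ I(Γ'_j) ≅ O_{X'} one has m'_i = m_i and a'_ij · a_nn = a_ij · a_nn - a_in · a_jn (that
is, a'_ij = a_ij - a_in a_jn / a_nn, cleared of the denominator a_nn ≠ 0). -/
theorem result (R : Type u) [CommRing R] [IsDomain R] [IsDiscreteValuationRing R]
    (C X X' : Scheme.{u}) (f : C ⟶ Spec (CommRingCat.of (FractionRing R))) (p : X ⟶ Spec (CommRingCat.of R))
    (p' : X' ⟶ Spec (CommRingCat.of R))
    (hC : Curve.IsSmoothProperCurve (FractionRing R) C f) (hH0 : IsIso f.appTop)
    (hX : Models.IsRegularProperModel R X p C f) (g : C ⟶ X) (hg : IsPullback g f p (Spec.map (CommRingCat.ofHom (algebraMap R (FractionRing R)))))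
    {n : ℕ} (Γ : Fin (n + 1) → ArSurf.VertComp R (Over.mk p)) (hΓ : Models.IsComponentList R (Over.mk p) Γ)
    (L : Fin (n + 1) → X.Modules) (hL : ∀ i, ClSub.IsInverseOf (L i) (ClSub.idealMod (Γ i).ι.ker))
    (hexc : Models.IsExcCurve (Γ (Fin.last n)).ι)
    (b : X ⟶ X') (hb : Models.IsContractionOf (Γ (Fin.last n)).ι b) (hcomm : b ≫ p' = p) :
    Models.IsRegularProperModel R X' p' C f ∧
      Models.fibreComponents R (Over.mk p') =
        Set.range (fun i : Fin n => b.base '' Set.range ((Γ i.castSucc).ι.base : (Γ i.castSucc).curve.left → X)) ∧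
      ∀ (Γ' : Fin n → ArSurf.VertComp R (Over.mk p')),
        (∀ i, Set.range ((Γ' i).ι.base : (Γ' i).curve.left → X') =
          b.base '' Set.range ((Γ i.castSucc).ι.base : (Γ i.castSucc).curve.left → X)) →
        (∀ i, Models.mult R (Over.mk p') (Γ' i) = Models.mult R (Over.mk p) (Γ i.castSucc)) ∧
        ∀ (L' : Fin n → X'.Modules), (∀ j, ClSub.IsInverseOf (L' j) (ClSub.idealMod (Γ' j).ι.ker)) →
          ∀ i j : Fin n,
            ArSurf.inter R (Over.mk p') (L' j) (Γ' i) * ArSurf.inter R (Over.mk p) (L (Fin.last n)) (Γ (Fin.last n)) =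
              ArSurf.inter R (Over.mk p) (L j.castSucc) (Γ i.castSucc) * ArSurf.inter R (Over.mk p) (L (Fin.last n)) (Γ (Fin.last n)) -
                ArSurf.inter R (Over.mk p) (L (Fin.last n)) (Γ i.castSucc) * ArSurf.inter R (Over.mk p) (L (Fin.last n)) (Γ j.castSucc) := by
  haveI := hC.2.2.1
  have hG : Groth.Agent.Models7.GenModel R C f X p g := ⟨hX, hg⟩
  have hG' := hG.of_contraction hC (Γ (Fin.last n)) hexc b hb hcomm
  obtain ⟨hstk, ⟨D, hD⟩, hlist⟩ := Groth.Agent.Models7.contraction_components hC hG Γ hΓ hexc b hb hcomm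
  haveI := hG.isIntegral
  haveI := hG'.isIntegral
  haveI : IsIntegral (Over.mk p).left := hG.isIntegral
  haveI : IsIntegral (Over.mk p').left := hG'.isIntegral
  haveI : IsProper p := hX.2.1
  haveI : IsProper p' := hG'.model.2.1
  haveI : IsProper (Over.mk p).hom := hX.2.1
  haveI : IsProper (Over.mk p').hom := hG'.model.2.1
  haveI : Flat (Over.mk p).hom := hX.1.1
  haveI : Flat (Over.mk p').hom := hG'.model.1.1
  haveI : IsLocallyNoetherian (Over.mk p).left := LocallyOfFiniteType.isLocallyNoetherian p
  haveI : IsLocallyNoetherian (Over.mk p').left := LocallyOfFiniteType.isLocallyNoetherian p'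
  haveI : IsLocallyNoetherian X := LocallyOfFiniteType.isLocallyNoetherian p
  haveI : IsLocallyNoetherian X' := LocallyOfFiniteType.isLocallyNoetherian p'
  refine ⟨hG'.model, ?_, fun Γ' hΓ' => ?_⟩
  · rw [← (hlist D hD).1.2]
    exact congrArg Set.range (funext hD)
  obtain ⟨hlist', hgp⟩ := hlist Γ' hΓ'
  refine ⟨fun i => ?_, fun L' hL' i j => ?_⟩
  · exact congrArg ENat.toNat (@Groth.Agent.Models7.length_fibre_eq _ _ _ _ _ _ _ _ b hcomm _ (hstk i) _ (hgp i).symm)
  · -- the pulled back divisor
    let I : X'.IdealSheafData := (Γ' j).ι.ker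
    have hI : BlowUp.IsEffCartierIdeal I :=
      Groth.Agent.Inters29.isEffCartier_listComp R Γ' hG'.model.2.2 hlist' j
    obtain ⟨ϖ, hϖ⟩ := IsDiscreteValuationRing.exists_irreducible R
    have hmem : ∀ x : X, Groth.Agent.Misc15.DivDescent.stk (Models.specialFibreIdeal R (Over.mk p)) x ≤
        Groth.Agent.Misc15.DivDescent.stk (I.comap b) x := by
      intro x
      rw [Groth.Agent.Inters29.stk_specialFibreIdeal, Groth.Agent.Misc15.DivDescent.stk_comap,
        ← Groth.Agent.Models7.stalkHom_comp b hcomm x, ← Ideal.map_map]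
      refine Ideal.map_mono ?_
      refine le_trans (le_of_eq (Groth.Agent.Inters29.stk_specialFibreIdeal R (X := Over.mk p') (b x)).symm) ?_
      exact Groth.Agent.Models7.stk_le_stk (Y := X') ((Scheme.IdealSheafData.le_support_iff_le_vanishingIdeal.1 (Groth.Agent.Inters29.support_specialFibreIdeal R (X := Over.mk p')).ge : Models.specialFibreIdeal R (Over.mk p') ≤ Models.redFibreIdeal R (Over.mk p')).trans
        (Groth.Agent.Models7.redFibreIdeal_le_ker R (Γ' j))) _
    have hJ : BlowUp.IsEffCartierIdeal (I.comap b) := by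
      refine Groth.Agent.Inters29.isEffCartier_of_stk _ fun x => ?_
      obtain ⟨d, -, hd⟩ := Groth.Agent.Misc15.DivDescent.exists_gen hI (b x)
      refine ⟨⟨(b.stalkMap x).hom d, ?_⟩, fun h0 => ?_⟩
      · rw [Groth.Agent.Misc15.DivDescent.stk_comap, hd, Ideal.map_span, Set.image_singleton]
      · have h1 := hmem x
        rw [h0, le_bot_iff, Groth.Agent.Inters29.stk_specialFibreIdeal_span R (X := Over.mk p) hϖ,
          Ideal.span_singleton_eq_bot] at h1
        exact hϖ.ne_zero (Groth.Agent.Inters29.stalkHom_injective R (X := Over.mk p) x (h1.trans (map_zero _).symm))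
    obtain ⟨e, he⟩ := Groth.Agent.Inters29.exists_eq_prod_of_pow_le R (X := Over.mk p) hX.2.2 Γ hΓ (I.comap b) hJ
      (fun x => ⟨1, by rw [pow_one]; exact hmem x⟩)
    have hone : I = ∏ l, (Γ' l).ι.ker ^ (if l = j then 1 else 0) := by
      rw [Finset.prod_eq_single j (fun l _ hl => by rw [if_neg hl, pow_zero]) (by simp), if_pos rfl, pow_one]
    have hei : ∀ i : Fin n, e i.castSucc = if i = j then 1 else 0 := by
      intro i
      let x : X := (Γ i.castSucc).ι (genericPoint (Γ i.castSucc).curve.left)
      haveI : IsIso (b.stalkMap x) := hstk i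
      obtain ⟨h1, hinj⟩ := Groth.Agent.Models7.stk_prod_at (X := Over.mk p) hX.2.2 Γ hΓ e i.castSucc x rfl
      obtain ⟨h2, -⟩ := Groth.Agent.Models7.stk_prod_at (X := Over.mk p') hG'.model.2.2 Γ' hlist'
        (fun l => if l = j then 1 else 0) i (b x) (hgp i).symm
      apply hinj
      show IsLocalRing.maximalIdeal (X.presheaf.stalk x) ^ _ = IsLocalRing.maximalIdeal (X.presheaf.stalk x) ^ _
      refine h1.symm.trans ?_
      rw [← he, Groth.Agent.Misc15.DivDescent.stk_comap, hone]
      refine (congrArg (Ideal.map (b.stalkMap x).hom) h2).trans ?_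
      rw [Ideal.map_pow]
      congr 1
      exact IsLocalRing.map_maximalIdeal_of_surjective (b.stalkMap x).hom
        (ConcreteCategory.bijective_of_isIso (b.stalkMap x)).2
    obtain ⟨φ⟩ := Groth.Agent.Inters29.nonempty_pullback_idealMod_iso b I hI hJ
    have hM : PicF.IsInvertible (ClSub.idealMod I) :=
      Groth.Agent.FlatMor12.IdealModGen.isInvertible_idealMod I hI
    have hexp : ∀ l : Fin (n + 1),
        ArSurf.inter R (Over.mk p) ((Scheme.Modules.pullback b).obj (ClSub.idealMod I)) (Γ l) =
          -(ArSurf.inter R (Over.mk p) (L l) (Γ j.castSucc) +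
            (e (Fin.last n) : ℤ) * ArSurf.inter R (Over.mk p) (L l) (Γ (Fin.last n))) := by
      intro l
      haveI := Groth.Agent.Inters29.isProper_curve R (Γ l)
      rw [Groth.Agent.Inters29.inter_congr R (X := Over.mk p) (Γ l) (φ ≪≫ eqToIso (congrArg ClSub.idealMod he)),
        Groth.Agent.Models7.inter_idealMod_prod hC hX hΓ L hL e l, Fin.sum_univ_castSucc,
        Finset.sum_eq_single j (fun i _ hi => by rw [hei i, if_neg hi]; simp) (by simp), hei j, if_pos rfl]
      simp
    have hzero : ArSurf.inter R (Over.mk p) ((Scheme.Modules.pullback b).obj (ClSub.idealMod I)) (Γ (Fin.last n)) = 0 := by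
      obtain ⟨-, -, y, -, hy, -⟩ := id hb
      obtain ⟨-, -, -, -, -, -, hsurj, -⟩ := Groth.Agent.Models7.contraction_basic hC hG _ b hb hcomm
      exact Groth.Agent.S7935.result R (Over.mk p) (Over.mk p') (hG.isArithSurface hC) (hG'.isArithSurface hC)
        (Over.homMk b hcomm) hsurj.surj.denseRange (Γ (Fin.last n)) y hy (ClSub.idealMod I) hM
    have hinter : ArSurf.inter R (Over.mk p') (L' j) (Γ' i) =
        ArSurf.inter R (Over.mk p) (L i.castSucc) (Γ j.castSucc) +
          (e (Fin.last n) : ℤ) * ArSurf.inter R (Over.mk p) (L i.castSucc) (Γ (Fin.last n)) := by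
      haveI := Groth.Agent.Inters29.isProper_curve R (Γ' i)
      have h1 := Groth.Agent.Models7.inter_pullback_birational b hcomm (Γ i.castSucc) (Γ' i) (hΓ' i) (hstk i) hM
      rw [hexp] at h1
      rw [Groth.Agent.Inters29.inter_inverse R (X := Over.mk p') (Γ' i) hI (hL' j), Groth.Agent.Inters29.idealCl,
        Groth.Agent.Inters29.intCl_of]
      linarith
    have s1 := Groth.Agent.Models7.inter_symm_model hC hX hΓ L hL i.castSucc j.castSucc
    have s2 := Groth.Agent.Models7.inter_symm_model hC hX hΓ L hL i.castSucc (Fin.last n)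
    have h0 := (hexp (Fin.last n)).symm.trans hzero
    rw [hinter, ← s1, ← s2]
    linear_combination (ArSurf.inter R (Over.mk p) (L (Fin.last n)) (Γ i.castSucc)) * h0.symm

end Groth.Agent.S3346
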