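import Groth.Statements.S3347
import Groth.Agent.Models7.ExcCriterion
import Groth.Agent.Inters29.ModelPic
import Groth.Agent.Inters29.Family
import Groth.Agent.Inters29.FibreDim
-- import your own Groth.Agent.* helpers here

set_option autoImplicit false
set_option backward.isDefEq.respectTransparency false
universe u
open CategoryTheory CategoryTheory.Limits AlgebraicGeometry
open Models

namespace Groth.Agent.S3347

/-- In the following situation (R a discrete valuation ring with residue field k, C a smooth proper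
curve over its fraction field K with H^0(C, O_C) = K, X a regular proper model, Γ_1, …, Γ_n the
irreducible components of the closed fibre, L_i ⊗ I(Γ_i) ≅ O_X) the following are equivalent: X is a
minimal model (no vertical prime divisor of X is an exceptional curve of the first kind); the
numerical type of X is minimal, i.e. there is no index i with g_i = 0 (H^1(Γ_i, O) = 0) and (Γ_i ·
Γ_i) = deg_k(L_i|Γ_i) = -[κ_i : k] = -dim_k H^0(Γ_i, O). -/
theorem result (R : Type u) [CommRing R] [IsDomain R] [IsDiscreteValuationRing R]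
    (C X : Scheme.{u}) (f : C ⟶ Spec (CommRingCat.of (FractionRing R))) (p : X ⟶ Spec (CommRingCat.of R))
    (hC : Curve.IsSmoothProperCurve (FractionRing R) C f) (hH0 : IsIso f.appTop)
    (hX : Models.IsRegularProperModel R X p C f)
    {n : ℕ} (Γ : Fin n → ArSurf.VertComp R (Over.mk p)) (hΓ : Models.IsComponentList R (Over.mk p) Γ)
    (L : Fin n → X.Modules) (hL : ∀ i, ClSub.IsInverseOf (L i) (ClSub.idealMod (Γ i).ι.ker)) :
    Models.IsMinimalModel R X p C f ↔
      ∀ i, ¬ (Models.h1 R (Over.mk p) (Γ i) = 0 ∧ ArSurf.inter R (Over.mk p) (L i) (Γ i) = -(Models.wdeg R (Over.mk p) (Γ i) : ℤ)) := by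
  have hC' := hC
  haveI := hC.2.2.1
  haveI : IsIntegral X := Groth.Agent.Inters29.isIntegral_model R hX.1 hX.2.2
  haveI := hX.2.1
  haveI : IsLocallyNoetherian X := LocallyOfFiniteType.isLocallyNoetherian p
  haveI : IsIntegral (Over.mk p).left := inferInstanceAs (IsIntegral X)
  haveI : IsLocallyNoetherian (Over.mk p).left := inferInstanceAs (IsLocallyNoetherian X)
  haveI : Flat (Over.mk p).hom := hX.1.1
  haveI : IsProper (Over.mk p).hom := hX.2.1
  haveI : ∀ Δ : ArSurf.VertComp R (Over.mk p), IsProper Δ.curve.hom := fun Δ => Groth.Agent.Inters29.isProper_curve R Δ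
  refine ⟨fun h i hi => h.2 (Γ i) (Groth.Agent.Models7.isExcCurve_of R (Γ i)
    (Groth.Agent.Inters29.isEffCartier_model hC' hX hΓ i) (hL i) hi.1 hi.2), fun h => ⟨hX, fun Δ hΔ => ?_⟩⟩
  obtain ⟨g, hg⟩ := hX.1.2.2.2
  haveI : IsProper f := hC.1
  have hdim : topologicalKrullDim (Over.mk p).left = 2 :=
    Groth.Agent.Inters29.topologicalKrullDim_eq_two R (X := Over.mk p)
      (Groth.Agent.Inters29.trdAt_genericPoint R (X := Over.mk p) f hC.2.2.2 g hg)
  obtain ⟨j, hj⟩ := Groth.Agent.Inters29.exists_range_eq R (X := Over.mk p) hX.2.2 hdim.le Γ hΓ Δ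
  have hker := Groth.Agent.Inters29.ker_eq_of_range_eq R Δ (Γ j) hj
  haveI := IsClosedImmersion.isIso_lift (Γ j).ι Δ.ι hker.symm
  let l : Δ.curve.left ≅ (Γ j).curve.left := asIso (IsClosedImmersion.lift (Γ j).ι Δ.ι hker.ge)
  obtain ⟨hD, k', _, e, hφ⟩ := hΔ
  have hexc : Models.IsExcCurve (Γ j).ι := by
    refine ⟨hker ▸ hD, k', inferInstance, e ≪≫ l, ?_⟩
    have hfac : (e ≪≫ l).hom ≫ (Γ j).ι = e.hom ≫ Δ.ι := by
      rw [Iso.trans_hom, Category.assoc]
      exact congrArg (e.hom ≫ ·) (IsClosedImmersion.lift_fac _ _ _)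
    rw [hfac, ← hker]
    exact hφ
  exact h j (Groth.Agent.Models7.of_isExcCurve R (Γ j) hexc (hL j))

end Groth.Agent.S3347
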