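import Groth.Statements.S3348
import Groth.Agent.S3315
import Groth.Agent.Inters29.Family
import Groth.Agent.PicLib.PicGroup

set_option autoImplicit false
universe u
open CategoryTheory CategoryTheory.Limits AlgebraicGeometry
open Models

namespace Groth.Agent.S3348

/-- In the following situation (R a discrete valuation ring with residue field k, C a smooth proper
curve over its fraction field K with H^0(C, O_C) = K, X a regular proper model with generic-fibre
inclusion g, Γ_1, …, Γ_n the irreducible components of the closed fibre, L_j ⊗ I(Γ_j) ≅ O_X, a_ij =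
deg_k(L_j|Γ_i), w_i = dim_k H^0(Γ_i, O)) let N be an invertible O_C-module and M an invertible
O_X-module restricting to N. Then the degree vector (deg_k(M|Γ_i))_i is of the form (Σ_j a_ij v_j)_i
for an integer vector v (the class (deg_k(M|Γ_i)/w_i)_i vanishes in the Picard group of the
numerical type, which does not depend on the choice of M) if and only if N is the restriction of an
invertible O_X-module M' with deg_k(M'|Γ_i) = 0 for all i. -/
theorem result (R : Type u) [CommRing R] [IsDomain R] [IsDiscreteValuationRing R]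
    (C X : Scheme.{u}) (f : C ⟶ Spec (CommRingCat.of (FractionRing R))) (p : X ⟶ Spec (CommRingCat.of R))
    (hC : Curve.IsSmoothProperCurve (FractionRing R) C f) (hH0 : IsIso f.appTop)
    (hX : Models.IsRegularProperModel R X p C f)
    {n : ℕ} (Γ : Fin n → ArSurf.VertComp R (Over.mk p)) (hΓ : Models.IsComponentList R (Over.mk p) Γ)
    (g : C ⟶ X) (hg : IsPullback g f p (Spec.map (CommRingCat.ofHom (algebraMap R (FractionRing R))))) (L : Fin n → X.Modules) (hL : ∀ i, ClSub.IsInverseOf (L i) (ClSub.idealMod (Γ i).ι.ker))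
    (N : C.Modules) (hN : PicF.IsInvertible N)
    (M : X.Modules) (hM : PicF.IsInvertible M) (hMN : Nonempty ((Scheme.Modules.pullback g).obj M ≅ N)) :
    (∃ v : Fin n → ℤ, ∀ i, ArSurf.inter R (Over.mk p) M (Γ i) = ∑ j, ArSurf.inter R (Over.mk p) (L j) (Γ i) * v j) ↔
      ∃ M' : X.Modules, PicF.IsInvertible M' ∧ Nonempty ((Scheme.Modules.pullback g).obj M' ≅ N) ∧
        ∀ i, ArSurf.inter R (Over.mk p) M' (Γ i) = 0 := by
  have hC' := hC
  have hX' := hX
  obtain ⟨-, -, hint, -⟩ := hC
  obtain ⟨hm, hp, hreg⟩ := hX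
  haveI := hint
  haveI := Groth.Agent.Inters29.isIntegral_model R hm hreg
  haveI : LocallyOfFiniteType p := hm.2.1
  haveI := hp
  haveI : IsLocallyNoetherian X := LocallyOfFiniteType.isLocallyNoetherian p
  haveI : IsIntegral (Over.mk p).left := inferInstanceAs (IsIntegral X)
  haveI : IsLocallyNoetherian (Over.mk p).left := inferInstanceAs (IsLocallyNoetherian X)
  haveI : Flat (Over.mk p).hom := hm.1
  haveI : IsProper (Over.mk p).hom := hp
  haveI : ∀ i, IsProper (Γ i).curve.hom := fun i => Groth.Agent.Inters29.isProper_curve R (Γ i)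
  have hD := fun i => Groth.Agent.Inters29.isEffCartier_listComp R Γ (X := Over.mk p) hreg hΓ i
  have hLi : ∀ i, PicF.IsInvertible (L i) := fun i =>
    Groth.Agent.Inters29.isInvertible_of_inverse R (X := Over.mk p) (hD i) (hL i)
  let l : Fin n → Groth.Agent.PicLib.PicM X := fun i => Groth.Agent.PicLib.PicM.of (hLi i)
  let d : Fin n → Groth.Agent.PicLib.PicM X := fun i => Groth.Agent.Inters29.idealCl (Γ i).ι.ker (hD i)
  let I : Fin n → Groth.Agent.PicLib.PicM X → ℤ := fun i => Groth.Agent.Inters29.intCl R (X := Over.mk p) (Γ i)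
  have hImul : ∀ i (a b : Groth.Agent.PicLib.PicM X), I i (a * b) = I i a + I i b := fun i a b =>
    Groth.Agent.Inters29.intCl_mul R (X := Over.mk p) (Γ i) a b
  have hIprod : ∀ i (a : Fin n → Groth.Agent.PicLib.PicM X) (e : Fin n → ℕ),
      I i (∏ j, a j ^ e j) = ∑ j, (e j : ℤ) * I i (a j) := fun i a e =>
    (Groth.Agent.Inters29.intCl_prod R (X := Over.mk p) (Γ i) Finset.univ fun j => a j ^ e j).trans
      (Finset.sum_congr rfl fun j _ => Groth.Agent.Inters29.intCl_pow R (X := Over.mk p) (Γ i) (a j) (e j))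
  have hIof : ∀ i (A : X.Modules) (hA : PicF.IsInvertible A),
      I i (Groth.Agent.PicLib.PicM.of hA) = ArSurf.inter R (Over.mk p) A (Γ i) := fun i A hA =>
    Groth.Agent.Inters29.intCl_of R (X := Over.mk p) (Γ i) hA
  have hId : ∀ i j, I i (d j) = - ArSurf.inter R (Over.mk p) (L j) (Γ i) := fun i j => by
    have h := Groth.Agent.Inters29.inter_inverse R (X := Over.mk p) (Γ i) (hD j) (hL j)
    rw [h, neg_neg]
  have hld : ∀ i, l i * d i = 1 := fun i => by
    have h : (show Groth.Agent.PicLib.PicM X from l i) * (show Groth.Agent.PicLib.PicM X from d i) = 1 := by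
      simp only [l, d, Groth.Agent.Inters29.idealCl, Groth.Agent.PicLib.PicM.of_mul, Groth.Agent.PicLib.PicM.of_eq_one_iff]
      exact hL i
    exact h
  have hpd : ∀ i, Groth.Agent.PicLib.PicM.pull g (d i) = 1 := fun i => by
    have hbot : ((Γ i).ι.ker.comap g) = (1 : C.IdealSheafData) := by
      refine Groth.Agent.Misc15.DivDescent.ext_stk fun c => ?_
      have h1 : c ∉ ((Γ i).ι.ker.comap g).support := by
        intro hc
        rw [Scheme.IdealSheafData.support_comap] at hc
        have hcs : p (g c) = IsLocalRing.closedPoint R :=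
          Groth.Agent.Inters29.range_subset_specialFibreSet R (X := Over.mk p) (Γ i)
            ((Groth.Agent.Inters29.support_ker_eq R (X := Over.mk p) (Γ i)).le hc)
        rw [← Scheme.Hom.comp_apply, hg.w, Scheme.Hom.comp_apply,
          Subsingleton.elim (f c) (⟨⊥, Ideal.isPrime_bot⟩ : PrimeSpectrum (FractionRing R))] at hcs
        exact Groth.Agent.Inters29.bot_ne_closedPoint R
          ((PrimeSpectrum.ext (Ideal.comap_bot_of_injective _ (IsFractionRing.injective R (FractionRing R))).symm).trans hcs)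
      rw [Groth.Agent.SDiv28.CartierPart.stk_eq_top h1, Groth.Agent.SDiv28.CartierPart.stk_eq_top]
      rw [Scheme.IdealSheafData.one_eq_top, Scheme.IdealSheafData.support_top]
      exact fun h => h
    have h1 : BlowUp.IsEffCartierIdeal ((Γ i).ι.ker.comap g) := hbot ▸ Groth.Agent.Inters29.isEffCartier_one
    obtain ⟨e⟩ := Groth.Agent.Inters29.nonempty_pullback_idealMod_iso g _ (hD i) h1
    have h2 : Groth.Agent.PicLib.PicM.pull g (d i) = Groth.Agent.Inters29.idealCl _ h1 := by
      refine (Groth.Agent.PicLib.PicM.pull_of g _).trans ?_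
      exact (Groth.Agent.PicLib.PicM.of_eq_iff _ _).2 ⟨e⟩
    rw [h2, Groth.Agent.Inters29.idealCl_congr hbot h1 Groth.Agent.Inters29.isEffCartier_one,
      Groth.Agent.Inters29.idealCl_one]
  have hpl : ∀ i, Groth.Agent.PicLib.PicM.pull g (l i) = 1 := fun i => by
    have h := congrArg (Groth.Agent.PicLib.PicM.pull g) (hld i)
    rwa [map_mul, hpd i, mul_one, map_one] at h
  constructor
  · rintro ⟨v, hv⟩
    let μ := Groth.Agent.PicLib.PicM.of hM * (∏ j, d j ^ (v j).toNat) * ∏ j, l j ^ (-v j).toNat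
    obtain ⟨M', hM', hμ⟩ := Groth.Agent.PicLib.PicM.exists_eq_of μ
    refine ⟨M', hM', ?_, fun i => ?_⟩
    · obtain ⟨e⟩ := hMN
      have h1 : Groth.Agent.PicLib.PicM.pull g μ = Groth.Agent.PicLib.PicM.of hN := by
        simp only [μ, map_mul, map_prod, map_pow, hpd, hpl, one_pow, Finset.prod_const_one, mul_one]
        exact (Groth.Agent.PicLib.PicM.pull_of g hM).trans ((Groth.Agent.PicLib.PicM.of_eq_iff _ _).2 ⟨e⟩)
      rw [hμ, Groth.Agent.PicLib.PicM.pull_of] at h1
      exact (Groth.Agent.PicLib.PicM.of_eq_iff _ _).1 h1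
    · rw [← hIof i M' hM', ← hμ, hImul, hImul, hIprod, hIprod, hIof, hv i]
      simp only [hId, l, hIof]
      rw [← Finset.sum_add_distrib, ← Finset.sum_add_distrib]
      refine Finset.sum_eq_zero fun j _ => ?_
      linear_combination (- ArSurf.inter R (Over.mk p) (L j) (Γ i)) * (Int.toNat_sub_toNat_neg (v j))
  · rintro ⟨M', hM', ⟨e'⟩, h0⟩
    obtain ⟨q, hq⟩ := Groth.Agent.PicLib.PicM.exists_mul_eq_one (Groth.Agent.PicLib.PicM.of hM')
    obtain ⟨Q, hQ, hμ⟩ := Groth.Agent.PicLib.PicM.exists_eq_of (Groth.Agent.PicLib.PicM.of hM * q)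
    obtain ⟨e⟩ := hMN
    have htriv : Nonempty ((Scheme.Modules.pullback g).obj Q ≅ Coh.structureModule C) := by
      refine (Groth.Agent.PicLib.PicM.of_eq_one_iff (PicLoc.isInvertible_pullback g hQ)).1 ?_
      have h1 : Groth.Agent.PicLib.PicM.pull g (Groth.Agent.PicLib.PicM.of hM) =
          Groth.Agent.PicLib.PicM.pull g (Groth.Agent.PicLib.PicM.of hM') := by
        rw [Groth.Agent.PicLib.PicM.pull_of, Groth.Agent.PicLib.PicM.pull_of, Groth.Agent.PicLib.PicM.of_eq_iff]
        exact ⟨e ≪≫ e'.symm⟩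
      rw [← Groth.Agent.PicLib.PicM.pull_of g hQ, ← hμ, map_mul, h1, ← map_mul, hq, map_one]
    obtain ⟨a, b, ⟨eab⟩⟩ := Groth.Agent.S3315.result R C X f p hC' hH0 hX' Γ hΓ g hg L hL Q hQ htriv
    obtain ⟨hA, hA'⟩ := Groth.Agent.Inters29.exists_multiTwist_class L hLi a
    obtain ⟨hB, hB'⟩ := Groth.Agent.Inters29.exists_multiTwist_class L hLi b
    have hab : Groth.Agent.PicLib.PicM.of hQ * ∏ i, l i ^ a i = ∏ i, l i ^ b i := by
      show Groth.Agent.PicLib.PicM.of hQ * ∏ i, Groth.Agent.PicLib.PicM.of (hLi i) ^ a i = _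
      rw [← hA', Groth.Agent.PicLib.PicM.of_mul]
      exact ((Groth.Agent.PicLib.PicM.of_eq_iff _ hB).2 ⟨eab⟩).trans hB'
    refine ⟨fun j => (b j : ℤ) - a j, fun i => ?_⟩
    have hi := congrArg (I i) hab
    rw [← hμ, hImul, hImul, hIprod, hIprod, hIof] at hi
    have h2 := congrArg (I i) hq
    rw [hImul, hIof, h0 i, zero_add] at h2
    have hI1 : I i 1 = 0 := Groth.Agent.Inters29.intCl_one R (X := Over.mk p) (Γ i)
    rw [h2, hI1, add_zero] at hi
    simp only [l, hIof] at hi
    rw [eq_sub_of_add_eq hi, ← Finset.sum_sub_distrib]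
    exact Finset.sum_congr rfl fun j _ => by ring

end Groth.Agent.S3348
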