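import Groth.Statements.S3352
import Groth.Agent.LatLib29.Basic

set_option autoImplicit false
open Models

namespace Groth.Agent.S3352

/-- Let L₀, L₁ be finite free ℤ-modules with positive definite symmetric integral bilinear forms, the
form on L₀ unimodular (x ↦ ⟨x, −⟩ is a bijection L₀ → Hom(L₀, ℤ)), and let d : L₀ → L₁ and d* : L₁ →
L₀ be adjoint. Identify Im(d)^# (the dual lattice of Im(d)) with Hom(Im(d), ℤ) through the form on
L₁. Then there is an isomorphism Φ from the torsion subgroup of Coker(d* d) onto Im(d)^#/Im(d),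
determined by: for x ∈ L₀ whose class is torsion, Φ[x] is the class of the functional d(y') ↦ ⟨x,
y'⟩ (equivalently the class of (1/a)·d(y) when a·x = d* d(y)). -/
theorem result {L₀ L₁ : Type} [AddCommGroup L₀] [AddCommGroup L₁]
    [Module.Finite ℤ L₀] [Module.Free ℤ L₀] [Module.Finite ℤ L₁] [Module.Free ℤ L₁]
    (B₀ : LinearMap.BilinForm ℤ L₀) (B₁ : LinearMap.BilinForm ℤ L₁) (h₀s : B₀.IsSymm) (h₁s : B₁.IsSymm)
    (h₀p : ∀ x, x ≠ 0 → 0 < B₀ x x) (h₁p : ∀ x, x ≠ 0 → 0 < B₁ x x) (huni : Function.Bijective B₀)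
    (d : L₀ →ₗ[ℤ] L₁) (ds : L₁ →ₗ[ℤ] L₀) (hadj : ∀ x y, B₁ (d x) y = B₀ x (ds y)) :
    ∃ Φ : ↥(Submodule.torsion ℤ (L₀ ⧸ LinearMap.range (ds ∘ₗ d))) ≃ₗ[ℤ]
        (Module.Dual ℤ ↥(LinearMap.range d) ⧸
          LinearMap.range ((B₁.compl₂ (LinearMap.range d).subtype) ∘ₗ (LinearMap.range d).subtype)),
      ∀ (x : L₀) (hx : Submodule.Quotient.mk x ∈ Submodule.torsion ℤ (L₀ ⧸ LinearMap.range (ds ∘ₗ d)))
        (ψ : Module.Dual ℤ ↥(LinearMap.range d)),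
        (∀ y' : L₀, ψ ⟨d y', LinearMap.mem_range_self d y'⟩ = B₀ x y') →
          Φ ⟨Submodule.Quotient.mk x, hx⟩ = Submodule.Quotient.mk ψ := by
  let P : Submodule ℤ L₁ := LinearMap.range d
  let R : Submodule ℤ L₀ := LinearMap.range (ds ∘ₗ d)
  let e := LinearEquiv.ofBijective B₀ huni
  let G : Module.Dual ℤ ↥P →ₗ[ℤ] L₀ := e.symm.toLinearMap ∘ₗ (LinearMap.rangeRestrict d).dualMap
  have hG : ∀ (ψ : Module.Dual ℤ ↥P) (y : L₀), B₀ (G ψ) y = ψ ⟨d y, LinearMap.mem_range_self d y⟩ := fun ψ y => by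
    show e (e.symm _) y = _
    rw [e.apply_symm_apply]
    rfl
  have huniq : ∀ x x' : L₀, (∀ y, B₀ x y = B₀ x' y) → x = x' := fun x x' h => huni.1 (LinearMap.ext h)
  have htor : ∀ ψ, (Submodule.Quotient.mk (G ψ) : L₀ ⧸ R) ∈ Submodule.torsion ℤ (L₀ ⧸ R) := by
    intro ψ
    obtain ⟨a, ⟨_, y, rfl⟩, ha0, ha⟩ := Groth.Agent.LatLib29.exists_smul_eq_form B₁ h₁p P ψ
    refine ⟨⟨a, mem_nonZeroDivisors_of_ne_zero ha0⟩, ?_⟩
    show a • (Submodule.Quotient.mk (G ψ) : L₀ ⧸ R) = 0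
    rw [← Submodule.Quotient.mk_smul, Submodule.Quotient.mk_eq_zero]
    refine ⟨y, huniq _ _ fun z => ?_⟩
    rw [map_smul, LinearMap.smul_apply, hG, smul_eq_mul]
    refine Eq.trans ?_ (ha ⟨d z, LinearMap.mem_range_self d z⟩).symm
    show B₀ (ds (d y)) z = B₁ (d y) (d z)
    rw [h₀s.eq, ← hadj z (d y), h₁s.eq]
  let Γ : Module.Dual ℤ ↥P →ₗ[ℤ] ↥(Submodule.torsion ℤ (L₀ ⧸ R)) := LinearMap.codRestrict _ (R.mkQ ∘ₗ G) htor
  have hsurj : Function.Surjective Γ := by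
    rintro ⟨q, hq⟩
    obtain ⟨x, rfl⟩ := Submodule.Quotient.mk_surjective R q
    obtain ⟨⟨a, ha⟩, hax⟩ := hq
    replace hax : a • (Submodule.Quotient.mk x : L₀ ⧸ R) = 0 := hax
    rw [← Submodule.Quotient.mk_smul, Submodule.Quotient.mk_eq_zero] at hax
    obtain ⟨y, hy⟩ := hax
    have hk : LinearMap.ker d ≤ LinearMap.ker (B₀ x) := fun y' hy' => by
      rw [LinearMap.mem_ker] at hy' ⊢
      have h0 : a * B₀ x y' = 0 := by
        rw [← smul_eq_mul, ← LinearMap.smul_apply, ← map_smul, ← hy]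
        show B₀ (ds (d y)) y' = 0
        rw [h₀s.eq, ← hadj y' (d y), hy', map_zero, LinearMap.zero_apply]
      exact (mul_eq_zero.1 h0).resolve_left (nonZeroDivisors.ne_zero ha)
    refine ⟨(LinearMap.ker d).liftQ (B₀ x) hk ∘ₗ d.quotKerEquivRange.symm.toLinearMap, Subtype.ext ?_⟩
    show Submodule.Quotient.mk (G _) = Submodule.Quotient.mk x
    congr 1
    refine huniq _ _ fun z => ?_
    rw [hG]
    simp only [LinearMap.comp_apply, LinearEquiv.coe_coe]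
    rw [show d.quotKerEquivRange.symm ⟨d z, LinearMap.mem_range_self d z⟩ = Submodule.Quotient.mk z from
      d.quotKerEquivRange.symm_apply_eq.2 rfl, Submodule.liftQ_apply]
  have hker : LinearMap.ker Γ = LinearMap.range ((B₁.compl₂ P.subtype) ∘ₗ P.subtype) := by
    ext ψ
    rw [LinearMap.mem_ker, ← Subtype.val_inj]
    show (Submodule.Quotient.mk (G ψ) : L₀ ⧸ R) = 0 ↔ _
    rw [Submodule.Quotient.mk_eq_zero]
    constructor
    · rintro ⟨y, hy⟩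
      refine ⟨⟨d y, LinearMap.mem_range_self d y⟩, LinearMap.ext fun p => ?_⟩
      obtain ⟨_, z, rfl⟩ := p
      show B₁ (d y) (d z) = ψ ⟨d z, _⟩
      rw [← hG, ← hy]
      show B₁ (d y) (d z) = B₀ (ds (d y)) z
      rw [h₀s.eq, ← hadj z (d y), h₁s.eq]
    · rintro ⟨⟨_, y, rfl⟩, rfl⟩
      refine ⟨y, huniq _ _ fun z => ?_⟩
      rw [hG]
      show B₀ (ds (d y)) z = B₁ (d y) (d z)
      rw [h₀s.eq, ← hadj z (d y), h₁s.eq]
  let E := (Γ.quotKerEquivOfSurjective hsurj).symm.trans (Submodule.quotEquivOfEq _ _ hker)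
  refine ⟨E, fun x hx ψ hψ => ?_⟩
  have e1 : Γ ψ = ⟨Submodule.Quotient.mk x, hx⟩ := Subtype.ext (by
    show (Submodule.Quotient.mk (G ψ) : L₀ ⧸ R) = Submodule.Quotient.mk x
    rw [huniq (G ψ) x fun y => (hG ψ y).trans (hψ y)])
  rw [← e1]
  show Submodule.quotEquivOfEq _ _ hker ((Γ.quotKerEquivOfSurjective hsurj).symm (Γ ψ)) = _
  rw [show (Γ.quotKerEquivOfSurjective hsurj).symm (Γ ψ) = Submodule.Quotient.mk ψ from
    (Γ.quotKerEquivOfSurjective hsurj).symm_apply_eq.2 rfl]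
  rfl

end Groth.Agent.S3352
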