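import Groth.Statements.S3358
import Groth.Agent.Lef24.Near
-- import your own Groth.Agent.* helpers here

set_option autoImplicit false
universe u
open CategoryTheory CategoryTheory.Limits AlgebraicGeometry
open LefX

set_option backward.isDefEq.respectTransparency.types false
namespace Groth.Agent.S3358

/-- Let X be a locally Noetherian scheme, 𝓘 a quasi-coherent ideal with Y = V(𝓘), Y_n the closed
subscheme defined by 𝓘^(n+1) with its closed immersion ι_n into X, and p ≥ 0. Assume Leff(X, Y) and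
H^i(X, 𝓘^(n+1)/𝓘^(n+2)) = 0 for i = 1, 2 and all n ≥ p. Then for n ≥ p the map colim_U Pic(U) →
Pic(Y_n), U running over the open neighbourhoods of Y, is bijective: every invertible O_{Y_n}-module
is the pull-back of an invertible module on some open U ⊇ Y along the factorisation of ι_n through
U, and an invertible module on an open U ⊇ Y whose pull-back to Y_n is trivial becomes trivial on
some smaller open neighbourhood of Y. -/
theorem result (X : Scheme.{u}) [IsLocallyNoetherian X] (𝓘 : X.IdealSheafData) (p : ℕ) (h1 : LefX.LeffCond X 𝓘) (h2 : (∀ n : ℕ, p ≤ n → ∀ i : ℕ, (i = 1 ∨ i = 2) → Subsingleton (Coh.HH X (kernel (Lef.quotMap (Lef.pow_succ_le 𝓘 n))) i))) (n : ℕ) (hn : p ≤ n) : (∀ N : ((𝓘 ^ (n + 1)).subscheme).Modules, PicF.IsInvertible N → ∃ (U : X.Opens) (L : (U : Scheme.{u}).Modules) (g : (𝓘 ^ (n + 1)).subscheme ⟶ U), (𝓘.support : Set X) ⊆ (U : Set X) ∧ g ≫ U.ι = (𝓘 ^ (n + 1)).subschemeι ∧ PicF.IsInvertible L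 ∧ Nonempty ((Scheme.Modules.pullback g).obj L ≅ N)) ∧ (∀ (U : X.Opens) (L : (U : Scheme.{u}).Modules) (g : (𝓘 ^ (n + 1)).subscheme ⟶ U), (𝓘.support : Set X) ⊆ (U : Set X) → g ≫ U.ι = (𝓘 ^ (n + 1)).subschemeι → PicF.IsInvertible L → Nonempty ((Scheme.Modules.pullback g).obj L ≅ Coh.structureModule _) → ∃ (V : X.Opens) (hVU : V ≤ U), (𝓘.support : Set X) ⊆ (V : Set X) ∧ Nonempty ((Scheme.Modules.pullback (X.homOfLE hVU)).obj L ≅ Coh.structureModule _)) := by
  refine ⟨fun N hN => ?_, fun U L g hU hg hL ⟨e⟩ => ?_⟩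
  · obtain ⟨U, M, hU, hM, ⟨e⟩⟩ := Lef24.exists_near 𝓘 n h1 (fun q hq => h2 q (hn.trans hq) 2 (Or.inr rfl)) hN
    let g : (𝓘 ^ (n + 1)).subscheme ⟶ U := IsOpenImmersion.lift U.ι (𝓘 ^ (n + 1)).subschemeι
      (by rw [Scheme.Opens.range_ι, Lef24.range_thick]; exact hU)
    have hg : g ≫ U.ι = (𝓘 ^ (n + 1)).subschemeι := IsOpenImmersion.lift_fac _ _ _
    exact ⟨U, M.restrict U.ι, g, hU, hg, hM, ⟨Lef23.pullbackRestrictIso g _ hg M ≪≫ e⟩⟩
  · obtain ⟨e'⟩ := Lef24.nonempty_trivial 𝓘 n h1.1 (fun q hq => h2 q (hn.trans hq) 1 (Or.inl rfl)) hU hL g hg e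
    obtain ⟨e₀⟩ := AmpleLib.exists_pullStructureIso (X.homOfLE (le_refl U))
    exact ⟨U, le_rfl, hU, ⟨(Scheme.Modules.pullback (X.homOfLE (le_refl U))).mapIso e' ≪≫ e₀⟩⟩

end Groth.Agent.S3358
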