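import Groth.Statements.S3359
-- import your own Groth.Agent.* helpers here
import Groth.Agent.Lef23.Structure

set_option autoImplicit false
universe u
open CategoryTheory CategoryTheory.Limits AlgebraicGeometry
open Lef

namespace Groth.Agent.S3359

/-- Let A be a Noetherian ring, X a proper flat A-scheme and 𝓘 a quasi-coherent ideal of O_X whose ideal
module is invertible with ample inverse L (so 𝓘 is the ideal of the zero scheme Y of a regular
section of the ample invertible module L, and X is projective over A). Let n ≥ 0 and assume that for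
every point s of Spec A the fibre X_s has depth > n at each of its closed points. Then the canonical
map from H^i(X, O_X) to the inverse limit over m of the H^i(X, O_X/𝓘^{m+1}), the transition maps
being induced by the quotient maps, is injective for i ≤ n and surjective for i < n. The published
statement factors this map through the cohomology of the formal completion of X along Y and is over
a general base and for a coherent module flat over it, rather than over Spec A and for O_X; the
depth hypothesis is read here at the points that are closed in their fibre. -/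
theorem result (A : Type u) [CommRing A] [IsNoetherianRing A] (X : Scheme.{u}) [X.Over (Spec (CommRingCat.of A))] [IsProper (X ↘ Spec (CommRingCat.of A))] [Flat (X ↘ Spec (CommRingCat.of A))] (𝓘 : X.IdealSheafData) (L : X.Modules) (hL : ClSub.IsInverseOf L (ClSub.idealMod 𝓘)) (hamp : CohB1.IsAmple L) (n : ℕ) (hdepth : ∀ x : X, IsClosed ({((X ↘ Spec (CommRingCat.of A))).asFiber x} : Set ↥(((X ↘ Spec (CommRingCat.of A))).fiber (((X ↘ Spec (CommRingCat.of A))).base x))) → (n : ℕ∞) < LocCoh.depth ↑(CInt.fiberStalk (X ↘ Spec (CommRingCat.of A)) x) ↑(CInt.fiberStalk (X ↘ Spec (CommRingCat.of A)) x)) (i : ℕ) : (i ≤ n → ∀ x : Coh.HH X (Coh.structureModule X) i, (∀ m : ℕ, Sheaf.H.map ((SheafOfModules.toSheaf X.ringCatSheaf).map (ClSub.toSubscheme (𝓘 ^ (m + 1)))) i x = 0) → x = 0) ∧ (i < n → ∀ y : (∀ m : ℕ, Coh.HH X (ClSub.quotMod (𝓘 ^ (m + 1))) i), (∀ m : ℕ, Sheaf.H.map ((SheafOfModules.toSheaf X.ringCatSheaf).map (Lef.quotMap (Lef.pow_succ_le 𝓘 m))) i (y (m + 1)) = y m) → ∃ x : Coh.HH X (Coh.structureModule X) i, ∀ m : ℕ, Sheaf.H.map ((SheafOfModules.toSheaf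 X.ringCatSheaf).map (ClSub.toSubscheme (𝓘 ^ (m + 1)))) i x = y m) := by
  open Groth.Agent.Lef23 in
  obtain ⟨m₀, h⟩ := exists_thick (A := A) 𝓘 hL hamp (Coh.structureModule X)
    (Groth.Agent.Coherent.CohBC.isCoh_of_isFinLocFree (Groth.Agent.Coherent.CohBC.isFinLocFree_structureModule X))
    (isFlatOver_structureModule _) (mono_structure 𝓘) (n + 1) fun x hx => by
    rw [depth_fibre_structure]
    have := Order.add_one_le_of_lt (hdepth x hx)
    exact_mod_cast this
  let e := Groth.Agent.Lef23.hmEquiv (Groth.Agent.Lef23.rightUnit (Coh.structureModule X)) i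
  let ε := fun m : ℕ => Groth.Agent.Lef23.hmEquiv (Groth.Agent.Lef23.rightUnit (ClSub.quotMod (𝓘 ^ (m + 1)))) i
  refine ⟨fun hi x hx => ?_, fun hi y hy => ?_⟩
  · obtain ⟨x, rfl⟩ := e.surjective x
    refine (congrArg e ((h m₀ le_rfl).2 i (by omega) ?_)).trans (map_zero e)
    refine Eq.trans ((ε m₀).injective ?_) (map_zero _).symm
    rw [← Groth.Agent.Lef23.hm_rightUnit, map_zero]
    exact hx m₀
  · obtain ⟨x, hx⟩ := Groth.Agent.Lef23.exists_limit 𝓘 (Coh.structureModule X) i m₀
      (fun m hm => (h m hm).1 i (by omega)) (fun m => (ε m).symm (y m)) fun m => (ε m).injective (by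
        rw [← Groth.Agent.Lef23.hm_rightUnit, AddEquiv.apply_symm_apply, AddEquiv.apply_symm_apply]
        exact hy m)
    refine ⟨e x, fun m => (Groth.Agent.Lef23.hm_rightUnit _ i x).trans ?_⟩
    exact (congrArg (ε m) (hx m)).trans ((ε m).apply_symm_apply _)

end Groth.Agent.S3359
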