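import Groth.Statements.S3362
import Groth.Agent.CommAlg4.PuncturedDim
import Groth.Agent.LocCoh.ConnDimRing
-- import your own Groth.Agent.* helpers here

set_option autoImplicit false
universe u
open CategoryTheory CategoryTheory.Limits AlgebraicGeometry TopologicalSpace
open LefX

namespace Groth.Agent.S3362

theorem withBot_le_sub {a b : ℕ} {x : WithBot ℕ∞} (h : (a : WithBot ℕ∞) ≤ x + (b : ℕ)) (hab : b ≤ a) :
    ((a - b : ℕ) : WithBot ℕ∞) ≤ x := by
  induction x using WithBot.recBotCoe with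
  | bot => simp at h
  | coe x =>
    induction x using ENat.recTopCoe with
    | top => exact le_top
    | coe n =>
      have : a ≤ n + b := by exact_mod_cast h
      exact WithBot.coe_le_coe.2 (Nat.cast_le.2 (by omega : a - b ≤ n))

theorem withBot_lt_add_one {n : ℕ} {x : WithBot ℕ∞} (h : x < (n : WithBot ℕ∞)) : x + 1 < ((n + 1 : ℕ) : WithBot ℕ∞) := by
  induction x using WithBot.recBotCoe with
  | bot => simp
  | coe x =>
    induction x using ENat.recTopCoe with
    | top => exact absurd h (not_lt.2 le_top)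
    | coe j =>
      have : j < n := by exact_mod_cast h
      exact_mod_cast (by omega : j + 1 < n + 1)

theorem specializes_closedPoint {B : Type u} [CommRing B] [IsLocalRing B] (y : PrimeSpectrum B) :
    y ⤳ IsLocalRing.closedPoint B :=
  (PrimeSpectrum.le_iff_specializes _ _).1 (IsLocalRing.le_maximalIdeal y.isPrime.ne_top)

theorem closedPoint_mem {B : Type u} [CommRing B] [IsLocalRing B] {C : Set (PrimeSpectrum B)} (hC : IsClosed C) (hne : C.Nonempty) :
    IsLocalRing.closedPoint B ∈ C :=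
  let ⟨y, hy⟩ := hne; (specializes_closedPoint y).mem_closed hC hy

theorem dim_insert {B : Type u} [CommRing B] [IsLocalRing B] {Z : Set ↥(FEt.puncturedSpec B)} (hZ : IsClosed Z) (hne : Z.Nonempty) :
    IsClosed (insert (IsLocalRing.closedPoint B) (Subtype.val '' Z : Set (PrimeSpectrum B))) ∧
      topologicalKrullDim ↥(insert (IsLocalRing.closedPoint B) (Subtype.val '' Z : Set (PrimeSpectrum B))) = topologicalKrullDim ↥Z + 1 :=
  Groth.Agent.CommAlg4.topologicalKrullDim_insert (S := PrimeSpectrum B) (IsLocalRing.closedPoint B) specializes_closedPoint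
    (IsLocalRing.isClosed_singleton_closedPoint (R := B)) hZ hne

theorem insert_preimage {B : Type u} [CommRing B] [IsLocalRing B] {C : Set (PrimeSpectrum B)} (hm : IsLocalRing.closedPoint B ∈ C) :
    insert (IsLocalRing.closedPoint B) (Subtype.val '' (Subtype.val ⁻¹' C : Set ↥(FEt.puncturedSpec B))) = C := by
  ext s
  constructor
  · rintro (rfl | ⟨z, hz, rfl⟩)
    · exact hm
    · exact hz
  · intro hs
    by_cases h : s = IsLocalRing.closedPoint B
    · exact Or.inl h
    · exact Or.inr ⟨⟨s, h⟩, hs, rfl⟩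


theorem dim_of_closed {B : Type u} [CommRing B] [IsLocalRing B] {C : Set (PrimeSpectrum B)} (hC : IsClosed C)
    (hm : IsLocalRing.closedPoint B ∈ C) (hne : (Subtype.val ⁻¹' C : Set ↥(FEt.puncturedSpec B)).Nonempty) :
    topologicalKrullDim ↥C = topologicalKrullDim ↥(Subtype.val ⁻¹' C : Set ↥(FEt.puncturedSpec B)) + 1 := by
  obtain ⟨-, h2⟩ := dim_insert (Z := (Subtype.val ⁻¹' C : Set ↥(FEt.puncturedSpec B))) (hC.preimage continuous_subtype_val) hne
  exact (congrArg (fun S : Set (PrimeSpectrum B) => topologicalKrullDim ↥S) (insert_preimage hm)).symm.trans h2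

/-- Let A be a complete Noetherian local ring, X' the punctured spectrum of A and k ≥ 1. Assume (a_k)
every irreducible component of X' has dimension ≥ k + 1, and (b_k) X' is connected in dimension ≥ k,
i.e. X' minus any closed subset of dimension < k is connected. Let 0 ≤ m ≤ k and let f_1, …, f_m be
elements of the maximal ideal, B = A/(f_1, …, f_m), Y' the punctured spectrum of B. Then Y'
satisfies (a_{k−m}) and (b_{k−m}); in particular Y' is connected. -/
theorem result (A : Type u) [CommRing A] [IsNoetherianRing A] [IsLocalRing A] [IsAdicComplete (IsLocalRing.maximalIdeal A) A] (k : ℕ) (hk : 1 ≤ k) (ha : ∀ Z ∈ irreducibleComponents ↥(FEt.puncturedSpec A), ((k + 1 : ℕ) : WithBot ℕ∞) ≤ topologicalKrullDim ↥Z) (hb : LefX.ConnectedInDim ↥(FEt.puncturedSpec A) k) (m : ℕ) (hm : m ≤ k) (f : Fin m → A) (hf : ∀ i, f i ∈ IsLocalRing.maximalIdeal A) [IsLocalRing (A ⧸ Ideal.span (Set.range f))] : (∀ Z ∈ irreducibleComponents ↥(FEt.puncturedSpec (A ⧸ Ideal.span (Set.range f))), ((k -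 m + 1 : ℕ) : WithBot ℕ∞) ≤ topologicalKrullDim ↥Z) ∧ LefX.ConnectedInDim ↥(FEt.puncturedSpec (A ⧸ Ideal.span (Set.range f))) (k - m) := by
  classical
  let a : Ideal A := Ideal.span (Set.range f)
  obtain ⟨u, -⟩ := (hb ∅ isClosed_empty (by
    rw [show topologicalKrullDim ↥(∅ : Set ↥(FEt.puncturedSpec A)) = ⊥ from Order.krullDim_eq_bot_iff.2 (by
      refine ⟨fun Z => ?_⟩
      obtain ⟨⟨z, hz⟩, -⟩ := Z.isIrreducible'.nonempty
      exact hz)]
    exact WithBot.bot_lt_coe _)).nonempty
  have hsub : ((k + 2 : ℕ) : WithBot ℕ∞) ≤ LocCoh.subdim (PrimeSpectrum A) := by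
    refine le_iInf₂ fun C hC => ?_
    have hCcl := isClosed_of_mem_irreducibleComponents C hC
    have hmC := closedPoint_mem hCcl hC.1.nonempty
    have hne : (C ∩ Set.range (Subtype.val : ↥(FEt.puncturedSpec A) → PrimeSpectrum A)).Nonempty := by
      by_contra hcon
      have hCm : C ⊆ {IsLocalRing.closedPoint A} := fun y hy => by
        by_contra hy'
        exact hcon ⟨y, hy, ⟨⟨y, hy'⟩, rfl⟩⟩
      have h2 : closure {(u.1 : PrimeSpectrum A)} ⊆ C :=
        hC.2 isIrreducible_singleton.closure (fun y hy => by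
          rw [hCm hy]
          exact (specializes_closedPoint u.1).mem_closure)
      exact u.2 (hCm (h2 (subset_closure rfl)))
    have hopen : Topology.IsOpenEmbedding (Subtype.val : ↥(FEt.puncturedSpec A) → PrimeSpectrum A) :=
      (FEt.puncturedSpec A).2.isOpenEmbedding_subtypeVal
    have hC' := preimage_mem_irreducibleComponents hC hopen hne
    have h1 := ha _ hC'
    have h2 := dim_of_closed hCcl hmC hC'.1.nonempty
    refine le_trans ?_ h2.ge
    calc ((k + 2 : ℕ) : WithBot ℕ∞) = ((k + 1 : ℕ) : WithBot ℕ∞) + 1 := by push_cast; ring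
      _ ≤ _ := add_le_add_left h1 1
  have hcon : ((k + 1 : ℕ) : WithBot ℕ∞) ≤ LocCoh.connDim (PrimeSpectrum A) := by
    refine le_iInf₂ fun Z hZ => ?_
    rcases Z.eq_empty_or_nonempty with rfl | hne
    · refine absurd ?_ hZ.2
      rw [Set.compl_empty]
      exact ⟨⟨IsLocalRing.closedPoint A, trivial⟩, isPreconnected_closed_iff.2 fun s t hs ht _ hs' ht' =>
        ⟨IsLocalRing.closedPoint A, trivial, closedPoint_mem hs ⟨_, hs'.some_mem.2⟩, closedPoint_mem ht ⟨_, ht'.some_mem.2⟩⟩⟩
    have hmZ := closedPoint_mem hZ.1 hne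
    let Z' : Set ↥(FEt.puncturedSpec A) := Subtype.val ⁻¹' Z
    have hZ'cl : IsClosed Z' := hZ.1.preimage continuous_subtype_val
    have hnot : ¬ _root_.IsConnected Z'ᶜ := fun h => hZ.2 (by
      have h2 := h.image Subtype.val continuous_subtype_val.continuousOn
      have e : (Subtype.val '' Z'ᶜ : Set (PrimeSpectrum A)) = Zᶜ := by
        ext s
        exact ⟨fun ⟨z, hz, e⟩ => e ▸ hz, fun hs => ⟨⟨s, fun h => hs ((show s = IsLocalRing.closedPoint A from h) ▸ hmZ)⟩, hs, rfl⟩⟩
      exact (congrArg (fun S : Set (PrimeSpectrum A) => _root_.IsConnected S) e).mp h2)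
    have hk' : (k : WithBot ℕ∞) ≤ topologicalKrullDim ↥Z' := not_lt.1 fun h => hnot (hb Z' hZ'cl h)
    rcases Z'.eq_empty_or_nonempty with he | hne'
    · refine absurd hk' (not_le.2 ?_)
      rw [he, show topologicalKrullDim ↥(∅ : Set ↥(FEt.puncturedSpec A)) = ⊥ from Order.krullDim_eq_bot_iff.2 (by
        refine ⟨fun Z => ?_⟩
        obtain ⟨⟨z, hz⟩, -⟩ := Z.isIrreducible'.nonempty
        exact hz)]
      exact WithBot.bot_lt_coe _
    have h2 := dim_of_closed hZ.1 hmZ hne'
    refine le_trans ?_ h2.ge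
    calc ((k + 1 : ℕ) : WithBot ℕ∞) = (k : WithBot ℕ∞) + 1 := by push_cast; ring
      _ ≤ _ := add_le_add_left hk' 1
  have hane : a ≠ ⊤ := fun h =>
    (not_subsingleton (A ⧸ a)) (Ideal.Quotient.subsingleton_iff.2 h)
  let s : Finset A := Finset.univ.image f
  have hs : (Ideal.span (s : Set A)).radical = a.radical := by simp [s, a]
  have hcard : s.card ≤ m := Finset.card_image_le.trans (by simp)
  have hcq : ((k - m + 1 : ℕ) : WithBot ℕ∞) ≤ LocCoh.connDim (PrimeSpectrum (A ⧸ a)) := by
    have h := Groth.Agent.LocCoh.min_connDim_subdim_le_connDim_quotient a hane s hs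
    have h1 : ((k + 2 : ℕ) : WithBot ℕ∞) ≤ LocCoh.connDim (PrimeSpectrum (A ⧸ a)) + ((m + 1 : ℕ) : WithBot ℕ∞) := by
      refine le_trans (le_trans (le_min ?_ hsub) h) ?_
      · calc ((k + 2 : ℕ) : WithBot ℕ∞) = ((k + 1 : ℕ) : WithBot ℕ∞) + 1 := by push_cast; ring
          _ ≤ _ := add_le_add_left hcon 1
      · rw [add_assoc, Nat.cast_add, Nat.cast_one]
        exact add_le_add_right (add_le_add_left (by exact_mod_cast hcard) 1) _
    have := withBot_le_sub h1 (by omega)
    rwa [show k + 2 - (m + 1) = k - m + 1 by omega] at this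
  refine ⟨fun D hD => ?_, fun Z hZ hZd => ?_⟩
  · have hval : Topology.IsOpenEmbedding (Subtype.val : ↥(FEt.puncturedSpec (A ⧸ a)) → PrimeSpectrum (A ⧸ a)) :=
      (FEt.puncturedSpec (A ⧸ a)).2.isOpenEmbedding_subtypeVal
    obtain ⟨C, hC, hsubC⟩ := exists_mem_irreducibleComponents_subset_of_isIrreducible _
      (hD.1.image Subtype.val continuous_subtype_val.continuousOn)
    obtain ⟨d₀, hd₀⟩ := hD.1.nonempty
    have hC' := preimage_mem_irreducibleComponents hC hval ⟨d₀.1, hsubC ⟨d₀, hd₀, rfl⟩, d₀, rfl⟩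
    have hDC : D = Subtype.val ⁻¹' C :=
      Set.Subset.antisymm (Set.image_subset_iff.1 hsubC) (hD.2 hC'.1 (Set.image_subset_iff.1 hsubC))
    have hCcl := isClosed_of_mem_irreducibleComponents C hC
    have h2 := dim_of_closed hCcl (closedPoint_mem hCcl hC.1.nonempty) hC'.1.nonempty
    obtain ⟨p, hp, rfl⟩ := Groth.Agent.LocCoh.exists_minimal_of_component hC
    haveI := hp.1.1
    rw [Groth.Agent.LocCoh.topDim_zeroLocus] at h2
    rw [hDC]
    have hp' : p.comap (Ideal.Quotient.mk a) ∈ (Ideal.span (s : Set A)).minimalPrimes := by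
      have : Ideal.span (s : Set A) = a := by simp [s, a]
      rw [this, Ideal.minimalPrimes_eq_comap]
      exact ⟨p, hp, rfl⟩
    have h3 := Groth.Agent.LocCoh.subdim_le_dim_quotient_add s hp'
    have heq : ringKrullDim (A ⧸ p.comap (Ideal.Quotient.mk a)) = ringKrullDim ((A ⧸ a) ⧸ p) := by
      have hmap : p = (p.comap (Ideal.Quotient.mk a)).map (Ideal.Quotient.mk a) :=
        (Ideal.map_comap_of_surjective _ Ideal.Quotient.mk_surjective _).symm
      refine ringKrullDim_eq_of_ringEquiv ((DoubleQuot.quotQuotEquivQuotOfLE ?_).symm.trans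
        (Ideal.quotEquivOfEq hmap.symm))
      intro z hz
      show Ideal.Quotient.mk a z ∈ p
      rw [Ideal.Quotient.eq_zero_iff_mem.2 hz]
      exact p.zero_mem
    rw [heq, h2] at h3
    have h4 : ((k + 2 : ℕ) : WithBot ℕ∞) ≤ topologicalKrullDim ↥(Subtype.val ⁻¹' PrimeSpectrum.zeroLocus (p : Set (A ⧸ a)) : Set ↥(FEt.puncturedSpec (A ⧸ a))) + ((m + 1 : ℕ) : WithBot ℕ∞) := by
      refine (hsub.trans h3).trans ?_
      rw [add_assoc, Nat.cast_add, Nat.cast_one, add_comm (1 : WithBot ℕ∞)]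
      exact add_le_add_right (add_le_add_left (by exact_mod_cast hcard) 1) _
    have := withBot_le_sub h4 (by omega)
    rwa [show k + 2 - (m + 1) = k - m + 1 by omega] at this
  · let Zb : Set (PrimeSpectrum (A ⧸ a)) := insert (IsLocalRing.closedPoint (A ⧸ a)) (Subtype.val '' Z)
    have hZb : IsClosed Zb ∧ topologicalKrullDim ↥Zb < ((k - m + 1 : ℕ) : WithBot ℕ∞) := by
      rcases Z.eq_empty_or_nonempty with he | hne
      · have hZb' : Zb = {IsLocalRing.closedPoint (A ⧸ a)} := Set.ext fun x => ⟨fun h => h.elim id (fun ⟨z, hz, _⟩ => absurd (show z ∈ (∅ : Set _) from he ▸ hz) (Set.notMem_empty z)), fun h => Or.inl h⟩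
        rw [hZb']
        refine ⟨IsLocalRing.isClosed_singleton_closedPoint (R := A ⧸ a), ?_⟩
        haveI : Unique ({IsLocalRing.closedPoint (A ⧸ a)} : Set (PrimeSpectrum (A ⧸ a))) := Set.uniqueSingleton _
        refine lt_of_le_of_lt (b := (0 : WithBot ℕ∞)) ?_ (by exact_mod_cast Nat.succ_pos _)
        haveI : Subsingleton (TopologicalSpace.IrreducibleCloseds ({IsLocalRing.closedPoint (A ⧸ a)} : Set (PrimeSpectrum (A ⧸ a)))) :=
          ⟨fun S T => SetLike.ext fun x => ⟨fun _ => by
            obtain ⟨y, hy⟩ := T.isIrreducible'.nonempty; exact (Subsingleton.elim y x) ▸ hy, fun _ => by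
            obtain ⟨y, hy⟩ := S.isIrreducible'.nonempty; exact (Subsingleton.elim y x) ▸ hy⟩⟩
        exact Order.krullDim_nonpos_of_subsingleton
      · obtain ⟨h1, h2⟩ := dim_insert hZ hne
        exact ⟨h1, h2 ▸ withBot_lt_add_one hZd⟩
    have hconn : _root_.IsConnected Zbᶜ := by
      by_contra hnc
      exact absurd (hcq.trans (iInf₂_le Zb ⟨hZb.1, hnc⟩)) (not_le.2 hZb.2)
    have e : Zbᶜ = Subtype.val '' Zᶜ := by
      ext x
      constructor
      · intro hx
        exact ⟨⟨x, fun h => hx (Or.inl h)⟩, fun h => hx (Or.inr ⟨_, h, rfl⟩), rfl⟩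
      · rintro ⟨z, hz, rfl⟩ (h | ⟨z', hz', h⟩)
        · exact z.2 h
        · exact hz (Subtype.ext h ▸ hz')
    rw [e] at hconn
    exact ⟨(Set.image_nonempty.1 hconn.nonempty), Topology.IsInducing.subtypeVal.isPreconnected_image.1 hconn.isPreconnected⟩

end Groth.Agent.S3362
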