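import Groth.Statements.S3363
import Groth.Agent.CAlgH3.VdimConn
import Groth.Agent.CAlgH3.FEtClopenFF
import Groth.Agent.CAlgH3.Serre
import Groth.Agent.FEtFF.Normal
import Groth.Agent.FEtFF.Generic
import Groth.Agent.FEtFF.PushforwardDepth
import Groth.Agent.FEtFF.Punctured
import Groth.Agent.CAlgMisc2.LocalFinite
import Groth.Agent.CommAlg4.ConeGraph

set_option autoImplicit false
universe u
open CategoryTheory CategoryTheory.Limits AlgebraicGeometry TopologicalSpace
open LefX

namespace Groth.Agent.S3363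

section helpers

open Groth.Agent

variable {A : Type u} [CommRing A] [IsDomain A] [IsNoetherianRing A] [IsLocalRing A] [IsIntegrallyClosed A]
  [IsAdicComplete (IsLocalRing.maximalIdeal A) A] {k : ℕ} (hdim : ((k + 2 : ℕ) : WithBot ℕ∞) ≤ ringKrullDim A)
  (f : Fin k → A) (hf : ∀ i, f i ∈ IsLocalRing.maximalIdeal A)

/-- The points off the closed point of a finite extension domain on which the `f i` vanish. -/
theorem isConnected_section {B : Type u} [CommRing B] [IsDomain B] [IsLocalRing B] [IsNoetherianRing B]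
    [IsAdicComplete (IsLocalRing.maximalIdeal B) B] {d : ℕ} (hd : ringKrullDim B = d) (hk : k + 2 ≤ d)
    (g : Fin k → B) (hg : ∀ i, g i ∈ IsLocalRing.maximalIdeal B) :
    _root_.IsConnected {Q : PrimeSpectrum B | Q ≠ IsLocalRing.closedPoint B ∧ ∀ i, g i ∈ Q.asIdeal} := by
  classical
  let s : Finset B := Finset.univ.image g
  have hs : s.card + 2 ≤ d := (Nat.add_le_add_right (Finset.card_image_le.trans (by simp)) 2).trans hk
  let J := Ideal.span (s : Set B)
  have hJm : J ≤ IsLocalRing.maximalIdeal B := Ideal.span_le.2 fun b hb => by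
    obtain ⟨i, -, rfl⟩ := Finset.mem_image.1 hb; exact hg i
  haveI : Nontrivial (B ⧸ J) := Ideal.Quotient.nontrivial_iff.2
    (ne_top_of_le_ne_top (IsLocalRing.maximalIdeal.isMaximal B).ne_top hJm)
  haveI : IsLocalRing (B ⧸ J) := IsLocalRing.of_surjective' (Ideal.Quotient.mk J) Ideal.Quotient.mk_surjective
  haveI : IsLocalHom (Ideal.Quotient.mk J) := IsLocalHom.of_surjective _ Ideal.Quotient.mk_surjective
  have hcon := CAlgH3.VdimConn.isConnected_punctured hd s hs (Ideal.Quotient.mk J) Ideal.Quotient.mk_surjective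
    (Ideal.mk_ker)
  have himg : PrimeSpectrum.comap (Ideal.Quotient.mk J) '' {P | P ≠ IsLocalRing.closedPoint (B ⧸ J)} =
      {Q : PrimeSpectrum B | Q ≠ IsLocalRing.closedPoint B ∧ ∀ i, g i ∈ Q.asIdeal} := by
    ext Q
    constructor
    · rintro ⟨P, hP, rfl⟩
      refine ⟨fun h => hP (PrimeSpectrum.comap_injective_of_surjective _ Ideal.Quotient.mk_surjective
        (h.trans (PrimeSpectrum.ext (IsLocalRing.maximalIdeal_comap (Ideal.Quotient.mk J)).symm))), fun i => ?_⟩
      show Ideal.Quotient.mk J (g i) ∈ P.asIdeal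
      rw [Ideal.Quotient.eq_zero_iff_mem.2 (Ideal.subset_span (Finset.mem_image_of_mem g (Finset.mem_univ i)))]
      exact P.asIdeal.zero_mem
    · rintro ⟨hQ, hgQ⟩
      have hJQ : Q ∈ PrimeSpectrum.zeroLocus (RingHom.ker (Ideal.Quotient.mk J) : Set B) := by
        rw [Ideal.mk_ker]
        exact Ideal.span_le.2 fun b hb => by
          obtain ⟨i, -, rfl⟩ := Finset.mem_image.1 hb; exact hgQ i
      rw [← range_comap_of_surjective _ _ Ideal.Quotient.mk_surjective] at hJQ
      obtain ⟨P, rfl⟩ := hJQ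
      exact ⟨P, fun h => hQ (by rw [show P = IsLocalRing.closedPoint _ from h]; exact IsLocalRing.comap_closedPoint _), rfl⟩
  rw [← himg]
  exact hcon.image _ (PrimeSpectrum.continuous_comap _).continuousOn

theorem dim_nat (B : Type u) [CommRing B] [IsNoetherianRing B] [IsLocalRing B] : ∃ d : ℕ, ringKrullDim B = d := by
  obtain ⟨d, hd⟩ := LocCoh.exists_dim_quotient_eq (⊥ : Ideal B) bot_ne_top
  exact ⟨d, (ringKrullDim_eq_of_ringEquiv (RingEquiv.quotientBot B)).symm.trans hd⟩

/-- The points of the punctured spectrum on which the `f i` vanish. -/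
def zset : Set ↥(FEt.puncturedSpec A) := {z | ∀ i, f i ∈ (z.1 : PrimeSpectrum A).asIdeal}

omit [IsDomain A] [IsNoetherianRing A] [IsIntegrallyClosed A] [IsAdicComplete (IsLocalRing.maximalIdeal A) A] in
theorem range_subschemeι :
    Set.range ((Spec.map (CommRingCat.ofHom (Ideal.Quotient.mk (Ideal.span (Set.range f))))).ker.comap
      (FEt.puncturedSpec A).ι).subschemeι = zset f := by
  rw [Scheme.IdealSheafData.range_subschemeι, Scheme.IdealSheafData.support_comap, Closeds.coe_preimage,
    Scheme.Hom.support_ker]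
  have h1 : closure (Set.range (PrimeSpectrum.comap (Ideal.Quotient.mk (Ideal.span (Set.range f))))) =
      PrimeSpectrum.zeroLocus (Set.range f) := by
    rw [range_comap_of_surjective _ _ Ideal.Quotient.mk_surjective, Ideal.mk_ker,
      (PrimeSpectrum.isClosed_zeroLocus _).closure_eq, PrimeSpectrum.zeroLocus_span]
  refine (congrArg (fun S : Set (PrimeSpectrum A) => (Subtype.val : ↥(FEt.puncturedSpec A) → PrimeSpectrum A) ⁻¹' S) h1).trans ?_
  ext z
  exact Set.range_subset_iff

include hdim hf in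
theorem isConnected_zset : _root_.IsConnected (zset f) := by
  obtain ⟨d, hd⟩ := dim_nat A
  have hk : k + 2 ≤ d := by rw [hd] at hdim; exact_mod_cast hdim
  have h := isConnected_section hd hk f hf
  have himg : (Subtype.val : ↥(FEt.puncturedSpec A) → PrimeSpectrum A) '' zset f =
      {Q : PrimeSpectrum A | Q ≠ IsLocalRing.closedPoint A ∧ ∀ i, f i ∈ Q.asIdeal} := by
    ext Q
    exact ⟨fun ⟨z, hz, e⟩ => e ▸ ⟨z.2, hz⟩, fun hQ => ⟨⟨Q, hQ.1⟩, hQ.2, rfl⟩⟩
  rw [← himg] at h
  exact ⟨h.nonempty.of_image, (Topology.IsInducing.subtypeVal.isPreconnected_image).1 h.2⟩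

include hdim hf in
/-- Irreducible components of finite étale covers meet the section in connected sets. -/
theorem isConnected_component {Y : Scheme.{u}} (g : Y ⟶ (FEt.puncturedSpec A : Scheme.{u})) [IsFinite g] [Etale g]
    (C : Set Y) (hC : C ∈ irreducibleComponents Y) :
    _root_.IsConnected {y : Y | y ∈ C ∧ g y ∈ zset f} := by
  classical
  let U := FEt.puncturedSpec A
  have hk2 : (2 : WithBot ℕ∞) ≤ ringKrullDim A :=
    le_trans (by exact_mod_cast Nat.le_add_left 2 k) hdim
  have hU := FEtFF.Hartogs.two_le_depth_stalk (CAlgH3.two_le_depth_of_normal hk2)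
  let q := g ≫ U.ι
  let π := q.fromNormalization
  haveI : IsFinite π := FEtFF.Pushforward.isFinite_fromNormalization g hU
  obtain ⟨e, he⟩ := FEtFF.Pushforward.exists_pullback_iso g
  let ι₁ : Y ⟶ q.normalization := e.inv ≫ pullback.fst π U.ι
  have hι₁ : ι₁ ≫ π = g ≫ U.ι := by
    rw [Category.assoc, pullback.condition, ← he, Category.assoc, Iso.inv_hom_id_assoc]
  haveI : IsAffine q.normalization := isAffine_of_isAffineHom π
  let B := Γ(q.normalization, ⊤)
  let φ : CommRingCat.of A ⟶ B := (Scheme.ΓSpecIso (CommRingCat.of A)).inv ≫ π.appTop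
  have hπ : q.normalization.isoSpec.hom ≫ Spec.map φ = π := by
    rw [Spec.map_comp, Scheme.isoSpec_hom_naturality_assoc, Scheme.isoSpec_Spec_hom, ← Spec.map_comp]
    simp
  have hfin : φ.hom.Finite := by
    refine (IsFinite.SpecMap_iff _).1 ?_
    rw [← IsIso.eq_inv_comp] at hπ; rw [hπ]; infer_instance
  let ι : Y ⟶ Spec B := ι₁ ≫ q.normalization.isoSpec.hom
  have hι : ι ≫ Spec.map φ = g ≫ U.ι := by rw [Category.assoc, hπ, hι₁]
  haveI : IsOpenImmersion ι := inferInstance
  have hιπ : ∀ y, PrimeSpectrum.comap φ.hom (ι y) = (g y).1 := fun y => by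
    show (Spec.map φ) (ι y) = U.ι (g y)
    rw [← Scheme.Hom.comp_apply, hι, Scheme.Hom.comp_apply]
  have hrange : ∀ Q : PrimeSpectrum B, PrimeSpectrum.comap φ.hom Q ≠ IsLocalRing.closedPoint A → Q ∈ Set.range ι := by
    intro Q hQ
    have hmem : q.normalization.isoSpec.inv Q ∈ π ⁻¹ᵁ U := by
      show π (q.normalization.isoSpec.inv Q) ∈ U
      rw [← hπ, Scheme.Hom.comp_apply, ← Scheme.Hom.comp_apply q.normalization.isoSpec.inv, Iso.inv_hom_id]
      exact hQ
    have : q.normalization.isoSpec.inv Q ∈ Set.range (pullback.fst π U.ι) := by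
      rw [Scheme.Pullback.range_fst, Scheme.Opens.range_ι]; exact hmem
    obtain ⟨w, hw⟩ := this
    refine ⟨e.hom w, ?_⟩
    show (ι₁ ≫ q.normalization.isoSpec.hom) (e.hom w) = Q
    rw [← Scheme.Hom.comp_apply, Category.assoc, Iso.hom_inv_id_assoc, Scheme.Hom.comp_apply, hw,
      ← Scheme.Hom.comp_apply, Iso.inv_hom_id]
    rfl
  -- the component
  have hgp := hC.1.isGenericPoint_genericPoint (isClosed_of_mem_irreducibleComponents C hC)
  let η := hC.1.genericPoint
  let B' := B ⧸ (ι η).asIdeal
  letI : Algebra A B := φ.hom.toAlgebra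
  haveI : Module.Finite A B := RingHom.finite_algebraMap.1 hfin
  haveI : Module.Finite A B' := Module.Finite.of_surjective (Ideal.Quotient.mkₐ A (ι η).asIdeal).toLinearMap
    Ideal.Quotient.mk_surjective
  haveI : IsLocalRing B' := CAlgMisc2.isLocalRing_of_finite_domain_complete (A := A)
  haveI : IsNoetherianRing B' := IsNoetherianRing.of_finite A B'
  have hmB : (IsLocalRing.maximalIdeal B').comap (algebraMap A B') = IsLocalRing.maximalIdeal A :=
    IsLocalRing.eq_maximalIdeal (Ideal.isMaximal_comap_of_isIntegral_of_isMaximal _)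
  haveI : IsAdicComplete (IsLocalRing.maximalIdeal B') B' :=
    CAlgMisc2.isAdicComplete_maximalIdeal_of_finite (A := A)
  have hη0 : ((g η).1 : PrimeSpectrum A).asIdeal = ⊥ := by
    let z : U := ⟨⟨⊥, Ideal.isPrime_bot⟩, fun h => by
      have hm : IsLocalRing.maximalIdeal A = ⊥ := (congrArg PrimeSpectrum.asIdeal h).symm
      rw [ringKrullDim_eq_zero_of_isField (IsLocalRing.isField_iff_maximalIdeal_eq.2 hm)] at hk2
      exact absurd hk2 (by decide)⟩
    have hz : z ⤳ g η := (Topology.IsInducing.subtypeVal.specializes_iff).1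
      ((PrimeSpectrum.le_iff_specializes _ _).1 bot_le)
    obtain ⟨y, hy, hy2⟩ := Flat.generalizingMap g hz
    have : y = η := by
      have h1 : C ⊆ closure {y} := hgp.def ▸ (closure_minimal (Set.singleton_subset_iff.2 hy.mem_closure) isClosed_closure)
      have h2 : closure {y} = C := Set.Subset.antisymm (hC.2 isIrreducible_singleton.closure h1) h1
      exact (show IsGenericPoint y C from h2).eq hgp
    rw [← this, hy2]
  have hinj : Function.Injective (algebraMap A B') := by
    rw [injective_iff_map_eq_zero]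
    intro a ha
    have : a ∈ ((g η).1 : PrimeSpectrum A).asIdeal := by
      rw [← hιπ]
      exact (Ideal.Quotient.eq_zero_iff_mem (I := (ι η).asIdeal)).1 (show Ideal.Quotient.mk _ (φ.hom a) = 0 from ha)
    rwa [hη0, Ideal.mem_bot] at this
  obtain ⟨d, hd⟩ := dim_nat B'
  have hk : k + 2 ≤ d := by
    rw [DimLib.ringKrullDim_eq_of_isIntegral (S := B') hinj, hd] at hdim
    exact_mod_cast hdim
  have hcon := isConnected_section hd hk (fun i => algebraMap A B' (f i)) fun i => hmB.ge (hf i)
  have himg : PrimeSpectrum.comap (Ideal.Quotient.mk (ι η).asIdeal) ''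
      {Q : PrimeSpectrum B' | Q ≠ IsLocalRing.closedPoint B' ∧ ∀ i, algebraMap A B' (f i) ∈ Q.asIdeal} =
      ι '' {y : Y | y ∈ C ∧ g y ∈ zset f} := by
    ext P
    constructor
    · rintro ⟨Q, ⟨hQ, hfQ⟩, rfl⟩
      have hne : PrimeSpectrum.comap φ.hom (PrimeSpectrum.comap (Ideal.Quotient.mk (ι η).asIdeal) Q) ≠
          IsLocalRing.closedPoint A := by
        intro h
        apply hQ
        refine PrimeSpectrum.ext (IsLocalRing.eq_maximalIdeal ?_)
        haveI : (Q.asIdeal.comap (algebraMap A B')).IsMaximal := by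
          rw [show Q.asIdeal.comap (algebraMap A B') = IsLocalRing.maximalIdeal A from congrArg PrimeSpectrum.asIdeal h]
          infer_instance
        exact Ideal.isMaximal_of_isIntegral_of_isMaximal_comap (R := A) Q.asIdeal inferInstance
      obtain ⟨y, hy⟩ := hrange _ hne
      refine ⟨y, ⟨?_, fun i => ?_⟩, hy⟩
      · have hle : (ι η).asIdeal ≤ (ι y).asIdeal := by
          rw [hy]
          intro b hb
          show Ideal.Quotient.mk _ b ∈ Q.asIdeal
          rw [Ideal.Quotient.eq_zero_iff_mem.2 hb]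
          exact Q.asIdeal.zero_mem
        exact (ι.isOpenEmbedding.isInducing.specializes_iff.1
          ((PrimeSpectrum.le_iff_specializes _ _).1 hle)).mem_closed
          (isClosed_of_mem_irreducibleComponents C hC) hgp.mem
      · show f i ∈ ((g y).1 : PrimeSpectrum A).asIdeal
        rw [← hιπ, hy]
        exact hfQ i
    · rintro ⟨y, ⟨hyC, hyZ⟩, rfl⟩
      have hle : (ι η).asIdeal ≤ (ι y).asIdeal :=
        (PrimeSpectrum.le_iff_specializes (ι η) (ι y)).2 ((hgp.specializes hyC).map ι.continuous)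
      have hQ : ι y ∈ PrimeSpectrum.zeroLocus (RingHom.ker (Ideal.Quotient.mk (ι η).asIdeal) : Set B) := by
        rw [Ideal.mk_ker]; exact hle
      rw [← range_comap_of_surjective _ _ Ideal.Quotient.mk_surjective] at hQ
      obtain ⟨Q, hQ⟩ := hQ
      refine ⟨Q, ⟨fun hcl => ?_, fun i => ?_⟩, hQ⟩
      · refine (g y).2 ?_
        rw [← hιπ, ← hQ, hcl]
        exact PrimeSpectrum.ext hmB
      · have := hyZ i
        rw [← hιπ, ← hQ] at this
        exact this
  have h := hcon.image _ (PrimeSpectrum.continuous_comap (Ideal.Quotient.mk (ι η).asIdeal)).continuousOn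
  rw [himg] at h
  exact ⟨h.nonempty.of_image, (ι.isOpenEmbedding.isInducing.isPreconnected_image).1 h.2⟩

include hdim hf in
/-- Clopen subsets of the section of a cover extend uniquely. -/
theorem existsUnique_clopen {Z : Scheme.{u}} (i : Z ⟶ (FEt.puncturedSpec A : Scheme.{u})) [IsClosedImmersion i]
    (hi : Set.range i = zset f) {Y : Scheme.{u}} (g : Y ⟶ (FEt.puncturedSpec A : Scheme.{u})) [IsFinite g] [Etale g]
    (V : Set ↥(pullback g i)) (hV : IsClopen V) :
    ∃! W : Set ↥Y, IsClopen W ∧ (pullback.fst g i).base ⁻¹' W = V := by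
  classical
  haveI : Nonempty (FEt.puncturedSpec A : Scheme.{u}) := (isConnected_zset hdim f hf).nonempty.to_subtype.map Subtype.val
  haveI : IsIntegral (FEt.puncturedSpec A : Scheme.{u}) := inferInstance
  have hn := FEtFF.isNormalScheme_of_finite_etale (X := (FEt.puncturedSpec A : Scheme.{u}))
    (FEtFF.isNormalScheme_open (CommAlg4.Cone.isNormalScheme_spec (CommRingCat.of A)) _) g
  haveI : IsLocallyNoetherian Y := LocallyOfFiniteType.isLocallyNoetherian g
  haveI : CompactSpace Y := by
    haveI : CompactSpace (FEt.puncturedSpec A : Scheme.{u}) :=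
      isCompact_iff_compactSpace.1 (NoetherianSpace.isCompact (FEt.puncturedSpec A : Set (Spec (CommRingCat.of A))))
    exact QuasiCompact.compactSpace_of_compactSpace g
  haveI : IsNoetherian Y := {}
  let j := pullback.fst g i
  haveI : IsClosedImmersion j := MorphismProperty.pullback_fst _ _ ‹IsClosedImmersion i›
  have hr : Set.range j = g ⁻¹' zset f := by rw [Scheme.Pullback.range_fst, hi]
  have hfin : (irreducibleComponents Y).Finite := NoetherianSpace.finite_irreducibleComponents
  have huniq : ∀ C ∈ irreducibleComponents Y, ∀ C' ∈ irreducibleComponents Y, (C ∩ C').Nonempty → C = C' := by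
    intro C hC C' hC' ⟨y, hy, hy'⟩
    haveI := (hn y).1
    have hg1 := hC.1.isGenericPoint_genericPoint (isClosed_of_mem_irreducibleComponents C hC)
    have hg2 := hC'.1.isGenericPoint_genericPoint (isClosed_of_mem_irreducibleComponents C' hC')
    have hmin : ∀ {D : Set Y}, D ∈ irreducibleComponents Y → ∀ {a : Y}, IsGenericPoint a D → ∀ z, z ⤳ a → z = a := by
      intro D hD a ha z hz
      have h1 : D ⊆ closure {z} := ha.def ▸ closure_minimal (Set.singleton_subset_iff.2 hz.mem_closure) isClosed_closure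
      have h2 : closure {z} = D := Set.Subset.antisymm (hD.2 isIrreducible_singleton.closure h1) h1
      exact (show IsGenericPoint z D from h2).eq ha
    have heq := FEtFF.eq_of_specializes_of_isDomain y (hg1.specializes hy) (hg2.specializes hy') (hmin hC hg1) (hmin hC' hg2)
    rw [← hg1.def, ← hg2.def, heq]
  -- each component lies on one side
  have hside : ∀ C ∈ irreducibleComponents Y, (j ⁻¹' C).Nonempty ∧ (j ⁻¹' C ⊆ V ∨ j ⁻¹' C ⊆ Vᶜ) := by
    intro C hC
    have hc := isConnected_component hdim f hf g C hC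
    have hset : {y : Y | y ∈ C ∧ g y ∈ zset f} = j '' (j ⁻¹' C) := by
      rw [Set.image_preimage_eq_inter_range, hr]; rfl
    rw [hset] at hc
    have hp := (j.isClosedEmbedding.isInducing.isPreconnected_image).1 hc.2
    refine ⟨hc.nonempty.of_image, ?_⟩
    by_cases h : (j ⁻¹' C ∩ V).Nonempty
    · exact Or.inl (hp.subset_isClopen hV h)
    · exact Or.inr fun z hz hzV => h ⟨z, hz, hzV⟩
  let S := {C ∈ irreducibleComponents Y | j ⁻¹' C ⊆ V}
  let S' := {C ∈ irreducibleComponents Y | ¬ j ⁻¹' C ⊆ V}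
  have hcl : ∀ T ⊆ irreducibleComponents Y, IsClosed (⋃₀ T) := fun T hT => by
    rw [Set.sUnion_eq_biUnion]
    exact (hfin.subset hT).isClosed_biUnion fun C hC => isClosed_of_mem_irreducibleComponents C (hT hC)
  have hcompl : (⋃₀ S)ᶜ = ⋃₀ S' := by
    refine Set.Subset.antisymm (fun y hy => ?_) ?_
    · refine ⟨irreducibleComponent y, ⟨irreducibleComponent_mem_irreducibleComponents y, fun h => hy ?_⟩,
        mem_irreducibleComponent⟩
      exact ⟨_, ⟨irreducibleComponent_mem_irreducibleComponents y, h⟩, mem_irreducibleComponent⟩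
    · rintro y ⟨C', ⟨hC', hC'V⟩, hyC'⟩ ⟨C, ⟨hC, hCV⟩, hyC⟩
      exact hC'V ((huniq C hC C' hC' ⟨y, hyC, hyC'⟩) ▸ hCV)
  have hW : IsClopen (⋃₀ S) := ⟨hcl S fun C hC => hC.1,
    isClosed_compl_iff.1 (hcompl ▸ hcl S' fun C hC => hC.1)⟩
  refine ⟨⋃₀ S, ⟨hW, Set.Subset.antisymm ?_ fun v hv => ?_⟩, ?_⟩
  · rintro v ⟨C, ⟨hC, hCV⟩, hvC⟩
    exact hCV hvC
  · let C := irreducibleComponent (j v)
    refine ⟨C, ⟨irreducibleComponent_mem_irreducibleComponents _, ?_⟩, mem_irreducibleComponent⟩
    rcases (hside C (irreducibleComponent_mem_irreducibleComponents _)).2 with h | h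
    · exact h
    · exact absurd hv (h (show j v ∈ C from mem_irreducibleComponent))
  · rintro W ⟨hWc, hWV⟩
    ext y
    let C := irreducibleComponent y
    have hC := irreducibleComponent_mem_irreducibleComponents y
    obtain ⟨⟨v, hv⟩, -⟩ := hside C hC
    constructor
    · intro hy
      refine ⟨C, ⟨hC, fun w hw => ?_⟩, mem_irreducibleComponent⟩
      have := hC.1.isConnected.isPreconnected.subset_isClopen hWc ⟨y, mem_irreducibleComponent, hy⟩ hw
      exact hWV.le this
    · rintro ⟨C', ⟨hC', hC'V⟩, hy⟩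
      obtain ⟨⟨w, hw⟩, -⟩ := hside C' hC'
      exact hC'.1.isConnected.isPreconnected.subset_isClopen hWc ⟨j w, hw, hWV.ge (hC'V hw)⟩ hy

end helpers

/-- Let A be a normal complete Noetherian local domain of dimension ≥ k + 2, X' its punctured spectrum,
f_1, …, f_k elements of the maximal ideal and Y' = X' ∩ V(f_1, …, f_k), the closed subscheme of X'
cut out by the f_i. Then Y' is connected and restriction of finite étale covers from X' to Y' is
fully faithful (for the fundamental groups: π₁(Y') → π₁(X') is surjective). -/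
theorem result (A : Type u) [CommRing A] [IsDomain A] [IsNoetherianRing A] [IsLocalRing A] [IsIntegrallyClosed A] [IsAdicComplete (IsLocalRing.maximalIdeal A) A] (k : ℕ) (hdim : ((k + 2 : ℕ) : WithBot ℕ∞) ≤ ringKrullDim A) (f : Fin k → A) (hf : ∀ i, f i ∈ IsLocalRing.maximalIdeal A) : ConnectedSpace ↥(((Spec.map (CommRingCat.ofHom (Ideal.Quotient.mk (Ideal.span (Set.range f))))).ker.comap (FEt.puncturedSpec A).ι).subscheme) ∧ (FEt.restrict ((Spec.map (CommRingCat.ofHom (Ideal.Quotient.mk (Ideal.span (Set.range f))))).ker.comap (FEt.puncturedSpec A).ι).subschemeι).Full ∧ (FEt.restrict ((Spec.map (CommRingCat.ofHom (Ideal.Quotient.mk (Ideal.span (Set.range f))))).ker.comap (FEt.puncturedSpec A).ι).subschemeι).Faithful := by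
  have hr := range_subschemeι f
  refine ⟨?_, Groth.Agent.CAlgH3.FEtClopenFF.restrict_full_faithful_of_couple _
    (fun Y g hg hg' V hV => haveI := hg; haveI := hg'; existsUnique_clopen hdim f hf _ hr g V hV)⟩
  have h := isConnected_zset hdim f hf
  rw [← hr] at h
  haveI := Set.range_nonempty_iff_nonempty.1 h.nonempty
  exact connectedSpace_iff_univ.2 ⟨Set.univ_nonempty,
    (Scheme.Hom.isClosedEmbedding _).isInducing.isPreconnected_image.1 (Set.image_univ ▸ h.2)⟩

end Groth.Agent.S3363
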