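import Groth.Statements.S3367
import Groth.Agent.Et18.PurityDepth.Local
import Groth.Agent.Et18.EtaleLocalRing
import Groth.Agent.CAlgH.CIHom
-- import your own Groth.Agent.* helpers here

set_option autoImplicit false
universe u
open CategoryTheory CategoryTheory.Limits AlgebraicGeometry Opposite
open EtDepth

namespace Groth.Agent.S3367

/-- Let X be a locally Noetherian scheme and j : U → X an open immersion with closed complement Y.
Assume either that every local ring of X is regular and dim O_{X,y} ≥ 2 for all y ∈ Y, or that every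
local ring of X is a complete intersection (quotient of a regular local ring by a regular sequence)
and dim O_{X,y} ≥ 3 for all y ∈ Y. Then the Y-homotopic depth of X is ≥ 3: for every scheme X' étale
over X, base change of finite étale covers from X' to X' ×_X U is an equivalence of categories. -/
theorem result {X U : Scheme.{u}} [IsLocallyNoetherian X] (j : U ⟶ X) [IsOpenImmersion j] (h : (∀ x : X, IsRegularLocalRing (X.presheaf.stalk x)) ∧ (∀ y : X, y ∉ Set.range j.base → (2 : WithBot ℕ∞) ≤ ringKrullDim (X.presheaf.stalk y)) ∨ (∀ x : X, SGA2.IsAbsCompleteIntersection (X.presheaf.stalk x)) ∧ (∀ y : X, y ∉ Set.range j.base → (3 : WithBot ℕ∞) ≤ ringKrullDim (X.presheaf.stalk y))) : EtDepth.HtpDepthGE3 j := by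
  intro X' g hg
  haveI : IsLocallyNoetherian X' := LocallyOfFiniteType.isLocallyNoetherian g
  let s := pullback.snd j g
  let U' := s.opensRange
  have hnot : ∀ x : X', x ∉ U' → g x ∉ Set.range j.base := fun x hx hgx => hx (by
    show x ∈ Set.range (pullback.snd j g).base
    rw [Scheme.Pullback.range_snd]
    exact hgx)
  have hgood : ∀ x : X', x ∉ U' → (2 : ℕ∞) ≤ _root_.LocCoh.depth (X'.presheaf.stalk x) (X'.presheaf.stalk x) ∧
      FEt.PurityHolds (X'.presheaf.stalk x) := fun x hx => by
    have hdim := Groth.Agent.Et18.ringKrullDim_stalk_eq_of_etale g x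
    rcases h with ⟨hr, hd⟩ | ⟨hc, hd⟩
    · haveI := (Groth.Agent.Et18.isRegularLocalRing_stalk_iff_of_etale g x).2 (hr _)
      exact Groth.Agent.Et18.PurityDepth.depth_purity_of_regular _ (hdim ▸ hd _ (hnot x hx))
    · have hd' := hd _ (hnot x hx)
      obtain ⟨hdep, -⟩ := Groth.Agent.Et18.PurityDepth.depth_purity_of_absCI _ (hc (g x)) hd'
      obtain ⟨hf, hm⟩ := Groth.Agent.Et18.stalkMap_flat_and_map_maximalIdeal g x
      obtain ⟨B, _, _, rs, -, hreg, ⟨e⟩⟩ := hc (g x)
      let π : B →+* X.presheaf.stalk (g x) := e.symm.toRingHom.comp (Ideal.Quotient.mk _)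
      have hk : RingHom.ker π = Ideal.ofList rs := by
        ext b
        show e.symm (Ideal.Quotient.mk _ b) = 0 ↔ _
        rw [map_eq_zero_iff _ e.symm.injective, Ideal.Quotient.eq_zero_iff_mem]
      have hCI : Pi1.IsCompleteIntersection (X.presheaf.stalk (g x)) :=
        (Groth.Agent.CAlgH.CIPresentation.isCompleteIntersection_iff π
          (e.symm.surjective.comp Ideal.Quotient.mk_surjective)).2 ⟨rs, hreg, hk.symm⟩
      algebraize [(g.stalkMap x).hom]
      haveI : IsLocalHom (algebraMap (X.presheaf.stalk (g x)) (X'.presheaf.stalk x)) :=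
        inferInstanceAs <| IsLocalHom (g.stalkMap x).hom
      refine ⟨(Groth.Agent.FEtFF.PurityCI.depth_eq_of_map_eq _ _ hm).symm ▸ hdep, ?_⟩
      let F := X'.presheaf.stalk x ⧸ (IsLocalRing.maximalIdeal (X.presheaf.stalk (g x))).map
        (algebraMap (X.presheaf.stalk (g x)) (X'.presheaf.stalk x))
      have eF : IsLocalRing.ResidueField (X'.presheaf.stalk x) ≃+* F := Ideal.quotEquivOfEq hm.symm
      haveI : IsRegularLocalRing (IsLocalRing.ResidueField (X'.presheaf.stalk x)) := inferInstance
      haveI : IsRegularLocalRing F := IsRegularLocalRing.of_ringEquiv eF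
      exact Groth.Agent.FEtFF.PurityCI.purityHolds_of_completeIntersection _
        (Groth.Agent.CAlgH.AvramovCI.avramov.2
          ⟨hCI, Groth.Agent.CAlgH.CIHom.isCompleteIntersection_of_regularLocal⟩) (hdim ▸ hd')
  obtain ⟨hfull, hfaith⟩ := Groth.Agent.FEtFF.Hartogs.restrict_full_faithful_of_depth U' fun x hx => (hgood x hx).1
  haveI := Groth.Agent.FEtFF.PurityGlobal.essSurj_of_purityHolds U' (fun x hx => (hgood x hx).1)
    (fun x hx => (hgood x hx).2)
  haveI : (FEt.restrict U'.ι).IsEquivalence := { }
  haveI := Groth.Agent.Et18.PurityDepth.restrict_isEquivalence_of_isIso s.isoOpensRange.hom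
  exact Functor.isEquivalence_of_iso
    (Groth.Agent.Et18.PurityDepth.restrictCompIso s.isoOpensRange.hom U'.ι s s.isoOpensRange_hom_ι.symm).symm

end Groth.Agent.S3367
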