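import Groth.Statements.S3374
import Groth.Agent.Lef23.GrAlgz.Flat

set_option autoImplicit false
universe u
open CategoryTheory CategoryTheory.Limits AlgebraicGeometry
open LefX

namespace Groth.Agent.S3374

open Groth.Agent.Formal2Lib in
set_option maxHeartbeats 800000 in
theorem algebraization {R : CommRingCat.{u}} [IsNoetherianRing R] (𝔞 J : Ideal R) (V : (Spec R).Opens)
    (hV : V = LocCoh.puncturedOpen R 𝔞) (I : (↑V : Scheme.{u}).IdealSheafData)
    (hI : I = (Spec.map (CommRingCat.ofHom (Ideal.Quotient.mk J))).ker.comap V.ι)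
    (𝔐 : FSch.ModSys (FSch.completionAlong (↑V : Scheme.{u}) I)) (hlf : LefX.LevelwiseFinLocFree 𝔐)
    [IsAdicComplete J R] (hb : Groth.Agent.Lef23.GrAlgz.HasBasis J)
    (h3 : ∀ i ≤ 2, Subsingleton (_root_.LocCoh.H 𝔞 i (R ⧸ J))) :
    ∃ F : (↑V : Scheme.{u}).Modules, Coh.IsCoh F ∧ Nonempty (FSch.completionMod I F ≅ 𝔐) := by
  subst hV
  exact Groth.Agent.Lef23.GrAlgz.exists_algebraization 𝔞 J I (by rw [hI]; rfl) 𝔐 hlf hb h3

/-- Let A be a Noetherian local ring, J a proper ideal such that (i) A/J has depth ≥ 3, (ii) every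
J^n/J^(n+1) is a free A/J-module (gr_J(A) is free over A/J), (iii) A is separated and complete for
the J-adic topology. Let U be the punctured spectrum of A, U_0 = U ∩ V(J) and Û the completion of U
along U_0. Then (a) for every finite locally free O_U-module D the map Hom(D, O_U) → lim_n Hom(D,
O_U/J^(n+1)O_U) is bijective (the completion functor is fully faithful on finite locally free
modules), and (b) every levelwise finite locally free system of coherent modules on Û is isomorphic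
to the completion of a coherent (not necessarily locally free) O_U-module. -/
theorem result (A : Type u) [CommRing A] [IsLocalRing A] [IsNoetherianRing A] (J : Ideal A) (hJ : J ≠ ⊤) [IsLocalRing (A ⧸ J)] (hd : (3 : ℕ∞) ≤ LocCoh.depth (A ⧸ J) (A ⧸ J)) (hgr : ∀ n : ℕ, Module.Free (A ⧸ J) (↥(J ^ n) ⧸ (J • (⊤ : Submodule A ↥(J ^ n))))) [IsAdicComplete J A] : (∀ D : (↑(FEt.puncturedSpec A) : Scheme.{u}).Modules, FlatMod.IsFinLocFree D → Lef.HomToFormalBijective ((Spec.map (CommRingCat.ofHom (Ideal.Quotient.mk J))).ker.comap (FEt.puncturedSpec A).ι) D) ∧ (∀ 𝔐 : FSch.ModSys (FSch.completionAlong (↑(FEt.puncturedSpec A) : Scheme.{u}) ((Spec.map (CommRingCat.ofHom (Ideal.Quotient.mk J))).ker.comap (FEt.puncturedSpec A).ι)), LefX.LevelwiseFinLocFree 𝔐 → ∃ F : (↑(FEt.puncturedSpec A) : Scheme.{u}).Modules, Coh.IsCoh F ∧ Nonempty (FSch.completionMod ((Spec.map (CommRingCat.ofHom (Ideal.Quotient.mk J))).ker.comap (FEt.puncturedSpec A).ι) F ≅ 𝔐)) := by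
  refine ⟨fun D hD => Groth.Agent.Lef23.GrFree.formalBijective A J hJ hd hgr D hD, fun 𝔐 h𝔐 => ?_⟩
  refine algebraization (R := CommRingCat.of A) (IsLocalRing.maximalIdeal A) J _
    (Groth.Agent.Formal2Lib.Punct.puncturedSpec_eq A) _ rfl 𝔐 h𝔐 (Groth.Agent.Lef23.GrAlgz.hasBasis_of_flat J fun n => haveI := hgr n; inferInstance) fun i hi => ?_
  refine (Groth.Agent.LocCoh.natCast_le_idealDepth_iff_H (IsLocalRing.maximalIdeal A) (A ⧸ J) 3).1 ?_ i (by omega)
  show ((3 : ℕ) : ℕ∞) ≤ _root_.LocCoh.depth A (A ⧸ J)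
  rw [← Groth.Agent.CAlgH3.depth_of_surjective (R := A) (S := A ⧸ J) Ideal.Quotient.mk_surjective]
  exact hd

end Groth.Agent.S3374
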