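import Groth.Statements.S3375
import Groth.Agent.Et18.CdField
-- import your own Groth.Agent.* helpers here

set_option autoImplicit false
universe u
open CategoryTheory CategoryTheory.Limits AlgebraicGeometry Opposite
open EtDepth

namespace Groth.Agent.S3375

/-- Let K be a field, ℓ a prime number invertible in K, and F a nonzero constructible ℓ-torsion abelian
sheaf on the small étale site of Spec K. Suppose the ℓ-cohomological dimension of K is exactly n
(cohomology of ℓ-torsion sheaves vanishes above degree n, and not above any smaller degree). Then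
there is a finite separable extension L of K such that H^n(Spec L, F|_L) is nonzero. -/
theorem result (K : Type u) [Field K] (ℓ : ℕ) (hℓ : ℓ.Prime) (hℓK : (ℓ : K) ≠ 0) (F : EtCoh.Ab (Spec (CommRingCat.of K))) (hF : EtDepth.IsLTorsion ℓ F) (hFc : EtPBC.IsConstructible F) (hF0 : ¬ IsZero F) (n : ℕ) (hcd : EtDepth.CohDimLLE (Spec (CommRingCat.of K)) ℓ n) (hcd' : ∀ d : ℕ, d < n → ¬ EtDepth.CohDimLLE (Spec (CommRingCat.of K)) ℓ d) : ∃ (L : Type u) (_ : Field L) (_ : Algebra K L) (_ : Module.Finite K L) (_ : Algebra.IsSeparable K L), Nontrivial (EtCoh.H (Spec (CommRingCat.of L)) ((EtCoh.pull (Spec.map (CommRingCat.ofHom (algebraMap K L)))).obj F) n) := by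
  open Groth.Agent.Et18 Groth.Agent.Et18.CdField in
  classical
  by_contra hne
  have hF' : EtAcyc.IsLTorsion {ℓ} F := (isLTorsion_iff hℓ F).1 hF
  have hcdK : CdL (Spec (CommRingCat.of K)) {ℓ} n := fun G hG q hq =>
    hcd G ((isLTorsion_iff hℓ G).2 hG) q hq
  have hvan : ∀ G, EtAcyc.IsLTorsion {ℓ} G → Subsingleton (EtCoh.H (Spec (CommRingCat.of K)) G n) :=
    top_vanishing K hℓ F hF' hFc hF0 n hcdK fun L _ _ _ _ => by
      rw [← not_nontrivial_iff_subsingleton]
      exact fun h => hne ⟨L, inferInstance, inferInstance, inferInstance, inferInstance, h⟩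
  rcases n with _ | d
  · refine not_subsingleton_H_zero (Spec (CommRingCat.of K)) hℓ
      (hvan _ (isLTorsion_cst _ fun a => ⟨ℓ, ⟨hℓ.pos, fun p hp hd =>
        (Nat.prime_dvd_prime_iff_eq hp hℓ).1 hd⟩, ULift.down_injective ?_⟩))
    change ℓ • a.down = (0 : ZMod ℓ)
    rw [nsmul_eq_mul, ZMod.natCast_self, zero_mul]
  · refine hcd' d (Nat.lt_succ_self d) fun G hG q hq => ?_
    rcases lt_or_eq_of_le (Nat.succ_le_of_lt hq) with h | h
    · exact hcd G hG q h
    · subst h
      exact hvan G ((isLTorsion_iff hℓ G).1 hG)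

end Groth.Agent.S3375
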