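import Groth.Statements.S3378
import Groth.Agent.Lef23.GrFree
import Groth.Agent.Lef23.PurePair
import Groth.Agent.CAlgH.ParaGrMain
import Groth.Agent.S0335

set_option autoImplicit false
universe u
open CategoryTheory CategoryTheory.Limits AlgebraicGeometry
open LefX

namespace Groth.Agent.S3378

theorem connected (R : Type u) [CommRing R] [IsLocalRing R] [IsNoetherianRing R] (h : (3 : ℕ∞) ≤ LocCoh.depth R R) :
    ConnectedSpace ↥(↑(FEt.puncturedSpec R) : Scheme.{u}) := by
  have h1 := Groth.Agent.S0335.result R (le_trans (by decide) h)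
  have h2 : _root_.IsConnected ((FEt.puncturedSpec R : Set ↥(Spec (CommRingCat.of R)))) := by
    have e : {x : PrimeSpectrum R | x.asIdeal ≠ IsLocalRing.maximalIdeal R} =
        (show Set (PrimeSpectrum R) from
          (FEt.puncturedSpec R : Set ↥(Spec (CommRingCat.of R)))) :=
      Set.ext fun p => (not_congr (PrimeSpectrum.ext_iff (x := p) (y := IsLocalRing.closedPoint R))).symm
    rw [e] at h1
    exact h1
  exact isConnected_iff_connectedSpace.1 h2


/-- Let A be a Noetherian local ring, J a proper ideal with (i) depth A/J ≥ 3, (ii) every J^n/J^(n+1)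
free over A/J, (iii) A separated and complete for the J-adic topology. Let U be the punctured
spectrum of A and U_0 = U ∩ V(J), the closed subscheme of U defined by J. Then (a) U and U_0 are
connected and restriction of finite étale covers from U to U_0 is fully faithful (π₁(U_0) → π₁(U) is
surjective), and (b) the pull-back map Pic(U) → Pic(U_0) has trivial kernel. -/
theorem result (A : Type u) [CommRing A] [IsLocalRing A] [IsNoetherianRing A] (J : Ideal A) (hJ : J ≠ ⊤) [IsLocalRing (A ⧸ J)] (hd : (3 : ℕ∞) ≤ LocCoh.depth (A ⧸ J) (A ⧸ J)) (hgr : ∀ n : ℕ, Module.Free (A ⧸ J) (↥(J ^ n) ⧸ (J • (⊤ : Submodule A ↥(J ^ n))))) [IsAdicComplete J A] : (ConnectedSpace ↥(FEt.puncturedSpec A) ∧ ConnectedSpace ↥(((Spec.map (CommRingCat.ofHom (Ideal.Quotient.mk J))).ker.comap (FEt.puncturedSpec A).ι).subscheme) ∧ (FEt.restrict ((Spec.map (CommRingCat.ofHom (Ideal.Quotient.mk J))).ker.comap (FEt.puncturedSpec A).ι).subschemeι).Full ∧ (FEt.restrict ((Spec.map (CommRingCat.ofHom (Ideal.Quotient.mk J))).ker.comap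 (FEt.puncturedSpec A).ι).subschemeι).Faithful) ∧ Formal2.PicPullbackInjective ((Spec.map (CommRingCat.ofHom (Ideal.Quotient.mk J))).ker.comap (FEt.puncturedSpec A).ι).subschemeι := by
  let K := (Spec.map (CommRingCat.ofHom (Ideal.Quotient.mk J))).ker.comap (FEt.puncturedSpec A).ι
  obtain ⟨w, hw, -⟩ := Lef23.exists_punctured_quotient_iso A J
  haveI := hw
  haveI := connected (A ⧸ J) hd
  obtain ⟨hfull, hfaith⟩ := Lef23.restrict_full_faithful_of_formal K fun D hD =>
    Lef23.GrFree.formalBijective A J hJ hd hgr D hD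
  refine ⟨⟨connected A (CAlgH.ParaGr.le_depth hgr hJ (r := 3) hd), ?_, hfull, hfaith⟩, ?_⟩
  · exact (Scheme.homeoOfIso (asIso w)).surjective.connectedSpace (Scheme.homeoOfIso (asIso w)).continuous
  · haveI : IsClosedImmersion (Spec.map (CommRingCat.ofHom (Ideal.Quotient.mk J))) :=
      IsClosedImmersion.spec_of_surjective _ Ideal.Quotient.mk_surjective
    obtain ⟨e, he⟩ := CAlgH.PicPunct.exists_iso_subscheme (Spec.map (CommRingCat.ofHom (Ideal.Quotient.mk J)))
      (FEt.puncturedSpec A)
    refine CAlgH.PicPunct.injective_comp_iso e _ (he ▸ ?_)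
    have hm : (IsLocalRing.maximalIdeal A).map (algebraMap A (A ⧸ J)) = IsLocalRing.maximalIdeal (A ⧸ J) :=
      IsLocalRing.map_maximalIdeal_of_surjective _ Ideal.Quotient.mk_surjective
    refine CAlgH.PicPunct.picPullbackInjective_of_modules (A := A) (B := A ⧸ J) (IsLocalRing.maximalIdeal A)
      (FEt.puncturedSpec A) (Formal2Lib.Punct.puncturedSpec_eq A) ?_ ?_
    · rw [hm]
      exact CAlgH.PicPunct.subsingleton_H_of_depth (A := A ⧸ J) (le_trans (by decide : ((2 : ℕ) : ℕ∞) ≤ 3) hd)
    · rintro M _ _ _ hM ⟨v, hv⟩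
      rw [hm] at hv
      let q : TensorProduct A (A ⧸ J) M ≃ₗ[A] M ⧸ (J • ⊤ : Submodule A M) :=
        TensorProduct.quotTensorEquivQuotSMul M J
      let v' : M ⧸ (J • ⊤ : Submodule A M) →ₗ[A ⧸ J] A ⧸ J := v.comp
        (LinearMap.extendScalarsOfSurjective Ideal.Quotient.mk_surjective q.symm.toLinearMap)
      refine CAlgH.ParaGr.exists_offIso hgr hM (w := v') ?_ hJ hd
      refine ⟨fun x hx => ?_, fun y => ?_⟩
      · obtain ⟨m, hm'⟩ := hv.ker (q.symm x) hx
        refine ⟨m, fun b hb => q.symm.injective ?_⟩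
        rw [map_zero]
        obtain ⟨a, rfl⟩ := Ideal.Quotient.mk_surjective b
        exact (map_smul q.symm a x).trans ((algebraMap_smul (A ⧸ J) a (q.symm x)).symm.trans (hm' _ hb))
      · obtain ⟨m, hm'⟩ := hv.coker y
        refine ⟨m, fun b hb => ?_⟩
        obtain ⟨x, hx⟩ := hm' b hb
        exact ⟨q x, (congrArg v (q.symm_apply_apply x)).trans hx⟩

end Groth.Agent.S3378
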