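import Groth.Statements.S3401
import Groth.Agent.H8ProCons.Image

set_option autoImplicit false
open CategoryTheory AlgebraicGeometry
universe u
open EGA41

namespace Groth.Agent.S3401

/-- Let X be a scheme and E a subset of X. If E is ind-constructible then for every point x of E the set
E ∩ cl{x} is a neighbourhood of x in cl{x}; when X is locally Noetherian the converse holds. (As
published, the necessity clause quantifies over all points x of X; for x outside E the condition
cannot hold, and the argument uses x ∈ E, so it is stated here for x ∈ E.) Stated as an equivalence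
for X locally Noetherian. -/
theorem result (X : Scheme.{u}) [IsLocallyNoetherian X]
    (E : Set X) :
    ProCons.IsIndConstructible E ↔
      ∀ x ∈ E, (Subtype.val ⁻¹' E : Set ↥(closure ({x} : Set X))) ∈ nhds (⟨x, subset_closure rfl⟩ : ↥(closure ({x} : Set X))) := by
  refine ⟨fun hE x hx ↦ ?_, fun h ↦ H8ProCons.isIndConstructible_of_forall_nhd fun x hx ↦ ?_⟩
  · obtain ⟨O, hO, hxO, hOE⟩ := H8ProCons.exists_open_inter_closure_subset hE hx
    exact Filter.mem_of_superset ((hO.preimage continuous_subtype_val).mem_nhds hxO)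
      fun y hy ↦ hOE ⟨hy, y.2⟩
  obtain ⟨T, hT, hTo, hxT⟩ := _root_.mem_nhds_iff.mp (h x hx)
  obtain ⟨O, hO, hOT⟩ := isOpen_induced_iff.mp hTo
  have hxO : x ∈ O := by rw [← hOT] at hxT; exact hxT
  obtain ⟨_, ⟨W, hW, rfl⟩, hxW, hWO⟩ :=
    X.isBasis_affineOpens.exists_subset_of_mem_open hxO hO
  have := IsLocallyNoetherian.component_noetherian ⟨W, hW⟩
  have : TopologicalSpace.NoetherianSpace ↥(W : Set X) := noetherianSpace_of_isAffineOpen W hW
  refine ⟨W, hW, Subtype.val ⁻¹' closure {x}, ?_, ⟨⟨x, hxW⟩, subset_closure rfl, rfl⟩, ?_⟩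
  · rw [← Topology.isConstructible_compl]
    have := H8ProCons.quasiSeparatedSpace_of_isAffineOpen hW
    exact (TopologicalSpace.NoetherianSpace.isCompact _).isConstructible
      (isClosed_closure.preimage continuous_subtype_val).isOpen_compl
  · rintro _ ⟨⟨y, hy⟩, hyx, rfl⟩
    have hyT : (⟨y, hyx⟩ : ↥(closure ({x} : Set X))) ∈ T := by
      rw [← hOT]
      exact hWO hy
    exact hT hyT

end Groth.Agent.S3401
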