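import Groth.Statements.S3406
import Groth.Agent.EGA41Lib.SemiLocalSop
import Mathlib

set_option backward.isDefEq.respectTransparency.types false

set_option autoImplicit false
universe u
open EGA41

namespace Groth.Agent.S3406

/-- The equality s(M) = dim(M): let A be a Noetherian ring with finitely many maximal ideals, r its
Jacobson radical and M a nonzero finitely generated A-module. Then the dimension of M (the Krull
dimension of its support) is the least n for which there are elements x_1, …, x_n of r such that
M/(x_1 M + ⋯ + x_n M) has finite length. -/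
theorem result (A : Type u) [CommRing A] [IsNoetherianRing A]
    [Finite (MaximalSpectrum A)] (M : Type u) [AddCommGroup M] [Module A M] [Module.Finite A M] [Nontrivial M] :
    Module.supportDim A M =
      sInf {k : WithBot ℕ∞ | ∃ (n : ℕ) (x : Fin n → A), k = n ∧ (∀ i, x i ∈ Ring.jacobson A) ∧
        IsFiniteLength A (M ⧸ (Ideal.span (Set.range x) • (⊤ : Submodule A M)))} := by
  obtain ⟨d, hd⟩ := Groth.Agent.EGA41Lib.supportDim_eq_natCast_of_semilocal (A := A) M
  have hspan : ∀ {n : ℕ} (x : Fin n → A), Ideal.span (Set.range x) = Ideal.ofList (List.ofFn x) := fun x => by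
    simp [Ideal.ofList, List.mem_ofFn, Set.range]
  refine le_antisymm (le_sInf ?_) (sInf_le ?_)
  · rintro k ⟨n, x, rfl, hx, hfl⟩
    rw [hspan] at hfl
    have h1 := Groth.Agent.EGA41Lib.supportDim_le_quotient_ofList_of_mem_jacobson (List.ofFn x) M (by
      intro a ha
      obtain ⟨i, rfl⟩ := List.mem_ofFn.1 ha
      exact hx i)
    rw [List.length_ofFn] at h1
    refine h1.trans ((add_le_add ((Groth.Agent.EGA41Lib.isFiniteLength_iff_supportDim_le_zero _).1 hfl) le_rfl).trans ?_)
    rw [zero_add]
  · obtain ⟨ys, h1, h2, h3⟩ := Groth.Agent.EGA41Lib.exists_sop d M hd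
    refine ⟨ys.length, ys.get, ?_, fun i => h2 _ (List.get_mem ys i), ?_⟩
    · rw [hd, h1]; rfl
    · rw [hspan, List.ofFn_get, Groth.Agent.EGA41Lib.isFiniteLength_iff_supportDim_le_zero]
      exact h3

end Groth.Agent.S3406
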