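import Groth.Statements.S3409
import Groth.Agent.EGA43.DvrCrit.Equidim
-- import your own Groth.Agent.* helpers here

set_option autoImplicit false
set_option backward.isDefEq.respectTransparency false
open CategoryTheory AlgebraicGeometry
universe u
open EGA43

namespace Groth.Agent.S3409

/-- Let Y be locally Noetherian, f : X ⟶ Y locally of finite type, x a point of X and y = f x. Suppose f
is universally open at the generic point of every irreducible component of X_y through x, X_y is
geometrically reduced at x, and all irreducible components of X_y passing through x have the same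
dimension. Then f is equidimensional at x. -/
theorem result {X Y : Scheme.{u}} [IsLocallyNoetherian Y] (f : X ⟶ Y)
    [LocallyOfFiniteType f] (x : X)
    (hopen : ∀ z : ↥(f.fiber (f.base x)), f.asFiber x ∈ closure {z} →
      (∀ z' : ↥(f.fiber (f.base x)), z ∈ closure {z'} → z' = z) →
      EGA43.IsUnivOpenAt f ((f.fiberι (f.base x)).base z))
    (hred : FBase.IsGeomReducedAt (f.fiberToSpecResidueField (f.base x)) (f.asFiber x))
    (heq : ∃ e : ℕ, ∀ Z ∈ irreducibleComponents (↥(f.fiber (f.base x)) : Type u), f.asFiber x ∈ Z →
      topologicalKrullDim (↥Z : Type u) = e) :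
    EGA43.IsEquidimAt f x := by
  obtain ⟨e, he⟩ := heq
  refine Groth.Agent.EGA43.DvrCrit.isEquidimAt_of_geomReduced f x hopen hred e fun z hzx hz hmax => ?_
  obtain ⟨a, rfl⟩ : z ∈ Set.range (f.fiberι (f x)) := by rw [f.range_fiberι]; exact hz
  have hax : a ⤳ f.asFiber x := (f.fiberι (f x)).isEmbedding.isInducing.specializes_iff.1 (by
    rw [f.fiberι_asFiber]; exact hzx)
  have hamax : ∀ b, b ⤳ a → a = b := fun b hb => ((f.fiberι (f x)).isEmbedding.injective
    (hmax _ (hb.map (f.fiberι (f x)).continuous) (Groth.Agent.EGA43.Chevalley.apply_fiberι f (f x) b))).symm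
  haveI : LocallyOfFiniteType (f.fiberToSpecResidueField (f x)) :=
    inferInstanceAs (LocallyOfFiniteType (Limits.pullback.snd f (Y.fromSpecResidueField (f x))))
  have h := he (closure {a}) (Groth.Agent.DimLib.closure_mem_components hamax)
    (specializes_iff_mem_closure.1 hax)
  rw [Groth.Agent.DimLib.topologicalKrullDim_eq_ptDim_of_isGenericPoint (k := Y.residueField (f x))
    (f.fiberToSpecResidueField (f x)) isGenericPoint_closure, Groth.Agent.EGA43.FibDepth.ptDim_fiber f] at h
  exact_mod_cast h

end Groth.Agent.S3409
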