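import Groth.Statements.S3417
import Groth.Agent.EGA43.SectionComp.DvrConnected
-- import your own Groth.Agent.* helpers here

set_option autoImplicit false
set_option backward.isDefEq.respectTransparency false
open CategoryTheory AlgebraicGeometry
universe u
open EGA43

namespace Groth.Agent.S3417

/-- Let A be a discrete valuation ring, Y = Spec A with closed point a and generic point b, and f : X ⟶
Y a morphism locally of finite type which is open (as a map of spaces). If X is connected and the
fibre over a is a reduced scheme, then the fibre over b is connected. (Stated with 'preconnected',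
which also covers the empty case; a is the closed point and b the point specialising to every
point.) -/
theorem result (A : Type u) [CommRing A] [IsDomain A]
    [IsDiscreteValuationRing A] {X : Scheme.{u}} (f : X ⟶ Spec (CommRingCat.of A)) [LocallyOfFiniteType f]
    (hopen : IsOpenMap f.base) [PreconnectedSpace X]
    (a b : ↥(Spec (CommRingCat.of A))) (ha : IsClosed ({a} : Set ↥(Spec (CommRingCat.of A))))
    (hb : ∀ z : ↥(Spec (CommRingCat.of A)), b ⤳ z)
    (hred : AlgebraicGeometry.IsReduced (f.fiber a)) :
    PreconnectedSpace ↥(f.fiber b) := by
  have ha' : a = IsLocalRing.closedPoint A := PrimeSpectrum.ext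
    (IsLocalRing.eq_maximalIdeal ((PrimeSpectrum.isClosed_singleton_iff_isMaximal a).1 ha))
  have hb' : b ≠ IsLocalRing.closedPoint A := by
    intro h
    obtain ⟨ϖ, hϖ⟩ := IsDiscreteValuationRing.exists_irreducible A
    have h2 : b.asIdeal ≤ (⊥ : Ideal A) :=
      (PrimeSpectrum.le_iff_specializes b ⟨⊥, Ideal.isPrime_bot⟩).2 (hb _)
    rw [h] at h2
    exact hϖ.ne_zero ((Ideal.mem_bot).1 (h2 hϖ.1))
  refine EGA43.SectionComp.preconnected_generic_fiber f hopen b hb' fun x hx => ?_
  have e : f x = a := hx.trans ha'.symm
  haveI : AlgebraicGeometry.IsReduced (f.fiber (f x)) := e ▸ hred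
  infer_instance

end Groth.Agent.S3417
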