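import Groth.Statements.S3429
import Groth.Agent.Desc19b.QuasiFlat
import Mathlib.AlgebraicGeometry.Morphisms.UniversallyOpen
-- import your own Groth.Agent.* helpers here

set_option autoImplicit false
set_option backward.isDefEq.respectTransparency false
open CategoryTheory AlgebraicGeometry
universe u
open EGA42

namespace Groth.Agent.S3429

/-- A morphism of schemes which is quasi-flat (some quasi-coherent module of finite type on the source,
flat over the base, has support the whole source) and locally of finite presentation is universally
open. -/
theorem result {X Y : Scheme.{u}} (f : X ⟶ Y)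
    (hf : FDesc.IsQuasiFlat f) [LocallyOfFinitePresentation f] : UniversallyOpen f := by
  refine ⟨fun {X' Y'} g' g f' hc => ?_⟩
  show IsOpenMap f'.base
  haveI : LocallyOfFinitePresentation f' := MorphismProperty.of_isPullback hc.flip ‹_›
  apply isOpenMap_of_generalizingMap f'
  have h := Desc19b.generalizingMap_pullback_fst g hf
  intro a b hab
  obtain ⟨c, hc1, hc2⟩ := h (a := hc.isoPullback.hom a) (b := b) (by
    rw [← Scheme.Hom.comp_apply, IsPullback.isoPullback_hom_fst]; exact hab)
  refine ⟨hc.isoPullback.inv c, ?_, ?_⟩
  · have := hc1.map hc.isoPullback.inv.continuous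
    rwa [← Scheme.Hom.comp_apply, Iso.hom_inv_id] at this
  · rw [← Scheme.Hom.comp_apply, IsPullback.isoPullback_inv_fst]; exact hc2

end Groth.Agent.S3429
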