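import Groth.Statements.S3432
import Groth.Agent.EGA43.GScheme

set_option autoImplicit false
open CategoryTheory AlgebraicGeometry
universe u
open EGA43

namespace Groth.Agent.S3432

/-- Let X be a locally Noetherian scheme and Y a closed subset of X such that every nonempty closed
subset of X meets Y. Then the open subscheme X ∖ Y (equivalently, the subspace X ∖ Y) is a Jacobson
space. -/
theorem result (X : Scheme.{u}) [IsLocallyNoetherian X] (Y : Set X)
    (hY : IsClosed Y) (hmeet : ∀ Z : Set X, IsClosed Z → Z.Nonempty → (Z ∩ Y).Nonempty) :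
    JacobsonSpace ↥(Yᶜ) := by
  rw [jacobsonSpace_iff_locallyClosed]
  intro S hne hS
  obtain ⟨x, ⟨x, hxS, rfl⟩, hlc⟩ := Groth.Agent.EGA43.exists_isLocallyClosed_singleton
    (hS.image Topology.IsInducing.subtypeVal (by rw [Subtype.range_coe]; exact hY.isOpen_compl.isLocallyClosed))
    (hne.image _)
  refine ⟨x, hxS, ?_⟩
  refine isClosed_of_closure_subset fun y hy => ?_
  by_contra hne'
  have h1 : (x : X) ⤳ (y : X) := (specializes_iff_mem_closure.2 hy).map continuous_subtype_val
  obtain ⟨w, hw, hwY⟩ := hmeet (closure {(y : X)}) isClosed_closure ⟨_, subset_closure rfl⟩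
  have hyw := Groth.Agent.EGA43.no_chain_of_isLocallyClosed hlc h1 (specializes_iff_mem_closure.2 hw)
    (fun e => hne' (Subtype.ext e.symm))
  exact y.2 (hyw ▸ hwY)

end Groth.Agent.S3432
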