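import Groth.Statements.S3433
import Groth.Agent.EGA43.GScheme

set_option autoImplicit false
universe u
open EGA43

namespace Groth.Agent.S3433

/-- Let A be a Noetherian local ring with maximal ideal m and let Y be the punctured spectrum Spec A ∖
{m}. Then Y is a Jacobson space, and a point p of Y is closed in Y if and only if dim A/p = 1. -/
theorem result (A : Type u) [CommRing A] [IsNoetherianRing A] [IsLocalRing A] :
    JacobsonSpace ↥({IsLocalRing.closedPoint A}ᶜ : Set (PrimeSpectrum A)) ∧
      ∀ p : ↥({IsLocalRing.closedPoint A}ᶜ : Set (PrimeSpectrum A)),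
        IsClosed ({p} : Set ↥({IsLocalRing.closedPoint A}ᶜ : Set (PrimeSpectrum A))) ↔
          ringKrullDim (A ⧸ p.1.asIdeal) = 1 := by
  have hopen : IsOpen ({IsLocalRing.closedPoint A}ᶜ : Set (PrimeSpectrum A)) :=
    ((PrimeSpectrum.isClosed_singleton_iff_isMaximal _).2 (IsLocalRing.maximalIdeal.isMaximal A)).isOpen_compl
  have hle : ∀ q : PrimeSpectrum A, q ≤ IsLocalRing.closedPoint A :=
    fun q => IsLocalRing.le_maximalIdeal q.2.ne_top
  have key : ∀ p : ↥({IsLocalRing.closedPoint A}ᶜ : Set (PrimeSpectrum A)),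
      (∀ q, p.1 < q → q = IsLocalRing.closedPoint A) →
      IsClosed ({p} : Set ↥({IsLocalRing.closedPoint A}ᶜ : Set (PrimeSpectrum A))) := by
    intro p hp
    refine isClosed_of_closure_subset fun y hy => ?_
    by_contra hne
    refine y.2 (hp y.1 (lt_of_le_of_ne ((PrimeSpectrum.le_iff_specializes _ _).2
      ((specializes_iff_mem_closure.2 hy).map continuous_subtype_val)) fun e => hne (Subtype.ext e.symm)))
  refine ⟨?_, fun p => ⟨fun hp => ?_, fun hp => key p fun q hq => ?_⟩⟩
  · rw [jacobsonSpace_iff_locallyClosed]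
    intro S hne hS
    obtain ⟨x, ⟨x, hxS, rfl⟩, hlc⟩ := Groth.Agent.EGA43.exists_isLocallyClosed_singleton_of_noetherian
      (hS.image Topology.IsInducing.subtypeVal (by rw [Subtype.range_coe]; exact hopen.isLocallyClosed))
      (hne.image _)
    refine ⟨x, hxS, key x fun q hq => ?_⟩
    by_contra hqm
    exact Groth.Agent.EGA43.not_lt_lt_of_isLocallyClosed hlc hq (lt_of_le_of_ne (hle q) hqm)
  · have hlc : IsLocallyClosed ({p.1} : Set (PrimeSpectrum A)) := by
      have := hp.isLocallyClosed.image Topology.IsInducing.subtypeVal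
        (by rw [Subtype.range_coe]; exact hopen.isLocallyClosed)
      rwa [Set.image_singleton] at this
    refine ((Groth.Agent.EGA43.isMaximal_or_semilocal_dim_one p.1.asIdeal
      (Groth.Agent.EGA43.isG_quotient_of_isLocallyClosed hlc)).resolve_left fun hm => ?_).2
    exact p.2 (PrimeSpectrum.ext (IsLocalRing.eq_maximalIdeal hm))
  · by_contra hqm
    have hlt : q < IsLocalRing.closedPoint A := lt_of_le_of_ne (hle q) hqm
    have h1 := (Groth.Agent.EGA43.ringKrullDim_le_one_iff (A ⧸ p.1.asIdeal)).1 hp.le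
      (q.asIdeal.map (Ideal.Quotient.mk p.1.asIdeal))
      ((IsLocalRing.maximalIdeal A).map (Ideal.Quotient.mk p.1.asIdeal))
      (Ideal.map_isPrime_of_surjective Ideal.Quotient.mk_surjective (by rw [Ideal.mk_ker]; exact hq.le))
      (Ideal.map_isPrime_of_surjective Ideal.Quotient.mk_surjective
        (by rw [Ideal.mk_ker]; exact hq.le.trans (hle q)))
    have hc : ∀ s : PrimeSpectrum A, p.1 ≤ s →
        (s.asIdeal.map (Ideal.Quotient.mk p.1.asIdeal)).comap (Ideal.Quotient.mk p.1.asIdeal) = s.asIdeal :=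
      fun s hs => by
        rw [Ideal.comap_map_of_surjective _ Ideal.Quotient.mk_surjective,
          ← RingHom.ker_eq_comap_bot, Ideal.mk_ker, sup_eq_left]
        exact hs
    refine h1 (fun e => ?_) (lt_of_le_of_ne (Ideal.map_mono hlt.le) fun e => ?_)
    · have := hc q hq.le
      rw [e, ← RingHom.ker_eq_comap_bot, Ideal.mk_ker] at this
      exact hq.ne (PrimeSpectrum.ext this)
    · have h2 := hc q hq.le
      rw [e] at h2
      exact hlt.ne (PrimeSpectrum.ext (h2.symm.trans (hc (IsLocalRing.closedPoint A) (hq.le.trans (hle q)))))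

end Groth.Agent.S3433
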