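import Groth.Statements.S3435
import Groth.Agent.EGA41Lib.Exal
import Mathlib

set_option backward.isDefEq.respectTransparency.types false

set_option autoImplicit false
universe u
open EGA41

namespace Groth.Agent.S3435

open TensorProduct in
/-- Let Λ → A → B → C be ring homomorphisms. The homomorphism Ω_{B/Λ} ⊗_B C → Ω_{B/A} ⊗_B C maps the
imperfection module Υ_{C/B/Λ} (the kernel of Ω_{B/Λ} ⊗_B C → Ω_{C/Λ}) onto the imperfection module
Υ_{C/B/A} (the kernel of Ω_{B/A} ⊗_B C → Ω_{C/A}): every element of Υ_{C/B/A} is the image of some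
element of Υ_{C/B/Λ}. -/
theorem result (Λ A B C : Type u) [CommRing Λ] [CommRing A] [CommRing B] [CommRing C]
    [Algebra Λ A] [Algebra Λ B] [Algebra Λ C] [Algebra A B] [Algebra A C] [Algebra B C]
    [IsScalarTower Λ A B] [IsScalarTower Λ A C] [IsScalarTower Λ B C] [IsScalarTower A B C] :
    ∀ ω ∈ EGA41.imperfection A B C, ∃ η ∈ EGA41.imperfection Λ B C,
      (KaehlerDifferential.map Λ A B B).baseChange C η = ω := by
  intro ω hω
  have hsurj : Function.Surjective ((KaehlerDifferential.map Λ A B B).baseChange C) :=
    LinearMap.lTensor_surjective C (KaehlerDifferential.map_surjective Λ A B)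
  obtain ⟨η₀, rfl⟩ := hsurj ω
  have hcomp : ∀ y : Ω[A⁄Λ], KaehlerDifferential.map Λ Λ B C (KaehlerDifferential.map Λ Λ A B y) =
      KaehlerDifferential.map Λ Λ A C y := by
    intro y
    have hy : y ∈ Submodule.span A (Set.range (KaehlerDifferential.D Λ A)) := by
      rw [KaehlerDifferential.span_range_derivation]; trivial
    induction hy using Submodule.span_induction with
    | mem _ h => obtain ⟨a, rfl⟩ := h; simp [← IsScalarTower.algebraMap_apply]
    | zero => simp
    | add _ _ _ _ h₁ h₂ => simp only [map_add, h₁, h₂]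
    | smul a x _ hx =>
      rw [(KaehlerDifferential.map Λ Λ A B).map_smul, ← algebraMap_smul B a (KaehlerDifferential.map Λ Λ A B x),
        (KaehlerDifferential.map Λ Λ B C).map_smul, algebraMap_smul, (KaehlerDifferential.map Λ Λ A C).map_smul, hx]
  have hcomp' : ∀ y : Ω[B⁄Λ], KaehlerDifferential.map A A B C (KaehlerDifferential.map Λ A B B y) =
      KaehlerDifferential.map Λ A C C (KaehlerDifferential.map Λ Λ B C y) := by
    intro y
    have hy : y ∈ Submodule.span B (Set.range (KaehlerDifferential.D Λ B)) := by
      rw [KaehlerDifferential.span_range_derivation]; trivial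
    induction hy using Submodule.span_induction with
    | mem _ h => obtain ⟨a, rfl⟩ := h; simp
    | zero => simp
    | add _ _ _ _ h₁ h₂ => simp only [map_add, h₁, h₂]
    | smul a x _ hx =>
      rw [map_smul, map_smul, map_smul, ← algebraMap_smul C a (KaehlerDifferential.map Λ Λ B C x),
        map_smul, algebraMap_smul, hx]
  have hsq : ∀ t, KaehlerDifferential.map Λ A C C (KaehlerDifferential.mapBaseChange Λ B C t) =
      KaehlerDifferential.mapBaseChange A B C ((KaehlerDifferential.map Λ A B B).baseChange C t) := by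
    intro t
    induction t with
    | zero => simp
    | add x y hx hy => simp only [map_add, hx, hy]
    | tmul c w =>
      rw [LinearMap.baseChange_tmul, KaehlerDifferential.mapBaseChange_tmul,
        KaehlerDifferential.mapBaseChange_tmul, hcomp', map_smul]
  have key : ∀ t, ∃ η', (KaehlerDifferential.map Λ A B B).baseChange C η' = 0 ∧
      KaehlerDifferential.mapBaseChange Λ B C η' = KaehlerDifferential.mapBaseChange Λ A C t := by
    intro t
    induction t with
    | zero => exact ⟨0, map_zero _, by simp⟩
    | add x y hx hy =>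
      obtain ⟨a, ha, ha'⟩ := hx
      obtain ⟨b, hb, hb'⟩ := hy
      exact ⟨a + b, by rw [map_add, ha, hb, add_zero], by rw [map_add, map_add, ha', hb']⟩
    | tmul c y =>
      refine ⟨c ⊗ₜ KaehlerDifferential.map Λ Λ A B y, ?_, ?_⟩
      · rw [LinearMap.baseChange_tmul,
          show KaehlerDifferential.map Λ A B B (KaehlerDifferential.map Λ Λ A B y) = 0 from ?_,
          TensorProduct.tmul_zero]
        have := (KaehlerDifferential.exact_mapBaseChange_map Λ A B).apply_apply_eq_zero (1 ⊗ₜ y)
        rwa [KaehlerDifferential.mapBaseChange_tmul, one_smul] at this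
      · rw [KaehlerDifferential.mapBaseChange_tmul, KaehlerDifferential.mapBaseChange_tmul, hcomp]
  have h0 : KaehlerDifferential.map Λ A C C (KaehlerDifferential.mapBaseChange Λ B C η₀) = 0 := by
    rw [hsq]; exact hω
  obtain ⟨t, ht⟩ := (KaehlerDifferential.exact_mapBaseChange_map Λ A C _).1 h0
  obtain ⟨η', h1, h2⟩ := key t
  exact ⟨η₀ - η', LinearMap.mem_ker.2 (by rw [map_sub, h2, ht, sub_self]), by rw [map_sub, h1, sub_zero]⟩

end Groth.Agent.S3435
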