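import Groth.Statements.S3459
import Groth.Agent.EGA43.DvrCrit.ComponentUnique
import Groth.Agent.EGA43.DimFormula.Sub
import Groth.Agent.FlatMorDim.LocalDim
import Groth.Agent.EGA43.Chevalley.Fibre

set_option backward.isDefEq.respectTransparency false
set_option linter.style.haveILetI false

set_option autoImplicit false
open CategoryTheory AlgebraicGeometry
universe u
open EGA43

namespace Groth.Agent.S3459

open CategoryTheory.Limits in
theorem geomRed_of_eq {X Y : Scheme.{u}} (f : X ⟶ Y) (y y' : Y) (e : y = y') (z : f.fiber y) (z' : f.fiber y')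
    (h : f.fiberι y z = f.fiberι y' z') (hz : FBase.IsGeomReducedAt (f.fiberToSpecResidueField y) z) :
    FBase.IsGeomReducedAt (f.fiberToSpecResidueField y') z' := by
  subst e
  rwa [← (f.fiberι y).isEmbedding.injective h]

theorem exists_generic {X Y : Scheme.{u}} (f : X ⟶ Y) (x : X)
    (h1 : ∃! Zc : Set ↥(f.fiber (f.base x)), Zc ∈ irreducibleComponents (↥(f.fiber (f.base x)) : Type u) ∧ f.asFiber x ∈ Zc) :
    ∃ z : ↥(f.fiber (f.base x)), (∀ t, t ⤳ z → t = z) ∧ ∀ w, w ⤳ f.asFiber x → z ⤳ w := by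
  obtain ⟨Zc, ⟨hZ, hxZ⟩, huniq⟩ := h1
  obtain ⟨z, hz⟩ := QuasiSober.sober hZ.1 (isClosed_of_mem_irreducibleComponents _ hZ)
  refine ⟨z, fun t ht => ?_, fun w hw => ?_⟩
  · have h2 : closure {t} ⊆ Zc :=
      hZ.2 isIrreducible_singleton.closure (hz.def ▸ closure_minimal (Set.singleton_subset_iff.2
        (specializes_iff_mem_closure.1 ht)) isClosed_closure)
    exact (ht.antisymm (hz.specializes (h2 (subset_closure rfl)))).eq
  · obtain ⟨C, hC, hwC⟩ := exists_preirreducible (closure {w}) isIrreducible_singleton.closure.isPreirreducible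
    have hC' : C ∈ irreducibleComponents (↥(f.fiber (f.base x)) : Type u) :=
      ⟨⟨(Set.singleton_nonempty w).mono (subset_closure.trans hwC.1), hC⟩,
        fun D hD hCD => (hwC.2 D hD.2 hCD).le⟩
    have := huniq C ⟨hC', hwC.1 (specializes_iff_mem_closure.1 hw)⟩
    exact hz.specializes (this ▸ hwC.1 (subset_closure rfl))

theorem mem_of_localDim_eq {W X Y : Scheme.{u}} (i : W ⟶ X) [IsClosedImmersion i] (f : X ⟶ Y)
    [LocallyOfFiniteType f] (T : Set X) (hT : Set.range i = T) (x : X) (hxT : x ∈ T)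
    (hdim : FlatMor.localDim ↥(T ∩ f.base ⁻¹' {f.base x}) ⟨x, ⟨hxT, Set.mem_singleton (f.base x)⟩⟩ =
      FlatMor.fibreDimAt f x)
    (z : ↥(f.fiber (f.base x))) (hgen : ∀ w, w ⤳ f.asFiber x → z ⤳ w) (hzx : z ⤳ f.asFiber x) :
    f.fiberι (f.base x) z ∈ T := by
  by_contra hzT
  obtain ⟨w0, hw0⟩ : x ∈ Set.range i := hT ▸ hxT
  rw [EGA43.DimFormula.localDim_inter_fibre_eq_fibreDimAt i f T hT w0 x hw0] at hdim
  haveI : LocallyOfFiniteType (f.fiberToSpecResidueField (f.base x)) :=
    inferInstanceAs (LocallyOfFiniteType (Limits.pullback.snd f (Y.fromSpecResidueField (f.base x))))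
  have hlt : ∀ w' : W, f (i w') = f x → i w' ⤳ x → DimLib.trdegHom (f.residueFieldMap (i w')).hom <
      DimLib.trdegHom (f.residueFieldMap (f.fiberι (f.base x) z)).hom := by
    intro w' he hs
    obtain ⟨q, hq⟩ : i w' ∈ Set.range (f.fiberι (f.base x)) := (f.range_fiberι _).ge he
    have hqs : q ⤳ f.asFiber x := by
      rw [← (f.fiberι (f.base x)).isEmbedding.isInducing.specializes_iff, hq, f.fiberι_asFiber]
      exact hs
    have hne : z ≠ q := fun e => hzT (by rw [e, hq, ← hT]; exact ⟨w', rfl⟩)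
    have := DimLib.ptDim_lt_of_specializes (k := Y.residueField (f.base x))
      (f.fiberToSpecResidueField (f.base x)) (hgen q hqs) hne
    rw [EGA43.FibDepth.ptDim_fiber f, EGA43.FibDepth.ptDim_fiber f, hq] at this
    exact this
  have h0 := hlt w0 (congrArg f hw0) (specializes_of_eq hw0)
  have h1 : FlatMor.fibreDimAt (i ≫ f) w0 ≤
      ((DimLib.trdegHom (f.residueFieldMap (f.fiberι (f.base x) z)).hom - 1 : ℕ) : WithBot ℕ∞) := by
    refine (FlatMorDim.fibreDimAt_le_iff (i ≫ f) w0 _).2 fun w' he hs => ?_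
    rw [EGA43.Chevalley.trdegHom_residueFieldMap_comp i f w']
    have := hlt w' (he.trans (congrArg f hw0)) (hw0 ▸ hs.map i.continuous)
    omega
  rw [hdim] at h1
  have h2 := (FlatMorDim.fibreDimAt_le_iff f x _).1 h1 _ ((f.range_fiberι _).le ⟨z, rfl⟩)
    (by have := hzx.map (f.fiberι (f.base x)).continuous; rwa [f.fiberι_asFiber] at this)
  omega

/-- Let Y be an irreducible locally Noetherian scheme with generic point η, f : X ⟶ Y locally of finite
type, x a point of X and y = f x. Suppose (1) x lies on exactly one irreducible component Z of the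
fibre X_y, and (2) X_y is geometrically reduced at the generic point of Z. Call an irreducible
component X' of X containing x admissible when the local dimension at x of X' ∩ f⁻¹(y) equals that
of f⁻¹(y) and the restriction of f to X' (with its reduced structure) is universally open at the
generic points of the irreducible components of X' ∩ f⁻¹(y) containing x. Then there is at most one
admissible X'; and if X' is admissible, the fibre X_η is geometrically reduced at the generic point
of X'. -/
theorem result {X Y : Scheme.{u}} [IrreducibleSpace Y]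
    [IsLocallyNoetherian Y] (f : X ⟶ Y) [LocallyOfFiniteType f] (x : X)
    (h1 : ∃! Zc : Set ↥(f.fiber (f.base x)), Zc ∈ irreducibleComponents (↥(f.fiber (f.base x)) : Type u) ∧ f.asFiber x ∈ Zc)
    (h2 : ∀ z : ↥(f.fiber (f.base x)), f.asFiber x ∈ closure {z} →
      (∀ z' : ↥(f.fiber (f.base x)), z ∈ closure {z'} → z' = z) →
      FBase.IsGeomReducedAt (f.fiberToSpecResidueField (f.base x)) z) :
    letI adm : TopologicalSpace.Closeds X → Prop := fun X' =>
      (X' : Set X) ∈ irreducibleComponents (X : Type u) ∧ ∃ hx : x ∈ X',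
        FlatMor.localDim ↥((X' : Set X) ∩ f.base ⁻¹' {f.base x}) ⟨x, ⟨hx, Set.mem_singleton (f.base x)⟩⟩ =
          FlatMor.fibreDimAt f x ∧
        ∀ w : ↥(Scheme.IdealSheafData.vanishingIdeal X').subscheme,
          f.base ((Scheme.IdealSheafData.vanishingIdeal X').subschemeι.base w) = f.base x →
          x ∈ closure {(Scheme.IdealSheafData.vanishingIdeal X').subschemeι.base w} →
          (∀ t : X, t ∈ (X' : Set X) → f.base t = f.base x →
              (Scheme.IdealSheafData.vanishingIdeal X').subschemeι.base w ∈ closure {t} →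
              t = (Scheme.IdealSheafData.vanishingIdeal X').subschemeι.base w) →
          EGA43.IsUnivOpenAt ((Scheme.IdealSheafData.vanishingIdeal X').subschemeι ≫ f) w
    {X' : TopologicalSpace.Closeds X | adm X'}.Subsingleton ∧
      ∀ X' : TopologicalSpace.Closeds X, adm X' →
        ∀ ζ : ↥(f.fiber (genericPoint Y)), closure {(f.fiberι (genericPoint Y)).base ζ} = (X' : Set X) →
          FBase.IsGeomReducedAt (f.fiberToSpecResidueField (genericPoint Y)) ζ := by
  obtain ⟨z, hzmax, hgen⟩ := exists_generic f x h1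
  have hzx : z ⤳ f.asFiber x := hgen _ specializes_rfl
  have hred := geomRed_of_eq f (f.base x) (f.base (f.fiberι (f.base x) z))
    ((f.range_fiberι _).le ⟨z, rfl⟩).symm z (f.asFiber (f.fiberι (f.base x) z))
    (f.fiberι_asFiber _).symm
    (h2 z (specializes_iff_mem_closure.1 hzx) fun z' hz' => hzmax z' (specializes_iff_mem_closure.2 hz'))
  have hmax : ∀ t, t ⤳ f.fiberι (f.base x) z → f t = f (f.fiberι (f.base x) z) → t = f.fiberι (f.base x) z := by
    intro t ht he
    obtain ⟨q, rfl⟩ : t ∈ Set.range (f.fiberι (f.base x)) :=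
      (f.range_fiberι _).ge (he.trans ((f.range_fiberι _).le ⟨z, rfl⟩))
    rw [hzmax q ((f.fiberι (f.base x)).isEmbedding.isInducing.specializes_iff.1 ht)]
  have hzX : f.fiberι (f.base x) z ⤳ x := by
    have := hzx.map (f.fiberι (f.base x)).continuous
    rwa [f.fiberι_asFiber] at this
  have key : ∀ X' : TopologicalSpace.Closeds X, (∃ hx : x ∈ X',
      FlatMor.localDim ↥((X' : Set X) ∩ f.base ⁻¹' {f.base x}) ⟨x, ⟨hx, Set.mem_singleton (f.base x)⟩⟩ =
        FlatMor.fibreDimAt f x ∧
      ∀ w : ↥(Scheme.IdealSheafData.vanishingIdeal X').subscheme,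
        f.base ((Scheme.IdealSheafData.vanishingIdeal X').subschemeι.base w) = f.base x →
        x ∈ closure {(Scheme.IdealSheafData.vanishingIdeal X').subschemeι.base w} →
        (∀ t : X, t ∈ (X' : Set X) → f.base t = f.base x →
            (Scheme.IdealSheafData.vanishingIdeal X').subschemeι.base w ∈ closure {t} →
            t = (Scheme.IdealSheafData.vanishingIdeal X').subschemeι.base w) →
        EGA43.IsUnivOpenAt ((Scheme.IdealSheafData.vanishingIdeal X').subschemeι ≫ f) w) →
      f.fiberι (f.base x) z ∈ X' ∧ ∀ t, t ⤳ f.fiberι (f.base x) z →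
        t ∈ X' ∧ FBase.IsGeomReducedAt (f.fiberToSpecResidueField (f t)) (f.asFiber t) := by
    rintro X' ⟨hx, hdim, hopen⟩
    have hr : Set.range (Scheme.IdealSheafData.vanishingIdeal X').subschemeι = (X' : Set X) := by
      rw [Scheme.IdealSheafData.range_subschemeι, Scheme.IdealSheafData.coe_support_vanishingIdeal]
    have hz := mem_of_localDim_eq (Scheme.IdealSheafData.vanishingIdeal X').subschemeι f _ hr x hx hdim z hgen hzx
    obtain ⟨w, hw⟩ : f.fiberι (f.base x) z ∈ Set.range (Scheme.IdealSheafData.vanishingIdeal X').subschemeι :=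
      hr ▸ hz
    have hfz : f (f.fiberι (f.base x) z) = f.base x := (f.range_fiberι _).le ⟨z, rfl⟩
    have hw' : EGA43.IsUnivOpenAt ((Scheme.IdealSheafData.vanishingIdeal X').subschemeι ≫ f) w :=
      hopen w ((congrArg f hw).trans hfz) (hw ▸ specializes_iff_mem_closure.1 hzX)
        fun t _ hte htc => (hmax t (hw ▸ specializes_iff_mem_closure.2 htc) (hte.trans hfz.symm)).trans hw.symm
    refine ⟨hz, fun t ht => ?_⟩
    have h := EGA43.DvrCrit.component_through (Scheme.IdealSheafData.vanishingIdeal X').subschemeι f w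
      (hw ▸ hmax) (hw ▸ hred) hw' (t := t) (hw ▸ ht)
    exact ⟨(hr.le h.1 : t ∈ (X' : Set X)), h.2⟩
  refine ⟨fun X₁ h₁ X₂ h₂ => ?_, fun X' h' ζ hζ => ?_⟩
  · obtain ⟨-, hk⟩ := key X₁ h₁.2
    obtain ⟨ξ, hξ⟩ := QuasiSober.sober h₂.1.1 X₂.isClosed
    have hsub : (X₂ : Set X) ⊆ X₁ := by
      rw [← hξ.def]
      exact closure_minimal (Set.singleton_subset_iff.2 (hk ξ (hξ.specializes (key X₂ h₂.2).1)).1) X₁.isClosed
    exact TopologicalSpace.Closeds.ext (le_antisymm (h₂.1.2 h₁.1.1 hsub) hsub)
  · obtain ⟨hz, hk⟩ := key X' h'.2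
    have hs : f.fiberι (genericPoint Y) ζ ⤳ f.fiberι (f.base x) z := specializes_iff_mem_closure.2 (hζ ▸ hz)
    exact geomRed_of_eq f _ _ ((f.range_fiberι _).le ⟨ζ, rfl⟩) _ _ (f.fiberι_asFiber _) (hk _ hs).2

end Groth.Agent.S3459
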