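import Groth.Statements.S3460
import Groth.Agent.EGA43.ProperDvr.Closed
-- import your own Groth.Agent.* helpers here

set_option autoImplicit false
set_option backward.isDefEq.respectTransparency false
open CategoryTheory AlgebraicGeometry
universe u
open EGA43

namespace Groth.Agent.S3460

/-- Let Y be locally Noetherian and f : X ⟶ Y of finite type. Then there exist a scheme Z, a proper
morphism g : X ⟶ Z and an immersion h : Z ⟶ Y with f = g ≫ h if and only if f is proper at every
point of f(X), i.e. every point of f(X) has an open neighbourhood U in Y over which the restriction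
of f is proper. -/
theorem result {X Y : Scheme.{u}} [IsLocallyNoetherian Y]
    (f : X ⟶ Y) [LocallyOfFiniteType f] [QuasiCompact f] :
    (∃ (Z : Scheme.{u}) (g : X ⟶ Z) (h : Z ⟶ Y), IsProper g ∧ IsImmersion h ∧ g ≫ h = f) ↔
      ∀ x : X, ∃ U : Y.Opens, f.base x ∈ U ∧ IsProper (f ∣_ U) := by
  constructor
  · rintro ⟨Z, g, h, hg, hh, rfl⟩ x
    haveI := hg
    haveI := hh
    obtain ⟨U, hxU, hU⟩ : ∃ U : Y.Opens, (g ≫ h).base x ∈ U ∧ IsProper ((g ≫ h) ∣_ U) := by
      let j := h.liftCoborder
      refine ⟨h.coborderRange, ?_, ?_⟩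
      · exact subset_coborder ⟨g.base x, rfl⟩
      · rw [morphismRestrict_comp]
        have hp : IsProper (h ∣_ h.coborderRange) := by
          haveI : IsClosedImmersion (h ∣_ h.coborderRange) := by
            haveI : IsIso (h ⁻¹ᵁ h.coborderRange).ι := by
              rw [show h ⁻¹ᵁ h.coborderRange = ⊤ from TopologicalSpace.Opens.ext
                (Set.eq_univ_of_forall fun z => subset_coborder ⟨z, rfl⟩), ← Scheme.topIso_hom Z]
              infer_instance
            rw [show h ∣_ h.coborderRange = (h ⁻¹ᵁ h.coborderRange).ι ≫ h.liftCoborder by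
              rw [← cancel_mono h.coborderRange.ι, Category.assoc, Scheme.Hom.liftCoborder_ι]
              exact morphismRestrict_ι h _]
            infer_instance
          infer_instance
        haveI := hp
        haveI : IsProper (g ∣_ h ⁻¹ᵁ h.coborderRange) :=
          MorphismProperty.of_isPullback (isPullback_morphismRestrict g _).flip hg
        infer_instance
    exact ⟨U, hxU, hU⟩
  · intro h
    choose U hxU hU using h
    let V : Y.Opens := ⨆ x, U x
    have hV : f ⁻¹ᵁ V = ⊤ := TopologicalSpace.Opens.ext (Set.eq_univ_of_forall fun x =>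
      TopologicalSpace.Opens.mem_iSup.2 ⟨x, hxU x⟩)
    have hr : Set.range f.base ⊆ Set.range V.ι.base := by
      rw [Scheme.Opens.range_ι]
      rintro _ ⟨x, rfl⟩
      exact TopologicalSpace.Opens.mem_iSup.2 ⟨x, hxU x⟩
    refine ⟨V, IsOpenImmersion.lift V.ι f hr, V.ι, ?_, inferInstance, IsOpenImmersion.lift_fac _ _ _⟩
    have hpV : IsProper (f ∣_ V) := by
      refine IsZariskiLocalAtTarget.of_iSup_eq_top (P := @IsProper) (fun x => V.ι ⁻¹ᵁ U x) ?_ fun x => ?_
      · exact top_le_iff.1 fun v _ => by
          obtain ⟨x, hx⟩ := TopologicalSpace.Opens.mem_iSup.1 v.2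
          exact TopologicalSpace.Opens.mem_iSup.2 ⟨x, hx⟩
      · refine (MorphismProperty.arrow_mk_iso_iff @IsProper (morphismRestrictRestrict f V _)).2 ?_
        refine EGA43.ProperDvr.isProper_restrict_of_le f ?_ (hU x)
        rw [Scheme.Hom.image_preimage_eq_opensRange_inf]
        exact inf_le_right
    have e : (f ⁻¹ᵁ V).ι ≫ IsOpenImmersion.lift V.ι f hr = f ∣_ V := by
      rw [← cancel_mono V.ι, Category.assoc, IsOpenImmersion.lift_fac]
      exact (morphismRestrict_ι f V).symm
    haveI : IsIso (f ⁻¹ᵁ V).ι := by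
      rw [hV, ← Scheme.topIso_hom X]
      infer_instance
    rw [← e] at hpV
    exact (MorphismProperty.cancel_left_of_respectsIso @IsProper (f ⁻¹ᵁ V).ι _).1 hpV

end Groth.Agent.S3460
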