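import Groth.Statements.S3483
import Groth.Agent.CdDev9.RealCd
import Groth.Agent.CdDev9.LowerGeneral
import Groth.Agent.CiLib.AlgClosed
-- import your own Groth.Agent.* helpers here

set_option autoImplicit false
set_option linter.all false
set_option backward.isDefEq.respectTransparency.types false
set_option backward.isDefEq.respectTransparency false
set_option synthInstance.maxHeartbeats 400000
set_option maxHeartbeats 1000000
universe u
open CategoryTheory CategoryTheory.Limits AlgebraicGeometry Opposite
open EtCd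

namespace Groth.Agent.S3483

open Groth.Agent

/-- The lower bound for purely transcendental extensions. -/
theorem bound_rational (k : Type u) [Field k] {ℓ : ℕ} (hℓ : ℓ.Prime) (hℓk : (ℓ : k) ≠ 0)
    (hord : ℓ ≠ 2 ∨ ¬ ∃ _ : LinearOrder k, IsStrictOrderedRing k) (t d : ℕ)
    (h : Dix.CohDimLEAt (Spec (CommRingCat.of (FractionRing (MvPolynomial (Fin t) k)))) ℓ d) :
    t ≤ d ∧ Dix.CohDimLEAt (Spec (CommRingCat.of k)) ℓ (d - t) := by
  let P := MvPolynomial (Fin t) k
  let M : Ideal P := RingHom.ker (MvPolynomial.constantCoeff : P →+* k)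
  haveI : M.IsMaximal := RingHom.ker_isMaximal_of_surjective _ fun c => ⟨MvPolynomial.C c, MvPolynomial.constantCoeff_C _ c⟩
  let A := Localization.AtPrime M
  haveI : IsDomain A := IsLocalization.isDomain_localization M.primeCompl_le_nonZeroDivisors
  haveI : IsNoetherianRing A := IsLocalization.isNoetherianRing M.primeCompl A inferInstance
  have hdim : ringKrullDim A = t := by
    rw [IsLocalization.AtPrime.ringKrullDim_eq_height M A]
    refine le_antisymm ?_ (WithBot.coe_le_coe.2 (CiLib.le_height_origin t))
    refine (Ideal.height_le_ringKrullDim_of_ne_top (Ideal.IsPrime.ne_top')).trans ?_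
    rw [MvPolynomial.ringKrullDim_of_isNoetherianRing, ringKrullDim_eq_zero_of_field, zero_add, Nat.card_fin]
  have hu : IsUnit (ℓ : A) := by
    have := (isUnit_iff_ne_zero.2 hℓk).map ((algebraMap P A).comp MvPolynomial.C)
    rwa [map_natCast] at this
  obtain ⟨h1, h2⟩ := CdDev9.LowerGeneral.dim_le_residue hℓ t A hu hdim
    (hord.imp id fun h p _ => CdDev9.LowerGeneral.not_orderable_of_hom
      ((algebraMap A p.asIdeal.ResidueField).comp ((algebraMap P A).comp MvPolynomial.C)) h) d
    (CdDev9.LowerBound.cohDim_localization hℓ P A (FractionRing P) M.primeCompl M.primeCompl_le_nonZeroDivisors h)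
  refine ⟨h1, ?_⟩
  letI : Field (P ⧸ M) := Ideal.Quotient.field M
  let e : k ≃+* IsLocalRing.ResidueField A :=
    (RingHom.quotientKerEquivOfSurjective (f := (MvPolynomial.constantCoeff : P →+* k))
      fun c => ⟨MvPolynomial.C c, MvPolynomial.constantCoeff_C _ c⟩).symm.trans
      (RingEquiv.ofBijective (algebraMap (P ⧸ M) M.ResidueField) M.bijective_algebraMap_quotient_residueField)
  exact CdDev9.DvrBase.cohDimLEAt_ringEquiv hℓ e h2

/-- Let k'/k be a finitely generated field extension of transcendence degree t and ℓ a prime different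
from the characteristic of k. If cd_ℓ(k') < cd_ℓ(k) + t, that is, if for some d the cohomology of
ℓ-primary torsion sheaves on Spec k' vanishes above degree d while either d < t or cd_ℓ(k) ≤ d - t
fails, then ℓ = 2, k admits an ordering making it an ordered field, and k' admits none. -/
theorem result (k k' : Type u) [Field k] [Field k'] [Algebra k k']
    (hfg : ∃ s : Finset k', IntermediateField.adjoin k (s : Set k') = ⊤) (ℓ : ℕ) (hℓ : ℓ.Prime) (hℓk : (ℓ : k) ≠ 0)
    (t : ℕ) (ht : Algebra.trdeg k k' = t)
    (hlt : ∃ d : ℕ, Dix.CohDimLEAt (Spec (CommRingCat.of k')) ℓ d ∧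
      (d < t ∨ ¬ Dix.CohDimLEAt (Spec (CommRingCat.of k)) ℓ (d - t))) :
    ℓ = 2 ∧ (∃ _ : LinearOrder k, IsStrictOrderedRing k) ∧ ¬ (∃ _ : LinearOrder k', IsStrictOrderedRing k') := by
  classical
  obtain ⟨d, hd, hlt⟩ := hlt
  have hmain : ¬ (ℓ ≠ 2 ∨ ¬ ∃ _ : LinearOrder k, IsStrictOrderedRing k) := fun hord => by
    obtain ⟨s, hs⟩ := hfg
    obtain ⟨B, hB⟩ := exists_isTranscendenceBasis k k'
    have hcard : Cardinal.mk B = t := hB.cardinalMk_eq_trdeg.trans ht
    obtain ⟨eB⟩ : Nonempty (Fin t ≃ B) := by
      haveI : Finite B := Cardinal.lt_aleph0_iff_finite.1 (hcard ▸ Cardinal.natCast_lt_aleph0)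
      exact ⟨(Finite.equivFinOfCardEq (by rw [Nat.card, hcard, Cardinal.toNat_natCast])).symm⟩
    let x : Fin t → k' := fun i => (eB i : k')
    have hx : IsTranscendenceBasis k x := hB.comp_equiv eB
    let E := IntermediateField.adjoin k (Set.range x)
    haveI : Algebra.IsAlgebraic E k' := hx.isAlgebraic_field
    haveI : Module.Finite E k' := by
      have htop : IntermediateField.adjoin E (s : Set k') = ⊤ := by
        apply IntermediateField.restrictScalars_injective k
        rw [IntermediateField.restrictScalars_top, eq_top_iff, ← hs]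
        exact IntermediateField.adjoin.mono k _ _ le_rfl |>.trans (IntermediateField.adjoin_le_iff.2
          fun z hz => IntermediateField.subset_adjoin E (s : Set k') hz)
      haveI := IntermediateField.finiteDimensional_adjoin (K := E) (S := (s : Set k'))
        fun z _ => (Algebra.IsAlgebraic.isAlgebraic z).isIntegral
      exact Module.Finite.equiv ((IntermediateField.equivOfEq htop).trans IntermediateField.topEquiv).toLinearEquiv
    have hℓE : (ℓ : E) ≠ 0 := fun h0 => hℓk ((algebraMap k E).injective (by rwa [map_natCast, map_zero]))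
    have hE : Dix.CohDimLEAt (Spec (CommRingCat.of E)) ℓ d :=
      CdDev9.Serre.cohDimLEAt_serre E k' hℓ hℓE
        (hord.imp id (CdDev9.LowerGeneral.not_orderable_of_hom (algebraMap k E))) hd
    obtain ⟨h1, h2⟩ := bound_rational k hℓ hℓk hord t d
      (CdDev9.DvrBase.cohDimLEAt_ringEquiv hℓ hx.1.aevalEquivField.toRingEquiv hE)
    rcases hlt with h | h
    · exact absurd h1 (Nat.not_le.2 h)
    · exact h h2
  push Not at hmain
  obtain ⟨rfl, hk⟩ := hmain
  refine ⟨rfl, hk, fun hk' => ?_⟩
  exact CdDev9.RealCd.not_cd_two k' hk' d (CdDev9.Transc.cdKilled_of_cohDimLEAt hd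
    ⟨two_pos, fun p hp hdvd => (Nat.prime_dvd_prime_iff_eq hp Nat.prime_two).1 hdvd⟩)

end Groth.Agent.S3483
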