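import Groth.Statements.S3485
import Groth.Agent.Elkik5.OfApprox
import Groth.Agent.Elkik5.FEtAffine
import Groth.Agent.S15778
import Groth.Agent.S0549
import Groth.Agent.HenselLib.Perm

set_option linter.all false
set_option backward.isDefEq.respectTransparency.types false
set_option backward.isDefEq.respectTransparency false
set_option autoImplicit false
universe u
open CategoryTheory CategoryTheory.Limits AlgebraicGeometry Opposite
open EtCd

namespace Groth.Agent.S3485

open CategoryTheory AlgebraicGeometry IsLocalRing

theorem isEquivalence_away (A : Type u) [CommRing A] [IsDomain A] (I : Ideal A) (t : A) (hI : I = Ideal.span {t})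
    [HenselianRing A I] [IsDomain (AdicCompletion I A)] (L Q : Type u) [CommRing L] [CommRing Q]
    [Algebra A L] [Algebra (AdicCompletion I A) Q] [IsLocalization.Away t L]
    [IsLocalization.Away (algebraMap A (AdicCompletion I A) t) Q] [Algebra L Q]
    (hcomm : (algebraMap L Q).comp (algebraMap A L) =
      (algebraMap (AdicCompletion I A) Q).comp (algebraMap A (AdicCompletion I A))) :
    (FEt.restrict (Spec.map (CommRingCat.ofHom (algebraMap L Q)))).IsEquivalence := by
  subst hI
  let Ah := AdicCompletion (Ideal.span {t}) A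
  have ht : t ∈ (⊥ : Ideal A).jacobson :=
    HenselianRing.jac (I := Ideal.span {t}) (Ideal.mem_span_singleton_self t)
  letI : Algebra (Localization.Away t) (Localization.Away (algebraMap A Ah t)) :=
    (Localization.awayMap (algebraMap A Ah) t).toAlgebra
  have happ := S15778.approx_adicCompletion t ht (RingHom.algebraMap_toAlgebra _)
  haveI hcomp : IsAdicComplete (Ideal.span {algebraMap A Ah t}) Ah := by
    have := AdicCompletion.isAdicComplete (M := A) (Submodule.fg_span_singleton t)
    have h2 : IsAdicComplete ((Ideal.span {t}).map (algebraMap A Ah)) Ah :=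
      (IsAdicComplete.map_algebraMap_iff ..).mpr this
    rwa [Ideal.map_span, Set.image_singleton] at h2
  have hsep : ∀ a : Ah, (∀ k : ℕ, algebraMap A Ah t ^ k ∣ a) → a = 0 := fun a ha =>
    IsHausdorff.haus hcomp.toIsHausdorff a fun k => by
      rw [SModEq.zero, smul_eq_mul, Ideal.mul_top, Ideal.span_singleton_pow, Ideal.mem_span_singleton]
      exact ha k
  have hbd : ∀ a : Ah, (∃ m : ℕ, algebraMap A Ah t ^ m * a = 0) → algebraMap A Ah t ^ 1 * a = 0 := by
    rintro a ⟨m, hm⟩
    rcases eq_or_ne (algebraMap A Ah t) 0 with h | h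
    · rw [h, pow_one, zero_mul]
    · rw [(mul_eq_zero.1 hm).resolve_left (pow_ne_zero _ h), mul_zero]
  have hD := Elkik5.dense_of_approx (L := L) (Q := Q) (algebraMap A Ah) t (algebraMap L Q) hcomm
    happ.dense happ.dvd ⟨1, hbd⟩ hsep
  have hu : HenselianRing Ah (Ideal.span {algebraMap A Ah t}) := inferInstance
  exact Elkik5.FEtAffine.restrict_isEquivalence (L := L) (Q := Q)
    (fun D C _ _ _ _ _ _ _ _ => hD.bijective_baseChange hu D C)
    (fun C _ _ _ _ => hD.exists_etale_descent hu C)

theorem away_of_fractionRing (A F : Type u) [CommRing A] [IsDomain A] [IsDiscreteValuationRing A] [Field F]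
    [Algebra A F] [IsFractionRing A F] {ϖ : A} (hϖ : Irreducible ϖ) : IsLocalization.Away ϖ F := by
  refine { map_units := ?_, surj := ?_, exists_of_eq := ?_ }
  · rintro ⟨_, k, rfl⟩
    exact isUnit_iff_ne_zero.2 ((map_ne_zero_iff _ (IsFractionRing.injective A F)).2 (pow_ne_zero k hϖ.ne_zero))
  · intro z
    obtain ⟨⟨a, b⟩, hab⟩ := IsLocalization.surj (nonZeroDivisors A) z
    obtain ⟨k, u, hbu⟩ := IsDiscreteValuationRing.eq_unit_mul_pow_irreducible (nonZeroDivisors.ne_zero b.2) hϖ
    refine ⟨(a * ↑u⁻¹, ⟨ϖ ^ k, k, rfl⟩), ?_⟩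
    simp only at hab
    rw [hbu, map_mul] at hab
    show z * algebraMap A F (ϖ ^ k) = algebraMap A F (a * ↑u⁻¹)
    rw [map_mul, ← hab, mul_comm (algebraMap A F ↑u), ← mul_assoc, mul_assoc _ (algebraMap A F ↑u), ← map_mul]
    simp
  · intro x y h
    exact ⟨1, by rw [IsFractionRing.injective A F h]⟩

/-- Let R be a henselian discrete valuation ring with fraction field K, let R^ be its completion (adic
completion at the maximal ideal) and K^ the fraction field of R^. Then base change along Spec K^ →
Spec K is an equivalence from the category of finite etale schemes over Spec K to that over Spec K^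
(equivalently the absolute Galois groups agree). -/
theorem result (R K Khat : Type u) [CommRing R] [IsDomain R]
    [IsDiscreteValuationRing R] [HenselianLocalRing R] [Field K] [Algebra R K] [IsFractionRing R K]
    [Field Khat] [Algebra (AdicCompletion (IsLocalRing.maximalIdeal R) R) Khat]
    [IsFractionRing (AdicCompletion (IsLocalRing.maximalIdeal R) R) Khat]
    [Algebra R Khat] [IsScalarTower R (AdicCompletion (IsLocalRing.maximalIdeal R) R) Khat]
    [Algebra K Khat] [IsScalarTower R K Khat] :
    (FEt.restrict (Spec.map (CommRingCat.ofHom (algebraMap K Khat)))).IsEquivalence := by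
  obtain ⟨_, _⟩ := (S0549.result R).1 ⟨inferInstance, inferInstance⟩
  obtain ⟨ϖ, hϖ⟩ := IsDiscreteValuationRing.exists_irreducible R
  haveI : HenselianRing R (IsLocalRing.maximalIdeal R) := HenselLib.henselianRing_maximalIdeal R
  have hI : IsLocalRing.maximalIdeal R = Ideal.span {ϖ} := hϖ.maximalIdeal_eq
  let Ah := AdicCompletion (IsLocalRing.maximalIdeal R) R
  have hϖ' : Irreducible (algebraMap R Ah ϖ) := by
    rw [IsDiscreteValuationRing.irreducible_iff_uniformizer, AdicCompletion.maximalIdeal_eq_map]
    exact (congrArg (Ideal.map (algebraMap R Ah)) hI).trans (by rw [Ideal.map_span, Set.image_singleton])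
  haveI := away_of_fractionRing R K hϖ
  haveI := away_of_fractionRing Ah Khat hϖ'
  exact isEquivalence_away R (IsLocalRing.maximalIdeal R) ϖ hI K Khat
    (by rw [← IsScalarTower.algebraMap_eq, ← IsScalarTower.algebraMap_eq])

end Groth.Agent.S3485
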