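import Groth.Statements.S3486
import Groth.Agent.CdDev9.LowerGeneral
-- import your own Groth.Agent.* helpers here

set_option autoImplicit false
set_option linter.all false
set_option backward.isDefEq.respectTransparency.types false
set_option backward.isDefEq.respectTransparency false
set_option synthInstance.maxHeartbeats 400000
set_option maxHeartbeats 1000000
universe u
open CategoryTheory CategoryTheory.Limits AlgebraicGeometry Opposite
open EtCd

namespace Groth.Agent.S3486

/-- Let A be a Noetherian henselian local ring of dimension 1 with residue field k, and ℓ a prime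
invertible in A. The ring of rational functions of Spec A is the product of the local rings at the
minimal primes P, whose ℓ-cohomological dimension is that of the fields Frac(A/P); the result: for
every minimal prime P, cd_ℓ(Frac(A/P)) ≤ cd_ℓ(k) + 1, and if ℓ ≠ 2 or k is not orderable then
cd_ℓ(Frac(A/P)) = cd_ℓ(k) + 1 exactly. -/
theorem result (A : Type u) [CommRing A] [IsNoetherianRing A] [HenselianLocalRing A]
    (hdim : ringKrullDim A = 1) (ℓ : ℕ) (hℓ : ℓ.Prime) (hℓA : IsUnit (ℓ : A))
    (P : Ideal A) (hP : P ∈ minimalPrimes A) :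
    (∀ d : ℕ, Dix.CohDimLEAt (Spec (CommRingCat.of (IsLocalRing.ResidueField A))) ℓ d →
        Dix.CohDimLEAt (Spec (CommRingCat.of (FractionRing (A ⧸ P)))) ℓ (d + 1)) ∧
    ((ℓ ≠ 2 ∨ ¬ ∃ _ : LinearOrder (IsLocalRing.ResidueField A), IsStrictOrderedRing (IsLocalRing.ResidueField A)) →
      (∀ d : ℕ, Dix.CohDimLEAt (Spec (CommRingCat.of (IsLocalRing.ResidueField A))) ℓ d ↔
          Dix.CohDimLEAt (Spec (CommRingCat.of (FractionRing (A ⧸ P)))) ℓ (d + 1)) ∧
        ¬ Dix.CohDimLEAt (Spec (CommRingCat.of (FractionRing (A ⧸ P)))) ℓ 0) := by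
  haveI := hP.1.1
  let A' := A ⧸ P
  haveI : IsLocalRing A' := IsLocalRing.of_surjective' (Ideal.Quotient.mk P) Ideal.Quotient.mk_surjective
  haveI : HenselianLocalRing A' := Groth.Agent.HopfQuot.UnitComp.henselianLocalRing_of_finite (R := A) A'
  haveI : IsLocalHom (Ideal.Quotient.mk P) := IsLocalHom.of_surjective _ Ideal.Quotient.mk_surjective
  have hnf : ¬ IsField A' := fun hf => by
    have hmax : P.IsMaximal := Ideal.Quotient.maximal_of_isField P hf
    have hP' : P = IsLocalRing.maximalIdeal A := IsLocalRing.eq_maximalIdeal hmax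
    haveI : Ring.KrullDimLE 0 A := Ring.KrullDimLE.mk₀ fun I hI => by
      have hle : I ≤ P := hP'.symm ▸ IsLocalRing.le_maximalIdeal hI.ne_top
      exact (le_antisymm hle (hP.2 ⟨hI, bot_le⟩ hle)) ▸ hmax
    have := (Ring.krullDimLE_iff (n := 0) (R := A)).1 inferInstance
    rw [hdim] at this
    exact absurd this (by decide)
  haveI : Ring.KrullDimLE 1 A' := Ring.krullDimLE_iff.2 (le_trans (ringKrullDim_quotient_le P) hdim.le)
  have hdim' : ringKrullDim A' = (1 : ℕ) := by
    refine le_antisymm (le_trans (ringKrullDim_quotient_le P) hdim.le) (le_of_not_gt fun h => hnf ?_)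
    haveI : Ring.KrullDimLE 0 A' := Ring.krullDimLE_iff.2 (Order.le_of_lt_succ (by exact_mod_cast h))
    exact Ring.KrullDimLE.isField_of_isDomain
  have hu : IsUnit (ℓ : A') := by
    have := hℓA.map (Ideal.Quotient.mk P)
    rwa [map_natCast] at this
  let φ : IsLocalRing.ResidueField A →+* IsLocalRing.ResidueField A' :=
    IsLocalRing.ResidueField.map (Ideal.Quotient.mk P)
  have hφ : Function.Surjective φ := fun z => by
    obtain ⟨a, rfl⟩ := IsLocalRing.residue_surjective z
    obtain ⟨a, rfl⟩ := Ideal.Quotient.mk_surjective a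
    exact ⟨IsLocalRing.residue A a, rfl⟩
  let e : IsLocalRing.ResidueField A ≃+* IsLocalRing.ResidueField A' := RingEquiv.ofBijective φ ⟨φ.injective, hφ⟩
  have hup : ∀ d : ℕ, Dix.CohDimLEAt (Spec (CommRingCat.of (IsLocalRing.ResidueField A))) ℓ d →
      Dix.CohDimLEAt (Spec (CommRingCat.of (FractionRing A'))) ℓ (d + 1) := fun d hd =>
    Groth.Agent.CdDev9.LowerGeneral.cohDim_fraction_le A' hnf hℓ hu
      (Groth.Agent.CdDev9.DvrBase.cohDimLEAt_ringEquiv hℓ e.symm hd)
  refine ⟨hup, fun hord => ?_⟩
  have hlow := fun d => Groth.Agent.CdDev9.LowerGeneral.dim_le_residue hℓ 1 A' hu hdim'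
    (hord.imp id fun h p hp => by
      have hpm : p.asIdeal = IsLocalRing.maximalIdeal A' :=
        IsLocalRing.eq_maximalIdeal (by
          rcases Ring.krullDimLE_one_iff.mp inferInstance p.asIdeal p.2 with h' | h'
          · rw [IsDomain.minimalPrimes_eq_singleton_bot, Set.mem_singleton_iff] at h'
            exact absurd h' hp
          · exact h')
      refine Groth.Agent.CdDev9.LowerGeneral.not_orderable_of_hom ?_ h
      let g : A →+* p.asIdeal.ResidueField := (algebraMap A' p.asIdeal.ResidueField).comp (Ideal.Quotient.mk P)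
      exact Ideal.Quotient.lift _ g fun a ha => Ideal.algebraMap_residueField_eq_zero.2
        (hpm.symm ▸ map_nonunit (Ideal.Quotient.mk P) a ha)) d
  refine ⟨fun d => ⟨hup d, fun h => ?_⟩, fun h => absurd (hlow 0 h).1 (by omega)⟩
  have := (hlow (d + 1) h).2
  rw [show d + 1 - 1 = d by omega] at this
  exact Groth.Agent.CdDev9.DvrBase.cohDimLEAt_ringEquiv hℓ e this

end Groth.Agent.S3486
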