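import Groth.Statements.S3487
import Groth.Agent.CdDev9.LowerGeneral
-- import your own Groth.Agent.* helpers here

set_option autoImplicit false
set_option linter.all false
set_option backward.isDefEq.respectTransparency.types false
set_option backward.isDefEq.respectTransparency false
set_option synthInstance.maxHeartbeats 400000
set_option maxHeartbeats 1000000
universe u
open CategoryTheory CategoryTheory.Limits AlgebraicGeometry Opposite
open EtCd

namespace Groth.Agent.S3487

/-- Let A be a Noetherian local ring with residue field k and ℓ a prime invertible in A; assume ℓ ≠ 2 or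
that no residue field of Spec A is orderable. Then cd_ℓ(R(A)) ≥ cd_ℓ(k) + dim A, where R(A) is the
ring of rational functions of Spec A: if for some d the cohomology of ℓ-primary torsion sheaves on
Spec Frac(A/P) vanishes above degree d for every minimal prime P, then dim A ≤ d and cd_ℓ(k) ≤ d -
dim A. -/
theorem result (A : Type u) [CommRing A] [IsNoetherianRing A] [IsLocalRing A]
    (ℓ : ℕ) (hℓ : ℓ.Prime) (hℓA : IsUnit (ℓ : A))
    (hord : ℓ ≠ 2 ∨ ∀ p : PrimeSpectrum A, ¬ ∃ _ : LinearOrder (FractionRing (A ⧸ p.asIdeal)),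
      IsStrictOrderedRing (FractionRing (A ⧸ p.asIdeal)))
    (m : ℕ) (hm : ringKrullDim A = m) (d : ℕ)
    (hd : ∀ P ∈ minimalPrimes A, Dix.CohDimLEAt (Spec (CommRingCat.of (FractionRing (A ⧸ P)))) ℓ d) :
    m ≤ d ∧ Dix.CohDimLEAt (Spec (CommRingCat.of (IsLocalRing.ResidueField A))) ℓ (d - m) := by
  obtain ⟨P, hP, hPdim⟩ := Groth.Agent.EGA43.DimFormula.exists_minimalPrime_dim A
  haveI := hP.1.1
  haveI : IsLocalRing (A ⧸ P) := IsLocalRing.of_surjective' (Ideal.Quotient.mk P) Ideal.Quotient.mk_surjective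
  have hu : IsUnit (ℓ : A ⧸ P) := by
    have := hℓA.map (Ideal.Quotient.mk P)
    rwa [map_natCast] at this
  obtain ⟨h1, h2⟩ := Groth.Agent.CdDev9.LowerGeneral.dim_le_residue hℓ m (A ⧸ P) hu (hPdim.trans hm)
    (hord.imp id fun h p _ => by
      let p₀ : PrimeSpectrum A := PrimeSpectrum.comap (Ideal.Quotient.mk P) p
      refine Groth.Agent.CdDev9.LowerGeneral.not_orderable_of_hom ?_ (h p₀)
      exact (Ideal.ResidueField.map p₀.asIdeal p.asIdeal (Ideal.Quotient.mk P) rfl).comp
        (FractionRing.algEquiv (A ⧸ p₀.asIdeal) p₀.asIdeal.ResidueField).toRingEquiv.toRingHom) d (hd P hP)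
  refine ⟨h1, ?_⟩
  haveI : IsLocalHom (Ideal.Quotient.mk P) := IsLocalHom.of_surjective _ Ideal.Quotient.mk_surjective
  let φ : IsLocalRing.ResidueField A →+* IsLocalRing.ResidueField (A ⧸ P) :=
    IsLocalRing.ResidueField.map (Ideal.Quotient.mk P)
  have hφ : Function.Surjective φ := fun z => by
    obtain ⟨a, rfl⟩ := IsLocalRing.residue_surjective z
    obtain ⟨a, rfl⟩ := Ideal.Quotient.mk_surjective a
    exact ⟨IsLocalRing.residue A a, rfl⟩
  exact Groth.Agent.CdDev9.DvrBase.cohDimLEAt_ringEquiv hℓ (RingEquiv.ofBijective φ ⟨φ.injective, hφ⟩) h2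

end Groth.Agent.S3487
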