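import Groth.Statements.S3488
import Groth.Agent.CdDev9.StrictDim
-- import your own Groth.Agent.* helpers here

set_option autoImplicit false
set_option backward.isDefEq.respectTransparency.types false
set_option backward.isDefEq.respectTransparency false
set_option synthInstance.maxHeartbeats 400000
set_option maxHeartbeats 1000000
universe u
open CategoryTheory CategoryTheory.Limits AlgebraicGeometry Opposite
open EtCd

namespace Groth.Agent.S3488

/-- Let X be a Noetherian scheme and ℓ a prime invertible on X. Then cd_ℓ(R(X)) ≥ dim X, where R(X) is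
the ring of rational functions (the product of the local rings at the maximal points): if for some d
the cohomology of ℓ-primary torsion sheaves on Spec κ(x) vanishes above degree d for every maximal
point x of X (generic point of an irreducible component), then dim X ≤ d. -/
theorem result (X : Scheme.{u}) [IsNoetherian X] (ℓ : ℕ) (hℓ : ℓ.Prime)
    (hℓX : Dix.InvertibleOn X ℓ) (d : ℕ)
    (hd : ∀ x : X, closure {x} ∈ irreducibleComponents (X : Type u) →
      Dix.CohDimLEAt (Spec (X.residueField x)) ℓ d) :
    topologicalKrullDim X ≤ d := by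
  rw [Groth.Agent.DimLib.topologicalKrullDim_eq_krullDim, Order.krullDim_eq_iSup_coheight]
  refine iSup_le fun y => ?_
  rw [← ringKrullDim_stalk_eq_coheight]
  let A : Type u := X.presheaf.stalk y
  let R : Type u := Groth.Agent.HenselLib.LocalSH A
  haveI hR : Hensel.IsStrictHenselization A R := Groth.Agent.HenselLib.isStrictHenselization_localSH (R := A)
  haveI := hR.henselian
  haveI : IsSepClosed (IsLocalRing.ResidueField R) := hR.isSepClosure.sep_closed
  haveI := Groth.Agent.CdDev9.weaklyEtale_strict A R
  haveI : IsNoetherianRing R := Groth.Agent.CdDev9.isNoetherianRing_strict A R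
  haveI : Module.Flat A R := inferInstance
  have hu : IsUnit (ℓ : R) := by
    have h : IsUnit (ℓ : A) := by
      by_contra hn
      exact hℓX y (by
        rw [← map_natCast (X.residue y).hom]
        exact (IsLocalRing.residue_eq_zero_iff _).2 hn)
    have := h.map (algebraMap A R)
    rwa [map_natCast] at this
  rw [← Groth.Agent.CdDev9.StrictDim.ringKrullDim_strict A R]
  refine Groth.Agent.CdDev9.StrictDim.dim_le_of_minimalPrimes R hℓ hu d fun P hP => ?_
  haveI := hP.1.1
  let p₀ : Spec (X.presheaf.stalk y) := PrimeSpectrum.comap (algebraMap A R) ⟨P, inferInstance⟩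
  have hsp : X.fromSpecStalk y p₀ ⤳ y := by
    have : X.fromSpecStalk y p₀ ∈ Set.range (X.fromSpecStalk y) := Set.mem_range_self _
    rw [Scheme.range_fromSpecStalk] at this
    exact this
  have hmax : ∀ z : X, z ⤳ X.fromSpecStalk y p₀ → z = X.fromSpecStalk y p₀ := fun z hz => by
    obtain ⟨q, rfl⟩ : z ∈ Set.range (X.fromSpecStalk y) := by
      rw [Scheme.range_fromSpecStalk]
      exact hz.trans hsp
    have hle : PrimeSpectrum.asIdeal q ≤ P.comap (algebraMap A R) :=
      (PrimeSpectrum.le_iff_specializes q p₀).2 ((X.fromSpecStalk y).isEmbedding.isInducing.specializes_iff.1 hz)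
    haveI : P.LiesOver (P.comap (algebraMap A R)) := ⟨rfl⟩
    haveI : (PrimeSpectrum.asIdeal q).IsPrime := (q : PrimeSpectrum A).2
    obtain ⟨Q, hQle, hQp, hQo⟩ := Ideal.exists_ideal_le_liesOver_of_le (S := R) P hle
    have hQP : Q = P := le_antisymm hQle (hP.2 ⟨hQp, bot_le⟩ hQle)
    exact congrArg _ (PrimeSpectrum.ext (hQo.over.trans (by rw [hQP]; rfl)))
  have hcomp : closure {X.fromSpecStalk y p₀} ∈ irreducibleComponents (X : Type u) := by
    refine ⟨isIrreducible_singleton.closure, fun T hT hle => ?_⟩
    obtain ⟨η, hη⟩ := QuasiSober.sober hT.closure isClosed_closure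
    have h1 : η = X.fromSpecStalk y p₀ :=
      hmax η (hη.specializes (subset_closure (hle (subset_closure rfl))))
    rw [← h1, hη.def]
    exact subset_closure
  refine Groth.Agent.CdDev9.RelBound.cohDim_fraction_le hℓ _ y hsp (hd _ hcomp) R P ?_
  rw [Groth.Agent.CycLib28.ker_specMap p₀ hsp]
  exact ⟨⟨inferInstance, Ideal.map_le_iff_le_comap.2 le_rfl⟩, fun Q hQ hle => hP.2 ⟨hQ.1, bot_le⟩ hle⟩

end Groth.Agent.S3488
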