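import Groth.Statements.S3489
import Groth.Agent.CdDev9.StrictDim
-- import your own Groth.Agent.* helpers here

set_option autoImplicit false
set_option backward.isDefEq.respectTransparency.types false
set_option backward.isDefEq.respectTransparency false
set_option synthInstance.maxHeartbeats 400000
set_option maxHeartbeats 1000000
universe u
open CategoryTheory CategoryTheory.Limits AlgebraicGeometry Opposite
open EtCd

namespace Groth.Agent.S3489

/-- Let X be a scheme of finite type over a field k, ℓ a prime nonzero in k, x a point of X and A a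
strict henselization of the local ring of X at x. Then cd_ℓ(R(A)) = dim A, where R(A) is the product
of the local rings of A at its minimal primes: for every d, the cohomology of ℓ-primary torsion
sheaves on Spec Frac(A/P) vanishes above degree d for all minimal primes P of A if and only if dim A
≤ d. -/
theorem result (k : Type u) [Field k] (X : Scheme.{u})
    (f : X ⟶ Spec (CommRingCat.of k)) [LocallyOfFiniteType f] [QuasiCompact f] (ℓ : ℕ) (hℓ : ℓ.Prime) (hℓk : (ℓ : k) ≠ 0)
    (x : X) (R : Type u) [CommRing R] [IsLocalRing R] [Algebra (X.presheaf.stalk x) R]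
      [IsLocalHom (algebraMap (X.presheaf.stalk x) R)] [Hensel.IsStrictHenselization (X.presheaf.stalk x) R] (d : ℕ) :
    (∀ P ∈ minimalPrimes R, Dix.CohDimLEAt (Spec (CommRingCat.of (FractionRing (R ⧸ P)))) ℓ d) ↔
      ringKrullDim R ≤ d := by
  haveI : IsLocallyNoetherian X := LocallyOfFiniteType.isLocallyNoetherian f
  have hR := ‹Hensel.IsStrictHenselization (X.presheaf.stalk x) R›
  haveI := hR.henselian
  haveI : IsSepClosed (IsLocalRing.ResidueField R) := hR.isSepClosure.sep_closed
  haveI := Groth.Agent.CdDev9.isNoetherianRing_strict (X.presheaf.stalk x) R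
  have hu : IsUnit (ℓ : R) := by
    have := ((isUnit_iff_ne_zero.2 hℓk).map
      (Spec.preimage (X.fromSpecStalk x ≫ f)).hom).map (algebraMap (X.presheaf.stalk x) R)
    rwa [map_natCast, map_natCast] at this
  refine ⟨fun h => Groth.Agent.CdDev9.StrictDim.dim_le_of_minimalPrimes R hℓ hu d h, fun hd P hP => ?_⟩
  haveI := hP.1.1
  let p₀ : Spec (X.presheaf.stalk x) := PrimeSpectrum.comap (algebraMap (X.presheaf.stalk x) R) ⟨P, inferInstance⟩
  have hsp : X.fromSpecStalk x p₀ ⤳ x := by
    have : X.fromSpecStalk x p₀ ∈ Set.range (X.fromSpecStalk x) := Set.mem_range_self _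
    rw [Scheme.range_fromSpecStalk] at this
    exact this
  have hmin : P ∈ ((RingHom.ker (Cyc.specMap x (X.fromSpecStalk x p₀) hsp)).map
      (algebraMap (X.presheaf.stalk x) R)).minimalPrimes := by
    rw [Groth.Agent.CycLib28.ker_specMap p₀ hsp]
    exact ⟨⟨inferInstance, Ideal.map_le_iff_le_comap.2 le_rfl⟩, fun Q hQ hle => hP.2 ⟨hQ.1, bot_le⟩ hle⟩
  obtain ⟨j, hj, hcd⟩ := Groth.Agent.CdDev9.FieldBase.cohDim_fraction f hℓ _ x hsp R P hmin
  have h1 := Groth.Agent.CdDev9.StrictDim.ptDim_le_add f hsp
  rw [← Groth.Agent.CdDev9.StrictDim.ringKrullDim_strict (X.presheaf.stalk x) R] at h1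
  have h2 : ringKrullDim R + (Groth.Agent.DimLib.ptDim f x : WithBot ℕ∞) ≤
      ((d + Groth.Agent.DimLib.ptDim f x : ℕ) : WithBot ℕ∞) := by
    push_cast
    exact add_le_add hd le_rfl
  have h3 : Groth.Agent.DimLib.ptDim f (X.fromSpecStalk x p₀) ≤ d + Groth.Agent.DimLib.ptDim f x := by
    exact_mod_cast h1.trans h2
  exact fun F hF q hq => hcd F hF q (by omega)

end Groth.Agent.S3489
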