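import Groth.Statements.S3490
import Groth.Agent.CdDev9.DvrBase
import Groth.Agent.EGA43.DimFormula.Points
-- import your own Groth.Agent.* helpers here

set_option autoImplicit false
set_option linter.all false
set_option backward.isDefEq.respectTransparency.types false
set_option backward.isDefEq.respectTransparency false
set_option synthInstance.maxHeartbeats 400000
set_option maxHeartbeats 1000000
universe u
open CategoryTheory CategoryTheory.Limits AlgebraicGeometry Opposite
open EtCd

namespace Groth.Agent.S3490

/-- Case of a discrete valuation ring as base: let V be a discrete valuation ring, X a scheme of finite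
type over Spec V, ℓ a prime invertible in V, x a point of X and A a strict henselization of the
local ring of X at x. Then cd_ℓ(R(A)) = dim A in the sense of the field case: for every d, the
cohomology of ℓ-primary torsion sheaves on Spec Frac(A/P) vanishes above degree d for all minimal
primes P of A if and only if dim A ≤ d. -/
theorem result (V : Type u) [CommRing V] [IsDomain V] [IsDiscreteValuationRing V]
    (X : Scheme.{u}) (f : X ⟶ Spec (CommRingCat.of V)) [LocallyOfFiniteType f] [QuasiCompact f]
    (ℓ : ℕ) (hℓ : ℓ.Prime) (hℓV : IsUnit (ℓ : V))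
    (x : X) (R : Type u) [CommRing R] [IsLocalRing R] [Algebra (X.presheaf.stalk x) R]
      [IsLocalHom (algebraMap (X.presheaf.stalk x) R)] [Hensel.IsStrictHenselization (X.presheaf.stalk x) R] (d : ℕ) :
    (∀ P ∈ minimalPrimes R, Dix.CohDimLEAt (Spec (CommRingCat.of (FractionRing (R ⧸ P)))) ℓ d) ↔
      ringKrullDim R ≤ d := by
  haveI : IsLocallyNoetherian X := LocallyOfFiniteType.isLocallyNoetherian f
  have hR := ‹Hensel.IsStrictHenselization (X.presheaf.stalk x) R›
  haveI := hR.henselian
  haveI : IsSepClosed (IsLocalRing.ResidueField R) := hR.isSepClosure.sep_closed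
  haveI := Groth.Agent.CdDev9.isNoetherianRing_strict (X.presheaf.stalk x) R
  have hu : IsUnit (ℓ : R) := by
    have := (hℓV.map (Spec.preimage (X.fromSpecStalk x ≫ f)).hom).map (algebraMap (X.presheaf.stalk x) R)
    rwa [map_natCast, map_natCast] at this
  refine ⟨fun h => Groth.Agent.CdDev9.StrictDim.dim_le_of_minimalPrimes R hℓ hu d h, fun hd P hP => ?_⟩
  haveI := hP.1.1
  rw [Groth.Agent.CdDev9.StrictDim.ringKrullDim_strict (X.presheaf.stalk x) R] at hd
  let Y := Spec (CommRingCat.of V)
  let A := Y.presheaf.stalk (f x)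
  letI := Groth.Agent.EGA43.DimFormula.stalkAlgebra f x
  obtain ⟨h1, h2⟩ := Groth.Agent.EGA43.DimFormula.stalk_instances f x
  haveI := h1
  haveI := h2
  letI : Algebra A R := ((algebraMap (X.presheaf.stalk x) R).comp (algebraMap A (X.presheaf.stalk x))).toAlgebra
  haveI : IsScalarTower A (X.presheaf.stalk x) R := IsScalarTower.of_algebraMap_eq' rfl
  let p : Ideal V := PrimeSpectrum.asIdeal (f x)
  letI : Algebra V A := (StructureSheaf.toStalk V (f x)).hom.toAlgebra
  haveI hloc : IsLocalization.AtPrime A p := StructureSheaf.IsLocalization.to_stalk V (f x)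
  by_cases hA : IsLocalRing.maximalIdeal A = (⊥ : Ideal A)
  · haveI : P.LiesOver (IsLocalRing.maximalIdeal A) := ⟨le_antisymm (hA.symm ▸ bot_le)
      (IsLocalRing.le_maximalIdeal (Ideal.IsPrime.comap (algebraMap A R)).ne_top)⟩
    exact Groth.Agent.CdDev9.DvrBase.cohDim_of_under_eq (A := A) (B := X.presheaf.stalk x) hℓ hd P
  · haveI : IsDomain A := IsLocalization.isDomain_of_atPrime A p
    have hp : p ≠ ⊥ := fun h => hA (by
      rw [← IsLocalization.AtPrime.map_eq_maximalIdeal p A, h, Ideal.map_bot])
    haveI : IsDiscreteValuationRing A :=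
      IsLocalization.AtPrime.isDiscreteValuationRing_of_dedekind_domain V hp A
    by_cases hPA : P.under A = IsLocalRing.maximalIdeal A
    · haveI : P.LiesOver (IsLocalRing.maximalIdeal A) := ⟨hPA.symm⟩
      exact Groth.Agent.CdDev9.DvrBase.cohDim_of_under_eq (A := A) (B := X.presheaf.stalk x) hℓ hd P
    · haveI : P.LiesOver (⊥ : Ideal A) := ⟨Eq.symm (by_contra fun h =>
        hPA (IsLocalRing.eq_maximalIdeal (Ideal.IsPrime.isMaximal inferInstance h)))⟩
      refine Groth.Agent.CdDev9.DvrBase.cohDim_of_under_bot (A := A) (B := X.presheaf.stalk x) hℓ ?_ hd P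
      have := hℓV.map (algebraMap V A)
      rwa [map_natCast] at this

end Groth.Agent.S3490
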