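import Groth.Statements.S3491
import Groth.Agent.S19255
import Groth.Agent.CdDev9.Push
import Groth.Agent.CdDev9.Fibre

set_option linter.all false
set_option backward.isDefEq.respectTransparency.types false
set_option backward.isDefEq.respectTransparency false
set_option synthInstance.maxHeartbeats 400000
set_option maxHeartbeats 1000000

set_option autoImplicit false
universe u
open CategoryTheory CategoryTheory.Limits AlgebraicGeometry Opposite
open EtCd

namespace Groth.Agent.S3491

open Groth.Agent.Et18 Groth.Agent.Et18.CdField Groth.Agent.CdDev9 CategoryTheory.Abelian TopologicalSpace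

section Devissage

variable {X : Scheme.{u}} {ℓ : ℕ} {φ : X → ℕ}

theorem low_down (h2 : Strict X ℓ φ) (n : ℕ) (y z : X) (hy : φ y < n) (h : y ⤳ z) : φ z < n := by
  rcases eq_or_ne y z with rfl | hne
  · exact hy
  · exact (lt_of_specializes h2 h hne).trans hy

variable [IsNoetherian X]

theorem vanish_step_closed (hℓ : ℓ.Prime) (h1 : ∀ x : X, CdL (Spec (X.residueField x)) {ℓ} (φ x)) (h2 : Strict X ℓ φ)
    (n : ℕ)
    (ih : ∀ m ≤ n, ∀ F : EtCoh.Ab X, EtAcyc.IsLTorsion {ℓ} F → (∀ x ∈ EtPBC.supp F, φ x < m) →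
      ∀ q, m ≤ q → Subsingleton (EtCoh.H X F q))
    (p : ℕ) (hp : n ≤ p) (G : EtCoh.Ab X) (hG : EtAcyc.IsLTorsion {ℓ} G) (W : Set X) (hW : IsClosed W)
    (hWn : ∀ x ∈ W, φ x < n + 1) (hGW : EtPBC.supp G ⊆ W) :
    Subsingleton (EtCoh.H X G (p + 1)) := by
  classical
  obtain ⟨gen, hgenf, hgenW, hgen⟩ := S19255.exists_finite_generic hW
  let T : Set X := {y | y ∈ W ∧ φ y = n}
  have hmax : ∀ {a b : X}, a ⤳ b → a ∈ W → φ b = n → a = b := fun {a b} h ha hb => by
    by_contra hne
    have h1' := lt_of_specializes h2 h hne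
    have h2' := hWn a ha
    omega
  have hT : T.Finite := hgenf.subset fun y hy => by
    obtain ⟨g, hg, hgy⟩ := hgen y hy.1
    exact (hmax hgy (hgenW hg) hy.2) ▸ hg
  haveI : Fintype T := hT.fintype
  let j : ∀ η : T, Spec (X.residueField η.1) ⟶ X := fun η => X.fromSpecResidueField η.1
  haveI hjc : ∀ η : T, QuasiCompact (j η) := fun η => by
    haveI : QuasiCompact (j η ≫ terminal.from X) := inferInstance
    haveI : QuasiSeparated (terminal.from X) := inferInstance
    exact QuasiCompact.of_comp (j η) (terminal.from X)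
  let P : T → EtCoh.Ab X := fun η => (EtCoh.push (j η)).obj ((EtCoh.pull (j η)).obj G)
  have hPt : ∀ η : T, EtAcyc.IsLTorsion {ℓ} (P η) := fun η => isLTorsion_push (j η) (isLTorsion_pull' (j η) hG)
  let v : G ⟶ ⨁ P := biproduct.lift fun η => (EtCoh.pullPushAdj (j η)).unit.app G
  have hiso : ∀ η : T, IsIso ((EtCoh.stalk (S19255.pt η.1)).map v) := fun η => by
    haveI := S19255.isIso_stalk_biproduct_π P (S19255.pt η.1) η fun b hb => by
      exact S19255.isZero_stalk_push_point b.1 η.1 (fun h => hb (Subtype.ext (hmax h b.2.1 η.2.2))) _ _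
        (S19255.pt_default η.1)
    haveI : IsIso ((EtCoh.stalk (S19255.pt η.1)).map v ≫ (EtCoh.stalk (S19255.pt η.1)).map (biproduct.π P η)) := by
      rw [← Functor.map_comp, biproduct.lift_π]
      exact S19255.isIso_stalk_unit_point η.1 G
    exact IsIso.of_isIso_comp_right _ ((EtCoh.stalk (S19255.pt η.1)).map (biproduct.π P η))
  have hlow : ∀ (M : EtCoh.Ab X), (∀ η : T, IsZero ((EtCoh.stalk (S19255.pt η.1)).obj M)) →
      EtPBC.supp M ⊆ W → ∀ y ∈ EtPBC.supp M, φ y < n := fun M hM hMW y hy => by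
    by_contra h
    have h' := hWn y (hMW hy)
    exact (mem_supp_iff _ _ (S19255.pt_default y)).1 hy (hM ⟨y, hMW hy, by omega⟩)
  have hK : ∀ y ∈ EtPBC.supp (kernel v), φ y < n := hlow _
    (fun η => by
      haveI := hiso η
      exact IsZero.of_iso (isZero_kernel_of_mono _) (PreservesKernel.iso _ v))
    ((ClosedPointSupport.supp_mono (kernel.ι v)).trans hGW)
  have hC : ∀ y ∈ EtPBC.supp (cokernel v), φ y < n := hlow _
    (fun η => by
      haveI := hiso η
      exact IsZero.of_iso (isZero_cokernel_of_epi _) (PreservesCokernel.iso _ v))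
    fun y hy => by
      have hy' : y ∈ EtPBC.supp (⨁ P) := by
        rw [mem_supp_iff _ (sepPoint X y) (sepPoint_default X y)] at hy ⊢
        exact fun h => hy (IsZero.of_epi ((EtCoh.stalk (sepPoint X y)).map (cokernel.π v)) h)
      obtain ⟨η, hη⟩ : ∃ η : T, η.1 ⤳ y := by
        by_contra hno
        push Not at hno
        exact (mem_supp_iff _ (sepPoint X y) (sepPoint_default X y)).1 hy'
          (S19255.isZero_stalk_biproduct P y fun b =>
            S19255.isZero_stalk_push_point b.1 y (hno b) _ _ (sepPoint_default X y))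
      exact hη.mem_closed hW η.2.1
  have hP : Subsingleton (EtCoh.H X (⨁ P) (p + 1)) := by
    refine subsingleton_of_forall_eq 0 fun z => GalEt.eq_zero_of_biproduct P (p + 1) z fun η => ?_
    refine @Subsingleton.elim _ ?_ _ _
    have hGη := isLTorsion_pull' (j η) hG
    refine CdDev9.subsingleton_H_push (j η) p _ (h1 η.1 _ hGη (p + 1) (by rw [η.2.2]; omega)) fun t r h => ?_
    refine ih (n - (t + 1)) (Nat.sub_le _ _) _ (TorsionColim.isLTorsion_Rpush {ℓ} _ (j η) hGη (t + 1)) (fun y hy => ?_)
      r (by omega)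
    have hs := supp_Rpush_point hℓ h2 η.1 _ hGη t y hy
    rw [η.2.2] at hs
    omega
  let ι' := Abelian.image.ι v
  let π' := Abelian.factorThruImage v
  have hz : kernel.ι v ≫ π' = 0 := by
    rw [← cancel_mono ι', Category.assoc, Abelian.image.fac, kernel.condition, zero_comp]
  have hS₂ : (ShortComplex.mk ι' (cokernel.π v) (kernel.condition _)).ShortExact :=
    { exact := ShortComplex.exact_kernel _
      mono_f := inferInstanceAs (Mono (Abelian.image.ι v))
      epi_g := inferInstanceAs (Epi (cokernel.π v)) }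
  have hS₁ : (ShortComplex.mk (kernel.ι v) π' hz).ShortExact := SiteCmp16.imSeq_shortExact v
  have hI : Subsingleton (EtCoh.H X (Abelian.image v) (p + 1)) := by
    refine subsingleton_of_forall_eq 0 fun z => ?_
    obtain ⟨y, hy⟩ := Ext.covariant_sequence_exact₁ _ hS₂ z (@Subsingleton.elim _ hP _ _) (n₀ := p) rfl
    rw [← hy, show y = 0 from @Subsingleton.elim _
      (ih n le_rfl _ (isLTorsion_of_epi _ (cokernel.π v) (isLTorsion_biproduct P hPt)) hC p hp) _ _, Ext.zero_comp]
  exact CdField.subsingleton_of_shortExact hS₁ (ih n le_rfl _ (isLTorsion_of_mono (kernel.ι v) hG) hK (p + 1) (by omega)) hI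

theorem vanish (hℓ : ℓ.Prime) (h1 : ∀ x : X, CdL (Spec (X.residueField x)) {ℓ} (φ x)) (h2 : Strict X ℓ φ) :
    ∀ (m : ℕ) (F : EtCoh.Ab X), EtAcyc.IsLTorsion {ℓ} F → (∀ x ∈ EtPBC.supp F, φ x < m) →
      ∀ q, m ≤ q → Subsingleton (EtCoh.H X F q) := by
  intro m
  induction m using Nat.strong_induction_on with
  | _ m ih =>
  intro F hF hsupp q hq
  rcases m with _ | n
  · exact Sheaf.subsingleton_H_of_isZero (ClosedPointSupport.isZero_of_supp_empty
      (Set.eq_empty_iff_forall_notMem.2 fun x hx => Nat.not_lt_zero _ (hsupp x hx))) q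
  obtain ⟨p, rfl⟩ : ∃ p, q = p + 1 := ⟨q - 1, by omega⟩
  let S : Set X := {x | φ x < n + 1}
  obtain ⟨hc⟩ := S19255.nonempty_isColimit S F (fun y z => low_down h2 (n + 1) y z) hsupp
  have := EtCechLib.preservesColimitsOfShape_HF (X := X) (p + 1) (S19255.Idx S)
  refine subsingleton_of_forall_eq 0 fun z => ?_
  obtain ⟨W, b, hb⟩ := Concrete.isColimit_exists_rep _ (isColimitOfPreserves (EtCoh.HF X (p + 1)) hc)
    (show ((EtCoh.HF X (p + 1)).obj F : Type (u + 1)) from z)
  haveI hmono : Mono ((S19255.cocone S F).ι.app W) := inferInstanceAs (Mono (kernel.ι _))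
  have hW : Subsingleton (EtCoh.H X ((S19255.diag S F).obj W) (p + 1)) :=
    vanish_step_closed hℓ h1 h2 n (fun m' hm' => ih m' (Nat.lt_succ_of_le hm')) p (Nat.le_of_succ_le_succ hq) _
      (isLTorsion_of_mono ((S19255.cocone S F).ι.app W) hF) _ W.down.1.isClosed W.down.2
      (S19255.supp_diag_subset S F W)
  show (show ((EtCoh.HF X (p + 1)).obj F : Type (u + 1)) from z) = 0
  rw [← hb]
  exact (congrArg _ (@Subsingleton.elim _ hW (show EtCoh.H X ((S19255.diag S F).obj W) (p + 1) from b) 0)).trans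
    (map_zero _)

end Devissage

/-- Let X be a Noetherian scheme, ℓ a prime and φ : X → ℕ a function such that (i) cd_ℓ(κ(x)) ≤ φ(x) for
every point x, and (ii) for all points x ≠ y with y in the closure of x, every strict henselization
R of the local ring of X at y, and every prime P of R minimal over the ideal generated by the prime
of x (so that the Frac(R/P) are the residue fields of the ring of rational functions of the strict
localization at y of the closure of x), cd_ℓ(Frac(R/P)) < φ(x) - φ(y). Then for every ℓ-primary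
torsion abelian sheaf F on the small etale site of X, H^q(X, F) = 0 for every q exceeding φ(x) at
all points x where F has a nonzero geometric stalk. -/
theorem result (X : Scheme.{u}) [IsNoetherian X] (ℓ : ℕ) (hℓ : ℓ.Prime) (φ : X → ℕ)
    (h1 : ∀ x : X, Dix.CohDimLEAt (Spec (X.residueField x)) ℓ (φ x))
    (h2 : ∀ (x y : X) (hxy : x ⤳ y), x ≠ y →
      ∀ (R : Type u) [CommRing R] [IsLocalRing R] [Algebra (X.presheaf.stalk y) R]
      [IsLocalHom (algebraMap (X.presheaf.stalk y) R)] [Hensel.IsStrictHenselization (X.presheaf.stalk y) R],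
      ∀ P ∈ ((RingHom.ker (Cyc.specMap y x hxy)).map (algebraMap (X.presheaf.stalk y) R)).minimalPrimes,
        ∃ d : ℕ, d + 1 + φ y ≤ φ x ∧ Dix.CohDimLEAt (Spec (CommRingCat.of (FractionRing (R ⧸ P)))) ℓ d)
    (F : EtCoh.Ab X) (hF : Dix.IsPrimaryTorsion ℓ F) (q : ℕ) (hq : ∀ x ∈ EtPBC.supp F, φ x < q) :
    Subsingleton (EtCoh.H X F q) := by
  exact vanish hℓ (fun x => CdDev9.cdL_of_cohDim hℓ (h1 x)) h2 q F ((CdField.isLTorsion_iff hℓ F).1 hF) hq q le_rfl

end Groth.Agent.S3491
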