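import Groth.Statements.S3492
import Groth.Agent.S3491
import Mathlib.RingTheory.Ideal.KrullsHeightTheorem
import Mathlib.AlgebraicGeometry.Properties

set_option linter.all false
set_option backward.isDefEq.respectTransparency.types false
set_option backward.isDefEq.respectTransparency false
set_option synthInstance.maxHeartbeats 400000
set_option maxHeartbeats 1000000

set_option autoImplicit false
universe u
open CategoryTheory CategoryTheory.Limits AlgebraicGeometry Opposite
open EtCd

namespace Groth.Agent.S3492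

open Groth.Agent

/-- The codimension of a point. -/
theorem exists_codim (X : Scheme.{u}) [IsLocallyNoetherian X] (x : X) :
    ∃ c : ℕ, ringKrullDim (X.presheaf.stalk x) = c ∧ Order.coheight x = (c : ℕ∞) := by
  have h1 := ringKrullDim_stalk_eq_coheight x
  have h2 : ringKrullDim (X.presheaf.stalk x) < ⊤ := ringKrullDim_lt_top
  rw [h1] at h2
  obtain ⟨c, hc⟩ := ENat.ne_top_iff_exists.1 (WithBot.coe_lt_coe.1 h2).ne
  exact ⟨c, by rw [h1, ← hc]; rfl, hc.symm⟩

/-- Dimensions of the fibres over points of strict localizations. -/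
theorem codim_add_le {X : Scheme.{u}} {x y : X} (hxy : x ⤳ y) (R : Type u) [CommRing R] [IsLocalRing R]
    [Algebra (X.presheaf.stalk y) R] [IsLocalHom (algebraMap (X.presheaf.stalk y) R)]
    [Hensel.IsStrictHenselization (X.presheaf.stalk y) R] (e : ℕ)
    (he : ringKrullDim (R ⧸ (RingHom.ker (Cyc.specMap y x hxy)).map (algebraMap (X.presheaf.stalk y) R)) = e) :
    Order.coheight x + e ≤ Order.coheight y := by
  let A := X.presheaf.stalk y
  let p := RingHom.ker (Cyc.specMap y x hxy)
  let I := p.map (algebraMap A R)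
  haveI := CdDev9.weaklyEtale_strict A R
  obtain ⟨P, hP⟩ : ∃ P : Spec A, X.fromSpecStalk y P = x := by
    have h : x ∈ Set.range (X.fromSpecStalk y) := by
      rw [Scheme.range_fromSpecStalk]
      exact hxy
    exact h
  have hpP : p = P.asIdeal := by
    subst hP
    exact CycLib28.ker_specMap P hxy
  let g : PrimeSpectrum (R ⧸ I) → PrimeSpectrum A := fun q =>
    PrimeSpectrum.comap (algebraMap A R) (PrimeSpectrum.comap (Ideal.Quotient.mk I) q)
  let f : PrimeSpectrum (R ⧸ I) → X := fun q => X.fromSpecStalk y (g q)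
  have hanti : ∀ q q' : PrimeSpectrum (R ⧸ I), q < q' → f q' < f q := fun q q' h => by
    have hle : g q ≤ g q' := Ideal.comap_mono (Ideal.comap_mono h.le)
    refine lt_iff_le_not_ge.2 ⟨Scheme.le_iff_specializes.2
      (((PrimeSpectrum.le_iff_specializes _ _).1 hle).map (X.fromSpecStalk y).continuous), fun h' => h.ne ?_⟩
    have h1 : g q' = g q := (X.fromSpecStalk y).isEmbedding.injective
      ((Scheme.le_iff_specializes.1 h').antisymm
        (((PrimeSpectrum.le_iff_specializes _ _).1 hle).map (X.fromSpecStalk y).continuous)).eq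
    refine PrimeSpectrum.ext (Ideal.comap_injective_of_surjective (Ideal.Quotient.mk I) Ideal.Quotient.mk_surjective ?_)
    exact HenselLib.WEt.eq_of_le_of_comap_eq (A := A) (Ideal.comap_mono h.le)
      (congrArg PrimeSpectrum.asIdeal h1).symm
  obtain ⟨l, hl⟩ := Order.le_krullDim_iff.1 (show ((e : ℕ) : WithBot ℕ∞) ≤ Order.krullDim (PrimeSpectrum (R ⧸ I)) from
    he.ge)
  have hstep : ∀ i : Fin (l.length + 1), Order.coheight x + (i : ℕ) ≤ Order.coheight (f (l i)) := by
    intro i
    induction i using Fin.induction with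
    | zero =>
      rw [Fin.val_zero, Nat.cast_zero, add_zero]
      refine Order.coheight_anti (Scheme.le_iff_specializes.2 ?_)
      rw [← hP]
      refine ((PrimeSpectrum.le_iff_specializes P _).1 ?_).map (X.fromSpecStalk y).continuous
      show P.asIdeal ≤ _
      rw [← hpP]
      refine Ideal.map_le_iff_le_comap.1 (le_trans ?_ (Ideal.ker_le_comap _))
      exact Ideal.mk_ker.ge
    | succ i ih =>
      rw [Fin.val_succ, Nat.cast_succ, ← add_assoc]
      refine le_trans ?_ (Order.coheight_add_one_le (hanti _ _ (l.step i)))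
      rw [Fin.val_castSucc] at ih
      gcongr
  have hlast := hstep (Fin.last l.length)
  rw [Fin.val_last] at hlast
  rw [← hl]
  refine hlast.trans (Order.coheight_anti (Scheme.le_iff_specializes.2 ?_))
  have h := (X.fromSpecStalk y).continuous
  have hm := ((PrimeSpectrum.le_iff_specializes (g (l (Fin.last l.length))) (IsLocalRing.closedPoint A)).1
    (IsLocalRing.le_maximalIdeal (g (l (Fin.last l.length))).2.ne_top)).map h
  rw [Scheme.fromSpecStalk_closedPoint] at hm
  exact hm

/-- Let X be a Noetherian scheme, ℓ a prime and n a natural number such that (i) for every point y of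
codimension c (dimension of the local ring) one has 2c ≤ n and cd_ℓ(κ(y)) ≤ n - 2c, and (ii) for all
points x, y with y in the closure of x and every strict henselization R of the local ring at y,
putting A = R / p_x R (a strict localization of the closure of x with its reduced structure),
cd_ℓ(Frac(R/P)) ≤ dim A for every prime P of R minimal over p_x R. Then for every ℓ-primary torsion
abelian sheaf F whose geometric stalks vanish at all points of codimension < s, H^q(X, F) = 0 for q
> n - 2s; in particular (s = 0) cd_ℓ(X) ≤ n. -/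
theorem result (X : Scheme.{u}) [IsNoetherian X] (ℓ : ℕ) (hℓ : ℓ.Prime) (n : ℕ)
    (h1 : ∀ (y : X) (c : ℕ), ringKrullDim (X.presheaf.stalk y) = c →
      2 * c ≤ n ∧ Dix.CohDimLEAt (Spec (X.residueField y)) ℓ (n - 2 * c))
    (h2 : ∀ (x y : X) (hxy : x ⤳ y), ∀ (R : Type u) [CommRing R] [IsLocalRing R] [Algebra (X.presheaf.stalk y) R]
      [IsLocalHom (algebraMap (X.presheaf.stalk y) R)] [Hensel.IsStrictHenselization (X.presheaf.stalk y) R],
      ∀ P ∈ ((RingHom.ker (Cyc.specMap y x hxy)).map (algebraMap (X.presheaf.stalk y) R)).minimalPrimes,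
        ∀ e : ℕ, ringKrullDim (R ⧸ (RingHom.ker (Cyc.specMap y x hxy)).map (algebraMap (X.presheaf.stalk y) R)) = e →
          Dix.CohDimLEAt (Spec (CommRingCat.of (FractionRing (R ⧸ P)))) ℓ e)
    (s : ℕ) (F : EtCoh.Ab X) (hF : Dix.IsPrimaryTorsion ℓ F)
    (hs : ∀ y ∈ EtPBC.supp F, (s : WithBot ℕ∞) ≤ ringKrullDim (X.presheaf.stalk y))
    (q : ℕ) (hq : n < q + 2 * s) :
    Subsingleton (EtCoh.H X F q) := by
  choose c hc hcc using exists_codim X
  refine S3491.result X ℓ hℓ (fun x => n - 2 * c x) (fun x => (h1 x (c x) (hc x)).2) ?_ F hF q ?_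
  · intro x y hxy hne R _ _ _ _ _ P hP
    have hlt : c x < c y := by
      have hl : y < x := lt_iff_le_not_ge.2
        ⟨Scheme.le_iff_specializes.2 hxy, fun h' => hne (hxy.antisymm (Scheme.le_iff_specializes.1 h')).eq⟩
      have := Order.coheight_strictAnti hl (by rw [hcc]; exact ENat.natCast_lt_top _)
      rw [hcc, hcc, Nat.cast_lt] at this
      exact this
    let I := (RingHom.ker (Cyc.specMap y x hxy)).map (algebraMap (X.presheaf.stalk y) R)
    haveI : IsNoetherianRing R := CdDev9.isNoetherianRing_strict (X.presheaf.stalk y) R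
    haveI : IsLocalRing (R ⧸ I) := by
      haveI : Nontrivial (R ⧸ I) := Ideal.Quotient.nontrivial_iff.2 (fun h => by
        have := hP.1.1.ne_top
        exact this (top_le_iff.1 (h ▸ hP.1.2)))
      exact IsLocalRing.of_surjective' (Ideal.Quotient.mk I) Ideal.Quotient.mk_surjective
    obtain ⟨e, he⟩ : ∃ e : ℕ, ringKrullDim (R ⧸ I) = e := by
      have h2' : ringKrullDim (R ⧸ I) < ⊤ := ringKrullDim_lt_top
      have h0 : (0 : WithBot ℕ∞) ≤ ringKrullDim (R ⧸ I) := ringKrullDim_nonneg_of_nontrivial
      obtain ⟨v, hv⟩ := WithBot.ne_bot_iff_exists.1 (ne_bot_of_le_ne_bot WithBot.zero_ne_bot h0)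
      rw [← hv] at h2'
      obtain ⟨e, rfl⟩ := ENat.ne_top_iff_exists.1 (WithBot.coe_lt_coe.1 h2').ne
      exact ⟨e, hv.symm⟩
    refine ⟨e, ?_, h2 x y hxy R P hP e he⟩
    have hle := codim_add_le hxy R e he
    rw [hcc, hcc, ← Nat.cast_add, Nat.cast_le] at hle
    have := (h1 y (c y) (hc y)).1
    omega
  · intro x hx
    have h := hs x hx
    rw [hc x] at h
    have h' : s ≤ c x := by exact_mod_cast h
    have := (h1 x (c x) (hc x)).1
    omega

end Groth.Agent.S3492
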