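import Groth.Statements.S3495
import Groth.Agent.CdDev9.DimFun
import Groth.Agent.AS24.Surj
import Groth.Agent.Coherent.ProjSpaceFinite

set_option autoImplicit false
set_option backward.isDefEq.respectTransparency.types false
set_option backward.isDefEq.respectTransparency false
universe u
open CategoryTheory CategoryTheory.Limits AlgebraicGeometry Opposite
open EtCd

namespace Groth.Agent.S3495

/-- Let k be a separably closed field of characteristic p > 0 and X a quasi-projective scheme over k (X
admits a k-immersion into a projective space over k) of dimension at most n. Then cd_p(X) ≤ n: the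
etale cohomology of every p-primary torsion abelian sheaf on X vanishes above degree n. -/
theorem result (k : Type u) [Field k] [IsSepClosed k] (p : ℕ) [Fact p.Prime] [CharP k p]
    (X : Scheme.{u}) (f : X ⟶ Spec (CommRingCat.of k)) [LocallyOfFiniteType f]
    (hqp : ∃ (N : ℕ) (i : X ⟶ CohB1.ProjSpaceOver N (Spec (CommRingCat.of k))),
      IsImmersion i ∧ i ≫ CohB1.ProjSpaceOver.toBase N (Spec (CommRingCat.of k)) = f)
    (n : ℕ) (hn : topologicalKrullDim X ≤ n) :
    Dix.CohDimLEAt X p n := by
  obtain ⟨N, i, hi, e⟩ := hqp
  haveI := hi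
  haveI : IsProper (CohB1.ProjSpaceOver.toBase N (Spec (CommRingCat.of k))) :=
    MorphismProperty.pullback_snd (P := @IsProper) _ _ (Groth.Agent.Coherent.isProper_projSpace_toSpec N (ULift.{u} ℤ))
  haveI : IsLocallyNoetherian (CohB1.ProjSpaceOver N (Spec (CommRingCat.of k))) :=
    LocallyOfFiniteType.isLocallyNoetherian (CohB1.ProjSpaceOver.toBase N (Spec (CommRingCat.of k)))
  haveI : QuasiCompact i := by rw [← i.liftCoborder_ι]; infer_instance
  haveI : IsSeparated f := e ▸ inferInstance
  haveI : QuasiCompact f := e ▸ inferInstance
  haveI : IsLocallyNoetherian X := LocallyOfFiniteType.isLocallyNoetherian f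
  haveI : CompactSpace X := QuasiCompact.compactSpace_of_compactSpace f
  haveI : AlgebraicGeometry.IsNoetherian X := { }
  refine Groth.Agent.CdDev9.cohDimLEAt_of_const p Fact.out n 0 hn fun Y g _ _ d hd q hq => ?_
  exact Groth.Agent.AS24.subsingleton_const_above_dim k p Y (g ≫ f) d hd q hq

end Groth.Agent.S3495
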