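import Groth.Statements.S3500
import Groth.Agent.CdDev9.DiscreteCover
import Groth.Agent.S0238
import Groth.Agent.S1186
import Groth.Agent.S9383
import Groth.Agent.FEtFF.BiratPurity
import Groth.Agent.AlgSpLib.DiscreteFibres
import Groth.Agent.Et18.ClosedPointSupport
import Groth.Agent.H8Lim.ProConsLimit
import Groth.Agent.H8ProCons.Global
import Groth.Agent.DimLib.Points

set_option autoImplicit false
set_option backward.isDefEq.respectTransparency.types false
set_option backward.isDefEq.respectTransparency false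
set_option linter.all false
set_option maxHeartbeats 1000000
universe u
open CategoryTheory CategoryTheory.Limits AlgebraicGeometry Opposite
open EtCd TopologicalSpace

namespace Groth.Agent.S3500

/-- Restriction along a composition. -/
noncomputable def restrictComp {A B C : Scheme.{u}} (f : A ⟶ B) (g : B ⟶ C) (h : A ⟶ C) (e : f ≫ g = h) :
    FEt.restrict h ≅ FEt.restrict g ⋙ FEt.restrict f :=
  MorphismProperty.Over.pullbackComp (P := FEt.prop) (Q := ⊤) f g h e.symm

theorem isClosed_points_boundary {Z : Scheme.{u}} [IsLocallyNoetherian Z] (hdim : topologicalKrullDim Z ≤ 1)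
    (C : Z.Opens) (x : Z) (hx : x ∈ closure (C : Set Z)) (hxC : x ∉ C) : IsClosed ({x} : Set Z) := by
  have hcons : ProCons.IsProConstructible (C : Set Z) := fun y => by
    obtain ⟨U, hU, hyU, -⟩ := exists_isAffineOpen_mem_and_subset (x := y) (U := ⊤) trivial
    refine ⟨U, U.isOpen, hyU, {Subtype.val ⁻¹' (C : Set Z)}, ?_, (Set.sInter_singleton _).symm⟩
    rintro T rfl
    haveI : IsAffine U.toScheme := hU
    haveI : AlgebraicGeometry.IsNoetherian U.toScheme := { }
    have h : Topology.IsConstructible (U.ι ⁻¹' (C : Set Z)) :=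
      (NoetherianSpace.isCompact _).isConstructible (C.isOpen.preimage U.ι.continuous)
    exact h.isLocallyConstructible
  obtain ⟨y, hy, hyx⟩ := (Groth.Agent.H8Lim.mem_closure_iff_exists_specializes hcons).1 hx
  refine closure_subset_iff_isClosed.1 fun z hz => ?_
  by_contra hne
  have h1 : z < x := lt_of_le_not_ge (specializes_iff_mem_closure.2 hz) fun h => hne
    ((show z ⤳ x from h).antisymm (specializes_iff_mem_closure.2 hz)).eq
  have h2 : x < y := lt_of_le_not_ge hyx fun h => hxC
    (((show x ⤳ y from h).antisymm hyx).eq ▸ hy)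
  rw [DimLib.topologicalKrullDim_eq_krullDim] at hdim
  let s : LTSeries Z := ((RelSeries.singleton _ z).snoc x h1).snoc y (by simpa using h2)
  have h3 := (Order.LTSeries.length_le_krullDim s).trans hdim
  have h4 : ((2 : ℕ) : WithBot ℕ∞) ≤ ((1 : ℕ) : WithBot ℕ∞) := by simpa [s] using h3
  exact absurd (by exact_mod_cast h4 : (2 : ℕ) ≤ 1) (by omega)

/-- Let k be a separably closed field, Z a scheme locally of finite type over k of dimension at most 1,
and i : X → Z a closed immersion with X connected. Then every finite etale scheme over X is induced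
by a finite etale scheme over Z: restriction of finite etale covers along i is essentially
surjective. -/
theorem result (k : Type u) [Field k] [IsSepClosed k] (Z X : Scheme.{u})
    (a : Z ⟶ Spec (CommRingCat.of k)) [LocallyOfFiniteType a] (hdim : topologicalKrullDim Z ≤ 1)
    (i : X ⟶ Z) [IsClosedImmersion i] [ConnectedSpace X] :
    (FEt.restrict i).EssSurj := by
  refine ⟨fun W => ?_⟩
  haveI : IsLocallyNoetherian Z := LocallyOfFiniteType.isLocallyNoetherian a
  haveI := W.prop.1
  haveI := W.prop.2
  obtain ⟨n, hn⟩ : ∃ n, W.hom.finrank = fun _ => n := by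
    obtain ⟨x₀⟩ := (inferInstance : Nonempty X)
    haveI : PreconnectedSpace ↥((Functor.fromPUnit X).obj W.right) := (inferInstance : PreconnectedSpace X)
    exact ⟨W.hom.finrank x₀, funext fun x => W.hom.isLocallyConstant_finrank.apply_eq_of_preconnectedSpace x x₀⟩
  let C : Z.Opens := ⟨(Set.range i)ᶜ, i.isClosedEmbedding.isClosed_range.isOpen_compl⟩
  let I := i.ker
  let J := Scheme.IdealSheafData.vanishingIdeal (⟨closure (C : Set Z), isClosed_closure⟩ : TopologicalSpace.Closeds Z)
  let ιI := Scheme.IdealSheafData.inclusion (le_sup_left : I ≤ I ⊔ J)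
  let ιJ := Scheme.IdealSheafData.inclusion (le_sup_right : J ≤ I ⊔ J)
  let aI := Scheme.IdealSheafData.inclusion (inf_le_left : I ⊓ J ≤ I)
  let aJ := Scheme.IdealSheafData.inclusion (inf_le_right : I ⊓ J ≤ J)
  haveI : IsClosedImmersion ιI := by
    haveI : IsClosedImmersion (ιI ≫ I.subschemeι) := by
      rw [Scheme.IdealSheafData.inclusion_subschemeι]; infer_instance
    exact IsClosedImmersion.of_comp ιI I.subschemeι
  haveI : IsClosedImmersion ιJ := by
    haveI : IsClosedImmersion (ιJ ≫ J.subschemeι) := by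
      rw [Scheme.IdealSheafData.inclusion_subschemeι]; infer_instance
    exact IsClosedImmersion.of_comp ιJ J.subschemeι
  let e : X ⟶ I.subscheme := i.toImage
  have he : e ≫ I.subschemeι = i := i.toImage_imageι
  haveI : IsIso e := inferInstanceAs (IsIso i.toImage)
  haveI := FEtFF.BiratPurity.restrict_isEquivalence_of_isIso e
  let WI := (FEt.restrict e).objPreimage W
  haveI := WI.prop.1
  haveI := WI.prop.2
  let εW := (FEt.restrict e).objObjPreimageIso W
  have hWI : WI.hom.finrank = fun _ => n := by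
    funext x
    obtain ⟨x', rfl⟩ := e.surjective x
    refine (Scheme.Hom.finrank_pullback_snd WI.hom e x').symm.trans (Eq.trans ?_ (congrFun hn x'))
    have h1 : εW.hom.left ≫ W.hom = pullback.snd WI.hom e := MorphismProperty.Over.w εW.hom
    haveI : IsIso εW.hom.left := inferInstanceAs (IsIso ((MorphismProperty.Over.forget _ _ _ ⋙ Over.forget _).map εW.hom))
    rw [← h1, Scheme.Hom.finrank_comp_left_of_isIso]
  let T₀ : Scheme.{u} := Spec (CommRingCat.of (Fin n → k))
  let t₀ : T₀ ⟶ Spec (CommRingCat.of k) := Spec.map (CommRingCat.ofHom (algebraMap k (Fin n → k)))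
  haveI : IsFinite t₀ := (IsFinite.SpecMap_iff _).2 (RingHom.finite_algebraMap.2 inferInstance)
  haveI : Etale t₀ := (HasRingHomProperty.Spec_iff (P := @Etale)).2 (RingHom.etale_algebraMap.2 inferInstance)
  have ht₀ : t₀.finrank = fun _ => n := by
    funext x
    rw [Scheme.Hom.finrank_SpecMap_algebraMap, Module.rankAtStalk_eq_finrank_of_free]
    simp
  let cT : FEt.Cat (Spec (CommRingCat.of k)) := MorphismProperty.Over.mk ⊤ t₀ ⟨inferInstance, inferInstance⟩
  let VJ := (FEt.restrict (J.subschemeι ≫ a)).obj cT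
  haveI := VJ.prop.1
  haveI := VJ.prop.2
  have hVJ : ∀ y, VJ.hom.finrank y = n := fun y =>
    (Scheme.Hom.finrank_pullback_snd t₀ (J.subschemeι ≫ a) y).trans (congrFun ht₀ _)
  let A := (FEt.restrict ιI).obj WI
  let B := (FEt.restrict ιJ).obj VJ
  haveI := A.prop.1
  haveI := A.prop.2
  haveI := B.prop.1
  haveI := B.prop.2
  let M := (I ⊔ J).subscheme
  have hcl : ∀ m : M, IsClosed ({m} : Set M) := by
    intro m
    have hm : (I ⊔ J).subschemeι m ∈ Set.range i ∩ closure (C : Set Z) := by
      refine ⟨?_, ?_⟩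
      · rw [← Scheme.IdealSheafData.inclusion_subschemeι (le_sup_left : I ≤ I ⊔ J), ← he]
        obtain ⟨x, hx⟩ := e.surjective (ιI m)
        exact ⟨x, by rw [Scheme.Hom.comp_apply, Scheme.Hom.comp_apply, hx]⟩
      · rw [← Scheme.IdealSheafData.inclusion_subschemeι (le_sup_right : J ≤ I ⊔ J), Scheme.Hom.comp_apply]
        have : Set.range J.subschemeι = closure (C : Set Z) := by rw [J.range_subschemeι]; rfl
        exact this ▸ ⟨_, rfl⟩
    have := (isClosed_points_boundary hdim C _ hm.2 (fun h => h hm.1)).preimage (I ⊔ J).subschemeι.continuous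
    convert this using 1
    ext m'
    exact ⟨fun h => congrArg _ h, fun h => (I ⊔ J).subschemeι.isClosedEmbedding.injective h⟩
  let fM : M ⟶ Spec (CommRingCat.of k) := (I ⊔ J).subschemeι ≫ a
  haveI : DiscreteTopology M := Groth.Agent.AlgSpLib.discreteTopology_of_isClosed_points fM hcl
  have hsep : ∀ m : M, IsSepClosed (M.residueField m) := fun m =>
    Groth.Agent.Et18.ClosedPointSupport.isSepClosed_residueField fM (hcl m)
  haveI : DiscreteTopology ↥((Functor.fromPUnit (I ⊔ J).subscheme).obj A.right) := ‹DiscreteTopology M›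
  obtain ⟨θ, hθ⟩ := Groth.Agent.CdDev9.nonempty_iso_of_finrank (M := M) A.hom hsep B.hom (by
    funext m
    refine (Scheme.Hom.finrank_pullback_snd WI.hom ιI m).trans ((congrFun hWI _).trans ?_)
    exact ((Scheme.Hom.finrank_pullback_snd VJ.hom ιJ m).trans (hVJ _)).symm)
  obtain ⟨T, ⟨εI⟩, -⟩ := Groth.Agent.S1186.result ιI ιJ (fun y => by
    by_cases h : ∃ z, ιJ z = y
    · obtain ⟨z, hz⟩ := h
      obtain ⟨U, hU, hzU, -⟩ := exists_isAffineOpen_mem_and_subset (x := ιI z) (U := ⊤) trivial
      exact ⟨U, hU, fun z' hz' => (ιJ.isClosedEmbedding.injective (hz'.trans hz.symm)) ▸ hzU⟩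
    · exact ⟨⊥, isAffineOpen_bot _, fun z hz => absurd ⟨z, hz⟩ h⟩) aI aJ (Groth.Agent.S9383.result Z I J) WI VJ
    (MorphismProperty.Over.isoMk θ hθ)
  let uu := (I ⊓ J).subschemeι
  haveI : Surjective uu := ⟨fun z => by
    by_cases hz : z ∈ C
    · have : z ∈ Set.range J.subschemeι := by rw [J.range_subschemeι]; exact subset_closure hz
      obtain ⟨w, rfl⟩ := this
      exact ⟨aJ w, by rw [← Scheme.Hom.comp_apply, Scheme.IdealSheafData.inclusion_subschemeι]⟩
    · obtain ⟨x, rfl⟩ : z ∈ Set.range i := not_not.1 hz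
      exact ⟨aI (e x), by rw [← Scheme.Hom.comp_apply, ← Scheme.Hom.comp_apply,
        Scheme.IdealSheafData.inclusion_subschemeι, he]⟩⟩
  haveI := Groth.Agent.S0238.result uu
  refine ⟨(FEt.restrict uu).objPreimage T, ⟨?_⟩⟩
  exact (restrictComp (e ≫ aI) uu i (by
      rw [Category.assoc, Scheme.IdealSheafData.inclusion_subschemeι, he])).app _ ≪≫
    (FEt.restrict (e ≫ aI)).mapIso ((FEt.restrict uu).objObjPreimageIso T) ≪≫
    (restrictComp e aI (e ≫ aI) rfl).app T ≪≫ (FEt.restrict e).mapIso εI ≪≫ εW

end Groth.Agent.S3500
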