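import Groth.Statements.S3501
import Groth.Agent.Et18.PicCurveLift.Main
import Groth.Agent.S8533
-- import your own Groth.Agent.* helpers here

set_option autoImplicit false
universe u
open CategoryTheory CategoryTheory.Limits AlgebraicGeometry Opposite
open EtCd

namespace Groth.Agent.S3501

/-- Let A be a Noetherian henselian local ring, f : X → Spec A a proper morphism all of whose fibres
have dimension at most 1, and i : X₀' → X a closed immersion whose image is exactly the closed fibre
of f. Then Pic(X) → Pic(X₀') is surjective: every invertible module on X₀' is isomorphic to the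
pullback of an invertible module on X. -/
theorem result (A : Type u) [CommRing A] [IsNoetherianRing A]
    [HenselianLocalRing A] (X : Scheme.{u}) (f : X ⟶ Spec (CommRingCat.of A)) [IsProper f]
    (hrel : ∀ s : Spec (CommRingCat.of A),
      topologicalKrullDim ↥(pullback f ((Spec (CommRingCat.of A)).fromSpecResidueField s)) ≤ 1)
    (X₀' : Scheme.{u}) (i : X₀' ⟶ X) [IsClosedImmersion i]
    (hi : Set.range i.base = f.base ⁻¹' {IsLocalRing.closedPoint A})
    (c : PicF.Cl X₀') (hc : PicF.IsInvertibleCl c) :
    ∃ d : PicF.Cl X, PicF.IsInvertibleCl d ∧ PicF.pullCl i d = c := by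
  haveI : IsNoetherianRing (CommRingCat.of A) := ‹_›
  haveI : IsLocallyNoetherian X := LocallyOfFiniteType.isLocallyNoetherian f
  haveI : CompactSpace X := QuasiCompact.compactSpace_of_compactSpace f
  haveI : AlgebraicGeometry.IsNoetherian X := {}
  haveI : TopologicalSpace.NoetherianSpace X₀' := i.isClosedEmbedding.isInducing.noetherianSpace
  let c₀ : Spec (CommRingCat.of A) := IsLocalRing.closedPoint A
  have hdim : topologicalKrullDim X₀' ≤ 1 := by
    have hr : Set.range i = Set.range (f.fiberι c₀) := by rw [f.range_fiberι]; exact hi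
    let φ : X₀' ≃ₜ f.fiber c₀ := i.isClosedEmbedding.isEmbedding.toHomeomorph.trans
      ((Homeomorph.setCongr hr).trans (f.fiberι c₀).isEmbedding.toHomeomorph.symm)
    exact φ.isInducing.topologicalKrullDim_le.trans (hrel c₀)
  refine Groth.Agent.Et18.PicCurveLift.exists_lift i hdim (fun Y hY hne hconn => ?_) c hc
  have hri : Set.range i = f ⁻¹' {c₀} := hi
  rw [hri]
  have hnonempty : (Y ∩ f ⁻¹' {c₀}).Nonempty := by
    obtain ⟨y, hy⟩ := hne
    have hcl : IsClosed (f '' Y) := f.isClosedMap Y hY
    obtain ⟨y', hy', hyc⟩ := (specializes_iff_mem_closure.mp (IsLocalRing.specializes_closedPoint (R := A) (f y))) |>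
      closure_minimal (Set.singleton_subset_iff.mpr (Set.mem_image_of_mem f hy)) hcl
    exact ⟨y', hy', hyc⟩
  refine ⟨hnonempty, hnonempty, ?_⟩
  let Z : X.IdealSheafData := Scheme.IdealSheafData.vanishingIdeal ⟨Y, hY⟩
  have hrange : Set.range Z.subschemeι = Y := by simp [Z]
  haveI : ConnectedSpace Z.subscheme := by
    haveI : ConnectedSpace (Set.range Z.subschemeι) := isConnected_iff_connectedSpace.mp (hrange ▸ hconn)
    exact Z.subschemeι.isEmbedding.toHomeomorph.symm.surjective.connectedSpace
      Z.subschemeι.isEmbedding.toHomeomorph.symm.continuous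
  let g := Z.subschemeι ≫ f
  have hbij := Groth.Agent.S8533.result A g
  haveI : Subsingleton (_root_.ConnectedComponents Z.subscheme) := inferInstance
  haveI : Subsingleton (_root_.ConnectedComponents (g.fiber c₀)) := hbij.1.subsingleton
  haveI : PreconnectedSpace (g.fiber c₀) := preconnectedSpace_iff_connectedComponent.mpr fun x => Set.eq_univ_of_forall fun y =>
    ConnectedComponents.coe_eq_coe'.mp (Subsingleton.elim (α := _root_.ConnectedComponents (g.fiber c₀)) (_root_.ConnectedComponents.mk y) (_root_.ConnectedComponents.mk x))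
  have h1 : _root_.IsPreconnected (Set.range (g.fiberι c₀ ≫ Z.subschemeι)) :=
    isPreconnected_range (g.fiberι c₀ ≫ Z.subschemeι).continuous
  have h2 : Set.range (g.fiberι c₀ ≫ Z.subschemeι) = Y ∩ f ⁻¹' {c₀} := by
    show Set.range (Z.subschemeι ∘ g.fiberι c₀) = _
    rw [Set.range_comp, g.range_fiberι, ← hrange]
    ext x
    constructor
    · rintro ⟨z, hz, rfl⟩
      exact ⟨⟨z, rfl⟩, hz⟩
    · rintro ⟨⟨z, rfl⟩, hz⟩
      exact ⟨z, hz, rfl⟩
  exact h2 ▸ h1

end Groth.Agent.S3501
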