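import Groth.Statements.S3502
import Groth.Agent.GalEt.CdDimOne

set_option linter.style.haveILetI false
-- import your own Groth.Agent.* helpers here

set_option autoImplicit false
universe u
open CategoryTheory CategoryTheory.Limits AlgebraicGeometry Opposite
open EtCd

namespace Groth.Agent.S3502

/-- Let X be a Noetherian scheme of dimension at most 1 and n ≥ 1 an integer invertible on X; assume
that cd_ℓ(κ(x)) ≤ 1 for every maximal point x of X and every prime ℓ dividing n (so that the ring of
rational functions of X has ℓ-cohomological dimension ≤ 1), and that the residue field of every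
closed point of X is separably closed. Then H^q(X, μ_n) = 0 for every q > 2. -/
theorem result (X : Scheme.{u}) [IsNoetherian X] (hdim : topologicalKrullDim X ≤ 1)
    (n : ℕ) (hn : 0 < n) (hinv : Dix.InvertibleOn X n)
    (hcd : ∀ x : X, closure {x} ∈ irreducibleComponents (X : Type u) →
      ∀ ℓ : ℕ, ℓ.Prime → ℓ ∣ n → Dix.CohDimLEAt (Spec (X.residueField x)) ℓ 1)
    (hcl : ∀ x : X, IsClosed ({x} : Set X) → IsSepClosed (X.residueField x)) (q : ℕ) (hq : 2 < q) :
    Subsingleton (EtCoh.H X (EtCoh.mu X n) q) := by
  classical
  haveI : Fintype (Groth.Agent.GalEt.maxPoints X) := (Groth.Agent.GalEt.finite_maxPoints (X := X)).fintype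
  exact Groth.Agent.GalEt.cdKilled_dim_one hdim hcl
    (fun η => Groth.Agent.GalEt.cdKilled_of_cdLEAt n hn fun ℓ hl hd =>
      hcd η.1 (Groth.Agent.GalEt.closure_mem_irreducibleComponents η.2) ℓ hl hd)
    _ (Groth.Agent.GalEt.killed_kernel _ n) q hq

end Groth.Agent.S3502
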