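import Groth.Statements.S3508
import Groth.Agent.Et18.Presentation
-- import your own Groth.Agent.* helpers here

set_option autoImplicit false
universe u
open CategoryTheory CategoryTheory.Limits AlgebraicGeometry Opposite
open EtCd

namespace Groth.Agent.S3508

/-- Let X be a quasi-compact and quasi-separated scheme. An abelian sheaf F on the small etale site of X
is constructible if and only if it is isomorphic to the cokernel of a morphism ⨁_j j_{V_j !} Z/m_j →
⨁_i j_{U_i !} Z/n_i for finite families of affine etale X-schemes U_i, V_j (the source first states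
it with quasi-compact quasi-separated objects and then notes that U_i, V_j may even be taken affine)
and positive integers n_i, m_j (j_! the extension by zero of the constant sheaf). -/
theorem result (X : Scheme.{u}) [CompactSpace X] [QuasiSeparatedSpace X]
    (F : EtCoh.Ab X) :
    EtPBC.IsConstructible F ↔
      ∃ (a b : ℕ) (U : Fin a → X.Etale) (V : Fin b → X.Etale) (n : Fin a → ℕ) (m : Fin b → ℕ),
        (∀ i, 0 < n i ∧ IsAffine (U i).left) ∧ (∀ j, 0 < m j ∧ IsAffine (V j).left) ∧
        ∃ φ : (⨁ fun j => EtPBC.extZeroConst (V j) (ZMod (m j))) ⟶ (⨁ fun i => EtPBC.extZeroConst (U i) (ZMod (n i))),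
          Nonempty (F ≅ cokernel φ) := by
  constructor
  · intro hF
    have htor : ∀ {G : EtCoh.Ab X}, EtPBC.IsConstructible G → ∀ (x : X)
        (t : (EtCoh.stalk (Groth.Agent.Et18.sepPoint X x)).obj G), ∃ n, 0 < n ∧ True ∧ n • t = 0 :=
      fun hG x t => by
        haveI := Groth.Agent.Et18.finite_stalk_of_isConstructible hG (Groth.Agent.Et18.sepPoint X x)
        exact ⟨_, (isOfFinAddOrder_of_finite t).addOrderOf_pos, trivial, addOrderOf_nsmul_eq_zero t⟩
    obtain ⟨a, d, b, e, h⟩ := Groth.Agent.Et18.exists_presentation (fun _ => True) hF (htor hF)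
      (fun a d => htor (Groth.Agent.Et18.isConstructible_kernel_cokernel _
        (Groth.Agent.Et18.isConstructible_biproduct _ fun i =>
          haveI : NeZero (d i).n := ⟨(d i).pos.ne'⟩
          Groth.Agent.Et18.isConstructible_extZeroConst _ (d i).isAffine _) hF).1)
    exact ⟨a, b, fun i => (d i).W, fun j => (e j).W, fun i => (d i).n, fun j => (e j).n,
      fun i => ⟨(d i).pos, (d i).isAffine⟩, fun j => ⟨(e j).pos, (e j).isAffine⟩, _, h⟩
  · rintro ⟨a, b, U, V, n, m, hn, hm, φ, ⟨e⟩⟩
    refine Groth.Agent.Et18.isConstructible_of_iso ?_ e.symm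
    refine (Groth.Agent.Et18.isConstructible_kernel_cokernel φ ?_ ?_).2
    · exact Groth.Agent.Et18.isConstructible_biproduct _ fun j =>
        haveI : NeZero (m j) := ⟨(hm j).1.ne'⟩
        Groth.Agent.Et18.isConstructible_extZeroConst _ (hm j).2 _
    · exact Groth.Agent.Et18.isConstructible_biproduct _ fun i =>
        haveI : NeZero (n i) := ⟨(hn i).1.ne'⟩
        Groth.Agent.Et18.isConstructible_extZeroConst _ (hn i).2 _

end Groth.Agent.S3508
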