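import Groth.Statements.S3509
import Groth.Agent.S3491
import Groth.Agent.CdDev9.LowerGeneral
import Groth.Agent.CdDev9.StrictDim
-- import your own Groth.Agent.* helpers here

set_option autoImplicit false
set_option linter.all false
set_option backward.isDefEq.respectTransparency.types false
set_option backward.isDefEq.respectTransparency false
set_option synthInstance.maxHeartbeats 400000
set_option maxHeartbeats 1000000
universe u
open CategoryTheory CategoryTheory.Limits AlgebraicGeometry Opposite
open EtCd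

namespace Groth.Agent.S3509

open Groth.Agent

/-- Residue fields of the local scheme at a point. -/
theorem exists_residueEquiv (X : Scheme.{u}) (x : X) (p : PrimeSpectrum (X.presheaf.stalk x)) :
    Nonempty (X.residueField (X.fromSpecStalk x p) ≃+* p.asIdeal.ResidueField) := by
  let j := X.fromSpecStalk x
  have hsurj : Function.Surjective (j.residueFieldMap p).hom := fun z => by
    obtain ⟨a, rfl⟩ := (Spec (X.presheaf.stalk x)).residue_surjective p z
    obtain ⟨b, rfl⟩ := j.stalkMap_surjective p a
    exact ⟨X.residue (j p) b, congrArg (fun g => g.hom b) (Scheme.residue_residueFieldMap j p)⟩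
  exact ⟨(RingEquiv.ofBijective (j.residueFieldMap p).hom ⟨RingHom.injective _, hsurj⟩).trans
    (Scheme.Spec.residueFieldIso _ p).commRingCatIsoToRingEquiv⟩

theorem fromSpecStalk_specializes_iff (X : Scheme.{u}) (x : X) (p q : Spec (X.presheaf.stalk x)) :
    X.fromSpecStalk x p ⤳ X.fromSpecStalk x q ↔ p.asIdeal ≤ q.asIdeal :=
  ((X.fromSpecStalk x).isEmbedding.isInducing.specializes_iff).trans (PrimeSpectrum.le_iff_specializes p q).symm

theorem mem_irreducibleComponents (X : Scheme.{u}) (x : X) (P : PrimeSpectrum (X.presheaf.stalk x))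
    (hP : P.asIdeal ∈ minimalPrimes (X.presheaf.stalk x)) :
    closure {X.fromSpecStalk x P} ∈ irreducibleComponents (X : Type u) := by
  refine ⟨isIrreducible_singleton.closure, fun S hS hle => ?_⟩
  have h : hS.genericPoint ⤳ X.fromSpecStalk x P :=
    hS.isGenericPoint_genericPoint_closure.specializes (subset_closure (hle (subset_closure rfl)))
  have hη : X.fromSpecStalk x P ⤳ x := by
    have : X.fromSpecStalk x P ∈ Set.range (X.fromSpecStalk x) := Set.mem_range_self _
    rw [Scheme.range_fromSpecStalk] at this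
    exact this
  obtain ⟨Q, hQ⟩ : hS.genericPoint ∈ Set.range (X.fromSpecStalk x) := by
    rw [Scheme.range_fromSpecStalk]
    exact h.trans hη
  rw [← hQ] at h
  have hQP := (fromSpecStalk_specializes_iff X x Q P).1 h
  have hPQ : Q = P := PrimeSpectrum.ext (le_antisymm hQP (hP.2 ⟨Q.2, bot_le⟩ hQP))
  intro s hs
  have := hS.isGenericPoint_genericPoint_closure.specializes (subset_closure hs)
  rw [← hQ, hPQ] at this
  exact this.mem_closure

/-- The residue field at a point loses the codimension. -/
theorem cd_residue (X : Scheme.{u}) [IsNoetherian X] {ℓ : ℕ} (hℓ : ℓ.Prime) (hℓX : Dix.InvertibleOn X ℓ)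
    (hord : ℓ ≠ 2 ∨ ∀ x : X, ¬ ∃ _ : LinearOrder (X.residueField x), IsStrictOrderedRing (X.residueField x))
    (c : ℕ) (hc : ∀ x : X, closure {x} ∈ irreducibleComponents (X : Type u) →
      Dix.CohDimLEAt (Spec (X.residueField x)) ℓ c) (x : X) :
    ∃ n : ℕ, Order.coheight x = n ∧ n ≤ c ∧ Dix.CohDimLEAt (Spec (X.residueField x)) ℓ (c - n) := by
  let A := X.presheaf.stalk x
  obtain ⟨P, hP, hdim⟩ := EGA43.DimFormula.exists_minimalPrime_dim A
  haveI := hP.1.1
  obtain ⟨n, hn⟩ : ∃ n : ℕ, ringKrullDim A = n := by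
    obtain ⟨n, hn⟩ := ENat.ne_top_iff_exists.1
      (Ideal.height_ne_top (I := IsLocalRing.maximalIdeal A) (IsLocalRing.maximalIdeal.isMaximal A).ne_top)
    exact ⟨n, by rw [← IsLocalRing.maximalIdeal_height_eq_ringKrullDim, ← hn]; rfl⟩
  have hn' : Order.coheight x = n := by
    have := (ringKrullDim_stalk_eq_coheight x).symm.trans hn
    exact_mod_cast this
  let A' := A ⧸ P
  haveI : IsLocalRing A' := IsLocalRing.of_surjective' (Ideal.Quotient.mk P) Ideal.Quotient.mk_surjective
  have hu : IsUnit (ℓ : A') := by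
    have h : IsUnit (ℓ : A) := IsLocalRing.notMem_maximalIdeal.1 fun h => hℓX x (by
      rw [← IsLocalRing.residue_eq_zero_iff] at h
      rwa [map_natCast] at h)
    have := h.map (Ideal.Quotient.mk P)
    rwa [map_natCast] at this
  let p : PrimeSpectrum A := ⟨P, inferInstance⟩
  obtain ⟨e⟩ := exists_residueEquiv X x p
  have hK : Dix.CohDimLEAt (Spec (CommRingCat.of (FractionRing A'))) ℓ c :=
    CdDev9.DvrBase.cohDimLEAt_ringEquiv hℓ
      ((FractionRing.algEquiv A' P.ResidueField).toRingEquiv.trans e.symm) (hc _ (mem_irreducibleComponents X x p hP))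
  obtain ⟨h1, h2⟩ := CdDev9.LowerGeneral.dim_le_residue hℓ n A' hu (hdim.trans hn)
    (hord.imp id fun h q _ => by
      let q₀ : PrimeSpectrum A := PrimeSpectrum.comap (Ideal.Quotient.mk P) q
      obtain ⟨e₀⟩ := exists_residueEquiv X x q₀
      exact CdDev9.LowerGeneral.not_orderable_of_hom
        ((Ideal.ResidueField.map q₀.asIdeal q.asIdeal (Ideal.Quotient.mk P) rfl).comp e₀.toRingHom) (h _))
    c hK
  refine ⟨n, hn', h1, ?_⟩
  haveI : IsLocalHom (Ideal.Quotient.mk P) := IsLocalHom.of_surjective _ Ideal.Quotient.mk_surjective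
  let φ : IsLocalRing.ResidueField A →+* IsLocalRing.ResidueField A' :=
    IsLocalRing.ResidueField.map (Ideal.Quotient.mk P)
  have hφ : Function.Surjective φ := fun z => by
    obtain ⟨a, rfl⟩ := IsLocalRing.residue_surjective z
    obtain ⟨a, rfl⟩ := Ideal.Quotient.mk_surjective a
    exact ⟨IsLocalRing.residue A a, rfl⟩
  exact CdDev9.DvrBase.cohDimLEAt_ringEquiv hℓ (RingEquiv.ofBijective φ ⟨φ.injective, hφ⟩) h2

theorem height_le_dim (X : Scheme.{u}) (x : X) {m : ℕ} (hm : topologicalKrullDim X ≤ m) :
    Order.height x ≤ m := by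
  letI := specializationOrder (X : Type u)
  have h := Order.height_orderIso (irreducibleSetEquivPoints (α := (X : Type u))).symm x
  have h2 := (Order.height_le_krullDim ((irreducibleSetEquivPoints (α := (X : Type u))).symm x)).trans hm
  rw [h] at h2
  exact_mod_cast h2

/-- Heights along a chain of primes of a weakly etale algebra over a local ring. -/
theorem chain_bounds (X : Scheme.{u}) [IsNoetherian X] {x y : X} (hxy : x ⤳ y) (R : Type u) [CommRing R]
    [IsLocalRing R] [Algebra (X.presheaf.stalk y) R] [IsLocalHom (algebraMap (X.presheaf.stalk y) R)]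
    [Hensel.IsStrictHenselization (X.presheaf.stalk y) R] (e : ℕ)
    (he : ringKrullDim (R ⧸ (RingHom.ker (Cyc.specMap y x hxy)).map (algebraMap (X.presheaf.stalk y) R)) = e) :
    Order.height y + e ≤ Order.height x ∧ Order.coheight x + e ≤ Order.coheight y := by
  let A := X.presheaf.stalk y
  haveI := CdDev9.weaklyEtale_strict A R
  obtain ⟨p₀, rfl⟩ : x ∈ Set.range (X.fromSpecStalk y) := by
    rw [Scheme.range_fromSpecStalk]
    exact hxy
  rw [CycLib28.ker_specMap p₀ hxy] at he
  obtain ⟨l, hl⟩ := Order.le_krullDim_iff.1 he.ge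
  let q : Fin (l.length + 1) → PrimeSpectrum R := fun i => PrimeSpectrum.comap (Ideal.Quotient.mk _) (l i)
  let g : Fin (l.length + 1) → X := fun i => X.fromSpecStalk y (PrimeSpectrum.comap (algebraMap A R) (q i))
  have hstep : ∀ i : Fin l.length, g i.succ < g i.castSucc := fun i => by
    have hlt : (l i.castSucc).asIdeal < (l i.succ).asIdeal := l.step i
    have h1 : (q i.castSucc).asIdeal < (q i.succ).asIdeal := by
      refine lt_of_le_of_ne (Ideal.comap_mono hlt.le) fun h => hlt.ne ?_
      exact Ideal.comap_injective_of_surjective _ Ideal.Quotient.mk_surjective h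
    refine ⟨(fromSpecStalk_specializes_iff X y _ _).2 (Ideal.comap_mono h1.le), fun h => h1.ne ?_⟩
    exact HenselLib.WEt.eq_of_le_of_comap_eq (A := A) h1.le
      (le_antisymm (Ideal.comap_mono h1.le) ((fromSpecStalk_specializes_iff X y _ _).1 h))
  have hd : ∀ i : Fin (l.length + 1), Order.height (g i) + (i : ℕ) ≤ Order.height (g 0) ∧
      Order.coheight (g 0) + (i : ℕ) ≤ Order.coheight (g i) := fun i => by
    induction i using Fin.induction with
    | zero => simp
    | succ i ih =>
      have hcast : ((i.succ : Fin (l.length + 1)) : ℕ) = (i : ℕ) + 1 := Fin.val_succ i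
      rw [hcast, Nat.cast_add, Nat.cast_one]
      constructor
      · calc Order.height (g i.succ) + ((i : ℕ) + 1 : ℕ∞) = (Order.height (g i.succ) + 1) + (i : ℕ) := by
              rw [add_assoc, add_comm (1 : ℕ∞)]
          _ ≤ Order.height (g i.castSucc) + (i : ℕ) := add_le_add (Order.height_add_one_le (hstep i)) le_rfl
          _ ≤ Order.height (g 0) := ih.1
      · calc Order.coheight (g 0) + ((i : ℕ) + 1 : ℕ∞) = (Order.coheight (g 0) + (i : ℕ)) + 1 := by rw [add_assoc]
          _ ≤ Order.coheight (g i.castSucc) + 1 := add_le_add ih.2 le_rfl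
          _ ≤ Order.coheight (g i.succ) := Order.coheight_add_one_le (hstep i)
  have h0 : g 0 ≤ X.fromSpecStalk y p₀ := by
    refine (fromSpecStalk_specializes_iff X y _ _).2 fun a ha => ?_
    show Ideal.Quotient.mk _ (algebraMap A R a) ∈ (l 0).asIdeal
    rw [Ideal.Quotient.eq_zero_iff_mem.2 (Ideal.mem_map_of_mem _ ha)]
    exact zero_mem _
  have hlast : y ≤ g (Fin.last _) := by
    have : g (Fin.last _) ∈ Set.range (X.fromSpecStalk y) := Set.mem_range_self _
    rw [Scheme.range_fromSpecStalk] at this
    exact this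
  obtain ⟨h1, h2⟩ := hd (Fin.last _)
  rw [Fin.val_last] at h1 h2
  rw [← hl]
  exact ⟨le_trans (add_le_add (Order.height_mono hlast) le_rfl) (h1.trans (Order.height_mono h0)),
    le_trans (add_le_add (Order.coheight_anti h0) le_rfl) (h2.trans (Order.coheight_anti hlast))⟩

/-- Let X be a Noetherian scheme of dimension at most m and ℓ a prime invertible on X; assume that for
all points x, y with y in the closure of x, every strict henselization R of the local ring at y and
every prime P of R minimal over p_x R one has cd_ℓ(Frac(R/P)) ≤ dim(R/p_x R), and that ℓ ≠ 2 or no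
residue field of X is orderable. Then cd_ℓ(X) ≤ cd_ℓ(R(X)) + dim X: if cd_ℓ(κ(η)) ≤ c for every
maximal point η of X, then the etale cohomology of every ℓ-primary torsion abelian sheaf on X
vanishes above degree c + m. -/
theorem result (X : Scheme.{u}) [IsNoetherian X] (m : ℕ) (hm : topologicalKrullDim X ≤ m)
    (ℓ : ℕ) (hℓ : ℓ.Prime) (hℓX : Dix.InvertibleOn X ℓ)
    (h2 : ∀ (x y : X) (hxy : x ⤳ y), ∀ (R : Type u) [CommRing R] [IsLocalRing R] [Algebra (X.presheaf.stalk y) R]
    [IsLocalHom (algebraMap (X.presheaf.stalk y) R)] [Hensel.IsStrictHenselization (X.presheaf.stalk y) R],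
      ∀ P ∈ ((RingHom.ker (Cyc.specMap y x hxy)).map (algebraMap (X.presheaf.stalk y) R)).minimalPrimes,
        ∀ e : ℕ, ringKrullDim (R ⧸ (RingHom.ker (Cyc.specMap y x hxy)).map (algebraMap (X.presheaf.stalk y) R)) = e →
          Dix.CohDimLEAt (Spec (CommRingCat.of (FractionRing (R ⧸ P)))) ℓ e)
    (hord : ℓ ≠ 2 ∨ ∀ x : X, ¬ ∃ _ : LinearOrder (X.residueField x), IsStrictOrderedRing (X.residueField x))
    (c : ℕ) (hc : ∀ x : X, closure {x} ∈ irreducibleComponents (X : Type u) →
      Dix.CohDimLEAt (Spec (X.residueField x)) ℓ c) :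
    Dix.CohDimLEAt X ℓ (c + m) := by
  choose n hn hnc hcd using cd_residue X hℓ hℓX hord c hc
  have hht : ∀ x : X, Order.height x ≤ m := fun x => height_le_dim X x hm
  choose h hh using fun x : X => ENat.ne_top_iff_exists.1 (ne_top_of_le_ne_top (ENat.coe_ne_top m) (hht x))
  have hhm : ∀ x, h x ≤ m := fun x => by
    have := hht x
    rw [← hh x] at this
    exact_mod_cast this
  intro F hF q hq
  refine S3491.result X ℓ hℓ (fun x => c + h x - n x)
    (fun x G hG k hk => hcd x G hG k (by
      have := hnc x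
      try dsimp only at hk
      omega)) ?_ F hF q (fun x _ => ?_)
  · intro x y hxy hne R _ _ _ _ _ P hP
    haveI := Groth.Agent.CdDev9.isNoetherianRing_strict (X.presheaf.stalk y) R
    let I := (RingHom.ker (Cyc.specMap y x hxy)).map (algebraMap (X.presheaf.stalk y) R)
    have hI : I ≠ ⊤ := fun h => hP.1.1.ne_top (eq_top_iff.2 ((eq_top_iff.1 h).trans hP.1.2))
    haveI : Nontrivial (R ⧸ I) := Ideal.Quotient.nontrivial_iff.2 hI
    haveI : IsLocalRing (R ⧸ I) := IsLocalRing.of_surjective' (Ideal.Quotient.mk I) Ideal.Quotient.mk_surjective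
    obtain ⟨e, he⟩ : ∃ e : ℕ, ringKrullDim (R ⧸ I) = e := by
      obtain ⟨e, he⟩ := ENat.ne_top_iff_exists.1
        (Ideal.height_ne_top (I := IsLocalRing.maximalIdeal (R ⧸ I)) (IsLocalRing.maximalIdeal.isMaximal _).ne_top)
      exact ⟨e, by rw [← IsLocalRing.maximalIdeal_height_eq_ringKrullDim, ← he]; rfl⟩
    refine ⟨e, ?_, h2 x y hxy R P hP e he⟩
    obtain ⟨h1, h3⟩ := chain_bounds X hxy R e he
    have hlt : y < x := ⟨hxy, fun h' => hne (hxy.antisymm h').eq⟩
    have h4 := Order.height_add_one_le hlt
    have h5 := Order.coheight_add_one_le hlt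
    rw [← hh x, ← hh y] at h1 h4
    rw [hn x, hn y] at h3 h5
    have i1 : h y + e ≤ h x := by exact_mod_cast h1
    have i2 : h y + 1 ≤ h x := by exact_mod_cast h4
    have i3 : n x + e ≤ n y := by exact_mod_cast h3
    have i4 : n x + 1 ≤ n y := by exact_mod_cast h5
    have := hnc x
    have := hnc y
    try dsimp only
    omega
  · have := hhm x
    have := hnc x
    try dsimp only
    omega

end Groth.Agent.S3509
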