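import Groth.Statements.S3510
import Groth.Agent.Et18.AcyclicN.Criterion
-- import your own Groth.Agent.* helpers here

set_option autoImplicit false
universe u
open CategoryTheory CategoryTheory.Limits AlgebraicGeometry Opposite
open EtAcyc

namespace Groth.Agent.S3510

/-- (i) ⇔ (ii): let g : X → Y be a morphism of schemes, L a set of primes and n a natural number. Then g
is n-acyclic for L (form (ii): for every etale V → Y with projection g' : X ×_Y V → V and every
abelian L-torsion sheaf F on V, H^q(V, F) → H^q(X ×_Y V, g'⁻¹F) is bijective for q ≤ n and injective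
for q = n + 1) if and only if (form (i)) for every such V and F the unit F → g'_* g'⁻¹ F is an
isomorphism and R^q g'_* (g'⁻¹ F) = 0 for 1 ≤ q ≤ n. -/
theorem result {X Y : Scheme.{u}} (g : X ⟶ Y) (L : Set ℕ) (n : ℕ) :
    EtAcyc.IsAcyclicN g L n ↔
      ∀ (V : Y.Etale) (F : EtCoh.Ab V.left), EtAcyc.IsLTorsion L F →
        IsIso ((EtCoh.pullPushAdj (EtAcyc.prj g V)).unit.app F) ∧
          ∀ q : ℕ, 1 ≤ q → q ≤ n →
            IsZero ((EtCoh.Rpush (EtAcyc.prj g V) q).obj ((EtCoh.pull (EtAcyc.prj g V)).obj F)) := by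
  refine ⟨fun hg V F hF => ?_, fun h V => ?_⟩
  · have hgV := Et18.AcyclicN.isAcyclicN_prj g hg V
    exact ⟨Et18.AcyclicN.isIso_unit_of_isAcyclicN hgV hF, fun q h1 hq =>
      Et18.AcyclicN.isZero_Rpush_of_isAcyclicN hgV hF q h1 hq⟩
  · exact Et18.AcyclicN.compN_of_unit (EtAcyc.prj g V) fun F hF => h V F hF

end Groth.Agent.S3510
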