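import Groth.Prelude.Def_HTor
import Mathlib.RingTheory.Flat.Basic
import Groth.Agent.HTor16.Consequences

set_option autoImplicit false
universe u
attribute [local instance] HasDerivedCategory.standard
namespace HTor
end HTor
open HTor

namespace Groth.Agent.S3522

open CategoryTheory CategoryTheory.Limits Groth.Agent.HTor16 in
lemma quasiIso_aux {A : Type u} [CommRing A] {L M Q : DRing.Cx A} (η : M ⟶ Q) [QuasiIso η]
    (hL : DRing.TermwiseFlat L) {cL b : ℤ} (hcL : DRing.VanishesAbove L cL) (hM : DRing.VanishesAbove M b)
    (hQ : DRing.VanishesAbove Q b) (n : ℤ) :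
    IsIso (HomologicalComplex.homologyMap (HomologicalComplex.tensorHom (𝟙 L) η) n) := by
  let g := covG η
  have hη : ∀ (j : ℤ) (y : Z Q j), ∃ m w, y.1 = η.f j m + Q.d (j - 1) j w := by
    intro j y
    obtain ⟨c, hc⟩ := ((ModuleCat.epi_iff_surjective (HomologicalComplex.homologyMap η j)).1 inferInstance) (cls Q j y)
    obtain ⟨x, rfl⟩ := cls_surjective M j c
    rw [cls_map, eq_comm, cls_eq_cls_iff Q j (m := j - 1) (by omega)] at hc
    obtain ⟨w, hw⟩ := hc
    exact ⟨x.1, w, by rw [hw]; exact (add_sub_cancel _ _).symm⟩
  let S := ShortComplex.mk (kernel.ι g) g (kernel.condition _)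
  have hS : S.ShortExact := by
    haveI : ∀ j, Epi (g.f j) := fun j => (ModuleCat.epi_iff_surjective _).2 (covG_surjective η hη j)
    exact { exact := ShortComplex.exact_of_f_is_kernel _ (kernelIsKernel _),
            mono_f := inferInstanceAs (Mono (kernel.ι g)), epi_g := HomologicalComplex.epi_of_epi_f _ this }
  have hcov : DRing.VanishesAbove (Cov M Q) b := cov_isZero b hM hQ
  have hK : DRing.VanishesAbove (kernel g) b := fun j hj => (hcov j hj).of_mono ((kernel.ι g).f j)
  have hg : ∀ j, IsIso (HomologicalComplex.homologyMap g j) := by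
    intro j
    haveI : IsIso (HomologicalComplex.homologyMap (covS M Q) j) := (covHomologyIso M Q j).isIso_inv
    haveI : IsIso (HomologicalComplex.homologyMap (covS M Q) j ≫ HomologicalComplex.homologyMap g j) := by
      rw [← HomologicalComplex.homologyMap_comp, covS_covG]; infer_instance
    exact IsIso.of_isIso_comp_left (HomologicalComplex.homologyMap (covS M Q) j) _
  have hK0 : ∀ j, IsZero ((kernel g).homology j) := by
    intro j
    haveI := hg (j - 1)
    haveI := hg j
    have h0 : hS.δ (j - 1) j (by simp) = 0 := by
      haveI : Epi (HomologicalComplex.homologyMap S.g (j - 1)) := inferInstanceAs (Epi (HomologicalComplex.homologyMap g (j - 1)))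
      exact zero_of_epi_comp _ (hS.comp_δ (j - 1) j (by simp))
    haveI : Mono (HomologicalComplex.homologyMap S.f j) := (hS.homology_exact₁ (j - 1) j (by simp)).mono_g h0
    have : HomologicalComplex.homologyMap S.f j = 0 := by
      have := hS.homology_exact₂ j
      rw [← cancel_mono (HomologicalComplex.homologyMap g j), zero_comp, ← HomologicalComplex.homologyMap_comp]
      exact (congrArg (HomologicalComplex.homologyMap · j) S.zero).trans (HomologicalComplex.homologyMap_zero ..)
    exact IsZero.of_mono_eq_zero _ this
  have hT : ∀ m, IsZero ((HTor.tensorCx L (kernel g)).homology m) := fun m => by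
    refine homology_isZero hL hcL (kernel g) hK m fun p i j _ => ?_
    rw [← ModuleCat.isZero_iff_subsingleton]
    cases p with
    | zero =>
      obtain ⟨e⟩ := torZero (L.homology i) ((kernel g).homology j)
      rw [ModuleCat.isZero_iff_subsingleton]
      have := ModuleCat.isZero_iff_subsingleton.1 (hK0 j)
      exact e.toEquiv.subsingleton
    | succ q =>
      haveI : Projective ((kernel g).homology j) := Projective.of_iso (hK0 j).isoZero.symm inferInstance
      exact Functor.isZero_leftDerived_obj_projective_succ (tens (L.homology i)) q _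
  have hgT : IsIso (HomologicalComplex.homologyMap (HomologicalComplex.tensorHom (𝟙 L) g) n) := by
    have hT' := tS_shortExact L hL hS
    haveI : Mono (HomologicalComplex.homologyMap (tS L S).g n) :=
      (hT'.homology_exact₂ n).mono_g ((hT n).eq_of_src _ _)
    haveI : Epi (HomologicalComplex.homologyMap (tS L S).g n) :=
      (hT'.homology_exact₃ n (n + 1) rfl).epi_f ((hT (n + 1)).eq_of_tgt _ _)
    exact isIso_of_mono_of_epi (HomologicalComplex.homologyMap (tS L S).g n)
  haveI : IsIso (HomologicalComplex.homologyMap (HomologicalComplex.tensorHom (𝟙 L) (covS M Q)) n) :=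
    ⟨HomologicalComplex.homologyMap (HomologicalComplex.tensorHom (𝟙 L) (covR M Q)) n,
      by rw [← HomologicalComplex.homologyMap_comp, tensorHom_comp, covS_covR, tensorHom_id,
        HomologicalComplex.homologyMap_id],
      homologyMap_covR_covS M Q L n⟩
  rw [← covS_covG η, ← tensorHom_comp, HomologicalComplex.homologyMap_comp]
  infer_instance

open CategoryTheory CategoryTheory.Limits in
/-- In cochain indexing: let L be a complex of flat A-modules and η : M ⟶ Q a quasi-isomorphism of
complexes of A-modules, the three complexes vanishing in large degrees. Then L ⊗ η : L ⊗ M ⟶ L ⊗ Q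
is a quasi-isomorphism. (Consequently the hypertor modules of L and Q, the cohomology of L' ⊗ M' for
projective resolutions, are computed by the plain tensor product complex L ⊗ Q; only the
quasi-isomorphism is asserted.) -/
theorem result (A : Type u) [CommRing A] (L M Q : DRing.Cx A)
    (η : M ⟶ Q) [QuasiIso η] (hL : DRing.TermwiseFlat L) (bL : ∃ b : ℤ, DRing.VanishesAbove L b)
    (bM : ∃ b : ℤ, DRing.VanishesAbove M b) (bQ : ∃ b : ℤ, DRing.VanishesAbove Q b) :
    QuasiIso (HomologicalComplex.tensorHom (𝟙 L) η) := by
  obtain ⟨cL, hcL⟩ := bL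
  obtain ⟨bM, hM⟩ := bM
  obtain ⟨bQ, hQ⟩ := bQ
  refine ⟨fun n => ?_⟩
  rw [quasiIsoAt_iff_isIso_homologyMap]
  exact quasiIso_aux η hL hcL (fun j hj => hM j (lt_of_le_of_lt (le_max_left _ bQ) hj))
    (fun j hj => hQ j (lt_of_le_of_lt (le_max_right bM _) hj)) n

end Groth.Agent.S3522
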