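import Groth.Prelude.Def_HTor
import Mathlib.CategoryTheory.Filtered.Basic
import Mathlib.Algebra.Category.ModuleCat.Colimits
import Groth.Agent.TorB16.Colimit

set_option autoImplicit false
universe u
namespace HTor
end HTor
open HTor

namespace Groth.Agent.S3525

open CategoryTheory CategoryTheory.Limits MonoidalCategory in
/-- `M ↦ M ⊗ Q` for a complex `Q`. -/
noncomputable def tensQ {A : Type u} [CommRing A] (Q : ChainComplex (ModuleCat.{u} A) ℕ) :
    ModuleCat.{u} A ⥤ ChainComplex (ModuleCat.{u} A) ℕ where
  obj M := ((Groth.Agent.HTor16.tens M).mapHomologicalComplex (ComplexShape.down ℕ)).obj Q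
  map φ := (NatTrans.mapHomologicalComplex ((tensoringLeft (ModuleCat.{u} A)).map φ) (ComplexShape.down ℕ)).app Q
  map_id M := by
    ext i : 1
    exact MonoidalCategory.id_whiskerRight _ _
  map_comp φ ψ := by
    ext i : 1
    exact MonoidalCategory.comp_whiskerRight _ _ _

open CategoryTheory CategoryTheory.Limits MonoidalCategory in
lemma preserves_aux {A : Type u} [CommRing A] (p : ℕ) (N : ModuleCat.{u} A)
    (J : Type u) [SmallCategory J] [IsFiltered J] :
    PreservesColimitsOfShape J ((CategoryTheory.Tor (ModuleCat.{u} A) p).flip.obj N) := by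
  let P := projectiveResolution N
  haveI : ∀ i, PreservesColimitsOfShape J (tensQ P.complex ⋙ HomologicalComplex.eval _ _ i) := fun i => by
    haveI : PreservesColimitsOfSize.{u, u} (tensorRight (P.complex.X i)) :=
      preservesColimits_of_natIso (BraidedCategory.tensorLeftIsoTensorRight (P.complex.X i))
    exact inferInstanceAs (PreservesColimitsOfShape J (tensorRight (P.complex.X i)))
  haveI := Groth.Agent.TorB16.preserves_homology (J := J) (tensQ P.complex) p
  refine preservesColimitsOfShape_of_natIso (F := tensQ P.complex ⋙
    HomologicalComplex.homologyFunctor _ (ComplexShape.down ℕ) p) ?_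
  refine NatIso.ofComponents (fun M => (P.isoLeftDerivedObj (Groth.Agent.HTor16.tens M) p).symm) fun {M M'} φ => ?_
  change _ = _ ≫ (NatTrans.leftDerived ((tensoringLeft (ModuleCat.{u} A)).map φ) p).app N
  rw [ProjectiveResolution.leftDerived_app_eq _ P]
  exact (Iso.inv_hom_id_assoc (P.isoLeftDerivedObj (Groth.Agent.HTor16.tens M) p) _).symm

open CategoryTheory CategoryTheory.Limits in
/-- For a commutative ring A, an A-module N and p ≥ 0, the functor M ↦ Tor_p^A(M, N) preserves filtered
colimits. (Tor is Mathlib's, left derived in the second variable; this is the case of single modules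
rather than complexes.) -/
theorem result (A : Type u) [CommRing A] (p : ℕ) (N : ModuleCat.{u} A)
    (J : Type u) [SmallCategory J] [IsFiltered J] :
    PreservesColimitsOfShape J ((CategoryTheory.Tor (ModuleCat.{u} A) p).flip.obj N) := by
  exact preserves_aux p N J

end Groth.Agent.S3525
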