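import Groth.Prelude.Def_HTor
import Mathlib.CategoryTheory.Filtered.Basic
import Mathlib.Algebra.Category.ModuleCat.Colimits
import Groth.Agent.TorB16.Colimit

set_option autoImplicit false
universe u
namespace HTor
end HTor
open HTor

namespace Groth.Agent.S3526

open CategoryTheory CategoryTheory.Limits MonoidalCategory Groth.Agent.HTor16

/-- The short exact sequence of complexes obtained by tensoring a resolution with a short exact sequence. -/
noncomputable def tSeq {A : Type u} [CommRing A] (S : ShortComplex (ModuleCat.{u} A))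
    {X : ModuleCat.{u} A} (Q : ProjectiveResolution X) : ShortComplex (ChainComplex (ModuleCat.{u} A) ℕ) :=
  ShortComplex.mk ((NatTrans.mapHomologicalComplex ((tensoringLeft _).map S.f) _).app Q.complex)
    ((NatTrans.mapHomologicalComplex ((tensoringLeft _).map S.g) _).app Q.complex) (by
      ext i : 1
      exact (MonoidalCategory.comp_whiskerRight S.f S.g _).symm.trans (by rw [S.zero]; simp; rfl))

lemma tSeq_shortExact {A : Type u} [CommRing A] {S : ShortComplex (ModuleCat.{u} A)} (hS : S.ShortExact)
    {X : ModuleCat.{u} A} (Q : ProjectiveResolution X) : (tSeq S Q).ShortExact := by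
  refine HomologicalComplex.shortExact_of_degreewise_shortExact _ fun i => ?_
  haveI : Module.Projective A (Q.complex.X i) := (IsProjective.iff_projective (R := A) _).2 (Q.projective i)
  refine { exact := ?_, mono_f := ?_, epi_g := ?_ }
  · rw [ShortComplex.moduleCat_exact_iff]
    intro x hx
    exact (Module.Flat.rTensor_exact (Q.complex.X i)
      (LinearMap.exact_iff.2 hS.exact.moduleCat_range_eq_ker.symm) x).1 hx
  · exact (ModuleCat.mono_iff_injective _).2
      (Module.Flat.rTensor_preserves_injective_linearMap (M := Q.complex.X i) _ hS.moduleCat_injective_f)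
  · exact (ModuleCat.epi_iff_surjective _).2 (LinearMap.rTensor_surjective _ hS.moduleCat_surjective_g)

lemma preserves_aux {A : Type u} [CommRing A] {J : Type u} [SmallCategory J] [IsFiltered J] :
    ∀ (p : ℕ) (M : ModuleCat.{u} A), PreservesColimitsOfShape J ((tens M).leftDerived p)
  | 0, M => by
    haveI := tens_preserves M
    haveI : PreservesColimitsOfShape J (tens M) := inferInstanceAs (PreservesColimitsOfShape J (tensorLeft M))
    exact preservesColimitsOfShape_of_natIso (tens M).leftDerivedZeroIsoSelf.symm
  | p + 1, M => by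
    let S := freeSES M
    have hS : S.ShortExact := freeSES_shortExact M
    haveI := preserves_aux (J := J) p S.X₁
    haveI := preserves_aux (J := J) p S.X₂
    let Q := fun X : ModuleCat.{u} A => projectiveResolution X
    let e₁ : ∀ X, ((tens S.X₁).leftDerived p).obj X ≅ (tSeq S (Q X)).X₁.homology p :=
      fun X => (Q X).isoLeftDerivedObj (tens S.X₁) p
    let e₂ : ∀ X, ((tens S.X₂).leftDerived p).obj X ≅ (tSeq S (Q X)).X₂.homology p :=
      fun X => (Q X).isoLeftDerivedObj (tens S.X₂) p
    let e₃ : ∀ X, ((tens M).leftDerived (p + 1)).obj X ≅ (tSeq S (Q X)).X₃.homology (p + 1) :=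
      fun X => (Q X).isoLeftDerivedObj (tens M) (p + 1)
    let δ : ∀ X, (tSeq S (Q X)).X₃.homology (p + 1) ⟶ (tSeq S (Q X)).X₁.homology p :=
      fun X => (tSeq_shortExact hS (Q X)).δ (p + 1) p rfl
    let α : (tens M).leftDerived (p + 1) ⟶ (tens S.X₁).leftDerived p :=
      { app := fun X => (e₃ X).hom ≫ δ X ≫ (e₁ X).inv
        naturality := fun X Y f => by
          let φ := ProjectiveResolution.lift f (Q X) (Q Y)
          have hφ : φ.f 0 ≫ (Q Y).π.f 0 = (Q X).π.f 0 ≫ f :=
            (ConcreteCategory.hom_ext _ _ fun x => ConcreteCategory.congr_hom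
              (congrArg (fun k => k.f 0) (ProjectiveResolution.lift_commutes f (Q X) (Q Y))) x).trans (by simp)
          let τ : tSeq S (Q X) ⟶ tSeq S (Q Y) :=
            { τ₁ := ((tens S.X₁).mapHomologicalComplex _).map φ
              τ₂ := ((tens S.X₂).mapHomologicalComplex _).map φ
              τ₃ := ((tens S.X₃).mapHomologicalComplex _).map φ
              comm₁₂ := by ext i : 1; exact MonoidalCategory.whisker_exchange S.f (φ.f i)
              comm₂₃ := by ext i : 1; exact MonoidalCategory.whisker_exchange S.g (φ.f i) }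
          have h₃ : ((tens M).leftDerived (p + 1)).map f ≫ (e₃ Y).hom =
              (e₃ X).hom ≫ HomologicalComplex.homologyMap τ.τ₃ (p + 1) :=
            ProjectiveResolution.isoLeftDerivedObj_hom_naturality f (Q X) (Q Y) φ hφ (tens M) (p + 1)
          have h₁ : (e₁ X).inv ≫ ((tens S.X₁).leftDerived p).map f =
              HomologicalComplex.homologyMap τ.τ₁ p ≫ (e₁ Y).inv :=
            ProjectiveResolution.isoLeftDerivedObj_inv_naturality f (Q X) (Q Y) φ hφ (tens S.X₁) p
          have hn : δ X ≫ HomologicalComplex.homologyMap τ.τ₁ p =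
              HomologicalComplex.homologyMap τ.τ₃ (p + 1) ≫ δ Y :=
            HomologicalComplex.HomologySequence.δ_naturality τ (tSeq_shortExact hS (Q X))
              (tSeq_shortExact hS (Q Y)) (p + 1) p rfl
          simp only [Category.assoc]
          rw [h₁, reassoc_of% hn, reassoc_of% h₃] }
    let β := NatTrans.leftDerived ((tensoringLeft (ModuleCat.{u} A)).map S.f) p
    have hβ : ∀ X, β.app X = (e₁ X).hom ≫ HomologicalComplex.homologyMap (tSeq S (Q X)).f p ≫ (e₂ X).inv :=
      fun X => ProjectiveResolution.leftDerived_app_eq _ (Q X) p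
    refine Groth.Agent.TorB16.preserves_of_kernel α β (fun X => ?_) fun X => ?_
    · refine (ModuleCat.mono_iff_injective _).1 ?_
      haveI : Module.Flat A S.X₂ := inferInstanceAs (Module.Flat A ((M : Type u) →₀ A))
      have hz : IsZero ((tSeq S (Q X)).X₂.homology (p + 1)) :=
        (ModuleCat.isZero_iff_subsingleton.2 (tor_subsingleton_of_flat_left S.X₂ p X) :
          IsZero (((tens S.X₂).leftDerived (p + 1)).obj X)).of_iso ((Q X).isoLeftDerivedObj (tens S.X₂) (p + 1)).symm
      haveI : Mono (δ X) := ((tSeq_shortExact hS (Q X)).homology_exact₃ (p + 1) p rfl).mono_g (hz.eq_of_src _ _)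
      change Mono ((e₃ X).hom ≫ δ X ≫ (e₁ X).inv)
      infer_instance
    · have hαX : α.app X = (e₃ X).hom ≫ δ X ≫ (e₁ X).inv := rfl
      have hd : δ X ≫ HomologicalComplex.homologyMap (tSeq S (Q X)).f p = 0 :=
        (tSeq_shortExact hS (Q X)).δ_comp (p + 1) p rfl
      have w : α.app X ≫ β.app X = 0 := by
        rw [hαX, hβ]; simp [reassoc_of% hd]
      refine LinearMap.exact_iff.2 (ShortComplex.Exact.moduleCat_range_eq_ker
        (S := ShortComplex.mk (α.app X) (β.app X) w) ?_).symm
      exact ShortComplex.exact_of_iso (ShortComplex.isoMk (e₃ X).symm (e₁ X).symm (e₂ X).symm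
        (by simp [hαX, δ]) (by simp [hβ]))
        ((tSeq_shortExact hS (Q X)).homology_exact₁ (p + 1) p rfl)

/-- In the case of single modules, second variable: for an A-module M and p ≥ 0, the functor N ↦
Tor_p^A(M, N) preserves filtered colimits. (Tor is Mathlib's, left derived in the second variable.) -/
theorem result (A : Type u) [CommRing A] (p : ℕ) (M : ModuleCat.{u} A)
    (J : Type u) [SmallCategory J] [IsFiltered J] :
    PreservesColimitsOfShape J ((CategoryTheory.Tor (ModuleCat.{u} A) p).obj M) := by
  exact preserves_aux p M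

end Groth.Agent.S3526
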