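import Groth.Prelude.Def_HTor
import Groth.Prelude.Def_FlatMod2
import Mathlib.AlgebraicGeometry.Pullbacks
import Mathlib.AlgebraicGeometry.Morphisms.Separated
import Mathlib.LinearAlgebra.FreeModule.Basic
import Groth.Agent.HTor16.RpushTensorPull
import Groth.Agent.HTor16.FreeRes
import Groth.Agent.HTor16.TildeTensor
import Groth.Agent.MorProj.Basic

set_option autoImplicit false
universe u
attribute [local instance] HasDerivedCategory.standard
namespace HTor
end HTor
open HTor

namespace Groth.Agent.S3531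

attribute [-instance] Int.instConditionallyCompleteLinearOrder
set_option maxHeartbeats 800000
open Groth.Agent.DCat

open CategoryTheory CategoryTheory.Limits AlgebraicGeometry in
/-- (One factor, base Spec A, in derived form.) Let X be quasi-compact and separated over Spec A via f,
and P a complex of quasi-coherent O_X-modules vanishing in large degrees, with every term flat over
Spec A. If a complex L of projective A-modules vanishing in large degrees computes RΓ(X, P), then
for every complex Q of A-modules vanishing in large degrees, L ⊗_A Q computes RΓ(X, P ⊗_A Q), where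
P ⊗_A Q is the total complex of the P^i ⊗_{O_X} f^*(Q^j)~. (The published statement gives a
canonical isomorphism; here only the existence of an isomorphism in D(A) is asserted.) -/
theorem result (A : Type u) [CommRing A] (X : Scheme.{u})
    (f : X ⟶ Spec (CommRingCat.of A)) [QuasiCompact f] [IsSeparated f] [HTor.HasRΓA f]
    (P : CochainComplex X.Modules ℤ) (hq : ∀ i : ℤ, Coh.IsQCoh (P.X i))
    (bP : ∃ b : ℤ, ∀ i : ℤ, b < i → IsZero (P.X i)) (hfl : ∀ i : ℤ, FlatMod.IsFlatOver f (P.X i))
    (L : DRing.Cx A) (hL : ∀ i : ℤ, Projective (L.X i)) (c : ∃ c : ℤ, DRing.VanishesAbove L c)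
    (e : HTor.Computes f L (DCoh.toD X P)) (Q : DRing.Cx A) (bQ : ∃ b : ℤ, DRing.VanishesAbove Q b) :
    HTor.Computes f (HTor.tensorCx L Q) (DCoh.toD X (HTor.tensorACx f P Q)) := by
  obtain ⟨b, hb⟩ := bP
  obtain ⟨c, hc⟩ := c
  obtain ⟨q, hq'⟩ := bQ
  obtain ⟨eL⟩ := e
  haveI := hasRpush f
  obtain ⟨F, w, hF, hFb, hw⟩ := Groth.Agent.HTor16.exists_free_res Q q hq'
  haveI := hw
  haveI := Groth.Agent.HTor16.preservesFiniteLimits_tilde' (CommRingCat.of A)
  have hFk : IsKFlatFor (modT A) F := isKFlatFor_of_flat F q hFb fun i => haveI := hF i; inferInstance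
  have hLk : IsKFlatFor (modT A) L := isKFlatFor_of_flat L c hc fun i => by
    haveI : Module.Projective A (L.X i) := (IsProjective.iff_projective _).2 (hL i)
    infer_instance
  haveI := Groth.Agent.HTor16.quasiIso_tildeCx w
  obtain ⟨v⟩ := Groth.Agent.HTor16.nonempty_tildeD_rΓA f (DCoh.toD X P) (Groth.Agent.DQCoh.isQCohD_Q P hq) b
    fun i hi => (ShortComplex.isZero_homology_of_isZero_X₂ _ (hb i hi)).of_iso
      ((DerivedCategory.homologyFunctorFactors X.Modules i).app P)
  obtain ⟨qL⟩ := Groth.Agent.HTor16.nonempty_Q_tildeCx L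
  obtain ⟨⟨u⟩, hEq, hEb⟩ := Groth.Agent.HTor16.nonempty_rpush_tot_pull' f P hq b hb hfl
    ((Groth.Agent.HTor16.tildeCx A).obj L)
    (v.symm ≪≫ (DCoh.tildeD (CommRingCat.of A)).mapIso eL.symm ≪≫ qL)
    ((Groth.Agent.HTor16.tildeCx A).map w) (Groth.Agent.HTor16.isKFlat_tildeCx F hFk)
    (Groth.Agent.HTor16.isQCoh_tildeCx F) q (fun n hn => Groth.Agent.HTor16.isZero_tildeCx F n (hFb n hn))
  obtain ⟨v'⟩ := Groth.Agent.HTor16.nonempty_tildeD_rΓA f _ hEq (b + q) hEb
  obtain ⟨t⟩ := Groth.Agent.HTor16.nonempty_Q_tot_tildeCx L F hFk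
  obtain ⟨a⟩ := Groth.Agent.HTor16.nonempty_iso_of_tildeD (R := CommRingCat.of A) (v' ≪≫ u ≪≫ t)
  haveI := Groth.Agent.Dual22Lib.RelTorDim.quasiIso_totMap₂ w hLk
  have hz : IsIso (DerivedCategory.Q.map (totMap₂ (modT A) L w)) :=
    (DerivedCategory.isIso_Q_map_iff_quasiIso _ _).2 inferInstance
  exact ⟨(@asIso _ _ _ _ (DerivedCategory.Q.map (totMap₂ (modT A) L w)) hz).symm ≪≫ a.symm⟩

end Groth.Agent.S3531
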