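import Groth.Statements.S3532
import Groth.Agent.DCat.MLSeq

set_option autoImplicit false
set_option backward.isDefEq.respectTransparency false
set_option backward.defeqAttrib.useBackward true
universe u
open HomAlg3

namespace Groth.Agent.S3532

open CategoryTheory Opposite in
lemma range_mono (F : ℕᵒᵖ ⥤ AddCommGrpCat.{u}) {p j k : ℕ} (h : p ≤ j) (h' : j ≤ k) :
    (F.map (homOfLE (h.trans h')).op).hom.range ≤ (F.map (homOfLE h).op).hom.range := by
  rintro _ ⟨y, rfl⟩
  exact ⟨_, Groth.Agent.DCat.MLSeq.trg_trg (A := F) h h' y⟩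

open CategoryTheory in
/-- Category of abelian groups, system indexed by the natural numbers: Let (A_k)_{k ≥ 0} be an inverse
system of abelian groups. For p ≤ k write Im_k(A_p) for the image of A_k → A_p, and K_p for the
kernel of A_p → A_{p-1} (K_0 = A_0). Then (A_k) satisfies the Mittag-Leffler condition (for each p
the subgroups Im_k(A_p) are eventually constant in k) if and only if for each p the subgroups
Im_k(A_p) ∩ K_p are eventually constant in k. -/
theorem result (F : ℕᵒᵖ ⥤ AddCommGrpCat.{u}) :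
    (F ⋙ forget AddCommGrpCat).IsMittagLeffler ↔
      ((∃ k₀ : ℕ, ∀ (k : ℕ) (hk : k₀ ≤ k),
          (F.map (homOfLE (Nat.zero_le k)).op).hom.range = (F.map (homOfLE (Nat.zero_le k₀)).op).hom.range) ∧
        ∀ p : ℕ, ∃ k₀ : ℕ, ∃ h₀ : p + 1 ≤ k₀, ∀ (k : ℕ) (hk : k₀ ≤ k),
          (F.map (homOfLE (h₀.trans hk)).op).hom.range ⊓ (F.map (homOfLE (Nat.le_succ p)).op).hom.ker =
            (F.map (homOfLE h₀).op).hom.range ⊓ (F.map (homOfLE (Nat.le_succ p)).op).hom.ker) := by
  open Groth.Agent.DCat.MLSeq in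
  rw [ml_iff_g]
  constructor
  · intro h
    refine ⟨?_, fun p => ?_⟩
    · obtain ⟨j, hij, hj⟩ := h 0
      refine ⟨j, fun k hk => le_antisymm (range_mono F hij hk) ?_⟩
      rintro _ ⟨x, rfl⟩
      exact hj k hk x
    · obtain ⟨j, hij, hj⟩ := h (p + 1)
      refine ⟨j, hij, fun k hk => le_antisymm (inf_le_inf_right _ (range_mono F hij hk))
        (inf_le_inf_right _ ?_)⟩
      rintro _ ⟨x, rfl⟩
      exact hj k hk x
  · rintro ⟨h0, h1⟩ p
    induction p with
    | zero =>
      obtain ⟨j, hj⟩ := h0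
      refine ⟨j, Nat.zero_le j, fun k hk x => ?_⟩
      have hx : (F.map (homOfLE (Nat.zero_le j)).op).hom x ∈
          (F.map (homOfLE (Nat.zero_le k)).op).hom.range := by
        rw [hj k hk]; exact ⟨x, rfl⟩
      exact hx
    | succ p ih =>
      open Groth.Agent.DCat.MLSeq in
      obtain ⟨a, hpa, ha⟩ := ih
      obtain ⟨b, hpb, hb⟩ := h1 p
      refine ⟨max a b, hpb.trans (le_max_right a b), fun k hk x => ?_⟩
      open Groth.Agent.DCat.MLSeq in
      obtain ⟨y, hy⟩ := ha k ((le_max_left a b).trans hk) (trg F (le_max_left a b) x)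
      rw [Groth.Agent.DCat.MLSeq.trg_trg] at hy
      open Groth.Agent.DCat.MLSeq in
      have hmem : trg F (hpb.trans (le_max_right a b)) x -
          trg F ((hpb.trans (le_max_right a b)).trans hk) y ∈
          (F.map (homOfLE hpb).op).hom.range ⊓ (F.map (homOfLE (Nat.le_succ p)).op).hom.ker := by
        refine AddSubgroup.mem_inf.2 ⟨AddSubgroup.sub_mem _ ⟨_, trg_trg hpb (le_max_right a b) x⟩
          ⟨_, trg_trg hpb ((le_max_right a b).trans hk) y⟩, ?_⟩
        show trg F (Nat.le_succ p) (_ - _) = 0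
        rw [trg, map_sub, sub_eq_zero]
        exact (trg_trg _ _ x).trans (hy.symm.trans (trg_trg _ _ y).symm)
      rw [← hb k ((le_max_right a b).trans hk)] at hmem
      obtain ⟨⟨z, hz⟩, -⟩ := hmem
      refine ⟨y + z, ?_⟩
      show (F.map _).hom (y + z) = _
      rw [map_add, hz, add_sub_cancel]


end Groth.Agent.S3532
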