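import Groth.Prelude.Def_HTor
import Groth.Prelude.Def_DCoh4
import Mathlib.AlgebraicGeometry.Morphisms.Flat
import Mathlib.AlgebraicGeometry.Noetherian
import Mathlib.AlgebraicGeometry.Pullbacks
import Groth.Agent.HTor16.LocalTor

set_option autoImplicit false
universe u
attribute [local instance] HasDerivedCategory.standard
namespace HTor
end HTor
open HTor

namespace Groth.Agent.S3533

open CategoryTheory CategoryTheory.Limits AlgebraicGeometry in
/-- Let f : X ⟶ S be a flat morphism with X locally Noetherian, g : Y ⟶ S a morphism, and suppose Z = X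
×_S Y is locally Noetherian. As X is flat over S, the local hypertor sheaves Tor_n^S(F, G) on Z are
taken to be the cohomology sheaves in degree −n of L pr₁^* F ⊗^L pr₂^* G, where pr₂^* G is the plain
pullback of G viewed as a complex in degree 0 and the derived pullback L pr₁^* and the derived
tensor product are taken under their existence binders; the statement is made in that form. Then for
F a coherent O_X-module and G a coherent O_Y-module, every cohomology sheaf of L pr₁^* F ⊗^L pr₂^* G
is a coherent O_Z-module. -/
theorem result (X Y S : Scheme.{u}) (f : X ⟶ S) (g : Y ⟶ S) [Flat f]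
    [IsLocallyNoetherian X] [IsLocallyNoetherian (pullback f g)] (F : X.Modules) (G : Y.Modules)
    (hF : Coh.IsCoh F) (hG : Coh.IsCoh G) [DCoh.HasLpull (pullback.fst f g)]
    [DCoh.HasLTensorCx ((HTor.pullCx (pullback.snd f g)).obj
      ((HomologicalComplex.single Y.Modules (ComplexShape.up ℤ) 0).obj G))] (n : ℤ) :
    Coh.IsCoh (DCoh.HD ((DCoh.LTensorCx ((HTor.pullCx (pullback.snd f g)).obj
      ((HomologicalComplex.single Y.Modules (ComplexShape.up ℤ) 0).obj G))).obj
        ((DCoh.Lpull (pullback.fst f g)).obj (DCoh.inD X F))) n) := by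
  let e : DCoh.inD Y G ≅ DCoh.toD Y ((HomologicalComplex.single Y.Modules (ComplexShape.up ℤ) 0).obj G) :=
    (DerivedCategory.singleFunctorIsoCompQ Y.Modules 0).app G
  haveI := Groth.Agent.HTor16.isLE_of_isZero_above ((HomologicalComplex.single Y.Modules (ComplexShape.up ℤ) 0).obj G) 0
    (fun i hi => HomologicalComplex.isZero_single_obj_X _ _ _ _ (by omega))
  refine Groth.Agent.HTor16.isCohD_localTor f g (DCoh.inD X F) 0 (Groth.Agent.HTor16.isCohD_inD hF) _ 0 ?_ n
  exact fun i => Groth.Agent.HTor16.isCoh_congr
    ((DerivedCategory.homologyFunctor Y.Modules i).mapIso e) (Groth.Agent.HTor16.isCohD_inD hG i)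

end Groth.Agent.S3533
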