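import Groth.Statements.S3536
import Groth.Agent.CechSS14.Total
import Groth.Agent.CohDer1.HyperPush.Sections
import Groth.Agent.SiteCoh.Criterion

set_option autoImplicit false
set_option backward.isDefEq.respectTransparency false
set_option linter.style.haveILetI false
universe u
open CechTot

namespace Groth.Agent.S3536

open CategoryTheory CategoryTheory.Limits TopologicalSpace in
/-- Let X be a topological space, U = (U_i) an open cover of X and K a complex of abelian sheaves on X
with K^i = 0 for i < a. If H^q(U_{i_0} ∩ … ∩ U_{i_p}, K^i) = 0 for all q > 0, all i and all finite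
families of indices, then for every n the Čech hypercohomology group Ȟ^n(U, K) (cohomology of the
total complex of the double complex C^p(U, K^q)) is isomorphic to the hypercohomology group H^n(X,
K) (maps from the free abelian sheaf on X to K[n] in the derived category). (The published statement
gives a canonical isomorphism; here only the existence of an additive isomorphism is asserted, and K
is taken bounded below.) -/
theorem result {X : TopCat.{u}} [HasDerivedCategory.{u} (CohTop.Ab X)]
    {ι : Type u} (U : ι → Opens X) (hcov : iSup U = ⊤) (K : CochainComplex (CohTop.Ab X) ℤ) (a : ℤ)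
    (ha : ∀ i : ℤ, i < a → IsZero (K.X i))
    (h : ∀ (p : ℕ) (c : Fin (p + 1) → ι) (i : ℤ) (q : ℕ),
      Subsingleton (CohTop.HU (K.X i) (q + 1) (iInf fun k => U (c k)))) (n : ℤ) :
    Nonempty (↑(CechTot.hyperH U ((CechTot.presheafCx X).obj K) n) ≃+
      CohCx.HDU (DerivedCategory.Q.obj K) n (⊤ : Opens X)) := by
  haveI : K.IsStrictlyGE a := (CochainComplex.isStrictlyGE_iff K a).2 ha
  obtain ⟨I, φ, hφ, hinj, hGE⟩ := CochainComplex.Plus.modelCategoryQuillen.exists_quasiIso_injective K a
  haveI := hφ
  haveI := hinj
  haveI := hGE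
  haveI := CochainComplex.isKInjective_of_injective I a
  obtain ⟨e₁⟩ := CechSS14.quasiIso_tot_map U φ a
    (fun p c m => CechSS14.acy_sectionsAt (K.X m) _ fun q => by
      rw [SiteCoh.inter_eq_iInf]; exact h p c m q)
    (fun _ _ m => DCat.Acyclic.acy_injective (I.X m)) n
  obtain ⟨e₂⟩ := CechSS14.nonempty_hyperH_iso U hcov I a
    (fun i hi => CochainComplex.isZero_of_isStrictlyGE I a i hi)
    (fun m p => SiteCoh.isZero_cechHTop_of_injective (I.X m) U p) n
  let E : CohCx.HDUPresheaf (DerivedCategory.Q.obj K) n ≅
      (CohDer1.HyperPush.preCx I).homology n :=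
    Functor.isoWhiskerLeft _ (preadditiveYoneda.mapIso ((shiftFunctor _ n).mapIso
      (asIso (DerivedCategory.Q.map φ)))) ≪≫ (CohDer1.HyperPush.homologyIsoHDUPresheaf I n).symm
  let e₃ : (CechSS14.secTop (CohDer1.HyperPush.preCx I)).homology n ≅
      ((CohDer1.HyperPush.preCx I).homology n).obj (Opposite.op ⊤) :=
    ((CohDer1.HyperPush.preCx I).sc n).mapHomologyIso ((evaluation _ _).obj (Opposite.op ⊤))
  exact ⟨(e₁ ≪≫ e₂.symm ≪≫ e₃ ≪≫ (E.app (Opposite.op ⊤)).symm).addCommGroupIsoToAddEquiv⟩

end Groth.Agent.S3536
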