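import Groth.Statements.S3540
import Groth.Agent.CechSS14.Filtration
import Mathlib.Algebra.Homology.Factorizations.CM5a


set_option autoImplicit false
universe u
open CechTot

/-- Transport of subquotients. -/
lemma isSubquotient_congr {A : Type*} [CommRing A] {N N' T T' : Type u} [AddCommGroup N] [Module A N]
    [AddCommGroup N'] [Module A N'] [AddCommGroup T] [Module A T] [AddCommGroup T'] [Module A T']
    (h : HTor.IsSubquotient A N' T') (eN : N ≃ₗ[A] N') (eT : T' ≃ₗ[A] T) : HTor.IsSubquotient A N T := by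
  obtain ⟨S, S', hSS, ⟨i⟩⟩ := h
  refine ⟨S.map eT.toLinearMap, S'.map eT.toLinearMap, Submodule.map_mono hSS, ⟨eN.trans (i.trans
    (Submodule.Quotient.equiv _ _ (eT.submoduleMap S') ?_))⟩⟩
  ext x
  obtain ⟨y, rfl⟩ := (eT.submoduleMap S').surjective x
  simp only [Submodule.mem_map, Submodule.mem_comap]
  constructor
  · rintro ⟨z, hz, hzy⟩
    obtain rfl := (eT.submoduleMap S').injective hzy
    exact ⟨z.1, hz, rfl⟩
  · rintro ⟨z, hz, hzy⟩
    exact ⟨y, show y.1 ∈ S from (eT.injective hzy : z = y.1) ▸ hz, rfl⟩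

namespace Groth.Agent.S3540

open CategoryTheory CategoryTheory.Limits TopologicalSpace in
/-- For abelian sheaves and a complex bounded below (the biregular case), stated through the finite
filtration the spectral sequence induces on its abutment and its edge (the source's graded pieces
are the E∞ terms, which is stronger). Let U = (U_i) be an open cover of X and K a complex of abelian
sheaves with K^i = 0 for i < a. For q ∈ ℤ let h^q(K) be the presheaf V ↦ H^q(V, K) of
hypercohomology groups and Ȟ^p(U, h^q(K)) its Čech cohomology for the cover. Then for every n the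
group H^n(X, K) carries a decreasing sequence of subgroups G_0 ≥ G_1 ≥ … with G_0 everything, G_1
the kernel of the restriction map H^n(X, K) → ∏_i H^n(U_i, K), and G_N = 0 for some N, such that
every quotient G_p/G_{p+1} is isomorphic to a subquotient of Ȟ^p(U, h^{n-p}(K)). -/
theorem result {X : TopCat.{u}}
    [HasDerivedCategory.{u} (CohTop.Ab X)] {ι : Type u} (U : ι → Opens X) (hcov : iSup U = ⊤)
    (K : CochainComplex (CohTop.Ab X) ℤ) (a : ℤ) (ha : ∀ i : ℤ, i < a → IsZero (K.X i)) (n : ℤ) :
    ∃ (N : ℕ) (G : ℕ → Submodule ℤ (CohCx.HDU (DerivedCategory.Q.obj K) n (⊤ : Opens X))),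
      Antitone G ∧ G 0 = ⊤ ∧ G N = ⊥ ∧
      G 1 = ⨅ i, AddSubgroup.toIntSubmodule
        (CohCx.HDUres (DerivedCategory.Q.obj K) n (homOfLE le_top : U i ⟶ (⊤ : Opens X))).ker ∧
      ∀ p : ℕ, HTor.IsSubquotient ℤ (HTor.grDesc G p)
        (CohB1.cechHTop U (CohCx.HDUPresheaf (DerivedCategory.Q.obj K) (n - p)) p) := by
  haveI : K.IsStrictlyGE a := (CochainComplex.isStrictlyGE_iff K a).2 ha
  obtain ⟨I, φ, _, hinj, _⟩ := CochainComplex.Plus.modelCategoryQuillen.exists_quasiIso_injective K a
  haveI := hinj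
  haveI := CochainComplex.isKInjective_of_injective I a
  let E : ∀ m : ℤ, CohCx.HDUPresheaf (DerivedCategory.Q.obj K) m ≅
      (Groth.Agent.CohDer1.HyperPush.preCx I).homology m := fun m =>
    Functor.isoWhiskerLeft _ (preadditiveYoneda.mapIso ((shiftFunctor _ m).mapIso
      (asIso (DerivedCategory.Q.map φ)))) ≪≫ (Groth.Agent.CohDer1.HyperPush.homologyIsoHDUPresheaf I m).symm
  let e : CohCx.HDU (DerivedCategory.Q.obj K) n (⊤ : Opens X) ≃+ _ := ((E n).app (Opposite.op ⊤)).addCommGroupIsoToAddEquiv
  let G : ℕ → Submodule ℤ (CohCx.HDU (DerivedCategory.Q.obj K) n (⊤ : Opens X)) := fun p =>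
    AddSubgroup.toIntSubmodule ((CechSS14.fil U I n p).comap e.toAddMonoidHom)
  have hI : ∀ (m : ℤ) (p : ℕ), IsZero ((SiteCoh.Cech.cx
      ((Groth.Agent.CohDer1.HyperPush.preCx I).X m) U).homology (p + 1)) := fun m p =>
    SiteCoh.isZero_cechHTop_of_injective (I.X m) U p
  refine ⟨(n - a).toNat + 1, G, antitone_nat_of_succ_le fun p x hx => CechSS14.fil_succ_le U I n p hx,
    ?_, ?_, ?_, fun p => ?_⟩
  · refine eq_top_iff.2 fun x _ => ?_
    show e x ∈ CechSS14.fil U I n 0
    rw [CechSS14.fil_zero]
    trivial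
  · refine eq_bot_iff.2 fun x (hx : e x ∈ CechSS14.fil U I n _) => ?_
    rw [CechSS14.fil_eq_bot U I n hcov hI _ (CochainComplex.isZero_of_isStrictlyGE I a _ (by lia))] at hx
    exact e.injective (hx.trans (map_zero e).symm)
  · ext x
    refine Iff.trans (CechSS14.fil_one U I n (e x)) ?_
    rw [Submodule.mem_iInf]
    refine forall_congr' fun i => ?_
    have h := ConcreteCategory.congr_hom ((E n).hom.naturality (homOfLE (le_top : U i ≤ ⊤)).op) x
    constructor
    · intro h0
      exact ((E n).app (Opposite.op (U i))).addCommGroupIsoToAddEquiv.injective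
        ((h.trans h0).trans (map_zero _).symm)
    · intro h0
      refine h.symm.trans ((congrArg ((E n).hom.app (Opposite.op (U i))) ?_).trans (map_zero _))
      exact h0
  · let e' : ↥(G p) ≃ₗ[ℤ] ↥(AddSubgroup.toIntSubmodule (CechSS14.fil U I n p)) :=
      (e.toIntLinearEquiv.submoduleMap (G p)).trans (LinearEquiv.ofEq _ _ (by
        ext y
        obtain ⟨x, rfl⟩ := e.surjective y
        exact ⟨fun ⟨z, hz, hzx⟩ => hzx ▸ hz, fun hx => ⟨x, hx, rfl⟩⟩))
    have hq : (Submodule.comap (G p).subtype (G (p + 1))).map e'.toLinearMap =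
        Submodule.comap (AddSubgroup.toIntSubmodule (CechSS14.fil U I n p)).subtype
          (AddSubgroup.toIntSubmodule (CechSS14.fil U I n (p + 1))) := by
      ext y
      obtain ⟨x, rfl⟩ := e'.surjective y
      constructor
      · rintro ⟨z, hz, hzx⟩
        rw [← hzx]
        exact hz
      · intro hx
        exact ⟨x, hx, rfl⟩
    exact isSubquotient_congr (CechSS14.isSubquotient_gr U I n p) (Submodule.Quotient.equiv _ _ e' hq)
      ((cechComplexFunctor U ⋙ HomologicalComplex.homologyFunctor _ _ p).mapIso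
        (E (n - p)).symm).addCommGroupIsoToAddEquiv.toIntLinearEquiv


end Groth.Agent.S3540
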