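import Groth.Prelude.Def_HTor
import Mathlib.AlgebraicGeometry.Morphisms.Separated
import Mathlib.CategoryTheory.Abelian.Projective.Dimension
import Groth.Agent.HTor16.RGammaQcoh
import Groth.Agent.HTor16.AcyclicRes
import Groth.Agent.HTor16.FreeRes

set_option autoImplicit false
universe u
attribute [local instance] HasDerivedCategory.standard
namespace HTor
end HTor
open HTor

namespace Groth.Agent.S3541

attribute [-instance] Int.instConditionallyCompleteLinearOrder

open CategoryTheory CategoryTheory.Limits AlgebraicGeometry in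
/-- Let A be a ring all of whose modules have projective dimension ≤ d, X a scheme with a quasi-compact
separated morphism f : X → Spec A, covered by N + 1 affine opens, and P a complex of quasi-coherent
O_X-modules with P^k = 0 unless a ≤ k ≤ b. Then RΓ(X, P) ∈ D(A) is represented by a complex L of
projective A-modules with L^k = 0 unless a - d ≤ k ≤ b + N. (The published statement gives a
canonical isomorphism, in a more general relative setting with several factors; here only one factor
over the base Spec A is treated and only the existence of an isomorphism in D(A) is asserted.) -/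
theorem result (A : Type u) [CommRing A] (d : ℕ)
    (hA : ∀ M : ModuleCat.{u} A, HasProjectiveDimensionLT M (d + 1)) (X : Scheme.{u})
    (f : X ⟶ Spec (CommRingCat.of A)) [QuasiCompact f] [IsSeparated f] [HTor.HasRΓA f]
    (N : ℕ) (U : Fin (N + 1) → X.Opens) (hU : ∀ i, IsAffineOpen (U i)) (hcov : ⨆ i, U i = ⊤)
    (P : CochainComplex X.Modules ℤ) (hq : ∀ i : ℤ, Coh.IsQCoh (P.X i)) (a b : ℤ)
    (hab : ∀ i : ℤ, i < a ∨ b < i → IsZero (P.X i)) :
    ∃ L : DRing.Cx A, (∀ i : ℤ, Module.Projective A (L.X i)) ∧ DRing.VanishesOutside L (a - d) (b + N) ∧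
      HTor.Computes f L (DCoh.toD X P) := by
  haveI := Groth.Agent.Coherent.hasInjectiveResolutions_modules X
  obtain ⟨C, hC, hz, ⟨eC⟩⟩ := Groth.Agent.HTor16.exists_acyclic_resolution (f := f) P hq N U hU hcov
  obtain ⟨e₁⟩ := Groth.Agent.HTor16.nonempty_rΓA_acyclic f C (fun n => (hC n).qcoh) fun n i hi => (hC n).acy i hi
  let M := ((HTor.globalSectionsA f).mapHomologicalComplex (ComplexShape.up ℤ)).obj C
  obtain ⟨L, w, hL, hLb, hw⟩ := Groth.Agent.HTor16.exists_free_res M (b + N)
    fun n hn => (HTor.globalSectionsA f).map_isZero (hz n fun j h1 _ => hab j (Or.inr (by omega)))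
  haveI := hw
  obtain ⟨L', hL', hL'z, ⟨e'⟩⟩ := Groth.Agent.HTor16.exists_trunc L d hA
    (fun i => haveI := hL i; inferInstance) a (b + N) hLb fun i hi => by
      rw [HomologicalComplex.exactAt_iff_isZero_homology]
      refine IsZero.of_iso ?_ (asIso (HomologicalComplex.homologyMap w i))
      exact ShortComplex.isZero_homology_of_isZero_X₂ _
        ((HTor.globalSectionsA f).map_isZero (hz i fun j _ h2 => hab j (Or.inl (by omega))))
  exact ⟨L', hL', hL'z, ⟨e' ≪≫ asIso (DerivedCategory.Q.map w) ≪≫ e₁.symm ≪≫ (HTor.RΓA f).mapIso eC.symm⟩⟩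

end Groth.Agent.S3541
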