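import Groth.Statements.S3543
import Groth.Agent.BCFlat16.Main
import Groth.Agent.HTor16.ExtTensor

set_option autoImplicit false
set_option backward.isDefEq.respectTransparency false
set_option backward.defeqAttrib.useBackward true
set_option linter.style.haveILetI false
set_option synthInstance.maxHeartbeats 100000
universe u
attribute [local instance] HasDerivedCategory.standard
open HTor
open Groth.Agent.DCat

namespace Groth.Agent.S3543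

open CategoryTheory CategoryTheory.Limits AlgebraicGeometry in
/-- Künneth formula over an arbitrary base scheme S, in derived form: let f₁ : X₁ ⟶ S and f₂ : X₂ ⟶ S be
quasi-compact and separated, P₁ and P₂ complexes of quasi-coherent modules on X₁ and X₂ vanishing in
large degrees, with every term of P₁ flat over S, and f : X₁ ×_S X₂ ⟶ S the structure morphism. Let
E₂ be any complex of O_S-modules representing Rf₂_* P₂. Then, the derived functors involved being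
taken under their existence binders, Rf_*(pr₁^* P₁ ⊗ pr₂^* P₂) and Rf₁_* P₁ ⊗^L E₂ are isomorphic in
D(O_S): the global hypertor of P₁ and P₂ over S is the hypercohomology of their external tensor
product. (The published statement gives a canonical isomorphism of bi-∂-functors; only the existence
of an isomorphism is asserted here. It is also more general, with X₁ and X₂ over intermediate bases
Y⁽¹⁾ and Y⁽²⁾ over S; this is its case Y⁽¹⁾ = Y⁽²⁾ = S.) -/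
theorem result {X₁ X₂ S : Scheme.{u}} (f₁ : X₁ ⟶ S) (f₂ : X₂ ⟶ S)
    [QuasiCompact f₁] [IsSeparated f₁] [QuasiCompact f₂] [IsSeparated f₂]
    [DCoh.HasRpush f₁] [DCoh.HasRpush f₂] [DCoh.HasRpush (pullback.fst f₁ f₂ ≫ f₁)]
    (P₁ : CochainComplex X₁.Modules ℤ) (P₂ : CochainComplex X₂.Modules ℤ)
    (hq₁ : ∀ i : ℤ, Coh.IsQCoh (P₁.X i)) (hq₂ : ∀ i : ℤ, Coh.IsQCoh (P₂.X i))
    (b₁ : ∃ b : ℤ, ∀ i : ℤ, b < i → IsZero (P₁.X i)) (b₂ : ∃ b : ℤ, ∀ i : ℤ, b < i → IsZero (P₂.X i))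
    (hfl : ∀ i : ℤ, FlatMod.IsFlatOver f₁ (P₁.X i))
    (E₂ : CochainComplex S.Modules ℤ) (hE₂ : Nonempty (DCoh.toD S E₂ ≅ (DCoh.Rpush f₂).obj (DCoh.toD X₂ P₂)))
    [DCoh.HasLTensorCx E₂] :
    Nonempty ((DCoh.Rpush (pullback.fst f₁ f₂ ≫ f₁)).obj (DCoh.toD _ (HTor.extTensorCx f₁ f₂ P₁ P₂)) ≅
      (DCoh.LTensorCx E₂).obj ((DCoh.Rpush f₁).obj (DCoh.toD X₁ P₁))) := by
  obtain ⟨c₁, hb₁⟩ := b₁
  obtain ⟨c₂, hb₂⟩ := b₂
  let p₁ := pullback.fst f₁ f₂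
  let p₂ := pullback.snd f₁ f₂
  have h : IsPullback p₁ p₂ f₁ f₂ := IsPullback.of_hasPullback f₁ f₂
  haveI : IsSeparated p₂ := MorphismProperty.of_isPullback (P := @IsSeparated) h inferInstance
  haveI : QuasiCompact p₂ := MorphismProperty.of_isPullback (P := @QuasiCompact) h inferInstance
  haveI := hasRpush p₂
  haveI := hasLpull p₂
  haveI := hasLpull f₂
  let G := fun {U V : Scheme.{u}} (φ : U ⟶ V) =>
    (Scheme.Modules.pullback φ).mapHomologicalComplex (ComplexShape.up ℤ)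
  obtain ⟨K, hKk, ⟨eK⟩⟩ := PullPerf.exists_kflat_rep ((DCoh.Rpush f₁).obj (DCoh.toD X₁ P₁))
  haveI := LTensorSheaf.hasLTensorCx K
  have hKq : DCoh.IsQCohD (DerivedCategory.Q.obj K) :=
    DQCoh.isQCohD_of_iso eK.symm (DQCoh.isQCohD_Rpush f₁ _ (DQCoh.isQCohD_Q P₁ hq₁))
  let M := (G f₂).obj K
  have hMk : IsKFlatFor (shT _) M := PullTot.isKFlatFor_pullback f₂ hKk
  haveI := LTensorSheaf.hasLTensorCx M
  obtain ⟨F, c, hFk, -, hc, hFb⟩ := exists_kflat_sheaf_le P₂ c₂ hb₂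
  haveI := hc
  let N := (G p₂).obj F
  have hNk : IsKFlatFor (shT _) N := PullTot.isKFlatFor_pullback p₂ hFk
  haveI := LTensorSheaf.hasLTensorCx N
  haveI := LTensorSheaf.hasLTensorCx F
  let E₁ := (G p₁).obj P₁
  have hE₁q : DCoh.IsQCohD (DCoh.toD _ E₁) := DQCoh.isQCohD_Q E₁ fun n =>
    haveI := hq₁ n; EGA43.InjFibre.isQCoh_pullback p₁ (P₁.X n)
  have hFq : DCoh.IsQCohD (DerivedCategory.Q.obj F) := fun i =>
    Coherent.isQCoh_of_iso ((DerivedCategory.homologyFunctor X₂.Modules i).mapIso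
      (asIso (DerivedCategory.Q.map c))).symm (h := DQCoh.isQCohD_Q P₂ hq₂ i)
  have hflp : ∀ n, FlatMod.IsFlatOver p₂ (E₁.X n) := fun n x =>
    Desc19b.isFlatOverAt_baseChange f₁ p₂ p₁ f₂ h (P₁.X n) x (hfl n _)
  haveI := HTor16.quasiIso_totMap₂_pull p₂ E₁ c₁ (fun n hn => (Scheme.Modules.pullback p₁).map_isZero (hb₁ n hn)) hflp c
  haveI : IsIso (DerivedCategory.Q.map (totMap₂ (shT _) E₁ ((G p₂).map c))) :=
    (DerivedCategory.isIso_Q_map_iff_quasiIso _ _).2 inferInstance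
  let eE : (DCoh.LTensorCx N).obj (DCoh.toD _ E₁) ≅ DCoh.toD _ (HTor.extTensorCx f₁ f₂ P₁ P₂) :=
    LTensorSheaf.ltensorCxIso' hNk E₁ ≪≫ asIso (DerivedCategory.Q.map (totMap₂ (shT _) E₁ ((G p₂).map c)))
  obtain ⟨β⟩ := BCFlat16.nonempty_baseChange h P₁ c₁ hb₁ hq₁ hfl
  let eM : (DCoh.Rpush p₂).obj (DCoh.toD _ E₁) ≅ DerivedCategory.Q.obj M :=
    β.symm ≪≫ (DCoh.Lpull f₂).mapIso eK.symm ≪≫ PullPerf.lpullIso f₂ hKk
  obtain ⟨π₂⟩ := Dual22Lib.ProjQCoh.nonempty_projection_qcoh p₂ (DCoh.toD _ E₁) hE₁q F hFq N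
    ⟨(PullPerf.lpullIso p₂ hFk).symm⟩
  obtain ⟨π₁⟩ := Dual22Lib.ProjQCoh.nonempty_projection_qcoh f₂ (DerivedCategory.Q.obj F) hFq K hKq M
    ⟨(PullPerf.lpullIso f₂ hKk).symm⟩
  obtain ⟨σ⟩ := TotSymm.nonempty_flip_symm F
  let v : (DCoh.Rpush p₂).obj (DCoh.toD _ (HTor.extTensorCx f₁ f₂ P₁ P₂)) ≅
      (DCoh.LTensorCx M).obj (DerivedCategory.Q.obj F) :=
    (DCoh.Rpush p₂).mapIso eE.symm ≪≫ π₂.symm ≪≫ (DCoh.LTensorCx F).mapIso eM ≪≫
      LTensorSheaf.ltensorCxIso' hFk M ≪≫ DerivedCategory.Q.mapIso (σ.app M) ≪≫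
      (LTensorSheaf.ltensorCxIso' hMk F).symm
  obtain ⟨E', hE'k, ⟨eE'⟩⟩ := PullPerf.exists_kflat_rep (DCoh.toD S E₂)
  haveI := LTensorSheaf.hasLTensorCx E'
  obtain ⟨γ⟩ := TensorCongr.nonempty_congr (E := E') (E' := E₂) eE'
  obtain ⟨eP₂⟩ := hE₂
  obtain ⟨σ'⟩ := TotSymm.nonempty_flip_symm K
  let w : (DCoh.LTensorCx K).obj ((DCoh.Rpush f₂).obj (DerivedCategory.Q.obj F)) ≅
      (DCoh.LTensorCx E₂).obj ((DCoh.Rpush f₁).obj (DCoh.toD X₁ P₁)) :=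
    (DCoh.LTensorCx K).mapIso ((DCoh.Rpush f₂).mapIso (asIso (DerivedCategory.Q.map c)) ≪≫ eP₂.symm ≪≫ eE'.symm) ≪≫
      LTensorSheaf.ltensorCxIso' hKk E' ≪≫ DerivedCategory.Q.mapIso (σ'.app E') ≪≫
      (LTensorSheaf.ltensorCxIso' hE'k K).symm ≪≫ γ.app _ ≪≫ (DCoh.LTensorCx E₂).mapIso eK
  haveI := hasRpush (p₂ ≫ f₂)
  obtain ⟨ρ⟩ := nonempty_RpushComp p₂ f₂
  have hp : p₁ ≫ f₁ = p₂ ≫ f₂ := h.w
  exact ⟨eqToIso (by congr 2) ≪≫ (ρ.app _).symm ≪≫ (DCoh.Rpush f₂).mapIso v ≪≫ π₁.symm ≪≫ w⟩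

end Groth.Agent.S3543
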