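import Groth.Statements.S3544
import Mathlib.RingTheory.Length
import Mathlib.Algebra.Homology.ShortComplex.ModuleCat
import Mathlib.Algebra.BigOperators.Group.Finset.Basic
-- import your own Groth.Agent.* helpers here

set_option autoImplicit false
universe u
open HomAlg3

namespace Groth.Agent.S3544

open CategoryTheory CategoryTheory.Limits in
/-- Let E be a cohomological spectral sequence of modules over a ring A, starting at page 2, such that
the E₂ terms have finite length and only finitely many of them (all inside the finite set s of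
bidegrees) are nonzero. Then for every r ≥ 2 the Euler–Poincaré characteristic of page r, the
alternating sum over s of (-1)^{p+q} times the length of E_r^{pq}, equals that of page 2. -/
theorem result {A : Type u} [Ring A]
    (E : E₂CohomologicalSpectralSequence (ModuleCat.{u} A)) (s : Finset (ℤ × ℤ))
    (hs : ∀ pq : ℤ × ℤ, pq ∉ s → IsZero ((E.page 2).X pq))
    (hfl : ∀ pq : ℤ × ℤ, IsFiniteLength A ((E.page 2).X pq)) (r : ℤ) (hr : 2 ≤ r) :
    (s.sum fun pq => (((pq.1 + pq.2).negOnePow : ℤˣ) : ℤ) * ((Module.length A ((E.page r hr).X pq)).toNat : ℤ)) =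
      s.sum fun pq => (((pq.1 + pq.2).negOnePow : ℤˣ) : ℤ) * ((Module.length A ((E.page 2).X pq)).toNat : ℤ) := by
  classical
  -- the length count at one spot
  have spot : ∀ (S : ShortComplex (ModuleCat.{u} A)), IsFiniteLength A S.X₂ → IsFiniteLength A S.homology ∧
      ((Module.length A S.homology).toNat : ℤ) = (Module.length A S.X₂).toNat -
        (Module.length A (LinearMap.range S.f.hom)).toNat - (Module.length A (LinearMap.range S.g.hom)).toNat := by
    intro S h
    have htop : Module.length A S.X₂ ≠ ⊤ := Module.length_ne_top_iff.2 h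
    let Z := LinearMap.ker S.g.hom
    let B := LinearMap.range S.moduleCatToCycles
    have e1 : Module.length A S.X₂ = Module.length A Z + Module.length A (LinearMap.range S.g.hom) :=
      Module.length_eq_add_of_exact Z.subtype S.g.hom.rangeRestrict Z.injective_subtype
        S.g.hom.surjective_rangeRestrict (by
          intro x
          simp [Z, LinearMap.rangeRestrict, Subtype.ext_iff])
    have e2 : Module.length A Z = Module.length A B + Module.length A (Z ⧸ B) :=
      Module.length_eq_add_of_exact B.subtype B.mkQ B.injective_subtype B.mkQ_surjective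
        (LinearMap.exact_subtype_mkQ B)
    have e3 : Module.length A B = Module.length A (LinearMap.range S.f.hom) := by
      have hc : S.f.hom = Z.subtype ∘ₗ S.moduleCatToCycles := rfl
      rw [hc, LinearMap.range_comp]
      exact (Submodule.equivMapOfInjective Z.subtype Z.injective_subtype B).length_eq
    have e4 : Module.length A S.homology = Module.length A (Z ⧸ B) :=
      S.moduleCatHomologyIso.toLinearEquiv.length_eq
    rw [e1, e2, e3, ← e4] at htop
    simp only [ne_eq, ENat.add_eq_top, not_or] at htop
    obtain ⟨⟨h1, h2⟩, h3⟩ := htop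
    refine ⟨Module.length_ne_top_iff.1 h2, ?_⟩
    rw [e1, e2, e3, ← e4]
    lift Module.length A (LinearMap.range S.f.hom) to ℕ using h1 with a
    lift Module.length A S.homology to ℕ using h2 with b
    lift Module.length A (LinearMap.range S.g.hom) to ℕ using h3 with c
    simp only [← Nat.cast_add, ENat.toNat_natCast]
    push_cast
    ring
  -- finiteness and support propagate, and the sum is constant
  have main : ∀ t : ℕ, ∀ r : ℤ, ∀ hr : r = 2 + (t : ℤ),
      (∀ pq : ℤ × ℤ, IsFiniteLength A ((E.page r (by omega)).X pq)) ∧ (∀ pq : ℤ × ℤ, pq ∉ s → IsZero ((E.page r (by omega)).X pq)) ∧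
      (s.sum fun pq => (((pq.1 + pq.2).negOnePow : ℤˣ) : ℤ) * ((Module.length A ((E.page r (by omega)).X pq)).toNat : ℤ)) =
        s.sum fun pq => (((pq.1 + pq.2).negOnePow : ℤˣ) : ℤ) * ((Module.length A ((E.page 2).X pq)).toNat : ℤ) := by
    intro t
    induction t with
    | zero =>
      intro r hr
      obtain rfl : r = 2 := by simpa using hr
      exact ⟨hfl, hs, rfl⟩
    | succ t ih =>
      intro r' hr'
      let r : ℤ := 2 + t
      have hr2 : (2 : ℤ) ≤ r := by omega
      have hrr : r + 1 = r' := by simp only [r]; push_cast at hr'; omega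
      obtain ⟨hf, hz, hsum⟩ := ih r rfl
      let P := E.page r hr2
      let v : ℤ × ℤ := (r, 1 - r)
      let ρ : ℤ × ℤ → ℤ := fun pq => ((Module.length A (LinearMap.range (P.d pq (pq + v)).hom)).toNat : ℤ)
      have hnext : ∀ pq : ℤ × ℤ, (ComplexShape.up' v).next pq = pq + v := fun pq =>
        (ComplexShape.up' v).next_eq' rfl
      have hprev : ∀ pq : ℤ × ℤ, (ComplexShape.up' v).prev pq = pq - v := fun pq =>
        (ComplexShape.up' v).prev_eq' (sub_add_cancel pq v)
      have hlen : ∀ pq : ℤ × ℤ, IsFiniteLength A ((E.page r' (by omega)).X pq) ∧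
          ((Module.length A ((E.page r' (by omega)).X pq)).toNat : ℤ) = (Module.length A (P.X pq)).toNat - ρ (pq - v) - ρ pq := by
        intro pq
        obtain ⟨h1, h2⟩ := spot (P.sc' (pq - v) pq (pq + v)) (hf pq)
        let e := ((P.isoSc' (pq - v) pq (pq + v) (hprev pq) (hnext pq)).symm.trans (Iso.refl _))
        let e' : (P.sc' (pq - v) pq (pq + v)).homology ≅ (E.page r' (by omega)).X pq :=
          ShortComplex.homologyMapIso e ≪≫ E.iso r r' pq hrr hr2
        refine ⟨e'.toLinearEquiv.isFiniteLength h1, ?_⟩
        rw [← e'.toLinearEquiv.length_eq, h2]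
        have hd : ∀ a b : ℤ × ℤ, b = a + v →
            ((Module.length A (LinearMap.range (P.d a b).hom)).toNat : ℤ) = ρ a := by
          rintro a b rfl
          rfl
        rw [← hd (pq - v) pq (sub_add_cancel pq v).symm]
        rfl
      have hz' : ∀ pq : ℤ × ℤ, pq ∉ s → IsZero ((E.page r' (by omega)).X pq) := fun pq hpq =>
        IsZero.of_iso ((HomologicalComplex.exactAt_iff_isZero_homology _ _).1
          ((P.exactAt_iff pq).2 (ShortComplex.exact_of_isZero_X₂ _ (hz pq hpq)))) (E.iso r r' pq hrr hr2).symm
      refine ⟨fun pq => (hlen pq).1, hz', ?_⟩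
      rw [← hsum]
      have hρ : ∀ pq, ρ pq ≠ 0 → pq ∈ s ∧ pq + v ∈ s := by
        intro pq h
        by_contra hc
        apply h
        have h0 : P.d pq (pq + v) = 0 := by
          by_cases h1 : pq ∈ s
          · exact (hz _ fun h2 => hc ⟨h1, h2⟩).eq_of_tgt _ _
          · exact (hz _ h1).eq_of_src _ _
        have e : LinearMap.range (P.d pq (pq + v)).hom = ⊥ := by rw [h0]; exact LinearMap.range_zero
        show ((Module.length A (LinearMap.range (P.d pq (pq + v)).hom)).toNat : ℤ) = 0
        rw [e, Module.length_bot]
        rfl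
      let σ : ℤ × ℤ → ℤ := fun pq => (((pq.1 + pq.2).negOnePow : ℤˣ) : ℤ)
      have key : (s.sum fun pq => σ pq * ρ (pq - v)) = - s.sum fun pq => σ pq * ρ pq := by
        rw [← Finset.sum_neg_distrib]
        refine Finset.sum_bij_ne_zero (fun pq _ _ => pq - v) (fun pq _ h => (hρ _ (right_ne_zero_of_mul h)).1)
          (fun a _ _ b _ _ h => sub_left_injective h) (fun pq _ h => ?_) (fun pq _ h => ?_)
        · have h' : ρ pq ≠ 0 := right_ne_zero_of_mul (neg_ne_zero.1 h)
          exact ⟨pq + v, (hρ pq h').2, by simpa [σ] using h', add_sub_cancel_right pq v⟩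
        · have : σ (pq - v) = - σ pq := by
            simp only [σ, v, Prod.fst_sub, Prod.snd_sub]
            rw [show pq.1 - r + (pq.2 - (1 - r)) = pq.1 + pq.2 - 1 by ring, Int.negOnePow_sub]
            simp
          rw [this]
          ring
      have expand : ∀ pq ∈ s, σ pq * ((Module.length A ((E.page r' (by omega)).X pq)).toNat : ℤ) =
          σ pq * ((Module.length A (P.X pq)).toNat : ℤ) - (σ pq * ρ (pq - v) + σ pq * ρ pq) := fun pq _ => by
        rw [(hlen pq).2]
        ring
      refine (Finset.sum_congr rfl expand).trans ?_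
      rw [Finset.sum_sub_distrib, Finset.sum_add_distrib, key, neg_add_cancel, sub_zero]
  exact (main (r - 2).toNat r (by omega)).2.2

end Groth.Agent.S3544

#print axioms Groth.Agent.S3544.result
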