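import Groth.Statements.S3548
import Groth.Agent.ProjLib.TildeBasics

set_option autoImplicit false
universe u
open CategoryTheory CategoryTheory.Limits AlgebraicGeometry
open EGA2

namespace Groth.Agent.S3548

/-- Let S be a graded ring, M a graded S-module and X = Proj S. If for every z in M and every
homogeneous f of positive degree some power of f annihilates z, then the O_X-module M~ is zero. -/
theorem result {R A : Type u} [CommRing R] [CommRing A] [Algebra R A] (𝒜 : ℕ → Submodule R A) [GradedAlgebra 𝒜]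
    {M : Type u} [AddCommGroup M] [Module R M] [Module A M] [IsScalarTower R A M] (ℳ : ℕ → Submodule R M) [DirectSum.Decomposition ℳ] [SetLike.GradedSMul 𝒜 ℳ]
    (h : ∀ (z : M) (d : ℕ) (f : A), 0 < d → f ∈ 𝒜 d → ∃ k : ℕ, f ^ k • z = 0) :
    IsZero (GrTilde.tilde 𝒜 ℳ 0) := by
  refine ProjLib.isZero_modules_of_subsingleton _ fun U => ⟨fun f g => Subtype.ext (funext fun x => ?_)⟩
  have key : ∀ (x : ProjectiveSpectrum 𝒜) (q : GrTilde.LocMod 𝒜 (M := M) x),
      q ∈ GrTilde.tildeAt 𝒜 ℳ 0 x → q = 0 := by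
    intro x q hq
    obtain ⟨i, j, m, s, hs, -, rfl⟩ := ProjLib.tildeAt_eq_frac 0 x hq
    obtain ⟨d, t, hd, ht, htx⟩ := ProjLib.exists_pos_homogeneous_notMem 𝒜 x
    obtain ⟨k, hk⟩ := h m.1 d t hd ht
    rw [← LocalizedModule.zero_mk (⟨s.1, hs⟩ : x.asHomogeneousIdeal.toIdeal.primeCompl),
      LocalizedModule.mk_eq]
    refine ⟨⟨t ^ k, fun h => htx (x.isPrime.mem_of_pow_mem k h)⟩, ?_⟩
    show (t ^ k) • (s.1 • m.1) = (t ^ k) • (s.1 • (0 : M))
    rw [smul_comm, hk, smul_zero, smul_zero]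
  exact Subtype.ext ((key x.1 _ (f.1 x).2).trans (key x.1 _ (g.1 x).2).symm)

end Groth.Agent.S3548
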