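import Groth.Statements.S3549
import Groth.Agent.ProjLib.TildeBasics
import Groth.Agent.ProjLib.ConePoints

set_option autoImplicit false
universe u
open CategoryTheory CategoryTheory.Limits AlgebraicGeometry
open EGA2

namespace Groth.Agent.S3549

/-- Let S be a graded ring whose irrelevant ideal S_+ is generated by the degree-one elements, M a
graded S-module and X = Proj S. If the O_X-module M~ is zero, then for every z in M and every
homogeneous f of positive degree some power of f annihilates z. -/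
theorem result {R A : Type u} [CommRing R] [CommRing A] [Algebra R A] (𝒜 : ℕ → Submodule R A) [GradedAlgebra 𝒜]
    (hgen : (HomogeneousIdeal.irrelevant 𝒜).toIdeal = Ideal.span (𝒜 1 : Set A))
    {M : Type u} [AddCommGroup M] [Module R M] [Module A M] [IsScalarTower R A M] (ℳ : ℕ → Submodule R M) [DirectSum.Decomposition ℳ] [SetLike.GradedSMul 𝒜 ℳ]
    (h : IsZero (GrTilde.tilde 𝒜 ℳ 0)) (z : M) (d : ℕ) (f : A) (hd : 0 < d) (hf : f ∈ 𝒜 d) :
    ∃ k : ℕ, f ^ k • z = 0 := by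
  classical
  have hS : ∀ U, Subsingleton ((GrTilde.tilde 𝒜 ℳ 0).presheaf.obj U) := fun U => by
    refine ⟨fun a b => ?_⟩
    have h2 : ∀ a : (GrTilde.tilde 𝒜 ℳ 0).presheaf.obj U, a = 0 := fun a => by
      have h3 := congrArg (fun φ => (Scheme.Modules.Hom.app φ U.unop).hom a) ((IsZero.iff_id_eq_zero _).mp h)
      simpa using h3
    rw [h2 a, h2 b]
  have key : ∀ (i : ℕ) (m : ℳ i), ∃ N : ℕ, f ^ N • (m.1 : M) = 0 := by
    intro i m
    refine ProjLib.pow_smul_eq_zero_of_forall ℳ hd hf m.2 fun x _ => ?_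
    obtain ⟨g, hg, hgx⟩ := ProjLib.exists_degree_one_notMem 𝒜 hgen x
    have hgi : g ^ i ∈ 𝒜 i := by simpa using SetLike.pow_mem_graded i hg
    have hnm : ∀ y : ProjectiveSpectrum.basicOpen 𝒜 g, g ^ i ∉ y.1.asHomogeneousIdeal.toIdeal :=
      fun y h => y.2 (y.1.isPrime.mem_of_pow_mem i h)
    let σ : GrTilde.sect 𝒜 ℳ 0 (Opposite.op (ProjectiveSpectrum.basicOpen 𝒜 g)) :=
      ⟨fun y => ⟨LocalizedModule.mk m.1 ⟨g ^ i, hnm y⟩,
          ProjLib.frac_mem_tildeAt 0 _ i i m ⟨g ^ i, hgi⟩ (hnm y) (by simp)⟩,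
        fun y => ⟨_, y.2, 𝟙 _, i, i, m, ⟨g ^ i, hgi⟩, hnm, Or.inl (by simp), fun z => rfl⟩⟩
    have h0 : σ = 0 := @Subsingleton.elim _ (hS (Opposite.op (ProjectiveSpectrum.basicOpen 𝒜 g))) _ _
    have h1 : (LocalizedModule.mk m.1 ⟨g ^ i, hnm ⟨x, hgx⟩⟩ : GrTilde.LocMod 𝒜 (M := M) x) = 0 :=
      congrArg Subtype.val (congrFun (congrArg Subtype.val h0) ⟨x, hgx⟩)
    rw [← LocalizedModule.zero_mk
      (⟨g ^ i, hnm ⟨x, hgx⟩⟩ : x.asHomogeneousIdeal.toIdeal.primeCompl), LocalizedModule.mk_eq] at h1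
    obtain ⟨c, hc⟩ := h1
    refine ⟨(c : A) * g ^ i, fun h => (x.isPrime.mem_or_mem h).elim c.2 (hnm ⟨x, hgx⟩), ?_⟩
    rw [mul_smul]
    simpa [Submonoid.smul_def] using hc
  choose N hN using fun i => key i (DirectSum.decompose ℳ z i)
  refine ⟨(DirectSum.decompose ℳ z).support.sup N, ?_⟩
  refine (congrArg (f ^ (DirectSum.decompose ℳ z).support.sup N • ·)
    (DirectSum.sum_support_decompose ℳ z)).symm.trans ?_
  dsimp only
  rw [Finset.smul_sum]
  refine Finset.sum_eq_zero fun i hi => ?_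
  obtain ⟨l, hl⟩ := Nat.exists_eq_add_of_le (Finset.le_sup (f := N) hi)
  rw [hl, add_comm, pow_add, mul_smul, hN i, smul_zero]

end Groth.Agent.S3549
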