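import Groth.Statements.S3555
import Groth.Agent.ProjLib.TildeBasics

set_option autoImplicit false
universe u
open CategoryTheory CategoryTheory.Limits AlgebraicGeometry
open EGA2

namespace Groth.Agent.S3555

/-- Let S be a graded ring whose irrelevant ideal S_+ is generated by the degree-one elements, X = Proj
S, and f homogeneous of degree d > 0. Then D_+(f) is the set of points p of X at which the global
section f/1 of O_X(d) does not vanish, i.e. at which its value generates the module of degree-d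
fractions at p. -/
theorem result {R A : Type u} [CommRing R] [CommRing A] [Algebra R A] (𝒜 : ℕ → Submodule R A) [GradedAlgebra 𝒜]
    (hgen : (HomogeneousIdeal.irrelevant 𝒜).toIdeal = Ideal.span (𝒜 1 : Set A))
    {d : ℕ} (hd : 0 < d) (f : 𝒜 d) (p : ProjectiveSpectrum 𝒜) :
    p ∈ ProjectiveSpectrum.basicOpen 𝒜 (f : A) ↔
      Submodule.span (Twist.A0 𝒜 p) {(Twist.globalOf 𝒜 f).1 ⟨p, trivial⟩} = ⊤ := by
  constructor
  · intro hfp
    rw [eq_top_iff]
    rintro ⟨q, hq⟩ -
    have hspan : ∀ q ∈ Twist.twistAt 𝒜 (d : ℤ) p, ∃ c : Twist.A0 𝒜 p,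
        q = c.val * Localization.mk (f : A) ⟨1, ProjLib.one_notMem p⟩ := by
      intro q hq
      unfold Twist.twistAt at hq
      induction hq using Submodule.span_induction with
      | mem q hq =>
        obtain ⟨i, j, ⟨a, ha⟩, ⟨s, hs⟩, hsx, e, rfl⟩ := hq
        have hij : i = j + d := by omega
        subst hij
        refine ⟨HomogeneousLocalization.mk ⟨j + d, ⟨a, ha⟩, ⟨s * f, SetLike.mul_mem_graded hs f.2⟩,
          fun h => (p.isPrime.mem_or_mem h).elim hsx hfp⟩, ?_⟩
        rw [HomogeneousLocalization.val_mk, Localization.mk_mul, Localization.mk_eq_mk_iff,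
          Localization.r_iff_exists]
        refine ⟨1, ?_⟩
        simp
        ring
      | zero => exact ⟨0, by rw [HomogeneousLocalization.val_zero, zero_mul]⟩
      | add q r _ _ ihq ihr =>
        obtain ⟨a, rfl⟩ := ihq
        obtain ⟨b, rfl⟩ := ihr
        exact ⟨a + b, by rw [HomogeneousLocalization.val_add, add_mul]⟩
      | smul c q _ ihq =>
        obtain ⟨a, rfl⟩ := ihq
        refine ⟨c * a, ?_⟩
        rw [Algebra.smul_def, HomogeneousLocalization.algebraMap_apply,
          HomogeneousLocalization.val_mul, mul_assoc]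
    obtain ⟨c, hc⟩ := hspan q hq
    rw [Submodule.mem_span_singleton]
    exact ⟨c, Subtype.ext ((Twist.coe_smul_val (d : ℤ) p c _).trans hc.symm)⟩
  · intro h hfp
    obtain ⟨g, hg, hgp⟩ := ProjLib.exists_degree_one_notMem 𝒜 hgen p
    have hgd : g ^ d ∈ 𝒜 d := by simpa using SetLike.pow_mem_graded d hg
    let e : Twist.twistAt 𝒜 (d : ℤ) p := ⟨Localization.mk (g ^ d) ⟨1, ProjLib.one_notMem p⟩,
      Submodule.subset_span ⟨d, 0, ⟨g ^ d, hgd⟩, ⟨1, SetLike.GradedOne.one_mem⟩, ProjLib.one_notMem p,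
        by simp, rfl⟩⟩
    obtain ⟨c, hc⟩ := Submodule.mem_span_singleton.mp
      (h.ge (Submodule.mem_top : e ∈ (⊤ : Submodule (Twist.A0 𝒜 p) _)))
    obtain ⟨⟨k, ⟨a, ha⟩, ⟨b, hb⟩, hbp⟩, rfl⟩ := HomogeneousLocalization.mk_surjective c
    have h2 : HomogeneousLocalization.val (HomogeneousLocalization.mk ⟨k, ⟨a, ha⟩, ⟨b, hb⟩, hbp⟩ : Twist.A0 𝒜 p) *
        Localization.mk (f : A) ⟨1, ProjLib.one_notMem p⟩ =
        Localization.mk (g ^ d) ⟨1, ProjLib.one_notMem p⟩ :=
      (Twist.coe_smul_val (d : ℤ) p _ _).symm.trans (congrArg Subtype.val hc)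
    rw [HomogeneousLocalization.val_mk, Localization.mk_mul, Localization.mk_eq_mk_iff,
      Localization.r_iff_exists] at h2
    obtain ⟨⟨t, ht⟩, h3⟩ := h2
    simp at h3
    have hbad : t * (b * g ^ d) ∈ p.asHomogeneousIdeal.toIdeal := by
      rw [← h3]
      exact Ideal.mul_mem_left _ _ (Ideal.mul_mem_left _ _ hfp)
    exact (p.isPrime.mem_or_mem hbad).elim ht fun h => (p.isPrime.mem_or_mem h).elim hbp
      fun h => hgp (p.isPrime.mem_of_pow_mem d h)

end Groth.Agent.S3555
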