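import Groth.Statements.S3562
import Groth.Agent.TwistLib.G.TF
import Groth.Agent.TwistLib.G.RelMap

set_option autoImplicit false
universe u
open CategoryTheory CategoryTheory.Limits AlgebraicGeometry
open EGA2


namespace Groth.Agent.S3562

/-- Let S be a graded ring whose irrelevant ideal S_+ is finitely generated and generated by the
degree-one elements, and M a graded S-module satisfying (TF) (some tail of M generates a finitely
generated submodule). Then M~ = 0 on Proj S if and only if M satisfies (TN): M_k = 0 for all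
sufficiently large k. (The published statement assumes only that S_+ is finitely generated; the
statement then fails when S_+ has no system of degree-one generators, e.g. S = k[t] with t of degree
2 and M = S shifted into odd degrees, whose M~ vanishes although no M_k does. Stated here with S_+
generated by degree-one elements, where the published proof applies.) -/
theorem result {R A : Type u} [CommRing R] [CommRing A] [Algebra R A] (𝒜 : ℕ → Submodule R A) [GradedAlgebra 𝒜]
    (hfg : (HomogeneousIdeal.irrelevant 𝒜).toIdeal.FG)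
    (hgen : (HomogeneousIdeal.irrelevant 𝒜).toIdeal = Ideal.span (𝒜 1 : Set A))
    {M : Type u} [AddCommGroup M] [Module R M] [Module A M] [IsScalarTower R A M] (ℳ : ℕ → Submodule R M) [DirectSum.Decomposition ℳ] [SetLike.GradedSMul 𝒜 ℳ]
    (hTF : ∃ n : ℕ, (Submodule.span A (⋃ k ∈ Set.Ici n, (ℳ k : Set M))).FG) :
    IsZero (GrTilde.tilde 𝒜 ℳ 0) ↔ ∃ n : ℕ, ∀ k : ℕ, n ≤ k → ℳ k = ⊥ := by
  show IsZero (GrMod.tilde 𝒜 ℳ 0) ↔ _
  refine ⟨fun h => ?_, fun h => ?_⟩
  · obtain ⟨n₀, hn₀⟩ := hTF
    rw [hgen] at hfg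
    obtain ⟨s, hs1, hs⟩ := (Submodule.fg_span_iff_fg_span_finset_subset _).1 hfg
    obtain ⟨K, hK⟩ := Groth.Agent.TwistLib.G.exists_bound_of_zero (ℳ := ℳ) (fun g hg => hs1 hg) (hgen.trans hs) hn₀
      fun V z => congrArg (fun q : GrMod.tilde 𝒜 ℳ 0 ⟶ GrMod.tilde 𝒜 ℳ 0 => q.app V z) (h.eq_of_src (𝟙 _) 0)
    exact ⟨K, fun k hk => (Submodule.eq_bot_iff _).2 (hK k hk)⟩
  · obtain ⟨K, hK⟩ := h
    refine Groth.Agent.TwistLib.G.isZero_modules_of_subsingleton _ fun W => ⟨fun a b => ?_⟩
    induction W using Opposite.rec with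
    | op W =>
      refine Groth.Agent.TwistLib.G.sect_ext fun z => ?_
      have hb : ∃ k₀ : ℕ, ∀ k, k₀ ≤ k → ∀ m ∈ ℳ k, m = 0 := ⟨K, fun k hk => (Submodule.eq_bot_iff _).1 (hK k hk)⟩
      exact (Groth.Agent.TwistLib.G.eq_zero_of_eventually hb z.1 (Subtype.mem _)).trans
        (Groth.Agent.TwistLib.G.eq_zero_of_eventually hb z.1 (Subtype.mem _)).symm

end Groth.Agent.S3562
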