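import Groth.Statements.S3566
import Groth.Agent.AmpleLib.Local

set_option autoImplicit false
universe u
open CategoryTheory CategoryTheory.Limits AlgebraicGeometry
open EGA2

open Groth.Agent.AmpleLib Groth.Agent.PicLib Groth.Agent.Coherent

namespace Groth.Agent.S3566

/-- Let X be a quasi-compact separated scheme (the published statement also allows a prescheme with
Noetherian underlying space) and L an invertible O_X-module. Then L is ample, i.e. the affine ones
among the opens X_s (s a global section of a positive tensor power of L, X_s the locus where s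
generates) cover X, if and only if all the opens X_s form a base of the topology of X. -/
theorem result (X : Scheme.{u}) [CompactSpace X] [X.IsSeparated]
    (L : X.Modules) (hL : PicF.IsInvertible L) :
    CohB1.IsAmple L ↔
      TopologicalSpace.IsTopologicalBasis
        {U : Set X | ∃ (n : ℕ) (s : Coh.structureModule X ⟶ CohB1.tensorPow L (n + 1)),
          U = (CohB1.genLocus (CohB1.tensorPow L (n + 1)) s : Set X)} := by
  constructor
  · intro h
    refine TopologicalSpace.isTopologicalBasis_of_isOpen_of_nhds ?_ fun x O hx hO ↦ ?_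
    · rintro _ ⟨n, s, rfl⟩
      exact (CohB1.genLocus _ s).2
    · obtain ⟨m, hm, b, hxb, hbU, -⟩ := affGlocus_of_mem (U := ⟨O, hO⟩) h hx
      obtain ⟨n, rfl⟩ : ∃ n, m = n + 1 := ⟨m - 1, by omega⟩
      exact ⟨_, ⟨n, unitDesc _ b, rfl⟩, hxb, hbU⟩
  · intro hb
    refine ⟨hL, inferInstance, fun x ↦ ?_⟩
    obtain ⟨W, hW, hxW, -⟩ := exists_isAffineOpen_mem_and_subset (x := x) (U := ⊤) trivial
    obtain ⟨_, ⟨n, s, rfl⟩, hxs, hsW⟩ := hb.exists_subset_of_mem_open hxW W.2
    refine ⟨n, s, hxs, ?_⟩
    rw [genLocus_eq_glocus] at hsW ⊢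
    have h := isAffineOpen_glocus_inf (isInvertible_tensorPow hL (n + 1)) (unitVal s ⊤) hW
    rwa [inf_eq_left.2 (show glocus _ (unitVal s ⊤) ≤ W from hsW)] at h

end Groth.Agent.S3566
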