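import Groth.Statements.S3568
import Mathlib

set_option autoImplicit false
universe u
open CategoryTheory CategoryTheory.Limits AlgebraicGeometry
open EGA2

namespace Groth.Agent.S3568

/-- Let U be an integral scheme, V a normal integral scheme (all local rings integrally closed domains)
and h : U → V a morphism which is universally closed, radicial (universally injective) and
birational (it sends the generic point of U to that of V and induces an isomorphism of the residue
fields there). Then h is an isomorphism. (The source assumes only V normal; integrality of V, needed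
here to speak of its generic point, follows from the other hypotheses.) -/
theorem result {U V : Scheme.{u}} [AlgebraicGeometry.IsIntegral U] [AlgebraicGeometry.IsIntegral V]
    (hN : Pi1.IsNormalScheme V) (h : U ⟶ V) [UniversallyClosed h]
    [UniversallyInjective h] (hgen : h.base (genericPoint U) = genericPoint V)
    (hbir : Function.Bijective (h.residueFieldMap (genericPoint U)).hom) :
    IsIso h := by
  have hN' : ∀ y : V, IsIntegrallyClosed (V.presheaf.stalk y) := fun y ↦ (hN y).2
  have hind : Topology.IsClosedEmbedding h :=
    .of_continuous_injective_isClosedMap h.continuous h.injective h.isClosedMap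
  have : IsAffineHom h := isAffineHom_of_isInducing h hind.isInducing hind.isClosed_range
  have : IsIntegralHom h := IsIntegralHom.iff_universallyClosed_and_isAffineHom.mpr ⟨inferInstance, inferInstance⟩
  have hbir' : IsIso (h.stalkMap (genericPoint U)) := by
    have hfV : IsField (V.presheaf.stalk (h.base (genericPoint U))) := by
      rw [hgen]; exact Field.toIsField V.functionField
    let _ := hfV.toField
    let _ : Field (U.presheaf.stalk (genericPoint U)) := inferInstanceAs (Field U.functionField)
    refine (ConcreteCategory.isIso_iff_bijective _).mpr ⟨(h.stalkMap (genericPoint U)).hom.injective, fun b ↦ ?_⟩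
    obtain ⟨q, hq⟩ := hbir.2 (U.residue (genericPoint U) b)
    obtain ⟨a, rfl⟩ := V.residue_surjective _ q
    refine ⟨a, (U.residue (genericPoint U)).hom.injective ?_⟩
    rw [← hq]
    exact (ConcreteCategory.congr_hom (Scheme.residue_residueFieldMap h (genericPoint U)) a).symm
  have hy₀ : h (genericPoint U) = genericPoint V := hgen
  have hsurj : ∀ W : V.Opens, IsAffineOpen W → Function.Surjective (h.app W).hom := by
    intro W hU
    by_cases hne : (W : Set V).Nonempty
    swap
    · have : h ⁻¹ᵁ W = ⊥ := by
        ext x; simp only [TopologicalSpace.Opens.coe_bot, Set.mem_empty_iff_false, iff_false]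
        exact fun hx ↦ hne ⟨h x, hx⟩
      intro b
      refine ⟨0, ?_⟩
      have : Subsingleton Γ(U, h ⁻¹ᵁ W) := by
        rw [this]; exact (inferInstance : Subsingleton Γ(U, ⊥))
      exact Subsingleton.elim _ _
    obtain ⟨x₀, hx₀⟩ := hne
    have : Nonempty W := ⟨⟨x₀, hx₀⟩⟩
    have hηU : genericPoint V ∈ W := (genericPoint_specializes x₀).mem_open W.isOpen hx₀
    let y := h (genericPoint U)
    have hyU : y ∈ W := by show h _ ∈ W; rw [hy₀]; exact hηU
    let : Algebra Γ(V, W) (V.presheaf.stalk y) := (V.presheaf.germ W y hyU).hom.toAlgebra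
    have hfr : IsFractionRing Γ(V, W) (V.presheaf.stalk y) := by
      have key : ∀ (z : V) (hz : z ∈ W), z = genericPoint V →
          letI : Algebra Γ(V, W) (V.presheaf.stalk z) := (V.presheaf.germ W z hz).hom.toAlgebra
          IsFractionRing Γ(V, W) (V.presheaf.stalk z) := by
        rintro z hz rfl
        exact functionField_isFractionRing_of_isAffineOpen V W hU
      exact key y hyU hy₀
    have : IsDomain Γ(V, W) := inferInstance
    have : IsIntegrallyClosed Γ(V, W) := IsIntegrallyClosed.of_localization_maximal fun p _ hp ↦ by
      let P : PrimeSpectrum Γ(V, W) := ⟨p, hp.isPrime⟩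
      obtain ⟨z, hz, hzP⟩ : ∃ (z : V) (hz : z ∈ W), hU.primeIdealOf ⟨z, hz⟩ = P := by
        refine ⟨hU.fromSpec P, hU.range_fromSpec.le (Set.mem_range_self _), ?_⟩
        exact hU.fromSpec.isOpenEmbedding.injective (hU.fromSpec_primeIdealOf _)
      let : Algebra Γ(V, W) (V.presheaf.stalk z) := (V.presheaf.germ W z hz).hom.toAlgebra
      have hloc := hU.isLocalization_stalk ⟨z, hz⟩
      rw [hzP] at hloc
      have := (hN' z)
      exact IsIntegrallyClosed.of_equiv
        (@IsLocalization.algEquiv Γ(V, W) _ p.primeCompl (V.presheaf.stalk z) _ _ hloc (Localization p.primeCompl) _ _ _).toRingEquiv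
    intro b
    have hmem : genericPoint U ∈ h ⁻¹ᵁ W := hyU
    obtain ⟨x, hx⟩ := ((ConcreteCategory.isIso_iff_bijective (h.stalkMap (genericPoint U))).mp hbir').2
      (U.presheaf.germ (h ⁻¹ᵁ W) _ hmem b)
    have hint : IsIntegral Γ(V, W) x := by
      obtain ⟨q, hq, hqb⟩ := h.isIntegral_app W hU b
      refine ⟨q, hq, ?_⟩
      apply ((ConcreteCategory.isIso_iff_bijective (h.stalkMap (genericPoint U))).mp hbir').1
      rw [map_zero]
      refine (Polynomial.hom_eval₂ q _ (h.stalkMap (genericPoint U)).hom x).trans ?_
      have : (h.stalkMap (genericPoint U)).hom.comp (algebraMap Γ(V, W) (V.presheaf.stalk y)) =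
          (U.presheaf.germ (h ⁻¹ᵁ W) _ hmem).hom.comp (h.app W).hom := by
        ext a; exact Scheme.Hom.germ_stalkMap_apply h W (genericPoint U) hmem a
      rw [this, hx]
      refine (Polynomial.hom_eval₂ q (h.app W).hom (U.presheaf.germ (h ⁻¹ᵁ W) _ hmem).hom b).symm.trans ?_
      rw [hqb, map_zero]
    obtain ⟨a, ha⟩ := IsIntegrallyClosed.isIntegral_iff.mp hint
    refine ⟨a, germ_injective_of_isIntegral U (genericPoint U) hmem ?_⟩
    rw [← hx, ← ha]
    exact (Scheme.Hom.germ_stalkMap_apply h W (genericPoint U) hmem a).symm
  have : IsClosedImmersion h := by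
    rw [HasAffineProperty.eq_targetAffineLocally (P := @IsClosedImmersion)]
    intro W
    have : IsAffine (h ⁻¹ᵁ W.1 : Scheme.{u}) := W.2.preimage h
    refine ⟨inferInstance, ?_⟩
    rw [Scheme.Hom.appTop, morphismRestrict_app]
    refine (RingHom.surjective_respectsIso.cancel_right_isIso _ _).mpr (hsurj _ ?_)
    rw [W.1.ι_image_top]; exact W.2
  have : Surjective h := by
    refine ⟨fun y ↦ ?_⟩
    have hc : IsClosed (Set.range h) := h.isClosedEmbedding.isClosed_range
    have : genericPoint V ∈ Set.range h := ⟨_, hy₀⟩
    exact (genericPoint_specializes y).mem_closed hc this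
  exact isIso_of_isClosedImmersion_of_surjective h

end Groth.Agent.S3568
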