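import Groth.Statements.S3571
import Groth.Prelude.Def_RelSpec
import Groth.Agent.RelSpecLib.Basic
import Groth.Agent.QCohLoc.Basic

set_option autoImplicit false
universe u
open CategoryTheory AlgebraicGeometry TopologicalSpace
open EGA2

namespace Groth.Agent.S3571

/-- Let S be a scheme and B a sheaf of commutative rings on S with a morphism O_S → B making B a
quasi-coherent O_S-module (a quasi-coherent O_S-algebra). Then there are a scheme X and an affine
morphism f : X → S together with an isomorphism of sheaves of rings B ≅ f_*O_X compatible with the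
two structure maps from O_S (X is the relative spectrum of B; it is in fact unique up to unique
S-isomorphism, but only existence is asserted here). -/
theorem result {S : Scheme.{u}}
    (B : Sheaf (Opens.grothendieckTopology S) CommRingCat.{u}) (φ : S.sheaf ⟶ B)
    (hB : Coh.IsQCoh ((SheafOfModules.restrictScalars
      ((sheafCompose (Opens.grothendieckTopology S) (forget₂ CommRingCat.{u} RingCat.{u})).map φ)).obj
      (SheafOfModules.unit ((sheafCompose (Opens.grothendieckTopology S) (forget₂ CommRingCat.{u} RingCat.{u})).obj B)))) :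
    ∃ (X : Scheme.{u}) (f : X ⟶ S) (_ : IsAffineHom f)
      (e : B ≅ (TopCat.Sheaf.pushforward CommRingCat.{u} f.base).obj X.sheaf),
      (φ ≫ e.hom).hom = f.c := by
  let M : S.Modules := (SheafOfModules.restrictScalars
      ((sheafCompose (Opens.grothendieckTopology S) (forget₂ CommRingCat.{u} RingCat.{u})).map φ)).obj
      (SheafOfModules.unit ((sheafCompose (Opens.grothendieckTopology S) (forget₂ CommRingCat.{u} RingCat.{u})).obj B))
  have : M.IsQuasicoherent := hB
  have hunit : ∀ (U : S.Opens) (r : Γ(S, U)),
      IsUnit ((B.obj.map (homOfLE (S.basicOpen_le r)).op).hom ((φ.hom.app (Opposite.op U)).hom r)) := by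
    intro U r
    have := ConcreteCategory.congr_hom (φ.hom.naturality (homOfLE (S.basicOpen_le r)).op) r
    simp only [ConcreteCategory.comp_apply] at this
    rw [← this]
    exact (RingedSpace.isUnit_res_basicOpen S.toRingedSpace r).map _
  let A : RelSpec.QCAlg S :=
    { presheaf := B.obj
      isSheaf := B.property
      str := φ.hom
      isQC := by
        intro U hU r
        letI := (B.obj.map (homOfLE (S.basicOpen_le r)).op).hom.toAlgebra
        refine (isLocalization_iff _ _).mpr ⟨?_, fun s ↦ ?_, fun {x y} h ↦ ?_⟩
        · rintro ⟨_, n, rfl⟩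
          simp only [map_pow, RingHom.algebraMap_toAlgebra]
          exact (hunit U r).pow n
        · obtain ⟨n, t, ht⟩ := Groth.Agent.QCohLoc.exists_smul_eq_map M hU r s
          refine ⟨(t, ⟨_, n, rfl⟩), ?_⟩
          simp only [RingHom.algebraMap_toAlgebra]
          have hn := ConcreteCategory.congr_hom (φ.hom.naturality (homOfLE (S.basicOpen_le r)).op) (r ^ n)
          simp only [ConcreteCategory.comp_apply] at hn
          refine Eq.trans ?_ ht.symm
          rw [← map_pow, mul_comm]
          exact congrArg (· * s) hn.symm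
        · obtain ⟨n, hn⟩ := Groth.Agent.QCohLoc.exists_pow_smul_eq_zero M hU r (x - y)
            ((map_sub (B.obj.map (homOfLE (S.basicOpen_le r)).op).hom x y).trans (sub_eq_zero.mpr h))
          refine ⟨⟨_, n, rfl⟩, ?_⟩
          simp only
          rw [← map_pow, ← sub_eq_zero, ← mul_sub]
          exact hn }
  have := Groth.Agent.RelSpecLib.isIso_gammaMap A
  refine ⟨A.spec, A.π, inferInstance, ?_⟩
  let g : (TopCat.Sheaf.pushforward CommRingCat.{u} A.π.base).obj A.spec.sheaf ⟶ B := ⟨A.gammaMap⟩
  let gi : A.presheaf ⟶ A.π.base _* A.spec.presheaf := inv A.gammaMap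
  have h1 : A.gammaMap ≫ gi = 𝟙 _ := IsIso.hom_inv_id A.gammaMap
  have h2 : gi ≫ A.gammaMap = 𝟙 _ := IsIso.inv_hom_id A.gammaMap
  let e : B ≅ (TopCat.Sheaf.pushforward CommRingCat.{u} A.π.base).obj A.spec.sheaf :=
    { hom := ⟨gi⟩
      inv := g
      hom_inv_id := Sheaf.hom_ext h2
      inv_hom_id := Sheaf.hom_ext h1 }
  refine ⟨e, ?_⟩
  refine (?_ : A.str ≫ gi = A.π.c)
  rw [← A.π_c_gammaMap, Category.assoc, h1, Category.comp_id]

end Groth.Agent.S3571
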