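import Groth.Statements.S3588
import Groth.Agent.ProjLib.MapLocal

set_option autoImplicit false
universe u
open CategoryTheory CategoryTheory.Limits AlgebraicGeometry
open EGA2

namespace Groth.Agent.S3588

/-- Let S be a graded ring, N_+ the set of nilpotent elements of S_+ (an ideal of S), and S → S/N_+ the
quotient (here: any surjective homomorphism of graded rings φ : S → S' whose kernel is N_+). Then
the induced morphism Proj S' → Proj S is a closed immersion which is a homeomorphism of the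
underlying spaces, and Proj S' is reduced; thus Proj S' is the reduced closed subscheme (Proj
S)_red. -/
theorem result {R A : Type u} [CommRing R] [CommRing A] [Algebra R A] (𝒜 : ℕ → Submodule R A) [GradedAlgebra 𝒜]
    {B : Type u} [CommRing B] [Algebra R B] (ℬ : ℕ → Submodule R B) [GradedAlgebra ℬ]
    (φ : 𝒜 →+*ᵍ ℬ) (hsurj : Function.Surjective φ)
    (hker : ∀ a : A, φ a = 0 ↔ a ∈ (HomogeneousIdeal.irrelevant 𝒜).toIdeal ∧ IsNilpotent a)
    (hφ : HomogeneousIdeal.irrelevant ℬ ≤ (HomogeneousIdeal.irrelevant 𝒜).map φ) :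
    IsClosedImmersion (Proj.map φ hφ) ∧ IsHomeomorph (Proj.map φ hφ).base ∧
      AlgebraicGeometry.IsReduced (Proj ℬ) := by
  have hcl := Groth.Agent.ProjLib.map_isClosedImmersion φ hφ fun n _ b hb =>
    Groth.Agent.ProjLib.exists_preimage_homogeneous φ hsurj n hb
  have hdense := Groth.Agent.ProjLib.map_denseRange φ hφ fun a ha => ((hker a).mp ha).2
  have hemb := (Proj.map φ hφ).isClosedEmbedding
  have hs : Function.Surjective (Proj.map φ hφ).base := by
    rw [← Set.range_eq_univ, ← hemb.isClosed_range.closure_eq]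
    exact hdense.closure_range
  refine ⟨hcl, isHomeomorph_iff_isEmbedding_surjective.mpr ⟨hemb.isEmbedding, hs⟩, ?_⟩
  refine Groth.Agent.ProjLib.proj_isReduced ℬ fun f hf hn => ?_
  obtain ⟨a, rfl⟩ := hsurj f
  obtain ⟨k, hk⟩ := hn
  have h0 : φ (DirectSum.decompose 𝒜 a 0 : A) = 0 := by
    rw [GradedRingHom.map_directSumDecompose]
    exact Groth.Agent.ProjLib.decompose_zero_of_mem_irrelevant ℬ hf
  have hb : a - (DirectSum.decompose 𝒜 a 0 : A) ∈ (HomogeneousIdeal.irrelevant 𝒜).toIdeal := by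
    show GradedRing.proj 𝒜 0 _ = 0
    rw [map_sub, GradedRing.proj_apply, GradedRing.proj_apply,
      DirectSum.decompose_of_mem_same 𝒜 (DirectSum.decompose 𝒜 a 0).2, sub_self]
  have hfb : φ (a - (DirectSum.decompose 𝒜 a 0 : A)) = φ a := by rw [map_sub, h0, sub_zero]
  obtain ⟨j, hj⟩ := ((hker ((a - (DirectSum.decompose 𝒜 a 0 : A)) ^ k)).mp
    (by rw [map_pow, hfb, hk])).2
  rw [← hfb]
  exact (hker _).mpr ⟨hb, ⟨k * j, by rwa [pow_mul]⟩⟩

end Groth.Agent.S3588
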