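import Groth.Statements.S3593
import Groth.Agent.ProjLib.AwayDehom
import Mathlib.Algebra.Polynomial.AlgebraMap

set_option autoImplicit false
universe u
open CategoryTheory CategoryTheory.Limits AlgebraicGeometry
open EGA2

namespace Groth.Agent.S3593

/-- Let S be a graded R-algebra, Ŝ a graded R-algebra with a graded homomorphism φ : S → Ŝ making Ŝ an
S-algebra, and z an element of Ŝ of degree one such that the S-algebra map S[X] → Ŝ, X ↦ z, is
bijective (so Ŝ = S[z] with z in degree one, the graded ring of the projective cone of S). Then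
there is a ring isomorphism S ≅ Ŝ_(z) onto the degree-zero localization at z, sending a homogeneous
a of degree n to φ(a)/z^n. (This is the isomorphism that identifies the affine cone Spec S with the
open D_+(z) of the projective cone Proj Ŝ; that identification itself is not asserted here.) -/
theorem result {R A : Type u} [CommRing R] [CommRing A] [Algebra R A] (𝒜 : ℕ → Submodule R A) [GradedAlgebra 𝒜]
    {B : Type u} [CommRing B] [Algebra R B] (ℬ : ℕ → Submodule R B) [GradedAlgebra ℬ]
    [Algebra A B] [IsScalarTower R A B] (φ : 𝒜 →+*ᵍ ℬ) (hφ : ∀ a : A, φ a = algebraMap A B a)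
    (z : B) (hz : z ∈ ℬ 1) (hhat : Function.Bijective (Polynomial.aeval (R := A) z)) :
    ∃ θ : A ≃+* HomogeneousLocalization.Away ℬ z,
      ∀ (n : ℕ) (a : A), a ∈ 𝒜 n → (θ a).val = Localization.mk (φ a) ⟨z ^ n, pow_mem (Submonoid.mem_powers z) n⟩ := by
  classical
  let ev : B →ₐ[A] A := (Polynomial.aeval (1 : A)).comp (AlgEquiv.ofBijective _ hhat).symm.toAlgHom
  have hevz : ev z = 1 := by
    have : (AlgEquiv.ofBijective _ hhat).symm z = Polynomial.X :=
      (AlgEquiv.ofBijective _ hhat).injective (by simp)
    simp [ev, this]
  have hevφ : ∀ a, ev (φ a) = a := fun a => by rw [hφ, AlgHom.commutes]; rfl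
  let L : Localization.Away z →+* A := IsLocalization.Away.lift z (g := ev.toRingHom)
    (by change IsUnit (ev z); rw [hevz]; exact isUnit_one)
  let θ := Groth.Agent.ProjLib.dehom φ hz
  have hinj : Function.Injective θ := by
    have : ∀ a, L (θ a).val = a := fun a => by
      induction a using DirectSum.Decomposition.inductionOn (ℳ := 𝒜) with
      | zero => simp
      | @homogeneous i a =>
        rw [Groth.Agent.ProjLib.dehom_val _ _ a.2, Localization.mk_eq_mk']
        simp only [L, IsLocalization.Away.lift]
        rw [IsLocalization.lift_mk'_spec]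
        change ev (φ a) = ev (z ^ i) * a
        rw [hevφ, map_pow, hevz, one_pow, one_mul]
      | add a b ha hb =>
        rw [map_add, HomogeneousLocalization.val_add, map_add, ha, hb]
    exact fun a b h => by rw [← this a, ← this b, h]
  have hsurj : Function.Surjective θ := by
    have key : ∀ (b : B) (n : ℕ), ∃ a, (θ a).val = Localization.mk
        (DirectSum.decompose ℬ b n : B) ⟨z ^ n, pow_mem (Submonoid.mem_powers z) n⟩ := by
      intro b n
      obtain ⟨p, rfl⟩ := hhat.2 b
      induction p using Polynomial.induction_on' with
      | add p q hp hq =>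
        obtain ⟨a, ha⟩ := hp
        obtain ⟨c, hc⟩ := hq
        exact ⟨a + c, by
          rw [map_add θ, HomogeneousLocalization.val_add, ha, hc, Localization.add_mk_self,
            map_add (Polynomial.aeval z), DirectSum.decompose_add, DirectSum.add_apply,
            Submodule.coe_add]⟩
      | monomial j a =>
        have hzj : z ^ j ∈ ℬ j := by simpa using SetLike.pow_mem_graded j hz
        rw [Polynomial.aeval_monomial, ← hφ, DirectSum.coe_decompose_mul_of_right_mem ℬ n hzj]
        split_ifs with hle
        · refine ⟨(DirectSum.decompose 𝒜 a (n - j) : A), ?_⟩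
          rw [Groth.Agent.ProjLib.dehom_val _ _ (DirectSum.decompose 𝒜 a (n - j)).2,
            GradedRingHom.map_directSumDecompose, Localization.mk_eq_mk_iff,
            Localization.r_iff_exists]
          refine ⟨1, ?_⟩
          simp only [OneMemClass.coe_one, one_mul]
          rw [mul_comm _ (z ^ j), ← mul_assoc, ← pow_add, Nat.sub_add_cancel hle]
        · exact ⟨0, by rw [map_zero, HomogeneousLocalization.val_zero, Localization.mk_zero]⟩
    intro y
    obtain ⟨n, b, hb, rfl⟩ := HomogeneousLocalization.Away.mk_surjective ℬ hz y
    obtain ⟨a, ha⟩ := key b n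
    refine ⟨a, HomogeneousLocalization.val_injective _ ?_⟩
    rw [ha, HomogeneousLocalization.Away.val_mk,
      DirectSum.decompose_of_mem_same ℬ (show b ∈ ℬ n by simpa using hb)]
  exact ⟨RingEquiv.ofBijective θ ⟨hinj, hsurj⟩, fun n a ha =>
    Groth.Agent.ProjLib.dehom_val φ hz ha⟩

end Groth.Agent.S3593
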