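import Groth.Statements.S3597
import Groth.Agent.PConeLib.Basic

set_option autoImplicit false
universe u
open CategoryTheory CategoryTheory.Limits AlgebraicGeometry
open EGA2

namespace Groth.Agent.S3597

/-- Let S be a graded algebra over a ring and Ŝ = S[z] the graded S-algebra obtained by adjoining a
variable z in degree 1 (an S-algebra with an element z of degree 1 such that S[T] → Ŝ, T ↦ z, is
bijective), with φ : S → Ŝ the graded structure map and ψ : Ŝ → S the graded retraction with ψ ∘ φ =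
id and ψ(z) = 0 (the irrelevant-ideal containment needed to define Proj(ψ) on all of X = Proj S
carried as a hypothesis). Let Ê ⊆ Ĉ = Proj Ŝ be the pointed projective cone, the open union of the
D_+(φ f) for f ∈ S homogeneous of positive degree, and p : Ê → X a morphism which on each chart
D_+(φ f) = Spec Ŝ_{(φ f)} is induced by S_{(f)} → Ŝ_{(φ f)} (the canonical retraction). Then p is
surjective, and the closed immersion j = Proj(ψ) : X → Ĉ factors through Ê with p ∘ j = id_X. -/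
theorem result {R A : Type u} [CommRing R] [CommRing A] [Algebra R A] (𝒜 : ℕ → Submodule R A) [GradedAlgebra 𝒜]
    {B : Type u} [CommRing B] [Algebra R B] (ℬ : ℕ → Submodule R B) [GradedAlgebra ℬ]
    [Algebra A B] [IsScalarTower R A B] (φ : 𝒜 →+*ᵍ ℬ) (hφ : ∀ a : A, φ a = algebraMap A B a)
    (z : B) (hz : z ∈ ℬ 1) (hhat : Function.Bijective (Polynomial.aeval (R := A) z))
    (ψ : ℬ →+*ᵍ 𝒜) (hψφ : ∀ a : A, ψ (φ a) = a) (hψz : ψ z = 0)
    (hψ : HomogeneousIdeal.irrelevant 𝒜 ≤ (HomogeneousIdeal.irrelevant ℬ).map ψ)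
    (p : (PCone.dom φ : Scheme.{u}) ⟶ Proj 𝒜) (hp : ∀ (d : ℕ) (f : A) (hd : 0 < d) (hf : f ∈ 𝒜 d),
        PCone.chart φ hf hd ≫ p =
          Spec.map (CommRingCat.ofHom (HomogeneousLocalization.Away.map φ f)) ≫ Proj.awayι 𝒜 f hf hd) :
    Surjective p ∧ ∃ j : Proj 𝒜 ⟶ (PCone.dom φ : Scheme.{u}), j ≫ (PCone.dom φ).ι = Proj.map ψ hψ ∧ j ≫ p = 𝟙 (Proj 𝒜) := by
  obtain rfl := PConeLib.eq_map φ p hp
  refine ⟨?_, ?_⟩
  · have : Surjective (ProjLib.domMap φ) := ⟨ProjLib.surjective_domMap φ ψ hψφ hψ⟩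
    unfold PConeLib.map
    infer_instance
  · let j₀ : Proj 𝒜 ⟶ (RelCone.domOpen φ).toScheme :=
      IsOpenImmersion.lift (RelCone.domOpen φ).ι (Proj.map ψ hψ)
        (by rw [Scheme.Opens.range_ι]; exact ProjLib.range_map_retr_subset φ ψ hψφ hψ)
    have hj₀ : j₀ ≫ (RelCone.domOpen φ).ι = Proj.map ψ hψ := IsOpenImmersion.lift_fac _ _ _
    refine ⟨j₀ ≫ (PConeLib.domEquiv φ).inv, ?_, ?_⟩
    · rw [Category.assoc, ← PConeLib.domEquiv_hom_ι φ, Iso.inv_hom_id_assoc, hj₀]
    · rw [PConeLib.map, Category.assoc, Iso.inv_hom_id_assoc,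
        ProjLib.retr_comp_domMap φ ψ hψφ hψ j₀ hj₀]

end Groth.Agent.S3597
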