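import Groth.Statements.S3601
import Groth.Agent.Dual22Lib.PPFlat
import Groth.Agent.Dual22Lib.SuppAdjQC

set_option autoImplicit false
universe u
open CategoryTheory CategoryTheory.Limits AlgebraicGeometry
attribute [local instance] HasDerivedCategory.standard
open Dual3

namespace Groth.Agent.S3601

open Groth.Agent Groth.Agent.Dual22Lib Groth.Agent.DCat


/-- Let Y be a quasi-compact quasi-separated scheme and f : X → Y a morphism which is proper, flat and
of finite presentation. Assume the derived direct image Rf_* exists and preserves quasi-coherence of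
cohomology sheaves (both known results), so that it restricts to a functor D_QCoh(O_X) →
D_QCoh(O_Y), and let a : D_QCoh(O_Y) → D_QCoh(O_X) be a right adjoint of this restricted functor.
Let V ⊆ Y be any open subset, with closed complement T. If Q in D_QCoh(O_Y) has all its cohomology
sheaves restricting to zero on V (Q is supported on T), then all cohomology sheaves of a(Q) restrict
to zero on f⁻¹V (a(Q) is supported on f⁻¹T). No boundedness of Q is required. (The published
statement has further parts, which are not asserted here.) -/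
theorem result (X Y : Scheme.{u}) [CompactSpace Y] [QuasiSeparatedSpace Y] (f : X ⟶ Y) [IsProper f] [Flat f] [LocallyOfFinitePresentation f] [DCoh.HasRpush f] (hf : DCoh.RpushPreservesQCoh f) (a : DCoh.DQCoh Y ⥤ DCoh.DQCoh X) (adj : DCoh.RpushQ f hf ⊣ a) (V : Y.Opens) (Q : DCoh.DQCoh Y) (hQV : ∀ i : ℤ, IsZero ((DCoh.HD Q.obj i).restrict V.ι)) (i : ℤ) : IsZero ((DCoh.HD (a.obj Q).obj i).restrict (f ⁻¹ᵁ V).ι) := by
  haveI : CompactSpace X := QuasiCompact.compactSpace_of_compactSpace f
  haveI : QuasiSeparatedSpace X := quasiSeparatedSpace_of_quasiSeparated f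
  haveI := hasLpull f
  haveI := PullPerf.preservesFiniteLimits_restrict (f ⁻¹ᵁ V).ι
  haveI := PullPerf.preservesFiniteLimits_restrict V.ι
  have hk : AdjGeom.killed V.ι Q.obj := SuppOpen.isZero_of_hd _ fun j =>
    (hQV j).of_iso (SuppOpen.hdMapIso (Scheme.Modules.restrictFunctor V.ι) Q.obj j)
  have hka : AdjGeom.killed (f ⁻¹ᵁ V).ι (a.obj Q).obj := by
    refine (AdjGeom.killed_iff _ _).2 fun j x hx => ?_
    rw [Scheme.Opens.opensRange_ι] at hx
    obtain ⟨W, hW, hxW, hle⟩ := exists_isAffineOpen_mem_and_subset (show f x ∈ V from hx)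
    haveI := PullPerf.preservesFiniteLimits_restrict W.ι
    haveI := PullPerf.preservesFiniteLimits_restrict (f ⁻¹ᵁ W).ι
    have hkW : AdjGeom.killed W.ι Q.obj := (AdjGeom.killed_iff _ _).2 fun k y hy => by
      refine (AdjGeom.killed_iff _ _).1 hk k y ?_
      rw [Scheme.Opens.opensRange_ι] at hy ⊢
      exact hle hy
    refine (AdjGeom.killed_iff _ _).1
      (SuppAdjQC.killed_rightAdjoint f (PPFlat.pp_flat f) hf a adj W hW Q hkW) j x ?_
    rw [Scheme.Opens.opensRange_ι]
    exact hxW
  exact ((DerivedCategory.homologyFunctor _ i).map_isZero hka).of_iso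
    (SuppOpen.hdMapIso (Scheme.Modules.restrictFunctor (f ⁻¹ᵁ V).ι) (a.obj Q).obj i).symm

end Groth.Agent.S3601
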