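import Groth.Statements.S3606
import Groth.Agent.DualLib.ShriekNat

set_option autoImplicit false
universe u
open CategoryTheory CategoryTheory.Limits AlgebraicGeometry
attribute [local instance] HasDerivedCategory.standard
open Dual3

namespace Groth.Agent.S3606

open Groth.Agent.DualLib in
theorem nonempty_shriek {X Y Xb : Scheme.{u}} [IsNoetherian X] [IsNoetherian Y] [IsNoetherian Xb] (f : Xb ⟶ Y)
    (j : X ⟶ Xb) [IsOpenImmersion j] [DCoh.HasRpush f] (h : DCoh.RpushPreservesQCoh f)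
    (a : DCoh.DQCoh Y ⥤ DCoh.DQCoh Xb) (adj : DCoh.RpushQ f h ⊣ a)
    [PreservesFiniteLimits (Scheme.Modules.restrictFunctor j)] :
    Nonempty (Dual3.bddι Y ⋙ a ⋙ ObjectProperty.ι _ ⋙ DCoh.restrictD j ≅
      (Dual3.bddι Y ⋙ ShriekNat.A f ⋙ ShriekNat.res j) ⋙ ObjectProperty.ι _) := by
  let e : a ≅ ShriekNat.A f := adj.rightAdjointUniq (ShriekNat.adjA f)
  exact ⟨Functor.isoWhiskerLeft (Dual3.bddι Y) (Functor.isoWhiskerRight e _)⟩


/-- Let S be a Noetherian scheme and X, Y schemes separated and of finite type over S, f : X → Y a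
morphism over S. Take two compactifications of f, that is factorisations f = j_1 ∘ p_1 = j_2 ∘ p_2
with j_i : X → X_i open immersions and p_i : X_i → Y proper; let Rp_{i,*} on D_QCoh be given
(assumed to exist and to preserve quasi-coherence of cohomology) with right adjoints a_i, and assume
restriction of modules to the opens X ⊆ X_i is exact. Then the two functors K ↦ a_1(K)|_X and K ↦
a_2(K)|_X from D^+_QCoh(O_Y) to D(O_X) are isomorphic: the upper shriek functor does not depend on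
the compactification. -/
theorem result (S X Y : Scheme.{u}) [IsNoetherian S] (p : X ⟶ S) (q : Y ⟶ S) [Dual3.IsSepFT p] [Dual3.IsSepFT q] (f : X ⟶ Y) (w : f ≫ q = p) (c₁ c₂ : DEt.Compactification f) [DCoh.HasRpush c₁.fbar] [DCoh.HasRpush c₂.fbar] (h₁ : DCoh.RpushPreservesQCoh c₁.fbar) (h₂ : DCoh.RpushPreservesQCoh c₂.fbar) (a₁ : DCoh.DQCoh Y ⥤ DCoh.DQCoh c₁.Xbar) (a₂ : DCoh.DQCoh Y ⥤ DCoh.DQCoh c₂.Xbar) (adj₁ : DCoh.RpushQ c₁.fbar h₁ ⊣ a₁) (adj₂ : DCoh.RpushQ c₂.fbar h₂ ⊣ a₂) [PreservesFiniteLimits (Scheme.Modules.restrictFunctor c₁.j)] [PreservesFiniteLimits (Scheme.Modules.restrictFunctor c₂.j)] : Nonempty (Dual3.bddι Y ⋙ Dual3.shriekC c₁ a₁ ≅ Dual3.bddι Y ⋙ Dual3.shriekC c₂ a₂) := by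
  haveI : IsLocallyNoetherian Y := LocallyOfFiniteType.isLocallyNoetherian q
  haveI : CompactSpace Y := QuasiCompact.compactSpace_of_compactSpace q
  haveI : IsNoetherian Y := { }
  haveI : IsLocallyNoetherian X := LocallyOfFiniteType.isLocallyNoetherian p
  haveI : CompactSpace X := QuasiCompact.compactSpace_of_compactSpace p
  haveI : IsNoetherian X := { }
  haveI : IsLocallyNoetherian c₁.Xbar := LocallyOfFiniteType.isLocallyNoetherian c₁.fbar
  haveI : CompactSpace c₁.Xbar := QuasiCompact.compactSpace_of_compactSpace c₁.fbar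
  haveI : IsNoetherian c₁.Xbar := { }
  haveI : IsLocallyNoetherian c₂.Xbar := LocallyOfFiniteType.isLocallyNoetherian c₂.fbar
  haveI : CompactSpace c₂.Xbar := QuasiCompact.compactSpace_of_compactSpace c₂.fbar
  haveI : IsNoetherian c₂.Xbar := { }
  let π₁ := pullback.fst c₁.fbar c₂.fbar
  let π₂ := pullback.snd c₁.fbar c₂.fbar
  let P := pullback c₁.fbar c₂.fbar
  haveI : IsLocallyNoetherian P := LocallyOfFiniteType.isLocallyNoetherian π₁
  haveI : CompactSpace P := QuasiCompact.compactSpace_of_compactSpace π₁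
  haveI : IsNoetherian P := { }
  let O : P.Opens := π₁ ⁻¹ᵁ c₁.j.opensRange ⊓ π₂ ⁻¹ᵁ c₂.j.opensRange
  haveI : CompactSpace (O : Scheme.{u}) := isCompact_iff_compactSpace.1 (TopologicalSpace.NoetherianSpace.isCompact _)
  haveI : IsNoetherian (O : Scheme.{u}) := { }
  let s : X ⟶ P := pullback.lift c₁.j c₂.j (c₁.fac.trans c₂.fac.symm)
  have hr : Set.range s ⊆ Set.range O.ι := by
    rw [Scheme.Opens.range_ι]
    rintro _ ⟨x, rfl⟩
    refine ⟨?_, ?_⟩
    · show π₁ (s x) ∈ c₁.j.opensRange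
      rw [← Scheme.Hom.comp_apply, pullback.lift_fst]
      exact ⟨x, rfl⟩
    · show π₂ (s x) ∈ c₂.j.opensRange
      rw [← Scheme.Hom.comp_apply, pullback.lift_snd]
      exact ⟨x, rfl⟩
  let σ : X ⟶ (O : Scheme.{u}) := IsOpenImmersion.lift O.ι s hr
  have hσ : σ ≫ O.ι = s := IsOpenImmersion.lift_fac _ _ _
  obtain ⟨t₁⟩ := Groth.Agent.DualLib.ShriekNat.nonempty_transfer c₁.j π₁ O inf_le_left σ
    (by rw [← Category.assoc, hσ, pullback.lift_fst])
    (Dual3.bddι Y ⋙ Groth.Agent.DualLib.ShriekNat.A c₁.fbar)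
    (fun K => Groth.Agent.DualLib.ShriekNat.isBddBelow_A c₁.fbar K.property)
  obtain ⟨t₂⟩ := Groth.Agent.DualLib.ShriekNat.nonempty_transfer c₂.j π₂ O inf_le_right σ
    (by rw [← Category.assoc, hσ, pullback.lift_snd])
    (Dual3.bddι Y ⋙ Groth.Agent.DualLib.ShriekNat.A c₂.fbar)
    (fun K => Groth.Agent.DualLib.ShriekNat.isBddBelow_A c₂.fbar K.property)
  obtain ⟨u₁⟩ := Groth.Agent.DualLib.ShriekNat.nonempty_A_comp π₁ c₁.fbar
  obtain ⟨u₂⟩ := Groth.Agent.DualLib.ShriekNat.nonempty_A_comp π₂ c₂.fbar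
  obtain ⟨e₁⟩ := nonempty_shriek c₁.fbar c₁.j h₁ a₁ adj₁
  obtain ⟨e₂⟩ := nonempty_shriek c₂.fbar c₂.j h₂ a₂ adj₂
  refine ⟨e₁ ≪≫ Functor.isoWhiskerRight (t₁.symm ≪≫ ?_ ≪≫ t₂) _ ≪≫ e₂.symm⟩
  exact Functor.isoWhiskerLeft (Dual3.bddι Y)
    (Functor.isoWhiskerRight (u₁ ≪≫ Groth.Agent.DualLib.ShriekNat.aCongr pullback.condition ≪≫ u₂.symm)
      (Groth.Agent.DualLib.ShriekNat.res O.ι ⋙ Groth.Agent.DualLib.ShriekNat.A σ))

end Groth.Agent.S3606
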