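import Groth.Statements.S3607
import Groth.Agent.Dual6Lib.PerfShriek
import Groth.Agent.Dual6Lib.SmoothShriek
import Groth.Agent.Dual6Lib.AffineLine
import Groth.Agent.KvbLam28.Basic
import Groth.Agent.AbCohLib.OmegaCoh
import Groth.Agent.DCat.RHomLeft
import Groth.Agent.S7172

set_option autoImplicit false
universe u
open CategoryTheory CategoryTheory.Limits AlgebraicGeometry
attribute [local instance] HasDerivedCategory.standard
open Dual3

namespace Groth.Agent.S3607

/-- Let S be a Noetherian scheme, Y separated and of finite type over S, and f : A^1_Y → Y the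
projection from the affine line. Compute f^! through any compactification f = j ∘ p (j an open
immersion, p proper, Rp_* on D_QCoh assumed to exist and to preserve quasi-coherence, a a right
adjoint of it, restriction to the open assumed exact) and let Lf^* be the derived pullback (assumed
to exist). Then there is an isomorphism of functors f^! ≅ Lf^*(-)[1] on D^+_QCoh(O_Y) (not asserted
to be canonical). -/
theorem result (S Y : Scheme.{u}) [IsNoetherian S] (q : Y ⟶ S) [Dual3.IsSepFT q] (c : DEt.Compactification (AffineSpace (ULift.{u} (Fin 1)) Y ↘ Y)) [DCoh.HasRpush c.fbar] (hc : DCoh.RpushPreservesQCoh c.fbar) (a : DCoh.DQCoh Y ⥤ DCoh.DQCoh c.Xbar) (adj : DCoh.RpushQ c.fbar hc ⊣ a) [PreservesFiniteLimits (Scheme.Modules.restrictFunctor c.j)] [DCoh.HasLpull (AffineSpace (ULift.{u} (Fin 1)) Y ↘ Y)] : Nonempty (Dual3.bddι Y ⋙ Dual3.shriekC c a ≅ Dual3.bddι Y ⋙ ObjectProperty.ι _ ⋙ DCoh.Lpull (AffineSpace (ULift.{u} (Fin 1)) Y ↘ Y) ⋙ shiftFunctor (DCoh.D (AffineSpace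 (ULift.{u} (Fin 1)) Y)) (1 : ℤ)) := by
  haveI : IsNoetherian Y := by
    haveI := (inferInstance : LocallyOfFiniteType q)
    haveI : IsLocallyNoetherian Y := LocallyOfFiniteType.isLocallyNoetherian q
    haveI : CompactSpace Y := QuasiCompact.compactSpace_of_compactSpace q
    exact { }
  haveI : ∀ (S : CommRingCat.{u}), PreservesFiniteLimits (tilde.functor S) :=
    Groth.Agent.AffSchLib.preservesFiniteLimits_tilde
  haveI : ∀ (U V : Scheme.{u}) (j : U ⟶ V) [IsOpenImmersion j],
      PreservesFiniteLimits (Scheme.Modules.restrictFunctor j) :=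
    fun _ _ j _ => Groth.Agent.DCat.PullPerf.preservesFiniteLimits_restrict j
  haveI hs := Groth.Agent.Dual6Lib.AffineLine.smooth_line Y
  haveI : Smooth (AffineSpace (ULift.{u} (Fin 1)) Y ↘ Y) := SmoothOfRelativeDimension.smooth 1 _
  let X := AffineSpace (ULift.{u} (Fin 1)) Y
  haveI : Coh.IsQCoh (Coh.structureModule Y) := Groth.Agent.Coherent.isQCoh_structureModule (X := Y)
  let O : DCoh.DQCoh Y := ⟨DCoh.inD Y (Coh.structureModule Y), Groth.Agent.FlatBC14.isQCohD_inD _⟩
  obtain ⟨w⟩ := Groth.Agent.Dual6Lib.AffineLine.nonempty_omega Y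
  obtain ⟨e⟩ := Groth.Agent.Dual6Lib.SmoothShriek.nonempty_iso 1 c hc a adj O ⟨Iso.refl _⟩
    (Groth.Agent.AbCohLib.isExtPow_congr w.symm (Groth.Agent.KvbLam28.isExtPow_one (Coh.structureModule X)))
  let E := (HomologicalComplex.single X.Modules (ComplexShape.up ℤ) 0).obj (Coh.structureModule X)
  haveI := Groth.Agent.DCat.LTensorSheaf.hasLTensorCx E
  haveI := Groth.Agent.DCat.LTensorSheaf.hasLTensorCx (E⟦(1 : ℤ)⟧)
  obtain ⟨t⟩ := Groth.Agent.DCat.RHomLeft.nonempty_LTensor_structure (X := X)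
  obtain ⟨ts⟩ := Groth.Agent.DCat.RHomLeft.nonempty_LTensor_shift E (Groth.Agent.DCat.RHomLeft.isKFlatFor_structure X) 1
  obtain ⟨i⟩ := Groth.Agent.Dual6Lib.PerfShriek.nonempty_iso c hc a adj (Groth.Agent.S7172.result _) O
    ⟨Iso.refl _⟩ (E⟦(1 : ℤ)⟧)
    ⟨(DerivedCategory.Q.commShiftIso (1 : ℤ)).app E ≪≫ (shiftFunctor (DCoh.D X) (1 : ℤ)).mapIso
      ((DerivedCategory.singleFunctorIsoCompQ X.Modules 0).app (Coh.structureModule X)).symm ≪≫ e.symm⟩
  exact ⟨i ≪≫ Functor.isoWhiskerLeft (Dual3.bddι Y) (Functor.isoWhiskerLeft (ObjectProperty.ι _)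
    (Functor.isoWhiskerLeft (DCoh.Lpull _) (ts ≪≫ Functor.isoWhiskerRight t _ ≪≫ Functor.leftUnitor _)))⟩

end Groth.Agent.S3607
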