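import Groth.Statements.S3612
import Groth.Agent.Dual6Lib.ShriekRelAmp
import Groth.Agent.DualLib.ShriekCM

set_option autoImplicit false
universe u
open CategoryTheory CategoryTheory.Limits AlgebraicGeometry
attribute [local instance] HasDerivedCategory.standard
open Dual3

namespace Groth.Agent.S3612

/-- Let S be a Noetherian scheme, X and Y schemes separated and of finite type over S and f : X → Y a
morphism over S; compute f^! through a compactification f = j ∘ p (j : X → X' an open immersion, p :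
X' → Y proper, Rp_* on D_QCoh assumed to exist and to preserve quasi-coherence of cohomology, a a
right adjoint of Rp_*, restriction of modules to opens assumed exact), so that f^!K = a(K)|_X.
Assume f is flat and let O be the structure sheaf of Y in degree 0. (i) For a point x and n ≥
dim_x(X_{f(x)}): if the stalk of H^i(f^!O) at x is nonzero then -n ≤ i ≤ 0. (ii) If every fibre of f
has dimension at most d, then f^!O has tor amplitude in [-d, 0] relative to Y: it is represented by
a complex of O_X-modules flat over Y placed in degrees [-d, 0]. -/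
theorem result (S X Y : Scheme.{u}) [IsNoetherian S] (p : X ⟶ S) (q : Y ⟶ S) [Dual3.IsSepFT p] [Dual3.IsSepFT q] (f : X ⟶ Y) (w : f ≫ q = p) [Flat f] (c : DEt.Compactification f) [DCoh.HasRpush c.fbar] (hc : DCoh.RpushPreservesQCoh c.fbar) (a : DCoh.DQCoh Y ⥤ DCoh.DQCoh c.Xbar) (adj : DCoh.RpushQ c.fbar hc ⊣ a) [∀ (U V : Scheme.{u}) (j : U ⟶ V) [IsOpenImmersion j], PreservesFiniteLimits (Scheme.Modules.restrictFunctor j)] (O : DCoh.DQCoh Y) (hO : Nonempty (O.obj ≅ DCoh.inD Y (Coh.structureModule Y))) : (∀ (x : X) (n : ℕ), Dual3.localFibreDim f x ≤ (n : WithBot ℕ∞) → ∀ i : ℤ, Nontrivial ((DCoh.HD ((Dual3.shriekC c a).obj O) i).presheaf.stalk x) → -(n : ℤ) ≤ i ∧ i ≤ 0) ∧ ∀ d : ℕ, Dual3.FibreDimLE f d → DCoh.HasRelFlatAmplitudeIn f (-(d : ℤ)) 0 ((Dual3.shriekC c a).obj O) := by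
  haveI : IsNoetherian Y := by
    haveI := (inferInstance : LocallyOfFiniteType q)
    haveI : IsLocallyNoetherian Y := LocallyOfFiniteType.isLocallyNoetherian q
    haveI : CompactSpace Y := QuasiCompact.compactSpace_of_compactSpace q
    exact { }
  haveI : LocallyOfFiniteType f := by
    haveI : LocallyOfFiniteType (f ≫ q) := by rw [w]; infer_instance
    exact locallyOfFiniteType_of_comp f q
  haveI : ∀ (S : CommRingCat.{u}), PreservesFiniteLimits (tilde.functor S) :=
    Groth.Agent.AffSchLib.preservesFiniteLimits_tilde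
  have main : ∀ (x : X) (n : ℕ), Dual3.localFibreDim f x ≤ (n : WithBot ℕ∞) → ∀ i : ℤ,
      Nontrivial ((DCoh.HD ((Dual3.shriekC c a).obj O) i).presheaf.stalk x) → -(n : ℤ) ≤ i ∧ i ≤ 0 := by
    intro x n hn i hi
    obtain ⟨C⟩ := Groth.Agent.DualLib.ShriekLocal.nonempty_chart c hc a adj O hO x
    haveI := Groth.Agent.DualLib.ShriekGor.flat_chart C
    rw [← C.hpt] at hi
    have h1 := (Groth.Agent.Dual22Lib.nontrivial_stalk_iff C.jX C.iso C.pt i).1 hi
    rw [Module.mem_support_iff] at h1
    exact ⟨Groth.Agent.DualLib.Shriek.neg_le_of_nontrivial C.ψ C.surj C.adj C.pt n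
        ((Groth.Agent.DualLib.ShriekLocal.fibreDimAt_chart C).trans_le hn) i h1,
      Groth.Agent.DualLib.Shriek.le_zero_of_nontrivial C.ψ C.surj C.adj C.pt.asIdeal i h1⟩
  refine ⟨main, fun d hd => ?_⟩
  have hloc : ∀ x : X, Dual3.localFibreDim f x ≤ (d : WithBot ℕ∞) := fun x =>
    le_trans (iInf₂_le ⊤ trivial)
      ((Topology.IsInducing.subtypeVal.topologicalKrullDim_le).trans (hd (f x)))
  refine Groth.Agent.Dual6Lib.ShriekRelAmp.relFlatAmplitude _ d (fun i hi => ?_) fun x => ?_
  · refine Groth.Agent.ModStalk.isZero_of_stalks fun x => ?_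
    refine Groth.Agent.DCat.SuppOpen.isZero_stalkFunctor (h := not_nontrivial_iff_subsingleton.1 fun hh => ?_) _ _
    have := main x d (hloc x) i hh
    omega
  · obtain ⟨C⟩ := Groth.Agent.DualLib.ShriekLocal.nonempty_chart c hc a adj O hO x
    haveI := Groth.Agent.DualLib.ShriekGor.flat_chart C
    refine ⟨C, Groth.Agent.DualLib.Shriek.hasTorAmplitudeIn_shriekVia C.ψ C.surj C.adj d fun y => ?_⟩
    rw [Groth.Agent.DualLib.ShriekCM.fibreDimAt_chartPt C y, ← Groth.Agent.DualLib.ShriekLocal.localFibreDim_eq]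
    exact hloc _

end Groth.Agent.S3612
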