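import Groth.Statements.S3615
import Groth.Agent.DualLib.ShriekCM

set_option autoImplicit false
universe u
open CategoryTheory CategoryTheory.Limits AlgebraicGeometry
attribute [local instance] HasDerivedCategory.standard
open Dual3

namespace Groth.Agent.S3615

/-- Let S be a Noetherian scheme, X and Y schemes separated and of finite type over S and f : X → Y a
morphism over S; compute f^! through a compactification f = j ∘ p (j : X → X' an open immersion, p :
X' → Y proper, Rp_* on D_QCoh assumed to exist and to preserve quasi-coherence of cohomology, a a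
right adjoint of Rp_*, restriction of modules to opens assumed exact), so that f^!K = a(K)|_X.
Assume f is flat and let O be the structure sheaf of Y in degree 0 and x a point of X. Then f is
Cohen–Macaulay at x if and only if there are an open neighbourhood U of x and an integer n such that
H^i(f^!O) restricts to zero on U for every i ≠ n while H^n(f^!O) does not. -/
theorem result (S X Y : Scheme.{u}) [IsNoetherian S] (p : X ⟶ S) (q : Y ⟶ S) [Dual3.IsSepFT p] [Dual3.IsSepFT q] (f : X ⟶ Y) (w : f ≫ q = p) [Flat f] (c : DEt.Compactification f) [DCoh.HasRpush c.fbar] (hc : DCoh.RpushPreservesQCoh c.fbar) (a : DCoh.DQCoh Y ⥤ DCoh.DQCoh c.Xbar) (adj : DCoh.RpushQ c.fbar hc ⊣ a) [∀ (U V : Scheme.{u}) (j : U ⟶ V) [IsOpenImmersion j], PreservesFiniteLimits (Scheme.Modules.restrictFunctor j)] (O : DCoh.DQCoh Y) (hO : Nonempty (O.obj ≅ DCoh.inD Y (Coh.structureModule Y))) (x : X) : MoreMor.IsCMAt f x ↔ ∃ (U : X.Opens) (n : ℤ), x ∈ U ∧ (∀ i : ℤ, i ≠ n → IsZero ((DCoh.HD ((Dual3.shriekC c a).obj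 O) i).restrict U.ι)) ∧ ¬ IsZero ((DCoh.HD ((Dual3.shriekC c a).obj O) n).restrict U.ι) := by
  haveI : IsNoetherian Y := by
    haveI := (inferInstance : LocallyOfFiniteType q)
    haveI : IsLocallyNoetherian Y := LocallyOfFiniteType.isLocallyNoetherian q
    haveI : CompactSpace Y := QuasiCompact.compactSpace_of_compactSpace q
    exact { }
  haveI : LocallyOfFiniteType f := by
    haveI : LocallyOfFiniteType (f ≫ q) := by rw [w]; infer_instance
    exact locallyOfFiniteType_of_comp f q
  haveI : ∀ (S : CommRingCat.{u}), PreservesFiniteLimits (tilde.functor S) :=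
    Groth.Agent.AffSchLib.preservesFiniteLimits_tilde
  open Groth.Agent Groth.Agent.DualLib in
  obtain ⟨C₀⟩ := ShriekLocal.nonempty_chart c hc a adj O hO x
  open Groth.Agent Groth.Agent.DualLib in
  obtain ⟨d, hd⟩ := ShriekCM.exists_fibreDimAt_eq C₀
  open Groth.Agent Groth.Agent.DualLib in
  refine ⟨fun hcm => ?_, fun ⟨U, m, hxU, hz, _⟩ => ?_⟩
  · obtain ⟨C, hC⟩ := ShriekCM.nonempty_chart_within c hc a adj O hO x
      ⟨_, FlatMorDim.isOpen_fibreDimAt_le f d⟩ hd.le
    haveI := ShriekGor.flat_chart C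
    obtain ⟨hup, hmem⟩ := ShriekCM.support_of_cm C d hd hcm
    let H := fun i : ℤ => Dual.HD C.B (Dual2.shriekVia C.n C.Rψ (Dual.inD C.R C.R)) i
    let V : Set (PrimeSpectrum C.B) := {y | ∀ i ∈ Finset.Ioc (-(d : ℤ)) 0, y ∉ Module.support C.B (H i)}
    have hV : IsOpen V := by
      have : V = ⋂ i ∈ Finset.Ioc (-(d : ℤ)) 0, (Module.support C.B (H i))ᶜ := by
        ext y; simp [V]
      rw [this]
      refine isOpen_biInter_finset fun i _ => ?_
      haveI := Omega.finite_HD C.ψ C.surj C.adj i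
      exact (Module.isClosed_support (R := C.B) (M := H i)).isOpen_compl
    let W : X.Opens := ⟨C.jX '' V, C.jX.isOpenEmbedding.isOpenMap _ hV⟩
    have hxW : x ∈ W := ⟨C.pt, fun i hi => hup i (Finset.mem_Ioc.1 hi).1, C.hpt⟩
    refine ⟨W, -(d : ℤ), hxW, fun i hi => ModStalk.isZero_of_stalks fun z => ?_, fun hz => ?_⟩
    · haveI : Subsingleton ((DCoh.HD ((Dual3.shriekC c a).obj O) i).presheaf.stalk (W.ι z)) := by
        refine not_nontrivial_iff_subsingleton.1 fun hh => ?_
        obtain ⟨z, hzW⟩ := z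
        obtain ⟨y, hy, rfl⟩ := hzW
        have h1 := (Dual22Lib.nontrivial_stalk_iff C.jX C.iso y i).1 hh
        have h0 : i ≤ 0 := by
          by_contra h0
          haveI := Omega.subsingleton_HD_of_pos C.ψ C.surj C.adj i (by omega)
          exact notMem_support_of_subsingleton _ h1
        have h2 : -(d : ℤ) ≤ i := by
          refine Shriek.neg_le_of_nontrivial C.ψ C.surj C.adj y d ?_ i (Module.mem_support_iff.1 h1)
          rw [ShriekCM.fibreDimAt_chartPt C y]
          exact hC ⟨y, rfl⟩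
        exact hy i (Finset.mem_Ioc.2 ⟨lt_of_le_of_ne h2 (Ne.symm hi), h0⟩) h1
      exact DCat.SuppOpen.isZero_stalkFunctor (h := DCat.SuppOpen.subsingleton_stalk_restrict W.ι _ z this) _ _
    · have h1 := DCat.SuppOpen.subsingleton_stalk_of_restrict W.ι
        (DCoh.HD ((Dual3.shriekC c a).obj O) (-(d : ℤ))) ⟨x, hxW⟩
        (DCat.SuppOpen.subsingleton_of_isZero_stalkFunctor _ _ ((DerSch.stalkFunctor _ _).map_isZero hz))
      refine not_nontrivial_iff_subsingleton.2 h1 ?_
      have h2 := (Dual22Lib.nontrivial_stalk_iff C.jX C.iso C.pt (-(d : ℤ))).2 hmem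
      rw [C.hpt] at h2
      exact h2
  · obtain ⟨C, hC⟩ := ShriekCM.nonempty_chart_within c hc a adj O hO x U hxU
    haveI := ShriekGor.flat_chart C
    have hd' : FlatMor.fibreDimAt (Spec.map (CommRingCat.ofHom (algebraMap C.R C.B))) C.pt = (d : WithBot ℕ∞) :=
      (ShriekCM.fibreDimAt_chartPt C C.pt).trans (by rw [C.hpt]; exact hd)
    obtain ⟨y, y', hy, hle, hdim⟩ := OmegaCM.exists_dim_ge (C.pt.asIdeal.comap (algebraMap C.R C.B)) C.pt rfl d hd'.ge
    refine (ShriekCM.cmAt_chart_iff C _ rfl y hy).2 (OmegaCM.cm_of_concentrated C.ψ C.surj C.adj _ y y' hle d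
      (by rw [hy]; exact hd'.le) hdim m fun i hi q _ hq => ?_)
    have h2 := (Dual22Lib.nontrivial_stalk_iff C.jX C.iso q i).2 hq
    haveI := DCat.SuppOpen.subsingleton_stalk_of_restrict U.ι
      (DCoh.HD ((Dual3.shriekC c a).obj O) i) ⟨C.jX q, hC ⟨q, rfl⟩⟩
      (DCat.SuppOpen.subsingleton_of_isZero_stalkFunctor _ _ ((DerSch.stalkFunctor _ _).map_isZero (hz i hi)))
    exact not_nontrivial_iff_subsingleton.2 this h2

end Groth.Agent.S3615
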