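import Groth.Statements.S3641
import Groth.Agent.Dual6Lib.FlatShriek
import Groth.Agent.S3606

set_option autoImplicit false
universe u
open CategoryTheory CategoryTheory.Limits AlgebraicGeometry
attribute [local instance] HasDerivedCategory.standard
open Dual3

namespace Groth.Agent.S3641

open Groth.Agent.DCat Groth.Agent.Dual22Lib Groth.Agent.Dual6Lib

/-- Let S be a Noetherian scheme and X' = Y' ×_Y X a cartesian square of schemes separated and of finite
type over S (maps f : X → Y, g : Y' → Y flat, f' : X' → Y', g' : X' → X, all over S). Compute f^!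
and f'^! through compactifications of f and f' with right adjoints a, a' of the proper parts
(derived direct images assumed to exist and preserve quasi-coherence; restrictions to opens exact)
and let Lg^*, Lg'^* be the derived pullbacks (assumed to exist, Lg^* preserving quasi-coherence).
Then Lg'^* ∘ f^! ≅ f'^! ∘ Lg^* as functors on D^+_QCoh(O_Y). -/
theorem result (S X Y X' Y' : Scheme.{u}) [IsNoetherian S] (p : X ⟶ S) (q : Y ⟶ S) (p' : X' ⟶ S) (q' : Y' ⟶ S) [Dual3.IsSepFT p] [Dual3.IsSepFT q] [Dual3.IsSepFT p'] [Dual3.IsSepFT q'] (f : X ⟶ Y) (g : Y' ⟶ Y) (f' : X' ⟶ Y') (g' : X' ⟶ X) (w : f ≫ q = p) (wg : g ≫ q = q') (w' : f' ≫ q' = p') (hsq : IsPullback g' f' f g) [Flat g] (c : DEt.Compactification f) (c' : DEt.Compactification f') [DCoh.HasRpush c.fbar] [DCoh.HasRpush c'.fbar] (hc : DCoh.RpushPreservesQCoh c.fbar) (hc' : DCoh.RpushPreservesQCoh c'.fbar) (a : DCoh.DQCoh Y ⥤ DCoh.DQCoh c.Xbar) (a' : DCoh.DQCoh Y' ⥤ DCoh.DQCoh c'.Xbar)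 (adj : DCoh.RpushQ c.fbar hc ⊣ a) (adj' : DCoh.RpushQ c'.fbar hc' ⊣ a') [∀ (U V : Scheme.{u}) (j : U ⟶ V) [IsOpenImmersion j], PreservesFiniteLimits (Scheme.Modules.restrictFunctor j)] [DCoh.HasLpull g] [DCoh.HasLpull g'] (hLg : Dual3.LpullPreservesQCoh g) : Nonempty (Dual3.bddι Y ⋙ Dual3.shriekC c a ⋙ DCoh.Lpull g' ≅ Dual3.bddι Y ⋙ Dual3.LpullQ g hLg ⋙ Dual3.shriekC c' a') := by
  haveI : IsLocallyNoetherian Y := LocallyOfFiniteType.isLocallyNoetherian q
  haveI : CompactSpace Y := QuasiCompact.compactSpace_of_compactSpace q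
  haveI : IsNoetherian Y := { }
  haveI : IsLocallyNoetherian Y' := LocallyOfFiniteType.isLocallyNoetherian q'
  haveI : CompactSpace Y' := QuasiCompact.compactSpace_of_compactSpace q'
  haveI : IsNoetherian Y' := { }
  haveI : CompactSpace c.Xbar := QuasiCompact.compactSpace_of_compactSpace c.fbar
  haveI : QuasiSeparatedSpace c.Xbar := quasiSeparatedSpace_of_quasiSeparated c.fbar
  let g₂ := pullback.fst c.fbar g
  let f₂ := pullback.snd c.fbar g
  have hsq₂ : IsPullback g₂ f₂ c.fbar g := IsPullback.of_hasPullback c.fbar g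
  haveI : IsProper f₂ := MorphismProperty.of_isPullback hsq₂ inferInstance
  haveI : Flat g₂ := MorphismProperty.of_isPullback hsq₂.flip inferInstance
  haveI : CompactSpace ↑(pullback c.fbar g) := QuasiCompact.compactSpace_of_compactSpace f₂
  haveI : QuasiSeparatedSpace ↑(pullback c.fbar g) := quasiSeparatedSpace_of_quasiSeparated f₂
  haveI : QuasiCompact g := quasiCompact_of_compactSpace g
  haveI : QuasiCompact g₂ := quasiCompact_of_compactSpace g₂
  have hw : (g' ≫ c.j) ≫ c.fbar = f' ≫ g := by rw [Category.assoc, c.fac, hsq.w]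
  let jX : X' ⟶ pullback c.fbar g := pullback.lift (g' ≫ c.j) f' hw
  have hjX : jX ≫ g₂ = g' ≫ c.j := pullback.lift_fst _ _ _
  have hfX : jX ≫ f₂ = f' := pullback.lift_snd _ _ _
  have hsqj : IsPullback g' jX c.j g₂ :=
    IsPullback.of_bot (by rw [hfX, c.fac]; exact hsq) hjX.symm hsq₂
  haveI : IsOpenImmersion jX := MorphismProperty.of_isPullback hsqj inferInstance
  let c₂ : DEt.Compactification f' := ⟨_, jX, f₂, inferInstance, inferInstance, hfX⟩
  haveI := hasRpush g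
  haveI := hasRpush g₂
  haveI : DCoh.HasRpush c₂.fbar := hasRpush f₂
  haveI := hasLpull g₂
  haveI := hasLpull c.j
  haveI := hasLpull jX
  have hg : DCoh.RpushPreservesQCoh g := fun M hM => DQCoh.isQCohD_Rpush _ M hM
  have hg₂ : DCoh.RpushPreservesQCoh g₂ := fun M hM => DQCoh.isQCohD_Rpush _ M hM
  have hc₂ : DCoh.RpushPreservesQCoh c₂.fbar := fun M hM => DQCoh.isQCohD_Rpush f₂ M hM
  haveI : (DCoh.RpushQ c₂.fbar hc₂).IsLeftAdjoint := AdjGeom.isLeftAdjoint_RpushQ f₂ hc₂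
  let adj₂ := Adjunction.ofIsLeftAdjoint (DCoh.RpushQ c₂.fbar hc₂)
  let a₂ := (DCoh.RpushQ c₂.fbar hc₂).rightAdjoint
  obtain ⟨N⟩ := FlatShriek.nonempty_iso (g' := g₂) (hLg := hLg) (hLg' := XiIso.lpullPreservesQCoh g₂) hsq₂ hg hg₂
    adj adj₂
  obtain ⟨I⟩ := Groth.Agent.S3606.result S X' Y' p' q' f' w' c₂ c' hc₂ hc' a₂ a' adj₂ adj'
  obtain ⟨r⟩ := BCSquare.nonempty_Lpull_rd c.j
  obtain ⟨r'⟩ := BCSquare.nonempty_Lpull_rd jX
  haveI := hasLpull (g' ≫ c.j)
  haveI := hasLpull (jX ≫ g₂)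
  obtain ⟨k⟩ := DCat.nonempty_LpullComp g' c.j
  obtain ⟨k'⟩ := DCat.nonempty_LpullComp jX g₂
  let E : DCoh.restrictD c.j ⋙ DCoh.Lpull g' ≅ DCoh.Lpull g₂ ⋙ DCoh.restrictD jX :=
    Functor.isoWhiskerRight r.symm _ ≪≫ k ≪≫ eqToIso (by congr 1; exact hjX.symm) ≪≫ k'.symm ≪≫
      Functor.isoWhiskerLeft _ r'
  let B := (Dual3.IsBddBelowQ Y).ι
  let Lg : (Dual3.IsBddBelowQ Y).FullSubcategory ⥤ (Dual3.IsBddBelowQ Y').FullSubcategory :=
    ObjectProperty.lift _ (Dual3.bddι Y ⋙ Dual3.LpullQ g hLg) fun K => by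
      obtain ⟨n, hn⟩ := K.property
      haveI := hn
      exact ⟨n, FlatShriek.isGE_Lpull_flat (g := g) (K := K.obj.obj) n⟩
  refine ⟨NatIso.ofComponents (fun K => E.app (a.obj K.obj).obj ≪≫
    (DCoh.restrictD jX).mapIso ((ObjectProperty.ι _).mapIso (N.app K)) ≪≫ I.app (Lg.obj K)) fun {K L} u => ?_⟩
  have h1 := E.hom.naturality (a.map u.hom).hom
  have h2 := congrArg (fun t => (DCoh.restrictD jX).map ((ObjectProperty.ι _).map t)) (N.hom.naturality u)
  have h3 := I.hom.naturality (Lg.map u)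
  simp only [Functor.comp_map, Functor.map_comp] at h1 h2 h3
  simp only [Iso.trans_hom, Iso.app_hom, Functor.mapIso_hom, Functor.comp_map, Category.assoc]
  erw [reassoc_of% h1, reassoc_of% h2, h3]
  rfl

end Groth.Agent.S3641
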