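import Groth.Statements.S3642
import Groth.Agent.Dual6Lib.PerfShriek
import Groth.Agent.Dual6Lib.SmoothShriek
import Groth.Agent.KvbLam28.Basic
import Groth.Agent.DCat.RHomLeft
import Groth.Agent.S7172

set_option autoImplicit false
universe u
open CategoryTheory CategoryTheory.Limits AlgebraicGeometry
attribute [local instance] HasDerivedCategory.standard
open Dual3

namespace Groth.Agent.S3642

/-- Let S be a Noetherian scheme, X and Y schemes separated and of finite type over S and f : X → Y a
morphism over S; compute f^! through a compactification f = j ∘ p (j : X → X' an open immersion, p :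
X' → Y proper, Rp_* on D_QCoh assumed to exist and to preserve quasi-coherence of cohomology, a a
right adjoint of Rp_*, restriction of modules to opens assumed exact), so that f^!K = a(K)|_X. If f
is étale and Lf^* denotes its derived pullback (assumed to exist), then f^! ≅ Lf^* as functors on
D^+_QCoh(O_Y). -/
theorem result (S X Y : Scheme.{u}) [IsNoetherian S] (p : X ⟶ S) (q : Y ⟶ S) [Dual3.IsSepFT p] [Dual3.IsSepFT q] (f : X ⟶ Y) (w : f ≫ q = p) [Etale f] (c : DEt.Compactification f) [DCoh.HasRpush c.fbar] (hc : DCoh.RpushPreservesQCoh c.fbar) (a : DCoh.DQCoh Y ⥤ DCoh.DQCoh c.Xbar) (adj : DCoh.RpushQ c.fbar hc ⊣ a) [∀ (U V : Scheme.{u}) (j : U ⟶ V) [IsOpenImmersion j], PreservesFiniteLimits (Scheme.Modules.restrictFunctor j)] [DCoh.HasLpull f] : Nonempty (Dual3.bddι Y ⋙ Dual3.shriekC c a ≅ Dual3.bddι Y ⋙ ObjectProperty.ι _ ⋙ DCoh.Lpull f) := by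
  haveI : IsNoetherian Y := by
    haveI := (inferInstance : LocallyOfFiniteType q)
    haveI : IsLocallyNoetherian Y := LocallyOfFiniteType.isLocallyNoetherian q
    haveI : CompactSpace Y := QuasiCompact.compactSpace_of_compactSpace q
    exact { }
  haveI : LocallyOfFiniteType f := by
    haveI : LocallyOfFiniteType (f ≫ q) := by rw [w]; infer_instance
    exact locallyOfFiniteType_of_comp f q
  haveI : IsSeparated f := by
    haveI : IsSeparated (f ≫ q) := by rw [w]; infer_instance
    exact IsSeparated.of_comp f q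
  haveI : QuasiCompact f := by
    haveI : QuasiCompact (f ≫ q) := by rw [w]; infer_instance
    exact QuasiCompact.of_comp f q
  haveI : ∀ (S : CommRingCat.{u}), PreservesFiniteLimits (tilde.functor S) :=
    Groth.Agent.AffSchLib.preservesFiniteLimits_tilde
  haveI : Coh.IsQCoh (Coh.structureModule Y) := Groth.Agent.Coherent.isQCoh_structureModule (X := Y)
  let O : DCoh.DQCoh Y := ⟨DCoh.inD Y (Coh.structureModule Y), Groth.Agent.FlatBC14.isQCohD_inD _⟩
  obtain ⟨e⟩ := Groth.Agent.Dual6Lib.SmoothShriek.nonempty_iso 0 c hc a adj O ⟨Iso.refl _⟩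
    (Groth.Agent.KvbLam28.isExtPow_zero (Omega.sheaf f))
  haveI := Groth.Agent.DCat.LTensorSheaf.hasLTensorCx
    ((HomologicalComplex.single X.Modules (ComplexShape.up ℤ) 0).obj (Coh.structureModule X))
  obtain ⟨t⟩ := Groth.Agent.DCat.RHomLeft.nonempty_LTensor_structure (X := X)
  obtain ⟨i⟩ := Groth.Agent.Dual6Lib.PerfShriek.nonempty_iso c hc a adj (Groth.Agent.S7172.result f) O
    ⟨Iso.refl _⟩ ((HomologicalComplex.single X.Modules (ComplexShape.up ℤ) 0).obj (Coh.structureModule X))
    ⟨((DerivedCategory.singleFunctorIsoCompQ X.Modules 0).app (Coh.structureModule X)).symm ≪≫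
      ((shiftFunctorZero (DCoh.D X) ℤ).app _).symm ≪≫ e.symm⟩
  exact ⟨i ≪≫ Functor.isoWhiskerLeft (Dual3.bddι Y) (Functor.isoWhiskerLeft (ObjectProperty.ι _)
    (Functor.isoWhiskerLeft (DCoh.Lpull f) t ≪≫ Functor.rightUnitor _))⟩

end Groth.Agent.S3642
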