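import Groth.Statements.S3643
import Groth.Agent.DualLib.ShriekGor
import Groth.Agent.Dual22Lib.Lpull
import Groth.Agent.DualLib.OmegaGor

set_option autoImplicit false
universe u
open CategoryTheory CategoryTheory.Limits AlgebraicGeometry
attribute [local instance] HasDerivedCategory.standard
open Dual3

namespace Groth.Agent.S3643

/-- Let S be a Noetherian scheme, X and Y schemes separated and of finite type over S and f : X → Y a
morphism over S; compute f^! through a compactification f = j ∘ p (j : X → X' an open immersion, p :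
X' → Y proper, Rp_* on D_QCoh assumed to exist and to preserve quasi-coherence of cohomology, a a
right adjoint of Rp_*, restriction of modules to opens assumed exact), so that f^!K = a(K)|_X.
Assume f is flat, let O be the structure sheaf of Y in degree 0 and ω = f^!O. For a point y of Y let
h : X_y → X be the inclusion of the fibre and Lh^* its derived pullback (assumed to exist; exactness
instances as in the definition of dualizing complexes). Then Lh^*ω is a dualizing complex on the
fibre X_y. -/
theorem result (S X Y : Scheme.{u}) [IsNoetherian S] (p : X ⟶ S) (q : Y ⟶ S) [Dual3.IsSepFT p] [Dual3.IsSepFT q] (f : X ⟶ Y) (w : f ≫ q = p) [Flat f] (c : DEt.Compactification f) [DCoh.HasRpush c.fbar] (hc : DCoh.RpushPreservesQCoh c.fbar) (a : DCoh.DQCoh Y ⥤ DCoh.DQCoh c.Xbar) (adj : DCoh.RpushQ c.fbar hc ⊣ a) [∀ (U V : Scheme.{u}) (j : U ⟶ V) [IsOpenImmersion j], PreservesFiniteLimits (Scheme.Modules.restrictFunctor j)] [∀ (R : CommRingCat.{u}), PreservesFiniteLimits (tilde.functor R)] (O : DCoh.DQCoh Y) (hO : Nonempty (O.obj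 ≅ DCoh.inD Y (Coh.structureModule Y))) (y : Y) [DCoh.HasLpull (f.fiberι y)] : Dual2.IsDualizingSch (f.fiber y) ((DCoh.Lpull (f.fiberι y)).obj ((Dual3.shriekC c a).obj O)) := by
  open Groth.Agent Groth.Agent.DualLib in
  haveI : IsNoetherian Y := by
    haveI := (inferInstance : LocallyOfFiniteType q)
    haveI : IsLocallyNoetherian Y := LocallyOfFiniteType.isLocallyNoetherian q
    haveI : CompactSpace Y := QuasiCompact.compactSpace_of_compactSpace q
    exact { }
  haveI : LocallyOfFiniteType f := by
    haveI : LocallyOfFiniteType (f ≫ q) := by rw [w]; infer_instance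
    exact locallyOfFiniteType_of_comp f q
  haveI : LocallyOfFiniteType (f.fiberToSpecResidueField y) :=
    inferInstanceAs (LocallyOfFiniteType (Limits.pullback.snd f (Y.fromSpecResidueField y)))
  haveI : IsLocallyNoetherian (f.fiber y) := LocallyOfFiniteType.isLocallyNoetherian (f.fiberToSpecResidueField y)
  open Groth.Agent Groth.Agent.DualLib in
  have hch : ∀ z : f.fiber y, ∃ (B : Type u) (_ : CommRing B) (j : Spec (CommRingCat.of B) ⟶ f.fiber y)
      (_ : IsOpenImmersion j), z ∈ Set.range j ∧
        Dual22Lib.DualAt ((DCoh.Lpull (f.fiberι y)).obj ((Dual3.shriekC c a).obj O)) j := by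
    intro z
    obtain ⟨C⟩ := ShriekLocal.nonempty_chart c hc a adj O hO (f.fiberι y z)
    haveI := ShriekGor.flat_chart C
    have hy : y ∈ Set.range C.jY := by
      refine ⟨(Spec.map (CommRingCat.ofHom (algebraMap C.R C.B))) C.pt, ?_⟩
      rw [← Scheme.Hom.comp_apply, ← C.comm, Scheme.Hom.comp_apply, C.hpt]
      have : f.fiberι y z ∈ Set.range (f.fiberι y) := ⟨z, rfl⟩
      rw [f.range_fiberι] at this
      exact this
    let k : Type u := Y.residueField y
    let l : Spec (CommRingCat.of k) ⟶ Spec (CommRingCat.of C.R) :=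
      IsOpenImmersion.lift C.jY (Y.fromSpecResidueField y) (by rw [Scheme.range_fromSpecResidueField]; exact Set.singleton_subset_iff.2 hy)
    letI : Algebra C.R k := (Spec.preimage l).hom.toAlgebra
    let kS : Spec (CommRingCat.of k) ⟶ Y := Y.fromSpecResidueField y
    have hk : Spec.map (CommRingCat.ofHom (algebraMap C.R k)) ≫ C.jY = kS := by
      show Spec.map (Spec.preimage l) ≫ C.jY = _
      rw [Spec.map_preimage]
      exact IsOpenImmersion.lift_fac _ _ _
    let incl : C.B →+* TensorProduct C.R k C.B := (Algebra.TensorProduct.includeRight : C.B →ₐ[C.R] TensorProduct C.R k C.B).toRingHom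
    let sI : Spec (CommRingCat.of (TensorProduct C.R k C.B)) ⟶ Spec (CommRingCat.of C.B) := Spec.map (CommRingCat.ofHom incl)
    let sL : Spec (CommRingCat.of (TensorProduct C.R k C.B)) ⟶ Spec (CommRingCat.of k) :=
      Spec.map (CommRingCat.ofHom Algebra.TensorProduct.includeLeftRingHom)
    have hsq0 : IsPullback sI sL (Spec.map (CommRingCat.ofHom (algebraMap C.R C.B)) ≫ C.jY)
        (Spec.map (CommRingCat.ofHom (algebraMap C.R k)) ≫ C.jY) :=
      have h0 := AlgebraicGeometry.isPullback_SpecMap_of_isPushout _ _ _ _ (CommRingCat.isPushout_tensorProduct C.R k C.B).flip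
      IsPullback.of_isLimit' ⟨h0.w_assoc C.jY⟩ (PullbackCone.isLimitOfCompMono _ _ C.jY h0.cone h0.isLimit)
    have hsq1 : IsPullback sI sL (C.jX ≫ f) kS := by rw [C.comm, ← hk]; exact hsq0
    let κ : Spec (CommRingCat.of (TensorProduct C.R k C.B)) ⟶ f.fiber y :=
      pullback.lift (sI ≫ C.jX) sL (by rw [Category.assoc]; exact hsq1.w)
    have hκ : κ ≫ f.fiberι y = sI ≫ C.jX := pullback.lift_fst _ _ _
    have h2 : κ ≫ pullback.snd f kS = sL := pullback.lift_snd _ _ _
    have hp : sI ≫ C.jX = κ ≫ pullback.fst f kS := hκ.symm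
    have hsq2 : IsPullback κ sI (f.fiberι y) C.jX :=
      IsPullback.flip (IsPullback.of_bot (h₂₁ := pullback.fst f kS) (v₂₁ := pullback.snd f kS) (v₂₂ := f) (h₃₁ := kS)
        (show IsPullback sI (κ ≫ pullback.snd f kS) (C.jX ≫ f) kS from h2.symm ▸ hsq1) hp
        (IsPullback.of_hasPullback f kS))
    haveI : IsOpenImmersion κ := MorphismProperty.of_isPullback (P := @IsOpenImmersion) hsq2.flip C.oX
    refine ⟨_, inferInstance, κ, inferInstance, ?_, ?_⟩
    · rw [← hsq2.isoPullback_hom_fst, Scheme.Hom.comp_base, TopCat.coe_comp, Set.range_comp,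
        Set.range_eq_univ.2 hsq2.isoPullback.hom.surjective, Set.image_univ, Scheme.Pullback.range_fst]
      exact ⟨C.pt, C.hpt⟩
    · haveI := DCat.hasLBaseChange incl
      obtain ⟨e⟩ := Dual22Lib.nonempty_lpull_chart (f.fiberι y) κ C.jX (CommRingCat.ofHom incl) hκ C.iso
      exact ⟨_, OmegaGor.isDualizing_fibre C.ψ C.surj C.adj k, ⟨e⟩⟩
  choose B iB j ij hj hd using hch
  exact Groth.Agent.Dual22Lib.isDualizingSch_of_cover _ _ B j (fun z => ⟨z, hj z⟩) hd

end Groth.Agent.S3643
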