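import Groth.Statements.S3653

set_option autoImplicit false
universe u
open CategoryTheory CategoryTheory.Limits AlgebraicGeometry
attribute [local instance] HasDerivedCategory.standard
open Dual3

namespace Groth.Agent.S3653

open CategoryTheory CategoryTheory.Limits AlgebraicGeometry

/-- Consider a cartesian square X' = Y' ×_Y X of quasi-compact quasi-separated schemes with f or g flat
(a Tor independent square), derived direct images and derived pullbacks on D_QCoh with adjunctions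
Lg^* ⊣ Rg_*, Lg'^* ⊣ Rg'_*, right adjoints a of Rf_* and a' of Rf'_*, and an identification e : Rf_*
∘ Rg'_* ≅ Rg_* ∘ Rf'_* for which ξ : Rg'_* a' → a Rg_* is an isomorphism. Let β : Lg^* Rf_* → Rf'_*
Lg'^* and α : Lg'^* a → a' Lg^* be the base change maps built from these data and Tr_f : Rf_* a →
id, Tr_{f'} : Rf'_* a' → id the counits. Then for every K in D_QCoh(O_Y): β_{a(K)} followed by
Rf'_*(α_K) followed by Tr_{f'} at Lg^*K equals Lg^*(Tr_{f,K}). -/
theorem result (X Y X' Y' : Scheme.{u}) [CompactSpace X] [QuasiSeparatedSpace X] [CompactSpace Y] [QuasiSeparatedSpace Y] [CompactSpace X'] [QuasiSeparatedSpace X'] [CompactSpace Y'] [QuasiSeparatedSpace Y'] (f : X ⟶ Y) (g : Y' ⟶ Y) (f' : X' ⟶ Y') (g' : X' ⟶ X) (hsq : IsPullback g' f' f g) (hflat : Flat f ∨ Flat g) [DCoh.HasRpush f] [DCoh.HasRpush f'] [DCoh.HasRpush g] [DCoh.HasRpush g'] (hf : DCoh.RpushPreservesQCoh f) (hf' : DCoh.RpushPreservesQCoh f') (hg : DCoh.RpushPreservesQCoh g) (hg'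 : DCoh.RpushPreservesQCoh g') (a : DCoh.DQCoh Y ⥤ DCoh.DQCoh X) (a' : DCoh.DQCoh Y' ⥤ DCoh.DQCoh X') (adj : DCoh.RpushQ f hf ⊣ a) (adj' : DCoh.RpushQ f' hf' ⊣ a') [DCoh.HasLpull g] [DCoh.HasLpull g'] (hLg : Dual3.LpullPreservesQCoh g) (hLg' : Dual3.LpullPreservesQCoh g') (adjg : Dual3.LpullQ g hLg ⊣ DCoh.RpushQ g hg) (adjg' : Dual3.LpullQ g' hLg' ⊣ DCoh.RpushQ g' hg') (e : (DCoh.RpushQ g' hg' ⋙ DCoh.RpushQ f hf ≅ DCoh.RpushQ f' hf' ⋙ DCoh.RpushQ g hg)) (hξ : ∀ M : DCoh.DQCoh Y', IsIso (Dual3.xi adj adj' e M)) (K : DCoh.DQCoh Y) : Dual3.bcPush e adjg adjg' (a.obj K) ≫ (DCoh.RpushQ f' hf').map (Dual3.bcMap adj adj' e adjg adjg' K (hξ _)) ≫ adj'.counit.app ((Dual3.LpullQ g hLg).obj K) = (Dual3.LpullQ g hLg).map (adj.counit.app K) := by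
  haveI := hξ
  simp only [Dual3.bcPush]
  erw [← adjg.homEquiv_naturality_right_symm]
  refine (adjg.homEquiv _ _).symm_apply_eq.2 ?_
  rw [adjg.homEquiv_unit]
  simp only [Functor.map_comp, Category.assoc]
  have hn := e.hom.naturality (Dual3.bcMap adj adj' e adjg adjg' K (hξ _))
  simp only [Functor.comp_map, Functor.comp_obj] at hn
  erw [← reassoc_of% hn]
  have hb : adjg'.unit.app (a.obj K) ≫
      (DCoh.RpushQ g' hg').map (Dual3.bcMap adj adj' e adjg adjg' K (hξ _)) =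
      a.map (adjg.unit.app K) ≫ inv (Dual3.xi adj adj' e ((Dual3.LpullQ g hLg).obj K)) := by
    refine (adjg'.homEquiv_unit _ _ _).symm.trans ?_
    apply (adjg'.homEquiv _ _).symm.injective
    rw [Equiv.symm_apply_apply, adjg'.homEquiv_counit, Functor.map_comp, Category.assoc]
    rfl
  rw [← Functor.map_comp_assoc, hb, Functor.map_comp_assoc]
  have hx : e.hom.app (a'.obj ((Dual3.LpullQ g hLg).obj K)) ≫
      (DCoh.RpushQ g hg).map (adj'.counit.app ((Dual3.LpullQ g hLg).obj K)) =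
      (DCoh.RpushQ f hf).map (Dual3.xi adj adj' e ((Dual3.LpullQ g hLg).obj K)) ≫ adj.counit.app _ := by
    refine Eq.trans ?_ (adj.homEquiv_counit _ _ _)
    exact ((adj.homEquiv _ _).symm_apply_apply _).symm
  erw [hx]
  erw [← Functor.map_comp_assoc (DCoh.RpushQ f hf) (inv _), IsIso.inv_hom_id, CategoryTheory.Functor.map_id, Category.id_comp]
  erw [adj.counit.naturality (adjg.unit.app K)]
  exact adjg.unit.naturality (adj.counit.app K)

end Groth.Agent.S3653
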