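import Groth.Statements.S3655
import Groth.Agent.DualLib.ShriekNat

set_option autoImplicit false
universe u
open CategoryTheory CategoryTheory.Limits AlgebraicGeometry
attribute [local instance] HasDerivedCategory.standard
open Dual3

namespace Groth.Agent.S3655

open Groth.Agent.DualLib in
theorem noeth_of_ft {X S : Scheme.{u}} [IsNoetherian S] (p : X ⟶ S) [LocallyOfFiniteType p] [QuasiCompact p] :
    IsNoetherian X := by
  haveI : IsLocallyNoetherian X := LocallyOfFiniteType.isLocallyNoetherian p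
  haveI : CompactSpace X := QuasiCompact.compactSpace_of_compactSpace p
  exact { }

open Groth.Agent.DualLib Groth.Agent.DualLib.ShriekNat in
/-- Composition of upper shrieks in the normal form. -/
theorem nonempty_comp {X Y Z Xf Yg W : Scheme.{u}} [IsNoetherian X] [IsNoetherian Y] [IsNoetherian Z]
    [IsNoetherian Xf] [IsNoetherian Yg] [IsNoetherian W] (f : X ⟶ Y) (g : Y ⟶ Z)
    (jf : X ⟶ Xf) [IsOpenImmersion jf] (ff : Xf ⟶ Y) [IsProper ff] (hf : jf ≫ ff = f)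
    (jg : Y ⟶ Yg) [IsOpenImmersion jg] (fg : Yg ⟶ Z) [IsProper fg] (hg : jg ≫ fg = g)
    (jw : X ⟶ W) [IsOpenImmersion jw] (fw : W ⟶ Z) [IsProper fw] (hw : jw ≫ fw = f ≫ g) :
    Nonempty (Dual3.bddι Z ⋙ A fw ⋙ res jw ≅ ((Dual3.bddι Z ⋙ A fg) ⋙ res jg) ⋙ A ff ⋙ res jf) := by
  let πW := pullback.fst fw fg
  let πY := pullback.snd fw fg
  let P := pullback fw fg
  haveI : IsNoetherian P := noeth_of_ft πW
  let PY : P.Opens := πY ⁻¹ᵁ jg.opensRange
  let O : P.Opens := πW ⁻¹ᵁ jw.opensRange ⊓ PY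
  haveI : CompactSpace (PY : Scheme.{u}) := isCompact_iff_compactSpace.1 (TopologicalSpace.NoetherianSpace.isCompact _)
  haveI : IsNoetherian (PY : Scheme.{u}) := { }
  haveI : CompactSpace (O : Scheme.{u}) := isCompact_iff_compactSpace.1 (TopologicalSpace.NoetherianSpace.isCompact _)
  haveI : IsNoetherian (O : Scheme.{u}) := { }
  let q : (PY : Scheme.{u}) ⟶ Y := (πY ∣_ jg.opensRange) ≫ jg.isoOpensRange.inv
  haveI : IsProper q := inferInstance
  have hq : PY.ι ≫ πY = q ≫ jg := by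
    show _ = ((πY ∣_ jg.opensRange) ≫ jg.isoOpensRange.inv) ≫ jg
    rw [Category.assoc, Scheme.Hom.isoOpensRange_inv_comp, morphismRestrict_ι]
  let s : X ⟶ P := pullback.lift jw (f ≫ jg) (by rw [hw, Category.assoc, hg])
  have hr : Set.range s ⊆ Set.range O.ι := by
    rw [Scheme.Opens.range_ι]
    rintro _ ⟨x, rfl⟩
    refine ⟨?_, ?_⟩
    · show πW (s x) ∈ jw.opensRange
      rw [← Scheme.Hom.comp_apply, pullback.lift_fst]
      exact ⟨x, rfl⟩
    · show πY (s x) ∈ jg.opensRange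
      rw [← Scheme.Hom.comp_apply, pullback.lift_snd, Scheme.Hom.comp_apply]
      exact ⟨f x, rfl⟩
  let σ : X ⟶ (O : Scheme.{u}) := IsOpenImmersion.lift O.ι s hr
  have hσ : σ ≫ O.ι = s := IsOpenImmersion.lift_fac _ _ _
  let i : (O : Scheme.{u}) ⟶ PY := P.homOfLE inf_le_right
  have hi : i ≫ PY.ι = O.ι := Scheme.homOfLE_ι _ _
  have hσq : σ ≫ i ≫ q = f := by
    rw [← cancel_mono jg, Category.assoc, Category.assoc, ← hq, ← Category.assoc i, hi, ← Category.assoc, hσ,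
      pullback.lift_snd]
  haveI : IsProper σ := by
    let p₁ : (πW ⁻¹ᵁ jw.opensRange : Scheme.{u}) ⟶ X := (πW ∣_ jw.opensRange) ≫ jw.isoOpensRange.inv
    let r : (O : Scheme.{u}) ⟶ X := P.homOfLE inf_le_left ≫ p₁
    have hrs : σ ≫ r = 𝟙 _ := by
      rw [← cancel_mono jw]
      show (σ ≫ P.homOfLE inf_le_left ≫ (πW ∣_ jw.opensRange) ≫ jw.isoOpensRange.inv) ≫ jw = _
      rw [Category.assoc, Category.assoc, Category.assoc, Scheme.Hom.isoOpensRange_inv_comp, morphismRestrict_ι,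
        Scheme.homOfLE_ι_assoc, ← Category.assoc, hσ, pullback.lift_fst, Category.id_comp]
    have : IsProper (σ ≫ r) := by rw [hrs]; infer_instance
    exact IsProper.of_comp σ r
  -- the second fibre product
  let t₁ := pullback.fst q ff
  let t₂ := pullback.snd q ff
  let T := pullback q ff
  haveI : IsNoetherian T := noeth_of_ft t₁
  let O' : T.Opens := t₁ ⁻¹ᵁ i.opensRange ⊓ t₂ ⁻¹ᵁ jf.opensRange
  haveI : CompactSpace (O' : Scheme.{u}) := isCompact_iff_compactSpace.1 (TopologicalSpace.NoetherianSpace.isCompact _)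
  haveI : IsNoetherian (O' : Scheme.{u}) := { }
  let s' : X ⟶ T := pullback.lift (σ ≫ i) jf (by rw [Category.assoc, hσq, hf])
  have hr' : Set.range s' ⊆ Set.range O'.ι := by
    rw [Scheme.Opens.range_ι]
    rintro _ ⟨x, rfl⟩
    refine ⟨?_, ?_⟩
    · show t₁ (s' x) ∈ i.opensRange
      rw [← Scheme.Hom.comp_apply, pullback.lift_fst, Scheme.Hom.comp_apply]
      exact ⟨σ x, rfl⟩
    · show t₂ (s' x) ∈ jf.opensRange
      rw [← Scheme.Hom.comp_apply, pullback.lift_snd]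
      exact ⟨x, rfl⟩
  let τ : X ⟶ (O' : Scheme.{u}) := IsOpenImmersion.lift O'.ι s' hr'
  have hτ : τ ≫ O'.ι = s' := IsOpenImmersion.lift_fac _ _ _
  let H := (Dual3.bddι Z ⋙ A fg) ⋙ res jg
  have hH : ∀ K, Dual3.IsBddBelowQ Y (H.obj K) := fun K => isBddBelow_res jg (isBddBelow_A fg K.property)
  -- the left side
  obtain ⟨tW⟩ := nonempty_transfer jw πW O inf_le_left σ (by rw [← Category.assoc, hσ, pullback.lift_fst])
    (Dual3.bddι Z ⋙ A fw) (fun K => isBddBelow_A fw K.property)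
  obtain ⟨uW⟩ := nonempty_A_comp πW fw
  obtain ⟨uY⟩ := nonempty_A_comp πY fg
  obtain ⟨rY⟩ := nonempty_restrict πY jg PY.ι q hq (by rw [Scheme.Opens.opensRange_ι]) (Dual3.bddι Z ⋙ A fg)
    (fun K => isBddBelow_A fg K.property)
  obtain ⟨ci⟩ := nonempty_res_comp i PY.ι
  let eL : Dual3.bddι Z ⋙ A fw ⋙ res jw ≅ H ⋙ A q ⋙ res i ⋙ A σ :=
    tW.symm ≪≫ Functor.isoWhiskerLeft (Dual3.bddι Z)
        (Functor.isoWhiskerRight (uW ≪≫ aCongr pullback.condition ≪≫ uY.symm) (res O.ι ⋙ A σ)) ≪≫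
      Functor.isoWhiskerLeft ((Dual3.bddι Z ⋙ A fg) ⋙ A πY)
        (Functor.isoWhiskerRight (resCongr hi.symm ≪≫ ci) (A σ)) ≪≫
      Functor.isoWhiskerRight rY (res i ⋙ A σ)
  -- the right side
  obtain ⟨tF⟩ := nonempty_transfer jf t₂ O' inf_le_right τ (by rw [← Category.assoc, hτ, pullback.lift_snd])
    (H ⋙ A ff) (fun K => isBddBelow_A ff (hH K))
  obtain ⟨tQ⟩ := nonempty_transferOver i σ t₁ O' inf_le_left τ (by rw [← Category.assoc, hτ, pullback.lift_fst])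
    (H ⋙ A q) (fun K => isBddBelow_A q (hH K))
  obtain ⟨u₁⟩ := nonempty_A_comp t₁ q
  obtain ⟨u₂⟩ := nonempty_A_comp t₂ ff
  let eR : H ⋙ A ff ⋙ res jf ≅ H ⋙ A q ⋙ res i ⋙ A σ :=
    tF.symm ≪≫ Functor.isoWhiskerLeft H
        (Functor.isoWhiskerRight (u₂ ≪≫ aCongr pullback.condition.symm ≪≫ u₁.symm) (res O'.ι ⋙ A τ)) ≪≫ tQ
  exact ⟨eL ≪≫ eR.symm⟩


/-- Let S be a Noetherian scheme, X, Y, Z separated and of finite type over S and f : X → Y, g : Y → Z
morphisms over S. Compute f^!, g^! and (g ∘ f)^! through compactifications of f, g, g ∘ f with right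
adjoints a, b, c of the derived direct images of the proper parts (assumed to exist and preserve
quasi-coherence; restriction to opens exact and assumed to preserve quasi-coherence of cohomology,
so that g^!K is again an object of D_QCoh). Then (g ∘ f)^! ≅ f^! ∘ g^! as functors on D^+_QCoh(O_Z). -/
theorem result (S X Y Z : Scheme.{u}) [IsNoetherian S] (p : X ⟶ S) (q : Y ⟶ S) (r : Z ⟶ S) [Dual3.IsSepFT p] [Dual3.IsSepFT q] [Dual3.IsSepFT r] (f : X ⟶ Y) (g : Y ⟶ Z) (w : f ≫ q = p) (wg : g ≫ r = q) (cf : DEt.Compactification f) (cg : DEt.Compactification g) (cgf : DEt.Compactification (f ≫ g)) [DCoh.HasRpush cf.fbar] [DCoh.HasRpush cg.fbar] [DCoh.HasRpush cgf.fbar] (hf : DCoh.RpushPreservesQCoh cf.fbar) (hg : DCoh.RpushPreservesQCoh cg.fbar) (hgf : DCoh.RpushPreservesQCoh cgf.fbar) (a : DCoh.DQCoh Y ⥤ DCoh.DQCoh cf.Xbar) (b : DCoh.DQCoh Z ⥤ DCoh.DQCoh cg.Xbar) (c : DCoh.DQCoh Z ⥤ DCoh.DQCoh cgf.Xbar) (adjf : DCoh.RpushQ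 cf.fbar hf ⊣ a) (adjg : DCoh.RpushQ cg.fbar hg ⊣ b) (adjgf : DCoh.RpushQ cgf.fbar hgf ⊣ c) [∀ (U V : Scheme.{u}) (j : U ⟶ V) [IsOpenImmersion j], PreservesFiniteLimits (Scheme.Modules.restrictFunctor j)] (hres : ∀ K : DCoh.D cg.Xbar, DCoh.IsQCohD K → DCoh.IsQCohD ((DCoh.restrictD cg.j).obj K)) : Nonempty (Dual3.bddι Z ⋙ Dual3.shriekC cgf c ≅ Dual3.bddι Z ⋙ ObjectProperty.lift DCoh.IsQCohD (Dual3.shriekC cg b) (fun K => hres (b.obj K).obj (b.obj K).property) ⋙ Dual3.shriekC cf a) := by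
  haveI : IsNoetherian X := noeth_of_ft p
  haveI : IsNoetherian Y := noeth_of_ft q
  haveI : IsNoetherian Z := noeth_of_ft r
  haveI : IsNoetherian cf.Xbar := noeth_of_ft cf.fbar
  haveI : IsNoetherian cg.Xbar := noeth_of_ft cg.fbar
  haveI : IsNoetherian cgf.Xbar := noeth_of_ft cgf.fbar
  obtain ⟨e⟩ := nonempty_comp f g cf.j cf.fbar cf.fac cg.j cg.fbar cg.fac cgf.j cgf.fbar cgf.fac
  let ea : a ≅ Groth.Agent.DualLib.ShriekNat.A cf.fbar := adjf.rightAdjointUniq (Groth.Agent.DualLib.ShriekNat.adjA cf.fbar)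
  let eb : b ≅ Groth.Agent.DualLib.ShriekNat.A cg.fbar := adjg.rightAdjointUniq (Groth.Agent.DualLib.ShriekNat.adjA cg.fbar)
  let ec : c ≅ Groth.Agent.DualLib.ShriekNat.A cgf.fbar :=
    adjgf.rightAdjointUniq (Groth.Agent.DualLib.ShriekNat.adjA cgf.fbar)
  let el : ObjectProperty.lift DCoh.IsQCohD (Dual3.shriekC cg b) (fun K => hres (b.obj K).obj (b.obj K).property) ≅
      Groth.Agent.DualLib.ShriekNat.A cg.fbar ⋙ Groth.Agent.DualLib.ShriekNat.res cg.j :=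
    Functor.fullyFaithfulCancelRight (ObjectProperty.ι _)
      (Functor.isoWhiskerRight eb (ObjectProperty.ι _ ⋙ DCoh.restrictD cg.j) :
        ObjectProperty.lift DCoh.IsQCohD (Dual3.shriekC cg b) (fun K => hres (b.obj K).obj (b.obj K).property) ⋙
            ObjectProperty.ι _ ≅
          (Groth.Agent.DualLib.ShriekNat.A cg.fbar ⋙ Groth.Agent.DualLib.ShriekNat.res cg.j) ⋙ ObjectProperty.ι _)
  let eR : Dual3.bddι Z ⋙ ObjectProperty.lift DCoh.IsQCohD (Dual3.shriekC cg b)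
        (fun K => hres (b.obj K).obj (b.obj K).property) ⋙ Dual3.shriekC cf a ≅
      (((Dual3.bddι Z ⋙ Groth.Agent.DualLib.ShriekNat.A cg.fbar) ⋙ Groth.Agent.DualLib.ShriekNat.res cg.j) ⋙
        Groth.Agent.DualLib.ShriekNat.A cf.fbar ⋙ Groth.Agent.DualLib.ShriekNat.res cf.j) ⋙ ObjectProperty.ι _ :=
    Functor.isoWhiskerLeft (Dual3.bddι Z) (Functor.isoWhiskerRight el (Dual3.shriekC cf a) ≪≫
      Functor.isoWhiskerLeft (Groth.Agent.DualLib.ShriekNat.A cg.fbar ⋙ Groth.Agent.DualLib.ShriekNat.res cg.j)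
        (Functor.isoWhiskerRight ea (ObjectProperty.ι _ ⋙ DCoh.restrictD cf.j)))
  exact ⟨Functor.isoWhiskerLeft (Dual3.bddι Z) (Functor.isoWhiskerRight ec _) ≪≫
    Functor.isoWhiskerRight e (ObjectProperty.ι _) ≪≫ eR.symm⟩

end Groth.Agent.S3655
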