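import Groth.Statements.S3659
import Groth.Agent.Dual22Lib.PerfDualNat
import Groth.Agent.DCat.RHomDual
import Groth.Agent.DCat.PullPerf
import Groth.Agent.DCat.PullPush
import Groth.Agent.DQCoh.RHomQCoh
import Groth.Agent.BCFlat16.Ten
import Mathlib.CategoryTheory.Adjunction.Restrict

set_option autoImplicit false
set_option backward.isDefEq.respectTransparency false
set_option backward.defeqAttrib.useBackward true
set_option linter.style.haveILetI false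
universe u
open CategoryTheory CategoryTheory.Limits AlgebraicGeometry
open Groth.Agent Groth.Agent.DCat
attribute [local instance] HasDerivedCategory.standard
open Dual3

namespace Groth.Agent.S3659

private theorem exists_dual_adj {Z : Scheme.{u}} (K : CochainComplex Z.Modules ℤ) (hK : IsKFlatFor (shT Z) K)
    (hp : DCoh.IsPerfect (DerivedCategory.Q.obj K)) [DCoh.HasLTensorCx K] :
    ∃ (D : CochainComplex Z.Modules ℤ) (_ : DCoh.HasLTensorCx D),
      (∀ L, DCoh.IsQCohD L → DCoh.IsQCohD ((DCoh.LTensorCx D).obj L)) ∧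
      (∀ L, DCoh.IsQCohD L → DCoh.IsQCohD ((DCoh.LTensorCx K).obj L)) ∧
      Nonempty (DCoh.LTensorCx K ⊣ DCoh.LTensorCx D) ∧ Nonempty (DCoh.LTensorCx D ⊣ DCoh.LTensorCx K) := by
  haveI := RHomExist.hasRSheafHom K
  obtain ⟨D, hD, ⟨eD⟩⟩ := PullPerf.exists_kflat_rep (RHomBidual.dual K)
  haveI := LTensorSheaf.hasLTensorCx D
  haveI := RHomExist.hasRSheafHom D
  have hDp : DCoh.IsPerfect (DerivedCategory.Q.obj D) :=
    PCTriangle.perfect_iso eD.symm (RHomDual.isPerfect_dual K hp)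
  obtain ⟨eK⟩ := RHomBidual.nonempty_bidual hK hp hD eD
  obtain ⟨a⟩ := Dual22Lib.PerfDualNat.exists_iso K D hK hp hD eD
  obtain ⟨b⟩ := Dual22Lib.PerfDualNat.exists_iso D K hD hDp hK eK
  exact ⟨D, inferInstance,
    fun L hL => DQCoh.isQCohD_of_iso (a.app L).symm (DQCoh.isQCohD_RHom_perfect K hp L hL),
    fun L hL => DQCoh.isQCohD_of_iso (b.app L).symm (DQCoh.isQCohD_RHom_perfect D hDp L hL),
    ⟨(RHomNat.adjE K).ofNatIsoRight a.symm⟩, ⟨(RHomNat.adjE D).ofNatIsoRight b.symm⟩⟩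

/-- Let f : X → Y be a morphism of quasi-compact quasi-separated schemes. Assume the derived direct
image Rf_* exists and preserves quasi-coherence of cohomology sheaves (both known results), so that
it restricts to a functor D_QCoh(O_X) → D_QCoh(O_Y), and let a : D_QCoh(O_Y) → D_QCoh(O_X) be a
right adjoint of this restricted functor. Let Lf^* be the derived pullback (assumed to exist), K a
perfect object of D_QCoh(O_Y) and L any object of D_QCoh(O_Y). Let K' be a complex representing K,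
with the derived tensor product − ⊗^L K' assumed to exist and K ⊗^L L (computed as L ⊗^L K') assumed
to lie again in D_QCoh (a known fact, taken as a hypothesis), and let E be a complex representing
a(L), with − ⊗^L E assumed to exist. Then a(K ⊗^L L) ≅ Lf^*K ⊗^L a(L) in D(O_X). -/
theorem result (X Y : Scheme.{u}) [CompactSpace X] [QuasiSeparatedSpace X] [CompactSpace Y] [QuasiSeparatedSpace Y] (f : X ⟶ Y) [DCoh.HasRpush f] (hf : DCoh.RpushPreservesQCoh f) (a : DCoh.DQCoh Y ⥤ DCoh.DQCoh X) (adj : DCoh.RpushQ f hf ⊣ a) [DCoh.HasLpull f] (K L : DCoh.DQCoh Y) (hK : DCoh.IsPerfect K.obj) (K' : CochainComplex Y.Modules ℤ) (hK' : Nonempty (DCoh.toD Y K' ≅ K.obj)) [DCoh.HasLTensorCx K'] (hKL : DCoh.IsQCohD ((DCoh.LTensorCx K').obj L.obj)) (E : CochainComplex X.Modules ℤ) (hE : Nonempty (DCoh.toD X E ≅ (a.obj L).obj)) [DCoh.HasLTensorCx E] : Nonempty ((a.obj ⟨(DCoh.LTensorCx K').obj L.obj, hKL⟩).obj ≅ (DCoh.LTensorCx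 E).obj ((DCoh.Lpull f).obj K.obj)) := by
  obtain ⟨eK'⟩ := hK'
  obtain ⟨eE⟩ := hE
  obtain ⟨K₀, hK₀, ⟨eK₀⟩⟩ := PullPerf.exists_kflat_rep K.obj
  haveI := LTensorSheaf.hasLTensorCx K₀
  let KX := ((Scheme.Modules.pullback f).mapHomologicalComplex (ComplexShape.up ℤ)).obj K₀
  haveI : DCoh.HasLTensorCx (((Scheme.Modules.pullback f).mapHomologicalComplex (ComplexShape.up ℤ)).obj K₀) :=
    LTensorSheaf.hasLTensorCx _
  haveI : DCoh.HasLTensorCx KX := LTensorSheaf.hasLTensorCx _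
  obtain ⟨KX₀, hKX, ⟨eKX⟩⟩ := PullPerf.exists_kflat_rep ((DCoh.Lpull f).obj K.obj)
  haveI := LTensorSheaf.hasLTensorCx KX₀
  have hp₀ : DCoh.IsPerfect (DerivedCategory.Q.obj K₀) := PCTriangle.perfect_iso eK₀.symm hK
  have hpX : DCoh.IsPerfect (DerivedCategory.Q.obj KX₀) :=
    PCTriangle.perfect_iso eKX.symm (PullPerf.isPerfect_Lpull f _ hK)
  obtain ⟨DY, _, qDY, qKY, ⟨aY⟩, ⟨bY⟩⟩ := exists_dual_adj K₀ hK₀ hp₀
  obtain ⟨DX, _, qDX, qKX, ⟨aX⟩, ⟨bX⟩⟩ := exists_dual_adj KX₀ hKX hpX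
  obtain ⟨t⟩ := TensorCongr.nonempty_congr (E := KX) (E' := KX₀)
    ((PullPerf.lpullIso f hK₀).symm ≪≫ (DCoh.Lpull f).mapIso eK₀ ≪≫ eKX.symm)
  obtain ⟨n⟩ := BCFlat16.nonempty_Lpull_LTensor_nat f hK₀
  obtain ⟨pp⟩ := nonempty_pullPushAdj f
  let e : DCoh.LTensorCx K₀ ⋙ DCoh.Lpull f ≅ DCoh.Lpull f ⋙ DCoh.LTensorCx KX₀ :=
    n ≪≫ Functor.isoWhiskerLeft _ t
  let r : DCoh.Rpush f ⋙ DCoh.LTensorCx DY ≅ DCoh.LTensorCx DX ⋙ DCoh.Rpush f :=
    (aY.comp pp).rightAdjointUniq ((pp.comp aX).ofNatIsoLeft e.symm)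
  let ιX := ObjectProperty.ι (DCoh.IsQCohD (X := X))
  let ιY := ObjectProperty.ι (DCoh.IsQCohD (X := Y))
  let TKY : DCoh.DQCoh Y ⥤ DCoh.DQCoh Y := ObjectProperty.lift _ (ιY ⋙ DCoh.LTensorCx K₀) fun M => qKY _ M.property
  let TDY : DCoh.DQCoh Y ⥤ DCoh.DQCoh Y := ObjectProperty.lift _ (ιY ⋙ DCoh.LTensorCx DY) fun M => qDY _ M.property
  let TKX : DCoh.DQCoh X ⥤ DCoh.DQCoh X := ObjectProperty.lift _ (ιX ⋙ DCoh.LTensorCx KX₀) fun M => qKX _ M.property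
  let TDX : DCoh.DQCoh X ⥤ DCoh.DQCoh X := ObjectProperty.lift _ (ιX ⋙ DCoh.LTensorCx DX) fun M => qDX _ M.property
  let cY : TDY ⊣ TKY := bY.restrictFullyFaithful (ObjectProperty.fullyFaithfulι _) (ObjectProperty.fullyFaithfulι _)
    (Iso.refl _) (Iso.refl _)
  let cX : TDX ⊣ TKX := bX.restrictFullyFaithful (ObjectProperty.fullyFaithfulι _) (ObjectProperty.fullyFaithfulι _)
    (Iso.refl _) (Iso.refl _)
  let q : DCoh.RpushQ f hf ⋙ TDY ≅ TDX ⋙ DCoh.RpushQ f hf :=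
    NatIso.ofComponents (fun M => (ObjectProperty.fullyFaithfulι (DCoh.IsQCohD (X := Y))).preimageIso (r.app M.obj))
      fun {M N} g => ObjectProperty.hom_ext _ (r.hom.naturality g.hom)
  let s : TKY ⋙ a ≅ a ⋙ TKX := (adj.comp cY).rightAdjointUniq ((cX.comp adj).ofNatIsoLeft q.symm)
  obtain ⟨tK⟩ := TensorCongr.nonempty_congr (E := K') (E' := K₀) (eK' ≪≫ eK₀.symm)
  obtain ⟨A, hA, ⟨eA⟩⟩ := PullPerf.exists_kflat_rep (a.obj L).obj
  haveI := LTensorSheaf.hasLTensorCx A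
  obtain ⟨tE⟩ := TensorCongr.nonempty_congr (E := A) (E' := E) (eA ≪≫ eE.symm)
  have sw : (DCoh.LTensorCx KX₀).obj (DerivedCategory.Q.obj A) ≅ (DCoh.LTensorCx A).obj (DerivedCategory.Q.obj KX₀) :=
    LTensorSheaf.ltensorCxIso' hKX A ≪≫
      DerivedCategory.Q.mapIso (TotSymm.symmIso (shT X) TotSymm.braid (fun f b => TotSymm.braid_nat₁ f b)
        (fun a _ _ g => TotSymm.braid_nat₂ a g) A KX₀) ≪≫ (LTensorSheaf.ltensorCxIso' hA KX₀).symm
  let i : (⟨(DCoh.LTensorCx K').obj L.obj, hKL⟩ : DCoh.DQCoh Y) ≅ TKY.obj L :=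
    (ObjectProperty.fullyFaithfulι (DCoh.IsQCohD (X := Y))).preimageIso (tK.app L.obj)
  exact ⟨ιX.mapIso (a.mapIso i ≪≫ s.app L) ≪≫ (DCoh.LTensorCx KX₀).mapIso eA.symm ≪≫ sw ≪≫
    (DCoh.LTensorCx A).mapIso eKX ≪≫ tE.app _⟩

end Groth.Agent.S3659
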