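import Groth.Statements.S3664
import Groth.Agent.DualLib.DeligneHom
import Groth.Agent.Dual22Lib.RepLib

set_option autoImplicit false
universe u
open CategoryTheory CategoryTheory.Limits AlgebraicGeometry
attribute [local instance] HasDerivedCategory.standard
open Dual3

namespace Groth.Agent.S3664

/-- Let j : U → X be an open immersion of Noetherian schemes (restriction to U assumed exact), I a
quasi-coherent ideal whose vanishing locus is X ∖ U, F a bounded complex of coherent O_X-modules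
with Deligne system K_n = I^n F (inclusions ι_n : K_n → F), and L an object of D(O_X) with coherent
cohomology sheaves vanishing below some degree (L is allowed to be bounded below rather than
bounded). Then colim_n Hom_X(K_n, L) = Hom_U(F|_U, L|_U): (surjectivity) every map α : F|_U → L|_U
satisfies ι_n|_U ≫ α = φ|_U for some n and some φ : K_n → L; (injectivity) if φ, ψ : K_n → L agree
after restriction to U then for some m ≥ n they agree after composition with any map K_m → K_n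
compatible with the inclusions into F. -/
theorem result (U X : Scheme.{u}) [IsNoetherian U] [IsNoetherian X] (j : U ⟶ X) [IsOpenImmersion j] [∀ (U V : Scheme.{u}) (j : U ⟶ V) [IsOpenImmersion j], PreservesFiniteLimits (Scheme.Modules.restrictFunctor j)] (I : X.IdealSheafData) (hI : I.supportSetᶜ = Set.range j) (F : CochainComplex X.Modules ℤ) (lo hi : ℤ) (hF : DCoh.VanishesOutside F lo hi) (hFc : ∀ q : ℤ, Coh.IsCoh (F.X q)) (L : DCoh.D X) (hLc : DCoh.IsCohD L) (c₀ : ℤ) (hK : ∀ i : ℤ, i < c₀ → IsZero (DCoh.HD L i)) : (∀ α : (DCoh.restrictD j).obj (DCoh.toD X F) ⟶ (DCoh.restrictD j).obj L, ∃ (n : ℕ) (φ : DCoh.toD X ((Dual3.deligne I n).obj F) ⟶ L), (DCoh.restrictD j).map (DerivedCategory.Q.map (Dual3.deligneι I n F)) ≫ α = (DCoh.restrictD j).map φ) ∧ ∀ (n : ℕ) (φ ψ : DCoh.toD X ((Dual3.deligne I n).obj F) ⟶ L), (DCoh.restrictD j).map φ = (DCoh.restrictD j).map ψ → ∃ m : ℕ, n ≤ m ∧ ∀ t : (Dual3.deligne I m).obj F ⟶ (Dual3.deligne I n).obj F, t ≫ Dual3.deligneι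 I n F = Dual3.deligneι I m F → DerivedCategory.Q.map t ≫ φ = DerivedCategory.Q.map t ≫ ψ := by
  open Pretriangulated in
  open Groth.Agent.Dual22Lib in
  haveI := Groth.Agent.DCat.hasRpush j
  haveI : QuasiCompact j := inferInstance
  obtain ⟨adj, hcu⟩ := AdjGeom.exists_adj j
  haveI := hcu
  let R := DCoh.restrictD j
  let b := adj.unit.app L
  obtain ⟨N, a, γ, hT⟩ := distinguished_cocone_triangle₁ b
  have hNk : AdjGeom.killed j N := GammaZ.killed_fibre_unit j adj hT
  have hLq : DCoh.IsQCohD L := fun i => (hLc i).1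
  have hPq : DCoh.IsQCohD ((DCoh.Rpush j).obj (R.obj L)) :=
    Groth.Agent.DQCoh.isQCohD_Rpush j _ (AdjGeom.isQCohD_restrictD j hLq)
  have hNq : DCoh.IsQCohD N := Groth.Agent.DQCoh.isQCohD_obj₃ (inv_rot_of_distTriang _ (inv_rot_of_distTriang _ hT))
    (Groth.Agent.DQCoh.isQCohD_shift hLq (-1)) (Groth.Agent.DQCoh.isQCohD_shift hPq (-1))
  haveI hL : L.IsGE c₀ := (DerivedCategory.isGE_iff L c₀).2 hK
  haveI : (R.obj L).IsGE c₀ := Groth.Agent.Dual22Lib.CohTors.isGE_restrictD j c₀ hL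
  haveI hP : ((DCoh.Rpush j).obj (R.obj L)).IsGE c₀ := RepLib.isGE_Rpush j _ c₀
  let t₀ := DerivedCategory.TStructure.t (C := X.Modules)
  haveI hN : N.IsGE c₀ := by
    haveI : (((DCoh.Rpush j).obj (R.obj L))⟦(-1 : ℤ)⟧).IsGE (c₀ + 1) := t₀.isGE_shift _ c₀ (-1) (c₀ + 1) (by omega)
    exact t₀.isGE₂ _ (inv_rot_of_distTriang _ hT) c₀ (t₀.isGE_of_ge (((DCoh.Rpush j).obj (R.obj L))⟦(-1 : ℤ)⟧) c₀ (c₀ + 1) (by omega)) hL
  have hN0 : ∀ i, IsZero ((Scheme.Modules.restrictFunctor j).obj (DCoh.HD N i)) := fun i =>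
    ((DerivedCategory.homologyFunctor U.Modules i).map_isZero hNk).of_iso
      (Groth.Agent.DCat.SuppOpen.hdMapIso (Scheme.Modules.restrictFunctor j) N i).symm
  have hN1 : (N⟦(1 : ℤ)⟧).IsGE (c₀ - 1) := t₀.isGE_shift N c₀ 1 (c₀ - 1) (by omega)
  refine ⟨fun α => ?_, fun n φ ψ he => ?_⟩
  · let y : DCoh.toD X F ⟶ (DCoh.Rpush j).obj (R.obj L) := adj.homEquiv _ _ (α ≫ R.map b ≫ adj.counit.app (R.obj L))
    obtain ⟨m, -, hk⟩ := Groth.Agent.DualLib.DeligneHom.kill_supported j I hI F lo hi hF hFc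
      (hi - (c₀ - 1) + 1).toNat (N⟦(1 : ℤ)⟧) (c₀ - 1) hN1 (by omega) (Groth.Agent.DQCoh.isQCohD_shift hNq 1)
      (fun i => ((DerivedCategory.homologyFunctor U.Modules i).map_isZero ((AdjGeom.killed j).le_shift (1 : ℤ) N hNk)).of_iso
        (Groth.Agent.DCat.SuppOpen.hdMapIso (Scheme.Modules.restrictFunctor j) (N⟦(1 : ℤ)⟧) i).symm)
      0 (DerivedCategory.Q.map (Dual3.deligneι I 0 F) ≫ y ≫ γ)
    obtain ⟨t, ht⟩ := Groth.Agent.DualLib.DeligneHom.exists_trC I F hFc (Nat.zero_le m)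
    have h1 := hk t ht
    have hs : DerivedCategory.Q.map t ≫ DerivedCategory.Q.map (Dual3.deligneι I 0 F) =
        DerivedCategory.Q.map (Dual3.deligneι I m F) := by rw [← Functor.map_comp, ht]
    rw [reassoc_of% hs] at h1
    obtain ⟨φ, hφ⟩ := Triangle.coyoneda_exact₃ _ hT (DerivedCategory.Q.map (Dual3.deligneι I m F) ≫ y)
      ((Category.assoc _ _ _).trans h1)
    refine ⟨m, φ, ?_⟩
    have hy : R.map y ≫ adj.counit.app (R.obj L) = α ≫ R.map b ≫ adj.counit.app (R.obj L) :=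
      (adj.homEquiv_counit _ _ _).symm.trans ((adj.homEquiv _ _).symm_apply_apply _)
    haveI : IsIso (R.map b) := by
      rw [show R.map b = inv (adj.counit.app (R.obj L)) from IsIso.eq_inv_of_inv_hom_id (adj.left_triangle_components L)]
      infer_instance
    have hφ' : DerivedCategory.Q.map (Dual3.deligneι I m F) ≫ y = φ ≫ b := hφ
    haveI : IsIso (adj.counit.app (R.obj L)) := inferInstance
    refine (cancel_mono (R.map b ≫ adj.counit.app (R.obj L))).1 ?_
    refine (Category.assoc _ _ _).trans ((congrArg (R.map (DerivedCategory.Q.map (Dual3.deligneι I m F)) ≫ ·) hy.symm).trans ?_)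
    refine (Category.assoc _ _ _).symm.trans (((congrArg (· ≫ adj.counit.app (R.obj L)) ((R.map_comp _ _).symm.trans
      ((congrArg R.map hφ').trans (R.map_comp _ _))))).trans (Category.assoc _ _ _))
  · have h0 : (φ - ψ) ≫ b = 0 := (adj.homEquiv _ _).symm.injective (by
      rw [adj.homEquiv_counit, adj.homEquiv_counit, Functor.map_comp, Functor.map_sub, he, sub_self, zero_comp,
        Functor.map_zero])
    obtain ⟨h, hh⟩ := Triangle.coyoneda_exact₂ _ hT (φ - ψ) h0
    obtain ⟨m, hm, hk⟩ := Groth.Agent.DualLib.DeligneHom.kill_supported j I hI F lo hi hF hFc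
      (hi - c₀ + 1).toNat N c₀ hN (by omega) hNq hN0 n h
    refine ⟨m, hm, fun t ht => sub_eq_zero.1 ?_⟩
    rw [← Preadditive.comp_sub, hh]
    exact (Category.assoc _ _ _).symm.trans ((congrArg (· ≫ a) (hk t ht)).trans zero_comp)

end Groth.Agent.S3664
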