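import Groth.Statements.S3665
import Groth.Agent.SubAvoid14.IdealMulSec

set_option autoImplicit false
universe u
open CategoryTheory CategoryTheory.Limits AlgebraicGeometry
attribute [local instance] HasDerivedCategory.standard
open Dual3

namespace Groth.Agent.S3665

/-- Let X be proper over a field k, I a quasi-coherent ideal with vanishing locus Z and F a coherent
O_X-module, so that H^0_c(X ∖ Z, F) = lim_n H^0(X, I^n F) = ⋂_n Γ(X, I^n F) inside Γ(X, F). Then a
global section s of F lies in the image of Γ(X, I^n F) for every n if and only if s restricts to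
zero on some open neighbourhood of Z. -/
theorem result (k : Type u) [Field k] (X : Scheme.{u}) (f : X ⟶ Spec (CommRingCat.of k)) [IsProper f] (I : X.IdealSheafData) (F : X.Modules) (hF : Coh.IsCoh F) (s : F.val.obj (Opposite.op ⊤)) : (∀ n : ℕ, ∃ t : ((Dual3.idealMul (I ^ n)).obj F).val.obj (Opposite.op ⊤), (Dual3.idealMulι (I ^ n) F).val.app (Opposite.op ⊤) t = s) ↔ ∃ V : X.Opens, I.supportSet ⊆ (V : Set X) ∧ F.val.map (homOfLE le_top : V ⟶ ⊤).op s = 0 := by
  open Groth.Agent.Coherent Groth.Agent.SubAvoid14 TopologicalSpace Opposite in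
  haveI hN : IsLocallyNoetherian X := LocallyOfFiniteType.isLocallyNoetherian f
  haveI hq : Coh.IsQCoh F := hF.1
  let s' : Γ(F, ⊤) := s
  have hA : ∀ n : ℕ, (∃ t : ((Dual3.idealMul (I ^ n)).obj F).val.obj (Opposite.op ⊤),
      (Dual3.idealMulι (I ^ n) F).val.app (Opposite.op ⊤) t = s) ↔
      ∀ U : X.affineOpens, resM F (le_top : U.1 ≤ ⊤) s' ∈
        (I.ideal U) ^ n • (⊤ : Submodule Γ(X, U.1) Γ(F, U.1)) := by
    intro n
    constructor
    · rintro ⟨t, ht⟩ U
      have h1 := (mem_range_idealMulι_iff (I ^ n) F U.2 (resM F (le_top : U.1 ≤ ⊤) s')).1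
        ⟨resM _ (le_top : U.1 ≤ ⊤) t, (app_resM (Dual3.idealMulι (I ^ n) F) (le_top : U.1 ≤ ⊤) t).trans (congrArg (resM F _) ht)⟩
      rwa [Scheme.IdealSheafData.ideal_pow, Pi.pow_apply] at h1
    · intro h
      let η : F ⟶ (Scheme.Modules.pushforward (I ^ n).subschemeι).obj ((Scheme.Modules.pullback (I ^ n).subschemeι).obj F) := (Scheme.Modules.pullbackPushforwardAdjunction (I ^ n).subschemeι).unit.app F
      refine kernel_sections_exact η s' (sections_ext' fun x _ => ?_)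
      obtain ⟨U, hU, hxU, -⟩ := exists_isAffineOpen_mem_and_subset (x := x) (U := (⊤ : X.Opens)) trivial
      refine ⟨U, le_top, hxU, ?_⟩
      have h1 : resM F (le_top : U ≤ ⊤) s' ∈ (I ^ n).ideal ⟨U, hU⟩ • (⊤ : Submodule Γ(X, U) Γ(F, U)) := by
        rw [Scheme.IdealSheafData.ideal_pow, Pi.pow_apply]
        exact h ⟨U, hU⟩
      obtain ⟨a, ha⟩ := (mem_range_idealMulι_iff (I ^ n) F hU _).2 h1
      rw [map_zero]
      refine (app_resM η (le_top : U ≤ ⊤) s').symm.trans ?_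
      rw [← ha]
      exact kernel_ι_app_zero η U a
  simp only [hA]
  constructor
  · intro h
    let S : Set X.Opens := {W | resM F (le_top : W ≤ ⊤) s' = 0}
    refine ⟨sSup S, fun x hx => ?_, ?_⟩
    · obtain ⟨U, hU, hxU, -⟩ := exists_isAffineOpen_mem_and_subset (x := x) (U := (⊤ : X.Opens)) trivial
      haveI : IsNoetherianRing Γ(X, U) := IsLocallyNoetherian.component_noetherian ⟨U, hU⟩
      haveI : Module.Finite Γ(X, U) Γ(F, U) := ((isCoh_iff_finite_sections F).1 hF).2 U hU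
      obtain ⟨⟨r, hr⟩, hrm⟩ := (Ideal.mem_iInf_smul_pow_eq_bot_iff (I.ideal ⟨U, hU⟩)
        (resM F (le_top : U ≤ ⊤) s')).1 ((Submodule.mem_iInf _).2 fun n => h n ⟨U, hU⟩)
      have hxr : x ∉ X.basicOpen r :=
        (X.mem_zeroLocus_iff _ x).1 (I.supportSet_subset_zeroLocus ⟨U, hU⟩ hx) r hr
      rw [X.mem_basicOpen r x hxU] at hxr
      have hxg : x ∈ X.basicOpen (1 - r) := by
        rw [X.mem_basicOpen _ x hxU, map_sub, map_one]
        exact IsLocalRing.isUnit_one_sub_self_of_mem_nonunits _ hxr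
      refine Opens.mem_sSup.2 ⟨X.basicOpen (1 - r), ?_, hxg⟩
      show resM F _ s' = 0
      rw [← resM_resM F (le_top : U ≤ ⊤) (X.basicOpen_le (1 - r))]
      have h0 : (1 - r) • resM F (le_top : U ≤ ⊤) s' = 0 := by
        rw [sub_smul, one_smul, hrm, sub_self]
      have h1 := resM_smul F (X.basicOpen_le (1 - r)) (1 - r) (resM F (le_top : U ≤ ⊤) s')
      rw [h0, map_zero] at h1
      exact (show IsUnit (X.presheaf.map (homOfLE (X.basicOpen_le (1 - r))).op (1 - r)) from RingedSpace.isUnit_res_basicOpen _ (1 - r)).smul_eq_zero.1 h1.symm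
    · show resM F (le_top : sSup S ≤ ⊤) s' = 0
      refine sections_ext' fun x hx => ?_
      obtain ⟨W, hW, hxW⟩ := Opens.mem_sSup.1 hx
      refine ⟨W, le_sSup hW, hxW, ?_⟩
      rw [resM_resM, map_zero]
      exact hW
  · rintro ⟨V, hV, hs⟩ n ⟨U, hU⟩
    let N : Submodule Γ(X, U) Γ(F, U) := (I.ideal ⟨U, hU⟩) ^ n • ⊤
    let m := resM F (le_top : U ≤ ⊤) s'
    by_contra hm
    let C : Ideal Γ(X, U) := N.comap (LinearMap.toSpanSingleton _ _ m)
    have hmemC : ∀ a, a ∈ C ↔ a • m ∈ N := fun a => Iff.rfl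
    have hC : C ≠ ⊤ := fun h => hm (by simpa [hmemC] using (Ideal.eq_top_iff_one C).1 h)
    obtain ⟨p, hp, hCp⟩ := Ideal.exists_le_maximal C hC
    have hIp : I.ideal ⟨U, hU⟩ ≤ p := fun a ha => hp.isPrime.mem_of_pow_mem n
      (hCp ((hmemC _).2 (Submodule.smul_mem_smul (Ideal.pow_mem_pow ha n) Submodule.mem_top)))
    let x := hU.fromSpec ⟨p, hp.isPrime⟩
    have hxU : x ∈ U := hU.range_fromSpec.le ⟨_, rfl⟩
    have hxI : x ∈ I.supportSet := by
      rw [Scheme.IdealSheafData.mem_supportSet_iff_of_mem (U := ⟨U, hU⟩) hxU]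
      have : (⟨p, hp.isPrime⟩ : PrimeSpectrum Γ(X, U)) ∈ PrimeSpectrum.zeroLocus (I.ideal ⟨U, hU⟩ : Set Γ(X, U)) := hIp
      rw [← hU.fromSpec_preimage_zeroLocus] at this
      exact this
    obtain ⟨g, hgV, hxg⟩ := hU.exists_basicOpen_le ⟨x, hV hxI⟩ hxU
    have hgp : g ∉ p := by
      have : (⟨p, hp.isPrime⟩ : PrimeSpectrum Γ(X, U)) ∈ hU.fromSpec ⁻¹ᵁ X.basicOpen g := hxg
      rw [hU.fromSpec_preimage_basicOpen] at this
      exact this
    obtain ⟨k, hk⟩ := qcoh_exists_pow_smul_eq_zero hU F g m (by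
      rw [resM_resM, ← resM_resM F (le_top : V ≤ ⊤) hgV]
      exact (congrArg (resM F hgV) hs).trans (map_zero _))
    exact hgp (hp.isPrime.mem_of_pow_mem k (hCp ((hmemC _).2 (by rw [hk]; exact zero_mem _))))

end Groth.Agent.S3665
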