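import Groth.Statements.S3669
import Groth.Agent.Coherent.SubFTMod
import Groth.Agent.Coherent.ClosedEquiv
import Groth.Agent.Coherent.DevissageIdeal
import Groth.Agent.DCat.ClosedPush

set_option autoImplicit false
universe u
open CategoryTheory CategoryTheory.Limits AlgebraicGeometry
attribute [local instance] HasDerivedCategory.standard
open Dual3

namespace Groth.Agent.S3669

section Killed
open TopologicalSpace Opposite Groth.Agent.Coherent

variable {X : Scheme.{u}} (I : X.IdealSheafData) (F : X.Modules)

/-- The sections killed by `I` on every affine open inside. -/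
noncomputable def killedSubM : SubM F where
  carrier W :=
    { carrier := {a | ∀ (V : X.affineOpens) (h : V.1 ≤ W), ∀ r ∈ I.ideal V, r • resM F h a = 0}
      zero_mem' := fun V h r _ => by rw [map_zero, smul_zero]
      add_mem' := fun {a b} ha hb V h r hr => by rw [map_add, smul_add, ha V h r hr, hb V h r hr, add_zero]
      smul_mem' := fun c a ha V h r hr => by
        rw [resM_smul, smul_comm, ha V h r hr, smul_zero] }
  res {W W'} h {a} ha V hV r hr := by
    rw [resM_resM]
    exact ha V (hV.trans h) r hr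
  of_local {W} a ha V hV r hr := by
    refine TopCat.Sheaf.eq_of_locally_eq' (⟨F.presheaf, F.isSheaf⟩ : TopCat.Sheaf Ab X)
      (fun D : {D : X.affineOpens // D.1 ≤ V.1 ∧ ∀ (h : D.1 ≤ W), ∀ r ∈ I.ideal D, r • resM F h a = 0} => D.1.1)
      V.1 (fun D => homOfLE D.2.1) (fun y hy => ?_) _ _ fun D => ?_
    · obtain ⟨W', hW', hyW', hm⟩ := ha y (hV hy)
      obtain ⟨g, hg, hyg⟩ := V.2.exists_basicOpen_le ⟨y, hyW'⟩ hy
      refine Opens.mem_iSup.2 ⟨⟨⟨X.basicOpen g, V.2.basicOpen g⟩, X.basicOpen_le g, fun h r hr => ?_⟩, hyg⟩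
      have := hm ⟨X.basicOpen g, V.2.basicOpen g⟩ hg r hr
      rwa [resM_resM] at this
    · change resM F D.2.1 (r • resM F hV a) = resM F D.2.1 0
      rw [map_zero, resM_smul, resM_resM]
      exact D.2.2 _ _ (I.ideal_le_comap_ideal (V := V) (U := D.1) D.2.1 hr)

theorem killed_killedSubM : ClSub.KilledByIdeal I (killedSubM I F).toMod := fun U r hr m =>
  (killedSubM I F).toι_injective U.1 (by
    refine ((killedSubM I F).toι_smul U.1 r m).trans ?_
    have := m.2 U le_rfl r hr
    rw [resM_refl] at this
    exact this.trans (map_zero _).symm)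

theorem mem_killedSubM_of_affine (U : X.affineOpens) (s : Γ(F, U.1))
    (hs : ∀ r ∈ I.ideal U, r • s = 0) : s ∈ (killedSubM I F).carrier U.1 := fun V h r hr => by
  rw [← I.map_ideal (U := V) (V := U) h, Ideal.map, ] at hr
  induction hr using Submodule.span_induction with
  | mem x hx =>
    obtain ⟨t, ht, rfl⟩ := hx
    refine (resM_smul F h t s).symm.trans ?_
    rw [hs t ht, map_zero]
  | zero => rw [zero_smul]
  | add x y _ _ hx hy => rw [add_smul, hx, hy, add_zero]
  | smul c x _ hx => rw [smul_eq_mul, mul_smul, hx, smul_zero]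

end Killed

/-- Let i : Z → X be a closed immersion of schemes with ideal sheaf I, Hom(O_Z, -) a right adjoint of
i_* on modules (it exists; here the chosen one) with counit i_* Hom(O_Z, F) → F. Then for every
O_X-module F and every affine open U ⊆ X, the counit on sections over U, Γ(i⁻¹U, Hom(O_Z, F)) → Γ(U,
F), is injective with image exactly the sections s of F over U with I(U) · s = 0. -/
theorem result (Z X : Scheme.{u}) (i : Z ⟶ X) [IsClosedImmersion i] [Dual3.HasHomO i] (F : X.Modules) (U : X.affineOpens) : Function.Injective ⇑(ConcreteCategory.hom (((Dual3.homOAdj i).counit.app F).val.app (Opposite.op U.1))) ∧ Set.range ⇑(ConcreteCategory.hom (((Dual3.homOAdj i).counit.app F).val.app (Opposite.op U.1))) = ((LocCoh.torsionBy (i.ker.ideal U) (F.val.obj (Opposite.op U.1)) : Submodule Γ(X, U.1) (F.val.obj (Opposite.op U.1))) : Set (F.val.obj (Opposite.op U.1))) := by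
  open Groth.Agent.Coherent TopologicalSpace Opposite in
  haveI : ∀ M : Z.Modules, IsIso ((Scheme.Modules.pullbackPushforwardAdjunction i).counit.app M) :=
    fun M => Groth.Agent.DCat.ClosedPush.isIso_counit i M
  haveI := NatIso.isIso_of_isIso_app (Scheme.Modules.pullbackPushforwardAdjunction i).counit
  let ff := (Scheme.Modules.pullbackPushforwardAdjunction i).fullyFaithfulROfIsIsoCounit
  let adj := Dual3.homOAdj i
  let p := Scheme.Modules.pushforward i
  let G := (Dual3.homO i).obj F
  let ε : (Coh.push i).obj G ⟶ F := adj.counit.app F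
  have hinj : Mono ε := by
    refine Preadditive.mono_of_kernel_zero ?_
    haveI := isIso_clUnit i (F := kernel ε) (killedByIdeal_of_mono i G (kernel.ι ε))
    let e := asIso (clUnit i (kernel ε))
    obtain ⟨g, hg⟩ := ff.map_surjective (e.inv ≫ kernel.ι ε)
    have h1 : (adj.homEquiv _ F).symm g = 0 := by
      rw [Adjunction.homEquiv_counit, hg]
      show (e.inv ≫ kernel.ι ε) ≫ ε = 0
      rw [Category.assoc, kernel.condition, comp_zero]
    have h2 : g = 0 := by
      have := congrArg (adj.homEquiv _ F) h1
      rwa [Equiv.apply_symm_apply, Adjunction.homEquiv_unit, Functor.map_zero, comp_zero] at this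
    rw [h2, Functor.map_zero] at hg
    rw [← cancel_epi e.inv, comp_zero, ← hg]
  refine ⟨app_injective_of_mono ε U.1, Set.ext fun s => ⟨?_, fun hs => ?_⟩⟩
  · rintro ⟨a, rfl⟩
    refine (Submodule.mem_torsionBySet_iff (R := Γ(X, U.1)) (M := F.val.obj (op U.1)) _ _).2 ?_
    rintro ⟨r, hr⟩
    exact ((ε.app_smul r a).symm.trans (congrArg (ε.app U.1)
      (killedByIdeal_of_mono i G (𝟙 ((Coh.push i).obj G)) U r hr a))).trans (map_zero _)
  · replace hs := (Submodule.mem_torsionBySet_iff (R := Γ(X, U.1)) (M := F.val.obj (op U.1)) _ _).1 hs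
    let P : SubM F := killedSubM i.ker F
    have hmem : (s : Γ(F, U.1)) ∈ P.carrier U.1 := mem_killedSubM_of_affine i.ker F U s (fun r hr => hs ⟨r, hr⟩)
    haveI := isIso_clUnit i (F := P.toMod) (killed_killedSubM i.ker F)
    let e := asIso (clUnit i P.toMod)
    let g := adj.homEquiv _ F (e.inv ≫ P.toι)
    have hg : (Scheme.Modules.pushforward i).map g ≫ ε = e.inv ≫ P.toι := by
      have := Equiv.symm_apply_apply (adj.homEquiv _ F) (e.inv ≫ P.toι)
      rwa [Adjunction.homEquiv_counit] at this
    obtain ⟨b, hb⟩ := (P.mem_range_toι).2 hmem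
    refine ⟨(e.hom ≫ (Scheme.Modules.pushforward i).map g).app U.1 b, ?_⟩
    have h3 : (e.hom ≫ (Scheme.Modules.pushforward i).map g) ≫ ε = P.toι := by
      rw [Category.assoc, hg, Iso.hom_inv_id_assoc]
    exact (congrArg (fun q : P.toMod ⟶ F => q.app U.1 b) h3).trans hb

end Groth.Agent.S3669
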