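import Groth.Statements.S3670
import Groth.Agent.EGA43.CMChart.Main
import Groth.Agent.S3627
import Groth.Agent.S0342
import Groth.Agent.S3617
import Groth.Agent.EGA43.FlatDescent.SchemeOpen
import Groth.Agent.SegreDim.GorEquiv
import Groth.Agent.EGA43.Limit.Basic
import Groth.Agent.LocCoh.Gorenstein
import Groth.Agent.DualLib.ShriekLocal

set_option autoImplicit false
set_option backward.isDefEq.respectTransparency false
set_option linter.style.haveILetI false
universe u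
open CategoryTheory CategoryTheory.Limits AlgebraicGeometry
attribute [local instance] HasDerivedCategory.standard
open Dual3

namespace Groth.Agent.S3670

open Groth.Agent Groth.Agent.EGA43.CMChart Groth.Agent.FlatMorWeight Groth.Agent.EGA43.DimFormula in
theorem gor_congr {Z Y : Scheme.{u}} {f₁ f₂ : Z ⟶ Y} (h : f₁ = f₂) (z : Z) :
    Dual3.IsGorensteinAt f₁ z ↔ Dual3.IsGorensteinAt f₂ z := by subst h; rfl

open Groth.Agent Groth.Agent.EGA43.CMChart IsLocalRing in
theorem gor_comp_openImmersion {U X Y : Scheme.{u}} (j : U ⟶ X) [IsOpenImmersion j] (f : X ⟶ Y) (u : U) :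
    Dual3.IsGorensteinAt (j ≫ f) u ↔ Dual3.IsGorensteinAt f (j u) := by
  unfold Dual3.IsGorensteinAt
  obtain ⟨e₁⟩ := exists_fibre_stalk_equiv (j ≫ f) u
  obtain ⟨e₂⟩ := exists_fibre_stalk_equiv f (j u)
  let e := (asIso (j.stalkMap u)).commRingCatIsoToRingEquiv
  have hmap : ((j ≫ f).stalkMap u).hom = e.toRingHom.comp (f.stalkMap (j u)).hom := by
    rw [Scheme.Hom.stalkMap_comp, CommRingCat.hom_comp]; rfl
  have hflat : ((j ≫ f).stalkMap u).hom.Flat ↔ (f.stalkMap (j u)).hom.Flat := by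
    constructor
    · intro h
      have h2 : (f.stalkMap (j u)).hom = e.symm.toRingHom.comp ((j ≫ f).stalkMap u).hom := by
        rw [hmap]; ext a; exact (e.symm_apply_apply _).symm
      rw [h2]
      exact h.comp (RingHom.Flat.of_bijective e.symm.bijective)
    · intro h
      rw [hmap]
      exact h.comp (RingHom.Flat.of_bijective e.bijective)
  let q := Ideal.quotientEquiv ((maximalIdeal (Y.presheaf.stalk (f (j u)))).map (f.stalkMap (j u)).hom)
    ((maximalIdeal (Y.presheaf.stalk (f (j u)))).map ((j ≫ f).stalkMap u).hom) e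
    (by rw [hmap, ← Ideal.map_map]; rfl)
  refine and_congr hflat ⟨fun h => ?_, fun h => ?_⟩
  · haveI := h
    exact SegreDim.gorensteinLocal_of_ringEquiv ((e₁.symm.trans q.symm).trans e₂)
  · haveI := h
    exact SegreDim.gorensteinLocal_of_ringEquiv ((e₂.symm.trans q).trans e₁)

theorem fibres_noetherian {X Y : Scheme.{u}} (f : X ⟶ Y) [LocallyOfFiniteType f] (y : Y) :
    IsLocallyNoetherian (f.fiber y) := by
  haveI : LocallyOfFiniteType (f.fiberToSpecResidueField y) :=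
    inferInstanceAs (LocallyOfFiniteType (pullback.snd f (Y.fromSpecResidueField y)))
  exact LocallyOfFiniteType.isLocallyNoetherian (f.fiberToSpecResidueField y)

open Groth.Agent Groth.Agent.EGA43.CMChart in
theorem gor_affineSpace (d : ℕ) (S : Scheme.{u}) (a : ↥(𝔸(ULift.{u} (Fin d); S))) :
    Dual3.IsGorensteinAt (𝔸(ULift.{u} (Fin d); S) ↘ S) a := by
  haveI := EGA43.FiniteCrit.flat_affineSpace_over (ULift.{u} (Fin d)) S
  refine ⟨Flat.stalkMap _ a, ?_⟩
  haveI := isRegular_fibre_affineSpace d ((𝔸(ULift.{u} (Fin d); S) ↘ S) a)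
    ((𝔸(ULift.{u} (Fin d); S) ↘ S).asFiber a)
  exact Groth.Agent.S0342.result _

open Groth.Agent Groth.Agent.EGA43.CMChart in
/-- Gorenstein over affine space gives Gorenstein over the base. -/
theorem gor_of_affineSpace {X S : Scheme.{u}} (f : X ⟶ S) [LocallyOfFinitePresentation f] {x : X} (d : ℕ)
    {U : X.Opens} (hx : x ∈ U) (g : (U : Scheme.{u}) ⟶ 𝔸(ULift.{u} (Fin d); S))
    (hg : g ≫ (𝔸(ULift.{u} (Fin d); S) ↘ S) = U.ι ≫ f) (h : Dual3.IsGorensteinAt g ⟨x, hx⟩) :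
    Dual3.IsGorensteinAt f x := by
  haveI : LocallyOfFiniteType (g ≫ (𝔸(ULift.{u} (Fin d); S) ↘ S)) := by rw [hg]; infer_instance
  haveI : LocallyOfFiniteType g := locallyOfFiniteType_of_comp g (𝔸(ULift.{u} (Fin d); S) ↘ S)
  refine (gor_comp_openImmersion U.ι f ⟨x, hx⟩).1 ((gor_congr hg _).1 ?_)
  exact (Groth.Agent.S3627.result _ _ _ g _ (fibres_noetherian g) (fibres_noetherian _) (fibres_noetherian _) _).1 h
    (gor_affineSpace d S _)

open Groth.Agent Groth.Agent.EGA43.CMChart Groth.Agent.FlatMorWeight Groth.Agent.EGA43.DimFormula in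
/-- At a quasi-finite point of a map to affine space of the fibre dimension. -/
theorem gor_to_affineSpace {X S : Scheme.{u}} (f : X ⟶ S) [LocallyOfFinitePresentation f] {x : X} (d : ℕ)
    (hd : Dual3.localFibreDim f x = (d : WithBot ℕ∞)) (hf : Dual3.IsGorensteinAt f x)
    {U : X.Opens} (hx : x ∈ U) (g : (U : Scheme.{u}) ⟶ 𝔸(ULift.{u} (Fin d); S))
    (hg : g ≫ (𝔸(ULift.{u} (Fin d); S) ↘ S) = U.ι ≫ f) (hq : Dual3.QuasiFiniteAt g ⟨x, hx⟩) :
    Dual3.IsGorensteinAt g ⟨x, hx⟩ := by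
  let π := 𝔸(ULift.{u} (Fin d); S) ↘ S
  haveI : LocallyOfFiniteType (g ≫ π) := by show LocallyOfFiniteType (g ≫ (𝔸(ULift.{u} (Fin d); S) ↘ S)); rw [hg]; infer_instance
  haveI : LocallyOfFiniteType g := locallyOfFiniteType_of_comp g π
  let V := g.quasiFiniteLocus
  have hxV : (⟨x, hx⟩ : U) ∈ V := Scheme.Hom.quasiFiniteAt_iff_isOpen_singleton_asFiber.2 hq
  let j := V.ι
  let v : V := ⟨⟨x, hx⟩, hxV⟩
  haveI : LocallyQuasiFinite (j ≫ g) := inferInstanceAs (LocallyQuasiFinite (g.quasiFiniteLocus.ι ≫ g))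
  have hcomp : (j ≫ g) ≫ π = (j ≫ U.ι) ≫ f := by
    rw [Category.assoc, Category.assoc]
    exact congrArg (j ≫ ·) hg
  haveI : LocallyOfFinitePresentation ((j ≫ g) ≫ π) := by rw [hcomp]; infer_instance
  have hgor : Dual3.IsGorensteinAt ((j ≫ g) ≫ π) v :=
    (gor_congr hcomp v).2 ((gor_comp_openImmersion (j ≫ U.ι) f v).2 hf)
  haveI : LocCoh.IsGorensteinLocalRing _ := hgor.2
  have hcm : MoreMor.IsCMAt ((j ≫ g) ≫ π) v :=
    ⟨hgor.1, Groth.Agent.LocCoh.isCohenMacaulayLocalRing_of_gorenstein⟩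
  obtain ⟨z, hzx, hzf, -, hn⟩ := EGA43.Chevalley.exists_maximal_fibreDimAt f x
  have hdz : d = trdAt f z := by
    have h := hd.symm.trans ((DualLib.ShriekLocal.localFibreDim_eq f x).trans hn)
    exact_mod_cast h
  obtain ⟨w, hwz⟩ : z ∈ Set.range (j ≫ U.ι).base := by
    exact hzx.mem_open (j ≫ U.ι).opensRange.isOpen ⟨v, rfl⟩
  have hflat : ((j ≫ g).stalkMap v).hom.Flat := by
    refine flat_of_isCMAt d (j ≫ g) v hcm ⟨w, ?_, ?_, ?_⟩
    · refine (j ≫ U.ι).isEmbedding.isInducing.specializes_iff.1 ?_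
      rw [hwz]; exact hzx
    · show ((j ≫ g) ≫ π) w = ((j ≫ g) ≫ π) v
      rw [hcomp]
      show f ((j ≫ U.ι) w) = f x
      rw [hwz, hzf]
    · rw [trdAt_congr hcomp w, hdz]
      refine le_of_eq ?_
      show trdAt f z = trdAt ((j ≫ U.ι) ≫ f) w
      rw [← hwz]
      exact (Groth.Agent.EGA43.Chevalley.trdegHom_residueFieldMap_comp (j ≫ U.ι) f w).symm
  haveI : LocallyOfFiniteType ((j ≫ g) ≫ π) := inferInstance
  exact (gor_comp_openImmersion j g v).1
    ((Groth.Agent.S3627.result _ _ _ (j ≫ g) π (fibres_noetherian _) (fibres_noetherian _) (fibres_noetherian _) v).2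
      hgor hflat).1


/-- (1) ⇔ (2) ⇔ (3) ⇔ (4): Let f : X → S be flat and locally of finite presentation, x a point of X and
d = dim_x(X_{f(x)}) the local dimension of its fibre. Then the following are equivalent: (1) f is
Gorenstein at x; (2) there are an open neighbourhood U of x and a locally quasi-finite morphism g :
U → A^d_S over S which is Gorenstein at x; (3) there are an open neighbourhood U of x and a locally
quasi-finite Gorenstein morphism g : U → A^d_S over S; (4) for every open neighbourhood U of x and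
every morphism g : U → A^d_S over S, if x is isolated in its fibre under g (g is quasi-finite at x)
then g is Gorenstein at x. -/
theorem result (X S : Scheme.{u}) (f : X ⟶ S) [Flat f] [LocallyOfFinitePresentation f] (x : X) (d : ℕ) (hd : Dual3.localFibreDim f x = (d : WithBot ℕ∞)) : (Dual3.IsGorensteinAt f x ↔ ∃ (U : X.Opens) (hx : x ∈ U) (g : (U : Scheme.{u}) ⟶ AffineSpace (ULift.{u} (Fin d)) S), g ≫ (AffineSpace (ULift.{u} (Fin d)) S ↘ S) = U.ι ≫ f ∧ LocallyQuasiFinite g ∧ Dual3.IsGorensteinAt g ⟨x, hx⟩) ∧ (Dual3.IsGorensteinAt f x ↔ ∃ (U : X.Opens) (_ : x ∈ U) (g : (U : Scheme.{u}) ⟶ AffineSpace (ULift.{u} (Fin d)) S), g ≫ (AffineSpace (ULift.{u} (Fin d)) S ↘ S) = U.ι ≫ f ∧ LocallyQuasiFinite g ∧ Dual3.IsGorensteinMor g) ∧ (Dual3.IsGorensteinAt f x ↔ ∀ (U : X.Opens) (hx : x ∈ U) (g : (U : Scheme.{u}) ⟶ AffineSpace (ULift.{u} (Fin d)) S), g ≫ (AffineSpace (ULift.{u} (Fin d)) S ↘ S) = U.ι ≫ f → Dual3.QuasiFiniteAt g ⟨x, hx⟩ → Dual3.IsGorensteinAt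 g ⟨x, hx⟩) := by
  have h4 : Dual3.IsGorensteinAt f x → ∀ (U : X.Opens) (hx : x ∈ U) (g : (U : Scheme.{u}) ⟶ AffineSpace (ULift.{u} (Fin d)) S),
      g ≫ (AffineSpace (ULift.{u} (Fin d)) S ↘ S) = U.ι ≫ f → Dual3.QuasiFiniteAt g ⟨x, hx⟩ →
        Dual3.IsGorensteinAt g ⟨x, hx⟩ := fun h U hx g hg hq => gor_to_affineSpace f d hd h hx g hg hq
  obtain ⟨U, hx, g, hg, hlqf⟩ : ∃ (U : X.Opens) (_ : x ∈ U) (g : (U : Scheme.{u}) ⟶ AffineSpace (ULift.{u} (Fin d)) S),
      g ≫ (AffineSpace (ULift.{u} (Fin d)) S ↘ S) = U.ι ≫ f ∧ LocallyQuasiFinite g := by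
    obtain ⟨n, U, hx, g, hg, hlqf, -, ξ, hξ, hξf, hn⟩ := Groth.Agent.EGA43.CMChart.exists_qf_toAffineSpace f x
    obtain rfl : n = d := by
      obtain ⟨z, hzx, hzf, -, hz⟩ := Groth.Agent.EGA43.Chevalley.exists_maximal_fibreDimAt f x
      have hd' := hd.symm.trans (Groth.Agent.DualLib.ShriekLocal.localFibreDim_eq f x)
      refine le_antisymm ?_ ?_
      · have h := Groth.Agent.EGA43.Chevalley.trdegHom_le_fibreDimAt f hξ d (hd'.ge)
        exact hn.trans h
      · haveI := hlqf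
        haveI : LocallyOfFiniteType (g ≫ (AffineSpace (ULift.{u} (Fin n)) S ↘ S)) := by rw [hg]; infer_instance
        haveI : LocallyOfFiniteType g := locallyOfFiniteType_of_comp g (AffineSpace (ULift.{u} (Fin n)) S ↘ S)
        have hdz : d = Groth.Agent.EGA43.DimFormula.trdAt f z := by exact_mod_cast hd'.trans hz
        have hzU : z ∈ U := hzx.mem_open U.isOpen hx
        rw [hdz, ← Groth.Agent.EGA43.CMChart.trdAt_openι f U ⟨z, hzU⟩, ← Groth.Agent.EGA43.CMChart.trdAt_congr hg ⟨z, hzU⟩,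
          Groth.Agent.EGA43.DimFormula.trdAt_comp_locallyQuasiFinite g _ ⟨z, hzU⟩]
        exact Groth.Agent.EGA43.DimFormula.trdAt_affineSpace_le n _
    exact ⟨U, hx, g, hg, hlqf⟩
  haveI := hlqf
  haveI : LocallyOfFiniteType (g ≫ (AffineSpace (ULift.{u} (Fin d)) S ↘ S)) := by rw [hg]; infer_instance
  haveI : LocallyOfFiniteType g := locallyOfFiniteType_of_comp g (AffineSpace (ULift.{u} (Fin d)) S ↘ S)
  have hq : ∀ u, Dual3.QuasiFiniteAt g u := fun u => Scheme.Hom.quasiFiniteAt_iff_isOpen_singleton_asFiber.1 (g.quasiFiniteAt u)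
  -- the Gorenstein locus of `g`
  refine ⟨⟨fun h => ⟨U, hx, g, hg, hlqf, h4 h U hx g hg (hq _)⟩, ?_⟩, ⟨fun h => ?_, ?_⟩, ⟨h4, fun h => gor_of_affineSpace f d hx g hg (h U hx g hg (hq _))⟩⟩
  · rintro ⟨U', hx', g', hg', -, h⟩
    exact gor_of_affineSpace f d hx' g' hg' h
  · haveI : LocallyOfFinitePresentation g := by
      haveI : LocallyOfFinitePresentation (g ≫ (AffineSpace (ULift.{u} (Fin d)) S ↘ S)) := by rw [hg]; infer_instance
      exact Groth.Agent.EGA43.Limit.locallyOfFinitePresentation_of_comp g (AffineSpace (ULift.{u} (Fin d)) S ↘ S)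
    let W : U.toScheme.Opens := ⟨_, Groth.Agent.EGA43.FlatDescent.isOpen_flat_stalkMap g⟩
    have hgx := h4 h U hx g hg (hq _)
    haveI : Flat (W.ι ≫ g) := by
      refine (Flat.iff_flat_stalkMap _).2 fun w => ?_
      rw [Scheme.Hom.stalkMap_comp, CommRingCat.hom_comp]
      exact RingHom.Flat.comp (w.2 : (g.stalkMap (W.ι w)).hom.Flat) (RingHom.Flat.of_bijective
        ((asIso (W.ι.stalkMap w)).commRingCatIsoToRingEquiv.bijective))
    let O : W.toScheme.Opens := ⟨_, Groth.Agent.S3617.result _ _ (W.ι ≫ g)⟩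
    let jj := O.ι ≫ W.ι ≫ U.ι
    let k := jj.isoOpensRange.inv ≫ O.ι ≫ W.ι
    let G := k ≫ g
    have hxW : (⟨x, hx⟩ : U) ∈ W := hgx.1
    have hxO : (⟨⟨x, hx⟩, hxW⟩ : W) ∈ O := (gor_comp_openImmersion W.ι g _).2 hgx
    have hk : k ≫ U.ι = jj.opensRange.ι := by
      simp only [k, jj, Category.assoc]
      exact Scheme.Hom.isoOpensRange_inv_comp (O.ι ≫ W.ι ≫ U.ι)
    refine ⟨jj.opensRange, ⟨⟨⟨⟨x, hx⟩, hxW⟩, hxO⟩, rfl⟩, G, ?_, inferInstance, fun w => ?_⟩
    · simp only [G, Category.assoc]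
      rw [hg, ← Category.assoc, hk]
    · refine (gor_comp_openImmersion k g w).2 ?_
      have h1 : Dual3.IsGorensteinAt (W.ι ≫ g) (O.ι (jj.isoOpensRange.inv w)) := (jj.isoOpensRange.inv w).2
      exact (gor_comp_openImmersion W.ι g _).1 h1
  · rintro ⟨U', hx', g', hg', -, h⟩
    exact gor_of_affineSpace f d hx' g' hg' (h _)

end Groth.Agent.S3670
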