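import Groth.Statements.S3674
import Groth.Agent.Dual6Lib.KoszulVanish.Shriek
import Groth.Agent.Coherent.QcohOps

set_option autoImplicit false
universe u
open CategoryTheory CategoryTheory.Limits AlgebraicGeometry
attribute [local instance] HasDerivedCategory.standard
open Dual3

namespace Groth.Agent.S3674

/-- Let Y be a quasi-compact quasi-separated scheme and i : X → Y a Koszul-regular closed immersion
whose conormal sheaf C is finite locally free of constant rank r; let N = Hom_{O_X}(C, O_X) be the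
normal sheaf (the sheaf Hom functor out of C assumed to exist) and L an r-th exterior power of N.
Assume the derived direct image Ri_* exists and preserves quasi-coherence of cohomology sheaves
(both known results), so that it restricts to a functor D_QCoh(O_X) → D_QCoh(O_Y), and let a :
D_QCoh(O_Y) → D_QCoh(O_X) be a right adjoint of this restricted functor. Let O be an object of
D_QCoh(O_Y) isomorphic to the structure sheaf placed in degree 0. Then a(O) ≅ L[−r] = ∧^r N[−r] in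
D(O_X), that is, a(O) is L placed in degree r. (Stated for constant codimension r.) -/
theorem result (X Y : Scheme.{u}) [CompactSpace Y] [QuasiSeparatedSpace Y] (i : X ⟶ Y) (hi : Dual3.IsKoszulRegularImmersion i) [IsClosedImmersion i] (r : ℕ) (hC : FlatMod.IsFinLocFreeOfRank r (Omega.conormal i)) [DCoh.HasSheafHom (Omega.conormal i)] (L : X.Modules) (hL : ExtPow.IsExtPow r ((DCoh.sheafHom (Omega.conormal i)).obj (Coh.structureModule X)) L) [DCoh.HasRpush i] (hf : DCoh.RpushPreservesQCoh i) (a : DCoh.DQCoh Y ⥤ DCoh.DQCoh X) (adj : DCoh.RpushQ i hf ⊣ a) (O : DCoh.DQCoh Y) (hO : Nonempty (O.obj ≅ DCoh.inD Y (Coh.structureModule Y))) : Nonempty ((a.obj O).obj ≅ (DCoh.inD X L)⟦(-(r : ℤ))⟧) := by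
  haveI : Dual3.HasHomO i := (Groth.Agent.SerreDual.shriekAdj i).isLeftAdjoint
  haveI := Groth.Agent.ExtSS.preservesFiniteLimits_pushforward i
  haveI := Groth.Agent.ExtSS.preservesFiniteColimits_pushforward i
  obtain ⟨eO⟩ := hO
  obtain ⟨pd⟩ := Groth.Agent.DCat.ClosedShriek.nonempty_Rpush_pushD i
  obtain ⟨ad⟩ := Groth.Agent.DCat.ClosedShriek.nonempty_adj i
  obtain ⟨hz, ⟨eL⟩⟩ := Groth.Agent.Dual6Lib.KoszulVanish.HD_structureModule i hi hC hL
  let K₁ := (Groth.Agent.DCat.ClosedShriek.RHomOD i).obj (DCoh.inD Y (Coh.structureModule Y))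
  haveI : K₁.IsGE (r : ℤ) := (DerivedCategory.isGE_iff _ _).2 fun j hj => hz j (by omega)
  haveI : K₁.IsLE (r : ℤ) := (DerivedCategory.isLE_iff _ _).2 fun j hj => hz j (by omega)
  obtain ⟨M, ⟨eM⟩⟩ := DerivedCategory.exists_iso_singleFunctor_obj_of_isGE_of_isLE K₁ (r : ℤ)
  let eML : M ≅ L := ((DerivedCategory.singleFunctorCompHomologyFunctorIso X.Modules (r : ℤ)).app M).symm ≪≫
    ((DerivedCategory.homologyFunctor X.Modules (r : ℤ)).mapIso eM).symm ≪≫ eL
  let e₁ : K₁ ≅ (DCoh.inD X L)⟦(-(r : ℤ))⟧ := eM ≪≫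
    (DerivedCategory.singleFunctor X.Modules (r : ℤ)).mapIso eML ≪≫
    (((CategoryTheory.SingleFunctors.shiftIso (DerivedCategory.singleFunctors X.Modules) (-(r : ℤ)) (r : ℤ) 0
      (by omega)).app L)).symm
  have hq : DCoh.IsQCohD K₁ := fun j => by
    by_cases hj : j = (r : ℤ)
    · subst hj
      have : Coh.IsQCoh L := Groth.Agent.CAlgH3.LocFreeFactor.isQCoh_of_finLocFree
        (Groth.Agent.WedgeDual5.isFinLocFree_of_isExtPow (Groth.Agent.Coherent.CohBC.isFinLocFree_internalHom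
          (Groth.Agent.LocFreeLib.isFinLocFree_of_rank hC) (Groth.Agent.KvbLam28.isFinLocFree_structure (X := X)))
          (Groth.Agent.EulerPn5.CanonOver.isExtPow_congr_source
            ((Groth.Agent.Coherent.sheafHomIso (Omega.conormal i)).app (Coh.structureModule X)) hL))
      exact Groth.Agent.Coherent.isQCoh_of_iso eL.symm
    · exact Groth.Agent.Coherent.isQCoh_of_isZero (hz j hj)
  let K₀ : DCoh.DQCoh X := ⟨K₁, hq⟩
  let ι₁ := ObjectProperty.fullyFaithfulι (DCoh.IsQCohD (X := X))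
  let ι₂ := ObjectProperty.fullyFaithfulι (DCoh.IsQCohD (X := Y))
  let p : ∀ {Z : DCoh.DQCoh X}, (Z ⟶ a.obj O) → (Z ⟶ K₀) := fun {Z} g =>
    ι₁.preimage (ad.homEquiv _ _ (pd.inv.app Z.obj ≫ ((adj.homEquiv Z O).symm g).hom ≫ eO.hom))
  let q : ∀ {Z : DCoh.DQCoh X}, (Z ⟶ K₀) → (Z ⟶ a.obj O) := fun {Z} g =>
    adj.homEquiv Z O (ι₂.preimage (pd.hom.app Z.obj ≫ (ad.homEquiv _ _).symm g.hom ≫ eO.inv))
  have hqp : ∀ {Z : DCoh.DQCoh X} (g : Z ⟶ a.obj O), q (p g) = g := fun {Z} g => by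
    refine (Equiv.eq_symm_apply _).1 ?_
    refine ι₂.map_injective ?_
    simp [p, q, ι₁, ι₂]
  have hpq : ∀ {Z : DCoh.DQCoh X} (g : Z ⟶ K₀), p (q g) = g := fun {Z} g => by
    refine ι₁.map_injective ?_
    simp [p, q, ι₁, ι₂]
  have hnat : ∀ {Z Z' : DCoh.DQCoh X} (f : Z' ⟶ Z) (g : Z ⟶ a.obj O), p (f ≫ g) = f ≫ p g := fun {Z Z'} f g => by
    refine ι₁.map_injective ?_
    simp [p, ι₁, adj.homEquiv_naturality_left_symm, ← ad.homEquiv_naturality_left]
  let e₂ : a.obj O ≅ K₀ := Yoneda.ext (a.obj O) K₀ p q hqp hpq hnat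
  exact ⟨(ObjectProperty.ι _).mapIso e₂ ≪≫ e₁⟩

end Groth.Agent.S3674
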