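import Groth.Statements.S3675
import Groth.Agent.Dual22Lib.SchStalk

set_option autoImplicit false
universe u
open CategoryTheory CategoryTheory.Limits AlgebraicGeometry
attribute [local instance] HasDerivedCategory.standard
open Dual3

namespace Groth.Agent.S3675

/-- Let X be a locally Noetherian scheme (exactness instances as in the definition of dualizing
complexes) and ω a coherent O_X-module such that ω[0] is a dualizing complex on X. Then X is
Cohen–Macaulay: every local ring O_{X,x} is a Cohen–Macaulay local ring. -/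
theorem result (X : Scheme.{u}) [IsLocallyNoetherian X] [∀ (U V : Scheme.{u}) (j : U ⟶ V) [IsOpenImmersion j], PreservesFiniteLimits (Scheme.Modules.restrictFunctor j)] [∀ (R : CommRingCat.{u}), PreservesFiniteLimits (tilde.functor R)] (ω : X.Modules) (hω : Coh.IsCoh ω) (hD : Dual2.IsDualizingSch X (DCoh.inD X ω)) (x : X) : LocCoh.IsCohenMacaulayLocalRing (X.presheaf.stalk x) := by
  have key := Groth.Agent.Dual22Lib.cm_iff hD x
  obtain ⟨A, _, j, _, y, hy⟩ := Groth.Agent.Dual22Lib.exists_chart x
  subst hy
  obtain ⟨ω', hω', ⟨e⟩⟩ := hD A j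
  haveI := Groth.Agent.Dual22Lib.isNoetherianRing_chart j
  have hp : y ∈ Module.support A A := by rw [Module.mem_support_iff]; infer_instance
  obtain ⟨d, n, -, -, -, -, hlo, -⟩ := Groth.Agent.DualLib.local_degrees hω' A y hp
  have hne := (Groth.Agent.Dual22Lib.nontrivial_stalk_iff j e y _).2
    ((Groth.Agent.DualLib.mem_support_HD_iff hω' y _).1 hlo)
  refine key.2 ⟨_, hne, fun i hi => ?_⟩
  have aux : ∀ i : ℤ, Nontrivial ((DCoh.HD (DCoh.inD X ω) i).presheaf.stalk (j y)) → i = 0 := by
    intro i hi
    by_contra h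
    haveI := hi
    exact not_subsingleton _ (Groth.Agent.DCat.SuppOpen.subsingleton_of_isZero_stalkFunctor _ (j y)
      ((DerSch.stalkFunctor X (j y)).map_isZero (Groth.Agent.Dual22Lib.isZero_HD_inD ω h)))
  rw [aux i hi, aux _ hne]

end Groth.Agent.S3675
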