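import Groth.Statements.S3698
import Groth.Agent.S8228
import Groth.Agent.S8229

set_option linter.style.haveILetI false
-- import your own Groth.Agent.* helpers here

set_option autoImplicit false
universe u
open CategoryTheory MonoidalCategory CartesianMonoidalCategory MonObj GrpObj AlgebraicGeometry
open Pi1

namespace Groth.Agent.S3698

/-- The fundamental group of an abelian variety, in the form underlying its computation: let k be an
algebraically closed field and A an abelian variety over k (a proper, geometrically integral group
scheme over k). Then every connected finite étale cover Z → A is dominated by a multiplication map: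
for some integer d ≥ 1 there is a morphism A → Z over A, where A is viewed as a scheme over A
through multiplication by d. (Multiplication by d is the d-th power of the identity in the group
Hom(A, A); consequently the fundamental group of A is the inverse limit of the groups of k-points of
the kernels of these multiplications.) -/
theorem result (k : Type u) [Field k] [IsAlgClosed k]
    (A : Over (Spec (CommRingCat.of k))) [GrpObj A] [IsProper A.hom] [GeometricallyIntegral A.hom]
    (Z : FEt.Cat A.left) [ConnectedSpace Z.left] :
    ∃ d : ℕ, 1 ≤ d ∧ ∃ ψ : A.left ⟶ Z.left, ψ ≫ Z.hom = ((𝟙 A) ^ (d : ℤ)).left := by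
  haveI : IsIntegral A.left := GeometricallyIntegral.isIntegral_of_subsingleton A.hom
  haveI : LocallyOfFinitePresentation A.hom :=
    LocallyOfFinitePresentation.iff_locallyOfFiniteType.2 inferInstance
  haveI : Smooth A.hom := AbVarLib.smooth_of_geometricallyReduced A
  haveI := AlgGrpLib.TorsorNormRel.isCommMonObj_abelianVariety A
  have hcomm : ∀ (X : Over (Spec (CommRingCat.of k))) (g h : X ⟶ A), g * h = h * g := fun X g h => mul_comm g h
  haveI : IsFinite Z.hom := Z.prop.1
  haveI : Etale Z.hom := Z.prop.2
  let Y : Over (Spec (CommRingCat.of k)) := Over.mk (Z.hom ≫ A.hom)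
  let φ : Y ⟶ A := Over.homMk Z.hom rfl
  haveI : IsFinite φ.left := ‹IsFinite Z.hom›
  haveI : Etale φ.left := ‹Etale Z.hom›
  haveI : ConnectedSpace ↥Y.left := ‹ConnectedSpace Z.left›
  haveI : Surjective φ.left := ⟨fun a => by
    have hc : IsClopen (Set.range φ.left) := ⟨φ.left.isClosedMap.isClosed_range, φ.left.isOpenMap.isOpen_range⟩
    rw [← Set.mem_range, hc.eq_univ (Set.range_nonempty _)]
    trivial⟩
  obtain ⟨inst, hφ⟩ := S8228.result k A hcomm Y φ
  letI := inst
  haveI := hφ
  let F := Limits.pullback φ.left η[A].left
  let π : F ⟶ Spec (CommRingCat.of k) := Limits.pullback.snd φ.left η[A].left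
  have hd : 1 ≤ Nat.card ↥F := by
    haveI : IsFinite π := inferInstanceAs (IsFinite (Limits.pullback.snd φ.left η[A].left))
    obtain ⟨B, _, _, _, e, -⟩ := AbCubeLib.exists_algebra π
    haveI : IsArtinianRing B := IsArtinianRing.of_finite k B
    haveI : Finite ↥F := Finite.of_equiv _ e.hom.homeomorph.toEquiv
    haveI : Nonempty ↥F := by
      obtain ⟨a, ha⟩ := φ.left.surjective (η[A].left (IsLocalRing.closedPoint k))
      obtain ⟨z, -, -⟩ := Scheme.Pullback.exists_preimage_pullback (f := φ.left) (g := η[A].left) a
        (IsLocalRing.closedPoint k) ha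
      exact ⟨z⟩
    exact Nat.card_pos
  obtain ⟨ψ, -, hψ⟩ := S8229.result k A hcomm Y φ (Nat.card ↥F) rfl _ hd dvd_rfl
  exact ⟨_, hd, ψ.left, by rw [zpow_natCast]; exact congrArg CommaMorphism.left hψ⟩

end Groth.Agent.S3698
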