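import Groth.Statements.S3700
import Groth.Agent.SmoothReg3.Scheme
import Groth.Agent.CAlgH.RegImmLocal
import Groth.Agent.SDiv28.SmoothRegImm
-- import your own Groth.Agent.* helpers here

set_option autoImplicit false
universe u
open SGA1

set_option backward.isDefEq.respectTransparency.types false

namespace Groth.Agent.S3700

open AlgebraicGeometry CategoryTheory CategoryTheory.Limits in
/-- Let S be locally Noetherian, f : X -> S locally of finite type, Y the closed subscheme of X defined
by a quasi-coherent ideal, and x a point of Y at which Y is smooth over S. Then X is smooth over S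
at x if and only if the closed immersion of Y in X is regular at x, that is, the kernel of O_{X,x}
-> O_{Y,x} is generated by a regular sequence. (Smoothness at a point is membership in Mathlib's
smooth locus, the set of points where the map of local rings is formally smooth.) -/
theorem result {X S : Scheme.{u}} [IsLocallyNoetherian S] (f : X ⟶ S)
    [LocallyOfFiniteType f] [LocallyOfFinitePresentation f] (I : X.IdealSheafData)
    [LocallyOfFinitePresentation (I.subschemeι ≫ f)] (x : ↥I.subscheme) (hY : x ∈ (I.subschemeι ≫ f).smoothLocus) :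
    I.subschemeι.base x ∈ f.smoothLocus ↔ CInt.IsRegularIdeal (RingHom.ker (I.subschemeι.stalkMap x).hom) := by
  classical
  haveI : IsLocallyNoetherian X := LocallyOfFiniteType.isLocallyNoetherian f
  let ι := I.subschemeι
  constructor
  · intro hx
    obtain ⟨O, hO, hOeq⟩ := ι.isClosedEmbedding.isInducing.isOpen_iff.1 (ι ≫ f).smoothLocus.2
    let U : X.Opens := f.smoothLocus ⊓ ⟨O, hO⟩
    have hxU : ι x ∈ U := ⟨hx, by
      have : x ∈ ι ⁻¹' O := hOeq.symm ▸ hY
      exact this⟩
    have hU : Smooth (U.ι ≫ f) := by
      rw [← Scheme.Hom.smoothLocus_eq_top_iff, ← Scheme.Hom.preimage_smoothLocus_eq]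
      exact top_unique fun y _ => y.2.1
    have hV : Smooth ((ι ∣_ U) ≫ U.ι ≫ f) := by
      rw [morphismRestrict_ι_assoc, ← Scheme.Hom.smoothLocus_eq_top_iff, ← Scheme.Hom.preimage_smoothLocus_eq]
      refine top_unique fun y _ => ?_
      have h2 : y.1 ∈ ι ⁻¹' O := y.2.2
      rw [hOeq] at h2
      exact h2
    haveI := hU
    haveI := hV
    refine (Groth.Agent.CAlgH.RegImmLocal.nhd_iff ι x).1 ⟨U, hxU, ?_⟩
    refine Groth.Agent.SDiv28.SmoothRegImm.isRegularClosedImmersion (U.ι ≫ f) (ι ∣_ U) fun y => ?_
    haveI := Groth.Agent.SDiv28.SmoothRegImm.isRegularLocalRing_fiberStalk ((ι ∣_ U) ≫ U.ι ≫ f) y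
    exact Groth.Agent.CAlgH.CIHom.isCompleteIntersection_of_regularLocal
  · rintro ⟨rs, hrs, hker⟩
    exact Groth.Agent.SmoothReg3.formallySmooth_stalkMap_of_immersion f ι x rs hrs hker.symm hY

end Groth.Agent.S3700
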