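import Groth.Statements.S3707
import Groth.Agent.FEtLib.Section
import Mathlib.AlgebraicGeometry.Fiber

set_option autoImplicit false
universe u
open SGA1

namespace Groth.Agent.S3707
open CategoryTheory CategoryTheory.Limits AlgebraicGeometry

open AlgebraicGeometry CategoryTheory CategoryTheory.Limits in
/-- Let g : S' -> S be a surjective morphism of schemes, X and Y schemes over S with Y unramified over S
(formally unramified and locally of finite type), and X', Y' their base changes to S'. Then the map
sending an S-morphism X -> Y to the induced S'-morphism X' -> Y' is injective. -/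
theorem result {S S' X Y : Scheme.{u}} (g : S' ⟶ S) [Surjective g]
    (p : X ⟶ S) (q : Y ⟶ S) [FormallyUnramified q] [LocallyOfFiniteType q]
    (u v : X ⟶ Y) (hu : p ≫ 𝟙 S = u ≫ q) (hv : p ≫ 𝟙 S = v ≫ q)
    (h : pullback.map p g q g u (𝟙 S') (𝟙 S) hu ((Category.comp_id _).trans (Category.id_comp _).symm) =
      pullback.map p g q g v (𝟙 S') (𝟙 S) hv ((Category.comp_id _).trans (Category.id_comp _).symm)) :
    u = v := by
  have := congrArg (· ≫ pullback.fst q g) h
  simp only [pullback.map, pullback.lift_fst] at this
  exact Groth.Agent.FEtLib.eq_of_surjective q u v (pullback.fst p g) this (hu.symm.trans hv)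

end Groth.Agent.S3707
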