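import Groth.Statements.S3708
import Groth.Agent.LiftObs29.Algebraize
import Groth.Agent.CurveRR24.RR
import Groth.Agent.S1551

set_option autoImplicit false
universe u
open SGA1

namespace Groth.Agent.S3708

open AlgebraicGeometry CategoryTheory CategoryTheory.Limits in
/-- Let A be a Noetherian local ring that is complete, with residue field k, and let X₀ be a smooth
proper k-scheme of dimension one. Then there exist a smooth proper A-scheme X and an isomorphism of
k-schemes between X₀ and the closed fibre X ×_A k. -/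
theorem result (A : Type u) [CommRing A] [IsLocalRing A] [IsNoetherianRing A]
    [IsAdicComplete (IsLocalRing.maximalIdeal A) A] {X₀ : Scheme.{u}}
    (f₀ : X₀ ⟶ Spec (CommRingCat.of (IsLocalRing.ResidueField A))) [Smooth f₀] [IsProper f₀]
    (hdim : topologicalKrullDim X₀ = 1) :
    ∃ (X : Scheme.{u}) (f : X ⟶ Spec (CommRingCat.of A)) (_ : Smooth f) (_ : IsProper f)
      (e : X₀ ≅ pullback f (Spec.map (CommRingCat.ofHom (IsLocalRing.residue A)))),
      e.hom ≫ pullback.snd f _ = f₀ := by
  letI : X₀.Over (Spec (CommRingCat.of (IsLocalRing.ResidueField A))) := ⟨f₀⟩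
  haveI : IsProper (X₀ ↘ Spec (CommRingCat.of (IsLocalRing.ResidueField A))) := ‹IsProper f₀›
  haveI : X₀.IsSeparated := ⟨by rw [← terminal.comp_from f₀]; infer_instance⟩
  haveI := EulerLib.isNoetherian_of_proper (IsLocalRing.ResidueField A) (X := X₀)
  haveI : Coh.IsQCoh (Coh.structureModule X₀) := Coherent.isQCoh_structureModule
  have hO : Subsingleton (Coh.HH X₀ (Coh.structureModule X₀) 2) :=
    CurveRR24.subsingleton_HH_ge_two (IsLocalRing.ResidueField A) hdim.le _ inferInstance one_lt_two
  let E := Omega.sheaf f₀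
  have hE : FlatMod.IsFinLocFree E := LiftObs29.isFinLocFree_omega f₀
  haveI : Coh.IsQCoh E := OmegaLib.isQCoh_of_isUniversal (OmegaLib.isUniversal_dOmega f₀)
  haveI : Coh.IsQCoh (Coherent.internalHom E (Coh.structureModule X₀)) :=
    FlatMor12.isQCoh_internalHom_of_isFP (Props12.isFP_of_isFinLocFree _ hE)
  have hT : Subsingleton (Abelian.Ext.{u} E (Coh.structureModule X₀) 2) := by
    obtain ⟨a⟩ := ExtLF.nonempty_ext_internalHom E hE ((Coherent.freeModOn X₀).obj ⊤) (Coh.structureModule X₀) 2
    let v : CohB1.tensorMod E ((Coherent.freeModOn X₀).obj ⊤) ≅ E :=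
      (Coherent.tensE E).mapIso (DQCoh.topStructIso X₀) ≪≫ AmpleLib.tensorComm _ _ ≪≫ AmpleLib.unitTensorIso E
    let e := (ExtLF.extCongrLeft v (Coh.structureModule X₀) 2).symm.trans
      (a.symm.trans (SerreDual.extHH (Coherent.internalHom E (Coh.structureModule X₀)) 2))
    exact @Equiv.subsingleton _ _ e.toEquiv (CurveRR24.subsingleton_HH_ge_two (IsLocalRing.ResidueField A) hdim.le _
      inferInstance one_lt_two)
  obtain ⟨L₀, hL₀⟩ := S1551.result X₀ hdim
  obtain ⟨X, f, i, hs, hp, -, hpb⟩ := LiftObs29.exists_smooth_projective_lift f₀ hT hO hL₀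
  exact ⟨X, f, hs, hp, hpb.isoPullback, hpb.isoPullback_hom_snd⟩

end Groth.Agent.S3708
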