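import Groth.Statements.S3709
import Groth.Agent.FEtDesc.EtaleHom

set_option autoImplicit false
set_option backward.isDefEq.respectTransparency.types false
set_option backward.isDefEq.respectTransparency false
universe u
open SGA1

namespace Groth.Agent.S3709

open AlgebraicGeometry CategoryTheory CategoryTheory.Limits in
/-- A universally submersive morphism is a descent morphism for etale schemes (exactness of Hom_S(X, Y)
-> Hom_S'(X', Y') => Hom_S''(X'', Y'')): let g : S' -> S be universally submersive, X and Y schemes
over S with Y etale over S, X' and Y' their base changes along g, and f' : X' -> Y' an S'-morphism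
whose two pullbacks to S'' = S' x_S S' coincide (equivalently: the two composites X'' -> X' -> Y' ->
Y along the two projections agree). Then there is exactly one S-morphism u : X -> Y whose base
change is f'. -/
theorem result {S S' X Y : Scheme.{u}} (g : S' ⟶ S) (hg : SGA1.UnivSubmersive g)
    (p : X ⟶ S) (q : Y ⟶ S) [Etale q]
    (f' : pullback p g ⟶ pullback q g) (hf' : f' ≫ pullback.snd q g = pullback.snd p g)
    (hcoc : pullback.map p (pullback.fst g g ≫ g) p g (𝟙 X) (pullback.fst g g) (𝟙 S)
        ((Category.comp_id _).trans (Category.id_comp _).symm) (Category.comp_id _) ≫ f' ≫ pullback.fst q g =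
      pullback.map p (pullback.fst g g ≫ g) p g (𝟙 X) (pullback.snd g g) (𝟙 S)
        ((Category.comp_id _).trans (Category.id_comp _).symm) ((Category.comp_id _).trans pullback.condition) ≫
        f' ≫ pullback.fst q g) :
    ∃! u : X ⟶ Y, u ≫ q = p ∧ f' ≫ pullback.fst q g = pullback.fst p g ≫ u := by
  refine Groth.Agent.FEtDesc.existsUnique_hom_descend g hg p q f' hf' fun {T} a b hab => ?_
  have e : a ≫ pullback.fst p g ≫ p = (a ≫ pullback.snd p g) ≫ g := by rw [pullback.condition, Category.assoc]
  have e' : (a ≫ pullback.snd p g) ≫ g = (b ≫ pullback.snd p g) ≫ g := by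
    rw [← e, reassoc_of% hab, Category.assoc, pullback.condition]
  let c : T ⟶ pullback p (pullback.fst g g ≫ g) :=
    pullback.lift (a ≫ pullback.fst p g) (pullback.lift (a ≫ pullback.snd p g) (b ≫ pullback.snd p g) e') (by
      rw [Category.assoc, e, ← Category.assoc, pullback.lift_fst])
  have h1 : c ≫ pullback.map p (pullback.fst g g ≫ g) p g (𝟙 X) (pullback.fst g g) (𝟙 S)
      ((Category.comp_id _).trans (Category.id_comp _).symm) (Category.comp_id _) = a := by
    apply pullback.hom_ext <;> simp [c, pullback.map]
  have h2 : c ≫ pullback.map p (pullback.fst g g ≫ g) p g (𝟙 X) (pullback.snd g g) (𝟙 S)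
      ((Category.comp_id _).trans (Category.id_comp _).symm) ((Category.comp_id _).trans pullback.condition) = b := by
    apply pullback.hom_ext <;> simp [c, hab, pullback.map]
  have := congrArg (c ≫ ·) hcoc
  rwa [reassoc_of% h1, reassoc_of% h2] at this

end Groth.Agent.S3709
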