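import Groth.Statements.S3710
import Groth.Agent.Kummer10.Algebra
import Groth.Agent.Kummer10.Chart

set_option linter.style.haveILetI false
set_option backward.isDefEq.respectTransparency false
set_option backward.isDefEq.respectTransparency.types false
-- import your own Groth.Agent.* helpers here

set_option autoImplicit false
open CategoryTheory CategoryTheory.Limits AlgebraicGeometry
universe u
open SGA1t

namespace Groth.Agent.S3710

/-- Let f : X -> S and φ_1, ..., φ_r cut out a strict normal crossings divisor relative to S, x a point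
where some φ_i vanishes, A = O_{X,x}, and n_i ≥ 1 integers for the indices i with φ_i(x) = 0 (no
condition on the residue characteristic). Then the Kummer scheme X' = Spec A[T_i]/(T_i^{n_i} - φ_i)
is smooth over S at its point x' over x: the homomorphism from the local ring of S at the image
point to the local ring of X' at x' is formally smooth. -/
theorem result {X S : Scheme.{u}} (f : X ⟶ S) {r : ℕ} (φ : Fin r → Γ(X, ⊤))
    (hD : SGA1t.IsRelSNC f φ) (x : X) (hx : Nonempty (SGA1t.vanishingAt φ x))
    (n : SGA1t.vanishingAt φ x → ℕ) (hn1 : ∀ i, 1 ≤ n i) :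
    letI A := X.presheaf.stalk x
    letI a : SGA1t.vanishingAt φ x → A := fun i => (X.presheaf.germ ⊤ x trivial).hom (φ i.1)
    letI π : Spec (CommRingCat.of (SGA1t.kummer A a n)) ⟶ Spec (CommRingCat.of A) :=
      Spec.map (CommRingCat.ofHom (algebraMap A (SGA1t.kummer A a n)))
    ∀ x' : Spec (CommRingCat.of (SGA1t.kummer A a n)), π.base x' = IsLocalRing.closedPoint A →
      ((π ≫ X.fromSpecStalk x ≫ f).stalkMap x').hom.FormallySmooth := by
  intro x' hx'
  obtain ⟨V, hV, U, hU, hxU, le, σ, v, e, he, het, hv⟩ := _root_.Groth.Agent.Kummer10.exists_chart f φ hD x hx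
  let R := Γ(S, V)
  let A := X.presheaf.stalk x
  let germ := X.presheaf.germ U x hxU
  let a : SGA1t.vanishingAt φ x → A := fun i => (X.presheaf.germ ⊤ x trivial).hom (φ i.1)
  let K := SGA1t.kummer A a n
  let ρ : R →+* A := germ.hom.comp (f.appLE V U le).hom
  letI : Algebra R A := ρ.toAlgebra
  have hA : letI := (MvPolynomial.aeval (fun s => germ (v s)) : MvPolynomial σ R →ₐ[R] A).toRingHom.toAlgebra
      Algebra.FormallyEtale (MvPolynomial σ R) A := by
    have h1 : (MvPolynomial.eval₂Hom (f.appLE V U le).hom v).FormallyEtale := by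
      algebraize [(MvPolynomial.eval₂Hom (f.appLE V U le).hom v)]
      exact RingHom.formallyEtale_algebraMap.2 inferInstance
    have h2 : germ.hom.FormallyEtale := by
      letI := X.presheaf.algebra_section_stalk ⟨x, hxU⟩
      haveI := hU.isLocalization_stalk ⟨x, hxU⟩
      exact RingHom.formallyEtale_algebraMap.2 (.of_isLocalization (hU.primeIdealOf ⟨x, hxU⟩).asIdeal.primeCompl)
    have h3 := h1.comp h2
    have heq : germ.hom.comp (MvPolynomial.eval₂Hom (f.appLE V U le).hom v) =
        (MvPolynomial.aeval (fun s => germ (v s)) : MvPolynomial σ R →ₐ[R] A).toRingHom :=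
      MvPolynomial.ringHom_ext
        (fun r => (congrArg germ.hom (MvPolynomial.eval₂Hom_C _ _ r)).trans
          (MvPolynomial.aeval_C (fun s => germ (v s)) r).symm)
        (fun s => (congrArg germ.hom (MvPolynomial.eval₂Hom_X' _ _ s)).trans
          (MvPolynomial.aeval_X (fun s => germ (v s)) s).symm)
    rw [heq] at h3
    exact h3
  have hK : Algebra.FormallySmooth R K := _root_.Groth.Agent.Kummer10.formallySmooth_kummer _ hA e he n a
    fun i => by rw [hv]; exact (X.presheaf.germ_res_apply (homOfLE le_top) x hxU _).symm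
  let π : Spec (CommRingCat.of K) ⟶ Spec (CommRingCat.of A) := Spec.map (CommRingCat.ofHom (algebraMap A K))
  have hpre : X.fromSpecStalk x ⁻¹ᵁ U = ⊤ := top_unique fun t _ => by
    have ht : X.fromSpecStalk x t ⤳ x := by
      have h : X.fromSpecStalk x t ∈ Set.range (X.fromSpecStalk x) := ⟨t, rfl⟩
      rwa [Scheme.range_fromSpecStalk] at h
    exact ht.mem_open U.2 hxU
  have hle : (⊤ : (Spec (CommRingCat.of K)).Opens) ≤ (π ≫ X.fromSpecStalk x ≫ f) ⁻¹ᵁ V := fun t _ =>
    le (hpre.ge (Set.mem_univ (π t)))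
  refine (formallySmooth_stalkMap_iff V hV ⊤ (isAffineOpen_top _) hle trivial).2 ?_
  letI algΓ := ((π ≫ X.fromSpecStalk x ≫ f).appLE V ⊤ hle).hom.toAlgebra
  let ε := (Scheme.ΓSpecIso (CommRingCat.of K)).symm.commRingCatIsoToRingEquiv
  have hε : ∀ r : R, ε (algebraMap R K r) = algebraMap R Γ(Spec (CommRingCat.of K), ⊤) r := by
    intro r
    have e1 : (π ≫ X.fromSpecStalk x ≫ f).appLE V ⊤ hle =
        f.appLE V U le ≫ (X.fromSpecStalk x).appLE U ⊤ hpre.ge ≫ π.appTop := by
      rw [Scheme.Hom.appTop, π.app_eq_appLE, Scheme.Hom.appLE_comp_appLE, Scheme.Hom.appLE_comp_appLE]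
      rfl
    have e2 : (X.fromSpecStalk x).appLE U ⊤ hpre.ge = germ ≫ (Scheme.ΓSpecIso A).inv := by
      rw [Scheme.Hom.appLE, Scheme.fromSpecStalk_app hxU]
      simp only [Category.assoc, ← Functor.map_comp, germ]
      rw [Subsingleton.elim (_ ≫ _ : Opposite.op (⊤ : (Spec A).Opens) ⟶ Opposite.op ⊤) (𝟙 _),
        CategoryTheory.Functor.map_id, Category.comp_id]
    have e3 : (Scheme.ΓSpecIso A).inv ≫ π.appTop =
        CommRingCat.ofHom (algebraMap A K) ≫ (Scheme.ΓSpecIso (CommRingCat.of K)).inv :=
      (Scheme.ΓSpecIso_inv_naturality (CommRingCat.ofHom (algebraMap A K))).symm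
    show _ = ((π ≫ X.fromSpecStalk x ≫ f).appLE V ⊤ hle).hom r
    rw [e1, e2]
    simp only [Category.assoc, e3]
    rfl
  haveI : Algebra.FormallySmooth R Γ(Spec (CommRingCat.of K), ⊤) :=
    Algebra.FormallySmooth.of_equiv (AlgEquiv.ofRingEquiv (f := ε) hε)
  let q := ((isAffineOpen_top (Spec (CommRingCat.of K))).primeIdealOf ⟨x', trivial⟩).asIdeal
  haveI : Algebra.FormallyEtale Γ(Spec (CommRingCat.of K), ⊤) (Localization.AtPrime q) :=
    .of_isLocalization q.primeCompl
  exact Algebra.FormallySmooth.comp R Γ(Spec (CommRingCat.of K), ⊤) (Localization.AtPrime q)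

end Groth.Agent.S3710
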