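import Groth.Statements.S3711
import Groth.Agent.Kummer10.TameGalois

set_option linter.style.haveILetI false
set_option backward.isDefEq.respectTransparency false
set_option backward.isDefEq.respectTransparency.types false
-- import your own Groth.Agent.* helpers here

set_option autoImplicit false
open CategoryTheory CategoryTheory.Limits AlgebraicGeometry
universe u
open SGA1t

namespace Groth.Agent.S3711

/-- Case of a constant group: let f : X -> S and φ_1, ..., φ_r cut out a strict normal crossings divisor
relative to S with complement U, and let P be a principal C-cover of U for a finite group C whose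
order is invertible in every residue field of S. Then P is tamely ramified on X relatively to S. -/
theorem result {X S : Scheme.{u}} (f : X ⟶ S) {r : ℕ} (φ : Fin r → Γ(X, ⊤))
    (hD : SGA1t.IsRelSNC f φ) (C : Type) [Group C] [Finite C] (hC : ∀ s : S, IsUnit ((Nat.card C : ℕ) : S.residueField s))
    (P : FEt.Cat (SGA1t.compl φ : Scheme.{u})) (ρ : C →* Aut P) (hP : SGA1t.IsPrincipal C P ρ) :
    SGA1t.IsRelTame f φ P := by
  intro Ω _ _ σ _ y _ hy w h hne
  let U := SGA1t.compl φ
  let p := P.hom ≫ U.ι
  let g₀ := pullback.fst f σ
  let W := pullback p g₀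
  let q : W ⟶ pullback f σ := pullback.snd p g₀
  haveI : IsFinite P.hom := P.prop.1
  haveI : Etale P.hom := P.prop.2
  have hw : ∀ c : C, (ρ c).hom.left ≫ P.hom = P.hom := fun c => Over.w (ρ c).hom.hom
  let act : C → (W ⟶ W) := fun c => pullback.map p g₀ p g₀ (ρ c).hom.left (𝟙 _) (𝟙 _)
    (by simp only [p, Category.comp_id, ← Category.assoc, hw]) (by simp)
  have hact : ∀ c d, act (c * d) = act d ≫ act c := fun c d => by
    apply pullback.hom_ext
    · simp only [act, Category.assoc, pullback.lift_fst, pullback.lift_fst_assoc, map_mul]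
      rfl
    · simp [act]
  have hact1 : act 1 = 𝟙 W := by
    apply pullback.hom_ext
    · simp only [act, pullback.lift_fst, map_one, Category.id_comp]
      exact Category.comp_id _
    · simp [act]
  let ρ' : C →* CategoryTheory.Aut W :=
    { toFun := fun c => ⟨act c, act c⁻¹, by rw [← hact, inv_mul_cancel, hact1],
        by rw [← hact, mul_inv_cancel, hact1]⟩
      map_one' := Iso.ext hact1
      map_mul' := fun c d => Iso.ext (hact c d) }
  haveI : LocallyQuasiFinite q := inferInstance
  haveI : FormallyUnramified q := inferInstance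
  haveI : LocallyOfFiniteType q := inferInstance
  letI : Algebra ((pullback f σ).residueField (q w)) (W.residueField w) := (q.residueFieldMap w).hom.toAlgebra
  obtain ⟨hfin, hgal, hdvd⟩ := _root_.Groth.Agent.Kummer10.isGalois_residueField q C ρ'
    (fun c => by simp [ρ', act, q]) (fun F _ _ s t hst => by
      have h1 : (s ≫ pullback.fst p g₀) ≫ P.hom = (t ≫ pullback.fst p g₀) ≫ P.hom := by
        rw [← cancel_mono U.ι]
        have e1 := s ≫= pullback.condition (f := p) (g := g₀)
        have e2 := t ≫= pullback.condition (f := p) (g := g₀)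
        simp only [p, q] at e1 e2 hst ⊢
        simp only [Category.assoc]
        rw [e1, e2, reassoc_of% hst]
      obtain ⟨c, hc, -⟩ := hP.2 F ((s ≫ pullback.fst p g₀) ≫ P.hom) ⟨_, rfl⟩ ⟨_, h1.symm⟩
      refine ⟨c, ?_⟩
      have hc' : (s ≫ pullback.fst p g₀) ≫ (ρ c).hom.left = t ≫ pullback.fst p g₀ := congrArg Subtype.val hc
      apply pullback.hom_ext
      · simpa [ρ', act] using hc'
      · simpa [ρ', act] using hst) w
  haveI := hfin
  haveI := hgal
  letI : Algebra ((pullback f σ).presheaf.stalk y) ((pullback f σ).residueField (q w)) :=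
    (((pullback f σ).residue _).hom.comp ((pullback f σ).presheaf.stalkSpecializes h).hom).toAlgebra
  haveI : IsFractionRing ((pullback f σ).presheaf.stalk y) ((pullback f σ).residueField (q w)) :=
    _root_.Groth.Agent.Kummer10.isFractionRing_residueField h hne hy
  haveI := hy
  refine _root_.Groth.Agent.TameKum.tame_of_galois (O := (pullback f σ).presheaf.stalk y)
    (K := (pullback f σ).residueField (q w)) (L := W.residueField w) ?_
  obtain ⟨m, hm⟩ := hdvd
  let η : Ω →+* IsLocalRing.ResidueField ((pullback f σ).presheaf.stalk y) :=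
    (IsLocalRing.residue _).comp (((pullback f σ).presheaf.germ ⊤ y trivial).hom.comp
      ((pullback.snd f σ).appTop.hom.comp (Scheme.ΓSpecIso (CommRingCat.of Ω)).inv.hom))
  let z : Spec (CommRingCat.of Ω) := pullback.snd f σ y
  let θ : S.residueField (σ z) →+* (Spec (CommRingCat.of Ω)).residueField z := (σ.residueFieldMap z).hom
  let η' : Ω →+* (Spec (CommRingCat.of Ω)).residueField z :=
    ((Spec (CommRingCat.of Ω)).residue z).hom.comp
      (((Spec (CommRingCat.of Ω)).presheaf.germ ⊤ z trivial).hom.comp (Scheme.ΓSpecIso (CommRingCat.of Ω)).inv.hom)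
  have hne0 : ((Nat.card C : ℕ) : Ω) ≠ 0 := fun h0 => by
    have := (hC (σ z)).map θ
    rw [map_natCast, ← map_natCast η', h0, map_zero] at this
    exact not_isUnit_zero this
  intro h0
  refine hne0 (η.injective ?_)
  rw [map_natCast, map_zero, hm, Nat.cast_mul, h0, zero_mul]

end Groth.Agent.S3711
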