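import Groth.Statements.S3713
import Groth.Agent.Stk19b.Boot.Locus
import Mathlib.RingTheory.Smooth.StandardSmoothOfFree
import Mathlib.RingTheory.RingHom.StandardSmooth

set_option autoImplicit false
set_option backward.isDefEq.respectTransparency.types false
set_option linter.style.haveILetI false
universe u
open SGA1

namespace Groth.Agent.S3713

open AlgebraicGeometry CategoryTheory CategoryTheory.Limits Groth.Agent.Stk19b

theorem smooth_affineSpace (n : Type u) [Finite n] (U : Scheme.{u}) : Smooth (𝔸(n; U) ↘ U) := by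
  obtain ⟨R, ⟨hR⟩⟩ : ∃ R : CommRingCat.{u}, Nonempty (IsTerminal (Spec R)) := ⟨_, ⟨specULiftZIsTerminal⟩⟩
  refine MorphismProperty.of_isPullback (P := @Smooth) (AffineSpace.isPullback_map (n := n) (hR.from U)) ?_
  rw [← MorphismProperty.cancel_left_of_respectsIso (P := @Smooth) (AffineSpace.SpecIso n R).inv,
    AffineSpace.SpecIso_inv_over, HasRingHomProperty.Spec_iff (P := @Smooth)]
  haveI : Algebra.Smooth R (MvPolynomial n R) := ⟨inferInstance, inferInstance⟩
  exact (RingHom.smooth_algebraMap.mpr inferInstance : (algebraMap R (MvPolynomial n R)).Smooth)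

theorem etale_coordHom_Spec {A B : CommRingCat.{u}} {m : ℕ} (φ : A ⟶ B)
    (g : MvPolynomial (Fin m) A →+* B) (hg : g.comp MvPolynomial.C = φ.hom) (he : g.Etale) :
    Etale (Boot.coordHom (Spec.map φ) (fun k => (Scheme.ΓSpecIso B).inv (g (MvPolynomial.X k)))) := by
  rw [Boot.coordHom_Spec]
  let σ := MvPolynomial.renameEquiv A (Equiv.ulift.{u} : ULift.{u} (Fin m) ≃ Fin m)
  have e : MvPolynomial.eval₂Hom φ.hom (fun i : ULift.{u} (Fin m) => g (MvPolynomial.X i.down)) =
      g.comp σ.toRingEquiv.toRingHom := by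
    apply MvPolynomial.ringHom_ext
    · intro a; simp [σ, ← hg]
    · intro k; simp [σ]
  rw [e, CommRingCat.ofHom_comp, Spec.map_comp]
  have : IsIso (CommRingCat.ofHom σ.toRingEquiv.toRingHom) :=
    inferInstanceAs (IsIso σ.toRingEquiv.toCommRingCatIso.hom)
  have : Etale (Spec.map (CommRingCat.ofHom g)) := (HasRingHomProperty.Spec_iff (P := @Etale)).2 he
  infer_instance

theorem exists_chart {X Y : Scheme.{u}} (f : X ⟶ Y) [LocallyOfFinitePresentation f] (x : X)
    (hx : x ∈ f.smoothLocus) :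
    ∃ (A B : CommRingCat.{u}) (j : Spec A ⟶ Y) (_ : IsOpenImmersion j) (i : Spec B ⟶ X)
      (_ : IsOpenImmersion i) (φ : A ⟶ B) (m : ℕ) (g : MvPolynomial (Fin m) A →+* B),
      x ∈ i.opensRange ∧ i ≫ f = Spec.map φ ≫ j ∧ g.comp MvPolynomial.C = φ.hom ∧ g.Etale := by
  obtain ⟨W, hW, hfx, -⟩ := TopologicalSpace.Opens.isBasis_iff_nbhd.mp Y.isBasis_affineOpens
    (TopologicalSpace.Opens.mem_top (f x))
  obtain ⟨V, hV, hxV, e⟩ := TopologicalSpace.Opens.isBasis_iff_nbhd.mp X.isBasis_affineOpens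
    (show x ∈ f ⁻¹ᵁ W from hfx)
  have hfp : (f.appLE W V e).hom.FinitePresentation := f.finitePresentation_appLE hW hV e
  have hs := (formallySmooth_stalkMap_iff W hW V hV e hxV).1 hx
  algebraize [(f.appLE W V e).hom]
  haveI : Algebra.IsSmoothAt Γ(Y, W) (hV.primeIdealOf ⟨x, hxV⟩).asIdeal := hs
  obtain ⟨r, hr, hstd⟩ := Algebra.IsSmoothAt.exists_notMem_isStandardSmooth Γ(Y, W)
    (hV.primeIdealOf ⟨x, hxV⟩).asIdeal
  obtain ⟨m, g, hgC, hge⟩ := RingHom.IsStandardSmooth.exists_etale_mvPolynomial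
    (f := algebraMap Γ(Y, W) (Localization.Away r)) (by simpa [RingHom.isStandardSmooth_algebraMap])
  let a := CommRingCat.ofHom (algebraMap Γ(X, V) (Localization.Away r))
  refine ⟨Γ(Y, W), CommRingCat.of (Localization.Away r), hW.fromSpec, inferInstance,
    Spec.map a ≫ hV.fromSpec, inferInstance,
    CommRingCat.ofHom (algebraMap Γ(Y, W) (Localization.Away r)), m, g, ?_, ?_, hgC, hge⟩
  · obtain ⟨z, hz⟩ : hV.primeIdealOf ⟨x, hxV⟩ ∈ Set.range (Spec.map a) :=
      (PrimeSpectrum.localization_away_comap_range (Localization.Away r) r).symm.subset hr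
    exact ⟨z, (congrArg hV.fromSpec hz).trans (hV.fromSpec_primeIdealOf ⟨x, hxV⟩)⟩
  · rw [Category.assoc, ← hW.SpecMap_appLE_fromSpec f hV e, ← Category.assoc, ← Spec.map_comp]
    rfl

theorem shifted {U V : Scheme.{u}} {m : ℕ} (q : V ⟶ U) (σ : U ⟶ V) (hσ : σ ≫ q = 𝟙 U)
    (c : Fin m → Γ(V, ⊤)) (hc : Etale (Boot.coordHom q c)) :
    ∃ v : ULift.{u} (Fin m) → Γ(V, ⊤),
      Etale (AffineSpace.homOfVector q v) ∧ ∀ k, σ.appTop (v k) = 0 := by
  let I := ULift.{u} (Fin m)
  let π := 𝔸(I; U) ↘ U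
  let s : I → Γ(U, ⊤) := fun k => σ.appTop (c k.down)
  let τ : 𝔸(I; U) ⟶ 𝔸(I; U) :=
    AffineSpace.homOfVector π fun k => AffineSpace.coord U k - π.appTop (s k)
  let τ' : 𝔸(I; U) ⟶ 𝔸(I; U) :=
    AffineSpace.homOfVector π fun k => AffineSpace.coord U k + π.appTop (s k)
  have hπ : ∀ t : I → Γ(U, ⊤), ∀ w : I → Γ(𝔸(I; U), ⊤), ∀ k,
      (AffineSpace.homOfVector π w).appTop (π.appTop (t k)) = π.appTop (t k) := fun t w k => by
    rw [← CommRingCat.comp_apply, ← Scheme.Hom.comp_appTop, AffineSpace.homOfVector_over]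
  have h1 : τ ≫ τ' = 𝟙 _ := by
    apply AffineSpace.hom_ext
    · simp [τ, τ', π]
    · intro k
      simp only [τ, τ', Scheme.Hom.comp_appTop, CommRingCat.comp_apply, Scheme.Hom.id_appTop,
        AffineSpace.homOfVector_appTop_coord, map_add]
      rw [hπ]
      simp
  have h2 : τ' ≫ τ = 𝟙 _ := by
    apply AffineSpace.hom_ext
    · simp [τ, τ', π]
    · intro k
      simp only [τ, τ', Scheme.Hom.comp_appTop, CommRingCat.comp_apply, Scheme.Hom.id_appTop,
        AffineSpace.homOfVector_appTop_coord, map_sub]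
      rw [hπ]
      simp
  haveI : IsIso τ := ⟨τ', h1, h2⟩
  refine ⟨fun k => c k.down - q.appTop (s k), ?_, fun k => ?_⟩
  · have key : ∀ (w : I → Γ(V, ⊤)) (t : Γ(U, ⊤)),
        (AffineSpace.homOfVector q w).appTop ((𝔸(I; U) ↘ U).appTop t) = q.appTop t := fun w t => by
      rw [← CommRingCat.comp_apply, ← Scheme.Hom.comp_appTop, AffineSpace.homOfVector_over]
    have e : AffineSpace.homOfVector q (fun k => c k.down - q.appTop (s k)) =
        Boot.coordHom q c ≫ τ := by
      apply AffineSpace.hom_ext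
      · simp [τ, π, Boot.coordHom]
      · intro k
        simp only [τ, π, Boot.coordHom, Scheme.Hom.comp_appTop, CommRingCat.comp_apply,
          AffineSpace.homOfVector_appTop_coord, map_sub]
        rw [key]
    rw [e]
    infer_instance
  · rw [map_sub, ← CommRingCat.comp_apply q.appTop, ← Scheme.Hom.comp_appTop, hσ]
    simp [s]

open AlgebraicGeometry CategoryTheory CategoryTheory.Limits in
/-- Let Y be locally Noetherian, f : X -> Y locally of finite type, i a section of f and y a point of Y.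
Then X is smooth over Y at i(y) (i(y) lies in the smooth locus of f) if and only if there are an
open neighbourhood U of y, an open V of X with i(U) ⊆ V ⊆ f^{-1}(U), and finitely many sections of
O_X over V, all vanishing along i(U), which define an etale U-morphism from V to an affine space
over U (so that this etale chart carries the section to the zero section). -/
theorem result {X Y : Scheme.{u}} [IsLocallyNoetherian Y] (f : X ⟶ Y)
    [LocallyOfFiniteType f] [LocallyOfFinitePresentation f] (i : Y ⟶ X) (hi : i ≫ f = 𝟙 Y) (y : Y) :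
    i.base y ∈ f.smoothLocus ↔
      ∃ (U : Y.Opens) (V : X.Opens) (_ : y ∈ U) (hUV : U ≤ i ⁻¹ᵁ V) (hVU : V ≤ f ⁻¹ᵁ U) (m : ℕ)
        (v : ULift.{u} (Fin m) → Γ(V, ⊤)),
        Etale (AffineSpace.homOfVector (f.resLE U V hVU) v) ∧ ∀ j, (i.resLE V U hUV).appTop (v j) = 0 := by
  constructor
  · intro hx
    obtain ⟨A, B, j, hj, ι, hι, φ, m, g, hxi, hfj, hgC, hge⟩ := exists_chart f (i y) hx
    let U : Y.Opens := i ⁻¹ᵁ ι.opensRange
    let V : X.Opens := ι.opensRange ⊓ f ⁻¹ᵁ U
    have hfi : ∀ z, f (i z) = z := fun z => by rw [← Scheme.Hom.comp_apply, hi]; rfl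
    have hUV : U ≤ i ⁻¹ᵁ V := fun z hz => ⟨hz, show f (i z) ∈ U by rw [hfi]; exact hz⟩
    let q := f.resLE U V inf_le_right
    let σ := i.resLE V U hUV
    have hσ : σ ≫ q = 𝟙 _ := by
      rw [← cancel_mono U.ι]
      simp [σ, q, hi]
    let l : (V : Scheme) ⟶ Spec B := IsOpenImmersion.lift ι V.ι (by
      rw [Scheme.Opens.range_ι]
      exact fun z hz => hz.1)
    have hl : l ≫ ι = V.ι := IsOpenImmersion.lift_fac _ _ _
    haveI : IsOpenImmersion (l ≫ ι) := by rw [hl]; infer_instance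
    haveI : IsOpenImmersion l := IsOpenImmersion.of_comp l ι
    let b : Fin m → Γ(Spec B, ⊤) := fun k => (Scheme.ΓSpecIso B).inv (g (MvPolynomial.X k))
    haveI := etale_coordHom_Spec φ g hgC hge
    haveI := Boot.isOpenImmersion_affineSpaceMap (ULift.{u} (Fin m)) j
    haveI := Boot.isOpenImmersion_affineSpaceMap (ULift.{u} (Fin m)) U.ι
    have hc : Etale (Boot.coordHom q fun k => l.appTop (b k)) := by
      haveI : Etale (Boot.coordHom q (fun k => l.appTop (b k)) ≫ AffineSpace.map _ U.ι) := by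
        have e : Boot.coordHom q (fun k => l.appTop (b k)) ≫ AffineSpace.map _ U.ι =
            l ≫ Boot.coordHom (Spec.map φ) b ≫ AffineSpace.map _ j := by
          rw [Boot.coordHom_map, Boot.coordHom_map, Boot.comp_coordHom, ← hfj, reassoc_of% hl,
            Scheme.Hom.resLE_comp_ι]
        rw [e]
        infer_instance
      exact Etale.of_comp _ (AffineSpace.map _ U.ι)
    obtain ⟨v, hv, hv0⟩ := shifted q σ hσ _ hc
    exact ⟨U, V, hxi, hUV, inf_le_right, m, v, hv, hv0⟩
  · rintro ⟨U, V, hyU, hUV, hVU, m, v, hv, -⟩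
    haveI := hv
    haveI := smooth_affineSpace (ULift.{u} (Fin m)) U
    haveI : Smooth (f.resLE U V hVU) := by
      rw [← AffineSpace.homOfVector_over (f.resLE U V hVU) v]
      infer_instance
    haveI : Smooth (V.ι ≫ f) := by
      rw [← Scheme.Hom.resLE_comp_ι f hVU]
      infer_instance
    have h := (V.ι ≫ f).smoothLocus_eq_top.ge (TopologicalSpace.Opens.mem_top
      (⟨i y, hUV hyU⟩ : (V : Scheme)))
    rw [Scheme.Hom.mem_smoothLocus, Scheme.Hom.stalkMap_comp] at h
    exact (RingHom.FormallySmooth.respectsIso.cancel_right_isIso _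
      (V.ι.stalkMap (⟨i y, hUV hyU⟩ : (V : Scheme)))).1 h

end Groth.Agent.S3713
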