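import Groth.Statements.S3718
import Groth.Agent.AbVarLib.MulIsogeny
import Groth.Agent.AlgGrpLib.TorsorNormRel
import Groth.Agent.FEtStein.Homotopy

set_option linter.style.haveILetI false
-- import your own Groth.Agent.* helpers here

set_option autoImplicit false
universe u
open CategoryTheory MonoidalCategory CartesianMonoidalCategory MonObj GrpObj AlgebraicGeometry
open Pi1

namespace Groth.Agent.S3718

/-- The covers that compute the prime-to-p part of the fundamental group of an abelian variety: let k be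
algebraically closed, A an abelian variety over k (a proper, geometrically integral group scheme
over k) and n ≥ 1 an integer invertible in k. Granted that multiplication by n (the n-th power of
the identity in the group Hom(A, A)) is a finite etale cover of A, it is a Galois cover, and its
automorphisms over A are exactly the translations x -> x + a by the k-points a of A with n a = 0,
each such a giving exactly one automorphism. (With the domination row this identifies the maximal
prime-to-p quotient of the fundamental group with the inverse limit of the prime-to-p torsion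
points.) -/
theorem result (k : Type u) [Field k] [IsAlgClosed k]
    (A : Over (Spec (CommRingCat.of k))) [GrpObj A] [IsProper A.hom] [GeometricallyIntegral A.hom]
    (n : ℕ) (hn1 : 1 ≤ n) (hn : IsUnit ((n : ℕ) : k)) :
    ∀ [hF : IsFinite ((𝟙 A) ^ (n : ℤ)).left] [hE : Etale ((𝟙 A) ^ (n : ℤ)).left],
      PiSp.IsGaloisCover (MorphismProperty.Over.mk ⊤ ((𝟙 A) ^ (n : ℤ)).left ⟨hF, hE⟩ : FEt.Cat A.left) ∧
      (∀ θ : Aut (MorphismProperty.Over.mk ⊤ ((𝟙 A) ^ (n : ℤ)).left ⟨hF, hE⟩ : FEt.Cat A.left),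
        ∃! a : 𝟙_ (Over (Spec (CommRingCat.of k))) ⟶ A, a ^ (n : ℤ) = 1 ∧
          θ.hom.left = ((𝟙 A) * (toUnit A ≫ a)).left) ∧
      (∀ a : 𝟙_ (Over (Spec (CommRingCat.of k))) ⟶ A, a ^ (n : ℤ) = 1 →
        ∃ θ : Aut (MorphismProperty.Over.mk ⊤ ((𝟙 A) ^ (n : ℤ)).left ⟨hF, hE⟩ : FEt.Cat A.left),
          θ.hom.left = ((𝟙 A) * (toUnit A ≫ a)).left) := by
  intro hF hE
  haveI : IsIntegral A.left := GeometricallyIntegral.isIntegral_of_subsingleton A.hom
  haveI : LocallyOfFinitePresentation A.hom :=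
    LocallyOfFinitePresentation.iff_locallyOfFiniteType.2 inferInstance
  haveI : Smooth A.hom := AbVarLib.smooth_of_geometricallyReduced A
  haveI := AlgGrpLib.TorsorNormRel.isCommMonObj_abelianVariety A
  let N : A ⟶ A := (𝟙 A) ^ (n : ℤ)
  have hN : ∀ {W : Over (Spec (CommRingCat.of k))} (w : W ⟶ A), w ≫ N = w ^ (n : ℤ) := fun w => by
    rw [GrpObj.comp_zpow, Category.comp_id]
  have hconst : ∀ {W : Over (Spec (CommRingCat.of k))} [ConnectedSpace ↥W.left] (w : W ⟶ A),
      w ^ (n : ℤ) = 1 → ∃ c : 𝟙_ (Over (Spec (CommRingCat.of k))) ⟶ A, c ^ (n : ℤ) = 1 ∧ w = toUnit W ≫ c := by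
    intro W _ w hw
    let p := Limits.pullback.snd N.left η[A].left
    haveI : IsFinite p := inferInstanceAs (IsFinite (Limits.pullback.snd ((𝟙 A) ^ (n : ℤ)).left η[A].left))
    haveI : Etale p := inferInstanceAs (Etale (Limits.pullback.snd ((𝟙 A) ^ (n : ℤ)).left η[A].left))
    have h1 : w.left ≫ N.left = (toUnit W).left ≫ η[A].left := by
      rw [← Over.comp_left, ← Over.comp_left, hN, hw, Hom.one_def]
    obtain ⟨c, hc, hcw⟩ := FEtStein.exists_section_of_connected p (Limits.pullback.lift w.left (toUnit W).left h1)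
    let c' : 𝟙_ (Over (Spec (CommRingCat.of k))) ⟶ A := Over.homMk (c ≫ Limits.pullback.fst N.left η[A].left) (by
      rw [Category.assoc, ← Over.w N, Limits.pullback.condition_assoc, reassoc_of% hc, Over.w η[A]])
    refine ⟨c', ?_, Over.OverMorphism.ext ?_⟩
    · rw [← hN, Hom.one_def, toUnit_unique (toUnit (𝟙_ (Over (Spec (CommRingCat.of k))))) (𝟙 _), Category.id_comp]
      refine Over.OverMorphism.ext ?_
      show (c ≫ Limits.pullback.fst N.left η[A].left) ≫ N.left = η[A].left
      rw [Category.assoc, Limits.pullback.condition, reassoc_of% hc]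
    · have h2 := congrArg (· ≫ Limits.pullback.fst N.left η[A].left) hcw
      simp only [Limits.pullback.lift_fst, Category.assoc] at h2
      rw [h2]
      show _ = (toUnit W).left ≫ c ≫ Limits.pullback.fst N.left η[A].left
      rw [← Category.assoc, Limits.pullback.lift_snd]
  let tr : (𝟙_ (Over (Spec (CommRingCat.of k))) ⟶ A) → (A ⟶ A) := fun a => (𝟙 A) * (toUnit A ≫ a)
  have htr : ∀ {W : Over (Spec (CommRingCat.of k))} (w : W ⟶ A) (a : 𝟙_ (Over (Spec (CommRingCat.of k))) ⟶ A),
      w ≫ tr a = w * (toUnit W ≫ a) := fun w a => by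
    rw [MonObj.comp_mul, Category.comp_id, ← Category.assoc, comp_toUnit]
  have htrN : ∀ a, a ^ (n : ℤ) = 1 → tr a ≫ N = N := fun a ha => by
    rw [hN, mul_zpow, ← GrpObj.comp_zpow, ha, MonObj.comp_one, _root_.mul_one]
  let Z : FEt.Cat A.left := MorphismProperty.Over.mk ⊤ ((𝟙 A) ^ (n : ℤ)).left ⟨hF, hE⟩
  have mkAut : ∀ a, a ^ (n : ℤ) = 1 → ∃ θ : Aut Z, θ.hom.left = (tr a).left := by
    intro a ha
    have hinv : ∀ b b' : 𝟙_ (Over (Spec (CommRingCat.of k))) ⟶ A, b * b' = 1 → tr b ≫ tr b' = 𝟙 A := fun b b' h => by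
      rw [htr, _root_.mul_assoc, ← MonObj.comp_mul, h, MonObj.comp_one, _root_.mul_one]
    have ha' : a⁻¹ ^ (n : ℤ) = 1 := by rw [inv_zpow, ha, _root_.inv_one]
    refine ⟨⟨MorphismProperty.Over.homMk (tr a).left (congrArg CommaMorphism.left (htrN a ha)),
      MorphismProperty.Over.homMk (tr a⁻¹).left (congrArg CommaMorphism.left (htrN _ ha')), ?_, ?_⟩, rfl⟩
    · refine MorphismProperty.Over.Hom.ext ?_
      show (tr a).left ≫ (tr a⁻¹).left = 𝟙 A.left
      rw [← Over.comp_left, hinv a a⁻¹ (mul_inv_cancel a)]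
      rfl
    · refine MorphismProperty.Over.Hom.ext ?_
      show (tr a⁻¹).left ≫ (tr a).left = 𝟙 A.left
      rw [← Over.comp_left, hinv a⁻¹ a (inv_mul_cancel a)]
      rfl
  refine ⟨⟨inferInstanceAs (ConnectedSpace ↥A.left), fun Ω _ _ ξ s t => ?_⟩, fun θ => ?_, mkAut⟩
  · let W : Over (Spec (CommRingCat.of k)) := Over.mk (ξ ≫ A.hom)
    haveI : ConnectedSpace ↥W.left := inferInstanceAs (ConnectedSpace (PrimeSpectrum Ω))
    let pt : FEt.fiberObj ξ Z → (W ⟶ A) := fun r => Over.homMk r.1 (by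
      show r.1 ≫ A.hom = ξ ≫ A.hom
      exact (((congrArg (· ≫ A.hom) r.2).symm.trans (Category.assoc _ _ _)).trans
        (congrArg (r.1 ≫ ·) (Over.w ((𝟙 A) ^ (n : ℤ))))).symm)
    have hpt : ∀ r, (pt r) ^ (n : ℤ) = Over.homMk ξ rfl := fun r => by
      rw [← hN]; exact Over.OverMorphism.ext r.2
    obtain ⟨c, hc, hcw⟩ := hconst ((pt s)⁻¹ * pt t) (by rw [mul_zpow, inv_zpow, hpt, hpt, inv_mul_cancel])
    obtain ⟨θ, hθ⟩ := mkAut c hc
    refine ⟨θ, Subtype.ext ?_⟩
    show s.1 ≫ θ.hom.left = t.1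
    rw [hθ]
    have h : pt s ≫ tr c = pt t := by rw [htr, ← hcw, mul_inv_cancel_left]
    exact congrArg CommaMorphism.left h
  · have hw : θ.hom.left ≫ N.left = N.left := MorphismProperty.Over.w θ.hom
    let θ' : A ⟶ A := Over.homMk θ.hom.left (by
      have h := congrArg (· ≫ A.hom) hw
      exact (congrArg (θ.hom.left ≫ ·) (Over.w N)).symm.trans ((Category.assoc _ _ _).symm.trans (h.trans (Over.w N))))
    have hθ : θ' ≫ N = N := Over.OverMorphism.ext hw
    rw [hN] at hθ
    obtain ⟨a, ha, haw⟩ := hconst ((𝟙 A)⁻¹ * θ') (by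
      rw [mul_zpow, inv_zpow, hθ, inv_mul_cancel])
    refine ⟨a, ⟨ha, ?_⟩, fun b hb => ?_⟩
    · show θ.hom.left = (tr a).left
      have h : θ' = tr a := by
        show θ' = 𝟙 A * (toUnit A ≫ a)
        rw [← haw, mul_inv_cancel_left]
      exact congrArg CommaMorphism.left h
    · have h : θ' = tr b := Over.OverMorphism.ext hb.2
      have h2 : toUnit A ≫ b = toUnit A ≫ a := by rw [← haw, h, inv_mul_cancel_left]
      have h3 := congrArg (η[A] ≫ ·) h2
      simpa only [← Category.assoc, toUnit_unique (η[A] ≫ toUnit A) (𝟙 _), Category.id_comp] using h3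

end Groth.Agent.S3718
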