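import Groth.Statements.S3719
import Groth.Agent.CommAlg4.ComplAffineIrred
import Groth.Agent.CommAlg6.DimMaps
import Groth.Agent.Coherent.SteinFibre
import Groth.Agent.Coherent.ProjSpaceFinite
import Groth.Agent.FEtFF.Normal
import Groth.Agent.NeronLib.NormalSmooth
-- import your own Groth.Agent.* helpers here

set_option autoImplicit false
universe u
open Pi1

namespace Groth.Agent.S3719

open AlgebraicGeometry CategoryTheory CategoryTheory.Limits in
/-- Let k be algebraically closed, X a proper, irreducible, normal k-scheme, g : X -> P^r_k a k-morphism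
whose image has closure of dimension at least 2, H the hyperplane where a nonzero linear form ℓ
vanishes, and X' a connected finite etale cover of X. Then the inverse image of H in X' is
connected. (For X' = X this is the connectedness of the hyperplane section Y = g⁻¹(H), and the
general case is the surjectivity of the fundamental group of Y onto that of X.) -/
theorem result (k : Type u) [Field k] [IsAlgClosed k] (X : Scheme.{u})
    [X.Over (Spec (CommRingCat.of k))] [IsProper (X ↘ Spec (CommRingCat.of k))] [IrreducibleSpace X]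
    (hN : Pi1.IsNormalScheme X) (r : ℕ) (g : X ⟶ CohB1.ProjSpace r k)
    (hg : g ≫ CohB1.ProjSpace.toSpec r k = X ↘ Spec (CommRingCat.of k))
    (hdim : 2 ≤ topologicalKrullDim ↥(closure (Set.range g.base)))
    (ℓ : MvPolynomial (Fin (r + 1)) k) (hℓ : ℓ ∈ CohB1.polyGrading r k 1) (hℓ0 : ℓ ≠ 0)
    (X' : FEt.Cat X) [ConnectedSpace X'.left] :
    IsConnected (((X'.hom ≫ g).base ⁻¹' (Proj.basicOpen (CohB1.polyGrading r k) ℓ).carrier)ᶜ) := by
  haveI : IsReduced X := Groth.Agent.NeronLib.isReduced_of_normal hN
  haveI : AlgebraicGeometry.IsIntegral X := isIntegral_of_irreducibleSpace_of_isReduced _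
  let h : X'.left ⟶ X := X'.hom
  haveI : IsFinite h := X'.prop.1
  haveI : Etale h := X'.prop.2
  haveI : AlgebraicGeometry.IsIntegral X'.left := (Groth.Agent.FEtFF.isIntegral_and_normal hN h).1
  let P := CohB1.ProjSpace r k
  haveI : IsProper (CohB1.ProjSpace.toSpec r k) := Groth.Agent.Coherent.isProper_projSpace_toSpec (n := r) (R := k)
  haveI : IsLocallyNoetherian P := LocallyOfFiniteType.isLocallyNoetherian (CohB1.ProjSpace.toSpec r k)
  haveI : IsProper (g ≫ CohB1.ProjSpace.toSpec r k) := by rw [hg]; infer_instance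
  haveI : IsProper g := IsProper.of_comp g (CohB1.ProjSpace.toSpec r k)
  let f : X'.left ⟶ P := h ≫ g
  haveI : IsProper f := inferInstance
  let Z := f.normalization
  haveI : IsFinite f.fromNormalization := Groth.Agent.Coherent.isFinite_fromNormalization_of_isProper f
  haveI : IsProper f.toNormalization := Groth.Agent.Coherent.isProper_toNormalization f
  have hsurj := Groth.Agent.Coherent.surjective_toNormalization f
  haveI : IrreducibleSpace Z := by
    have h1 := (IrreducibleSpace.isIrreducible_univ X'.left).image _ f.toNormalization.continuous.continuousOn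
    rw [Set.image_univ, hsurj.range_eq] at h1
    exact (irreducibleSpace_def _).2 h1
  have hrange : Set.range h = Set.univ :=
    IsClopen.eq_univ ⟨h.isClosedMap.isClosed_range, h.isOpenMap.isOpen_range⟩ (Set.range_nonempty _)
  have hgclosed : IsClosed (Set.range g.base) := g.isClosedMap.isClosed_range
  rw [hgclosed.closure_eq] at hdim
  let q : Z → ↥(Set.range g.base) := fun z => ⟨f.fromNormalization z, by
    obtain ⟨y, rfl⟩ := hsurj z
    rw [← Scheme.Hom.comp_apply, f.toNormalization_fromNormalization]
    exact ⟨h y, rfl⟩⟩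
  have hq : Function.Surjective q := by
    rintro ⟨_, x, rfl⟩
    obtain ⟨y, rfl⟩ : x ∈ Set.range h := by rw [hrange]; trivial
    refine ⟨f.toNormalization y, Subtype.ext ?_⟩
    show f.fromNormalization (f.toNormalization y) = _
    rw [← Scheme.Hom.comp_apply, f.toNormalization_fromNormalization]
    rfl
  have hqclosed : IsClosedMap q := f.fromNormalization.isClosedMap.codRestrict _
  have hqc : Continuous q := f.fromNormalization.continuous.subtype_mk _
  haveI := hgclosed.isClosedEmbedding_subtypeVal.quasiSober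
  have hdimZ : (2 : WithBot ℕ∞) ≤ topologicalKrullDim Z :=
    hdim.trans (Groth.Agent.CommAlg6.topologicalKrullDim_le_of_specializingMap hq hqclosed.specializingMap)
  let πZ : Z ⟶ Spec (CommRingCat.of k) := f.fromNormalization ≫ CohB1.ProjSpace.toSpec r k
  haveI : IsProper πZ := inferInstance
  let D : P.Opens := Proj.basicOpen (CohB1.polyGrading r k) ℓ
  have hD : IsAffineOpen D := Proj.isAffineOpen_basicOpen _ ℓ hℓ Nat.one_pos
  let U : Z.Opens := f.fromNormalization ⁻¹ᵁ D
  have hU : IsAffineOpen U := hD.preimage f.fromNormalization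
  have hconn : _root_.IsConnected ((U : Set Z)ᶜ) := by
    rcases Set.eq_empty_or_nonempty (U : Set Z) with he | he
    · rw [he, Set.compl_empty]
      exact (IrreducibleSpace.isIrreducible_univ Z).isConnected
    · exact Groth.Agent.CommAlg4.isConnected_compl_affine πZ hU he hdimZ
  have hset : ((X'.hom ≫ g).base ⁻¹' (Proj.basicOpen (CohB1.polyGrading r k) ℓ).carrier)ᶜ = f.toNormalization ⁻¹' (U : Set Z)ᶜ := by
    ext y
    show ¬ (f y ∈ D) ↔ ¬ (f.fromNormalization (f.toNormalization y) ∈ D)
    rw [← Scheme.Hom.comp_apply, f.toNormalization_fromNormalization]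
  rw [hset]
  refine ⟨?_, isPreconnected_closed_iff.2 fun A B hA hB hcov hAne hBne => ?_⟩
  · obtain ⟨z, hz⟩ := hconn.nonempty
    obtain ⟨y, rfl⟩ := hsurj z
    exact ⟨y, hz⟩
  · obtain ⟨z, hzU, ⟨a, haA, rfl⟩, ⟨b, hbB, hb⟩⟩ := isPreconnected_closed_iff.1 hconn.isPreconnected
      (f.toNormalization '' A) (f.toNormalization '' B) (f.toNormalization.isClosedMap _ hA) (f.toNormalization.isClosedMap _ hB)
      (fun z hz => by
        obtain ⟨y, rfl⟩ := hsurj z
        exact (hcov hz).imp (fun h => ⟨y, h, rfl⟩) (fun h => ⟨y, h, rfl⟩))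
      (by obtain ⟨y, hy, hyA⟩ := hAne; exact ⟨_, hy, y, hyA, rfl⟩)
      (by obtain ⟨y, hy, hyB⟩ := hBne; exact ⟨_, hy, y, hyB, rfl⟩)
    have hfib := Groth.Agent.Coherent.isPreconnected_preimage_toNormalization f (f.toNormalization a)
    have hmem : ∀ y ∈ f.toNormalization ⁻¹' {f.toNormalization a}, y ∈ f.toNormalization ⁻¹' (U : Set Z)ᶜ :=
      fun y hy => by rw [Set.mem_preimage, show f.toNormalization y = f.toNormalization a from hy]; exact hzU
    obtain ⟨y, hyf, hy⟩ := isPreconnected_closed_iff.1 hfib A B hA hB (fun y hy => hcov (hmem y hy))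
      ⟨a, rfl, haA⟩ ⟨b, hb, hbB⟩
    exact ⟨y, hmem y hyf, hy⟩

end Groth.Agent.S3719
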