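import Groth.Statements.S3720
import Groth.Agent.TorsorAlg.Cover

set_option linter.style.haveILetI false
-- import your own Groth.Agent.* helpers here

set_option autoImplicit false
open CategoryTheory CategoryTheory.Limits AlgebraicGeometry
universe u
open SGA1t

namespace Groth.Agent.S3720

/-- Kummer theory over a local ring: let A be a local ring, n ≥ 1 an integer invertible in A, and
suppose A contains a primitive n-th root of unity (so that the group μ_n(A) of n-th roots of unity
in A is cyclic of order n). Then every principal μ_n(A)-cover P of Spec A is isomorphic over Spec A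
to a Kummer cover Spec A[T]/(Tⁿ − a) for some unit a of A, compatibly with the actions: the given
action of a root of unity ζ on P corresponds to the automorphism of A[T]/(Tⁿ − a) induced by T ↦ ζT. -/
theorem result (A : Type u) [CommRing A] [IsLocalRing A] (n : ℕ) (hn1 : 1 ≤ n)
    (hn : IsUnit ((n : ℕ) : A)) (ζ₀ : A) (hζ₀ : IsPrimitiveRoot ζ₀ n)
    (P : FEt.Cat (Spec (CommRingCat.of A))) (ρ : ↥(rootsOfUnity n A) →* Aut P)
    (hP : SGA1t.IsPrincipal ↥(rootsOfUnity n A) P ρ) :
    ∃ (a : Aˣ) (e : P.left ≅ Spec (CommRingCat.of (SGA1t.kummer A (fun _ : Unit => (a : A)) (fun _ => n)))),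
      e.hom ≫ Spec.map (CommRingCat.ofHom (algebraMap A (SGA1t.kummer A (fun _ : Unit => (a : A)) (fun _ => n)))) = P.hom ∧
      ∀ ζ : ↥(rootsOfUnity n A), (ρ ζ).hom.left ≫ e.hom =
        e.hom ≫ Spec.map (CommRingCat.ofHom (SGA1t.kummerTwist A (fun _ : Unit => (a : A)) (fun _ => n) (fun _ => ζ))) := by
  classical
  haveI : NeZero n := ⟨by omega⟩
  let G := ↥(rootsOfUnity n A)
  let w : G → A := fun g => ((g : Aˣ) : A)
  have hw : ∀ g : G, w g ^ n = 1 := fun g => by
    have := congrArg Units.val ((mem_rootsOfUnity n (g : Aˣ)).1 g.2)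
    simpa [w] using this
  have hwmul : ∀ g k : G, w (g * k) = w g * w k := fun g k => Units.val_mul _ _
  have hwu : ∀ g, IsUnit (w g) := fun g => (g : Aˣ).isUnit
  have huniq : ∀ (K : Type u) [Field K] (r : A →+* K) (z : A), z ^ n = 1 → r z = 1 → z = 1 := by
    intro K _ r z hz hrz
    have h0 : (z - 1) * (∑ i ∈ Finset.range n, z ^ i) = 0 := by rw [mul_geom_sum, hz, sub_self]
    haveI : (RingHom.ker r).IsPrime := RingHom.ker_isPrime r
    have hu : IsUnit (∑ i ∈ Finset.range n, z ^ i) := by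
      by_contra hnu
      have h1 : z - 1 ∈ IsLocalRing.maximalIdeal A := IsLocalRing.le_maximalIdeal (Ideal.IsPrime.ne_top ‹_›)
        (by rw [RingHom.mem_ker, map_sub, hrz, map_one, sub_self])
      have h2 : IsLocalRing.residue A (∑ i ∈ Finset.range n, z ^ i) = 0 :=
        (IsLocalRing.residue_eq_zero_iff _).2 hnu
      have h3 : IsLocalRing.residue A z = 1 := by
        have := (IsLocalRing.residue_eq_zero_iff _).2 h1
        rwa [map_sub, map_one, sub_eq_zero] at this
      simp only [map_sum, map_pow, h3, one_pow, Finset.sum_const, Finset.card_range, nsmul_eq_mul, mul_one] at h2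
      rw [← map_natCast (IsLocalRing.residue A)] at h2
      exact (IsLocalRing.residue_eq_zero_iff _).1 h2 hn
    exact sub_eq_zero.1 (hu.mul_left_eq_zero.1 h0)
  let Ω₀ := AlgebraicClosure (IsLocalRing.ResidueField A)
  have hinj₀ : Function.Injective fun g : G => (⟨Units.map (algebraMap A Ω₀ : A →* Ω₀) (g : Aˣ),
      (mem_rootsOfUnity n _).2 (by rw [← map_pow, (mem_rootsOfUnity n (g : Aˣ)).1 g.2, map_one])⟩ :
        rootsOfUnity n Ω₀) := fun g k hgk => by
    have h1 : algebraMap A Ω₀ (w g) = algebraMap A Ω₀ (w k) := congrArg (fun z : rootsOfUnity n Ω₀ => ((z : Ω₀ˣ) : Ω₀)) hgk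
    have h2 : algebraMap A Ω₀ (w (g * k⁻¹)) = 1 := by
      rw [hwmul, map_mul, h1, ← map_mul, ← hwmul, mul_inv_cancel]
      exact map_one _
    exact mul_inv_eq_one.1 (Subtype.ext (Units.ext (huniq Ω₀ (algebraMap A Ω₀) _ (hw _) h2)))
  haveI : Finite ↥(rootsOfUnity n A) := Finite.of_injective _ hinj₀
  haveI : Fintype G := Fintype.ofFinite G
  obtain ⟨B, _, _, _, _, σ, e, hT, hmul, he, hρ⟩ := Groth.Agent.TorsorAlg.exists_algebra hP
  have hone : σ 1 = AlgHom.id A B := by
    refine AlgHom.ext fun b => ?_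
    obtain ⟨c, hc⟩ := hT.exists_sum_eq_one hmul
    have hσ1 : ∀ g b, σ g (σ 1 b) = σ g b := fun g b => by rw [← hmul, mul_one]
    have hbij : Function.Bijective (σ 1) := Groth.Agent.TorsorAlg.bijective_of_points (σ 1) fun Ω _ _ _ => by
      have hid : ∀ φ : B →ₐ[A] Ω, φ.comp (σ 1) = φ := fun φ => by
        obtain ⟨k, hk, -⟩ := hT.existsUnique Ω φ φ
        refine AlgHom.ext fun z => ?_
        conv_rhs => rw [← hk]
        show φ (σ 1 z) = φ (σ k z)
        conv_lhs => rw [← hk]
        exact congrArg φ (hσ1 k z)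
      simp only [hid]
      exact Function.bijective_id
    exact hbij.1 (hσ1 1 b)
  let m := IsLocalRing.maximalIdeal A
  obtain ⟨φ₀⟩ := hT.nonempty (AlgebraicClosure (IsLocalRing.ResidueField A))
  haveI : (RingHom.ker φ₀.toRingHom).IsPrime := RingHom.ker_isPrime _
  have hχ : ∀ g : G, w g⁻¹ * w g = 1 := fun g => by rw [← hwmul, inv_mul_cancel]; rfl
  obtain ⟨c, hc⟩ := hT.exists_notMem (fun g => w g⁻¹) 1 (hwu _) (RingHom.ker φ₀.toRingHom)
  let x : B := ∑ g : G, w g⁻¹ • σ g c
  have hσ : ∀ k : G, σ k x = algebraMap A B (w k) * x := by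
    intro k
    simp only [x, map_sum, map_smul, ← hmul, Finset.mul_sum]
    refine Fintype.sum_equiv (Equiv.mulLeft k) _ _ fun g => ?_
    simp only [Equiv.coe_mulLeft, Algebra.smul_def, ← mul_assoc, ← map_mul, ← hwmul]
    congr 3
    rw [mul_inv_rev, mul_comm g⁻¹, ← mul_assoc, mul_inv_cancel, one_mul]
  obtain ⟨a₀, ha⟩ : x ^ n ∈ Set.range (algebraMap A B) := hT.mem_range_of_fixed _ fun g => by
    rw [map_pow, hσ, mul_pow, ← map_pow, hw, map_one, one_mul]
  have hau : IsUnit a₀ := by
    by_contra h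
    refine hc ?_
    rw [RingHom.mem_ker]
    refine eq_zero_of_pow_eq_zero (n := n) ?_
    show φ₀ x ^ n = 0
    rw [← map_pow, ← ha, φ₀.commutes, IsScalarTower.algebraMap_apply A (IsLocalRing.ResidueField A)]
    rw [IsLocalRing.ResidueField.algebraMap_eq, (IsLocalRing.residue_eq_zero_iff _).2 h, map_zero]
  obtain ⟨a, rfl⟩ := hau
  let f : Polynomial A := Polynomial.X ^ n - Polynomial.C (a : A)
  have hfm : f.Monic := Polynomial.monic_X_pow_sub_C _ (NeZero.ne n)
  have hsep : f.Separable := Polynomial.separable_X_pow_sub_C_unit a hn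
  haveI : Module.Finite A (AdjoinRoot f) := hfm.finite_adjoinRoot
  haveI : Algebra.Etale A (AdjoinRoot f) := Groth.Agent.SmoothLib.etale_adjoinRoot_of_separable f hfm hsep
  let K := SGA1t.kummer A (fun _ : Unit => (a : A)) (fun _ => n)
  let T : K := Ideal.Quotient.mk _ (MvPolynomial.X ())
  have hroot : T ^ n = algebraMap A K a := by
    show (Ideal.Quotient.mk _ (MvPolynomial.X ())) ^ n = Ideal.Quotient.mk _ (MvPolynomial.C (a : A))
    rw [← map_pow, Ideal.Quotient.mk_eq_mk_iff_sub_mem]
    exact Ideal.subset_span ⟨(), rfl⟩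
  let e₁ : K →ₐ[A] AdjoinRoot f := Ideal.Quotient.liftₐ _ (MvPolynomial.aeval fun _ => AdjoinRoot.root f) fun q hq => by
    refine (Ideal.span_le (I := RingHom.ker (MvPolynomial.aeval (R := A) fun _ : Unit => AdjoinRoot.root f)) |>.2 ?_) hq
    rintro _ ⟨i, rfl⟩
    have h0 : Polynomial.aeval (AdjoinRoot.root f) f = 0 := by rw [AdjoinRoot.aeval_eq, AdjoinRoot.mk_self]
    simpa [f] using h0
  let e₂ : AdjoinRoot f →ₐ[A] K := AdjoinRoot.liftAlgHom f (Algebra.ofId A K) T (by
    simp [f, hroot, Algebra.ofId_apply])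
  have he₁T : e₁ T = AdjoinRoot.root f := MvPolynomial.aeval_X _ _
  have he₂ : e₂ (AdjoinRoot.root f) = T := AdjoinRoot.liftAlgHom_root _ _ _ _
  let ee : K ≃ₐ[A] AdjoinRoot f := AlgEquiv.ofAlgHom e₁ e₂ (AdjoinRoot.algHom_ext (by simp [he₁T, he₂]))
    (Ideal.Quotient.algHom_ext A (MvPolynomial.algHom_ext fun _ => by
      show e₂ (e₁ T) = T
      rw [he₁T, he₂]))
  haveI : Module.Finite A K := Module.Finite.equiv ee.toLinearEquiv.symm
  haveI : Algebra.Etale A K := Algebra.Etale.of_equiv ee.symm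
  let h₀ : AdjoinRoot f →ₐ[A] B := AdjoinRoot.liftAlgHom f (Algebra.ofId A B) x (by simp [f, ← ha])
  let h : K →ₐ[A] B := h₀.comp e₁
  have hhT : h T = x := by
    show h₀ (e₁ T) = x
    rw [he₁T]
    exact AdjoinRoot.liftAlgHom_root _ _ _ _
  have hKext : ∀ {D : Type u} [CommRing D] [Algebra A D] (φ ψ : K →ₐ[A] D), φ T = ψ T → φ = ψ := fun φ ψ hT' =>
    Ideal.Quotient.algHom_ext A (MvPolynomial.algHom_ext fun _ => hT')
  have hb' : Function.Bijective h := Groth.Agent.TorsorAlg.bijective_of_points h fun Ω _ _ _ => by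
    have hinj : Function.Injective fun g : G => algebraMap A Ω (w g) := fun g k hgk => by
      have h1 : algebraMap A Ω (w (g * k⁻¹)) = 1 := by
        rw [hwmul, map_mul, show algebraMap A Ω (w g) = algebraMap A Ω (w k) from hgk, ← map_mul, mul_comm, hχ, map_one]
      have h2 : g * k⁻¹ = 1 := Subtype.ext (Units.ext (huniq Ω (algebraMap A Ω) _ (hw _) h1))
      exact mul_inv_eq_one.1 h2
    have hx0 : ∀ φ : B →ₐ[A] Ω, φ x ≠ 0 := fun φ h0 => by
      have : φ (x ^ n) = 0 := by rw [map_pow, h0, zero_pow (NeZero.ne n)]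
      rw [← ha, φ.commutes] at this
      exact (a.isUnit.map (algebraMap A Ω)).ne_zero this
    have hev : ∀ (φ : B →ₐ[A] Ω) g, φ (σ g x) = algebraMap A Ω (w g) * φ x := fun φ g => by
      rw [hσ, map_mul, φ.commutes]
    refine ⟨fun φ ψ hφψ => ?_, fun θ => ?_⟩
    · have e1 : φ x = ψ x := by rw [← hhT]; exact DFunLike.congr_fun hφψ T
      obtain ⟨g, hg, -⟩ := hT.existsUnique Ω φ ψ
      have e2 := hev φ g
      rw [show φ (σ g x) = ψ x from DFunLike.congr_fun hg x, ← e1] at e2
      obtain rfl : g = 1 := hinj (by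
        show algebraMap A Ω (w g) = algebraMap A Ω (w 1)
        rw [show w 1 = 1 from rfl, map_one]
        exact (mul_eq_right₀ (hx0 φ)).1 e2.symm)
      rw [← hg, hone, AlgHom.comp_id]
    · obtain ⟨φ⟩ := hT.nonempty Ω
      have hy : θ T ^ n = algebraMap A Ω a := by rw [← map_pow, hroot, θ.commutes]
      have hd : (θ T / φ x) ^ n = 1 := by
        rw [div_pow, hy, ← map_pow, ← ha, φ.commutes, div_self (a.isUnit.map (algebraMap A Ω)).ne_zero]
      have hcardG : n ≤ Fintype.card G := by
        let u : G := rootsOfUnity.mkOfPowEq ζ₀ hζ₀.pow_eq_one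
        refine le_trans (le_of_eq ?_) (Finset.card_le_univ ((Finset.range n).image fun i => u ^ i))
        rw [Finset.card_image_of_injOn, Finset.card_range]
        intro i hi j hj hij
        refine hζ₀.pow_inj (Finset.mem_range.1 hi) (Finset.mem_range.1 hj) ?_
        have hpow : ∀ k : ℕ, w (u ^ k) = ζ₀ ^ k := fun k => by
          induction k with
          | zero => rw [pow_zero, pow_zero]; rfl
          | succ k ih => rw [pow_succ, pow_succ, hwmul, ih]; rfl
        rw [← hpow, ← hpow]
        exact congrArg w hij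
      let S := (Finset.univ : Finset G).image fun g => algebraMap A Ω (w g)
      have hle : S ⊆ Polynomial.nthRootsFinset n (1 : Ω) := fun z hz => by
        obtain ⟨g, -, rfl⟩ := Finset.mem_image.1 hz
        rw [Polynomial.mem_nthRootsFinset (NeZero.pos n), ← map_pow, hw, map_one]
      have hcard : (Polynomial.nthRootsFinset n (1 : Ω)).card ≤ S.card := by
        rw [Finset.card_image_of_injective _ hinj, Finset.card_univ, Polynomial.nthRootsFinset_def]
        exact ((Multiset.toFinset_card_le _).trans (Polynomial.card_nthRoots n 1)).trans hcardG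
      have hmem : θ T / φ x ∈ S := by
        rw [Finset.eq_of_subset_of_card_le hle hcard, Polynomial.mem_nthRootsFinset (NeZero.pos n)]
        exact hd
      obtain ⟨g, -, hg⟩ := Finset.mem_image.1 hmem
      refine ⟨φ.comp (σ g), hKext _ _ ?_⟩
      show φ (σ g (h T)) = θ T
      rw [hhT, hev, hg, div_mul_cancel₀ _ (hx0 φ)]
  obtain ⟨e', he', ht⟩ := Groth.Agent.TorsorAlg.exists_iso_of_bijective (ρ := fun g => (ρ g).hom) (σ := σ) he hρ h hb'
  refine ⟨a, e', he', fun ζ => ht ζ _ fun z => ?_⟩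
  obtain ⟨q, rfl⟩ := Ideal.Quotient.mk_surjective z
  show σ ζ (h (Ideal.Quotient.mk _ q)) =
    h (Ideal.Quotient.mk _ (MvPolynomial.aeval (R := A) (fun _ : Unit => MvPolynomial.C (w ζ) * MvPolynomial.X ()) q))
  have hmk : ∀ r, h (Ideal.Quotient.mk _ r) = MvPolynomial.aeval (fun _ => x) r := fun r => by
    have : h.comp (Ideal.Quotient.mkₐ A _) = MvPolynomial.aeval fun _ : Unit => x :=
      MvPolynomial.algHom_ext fun _ => by rw [MvPolynomial.aeval_X]; exact hhT
    exact DFunLike.congr_fun this r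
  rw [hmk, hmk]
  have : (σ ζ).comp (MvPolynomial.aeval fun _ : Unit => x) = (MvPolynomial.aeval fun _ : Unit => x).comp
      (MvPolynomial.aeval (R := A) fun _ : Unit => MvPolynomial.C (w ζ) * MvPolynomial.X ()) :=
    MvPolynomial.algHom_ext fun _ => by simp [hσ, MvPolynomial.algebraMap_eq]
  exact DFunLike.congr_fun this q

end Groth.Agent.S3720
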