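import Groth.Statements.S3721
import Groth.Agent.TorsorAlg.Cover

set_option linter.style.haveILetI false
-- import your own Groth.Agent.* helpers here

set_option autoImplicit false
open CategoryTheory CategoryTheory.Limits AlgebraicGeometry
universe u
open SGA1t

namespace Groth.Agent.S3721

/-- Let p be a prime and A a commutative ring of characteristic p. Then every principal ℤ/p-cover P of
Spec A (a finite étale cover with an action of ℤ/p making it a torsor) is isomorphic over Spec A to
an Artin–Schreier cover Spec A[T]/(T^p − T − a) for some a ∈ A, compatibly with the actions: under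
the isomorphism the given action of j ∈ ℤ/p on P corresponds to the automorphism of the
Artin–Schreier cover induced by T ↦ T + j. The published statement is for any base S of
characteristic p on which Frobenius fixes no nonzero element of H¹(S, O_S); it is stated here for S
= Spec A affine. -/
theorem result (A : Type u) [CommRing A] (p : ℕ) [Fact p.Prime] [CharP A p]
    (P : FEt.Cat (Spec (CommRingCat.of A))) (ρ : Multiplicative (ZMod p) →* Aut P)
    (hP : SGA1t.IsPrincipal (Multiplicative (ZMod p)) P ρ) :
    ∃ (a : A) (e : P.left ≅ Spec (CommRingCat.of (SGA1t.artinSchreier A p a))),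
      e.hom ≫ Spec.map (CommRingCat.ofHom (algebraMap A (SGA1t.artinSchreier A p a))) = P.hom ∧
      ∀ j : ZMod p, (ρ (Multiplicative.ofAdd j)).hom.left ≫ e.hom =
        e.hom ≫ Spec.map (CommRingCat.ofHom (SGA1t.artinSchreierShift A p a j)) := by
  classical
  have hp : p.Prime := Fact.out
  obtain ⟨B, _, _, _, _, σ, e, hT, hmul, he, hρ⟩ := Groth.Agent.TorsorAlg.exists_algebra hP
  obtain ⟨c, hc⟩ := hT.exists_sum_eq_one hmul
  let χ : ZMod p →+* A := ZMod.castHom (dvd_refl p) A
  let x : B := -∑ g : Multiplicative (ZMod p), χ g.toAdd • σ g c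
  have hσ : ∀ j : ZMod p, σ (Multiplicative.ofAdd j) x = x + algebraMap A B (χ j) := by
    intro j
    have h1 : σ (Multiplicative.ofAdd j) x = -∑ g : Multiplicative (ZMod p), (χ (g.toAdd - j)) • σ g c := by
      simp only [x, map_neg, map_sum, map_smul, ← hmul]
      refine congrArg Neg.neg ?_
      refine Fintype.sum_equiv (Equiv.mulLeft (Multiplicative.ofAdd j)) _ _ fun g => ?_
      simp [Equiv.coe_mulLeft, toAdd_mul]
    rw [h1]
    simp only [map_sub, sub_smul, Finset.sum_sub_distrib, ← Finset.smul_sum, hc, x]
    rw [Algebra.smul_def, mul_one]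
    ring
  have hb : ∀ j : ZMod p, χ j ^ p = χ j := fun j => by rw [← map_pow, ZMod.pow_card]
  obtain ⟨a, ha⟩ : x ^ p - x ∈ Set.range (algebraMap A B) := hT.mem_range_of_fixed _ fun g => by
    obtain ⟨j, rfl⟩ := Multiplicative.ofAdd.surjective g
    rw [map_sub, map_pow, hσ]
    rcases subsingleton_or_nontrivial B with hB | hB
    · exact Subsingleton.elim _ _
    haveI : CharP B p := (CharP.charP_iff_prime_eq_zero hp).2 (by
      rw [← map_natCast (algebraMap A B), CharP.cast_eq_zero A p, map_zero])
    rw [add_pow_char x (algebraMap A B (χ j)) p, ← map_pow, hb]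
    ring
  haveI : Nontrivial A := CharP.nontrivial_of_char_ne_one (R := A) hp.ne_one
  let f : Polynomial A := Polynomial.X ^ p - Polynomial.X - Polynomial.C a
  have hf : f = Polynomial.X ^ p - (Polynomial.X + Polynomial.C a) := sub_sub _ _ _
  have hfm : f.Monic := by
    rw [hf]
    exact Polynomial.monic_X_pow_sub (by rw [Polynomial.degree_X_add_C]; exact_mod_cast hp.one_lt)
  have hsep : f.Separable := by
    have hd : Polynomial.derivative f = -1 := by
      simp [f, Polynomial.derivative_X_pow, CharP.cast_eq_zero A p]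
    rw [Polynomial.separable_def, hd]
    exact isCoprime_one_right.neg_right
  haveI : Module.Finite A (AdjoinRoot f) := hfm.finite_adjoinRoot
  haveI : Algebra.Etale A (AdjoinRoot f) := Groth.Agent.SmoothLib.etale_adjoinRoot_of_separable f hfm hsep
  let h : AdjoinRoot f →ₐ[A] B := AdjoinRoot.liftAlgHom f (Algebra.ofId A B) x (by
    simp [f, Algebra.ofId_apply, ha])
  have hhx : h (AdjoinRoot.root f) = x := AdjoinRoot.liftAlgHom_root _ _ _ _
  have hb' : Function.Bijective h := Groth.Agent.TorsorAlg.bijective_of_points h fun Ω _ _ _ => by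
    haveI : CharP Ω p := (CharP.charP_iff_prime_eq_zero hp).2 (by
      rw [← map_natCast (algebraMap A Ω), CharP.cast_eq_zero A p, map_zero])
    have hχΩ : Function.Injective fun j : ZMod p => algebraMap A Ω (χ j) :=
      ((algebraMap A Ω).comp χ).injective
    have hev : ∀ (φ : B →ₐ[A] Ω) j, φ (σ (Multiplicative.ofAdd j) x) = φ x + algebraMap A Ω (χ j) := fun φ j => by
      rw [hσ, map_add, φ.commutes]
    refine ⟨fun φ ψ hφψ => ?_, fun θ => ?_⟩
    · have e1 : φ x = ψ x := by rw [← hhx]; exact DFunLike.congr_fun hφψ (AdjoinRoot.root f)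
      obtain ⟨g, hg, -⟩ := hT.existsUnique Ω φ ψ
      obtain ⟨j, rfl⟩ := Multiplicative.ofAdd.surjective g
      have e2 := hev φ j
      rw [show φ (σ (Multiplicative.ofAdd j) x) = ψ x from DFunLike.congr_fun hg x, ← e1, left_eq_add] at e2
      obtain rfl : j = 0 := hχΩ (e2.trans (by simp))
      obtain ⟨k, hk, -⟩ := hT.existsUnique Ω φ φ
      rw [← hg]
      refine AlgHom.ext fun b => ?_
      show φ b = φ (σ (Multiplicative.ofAdd 0) b)
      conv_rhs => rw [← hk]
      show φ b = φ (σ k (σ (Multiplicative.ofAdd 0) b))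
      rw [← hmul, ofAdd_zero, mul_one]
      exact (DFunLike.congr_fun hk b).symm
    · obtain ⟨φ⟩ := hT.nonempty Ω
      let y := θ (AdjoinRoot.root f)
      have hy : y ^ p - y = algebraMap A Ω a := by
        have h0 : θ (Polynomial.aeval (AdjoinRoot.root f) f) = 0 := by rw [AdjoinRoot.aeval_eq, AdjoinRoot.mk_self, map_zero]
        rw [← Polynomial.aeval_algHom_apply] at h0
        simp only [f, map_sub, map_pow, Polynomial.aeval_X, Polynomial.aeval_C] at h0
        exact sub_eq_zero.1 h0
      have hd : (y - φ x) ^ p = y - φ x := by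
        rw [sub_pow_char]
        have hx' : φ (x ^ p - x) = algebraMap A Ω a := by rw [← ha, φ.commutes]
        rw [map_sub, map_pow] at hx'
        linear_combination hy - hx'
      obtain ⟨j, hj⟩ : ∃ j : ZMod p, algebraMap A Ω (χ j) = y - φ x := by
        have hne : (Polynomial.X ^ p - Polynomial.X : Polynomial Ω) ≠ 0 := FiniteField.X_pow_card_sub_X_ne_zero Ω hp.one_lt
        let S := (Finset.univ : Finset (ZMod p)).image fun j => algebraMap A Ω (χ j)
        have hle : S ⊆ (Polynomial.X ^ p - Polynomial.X : Polynomial Ω).roots.toFinset := fun z hz => by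
          obtain ⟨j, -, rfl⟩ := Finset.mem_image.1 hz
          rw [Multiset.mem_toFinset, Polynomial.mem_roots hne]
          simp [← map_pow, hb]
        have hcard : (Polynomial.X ^ p - Polynomial.X : Polynomial Ω).roots.toFinset.card ≤ S.card := by
          rw [Finset.card_image_of_injective _ hχΩ, Finset.card_univ, ZMod.card]
          exact (Multiset.toFinset_card_le _).trans ((Polynomial.card_roots' _).trans
            (FiniteField.X_pow_card_sub_X_natDegree_eq Ω hp.one_lt).le)
        have hmem : y - φ x ∈ S := by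
          rw [Finset.eq_of_subset_of_card_le hle hcard, Multiset.mem_toFinset, Polynomial.mem_roots hne]
          simp [hd]
        obtain ⟨j, -, hj⟩ := Finset.mem_image.1 hmem
        exact ⟨j, hj⟩
      refine ⟨φ.comp (σ (Multiplicative.ofAdd j)), AdjoinRoot.algHom_ext ?_⟩
      show φ (σ (Multiplicative.ofAdd j) (h (AdjoinRoot.root f))) = y
      rw [hhx, hev, hj, add_sub_cancel]
  obtain ⟨e', he', ht⟩ := Groth.Agent.TorsorAlg.exists_iso_of_bijective (ρ := fun g => (ρ g).hom) (σ := σ) he hρ h hb'
  refine ⟨a, e', he', fun j => ht (Multiplicative.ofAdd j) _ fun z => ?_⟩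
  obtain ⟨q, rfl⟩ := Ideal.Quotient.mk_surjective z
  show σ (Multiplicative.ofAdd j) (h (AdjoinRoot.mk f q)) =
    h (AdjoinRoot.mk f (Polynomial.aeval (R := A) (Polynomial.X + Polynomial.C ((ZMod.castHom (dvd_refl p) A) j)) q))
  have hmk : ∀ r : Polynomial A, h (AdjoinRoot.mk f r) = Polynomial.aeval x r := fun r => by
    rw [← AdjoinRoot.aeval_eq, ← Polynomial.aeval_algHom_apply, hhx]
  rw [hmk, hmk, ← Polynomial.aeval_algHom_apply, hσ, ← Polynomial.aeval_algHom_apply]
  simp [χ]

end Groth.Agent.S3721
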