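import Groth.Statements.S6620
import Groth.Agent.SpecSeq.RightDerivedPlus

set_option autoImplicit false
set_option backward.isDefEq.respectTransparency false
set_option backward.defeqAttrib.useBackward true
universe w w' v v' u u'
open CategoryTheory CategoryTheory.Limits
open CohDer

namespace Groth.Agent.S6620

/-- Part (1): in the case where A has enough injectives (so that RF is defined on all of D⁺(A)): let F :
A ⥤ B be an additive functor between abelian categories, A with enough injectives, and K ∈ D⁺(A)
with Hⁱ(K) = 0 for i < a. Then Hⁱ(RF(K)) = 0 for i < a. -/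
theorem result {A : Type u} [Category.{v} A] [Abelian A] [HasDerivedCategory.{w} A] [EnoughInjectives A]
    {B : Type u'} [Category.{v'} B] [Abelian B] [HasDerivedCategory.{w'} B]
    (F : A ⥤ B) [F.Additive] (K : DerivedCategory.Plus A) (a : ℤ) [K.IsGE a] :
    (F.rightDerivedFunctorPlus.obj K).IsGE a := by
  rw [← DerivedCategory.Plus.isGE_ι_obj_iff, DerivedCategory.isGE_iff]
  intro i hi
  refine IsZero.of_iso (Groth.Agent.SpecSeq.isLeftBounded_rdH F K a i hi) ?_
  exact (DerivedCategory.homologyFunctor B i).mapIso ((Groth.Agent.DCat.rdIso F).app K)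


end Groth.Agent.S6620
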