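import Groth.Statements.S3724
import Groth.Agent.S12537
import Groth.Agent.S6620

set_option autoImplicit false
set_option linter.style.haveILetI false
universe u
open CategoryTheory CategoryTheory.Limits AlgebraicGeometry Opposite
attribute [local instance] HasDerivedCategory.standard
open EtDl

namespace Groth.Agent.S3724

section Helper

variable {C : Type*} [Category C] [Abelian C] [HasDerivedCategory C]

/-- No maps from objects in degrees `≥ n` to complexes of injectives in degrees `≤ m < n`. -/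
theorem eq_zero_of_isGE (K : DerivedCategory C) (n : ℤ) [K.IsGE n] (I : CochainComplex C ℤ) (a m : ℤ)
    (hI : ∀ j, Injective (I.X j)) (hz : ∀ j, (j < a ∨ m < j) → IsZero (I.X j)) (hm : m < n)
    (φ : K ⟶ DerivedCategory.Q.obj I) : φ = 0 := by
  obtain ⟨K', hK', ⟨e⟩⟩ := DerivedCategory.exists_iso_Q_obj_of_isGE K n
  haveI := hK'
  haveI : I.IsStrictlyGE a := (CochainComplex.isStrictlyGE_iff I a).2 fun j hj => hz j (Or.inl hj)
  haveI := CochainComplex.isKInjective_of_injective I a
  let ψ : DerivedCategory.Q.obj K' ⟶ DerivedCategory.Q.obj I := e.inv ≫ φ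
  obtain ⟨q, hq⟩ := (CochainComplex.IsKInjective.Qh_map_bijective
    ((HomotopyCategory.quotient C (ComplexShape.up ℤ)).obj K') I).2
      ((DerivedCategory.quotientCompQhIso C).hom.app K' ≫ ψ ≫ (DerivedCategory.quotientCompQhIso C).inv.app I)
  obtain ⟨g, rfl⟩ := (HomotopyCategory.quotient C (ComplexShape.up ℤ)).map_surjective q
  have hg : g = 0 := by
    ext j
    by_cases h : j < n
    · exact (K'.isZero_of_isStrictlyGE n j h).eq_of_src _ _
    · exact (hz j (Or.inr (by omega))).eq_of_tgt _ _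
  subst hg
  simp only [Functor.map_zero] at hq
  have : ψ = 0 := by
    rw [← cancel_epi ((DerivedCategory.quotientCompQhIso C).hom.app K'),
      ← cancel_mono ((DerivedCategory.quotientCompQhIso C).inv.app I)]
    simpa using hq.symm
  exact (cancel_epi e.inv).1 (this.trans comp_zero.symm)

end Helper


/-- Let f : X -> S be a morphism of quasi-compact quasi-separated schemes with a compactification c, Λ a
commutative ring with n·1 = 0 for some n ≥ 1, and Rf^! any right adjoint of Rf_! : D^+(X_et, Λ) ->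
D^+(S_et, Λ). Let L in D^b(S_et, Λ) have injective dimension at most m, in the sense that Hom(F,
L[i]) = 0 for every sheaf of Λ-modules F on S_et and every i > m. Then Rf^! L has injective
dimension at most m in the same sense on X_et. -/
theorem result {X S : Scheme.{u}} [CompactSpace ↥X] [QuasiSeparatedSpace ↥X] [CompactSpace ↥S] [QuasiSeparatedSpace ↥S]
    {f : X ⟶ S} (c : DEt.Compactification f)
    (Λ : Type (u + 1)) [CommRing Λ] (n : ℕ) (hn : 0 < n) (hΛ : (n : Λ) = 0)
    (G : DerivedCategory.Plus (EtModW.Mod Λ S) ⥤ DerivedCategory.Plus (EtModW.Mod Λ X))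
    (adj : EtDl.RshriekPlus Λ c ⊣ G) (L : DerivedCategory.Plus (EtModW.Mod Λ S)) (a b : ℤ)
    (ha : L.IsGE a) (hb : L.IsLE b) (m : ℤ)
    (hL : ∀ (F : EtModW.Mod Λ S) (i : ℤ), m < i →
      Subsingleton ((DerivedCategory.Plus.singleFunctor (EtModW.Mod Λ S) 0).obj F ⟶ L⟦i⟧))
    (F : EtModW.Mod Λ X) (i : ℤ) (hi : m < i) :
    Subsingleton ((DerivedCategory.Plus.singleFunctor (EtModW.Mod Λ X) 0).obj F ⟶ (G.obj L)⟦i⟧) := by
  haveI hGr : IsGrothendieckAbelian.{u + 1} (EtModW.Mod Λ S) := inferInstance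
  haveI := ha
  haveI hLi : (DerivedCategory.Plus.ι.obj L).IsGE a := inferInstance
  have hlow : ∀ (F : EtModW.Mod Λ S) (i : ℤ), (i < min a m ∨ m < i) →
      ∀ φ : (DerivedCategory.singleFunctor (EtModW.Mod Λ S) 0).obj F ⟶ (DerivedCategory.Plus.ι.obj L)⟦i⟧, φ = 0 := by
    intro F i hi φ
    rcases hi with hi | hi
    · haveI : ((DerivedCategory.Plus.ι.obj L)⟦i⟧).IsGE (a - i) :=
        DerivedCategory.TStructure.t.isGE_shift _ a i (a - i) (by omega)
      exact DerivedCategory.TStructure.t.zero φ 0 (a - i) (by omega)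
    · haveI := hL F i hi
      obtain ⟨ψ, hψ⟩ := DerivedCategory.Plus.ι.map_surjective (φ ≫ (DerivedCategory.Plus.ι.commShiftIso i).inv.app L :
        DerivedCategory.Plus.ι.obj ((DerivedCategory.Plus.singleFunctor (EtModW.Mod Λ S) 0).obj F) ⟶ _)
      rw [Subsingleton.elim ψ 0, Functor.map_zero] at hψ
      exact (cancel_mono ((DerivedCategory.Plus.ι.commShiftIso i).inv.app L)).1 (hψ.symm.trans zero_comp.symm)
  obtain ⟨I, hI, hz, ⟨e⟩⟩ := (Groth.Agent.S12537.result (EtModW.Mod Λ S) (DerivedCategory.Plus.ι.obj L) (min a m) m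
    (min_le_right a m)).1 hlow
  let F' := (shiftFunctor (DerivedCategory.Plus (EtModW.Mod Λ X)) (-i)).obj
    ((DerivedCategory.Plus.singleFunctor (EtModW.Mod Λ X) 0).obj F)
  haveI : F'.IsGE i := DerivedCategory.Plus.TStructure.t.isGE_shift _ 0 (-i) i (by omega)
  haveI h1 : ((EtDl.extZeroPlus Λ c.j).obj F').IsGE i := Groth.Agent.S6620.result _ F' i
  haveI h2 : ((EtDl.RshriekPlus Λ c).obj F').IsGE i := Groth.Agent.S6620.result _ _ i
  have key : Subsingleton ((EtDl.RshriekPlus Λ c).obj F' ⟶ L) := ⟨fun x y => DerivedCategory.Plus.ι.map_injective (by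
    haveI : (DerivedCategory.Plus.ι.obj ((EtDl.RshriekPlus Λ c).obj F')).IsGE i := inferInstance
    apply (cancel_mono e.inv).1
    rw [eq_zero_of_isGE _ i I (min a m) m hI hz hi (DerivedCategory.Plus.ι.map x ≫ e.inv),
      eq_zero_of_isGE _ i I (min a m) m hI hz hi (DerivedCategory.Plus.ι.map y ≫ e.inv)])⟩
  haveI : Subsingleton (F' ⟶ G.obj L) := (adj.homEquiv F' L).subsingleton_congr.mp key
  refine ⟨fun x y => (shiftFunctor (DerivedCategory.Plus (EtModW.Mod Λ X)) (-i)).map_injective ?_⟩
  exact (cancel_mono ((shiftFunctorCompIsoId (DerivedCategory.Plus (EtModW.Mod Λ X)) i (-i) (add_neg_cancel i)).hom.app (G.obj L))).1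
    (@Subsingleton.elim (F' ⟶ G.obj L) inferInstance _ _)

end Groth.Agent.S3724
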