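import Groth.Statements.S3743
import Groth.Agent.KPr28.Twists
import Groth.Agent.KModel28.Basic
import Groth.Agent.DCat.ProjPerfMap
import Groth.Agent.Coherent.Serre.AmpleAffine

set_option autoImplicit false
set_option linter.style.haveILetI false
universe v u
open CategoryTheory CategoryTheory.Limits AlgebraicGeometry
attribute [local instance] HasDerivedCategory.standard
open KRR

namespace Groth.Agent.S3743

/-- Let X be a connected Noetherian scheme and (K, P, φ) a model of the λ-ring K(X) of finite locally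
free modules with its positive structure (classes of bundles, augmentation = rank). If L is an ample
invertible O_X-module, then u = [L] is an ample line element of K(X): u is a line element and for
every x ∈ K(X) and all sufficiently large n, u^n x is a positive element minus a natural number. -/
theorem result (X : Scheme.{u}) [IsNoetherian X] [ConnectedSpace ↥X]
    (K : Type v) [CommRing K] [LambdaRing.LambdaOps K] (P : LambdaRing.PosStructure K) (φ : SGA6.Kvb X →+ K) (hK : KRR.IsModel X K P φ)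
    (L : X.Modules) (hL : CohB1.IsAmple L) :
    KRR.IsAmpleElt P (φ (KRR.cl X L)) := by
  classical
  have hL1 : FlatMod.IsFinLocFreeOfRank 1 L := Groth.Agent.PicLib.isFinLocFreeOfRank_one hL.1
  have hLf := Groth.Agent.VarietyLib.isFinLocFree_of_rank hL1
  have hO := Groth.Agent.Coherent.CohBC.isFinLocFree_structureModule X
  have hpow : ∀ n : ℕ, FlatMod.IsFinLocFree (CohB1.tensorPow L n) ∧
      φ (KRR.cl X L) ^ n = φ (KRR.cl X (CohB1.tensorPow L n)) := by
    intro n
    induction n with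
    | zero => exact ⟨hO, (pow_zero _).trans hK.map_one.symm⟩
    | succ n ih => exact ⟨Groth.Agent.ExtFilt28.isFinLocFree_tensor ih.1 hLf,
        by rw [pow_succ, ih.2]; exact hK.map_mul _ _ ih.1 hLf⟩
  have hsum : ∀ A B : X.Modules, FlatMod.IsFinLocFree A → FlatMod.IsFinLocFree B →
      ∃ G : X.Modules, FlatMod.IsFinLocFree G ∧ KRR.cl X G = KRR.cl X A + KRR.cl X B := by
    intro A B hA hB
    let S := ShortComplex.mk (biprod.inl : A ⟶ A ⊞ B) biprod.snd biprod.inl_snd
    have hS : S.ShortExact := (ShortComplex.Splitting.ofHasBinaryBiproduct A B).shortExact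
    have h2 := Groth.Agent.ExtFilt28.isFinLocFree_extension hS hA hB
    exact ⟨A ⊞ B, h2, Groth.Agent.ExtFilt28.clv_ses hS hA h2 hB⟩
  refine ⟨⟨(hK.mem_pos_iff _).2 ⟨1, L, le_rfl, hL1, rfl⟩, hK.aug_cl 1 L hL1⟩, fun x => ?_⟩
  obtain ⟨e₀, f₀, he, hf, rfl⟩ := P.exists_sub x
  obtain ⟨a, A, ha, hA, rfl⟩ := (hK.mem_pos_iff _).1 he
  obtain ⟨b, B, hb, hB, rfl⟩ := (hK.mem_pos_iff _).1 hf
  replace hA := Groth.Agent.VarietyLib.isFinLocFree_of_rank hA
  replace hB := Groth.Agent.VarietyLib.isFinLocFree_of_rank hB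
  obtain ⟨N, hN⟩ := Groth.Agent.Coherent.Serre.exists_epi_free_twist hL B
    (Groth.Agent.Coherent.CohBC.isCoh_of_isFinLocFree hB)
  refine ⟨N, fun n hn => ?_⟩
  obtain ⟨I, _, π, hπ⟩ := hN n hn
  let m := Fintype.card I
  let ei : Groth.Agent.Coherent.freeMod X I ≅ FlatMod.freeMod X m :=
    (SheafOfModules.freeFunctor (R := X.ringCatSheaf)).mapIso
      ((Fintype.equivFin I).trans Equiv.ulift.symm).toIso ≪≫ Groth.Agent.Props12.freeModIso X m
  let g := ei.inv ≫ π
  haveI : Epi g := epi_comp _ _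
  have hBn := Groth.Agent.ExtFilt28.isFinLocFree_tensor hB (hpow n).1
  have hAn := Groth.Agent.ExtFilt28.isFinLocFree_tensor hA (hpow n).1
  have hfree : FlatMod.IsFinLocFree (FlatMod.freeMod X m) := Groth.Agent.DCat.ProjPerf.isFinLocFree_freeMod m
  have hKer := Groth.Agent.KPush28.finLocFree_kernel g hfree hBn
  have hses := Groth.Agent.ExtFilt28.clv_ses (Groth.Agent.ResLF28.ses_kernel g) hKer hfree hBn
  obtain ⟨G₁, hG₁, hg₁⟩ := hsum _ _ hAn hKer
  obtain ⟨G, hG, hg⟩ := hsum G₁ _ hG₁ hO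
  obtain ⟨r, hr⟩ := Groth.Agent.KModel28.exists_rank hG
  have h1 : φ (KRR.cl X G) = φ (KRR.cl X (CohB1.tensorMod A (CohB1.tensorPow L n))) + φ (KRR.cl X (kernel g)) + 1 := by
    rw [hg, hg₁, map_add, map_add, hK.map_one]
  have hm : (m : K) = φ (KRR.cl X (kernel g)) + φ (KRR.cl X (CohB1.tensorMod B (CohB1.tensorPow L n))) := by
    rw [← map_add]
    refine Eq.trans ?_ (congrArg φ hses)
    show (m : K) = φ (KRR.cl X (FlatMod.freeMod X m))
    rw [Groth.Agent.KPr28.cl_freeMod, map_zsmul, hK.map_one, zsmul_one, Int.cast_natCast]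
  refine ⟨φ (KRR.cl X G), m + 1, (hK.mem_pos_iff _).2 ⟨r, G, ?_, hr, rfl⟩, ?_⟩
  · have h : ((r : ℤ)) = P.aug (φ (KRR.cl X G)) := (hK.aug_cl r G hr).symm
    obtain ⟨r₁, hr₁⟩ := Groth.Agent.KModel28.exists_rank hG₁
    rw [hg, map_add, map_add, hK.map_one, map_one, hK.aug_cl r₁ G₁ hr₁] at h
    omega
  · rw [mul_sub, (hpow n).2, mul_comm, mul_comm (φ (KRR.cl X (CohB1.tensorPow L n))) (φ (KRR.cl X B)),
      hK.map_mul A _ hA (hpow n).1, hK.map_mul B _ hB (hpow n).1, h1, Nat.cast_add, Nat.cast_one, hm]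
    show φ (KRR.cl X (CohB1.tensorMod A (CohB1.tensorPow L n))) - φ (KRR.cl X (CohB1.tensorMod B (CohB1.tensorPow L n))) = _
    ring

end Groth.Agent.S3743
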