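import Groth.Statements.S3748
import Groth.Agent.KPush28.Ops

set_option autoImplicit false
universe v u
open CategoryTheory CategoryTheory.Limits AlgebraicGeometry
attribute [local instance] HasDerivedCategory.standard
open KRR

namespace Groth.Agent.S3748

/-- Let f : X ⟶ Y and g : Y ⟶ Z be regular closed imbeddings of connected Noetherian schemes, where on Y
and on Z every coherent module is a quotient of a finite locally free one. With models of K(X),
K(Y), K(Z) and push-forwards a = f_K, b = g_K, c = (f ≫ g)_K (each defined through finite locally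
free resolutions of direct images of bundles), one has c = b ∘ a. -/
theorem result {X Y Z : Scheme.{u}} (f : X ⟶ Y) (g : Y ⟶ Z)
    (hf : Mor2.IsRegularClosedImmersion f) (hg : Mor2.IsRegularClosedImmersion g)
    [IsNoetherian X] [ConnectedSpace ↥X] [IsNoetherian Y] [ConnectedSpace ↥Y] (hYe : KRR.HasEnoughLocFree Y) [IsNoetherian Z] [ConnectedSpace ↥Z] (hZe : KRR.HasEnoughLocFree Z)
    (KX : Type v) [CommRing KX] [LambdaRing.LambdaOps KX] (PX : LambdaRing.PosStructure KX) (φX : SGA6.Kvb X →+ KX) (hKX : KRR.IsModel X KX PX φX)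
    (KY : Type v) [CommRing KY] [LambdaRing.LambdaOps KY] (PY : LambdaRing.PosStructure KY) (φY : SGA6.Kvb Y →+ KY) (hKY : KRR.IsModel Y KY PY φY)
    (KZ : Type v) [CommRing KZ] [LambdaRing.LambdaOps KZ] (PZ : LambdaRing.PosStructure KZ) (φZ : SGA6.Kvb Z →+ KZ) (hKZ : KRR.IsModel Z KZ PZ φZ)
    (a : KX →+ KY) (ha : KRR.IsPushCl f φX φY a) (b : KY →+ KZ) (hb : KRR.IsPushCl g φY φZ b)
    (c : KX →+ KZ) (hc : KRR.IsPushCl (f ≫ g) φX φZ c) : c = b.comp a := by
  haveI := hf.1
  haveI := hg.1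
  refine AddMonoidHom.ext fun x => ?_
  obtain ⟨x, rfl⟩ := hKX.bijective.2 x
  refine KvbLam28.kvb_induction (P := fun x => c (φX x) = b (a (φX x))) (by simp) ?_ ?_ ?_ x
  · intro F hF
    have hA := KPush28.cohBdd_push f hYe hf hF
    let e := (Scheme.Modules.pushforwardComp f g).app F
    have hC : ResLF28.cohBdd Z ((Scheme.Modules.pushforward (f ≫ g)).obj F) :=
      (ResLF28.cohBdd Z).prop_of_iso e (KPush28.cohBdd_push' g hYe hZe hg hA)
    obtain ⟨n, L, π, hL⟩ := KPush28.exists_lfRes hYe hA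
    have hk : ∀ k, b (φY (KRR.cl Y (L.X k))) = φZ (KPush28.vbCl Z hZe ((Scheme.Modules.pushforward g).obj (L.X k))) :=
      fun k => KPush28.isPushCl_apply hZe hb (hL.finLocFree k) (KPush28.cohBdd_push g hZe hg (hL.finLocFree k))
    rw [ha F hF n L π hL, map_sum, KPush28.isPushCl_apply hZe hc hF hC]
    simp only [map_zsmul, hk, ← map_sum]
    simp only [← map_zsmul, ← map_sum]
    refine congrArg φZ (KPush28.eq_vbCl hZe ?_).symm
    simp only [map_sum, map_zsmul, KPush28.toBdd_vbCl]
    refine (KPush28.map_eq_sum (fun M => KZero.clSub (ResLF28.cohBdd Z) ((Scheme.Modules.pushforward g).obj M))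
      (fun S hS h₁ h₂ h₃ => Resolution28.clSub_rel (KPush28.shortExact_push g hS) (KPush28.cohBdd_push' g hYe hZe hg h₁)
        (KPush28.cohBdd_push' g hYe hZe hg h₂) (KPush28.cohBdd_push' g hYe hZe hg h₃)) hA n L π hL).symm.trans ?_
    exact KPush28.map_iso_of_additive (P := ResLF28.cohBdd Z) (KZero.clSub (ResLF28.cohBdd Z))
      (fun S hS h₁ h₂ h₃ => Resolution28.clSub_rel hS h₁ h₂ h₃) (isZero_kernel_of_mono (𝟙 _))
      (KPush28.cohBdd_kernel (𝟙 _) hC hC) (KPush28.cohBdd_push' g hYe hZe hg hA) hC e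
  · intro y hy; simp only [map_neg, hy]
  · intro y y' hy hy'; simp only [map_add, hy, hy']

end Groth.Agent.S3748
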