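import Groth.Statements.S3750
import Groth.Agent.KPush28.Disjoint

set_option autoImplicit false
universe v u
open CategoryTheory CategoryTheory.Limits AlgebraicGeometry
attribute [local instance] HasDerivedCategory.standard
open KRR

namespace Groth.Agent.S3750

/-- Let F : P ⟶ M and f : X ⟶ Y be regular closed imbeddings whose conormal sheaves are locally free of
the same rank d, fitting in a cartesian square with φ : Y ⟶ M and ψ : X ⟶ P (so X = Y ×_M P), all
these schemes Noetherian and connected and Y, M having enough locally free sheaves. Let k : Z ⟶ Y be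
a morphism from a connected Noetherian scheme whose image is disjoint from f(X), and h = k ≫ φ : Z ⟶
M. Then, on models of the λ-rings K(P), K(M) and K(Z), the pull-back h^K : K(M) → K(Z) kills the
image of the push-forward F_K : K(P) → K(M): h^K(F_K(p)) = 0 for every p ∈ K(P). -/
theorem result {X Y P M Z : Scheme.{u}} (F : P ⟶ M) (φ : Y ⟶ M) (f : X ⟶ Y) (ψ : X ⟶ P)
    (hsq : IsPullback f ψ φ F) (hF : Mor2.IsRegularClosedImmersion F) (hf : Mor2.IsRegularClosedImmersion f) (d : ℕ)
    (hcF : FlatMod.IsFinLocFreeOfRank d (Omega.conormal F)) (hcf : FlatMod.IsFinLocFreeOfRank d (Omega.conormal f))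
    (k : Z ⟶ Y) (hk : Disjoint (Set.range k.base) (Set.range f.base))
    [IsNoetherian X] [ConnectedSpace ↥X] [IsNoetherian P] [ConnectedSpace ↥P] [IsNoetherian Z] [ConnectedSpace ↥Z] [IsNoetherian Y] [ConnectedSpace ↥Y] (hYe : KRR.HasEnoughLocFree Y) [IsNoetherian M] [ConnectedSpace ↥M] (hMe : KRR.HasEnoughLocFree M)
    (KP : Type v) [CommRing KP] [LambdaRing.LambdaOps KP] (PP : LambdaRing.PosStructure KP) (φP : SGA6.Kvb P →+ KP) (hKP : KRR.IsModel P KP PP φP)
    (KM : Type v) [CommRing KM] [LambdaRing.LambdaOps KM] (PM : LambdaRing.PosStructure KM) (φM : SGA6.Kvb M →+ KM) (hKM : KRR.IsModel M KM PM φM)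
    (KZ : Type v) [CommRing KZ] [LambdaRing.LambdaOps KZ] (PZ : LambdaRing.PosStructure KZ) (φZ : SGA6.Kvb Z →+ KZ) (hKZ : KRR.IsModel Z KZ PZ φZ)
    (gh : KM →+ KZ) (hgh : KRR.IsPull (k ≫ φ) φM φZ gh)
    (gF : KP →+ KM) (hgF : KRR.IsPushCl F φP φM gF) (p : KP) : gh (gF p) = 0 := by
  haveI := hF.1
  obtain ⟨p, rfl⟩ := hKP.bijective.2 p
  refine KvbLam28.kvb_induction (P := fun p => gh (gF (φP p)) = 0) (by simp) ?_ ?_ ?_ p
  · intro E hE
    obtain ⟨n, L, π, hL⟩ := KPush28.exists_lfRes hMe (KPush28.cohBdd_push F hMe hF hE)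
    rw [hgF E hE n L π hL, map_sum]
    simp only [map_zsmul, hgh _ (hL.finLocFree _)]
    simp only [← map_zsmul, ← map_sum]
    refine (congrArg φZ ?_).trans (map_zero φZ)
    let V : M.Opens := ⟨(Set.range F.base)ᶜ, F.isClosedEmbedding.isClosed_range.isOpen_compl⟩
    have hkV : Set.range (k ≫ φ).base ⊆ Set.range V.ι.base := by
      rintro _ ⟨z, rfl⟩
      rw [Scheme.Opens.range_ι]
      rintro ⟨q, hq⟩
      obtain ⟨t, ht, -⟩ := Scheme.Pullback.exists_preimage_pullback (f := φ) (g := F) (k.base z) q hq.symm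
      refine Set.disjoint_left.1 hk ⟨z, rfl⟩ ⟨hsq.isoPullback.inv t, ?_⟩
      rw [← ht]
      exact (Scheme.Hom.comp_apply _ _ _).symm.trans (congrArg (fun m => m.base t) hsq.isoPullback_inv_fst)
    exact KPush28.sum_pull_eq_zero (k ≫ φ) hkV _ (fun v => DCat.ClosedPush.subsingleton_stalk_push F E _ v.2)
      n L π hL
  · intro y hy; simp only [map_neg, hy, neg_zero]
  · intro y y' hy hy'; simp only [map_add, hy, hy', add_zero]

end Groth.Agent.S3750
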