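import Groth.Statements.S3751
import Groth.Agent.KRR28.Main
set_option linter.style.haveILetI false
set_option backward.isDefEq.respectTransparency false

set_option autoImplicit false
universe v u
open CategoryTheory CategoryTheory.Limits AlgebraicGeometry
attribute [local instance] HasDerivedCategory.standard
open KRR

namespace Groth.Agent.S3751

/-- Let S be an affine Noetherian scheme, Y a connected scheme quasi-projective over S, and f : X ⟶ Y a
regular closed imbedding with X connected, whose conormal module C is finite locally free of rank d.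
Let (KX, PX, φX), (KY, PY, φY) be models of the λ-rings K(X), K(Y) and h = f_K the push-forward
(alternating sum of a finite locally free resolution of f_*F). Then for every j ≥ 1 and x ∈ K(X),
ψ^j (f_K x) = f_K (θ^j([C]) · ψ^j x), where ψ^j is the j-th Adams operation and θ^j([C]) is Bott's
cannibalistic class of the positive element [C] (the universal polynomial in the λ^i[C] whose value
on a sum of line elements u_1 + ⋯ + u_d is Π (1 + u_i + ⋯ + u_i^{j-1})). No denominators are needed. -/
theorem result (S : Scheme.{u}) [IsAffine S] [IsNoetherian S] {X Y : Scheme.{u}} [IsNoetherian Y] [ConnectedSpace ↥Y] (qY : Y ⟶ S) (hqY : KRR.IsQProjOver qY)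
    (f : X ⟶ Y) (hf : Mor2.IsRegularClosedImmersion f) [ConnectedSpace ↥X] (d : ℕ)
    (hC : FlatMod.IsFinLocFreeOfRank d (Omega.conormal f))
    (KX : Type v) [CommRing KX] [LambdaRing.LambdaOps KX] (PX : LambdaRing.PosStructure KX) (φX : SGA6.Kvb X →+ KX) (hKX : KRR.IsModel X KX PX φX)
    (KY : Type v) [CommRing KY] [LambdaRing.LambdaOps KY] (PY : LambdaRing.PosStructure KY) (φY : SGA6.Kvb Y →+ KY) (hKY : KRR.IsModel Y KY PY φY)
    (h : KX →+ KY) (hh : KRR.IsPushCl f φX φY h) (j : ℕ) (hj : 1 ≤ j) (x : KX) :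
    LambdaRing.adams PY j (h x) = h (KRR.bott PX j (φX (KRR.cl X (Omega.conormal f))) * LambdaRing.adams PX j x) := by
  haveI := hf.1
  haveI : IsLocallyNoetherian X := LocallyOfFiniteType.isLocallyNoetherian f
  obtain ⟨n, i, hi, -⟩ := hqY
  haveI := hi
  haveI : QuasiCompact i := inferInstance
  obtain ⟨A, hA⟩ := Groth.Agent.FlatMor12.ProjectiveAmple.exists_isAmple_of_immersion (S := S)
    ⟨_, (Groth.Agent.AmpleLib.isAmple_structureModule_iff (X := S)).2 inferInstance⟩ i
  obtain ⟨KX', _, _, PX', φX', hX'⟩ := Groth.Agent.KModel28.exists_model X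
  obtain ⟨KY', _, _, PY', φY', hY'⟩ := Groth.Agent.KModel28.exists_model Y
  obtain ⟨a, ha, haφ, hal, haug⟩ := Groth.Agent.KSplit28.exists_iso hX' hKX
  obtain ⟨b, hb, hbφ, hbl, hbug⟩ := Groth.Agent.KSplit28.exists_iso hY' hKY
  have hYe : KRR.HasEnoughLocFree Y := Groth.Agent.KRR28.enough_of_ample hA
  obtain ⟨h', hh', huniq⟩ := Groth.Agent.KPush28.existsUnique_isPushCl f hYe hf φX' hX'.bijective φY'
  have hcomm : ∀ y, h (a y) = b (h' y) := fun y => by
    let B := RingEquiv.ofBijective b hb
    have : KRR.IsPushCl f φX' φY' (B.symm.toAddMonoidHom.comp (h.comp a.toAddMonoidHom)) := fun F hF n L π hL => by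
      show B.symm (h (a (φX' (KRR.cl X F)))) = _
      rw [haφ, hh F hF n L π hL, map_sum]
      refine Finset.sum_congr rfl fun k _ => ?_
      rw [map_zsmul, ← hbφ]
      exact congrArg _ (B.symm_apply_apply _)
    rw [← huniq _ this]
    exact (B.apply_symm_apply _).symm
  obtain ⟨x, rfl⟩ := ha.2 x
  rw [hcomm, ← Groth.Agent.KSplit28.map_adams' b hbl hbug,
    Groth.Agent.KRR28.adams_pushCl_regular hA f hf hC hX' hY' hh' hj x, ← hcomm, map_mul,
    Groth.Agent.KSplit28.map_bott a hal haug, haφ, Groth.Agent.KSplit28.map_adams' a hal haug]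

end Groth.Agent.S3751
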