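import Groth.Statements.S3755
import Groth.Agent.KPr28.Counit
import Groth.Agent.Coherent.QcohOps
import Groth.Agent.KPr28.Free

set_option autoImplicit false
set_option linter.style.haveILetI false
set_option backward.isDefEq.respectTransparency false
universe v u
open CategoryTheory CategoryTheory.Limits AlgebraicGeometry
attribute [local instance] HasDerivedCategory.standard
open KRR

namespace Groth.Agent.S3755

/-- Let Y be a Noetherian scheme, p : P = P^n_Y ⟶ Y, and F a coherent O_P-module regular relative to p.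
Then the canonical homomorphism p^* p_* F ⟶ F (counit of the adjunction between pullback and
pushforward of modules) is an epimorphism, and if Z denotes its kernel then Z(1) is regular. -/
theorem result (n : ℕ) (Y : Scheme.{u}) [IsNoetherian Y]
    (F : (KRR.PY n Y).Modules) (hF : Coh.IsCoh F) (hreg : KRR.IsRegSheaf n Y F) :
    Epi ((Scheme.Modules.pullbackPushforwardAdjunction (KRR.pr n Y)).counit.app F) ∧
    KRR.IsRegSheaf n Y (KRR.twF n Y 1 (kernel ((Scheme.Modules.pullbackPushforwardAdjunction (KRR.pr n Y)).counit.app F))) := by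
  have hepi := Groth.Agent.KPr28.epi_counit hF hreg
  refine ⟨hepi, ?_⟩
  let adj := Scheme.Modules.pullbackPushforwardAdjunction (KRR.pr n Y)
  have hepi' : Epi (adj.counit.app F) := hepi
  haveI : IsProper (KRR.pr n Y) := Groth.Agent.RelVALib.isProper_toBase n Y
  haveI := Groth.Agent.KPr28.isLocallyNoetherian_PY (n := n) (Y := Y)
  haveI : Coh.IsQCoh F := hF.1
  let G := (Scheme.Modules.pushforward (KRR.pr n Y)).obj F
  have hG : Coh.IsQCoh G := Groth.Agent.Coherent.isQCoh_push (KRR.pr n Y) (M := F)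
  let P := (Scheme.Modules.pullback (KRR.pr n Y)).obj G
  let S : ShortComplex (KRR.PY n Y).Modules :=
    ShortComplex.mk (kernel.ι (adj.counit.app F)) (adj.counit.app F) (kernel.condition _)
  have hS : S.ShortExact :=
    ShortComplex.ShortExact.mk' (ShortComplex.exact_of_f_is_kernel _ (kernelIsKernel _)) inferInstance hepi'
  have hP : ∀ (d : ℤ) (j : ℕ), 1 ≤ j → -(n : ℤ) ≤ d ∨ j ≠ n → Groth.Agent.KPr28.Van j (KRR.twF n Y d P) :=
    fun d j hj hd => Groth.Agent.KPr28.van_of_iso
      (Groth.Agent.AmpleLib.tensorComm _ _)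
      (Groth.Agent.ProjVanish14.isZero_rpushAb_twist (d := d) (Groth.Agent.Quot8.isPn_projSpaceOver n Y)
        G hG j (fun h => by omega) (fun h => by rcases hd with hd | hd <;> omega))
  intro i hi
  obtain ⟨e⟩ := Groth.Agent.CM28.nonempty_twF_twF (kernel (adj.counit.app F))
    (show -(i : ℤ) + 1 = 1 - (i : ℤ) by ring)
  refine Groth.Agent.KPr28.van_of_iso e.symm ?_
  obtain ⟨k, rfl⟩ : ∃ k, i = k + 1 := ⟨i - 1, by omega⟩
  rcases Nat.eq_zero_or_pos k with rfl | hk
  · obtain ⟨e0⟩ := Groth.Agent.CM28.nonempty_twF_zero (kernel (adj.counit.app F))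
    obtain ⟨eP⟩ := Groth.Agent.CM28.nonempty_twF_zero P
    refine Groth.Agent.KPr28.van_of_iso (e0.symm ≪≫ eqToIso (congrArg (fun d : ℤ => KRR.twF n Y d _)
      (show (0 : ℤ) = 1 - ((0 + 1 : ℕ) : ℤ) by norm_num))) ?_
    have hsplit : Epi ((Coh.pushAb (KRR.pr n Y)).map
        ((Groth.Agent.Coherent.toAbFunctor (KRR.PY n Y)).map (adj.counit.app F))) :=
      haveI : IsSplitEpi ((Scheme.Modules.pushforward (KRR.pr n Y)).map (adj.counit.app F)) :=
        IsSplitEpi.mk' ⟨adj.unit.app _, adj.right_triangle_components F⟩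
      inferInstanceAs (Epi ((Groth.Agent.Coherent.toAbFunctor Y).map
        ((Scheme.Modules.pushforward (KRR.pr n Y)).map (adj.counit.app F))))
    exact Groth.Agent.CM28.isZero_X₁_one (Coh.pushAb (KRR.pr n Y)) (Groth.Agent.Coherent.toAb_shortExact hS)
      (Groth.Agent.KPr28.van_of_iso eP (hP 0 1 le_rfl (Or.inl (by omega)))) (hepi := hsplit)
  · obtain ⟨T, hT, e₁, e₂, e₃⟩ := Groth.Agent.KPr28.twF_ses hS (1 - ((k + 1 : ℕ) : ℤ))
    have h₂ : Groth.Agent.KPr28.Van (k + 1) T.X₂ := by
      rw [e₂]; exact hP _ (k + 1) (by omega) (by omega)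
    have h₃ : Groth.Agent.KPr28.Van k T.X₃ := by
      rw [e₃, show (1 : ℤ) - ((k + 1 : ℕ) : ℤ) = -(k : ℤ) by push_cast; ring]; exact hreg k hk
    show Groth.Agent.KPr28.Van (k + 1) (KRR.twF n Y (1 - ((k + 1 : ℕ) : ℤ)) S.X₁)
    rw [← e₁]
    exact Groth.Agent.CM28.isZero_X₁ (Coh.pushAb (KRR.pr n Y)) (Groth.Agent.Coherent.toAb_shortExact hT) k h₂ h₃

end Groth.Agent.S3755
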