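import Groth.Statements.S3762
import Groth.Agent.KPr28.Push

set_option autoImplicit false
universe v u
open CategoryTheory CategoryTheory.Limits AlgebraicGeometry
attribute [local instance] HasDerivedCategory.standard
open KRR

namespace Groth.Agent.S3762

/-- Let Y be a connected Noetherian scheme, p : P = P^n_Y ⟶ Y, with models of K(P), K(Y), g = p_K the
push-forward and q = p^K the pull-back. Then p_K (x · p^K y) = p_K (x) · y for all x ∈ K(P), y ∈
K(Y). -/
theorem result (n : ℕ) (Y : Scheme.{u}) [IsNoetherian Y] [ConnectedSpace ↥Y]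
    (KP : Type v) [CommRing KP] [LambdaRing.LambdaOps KP] (PP : LambdaRing.PosStructure KP) (φP : SGA6.Kvb (KRR.PY n Y) →+ KP) (hKP : KRR.IsModel (KRR.PY n Y) KP PP φP)
    (KY : Type v) [CommRing KY] [LambdaRing.LambdaOps KY] (PY : LambdaRing.PosStructure KY) (φY : SGA6.Kvb Y →+ KY) (hKY : KRR.IsModel Y KY PY φY)
    (g : KP →+ KY) (hg : KRR.IsPushPr n Y φP φY g) (q : KY →+ KP) (hq : KRR.IsPull (KRR.pr n Y) φY φP q) (x : KP) (y : KY) :
    g (x * q y) = g x * y := by
  obtain ⟨a, rfl⟩ := hKP.bijective.2 x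
  obtain ⟨b, rfl⟩ := hKY.bijective.2 y
  refine KvbLam28.kvb_induction (P := fun b => g (φP a * q (φY b)) = g (φP a) * φY b) (by simp) ?_ ?_ ?_ b
  · intro E hE
    show g (φP a * q (φY (KRR.cl Y E))) = g (φP a) * φY (KRR.cl Y E)
    rw [hq E hE]
    refine DFunLike.congr_fun (KPr28.hom_ext_reg
      (a := g.comp ((AddMonoidHom.mulRight (φP (KRR.cl (KRR.PY n Y) ((Scheme.Modules.pullback (KRR.pr n Y)).obj E)))).comp φP))
      (b := (AddMonoidHom.mulRight (φY (KRR.cl Y E))).comp (g.comp φP)) fun F hF => ?_) a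
    show g (φP (KRR.cl _ F) * _) = g (φP (KRR.cl _ F)) * _
    rw [hKP.map_mul F _ hF.1 (DCat.PullPerf.isFinLocFree_pullback _ hE)]
    show g (φP (KRR.cl _ (CohB1.tensorMod F ((Scheme.Modules.pullback (KRR.pr n Y)).obj E)))) = _
    rw [hg _ (KPr28.regP_tensor_pull hF hE).1 (KPr28.regP_tensor_pull hF hE).2, hg F hF.1 hF.2,
      hKY.map_mul _ E (KPr28.isFinLocFree_push_reg hF.1 hF.2) hE]
    obtain ⟨e⟩ := KPr28.nonempty_push_tensor_pull F hE
    exact congrArg φY (ExtFilt28.clv_iso e)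
  · intro c hc; simp only [map_neg, mul_neg, hc]
  · intro c c' hc hc'; simp only [map_add, mul_add, hc, hc']

end Groth.Agent.S3762
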