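import Groth.Statements.S3763
import Groth.Agent.KRR28.GRR
import Groth.Agent.KRR28.GrTransfer

set_option autoImplicit false
set_option linter.style.haveILetI false
set_option backward.isDefEq.respectTransparency false
set_option synthInstance.maxHeartbeats 100000
set_option maxHeartbeats 800000
universe v u
open CategoryTheory CategoryTheory.Limits AlgebraicGeometry
attribute [local instance] HasDerivedCategory.standard
open KRR

namespace Groth.Agent.S3763

/-- Grothendieck–Riemann–Roch. Let S be an affine Noetherian scheme, Y a connected Noetherian scheme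
quasi-projective over S of dimension at most dY, and f = i ≫ p : X ⟶ Y with i : X ⟶ P = P^n_Y a
regular closed imbedding (X connected of dimension at most dX, conormal module C finite locally free
of rank c) and p : P ⟶ Y the projection; f has codimension c − n. Let (KX, PX, φX), (KP, PP, φP),
(KY, PY, φY) be models of the λ-rings K(X), K(P), K(Y), and f_K = p_K ∘ i_K the push-forward, i_K
being the push-forward along the closed imbedding i and p_K that along the projection. The tangent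
element is T_f = [i^* T_{P/Y}] − [N_{X/P}] = ((n+1)·[i^* O_P(1)] − 1) − [C^∨] ∈ K(X). Let ℚGr denote
the graded ring of the γ-filtration tensored with ℚ, and ch and td the Chern character and Todd
class with values in it (built from the Chern classes c^i(x) = γ^i(x − ε(x)) mod F^{i+1} by the
Hirzebruch polynomials of exp(t) and t·e^t/(e^t − 1); the truncations at dX, dY are exact because
F^{d+1} K = 0 in dimension ≤ d). Then f_K induces a homomorphism f_G : ℚGr K(X) ⟶ ℚGr K(Y) of graded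
degree c − n, and for every x ∈ K(X): ch(f_K x) = f_G(td(T_f) · ch(x)). -/
theorem result (S : Scheme.{u}) [IsAffine S] [IsNoetherian S] (n : ℕ) {X Y : Scheme.{u}} [IsNoetherian Y] [ConnectedSpace ↥Y] (qY : Y ⟶ S) (hqY : KRR.IsQProjOver qY)
    (dY : ℕ) (hdY : topologicalKrullDim ↥Y ≤ (dY : WithBot ℕ∞))
    (i : X ⟶ KRR.PY n Y) (hi : Mor2.IsRegularClosedImmersion i) [ConnectedSpace ↥X]
    (dX : ℕ) (hdX : topologicalKrullDim ↥X ≤ (dX : WithBot ℕ∞)) (c : ℕ)
    (hC : FlatMod.IsFinLocFreeOfRank c (Omega.conormal i)) [DCoh.HasSheafHom (Omega.conormal i)]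
    (KX : Type v) [CommRing KX] [LambdaRing.LambdaOps KX] (PX : LambdaRing.PosStructure KX) (φX : SGA6.Kvb X →+ KX) (hKX : KRR.IsModel X KX PX φX)
    (KP : Type v) [CommRing KP] [LambdaRing.LambdaOps KP] (PP : LambdaRing.PosStructure KP) (φP : SGA6.Kvb (KRR.PY n Y) →+ KP) (hKP : KRR.IsModel (KRR.PY n Y) KP PP φP)
    (KY : Type v) [CommRing KY] [LambdaRing.LambdaOps KY] (PY : LambdaRing.PosStructure KY) (φY : SGA6.Kvb Y →+ KY) (hKY : KRR.IsModel Y KY PY φY)
    (a : KX →+ KP) (ha : KRR.IsPushCl i φX φP a) (b : KP →+ KY) (hb : KRR.IsPushPr n Y φP φY b)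
    :
    ∃ fG : KGr.Gr PX →+ KGr.Gr PY, KGr.IsGrPush PX PY (b.comp a) ((c : ℤ) - n) fG ∧
      ∀ x : KX, KGr.chK PY dY (b (a x)) =
        fG (KGr.tdK PX dX (((n + 1 : ℕ) : KX) * φX (KRR.cl X ((Scheme.Modules.pullback i).obj (Twist.twistOver n Y 1))) - 1
              - φX (KRR.cl X ((DCoh.sheafHom (Omega.conormal i)).obj (Coh.structureModule X))))
            * KGr.chK PX dX x) := by
  classical
  haveI := hi.1
  haveI := Groth.Agent.KPushPr28.isNoetherian_PY n Y
  haveI := Groth.Agent.KSplit28.connectedSpace_PY n Y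
  haveI : IsLocallyNoetherian X := LocallyOfFiniteType.isLocallyNoetherian i
  haveI : CompactSpace X := i.isClosedEmbedding.compactSpace
  haveI : IsNoetherian X := {}
  obtain ⟨A, hA⟩ := Groth.Agent.KRR28.exists_isAmple_qproj hqY
  obtain ⟨KX', _, _, PX', φX', hX'⟩ := Groth.Agent.KModel28.exists_model X
  obtain ⟨KP', _, _, PP', φP', hP'⟩ := Groth.Agent.KModel28.exists_model (KRR.PY n Y)
  obtain ⟨KY', _, _, PY', φY', hY'⟩ := Groth.Agent.KModel28.exists_model Y
  obtain ⟨eX, heX, hXφ, hXl, hXug⟩ := Groth.Agent.KSplit28.exists_iso hX' hKX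
  obtain ⟨eP, heP, hPφ, hPl, hPug⟩ := Groth.Agent.KSplit28.exists_iso hP' hKP
  obtain ⟨eY, heY, hYφ, hYl, hYug⟩ := Groth.Agent.KSplit28.exists_iso hY' hKY
  let EP := RingEquiv.ofBijective eP heP
  let EY := RingEquiv.ofBijective eY heY
  let a' : KX' →+ KP' := EP.symm.toAddEquiv.toAddMonoidHom.comp (a.comp eX.toAddMonoidHom)
  let b' : KP' →+ KY' := EY.symm.toAddEquiv.toAddMonoidHom.comp (b.comp eP.toAddMonoidHom)
  have ha' : KRR.IsPushCl i φX' φP' a' := fun F hF m L π hL => by
    show EP.symm (a (eX (φX' (KRR.cl X F)))) = _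
    rw [hXφ, ha F hF m L π hL, map_sum]
    refine Finset.sum_congr rfl fun k _ => ?_
    rw [map_zsmul, ← hPφ]
    exact congrArg _ (EP.symm_apply_apply _)
  have hb' : KRR.IsPushPr n Y φP' φY' b' := fun F hF hr => by
    show EY.symm (b (eP (φP' _))) = _
    rw [hPφ, hb F hF hr, RingEquiv.symm_apply_eq]
    exact (hYφ _).symm
  have hba : ∀ x, eY (b' (a' x)) = b (a (eX x)) := fun x => by
    show eY (EY.symm (b (eP (EP.symm (a (eX x)))))) = _
    rw [show eP (EP.symm (a (eX x))) = a (eX x) from EP.apply_symm_apply _]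
    exact EY.apply_symm_apply _
  obtain ⟨fG', hfG', hgrr⟩ := Groth.Agent.KRR28.grr hA hdY i hi hdX hC hX' hP' hY' ha' hb'
  have cX : Groth.Agent.KRR28.Compat PX' PX eX := ⟨hXl, hXug⟩
  have cY : Groth.Agent.KRR28.Compat PY' PY eY := ⟨hYl, hYug⟩
  have cX' := cX.symm heX
  have hXinv : ∀ x, (RingEquiv.ofBijective eX heX).symm.toRingHom (eX x) = x :=
    fun x => (RingEquiv.ofBijective eX heX).symm_apply_apply x
  refine ⟨((Groth.Agent.KRR28.grMap cY).toLinearMap.toAddMonoidHom.comp fG').comp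
    (Groth.Agent.KRR28.grMap cX').toLinearMap.toAddMonoidHom, fun m x hx => ?_, fun x => ?_⟩
  · obtain ⟨x, rfl⟩ := heX.2 x
    show Groth.Agent.KRR28.grMap cY (fG' (Groth.Agent.KRR28.grMap cX' (KGr.grK PX (m : ℤ) (eX x)))) =
      KGr.grK PY ((m : ℤ) + ((c : ℤ) - n)) (b (a (eX x)))
    have hx' : x ∈ LambdaRing.gammaFiltration PX' m :=
      Groth.Agent.KRR28.gammaFiltration_map_symm eX heX hXl hXug hx
    rw [Groth.Agent.KRR28.grMap_grK_nat cX' hx, hXinv, hfG' m x hx', AddMonoidHom.comp_apply]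
    obtain ⟨B, hB⟩ := Groth.Agent.KRR28.exists_isAmple_PY hA n
    obtain ⟨N, hN, hN'⟩ := Groth.Agent.KRR28.rational_filtration_pushCl' hB i hi hC hX' hP' ha' hx'
    have h := Groth.Agent.S3776.result n Y KP' PP' φP' hP' KY' PY' φY' hY' b' hb' (m + c) _ hN'
    rw [← nsmul_eq_mul, map_nsmul, nsmul_eq_mul] at h
    rw [Groth.Agent.KRR28.grMap_grK cY hN
      (by rwa [show ((m : ℤ) + ((c : ℤ) - n)).toNat = m + c - n by omega]), hba]
  · obtain ⟨x, rfl⟩ := heX.2 x
    show KGr.chK PY dY (b (a (eX x))) =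
      Groth.Agent.KRR28.grMap cY (fG' (Groth.Agent.KRR28.grMap cX' (_ * _)))
    rw [map_mul (Groth.Agent.KRR28.grMap cX'), Groth.Agent.KRR28.grMap_tdK, Groth.Agent.KRR28.grMap_chK, map_sub, map_sub,
      map_mul (RingEquiv.ofBijective eX heX).symm.toRingHom, map_natCast,
      map_one, ← hXφ, ← hXφ, hXinv, hXinv, hXinv, ← hgrr, Groth.Agent.KRR28.grMap_chK, hba]

end Groth.Agent.S3763
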