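import Groth.Statements.S3765
import Groth.Agent.KPushPr28.Closed
import Groth.Agent.SDiv28.SmoothRegImm
import Groth.Agent.Dual22Lib.ProjSmooth
import Groth.Agent.DCat.ClosedPush
import Groth.Agent.Coherent.RpushLeray
set_option linter.style.haveILetI false
set_option backward.isDefEq.respectTransparency false

set_option autoImplicit false
universe v u
open CategoryTheory CategoryTheory.Limits AlgebraicGeometry
attribute [local instance] HasDerivedCategory.standard
open KRR Groth.Agent Groth.Agent.KPushPr28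

namespace Groth.Agent.S3765

/-- For the trivial bundle P = P^n_Y: let Y be a connected Noetherian scheme, p : P ⟶ Y the projection
and s : Y ⟶ P a section of p (s ≫ p = 𝟙); assume every coherent module on P is a quotient of a
finite locally free one. Then s is a regular closed imbedding (of codimension n), and with models of
K(Y), K(P), the push-forward s_K (via finite locally free resolutions of s_*F) and p_K (via regular
sheaves) satisfy p_K ∘ s_K = id. -/
theorem result (n : ℕ) (Y : Scheme.{u}) [IsNoetherian Y] [ConnectedSpace ↥Y]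
    (hPe : KRR.HasEnoughLocFree (KRR.PY n Y)) (s : Y ⟶ KRR.PY n Y) (hs : s ≫ KRR.pr n Y = 𝟙 Y)
    (KP : Type v) [CommRing KP] [LambdaRing.LambdaOps KP] (PP : LambdaRing.PosStructure KP) (φP : SGA6.Kvb (KRR.PY n Y) →+ KP) (hKP : KRR.IsModel (KRR.PY n Y) KP PP φP)
    (KY : Type v) [CommRing KY] [LambdaRing.LambdaOps KY] (PY : LambdaRing.PosStructure KY) (φY : SGA6.Kvb Y →+ KY) (hKY : KRR.IsModel Y KY PY φY)
    (gs : KY →+ KP) (hgs : KRR.IsPushCl s φY φP gs) (gp : KP →+ KY) (hgp : KRR.IsPushPr n Y φP φY gp) :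
    Mor2.IsRegularClosedImmersion s ∧ gp.comp gs = AddMonoidHom.id KY := by
  haveI : Smooth (KRR.pr n Y) := Dual22Lib.ProjSmooth.smooth_toBase n Y
  haveI : IsProper (KRR.pr n Y) := RelVALib.isProper_toBase n Y
  haveI : IsClosedImmersion (s ≫ KRR.pr n Y) := by rw [hs]; infer_instance
  haveI : IsClosedImmersion s := IsClosedImmersion.of_comp s (KRR.pr n Y)
  have hreg := SDiv28.SmoothRegImm.isRegularClosedImmersion_section (KRR.pr n Y) s hs
  refine ⟨hreg, ?_⟩
  obtain ⟨k, hk⟩ : ∃ k : ∀ x : KY, SGA6.Kvb Y, ∀ x, φY (k x) = x := ⟨fun x => (hKY.bijective.2 x).choose, fun x => (hKY.bijective.2 x).choose_spec⟩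
  refine AddMonoidHom.ext fun x => ?_
  rw [← hk x]
  refine KvbLam28.kvb_induction (P := fun z => (gp.comp gs) (φY z) = φY z) ?_ (fun F hF => ?_) ?_ ?_ (k x)
  · simp
  · have hY : KRR.HasEnoughLocFree Y := fun M hM => by
      haveI := Coherent.flat_toBase n Y
      obtain ⟨E, p, hE, hp⟩ := hPe ((Scheme.Modules.pushforward s).obj M) (Coherent.isCoh_push_finite s hM)
      haveI := hp
      haveI : (Scheme.Modules.pullback s).IsLeftAdjoint := (Scheme.Modules.pullbackPushforwardAdjunction s).isLeftAdjoint
      haveI := DCat.ClosedPush.isIso_counit s M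
      exact ⟨_, (Scheme.Modules.pullback s).map p ≫ (Scheme.Modules.pullbackPushforwardAdjunction s).counit.app M,
        DCat.PullPerf.isFinLocFree_pullback s hE, inferInstance⟩
    haveI := CAlgH3.LocFreeFactor.isQCoh_of_finLocFree hF
    have h := pushPr_pushCl_apply hY hPe hreg hKP.bijective hgs hgp hs hF fun q hq => by
      haveI := CAlgH3.LocFreeFactor.isQCoh_of_finLocFree (ExtFilt28.isFinLocFree_tensor
        (DCat.PullPerf.isFinLocFree_pullback s (KPr28.isFinLocFree_twistOver (n := n) (Y := Y) (-(q : ℤ)))) hF)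
      exact Coherent.isZero_rpushAb_of_isAffineHom (𝟙 Y) _ q hq
    rw [AddMonoidHom.comp_apply, h.2]
    refine congrArg φY ?_
    rw [vbCl_iso hY ((Scheme.Modules.pushforwardId Y).app F) h.1]
    exact vbCl_vb hY hF
  · intro a ha; simp only [map_neg, ha]
  · intro a b ha hb; simp only [map_add, ha, hb]

end Groth.Agent.S3765
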