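import Groth.Statements.S3766
import Groth.Agent.KPushPr28.Closed
import Groth.Agent.SDiv28.SmoothRegImm
import Groth.Agent.Dual22Lib.ProjSmooth
import Groth.Agent.Coherent.RpushLeray
set_option linter.style.haveILetI false
set_option backward.isDefEq.respectTransparency false

set_option autoImplicit false
universe v u
open CategoryTheory CategoryTheory.Limits AlgebraicGeometry
attribute [local instance] HasDerivedCategory.standard
open KRR Groth.Agent Groth.Agent.KPushPr28

namespace Groth.Agent.S3766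

/-- Let i : X ⟶ Y be a regular closed imbedding of connected Noetherian schemes, j : P^n_X ⟶ P^n_Y the
induced morphism, g : P^n_X ⟶ X and f : P^n_Y ⟶ Y the projections; assume every coherent module on Y
and on P^n_Y is a quotient of a finite locally free one. Then j is a regular closed imbedding and,
with models of the four K-rings and push-forwards i_K, j_K (via resolutions), g_K, f_K (via regular
sheaves): i_K ∘ g_K = f_K ∘ j_K. -/
theorem result (n : ℕ) {X Y : Scheme.{u}} (i : X ⟶ Y) (hi : Mor2.IsRegularClosedImmersion i)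
    [IsNoetherian X] [ConnectedSpace ↥X] [IsNoetherian Y] [ConnectedSpace ↥Y] (hYe : KRR.HasEnoughLocFree Y) (hPe : KRR.HasEnoughLocFree (KRR.PY n Y))
    (KX : Type v) [CommRing KX] [LambdaRing.LambdaOps KX] (PX : LambdaRing.PosStructure KX) (φX : SGA6.Kvb X →+ KX) (hKX : KRR.IsModel X KX PX φX)
    (KY : Type v) [CommRing KY] [LambdaRing.LambdaOps KY] (PY : LambdaRing.PosStructure KY) (φY : SGA6.Kvb Y →+ KY) (hKY : KRR.IsModel Y KY PY φY)
    (KPX : Type v) [CommRing KPX] [LambdaRing.LambdaOps KPX] (PPX : LambdaRing.PosStructure KPX) (φPX : SGA6.Kvb (KRR.PY n X) →+ KPX) (hKPX : KRR.IsModel (KRR.PY n X) KPX PPX φPX)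
    (KPY : Type v) [CommRing KPY] [LambdaRing.LambdaOps KPY] (PPY : LambdaRing.PosStructure KPY) (φPY : SGA6.Kvb (KRR.PY n Y) →+ KPY) (hKPY : KRR.IsModel (KRR.PY n Y) KPY PPY φPY)
    (gi : KX →+ KY) (hgi : KRR.IsPushCl i φX φY gi)
    (gj : KPX →+ KPY) (hgj : KRR.IsPushCl (KRR.projSpaceMap n i) φPX φPY gj)
    (gX : KPX →+ KX) (hgX : KRR.IsPushPr n X φPX φX gX) (gY : KPY →+ KY) (hgY : KRR.IsPushPr n Y φPY φY gY) :
    Mor2.IsRegularClosedImmersion (KRR.projSpaceMap n i) ∧ gi.comp gX = gY.comp gj := by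
  haveI := hi.1
  haveI := isNoetherian_PY n X
  refine ⟨isRegularClosedImmersion_projSpaceMap n i hi, ?_⟩
  have hsq : KRR.projSpaceMap n i ≫ KRR.pr n Y = KRR.pr n X ≫ i := pullback.lift_snd _ _ _
  have h := KPr28.hom_ext_reg (a := (gi.comp gX).comp φPX) (b := (gY.comp gj).comp φPX) fun F hF => by
    haveI := CAlgH3.LocFreeFactor.isQCoh_of_finLocFree hF.1
    haveI : IsProper (KRR.pr n X) := RelVALib.isProper_toBase n X
    have hpush := KPr28.isFinLocFree_push_reg hF.1 hF.2
    have hjF := pushPr_pushCl_apply hYe hPe (isRegularClosedImmersion_projSpaceMap n i hi) hKPY.bijective hgj hgY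
      hsq hF.1 fun q hq => by
        let p := pullback.fst (CohB1.ProjSpace.toSpec n (ULift.{u} ℤ)) (specULiftZIsTerminal.from Y)
        have h1 : KRR.projSpaceMap n i ≫ p =
            pullback.fst (CohB1.ProjSpace.toSpec n (ULift.{u} ℤ)) (specULiftZIsTerminal.from X) :=
          (pullback.lift_fst _ _ _).trans (Category.comp_id _)
        let e : CohB1.tensorMod ((Scheme.Modules.pullback (KRR.projSpaceMap n i)).obj (Twist.twistOver n Y (-(q : ℤ)))) F ≅
            KRR.twF n X (-(q : ℤ)) F :=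
          AmpleLib.tensorIso ((Scheme.Modules.pullbackComp _ p).app _ ≪≫ (Scheme.Modules.pullbackCongr h1).app _)
            (Iso.refl _)
        haveI : Coh.IsQCoh (KRR.twF n X (-(q : ℤ)) F) :=
          CAlgH3.LocFreeFactor.isQCoh_of_finLocFree (KPr28.isFinLocFree_twF hF.1 _)
        obtain ⟨e'⟩ := Coherent.nonempty_rpushAb_comp_affine_base (KRR.pr n X) i (KRR.twF n X (-(q : ℤ)) F) q
        haveI : (Coh.pushAb i).Additive := inferInstance
        exact (((Coh.pushAb i).map_isZero (hF.2 q hq)).of_iso e').of_iso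
          ((Coh.RpushAb (KRR.pr n X ≫ i) q).mapIso ((Coherent.toAbFunctor _).mapIso e))
    show gi (gX (φPX _)) = gY (gj (φPX _))
    have hb := KPush28.cohBdd_push i hYe hi hpush
    rw [hgX F hF.1 hF.2, KPush28.isPushCl_apply hYe hgi hpush hb, hjF.2]
    exact congrArg φY (vbCl_iso hYe ((Scheme.Modules.pushforwardComp (KRR.pr n X) i).app F) hb)
  refine AddMonoidHom.ext fun x => ?_
  obtain ⟨z, rfl⟩ := hKPX.bijective.2 x
  exact DFunLike.congr_fun h z

end Groth.Agent.S3766
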