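import Groth.Statements.S3768
import Groth.Agent.KPushPr28.Twist
set_option linter.style.haveILetI false
set_option backward.isDefEq.respectTransparency false

set_option autoImplicit false
universe v u
open CategoryTheory CategoryTheory.Limits AlgebraicGeometry
attribute [local instance] HasDerivedCategory.standard
open KRR Groth.Agent Groth.Agent.KPushPr28

namespace Groth.Agent.S3768

/-- `R^q g_* (f_* H) = R^q (f ≫ g)_* H` for `f_*`-acyclic `H`. -/
theorem isZero_of_acyclic {X Y Z : Scheme.{u}} (f : X ⟶ Y) (g : Y ⟶ Z) (H : X.Modules)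
    (hf : ∀ q : ℕ, IsZero ((Coh.RpushAb f (q + 1)).obj (Coh.toAb H))) (q : ℕ)
    (h : IsZero ((Coh.RpushAb (f ≫ g) q).obj (Coh.toAb H))) :
    IsZero ((Coh.RpushAb g q).obj (Coh.toAb ((Scheme.Modules.pushforward f).obj H))) := by
  have : (Coh.pushAb f).PreservesInjectiveObjects :=
    SiteCoh.pushTop_preservesInjectiveObjects (X := X.toTopCat) (Y := Y.toTopCat) f.base
  have : PreservesFiniteLimits (Coh.pushAb f) :=
    SiteCoh.pushTop_preservesFiniteLimits (X := X.toTopCat) (Y := Y.toTopCat) f.base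
  let e := SiteCoh.rightDerivedCompAcyclicObjIso (Coh.pushAb f) (Coh.pushAb g) (F := Coh.toAb H) hf q
  exact h.of_iso (e.symm ≪≫ (SiteCoh.rightDerivedCongr (G := Coh.pushAb f ⋙ Coh.pushAb g)
    (G' := Coh.pushAb (f ≫ g)) (NatIso.ofComponents (fun _ => Iso.refl _)) q).app (Coh.toAb H) :
    (Coh.RpushAb g q).obj ((Coh.pushAb f).obj (Coh.toAb H)) ≅ _)

/-- Let Y, Z be connected Noetherian schemes such that every coherent module on Y, Z, on each P^a over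
them and on each P^a over P^b over them is a quotient of a finite locally free one. Let f = i ≫ p :
X ⟶ Y and g = j ≫ q : Y ⟶ Z be regular morphisms factored through P^n_Y and P^m_Z (i, j regular
closed imbeddings; X connected), and let f ≫ g = k ≫ r be a factorization through P^l_Z with k a
regular closed imbedding. With models and push-forwards as before: (r_K ∘ k_K) = (q_K ∘ j_K) ∘ (p_K
∘ i_K). -/
theorem result (n m l : ℕ) {X Y Z : Scheme.{u}} [IsNoetherian Y] [ConnectedSpace ↥Y] (hYe : KRR.HasEnoughLocFree Y) [IsNoetherian Z] [ConnectedSpace ↥Z] (hZe : KRR.HasEnoughLocFree Z)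
    (hstarY : ∀ a : ℕ, KRR.HasEnoughLocFree (KRR.PY a Y) ∧ ∀ b : ℕ, KRR.HasEnoughLocFree (KRR.PY a (KRR.PY b Y)))
    (hstarZ : ∀ a : ℕ, KRR.HasEnoughLocFree (KRR.PY a Z) ∧ ∀ b : ℕ, KRR.HasEnoughLocFree (KRR.PY a (KRR.PY b Z)))
    [ConnectedSpace ↥X] (f : X ⟶ Y) (g : Y ⟶ Z)
    (i : X ⟶ KRR.PY n Y) (hi : Mor2.IsRegularClosedImmersion i) (hf : i ≫ KRR.pr n Y = f)
    (j : Y ⟶ KRR.PY m Z) (hj : Mor2.IsRegularClosedImmersion j) (hg : j ≫ KRR.pr m Z = g)
    (k : X ⟶ KRR.PY l Z) (hk : Mor2.IsRegularClosedImmersion k) (hfg : k ≫ KRR.pr l Z = f ≫ g)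
    (KX : Type v) [CommRing KX] [LambdaRing.LambdaOps KX] (PX : LambdaRing.PosStructure KX) (φX : SGA6.Kvb X →+ KX) (hKX : KRR.IsModel X KX PX φX)
    (KY : Type v) [CommRing KY] [LambdaRing.LambdaOps KY] (PY : LambdaRing.PosStructure KY) (φY : SGA6.Kvb Y →+ KY) (hKY : KRR.IsModel Y KY PY φY)
    (KZ : Type v) [CommRing KZ] [LambdaRing.LambdaOps KZ] (PZ : LambdaRing.PosStructure KZ) (φZ : SGA6.Kvb Z →+ KZ) (hKZ : KRR.IsModel Z KZ PZ φZ)
    (K₁ : Type v) [CommRing K₁] [LambdaRing.LambdaOps K₁] (P₁ : LambdaRing.PosStructure K₁) (φ₁ : SGA6.Kvb (KRR.PY n Y) →+ K₁) (hK₁ : KRR.IsModel (KRR.PY n Y) K₁ P₁ φ₁)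
    (K₂ : Type v) [CommRing K₂] [LambdaRing.LambdaOps K₂] (P₂ : LambdaRing.PosStructure K₂) (φ₂ : SGA6.Kvb (KRR.PY m Z) →+ K₂) (hK₂ : KRR.IsModel (KRR.PY m Z) K₂ P₂ φ₂)
    (K₃ : Type v) [CommRing K₃] [LambdaRing.LambdaOps K₃] (P₃ : LambdaRing.PosStructure K₃) (φ₃ : SGA6.Kvb (KRR.PY l Z) →+ K₃) (hK₃ : KRR.IsModel (KRR.PY l Z) K₃ P₃ φ₃)
    (a₁ : KX →+ K₁) (ha₁ : KRR.IsPushCl i φX φ₁ a₁) (b₁ : K₁ →+ KY) (hb₁ : KRR.IsPushPr n Y φ₁ φY b₁)
    (a₂ : KY →+ K₂) (ha₂ : KRR.IsPushCl j φY φ₂ a₂) (b₂ : K₂ →+ KZ) (hb₂ : KRR.IsPushPr m Z φ₂ φZ b₂)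
    (a₃ : KX →+ K₃) (ha₃ : KRR.IsPushCl k φX φ₃ a₃) (b₃ : K₃ →+ KZ) (hb₃ : KRR.IsPushPr l Z φ₃ φZ b₃) :
    b₃.comp a₃ = (b₂.comp a₂).comp (b₁.comp a₁) := by
  haveI := hi.1
  haveI := hj.1
  haveI := hk.1
  haveI : IsProper (KRR.pr m Z) := RelVALib.isProper_toBase m Z
  haveI : IsProper g := hg ▸ inferInstance
  have hsq := (KPr28.isPullback_projSpaceMap l g (pullback.lift_snd _ _ _))
  obtain ⟨k', hk'1, hk'2⟩ : ∃ k' : X ⟶ KRR.PY l Y, k' ≫ KRR.projSpaceMap l g = k ∧ k' ≫ KRR.pr l Y = f :=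
    ⟨hsq.lift k f hfg, hsq.lift_fst _ _ _, hsq.lift_snd _ _ _⟩
  haveI : IsSeparated (KRR.projSpaceMap l g) := MorphismProperty.of_isPullback hsq.flip inferInstance
  haveI : IsClosedImmersion (k' ≫ KRR.projSpaceMap l g) := hk'1.symm ▸ inferInstance
  haveI : IsClosedImmersion k' := IsClosedImmersion.of_comp k' (KRR.projSpaceMap l g)
  let p := pullback.fst (CohB1.ProjSpace.toSpec l (ULift.{u} ℤ)) (specULiftZIsTerminal.from Z)
  have hp : KRR.projSpaceMap l g ≫ p =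
      pullback.fst (CohB1.ProjSpace.toSpec l (ULift.{u} ℤ)) (specULiftZIsTerminal.from Y) :=
    (pullback.lift_fst _ _ _).trans (Category.comp_id _)
  let tw : ∀ (s : ℤ) (H : X.Modules), tws k' s H ≅ tws k s H := fun s H =>
    AmpleLib.tensorIso ((Scheme.Modules.pullback k').mapIso
      (((Scheme.Modules.pullbackComp _ p).app _ ≪≫ (Scheme.Modules.pullbackCongr hp).app _).symm) ≪≫
        (Scheme.Modules.pullbackComp k' (KRR.projSpaceMap l g)).app _ ≪≫ (Scheme.Modules.pullbackCongr hk'1).app _)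
      (Iso.refl _)
  refine AddMonoidHom.ext fun x => ?_
  obtain ⟨z, rfl⟩ := hKX.bijective.2 x
  refine KvbLam28.kvb_induction (P := fun z => (b₃.comp a₃) (φX z) = ((b₂.comp a₂).comp (b₁.comp a₁)) (φX z))
    (by simp) (fun F hF => ?_) (fun a ha => by simp only [map_neg, ha]) (fun a b ha hb => by simp only [map_add, ha, hb]) z
  have hFc := Coherent.CohBC.isCoh_of_isFinLocFree hF
  obtain ⟨Q, hQ⟩ := Coherent.exists_bound_isZero_rpushAb g
  let E : ℕ → X.Modules := fun q => CohB1.tensorMod ((Scheme.Modules.pullback f).obj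
    ((Scheme.Modules.pullback j).obj (Twist.twistOver m Z (-(q : ℤ))))) F
  have hE : ∀ q, Coh.IsCoh (E q) := fun q => Coherent.CohBC.isCoh_of_isFinLocFree
    (ExtFilt28.isFinLocFree_tensor (DCat.PullPerf.isFinLocFree_pullback f
      (DCat.PullPerf.isFinLocFree_pullback j (KPr28.isFinLocFree_twistOver _))) hF)
  obtain ⟨N₁, hN₁⟩ := exists_hvan i k' hf hk'2 hFc
  obtain ⟨N₂, hN₂⟩ := exists_van_tws_range k' hk'2 E hE Q
  obtain ⟨N₃, hN₃⟩ := exists_van_tws_range k hfg E hE Q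
  obtain ⟨N₄, hN₄⟩ := exists_hvan k k hfg hfg hFc
  refine eq_of_twists k' ((b₃.comp a₃).comp φX) (((b₂.comp a₂).comp (b₁.comp a₁)).comp φX) hF
    ⟨max (max N₁ N₂) (max N₃ N₄), fun s hs => ?_⟩
  have hG := isFinLocFree_tws k' s hF
  obtain ⟨hb₁', e₁⟩ := pushPr_pushCl_apply hYe (hstarY n).1 hi hK₁.bijective ha₁ hb₁ hf hG
    (hN₁ s (le_trans ((le_max_left _ _).trans (le_max_left _ _)) hs))
  obtain ⟨-, e₃⟩ := pushPr_pushCl_apply hZe (hstarZ l).1 hk hK₃.bijective ha₃ hb₃ hfg hG fun q hq => by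
    let e : tws k (-(q : ℤ)) (tws k' s F) ≅ tws k (-(q : ℤ)) (tws k s F) :=
      AmpleLib.tensorIso (Iso.refl _) (tw s F)
    exact (hN₄ s (le_trans ((le_max_right _ _).trans (le_max_right _ _)) hs) q hq).of_iso
      ((Coh.RpushAb (f ≫ g) q).mapIso ((Coherent.toAbFunctor _).mapIso e))
  haveI := isNoetherian_PY m Z
  have hA := KPush28.cohBdd_push' j hYe (hstarZ m).1 hj hb₁'
  have hreg : KRR.IsRegSheaf m Z ((Scheme.Modules.pushforward j).obj ((Scheme.Modules.pushforward f).obj (tws k' s F))) := by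
    intro q hq
    haveI := hb₁'.1.1
    refine van_push j q _ ?_
    rw [hg]
    rcases le_or_gt Q q with h | h
    · exact hQ _ (isCoh_tws j _ hb₁'.1).1 q h
    have hO : FlatMod.IsFinLocFree ((Scheme.Modules.pullback j).obj (Twist.twistOver m Z (-(q : ℤ)))) :=
      DCat.PullPerf.isFinLocFree_pullback j (KPr28.isFinLocFree_twistOver _)
    let H := CohB1.tensorMod ((Scheme.Modules.pullback f).obj
      ((Scheme.Modules.pullback j).obj (Twist.twistOver m Z (-(q : ℤ))))) (tws k' s F)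
    let eH : H ≅ tws k' s (E q) := (DCat.TensorAssoc.assocIso _ _ _).symm ≪≫
      AmpleLib.tensorIso (AmpleLib.tensorComm _ _) (Iso.refl _) ≪≫ DCat.TensorAssoc.assocIso _ _ _
    have hac : ∀ r : ℕ, IsZero ((Coh.RpushAb f (r + 1)).obj (Coh.toAb H)) := fun r =>
      (hN₂ s (le_trans ((le_max_right _ _).trans (le_max_left _ _)) hs) q h (r + 1) (by omega)).of_iso
        ((Coh.RpushAb f (r + 1)).mapIso ((Coherent.toAbFunctor _).mapIso eH))
    have hz : IsZero ((Coh.RpushAb (f ≫ g) q).obj (Coh.toAb H)) :=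
      (hN₃ s (le_trans ((le_max_left _ _).trans (le_max_right _ _)) hs) q h q hq).of_iso
        ((Coh.RpushAb (f ≫ g) q).mapIso ((Coherent.toAbFunctor _).mapIso (eH ≪≫ tw s (E q))))
    exact (isZero_of_acyclic f g H hac q hz).of_iso ((Coh.RpushAb g q).mapIso ((Coherent.toAbFunctor _).mapIso
      ((Coherent.projIso (f := f) hO).app (tws k' s F))))
  obtain ⟨hb₂', e₂⟩ := pushPr_vbCl hK₂.bijective hb₂ hZe (hstarZ m).1 hreg hA
  show b₃ (a₃ (φX _)) = b₂ (a₂ (b₁ (a₁ (φX _))))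
  rw [e₁, pushCl_vbCl hYe (hstarZ m).1 hj ha₂ hb₁', e₂, e₃]
  refine congrArg φZ (vbCl_iso hZe ?_ hb₂').symm
  exact (Scheme.Modules.pushforwardComp j (KRR.pr m Z)).app _ ≪≫ (Scheme.Modules.pushforwardCongr hg).app _ ≪≫
    (Scheme.Modules.pushforwardComp f g).app _

end Groth.Agent.S3768
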