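import Groth.Statements.S3773
import Groth.Agent.BlowUpK28.Exact

set_option autoImplicit false
set_option linter.style.haveILetI false
set_option backward.isDefEq.respectTransparency false
universe v u
open CategoryTheory CategoryTheory.Limits AlgebraicGeometry
attribute [local instance] HasDerivedCategory.standard
open KRR

namespace Groth.Agent.S3773

/-- Exactness in the middle of the K-theory sequence of a blow-up: let S be an affine Noetherian scheme,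
Y a connected Noetherian scheme, quasi-projective over S, all of whose local rings are regular, f :
X ⟶ Y a regular closed immersion of codimension d ≥ 1 (conormal module C finite locally free of rank
d) with X connected and all local rings of X regular, φ : Y₁ ⟶ Y the blowing up of Y along X, and X₁
= Y₁ ×_Y X the exceptional divisor with projections f₁ : X₁ ⟶ Y₁ (a closed immersion whose conormal
module C₁ is invertible) and ψ : X₁ ⟶ X, with X₁ and Y₁ connected. Work in models K(X), K(Y), K(X₁),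
K(Y₁) of the Grothendieck rings of vector bundles as λ-rings with positive structure, with pullback
maps φ^K : K(Y) → K(Y₁), ψ^K : K(X) → K(X₁) and push-forward maps f_K : K(X) → K(Y), (f₁)_K : K(X₁)
→ K(Y₁). Put c = [C] ∈ K(X), ℓ = [C₁] ∈ K(X₁), e = ψ^K c − ℓ (the class of the universal sub-bundle,
of rank d − 1) and λ_{−1}(e) = Σ_{i ≤ ε(e)} (−1)^i λ^i(e). Define u : K(X) ⟶ K(X₁) ⊕ K(Y) by u(x) =
(−λ_{−1}(e) · ψ^K x, f_K x) and v : K(X₁) ⊕ K(Y) ⟶ K(Y₁) by v(x₁, y) = (f₁)_K x₁ + φ^K y. Then v ∘ u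
= 0, that is φ^K f_K x = (f₁)_K(λ_{−1}(e) · ψ^K x) for every x, and every (x₁, y) with v(x₁, y) = 0
is of the form u(x) for some x ∈ K(X). -/
theorem result (S : Scheme.{u}) [IsAffine S] [IsNoetherian S] {X Y X₁ Y₁ : Scheme.{u}} [IsNoetherian Y] [ConnectedSpace ↥Y] (qY : Y ⟶ S) (hqY : KRR.IsQProjOver qY)
    (hYreg : ∀ y : Y, IsRegularLocalRing (Y.presheaf.stalk y))
    (f : X ⟶ Y) (hf : Mor2.IsRegularClosedImmersion f) [ConnectedSpace ↥X] (d : ℕ) (hd : 1 ≤ d)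
    (hC : FlatMod.IsFinLocFreeOfRank d (Omega.conormal f)) (hXreg : ∀ x : X, IsRegularLocalRing (X.presheaf.stalk x))
    (φ : Y₁ ⟶ Y) (hφ : BlowUp.IsBlowUp φ f.ker) (f₁ : X₁ ⟶ Y₁) (ψ : X₁ ⟶ X) (hsq : IsPullback f₁ ψ φ f)
    [IsClosedImmersion f₁] (hC₁ : FlatMod.IsFinLocFreeOfRank 1 (Omega.conormal f₁)) [ConnectedSpace ↥X₁] [ConnectedSpace ↥Y₁]
    (KX : Type v) [CommRing KX] [LambdaRing.LambdaOps KX] (PX : LambdaRing.PosStructure KX) (φX : SGA6.Kvb X →+ KX) (hKX : KRR.IsModel X KX PX φX)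
    (KY : Type v) [CommRing KY] [LambdaRing.LambdaOps KY] (PY : LambdaRing.PosStructure KY) (φY : SGA6.Kvb Y →+ KY) (hKY : KRR.IsModel Y KY PY φY)
    (KX₁ : Type v) [CommRing KX₁] [LambdaRing.LambdaOps KX₁] (PX₁ : LambdaRing.PosStructure KX₁) (φX₁ : SGA6.Kvb X₁ →+ KX₁) (hKX₁ : KRR.IsModel X₁ KX₁ PX₁ φX₁)
    (KY₁ : Type v) [CommRing KY₁] [LambdaRing.LambdaOps KY₁] (PY₁ : LambdaRing.PosStructure KY₁) (φY₁ : SGA6.Kvb Y₁ →+ KY₁) (hKY₁ : KRR.IsModel Y₁ KY₁ PY₁ φY₁)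
    (gφ : KY →+ KY₁) (hgφ : KRR.IsPull φ φY φY₁ gφ) (gψ : KX →+ KX₁) (hgψ : KRR.IsPull ψ φX φX₁ gψ)
    (gf : KX →+ KY) (hgf : KRR.IsPushCl f φX φY gf) (gf₁ : KX₁ →+ KY₁) (hgf₁ : KRR.IsPushCl f₁ φX₁ φY₁ gf₁) :
    (∀ x : KX, gf₁ (-(KRR.lamAlt PX₁ (gψ (φX (KRR.cl X (Omega.conormal f))) - φX₁ (KRR.cl X₁ (Omega.conormal f₁))) * gψ x)) + gφ (gf x) = 0) ∧
    ∀ (x₁ : KX₁) (y : KY), gf₁ x₁ + gφ y = 0 → ∃ x : KX, -(KRR.lamAlt PX₁ (gψ (φX (KRR.cl X (Omega.conormal f))) - φX₁ (KRR.cl X₁ (Omega.conormal f₁))) * gψ x) = x₁ ∧ gf x = y := by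
  obtain ⟨m, rfl⟩ : ∃ m, d = m + 1 := ⟨d - 1, by omega⟩
  exact Groth.Agent.BlowUpK28.sequence_exact hqY hYreg hf hC hXreg hφ hsq hC₁ hKX hKY hKX₁ hKY₁ hgφ hgψ hgf hgf₁

end Groth.Agent.S3773
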