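import Groth.Statements.S3786
import Groth.Agent.KPushPr28.Twist
set_option linter.style.haveILetI false
set_option backward.isDefEq.respectTransparency false

set_option autoImplicit false
universe v u
open CategoryTheory CategoryTheory.Limits AlgebraicGeometry
attribute [local instance] HasDerivedCategory.standard
open KRR Groth.Agent Groth.Agent.KPushPr28 Groth.Agent.KPush28 Groth.Agent.ResLF28

namespace Groth.Agent.S3786

/-- Let Y be a connected Noetherian scheme in which every coherent module on Y and on P^n_Y is a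
quotient of a finite locally free one, and f = i ≫ p : X ⟶ Y with i : X ⟶ P^n_Y a regular closed
imbedding (X connected) and p the projection. Let δ_X : K₀(bundles on X) ⟶ K₀(Coh X) and δ_Y be the
maps induced by the inclusions (arguments hX, hY), f_K = p_K ∘ i_K the push-forward on K of bundles
(through models (KX, PX, φX), (KP, PP, φP), (KY, PY, φY)), and g the push-forward on K₀ of coherent
modules, g[F] = Σ_{i ≤ N} (-1)^i [R^i f_* F]. Then δ_Y ∘ f_K = g ∘ δ_X: for x ∈ K₀(bundles on X) and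
y ∈ K₀(bundles on Y) with φY y = f_K (φX x), δ_Y y = g (δ_X x). -/
theorem result (n : ℕ) {X Y : Scheme.{u}} [IsNoetherian X] [ConnectedSpace ↥X] [IsNoetherian Y] [ConnectedSpace ↥Y] (hYe : KRR.HasEnoughLocFree Y)
    (hPe : KRR.HasEnoughLocFree (KRR.PY n Y)) [HasInjectiveResolutions X.Modules]
    (i : X ⟶ KRR.PY n Y) (hi : Mor2.IsRegularClosedImmersion i)
    (hX : ∀ M : X.Modules, FlatMod.IsFinLocFree M → Coh.IsCoh M) (hY : ∀ M : Y.Modules, FlatMod.IsFinLocFree M → Coh.IsCoh M)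
    (KX : Type v) [CommRing KX] [LambdaRing.LambdaOps KX] (PX : LambdaRing.PosStructure KX) (φX : SGA6.Kvb X →+ KX) (hKX : KRR.IsModel X KX PX φX)
    (KP : Type v) [CommRing KP] [LambdaRing.LambdaOps KP] (PP : LambdaRing.PosStructure KP) (φP : SGA6.Kvb (KRR.PY n Y) →+ KP) (hKP : KRR.IsModel (KRR.PY n Y) KP PP φP)
    (KY : Type v) [CommRing KY] [LambdaRing.LambdaOps KY] (PY : LambdaRing.PosStructure KY) (φY : SGA6.Kvb Y →+ KY) (hKY : KRR.IsModel Y KY PY φY)
    (a : KX →+ KP) (ha : KRR.IsPushCl i φX φP a) (b : KP →+ KY) (hb : KRR.IsPushPr n Y φP φY b)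
    (N : ℕ) (g : SGA6.Kcoh X →+ SGA6.Kcoh Y) (hg : KRR.IsPushCoh (i ≫ KRR.pr n Y) N g)
    (x : SGA6.Kvb X) (y : SGA6.Kvb Y) (hxy : φY y = b (a (φX x))) :
    SGA6.mapSub (𝟭 Y.Modules) (KRR.vbP Y) (fun M : Y.Modules => Coh.IsCoh M) hY y =
      g (SGA6.mapSub (𝟭 X.Modules) (KRR.vbP X) (fun M : X.Modules => Coh.IsCoh M) hX x) := by
  haveI := hi.1
  haveI := isNoetherian_PY n Y
  let A : SGA6.Kvb X →+ SGA6.Kvb Y :=
    (AddEquiv.ofBijective φY hKY.bijective).symm.toAddMonoidHom.comp ((b.comp a).comp φX)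
  have hy : y = A x := by
    show y = (AddEquiv.ofBijective φY hKY.bijective).symm (b (a (φX x)))
    rw [← hxy]; exact ((AddEquiv.ofBijective φY hKY.bijective).symm_apply_apply y).symm
  subst hy
  let dY := SGA6.mapSub (𝟭 Y.Modules) (KRR.vbP Y) (fun M : Y.Modules => Coh.IsCoh M) hY
  let dX := SGA6.mapSub (𝟭 X.Modules) (KRR.vbP X) (fun M : X.Modules => Coh.IsCoh M) hX
  let dB := SGA6.mapSub (𝟭 Y.Modules) (cohBdd Y) (fun M : Y.Modules => Coh.IsCoh M) fun M h => h.1
  have hdY : ∀ w, dY w = dB (toBdd Y w) := fun w => by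
    refine KvbLam28.kvb_induction (P := fun w => dY w = dB (toBdd Y w)) (by simp) (fun E hE => ?_)
      (fun a ha => by simp only [map_neg, ha]) (fun a b ha hb => by simp only [map_add, ha, hb]) w
    rw [toBdd_cl hE]
    exact (mapSub_clSub (KRR.vbP Y) _ hY hE).trans
      (mapSub_clSub (cohBdd Y) _ (fun M h => h.1) (cohBdd_of_finLocFree hE)).symm
  refine KvbLam28.kvb_induction (P := fun x => dY (A x) = g (dX x)) (by simp) (fun F hF => ?_)
    (fun a ha => by simp only [map_neg, ha]) (fun a b ha hb => by simp only [map_add, ha, hb]) x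
  obtain ⟨N₁, hN₁⟩ := exists_hvan i i rfl rfl (Coherent.CohBC.isCoh_of_isFinLocFree hF)
  refine eq_of_twists i (dY.comp A) (g.comp dX) hF ⟨N₁, fun s hs => ?_⟩
  have hG := isFinLocFree_tws i s hF
  haveI := CAlgH3.LocFreeFactor.isQCoh_of_finLocFree hG
  obtain ⟨hb', e⟩ := pushPr_pushCl_apply hYe hPe hi hKP.bijective ha hb rfl hG (hN₁ s hs)
  have hreg : KRR.IsRegSheaf n Y ((Scheme.Modules.pushforward i).obj (tws i s F)) := fun q hq =>
    van_push i q _ (hN₁ s hs q hq)
  have hz : ∀ q : ℕ, 1 ≤ q → IsZero ((Coh.Rpush (i ≫ KRR.pr n Y) q).obj (tws i s F)) := fun q hq => by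
    obtain ⟨e'⟩ := Coherent.nonempty_rpushAb_comp_affine i (KRR.pr n Y) (tws i s F) q
    exact BlowUpCoh.isZero_rpush_of_rpushAb _ ((KPr28.van_of_reg hreg q hq).of_iso e'.symm)
  have hA : A (KRR.cl X (tws i s F)) = vbCl Y hYe ((Scheme.Modules.pushforward (i ≫ KRR.pr n Y)).obj (tws i s F)) := by
    show (AddEquiv.ofBijective φY hKY.bijective).symm (b (a (φX _))) = _
    rw [e]; exact (AddEquiv.ofBijective φY hKY.bijective).symm_apply_apply _
  show dY (A _) = g (dX _)
  rw [hA, hdY, toBdd_vbCl, mapSub_clSub (KRR.vbP X) _ hX hG,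
    mapSub_clSub (cohBdd Y) _ (fun M h => h.1) hb', hg.2 _ (Coherent.CohBC.isCoh_of_isFinLocFree hG),
    Finset.sum_eq_single 0]
  · rw [pow_zero, one_smul]
    let e0 := ((Scheme.Modules.pushforward (i ≫ KRR.pr n Y)).rightDerivedZeroIsoSelf.app (tws i s F))
    exact KPush28.map_iso_of_additive (P := fun M : Y.Modules => Coh.IsCoh M)
      (KZero.clSub (fun M : Y.Modules => Coh.IsCoh M)) (fun S hS h₁ h₂ h₃ => Resolution28.clSub_rel hS h₁ h₂ h₃)
      ((Scheme.Modules.pushforward (i ≫ KRR.pr n Y)).map_isZero (Limits.isZero_zero X.Modules))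
      (cohBdd_of_finLocFree (ExtFilt28.isFinLocFree_isZero
        ((Scheme.Modules.pushforward (i ≫ KRR.pr n Y)).map_isZero (Limits.isZero_zero X.Modules)))).1
      hb'.1 (Coherent.isCoh_of_iso e0.symm hb'.1) e0.symm
  · intro q _ hq
    have hc : Coh.IsCoh ((Coh.Rpush (i ≫ KRR.pr n Y) q).obj (tws i s F)) :=
      (cohBdd_of_finLocFree (ExtFilt28.isFinLocFree_isZero (hz q (by omega)))).1
    haveI : ObjectProperty.ContainsZero (fun M : Y.Modules => Coh.IsCoh M) := ⟨⟨_, hz q (by omega), hc⟩⟩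
    haveI : ObjectProperty.IsClosedUnderIsomorphisms (fun M : Y.Modules => Coh.IsCoh M) :=
      ⟨fun e h => Coherent.isCoh_of_iso e h⟩
    rw [KZeroLib.clSub_isZero (hz q (by omega)), smul_zero]
  · intro h; simp at h

end Groth.Agent.S3786
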