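import Groth.Statements.S3787
import Groth.Agent.KLoc28.RatFilt
-- import your own Groth.Agent.* helpers here

set_option autoImplicit false
set_option backward.isDefEq.respectTransparency false
set_option linter.style.haveILetI false
universe v u
open CategoryTheory CategoryTheory.Limits AlgebraicGeometry
attribute [local instance] HasDerivedCategory.standard
open KRR

namespace Groth.Agent.S3787

/-- The key step of its last assertion: let X be a connected Noetherian scheme with an ample invertible
module, all of whose local rings are regular, and (K, P, φ) a model of K(X); let δ : K₀(bundles) ⟶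
K₀(Coh X) be induced by the inclusion (argument hX). Let ι : V ⟶ X be a closed immersion with V
integral, whose generic point maps to a point ξ with dim O_{X,ξ} = n (V has codimension n). Then
[O_V] ∈ ℚF^n K(X): there are N ≥ 1 and z ∈ K₀(bundles) with φ z ∈ F^n K(X) (γ-filtration) and N ·
[ι_* O_V] = δ z in K₀(Coh X). -/
theorem result (X : Scheme.{u}) [IsNoetherian X] [ConnectedSpace ↥X]
    (L : X.Modules) (hL : CohB1.IsAmple L) (hreg : ∀ x : X, IsRegularLocalRing (X.presheaf.stalk x))
    (K : Type v) [CommRing K] [LambdaRing.LambdaOps K] (P : LambdaRing.PosStructure K) (φ : SGA6.Kvb X →+ K) (hK : KRR.IsModel X K P φ)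
    (hX : ∀ M : X.Modules, FlatMod.IsFinLocFree M → Coh.IsCoh M)
    {V : Scheme.{u}} (ι : V ⟶ X) [IsClosedImmersion ι] [IsIntegral V] (n : ℕ)
    (hn : ringKrullDim (X.presheaf.stalk (ι (genericPoint V))) = n) :
    ∃ (N : ℕ) (z : SGA6.Kvb X), 1 ≤ N ∧ φ z ∈ LambdaRing.gammaFiltration P n ∧
      N • KZero.clSub (fun M : X.Modules => Coh.IsCoh M) ((Scheme.Modules.pushforward ι).obj (Coh.structureModule V)) =
        SGA6.mapSub (𝟭 X.Modules) (KRR.vbP X) (fun M : X.Modules => Coh.IsCoh M) hX z := by
  let A : AddSubgroup (SGA6.Kcoh X) :=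
    { carrier := {c | ∃ (N : ℕ) (z : SGA6.Kvb X), 1 ≤ N ∧ φ z ∈ LambdaRing.gammaFiltration P n ∧
          N • c = SGA6.mapSub (𝟭 X.Modules) (KRR.vbP X) (fun M : X.Modules => Coh.IsCoh M) hX z}
      zero_mem' := ⟨1, 0, le_rfl, by simp, by simp⟩
      add_mem' := by
        rintro a b ⟨N, z, hN, hz, e⟩ ⟨N', z', hN', hz', e'⟩
        refine ⟨N * N', N' • z + N • z', Nat.one_le_iff_ne_zero.2 (by positivity), ?_, ?_⟩
        · rw [map_add, map_nsmul, map_nsmul]
          exact add_mem (nsmul_mem hz _) (nsmul_mem hz' _)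
        · rw [map_add, map_nsmul, map_nsmul, ← e, ← e', nsmul_add, smul_smul, smul_smul, mul_comm N' N]
      neg_mem' := by
        rintro a ⟨N, z, hN, hz, e⟩
        exact ⟨N, -z, hN, by rw [map_neg]; exact neg_mem hz, by rw [map_neg, ← e, neg_nsmul]⟩ }
  haveI : IsLocallyNoetherian V := LocallyOfFiniteType.isLocallyNoetherian ι
  have hc : Coh.IsCoh ((Coh.push ι).obj (Coh.structureModule V)) :=
    Groth.Agent.Coherent.isCoh_push_finite ι (Groth.Agent.Coherent.isCoh_structureModule V)
  refine (AddSubgroup.closure_le A).2 ?_ (Groth.Agent.KTop28.cl_mem_closure_points _ hc)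
  rintro _ ⟨x, hx, rfl⟩
  have hxr : x ∈ Set.range ι := by
    by_contra h
    exact hx (Groth.Agent.DCat.ClosedPush.subsingleton_stalk_push ι _ x h)
  obtain ⟨z, rfl⟩ := hxr
  exact Groth.Agent.KLoc28.mem_rational_gammaFiltration hL hreg hK hX n (ι z)
    (hn.ge.trans (Groth.Agent.KLoc28.dim_le_of_specializes ((genericPoint_specializes z).map ι.continuous)))

end Groth.Agent.S3787
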