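import Groth.Statements.S3788
import Groth.Agent.ExtPowEx28.Pull
import Groth.Agent.KModel28.Basic
import Groth.Agent.GrassLib.MapOfEpi
import Groth.Agent.KPush28.Disjoint

set_option autoImplicit false
set_option linter.style.haveILetI false
universe v u
open CategoryTheory CategoryTheory.Limits AlgebraicGeometry
attribute [local instance] HasDerivedCategory.standard
open KRR

namespace Groth.Agent.S3788

/-- The relation satisfied by the tautological class: let X be a connected Noetherian scheme, E finite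
locally free of rank r + 1, and (π : P ⟶ X, O(1), q) its projective bundle P(E) (universal property
for invertible quotients of pull-backs of E), P connected Noetherian. With models of K(X), K(P), g =
π^K, e = [E] and ℓ = [O(1)]: Σ_{i=0}^{r+1} (-1)^i π^K(λ^i e) ℓ^{r+1-i} = 0 in K(P). -/
theorem result (X P : Scheme.{u}) [IsNoetherian X] [ConnectedSpace ↥X] [IsNoetherian P] [ConnectedSpace ↥P]
    (r : ℕ) (E : X.Modules) (hE : FlatMod.IsFinLocFreeOfRank (r + 1) E)
    (π : P ⟶ X) (O1 : P.Modules) (q : (Scheme.Modules.pullback π).obj E ⟶ O1) (hPB : KRR.IsProjBundle π E O1 q)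
    (KX : Type v) [CommRing KX] [LambdaRing.LambdaOps KX] (PX : LambdaRing.PosStructure KX) (φX : SGA6.Kvb X →+ KX) (hKX : KRR.IsModel X KX PX φX)
    (KP : Type v) [CommRing KP] [LambdaRing.LambdaOps KP] (PP : LambdaRing.PosStructure KP) (φP : SGA6.Kvb P →+ KP) (hKP : KRR.IsModel P KP PP φP)
    (g : KX →+ KP) (hg : KRR.IsPull π φX φP g) :
    ∑ i ∈ Finset.range (r + 2), (-1 : KP) ^ i * g (LambdaRing.LambdaOps.lam i (φX (KRR.cl X E))) * φP (KRR.cl P O1) ^ (r + 1 - i) = 0 := by
  classical
  have hEf := Groth.Agent.VarietyLib.isFinLocFree_of_rank hE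
  let E' := (Scheme.Modules.pullback π).obj E
  have hE' : FlatMod.IsFinLocFreeOfRank (r + 1) E' := Groth.Agent.GrassLib.isFinLocFreeOfRank_pullback π hE
  have hE'f := Groth.Agent.VarietyLib.isFinLocFree_of_rank hE'
  have hO := Groth.Agent.VarietyLib.isFinLocFree_of_rank hPB.invertible
  haveI := hPB.epi
  have hH := Groth.Agent.KPush28.finLocFree_kernel q hE'f hO
  obtain ⟨m, hm⟩ := Groth.Agent.KModel28.exists_rank hH
  have hses : KRR.cl P E' = KRR.cl P (kernel q) + KRR.cl P O1 :=
    Groth.Agent.ExtFilt28.clv_ses (Groth.Agent.ResLF28.ses_kernel q) hH hE'f hO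
  set h := φP (KRR.cl P (kernel q)) with hh
  set l := φP (KRR.cl P O1) with hl
  have hm' : m = r := by
    have := congrArg (fun x => PP.aug (φP x)) hses
    simp only [map_add, hKP.aug_cl _ _ hE', hKP.aug_cl _ _ hm, hKP.aug_cl _ _ hPB.invertible] at this
    omega
  subst hm'
  have hlam : ∀ i, g (LambdaRing.LambdaOps.lam i (φX (KRR.cl X E))) =
      LambdaRing.LambdaOps.lam i (h + l) := fun i => by
    obtain ⟨L, hL, hp⟩ := Groth.Agent.ExtPowEx28.exists_isExtPow hEf i
    rw [hKX.map_lam i E L hEf hL hp, hg L hL, hh, hl, ← map_add, ← hses,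
      hKP.map_lam i E' _ hE'f (Groth.Agent.DCat.PullPerf.isFinLocFree_pullback π hL)
        (Groth.Agent.ExtPowEx28.isExtPow_pullback_vb π hEf hp)]
  have hline : ∀ j, 2 ≤ j → LambdaRing.LambdaOps.lam j l = 0 := fun j hj => by
    refine PP.lam_eq_zero l ((hKP.mem_pos_iff l).2 ⟨1, O1, le_rfl, hPB.invertible, rfl⟩) j ?_
    rw [hl, hKP.aug_cl _ _ hPB.invertible]
    omega
  have hsplit : ∀ k, LambdaRing.LambdaOps.lam (k + 1) (h + l) =
      LambdaRing.LambdaOps.lam (k + 1) h + LambdaRing.LambdaOps.lam k h * l := fun k => by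
    rw [LambdaRing.LambdaOps.lam_add, Finset.sum_range_succ, Finset.sum_range_succ,
      Finset.sum_eq_zero fun j hj => by
        rw [hline (k + 1 - j) (by have := Finset.mem_range.1 hj; omega), mul_zero]]
    rw [show k + 1 - k = 1 by omega, Nat.sub_self, LambdaRing.LambdaOps.lam_one, LambdaRing.LambdaOps.lam_zero]
    ring
  have htop : LambdaRing.LambdaOps.lam (m + 1) h = 0 := by
    obtain ⟨L, hL, hp⟩ := Groth.Agent.ExtPowEx28.exists_isExtPow hH (m + 1)
    obtain ⟨φ', hφ'⟩ := hp
    have hr := Groth.Agent.GrassLib.PBundle.isFinLocFreeOfRank_extPow φ' hφ' hm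
    rw [show Fintype.card (Set.powersetCard (Fin m) (m + 1)) = 0 by
      rw [← Nat.card_eq_fintype_card, Set.powersetCard.card, Nat.card_eq_fintype_card, Fintype.card_fin,
        Nat.choose_eq_zero_of_lt (Nat.lt_succ_self m)]] at hr
    rw [hh, hKP.map_lam (m + 1) _ L hH hL ⟨φ', hφ'⟩, Groth.Agent.KModel28.cl_isZero (Groth.Agent.KModel28.isZero_of_rank_zero hr),
      map_zero]
  have htel : ∀ j ≤ m + 1, ∑ i ∈ Finset.range (j + 1), (-1 : KP) ^ i * LambdaRing.LambdaOps.lam i (h + l) * l ^ (m + 1 - i) =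
      (-1 : KP) ^ j * LambdaRing.LambdaOps.lam j h * l ^ (m + 1 - j) := by
    intro j hj
    induction j with
    | zero => simp [LambdaRing.LambdaOps.lam_zero]
    | succ j ih =>
      rw [Finset.sum_range_succ, ih (by omega), hsplit, show m + 1 - j = (m + 1 - (j + 1)) + 1 by omega,
        pow_succ, pow_succ]
      ring
  rw [Finset.sum_congr rfl fun i _ => by rw [hlam i], htel (m + 1) le_rfl, htop]
  ring

end Groth.Agent.S3788
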