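import Groth.Statements.S3793
import Groth.Agent.KRR28.Tangent

set_option autoImplicit false
set_option linter.style.haveILetI false
set_option backward.isDefEq.respectTransparency false
universe v u
open CategoryTheory CategoryTheory.Limits AlgebraicGeometry
attribute [local instance] HasDerivedCategory.standard
open KRR

namespace Groth.Agent.S3793

/-- Let S be affine Noetherian, Y connected and quasi-projective over S, and f : X ⟶ Y (X connected)
with two factorizations f = i₁ ≫ p = i₂ ≫ p' through regular closed imbeddings i₁ : X ⟶ P^n_Y, i₂ :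
X ⟶ P^m_Y (conormal modules C₁, C₂ finite locally free of ranks c₁, c₂) and the projections. With a
model of K(X), the tangent element computed from either factorization is the same: ((n+1)[i₁^*O(1)]
- 1) - [C₁^∨] = ((m+1)[i₂^*O(1)] - 1) - [C₂^∨] (duals as sheaf Hom into O_X; [T_{P/Y}] = (n+1)[O(1)]
- 1 by the Euler sequence). -/
theorem result (S : Scheme.{u}) [IsAffine S] [IsNoetherian S] (n m : ℕ) {X Y : Scheme.{u}} [IsNoetherian Y] [ConnectedSpace ↥Y] (qY : Y ⟶ S) (hqY : KRR.IsQProjOver qY)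
    [ConnectedSpace ↥X] (f : X ⟶ Y)
    (i₁ : X ⟶ KRR.PY n Y) (h₁ : Mor2.IsRegularClosedImmersion i₁) (hf₁ : i₁ ≫ KRR.pr n Y = f) (c₁ : ℕ)
    (hC₁ : FlatMod.IsFinLocFreeOfRank c₁ (Omega.conormal i₁)) [DCoh.HasSheafHom (Omega.conormal i₁)]
    (i₂ : X ⟶ KRR.PY m Y) (h₂ : Mor2.IsRegularClosedImmersion i₂) (hf₂ : i₂ ≫ KRR.pr m Y = f) (c₂ : ℕ)
    (hC₂ : FlatMod.IsFinLocFreeOfRank c₂ (Omega.conormal i₂)) [DCoh.HasSheafHom (Omega.conormal i₂)]
    (KX : Type v) [CommRing KX] [LambdaRing.LambdaOps KX] (PX : LambdaRing.PosStructure KX) (φX : SGA6.Kvb X →+ KX) (hKX : KRR.IsModel X KX PX φX) :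
    ((n + 1 : ℕ) : KX) * φX (KRR.cl X ((Scheme.Modules.pullback i₁).obj (Twist.twistOver n Y 1))) - 1
        - φX (KRR.cl X ((DCoh.sheafHom (Omega.conormal i₁)).obj (Coh.structureModule X))) =
      ((m + 1 : ℕ) : KX) * φX (KRR.cl X ((Scheme.Modules.pullback i₂).obj (Twist.twistOver m Y 1))) - 1
        - φX (KRR.cl X ((DCoh.sheafHom (Omega.conormal i₂)).obj (Coh.structureModule X))) := by
  haveI := h₁.1
  haveI := h₂.1
  obtain ⟨D, hD⟩ := Groth.Agent.KRR28.exists_isDual (X := X) hKX.bijective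
  have hd : ∀ (E : X.Modules) [DCoh.HasSheafHom E], FlatMod.IsFinLocFree E →
      φX (KRR.cl X ((DCoh.sheafHom E).obj (Coh.structureModule X))) = D (φX (KRR.cl X E)) := fun E _ hE =>
    (congrArg φX (Groth.Agent.ExtFilt28.clv_iso ((Groth.Agent.Coherent.sheafHomIso E).app (Coh.structureModule X)))).trans
      (hD E hE).symm
  have g₁ := Groth.Agent.VarietyLib.isFinLocFree_of_rank hC₁
  have g₂ := Groth.Agent.VarietyLib.isFinLocFree_of_rank hC₂
  rw [hd _ g₁, hd _ g₂]
  exact Groth.Agent.KRR28.tangent_indep n m f i₁ hf₁ g₁ i₂ hf₂ g₂ (Groth.Agent.KSplit28.isKRing_of_isModel hKX) hD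

end Groth.Agent.S3793
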