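import Groth.Statements.S3801
import Groth.Agent.S3769
import Groth.Agent.S8650
import Groth.Agent.S8649
import Groth.Agent.KRR28.GrPush
-- import your own Groth.Agent.* helpers here

set_option autoImplicit false
set_option linter.style.haveILetI false
set_option backward.isDefEq.respectTransparency false
set_option synthInstance.maxHeartbeats 100000
set_option maxHeartbeats 800000
universe v u
open CategoryTheory CategoryTheory.Limits AlgebraicGeometry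
attribute [local instance] HasDerivedCategory.standard
open KRR

namespace Groth.Agent.S3801

theorem gamma_top_eq {K : Type v} [CommRing K] [LambdaRing.LambdaOps K] {P : LambdaRing.PosStructure K} {e : K}
    {m : ℕ} (he : P.aug e = m) :
    KRR.lamAlt P e = (-1 : K) ^ m * LambdaRing.gamma m (e - (P.aug e : K)) := by
  have h1 := Groth.Agent.LambdaLib.lam_one_eq_zero (P := P)
  rw [he, Int.cast_natCast, Groth.Agent.S8649.result K h1, Groth.Agent.S8650.result K h1, sub_add_cancel, KRR.lamAlt, he,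
    Int.toNat_natCast, ← mul_assoc, ← mul_pow, neg_one_mul, neg_neg, one_pow, one_mul]

theorem grK_neg_rat {K : Type v} [CommRing K] [LambdaRing.LambdaOps K] {P : LambdaRing.PosStructure K} {n N : ℕ}
    (hN : 1 ≤ N) {z : K} (hz : (N : K) * z ∈ LambdaRing.gammaFiltration P n) :
    KGr.grK P (n : ℤ) (-z) = - KGr.grK P (n : ℤ) z := by
  have h := Groth.Agent.KRR28.grK_add_rat (P := P) (e := (n : ℤ)) hN hN (x := z) (y := -z) (by simpa using hz)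
    (by simpa using neg_mem hz)
  rw [add_neg_cancel, Groth.Agent.LambdaLib.grK_zero] at h
  exact eq_neg_of_add_eq_zero_right h.symm

theorem neg_one_pow_grK {K : Type v} [CommRing K] [LambdaRing.LambdaOps K] {P : LambdaRing.PosStructure K} {n N : ℕ}
    (hN : 1 ≤ N) {z : K} (hz : (N : K) * z ∈ LambdaRing.gammaFiltration P n) (m : ℕ) :
    KGr.grK P (n : ℤ) ((-1 : ℤ) ^ m • z) = (-1 : ℤ) ^ m • KGr.grK P (n : ℤ) z := by
  rcases neg_one_pow_eq_or ℤ m with h | h <;> rw [h]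
  · rw [one_smul, one_smul]
  · rw [neg_one_smul, neg_one_smul, grK_neg_rat hN hz]

/-- Graded excess intersection formula, for a regular imbedding. Let S be an affine Noetherian scheme;
Y, Y₁ connected Noetherian schemes quasi-projective over S; f : X → Y and f₁ : X₁ → Y₁ regular
closed imbeddings with X, X₁ connected and with conormal sheaves C, C₁ locally free of ranks d and
d₁ ≤ d, fitting in a fibre square with φ : Y₁ → Y and ψ : X₁ → X. Work in models of the K-theory of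
vector bundles on the four schemes as λ-rings with positive structure, with φ^K, ψ^K induced by
pull-back and f_K, (f₁)_K by push-forward, and let φ^G, ψ^G and f_G, (f₁)_G be the induced maps on
the associated graded rings ℚGr of the γ-filtrations (the push-forwards of graded degrees d, d₁).
Let e = ψ^K[C] − [C₁] be the excess class and m = d − d₁. Then for every x ∈ F^k K(X):
(f₁)_G(c_m(e^∨) · ψ^G [x]_k) = φ^G(f_G [x]_k), where c_m(e^∨) = (−1)^m c_m(e) is the top Chern class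
of the dual of the excess bundle. -/
theorem result (S : Scheme.{u}) [IsAffine S] [IsNoetherian S] {X Y X₁ Y₁ : Scheme.{u}} [IsNoetherian Y] [ConnectedSpace ↥Y] (qY : Y ⟶ S) (hqY : KRR.IsQProjOver qY)
    [IsNoetherian Y₁] [ConnectedSpace ↥Y₁] (qY₁ : Y₁ ⟶ S) (hqY₁ : KRR.IsQProjOver qY₁)
    (f : X ⟶ Y) (hf : Mor2.IsRegularClosedImmersion f) [ConnectedSpace ↥X] (d : ℕ)
    (hC : FlatMod.IsFinLocFreeOfRank d (Omega.conormal f))
    (φ : Y₁ ⟶ Y) (f₁ : X₁ ⟶ Y₁) (ψ : X₁ ⟶ X) (hsq : IsPullback f₁ ψ φ f)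
    (hf₁ : Mor2.IsRegularClosedImmersion f₁) [ConnectedSpace ↥X₁] (d₁ : ℕ) (hd : d₁ ≤ d)
    (hC₁ : FlatMod.IsFinLocFreeOfRank d₁ (Omega.conormal f₁))
    (KX : Type v) [CommRing KX] [LambdaRing.LambdaOps KX] (PX : LambdaRing.PosStructure KX) (φX : SGA6.Kvb X →+ KX) (hKX : KRR.IsModel X KX PX φX)
    (KY : Type v) [CommRing KY] [LambdaRing.LambdaOps KY] (PY : LambdaRing.PosStructure KY) (φY : SGA6.Kvb Y →+ KY) (hKY : KRR.IsModel Y KY PY φY)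
    (KX₁ : Type v) [CommRing KX₁] [LambdaRing.LambdaOps KX₁] (PX₁ : LambdaRing.PosStructure KX₁) (φX₁ : SGA6.Kvb X₁ →+ KX₁) (hKX₁ : KRR.IsModel X₁ KX₁ PX₁ φX₁)
    (KY₁ : Type v) [CommRing KY₁] [LambdaRing.LambdaOps KY₁] (PY₁ : LambdaRing.PosStructure KY₁) (φY₁ : SGA6.Kvb Y₁ →+ KY₁) (hKY₁ : KRR.IsModel Y₁ KY₁ PY₁ φY₁)
    (gφ : KY →+ KY₁) (hgφ : KRR.IsPull φ φY φY₁ gφ) (gψ : KX →+ KX₁) (hgψ : KRR.IsPull ψ φX φX₁ gψ)
    (gf : KX →+ KY) (hgf : KRR.IsPushCl f φX φY gf) (gf₁ : KX₁ →+ KY₁) (hgf₁ : KRR.IsPushCl f₁ φX₁ φY₁ gf₁)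
    (φG : KGr.Gr PY →+ KGr.Gr PY₁) (hφG : KGr.IsGrPull PY PY₁ gφ φG)
    (ψG : KGr.Gr PX →+ KGr.Gr PX₁) (hψG : KGr.IsGrPull PX PX₁ gψ ψG)
    (fG : KGr.Gr PX →+ KGr.Gr PY) (hfG : KGr.IsGrPush PX PY gf d fG)
    (f₁G : KGr.Gr PX₁ →+ KGr.Gr PY₁) (hf₁G : KGr.IsGrPush PX₁ PY₁ gf₁ d₁ f₁G)
    (k : ℕ) (x : KX) (hx : x ∈ LambdaRing.gammaFiltration PX k) :
    f₁G ((-1 : KGr.Gr PX₁) ^ (d - d₁) *
        KGr.chern PX₁ (d - d₁) (gψ (φX (KRR.cl X (Omega.conormal f))) - φX₁ (KRR.cl X₁ (Omega.conormal f₁))) *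
        ψG (KGr.grK PX (k : ℤ) x)) = φG (fG (KGr.grK PX (k : ℤ) x)) := by
  classical
  obtain ⟨A, hA⟩ := Groth.Agent.KRR28.exists_isAmple_qproj hqY
  obtain ⟨A₁, hA₁⟩ := Groth.Agent.KRR28.exists_isAmple_qproj hqY₁
  obtain ⟨Gψ, hGψ, hlψ, haψ, -⟩ := Groth.Agent.KSplit28.exists_pullHom ψ hKX₁ hKX
  obtain ⟨Gφ, hGφ, hlφ, haφ, -⟩ := Groth.Agent.KSplit28.exists_pullHom φ hKY₁ hKY
  obtain rfl := Groth.Agent.KSplit28.isPull_unique ψ hKX.bijective hgψ hGψ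
  obtain rfl := Groth.Agent.KSplit28.isPull_unique φ hKY.bijective hgφ hGφ
  set c := φX (KRR.cl X (Omega.conormal f))
  set c₁ := φX₁ (KRR.cl X₁ (Omega.conormal f₁))
  set ε : KX₁ := Gψ.toAddMonoidHom c - c₁ with hε
  have haug : PX₁.aug ε = ((d - d₁ : ℕ) : ℤ) := by
    rw [hε, map_sub, show Gψ.toAddMonoidHom c = Gψ c from rfl, haψ, hKX.aug_cl d _ hC, hKX₁.aug_cl d₁ _ hC₁]
    omega
  have hexc : Gφ (gf x) = gf₁ (KRR.lamAlt PX₁ ε * Gψ x) :=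
    Groth.Agent.S3769.result S qY hqY qY₁ hqY₁ f hf d hC φ f₁ ψ hsq hf₁ d₁ hC₁ KX PX φX hKX KY PY φY hKY
      KX₁ PX₁ φX₁ hKX₁ KY₁ PY₁ φY₁ hKY₁ _ hgφ _ hgψ gf hgf gf₁ hgf₁ x
  set m := d - d₁ with hm
  set g := LambdaRing.gamma m (ε - (PX₁.aug ε : KX₁))
  have hg : g ∈ LambdaRing.gammaFiltration PX₁ m := Groth.Agent.LambdaLib.gamma_mem PX₁ (by simp) le_rfl
  have hψx : Gψ x ∈ LambdaRing.gammaFiltration PX₁ k := Groth.Agent.S3784.map_mem_fil hlψ haψ hx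
  have hgx : g * Gψ x ∈ LambdaRing.gammaFiltration PX₁ (m + k) := Groth.Agent.LambdaLib.mul_mem_add PX₁ hg hψx
  obtain ⟨N₁, hN₁, hN₁'⟩ := Groth.Agent.KRR28.rational_filtration_pushCl' hA₁ f₁ hf₁ hC₁ hKX₁ hKY₁ hgf₁ hgx
  obtain ⟨N, hN, hN'⟩ := Groth.Agent.KRR28.rational_filtration_pushCl' hA f hf hC hKX hKY hgf hx
  have hdeg : m + k + d₁ = k + d := by omega
  rw [hdeg] at hN₁'
  have hL : f₁G ((-1 : KGr.Gr PX₁) ^ m * KGr.chern PX₁ m ε * ψG (KGr.grK PX (k : ℤ) x)) =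
      KGr.grK PY₁ ((k + d : ℕ) : ℤ) (gf₁ (KRR.lamAlt PX₁ ε * Gψ x)) := by
    rw [hψG k x hx, show KGr.chern PX₁ m ε = KGr.grK PX₁ (m : ℤ) g from rfl,
      show Gψ.toAddMonoidHom x = Gψ x from rfl, mul_assoc, ← Groth.Agent.LambdaLib.grK_mul hg hψx,
      gamma_top_eq haug, mul_assoc,
      show (-1 : KGr.Gr PX₁) ^ m * KGr.grK PX₁ ((m + k : ℕ) : ℤ) (g * Gψ x) =
        (-1 : ℤ) ^ m • KGr.grK PX₁ ((m + k : ℕ) : ℤ) (g * Gψ x) by rw [zsmul_eq_mul]; push_cast; rfl,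
      show (-1 : KX₁) ^ m * (g * Gψ x) = (-1 : ℤ) ^ m • (g * Gψ x) by rw [zsmul_eq_mul]; push_cast; rfl,
      map_zsmul, map_zsmul, hf₁G (m + k) _ hgx,
      show ((m + k : ℕ) : ℤ) + (d₁ : ℤ) = ((k + d : ℕ) : ℤ) by omega, neg_one_pow_grK hN₁ hN₁']
  have hR : φG (fG (KGr.grK PX (k : ℤ) x)) = KGr.grK PY₁ ((k + d : ℕ) : ℤ) (Gφ (gf x)) := by
    rw [hfG k x hx, show (k : ℤ) + (d : ℤ) = ((k + d : ℕ) : ℤ) by push_cast; rfl,
      Groth.Agent.KRR28.grK_rat PY hN hN', map_rat_smul, hφG _ _ hN']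
    show ((1 : ℚ) / N) • KGr.grK PY₁ _ (Gφ _) = _
    rw [map_mul, map_natCast, ← Groth.Agent.KRR28.grK_rat PY₁ hN
      (by have := Groth.Agent.S3784.map_mem_fil hlφ haφ hN'; rwa [map_mul, map_natCast] at this)]
  rw [hL, hR, hexc]

end Groth.Agent.S3801
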