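import Groth.Statements.S3818
import Groth.Agent.PP16Lib29.Coord

set_option autoImplicit false
universe u
open scoped TensorProduct
open scoped BigOperators
open PP16

namespace Groth.Agent.S3818

/-- Last assertion (affine form, finite family): let B be an A-algebra, z_1, …, z_r elements of B whose
differentials generate the module of differentials, and (D_p) a family of differential operators B →
B (each of some finite order) with D_p(z^q) = (∏ binom(q_i, p_i)) z^(q-p). Then D_p has order at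
most |p|, and every differential operator B → B of order at most m relative to A can be written in
exactly one way as a B-linear combination ∑_{|p| ≤ m} a_p D_p. -/
theorem result (A B : Type u) [CommRing A] [CommRing B] [Algebra A B]
    (ι : Type) [Fintype ι] [DecidableEq ι] (z : ι → B)
    (hz : Submodule.span B (Set.range fun i => KaehlerDifferential.D A B (z i)) = ⊤)
    (Dp : (ι → ℕ) → (B →ₗ[A] B)) (hD : ∀ p, ∃ k : ℕ, Diff16.IsDiffOpLE A B B B k (Dp p))
    (hDz : ∀ p q : ι → ℕ, Dp p (∏ i, z i ^ q i) =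
        ((∏ i, Nat.choose (q i) (p i) : ℕ) : B) * ∏ i, z i ^ (q i - p i)) :
    (∀ p, Diff16.IsDiffOpLE A B B B (∑ i, p i) (Dp p)) ∧
      ∀ (m : ℕ) (D : B →ₗ[A] B), Diff16.IsDiffOpLE A B B B m D →
        ∃! a : {p : ι → ℕ // ∑ i, p i ≤ m} →₀ B, D = a.sum fun p c => c • Dp p.1 := by
  classical
  have hDP : Groth.Agent.PP16Lib29.IsDP z (fun p : ι →₀ ℕ => Dp ⇑p) :=
    ⟨fun p => hD p, fun p q => by
      rw [Groth.Agent.PP16Lib29.coeff_translate, Finsupp.prod_fintype _ _ (fun i => pow_zero _)]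
      exact hDz p q⟩
  refine ⟨fun p => ?_, fun m D hDm => ?_⟩
  · obtain ⟨v, hv, -⟩ := Groth.Agent.PP16Lib29.exists_functional hz hDP
      (p := Finsupp.equivFunOnFinite.symm p) (m := ∑ i, p i) (by rw [Finsupp.degree_eq_sum]; rfl)
    exact Groth.Agent.PP16Lib29.isDiffOpLE_of_functional v _ fun x => (hv x).symm
  obtain ⟨b, hb⟩ := Groth.Agent.PP16Lib29.exists_monomial_basis
    (Groth.Agent.PP16Lib29.subst_surjective z hz m) (Groth.Agent.PP16Lib29.ker_subst_of_isDP hz hDP m)
  obtain ⟨w, hw⟩ := Groth.Agent.PP16Lib29.exists_factor m A B D hDm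
  have hdeg : ∀ p : {p : ι → ℕ // ∑ i, p i ≤ m}, Finsupp.degree (Finsupp.equivFunOnFinite.symm p.1) ≤ m :=
    fun p => by rw [Finsupp.degree_eq_sum]; exact p.2
  choose v hv hvc using fun p : {p : ι → ℕ // ∑ i, p i ≤ m} =>
    Groth.Agent.PP16Lib29.exists_functional hz hDP (hdeg p)
  have hvb : ∀ p p' : {p : ι → ℕ // ∑ i, p i ≤ m},
      v p (b ⟨Finsupp.equivFunOnFinite.symm p'.1, hdeg p'⟩) = if p' = p then 1 else 0 := by
    intro p p'
    rw [hb, hvc, MvPolynomial.coeff_monomial]
    simp [Finsupp.equivFunOnFinite.symm.injective.eq_iff, Subtype.ext_iff]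
  haveI : Finite {p : ι → ℕ // ∑ i, p i ≤ m} := by
    refine Finite.of_injective (fun p i => (⟨p.1 i, Nat.lt_succ_of_le (le_trans
      (Finset.single_le_sum (f := p.1) (fun j _ => Nat.zero_le _) (Finset.mem_univ i)) p.2)⟩ : Fin (m + 1))) ?_
    intro p p' h
    exact Subtype.ext (funext fun i => congrArg Fin.val (congrFun h i))
  haveI := Fintype.ofFinite {p : ι → ℕ // ∑ i, p i ≤ m}
  have hlin : ∀ (a : {p : ι → ℕ // ∑ i, p i ≤ m} →₀ B) (x : B),
      (∑ p, a p • v p) (PP16.dn m A B x) = (a.sum fun p c => c • Dp p.1) x := by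
    intro a x
    rw [Finsupp.sum_fintype _ _ (fun p => by simp)]
    rw [LinearMap.sum_apply, LinearMap.sum_apply]
    refine Finset.sum_congr rfl fun p _ => ?_
    rw [LinearMap.smul_apply, LinearMap.smul_apply, hv]
    rfl
  have hsum : ∀ (a : {p : ι → ℕ // ∑ i, p i ≤ m} →₀ B) p',
      (∑ p, a p • v p) (b ⟨Finsupp.equivFunOnFinite.symm p'.1, hdeg p'⟩) = a p' := by
    intro a p'
    simp [LinearMap.sum_apply, hvb]
  refine ⟨Finsupp.equivFunOnFinite.symm fun p => w (b ⟨_, hdeg p⟩), ?_, fun a ha => ?_⟩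
  · refine LinearMap.ext fun x => ?_
    rw [← hw, ← hlin]
    have : w = ∑ p, (Finsupp.equivFunOnFinite.symm fun p => w (b ⟨_, hdeg p⟩) :
        {p : ι → ℕ // ∑ i, p i ≤ m} →₀ B) p • v p := by
      refine b.ext fun d => ?_
      obtain ⟨d, hd⟩ := d
      have hd' : ∑ i, d i ≤ m := by rwa [Finsupp.degree_eq_sum] at hd
      have := hsum (Finsupp.equivFunOnFinite.symm fun p => w (b ⟨_, hdeg p⟩)) ⟨⇑d, hd'⟩
      simp only [Finsupp.coe_equivFunOnFinite_symm, Finsupp.equivFunOnFinite_symm_coe] at this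
      exact this.symm
    exact LinearMap.congr_fun this _
  · have : w = ∑ p, a p • v p := LinearMap.ext_on (Groth.Agent.PP16Lib29.span_range_dn m A B) (by
      rintro _ ⟨x, rfl⟩
      rw [hw, hlin]
      exact LinearMap.congr_fun ha x)
    ext p'
    rw [Finsupp.coe_equivFunOnFinite_symm, this, hsum]

end Groth.Agent.S3818
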