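import Groth.Statements.S3822
import Groth.Agent.PP16Lib29.BC
import Mathlib.RingTheory.Finiteness.Descent

set_option autoImplicit false
universe u
open scoped TensorProduct
open PP16

namespace Groth.Agent.S3822

/-- Let B be an A-algebra, A → A' a faithfully flat ring map and B' = B ⊗_A A'. If B' is differentially
smooth over A' and its module of differentials is finitely generated, then B is differentially
smooth over A and its module of differentials is finitely generated. -/
theorem result (A B A' B' : Type u) [CommRing A] [CommRing B] [Algebra A B]
    [CommRing A'] [CommRing B'] [Algebra A' B'] [Algebra A A'] [Algebra B B'] [Algebra A B']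
    [IsScalarTower A A' B'] [IsScalarTower A B B'] [Algebra.IsPushout A B A' B'] [Module.FaithfullyFlat A A']
    (h : PP16.IsDiffSmooth A' B') (hfin : Module.Finite B' (KaehlerDifferential A' B')) :
    PP16.IsDiffSmooth A B ∧ Module.Finite B (KaehlerDifferential A B) := by
  haveI : Algebra.IsPushout A A' B B' := Algebra.IsPushout.symm inferInstance
  haveI : Module.FaithfullyFlat B B' :=
    Module.FaithfullyFlat.of_linearEquiv B (B ⊗[A] A') (Algebra.IsPushout.equiv A B A' B').symm.toLinearEquiv
  obtain ⟨e, -⟩ := Groth.Agent.PP16Lib29.exists_equiv A B A' B'
  haveI := hfin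
  haveI : Module.Finite B' (B' ⊗[B] KaehlerDifferential A B) := Module.Finite.equiv e.symm
  exact ⟨Groth.Agent.PP16Lib29.isDiffSmooth_descent h,
    Module.Finite.of_finite_tensorProduct_of_faithfullyFlat B'⟩

end Groth.Agent.S3822
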