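import Groth.Statements.S3825
import Groth.Agent.QReg6.Basic

set_option autoImplicit false
universe u
open QReg16

namespace Groth.Agent.S3825

/-- a) iff c) (affine local form): let A be a local ring and I a proper ideal generated by some
quasi-regular sequence. For a finite family (f_i) of elements of I, the following are equivalent:
(a) (f_i) is a quasi-regular sequence generating I; (c) the classes of the f_i form a basis of the
A/I-module I/I² (equivalently, b): (f_i) is a minimal system of generators of I). -/
theorem result {A : Type u} [CommRing A] [IsLocalRing A]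
    (I : Ideal A) (hI : I ≤ IsLocalRing.maximalIdeal A)
    (hq : ∃ (r : ℕ) (g : Fin r → A), CAlgX.IsQuasiRegular g ∧ Ideal.span (Set.range g) = I)
    {m : ℕ} (f : Fin m → I) :
    (CAlgX.IsQuasiRegular (fun i => (f i : A)) ∧ Ideal.span (Set.range fun i => (f i : A)) = I) ↔
      (LinearIndependent (A ⧸ I) (fun i => I.toCotangent (f i)) ∧
        Submodule.span (A ⧸ I) (Set.range fun i => I.toCotangent (f i)) = ⊤) := by
  classical
  obtain ⟨r, g, hg, hgI⟩ := hq
  haveI : Nontrivial (A ⧸ I) := Ideal.Quotient.nontrivial_iff.mpr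
    (ne_top_of_le_ne_top (IsLocalRing.maximalIdeal.isMaximal A).ne_top hI)
  -- the criterion for linear independence
  have indep : ∀ {k : ℕ} (e : Fin k → I), CAlgX.IsQuasiRegular (fun i => (e i : A)) →
      Ideal.span (Set.range fun i => (e i : A)) = I →
        LinearIndependent (A ⧸ I) (fun i => I.toCotangent (e i)) := by
    intro k e he hspan
    rw [Fintype.linearIndependent_iff]
    intro a ha i
    choose b hb using fun i => Ideal.Quotient.mk_surjective (I := I) (a i)
    have hsum : I.toCotangent (∑ j, b j • e j) = 0 := by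
      rw [map_sum, ← ha]
      refine Finset.sum_congr rfl fun j _ => ?_
      rw [map_smul, ← hb]
      rfl
    rw [Ideal.toCotangent_eq_zero] at hsum
    have := QReg6.mem_of_sum_mem_sq he b
      (by rw [hspan]; simpa [Submodule.coe_sum] using hsum) i
    rw [hspan, ← Ideal.Quotient.eq_zero_iff_mem, hb] at this
    exact this
  have span_top : ∀ {k : ℕ} (e : Fin k → I), Ideal.span (Set.range fun i => (e i : A)) = I →
      Submodule.span (A ⧸ I) (Set.range fun i => I.toCotangent (e i)) = ⊤ := by
    intro k e hspan
    refine eq_top_iff.mpr fun z _ => ?_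
    obtain ⟨⟨x, hx⟩, rfl⟩ := I.toCotangent_surjective z
    obtain ⟨b, hb⟩ := Ideal.mem_span_range_iff_exists_fun.mp (hspan.symm ▸ hx :
      x ∈ Ideal.span (Set.range fun i => (e i : A)))
    have hxe : (⟨x, hx⟩ : I) = ∑ j, b j • e j := Subtype.ext (by simp [hb.symm])
    rw [hxe, map_sum]
    refine Submodule.sum_mem _ fun j _ => ?_
    rw [map_smul]
    have hj : I.toCotangent (e j) ∈
        Submodule.span (A ⧸ I) (Set.range fun i => I.toCotangent (e i)) :=
      Submodule.subset_span ⟨j, rfl⟩
    exact Submodule.smul_mem _ (Ideal.Quotient.mk I (b j)) hj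
  constructor
  · exact fun ⟨h1, h2⟩ => ⟨indep f h1 h2, span_top f h2⟩
  · rintro ⟨hli, hsp⟩
    let gI : Fin r → I := fun i => ⟨g i, hgI ▸ Ideal.subset_span ⟨i, rfl⟩⟩
    have hmr : m = r := by
      have h1 := Module.finrank_eq_card_basis (Module.Basis.mk hli hsp.ge)
      have h2 := Module.finrank_eq_card_basis
        (Module.Basis.mk (indep gI hg hgI) (span_top gI hgI).ge)
      simpa using h1.symm.trans h2
    subst hmr
    have hfI : Ideal.span (Set.range fun i => (f i : A)) = I := by
      refine le_antisymm (Ideal.span_le.mpr (by rintro _ ⟨i, rfl⟩; exact (f i).2)) ?_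
      refine Submodule.le_of_le_smul_of_le_jacobson_bot (I := I)
        (hgI ▸ ⟨(Set.finite_range g).toFinset, by simp⟩)
        (hI.trans (IsLocalRing.jacobson_eq_maximalIdeal ⊥ bot_ne_top).ge) ?_
      intro x hx
      have hx' : I.toCotangent ⟨x, hx⟩ ∈ Submodule.span (A ⧸ I)
          (Set.range fun i => I.toCotangent (f i)) := hsp ▸ Submodule.mem_top
      obtain ⟨a, ha⟩ := (Submodule.mem_span_range_iff_exists_fun _).mp hx'
      choose b hb using fun i => Ideal.Quotient.mk_surjective (I := I) (a i)
      have hxe : I.toCotangent ⟨x, hx⟩ = I.toCotangent (∑ j, b j • f j) := by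
        rw [← ha, map_sum]
        refine Finset.sum_congr rfl fun j _ => ?_
        rw [map_smul, ← hb]
        rfl
      rw [Ideal.toCotangent_eq, pow_two] at hxe
      have hmem : ∑ j, b j * (f j : A) ∈ Ideal.span (Set.range fun i => (f i : A)) :=
        Ideal.mem_span_range_iff_exists_fun.mpr ⟨b, rfl⟩
      have hxe' : x - ∑ j, b j * (f j : A) ∈ I * I := by simpa [Submodule.coe_sum] using hxe
      rw [← sub_add_cancel x (∑ j, b j * (f j : A)), add_comm]
      exact Submodule.add_mem_sup hmem hxe'
    exact ⟨QReg6.isQuasiRegular_of_span_eq hg (hfI.trans hgI.symm), hfI⟩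

end Groth.Agent.S3825
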