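import Groth.Statements.S3828
import Groth.Agent.QReg6.Regular

set_option autoImplicit false
universe u
open QReg16

namespace Groth.Agent.S3828

/-- Let A be a Noetherian ring, J an ideal of A, and f_1, …, f_r elements of A forming a weakly regular
sequence on A/J (each f_i a nonzerodivisor on A/(J + (f_1, …, f_{i−1}))) and generating an ideal R
contained in the Jacobson radical of A; put Q = J + R. Then J ∩ Rⁿ = J·Rⁿ for every n > 0, and J ∩
Q² = J·Q (equivalently, the canonical map J/JQ → Q/Q² is injective). -/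
theorem result {A : Type u} [CommRing A] [IsNoetherianRing A] (J : Ideal A)
    {r : ℕ} (f : Fin r → A) (hf : RingTheory.Sequence.IsWeaklyRegular (A ⧸ J) (List.ofFn f))
    (hrad : Ideal.span (Set.range f) ≤ (⊥ : Ideal A).jacobson) :
    (∀ n : ℕ, 0 < n → J ⊓ Ideal.span (Set.range f) ^ n = J * Ideal.span (Set.range f) ^ n) ∧
      J ⊓ (J ⊔ Ideal.span (Set.range f)) ^ 2 = J * (J ⊔ Ideal.span (Set.range f)) := by
  refine ⟨fun n _ => QReg6.inf_pow_eq_mul hf n, ?_⟩
  have e2 := QReg6.inf_pow_eq_mul hf 2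
  generalize Ideal.span (Set.range f) = I at e2
  have hJ : J * (J ⊔ I) ≤ J := Ideal.mul_le_inf.trans inf_le_left
  refine le_antisymm (fun x hx => ?_) (le_inf hJ ?_)
  · obtain ⟨hxJ, hx⟩ := Submodule.mem_inf.mp hx
    have h1 : (J ⊔ I) ^ 2 ≤ J * (J ⊔ I) ⊔ I ^ 2 := by
      rw [pow_two, pow_two, Ideal.sup_mul, Ideal.mul_sup I J I, mul_comm I J]
      exact sup_le le_sup_left (sup_le ((Ideal.mul_mono_right le_sup_right).trans le_sup_left) le_sup_right)
    have h2 := QReg6.mem_sup_inf_of_mem hJ hxJ (h1 hx)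
    rw [e2] at h2
    have h3 : J * I ^ 2 ≤ J * (J ⊔ I) :=
      Ideal.mul_mono_right ((Ideal.pow_le_self two_ne_zero).trans le_sup_right)
    exact (sup_le le_rfl h3 : J * (J ⊔ I) ⊔ J * I ^ 2 ≤ J * (J ⊔ I)) h2
  · rw [pow_two]
    exact Ideal.mul_mono_left le_sup_left

end Groth.Agent.S3828
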