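import Groth.Statements.S3829
import Groth.Agent.SmoothReg3.Scheme
import Groth.Agent.CAlgH.CIImmersion
-- import your own Groth.Agent.* helpers here

set_option autoImplicit false
universe u
open CategoryTheory CategoryTheory.Limits AlgebraicGeometry TopologicalSpace
open Unram17

set_option backward.isDefEq.respectTransparency.types false

namespace Groth.Agent.S3829

/-- c) implies a) (case of a closed immersion): let f : X → S and h : Y → S be locally of finite
presentation, j : Y → X a closed immersion over S and y a point of Y. If h is smooth on a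
neighbourhood of y and, on some affine open neighbourhood of j(y) in X, the ideal of j is generated
by a regular sequence (j is a regular immersion near y), then f is smooth on an open neighbourhood
of j(y). -/
theorem result {X Y S : Scheme.{u}} (f : X ⟶ S) (h : Y ⟶ S)
    [LocallyOfFinitePresentation f] [LocallyOfFinitePresentation h] (j : Y ⟶ X) [IsClosedImmersion j]
    (hj : j ≫ f = h) (y : ↥Y) (hy : ∃ V : Y.Opens, y ∈ V ∧ Smooth (V.ι ≫ h))
    (hreg : ∃ (U : X.Opens) (hU : IsAffineOpen U), j y ∈ U ∧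
      ∃ rs : List Γ(X, U), RingTheory.Sequence.IsRegular Γ(X, U) rs ∧ j.ker.ideal ⟨U, hU⟩ = Ideal.ofList rs) :
    ∃ U : X.Opens, j y ∈ U ∧ Smooth (U.ι ≫ f) := by
  classical
  obtain ⟨U, hU, hyU, rs, hrs, hker⟩ := hreg
  subst hj
  obtain ⟨V, hyV, hV⟩ := hy
  haveI := hV
  refine (Groth.Agent.SmoothLib.smooth_nhd_iff f (j y)).2 ?_
  letI : Algebra Γ(X, U) (X.presheaf.stalk (j y)) := (X.presheaf.germ U (j y) hyU).hom.toAlgebra
  haveI : IsLocalization.AtPrime (X.presheaf.stalk (j y)) (hU.primeIdealOf ⟨j y, hyU⟩).asIdeal :=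
    hU.isLocalization_stalk ⟨j y, hyU⟩
  have hk : RingHom.ker (j.stalkMap y).hom =
      Ideal.ofList (rs.map (algebraMap Γ(X, U) (X.presheaf.stalk (j y)))) := by
    rw [Groth.Agent.CAlgH.CIImmersion.ker_stalkMap_eq j y hU hyU, ← Ideal.map_ofList]
    exact congrArg _ ((Scheme.Hom.ker_apply j ⟨U, hU⟩).symm.trans hker)
  refine Groth.Agent.SmoothReg3.formallySmooth_stalkMap_of_regular f (j y) _ (fun a ha hu => ?_)
    (hrs.toIsWeaklyRegular.of_isLocalization _ (hU.primeIdealOf ⟨j y, hyU⟩).asIdeal.primeCompl)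
    (j.stalkMap y).hom (j.stalkMap_surjective y) hk ?_
  · exact RingHom.ker_ne_top (j.stalkMap y).hom
      (hk ▸ Ideal.eq_top_of_isUnit_mem _ (Ideal.subset_span ha) hu)
  · have := Groth.Agent.SmoothLib.formallySmooth_stalkMap_of_nhd (j ≫ f) hyV
    rwa [Scheme.Hom.stalkMap_comp] at this

end Groth.Agent.S3829
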