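import Groth.Statements.S3833


set_option autoImplicit false
universe u
open CategoryTheory CategoryTheory.Limits AlgebraicGeometry TopologicalSpace
open Rat20

namespace Groth.Agent.S3833

/-- Stated for a global section, the case of a section over an open subset U being the same statement
for the open subscheme U: let X be a scheme and s a global section of O_X which is regular in the
sense that its germ at every point x is a non-zero-divisor of the local ring O_{X,x} (on an affine
scheme this is the same as being a non-zero-divisor of Γ(X, O_X), but not in general). Then the open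
subset X_s where s is invertible is schematically dense in X. -/
theorem result (X : Scheme.{u}) (s : Γ(X, ⊤))
    (hs : ∀ x : ↥X, (X.presheaf.germ ⊤ x trivial s) ∈ nonZeroDivisors ↑(X.presheaf.stalk x)) :
    CInt.IsSchematicallyDense (X.basicOpen s) := by
  intro V a b hab
  refine TopCat.Presheaf.section_ext X.sheaf V a b fun x hxV => ?_
  obtain ⟨_, ⟨W, hW, rfl⟩, hxW, hWV⟩ := X.isBasis_affineOpens.exists_subset_of_mem_open hxV V.isOpen
  let sW : Γ(X, W) := X.presheaf.map (homOfLE (le_top : W ≤ ⊤)).op s
  have := hW.isLocalization_basicOpen sW
  have hle : X.basicOpen sW ≤ V ⊓ X.basicOpen s := le_inf ((X.basicOpen_le _).trans hWV) (by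
    simp only [sW, X.basicOpen_res]; exact inf_le_right)
  have key : (algebraMap Γ(X, W) Γ(X, X.basicOpen sW)) (X.presheaf.map (homOfLE hWV).op a) =
      (algebraMap Γ(X, W) Γ(X, X.basicOpen sW)) (X.presheaf.map (homOfLE hWV).op b) := by
    have h1 := congrArg (X.presheaf.map (homOfLE hle).op) hab
    simp only [← CommRingCat.comp_apply, ← X.presheaf.map_comp] at h1
    simp only [RingHom.algebraMap_toAlgebra, ← CommRingCat.comp_apply, ← X.presheaf.map_comp]
    exact h1
  obtain ⟨⟨_, n, rfl⟩, hn⟩ := (IsLocalization.eq_iff_exists (Submonoid.powers sW) _).mp key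
  have h2 := congrArg (X.presheaf.germ W x hxW) hn
  simp only [map_mul, map_pow, sW, X.presheaf.germ_res_apply] at h2
  have h3 := (mul_cancel_left_mem_nonZeroDivisors (pow_mem (hs x) n)).mp h2
  exact ((X.presheaf.germ_res_apply (homOfLE hWV) x hxW a).symm.trans h3).trans
    (X.presheaf.germ_res_apply (homOfLE hWV) x hxW b)

end Groth.Agent.S3833
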