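import Groth.Statements.S3834
import Groth.Agent.Rat20Lib.SchDense
import Groth.Agent.S3833

set_option autoImplicit false
universe u
open CategoryTheory CategoryTheory.Limits AlgebraicGeometry TopologicalSpace
open Rat20

namespace Groth.Agent.S3834

/-- Let X = Spec A be an affine scheme, with A Noetherian, or A reduced with finitely many minimal
primes. Then an open subset U of X is schematically dense if and only if it contains an open subset
of the form X_t with t a regular element of A = Γ(X, O_X). -/
theorem result (X : Scheme.{u}) [IsAffine X]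
    (hX : IsNoetherian X ∨ (IsReduced X ∧ (irreducibleComponents ↥X).Finite)) (U : X.Opens) :
    CInt.IsSchematicallyDense U ↔ ∃ t : Γ(X, ⊤), t ∈ nonZeroDivisors Γ(X, ⊤) ∧ X.basicOpen t ≤ U := by
  have hA : IsNoetherianRing Γ(X, ⊤) ∨
      (_root_.IsReduced Γ(X, ⊤) ∧ (minimalPrimes Γ(X, ⊤)).Finite) := by
    rcases hX with h | ⟨h1, h2⟩
    · haveI := h
      exact Or.inl (IsLocallyNoetherian.component_noetherian ⟨⊤, isAffineOpen_top X⟩)
    · haveI := h1
      refine Or.inr ⟨inferInstance, ?_⟩
      haveI : Finite (irreducibleComponents ↥X) := h2.to_subtype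
      let e := X.isoSpec.hom.homeomorph
      have hfin : (irreducibleComponents (PrimeSpectrum Γ(X, ⊤))).Finite := by
        refine Set.Finite.of_injOn (f := fun Z => e ⁻¹' Z) ?_ ?_ h2
        · intro Z hZ
          exact preimage_mem_irreducibleComponents hZ e.isOpenEmbedding
            (by obtain ⟨z, hz⟩ := hZ.1.1; exact ⟨z, hz, e.surjective z⟩)
        · intro Z _ Z' _ h
          exact e.surjective.preimage_injective h
      haveI : Finite (irreducibleComponents (PrimeSpectrum Γ(X, ⊤))) := hfin.to_subtype
      exact Set.finite_coe_iff.1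
        (Finite.of_equiv _ (minimalPrimes.equivIrreducibleComponents Γ(X, ⊤)).symm.toEquiv)
  refine ⟨fun hU => Rat20Lib.exists_regular_basicOpen_le (isAffineOpen_top X) hU hA, ?_⟩
  rintro ⟨t, ht, hle⟩
  exact Rat20Lib.sd_mono hle (S3833.result X t fun x =>
    Rat20Lib.germ_regular (isAffineOpen_top X) t ht x trivial)

end Groth.Agent.S3834
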