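import Groth.Statements.S3835
import Groth.Agent.AlgSpLib.DenseFlat
import Groth.Agent.S2879

set_option autoImplicit false
universe u
open CategoryTheory CategoryTheory.Limits AlgebraicGeometry TopologicalSpace
open Rat20

namespace Groth.Agent.S3835

/-- Let Y be separated over S, X an S-scheme with a schematically dense open subscheme U, h : U → Y an
S-morphism (a representative of a pseudo-morphism from X to Y over S), and f : X' → X a flat
morphism locally of finite presentation, X' being regarded as an S-scheme through f. Let x' be a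
point of X' with image x = f(x'). If there is an S-morphism from an open neighbourhood V' of x' to Y
agreeing with h ∘ f on f⁻¹(U) ∩ V' (the pulled-back pseudo-morphism is defined at x'), then there is
an S-morphism from an open neighbourhood V of x to Y agreeing with h on U ∩ V (the pseudo-morphism
is defined at x). -/
theorem result {X X' Y S : Scheme.{u}} (pX : X ⟶ S) (pY : Y ⟶ S)
    [IsSeparated pY] (U : X.Opens) (hU : CInt.IsSchematicallyDense U) (h : (U : Scheme.{u}) ⟶ Y)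
    (hh : h ≫ pY = U.ι ≫ pX) (f : X' ⟶ X) [Flat f] [LocallyOfFinitePresentation f] (x' : ↥X')
    (V' : X'.Opens) (hx' : x' ∈ V') (v' : (V' : Scheme.{u}) ⟶ Y) (hv'S : v' ≫ pY = V'.ι ≫ f ≫ pX)
    (hv' : X'.homOfLE (inf_le_right : f ⁻¹ᵁ U ⊓ V' ≤ V') ≫ v' =
      X'.homOfLE (inf_le_left : f ⁻¹ᵁ U ⊓ V' ≤ f ⁻¹ᵁ U) ≫ (f ∣_ U) ≫ h) :
    ∃ (V : X.Opens) (v : (V : Scheme.{u}) ⟶ Y), f x' ∈ V ∧ v ≫ pY = V.ι ≫ pX ∧
      X.homOfLE (inf_le_right : U ⊓ V ≤ V) ≫ v = X.homOfLE (inf_le_left : U ⊓ V ≤ U) ≫ h := by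
  have L : ∀ {Z : Scheme.{u}} (c : Z ⟶ V') (d : Z ⟶ U), c ≫ V'.ι ≫ f = d ≫ U.ι → c ≫ v' = d ≫ h := by
    intro Z c d hcd
    have hr : Set.range (c ≫ V'.ι).base ⊆ Set.range (f ⁻¹ᵁ U ⊓ V').ι.base := by
      rintro _ ⟨z, rfl⟩
      rw [Scheme.Opens.range_ι]
      refine ⟨?_, (c z).2⟩
      show f ((c ≫ V'.ι) z) ∈ U
      rw [← Scheme.Hom.comp_apply, Category.assoc, hcd, Scheme.Hom.comp_apply]
      exact (d z).2
    let e := IsOpenImmersion.lift (f ⁻¹ᵁ U ⊓ V').ι (c ≫ V'.ι) hr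
    have he : e ≫ (f ⁻¹ᵁ U ⊓ V').ι = c ≫ V'.ι := IsOpenImmersion.lift_fac _ _ _
    have hc : c = e ≫ X'.homOfLE inf_le_right := by
      rw [← cancel_mono V'.ι, Category.assoc, Scheme.homOfLE_ι, he]
    have hd : d = e ≫ X'.homOfLE (inf_le_left : f ⁻¹ᵁ U ⊓ V' ≤ _) ≫ (f ∣_ U) := by
      rw [← cancel_mono U.ι, Category.assoc, Category.assoc, morphismRestrict_ι,
        Scheme.homOfLE_ι_assoc, reassoc_of% he, hcd]
    rw [hc, hd, Category.assoc, Category.assoc, Category.assoc, hv']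
  obtain ⟨V₀, hV₀, hxV₀, -⟩ := exists_isAffineOpen_mem_and_subset (x := f x') (U := (⊤ : X.Opens)) trivial
  obtain ⟨V'', hV'', hxV'', hle⟩ := exists_isAffineOpen_mem_and_subset (x := x') (U := V' ⊓ f ⁻¹ᵁ V₀) ⟨hx', hxV₀⟩
  have hle1 : V'' ≤ V' := fun a ha => (hle ha).1
  have hle0 : V'' ≤ f ⁻¹ᵁ V₀ := fun a ha => (hle ha).2
  haveI : IsAffine V''.toScheme := hV''
  haveI : IsAffine V₀.toScheme := hV₀
  let h₀ := f.resLE V₀ V'' hle0
  haveI : Flat h₀ := by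
    dsimp only [h₀, Scheme.Hom.resLE]; infer_instance
  haveI : LocallyOfFinitePresentation h₀ := by
    dsimp only [h₀, Scheme.Hom.resLE]; infer_instance
  let R : V₀.toScheme.Opens := ⟨Set.range h₀, h₀.isOpenMap.isOpen_range⟩
  haveI : Surjective (h₀ ∣_ R) := ⟨fun r => by
    obtain ⟨a, ha⟩ := r.2
    have hmem : a ∈ h₀ ⁻¹ᵁ R := ⟨a, rfl⟩
    exact ⟨⟨a, hmem⟩, Subtype.ext ((morphismRestrict_base_coe _ _ _).trans ha)⟩⟩
  let j : R.toScheme ⟶ X := R.ι ≫ V₀.ι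
  let g' : (h₀ ⁻¹ᵁ R).toScheme ⟶ Y := (h₀ ⁻¹ᵁ R).ι ≫ X'.homOfLE hle1 ≫ v'
  have hfj : (h₀ ∣_ R) ≫ j = (h₀ ⁻¹ᵁ R).ι ≫ V''.ι ≫ f := by
    rw [morphismRestrict_ι_assoc, Scheme.Hom.resLE_comp_ι]
  haveI : Flat (pullback.fst (h₀ ∣_ R) (h₀ ∣_ R) ≫ (h₀ ∣_ R) ≫ j) := inferInstance
  have hdense := AlgSpLib.isSchematicallyDense_preimage_of_flat_lfp
    (pullback.fst (h₀ ∣_ R) (h₀ ∣_ R) ≫ (h₀ ∣_ R) ≫ j) U hU
  rw [Scheme.Hom.comp_preimage, Scheme.Hom.comp_preimage] at hdense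
  obtain ⟨hext, hext1, hext2⟩ := S2879.result (j ≫ pX) pY (h₀ ∣_ R) (j ⁻¹ᵁ U) hdense ((j ∣_ U) ≫ h)
    (by rw [Category.assoc, hh, morphismRestrict_ι_assoc]) g'
    (by
      simp only [g', Category.assoc, hv'S, Scheme.homOfLE_ι_assoc]
      rw [← reassoc_of% hfj])
    (by
      simp only [g', ← Category.assoc]
      apply L
      simp only [Category.assoc, morphismRestrict_ι, Scheme.homOfLE_ι_assoc]
      rw [← hfj, morphismRestrict_ι_assoc (h₀ ∣_ R) (j ⁻¹ᵁ U) j])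
  refine ⟨j.opensRange, j.isoOpensRange.inv ≫ hext, ?_, ?_, ?_⟩
  · exact ⟨⟨⟨f x', hxV₀⟩, ⟨⟨x', hxV''⟩, Subtype.ext (by
      show (h₀ ≫ V₀.ι) ⟨x', hxV''⟩ = _
      rw [Scheme.Hom.resLE_comp_ι]; rfl)⟩⟩, rfl⟩
  · rw [Category.assoc, hext2, Scheme.Hom.isoOpensRange_inv_comp_assoc]
  · set a := X.homOfLE (inf_le_right : U ⊓ j.opensRange ≤ _) ≫ j.isoOpensRange.inv with ha
    have haj : a ≫ j = (U ⊓ j.opensRange).ι := by
      rw [ha, Category.assoc, Scheme.Hom.isoOpensRange_inv_comp, Scheme.homOfLE_ι]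
    have hr : Set.range a.base ⊆ Set.range (j ⁻¹ᵁ U).ι.base := by
      rintro _ ⟨z, rfl⟩
      rw [Scheme.Opens.range_ι]
      show j (a z) ∈ U
      rw [← Scheme.Hom.comp_apply, haj]
      exact z.2.1
    let b := IsOpenImmersion.lift (j ⁻¹ᵁ U).ι a hr
    have hb : b ≫ (j ⁻¹ᵁ U).ι = a := IsOpenImmersion.lift_fac _ _ _
    have hb2 : b ≫ (j ∣_ U) = X.homOfLE inf_le_left := by
      rw [← cancel_mono U.ι, Category.assoc, morphismRestrict_ι, reassoc_of% hb, haj, Scheme.homOfLE_ι]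
    rw [← Category.assoc, ← ha, ← hb, Category.assoc, hext1, ← Category.assoc, hb2]

end Groth.Agent.S3835
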