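import Groth.Statements.S3837
import Groth.Agent.Rat20Lib.UnivOpen

set_option autoImplicit false
universe u
open CategoryTheory CategoryTheory.Limits AlgebraicGeometry TopologicalSpace
open Rat20

namespace Groth.Agent.S3837

/-- Let X be a normal S-scheme (locally integral with integrally closed local rings), Y an S-scheme
locally of finite type and separated over S, h : U → Y an S-morphism on a dense open subset (a
rational S-map ω), and f : X' → X a morphism locally of finite type and universally open with X'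
reduced, so that f⁻¹(U) is dense and ω ∘ f is defined. Then for x' in X' with image x, ω is defined
at x if and only if ω ∘ f is defined at x': some S-morphism on an open neighbourhood of x agrees
with h on U if and only if some S-morphism on an open neighbourhood of x' agrees with h ∘ f on the
preimage of U. -/
theorem result {X X' Y S : Scheme.{u}} (pX : X ⟶ S) (pY : Y ⟶ S)
    [LocallyOfFiniteType pY] [IsSeparated pY] (hX : ∀ y : ↥X, ∃ W : X.Opens, y ∈ W ∧ IsIntegral (W : Scheme.{u}))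
    (hXn : ∀ y : ↥X, IsIntegrallyClosed (X.presheaf.stalk y))
    (U : X.Opens) (hU : Dense (U : Set ↥X)) (h : (U : Scheme.{u}) ⟶ Y) (hh : h ≫ pY = U.ι ≫ pX)
    (f : X' ⟶ X) [LocallyOfFiniteType f] [UniversallyOpen f] [IsReduced X'] (x' : ↥X') :
    (∃ (V : X.Opens) (v : (V : Scheme.{u}) ⟶ Y), f x' ∈ V ∧ v ≫ pY = V.ι ≫ pX ∧
        X.homOfLE (inf_le_right : U ⊓ V ≤ V) ≫ v = X.homOfLE (inf_le_left : U ⊓ V ≤ U) ≫ h) ↔
      ∃ (V' : X'.Opens) (v' : (V' : Scheme.{u}) ⟶ Y), x' ∈ V' ∧ v' ≫ pY = V'.ι ≫ f ≫ pX ∧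
        X'.homOfLE (inf_le_right : f ⁻¹ᵁ U ⊓ V' ≤ V') ≫ v' =
          X'.homOfLE (inf_le_left : f ⁻¹ᵁ U ⊓ V' ≤ f ⁻¹ᵁ U) ≫ (f ∣_ U) ≫ h := by
  classical
  constructor
  · rintro ⟨V, v, hxV, hv, hag⟩
    refine ⟨f ⁻¹ᵁ V, (f ∣_ V) ≫ v, hxV, ?_, ?_⟩
    · rw [Category.assoc, hv, morphismRestrict_ι_assoc]
    · let m : ((f ⁻¹ᵁ U ⊓ f ⁻¹ᵁ V : X'.Opens) : Scheme.{u}) ⟶ ((U ⊓ V : X.Opens) : Scheme.{u}) :=
        (f ∣_ (U ⊓ V))
      have e1 : X'.homOfLE (inf_le_right : f ⁻¹ᵁ U ⊓ f ⁻¹ᵁ V ≤ f ⁻¹ᵁ V) ≫ (f ∣_ V) =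
          m ≫ X.homOfLE (inf_le_right : U ⊓ V ≤ V) := by
        rw [← cancel_mono V.ι, Category.assoc, morphismRestrict_ι, Category.assoc, Scheme.homOfLE_ι,
          Scheme.homOfLE_ι_assoc]
        exact (morphismRestrict_ι f (U ⊓ V)).symm
      have e2 : X'.homOfLE (inf_le_left : f ⁻¹ᵁ U ⊓ f ⁻¹ᵁ V ≤ f ⁻¹ᵁ U) ≫ (f ∣_ U) =
          m ≫ X.homOfLE (inf_le_left : U ⊓ V ≤ U) := by
        rw [← cancel_mono U.ι, Category.assoc, morphismRestrict_ι, Category.assoc, Scheme.homOfLE_ι,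
          Scheme.homOfLE_ι_assoc]
        exact (morphismRestrict_ι f (U ⊓ V)).symm
      rw [← Category.assoc, e1, Category.assoc, hag, ← Category.assoc, ← e2, Category.assoc]
  rintro ⟨V', v', hx'V, hv', hag'⟩
  obtain ⟨W, hxW, hWint⟩ := hX (f x')
  obtain ⟨R, iS, hiS, hsR, -⟩ := Scheme.exists_affine_mem_range_and_range_subset
    (show pX (f x') ∈ (⊤ : S.Opens) from trivial)
  obtain ⟨A, iA, hiA, hxA, hAsub⟩ := Scheme.exists_affine_mem_range_and_range_subset
    (show f x' ∈ W ⊓ pX ⁻¹ᵁ iS.opensRange from ⟨hxW, hsR⟩)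
  have hy : pY (v' ⟨x', hx'V⟩) = pX (f x') := congrArg (fun F => F ⟨x', hx'V⟩) hv'
  obtain ⟨B, iW, hiW, hyW, hWsub⟩ := Scheme.exists_affine_mem_range_and_range_subset
    (show v' ⟨x', hx'V⟩ ∈ pY ⁻¹ᵁ iS.opensRange from by
      show pY (v' ⟨x', hx'V⟩) ∈ iS.opensRange
      rw [hy]; exact hsR)
  obtain ⟨A', iA', hiA', hxA', hA'sub⟩ := Scheme.exists_affine_mem_range_and_range_subset
    (show x' ∈ f ⁻¹ᵁ iA.opensRange ⊓ V'.ι ''ᵁ (v' ⁻¹ᵁ iW.opensRange) from ⟨hxA, ⟨⟨x', hx'V⟩, hyW, rfl⟩⟩)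
  obtain ⟨q, rfl⟩ := hxA'
  -- the chart of `X` is the spectrum of a normal domain
  have : IsIntegral (Spec A) := by
    have : Nonempty (Spec A) := ⟨hxA.choose⟩
    let j : Spec A ⟶ (W : Scheme.{u}) := IsOpenImmersion.lift W.ι iA (by
      rw [Scheme.Opens.range_ι]; exact fun z hz => (hAsub hz).1)
    have : IsOpenImmersion (j ≫ W.ι) := by simp only [j, IsOpenImmersion.lift_fac]; exact hiA
    have : IsOpenImmersion j := IsOpenImmersion.of_comp j W.ι
    exact isIntegral_of_isOpenImmersion j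
  have : IsDomain A := (affine_isIntegral_iff A).mp inferInstance
  let φA := Spec.preimage (IsOpenImmersion.lift iA (iA' ≫ f) (by
    rintro _ ⟨z, rfl⟩
    exact (hA'sub ⟨z, rfl⟩).1))
  have hφA : Spec.map φA ≫ iA = iA' ≫ f := by simp only [φA, Spec.map_preimage, IsOpenImmersion.lift_fac]
  have : UniversallyOpen (Spec.map φA ≫ iA) := by rw [hφA]; infer_instance
  have : UniversallyOpen (Spec.map φA) := Rat20Lib.universallyOpen_of_comp_mono _ iA
  algebraize [φA.hom]
  let p : PrimeSpectrum A := Spec.map φA q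
  have hp : iA p = f (iA' q) := congrArg (fun F => F q) hφA
  -- structure maps to the affine base
  let σA := Spec.preimage (IsOpenImmersion.lift iS (iA ≫ pX) (by
    rintro _ ⟨z, rfl⟩
    exact (hAsub ⟨z, rfl⟩).2))
  have hσA : Spec.map σA ≫ iS = iA ≫ pX := by simp only [σA, Spec.map_preimage, IsOpenImmersion.lift_fac]
  let σB := Spec.preimage (IsOpenImmersion.lift iS (iW ≫ pY) (by
    rintro _ ⟨z, rfl⟩
    exact hWsub ⟨z, rfl⟩))
  have hσB : Spec.map σB ≫ iS = iW ≫ pY := by simp only [σB, Spec.map_preimage, IsOpenImmersion.lift_fac]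
  have hσBft : σB.hom.FiniteType := by
    have : LocallyOfFiniteType (Spec.map σB ≫ iS) := by rw [hσB]; infer_instance
    have := locallyOfFiniteType_of_comp (Spec.map σB) iS
    exact (HasRingHomProperty.Spec_iff (P := @LocallyOfFiniteType)).mp this
  -- a basic open of the chart on which `h` lands in the chart of `Y`
  have hcompat : ∀ (z : ↥X') (hzU : f z ∈ U) (hzV : z ∈ V'), h ⟨f z, hzU⟩ = v' ⟨z, hzV⟩ := fun z hzU hzV => by
    have hh' := congrArg (fun F => F (⟨z, ⟨hzU, hzV⟩⟩ : ↥(f ⁻¹ᵁ U ⊓ V'))) hag'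
    simp only [Scheme.Hom.comp_apply] at hh'
    have q1 : X'.homOfLE (inf_le_right : f ⁻¹ᵁ U ⊓ V' ≤ V') ⟨z, ⟨hzU, hzV⟩⟩ = ⟨z, hzV⟩ :=
      Subtype.ext (congrArg (fun F => F (⟨z, ⟨hzU, hzV⟩⟩ : ↥(f ⁻¹ᵁ U ⊓ V'))) (X'.homOfLE_ι inf_le_right))
    have q2 : (f ∣_ U) (X'.homOfLE (inf_le_left : f ⁻¹ᵁ U ⊓ V' ≤ f ⁻¹ᵁ U) ⟨z, ⟨hzU, hzV⟩⟩) = ⟨f z, hzU⟩ :=
      Subtype.ext (congrArg (fun F => F (⟨z, ⟨hzU, hzV⟩⟩ : ↥(f ⁻¹ᵁ U ⊓ V')))
        (show X'.homOfLE inf_le_left ≫ (f ∣_ U) ≫ U.ι = (f ⁻¹ᵁ U ⊓ V').ι ≫ f by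
          rw [morphismRestrict_ι, Scheme.homOfLE_ι_assoc]))
    rw [q1, q2] at hh'
    exact hh'.symm
  let G : X.Opens := U.ι ''ᵁ (h ⁻¹ᵁ iW.opensRange)
  obtain ⟨q', hq'⟩ : ∃ q' : PrimeSpectrum A, iA q' ∈ G := by
    have hopen : IsOpen (f '' Set.range iA') := f.isOpenMap _ iA'.opensRange.isOpen
    obtain ⟨_, ⟨_, ⟨q'', rfl⟩, rfl⟩, hU'⟩ := hU.inter_open_nonempty _ hopen ⟨_, _, ⟨q, rfl⟩, rfl⟩
    refine ⟨Spec.map φA q'', ?_⟩
    rw [show iA (Spec.map φA q'') = f (iA' q'') from congrArg (fun F => F q'') hφA]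
    refine ⟨⟨f (iA' q''), hU'⟩, ?_, rfl⟩
    obtain ⟨⟨z, hz⟩, hzW, hzeq⟩ := (hA'sub ⟨q'', rfl⟩).2
    change z = iA' q'' at hzeq
    show h ⟨f (iA' q''), hU'⟩ ∈ iW.opensRange
    subst hzeq
    rw [hcompat _ hU' hz]; exact hzW
  obtain ⟨_, ⟨_, ⟨c, rfl⟩, rfl⟩, hq'c, hcG⟩ :=
    PrimeSpectrum.isBasis_basic_opens.exists_subset_of_mem_open hq' (iA ⁻¹ᵁ G).isOpen
  have hc : c ≠ 0 := fun e => hq'c (e ▸ q'.asIdeal.zero_mem)
  let Ac := Localization.Away c
  let locc : Spec (CommRingCat.of Ac) ⟶ Spec A := Spec.map (CommRingCat.ofHom (algebraMap A Ac))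
  have hloccG : ∀ z, iA (locc z) ∈ G := fun z => hcG (by
    have : locc z ∈ Set.range (PrimeSpectrum.comap (algebraMap A Ac)) := ⟨z, rfl⟩
    rwa [PrimeSpectrum.localization_away_comap_range Ac c] at this)
  let jc : Spec (CommRingCat.of Ac) ⟶ (U : Scheme.{u}) := IsOpenImmersion.lift U.ι (locc ≫ iA) (by
    rintro _ ⟨z, rfl⟩
    obtain ⟨w, -, hw⟩ := hloccG z
    exact ⟨w, hw⟩)
  have hjc : jc ≫ U.ι = locc ≫ iA := IsOpenImmersion.lift_fac _ _ _
  let φ := Spec.preimage (IsOpenImmersion.lift iW (jc ≫ h) (by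
    rintro _ ⟨z, rfl⟩
    obtain ⟨w, hw, hw'⟩ := hloccG z
    have : w = jc z := Subtype.ext (hw'.trans (congrArg (fun F => F z) hjc).symm)
    rw [this] at hw
    exact hw))
  have hφ : Spec.map φ ≫ iW = jc ≫ h := by simp only [φ, Spec.map_preimage, IsOpenImmersion.lift_fac]
  have hφσ : σB ≫ φ = σA ≫ CommRingCat.ofHom (algebraMap A Ac) := by
    apply Spec.map_injective
    rw [← cancel_mono iS, Spec.map_comp, Spec.map_comp, Category.assoc, Category.assoc, hσB, hσA,
      reassoc_of% hφ, hh, reassoc_of% hjc]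
  let j' : Spec A' ⟶ (V' : Scheme.{u}) := IsOpenImmersion.lift V'.ι iA' (by
    rintro _ ⟨z, rfl⟩
    obtain ⟨w, -, hw⟩ := (hA'sub ⟨z, rfl⟩).2
    exact ⟨w, hw⟩)
  have hj' : j' ≫ V'.ι = iA' := IsOpenImmersion.lift_fac _ _ _
  let ψ := Spec.preimage (IsOpenImmersion.lift iW (j' ≫ v') (by
    rintro _ ⟨z, rfl⟩
    obtain ⟨w, hw, hw'⟩ := (hA'sub ⟨z, rfl⟩).2
    have : w = j' z := Subtype.ext (hw'.trans (congrArg (fun F => F z) hj').symm)
    rw [this] at hw
    exact hw))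
  have hψ : Spec.map ψ ≫ iW = j' ≫ v' := by simp only [ψ, Spec.map_preimage, IsOpenImmersion.lift_fac]
  let A'c := Localization.Away (algebraMap A A' c)
  let φc : Ac →+* A'c := IsLocalization.Away.map Ac A'c (algebraMap A A') c
  have hkey : ∀ b, φc (φ.hom b) = algebraMap A' A'c (ψ.hom b) := by
    suffices φ ≫ CommRingCat.ofHom φc = ψ ≫ CommRingCat.ofHom (algebraMap A' A'c) from
      fun b => congrArg (fun F => F.hom b) this
    apply Spec.map_injective
    rw [← cancel_mono iW, Spec.map_comp, Spec.map_comp, Category.assoc, Category.assoc, hφ, hψ]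
    let lc' : Spec (CommRingCat.of A'c) ⟶ Spec A' := Spec.map (CommRingCat.ofHom (algebraMap A' A'c))
    have hsq : Spec.map (CommRingCat.ofHom φc) ≫ locc = lc' ≫ Spec.map φA := by
      simp only [locc, lc', ← Spec.map_comp]
      refine congrArg Spec.map (CommRingCat.hom_ext (RingHom.ext fun z => ?_))
      show φc (algebraMap A Ac z) = algebraMap A' A'c (φA.hom z)
      exact IsLocalization.map_eq _ z
    have hP : Spec.map (CommRingCat.ofHom φc) ≫ jc ≫ U.ι = lc' ≫ iA' ≫ f := by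
      rw [hjc, reassoc_of% hsq, hφA]
    let mm : Spec (CommRingCat.of A'c) ⟶ ((f ⁻¹ᵁ U ⊓ V' : X'.Opens) : Scheme.{u}) :=
      IsOpenImmersion.lift (f ⁻¹ᵁ U ⊓ V').ι (lc' ≫ iA') (by
        rw [Scheme.Opens.range_ι]
        rintro _ ⟨z, rfl⟩
        refine ⟨?_, ?_⟩
        · show f (iA' (lc' z)) ∈ U
          rw [show f (iA' (lc' z)) = U.ι (jc (Spec.map (CommRingCat.ofHom φc) z)) from
            (congrArg (fun F => F z) hP).symm]
          exact (jc _).2
        · obtain ⟨w, -, hw⟩ := (hA'sub ⟨lc' z, rfl⟩).2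
          exact hw ▸ w.2)
    have hmm : mm ≫ (f ⁻¹ᵁ U ⊓ V').ι = lc' ≫ iA' := IsOpenImmersion.lift_fac _ _ _
    have e1 : mm ≫ X'.homOfLE inf_le_right = lc' ≫ j' := by
      rw [← cancel_mono V'.ι, Category.assoc, Scheme.homOfLE_ι, hmm, Category.assoc, hj']
    have e2 : mm ≫ X'.homOfLE inf_le_left ≫ (f ∣_ U) = Spec.map (CommRingCat.ofHom φc) ≫ jc := by
      rw [← cancel_mono U.ι, Category.assoc, Category.assoc, morphismRestrict_ι, Scheme.homOfLE_ι_assoc,
        reassoc_of% hmm, Category.assoc, hP]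
    calc Spec.map (CommRingCat.ofHom φc) ≫ jc ≫ h
        = mm ≫ X'.homOfLE inf_le_left ≫ (f ∣_ U) ≫ h := by simp only [← reassoc_of% e2]
      _ = mm ≫ X'.homOfLE inf_le_right ≫ v' := by rw [hag']
      _ = lc' ≫ j' ≫ v' := by rw [reassoc_of% e1]
  -- normality of the stalk
  have : IsIntegrallyClosed (Localization.AtPrime p.asIdeal) := by
    have h0 := hXn (iA p)
    have h1 : IsIntegrallyClosed ((Spec A).presheaf.stalk p) :=
      @IsIntegrallyClosed.of_equiv _ _ _ _ (asIso (iA.stalkMap p)).commRingCatIsoToRingEquiv h0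
    exact @IsIntegrallyClosed.of_equiv _ _ _ _ (StructureSheaf.stalkIso A p).symm.toRingEquiv h1
  let K := FractionRing A
  let lK : Ac →+* K := IsLocalization.Away.lift c (g := algebraMap A K)
    (IsUnit.mk0 _ (fun e => hc (IsFractionRing.injective A K (e.trans (map_zero _).symm))))
  have hlK : ∀ z, lK (algebraMap A Ac z) = algebraMap A K z := fun z => IsLocalization.Away.lift_eq c _ z
  have hreg : ∀ b, ∃ d : A, d ∉ p.asIdeal ∧ ∃ e : A, lK (φ.hom b) * algebraMap A K d = algebraMap A K e := by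
    intro b
    obtain ⟨n, a, hab⟩ := IsLocalization.Away.surj c (φ.hom b)
    have h1 := congrArg φc hab
    have hφc : ∀ z, φc (algebraMap A Ac z) = algebraMap A' A'c (algebraMap A A' z) := fun z =>
      IsLocalization.map_eq _ z
    rw [map_mul, map_pow, hφc, hφc, hkey, ← map_pow, ← map_mul] at h1
    obtain ⟨⟨_, N, rfl⟩, hN⟩ := (IsLocalization.eq_iff_exists (Submonoid.powers (algebraMap A A' c)) A'c).mp h1
    obtain ⟨d, hd, e, hde⟩ := Rat20Lib.exists_den_of_universallyOpen q p.asIdeal rfl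
      (a := c ^ N * a) (c := c ^ (N + n)) (pow_ne_zero _ hc) (ψ.hom b)
      (by
        rw [map_mul, map_pow, map_pow, pow_add, mul_assoc]
        simp only [map_pow] at hN
        rw [mul_comm (ψ.hom b)] at hN
        exact hN)
    refine ⟨d, hd, e, ?_⟩
    have hcK : algebraMap A K c ≠ 0 := fun e => hc (IsFractionRing.injective A K (e.trans (map_zero _).symm))
    refine mul_left_cancel₀ (pow_ne_zero (N + n) hcK) ?_
    have h2 := congrArg lK hab
    rw [map_mul, map_pow, hlK, hlK] at h2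
    have h3 := congrArg (algebraMap A K) hde
    simp only [map_mul, map_pow] at h3
    rw [pow_add] at h3 ⊢
    linear_combination h3 + (algebraMap A K c ^ N * algebraMap A K d) * h2
  algebraize [σB.hom]
  obtain ⟨gen, hgen⟩ := (RingHom.finiteType_algebraMap.mp hσBft : Algebra.FiniteType R B).out
  choose dd hdd ee hee using hreg
  let d := ∏ b ∈ gen, dd b
  have hd : d ∉ p.asIdeal := fun hmem => by
    obtain ⟨b, -, hb⟩ := (Ideal.IsPrime.prod_mem_iff).mp hmem
    exact hdd b hb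
  have hd0 : d ≠ 0 := fun e => hd (e ▸ p.asIdeal.zero_mem)
  let Ad := Localization.Away d
  let lKd : Ad →+* K := IsLocalization.Away.lift d (g := algebraMap A K)
    (IsUnit.mk0 _ (fun e => hd0 (IsFractionRing.injective A K (e.trans (map_zero _).symm))))
  have hlKd : ∀ z, lKd (algebraMap A Ad z) = algebraMap A K z := fun z => IsLocalization.Away.lift_eq d _ z
  have hinj : Function.Injective lKd := by
    refine (injective_iff_map_eq_zero _).mpr fun z hz => ?_
    obtain ⟨n, a, ha⟩ := IsLocalization.Away.surj d z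
    have h1 := congrArg lKd ha
    rw [map_mul, hz, zero_mul, hlKd] at h1
    have : a = 0 := IsFractionRing.injective A K (h1.symm.trans (map_zero _).symm)
    rw [this, map_zero] at ha
    exact ((IsLocalization.Away.algebraMap_isUnit d).pow n).mul_left_eq_zero.mp ha
  have hmem : ∀ b : B, lK (φ.hom b) ∈ lKd.range := by
    intro b
    have hb : b ∈ Algebra.adjoin R (gen : Set B) := hgen ▸ Algebra.mem_top
    induction hb using Algebra.adjoin_induction with
    | mem b hb =>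
      obtain ⟨r, hr⟩ : dd b ∣ d := Finset.dvd_prod_of_mem dd hb
      refine ⟨algebraMap A Ad (ee b * r) * IsLocalization.Away.invSelf d, ?_⟩
      have hdK : algebraMap A K d ≠ 0 := fun e => hd0 (IsFractionRing.injective A K (e.trans (map_zero _).symm))
      refine mul_right_cancel₀ hdK ?_
      have h1 : lKd (IsLocalization.Away.invSelf d) * algebraMap A K d = 1 := by
        rw [← hlKd, ← map_mul, mul_comm, IsLocalization.Away.mul_invSelf, map_one]
      rw [map_mul, hlKd, mul_assoc, h1, mul_one, map_mul, ← hee b, hr, map_mul, mul_assoc]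
    | algebraMap z =>
      refine ⟨algebraMap A Ad (σA.hom z), ?_⟩
      rw [hlKd, ← hlK]
      exact congrArg lK (congrArg (fun F => F.hom z) hφσ).symm
    | add a b _ _ ha hb => rw [map_add, map_add]; exact add_mem ha hb
    | mul a b _ _ ha hb => rw [map_mul, map_mul]; exact mul_mem ha hb
  choose θf hθf using hmem
  let θ : B →+* Ad :=
    { toFun := θf
      map_one' := hinj (by rw [hθf, map_one, map_one, map_one])
      map_mul' := fun a b => hinj (by rw [hθf, map_mul lKd, hθf, hθf, map_mul, map_mul])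
      map_zero' := hinj (by rw [hθf, map_zero, map_zero, map_zero])
      map_add' := fun a b => hinj (by rw [hθf, map_add lKd, hθf, hθf, map_add, map_add]) }
  let locd : Spec (CommRingCat.of Ad) ⟶ Spec A := Spec.map (CommRingCat.ofHom (algebraMap A Ad))
  let i : Spec (CommRingCat.of Ad) ⟶ X := locd ≫ iA
  have hθσ : σB ≫ CommRingCat.ofHom θ = σA ≫ CommRingCat.ofHom (algebraMap A Ad) := by
    refine CommRingCat.hom_ext (RingHom.ext fun z => hinj ?_)
    show lKd (θf (σB.hom z)) = lKd (algebraMap A Ad (σA.hom z))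
    rw [hθf, hlKd, ← hlK]
    exact congrArg lK (congrArg (fun F => F.hom z) hφσ)
  let v : (i.opensRange : Scheme.{u}) ⟶ Y := i.isoOpensRange.inv ≫ Spec.map (CommRingCat.ofHom θ) ≫ iW
  have hvS : v ≫ pY = i.opensRange.ι ≫ pX := by
    rw [← cancel_epi i.isoOpensRange.hom]
    simp only [v, Category.assoc, Iso.hom_inv_id_assoc, Scheme.Hom.isoOpensRange_hom_ι_assoc]
    rw [← hσB, ← Category.assoc, ← Spec.map_comp, hθσ, Spec.map_comp, Category.assoc, hσA, ← Category.assoc]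
  refine ⟨i.opensRange, v, ?_, hvS, ?_⟩
  · have hpd : p ∈ Set.range (PrimeSpectrum.comap (algebraMap A Ad)) := by
      rw [PrimeSpectrum.localization_away_comap_range Ad d]; exact hd
    obtain ⟨z, hz⟩ := hpd
    exact ⟨z, (congrArg (fun w => iA w) hz).trans hp⟩
  -- agreement at the generic point
  let O := U ⊓ i.opensRange
  let aK : Spec (CommRingCat.of K) ⟶ Spec A := Spec.map (CommRingCat.ofHom (algebraMap A K))
  have hd1 : Spec.map (CommRingCat.ofHom lKd) ≫ locd = aK := by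
    simp only [locd, aK, ← Spec.map_comp]
    exact congrArg Spec.map (CommRingCat.hom_ext (RingHom.ext hlKd))
  have hc1 : Spec.map (CommRingCat.ofHom lK) ≫ locc = aK := by
    simp only [locc, aK, ← Spec.map_comp]
    exact congrArg Spec.map (CommRingCat.hom_ext (RingHom.ext hlK))
  let t : Spec (CommRingCat.of K) ⟶ (O : Scheme.{u}) := IsOpenImmersion.lift O.ι (aK ≫ iA) (by
    rw [Scheme.Opens.range_ι]
    rintro _ ⟨z, rfl⟩
    refine ⟨?_, ⟨Spec.map (CommRingCat.ofHom lKd) z, congrArg (fun F => iA (F z)) hd1⟩⟩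
    show (aK ≫ iA) z ∈ U
    rw [← hc1, Category.assoc, ← hjc]
    exact (jc _).2)
  have ht : t ≫ O.ι = aK ≫ iA := IsOpenImmersion.lift_fac _ _ _
  have : IsIntegral (O : Scheme.{u}) := by
    have : Nonempty (O : Scheme.{u}) := ⟨t default⟩
    let jO : (O : Scheme.{u}) ⟶ Spec A := IsOpenImmersion.lift iA O.ι (by
      rw [Scheme.Opens.range_ι]
      rintro _ ⟨-, z, rfl⟩
      exact ⟨locd z, rfl⟩)
    have : IsOpenImmersion (jO ≫ iA) := by simp only [jO, IsOpenImmersion.lift_fac]; infer_instance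
    have : IsOpenImmersion jO := IsOpenImmersion.of_comp jO iA
    exact isIntegral_of_isOpenImmersion jO
  have : IsDominant t := by
    refine ⟨fun w => ?_⟩
    let ξ : PrimeSpectrum K := ⟨⊥, Ideal.isPrime_bot⟩
    have hgen : O.ι (t ξ) = iA ⟨⊥, Ideal.isPrime_bot⟩ :=
      (congrArg (fun F => F ξ) ht).trans (congrArg (fun z => iA z)
        (show PrimeSpectrum.comap (algebraMap A K) ξ = (⟨⊥, Ideal.isPrime_bot⟩ : PrimeSpectrum A) from
          PrimeSpectrum.ext (Ideal.comap_bot_of_injective (algebraMap A K) (IsFractionRing.injective A K))))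
    refine mem_closure_iff.mpr fun o ho hwo => ⟨_, ?_, ⟨ξ, rfl⟩⟩
    refine Specializes.mem_open ?_ ho hwo
    rw [← O.ι.isOpenEmbedding.isInducing.specializes_iff, hgen]
    obtain ⟨z, hz⟩ := w.2.2
    have h1 : (⟨⊥, Ideal.isPrime_bot⟩ : PrimeSpectrum A) ⤳ locd z :=
      (PrimeSpectrum.le_iff_specializes _ _).mp bot_le
    have hz' : iA (locd z) = O.ι w := hz
    rw [← hz']
    exact h1.map iA.continuous
  have e1 : t ≫ X.homOfLE (inf_le_right : U ⊓ i.opensRange ≤ i.opensRange) =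
      Spec.map (CommRingCat.ofHom lKd) ≫ i.isoOpensRange.hom := by
    rw [← cancel_mono i.opensRange.ι, Category.assoc, Scheme.homOfLE_ι, ht, Category.assoc,
      Scheme.Hom.isoOpensRange_hom_ι, reassoc_of% hd1]
  have e2 : t ≫ X.homOfLE (inf_le_left : U ⊓ i.opensRange ≤ U) = Spec.map (CommRingCat.ofHom lK) ≫ jc := by
    rw [← cancel_mono U.ι, Category.assoc, Scheme.homOfLE_ι, ht, Category.assoc, hjc, reassoc_of% hc1]
  refine ext_of_isDominant_of_isSeparated pY ?_ t ?_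
  · have key := hvS
    simp only [v, Category.assoc] at key ⊢
    rw [key, hh, Scheme.homOfLE_ι_assoc, Scheme.homOfLE_ι_assoc]
  · rw [reassoc_of% e1, reassoc_of% e2, Iso.hom_inv_id_assoc, ← hφ, ← Spec.map_comp_assoc, ← Spec.map_comp_assoc]
    refine congrArg (fun F => F ≫ iW) (congrArg Spec.map (CommRingCat.hom_ext (RingHom.ext fun b => ?_)))
    exact hθf b

end Groth.Agent.S3837
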