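import Groth.Statements.S3842
import Groth.Agent.Rat20Lib.SchDense

set_option autoImplicit false
universe u
open CategoryTheory CategoryTheory.Limits AlgebraicGeometry TopologicalSpace
open Rat20

namespace Groth.Agent.S3842

/-- For the open subset U = X; the general case is the same statement over the open subscheme U: let f :
X' → X be a morphism of schemes with X' reduced, suppose the irreducible components of X form a
locally finite family and that every irreducible component of X' dominates an irreducible component
of X (the closure of its image is an irreducible component of X). Then for every schematically dense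
open subset V of X, the preimage f⁻¹(V) is schematically dense in X'. -/
theorem result {X X' : Scheme.{u}} (f : X' ⟶ X) [IsReduced X']
    (hfin : ∀ x : ↥X, ∃ W : X.Opens, x ∈ W ∧ {Z ∈ irreducibleComponents ↥X | (Z ∩ (W : Set ↥X)).Nonempty}.Finite)
    (hdom : ∀ Z' ∈ irreducibleComponents ↥X', closure (f '' Z') ∈ irreducibleComponents ↥X)
    (V : X.Opens) (hV : CInt.IsSchematicallyDense V) : CInt.IsSchematicallyDense (f ⁻¹ᵁ V) := by
  refine Rat20Lib.sd_of_dense ?_
  intro x
  obtain ⟨η', hη'⟩ := QuasiSober.sober
    (irreducibleComponent_mem_irreducibleComponents x).1 isClosed_irreducibleComponent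
  have hZ' : closure {η'} ∈ irreducibleComponents ↥X' := by
    rw [hη'.def]; exact irreducibleComponent_mem_irreducibleComponents x
  have hxη : x ∈ closure {η'} := by rw [hη'.def]; exact mem_irreducibleComponent
  have hmem : f η' ∈ (V : Set X) := by
    refine Rat20Lib.mem_of_dense (fun y => ?_) V.isOpen (Rat20Lib.dense_of_sd hV) ?_
    · obtain ⟨W, hyW, hW⟩ := hfin y
      exact ⟨W, W.isOpen, hyW, hW⟩
    · have h1 := hdom _ hZ'
      have h2 : closure (f '' closure {η'}) = closure {f η'} := by
        rw [closure_image_closure f.continuous, Set.image_singleton]
      rwa [h2] at h1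
  exact closure_mono (Set.singleton_subset_iff.2 (show η' ∈ ((f ⁻¹ᵁ V : X'.Opens) : Set X') from hmem)) hxη

end Groth.Agent.S3842
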