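import Groth.Statements.S3846
import Groth.Agent.FlatLocal.DiagLocal
import Groth.Prelude

set_option autoImplicit false
universe u
open CategoryTheory CategoryTheory.Limits AlgebraicGeometry TopologicalSpace
open Unram17

namespace Groth.Agent.S3846
open CategoryTheory CategoryTheory.Limits AlgebraicGeometry
set_option backward.isDefEq.respectTransparency.types false

/-- a) iff b''): let f : X → Y be locally of finite presentation and x a point of X. Then f is
unramified on some open neighbourhood of x if and only if, for every base change g : Y' → Y and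
every section s' of X ×_Y Y' → Y', s' is a local isomorphism at every point y' of Y' such that
s'(y') lies over x. -/
theorem result {X Y : Scheme.{u}} (f : X ⟶ Y) [LocallyOfFinitePresentation f]
    (x : ↥X) :
    (∃ U : X.Opens, x ∈ U ∧ FormallyUnramified (U.ι ≫ f)) ↔
      ∀ (Y' : Scheme.{u}) (g : Y' ⟶ Y) (s' : Y' ⟶ pullback f g), s' ≫ pullback.snd f g = 𝟙 Y' →
        ∀ y' : ↥Y', pullback.fst f g (s' y') = x → SchLoc.IsLocalIsoAt s' y' := by
  constructor
  · rintro ⟨U, hxU, hU⟩ Y' g s' hs y' hy
    let V := pullback.fst f g ⁻¹ᵁ U
    have sq := (isPullback_morphismRestrict (pullback.fst f g) U).paste_vert (IsPullback.of_hasPullback f g)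
    haveI : FormallyUnramified (V.ι ≫ pullback.snd f g) := MorphismProperty.of_isPullback sq hU
    haveI : LocallyOfFiniteType (V.ι ≫ pullback.snd f g) := inferInstance
    refine ⟨s' ⁻¹ᵁ V, ?_, Groth.Agent.FlatLocal.isOpenImmersion_ι_section _ s' hs V⟩
    show pullback.fst f g (s' y') ∈ U
    rw [hy]; exact hxU
  · intro h
    refine exists_congr (fun U => and_congr_right fun _ => (Groth.Agent.FlatLocal.isOpenImmersion_ι_diagonal_iff f U).symm) |>.mpr ?_
    exact h X f (pullback.diagonal f) (by simp) x (by rw [← Scheme.Hom.comp_apply, pullback.diagonal_fst]; rfl)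

end Groth.Agent.S3846
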