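import Groth.Statements.S3849
import Groth.Agent.DVRDom.SectionQF

set_option autoImplicit false
universe u
open CategoryTheory CategoryTheory.Limits AlgebraicGeometry TopologicalSpace
open Rat20

namespace Groth.Agent.S3849

/-- In the case S = X (sections of q : Y → X): let X be a locally Noetherian scheme, q : Y → X
separated, locally of finite type and locally quasi-finite, U a dense open subset of X, h : U → Y a
section of q over U, and x a point of X outside U whose local ring is an integrally closed domain.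
Then h extends to a section of q over an open subset containing U and x if and only if there exist a
discrete valuation ring R, a morphism u : Spec R → X sending the closed point to x and the generic
point into U, and a morphism Spec R → Y over X agreeing with h at the generic point. -/
theorem result {X Y : Scheme.{u}} [IsLocallyNoetherian X] (q : Y ⟶ X)
    [LocallyOfFiniteType q] [IsSeparated q] [LocallyQuasiFinite q] (U : X.Opens) (hU : Dense (U : Set ↥X))
    (h : (U : Scheme.{u}) ⟶ Y) (hh : h ≫ q = U.ι) (x : ↥X) (hxU : x ∉ U) [IsDomain ↑(X.presheaf.stalk x)]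
    (hx : IsIntegrallyClosed ↑(X.presheaf.stalk x)) :
    (∃ (U' : X.Opens) (hUU' : U ≤ U') (h' : (U' : Scheme.{u}) ⟶ Y),
        x ∈ U' ∧ h' ≫ q = U'.ι ∧ X.homOfLE hUU' ≫ h' = h) ↔
      ∃ (R : Type u) (_ : CommRing R) (_ : IsDomain R) (_ : IsDiscreteValuationRing R)
        (u : Spec (CommRingCat.of R) ⟶ X) (ub : Spec (CommRingCat.of (FractionRing R)) ⟶ (U : Scheme.{u}))
        (h₁ : Spec (CommRingCat.of R) ⟶ Y),
        u (IsLocalRing.closedPoint R) = x ∧
          ub ≫ U.ι = Spec.map (CommRingCat.ofHom (algebraMap R (FractionRing R))) ≫ u ∧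
          h₁ ≫ q = u ∧ Spec.map (CommRingCat.ofHom (algebraMap R (FractionRing R))) ≫ h₁ = ub ≫ h := by
  constructor
  · rintro ⟨U', hUU', h', hxU', hq, hU'⟩
    obtain ⟨W, hxW, hW, hWinj⟩ := X.exists_germ_injective x
    have : IsDomain Γ(X, W) := hWinj.isDomain
    have : IsIntegral (W : Scheme.{u}) := by
      have : IsDomain (CommRingCat.of Γ(X, W)) := ‹_›
      have : Nonempty (W : Scheme.{u}) := ⟨⟨x, hxW⟩⟩
      exact isIntegral_of_isOpenImmersion hW.isoSpec.hom
    have hw : (genericPoint (W : Scheme.{u})).1 ∈ U := by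
      obtain ⟨w, hwW, hwU⟩ := hU.inter_open_nonempty W W.isOpen ⟨x, hxW⟩
      exact (genericPoint_spec (W : Scheme.{u})).mem_open_set_iff (W.ι ⁻¹ᵁ U).isOpen |>.mpr
        ⟨⟨w, hwW⟩, trivial, hwU⟩
    have hsp : (genericPoint (W : Scheme.{u})).1 ⤳ x :=
      ((genericPoint_spec (W : Scheme.{u})).specializes (y := ⟨x, hxW⟩) trivial).map continuous_subtype_val
    have hne : (genericPoint (W : Scheme.{u})).1 ≠ x := fun e => hxU (by rw [← e]; exact hw)
    obtain ⟨R, hR1, hR2, hR3, m, hmc, hmg⟩ := Groth.Agent.DVRDom.exists_dvr_point hsp hne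
    let ub : Spec (CommRingCat.of (FractionRing R)) ⟶ (U : Scheme.{u}) :=
      IsOpenImmersion.lift U.ι (Spec.map (CommRingCat.ofHom (algebraMap R (FractionRing R))) ≫ m) (by
        rintro _ ⟨z, rfl⟩; rw [Scheme.Opens.range_ι, hmg]; exact hw)
    have hub : ub ≫ U.ι = _ := IsOpenImmersion.lift_fac _ _ _
    let l := IsOpenImmersion.lift U'.ι m (by
      rintro _ ⟨z, rfl⟩
      rw [Scheme.Opens.range_ι]
      exact ((IsLocalRing.specializes_closedPoint z).map m.continuous).mem_open U'.isOpen (by rwa [hmc]))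
    have hl : l ≫ U'.ι = m := IsOpenImmersion.lift_fac _ _ _
    refine ⟨R, hR1, hR2, hR3, m, ub, l ≫ h', hmc, hub, by rw [Category.assoc, hq, hl], ?_⟩
    have e : Spec.map (CommRingCat.ofHom (algebraMap R (FractionRing R))) ≫ l = ub ≫ X.homOfLE hUU' := by
      rw [← cancel_mono U'.ι, Category.assoc, Category.assoc, hl, Scheme.homOfLE_ι, hub]
    rw [← Category.assoc, e, Category.assoc, hU']
  · rintro ⟨R, _, _, _, u, ub, h₁, hu, hub, hq, hg⟩
    exact Groth.Agent.DVRDom.exists_extension_of_quasiFinite q U hU h hh x hxU hx R u ub h₁ hu hub hq hg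

end Groth.Agent.S3849
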