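import Groth.Statements.S3851
import Groth.Agent.CommAlg6.GenPointKaehler

set_option autoImplicit false
universe u
open scoped TensorProduct
open EGA418

namespace Groth.Agent.S3851

open IsLocalRing
attribute [local instance] Algebra.TensorProduct.rightAlgebra

/-- Generators at a prime from freeness. -/
theorem exists_generators_of_free {A M : Type u} [CommRing A] [AddCommGroup M] [Module A M] [Module.Finite A M]
    (p : Ideal A) [p.IsPrime] (n : ℕ) [Module.Free (Localization.AtPrime p) (LocalizedModule p.primeCompl M)]
    (h : Module.finrank (Localization.AtPrime p) (LocalizedModule p.primeCompl M) = n) :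
    ∃ g : Fin n → M, ∀ w, ∃ c ∉ p, c • w ∈ Submodule.span A (Set.range g) := by
  let b := Module.finBasisOfFinrankEq (Localization.AtPrime p) (LocalizedModule p.primeCompl M) h
  choose y hy using fun i => IsLocalizedModule.surj p.primeCompl (LocalizedModule.mkLinearMap p.primeCompl M) (b i)
  let x : Fin n → M := fun i => (y i).1
  let s : Fin n → p.primeCompl := fun i => (y i).2
  have hxs : ∀ i, s i • b i = LocalizedModule.mkLinearMap p.primeCompl M (x i) := hy
  refine ⟨x, (CommAlg6.span_localized_eq_top_iff p _).1 ?_⟩
  rw [← Set.range_comp, eq_top_iff, ← b.span_eq, Submodule.span_le]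
  rintro _ ⟨i, rfl⟩
  obtain ⟨v, hv⟩ := IsLocalization.map_units (Localization.AtPrime p) (s i)
  have : b i = ((v⁻¹ : (Localization.AtPrime p)ˣ) : Localization.AtPrime p) •
      LocalizedModule.mkLinearMap p.primeCompl M (x i) := by
    rw [← hxs, Submonoid.smul_def, ← algebraMap_smul (Localization.AtPrime p) (s i : A) (b i), ← hv, smul_smul,
      Units.inv_mul, one_smul]
  rw [this]
  exact Submodule.smul_mem _ _ (Submodule.subset_span ⟨i, rfl⟩)

theorem aux (k A : Type u) [Field k] [CommRing A]
    [IsLocalRing A] [IsNoetherianRing A] [Algebra k A] [IsAdicComplete (maximalIdeal A) A]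
    [Module.Finite k (ResidueField A)] (p : Ideal A) [p.IsPrime] (k' : Type u) [Field k'] [Algebra k k']
    (I : Ideal (A ⊗[k] k')) (hI : I = EGA4.cTensorIdeal k A k')
    (p' : Ideal (AdicCompletion I (A ⊗[k] k'))) [p'.IsPrime]
    (hp' : (p'.comap (algebraMap (A ⊗[k] k') _)).comap
      (Algebra.TensorProduct.includeLeft : A →ₐ[k] A ⊗[k] k').toRingHom = p)
    (h : ∀ (P : Ideal (EGA4.CTensor k A k')) [P.IsPrime], P.comap (algebraMap A (EGA4.CTensor k A k')) = p →
      IsRegularLocalRing (Localization.AtPrime P)) :
    IsRegularLocalRing (Localization.AtPrime p') := by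
  subst hI
  refine h p' ?_
  rw [← hp', Ideal.comap_comap]
  rfl

theorem aux₂ (k A : Type u) [Field k] [CommRing A]
    [IsLocalRing A] [IsNoetherianRing A] [Algebra k A] [IsAdicComplete (maximalIdeal A) A]
    [Module.Finite k (ResidueField A)] (p : Ideal A) [p.IsPrime] (n : ℕ)
    (hn₁ : ∀ q ∈ minimalPrimes A, q ≤ p → ringKrullDim (A ⧸ q) ≤ n)
    (k' : Type u) [Field k'] [Algebra k k'] [PerfectField k']
    (I : Ideal (A ⊗[k] k')) (hI : I = EGA4.cTensorIdeal k A k')
    (p' : Ideal (AdicCompletion I (A ⊗[k] k'))) [p'.IsPrime]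
    (hp' : (p'.comap (algebraMap (A ⊗[k] k') _)).comap
      (Algebra.TensorProduct.includeLeft : A →ₐ[k] A ⊗[k] k').toRingHom = p)
    (hreg : IsRegularLocalRing (Localization.AtPrime p')) :
    ∃ g : Fin n → CommAlg6.CKaehler k A, ∀ w, ∃ c ∉ p, c • w ∈ Submodule.span A (Set.range g) := by
  subst hI
  refine CommAlg6.exists_generators_of_regular_baseChange k A p n hn₁ k' p' ?_ hreg
  rw [← hp', Ideal.comap_comap]
  rfl

theorem aux₃ (k A : Type u) [Field k] [CommRing A]
    [IsLocalRing A] [IsNoetherianRing A] [Algebra k A] [IsAdicComplete (maximalIdeal A) A]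
    [Module.Finite k (ResidueField A)] (p : Ideal A) [p.IsPrime] (k' : Type u) [Field k'] [Algebra k k']
    (I : Ideal (A ⊗[k] k')) (hI : I = EGA4.cTensorIdeal k A k') :
    ∃ (p' : Ideal (AdicCompletion I (A ⊗[k] k'))) (_ : p'.IsPrime),
      (p'.comap (algebraMap (A ⊗[k] k') _)).comap
        (Algebra.TensorProduct.includeLeft : A →ₐ[k] A ⊗[k] k').toRingHom = p := by
  subst hI
  obtain ⟨p', hp', h⟩ := CommAlg6.exists_prime_cTensor k A p k'
  refine ⟨p', hp', ?_⟩
  rw [← h, Ideal.comap_comap]
  rfl

theorem cT_eq (k A : Type u) [Field k] [CommRing A] [IsLocalRing A] [Algebra k A] (k' : Type u) [Field k'] [Algebra k k'] :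
    (maximalIdeal A).map (Algebra.TensorProduct.includeLeft : A →ₐ[k] A ⊗[k] k') = EGA4.cTensorIdeal k A k' := by
  rw [EGA4.cTensorIdeal, isField_iff_maximalIdeal_eq.1 (Field.toIsField k'), Ideal.map_bot, sup_bot_eq]


/-- a) iff a') iff b), and b) implies d): let k be a field, A a complete Noetherian local k-algebra
whose residue field is finite over k, p a non-maximal prime of A, n the largest dimension of an
irreducible component of Spec A containing p, and Ω̂ the completion of the module of differentials
of A over k for the topology of the maximal ideal. For a field extension k' of k write A' = A ⊗̂_k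
k' (the completion of A ⊗_k k' for the extension of the maximal ideal). The following are
equivalent: (a) for every extension k' and every prime p' of A' over p, A'_{p'} is regular; (a') for
some perfect extension k' and some prime p' of A' over p, A'_{p'} is regular; (b) Ω̂_p is a free
A_p-module of rank n. Moreover (b) implies (d): A_p is geometrically regular over k. (The converse
of the last implication, valid when [k : k^p] is finite, is not stated.) -/
theorem result (k A : Type u) [Field k] [CommRing A]
    [IsLocalRing A] [IsNoetherianRing A] [Algebra k A] [IsAdicComplete (IsLocalRing.maximalIdeal A) A]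
    [Module.Finite k (IsLocalRing.ResidueField A)] (p : Ideal A) [p.IsPrime] (hp : p ≠ IsLocalRing.maximalIdeal A)
    (n : ℕ) (hn₁ : ∀ q ∈ minimalPrimes A, q ≤ p → ringKrullDim (A ⧸ q) ≤ n)
    (hn₂ : ∃ q ∈ minimalPrimes A, q ≤ p ∧ ringKrullDim (A ⧸ q) = n) :
    List.TFAE [
      ∀ (k' : Type u) [Field k'] [Algebra k k']
        (p' : Ideal (AdicCompletion ((IsLocalRing.maximalIdeal A).map
          (Algebra.TensorProduct.includeLeft : A →ₐ[k] A ⊗[k] k')) (A ⊗[k] k'))) [p'.IsPrime],
        (p'.comap (algebraMap (A ⊗[k] k') _)).comap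
            (Algebra.TensorProduct.includeLeft : A →ₐ[k] A ⊗[k] k').toRingHom = p →
          IsRegularLocalRing (Localization.AtPrime p'),
      ∃ (k' : Type u) (_ : Field k') (_ : Algebra k k') (_ : PerfectField k')
        (p' : Ideal (AdicCompletion ((IsLocalRing.maximalIdeal A).map
          (Algebra.TensorProduct.includeLeft : A →ₐ[k] A ⊗[k] k')) (A ⊗[k] k'))) (_ : p'.IsPrime),
        (p'.comap (algebraMap (A ⊗[k] k') _)).comap
            (Algebra.TensorProduct.includeLeft : A →ₐ[k] A ⊗[k] k').toRingHom = p ∧
          IsRegularLocalRing (Localization.AtPrime p'),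
      Module.Free (Localization.AtPrime p)
          (LocalizedModule p.primeCompl (AdicCompletion (IsLocalRing.maximalIdeal A) (KaehlerDifferential k A))) ∧
        Module.finrank (Localization.AtPrime p)
          (LocalizedModule p.primeCompl (AdicCompletion (IsLocalRing.maximalIdeal A) (KaehlerDifferential k A))) = n] ∧
    ((Module.Free (Localization.AtPrime p)
          (LocalizedModule p.primeCompl (AdicCompletion (IsLocalRing.maximalIdeal A) (KaehlerDifferential k A))) ∧
        Module.finrank (Localization.AtPrime p)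
          (LocalizedModule p.primeCompl (AdicCompletion (IsLocalRing.maximalIdeal A) (KaehlerDifferential k A))) = n) →
      CAlg.IsGeometricallyRegular k (Localization.AtPrime p)) := by
  haveI := CommAlg6.finite_cKaehler k A
  have hgen : Module.Free (Localization.AtPrime p)
        (LocalizedModule p.primeCompl (CommAlg6.CKaehler k A)) ∧
      Module.finrank (Localization.AtPrime p) (LocalizedModule p.primeCompl (CommAlg6.CKaehler k A)) = n →
      ∃ g : Fin n → CommAlg6.CKaehler k A, ∀ w, ∃ c ∉ p, c • w ∈ Submodule.span A (Set.range g) := fun h => by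
    haveI := h.1
    exact exists_generators_of_free p n h.2
  refine ⟨?_, fun h => ?_⟩
  · tfae_have 1 → 2 := fun h => by
      obtain ⟨p', hp', hpp'⟩ := aux₃ k A p (AlgebraicClosure k) _ (cT_eq k A (AlgebraicClosure k))
      exact ⟨AlgebraicClosure k, inferInstance, inferInstance, inferInstance, p', hp', hpp',
        h (AlgebraicClosure k) p' hpp'⟩
    tfae_have 2 → 3 := fun ⟨k', _, _, _, p', _, hpp', hreg⟩ => by
      obtain ⟨g, hg⟩ := aux₂ k A p n hn₁ k' _ (cT_eq k A k') p' hpp' hreg
      exact (CommAlg6.free_and_etale_of_generators k A p n hp hn₁ hn₂ g hg).1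
    tfae_have 3 → 1 := fun h => by
      intro k' _ _ p' _ hpp'
      obtain ⟨g, hg⟩ := hgen h
      exact aux k A p k' _ (cT_eq k A k') p' hpp'
        (fun P _ hP => (CommAlg6.free_and_etale_of_generators k A p n hp hn₁ hn₂ g hg).2.2 k' P hP)
    tfae_finish
  · obtain ⟨g, hg⟩ := hgen h
    exact (CommAlg6.free_and_etale_of_generators k A p n hp hn₁ hn₂ g hg).2.1

end Groth.Agent.S3851
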