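import Groth.Statements.S3856
import Groth.Agent.AdicRing.Noetherian

set_option autoImplicit false
universe u
open AdicRing

namespace Groth.Agent.S3856

/-- Let A be a ring that is complete and separated for the J-adic topology of an ideal J. If A/J² is
Noetherian (equivalently, A/J is Noetherian and J/J² is a finitely generated A/J-module), then A is
Noetherian. The published statement is phrased for a formal spectrum Spf(A) all of whose levels
Spec(A/J^(n+1)) are Noetherian; it is stated here with the weaker hypothesis that A/J² is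
Noetherian. -/
theorem result (A : Type u) [CommRing A]
    (J : Ideal A) [IsAdicComplete J A] [IsNoetherianRing (A ⧸ J ^ 2)] : IsNoetherianRing A := by
  have hsub : Ideal.map (Ideal.Quotient.mk (J ^ 2)) J |>.FG := IsNoetherian.noetherian _
  obtain ⟨K, hK, hKJ, hKm⟩ : ∃ K : Ideal A, K.FG ∧ K ≤ J ∧
      Ideal.map (Ideal.Quotient.mk (J ^ 2)) J ≤ Ideal.map (Ideal.Quotient.mk (J ^ 2)) K := by
    classical
    obtain ⟨s, hs⟩ := hsub
    have hsJ : ∀ y ∈ s, ∃ x ∈ J, Ideal.Quotient.mk (J ^ 2) x = y := fun y hy =>
      (Ideal.mem_map_iff_of_surjective _ Ideal.Quotient.mk_surjective).1 (hs ▸ Submodule.subset_span hy)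
    choose t ht htm using hsJ
    refine ⟨Ideal.span (s.attach.image fun y => t y.1 y.2 : Finset A), ⟨_, rfl⟩, ?_, ?_⟩
    · rw [Ideal.span_le]
      intro z hz
      obtain ⟨y, -, rfl⟩ := Finset.mem_image.1 hz
      exact ht _ _
    · rw [← hs]
      refine Submodule.span_le.2 fun y hy => ?_
      rw [← htm y hy]
      exact Ideal.mem_map_of_mem _ (Ideal.subset_span (Finset.mem_image.2 ⟨⟨y, hy⟩, by simp⟩))
  have h : J ≤ K ⊔ J ^ 2 := by
    have := Ideal.comap_mono (f := Ideal.Quotient.mk (J ^ 2)) hKm
    rw [Ideal.comap_map_of_surjective _ Ideal.Quotient.mk_surjective,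
      Ideal.comap_map_of_surjective _ Ideal.Quotient.mk_surjective, ← RingHom.ker_eq_comap_bot,
      Ideal.mk_ker] at this
    exact le_sup_left.trans this
  have hJ : J.FG := (Groth.Agent.AdicRing.fg_of_le_sup_sq J K hK hKJ h).symm ▸ hK
  have : IsNoetherianRing (A ⧸ J) := isNoetherianRing_of_surjective (A ⧸ J ^ 2) _
    (Ideal.Quotient.factor (Ideal.pow_le_self two_ne_zero))
    (Ideal.Quotient.factor_surjective _)
  exact Groth.Agent.AdicRing.isNoetherianRing_of_isAdicComplete J hJ

end Groth.Agent.S3856
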