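import Groth.Statements.S3860
import Groth.Agent.FSchLib.Systems
open CategoryTheory CategoryTheory.Limits AlgebraicGeometry

set_option autoImplicit false
universe u
open FCompl

namespace Groth.Agent.S3860

open AlgebraicGeometry in
/-- (Affine adic case; the formal spectra presented as the systems Spec(A/I^(n+1)) and Spec(B/K^(n+1)).)
Let I be an ideal of a ring A which is complete and separated for the I-adic topology, and K an
ideal of a ring B. Then φ ↦ (Spec of the induced maps B/K^(n+1) -> A/I^(n+1)) is a bijection from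
the ring homomorphisms φ : B -> A with φ(K) ⊆ I onto the morphisms of systems from Spf(A) to Spf(B),
i.e. the compatible families of morphisms Spec(A/I^(n+1)) -> Spec(B/K^(n+1)). -/
theorem result (A B : Type u) [CommRing A] [CommRing B] (I : Ideal A) (K : Ideal B)
    [IsAdicComplete I A] :
    Function.Bijective (fun φ : {φ : B →+* A // K ≤ I.comap φ} ↦ FSch.spfMap I K φ.1 φ.2) := by
  constructor
  · rintro ⟨φ, hφ⟩ ⟨ψ, hψ⟩ h
    have hH : IsHausdorff I A := inferInstance
    refine Subtype.ext (RingHom.ext fun b => sub_eq_zero.1 (hH.haus _ fun n => ?_))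
    have h1 : FSch.quotPowMap I K φ hφ n = FSch.quotPowMap I K ψ hψ n :=
      congrArg CommRingCat.Hom.hom (Spec.map_injective
        (congrArg (fun F : FSch.spf A I ⟶ FSch.spf B K => (F : FSch.Hom _ _).app n) h :))
    have h2 : φ b - ψ b ∈ I ^ (n + 1) :=
      Ideal.Quotient.eq.1 (RingHom.congr_fun h1 (Ideal.Quotient.mk _ b))
    rw [SModEq.zero, smul_eq_mul, Ideal.mul_top]
    exact Ideal.pow_le_pow_right (Nat.le_succ n) h2
  · intro F
    let g : ∀ n, B ⧸ K ^ (n + 1) →+* A ⧸ I ^ (n + 1) := fun n =>
      (Spec.preimage ((F : FSch.Hom _ _).app n)).hom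
    have hg : ∀ n, Spec.map (CommRingCat.ofHom (g n)) = (F : FSch.Hom _ _).app n := fun n =>
      Spec.map_preimage _
    have hcompat : ∀ n (b : B),
        Ideal.Quotient.factorPow I (Nat.le_succ (n + 1)) (g (n + 1) (Ideal.Quotient.mk _ b)) =
          g n (Ideal.Quotient.mk _ b) := by
      intro n b
      have h : Spec.map (CommRingCat.ofHom (g n)) ≫
          Spec.map (CommRingCat.ofHom (Ideal.Quotient.factorPow K (Nat.le_succ (n + 1)))) =
          Spec.map (CommRingCat.ofHom (Ideal.Quotient.factorPow I (Nat.le_succ (n + 1)))) ≫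
          Spec.map (CommRingCat.ofHom (g (n + 1))) := by
        have := (F : FSch.Hom _ _).comm n
        rw [← hg n, ← hg (n + 1)] at this
        exact this
      rw [← Spec.map_comp, ← Spec.map_comp] at h
      exact (RingHom.congr_fun (congrArg CommRingCat.Hom.hom (Spec.map_injective h))
        (Ideal.Quotient.mk _ b)).symm
    let f : ∀ n, B →+* A ⧸ I ^ n := fun n =>
      (Ideal.Quotient.factorPow I (Nat.le_succ n)).comp ((g n).comp (Ideal.Quotient.mk _))
    have hstep : ∀ m n, m ≤ n → ∀ (hle : m + 1 ≤ n + 1) (b : B),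
        Ideal.Quotient.factorPow I hle (g n (Ideal.Quotient.mk _ b)) = g m (Ideal.Quotient.mk _ b) := by
      intro m n hmn
      induction n, hmn using Nat.le_induction with
      | base => intro _ b; simp
      | succ n hmn ih =>
        intro _ b
        rw [← ih (Nat.succ_le_succ hmn) b, ← hcompat n b]
        exact (Ideal.Quotient.factor_comp_apply _ _ _).symm
    have hf : ∀ {m n : ℕ} (hle : m ≤ n), (Ideal.Quotient.factorPow I hle).comp (f n) = f m := by
      intro m n hle
      ext b
      simp only [f, RingHom.comp_apply]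
      rw [← hstep m n hle (Nat.succ_le_succ hle) b]
      exact (Ideal.Quotient.factor_comp_apply _ _ _).trans (Ideal.Quotient.factor_comp_apply _ _ _).symm
    let φ : B →+* A := (AdicCompletion.ofAlgEquiv I).symm.toRingEquiv.toRingHom.comp
      (AdicCompletion.liftRingHom I f hf)
    have hφ : ∀ n b, Ideal.Quotient.mk (I ^ (n + 1)) (φ b) = g n (Ideal.Quotient.mk _ b) := by
      intro n b
      refine (AdicCompletion.mk_ofAlgEquiv_symm I (n + 1) _).trans ?_
      rw [AdicCompletion.evalₐ_liftRingHom]
      exact hcompat n b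
    have hK : K ≤ I.comap φ := by
      intro b hb
      have h0 : Ideal.Quotient.mk (I ^ (0 + 1)) (φ b) = 0 := by
        rw [hφ 0 b, Ideal.Quotient.eq_zero_iff_mem.2 (by rwa [zero_add, pow_one]), map_zero]
      rw [Ideal.Quotient.eq_zero_iff_mem, zero_add, pow_one] at h0
      exact h0
    refine ⟨⟨φ, hK⟩, FSch.Hom.ext (funext fun n => ?_)⟩
    rw [← hg n]
    exact congrArg (fun r => Spec.map (CommRingCat.ofHom r))
      (Ideal.Quotient.ringHom_ext (RingHom.ext fun b => hφ n b))

end Groth.Agent.S3860
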