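import Groth.Statements.S3863
import Groth.Agent.Formal2Lib.ComplModFF
import Groth.Agent.Props12.TildeFin

set_option autoImplicit false
set_option backward.isDefEq.respectTransparency false
universe u
open FCompl

namespace Groth.Agent.S3863

open CategoryTheory AlgebraicGeometry in
theorem general {A : CommRingCat.{u}} [IsNoetherianRing A] (J : Ideal A) [IsAdicComplete J A]
    (I : (Spec A).IdealSheafData) (hI : I = FSch.idealSpec A J) (M N : ModuleCat.{u} A) [Module.Finite A M] [Module.Finite A N] :
    Function.Bijective (fun u : M ⟶ N => FSch.complModMap I ((tilde.functor A).map u)) := by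
  letI : (Spec A).Over (Spec (CommRingCat.of A)) := ⟨𝟙 _⟩
  have : IsProper ((Spec A) ↘ Spec (CommRingCat.of A)) := inferInstanceAs (IsProper (𝟙 (Spec A)))
  have hI' : I = (FSch.idealSpec A J).comap ((Spec A) ↘ Spec (CommRingCat.of A)) :=
    hI.trans (Scheme.IdealSheafData.comap_id _).symm
  have hc : ∀ (P : ModuleCat.{u} A), Module.Finite A P → Coh.IsCoh (tilde P) := fun P hP =>
    ⟨Groth.Agent.Props12.isQCoh_tilde P, (Groth.Agent.Props12.isFT_tilde_iff P).2 hP⟩
  exact (Groth.Agent.Formal2Lib.ModSysAlgz.bijective_complModMap J I hI' (hc M inferInstance) (hc N inferInstance)).comp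
    ((tilde.fullyFaithfulFunctor (R := A)).map_bijective M N)

open AlgebraicGeometry in
open CategoryTheory in
/-- The formal spectrum of A is presented as the system of closed subschemes of Spec A cut out by the
powers of J, and for an A-module M the system of modules M^Δ is the family of pullbacks of the sheaf
M̃ associated to M to these subschemes, with its canonical transition isomorphisms. Let A be a
Noetherian ring, complete and separated for the J-adic topology, and M, N finite A-modules. Then u ↦
u^Δ is a bijection from Hom_A(M, N) onto the set of morphisms of systems of modules M^Δ → N^Δ. -/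
theorem result (A : Type u) [CommRing A] [IsNoetherianRing A]
    (J : Ideal A) [IsAdicComplete J A] (M N : ModuleCat.{u} A) [Module.Finite A M] [Module.Finite A N] :
    Function.Bijective (fun u : M ⟶ N ↦
      FSch.complModMap (FSch.idealSpec A J) ((tilde.functor (CommRingCat.of A)).map u)) := by
  exact general (A := CommRingCat.of A) J _ rfl M N

end Groth.Agent.S3863
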