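import Groth.Statements.S3865
import Groth.Agent.FSchLib.Systems
open CategoryTheory CategoryTheory.Limits AlgebraicGeometry

set_option autoImplicit false
universe u
open FCompl

namespace Groth.Agent.S3865

open AlgebraicGeometry in
/-- A formal scheme is presented as a system of thickenings (X_n)_n, and a coherent ideal of it as a
family of ideal sheaves A_n on the levels X_n, each A_n equal to the inverse image ideal of A_(n+1)
under X_n → X_(n+1). Let (X_n) be a locally Noetherian adic formal system and (A_n) such a family.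
Then the closed subschemes Y_n cut out by the A_n, with the induced transition maps, form a locally
Noetherian adic formal system, and its inclusion into (X_n) is adic: every square Y_n → Y_(n+1), X_n
→ X_(n+1) is cartesian. -/
theorem result (𝔛 : FSch.Sys.{u}) (h𝔛 : 𝔛.IsLocNoethFormal)
    (𝒜 : ∀ n, (𝔛.X n).IdealSheafData) (h : ∀ n, (𝒜 (n + 1)).comap (𝔛.ι n) = 𝒜 n) :
    (FSch.subSys 𝔛 𝒜 (fun n ↦ (h n).le)).IsLocNoethFormal ∧
      FSch.IsAdicHom (FSch.subSysι 𝔛 𝒜 (fun n ↦ (h n).le)) := by
  let incl := (FSch.subSysι 𝔛 𝒜 (fun n ↦ (h n).le) : FSch.Hom _ _)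
  have hi : ∀ m, IsClosedImmersion (incl.app m) := fun m =>
    inferInstanceAs (IsClosedImmersion (𝒜 m).subschemeι)
  have hsq : FSch.IsAdicHom (FSch.subSysι 𝔛 𝒜 (fun n ↦ (h n).le)) := fun n => by
    have := (h𝔛.1 n).1
    have hc : IsClosedImmersion ((FSch.subSys 𝔛 𝒜 (fun n ↦ (h n).le)).ι n) := by
      have : IsClosedImmersion ((FSch.subSys 𝔛 𝒜 (fun n ↦ (h n).le)).ι n ≫ incl.app (n + 1)) := by
        rw [← incl.comm n]
        infer_instance
      exact IsClosedImmersion.of_comp_isClosedImmersion _ (incl.app (n + 1))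
    refine (isPullback_of_isClosedImmersion (incl.app n) (incl.app (n + 1)) _ (𝔛.ι n)
      (incl.comm n) ?_).flip
    have e : ∀ m, (incl.app m).ker = 𝒜 m := fun m => Scheme.IdealSheafData.ker_subschemeι _
    rw [e, e, h n]
  have := h𝔛.2.2 0
  have : IsLocallyNoetherian ((FSch.subSys 𝔛 𝒜 (fun n ↦ (h n).le)).X 0) :=
    LocallyOfFiniteType.isLocallyNoetherian (incl.app 0)
  exact ⟨Groth.Agent.FSchLib.isLocNoethFormal_of_isAdicHom h𝔛 hsq, hsq⟩

end Groth.Agent.S3865
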