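import Groth.Statements.S3867
import Groth.Agent.FSchLib.Systems
open CategoryTheory CategoryTheory.Limits AlgebraicGeometry

set_option autoImplicit false
universe u
open FCompl

namespace Groth.Agent.S3867

open AlgebraicGeometry in
/-- Formal spectra are presented as the systems Spec(A/I^(n+1)) and Spec(B/K^(n+1)), a morphism of
systems being adic when all its squares are cartesian. Let A be a Noetherian ring, complete and
separated for the I-adic topology of an ideal I, K an ideal of a ring B and φ : B → A a ring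
homomorphism with φ(K) ⊆ I. Then the induced morphism Spf(A) → Spf(B) is adic if and only if the
ideal of A generated by φ(K) is I. -/
theorem result (A B : Type u) [CommRing A] [CommRing B] [IsNoetherianRing A]
    (I : Ideal A) (K : Ideal B) [IsAdicComplete I A] (φ : B →+* A) (h : K ≤ I.comap φ) :
    FSch.IsAdicHom (FSch.spfMap I K φ h) ↔ K.map φ = I := by
  let q : ∀ n : ℕ, A ⧸ I ^ (n + 2) →+* A ⧸ I ^ (n + 1) := fun n =>
    Ideal.Quotient.factor (Ideal.pow_le_pow_right (Nat.le_succ (n + 1)))
  let qB : ∀ n : ℕ, B ⧸ K ^ (n + 2) →+* B ⧸ K ^ (n + 1) := fun n =>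
    Ideal.Quotient.factor (Ideal.pow_le_pow_right (Nat.le_succ (n + 1)))
  have hci : ∀ n, IsClosedImmersion ((FSch.spf A I).ι n) := fun n =>
    IsClosedImmersion.spec_of_surjective _ (Ideal.Quotient.factor_surjective
      (Ideal.pow_le_pow_right (Nat.le_succ (n + 1))))
  have hci' : ∀ n, IsClosedImmersion ((FSch.spf B K).ι n) := fun n =>
    IsClosedImmersion.spec_of_surjective _ (Ideal.Quotient.factor_surjective
      (Ideal.pow_le_pow_right (Nat.le_succ (n + 1))))
  have key : ∀ n, IsPullback ((FSch.spf A I).ι n) ((FSch.spfMap I K φ h : FSch.Hom _ _).app n)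
      ((FSch.spfMap I K φ h : FSch.Hom _ _).app (n + 1)) ((FSch.spf B K).ι n) ↔
      (K.map φ) ^ (n + 1) ⊔ I ^ (n + 2) = I ^ (n + 1) := by
    intro n
    have hA : RingHom.ker (q n) = (I ^ (n + 1)).map (Ideal.Quotient.mk (I ^ (n + 2))) :=
      Ideal.Quotient.factor_ker _
    have hB : RingHom.ker (qB n) = (K ^ (n + 1)).map (Ideal.Quotient.mk (K ^ (n + 2))) :=
      Ideal.Quotient.factor_ker _
    have h1 : ((FSch.spf B K).ι n).ker.comap ((FSch.spfMap I K φ h : FSch.Hom _ _).app (n + 1)) =
        FSch.idealSpec _ (((K.map φ) ^ (n + 1)).map (Ideal.Quotient.mk (I ^ (n + 2)))) := by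
      rw [show ((FSch.spf B K).ι n).ker = _ from Groth.Agent.FSchLib.ker_specMap (qB n), hB]
      refine (Groth.Agent.FSchLib.idealSpec_comap _ _ (FSch.quotPowMap I K φ h (n + 1)) _).trans ?_
      rw [← Ideal.map_pow, Ideal.map_map, Ideal.map_map]
      rfl
    have h2 : ((FSch.spf A I).ι n).ker =
        FSch.idealSpec _ ((I ^ (n + 1)).map (Ideal.Quotient.mk (I ^ (n + 2)))) :=
      (Groth.Agent.FSchLib.ker_specMap (q n)).trans (congrArg _ hA)
    have h3 : ((FSch.spf B K).ι n).ker.comap ((FSch.spfMap I K φ h : FSch.Hom _ _).app (n + 1)) =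
        ((FSch.spf A I).ι n).ker ↔ (K.map φ) ^ (n + 1) ⊔ I ^ (n + 2) = I ^ (n + 1) := by
      rw [h1, h2]
      refine (Groth.Agent.FSchLib.idealSpec_injective _).eq_iff.trans ?_
      rw [← (Ideal.comap_injective_of_surjective _ Ideal.Quotient.mk_surjective).eq_iff,
        Ideal.comap_map_of_surjective' _ Ideal.Quotient.mk_surjective, Ideal.mk_ker,
        Ideal.comap_map_of_surjective' _ Ideal.Quotient.mk_surjective, Ideal.mk_ker,
        sup_eq_left.2 (Ideal.pow_le_pow_right (I := I) (Nat.le_succ (n + 1)))]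
    have := hci n
    have := hci' n
    refine ⟨fun hp => h3.1 (Groth.Agent.FSchLib.ker_of_isPullback hp).symm, fun hp => ?_⟩
    exact isPullback_of_isClosedImmersion _ _ _ _
      ((FSch.spfMap I K φ h : FSch.Hom _ _).comm n).symm (h3.2 hp)
  refine ⟨fun had => ?_, fun he n => (key n).2 ?_⟩
  · have h0 := (key 0).1 (had 0)
    rw [zero_add, pow_one, pow_one, zero_add] at h0
    exact (Groth.Agent.AdicRing.fg_of_le_sup_sq I (K.map φ) (IsNoetherian.noetherian _)
      (Ideal.map_le_iff_le_comap.2 h) h0.ge).symm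
  · rw [he]
    exact sup_eq_left.2 (Ideal.pow_le_pow_right (Nat.le_succ (n + 1)))

end Groth.Agent.S3867
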