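import Groth.Statements.S3868
import Groth.Agent.FModLib.Rings
import Groth.Agent.FSchLib.Systems
-- import your own Groth.Agent.* helpers here

set_option autoImplicit false
universe u
open FCompl

namespace Groth.Agent.S3868

open AlgebraicGeometry CategoryTheory Groth.Agent.FModLib Groth.Agent.FBlowLib in
/-- An affine adic system is the formal spectrum of its ring of functions. -/
theorem exists_iso_spf (𝔛 : FSch.Sys.{u}) (hX : 𝔛.IsLocNoethFormal) [IsAffine (𝔛.X 0)] :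
    ∃ (A : Type u) (_ : CommRing A) (J : Ideal A),
      IsNoetherianRing A ∧ IsAdicComplete J A ∧ Nonempty (𝔛 ≅ FSch.spf A J) := by
  have h := hX.1
  have hT : IsAffineOpen (⊤ : (𝔛.X 0).Opens) := isAffineOpen_top _
  let A := FBlowLib.Sec 𝔛 h ⊤
  let J : Ideal A := jdl h ⊤
  obtain ⟨hc, hs⟩ := sec_props h hX hT
  have hlv : ∀ n, 𝔛.lvU h n ⊤ = ⊤ := fun n => rfl
  have haff : ∀ n, IsAffine (𝔛.X n) := fun n => by
    have := S13347.isAffineOpen_lvU 𝔛 h n ⊤ hT
    rw [hlv] at this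
    haveI : IsAffine _ := this
    exact IsAffine.of_isIso (𝔛.X n).topIso.inv
  have h0 : ∀ n, (𝔛.ι n).appTop = (𝔛.ι n).appLE ⊤ ⊤ le_rfl := fun n => (Scheme.Hom.appLE_eq_app (U := ⊤) (𝔛.ι n)).symm
  let φ : ∀ n, A →+* Γ(𝔛.X n, ⊤) := fun n => proj 𝔛 h n ⊤
  have hφk : ∀ n, RingHom.ker (φ n) = J ^ (n + 1) := fun n => (hs n).2
  have hφs : ∀ n, Function.Surjective (φ n) := fun n => (hs n).1
  have hφ : ∀ n a, (𝔛.ι n).appTop (φ (n + 1) a) = φ n a := fun n a => by
    rw [h0]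
    exact proj_succ 𝔛 h n ⊤ a
  let q : ∀ n, A ⧸ J ^ (n + 1) →+* Γ(𝔛.X n, ⊤) := fun n =>
    Ideal.Quotient.lift (J ^ (n + 1)) (φ n) fun a ha => (hφk n).ge ha
  have hq : ∀ n, Function.Bijective (q n) := fun n =>
    ⟨RingHom.lift_injective_of_ker_le_ideal _ _ (hφk n).le,
      Ideal.Quotient.lift_surjective_of_surjective _ _ (hφs n)⟩
  let g : ∀ n, 𝔛.X n ⟶ (FSch.spf A J).X n := fun n => (𝔛.X n).toSpecΓ ≫ Spec.map (CommRingCat.ofHom (q n))
  haveI : ∀ n, IsIso (g n) := fun n => by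
    haveI := haff n
    haveI : IsIso (CommRingCat.ofHom (q n)) := (ConcreteCategory.isIso_iff_bijective _).2 (hq n)
    exact inferInstanceAs (IsIso ((𝔛.X n).toSpecΓ ≫ Spec.map (CommRingCat.ofHom (q n))))
  have hg : ∀ n, g n ≫ (FSch.spf A J).ι n = 𝔛.ι n ≫ g (n + 1) := fun n => by
    show ((𝔛.X n).toSpecΓ ≫ Spec.map _) ≫ CohB1.specQuotTrans J n = 𝔛.ι n ≫ (𝔛.X (n + 1)).toSpecΓ ≫ Spec.map _
    rw [← Category.assoc (𝔛.ι n), Scheme.toSpecΓ_naturality, CohB1.specQuotTrans, Category.assoc, Category.assoc, ← Spec.map_comp, ← Spec.map_comp]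
    refine congrArg (fun z => (𝔛.X n).toSpecΓ ≫ Spec.map z) ?_
    refine CommRingCat.hom_ext (Ideal.Quotient.ringHom_ext (RingHom.ext fun a => ?_))
    exact (hφ n a).symm
  exact ⟨A, inferInstance, J, isNoetherianRing_sec h hX hT, hc,
    ⟨{ hom := ⟨g, hg⟩
       inv := ⟨fun n => inv (g n), fun n => by rw [IsIso.inv_comp_eq, ← Category.assoc, hg n, Category.assoc,
         IsIso.hom_inv_id, Category.comp_id]⟩
       hom_inv_id := FSch.Hom.ext (funext fun n => IsIso.hom_inv_id (g n))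
       inv_hom_id := FSch.Hom.ext (funext fun n => IsIso.inv_hom_id (g n)) }⟩⟩

open AlgebraicGeometry in
open CategoryTheory in
/-- (Systems of thickenings.) Let (X_n) be a system of schemes whose transition maps are surjective
closed immersions, with the kernel ideal of X_n -> X_(n+1) the (n+1)-st power of that of X_0 ->
X_(n+1), X_0 affine and locally Noetherian, and the kernel ideal of X_0 -> X_1 of finite type. Then
the system is isomorphic to the formal spectrum Spec(A/J) -> Spec(A/J^2) -> ... of some Noetherian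
ring A complete and separated for the J-adic topology, J an ideal of A. -/
theorem result (𝔛 : FSch.Sys.{u}) (hF : 𝔛.IsFormal) (hA : 𝔛.IsAdic)
    [IsAffine (𝔛.X 0)] [IsLocallyNoetherian (𝔛.X 0)] (hft : FSch.IdealFT (𝔛.ι 0).ker) :
    ∃ (A : Type u) (_ : CommRing A) (J : Ideal A),
      IsNoetherianRing A ∧ IsAdicComplete J A ∧ Nonempty (𝔛 ≅ FSch.spf A J) := by
  exact exists_iso_spf 𝔛 ⟨hF, hA, Groth.Agent.FSchLib.isLocallyNoetherian_of_adic hF hA fun x => by
    obtain ⟨U, hU, hxU, -⟩ := exists_isAffineOpen_mem_and_subset (x := x) (U := (⊤ : (𝔛.X 2).Opens)) trivial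
    exact ⟨⟨U, hU⟩, hxU, fun h => hft ⟨_, h⟩⟩⟩

end Groth.Agent.S3868
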