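import Groth.Statements.S3874
import Groth.Agent.FSchLib.Completion

set_option autoImplicit false
universe u
open FCompl

namespace Groth.Agent.S3874

/-- Let A be a Noetherian ring, J an ideal, f ∈ A and n ≥ 0, and let A_{f} be the completion of the
localization A_f for the topology defined by the extension of J. There is a ring isomorphism from
the localization of A/J^(n+1) away from the class of f onto A_{f} modulo the (n+1)-st power of the
extension of J to A_{f}, compatible with the canonical maps from A (and hence unique). In terms of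
formal spectra: the open D(f) of Spf(A) is Spf(A_{f}), and at level n its ring is the ring
(A/J^(n+1))_f of the open D(f) of Spec(A/J^(n+1)). -/
theorem result (A : Type u) [CommRing A] [IsNoetherianRing A] (J : Ideal A)
    (f : A) (n : ℕ) :
    ∃ e : Localization.Away (Ideal.Quotient.mk (J ^ (n + 1)) f) ≃+*
        FSch.cAway A J f ⧸ (J.map (algebraMap A (FSch.cAway A J f))) ^ (n + 1),
      ∀ a : A, e (algebraMap (A ⧸ J ^ (n + 1)) _ (Ideal.Quotient.mk (J ^ (n + 1)) a)) =
        Ideal.Quotient.mk _ (algebraMap A (FSch.cAway A J f) a) := by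
  set K := J.map (algebraMap A (Localization.Away f)) with hK
  have hKfg : K.FG := IsNoetherian.noetherian K
  letI : Algebra (A ⧸ J ^ (n + 1)) (Localization.Away f ⧸ (J ^ (n + 1)).map
      (algebraMap A (Localization.Away f))) := inferInstance
  haveI : IsLocalization.Away (Ideal.Quotient.mk (J ^ (n + 1)) f)
      (Localization.Away f ⧸ (J ^ (n + 1)).map (algebraMap A (Localization.Away f))) := by
    have h := (inferInstance : IsLocalization
      (Algebra.algebraMapSubmonoid (A ⧸ J ^ (n + 1)) (Submonoid.powers f))
      (Localization.Away f ⧸ (J ^ (n + 1)).map (algebraMap A (Localization.Away f))))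
    rwa [Algebra.algebraMapSubmonoid, Submonoid.map_powers] at h
  let e1 := IsLocalization.algEquiv (Submonoid.powers (Ideal.Quotient.mk (J ^ (n + 1)) f))
    (Localization.Away (Ideal.Quotient.mk (J ^ (n + 1)) f))
    (Localization.Away f ⧸ (J ^ (n + 1)).map (algebraMap A (Localization.Away f)))
  let e2 := Ideal.quotEquivOfEq (show (J ^ (n + 1)).map (algebraMap A (Localization.Away f)) = K ^ (n + 1)
    by rw [hK, Ideal.map_pow])
  let π : FSch.cAway A J f →+* Localization.Away f ⧸ K ^ (n + 1) :=
    (AdicCompletion.evalₐ K (n + 1)).toRingHom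
  have hπ : Function.Surjective π := AdicCompletion.surjective_evalₐ K (n + 1)
  have hker : RingHom.ker π = (J.map (algebraMap A (FSch.cAway A J f))) ^ (n + 1) := by
    refine (Groth.Agent.FSchLib.ker_evalₐ K hKfg (n + 1)).trans (congrArg (· ^ (n + 1)) ?_)
    exact Ideal.map_map _ _
  let e3 := (RingHom.quotientKerEquivOfSurjective hπ).symm.trans (Ideal.quotEquivOfEq hker)
  refine ⟨(e1.toRingEquiv.trans e2).trans e3, fun a => ?_⟩
  have h3 : π (algebraMap A (FSch.cAway A J f) a) =
      Ideal.Quotient.mk _ (algebraMap A (Localization.Away f) a) := by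
    rw [← Groth.Agent.FSchLib.evalₐ_algebraMap K (n + 1)]
    rfl
  change e3 (e2 (e1.toRingEquiv _)) = _
  have h1 : e1.toRingEquiv (algebraMap (A ⧸ J ^ (n + 1)) _ (Ideal.Quotient.mk _ a)) =
      Ideal.Quotient.mk _ (algebraMap A (Localization.Away f) a) := e1.commutes _
  rw [h1]
  change Ideal.quotEquivOfEq hker ((RingHom.quotientKerEquivOfSurjective hπ).symm
    (Ideal.Quotient.mk _ (algebraMap A (Localization.Away f) a))) = _
  rw [← h3]
  exact congrArg (Ideal.quotEquivOfEq hker)
    ((RingEquiv.symm_apply_eq _).2 (RingHom.quotientKerEquivOfSurjective_apply_mk hπ _).symm)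

end Groth.Agent.S3874
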