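import Groth.Statements.S3875
import Groth.Agent.FSchLib.Systems
open CategoryTheory CategoryTheory.Limits AlgebraicGeometry

set_option autoImplicit false
universe u
open FCompl

namespace Groth.Agent.S3875

open AlgebraicGeometry in
open CategoryTheory in
open CategoryTheory.Limits in
/-- Let g : X → S and h : Y → S be morphisms of schemes, R an ideal sheaf on X and J an ideal sheaf on
S, and consider the completions of S along J, of X along R, of Y along the inverse image of J under
h, and of X x_S Y along the inverse image of R under the first projection (completions presented by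
the subschemes of the powers of these ideal sheaves); this is the case where the closed subset of Y
is the full preimage of that of S. The four compatibility hypotheses between the powers of the ideal
sheaves (for g, for h, and for the two projections of X x_S Y): for each n, the inverse image of the
(n+1)-st power of the target ideal sheaf is contained in the (n+1)-st power of the source ideal
sheaf. These are hypotheses, carried as data for the completed morphisms; the published statement
assumes the schemes locally Noetherian, which this identity does not need. Then the square of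
completed morphisms from the completion of X x_S Y along the preimage of the closed subset of X, to
the completions of X and of Y, over the completion of S, is cartesian in the category of systems. -/
theorem result {X Y S : Scheme.{u}} (g : X ⟶ S) (h : Y ⟶ S)
    (𝓡 : X.IdealSheafData) (𝓙 : S.IdealSheafData)
    (hg : FSch.PowCompat g 𝓡 𝓙) (hh : FSch.PowCompat h (𝓙.comap h) 𝓙)
    (hp : FSch.PowCompat (pullback.fst g h) (𝓡.comap (pullback.fst g h)) 𝓡)
    (hq : FSch.PowCompat (pullback.snd g h) (𝓡.comap (pullback.fst g h)) (𝓙.comap h)) :
    IsPullback (FSch.completionMap (pullback.fst g h) (𝓡.comap (pullback.fst g h)) 𝓡 hp)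
      (FSch.completionMap (pullback.snd g h) (𝓡.comap (pullback.fst g h)) (𝓙.comap h) hq)
      (FSch.completionMap g 𝓡 𝓙 hg) (FSch.completionMap h (𝓙.comap h) 𝓙 hh) := by
  have hI : ∀ {Z W : Scheme.{u}} (k : Z ⟶ W) (𝓚 : W.IdealSheafData)
      (hk : FSch.PowCompat k (𝓚.comap k) 𝓚) (n : ℕ),
      IsPullback ((FSch.completionMap k (𝓚.comap k) 𝓚 hk : FSch.Hom _ _).app n)
        (FSch.completionToX Z (𝓚.comap k) n) (FSch.completionToX W 𝓚 n) k := by
    intro Z W k 𝓚 hk n
    refine (isPullback_of_isClosedImmersion ((𝓚.comap k) ^ (n + 1)).subschemeι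
      (𝓚 ^ (n + 1)).subschemeι ((FSch.completionMap k (𝓚.comap k) 𝓚 hk : FSch.Hom _ _).app n) k
      (Scheme.IdealSheafData.subschemeMap_subschemeι _ _ _
        (Scheme.IdealSheafData.le_map_iff_comap_le.mpr (hk n))).symm ?_).flip
    rw [Scheme.IdealSheafData.ker_subschemeι, Scheme.IdealSheafData.ker_subschemeι,
      Groth.Agent.FSchLib.comap_pow]
  refine Groth.Agent.FSchLib.isPullback_sys_of_levelwise fun n => ?_
  have h1 := (hI (pullback.fst g h) 𝓡 hp n).paste_vert (IsPullback.of_hasPullback g h)
  have e1 : (FSch.completionMap (pullback.snd g h) (𝓡.comap (pullback.fst g h)) (𝓙.comap h) hq :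
      FSch.Hom _ _).app n ≫ FSch.completionToX Y (𝓙.comap h) n =
      FSch.completionToX _ (𝓡.comap (pullback.fst g h)) n ≫ pullback.snd g h :=
    Scheme.IdealSheafData.subschemeMap_subschemeι _ _ _
      (Scheme.IdealSheafData.le_map_iff_comap_le.mpr (hq n))
  have e2 : (FSch.completionMap g 𝓡 𝓙 hg : FSch.Hom _ _).app n ≫ FSch.completionToX S 𝓙 n =
      FSch.completionToX X 𝓡 n ≫ g :=
    Scheme.IdealSheafData.subschemeMap_subschemeι _ _ _
      (Scheme.IdealSheafData.le_map_iff_comap_le.mpr (hg n))
  rw [← e1, ← e2] at h1
  refine IsPullback.of_bot h1 ?_ (hI h 𝓙 hh n)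
  have : Mono (FSch.completionToX S 𝓙 n) := inferInstanceAs (Mono (𝓙 ^ (n + 1)).subschemeι)
  rw [← cancel_mono (FSch.completionToX S 𝓙 n)]
  exact (Category.assoc _ _ _).trans (h1.w.trans (by
    rw [Category.assoc, Category.assoc]
    exact congrArg (_ ≫ ·) (hI h 𝓙 hh n).w.symm))

end Groth.Agent.S3875
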