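import Groth.Prelude.Def_Hyper
import Groth.Prelude.Def_Hyper2
import Mathlib.AlgebraicTopology.SimplicialObject.Homotopy
import Groth.Agent.HTop16.HyperCofilt

set_option autoImplicit false
universe u
namespace CategoryTheory
end CategoryTheory
open CategoryTheory
namespace Hyper
end Hyper
open Hyper

namespace Groth.Agent.S3880

open Opposite CategoryTheory.Limits in
/-- For hypercoverings of an object X of a small site with fibre products (coskeleta assumed to exist):
(a) any two hypercoverings K, L of X receive morphisms from a common hypercovering M; (b) for any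
two morphisms a, b : K -> L of hypercoverings there is a morphism of hypercoverings c : M -> K such
that c followed by a and c followed by b are homotopic (simplicial homotopy in the combinatorial
sense, equivalent to a morphism from the product of M with the simplicial interval). In other words
the opposite of the category of hypercoverings up to homotopy is filtered. -/
theorem result {C : Type u} [SmallCategory C] [HasPullbacks C]
    (J : GrothendieckTopology C) (X : C)
    [∀ (n : ℕ) (F : (SimplexCategory.Truncated n)ᵒᵖ ⥤ Limits.FormalCoproduct.{u} (Over X)),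
      (SimplexCategory.Truncated.inclusion n).op.HasRightKanExtension F]
    (K L : SimplicialObject (FormalCoproduct.{u} (Over X)))
    (hK : Hyper.IsHypercovering J X K) (hL : Hyper.IsHypercovering J X L) :
    (∃ (M : SimplicialObject (FormalCoproduct.{u} (Over X))) (_ : M ⟶ K) (_ : M ⟶ L),
      Hyper.IsHypercovering J X M) ∧
    ∀ (a b : K ⟶ L), ∃ (M : SimplicialObject (FormalCoproduct.{u} (Over X))) (c : M ⟶ K),
      Hyper.IsHypercovering J X M ∧ Nonempty (SimplicialObject.Homotopy (c ≫ a) (c ≫ b)) := by
  haveI : HasBinaryProducts (FormalCoproduct.{u} (Over X)) := hasBinaryProducts_of_hasTerminal_and_pullbacks _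
  haveI : HasFiniteLimits (FormalCoproduct.{u} (Over X)) := hasFiniteLimits_of_hasTerminal_and_pullbacks
  have hK' := Groth.Agent.SiteCoh.Hyp.locFill_of_isHypercovering hK
  have hL' := Groth.Agent.SiteCoh.Hyp.locFill_of_isHypercovering hL
  refine ⟨⟨_, Groth.Agent.HTop16.HyperCofilt.prodFst, Groth.Agent.HTop16.HyperCofilt.prodSnd,
    Groth.Agent.HTop16.HyperFill.isHypercovering_of_locFill _ (Groth.Agent.HTop16.HyperCofilt.locFill_prod hK' hL')⟩, fun a b => ?_⟩
  exact ⟨_, Groth.Agent.HTop16.HyperCofilt.hFst ![a, b],
    Groth.Agent.HTop16.HyperFill.isHypercovering_of_locFill _ (Groth.Agent.HTop16.HyperCofilt.locFill_hEq ![a, b] hK' hL'),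
    ⟨Groth.Agent.HTop16.HyperCofilt.homotopy ![a, b]⟩⟩

end Groth.Agent.S3880
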