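import Groth.Prelude.Def_Hyper
import Groth.Prelude.Def_Hyper2
import Mathlib.CategoryTheory.Sites.Sheafification
import Groth.Agent.HTop16.HyperRefine
import Groth.Prelude.Def_Hyper2

set_option autoImplicit false
universe u
namespace CategoryTheory
end CategoryTheory
open CategoryTheory
namespace Hyper
end Hyper
open Hyper

namespace Groth.Agent.S3882

open Opposite CategoryTheory.Limits in
/-- The statement its proof reduces the result to (hypercoverings of an object X of a small site with
fibre products; coskeleta assumed to exist): let N be a presheaf of abelian groups whose associated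
sheaf is zero, K a hypercovering of X and ξ a class in the p-th Cech cohomology group of N with
respect to K. Then there is a morphism of hypercoverings f : L -> K such that ξ maps to zero in the
p-th Cech cohomology group of N with respect to L. (So Cech cohomology over all hypercoverings up to
homotopy kills such presheaves in every degree.) -/
theorem result {C : Type u} [SmallCategory C] [HasPullbacks C]
    (J : GrothendieckTopology C) (X : C)
    [∀ (n : ℕ) (F : (SimplexCategory.Truncated n)ᵒᵖ ⥤ Limits.FormalCoproduct.{u} (Over X)),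
      (SimplexCategory.Truncated.inclusion n).op.HasRightKanExtension F]
    (K : SimplicialObject (FormalCoproduct.{u} (Over X))) (hK : Hyper.IsHypercovering J X K)
    (N : Cᵒᵖ ⥤ AddCommGrpCat.{u}) (hN : IsZero ((presheafToSheaf J AddCommGrpCat.{u}).obj N))
    (p : ℕ) (ξ : Hyper.cechH X K N p) :
    ∃ (L : SimplicialObject (FormalCoproduct.{u} (Over X))) (f : L ⟶ K),
      Hyper.IsHypercovering J X L ∧ Hyper.cechHMap X f N p ξ = 0 := by
  classical
  haveI : HasPullbacks (Over X) := inferInstance
  haveI : HasBinaryProducts (FormalCoproduct.{u} (Over X)) := hasBinaryProducts_of_hasTerminal_and_pullbacks _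
  haveI : HasFiniteProducts (FormalCoproduct.{u} (Over X)) := hasFiniteProducts_of_has_binary_and_terminal
  obtain ⟨z, rfl⟩ := (AddCommGrpCat.epi_iff_surjective _).1
    (inferInstance : Epi ((Hyper.cechCx X K N).homologyπ p)) ξ
  let Kp := K.obj (op (SimplexCategory.mk p))
  let x : ∀ i : Kp.I, N.obj (op (Kp.obj i).left) := fun i =>
    (Pi.π (fun i : Kp.I => N.obj (op (Kp.obj i).left)) i).hom (((Hyper.cechCx X K N).iCycles p).hom z)
  have hloc : ∀ (i : Kp.I), ∃ S ∈ J (Kp.obj i).left, ∀ ⦃W : C⦄ (a : W ⟶ (Kp.obj i).left), S a → N.map a.op (x i) = 0 := fun i => by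
    have hinj : Presheaf.IsLocallyInjective J (CategoryTheory.toSheafify J N) := inferInstance
    have hsub : Subsingleton (((presheafToSheaf J AddCommGrpCat.{u}).obj N).obj.obj (op (Kp.obj i).left)) :=
      AddCommGrpCat.subsingleton_of_isZero
        (Functor.map_isZero (sheafToPresheaf J AddCommGrpCat.{u} ⋙ (evaluation _ _).obj _) hN)
    refine ⟨_, Presheaf.equalizerSieve_mem J (CategoryTheory.toSheafify J N) (x i) 0 (@Subsingleton.elim _ hsub _ _), fun W a ha => ?_⟩
    exact ha.trans (map_zero _)
  let Z : FormalCoproduct.{u} (Over X) :=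
    ⟨{w : Σ i : Kp.I, Σ W : C, (W ⟶ (Kp.obj i).left) // N.map w.2.2.op (x w.1) = 0},
      fun w => Over.mk (w.1.2.2 ≫ (Kp.obj w.1.1).hom)⟩
  let u : Z ⟶ Kp := { f := fun w => w.1.1, φ := fun w => Over.homMk w.1.2.2 }
  have hu : Hyper.IsSRCovering (J.over X) u := fun i => by
    obtain ⟨S, hS, hS'⟩ := hloc i
    refine (J.over X).superset_covering ?_ (J.overEquiv_symm_mem_over _ S hS)
    intro W g hg
    let w : {w : Z.I // u.f w = i} := ⟨⟨⟨i, W.left, g.left⟩, hS' g.left ((Sieve.overEquiv_symm_iff S g).1 hg)⟩, rfl⟩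
    refine ⟨Z.obj w.1, Over.homMk (𝟙 W.left) ((Category.id_comp (g.left ≫ (Kp.obj i).hom)).trans (Over.w g)), _, Presieve.ofArrows.mk w, ?_⟩
    apply Over.OverMorphism.ext
    simp [u, w]
  obtain ⟨L, f, g, hL, hg⟩ :=
    Groth.Agent.HTop16.HyperRefine.exists_refine (Groth.Agent.SiteCoh.Hyp.locFill_of_isHypercovering hK) p Z u hu
  refine ⟨L, f, Groth.Agent.HTop16.HyperFill.isHypercovering_of_locFill L hL, ?_⟩
  let v : L.obj (op (SimplexCategory.mk p)) ⟶ Kp := f.app (op (SimplexCategory.mk p))
  have hker : ∀ l, N.map (v.φ l).left.op (x (v.f l)) = 0 := fun l => by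
    obtain ⟨h₁, h₂⟩ := (FormalCoproduct.hom_ext_iff' _ _).1 hg l
    generalize hvf : v.φ l = vφ
    have key : ∀ (j : Kp.I) (hj : u.f (g.f l) = j) (b : (L.obj (op (SimplexCategory.mk p))).obj l ⟶ Kp.obj j),
        (g.φ l ≫ u.φ (g.f l)) ≫ eqToHom (congrArg Kp.obj hj) = b → N.map b.left.op (x j) = 0 := by
      rintro j rfl b rfl
      simp only [eqToHom_refl, Category.comp_id, Over.comp_left, op_comp, Functor.map_comp,
        ConcreteCategory.comp_apply]
      exact (congrArg (N.map (g.φ l).left.op) (g.f l).2).trans (map_zero _)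
    subst hvf
    exact key _ h₁ _ h₂
  have hzero : ((Hyper.cechMap X f N).f p).hom (((Hyper.cechCx X K N).iCycles p).hom z) = 0 := by
    refine Concrete.limit_ext _ _ _ fun l => ?_
    obtain ⟨l⟩ := l
    refine Eq.trans ?_ (map_zero _).symm
    refine Eq.trans (ConcreteCategory.congr_hom (Pi.lift_π (fun l => Pi.π (fun i : Kp.I => N.obj (op (Kp.obj i).left)) (v.f l) ≫ N.map (v.φ l).left.op) l) _) ?_
    exact hker l
  have hc : (HomologicalComplex.cyclesMap (Hyper.cechMap X f N) p).hom z = 0 := by
    apply (AddCommGrpCat.mono_iff_injective ((Hyper.cechCx X L N).iCycles p)).1 inferInstance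
    rw [map_zero, ← ConcreteCategory.comp_apply, HomologicalComplex.cyclesMap_i, ConcreteCategory.comp_apply]
    exact hzero
  refine (ConcreteCategory.congr_hom (HomologicalComplex.homologyπ_naturality (Hyper.cechMap X f N) p) z).trans ?_
  exact (congrArg ((Hyper.cechCx X L N).homologyπ p).hom hc).trans (map_zero _)

end Groth.Agent.S3882
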