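import Groth.Statements.S3894
import Mathlib.CategoryTheory.Sites.Limits

set_option autoImplicit false
universe u
open CategoryTheory CategoryTheory.Limits Opposite
open Tors

namespace Groth.Agent.S3894

/-- A torsor P under an abelian sheaf G is trivial, i.e. equivariantly isomorphic to G acting on itself
by translations, if and only if P has a global section (a morphism from the final sheaf of sets). -/
theorem result {C : Type u} [SmallCategory C] {J : GrothendieckTopology C}
    {G : Sheaf J AddCommGrpCat.{u}} (T : Tors.Torsor G) : T.IsTrivial ↔ T.HasSection := by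
  classical
  let one : Sheaf J (Type u) :=
    ⟨(Functor.const Cᵒᵖ).obj PUnit.{u + 1}, by
      rw [isSheaf_iff_isSheaf_of_type]
      intro X S _ x _
      exact ⟨PUnit.unit, fun Y g hg => rfl, fun t _ => rfl⟩⟩
  constructor
  · rintro ⟨e, -⟩
    exact ⟨({ hom :=
      { app := fun U => ↾fun _ => (0 : G.obj.obj U)
        naturality := fun U V f => by
          ext a
          exact (map_zero (G.obj.map f).hom).symm } } :
        ⊤_ (Sheaf J (Type u)) ⟶ (sheafCompose J (forget AddCommGrpCat.{u})).obj G) ≫ e.hom⟩
  · rintro ⟨σ⟩
    let τ : one ⟶ T.P := Limits.terminal.from one ≫ σ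
    let p : ∀ U : Cᵒᵖ, T.P.obj.obj U := fun U => τ.hom.app U PUnit.unit
    have hp : ∀ {U V : Cᵒᵖ} (f : U ⟶ V), T.P.obj.map f (p U) = p V := fun {U V} f =>
      (ConcreteCategory.congr_hom (τ.hom.naturality f) PUnit.unit).symm
    have hbij : ∀ U : Cᵒᵖ, Function.Bijective (fun g : G.obj.obj U => T.vadd g (p U)) := fun U =>
      ⟨fun g h e => (T.free_transitive (p U) (T.vadd g (p U))).unique rfl e.symm,
        fun q => (T.free_transitive (p U) q).exists⟩
    let e : ((sheafCompose J (forget AddCommGrpCat.{u})).obj G).obj ≅ T.P.obj :=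
      NatIso.ofComponents (fun U => (Equiv.ofBijective _ (hbij U)).toIso) (fun {U V} f => by
        ext g
        show T.vadd (G.obj.map f g) (p V) = T.P.obj.map f (T.vadd g (p U))
        rw [T.map_vadd, hp f])
    refine ⟨(fullyFaithfulSheafToPresheaf J (Type u)).preimageIso e, fun U g h => ?_⟩
    exact T.add_vadd g h (p U)

end Groth.Agent.S3894
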