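import Groth.Statements.S3896
import Groth.Agent.Et18.Subterminal
-- import your own Groth.Agent.* helpers here

set_option autoImplicit false
open CategoryTheory CategoryTheory.Limits AlgebraicGeometry Opposite
universe u
open EtDesc

namespace Groth.Agent.S3896

/-- Let X be a scheme. Sending a Zariski open U of X to the etale sheaf of sets attached to the open
immersion U -> X gives an isomorphism of ordered sets from the opens of X onto the subobjects of the
final object of the etale topos of X: (a) each such sheaf is a subobject of the final sheaf; (b) U ≤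
V if and only if there is a morphism between the attached sheaves; (c) every subobject of the final
sheaf is isomorphic to the sheaf attached to some open. -/
theorem result (X : Scheme.{u}) :
    (∀ U : X.Opens, Mono (terminal.from (EtDesc.repSh (EtDesc.ofOpen U)))) ∧
    (∀ U V : X.Opens, U ≤ V ↔ Nonempty (EtDesc.repSh (EtDesc.ofOpen U) ⟶ EtDesc.repSh (EtDesc.ofOpen V))) ∧
    (∀ F : EtDesc.Sh X, Mono (terminal.from F) → ∃ U : X.Opens, Nonempty (F ≅ EtDesc.repSh (EtDesc.ofOpen U))) := by
  let S : X.Opens → EtDesc.Sh X := fun U =>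
    ⟨yoneda.obj (Scheme.Etale.mk U.ι) ⋙ uliftFunctor.{u + 1},
      (isSheaf_iff_isSheaf_of_type _ _).mpr (Groth.Agent.Et18.isSheaf_opens U)⟩
  let e : ∀ U, EtDesc.repSh (EtDesc.ofOpen U) ≅ S U := fun U =>
    asIso ((sheafificationAdjunction X.smallEtaleTopology (Type (u + 1))).counit.app (S U))
  refine ⟨fun U => ⟨fun {Z} a b _ => ?_⟩, fun U V => ⟨fun h => ?_, fun ⟨g⟩ => ?_⟩, fun F hF => ?_⟩
  · rw [← cancel_mono (e U).hom]
    refine Sheaf.hom_ext (NatTrans.ext (funext fun W => ?_))
    ext z
    exact ULift.ext _ _ (@Subsingleton.elim _ (Groth.Agent.Et18.subsingleton_hom_opens _ _) _ _)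
  · let k : ∀ W : X.Etale, (W ⟶ Scheme.Etale.mk U.ι) → (W ⟶ Scheme.Etale.mk V.ι) := fun W g =>
      ((Groth.Agent.Et18.nonempty_hom_opens_iff V W).mpr
        (((Groth.Agent.Et18.nonempty_hom_opens_iff U W).mp ⟨g⟩).trans h)).some
    let m : (S U).obj ⟶ (S V).obj :=
      { app := fun W => ↾fun g => ULift.up (k W.unop g.down)
        naturality := fun W W' a => by
          ext g
          exact ULift.ext _ _ (@Subsingleton.elim _ (Groth.Agent.Et18.subsingleton_hom_opens _ _) _ _) }
    exact ⟨(e U).hom ≫ ⟨m⟩ ≫ (e V).inv⟩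
  · exact Groth.Agent.Et18.le_of_hom
      (((e U).inv ≫ g ≫ (e V).hom).hom.app (op (Scheme.Etale.mk U.ι)) ⟨𝟙 _⟩).down
  · haveI : ∀ W, Subsingleton (F.obj.obj (op W)) := fun W => by
      haveI hm : Mono ((sheafToPresheaf _ _ ⋙ (evaluation _ _).obj (op W)).map (terminal.from F)) :=
        Functor.map_mono _ _
      have ht : IsTerminal ((sheafToPresheaf X.smallEtaleTopology (Type (u + 1)) ⋙
          (evaluation _ _).obj (op W)).obj (⊤_ _)) := IsTerminal.isTerminalObj _ _ terminalIsTerminal
      haveI := Types.isTerminalEquivUnique _ ht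
      exact ⟨fun a b => (mono_iff_injective _).mp hm (Subsingleton.elim _ _)⟩
    let O := Groth.Agent.Et18.sectionLocus F.obj
    let i : F ≅ S O := (fullyFaithfulSheafToPresheaf _ _).preimageIso
      (Groth.Agent.Et18.isoOfSubterminalULift.{u, u + 1} (F := F.obj)
        ((isSheaf_iff_isSheaf_of_type _ _).mp F.property))
    exact ⟨O, ⟨i ≪≫ (e O).symm⟩⟩

end Groth.Agent.S3896
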