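import Groth.Statements.S5363
import Groth.Agent.SGA3cLib.Transporter

set_option autoImplicit false
universe u
open CategoryTheory CategoryTheory.Limits MonoidalCategory CartesianMonoidalCategory MonObj GrpObj AlgebraicGeometry
open SGA3

namespace Groth.Agent.S5363

set_option backward.isDefEq.respectTransparency.types false

theorem exists_centralizer {k : Type u} [Field k] {G X : Over (Spec (CommRingCat.of k))} [GrpObj G] (u : X ⟶ G) :
    ∃ (C : Over (Spec (CommRingCat.of k))) (_ : GrpObj C) (c : C ⟶ G), IsMonHom c ∧ IsClosedImmersion c.left ∧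
      ∀ (T : Over (Spec (CommRingCat.of k))) (h : T ⟶ G), (∃ z : T ⟶ C, z ≫ c = h) ↔
        ∀ (T' : Over (Spec (CommRingCat.of k))) (t : T' ⟶ T) (x : T' ⟶ X), (t ≫ h) * (x ≫ u) = (x ≫ u) * (t ≫ h) := by
  haveI : IsSeparated G.hom := SGA3xLib.isSeparated_of_grpObj G
  obtain ⟨C, c, hc, hC⟩ := SGA3cLib.exists_transporter_eq (S5356.result.2.2.1 k X.left X.hom)
    (snd X G * (fst X G ≫ u)) ((fst X G ≫ u) * snd X G)
  haveI : Mono c := (Over.forget _).mono_of_mono_map (inferInstanceAs (Mono c.left))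
  have key : ∀ (T : Over (Spec (CommRingCat.of k))) (h : T ⟶ G), (∃ z : T ⟶ C, z ≫ c = h) ↔
      ∀ (T' : Over (Spec (CommRingCat.of k))) (t : T' ⟶ T) (x : T' ⟶ X), Commute (t ≫ h) (x ≫ u) :=
    fun T h => (hC T h).trans (forall₃_congr fun T' t x => by simp [MonObj.comp_mul, commute_iff_eq])
  obtain ⟨inst, hmon⟩ := SGA3cLib.exists_grpObj_of_subgroup c
    (fun T => (key T 1).2 fun T' t x => by rw [MonObj.comp_one]; exact Commute.one_left _)
    (fun T a b => (key T _).2 fun T' t x => by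
      rw [MonObj.comp_mul]
      exact ((key T _).1 ⟨a, rfl⟩ T' t x).mul_left ((key T _).1 ⟨b, rfl⟩ T' t x))
    (fun T a => (key T _).2 fun T' t x => by
      rw [GrpObj.comp_inv]
      exact ((key T _).1 ⟨a, rfl⟩ T' t x).inv_left)
  exact ⟨C, inst, c, hmon, hc, key⟩

/-- Let G be a group scheme over a field k and g a k-rational point of G. Then the smallest closed
subgroup scheme Γ of G through which g factors (the closed subgroup generated by g) is commutative. -/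
theorem result (k : Type u) [Field k] (G : Over (Spec (CommRingCat.of k))) [GrpObj G]
    (g : 𝟙_ (Over (Spec (CommRingCat.of k))) ⟶ G) (Γ : Over (Spec (CommRingCat.of k))) [GrpObj Γ] (i : Γ ⟶ G) [IsMonHom i] [IsClosedImmersion i.left]
    (hf : ∃ f' : 𝟙_ (Over (Spec (CommRingCat.of k))) ⟶ Γ, f' ≫ i = g)
    (hmin : ∀ (Γ' : Over (Spec (CommRingCat.of k))) (_ : GrpObj Γ') (i' : Γ' ⟶ G), IsMonHom i' → IsClosedImmersion i'.left →
        (∃ f'' : 𝟙_ (Over (Spec (CommRingCat.of k))) ⟶ Γ', f'' ≫ i' = g) → ∃ j : Γ ⟶ Γ', j ≫ i' = i) :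
    IsCommMonObj Γ := by
  obtain ⟨f', hf'⟩ := hf
  obtain ⟨C₁, _, c₁, hc₁, hc₁', hC₁⟩ := exists_centralizer g
  obtain ⟨z₁, hz₁⟩ := (hC₁ _ g).2 fun T' t x => by rw [toUnit_unique t x]
  obtain ⟨j₁, hj₁⟩ := hmin C₁ inferInstance c₁ hc₁ hc₁' ⟨z₁, hz₁⟩
  obtain ⟨C₂, _, c₂, hc₂, hc₂', hC₂⟩ := exists_centralizer i
  obtain ⟨z₂, hz₂⟩ := (hC₂ _ g).2 fun T' t x => by
    have h := (hC₁ _ (x ≫ i)).1 ⟨x ≫ j₁, by rw [Category.assoc, hj₁]⟩ T' (𝟙 _) t
    rw [Category.id_comp] at h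
    exact h.symm
  obtain ⟨j₂, hj₂⟩ := hmin C₂ inferInstance c₂ hc₂ hc₂' ⟨z₂, hz₂⟩
  haveI : Mono i := (Over.forget _).mono_of_mono_map (inferInstanceAs (Mono i.left))
  refine ⟨?_⟩
  rw [← cancel_mono i, Category.assoc, IsMonHom.mul_hom i]
  have h := (hC₂ _ (fst Γ Γ ≫ i)).1 ⟨fst Γ Γ ≫ j₂, by rw [Category.assoc, hj₂]⟩ (Γ ⊗ Γ) (𝟙 _) (snd Γ Γ)
  rw [Category.id_comp, Hom.mul_def, Hom.mul_def] at h
  rw [show (i ⊗ₘ i) = lift (fst Γ Γ ≫ i) (snd Γ Γ ≫ i) by simp [tensorHom_def]]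
  rw [comp_lift_assoc]
  simp only [braiding_hom_fst_assoc, braiding_hom_snd_assoc]
  exact h.symm

end Groth.Agent.S5363
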