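import Groth.Statements.S3962
import Groth.Agent.AGFQuot23.RelNormalizer

set_option autoImplicit false
open CategoryTheory MonoidalCategory CartesianMonoidalCategory MonObj GrpObj AlgebraicGeometry
universe u
open RedSub

namespace Groth.Agent.S3962

/-- Let G be a reductive S-group and B ⟶ G a Borel subgroup in the following sense: a sub-group-scheme
of type (R) whose geometric fibres are Borel subgroups (closedness is not assumed). Then B is closed
in G and B is its own normaliser: a point of G normalises B (after every base change) if and only if
it lies in B. -/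
theorem result {S : Scheme.{u}} {G B : Over S} [GrpObj G] [GrpObj B]
    (hG : Red.IsReductive G) (i : B ⟶ G) (hB : RedSub.IsBorelSub i) :
    IsClosedImmersion i.left ∧ Red.IsNormalizerOf i i := by
  haveI := hG.1
  haveI := hG.2.1
  haveI := hB.1.1.1
  haveI := hB.1.1.2
  haveI := hB.1.2.1
  haveI := hB.1.2.2.1
  exact Groth.Agent.AGFQuot23.isClosedImmersion_and_isNormalizerOf_self (fun s => (hG.2.2 s).2.2.1) i fun s =>
    ⟨(hB.2 s).1, (hB.2 s).2.1, (hB.2 s).2.2.1, Red.geomFibre s B, inferInstance, 𝟙 _, by
      rw [Category.id_comp]; exact hB.2 s⟩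

end Groth.Agent.S3962
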