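import Groth.Statements.S4024
import Mathlib
-- import your own Groth.Agent.* helpers here

set_option autoImplicit false
universe u
open CategoryTheory CategoryTheory.Limits AlgebraicGeometry
open LefPen

namespace Groth.Agent.S4024

open MvPolynomial

variable {k : Type u} [Field k] {r : ℕ}

/-- The derivative at `v` in the direction `w`. -/
noncomputable def D (v w : Fin (r + 1) → k) : MvPolynomial (Fin (r + 1)) k →ₗ[k] k :=
  ∑ i, w i • ((aeval v).toLinearMap ∘ₗ (pderiv i).toLinearMap)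

theorem D_apply (v w : Fin (r + 1) → k) (P : MvPolynomial (Fin (r + 1)) k) :
    D v w P = ∑ i, w i * aeval v (pderiv i P) := by simp [D]

theorem D_mul (v w : Fin (r + 1) → k) (P Q : MvPolynomial (Fin (r + 1)) k) :
    D v w (P * Q) = D v w P * aeval v Q + aeval v P * D v w Q := by
  simp only [D_apply, Derivation.leibniz, smul_eq_mul, map_add, map_mul, Finset.sum_mul, Finset.mul_sum,
    ← Finset.sum_add_distrib]
  exact Finset.sum_congr rfl fun i _ => by ring

/-- The linear form of a functional. -/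
noncomputable def lin (ψ : (Fin (r + 1) → k) →ₗ[k] k) : MvPolynomial (Fin (r + 1)) k :=
  ∑ i, C (ψ (Pi.single i 1)) * X i

theorem lin_mem (ψ : (Fin (r + 1) → k) →ₗ[k] k) : (lin ψ).IsHomogeneous 1 :=
  IsHomogeneous.sum _ _ _ fun i _ => isHomogeneous_C_mul_X _ i

theorem apply_eq_sum (ψ : (Fin (r + 1) → k) →ₗ[k] k) (v : Fin (r + 1) → k) :
    ψ v = ∑ i, v i * ψ (Pi.single i 1) := by
  conv_lhs => rw [← (Pi.basisFun k (Fin (r + 1))).sum_repr v]
  simp

theorem aeval_lin (ψ : (Fin (r + 1) → k) →ₗ[k] k) (v : Fin (r + 1) → k) : aeval v (lin ψ) = ψ v := by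
  rw [apply_eq_sum ψ v, lin, map_sum]
  exact Finset.sum_congr rfl fun i _ => by simp [mul_comm]

theorem D_lin (ψ : (Fin (r + 1) → k) →ₗ[k] k) (v w : Fin (r + 1) → k) : D v w (lin ψ) = ψ w := by
  classical
  rw [apply_eq_sum ψ w, D_apply]
  refine Finset.sum_congr rfl fun i _ => ?_
  simp [lin, Pi.single_apply]

theorem D_lin_pow (ψ : (Fin (r + 1) → k) →ₗ[k] k) (v w : Fin (r + 1) → k) :
    ∀ m : ℕ, D v w (lin ψ ^ (m + 1)) = (m + 1 : k) * ψ v ^ m * ψ w
  | 0 => by rw [pow_one, D_lin]; simp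
  | m + 1 => by
    rw [pow_succ, D_mul, D_lin_pow ψ v w m, D_lin, map_pow, aeval_lin]
    push_cast
    ring

theorem D_self {G : MvPolynomial (Fin (r + 1)) k} {d : ℕ} (hG : G.IsHomogeneous d) (v : Fin (r + 1) → k) :
    D v v G = (d : k) * aeval v G := by
  have h := congrArg (aeval v) hG.sum_X_mul_pderiv
  simp only [map_sum, map_mul, aeval_X, nsmul_eq_mul, map_natCast] at h
  rw [D_apply]
  exact h

theorem D_comm {G : MvPolynomial (Fin (r + 1)) k} (hG : G.IsHomogeneous 2) (v w : Fin (r + 1) → k) :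
    D v w G = D w v G := by
  have hmem : G ∈ homogeneousSubmodule (Fin (r + 1)) k 1 * homogeneousSubmodule (Fin (r + 1)) k 1 := by
    rw [← pow_two, homogeneousSubmodule_one_pow]; exact hG
  have h1 : ∀ P ∈ homogeneousSubmodule (Fin (r + 1)) k 1, ∀ a b : Fin (r + 1) → k, D a b P = aeval b P := by
    intro P hP
    rw [homogeneousSubmodule_one_eq_span_X] at hP
    induction hP using Submodule.span_induction with
    | mem x hx =>
      classical
      obtain ⟨i, rfl⟩ := hx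
      intro a b
      simp [D_apply, Pi.single_apply]
    | zero => intro a b; simp
    | add x y _ _ hx hy => intro a b; simp [hx a b, hy a b]
    | smul c x _ hx => intro a b; simp [hx a b]
  refine Submodule.mul_induction_on hmem (fun P hP Q hQ => ?_) (fun x y hx hy => by rw [map_add, map_add, hx, hy])
  rw [D_mul, D_mul, h1 P hP v w, h1 Q hQ v w, h1 P hP w v, h1 Q hQ w v]
  ring

/-- The tangency functional, normalised by `φ`. -/
noncomputable def L (d : ℕ) (W : Submodule k (Fin (r + 1) → k)) (v : Fin (r + 1) → k)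
    (φ : (Fin (r + 1) → k) →ₗ[k] k) : LefPen.Form r k d →ₗ[k] Module.Dual k W where
  toFun G :=
    { toFun := fun w => D v w.1 G.1 + (1 - (d : k)) * φ w.1 * aeval v G.1
      map_add' := fun a b => by
        simp only [D_apply, Submodule.coe_add, Pi.add_apply, map_add, add_mul, Finset.sum_add_distrib]
        ring
      map_smul' := fun c a => by
        simp only [D_apply, Submodule.coe_smul, Pi.smul_apply, map_smul, smul_eq_mul, RingHom.id_apply, mul_assoc,
          ← Finset.mul_sum]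
        ring }
  map_add' G H := LinearMap.ext fun w => by
    simp only [Submodule.coe_add, map_add, LinearMap.add_apply, LinearMap.coe_mk, AddHom.coe_mk]
    ring
  map_smul' c G := LinearMap.ext fun w => by
    simp only [Submodule.coe_smul, map_smul, LinearMap.smul_apply, smul_eq_mul, RingHom.id_apply, LinearMap.coe_mk,
      AddHom.coe_mk]
    ring

theorem L_apply (d : ℕ) (W : Submodule k (Fin (r + 1) → k)) (v : Fin (r + 1) → k)
    (φ : (Fin (r + 1) → k) →ₗ[k] k) (G : LefPen.Form r k d) (w : W) :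
    L d W v φ G w = D v w.1 G.1 + (1 - (d : k)) * φ w.1 * aeval v G.1 := rfl

theorem ker_L (d : ℕ) (W : Submodule k (Fin (r + 1) → k)) (v : Fin (r + 1) → k)
    (φ : (Fin (r + 1) → k) →ₗ[k] k) (hv : v ∈ W) (hφ : φ v = 1) :
    LinearMap.ker (LefPen.tangLin k W v (d := d)) = LinearMap.ker (L d W v φ) := by
  ext G
  have e2 : ∀ w : W, (LefPen.tangLin k W v G).2 w = D v w.1 G.1 := fun w => by
    simp [LefPen.tangLin, D_apply]
  have e1 : (LefPen.tangLin k W v G).1 = aeval v G.1 := rfl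
  simp only [LinearMap.mem_ker]
  constructor
  · intro h
    ext w
    rw [L_apply, ← e2, ← e1, h]
    simp
  · intro h
    have h1 := congrArg (fun f => f ⟨v, hv⟩) h
    simp only [L_apply, LinearMap.zero_apply, D_self ((mem_homogeneousSubmodule d G.1).1 G.2) v, hφ] at h1
    have h0 : aeval v G.1 = 0 := by linear_combination h1
    refine Prod.ext (e1.trans h0) (funext fun w => (e2 w).trans ?_)
    have h2 := congrArg (fun f => f w) h
    simp only [L_apply, LinearMap.zero_apply, h0, mul_zero, add_zero] at h2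
    exact h2

/-- The form `φ^(m+1) ψ`. -/
noncomputable def prodForm (m : ℕ) (φ ψ : (Fin (r + 1) → k) →ₗ[k] k) : LefPen.Form r k (m + 2) :=
  ⟨lin φ ^ (m + 1) * lin ψ, by
    rw [mem_homogeneousSubmodule]
    have := ((lin_mem φ).pow (m + 1)).mul (lin_mem ψ)
    rwa [one_mul] at this⟩

theorem L_prodForm_self (m : ℕ) (W : Submodule k (Fin (r + 1) → k)) (v : Fin (r + 1) → k)
    (φ ψ : (Fin (r + 1) → k) →ₗ[k] k) (hφ : φ v = 1) (w : W) :
    L (m + 2) W v φ (prodForm m φ ψ) w = ψ w.1 := by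
  rw [L_apply]
  show D v w.1 (lin φ ^ (m + 1) * lin ψ) + _ * aeval v (lin φ ^ (m + 1) * lin ψ) = _
  rw [D_mul, D_lin_pow, D_lin, map_mul, map_pow, aeval_lin, aeval_lin, hφ]
  push_cast
  ring

theorem L_prodForm_other (m : ℕ) (W : Submodule k (Fin (r + 1) → k)) (v : Fin (r + 1) → k)
    (φ φ' ψ : (Fin (r + 1) → k) →ₗ[k] k) (hφ : φ v = 0) (w : W) :
    L (m + 2) W v φ' (prodForm m φ ψ) w = (m + 1 : k) * 0 ^ m * φ w.1 * ψ v := by
  rw [L_apply]
  show D v w.1 (lin φ ^ (m + 1) * lin ψ) + _ * aeval v (lin φ ^ (m + 1) * lin ψ) = _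
  rw [D_mul, D_lin_pow, D_lin, map_mul, map_pow, aeval_lin, aeval_lin, hφ, zero_pow (Nat.succ_ne_zero m)]
  ring

theorem exists_sep {p : Submodule k (Fin (r + 1) → k)} {x : Fin (r + 1) → k} (hx : x ∉ p) :
    ∃ f : (Fin (r + 1) → k) →ₗ[k] k, f x = 1 ∧ ∀ y ∈ p, f y = 0 := by
  obtain ⟨f, hf, hp⟩ := Submodule.exists_dual_map_eq_bot_of_notMem hx inferInstance
  refine ⟨(f x)⁻¹ • f, by simp [inv_mul_cancel₀ hf], fun y hy => ?_⟩
  have : f y = 0 := by
    have := Submodule.mem_map_of_mem (f := f) hy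
    rwa [hp, Submodule.mem_bot] at this
  simp [this]

theorem exists_phi (W' : Submodule k (Fin (r + 1) → k)) {v v' : Fin (r + 1) → k} (hv' : v' ∈ W')
    (h : v ∉ Submodule.span k {v'}) :
    ∃ φ : (Fin (r + 1) → k) →ₗ[k] k, φ v = 1 ∧ φ v' = 0 ∧ (v ∉ W' → ∀ y ∈ W', φ y = 0) := by
  by_cases hv : v ∈ W'
  · obtain ⟨φ, h1, h2⟩ := exists_sep h
    exact ⟨φ, h1, h2 _ (Submodule.mem_span_singleton_self v'), fun hn => absurd hv hn⟩
  · obtain ⟨φ, h1, h2⟩ := exists_sep hv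
    exact ⟨φ, h1, h2 _ hv', fun _ => h2⟩

/-- Hitting `(a, 0)`. -/
theorem hit (m : ℕ) (W W' : Submodule k (Fin (r + 1) → k)) (v v' : Fin (r + 1) → k)
    (φ φ' : (Fin (r + 1) → k) →ₗ[k] k) (hφ : φ v = 1) (hφ0 : φ v' = 0) (hφW : v ∉ W' → ∀ y ∈ W', φ y = 0)
    (h : 1 ≤ m ∨ v' ∉ W ∨ v ∉ W') (a : Module.Dual k W) :
    ∃ G : LefPen.Form r k (m + 2), L (m + 2) W v φ G = a ∧ L (m + 2) W' v' φ' G = 0 := by
  obtain ⟨f, hf⟩ := LinearMap.exists_extend a
  by_cases hW : v' ∈ W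
  · refine ⟨prodForm m φ f, LinearMap.ext fun w => ?_, LinearMap.ext fun w => ?_⟩
    · rw [L_prodForm_self m W v φ f hφ]; exact LinearMap.congr_fun hf w
    · rw [L_prodForm_other m W' v' φ φ' f hφ0, LinearMap.zero_apply]
      rcases h with h | h | h
      · rw [zero_pow (by omega)]; ring
      · exact absurd hW h
      · rw [hφW h w.1 w.2]; ring
  · obtain ⟨g, hg1, hg2⟩ := exists_sep hW
    refine ⟨prodForm m φ (f - f v' • g), LinearMap.ext fun w => ?_, LinearMap.ext fun w => ?_⟩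
    · rw [L_prodForm_self m W v φ _ hφ, LinearMap.sub_apply, LinearMap.smul_apply, hg2 _ w.2, smul_zero, sub_zero]
      exact LinearMap.congr_fun hf w
    · rw [L_prodForm_other m W' v' φ φ' _ hφ0, LinearMap.zero_apply, LinearMap.sub_apply, LinearMap.smul_apply,
        hg1, smul_eq_mul, mul_one, sub_self, mul_zero]


/-- Let k be a field (the source works over an algebraically closed field; the count is the same over
any field), d ≥ 2, x₁ = [v₁] and x₂ = [v₂] two distinct points of projective r-space and P(W₁) ∋ x₁,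
P(W₂) ∋ x₂ linear subspaces. In the space of degree-d forms, those whose hypersurface passes through
x₁ tangentially to P(W₁) and through x₂ tangentially to P(W₂) form a linear subspace of codimension
dim P(W₁) + dim P(W₂) + 2 = dim W₁ + dim W₂ when d ≥ 3 or when the line x₁x₂ is not contained in
both P(W₁) and P(W₂), and of codimension dim W₁ + dim W₂ - 1 when d = 2 and the line x₁x₂ lies in
P(W₁) ∩ P(W₂). -/
theorem result (k : Type u) [Field k] (r d : ℕ) (hd : 2 ≤ d)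
    (W₁ W₂ : Submodule k (Fin (r + 1) → k)) (v₁ v₂ : Fin (r + 1) → k) (h₁ : v₁ ∈ W₁) (h₂ : v₂ ∈ W₂)
    (hv : LinearIndependent k ![v₁, v₂]) :
    ((3 ≤ d ∨ ¬ (v₂ ∈ W₁ ∧ v₁ ∈ W₂)) →
      Module.finrank k (LefPen.Form r k d) =
        Module.finrank k ↥(LefPen.tangentForms k d W₁ v₁ W₂ v₂) + (Module.finrank k ↥W₁ + Module.finrank k ↥W₂)) ∧
    ((d = 2 ∧ v₂ ∈ W₁ ∧ v₁ ∈ W₂) →
      Module.finrank k (LefPen.Form r k d) + 1 =
        Module.finrank k ↥(LefPen.tangentForms k d W₁ v₁ W₂ v₂) + (Module.finrank k ↥W₁ + Module.finrank k ↥W₂)) := by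
  obtain ⟨m, rfl⟩ : ∃ m, d = m + 2 := ⟨d - 2, by omega⟩
  haveI : Module.Finite k (LefPen.Form r k (m + 2)) := Module.Finite.iff_fg.2 (MvPolynomial.homogeneousSubmodule_fg _ _ _)
  have hv0 := LinearIndependent.pair_iff.1 hv
  have hn1 : v₁ ∉ Submodule.span k {v₂} := fun h => by
    obtain ⟨c, hc⟩ := Submodule.mem_span_singleton.1 h
    exact one_ne_zero (α := k) (hv0 1 (-c) (by rw [← hc]; module)).1
  have hn2 : v₂ ∉ Submodule.span k {v₁} := fun h => by
    obtain ⟨c, hc⟩ := Submodule.mem_span_singleton.1 h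
    exact one_ne_zero (α := k) (hv0 (-c) 1 (by rw [← hc]; module)).2
  obtain ⟨φ₁, hφ₁, hφ₁0, hφ₁W⟩ := exists_phi W₂ h₂ hn1
  obtain ⟨φ₂, hφ₂, hφ₂0, hφ₂W⟩ := exists_phi W₁ h₁ hn2
  let T := (L (m + 2) W₁ v₁ φ₁).prod (L (m + 2) W₂ v₂ φ₂)
  have hker : LefPen.tangentForms k (m + 2) W₁ v₁ W₂ v₂ = LinearMap.ker T := by
    rw [LefPen.tangentForms, ker_L _ W₁ v₁ φ₁ h₁ hφ₁, ker_L _ W₂ v₂ φ₂ h₂ hφ₂, LinearMap.ker_prod]
  have hrn := LinearMap.finrank_range_add_finrank_ker T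
  have hdim : Module.finrank k (Module.Dual k W₁ × Module.Dual k W₂) = Module.finrank k W₁ + Module.finrank k W₂ := by
    rw [Module.finrank_prod, Subspace.dual_finrank_eq, Subspace.dual_finrank_eq]
  constructor
  · intro hA
    have htop : LinearMap.range T = ⊤ := by
      refine eq_top_iff.2 fun x _ => ?_
      have hA₁ : 1 ≤ m ∨ v₂ ∉ W₁ ∨ v₁ ∉ W₂ := by rcases hA with h | h <;> [exact Or.inl (by omega); exact Or.inr (not_and_or.1 h)]
      have hA₂ : 1 ≤ m ∨ v₁ ∉ W₂ ∨ v₂ ∉ W₁ := hA₁.imp id Or.symm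
      obtain ⟨G, hG1, hG2⟩ := hit m W₁ W₂ v₁ v₂ φ₁ φ₂ hφ₁ hφ₁0 hφ₁W hA₁ x.1
      obtain ⟨G', hG1', hG2'⟩ := hit m W₂ W₁ v₂ v₁ φ₂ φ₁ hφ₂ hφ₂0 hφ₂W hA₂ x.2
      refine ⟨G + G', ?_⟩
      simp [T, hG1, hG2, hG1', hG2']
    rw [htop, finrank_top, hdim, ← hker] at hrn
    omega
  · rintro ⟨hd2, hv21, hv12⟩
    obtain rfl : m = 0 := by omega
    let χ : Module.Dual k W₁ × Module.Dual k W₂ →ₗ[k] k :=
      (LinearMap.applyₗ ⟨v₂, hv21⟩) ∘ₗ LinearMap.fst k _ _ - (LinearMap.applyₗ ⟨v₁, hv12⟩) ∘ₗ LinearMap.snd k _ _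
    have hχ : ∀ a b, χ (a, b) = a ⟨v₂, hv21⟩ - b ⟨v₁, hv12⟩ := fun a b => rfl
    have hrange : LinearMap.range T = LinearMap.ker χ := by
      refine le_antisymm ?_ fun x hx => ?_
      · rintro _ ⟨G, rfl⟩
        rw [LinearMap.mem_ker]
        show χ (L 2 W₁ v₁ φ₁ G, L 2 W₂ v₂ φ₂ G) = 0
        simp only [hχ, L_apply, hφ₁0, hφ₂0, mul_zero, zero_mul, add_zero,
          D_comm ((MvPolynomial.mem_homogeneousSubmodule 2 G.1).1 G.2) v₁ v₂, sub_self]
      · obtain ⟨a, b⟩ := x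
        rw [LinearMap.mem_ker, hχ, sub_eq_zero] at hx
        obtain ⟨f, hf⟩ := LinearMap.exists_extend a
        have hfa : ∀ w : W₁, f w.1 = a w := fun w => LinearMap.congr_fun hf w
        obtain ⟨g, hg⟩ := LinearMap.exists_extend (b - f v₂ • (φ₁ ∘ₗ W₂.subtype))
        have hgb : ∀ w : W₂, g w.1 = b w - f v₂ * φ₁ w.1 := fun w => LinearMap.congr_fun hg w
        have hg0 : g v₁ = 0 := by
          have := hgb ⟨v₁, hv12⟩
          rw [this, hφ₁, mul_one, ← hx, ← hfa ⟨v₂, hv21⟩, sub_self]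
        refine ⟨prodForm 0 φ₁ f + prodForm 0 φ₂ g, Prod.ext (LinearMap.ext fun w => ?_) (LinearMap.ext fun w => ?_)⟩
        · show L (0 + 2) W₁ v₁ φ₁ (prodForm 0 φ₁ f + prodForm 0 φ₂ g) w = a w
          rw [map_add, LinearMap.add_apply, L_prodForm_self 0 W₁ v₁ φ₁ f hφ₁,
            L_prodForm_other 0 W₁ v₁ φ₂ φ₁ g hφ₂0, hg0, mul_zero, add_zero, hfa]
        · show L (0 + 2) W₂ v₂ φ₂ (prodForm 0 φ₁ f + prodForm 0 φ₂ g) w = b w
          rw [map_add, LinearMap.add_apply, L_prodForm_other 0 W₂ v₂ φ₁ φ₂ f hφ₁0,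
            L_prodForm_self 0 W₂ v₂ φ₂ g hφ₂, hgb]
          simp; ring
    have hsurj : LinearMap.range χ = ⊤ := by
      refine LinearMap.range_eq_top.2 fun c => ⟨(c • (φ₂ ∘ₗ W₁.subtype), 0), ?_⟩
      rw [hχ]
      simp [hφ₂]
    have hk := LinearMap.finrank_range_add_finrank_ker χ
    rw [hsurj, finrank_top, Module.finrank_self, hdim, ← hrange] at hk
    rw [← hker] at hrn
    omega

end Groth.Agent.S4024
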