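import Groth.Statements.S4026
import Groth.Agent.CommAlg4.BertiniRel
import Groth.Agent.LefPen24.HypIdeal
import Groth.Agent.H8Constr.AffineChart
import Groth.Agent.ProjLib.IdealComap
import Groth.Agent.HypLib.LinForm
import Groth.Agent.UPLib.SecKernel
-- import your own Groth.Agent.* helpers here

set_option autoImplicit false
universe u
open CategoryTheory CategoryTheory.Limits AlgebraicGeometry
open LefPen

namespace Groth.Agent.S4026

set_option linter.unusedVariables false

open CategoryTheory CategoryTheory.Limits AlgebraicGeometry HomogeneousLocalization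

/-- The chart `D+(X i)` as a scheme over the field. -/
theorem fromSpec_toSpec {k : Type u} [Field k] {n : ℕ} (i : Fin (n + 1))
    (hV : IsAffineOpen (Proj.basicOpen (CohB1.polyGrading n k) (MvPolynomial.X i))) :
    hV.fromSpec ≫ CohB1.ProjSpace.toSpec n k =
      Spec.map (CommRingCat.ofHom ((Proj.awayToSection (CohB1.polyGrading n k) (MvPolynomial.X i)).hom.comp
        ((fromZeroRingHom (CohB1.polyGrading n k) _).comp (algebraMap k (CohB1.polyGrading n k 0))))) := by
  have hX : (MvPolynomial.X i : MvPolynomial (Fin (n + 1)) k) ∈ CohB1.polyGrading n k 1 :=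
    MvPolynomial.isHomogeneous_X k i
  have e : hV.fromSpec = Spec.map (Proj.awayToSection (CohB1.polyGrading n k) (MvPolynomial.X i)) ≫
      Proj.awayι (CohB1.polyGrading n k) _ hX one_pos := by
    rw [← cancel_epi hV.isoSpec.hom, IsAffineOpen.fromSpec, Iso.hom_inv_id_assoc, ← Category.assoc,
      IsAffineOpen.isoSpec_hom, ← Proj.basicOpenIsoSpec_inv_ι]
    exact ((Proj.basicOpenIsoSpec (CohB1.polyGrading n k) _ hX one_pos).hom_inv_id_assoc _).symm
  have h2 : Spec.map (Proj.awayToSection (CohB1.polyGrading n k) (MvPolynomial.X i)) ≫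
      Proj.awayι (CohB1.polyGrading n k) _ hX one_pos ≫ Proj.toSpecZero (CohB1.polyGrading n k) ≫
        Spec.map (CommRingCat.ofHom (algebraMap k (CohB1.polyGrading n k 0))) =
      Spec.map (CommRingCat.ofHom ((Proj.awayToSection (CohB1.polyGrading n k) (MvPolynomial.X i)).hom.comp
        ((fromZeroRingHom (CohB1.polyGrading n k) _).comp (algebraMap k (CohB1.polyGrading n k 0))))) := by
    rw [Proj.awayι_toSpecZero_assoc, CommRingCat.ofHom_comp, CommRingCat.ofHom_comp, CommRingCat.ofHom_hom,
      Spec.map_comp, Spec.map_comp]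
  rw [e]
  exact (Category.assoc _ _ _).trans h2

theorem toAway_eq {k : Type u} [Field k] {n : ℕ} (i : Fin (n + 1)) (a : k) :
    fromZeroRingHom (CohB1.polyGrading n k) (Submonoid.powers (MvPolynomial.X i)) (algebraMap k (CohB1.polyGrading n k 0) a) =
      Groth.Agent.ProjLib.toAway n k (MvPolynomial.X i) a := rfl

set_option backward.isDefEq.respectTransparency.types false in
/-- Dehomogenisation followed by a ring map, as a linear map. -/
theorem exists_lin {k : Type u} [Field k] {r d : ℕ} (i : Fin (r + 1)) {B : Type u} [CommRing B] [Algebra k B]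
    (ψ : Away (CohB1.polyGrading r k) (MvPolynomial.X i : MvPolynomial (Fin (r + 1)) k) →+* B)
    (hψ : ∀ a : k, ψ (fromZeroRingHom (CohB1.polyGrading r k) _ (algebraMap k (CohB1.polyGrading r k 0) a)) =
      algebraMap k B a) :
    ∃ D : LefPen.Form r k d →ₗ[k] B, ∀ G : LefPen.Form r k d, D G =
      ψ (Away.mk (CohB1.polyGrading r k) (LefPen.X_mem r k i) d G.1 (by rw [smul_eq_mul, mul_one]; exact G.2)) := by
  refine ⟨{ toFun := fun G => ψ (Away.mk (CohB1.polyGrading r k) (LefPen.X_mem r k i) d G.1
    (by rw [smul_eq_mul, mul_one]; exact G.2)), map_add' := ?_, map_smul' := ?_ }, fun G => rfl⟩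
  · intro G H
    rw [← map_add]
    refine congrArg ψ (HomogeneousLocalization.val_injective _ ?_)
    rw [HomogeneousLocalization.val_add, Away.val_mk, Away.val_mk, Away.val_mk, Localization.add_mk_self]
    rfl
  · intro a G
    rw [RingHom.id_apply, Algebra.smul_def (A := B), ← hψ, ← map_mul]
    refine congrArg ψ (HomogeneousLocalization.val_injective _ ?_)
    rw [HomogeneousLocalization.val_mul, Away.val_mk, Away.val_mk, toAway_eq, ProjLib.val_toAway]
    rw [Localization.mk_eq_mk', IsLocalization.mk'_eq_iff_eq_mul, mul_assoc, IsLocalization.mk'_spec]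
    simp [MvPolynomial.smul_eq_C_mul, ← MvPolynomial.algebraMap_eq]

set_option maxHeartbeats 1000000 in
set_option backward.isDefEq.respectTransparency.types false in
open Groth.Agent in
theorem main {k : Type u} [Field k] [Infinite k] (r n : ℕ) (hn : 1 ≤ n) {X : Scheme.{u}}
    (ι : X ⟶ CohB1.ProjSpace r k) [IsClosedImmersion ι]
    [hs : SmoothOfRelativeDimension n (ι ≫ CohB1.ProjSpace.toSpec r k)] (d : ℕ) (hd : 1 ≤ d) :
    LefPen.IsGeneric k {H : LefPen.Form r k d |
      LefPen.Transversal k n 1 (LefPen.secToSpec ι ({H} : Set (LefPen.Form r k d)))} := by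
  classical
  let 𝒜 := CohB1.polyGrading r k
  have hX := LefPen.X_mem r k
  let V : Fin (r + 1) → (CohB1.ProjSpace r k).Opens := fun i => LefPen.chart r k i
  have hV : ∀ i, IsAffineOpen (V i) := fun i => LefPen24.isAffineOpen_chart i
  let U : Fin (r + 1) → X.Opens := fun i => ι ⁻¹ᵁ V i
  have hU : ∀ i, IsAffineOpen (U i) := fun i => (hV i).preimage ι
  let φ : ∀ i, Away 𝒜 (MvPolynomial.X i) →+* Γ(X, U i) := fun i =>
    ((ι.appLE (V i) (U i) le_rfl).hom).comp (Proj.awayToSection 𝒜 (MvPolynomial.X i)).hom
  have hφs : ∀ i, Function.Surjective (φ i) := fun i => by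
    have h1 : Function.Surjective (ι.appLE (V i) (U i) le_rfl).hom := by
      rw [← Scheme.Hom.app_eq_appLE]
      exact ι.app_surjective _ (hV i)
    exact h1.comp (ConcreteCategory.bijective_of_isIso (Proj.basicOpenIsoAway 𝒜 _ (hX i) one_pos).hom).2
  letI : ∀ i, Algebra k Γ(X, U i) := fun i =>
    ((φ i).comp ((fromZeroRingHom 𝒜 _).comp (algebraMap k (𝒜 0)))).toAlgebra
  have hfs : ∀ i, (hU i).fromSpec ≫ ι ≫ CohB1.ProjSpace.toSpec r k =
      Spec.map (CommRingCat.ofHom (algebraMap k Γ(X, U i))) := fun i => by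
    rw [← IsAffineOpen.SpecMap_appLE_fromSpec_assoc ι (hV i) (hU i) le_rfl]
    refine (congrArg (Spec.map _ ≫ ·) (fromSpec_toSpec i (hV i))).trans ((Spec.map_comp _ _).symm.trans ?_)
    rfl
  have hloc : ∀ i, Ideal.span {f : Γ(X, U i) |
      Algebra.IsStandardSmoothOfRelativeDimension n k (Localization.Away f)} = ⊤ := fun i => by
    have h : SmoothOfRelativeDimension n (Spec.map (CommRingCat.ofHom (algebraMap k Γ(X, U i)))) := by
      rw [← hfs i]
      exact IsZariskiLocalAtSource.comp hs (hU i).fromSpec
    refine top_unique ((((HasRingHomProperty.Spec_iff (P := @SmoothOfRelativeDimension n)).1 h)).span_eq_top.ge.trans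
      (Ideal.span_mono fun f hf => ?_))
    have hf' : (algebraMap k (Localization.Away f)).IsStandardSmoothOfRelativeDimension n := by
      rw [IsScalarTower.algebraMap_eq k Γ(X, U i)]; exact hf
    exact (RingHom.isStandardSmoothOfRelativeDimension_algebraMap n).1 hf'
  have hft : ∀ i, Algebra.FiniteType k Γ(X, U i) := fun i => by
    haveI : Smooth (ι ≫ CohB1.ProjSpace.toSpec r k) := SmoothOfRelativeDimension.smooth n _
    have : Smooth (Spec.map (CommRingCat.ofHom (algebraMap k Γ(X, U i)))) := by
      rw [← hfs i]; infer_instance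
    have := RingHom.smooth_algebraMap.1 ((HasRingHomProperty.Spec_iff (P := @Smooth)).1 this)
    infer_instance
  have hD := fun i => exists_lin (r := r) (d := d) i (φ i) (fun a => rfl)
  choose D hD using hD
  have h1 : ∀ i, ∃ G : LefPen.Form r k d, D i G = 1 := fun i => by
    refine ⟨⟨MvPolynomial.X i ^ d, by simpa using SetLike.pow_mem_graded d (hX i)⟩, ?_⟩
    rw [hD, ← map_one (φ i)]
    refine congrArg (φ i) (HomogeneousLocalization.val_injective _ ?_)
    rw [Away.val_mk, HomogeneousLocalization.val_one, ← Localization.mk_one]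
    exact Localization.mk_eq_mk_iff.2 (Localization.r_iff_exists.2 ⟨1, by simp⟩)
  have hgen : ∀ i, Algebra.adjoin k (Set.range (D i)) = ⊤ := fun i => eq_top_iff.2 fun b hb => by
    clear hb
    obtain ⟨a, rfl⟩ := hφs i b
    obtain ⟨p, rfl⟩ := (H8Constr.chartHom_bijective r k i).2 a
    induction p using MvPolynomial.induction_on with
    | C c =>
      rw [H8Constr.chartHom, MvPolynomial.eval₂Hom_C, ← toAway_eq]
      exact Subalgebra.algebraMap_mem _ c
    | add p q hp hq => rw [map_add, map_add]; exact add_mem hp hq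
    | mul_X p j hp =>
      rw [map_mul, map_mul]
      refine mul_mem hp (Algebra.subset_adjoin ⟨⟨MvPolynomial.X j.1 * MvPolynomial.X i ^ (d - 1), ?_⟩, ?_⟩)
      · have h := SetLike.mul_mem_graded (hX j.1) (SetLike.pow_mem_graded (d - 1) (hX i))
        rwa [smul_eq_mul, mul_one, Nat.add_sub_cancel' hd] at h
      · rw [hD]
        refine congrArg (φ i) (HomogeneousLocalization.val_injective _ ?_)
        rw [H8Constr.chartHom, MvPolynomial.eval₂Hom_X', Away.val_mk, HomogeneousLocalization.val_mk]
        refine Localization.mk_eq_mk_iff.2 (Localization.r_iff_exists.2 ⟨1, ?_⟩)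
        obtain ⟨e, rfl⟩ : ∃ e, d = e + 1 := ⟨d - 1, by omega⟩
        simp [pow_succ]
        ring
  haveI : Module.Finite k (LefPen.Form r k d) := Module.Finite.iff_fg.2 (MvPolynomial.homogeneousSubmodule_fg _ _ _)
  let b := Module.finBasis k (LefPen.Form r k d)
  have hjet : ∀ i, Submodule.span Γ(X, U i) (Set.range fun e =>
      (D i (b e), KaehlerDifferential.D k Γ(X, U i) (D i (b e)))) = ⊤ := fun i => by
    haveI := hft i
    set S := Submodule.span Γ(X, U i) (Set.range fun e =>
      (D i (b e), KaehlerDifferential.D k Γ(X, U i) (D i (b e)))) with hS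
    have hmem : ∀ G, (D i G, KaehlerDifferential.D k Γ(X, U i) (D i G)) ∈ S := fun G => by
      rw [← b.sum_repr G]
      simp only [map_sum, map_smul, Derivation.map_smul]
      rw [show ((∑ e, b.repr G e • D i (b e), ∑ e, b.repr G e • KaehlerDifferential.D k Γ(X, U i) (D i (b e))) :
          Γ(X, U i) × _) = ∑ e, b.repr G e • (D i (b e), KaehlerDifferential.D k Γ(X, U i) (D i (b e))) by
        ext <;> simp [Prod.fst_sum, Prod.snd_sum]]
      exact Submodule.sum_mem _ fun e _ => Submodule.smul_of_tower_mem _ _ (Submodule.subset_span ⟨e, rfl⟩)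
    obtain ⟨G₁, hG₁⟩ := h1 i
    have h10 : ((1 : Γ(X, U i)), (0 : Ω[Γ(X, U i)⁄k])) ∈ S := by simpa [hG₁] using hmem G₁
    have hdd : ∀ a : Γ(X, U i), ((0 : Γ(X, U i)), KaehlerDifferential.D k Γ(X, U i) a) ∈ S := fun a => by
      induction (hgen i ▸ Algebra.mem_top : a ∈ Algebra.adjoin k (Set.range (D i))) using
        Algebra.adjoin_induction with
      | mem y hy =>
        obtain ⟨G, rfl⟩ := hy
        simpa using S.sub_mem (hmem G) (S.smul_mem (D i G) h10)
      | algebraMap c => rw [Derivation.map_algebraMap]; exact S.zero_mem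
      | add x y _ _ hx hy => simpa using S.add_mem hx hy
      | mul x y _ _ hx hy =>
        rw [Derivation.leibniz]
        simpa using S.add_mem (S.smul_mem x hy) (S.smul_mem y hx)
    refine eq_top_iff.2 ?_
    rintro ⟨a, w⟩ -
    have hw : ((0 : Γ(X, U i)), w) ∈ S := by
      have : w ∈ Submodule.span Γ(X, U i) (Set.range (KaehlerDifferential.D k Γ(X, U i))) := by
        rw [KaehlerDifferential.span_range_derivation]; trivial
      induction this using Submodule.span_induction with
      | mem y hy => obtain ⟨c, rfl⟩ := hy; exact hdd c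
      | zero => exact S.zero_mem
      | add y z _ _ hy hz => simpa using S.add_mem hy hz
      | smul c y _ hy => simpa using S.smul_mem c hy
    simpa using S.add_mem (S.smul_mem a h10) hw
  have hg := fun i => (haveI := hft i; CommAlg4.exists_poly_smoothRel_quotient n (hloc i)
    (fun e => D i (b e)) (hjet i))
  choose g hg0 hg using hg
  obtain ⟨c₀, hc₀⟩ : ∃ c, MvPolynomial.eval c (∏ i, g i) ≠ 0 := by
    by_contra! h
    exact (Finset.prod_ne_zero_iff.2 fun i _ => hg0 i) (MvPolynomial.funext fun c => by rw [h c, map_zero])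
  refine ⟨fun H => MvPolynomial.eval (fun e => b.repr H e) (∏ i, g i), ?_, ⟨∑ e, c₀ e • b e, ?_⟩,
    fun H hH => Or.inl ⟨hn, ?_⟩⟩
  · have : (fun H : LefPen.Form r k d => MvPolynomial.eval (fun e => b.repr H e) (∏ i, g i)) =
        MvPolynomial.aeval (fun e => ((b.coord e : Module.Dual k (LefPen.Form r k d)) : LefPen.Form r k d → k))
          (∏ i, g i) := by
      funext H
      exact DFunLike.congr_fun (MvPolynomial.comp_aeval
        (fun e => ((b.coord e : Module.Dual k (LefPen.Form r k d)) : LefPen.Form r k d → k))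
        (Pi.evalAlgHom k (fun _ : LefPen.Form r k d => k) H)) (∏ i, g i) |>.symm
    show (fun H : LefPen.Form r k d => MvPolynomial.eval (fun e => b.repr H e) (∏ i, g i)) ∈ _
    rw [this]
    refine Algebra.adjoin_mono ?_ ((MvPolynomial.aeval_range _).le ⟨_, rfl⟩)
    rintro _ ⟨e, rfl⟩
    exact ⟨b.coord e, rfl⟩
  · show MvPolynomial.eval (fun e => b.repr (∑ e, c₀ e • b e) e) (∏ i, g i) ≠ 0
    simp only [b.repr_sum_self]
    exact hc₀
  simp only [map_prod, Finset.prod_ne_zero_iff] at hH
  let K := LefPen.secIdeal ι ({H} : Set (LefPen.Form r k d))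
  have hK : ∀ i, K.ideal ⟨U i, hU i⟩ = Ideal.span {∑ e, algebraMap k Γ(X, U i) (b.repr H e) * D i (b e)} := fun i => by
    have hl : ∑ e, algebraMap k Γ(X, U i) (b.repr H e) * D i (b e) = D i H := by
      conv_rhs => rw [← b.sum_repr H]
      rw [map_sum]
      simp [Algebra.smul_def]
    rw [hl, hD, show K = (LefPen.hypIdeal H).comap ι by simp [K, LefPen.secIdeal],
      ProjLib.comap_ideal_eq _ ι ⟨V i, hV i⟩ ⟨U i, hU i⟩ le_rfl, LefPen24.ideal_hypIdeal_chart]
    exact (Ideal.map_span _ _).trans (congrArg Ideal.span Set.image_singleton)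
  have hcov : ∀ z : K.subscheme, ∃ i, z ∈ Set.range (K.subschemeCover.f ⟨U i, hU i⟩) := fun z => by
    obtain ⟨i, hi⟩ := UPLib.exists_degOne_projSpace (R := CommRingCat.of k) r (ι (K.subschemeι z))
    refine ⟨i, ?_⟩
    rw [← Scheme.Hom.coe_opensRange, Scheme.IdealSheafData.opensRange_subschemeCover_map]
    exact hi
  choose idx hidx using hcov
  have key : ∀ i : Fin (r + 1), SmoothOfRelativeDimension (n - 1)
      (K.subschemeCover.f ⟨U i, hU i⟩ ≫ K.subschemeι ≫ ι ≫ CohB1.ProjSpace.toSpec r k) := fun i => by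
    rw [← Category.assoc, Scheme.IdealSheafData.subschemeCover_map_subschemeι,
      Scheme.IdealSheafData.glueDataObjι_ι]
    have h := hg i (fun e => b.repr H e) (hH i (Finset.mem_univ i))
    rw [← hK i] at h
    have h' : SmoothOfRelativeDimension (n - 1)
        (Spec.map (CommRingCat.ofHom (Ideal.Quotient.mk (K.ideal ⟨U i, hU i⟩))) ≫
          (hU i).fromSpec ≫ ι ≫ CohB1.ProjSpace.toSpec r k) := by
      rw [hfs i, ← Spec.map_comp, HasRingHomProperty.Spec_iff (P := @SmoothOfRelativeDimension.{u} (n - 1)),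
        RingHom.locally_iff_span_eq_top]
      refine top_unique (h.ge.trans (Ideal.span_mono fun f hf => ?_))
      exact (RingHom.isStandardSmoothOfRelativeDimension_algebraMap (n - 1)).2 hf
    show SmoothOfRelativeDimension (n - 1)
      ((Spec.map (CommRingCat.ofHom (Ideal.Quotient.mk (K.ideal ⟨U i, hU i⟩))) ≫ (hU i).fromSpec) ≫
        ι ≫ CohB1.ProjSpace.toSpec r k)
    rw [Category.assoc]
    exact h'
  exact IsZariskiLocalAtSource.of_openCover (P := @SmoothOfRelativeDimension.{u} (n - 1))
    (Scheme.Cover.mkOfCovers (Fin (r + 1)) _ (fun i => K.subschemeCover.f ⟨U i, hU i⟩)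
      (fun z => ⟨idx z, hidx z⟩) fun i => K.subschemeCover.map_prop _) key

/-- In the form 'the dual variety (the hyperplanes not transversal to X) is a proper closed subset of
the dual projective space': let k be an algebraically closed field and X an irreducible smooth
proper k-scheme of dimension n ≥ 1 embedded in projective r-space by a closed immersion i, and let d
≥ 1. The degree-d forms whose hypersurface cuts X transversally (X ∩ V(H) smooth over k of dimension
n - 1) contain the non-vanishing locus of a not identically zero polynomial function of the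
coefficients. -/
theorem result (k : Type u) [Field k] [IsAlgClosed k] (r n : ℕ) (hn : 1 ≤ n)
    {X : Scheme.{u}} (i : X ⟶ CohB1.ProjSpace r k) [IsClosedImmersion i] [IrreducibleSpace X]
    [SmoothOfRelativeDimension n (i ≫ CohB1.ProjSpace.toSpec r k)]
    (d : ℕ) (hd : 1 ≤ d) :
    LefPen.IsGeneric k {H : LefPen.Form r k d |
      LefPen.Transversal k n 1 (LefPen.secToSpec i ({H} : Set (LefPen.Form r k d)))} := by
  exact main r n hn i d hd

end Groth.Agent.S4026
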