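import Groth.Statements.S4027
import Mathlib.RingTheory.Polynomial.GaussLemma
import Mathlib.RingTheory.Polynomial.UniqueFactorization
import Mathlib.Algebra.MvPolynomial.Equiv
import Mathlib.Algebra.MvPolynomial.NoZeroDivisors

set_option autoImplicit false
universe u
open LefPen

namespace Groth.Agent.S4027

/-- Let k be an algebraically closed field, r ≥ 2, and F ∈ k[X_1, …, X_r] an irreducible polynomial with
F(0) ≠ 0 (in the source the origin is the base point of the lines considered and lies off the
hypersurface F = 0; without this the claim fails, e.g. for X_1 - X_2^2). Then the polynomial G(T) =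
F(X_1 T, …, X_r T), with coefficients in the field of rational functions k(X_1, …, X_r), is
irreducible. -/
theorem result (k : Type u) [Field k] [IsAlgClosed k] (r : ℕ) (hr : 2 ≤ r)
    (F : MvPolynomial (Fin r) k) (hF : Irreducible F) (hF0 : MvPolynomial.eval (fun _ => (0 : k)) F ≠ 0) :
    Irreducible ((MvPolynomial.eval₂ (Polynomial.C.comp MvPolynomial.C)
        (fun j => Polynomial.C (MvPolynomial.X j) * Polynomial.X) F).map
      (algebraMap (MvPolynomial (Fin r) k) (FractionRing (MvPolynomial (Fin r) k)))) := by
  classical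
  set G := MvPolynomial.eval₂ (Polynomial.C.comp MvPolynomial.C)
    (fun j => Polynomial.C (MvPolynomial.X j) * Polynomial.X) F with hG
  have hc : IsUnit (MvPolynomial.constantCoeff F) := by
    rw [MvPolynomial.constantCoeff_eq, isUnit_iff_ne_zero]
    rw [show (MvPolynomial.eval (fun _ : Fin r => (0 : k))) F = MvPolynomial.constantCoeff F from
      (MvPolynomial.eval_zero' (R := k) (σ := Fin r) ▸ rfl)] at hF0
    exact hF0
  have hG0 : G.coeff 0 = MvPolynomial.C (MvPolynomial.constantCoeff F) := by
    have : (Polynomial.constantCoeff (R := MvPolynomial (Fin r) k)).comp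
        (MvPolynomial.eval₂Hom (Polynomial.C.comp MvPolynomial.C) fun j => Polynomial.C (MvPolynomial.X j) * Polynomial.X) =
        MvPolynomial.C.comp MvPolynomial.constantCoeff := by
      refine MvPolynomial.ringHom_ext (fun c => ?_) fun j => ?_ <;> simp
    exact RingHom.congr_fun this F
  have hprim : G.IsPrimitive := fun c hc' => by
    have := (Polynomial.C_dvd_iff_dvd_coeff _ _).1 hc' 0
    rw [hG0] at this
    exact isUnit_of_dvd_unit this (hc.map _)
  refine (hprim.irreducible_iff_irreducible_map_fraction_map).1 ?_
  let e : Polynomial (MvPolynomial (Fin r) k) ≃ₐ[k] MvPolynomial (Fin r) (Polynomial k) :=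
    (MvPolynomial.optionEquivLeft k (Fin r)).symm.trans (MvPolynomial.optionEquivRight k (Fin r))
  suffices hH : Irreducible (e G) from (MulEquiv.irreducible_iff (f := e)).1 hH
  let θ : MvPolynomial (Fin r) k →+* MvPolynomial (Fin r) (Polynomial k) :=
    MvPolynomial.eval₂Hom (MvPolynomial.C.comp Polynomial.C) fun j => MvPolynomial.C Polynomial.X * MvPolynomial.X j
  have hθ : e G = θ F := by
    have : (e : Polynomial (MvPolynomial (Fin r) k) →+* MvPolynomial (Fin r) (Polynomial k)).comp
        (MvPolynomial.eval₂Hom (Polynomial.C.comp MvPolynomial.C) fun j => Polynomial.C (MvPolynomial.X j) * Polynomial.X) = θ := by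
      refine MvPolynomial.ringHom_ext (fun c => ?_) fun j => ?_
      · simp [e, θ, MvPolynomial.optionEquivLeft_symm_C_C, MvPolynomial.optionEquivRight_C]
      · simp only [θ, RingHom.comp_apply, MvPolynomial.eval₂Hom_X']
        show e (Polynomial.C (MvPolynomial.X j) * Polynomial.X) = _
        rw [map_mul, mul_comm]
        simp only [e, AlgEquiv.trans_apply, MvPolynomial.optionEquivLeft_symm_C_X, MvPolynomial.optionEquivLeft_symm_X,
          MvPolynomial.optionEquivRight_X_some, MvPolynomial.optionEquivRight_X_none]
    exact RingHom.congr_fun this F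
  let π : MvPolynomial (Fin r) (Polynomial k) →+* MvPolynomial (Fin r) k := MvPolynomial.map (Polynomial.evalRingHom 1)
  have hπ : π (θ F) = F := by
    have : π.comp θ = RingHom.id _ := by
      refine MvPolynomial.ringHom_ext (fun c => ?_) fun j => ?_ <;> simp [π, θ]
    exact RingHom.congr_fun this F
  have hdeg : (θ F).totalDegree ≤ F.totalDegree := by
    conv_lhs => rw [F.as_sum, map_sum]
    refine (MvPolynomial.totalDegree_finsetSum_le (d := F.totalDegree) fun d hd => ?_)
    have hd' := MvPolynomial.le_totalDegree hd
    refine le_trans ?_ hd'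
    simp only [θ, MvPolynomial.eval₂Hom_monomial, RingHom.comp_apply, mul_pow, Finsupp.prod_mul, ← map_pow]
    rw [← map_finsuppProd, ← mul_assoc, ← map_mul]
    refine le_trans (le_of_eq (congrArg MvPolynomial.totalDegree (MvPolynomial.monomial_eq (s := d)).symm)) ?_
    exact MvPolynomial.totalDegree_monomial_le ..
  have hne : F ≠ 0 := hF.ne_zero
  have key : ∀ A B : MvPolynomial (Fin r) (Polynomial k), θ F = A * B → IsUnit (π A) → IsUnit A := by
    intro A B hAB hu
    have hA0 : A ≠ 0 := fun h => hne (by rw [← hπ, hAB, h, zero_mul, map_zero])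
    have hB0 : B ≠ 0 := fun h => hne (by rw [← hπ, hAB, h, mul_zero, map_zero])
    obtain ⟨u, hu'⟩ := hu
    have hFeq : F = π A * π B := by rw [← map_mul, ← hAB, hπ]
    have hπA : π A ≠ 0 := fun h => hne (by rw [hFeq, h, zero_mul])
    have hπB : π B ≠ 0 := fun h => hne (by rw [hFeq, h, mul_zero])
    have hu0 : (π A).totalDegree = 0 := by
      have h1 := MvPolynomial.totalDegree_mul_of_isDomain (f := π A) (g := ((u⁻¹ : (MvPolynomial (Fin r) k)ˣ) : MvPolynomial (Fin r) k))
        hπA (Units.ne_zero _)
      rw [← hu', Units.mul_inv, MvPolynomial.totalDegree_one] at h1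
      rw [← hu']; omega
    have hFB : F.totalDegree = (π B).totalDegree := by
      conv_lhs => rw [hFeq]
      rw [MvPolynomial.totalDegree_mul_of_isDomain hπA hπB, hu0, zero_add]
    have hBle : (π B).totalDegree ≤ B.totalDegree := Finset.sup_mono (MvPolynomial.support_map_subset _ _)
    have hAB' := MvPolynomial.totalDegree_mul_of_isDomain hA0 hB0
    rw [← hAB] at hAB'
    have hA : A.totalDegree = 0 := by omega
    rw [MvPolynomial.totalDegree_eq_zero_iff_eq_C] at hA
    rw [hA]
    refine IsUnit.map _ ?_
    have hcc : (MvPolynomial.constantCoeff.comp θ) = Polynomial.C.comp MvPolynomial.constantCoeff := by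
      refine MvPolynomial.ringHom_ext (fun c => ?_) fun j => ?_ <;> simp [θ]
    have h0 := RingHom.congr_fun hcc F
    simp only [RingHom.comp_apply, hAB, map_mul, MvPolynomial.constantCoeff_eq] at h0
    exact isUnit_of_dvd_unit (Dvd.intro _ h0) (hc.map _)
  rw [hθ]
  refine ⟨fun h => hF.not_isUnit (hπ ▸ h.map π), fun A B hAB => ?_⟩
  have hFeq : F = π A * π B := by rw [← map_mul, ← hAB, hπ]
  rcases hF.isUnit_or_isUnit hFeq with h | h
  · exact Or.inl (key A B hAB h)
  · exact Or.inr (key B A (hAB.trans (mul_comm A B)) h)

end Groth.Agent.S4027
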