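import Groth.Statements.S4039
import Groth.Agent.Quadric29.Main
-- import your own Groth.Agent.* helpers here

set_option autoImplicit false
universe u
open CategoryTheory CategoryTheory.Limits AlgebraicGeometry
open LefPen

namespace Groth.Agent.S4039

/-- Let k be a finite field with q elements, n ≥ 0, and Q a quadratic form in n + 2 variables over k
whose zero scheme X = V(Q) ⊆ P^{n+1}_k is smooth over k of relative dimension n (a smooth quadric of
dimension n over k). Then the number of k-rational points of X is Σ_{i=0}^{n} q^i if n is odd, and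
Σ_{i=0}^{n} q^i + ε q^{n/2} with ε = 1 or ε = -1 if n is even, where ε = 1 exactly when X is split,
i.e. contains a k-rational linear subspace of dimension n/2 (Q vanishes on a subspace of k^{n+2} of
dimension n/2 + 1). -/
theorem result (k : Type u) [Field k] [Fintype k] (n : ℕ) (Q : LefPen.Form (n + 1) k 2)
    [SmoothOfRelativeDimension n ((LefPen.hypIdeal Q).subschemeι ≫ CohB1.ProjSpace.toSpec (n + 1) k)] :
    (Odd n → (SgaExt.pointCount ((LefPen.hypIdeal Q).subschemeι ≫ CohB1.ProjSpace.toSpec (n + 1) k) k : ℤ) =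
      ∑ i ∈ Finset.range (n + 1), (Fintype.card k : ℤ) ^ i) ∧
    (Even n → ∃ ε : ℤ, (ε = 1 ∨ ε = -1) ∧
      (SgaExt.pointCount ((LefPen.hypIdeal Q).subschemeι ≫ CohB1.ProjSpace.toSpec (n + 1) k) k : ℤ) =
        (∑ i ∈ Finset.range (n + 1), (Fintype.card k : ℤ) ^ i) + ε * (Fintype.card k : ℤ) ^ (n / 2) ∧
      (ε = 1 ↔ ∃ W : Submodule k (Fin (n + 1 + 1) → k), Module.finrank k ↥W = n / 2 + 1 ∧
        ∀ w ∈ W, MvPolynomial.eval w Q.1 = 0)) := by
  open Groth.Agent.Quadric29 in
  classical
  haveI : Smooth ((LefPen.hypIdeal Q).subschemeι ≫ CohB1.ProjSpace.toSpec (n + 1) k) :=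
    SmoothOfRelativeDimension.smooth n _
  obtain ⟨q, hq, hpol⟩ := exists_quadraticForm Q.1 Q.2
  have hnd : Nd q := by
    intro v hv hqv
    by_contra hcon
    push Not at hcon
    obtain ⟨j, hj⟩ := Function.ne_iff.1 hv
    have hj' : v j ≠ 0 := hj
    let x := (v j)⁻¹ • v
    have hx : x j = 1 := inv_mul_cancel₀ hj'
    have h0 : MvPolynomial.eval x Q.1 = 0 := by rw [← hq, QuadraticMap.map_smul, hqv, smul_zero]
    refine exists_pderiv_ne Q (ne_zero_of_smoothOfRelativeDimension Q) j x hx h0 fun i => ?_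
    have h1 := hpol x (Pi.single i 1)
    rw [QuadraticMap.polar_smul_left, hcon, smul_zero] at h1
    simpa [Pi.single_apply] using h1.symm
  have hd : Module.finrank k (Fin (n + 1 + 1) → k) = n + 2 := by rw [Module.finrank_fin_fun]
  have hqk : 1 ≤ Fintype.card k := Fintype.card_pos
  have hcard := card_zeros Q two_ne_zero
  have hZ : (Nat.card {x : Fin (n + 1 + 1) → k // q x = 0} : ℤ) =
      (SgaExt.pointCount ((LefPen.hypIdeal Q).subschemeι ≫ CohB1.ProjSpace.toSpec (n + 1) k) k : ℤ) *
        ((Fintype.card k : ℤ) - 1) + 1 := by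
    rw [Nat.card_congr (Equiv.subtypeEquivRight fun x => by rw [hq]), hcard]
    push_cast [Nat.cast_sub hqk]
    ring
  have hne : ((Fintype.card k : ℤ) - 1) ≠ 0 := by
    have := Fintype.one_lt_card (α := k)
    omega
  constructor
  · rintro ⟨m, rfl⟩
    have h := card_odd (m + 1) q hnd (by rw [hd]; ring)
    refine mul_right_cancel₀ hne ?_
    rw [geom_sum_mul]
    linear_combination hZ.symm.trans h
  · rintro ⟨m, rfl⟩
    obtain ⟨h1, h2⟩ := card_even m q hnd (by rw [hd]; ring)
    have hm : (m + m) / 2 = m := by omega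
    have hTI : (∃ W : Submodule k (Fin (m + m + 1 + 1) → k), Module.finrank k ↥W = (m + m) / 2 + 1 ∧
        ∀ w ∈ W, MvPolynomial.eval w Q.1 = 0) ↔ TI q (m + 1) := by
      rw [hm]; simp only [TI, hq]
    by_cases hW : TI q (m + 1)
    · refine ⟨1, Or.inl rfl, ?_, ⟨fun _ => hTI.2 hW, fun _ => rfl⟩⟩
      refine mul_right_cancel₀ hne ?_
      rw [add_mul, geom_sum_mul, hm]
      linear_combination hZ.symm.trans (h1 hW)
    · refine ⟨-1, Or.inr rfl, ?_, ⟨fun h => by omega, fun h => absurd (hTI.1 h) hW⟩⟩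
      refine mul_right_cancel₀ hne ?_
      rw [add_mul, geom_sum_mul, hm]
      linear_combination hZ.symm.trans (h2 hW)

end Groth.Agent.S4039
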