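import Groth.Statements.S4058
import Groth.Agent.Et18.NeronProper
-- import your own Groth.Agent.* helpers here

set_option autoImplicit false
universe u
open CategoryTheory CategoryTheory.Limits AlgebraicGeometry MonObj
open SGA7

namespace Groth.Agent.S4058

/-- (iii) ⇒ (iv): let R be a discrete valuation ring with fraction field K and residue field k, and N a
group scheme over Spec R which is a Néron model of its generic fibre, an abelian variety over K. If
the special fibre N ×_R k is proper over k, then N is proper over Spec R. (In (iii) as published the
special fibre is an abelian variety; connectedness of the special fibre is not assumed here.) -/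
theorem result (R K : Type u) [CommRing R] [IsDomain R] [IsDiscreteValuationRing R] [Field K]
    [Algebra R K] [IsFractionRing R K]
    (N : Over (Spec (CommRingCat.of R))) [GrpObj N] (hN : SGA7.IsNeron R K N)
    [IsProper ((SGA7.genFib R K).obj N).hom] [GeometricallyIntegral ((SGA7.genFib R K).obj N).hom]
    [IsProper (Red.bc (Spec.map (CommRingCat.ofHom (IsLocalRing.residue R))) N).hom] :
    IsProper N.hom := by
  haveI := hN.1
  haveI := hN.2.1
  haveI := hN.2.2.1
  haveI : Subsingleton ↥(Spec (CommRingCat.of K)) := inferInstanceAs (Subsingleton (PrimeSpectrum K))
  haveI : IsIntegral ((SGA7.genFib R K).obj N).left :=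
    GeometricallyIntegral.isIntegral_of_subsingleton ((SGA7.genFib R K).obj N).hom
  haveI : IrreducibleSpace ↥(pullback N.hom (Spec.map (CommRingCat.ofHom (algebraMap R K)))) :=
    inferInstanceAs (IrreducibleSpace ↥((SGA7.genFib R K).obj N).left)
  exact Groth.Agent.Et18.NeronProper.isProper_of_isProper_specialFibre (K := K) N.hom η[N].left
    (Over.w η[N]) ‹IsProper (Red.bc (Spec.map (CommRingCat.ofHom (IsLocalRing.residue R))) N).hom›

end Groth.Agent.S4058
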