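import Groth.Statements.S4059
import Groth.Agent.SGA7Mul27.Main
-- import your own Groth.Agent.* helpers here

set_option autoImplicit false
set_option linter.style.haveILetI false
set_option backward.isDefEq.respectTransparency.types false
universe u
open CategoryTheory CategoryTheory.Limits AlgebraicGeometry MonObj
open SGA7

namespace Groth.Agent.S4059

open CategoryTheory CategoryTheory.Limits MonObj AlgebraicGeometry in
open Groth.Agent in
/-- The four equivalent conditions, for a group scheme with the properties of the identity component of
a Néron model: let R be a discrete valuation ring with fraction field K and G a smooth separated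
group scheme of finite type over Spec R with connected fibres whose generic fibre is an abelian
variety over K (proper and geometrically integral); let m > 0 and write [m] : G -> G for the m-th
power morphism. The following are equivalent: (i) [m] is flat; (ii) [m] is surjective; (iii) [m] is
locally quasi-finite; (iv) m is invertible in the residue field of R, or the geometric special fibre
of G contains no copy of the additive group. -/
theorem result (R K : Type u) [CommRing R] [IsDomain R] [IsDiscreteValuationRing R] [Field K]
    [Algebra R K] [IsFractionRing R K]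
    (G : Over (Spec (CommRingCat.of R))) [GrpObj G] [Smooth G.hom] [IsSeparated G.hom] [QuasiCompact G.hom]
    (hconn : ∀ s : ↥(Spec (CommRingCat.of R)), ConnectedSpace ↥(Red.bc ((Spec (CommRingCat.of R)).fromSpecResidueField s) G).left)
    [IsProper ((SGA7.genFib R K).obj G).hom] [GeometricallyIntegral ((SGA7.genFib R K).obj G).hom]
    (m : ℕ) (hm : 0 < m) :
    [Flat ((𝟙 G : G ⟶ G) ^ m).left, Surjective ((𝟙 G : G ⟶ G) ^ m).left,
      LocallyQuasiFinite ((𝟙 G : G ⟶ G) ^ m).left,
      (m : IsLocalRing.ResidueField R) ≠ 0 ∨
        SGA7.FibreUnipotentRankZero (IsLocalRing.closedPoint R) G].TFAE := by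
  haveI hA : IsCommMonObj ((SGA7.genFib R K).obj G) := by
    haveI : Smooth ((SGA7.genFib R K).obj G).hom := MorphismProperty.pullback_snd _ _ ‹Smooth G.hom›
    haveI : IsIntegral ((SGA7.genFib R K).obj G).left :=
      GeometricallyIntegral.isIntegral_of_subsingleton ((SGA7.genFib R K).obj G).hom
    exact AlgGrpLib.TorsorNormRel.isCommMonObj_abelianVariety _
  haveI : IsCommMonObj G := NeronModel27.isCommMonObj_of_generic K G fun T a b => by
    exact mul_comm a b
  have key := SGA7Mul27.geomPt_eq (R := R)
  tfae_have 1 → 2 := fun h =>
    SGA7Mul27.surjective_of_geomFibres G m fun s =>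
      @SGA7Mul27.surjective_geom_of_flat _ G _ _ _ _ _ m h s (hconn s)
  tfae_have 2 → 3 := fun h => @SGA7Mul27.lqf_of_surjective _ G _ _ _ _ _ m h hconn
  tfae_have 3 → 4 := by
    intro h
    refine or_iff_not_imp_left.2 fun hm0 => SGA7Mul27.fibreURZ_of_lqf G m h _ ?_
    obtain ⟨φ, -, hφ⟩ := key (IsLocalRing.closedPoint R)
    rw [← map_natCast φ, ← RingHom.mem_ker, hφ]
    show (m : R) ∈ IsLocalRing.maximalIdeal R
    rw [← IsLocalRing.residue_eq_zero_iff, map_natCast]
    exact not_not.1 hm0
  tfae_have 4 → 1 := by
    intro h
    haveI : Surjective ((𝟙 G : G ⟶ G) ^ m).left := SGA7Mul27.surjective_of_geomFibres G m fun s => by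
      haveI := hconn s
      obtain ⟨φ, hg, hφ⟩ := key s
      by_cases hs : s.asIdeal = ⊥
      · -- the generic point: the fibre is proper
        refine SGA7Mul27.surjective_geom_of_noGa G m hm s ?_
        have hinj : Function.Injective φ := (RingHom.injective_iff_ker_eq_bot φ).2 (hφ.trans hs)
        haveI : IsProper (Red.bc (Spec.map (CommRingCat.ofHom (algebraMap R K))) G).hom :=
          ‹IsProper ((SGA7.genFib R K).obj G).hom›
        refine SGA7Mul27.fibreURZ_of_proper G (Spec.map (CommRingCat.ofHom (algebraMap R K))) s
          (Spec.map (CommRingCat.ofHom (IsFractionRing.lift (K := K) hinj))) ?_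
        rw [hg, ← Spec.map_comp, ← CommRingCat.ofHom_comp]
        exact congrArg (fun t => Spec.map (CommRingCat.ofHom t))
          (RingHom.ext (IsFractionRing.lift_algebraMap (K := K) hinj))
      · have hsc : s = IsLocalRing.closedPoint R :=
          PrimeSpectrum.ext ((s.isPrime.isMaximal hs).eq_of_le (IsLocalRing.maximalIdeal.isMaximal R).ne_top
            (IsLocalRing.le_maximalIdeal s.isPrime.ne_top))
        rcases h with h | h
        · refine SGA7Mul27.surjective_geom_of_ne_zero G m s ?_
          rw [← map_natCast φ]
          intro h0
          rw [← RingHom.mem_ker, hφ, hsc] at h0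
          exact h ((map_natCast (IsLocalRing.residue R) m).symm.trans ((IsLocalRing.residue_eq_zero_iff _).2 h0))
        · subst hsc
          exact SGA7Mul27.surjective_geom_of_noGa G m hm _ h
    exact SGA7Mul27.flat_of_surjective G m
  tfae_finish

end Groth.Agent.S4059
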