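import Groth.Statements.S4064
import Groth.Agent.Et18.ExtRealize
-- import your own Groth.Agent.* helpers here

set_option autoImplicit false
universe w v v'
open CategoryTheory CategoryTheory.Abelian
open SGA7

namespace Groth.Agent.S4064

/-- Let P -> F -> R and R -> E -> Q be short exact sequences in an abelian category (F an extension of R
by P, E an extension of Q by R). A blended extension of E by F is an object X with a monomorphism i
: F -> X and an epimorphism p : X -> E such that P -> X -> E (via i) and F -> X -> Q (via p) are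
short exact and F -> X -> E is the composite F -> R -> E. Such an X exists if and only if the
composite of the two extension classes, an element of Ext^2(Q, P), is zero. -/
theorem result {C : Type w} [Category.{v} C] [Abelian C]
    [HasExt.{v'} C] {P F R E Q : C} (a : P ⟶ F) (b : F ⟶ R) (wF : a ≫ b = 0)
    (hF : (ShortComplex.mk a b wF).ShortExact) (c : R ⟶ E) (d : E ⟶ Q) (wE : c ≫ d = 0)
    (hE : (ShortComplex.mk c d wE).ShortExact) :
    (∃ (X : C) (i : F ⟶ X) (p : X ⟶ E), i ≫ p = b ≫ c ∧
        (∃ w : (a ≫ i) ≫ p = 0, (ShortComplex.mk (a ≫ i) p w).ShortExact) ∧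
        (∃ w : i ≫ (p ≫ d) = 0, (ShortComplex.mk i (p ≫ d) w).ShortExact)) ↔
      hE.extClass.comp hF.extClass (rfl : 1 + 1 = 2) = 0 := by
  refine ⟨?_, Groth.Agent.Et18.ExtRealize.exists_blended a b wF hF c d wE hE⟩
  rintro ⟨X, i, p, hip, ⟨w, hX⟩, -⟩
  let φ : ShortComplex.mk a b wF ⟶ ShortComplex.mk (a ≫ i) p w :=
    ⟨𝟙 P, i, c, by simp, hip⟩
  have h := ShortComplex.ShortExact.extClass_naturality hF hX φ
  rw [Ext.comp_mk₀_id] at h
  exact (congrArg (fun t => hE.extClass.comp t (rfl : 1 + 1 = 2)) h).trans
    (hE.extClass_comp_assoc _)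

end Groth.Agent.S4064
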