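import Groth.Statements.S4070
import Groth.Agent.Et18.SepPointOpen
import Groth.Agent.HenselLib.SectionsLift
-- import your own Groth.Agent.* helpers here

set_option autoImplicit false
universe u
open CategoryTheory CategoryTheory.Limits AlgebraicGeometry MonObj
open MonoidalCategory CartesianMonoidalCategory
open SGA7

namespace Groth.Agent.S4070

/-- Let R be a strictly henselian discrete valuation ring (henselian, separably closed residue field)
with fraction field K and N a group scheme over Spec R which is a Néron model of its generic fibre,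
an abelian variety A over K, so that sections of N over Spec R are the K-points of A. Then the
special fibre of N has finitely many connected components, every one of them is met by a section,
and two sections x, y meet the same connected component if and only if x · y⁻¹ meets the connected
component of the unit section: the component group of the special fibre is A(K) modulo the subgroup
of points reducing into the identity component. -/
theorem result (R K : Type u) [CommRing R] [IsDomain R] [IsDiscreteValuationRing R] [HenselianLocalRing R]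
    [IsSepClosed (IsLocalRing.ResidueField R)] [Field K] [Algebra R K] [IsFractionRing R K]
    (N : Over (Spec (CommRingCat.of R))) [GrpObj N] (hN : SGA7.IsNeron R K N)
    [IsProper ((SGA7.genFib R K).obj N).hom] [GeometricallyIntegral ((SGA7.genFib R K).obj N).hom] :
    (Set.range (SGA7.secComp R N)).Finite ∧
    (∀ z ∈ SGA7.specialFibreSet R N, ∃ x : 𝟙_ (Over (Spec (CommRingCat.of R))) ⟶ N, z ∈ SGA7.secComp R N x) ∧
      ∀ x y : 𝟙_ (Over (Spec (CommRingCat.of R))) ⟶ N,
        SGA7.secComp R N x = SGA7.secComp R N y ↔ x * y⁻¹ ∈ SGA7.secUnitComp R N := by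
  obtain ⟨hsm, hsep, hqc, -⟩ := hN
  haveI := hsm
  haveI := hqc
  haveI : IsLocallyNoetherian N.left := LocallyOfFiniteType.isLocallyNoetherian N.hom
  haveI : CompactSpace N.left := QuasiCompact.compactSpace_of_compactSpace N.hom
  haveI : IsNoetherian N.left := {}
  set F := SGA7.specialFibreSet R N with hF
  set cp := IsLocalRing.closedPoint R with hcp
  have hmem : ∀ x : 𝟙_ (Over (Spec (CommRingCat.of R))) ⟶ N, x.left.base cp ∈ F := fun x => by
    change (x.left ≫ N.hom).base cp = cp
    rw [Over.w x]
    rfl
  have hcomp : ∀ x : 𝟙_ (Over (Spec (CommRingCat.of R))) ⟶ N, SGA7.secComp R N x =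
      Subtype.val '' connectedComponent (⟨x.left.base cp, hmem x⟩ : F) := fun x =>
    connectedComponentIn_eq_image (hmem x)
  refine ⟨?_, fun z hz => ?_, fun x y => ?_⟩
  · refine ((Et18.SepPointOpen.finite_range_connectedComponent (α := F)).image
      (Set.image Subtype.val)).subset ?_
    rintro _ ⟨x, rfl⟩
    exact ⟨_, ⟨⟨_, hmem x⟩, rfl⟩, (hcomp x).symm⟩
  · -- every component is met
    obtain ⟨O, hO, hOF⟩ := isOpen_induced_iff.1
      (Et18.SepPointOpen.isOpen_connectedComponent' (⟨z, hz⟩ : F))
    let r : Spec (CommRingCat.of (IsLocalRing.ResidueField R)) ⟶ Spec (CommRingCat.of R) :=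
      Spec.map (CommRingCat.ofHom (IsLocalRing.residue R))
    have hr : Set.range r = {cp} := by
      refine Set.eq_singleton_iff_unique_mem.2 ⟨⟨default, HenselLib.SectionsLift.residue_default⟩, ?_⟩
      rintro _ ⟨a, rfl⟩
      rw [Subsingleton.elim a default]
      exact HenselLib.SectionsLift.residue_default
    have hrange : Set.range (pullback.fst N.hom r) = F := by
      rw [Scheme.Pullback.range_fst, hr]; rfl
    obtain ⟨a, ha⟩ : z ∈ Set.range (pullback.fst N.hom r) := hrange ▸ hz
    have hzO : (⟨z, hz⟩ : F) ∈ Subtype.val ⁻¹' O := hOF ▸ mem_connectedComponent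
    obtain ⟨t, ht, htO⟩ := Et18.SepPointOpen.exists_point_mem (pullback.snd N.hom r)
      ((pullback.fst N.hom r) ⁻¹ᵁ ⟨O, hO⟩) a (by show (pullback.fst N.hom r) a ∈ O; rw [ha]; exact hzO)
    obtain ⟨s, hs, hst⟩ := HenselLib.SectionsLift.exists_section N.hom (t ≫ pullback.fst N.hom r)
      (by rw [Category.assoc, pullback.condition, ← Category.assoc, ht, Category.id_comp])
    let x : 𝟙_ (Over (Spec (CommRingCat.of R))) ⟶ N := Over.homMk s hs
    refine ⟨x, ?_⟩
    have hxO : (⟨x.left.base cp, hmem x⟩ : F) ∈ Subtype.val ⁻¹' O := by
      change s cp ∈ O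
      rw [hcp, ← HenselLib.SectionsLift.residue_default (R := R), ← Scheme.Hom.comp_apply]
      change (r ≫ s) _ ∈ O
      rw [hst]
      exact htO _
    rw [hcomp, connectedComponent_eq (hOF ▸ hxO : (⟨x.left.base cp, hmem x⟩ : F) ∈
      connectedComponent (⟨z, hz⟩ : F)) |>.symm]
    exact ⟨⟨z, hz⟩, mem_connectedComponent, rfl⟩
  · -- translations
    have htr : ∀ c a b : 𝟙_ (Over (Spec (CommRingCat.of R))) ⟶ N,
        a.left.base cp ∈ SGA7.secComp R N b →
        (a * c).left.base cp ∈ SGA7.secComp R N (b * c) := by
      intro c a b hab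
      let τ : N ⟶ N := 𝟙 N * (toUnit N ≫ c)
      have hτ : ∀ e : 𝟙_ (Over (Spec (CommRingCat.of R))) ⟶ N, e ≫ τ = e * c := fun e => by
        simp only [τ, MonObj.comp_mul, Category.comp_id, ← Category.assoc]
        rw [toUnit_unique (e ≫ toUnit N) (𝟙 _), Category.id_comp]
      have happ : ∀ e : 𝟙_ (Over (Spec (CommRingCat.of R))) ⟶ N,
          τ.left.base (e.left.base cp) = (e * c).left.base cp := fun e => by
        rw [← hτ e]; rfl
      have hsub : τ.left.base '' connectedComponentIn F (b.left.base cp) ⊆
          connectedComponentIn F (τ.left.base (b.left.base cp)) := by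
        refine (isPreconnected_connectedComponentIn.image _ τ.left.continuous.continuousOn)
          |>.subset_connectedComponentIn
            (Set.mem_image_of_mem _ (mem_connectedComponentIn (hmem b))) ?_
        rintro _ ⟨w, hw, rfl⟩
        have hwF : w ∈ F := connectedComponentIn_subset F _ hw
        have hw' : N.hom.base w = cp := hwF
        change (τ.left ≫ N.hom).base w = cp
        rw [Over.w τ]
        exact hw'
      have := hsub (Set.mem_image_of_mem _ hab)
      rw [happ, happ] at this
      exact this
    change SGA7.secComp R N x = SGA7.secComp R N y ↔ (x * y⁻¹).left.base cp ∈ SGA7.secComp R N η[N]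
    have h1 : (η[N] : 𝟙_ (Over (Spec (CommRingCat.of R))) ⟶ N) = 1 := by
      rw [CategoryTheory.Hom.one_def, toUnit_unique (toUnit _) (𝟙 _), Category.id_comp]
    rw [h1]
    constructor
    · intro h
      have := htr y⁻¹ x y (h ▸ mem_connectedComponentIn (hmem x))
      rwa [mul_inv_cancel] at this
    · intro h
      have := htr y _ _ h
      rw [inv_mul_cancel_right, _root_.one_mul] at this
      exact (connectedComponentIn_eq this).symm

end Groth.Agent.S4070
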