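import Groth.Statements.S4071
import Groth.Agent.Et18.NeronSections
import Groth.Agent.Et18.NeronComm
import Groth.Agent.AbVarLib.PowEtale
-- import your own Groth.Agent.* helpers here

set_option autoImplicit false
universe u
open CategoryTheory CategoryTheory.Limits AlgebraicGeometry MonObj
open MonoidalCategory
open MonoidalCategory CartesianMonoidalCategory
open SGA7

namespace Groth.Agent.S4071

/-- Let R be a strictly henselian discrete valuation ring with fraction field K, N a group scheme over
Spec R which is a Néron model of its generic fibre, an abelian variety A over K, and n an integer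
invertible in the residue field of R. If x is a section of N (a K-point of A) whose n-th power meets
the connected component of the unit section in the special fibre, then there is a section y with y^n
= 1 such that x · y⁻¹ meets the connected component of the unit section: the n-torsion of the
component group is the image of the n-torsion of A(K). -/
theorem result (R K : Type u) [CommRing R] [IsDomain R] [IsDiscreteValuationRing R] [HenselianLocalRing R]
    [IsSepClosed (IsLocalRing.ResidueField R)] [Field K] [Algebra R K] [IsFractionRing R K]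
    (N : Over (Spec (CommRingCat.of R))) [GrpObj N] (hN : SGA7.IsNeron R K N)
    [IsProper ((SGA7.genFib R K).obj N).hom] [GeometricallyIntegral ((SGA7.genFib R K).obj N).hom]
    (n : ℕ) (hn : (n : IsLocalRing.ResidueField R) ≠ 0)
    (x : 𝟙_ (Over (Spec (CommRingCat.of R))) ⟶ N) (hx : x ^ n ∈ SGA7.secUnitComp R N) :
    ∃ y : 𝟙_ (Over (Spec (CommRingCat.of R))) ⟶ N, y ^ n = 1 ∧ x * y⁻¹ ∈ SGA7.secUnitComp R N := by
  haveI := hN.1
  haveI := hN.2.2.1
  haveI := Et18.NeronComm.isCommMonObj_of_isNeron N hN
  set cp := IsLocalRing.closedPoint R with hcp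
  set F := SGA7.specialFibreSet R N with hF
  have hnu : IsUnit ((n : ℤ) : Γ(Spec (CommRingCat.of R), ⊤)) := by
    have h : IsUnit (n : R) := by
      by_contra h
      exact hn (by
        have : IsLocalRing.residue R (n : R) = 0 :=
          (IsLocalRing.residue_eq_zero_iff _).2 ((IsLocalRing.mem_maximalIdeal _).2 h)
        simpa using this)
    have := h.map (Scheme.ΓSpecIso (CommRingCat.of R)).inv.hom
    simpa using this
  haveI : Etale ((𝟙 N : N ⟶ N) ^ n).left := by
    rw [← zpow_natCast]; exact AbVarLib.etale_zpow N (n : ℤ) hnu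
  let f : N.left ⟶ N.left := ((𝟙 N : N ⟶ N) ^ n).left
  have hfw : f ≫ N.hom = N.hom := Over.w _
  have hpow : ∀ a : 𝟙_ (Over (Spec (CommRingCat.of R))) ⟶ N,
      f.base (a.left.base cp) = (a ^ n).left.base cp := fun a => by
    have : a ≫ ((𝟙 N : N ⟶ N) ^ n) = a ^ n := by rw [MonObj.comp_pow, Category.comp_id]
    rw [← this]; rfl
  -- the open set cutting out the identity component
  haveI : IsLocallyNoetherian N.left := LocallyOfFiniteType.isLocallyNoetherian N.hom
  haveI : CompactSpace N.left := QuasiCompact.compactSpace_of_compactSpace N.hom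
  haveI : AlgebraicGeometry.IsNoetherian N.left := {}
  obtain ⟨O, hO, hOF⟩ := isOpen_induced_iff.1 (Et18.SepPointOpen.isOpen_connectedComponent'
    (⟨(1 : 𝟙_ (Over (Spec (CommRingCat.of R))) ⟶ N).left.base cp, Et18.NeronSections.mem_fibre 1⟩ : F))
  have hC : ∀ w, w ∈ SGA7.secComp R N 1 ↔ w ∈ O ∧ w ∈ F := fun w => by
    rw [SGA7.secComp, connectedComponentIn_eq_image (Et18.NeronSections.mem_fibre 1), ← hOF,
      Subtype.image_preimage_coe]
    exact and_comm
  -- the image of the identity component is a neighbourhood in it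
  let V : Set N.left := f.base '' O
  have hV : IsOpen V := f.isOpenMap O hO
  have hVC : ∀ w ∈ V, w ∈ F → w ∈ SGA7.secComp R N 1 := by
    rintro _ ⟨v, hv, rfl⟩ hw
    have hw' : N.hom.base (f.base v) = cp := hw
    have hvF : v ∈ F := by
      change N.hom.base v = cp
      rw [← hfw]; exact hw'
    have himg : f.base '' SGA7.secComp R N 1 ⊆
        connectedComponentIn F (f.base ((1 : 𝟙_ (Over (Spec (CommRingCat.of R))) ⟶ N).left.base cp)) := by
      refine (isPreconnected_connectedComponentIn.image _ f.continuous.continuousOn).subset_connectedComponentIn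
        (Set.mem_image_of_mem _ (mem_connectedComponentIn (Et18.NeronSections.mem_fibre 1))) ?_
      rintro _ ⟨v', hv', rfl⟩
      have hv'' : N.hom.base v' = cp := ((hC v').1 hv').2
      change N.hom.base (f.base v') = cp
      rw [← Scheme.Hom.comp_apply, hfw]; exact hv''
    have := himg (Set.mem_image_of_mem _ ((hC v).2 ⟨hv, hvF⟩))
    rw [hpow, one_pow] at this
    exact this
  have h1V : (1 : 𝟙_ (Over (Spec (CommRingCat.of R))) ⟶ N).left.base cp ∈ V := by
    refine ⟨_, ((hC _).1 (mem_connectedComponentIn (Et18.NeronSections.mem_fibre 1))).1, ?_⟩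
    rw [hpow, one_pow]
  -- sections with value in `V` are `n`-th powers
  have hroot : ∀ r : 𝟙_ (Over (Spec (CommRingCat.of R))) ⟶ N, r.left.base cp ∈ V →
      ∃ b ∈ SGA7.secUnitComp R N, b ^ n = r := by
    intro r hr
    obtain ⟨w, hwO, hw⟩ := hr
    obtain ⟨y, hy1, hy2⟩ := Scheme.Pullback.exists_preimage_pullback (f := r.left) (g := f) cp w hw.symm
    obtain ⟨s, hs, hsO⟩ := Et18.NeronSections.exists_section_mem (pullback.fst r.left f)
      ((pullback.snd r.left f) ⁻¹ᵁ ⟨O, hO⟩) y (by show (pullback.snd r.left f) y ∈ O; rw [hy2]; exact hwO) hy1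
    let b : 𝟙_ (Over (Spec (CommRingCat.of R))) ⟶ N := Over.homMk (s ≫ pullback.snd r.left f) (by
      rw [← hfw, Category.assoc, ← Category.assoc (pullback.snd r.left f) f N.hom, ← pullback.condition,
        Category.assoc, Over.w r, ← Category.assoc, hs]
      exact Category.id_comp _)
    have hb : b ^ n = r := by
      have : b ≫ ((𝟙 N : N ⟶ N) ^ n) = b ^ n := by rw [MonObj.comp_pow, Category.comp_id]
      rw [← this]
      apply Over.OverMorphism.ext
      change (s ≫ pullback.snd r.left f) ≫ f = r.left
      rw [Category.assoc, ← pullback.condition, ← Category.assoc, hs]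
      exact Category.id_comp _
    refine ⟨b, (Et18.NeronSections.mem_unitComp_iff b).2 ((hC _).2 ⟨hsO, Et18.NeronSections.mem_fibre b⟩), hb⟩
  -- divisibility of the identity component
  have hdiv : ∀ y ∈ SGA7.secUnitComp R N, ∃ z ∈ SGA7.secUnitComp R N, z ^ n = y := by
    intro y hy
    let W : Set N.left := (Et18.NeronSections.trans N y⁻¹).left.base ⁻¹' V
    have hW : IsOpen W := hV.preimage (Et18.NeronSections.trans N y⁻¹).left.continuous
    have hyW : y.left.base cp ∈ W := by
      show (Et18.NeronSections.trans N y⁻¹).left.base _ ∈ V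
      rw [Et18.NeronSections.trans_apply, mul_inv_cancel]; exact h1V
    obtain ⟨v, hvC, hvV, hvW, hvO⟩ := (Et18.NeronSections.isIrreducible_secComp (1 : 𝟙_ (Over (Spec (CommRingCat.of R))) ⟶ N)).2
      V (W ∩ O) hV (hW.inter hO) ⟨_, mem_connectedComponentIn (Et18.NeronSections.mem_fibre 1), h1V⟩
      ⟨_, (Et18.NeronSections.mem_unitComp_iff y).1 hy, hyW,
        ((hC _).1 ((Et18.NeronSections.mem_unitComp_iff y).1 hy)).1⟩
    obtain ⟨s, hs, hsV⟩ := Et18.NeronSections.exists_section_mem N.hom
      ⟨V ∩ W, hV.inter hW⟩ v ⟨hvV, hvW⟩ ((hC v).1 hvC).2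
    let r : 𝟙_ (Over (Spec (CommRingCat.of R))) ⟶ N := Over.homMk s hs
    obtain ⟨b, hb, hbr⟩ := hroot r hsV.1
    obtain ⟨a, ha, har⟩ := hroot (r * y⁻¹) (by
      rw [← Et18.NeronSections.trans_apply]; exact hsV.2)
    refine ⟨a⁻¹ * b, Et18.NeronSections.mul_mem_unitComp (Et18.NeronSections.inv_mem_unitComp ha) hb, ?_⟩
    rw [_root_.mul_pow, inv_pow, har, hbr]
    rw [mul_inv_rev, inv_inv, inv_mul_cancel_right]
  obtain ⟨z, hz, hzx⟩ := hdiv (x ^ n) hx
  refine ⟨x * z⁻¹, ?_, ?_⟩
  · rw [_root_.mul_pow, inv_pow, hzx, mul_inv_cancel]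
  · rw [mul_inv_rev, inv_inv, mul_comm z, mul_inv_cancel_left]
    exact hz

end Groth.Agent.S4071
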