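import Groth.Statements.S4075
import Groth.Agent.Et18.TorsionSpecialise
-- import your own Groth.Agent.* helpers here

set_option autoImplicit false
universe u
open CategoryTheory CategoryTheory.Limits AlgebraicGeometry MonObj
open MonoidalCategory CartesianMonoidalCategory
open SGA7

namespace Groth.Agent.S4075

/-- Let R be a henselian discrete valuation ring with fraction field K, Ω a separable closure of K, W a
valuation subring of Ω lying over R, N a group scheme over Spec R which is a Néron model of its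
generic fibre A = N_K, an abelian variety, and m an integer invertible in the residue field. For an
m-torsion Ω-point x of A, the inertia group at W fixes x if and only if the point of N underlying x
specialises to a point of the special fibre of N (x factors through the finite part of the m-torsion
of N): the fixed part of the m-torsion is the inertia invariants. -/
theorem result (R K Ω : Type u) [CommRing R] [IsDomain R]
    [IsDiscreteValuationRing R] [HenselianLocalRing R] [Field K] [Algebra R K] [IsFractionRing R K]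
    [Field Ω] [Algebra K Ω] [IsSepClosure K Ω] (W : ValuationSubring Ω) (hW : SGA7.LiesOver K R W)
    (N : Over (Spec (CommRingCat.of R))) [GrpObj N] (hN : SGA7.IsNeron R K N)
    [IsProper ((SGA7.genFib R K).obj N).hom] [GeometricallyIntegral ((SGA7.genFib R K).obj N).hom]
    (m : ℕ) (hm : (m : IsLocalRing.ResidueField R) ≠ 0)
    (x : SGA7.Pts Ω ((SGA7.genFib R K).obj N)) (hx : x ^ m = 1) :
    (∀ σ : Ω ≃ₐ[K] Ω, SGA7.IsInertia W σ → SGA7.galAct σ x = x) ↔
      ∃ z ∈ SGA7.specialFibreSet R N,
        (x.left ≫ pullback.fst N.hom (Spec.map (CommRingCat.ofHom (algebraMap R K)))).base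
          (IsLocalRing.closedPoint Ω) ⤳ z := by
  letI : Algebra R Ω := ((algebraMap K Ω).comp (algebraMap R K)).toAlgebra
  haveI : IsScalarTower R K Ω := IsScalarTower.of_algebraMap_eq fun _ => rfl
  refine ⟨fun hfix => Et18.TorsionSpecialise.exists_specialization_of_fixed N hN hW x hfix, ?_⟩
  rintro ⟨z, hz, hspec⟩ σ hσ
  haveI := hN.1
  haveI := hN.2.1
  haveI := hN.2.2.1
  haveI := Et18.NeronComm.isCommMonObj_of_isNeron N hN
  have hmΓ : IsUnit ((m : ℤ) : Γ(Spec (CommRingCat.of R), ⊤)) := by
    have h : IsUnit (m : R) := by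
      by_contra h
      exact hm (by
        have : IsLocalRing.residue R (m : R) = 0 :=
          (IsLocalRing.residue_eq_zero_iff _).2 ((IsLocalRing.mem_maximalIdeal _).2 h)
        simpa using this)
    have := h.map (Scheme.ΓSpecIso (CommRingCat.of R)).inv.hom
    simpa using this
  let j := Spec.map (CommRingCat.ofHom (algebraMap R K))
  let adj := Over.mapPullbackAdj j
  let Q := SGA7.pt (K := K) Ω
  let P := (Over.map j).obj Q
  letI : GrpObj ((Over.pullback j).obj N) := Functor.grpObjObj
  have hmul : ∀ a b : P ⟶ N, adj.homEquiv Q N (a * b) = adj.homEquiv Q N a * adj.homEquiv Q N b :=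
    fun a b => by
      rw [Adjunction.homEquiv_unit, Adjunction.homEquiv_unit, Adjunction.homEquiv_unit, Functor.map_mul,
        MonObj.comp_mul]
  let Φ : (P ⟶ N) →* (Q ⟶ (Over.pullback j).obj N) :=
    MonoidHom.mk' (fun a => adj.homEquiv Q N a) hmul
  obtain ⟨yb, rfl⟩ := (adj.homEquiv Q N).surjective x
  have hyb : yb ^ m = 1 := (adj.homEquiv Q N).injective (by
    change Φ (yb ^ m) = Φ 1
    rw [map_pow, map_one]; exact hx)
  suffices hgoal : (Over.map j).map (SGA7.specAut σ) ≫ yb = yb by
    rw [SGA7.galAct, ← Adjunction.homEquiv_naturality_left, hgoal]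
  have hxy : (adj.homEquiv Q N yb).left ≫ pullback.fst N.hom j = yb.left := by
    simp only [adj, j]
    simp [Over.mapPullbackAdj]
    erw [pullback.lift_fst]
  have hP : P.hom = eqToHom (rfl : P.left = Spec (CommRingCat.of Ω)) ≫ Spec.map (CommRingCat.ofHom (algebraMap R Ω)) := by
    change Spec.map _ ≫ Spec.map _ = 𝟙 _ ≫ _
    rw [← Spec.map_comp, Category.id_comp]
    rfl
  obtain ⟨l, hl₁, hl₂⟩ := Et18.TorsionSpecialise.exists_extension N hW m hmΓ rfl hP yb hyb z hz (by
    have e : (adj.homEquiv Q N yb).left ≫ pullback.fst N.hom j = eqToHom rfl ≫ yb.left :=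
      hxy.trans (Category.id_comp _).symm
    rw [← e]
    exact hspec)
  haveI : Etale ((𝟙 N : N ⟶ N) ^ m).left := by
    rw [← zpow_natCast]; exact AbVarLib.etale_zpow N (m : ℤ) hmΓ
  -- the valuation ring
  let PW : Over (Spec (CommRingCat.of R)) :=
    Over.mk (Spec.map (CommRingCat.ofHom (Et18.TorsionSpecialise.toW (K := K) hW)))
  let g : P ⟶ PW := Over.homMk (Spec.map (CommRingCat.ofHom W.subtype)) (by
    change Spec.map _ ≫ Spec.map _ = Spec.map _ ≫ Spec.map _
    rw [← Spec.map_comp, ← Spec.map_comp]; rfl)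
  let zW : PW ⟶ N := Over.homMk l hl₁
  have hgz : g ≫ zW = yb := Over.OverMorphism.ext (hl₂.trans (Category.id_comp _))
  have hginj : ∀ a b : PW ⟶ N, g ≫ a = g ≫ b → a = b := fun a b h => by
    have h' : Spec.map (CommRingCat.ofHom (algebraMap W Ω)) ≫ a.left =
        Spec.map (CommRingCat.ofHom (algebraMap W Ω)) ≫ b.left := congrArg (·.left) h
    have huniq := IsSeparated.valuativeCriterion N.hom
      ⟨W, Ω, Spec.map (CommRingCat.ofHom (algebraMap W Ω)) ≫ a.left, PW.hom, ⟨by
        rw [Category.assoc, Over.w a]⟩⟩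
    exact Over.OverMorphism.ext (congrArg CommSq.LiftStruct.l
      (@Subsingleton.elim _ huniq ⟨a.left, rfl, Over.w a⟩ ⟨b.left, h'.symm, Over.w b⟩))
  have hzm : zW ^ m = 1 := hginj _ _ (by rw [MonObj.comp_pow, hgz, hyb, MonObj.comp_one])
  let σW : W →+* W := ((σ : Ω →+* Ω).comp W.subtype).codRestrict W.toSubring fun w => (hσ w.1 w.2).1
  have hσiW : σW.comp (Et18.TorsionSpecialise.toW (K := K) hW) = Et18.TorsionSpecialise.toW (K := K) hW :=
    RingHom.ext fun r => Subtype.ext (σ.commutes (algebraMap R K r))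
  let s : PW ⟶ PW := Over.homMk (Spec.map (CommRingCat.ofHom σW)) (by
    change Spec.map _ ≫ Spec.map _ = Spec.map _
    rw [← Spec.map_comp, ← CommRingCat.ofHom_comp, hσiW])
  have hgs : (Over.map j).map (SGA7.specAut σ) ≫ g = g ≫ s := by
    apply Over.OverMorphism.ext
    change Spec.map _ ≫ Spec.map _ = Spec.map _ ≫ Spec.map _
    rw [← Spec.map_comp, ← Spec.map_comp]; rfl
  let κ : Spec (CommRingCat.of (IsLocalRing.ResidueField W)) ⟶ PW.left :=
    Spec.map (CommRingCat.ofHom (IsLocalRing.residue W))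
  have hκ : κ ≫ s.left = κ := by
    change Spec.map _ ≫ Spec.map _ = Spec.map _
    rw [← Spec.map_comp, ← CommRingCat.ofHom_comp]
    congr 2
    ext w
    rw [RingHom.comp_apply]
    refine sub_eq_zero.1 ?_
    rw [← map_sub, IsLocalRing.residue_eq_zero_iff]
    exact (W.valuation_lt_one_iff _).2 (hσ w.1 w.2).2
  let Pκ : Over (Spec (CommRingCat.of R)) := Over.mk (κ ≫ PW.hom)
  let κ' : Pκ ⟶ PW := Over.homMk κ rfl
  have hκ' : κ' ≫ s = κ' := Over.OverMorphism.ext hκ
  let t : PW ⟶ N := zW⁻¹ * (s ≫ zW)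
  have ht : t ^ m = 1 := by
    rw [_root_.mul_pow, inv_pow, hzm, ← MonObj.comp_pow, hzm, MonObj.comp_one, inv_one, _root_.mul_one]
  have htκ : κ' ≫ t = 1 := by
    rw [MonObj.comp_mul, GrpObj.comp_inv, ← Category.assoc, hκ', inv_mul_cancel]
  have hw : ∀ (a : PW ⟶ N), a ≫ (𝟙 N) ^ m = a ^ m := fun a => by rw [MonObj.comp_pow, Category.comp_id]
  have ht1 : t = 1 := by
    refine Over.OverMorphism.ext ?_
    have htl : κ ≫ t.left = κ ≫ (1 : PW ⟶ N).left :=
      congrArg (·.left) (htκ.trans (MonObj.comp_one κ').symm)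
    haveI : IsSeparated (((𝟙 N : N ⟶ N) ^ m).left ≫ N.hom) := by rw [Over.w]; infer_instance
    haveI : IsSeparated ((𝟙 N : N ⟶ N) ^ m).left := IsSeparated.of_comp _ N.hom
    haveI : PreconnectedSpace PW.left := inferInstanceAs (PreconnectedSpace (PrimeSpectrum W))
    haveI : Nonempty Pκ.left := inferInstanceAs (Nonempty (PrimeSpectrum (IsLocalRing.ResidueField W)))
    refine Groth.Agent.FEtLib.eq_of_preconnected ((𝟙 N : N ⟶ N) ^ m).left _ _ κ htl ?_
    exact congrArg (·.left) ((hw t).trans ((ht.trans (one_pow m).symm).trans (hw 1).symm))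
  have hsz : s ≫ zW = zW := (inv_mul_eq_one.1 ht1).symm
  rw [← hgz, ← Category.assoc, hgs, Category.assoc, hsz]

end Groth.Agent.S4075
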