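import Groth.Statements.S4091
import Groth.Agent.AlgSpLib.FppfSource

set_option autoImplicit false
universe u
open CategoryTheory MonoidalCategory CartesianMonoidalCategory MonObj GrpObj AlgebraicGeometry CategoryTheory.Limits
open GrpQ

namespace Groth.Agent.S4091

/-- Let p : X → Y and q : Y → S be morphisms of schemes with p surjective, flat and of finite
presentation. If p ≫ q is of finite type then q is of finite type; if p ≫ q is of finite
presentation then q is of finite presentation. -/
theorem result {X Y S : Scheme.{u}} (p : X ⟶ Y) (q : Y ⟶ S)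
    [Surjective p] [Flat p] [LocallyOfFinitePresentation p] [QuasiCompact p] [QuasiSeparated p] :
    ((LocallyOfFiniteType (p ≫ q) ∧ QuasiCompact (p ≫ q)) → (LocallyOfFiniteType q ∧ QuasiCompact q)) ∧
    ((LocallyOfFinitePresentation (p ≫ q) ∧ QuasiCompact (p ≫ q) ∧ QuasiSeparated (p ≫ q)) →
      (LocallyOfFinitePresentation q ∧ QuasiCompact q ∧ QuasiSeparated q)) := by
  have hqc : QuasiCompact (p ≫ q) → QuasiCompact q := fun h => by
    refine ⟨fun U hU hUc => ?_⟩
    have := (QuasiCompact.isCompact_preimage (f := p ≫ q) U hU hUc).image p.continuous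
    convert this using 1
    rw [Scheme.Hom.comp_base, TopCat.coe_comp, Set.preimage_comp]
    exact (Set.image_preimage_eq _ p.surjective).symm
  refine ⟨fun ⟨h1, h2⟩ => ⟨AlgSpLib.lft_of_comp_fppf p q h1, hqc h2⟩,
    fun ⟨h1, h2, h3⟩ => ⟨AlgSpLib.lfp_of_comp_fppf p q h1, hqc h2, ⟨⟨fun U hU hUc => ?_⟩⟩⟩⟩
  let m := pullback.map (p ≫ q) (p ≫ q) q q p p (𝟙 _) (Category.comp_id _) (Category.comp_id _)
  have : QuasiCompact m := MorphismProperty.pullbackMap (P := @QuasiCompact) inferInstance inferInstance rfl rfl
  have hd : pullback.diagonal (p ≫ q) ≫ m = p ≫ pullback.diagonal q := by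
    apply pullback.hom_ext
    · rw [Category.assoc, Category.assoc, pullback.lift_fst, pullback.diagonal_fst, pullback.diagonal_fst_assoc,
        Category.comp_id]
    · rw [Category.assoc, Category.assoc, pullback.lift_snd, pullback.diagonal_snd, pullback.diagonal_snd_assoc,
        Category.comp_id]
  have h4 := (QuasiCompact.isCompact_preimage (f := pullback.diagonal (p ≫ q) ≫ m) U hU hUc).image p.continuous
  rw [hd, Scheme.Hom.comp_base, TopCat.coe_comp, Set.preimage_comp,
    Set.image_preimage_eq _ p.surjective] at h4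
  exact h4

end Groth.Agent.S4091
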