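import Groth.Statements.S4096
import Groth.Agent.GrpQLib.GraphImage

set_option backward.isDefEq.respectTransparency.types false

set_option autoImplicit false
universe u
open CategoryTheory MonoidalCategory CartesianMonoidalCategory MonObj GrpObj AlgebraicGeometry CategoryTheory.Limits
open GrpQ

namespace Groth.Agent.S4096

/-- Let S be noetherian, G an S-group scheme flat and of finite type acting on an S-scheme X of finite
type, d = (d₀, d₁) : G ×_S X → X ×_S X, and F the stabilizer of the diagonal. Then a) d factors as ψ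
: G ×_S X → Y surjective, flat and locally of finite presentation followed by a monomorphism τ : Y →
X ×_S X (Y represents the sheaf image of d) if and only if F is flat over X; b) in that case the two
morphisms Y → X induced by the projections are surjective, flat and of finite presentation. -/
theorem result (S : Scheme.{u}) [IsNoetherian S] (G X : Over S) [GrpObj G]
    [Flat G.hom] [LocallyOfFiniteType G.hom] [QuasiCompact G.hom] [LocallyOfFiniteType X.hom] [QuasiCompact X.hom]
    (a : AlgGrp.Action G X) :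
    ((∃ (Y : Over S) (ψ : G ⊗ X ⟶ Y) (τ : Y ⟶ X ⊗ X), ψ ≫ τ = lift a.act (snd G X) ∧
        Surjective ψ.left ∧ Flat ψ.left ∧ LocallyOfFinitePresentation ψ.left ∧ Mono τ) ↔
      Flat (pullback.snd (lift a.act (snd G X)) (lift (𝟙 X) (𝟙 X))).left) ∧
    (∀ (Y : Over S) (ψ : G ⊗ X ⟶ Y) (τ : Y ⟶ X ⊗ X), ψ ≫ τ = lift a.act (snd G X) →
      Surjective ψ.left → Flat ψ.left → LocallyOfFinitePresentation ψ.left → Mono τ →
      (Surjective (τ ≫ fst X X).left ∧ Flat (τ ≫ fst X X).left ∧ LocallyOfFinitePresentation (τ ≫ fst X X).left ∧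
        QuasiCompact (τ ≫ fst X X).left ∧ QuasiSeparated (τ ≫ fst X X).left ∧
       Surjective (τ ≫ snd X X).left ∧ Flat (τ ≫ snd X X).left ∧ LocallyOfFinitePresentation (τ ≫ snd X X).left ∧
        QuasiCompact (τ ≫ snd X X).left ∧ QuasiSeparated (τ ≫ snd X X).left)) := by
  have : Surjective G.hom := by
    have hw := Over.w η[G]
    have : Surjective (η[G].left ≫ G.hom) := by rw [hw]; exact inferInstanceAs (Surjective (𝟙 S))
    exact Surjective.of_comp η[G].left G.hom
  have : LocallyOfFinitePresentation G.hom := LocallyOfFinitePresentation.iff_locallyOfFiniteType.2 ‹_›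
  have hsnd : Surjective (snd G X).left ∧ Flat (snd G X).left ∧ LocallyOfFinitePresentation (snd G X).left ∧
      QuasiCompact (snd G X).left :=
    have sq := IsPullback.of_hasPullback G.hom X.hom
    ⟨MorphismProperty.of_isPullback (P := @Surjective) sq ‹_›, MorphismProperty.of_isPullback (P := @Flat) sq ‹_›,
      MorphismProperty.of_isPullback (P := @LocallyOfFinitePresentation) sq ‹_›,
      MorphismProperty.of_isPullback (P := @QuasiCompact) sq ‹_›⟩
  have hact : Surjective a.act.left ∧ Flat a.act.left ∧ LocallyOfFinitePresentation a.act.left ∧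
      QuasiCompact a.act.left :=
    ⟨AlgGrpLib.act_of_hom a @Surjective ‹_›, AlgGrpLib.act_of_hom a @Flat ‹_›,
      AlgGrpLib.act_of_hom a @LocallyOfFinitePresentation ‹_›, AlgGrpLib.act_of_hom a @QuasiCompact ‹_›⟩
  constructor
  · rw [← GrpQLib.flat_fst_iff a]
    constructor
    · rintro ⟨Y, ψ, τ, e, _, _, _, _⟩
      have : Mono τ.left := inferInstanceAs (Mono ((Over.forget S).map τ))
      exact GrpQLib.flat_fst_of_factor _ ψ.left τ.left (congrArg (fun z => z.left) e)
    · intro h
      have : IsLocallyNoetherian X.left := LocallyOfFiniteType.isLocallyNoetherian X.hom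
      have h1 : LocallyOfFiniteType (X ⊗ X).hom :=
        inferInstanceAs (LocallyOfFiniteType (pullback.fst X.hom X.hom ≫ X.hom))
      have : IsLocallyNoetherian (X ⊗ X).left := LocallyOfFiniteType.isLocallyNoetherian (X ⊗ X).hom
      have h2 : LocallyOfFiniteType ((GrpQLib.graph a).left ≫ (X ⊗ X).hom) := by
        rw [Over.w]; exact inferInstanceAs (LocallyOfFiniteType (pullback.fst G.hom X.hom ≫ G.hom))
      have : LocallyOfFiniteType (GrpQLib.graph a).left := locallyOfFiniteType_of_comp _ (X ⊗ X).hom
      have : LocallyOfFinitePresentation (GrpQLib.graph a).left :=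
        LocallyOfFinitePresentation.iff_locallyOfFiniteType.2 ‹_›
      obtain ⟨X', f', f'', h1, h2, h3, h4, e⟩ := GrpQLib.exists_factor (GrpQLib.graph a).left
      let Y : Over S := Over.mk (f'' ≫ (X ⊗ X).hom)
      refine ⟨Y, Over.homMk f' ?_, Over.homMk f'', Over.OverMorphism.ext e, h1, h2, h3, ?_⟩
      · show f' ≫ f'' ≫ (X ⊗ X).hom = (G ⊗ X).hom
        rw [reassoc_of% e, Over.w]
      · exact Over.mono_of_mono_left (Over.homMk f'' : Y ⟶ X ⊗ X)
  · intro Y ψ τ e _ _ _ _
    obtain ⟨_, _, _, _⟩ := hsnd
    obtain ⟨_, _, _, _⟩ := hact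
    obtain ⟨a1, a2, a3, a4, a5⟩ := GrpQLib.image_proj_props ψ (τ ≫ fst X X) a.act (by rw [reassoc_of% e, lift_fst])
    exact ⟨a1, a2, a3, a4, a5, GrpQLib.image_proj_props ψ (τ ≫ snd X X) (snd G X) (by rw [reassoc_of% e, lift_snd])⟩

end Groth.Agent.S4096
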