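import Groth.Statements.S4097
import Groth.Agent.GrpdLib.FlatStabQuot
import Groth.Agent.GrpdLib.ActGrpd

set_option autoImplicit false
set_option backward.isDefEq.respectTransparency.types false
universe u
open CategoryTheory MonoidalCategory CartesianMonoidalCategory MonObj GrpObj AlgebraicGeometry CategoryTheory.Limits
open GrpQ

namespace Groth.Agent.S4097

/-- Let S be noetherian, G an S-group scheme flat and of finite type acting on an S-scheme X of finite
type, and suppose that the stabilizer F of the diagonal is flat over X, or that X is reduced. Then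
there is a dense open U of X, saturated for the action, and a coequalizer p : U → V in schemes of
the induced pair d₀|, d₁| : d₁⁻¹(U) ⇉ U, with V of finite type over S and p surjective, flat and of
finite presentation. -/
theorem result (S : Scheme.{u}) [IsNoetherian S] (G X : Over S) [GrpObj G]
    [Flat G.hom] [LocallyOfFiniteType G.hom] [QuasiCompact G.hom] [LocallyOfFiniteType X.hom] [QuasiCompact X.hom]
    (a : AlgGrp.Action G X)
    (hF : Flat (pullback.snd (lift a.act (snd G X)) (lift (𝟙 X) (𝟙 X))).left ∨ IsReduced X.left) :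
    ∃ (U : X.left.Opens) (hU : a.act.left ⁻¹ᵁ U = (snd G X).left ⁻¹ᵁ U), Dense (U : Set X.left) ∧
      ∃ (V : Scheme.{u}) (p : (U : Scheme.{u}) ⟶ V)
        (w : a.act.left.resLE U ((snd G X).left ⁻¹ᵁ U) hU.ge ≫ p = ((snd G X).left ∣_ U) ≫ p) (q : V ⟶ S),
        Nonempty (IsColimit (Cofork.ofπ p w)) ∧ p ≫ q = U.ι ≫ X.hom ∧
        Surjective p ∧ Flat p ∧ LocallyOfFinitePresentation p ∧ LocallyOfFiniteType q ∧ QuasiCompact q := by
  let Gr := Groth.Agent.GrpdLib.ActGrpd.grpd a
  haveI : Flat Gr.s := inferInstanceAs (Flat (pullback.snd G.hom X.hom))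
  haveI : LocallyOfFiniteType Gr.s := inferInstanceAs (LocallyOfFiniteType (pullback.snd G.hom X.hom))
  haveI : QuasiCompact Gr.s := inferInstanceAs (QuasiCompact (pullback.snd G.hom X.hom))
  haveI : LocallyOfFiniteType Gr.pU := inferInstanceAs (LocallyOfFiniteType X.hom)
  haveI : QuasiCompact Gr.pU := inferInstanceAs (QuasiCompact X.hom)
  have hF' : Flat Gr.stabilizerToU ∨ IsReduced Gr.U := by
    refine hF.imp (fun hF => ?_) id
    have sq := (IsPullback.of_hasPullback (lift a.act (snd G X)) (lift (𝟙 X) (𝟙 X))).map (Over.forget S)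
    have ej : Gr.j = (lift a.act (snd G X)).left := by
      rw [Over.lift_left]; rfl
    have ed : Gr.diag = (lift (𝟙 X) (𝟙 X)).left := by
      rw [Over.lift_left]; rfl
    have sq' : IsPullback (pullback.fst (lift a.act (snd G X)) (lift (𝟙 X) (𝟙 X))).left
        (pullback.snd (lift a.act (snd G X)) (lift (𝟙 X) (𝟙 X))).left Gr.j Gr.diag := by
      rw [ej, ed]; exact sq
    have : Gr.stabilizerToU = sq'.isoPullback.inv ≫ (pullback.snd (lift a.act (snd G X)) (lift (𝟙 X) (𝟙 X))).left :=
      sq'.isoPullback_inv_snd.symm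
    rw [this]
    exact (MorphismProperty.cancel_left_of_respectsIso @Flat _ _).2 hF
  exact Groth.Agent.GrpdLib.FlatStab.exists_dense_quotient Gr hF'

end Groth.Agent.S4097
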