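import Groth.Statements.S4100
import Groth.Agent.SGA3cLib.TransitiveSep
import Groth.Agent.SGA3cLib.LocNoetherian
import Groth.Agent.SGA3cLib.GeomConn
import Mathlib.AlgebraicGeometry.Morphisms.FiniteType

set_option autoImplicit false
universe u
open CategoryTheory MonoidalCategory CartesianMonoidalCategory MonObj GrpObj AlgebraicGeometry CategoryTheory.Limits
open SGA3

namespace Groth.Agent.S4100

open Groth.Agent.VarietyLib (mem_genericPoints_iff exists_genericPoints_specializes
  eq_of_specializes_genericPoints generalizing_genericPoints) in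
theorem exists_max_nhd {S : Scheme.{u}} {G X : Over S} [GrpObj G] [LocallyOfFiniteType G.hom]
    [LocallyOfFiniteType X.hom] (a : AlgGrp.Action G X) (hΦ : Surjective (lift a.act (snd G X)).left)
    (s : S) (hconn : _root_.IsConnected (G.hom.base ⁻¹' {s})) :
    ∃ U : X.left.Opens, IsSeparated (U.ι ≫ X.hom) ∧
      ∀ ξ : X.left, (∀ y, X.hom.base y = X.hom.base ξ → y ⤳ ξ → y = ξ) → X.hom.base ξ = s → ξ ∈ U := by
  by_cases hne : ∃ x₀ : X.left, X.hom.base x₀ = s
  swap
  · push Not at hne
    refine ⟨⊥, ?_, fun ξ _ h => absurd h (hne ξ)⟩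
    haveI : IsAffine ((⊥ : X.left.Opens) : Scheme.{u}) := isAffineOpen_bot X.left
    exact IsSeparated.of_comp ((⊥ : X.left.Opens).ι ≫ X.hom) (Limits.terminal.from S)
  let κ := S.residueField s
  let K := AlgebraicClosure κ
  let l : Spec (CommRingCat.of K) ⟶ Spec κ := Spec.map (CommRingCat.ofHom (algebraMap κ K))
  let j : Spec (CommRingCat.of K) ⟶ S := l ≫ S.fromSpecResidueField s
  have hj : ∀ t, j.base t = s := fun t => (S.range_fromSpecResidueField s).le ⟨l.base t, rfl⟩
  let T := Over.mk j
  let XT := pullback X.hom j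
  let GT := pullback G.hom j
  haveI : LocallyOfFiniteType (pullback.snd X.hom j) := MorphismProperty.pullback_snd (P := @LocallyOfFiniteType) _ _ inferInstance
  haveI : LocallyOfFiniteType (pullback.snd G.hom j) := MorphismProperty.pullback_snd (P := @LocallyOfFiniteType) _ _ inferInstance
  haveI : IsLocallyNoetherian GT := LocallyOfFiniteType.isLocallyNoetherian (pullback.snd G.hom j)
  haveI : JacobsonSpace ↥XT := LocallyOfFiniteType.jacobsonSpace (pullback.snd X.hom j)
  -- connectedness of the geometric fibre of `G`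
  haveI : PreconnectedSpace ↥GT := by
    let F := G.hom.fiber s
    let fF := G.hom.fiberToSpecResidueField s
    let e : Spec κ ⟶ F := pullback.lift (S.fromSpecResidueField s ≫ η[G].left) (𝟙 _) (by
      rw [Category.assoc, Category.id_comp]
      exact (congrArg (S.fromSpecResidueField s ≫ ·) (Over.w η[G])).trans (Category.comp_id _))
    haveI : PreconnectedSpace ↥F := by
      refine ⟨(G.hom.fiberι s).isEmbedding.isInducing.isPreconnected_image.mp ?_⟩
      rw [Set.image_univ, G.hom.range_fiberι]
      exact hconn.isPreconnected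
    let e0 := e.base (IsLocalRing.closedPoint κ)
    have h := SGA3cLib.isPreconnected_preimage_connectedComponent κ fF e (pullback.lift_snd _ _ _) e0 ⟨_, rfl⟩ l
    rw [PreconnectedSpace.connectedComponent_eq_univ, Set.preimage_univ] at h
    haveI : PreconnectedSpace ↥(pullback fF l) := ⟨h⟩
    let i : pullback fF l ≅ GT := pullbackLeftPullbackSndIso G.hom (S.fromSpecResidueField s) l
    exact i.hom.homeomorph.surjective.denseRange.preconnectedSpace i.hom.continuous
  -- a rational point of the geometric fibre of `X`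
  obtain ⟨x₀, hx₀⟩ := hne
  obtain ⟨w₀, hw₀, -⟩ := Scheme.Pullback.exists_preimage_pullback (f := X.hom) (g := j) x₀
    (IsLocalRing.closedPoint K) (hx₀.trans (hj _).symm)
  obtain ⟨c, -, hc⟩ := nonempty_inter_closedPoints (X := XT) ⟨w₀, Set.mem_univ w₀⟩ isOpen_univ.isLocallyClosed
  let σ := pointOfClosedPoint (pullback.snd X.hom j) c hc
  have hσ : σ ≫ pullback.snd X.hom j = 𝟙 _ := pointOfClosedPoint_comp _ _ _
  let z : T ⟶ X := Over.homMk (σ ≫ pullback.fst X.hom j) (by
    rw [Category.assoc, pullback.condition, ← Category.assoc]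
    exact (congrArg (· ≫ j) hσ).trans (Category.id_comp j))
  let o : G ⊗ T ⟶ X ⊗ T := lift (SGA3cLib.smulPt a (fst G T) (snd G T ≫ z)) (snd G T)
  have hos : Surjective o.left := SGA3cLib.surjective_orbit a hΦ z
  obtain ⟨ζ, hζ, -⟩ := exists_genericPoints_specializes (α := ↥XT) c
  -- a single maximal point
  have huniq : ∀ ζ' ∈ genericPoints ↥XT, ζ' = ζ := by
    have key : ∀ ζ' ∈ genericPoints ↥XT, ∃ ω ∈ genericPoints ↥GT, o.left.base ω = ζ' := by
      intro ζ' hζ'
      obtain ⟨u, hu⟩ := o.left.surjective ζ'
      obtain ⟨ω, hω, hωu⟩ := exists_genericPoints_specializes (α := ↥GT) u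
      have t := hωu.map o.left.continuous
      rw [hu] at t
      exact ⟨ω, hω, eq_of_specializes_genericPoints hζ' t⟩
    intro ζ' hζ'
    obtain ⟨ω₁, h₁, rfl⟩ := key ζ' hζ'
    obtain ⟨ω₂, h₂, rfl⟩ := key ζ hζ
    rw [SGA3cLib.eq_of_genericPoints_of_connected GT
      (fun h h' t t' => SGA3cLib.eq_of_specializes_of_homogeneous (SGA3cLib.regAction (Red.bc j G))
        (SGA3cLib.surjective_regAction _) h h' t t') h₁ h₂]
  let ξ₀ := (pullback.fst X.hom j).base ζ
  obtain ⟨U, hU, hξ₀, -⟩ := exists_isAffineOpen_mem_and_subset (U := (⊤ : X.left.Opens)) (x := ξ₀) trivial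
  refine ⟨U, ?_, fun ξ hξ hs => ?_⟩
  · haveI : IsAffine (U : Scheme.{u}) := hU
    exact IsSeparated.of_comp (U.ι ≫ X.hom) (Limits.terminal.from S)
  · obtain ⟨w, hw, -⟩ := Scheme.Pullback.exists_preimage_pullback (f := X.hom) (g := j) ξ
      (IsLocalRing.closedPoint K) (hs.trans (hj _).symm)
    obtain ⟨ω, hω, hωw⟩ := exists_genericPoints_specializes (α := ↥XT) w
    have t := hωw.map (pullback.fst X.hom j).continuous
    rw [hw] at t
    have : (pullback.fst X.hom j).base ω = ξ := by
      refine hξ _ ?_ t
      change (pullback.fst X.hom j ≫ X.hom).base ω = _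
      rw [pullback.condition]
      exact (hj _).trans hs.symm
    rw [← this, huniq ω hω]
    exact hξ₀

/-- Let G be an S-group scheme locally of finite presentation and universally open over S with connected
fibres, acting on an S-scheme X locally of finite presentation over S in such a way that the
morphism G ×_S X → X ×_S X, (g, x) ↦ (g·x, x), is surjective. Then X is separated over S. -/
theorem result (S : Scheme.{u}) (G X : Over S) [GrpObj G]
    [LocallyOfFinitePresentation G.hom] [UniversallyOpen G.hom]
    (hconn : ∀ s : S, _root_.IsConnected (G.hom.base ⁻¹' {s}))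
    [LocallyOfFinitePresentation X.hom] (a : AlgGrp.Action G X)
    (hΦ : Surjective (lift a.act (snd G X)).left) : IsSeparated X.hom := by
  refine SGA3cLib.isSeparated_of_transitive a inferInstance ?_ hΦ fun s => exists_max_nhd a hΦ s (hconn s)
  exact ⟨⊤, fun _ => trivial, inferInstance⟩

end Groth.Agent.S4100
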