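import Groth.Statements.S4104
import Groth.Agent.HopfLib.FaithfullyFlat
import Groth.Agent.S4103
import Groth.Agent.S6372
import Mathlib.Algebra.Category.Ring.Epi
-- import your own Groth.Agent.* helpers here

set_option autoImplicit false
universe u
open CategoryTheory MonoidalCategory CartesianMonoidalCategory MonObj GrpObj AlgebraicGeometry CategoryTheory.Limits
open SGA3

namespace Groth.Agent.S4104

/-- Let φ : A' → A be a bialgebra map between commutative Hopf algebras over a field k (a homomorphism
of affine k-groups Spec A → Spec A', not necessarily of finite type). If the corresponding morphism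
of schemes is a monomorphism, i.e. φ is an epimorphism in the category of commutative rings, then φ
is surjective (the homomorphism is a closed immersion). -/
theorem result (k : Type u) [Field k] (A' A : Type u) [CommRing A'] [HopfAlgebra k A']
    [CommRing A] [HopfAlgebra k A] (φ : A' →ₐc[k] A)
    (hepi : ∀ (R : Type u) [CommRing R] (f g : A →+* R), f.comp (φ : A' →+* A) = g.comp (φ : A' →+* A) → f = g) :
    Function.Surjective φ := by
  let B : Subalgebra k A := (φ : A' →ₐ[k] A).range
  have hB : SGA3.IsHopfSubalgebra k A B := by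
    refine ⟨?_, ?_⟩
    · rintro _ ⟨a, rfl⟩
      refine ⟨TensorProduct.map (φ : A' →ₐ[k] A).rangeRestrict.toLinearMap
        (φ : A' →ₐ[k] A).rangeRestrict.toLinearMap (CoalgebraStruct.comul (R := k) a), ?_⟩
      rw [← LinearMap.comp_apply, ← TensorProduct.map_comp]
      exact CoalgHomClass.map_comp_comul_apply φ a
    · rintro _ ⟨a, rfl⟩
      exact ⟨HopfAlgebraStruct.antipode (R := k) a, Groth.Agent.HopfLib.map_antipode' φ a⟩
  have := Groth.Agent.S4103.result k A B hB
  have : Algebra.IsEpi ↥B A := by
    refine CommRingCat.epi_iff_epi.1 ⟨fun {T} f g e => ?_⟩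
    refine CommRingCat.hom_ext (hepi T f.hom g.hom (RingHom.ext fun a => ?_))
    exact RingHom.congr_fun (congrArg CommRingCat.Hom.hom e) ⟨φ a, a, rfl⟩
  intro a
  obtain ⟨⟨b, c, hc⟩, hb⟩ := (Groth.Agent.S6372.result ↥B A).2 a
  exact ⟨c, hc.trans hb⟩

end Groth.Agent.S4104
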