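import Groth.Statements.S4107
import Groth.Agent.CohDer1.AntiAffSmooth
import Groth.Agent.AlgGrpLib.AffineHullMain
-- import your own Groth.Agent.* helpers here

set_option autoImplicit false
universe u
open CategoryTheory MonoidalCategory CartesianMonoidalCategory MonObj GrpObj AlgebraicGeometry CategoryTheory.Limits
open SGA3

namespace Groth.Agent.S4107

/-- Let G be an algebraic group over a field k, ρ : G → Spec O(G) the canonical morphism and N = Ker ρ,
the fibre of ρ over the image of the unit section. Then O(N) = k (the structure morphism N → Spec k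
induces an isomorphism on global sections), and N is smooth over k and connected. (The source adds
that N is commutative and characteristic in G.) -/
theorem result (k : Type u) [Field k] (G : Over (Spec (CommRingCat.of k))) [GrpObj G]
    [LocallyOfFiniteType G.hom] [QuasiCompact G.hom] :
    IsIso (pullback.snd G.left.toSpecΓ (η[G].left ≫ G.left.toSpecΓ) ≫ (𝟙_ (Over (Spec (CommRingCat.of k)))).hom).appTop ∧
    Smooth (pullback.snd G.left.toSpecΓ (η[G].left ≫ G.left.toSpecΓ) ≫ (𝟙_ (Over (Spec (CommRingCat.of k)))).hom) ∧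
    ConnectedSpace ↥(pullback G.left.toSpecΓ (η[G].left ≫ G.left.toSpecΓ)) := by
  obtain ⟨g, hρ, hs, hf, hl⟩ := Groth.Agent.AlgGrpLib.AffineHull.affinization G
  haveI := hs; haveI := hf; haveI := hl
  let ρ := Groth.Agent.AlgGrpLib.toAffOf G
  let N : Over (Spec (CommRingCat.of k)) := Over.mk (pullback.snd G.left.toSpecΓ (η[G].left ≫ G.left.toSpecΓ) ≫ (𝟙_ (Over (Spec (CommRingCat.of k)))).hom)
  have hη : (η[Groth.Agent.AlgGrpLib.affOf G]).left = η[G].left ≫ G.left.toSpecΓ := by
    rw [← IsMonHom.one_hom ρ, Over.comp_left]; rfl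
  let i : N ⟶ G := Over.homMk (pullback.fst _ _) (by
    show pullback.fst _ _ ≫ G.hom = pullback.snd _ _ ≫ _
    have h1 : G.left.toSpecΓ ≫ (Groth.Agent.AlgGrpLib.affOf G).hom = G.hom := Over.w ρ
    conv_lhs => rw [← h1]
    rw [pullback.condition_assoc, Category.assoc, h1, Over.w η[G]])
  have hk : AlgGrp.IsKernel i ρ := by
    refine IsPullback.of_map_of_faithful (Over.forget (Spec (CommRingCat.of k))) ?_
    have h2 : (toUnit N).left = pullback.snd G.left.toSpecΓ (η[G].left ≫ G.left.toSpecΓ) :=
      (Category.comp_id _).symm.trans ((Over.w (toUnit N)).trans (Category.comp_id _))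
    show IsPullback (pullback.fst _ _) (toUnit N).left G.left.toSpecΓ (η[Groth.Agent.AlgGrpLib.affOf G]).left
    rw [h2, hη]
    exact IsPullback.of_hasPullback _ _
  have hb := Groth.Agent.AlgGrpLib.AffineHull.bijective_appTop_kernel G i hk
  obtain ⟨gN, hi⟩ := Groth.Agent.AlgGrpLib.exists_grpObj_kernel ρ i hk
  haveI : IsClosedImmersion η[Groth.Agent.AlgGrpLib.affOf G].left := inferInstance
  haveI : IsClosedImmersion i.left :=
    MorphismProperty.of_isPullback (P := @IsClosedImmersion) (hk.map (Over.forget _)).flip ‹_›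
  haveI : LocallyOfFiniteType N.hom := by rw [← Over.w i]; infer_instance
  haveI : QuasiCompact N.hom := by rw [← Over.w i]; infer_instance
  exact ⟨(ConcreteCategory.isIso_iff_bijective _).2 hb, Groth.Agent.CohDer1.AntiAff.smooth N hb,
    Groth.Agent.AlgGrpLib.connectedSpace_of_bijective (Y := N) hb⟩

end Groth.Agent.S4107
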