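import Groth.Statements.S4113
import Groth.Agent.SGA3cLib.DeligneField
import Mathlib.RingTheory.Unramified.Basic
import Mathlib.RingTheory.Etale.Field
import Mathlib.RingTheory.Etale.Basic

set_option autoImplicit false
universe u
open CategoryTheory MonoidalCategory CartesianMonoidalCategory MonObj GrpObj AlgebraicGeometry CategoryTheory.Limits
open SGA3

namespace Groth.Agent.S4113

open WithConv in
theorem comp_inv (k : Type u) [Field k] (A : Type u) [CommRing A] [HopfAlgebra k A] {X : Type u}
    [CommRing X] [Algebra k X] (F : A →ₐ[k] X) :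
    toConv F * toConv (F.comp (toConv (AlgHom.id k A))⁻¹.ofConv) = (1 : WithConv (A →ₐ[k] X)) ∧
      toConv (F.comp (toConv (AlgHom.id k A))⁻¹.ofConv) * toConv F = (1 : WithConv (A →ₐ[k] X)) := by
  have h1 : toConv (F.comp (1 : WithConv (A →ₐ[k] A)).ofConv) = (1 : WithConv (A →ₐ[k] X)) := by
    apply WithConv.ext
    apply AlgHom.ext
    intro a
    simp
  constructor
  · rw [← h1, ← mul_inv_cancel (toConv (AlgHom.id k A)), AlgHom.comp_convMul_distrib]; simp
  · rw [← h1, ← inv_mul_cancel (toConv (AlgHom.id k A)), AlgHom.comp_convMul_distrib]; simp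

open WithConv in
theorem formallyUnramified (k : Type u) [Field k] (A : Type u) [CommRing A] [HopfAlgebra k A]
    [Module.Finite k A] (h : (Module.finrank k A : k) ≠ 0) : Algebra.FormallyUnramified k A := by
  rw [Algebra.FormallyUnramified.iff_comp_injective]
  intro B _ _ I hI f g hfg
  set n := Module.finrank k A
  let mk : B →ₐ[k] B ⧸ I := Ideal.Quotient.mkₐ k I
  let S : WithConv (A →ₐ[k] A) := (toConv (AlgHom.id k A))⁻¹
  let v : WithConv (A →ₐ[k] B) := toConv (f.comp S.ofConv) * toConv g
  have hv : toConv f * v = toConv g := by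
    change toConv f * (_ * _) = _
    rw [← _root_.mul_assoc, (comp_inv k A f).1, _root_.one_mul]
  have hv1 : toConv (mk.comp v.ofConv) = (1 : WithConv (A →ₐ[k] B ⧸ I)) := by
    have h1 := congrArg (fun w : WithConv (A →ₐ[k] B) => toConv (mk.comp w.ofConv)) hv
    simp only [AlgHom.comp_convMul_distrib, ofConv_toConv, toConv_ofConv] at h1
    change mk.comp f = mk.comp g at hfg
    rw [← hfg] at h1
    have h2 := congrArg (fun w => toConv ((mk.comp f).comp S.ofConv) * w) h1
    simp only [← _root_.mul_assoc] at h2
    erw [(comp_inv k A (mk.comp f)).2, _root_.one_mul] at h2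
    exact h2
  have hvn : v ^ n = 1 := by
    have h1 := Groth.Agent.SGA3cLib.pow_ofConv_comp v.ofConv (toConv (AlgHom.id k A)) n
    rw [ofConv_toConv, AlgHom.comp_id, toConv_ofConv] at h1
    apply WithConv.ext
    rw [← h1, Groth.Agent.SGA3cLib.pow_finrank_eq_one k A]
    apply AlgHom.ext
    intro a
    simp
  let δ : WithConv (A →ₗ[k] B) := toConv v.ofConv.toLinearMap - 1
  have hδ : ∀ a, δ a ∈ I := by
    intro a
    rw [← Ideal.Quotient.eq_zero_iff_mem]
    have h1 := DFunLike.congr_fun (congrArg WithConv.ofConv hv1) a
    simp only [ofConv_toConv, AlgHom.comp_apply, AlgHom.convOne_apply] at h1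
    simp [δ, mk] at h1 ⊢
    rw [h1]
    exact sub_self _
  have hδ2 : δ * δ = 0 := by
    apply WithConv.ext
    apply LinearMap.ext
    intro a
    change (δ * δ).ofConv a = 0
    rw [LinearMap.convMul_apply]
    induction Coalgebra.comul (R := k) a using TensorProduct.induction_on with
    | zero => simp
    | tmul x y =>
      rw [TensorProduct.map_tmul, LinearMap.mul'_apply]
      have := Ideal.mul_mem_mul (hδ x) (hδ y)
      rwa [← pow_two, hI] at this
    | add x y hx hy => rw [map_add, map_add, hx, hy, add_zero]
  have hbin : ∀ m : ℕ, (1 + δ) ^ m = 1 + m • δ := by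
    intro m
    induction m with
    | zero => simp
    | succ m ih =>
      rw [pow_succ, ih, mul_add, _root_.mul_one, add_mul, _root_.one_mul, smul_mul_assoc, hδ2, smul_zero, add_zero,
        succ_nsmul, add_assoc]
  have hz : δ = 0 := by
    have h1 := hbin n
    have h2 : (1 + δ) ^ n = 1 := by
      have : 1 + δ = toConv v.ofConv.toLinearMap := by simp [δ]
      rw [this, ← AlgHom.toLinearMap_convOne, ← hvn, AlgHom.toLinearMap_convPow]
    rw [h2] at h1
    have h3 : (n : k) • δ = 0 := by rw [Nat.cast_smul_eq_nsmul]; simpa using h1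
    exact (smul_eq_zero.mp h3).resolve_left h
  have hv0 : v = 1 := by
    apply WithConv.ext
    apply AlgHom.toLinearMap_injective
    apply WithConv.toConv_injective
    rw [AlgHom.toLinearMap_convOne]
    exact sub_eq_zero.mp hz
  have h2 := congrArg WithConv.ofConv hv
  rw [hv0, _root_.mul_one, ofConv_toConv, ofConv_toConv] at h2
  exact h2

/-- Let A be a finite-dimensional commutative Hopf algebra over a field k (a finite algebraic k-group of
rank dim A). If the rank is invertible in k then A is an etale k-algebra. -/
theorem result (k : Type u) [Field k] (A : Type u) [CommRing A] [HopfAlgebra k A]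
    [Module.Finite k A] (h : (Module.finrank k A : k) ≠ 0) : Algebra.Etale k A := by
  haveI := formallyUnramified k A h
  haveI : Algebra.FormallyEtale k A := Algebra.FormallyEtale.iff_formallyUnramified_of_field.mpr inferInstance
  exact ⟨inferInstance, Algebra.FinitePresentation.of_finiteType.mp inferInstance⟩

end Groth.Agent.S4113
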