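import Groth.Statements.S4114
import Groth.Agent.IsoTriv.SchemeSpec
import Groth.Agent.SGA3bLib.Torsion
import Groth.Agent.SGA3cLib.DeligneField
import Mathlib.AlgebraicGeometry.Morphisms.FlatRank
-- import your own Groth.Agent.* helpers here

set_option autoImplicit false
set_option linter.style.haveILetI false
universe u
open CategoryTheory MonoidalCategory CartesianMonoidalCategory MonObj GrpObj AlgebraicGeometry CategoryTheory.Limits
open SGA3

namespace Groth.Agent.S4114

open CoactBr TensorProduct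

set_option backward.isDefEq.respectTransparency.types false

/-- The identity to the power `n`, as an algebra map. -/
theorem pow_id_sp {R : Type u} [CommRing R] (A : Type u) [CommRing A] [HopfAlgebra R A] (n : ℕ) :
    ((𝟙 (sp R A) : sp R A ⟶ sp R A)) ^ n = pt (SGA3b.powConv R A n) := by
  induction n with
  | zero => rw [pow_zero, one_eq_pt, SGA3b.powConv, pow_zero]; rfl
  | succ n ih =>
    rw [pow_succ, ih, ← pt_id (R := R) (B := A), pt_mul_pt, SGA3b.powConv, SGA3b.powConv, pow_succ]
    congr 1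
    refine AlgHom.ext fun x => ?_
    simp only [AlgHom.comp_apply, Bialgebra.comulAlgHom_apply, AlgHom.convMul_apply]

/-- The algebra statement. -/
theorem powConv_eq {R : Type u} [CommRing R] [_root_.IsReduced R] (A : Type u) [CommRing A] [HopfAlgebra R A]
    [Module.Finite R A] [Module.Projective R A] (n : ℕ)
    (hn : ∀ p : PrimeSpectrum R, Module.rankAtStalk A p = n) :
    SGA3b.powConv R A n = (Algebra.ofId R A).comp (Bialgebra.counitAlgHom R A) := by
  refine AlgHom.ext fun a => ?_
  rw [← sub_eq_zero]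
  set d := SGA3b.powConv R A n a - ((Algebra.ofId R A).comp (Bialgebra.counitAlgHom R A)) a
  refine (Module.forall_dual_apply_eq_zero_iff R d).mp fun φ => ?_
  refine (mem_nilradical.mp ?_).eq_zero
  rw [nilradical_eq_sInf]
  refine Submodule.mem_sInf.mpr fun (p : Ideal R) (hp : p.IsPrime) => ?_
  let k := p.ResidueField
  have h0 : (1 : k) ⊗ₜ[R] d = 0 := by
    have hr : Module.finrank k (k ⊗[R] A) = n := by
      rw [← hn ⟨p, hp⟩, Module.rankAtStalk_eq]
    have h := SGA3cLib.pow_finrank_eq_one k (k ⊗[R] A)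
    rw [hr] at h
    have h' : SGA3b.powConv k (k ⊗[R] A) n = (1 : WithConv (k ⊗[R] A →ₐ[k] k ⊗[R] A)).ofConv :=
      congrArg WithConv.ofConv h
    rw [SGA3bLib.powConv_baseChange] at h'
    have h'' := AlgHom.congr_fun h' ((1 : k) ⊗ₜ[R] a)
    simp only [Algebra.TensorProduct.map_tmul, AlgHom.coe_id, id_eq] at h''
    rw [show d = _ from rfl, TensorProduct.tmul_sub, sub_eq_zero, h'']
    simp [Algebra.ofId_apply, Algebra.algebraMap_eq_smul_one, Algebra.TensorProduct.one_def]
  have h1 := congrArg (TensorProduct.rid R k ∘ φ.lTensor k) h0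
  simp only [Function.comp_apply, map_zero, LinearMap.lTensor_tmul, TensorProduct.rid_tmul] at h1
  rwa [Algebra.smul_def, _root_.mul_one, Ideal.algebraMap_residueField_eq_zero] at h1

/-- The theorem over an affine base. -/
theorem affine {R : Type u} [CommRing R] [_root_.IsReduced R] (G : Over (Spec (CommRingCat.of R))) [GrpObj G] (n : ℕ)
    (hG : Mor2.IsFinLocFreeOfDeg n G.hom) : (𝟙 G : G ⟶ G) ^ n = 1 := by
  obtain ⟨⟨hfin, hflat, hfp⟩, hrank⟩ := hG
  haveI := hfin; haveI := hflat; haveI := hfp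
  haveI : IsAffine G.left := isAffine_of_isAffineHom G.hom
  obtain ⟨A, _, _, ⟨e⟩⟩ := IsoTriv.SchemeSpec.exists_spec G
  let φ : G ⟶ sp R A := e.hom.hom.hom
  let ψ : sp R A ⟶ G := e.inv.hom.hom
  haveI : IsMonHom φ := e.hom.hom.isMonHom_hom
  have hφψ : φ ≫ ψ = 𝟙 G := congrArg (fun z => z.hom.hom) e.hom_inv_id
  have hψφ : ψ ≫ φ = 𝟙 _ := congrArg (fun z => z.hom.hom) e.inv_hom_id
  haveI : IsIso φ.left := ⟨ψ.left, congrArg CommaMorphism.left hφψ, congrArg CommaMorphism.left hψφ⟩
  have hw : φ.left ≫ (sp R A).hom = G.hom := Over.w φ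
  have hg : (sp R A).hom = inv φ.left ≫ G.hom := by rw [← hw]; simp
  haveI : IsFinite (inv φ.left ≫ G.hom) := MorphismProperty.comp_mem _ _ _ inferInstance hfin
  haveI : Flat (inv φ.left ≫ G.hom) := MorphismProperty.comp_mem _ _ _ inferInstance hflat
  haveI : LocallyOfFinitePresentation (inv φ.left ≫ G.hom) := MorphismProperty.comp_mem _ _ _ inferInstance hfp
  haveI h1 : IsFinite (sp R A).hom := hg ▸ inferInstance
  haveI h2 : Flat (sp R A).hom := hg ▸ inferInstance
  haveI h3 : LocallyOfFinitePresentation (sp R A).hom := hg ▸ inferInstance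
  haveI : Module.Finite R A := RingHom.finite_algebraMap.mp ((IsFinite.SpecMap_iff (CommRingCat.ofHom (algebraMap R A))).mp h1)
  haveI : Module.Flat R A := RingHom.flat_algebraMap_iff.mp ((Flat.SpecMap_iff (f := CommRingCat.ofHom (algebraMap R A))).mp h2)
  haveI : Algebra.FinitePresentation R A := RingHom.finitePresentation_algebraMap.mp
    ((LocallyOfFinitePresentation.SpecMap_iff (CommRingCat.ofHom (algebraMap R A))).mp h3)
  haveI : Module.FinitePresentation R A := Module.FinitePresentation.of_finite_of_finitePresentation R A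
  haveI : Module.Projective R A := Module.Flat.projective_of_finitePresentation
  have hn : ∀ p : PrimeSpectrum R, Module.rankAtStalk A p = n := fun p => by
    rw [← Scheme.Hom.finrank_SpecMap_algebraMap]
    refine Eq.trans ?_ (hrank p)
    have := Scheme.Hom.finrank_comp_left_of_isIso (inv φ.left) G.hom
    rw [← hg] at this
    exact congrFun this p
  have key : (𝟙 (sp R A) : sp R A ⟶ sp R A) ^ n = 1 := by
    rw [pow_id_sp, powConv_eq A n hn, one_eq_pt]
  have h : φ ^ n = 1 := by
    rw [← Category.comp_id φ, ← MonObj.comp_pow, key, MonObj.comp_one]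
  have h2 : ((𝟙 G : G ⟶ G) ^ n) ≫ φ = φ ^ n := by rw [MonObj.pow_comp, Category.id_comp]
  calc (𝟙 G : G ⟶ G) ^ n = (((𝟙 G : G ⟶ G) ^ n) ≫ φ) ≫ ψ := by rw [Category.assoc, hφψ, Category.comp_id]
    _ = ((1 : G ⟶ G) ≫ φ) ≫ ψ := by rw [h2, h, MonObj.one_comp φ]
    _ = 1 := by rw [Category.assoc, hφψ, Category.comp_id]

/-- Let S be a reduced scheme and G an S-group scheme which is finite locally free of constant rank n
over S. Then the n-th power morphism of G is the trivial endomorphism (g ↦ gⁿ factors through the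
unit section). -/
theorem result (S : Scheme.{u}) [IsReduced S] (G : Over S) [GrpObj G] (n : ℕ)
    (hG : Mor2.IsFinLocFreeOfDeg n G.hom) : (𝟙 G : G ⟶ G) ^ n = 1 := by
  obtain ⟨⟨hfin, hflat, hfp⟩, hrank⟩ := hG
  haveI := hfin; haveI := hflat; haveI := hfp
  apply Over.OverMorphism.ext
  let 𝒰 := S.affineCover
  refine Scheme.Cover.hom_ext (𝒰.pullback₁ G.hom) _ _ fun i => ?_
  change pullback.fst G.hom (𝒰.f i) ≫ _ = pullback.fst G.hom (𝒰.f i) ≫ _
  haveI : IsReduced (𝒰.X i) := isReduced_of_isOpenImmersion (𝒰.f i)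
  let F := Over.pullback (𝒰.f i)
  letI hgr : GrpObj (F.obj G) := Functor.grpObjObj
  have h : (𝟙 (F.obj G) : F.obj G ⟶ F.obj G) ^ n = 1 := by
    refine @affine _ _ ((affine_isReduced_iff _).mp ‹IsReduced (𝒰.X i)›) (F.obj G) hgr n ⟨⟨?_, ?_, ?_⟩, fun y => ?_⟩
    · exact inferInstanceAs (IsFinite (pullback.snd G.hom (𝒰.f i)))
    · exact inferInstanceAs (Flat (pullback.snd G.hom (𝒰.f i)))
    · exact inferInstanceAs (LocallyOfFinitePresentation (pullback.snd G.hom (𝒰.f i)))
    · exact (Scheme.Hom.finrank_pullback_snd G.hom (𝒰.f i) y).trans (hrank _)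
  have h1 : F.map ((𝟙 G : G ⟶ G) ^ n) = F.map (1 : G ⟶ G) := by
    have e := map_pow (Functor.homMonoidHom F (X := G) (M := G)) (𝟙 G) n
    have e1 := map_one (Functor.homMonoidHom F (X := G) (M := G))
    refine e.trans (Eq.trans ?_ e1.symm)
    rw [show (Functor.homMonoidHom F) (𝟙 G) = 𝟙 (F.obj G) from F.map_id G]
    exact h
  have h2 := congrArg (fun z : F.obj G ⟶ F.obj G => z.left ≫ pullback.fst G.hom (𝒰.f i)) h1
  simp only [F, Over.pullback_map_left, pullback.lift_fst] at h2
  exact h2

end Groth.Agent.S4114
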