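import Groth.Statements.S4118
import Groth.Agent.MaxTorus26.Basic
import Groth.Agent.SGA3cLib.MTTransporter
import Groth.Agent.SGA3cLib.TorusBasic

set_option autoImplicit false
set_option linter.style.haveILetI false
set_option backward.isDefEq.respectTransparency.types false
universe u
open CategoryTheory MonoidalCategory CartesianMonoidalCategory MonObj GrpObj AlgebraicGeometry CategoryTheory.Limits
open SGA3x

namespace Groth.Agent.S4118

/-- Let G be an S-group scheme, smooth, separated and of finite type over S, and i : T → G a maximal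
torus. Then the centralizer of T is represented by a closed subgroup scheme c : C → G which is a
Cartan subgroup of G (smooth over S with Cartan geometric fibres); T factors through C as a maximal
torus of C, and every maximal torus of C coincides with T (as a subgroup of C). -/
theorem result (S : Scheme.{u}) (G : Over S) [GrpObj G]
    [Smooth G.hom] [IsSeparated G.hom] [QuasiCompact G.hom]
    (T : Over S) [GrpObj T] (i : T ⟶ G) (hT : Red.IsMaximalTorus i) :
    ∃ (C : Over S) (_ : GrpObj C) (c : C ⟶ G), Red.IsCentralizerOf i c ∧ IsClosedImmersion c.left ∧ SGA3x.IsCartan c ∧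
      ∃ i' : T ⟶ C, i' ≫ c = i ∧ Red.IsMaximalTorus i' ∧
        ∀ (T' : Over S) [GrpObj T'] (j : T' ⟶ C), Red.IsMaximalTorus j → ∃ φ : T' ≅ T, φ.hom ≫ i' = j := by
  obtain ⟨hhom, hmono, hTt, hmax⟩ := hT
  haveI := hhom
  haveI := hmono
  have hTm : SGA3x.IsMultTypeFT T := Groth.Agent.MultExt26.isMultTypeFT_of_torus T hTt
  obtain ⟨C, gC, c, hc, hcl, hsm⟩ := Groth.Agent.SGA3cLib.MTTransporter.exists_centralizer i
    (Groth.Agent.SGA3cLib.CentralFib.locally_of_multTypeFT hTm)
  haveI := hc.1
  haveI := hc.2.1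
  haveI := hsm
  haveI := hcl
  haveI : IsSeparated C.hom := by rw [← Over.w c]; infer_instance
  obtain ⟨i', hi'⟩ := (hc.2.2 T i).2 fun X' x h => by
    rw [← MonObj.mul_comp, ← MonObj.mul_comp, Groth.Agent.SGA3cLib.torus_mul_comm hTt]
  haveI : Mono (i' ≫ c) := hi'.symm ▸ hmono
  haveI : Mono i' := mono_of_mono i' c
  haveI : IsMonHom i' := Groth.Agent.SGA3cLib.BCPoints.isMonHom_of_mul i' fun X x y => by
    rw [← cancel_mono c, MonObj.mul_comp (x ≫ i') (y ≫ i') c, Category.assoc, Category.assoc, Category.assoc, hi',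
      MonObj.mul_comp]
  have hi'max : Red.IsMaximalTorus i' := by
    refine ⟨inferInstance, inferInstance, hTt, fun s T' _ j _ _ f hT' hfj => ?_⟩
    haveI : (Over.pullback (Red.geomPt s)).IsRightAdjoint := (Over.mapPullbackAdj _).isRightAdjoint
    let c₀ : Red.geomFibre s C ⟶ Red.geomFibre s G := (Over.pullback (Red.geomPt s)).map c
    haveI : IsMonHom c₀ := inferInstanceAs (IsMonHom ((Over.pullback (Red.geomPt s)).map c))
    haveI : Mono c₀ := inferInstanceAs (Mono ((Over.pullback (Red.geomPt s)).map c))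
    exact hmax s T' (j ≫ c₀) f hT' (by rw [← Category.assoc, hfj, ← Functor.map_comp, hi'])
  have hcentral : ∀ (X : Over S) (g : X ⟶ C) (t : X ⟶ T), g * (t ≫ i') = (t ≫ i') * g := fun X g t => by
    rw [← cancel_mono c, MonObj.mul_comp, MonObj.mul_comp, Category.assoc, hi']
    have h := (hc.2.2 X (g ≫ c)).1 ⟨g, rfl⟩ X (𝟙 X) t
    rwa [Category.id_comp] at h
  refine ⟨C, gC, c, hc, hcl, ⟨inferInstance, inferInstance, hsm, fun s => ?_⟩, i', hi', hi'max, fun T' _ j hj => ?_⟩
  · obtain ⟨h1, h2, -⟩ := Groth.Agent.MaxTorus26.isCentralizerOf_bc (Red.geomPt s) hc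
    exact ⟨h1, h2, Red.geomFibre s T, inferInstance, (Over.pullback (Red.geomPt s)).map i,
      Groth.Agent.MaxTorus26.isMaximalTorus_geom ⟨hhom, hmono, hTt, hmax⟩ s,
      Groth.Agent.MaxTorus26.isCentralizerOf_bc (Red.geomPt s) hc⟩
  · exact Groth.Agent.MaxTorus26.exists_iso_of_central hi'max hj hcentral

end Groth.Agent.S4118
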