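import Groth.Statements.S8392
import Groth.Agent.SGA3cLib.DSChar
import Groth.Agent.SGA3cLib.FpqcEpi

set_option autoImplicit false
universe u
open CategoryTheory MonoidalCategory CartesianMonoidalCategory MonObj GrpObj AlgebraicGeometry
open SGA3x

namespace Groth.Agent.S8392

open Groth.Agent.SGA3cLib in
theorem gaFn_eq_zero {S U : Scheme.{u}} (g : U ⟶ S) {H : Over S} [GrpObj H] (u : H ⟶ Red.Ga S) [IsMonHom u]
    {M : Type} [AddCommGroup M] (e : Red.bc g H ≅ Red.DS U M) [IsMonHom e.inv] {R : CommRingCat.{u}}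
    (v : Spec R ⟶ U) (W : Over U) (w : W.left ⟶ Spec R) (hw : w ≫ v = W.hom) (p : W ⟶ Red.DS U M) :
    Red.gaFn (toPt g e p ≫ u) = 0 := by
  classical
  let P := Multiplicative M
  let ψ : ∀ {W : Over U}, (W ⟶ Red.DS U M) → Γ(W.left, ⊤) := fun {W} p =>
    Red.gaFn (X := (Over.map g).obj W) (toPt g e p ≫ u)
  have ψmul : ∀ {W : Over U} (p p' : W ⟶ Red.DS U M), ψ (p * p') = ψ p + ψ p' := fun p p' => by
    show Red.gaFn _ = _
    rw [toPt_mul]
    exact (congrArg Red.gaFn (MonObj.mul_comp (toPt g e p) (toPt g e p') u)).trans (gaFn_mul _ _)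
  have ψcomp : ∀ {W W' : Over U} (f : W' ⟶ W) (p : W ⟶ Red.DS U M), ψ (f ≫ p) = f.left.appTop (ψ p) := fun f p => by
    show Red.gaFn _ = _
    rw [toPt_comp, Category.assoc, gaFn_comp]
    rfl
  let A : CommRingCat.{u} := CommRingCat.of (MonoidAlgebra R P)
  let C : R ⟶ A := CommRingCat.ofHom MonoidAlgebra.singleOneRingHom
  let W₁ : Over U := Over.mk (Spec.map C ≫ v)
  obtain ⟨tu, htu⟩ := exists_dsPt (W := W₁) ((Scheme.ΓSpecIso A).inv.hom.toMonoidHom.comp (MonoidAlgebra.of R P))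
  let f : MonoidAlgebra R P := (Scheme.ΓSpecIso A).hom (ψ tu)
  have formula : ∀ (W : Over U) (w : W.left ⟶ Spec R), w ≫ v = W.hom → ∀ p : W ⟶ Red.DS U M,
      ψ p = MonoidAlgebra.liftNCRingHom (theta w) (dsFn p) (fun _ _ => Commute.all _ _) f := by
    intro W w hw p
    let L : MonoidAlgebra R P →+* Γ(W.left, ⊤) :=
      MonoidAlgebra.liftNCRingHom (theta w) (dsFn p) (fun _ _ => Commute.all _ _)
    have hC : C ≫ CommRingCat.ofHom L = CommRingCat.ofHom (theta w) := by
      ext r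
      show L (MonoidAlgebra.single 1 r) = _
      simp [L, MonoidAlgebra.liftNCRingHom]
    let h : W ⟶ W₁ := Over.homMk (W.left.toSpecΓ ≫ Spec.map (CommRingCat.ofHom L)) (by
      show (W.left.toSpecΓ ≫ Spec.map (CommRingCat.ofHom L)) ≫ Spec.map C ≫ v = W.hom
      rw [Category.assoc, ← Spec.map_comp_assoc, hC, ← Category.assoc, toSpecΓ_SpecMap_theta, hw])
    have hp : h ≫ tu = p := by
      refine dsFn_injective (MonoidHom.ext fun m => ?_)
      rw [dsFn_comp, htu]
      refine (appTop_toSpecΓ_SpecMap (CommRingCat.ofHom L) _).trans ?_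
      show L (MonoidAlgebra.single m 1) = _
      simp [L, MonoidAlgebra.liftNCRingHom]
    rw [← hp, ψcomp, show ψ tu = (Scheme.ΓSpecIso A).inv f from (Iso.hom_inv_id_apply _ _).symm, hp]
    exact appTop_toSpecΓ_SpecMap (CommRingCat.ofHom L) f
  let E : CommRingCat.{u} := CommRingCat.of (MonoidAlgebra R (P × P))
  let C₂ : R ⟶ E := CommRingCat.ofHom MonoidAlgebra.singleOneRingHom
  let W₂ : Over U := Over.mk (Spec.map C₂ ≫ v)
  let mk : (P →* P × P) → (P →* Γ(W₂.left, ⊤)) := fun φ =>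
    (Scheme.ΓSpecIso E).inv.hom.toMonoidHom.comp ((MonoidAlgebra.of R (P × P)).comp φ)
  let i₁ : P →* P × P := MonoidHom.inl _ _
  let i₂ : P →* P × P := MonoidHom.inr _ _
  let d : P →* P × P := (MonoidHom.id _).prod (MonoidHom.id _)
  obtain ⟨p₁, hp₁⟩ := exists_dsPt (mk i₁)
  obtain ⟨p₂, hp₂⟩ := exists_dsPt (mk i₂)
  obtain ⟨p₃, hp₃⟩ := exists_dsPt (mk d)
  have hp : p₁ * p₂ = p₃ := dsFn_injective (MonoidHom.ext fun m => by
    rw [dsFn_mul, hp₁, hp₂, hp₃]
    simp only [mk, MonoidHom.comp_apply]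
    rw [← map_mul, ← map_mul]
    congr 2
    exact Prod.ext (_root_.mul_one _) (_root_.one_mul _))
  have hpt : ∀ (φ : P →* P × P) (p : W₂ ⟶ Red.DS U M), dsFn p = mk φ →
      ψ p = (Scheme.ΓSpecIso E).inv (MonoidAlgebra.mapDomainRingHom R φ f) := fun φ p hφ => by
    rw [formula W₂ (Spec.map C₂) rfl p, hφ]
    refine (DFunLike.congr_fun (f := MonoidAlgebra.liftNCRingHom _ _ _)
      (g := (Scheme.ΓSpecIso E).inv.hom.comp (MonoidAlgebra.mapDomainRingHom R φ)) ?_ f)
    refine MonoidAlgebra.ringHom_ext (fun r => ?_) (fun m => ?_)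
    · have h0 : theta (Spec.map C₂) r = (Scheme.ΓSpecIso E).inv (C₂ r) := theta_SpecMap C₂ r
      simp [MonoidAlgebra.liftNCRingHom, theta] at h0 ⊢
      refine h0.trans ?_
      have h1 : MonoidAlgebra.mapDomain (⇑φ) (MonoidAlgebra.single (1 : P) r) = MonoidAlgebra.single 1 r := by
        rw [MonoidAlgebra.mapDomain_single, map_one]
      show _ = (Scheme.ΓSpecIso E).inv (MonoidAlgebra.mapDomain (⇑φ) (MonoidAlgebra.single (1 : P) r))
      rw [h1]
      rfl
    · simp [MonoidAlgebra.liftNCRingHom, mk]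
      show _ = (Scheme.ΓSpecIso E).inv (MonoidAlgebra.mapDomain (⇑φ) (MonoidAlgebra.single m (1 : R)))
      rw [MonoidAlgebra.mapDomain_single]
  have hadd : MonoidAlgebra.mapDomainRingHom R d f =
      MonoidAlgebra.mapDomainRingHom R i₁ f + MonoidAlgebra.mapDomainRingHom R i₂ f := by
    apply (Scheme.ΓSpecIso E).commRingCatIsoToRingEquiv.symm.injective
    rw [map_add]
    show (Scheme.ΓSpecIso E).inv _ = (Scheme.ΓSpecIso E).inv _ + (Scheme.ΓSpecIso E).inv _
    rw [← hpt d p₃ hp₃, ← hpt i₁ p₁ hp₁, ← hpt i₂ p₂ hp₂, ← ψmul, hp]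
  have hcoeff : ∀ φ : P →* P × P, Function.Injective φ → ∀ m,
      (MonoidAlgebra.mapDomainRingHom R φ f).coeff (φ m) = f.coeff m := fun φ hφ m => by
    simp [MonoidAlgebra.mapDomain, Finsupp.mapDomain_apply hφ]
  have hzero : ∀ (φ : P →* P × P) (q), q ∉ Set.range φ → (MonoidAlgebra.mapDomainRingHom R φ f).coeff q = 0 :=
    fun φ q hq => by simp [MonoidAlgebra.mapDomain, Finsupp.mapDomain_notin_range _ _ hq]
  have hf : f = 0 := by
    refine MonoidAlgebra.ext (Finsupp.ext fun m => ?_)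
    have hd : Function.Injective d := fun a b hab => congrArg Prod.fst hab
    have h' := congrArg (fun y => y.coeff (d m)) hadd
    simp only [MonoidAlgebra.coeff_add, Finsupp.add_apply, hcoeff d hd] at h'
    by_cases hm : m = 1
    · subst hm
      have e1 : d 1 = i₁ 1 := by simp
      have e2 : d 1 = i₂ 1 := by simp
      conv_rhs at h' => arg 1; rw [e1, hcoeff i₁ (fun a b hab => congrArg Prod.fst hab)]
      conv_rhs at h' => arg 2; rw [e2, hcoeff i₂ (fun a b hab => congrArg Prod.snd hab)]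
      simpa using left_eq_add.mp h'
    · rw [hzero i₁ _ (by rintro ⟨y, hy⟩; exact hm (congrArg Prod.snd hy).symm),
        hzero i₂ _ (by rintro ⟨y, hy⟩; exact hm (congrArg Prod.fst hy).symm), add_zero] at h'
      simpa using h'
  show ψ p = 0
  rw [formula W w hw p, hf, map_zero]

/-- Let H be an S-group scheme of multiplicative type. Then every homomorphism of S-groups H → 𝔾_a is
trivial. (Stated for H of multiplicative type and of finite type, the class of multiplicative groups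
available here; the published statement allows any group of multiplicative type.) -/
theorem result (S : Scheme.{u}) (H : Over S) [GrpObj H] (hH : SGA3x.IsMultTypeFT H)
    (u : H ⟶ Red.Ga S) [IsMonHom u] : u = 1 := by
  obtain ⟨S', f, hfl, -, hq, hU⟩ := hH
  choose U hmem M hM hFG e using hU
  haveI := hfl
  have hcov := Groth.Agent.SGA3cLib.IsFpqcCov.of_forall f hq
  have hπ : CategoryTheory.Epi (Limits.pullback.fst H.hom f) := by
    haveI := (hcov.pullback_snd H.hom).epi
    rw [← Limits.pullbackSymmetry_hom_comp_snd]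
    infer_instance
  refine Over.OverMorphism.ext ((cancel_epi (Limits.pullback.fst H.hom f)).mp ?_)
  have hloc : ∀ y : ↥(Limits.pullback H.hom f), ∃ O : (Limits.pullback H.hom f).Opens, y ∈ O ∧
      O.ι ≫ Limits.pullback.fst H.hom f ≫ u.left = O.ι ≫ Limits.pullback.fst H.hom f ≫ (1 : H ⟶ Red.Ga S).left := by
    intro y
    let U₀ := U ((Limits.pullback.snd H.hom f).base y)
    obtain ⟨e₀⟩ := e ((Limits.pullback.snd H.hom f).base y)
    let g : (U₀ : Scheme.{u}) ⟶ S := U₀.ι ≫ f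
    let i : Red.bc g H ≅ Red.DS (U₀ : Scheme.{u}) (M ((Limits.pullback.snd H.hom f).base y)) := (Grp.forget _).mapIso e₀
    haveI : IsMonHom i.inv := e₀.inv.hom.isMonHom_hom
    let O₀ : (Limits.pullback H.hom f).Opens := Limits.pullback.snd H.hom f ⁻¹ᵁ U₀
    let w₀ : (O₀ : Scheme.{u}) ⟶ U₀ := (Limits.pullback.snd H.hom f).resLE U₀ O₀ le_rfl
    obtain ⟨A₀, hA₀, hyA, -⟩ := exists_isAffineOpen_mem_and_subset (U := ⊤) (x := w₀.base ⟨y, hmem _⟩) trivial
    let O : (Limits.pullback H.hom f).Opens := O₀.ι ''ᵁ (w₀ ⁻¹ᵁ A₀)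
    have hO : O ≤ O₀ := fun z hz => by obtain ⟨z', -, rfl⟩ := hz; exact z'.2
    let k : (O : Scheme.{u}) ⟶ O₀ := (Limits.pullback H.hom f).homOfLE hO
    let W : Over (U₀ : Scheme.{u}) := Over.mk (k ≫ w₀)
    let t : (Over.map g).obj W ⟶ H := Over.homMk (O.ι ≫ Limits.pullback.fst H.hom f) (by
      show (O.ι ≫ Limits.pullback.fst H.hom f) ≫ H.hom = (k ≫ w₀) ≫ g
      simp only [g, w₀, k, Category.assoc, Limits.pullback.condition, Scheme.Hom.resLE_comp_ι_assoc]
      rw [Scheme.homOfLE_ι_assoc])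
    let w : W.left ⟶ Spec Γ((U₀ : Scheme.{u}), A₀) := IsOpenImmersion.lift hA₀.fromSpec W.hom (by
      rw [hA₀.range_fromSpec]
      rintro _ ⟨z, rfl⟩
      obtain ⟨z', hz', he⟩ := z.2
      have : k.base z = z' := O₀.ι.isOpenEmbedding.injective
        ((congr($(Scheme.homOfLE_ι (Limits.pullback H.hom f) hO).base z)).trans he.symm)
      show w₀.base (k.base z) ∈ A₀
      rw [this]; exact hz')
    obtain ⟨p, hp⟩ := Groth.Agent.SGA3cLib.toPt_surjective g i t
    have h0 := gaFn_eq_zero g u i hA₀.fromSpec W w (IsOpenImmersion.lift_fac _ _ _) p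
    rw [hp, ← Groth.Agent.SGA3cLib.gaFn_one (X := (Over.map g).obj W)] at h0
    have h1 : t ≫ u = t ≫ (1 : H ⟶ Red.Ga S) := (Groth.Agent.SGA3cLib.gaFn_injective h0).trans (MonObj.comp_one t).symm
    refine ⟨O, ⟨⟨y, hmem _⟩, hyA, rfl⟩, ?_⟩
    have := congrArg CommaMorphism.left h1
    simp only [t, Over.comp_left, Over.homMk_left, Category.assoc] at this
    exact this
  choose O hyO hO using hloc
  have hc : TopologicalSpace.IsOpenCover O :=
    TopologicalSpace.IsOpenCover.mk (eq_top_iff.2 fun y _ => TopologicalSpace.Opens.mem_iSup.2 ⟨y, hyO y⟩)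
  exact Scheme.Cover.hom_ext ((Limits.pullback H.hom f).openCoverOfIsOpenCover O hc) _ _ hO

end Groth.Agent.S8392
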