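import Groth.Statements.S8393
import Groth.Agent.SGA3xLib.RedCentre26
import Groth.Agent.AlgGrpLib.CentreRep
import Groth.Agent.AlgGrpLib.SubGrpMono
import Groth.Agent.IsoTriv.SchemeBridge
import Groth.Agent.S4130

set_option autoImplicit false
set_option linter.style.haveILetI false
set_option backward.isDefEq.respectTransparency.types false
universe u
open CategoryTheory MonoidalCategory CartesianMonoidalCategory MonObj GrpObj AlgebraicGeometry
open SGA3x

namespace Groth.Agent.S8393

/-- Let G be an affine algebraic group over a field k (an affine k-group scheme of finite type). Then G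
admits a reductive centre: a subgroup scheme Z of G which is central and of multiplicative type, and
such that for every k-scheme S′ and every central homomorphism v : H → G ×_k S′ from an S′-group H
of multiplicative type and of finite type, v factors through Z ×_k S′. -/
theorem result (k : Type u) [Field k]
    (G : Over (Spec (CommRingCat.of k))) [GrpObj G] [IsAffine G.left] [QuasiCompact G.hom] [LocallyOfFiniteType G.hom] :
    ∃ (Z : Over (Spec (CommRingCat.of k))) (_ : GrpObj Z) (z : Z ⟶ G), IsMonHom z ∧ Mono z ∧ SGA3x.IsMultTypeFT Z ∧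
      (∀ (X : Over (Spec (CommRingCat.of k))) (x : X ⟶ Z) (g : X ⟶ G), (x ≫ z) * g = g * (x ≫ z)) ∧
      ∀ (S' : Scheme.{u}) (f : S' ⟶ (Spec (CommRingCat.of k))) (H : Over S') [GrpObj H] (v : H ⟶ Red.bc f G) [IsMonHom v],
        SGA3x.IsMultTypeFT H →
        (∀ (X : Over S') (x : X ⟶ H) (g : X ⟶ Red.bc f G), (x ≫ v) * g = g * (x ≫ v)) →
        ∃ w : H ⟶ Red.bc f Z, w ≫ (Over.pullback f).map z = v := by
  obtain ⟨Z₀, incl, hcl, hZ⟩ := Groth.Agent.AlgGrpLib.exists_centre G
  haveI := hcl
  haveI : Mono incl := Over.mono_of_mono_left _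
  have mem : ∀ {T : Over (Spec (CommRingCat.of k))} (g : T ⟶ G),
      (∀ (T' : Over (Spec (CommRingCat.of k))) (h : T' ⟶ T) (g' : T' ⟶ G), (h ≫ g) * g' = g' * (h ≫ g)) →
        ∃ z : T ⟶ Z₀, z ≫ incl = g := fun g => (hZ _ g).2
  have cen : ∀ {T : Over (Spec (CommRingCat.of k))} (z : T ⟶ Z₀) (g' : T ⟶ G), (z ≫ incl) * g' = g' * (z ≫ incl) :=
    fun z g' => by simpa using (hZ _ (z ≫ incl)).1 ⟨z, rfl⟩ _ (𝟙 _) g'
  obtain ⟨instZ, hincl⟩ := Groth.Agent.AlgGrpLib.exists_grpObj_of_mono incl
    (mem 1 fun T' h g' => by rw [MonObj.comp_one, _root_.one_mul, _root_.mul_one])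
    (mem _ fun T' h g' => by
      rw [MonObj.comp_mul, ← Category.assoc, ← Category.assoc]
      exact ((Commute.mul_left (cen _ g') (cen _ g') : Commute _ g')).eq)
    (mem _ fun T' h g' => by
      rw [GrpObj.comp_inv]
      exact ((Commute.inv_left (cen h g' : Commute _ _))).eq)
  haveI := hincl
  haveI : IsAffine Z₀.left := isAffine_of_isAffineHom incl.left
  haveI : LocallyOfFiniteType Z₀.hom := by rw [← Over.w incl]; infer_instance
  obtain ⟨A, _, _, ⟨ι₀⟩⟩ := Groth.Agent.IsoTriv.SchemeSpec.exists_spec Z₀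
  let a : CoactBr.sp k A ⟶ Z₀ := ι₀.inv.hom.hom
  haveI : IsIso a := inferInstanceAs (IsIso ((Grp.forget _).map ι₀.inv))
  haveI : IsMonHom a := inferInstanceAs (IsMonHom ι₀.inv.hom.hom)
  haveI : IsIso a.left := inferInstanceAs (IsIso ((Over.forget _).map a))
  haveI hftA : Algebra.FiniteType k A := by
    have h : LocallyOfFiniteType (CoactBr.sp k A).hom := by rw [← Over.w a]; infer_instance
    exact (RingHom.finiteType_algebraMap).1 (by
      simpa [CommRingCat.hom_ofHom] using
        (HasRingHomProperty.Spec_iff (P := @LocallyOfFiniteType) (φ := CommRingCat.ofHom (algebraMap k A))).1 h)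
  haveI : Coalgebra.IsCocomm k A := by
    refine ⟨LinearMap.ext fun c => ?_⟩
    let l : A →ₐ[k] (TensorProduct k A A) := Algebra.TensorProduct.includeLeft
    let r : A →ₐ[k] (TensorProduct k A A) := Algebra.TensorProduct.includeRight
    have e : CoactBr.pt l * CoactBr.pt r = CoactBr.pt r * CoactBr.pt l := by
      rw [← cancel_mono a, ← cancel_mono incl, MonObj.mul_comp, MonObj.mul_comp, MonObj.mul_comp, MonObj.mul_comp]
      exact cen _ _
    rw [CoactBr.pt_mul_pt, CoactBr.pt_mul_pt] at e
    have e2 := DFunLike.congr_fun (CoactBr.pt_injective e) c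
    simp only [AlgHom.comp_apply, Bialgebra.comulAlgHom_apply, l, r] at e2
    have hswap : (Algebra.TensorProduct.lift (Algebra.TensorProduct.includeRight : A →ₐ[k] (TensorProduct k A A))
        Algebra.TensorProduct.includeLeft (fun _ _ => .all _ _)).toLinearMap =
        (TensorProduct.comm k A A).toLinearMap := TensorProduct.ext' fun x y => by simp
    rw [Algebra.TensorProduct.lift_includeLeft_includeRight] at e2
    exact ((DFunLike.congr_fun hswap _).symm.trans e2.symm)
  obtain ⟨J, hJ, hmt, -, B, _, _, φ, hφ, hJeq, hU⟩ := Groth.Agent.S4130.result k A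
  haveI := hJ
  let π := Bialgebra.Quotient.mkBialgHom (R := k) J
  let M := CoactBr.sp k (A ⧸ J)
  let p : M ⟶ CoactBr.sp k A := CoactBr.pt (π : A →ₐ[k] A ⧸ J)
  haveI : IsMonHom p := Groth.Agent.HopfLib.SpPoints.isMonHom_pt _
    (by ext x; exact CoalgHomClass.counit_comp_apply π x)
    (AlgHom.ext fun x => (CoalgHomClass.map_comp_comul_apply π x).symm)
  haveI : IsClosedImmersion p.left := IsClosedImmersion.spec_of_surjective _ Ideal.Quotient.mk_surjective
  haveI : Mono p := Over.mono_of_mono_left _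
  let q : CoactBr.sp k A ⟶ CoactBr.sp k B := CoactBr.pt (φ : B →ₐ[k] A)
  haveI : IsMonHom q := Groth.Agent.HopfLib.SpPoints.isMonHom_pt _
    (by ext x; exact CoalgHomClass.counit_comp_apply φ x)
    (AlgHom.ext fun x => (CoalgHomClass.map_comp_comul_apply φ x).symm)
  have hM : SGA3x.IsMultTypeFT M :=
    Groth.Agent.IsoTriv.SchemeBridge.multTypeFT_of_isMultType inferInstance (Groth.Agent.IsoTriv.isMultType_of_const hmt)
  have fac : ∀ {X : Over (Spec (CommRingCat.of k))} (y : X ⟶ CoactBr.sp k A), y ≫ q = 1 → ∃ z : X ⟶ M, z ≫ p = y := by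
    intro X y hy
    open Groth.Agent.SGA3xLib.AffineImage26 Groth.Agent.SGA3xLib.RedCentre26 in
    letI : Algebra k Γ(X.left, ⊤) := (X.hom.appTop.hom.comp (Scheme.ΓSpecIso (CommRingCat.of k)).inv.hom).toAlgebra
    let χ := Groth.Agent.SGA3xLib.AffineImage26.chi y
    have hker : ∀ x ∈ J, χ x = 0 := by
      rw [hJeq]
      intro x hx
      refine (Ideal.map_le_iff_le_comap.2 (fun b hb => ?_) : _ ≤ RingHom.ker χ) hx
      show χ (φ b) = 0
      let o : X ⟶ CoactBr.sp k B := Groth.Agent.SGA3xLib.RedCentre26.ofChi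
        ((algebraMap k Γ(X.left, ⊤)).comp (Bialgebra.counitAlgHom k B).toRingHom) (fun c => by simp; rfl)
      have ho : o = 1 := by
        refine Groth.Agent.SGA3xLib.AffineImage26.chi_ext (RingHom.ext fun b => ?_)
        let u : (𝟙_ (Over (Spec (CommRingCat.of k)))) ⟶ CoactBr.sp k B := η[CoactBr.sp k B]
        have h1 : (1 : X ⟶ CoactBr.sp k B) = toUnit X ≫ u := Hom.one_def
        rw [h1, Groth.Agent.SGA3xLib.AffineImage26.chi_comp, Groth.Agent.SGA3xLib.RedCentre26.chi_ofChi]
        exact Groth.Agent.SGA3xLib.RedCentre26.counit_eq b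
      have e := congrArg (fun z => Groth.Agent.SGA3xLib.AffineImage26.chi z b) (hy.trans ho.symm)
      simp only [q, Groth.Agent.SGA3xLib.AffineImage26.chi_pt] at e
      refine e.trans ?_
      refine (DFunLike.congr_fun (Groth.Agent.SGA3xLib.RedCentre26.chi_ofChi _ _) b).trans ?_
      show algebraMap k Γ(X.left, ⊤) (Bialgebra.counitAlgHom k B b) = 0
      rw [RingHom.mem_ker.1 hb, map_zero]
    refine ⟨Groth.Agent.SGA3xLib.RedCentre26.ofChi (Ideal.Quotient.lift J χ hker) (fun c => ?_), ?_⟩
    · rw [← Ideal.Quotient.mk_algebraMap, Ideal.Quotient.lift_mk]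
      exact Groth.Agent.SGA3xLib.AffineImage26.chi_algebraMap y c
    · refine Groth.Agent.SGA3xLib.AffineImage26.chi_ext (RingHom.ext fun x => ?_)
      rw [Groth.Agent.SGA3xLib.AffineImage26.chi_pt, Groth.Agent.SGA3xLib.RedCentre26.chi_ofChi]
      rfl
  refine ⟨M, inferInstance, p ≫ a ≫ incl, inferInstance, inferInstance, hM, fun X x g => ?_, ?_⟩
  · simpa using cen (x ≫ p ≫ a) g
  intro S' f H _ v _ hHm hcv
  let adj := Over.mapPullbackAdj f
  let F := Over.pullback f
  obtain ⟨z, hz⟩ := mem ((adj.homEquiv H G).symm v) fun T' h g' => by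
    let T : Over S' := Over.mk (h.left ≫ H.hom)
    let h' : T ⟶ H := Over.homMk h.left
    let e : (Over.map f).obj T ≅ T' := Over.isoMk (Iso.refl _) (by
      show 𝟙 _ ≫ T'.hom = (h.left ≫ H.hom) ≫ f
      rw [Category.id_comp, Category.assoc]
      exact (Over.w h).symm)
    have he : e.hom ≫ h = (Over.map f).map h' := by ext; simp [e, h', T]
    have := hcv T h' (adj.homEquiv T G (e.hom ≫ g'))
    rw [← (adj.homEquiv T G).symm.injective.eq_iff] at this
    have hm : ∀ (a b : T ⟶ Red.bc f G), (adj.homEquiv T G).symm (a * b) = (adj.homEquiv T G).symm a * (adj.homEquiv T G).symm b :=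
      fun a b => (adj.homEquiv T G).injective (by
        rw [Groth.Agent.SGA3cLib.homEquiv_mul, Equiv.apply_symm_apply, Equiv.apply_symm_apply, Equiv.apply_symm_apply])
    rw [hm, hm, Adjunction.homEquiv_naturality_left_symm, Equiv.symm_apply_apply, ← he, Category.assoc,
      ← MonObj.comp_mul, ← MonObj.comp_mul, cancel_epi] at this
    exact this
  let v₁ : H ⟶ F.obj (CoactBr.sp k A) := adj.homEquiv H _ (z ≫ inv a)
  have hv₁ : v₁ ≫ F.map (a ≫ incl) = v := by
    rw [← Adjunction.homEquiv_naturality_right, Category.assoc, IsIso.inv_hom_id_assoc, hz, Equiv.apply_symm_apply]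
  haveI : Mono (F.map (a ≫ incl)) := inferInstance
  haveI : IsMonHom v₁ := ⟨by rw [← cancel_mono (F.map (a ≫ incl)), Category.assoc, hv₁, IsMonHom.one_hom, IsMonHom.one_hom],
    by rw [← cancel_mono (F.map (a ≫ incl)), Category.assoc, hv₁, IsMonHom.mul_hom, Category.assoc, IsMonHom.mul_hom,
      tensorHom_comp_tensorHom_assoc, hv₁]⟩
  have h1 := Groth.Agent.SGA3xLib.RedCentre26.eq_one_of_unipotent f hU H hHm (v₁ ≫ F.map q)
  obtain ⟨w, hw⟩ := fac (z ≫ inv a) (by
    apply (adj.homEquiv H _).injective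
    rw [Adjunction.homEquiv_naturality_right]
    refine h1.trans ?_
    rw [Adjunction.homEquiv_unit, Functor.map_one, MonObj.comp_one])
  refine ⟨adj.homEquiv H M w, ?_⟩
  rw [← Adjunction.homEquiv_naturality_right, ← Category.assoc, hw, Category.assoc, IsIso.inv_hom_id_assoc, hz,
    Equiv.apply_symm_apply]

end Groth.Agent.S8393
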