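import Groth.Statements.S4149
import Groth.Agent.NilCentral26.First
import Groth.Agent.SGA3cLib.MTTransporterSub
import Groth.Agent.S8393

set_option autoImplicit false
set_option linter.style.haveILetI false
set_option backward.isDefEq.respectTransparency.types false
universe u
open CategoryTheory MonoidalCategory CartesianMonoidalCategory MonObj GrpObj AlgebraicGeometry CategoryTheory.Limits
open SGA3x

namespace Groth.Agent.S4149

/-- Let G be an affine, connected algebraic group over a field k which is nilpotent (for some n the n-th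
term of the lower central series of G(X) is trivial for every k-scheme X). Then G has a largest
subgroup of multiplicative type M — a closed subgroup scheme of multiplicative type and of finite
type through which every such subgroup factors — and M is central in G. (The source adds that M is
characteristic and G/M unipotent.) -/
theorem result (k : Type u) [Field k] (G : Over (Spec (CommRingCat.of k)))
    [GrpObj G] [IsAffine G.left] [LocallyOfFiniteType G.hom] [ConnectedSpace ↥G.left]
    (hnil : ∃ n : ℕ, ∀ X : Over (Spec (CommRingCat.of k)), (⊤ : Subgroup (X ⟶ G)).lowerCentralSeries n = ⊥) :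
    ∃ (M : Over (Spec (CommRingCat.of k))) (_ : GrpObj M) (m : M ⟶ G), IsMonHom m ∧ IsClosedImmersion m.left ∧
      SGA3x.IsMultTypeFT M ∧
      (∀ (M' : Over (Spec (CommRingCat.of k))) [GrpObj M'] (m' : M' ⟶ G) [IsMonHom m'] [Mono m'],
        SGA3x.IsMultTypeFT M' → ∃ f : M' ⟶ M, f ≫ m = m') ∧
      ∀ (X : Over (Spec (CommRingCat.of k))) (x : X ⟶ M) (g : X ⟶ G), (x ≫ m) * g = g * (x ≫ m) := by
  haveI : IsAffineHom G.hom := (HasAffineProperty.iff_of_isAffine (P := @IsAffineHom)).2 (inferInstance : IsAffine G.left)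
  haveI : QuasiCompact G.hom := inferInstance
  obtain ⟨M, gM, m, hm, hmono, hMT, hcen, huniv⟩ := Groth.Agent.S8393.result k G
  haveI := hm
  haveI := hmono
  refine ⟨M, gM, m, hm, Groth.Agent.SGA3cLib.MTTransporterSub.isClosedImmersion_of_mono
    (Groth.Agent.SGA3cLib.CentralFib.locally_of_multTypeFT hMT) m, hMT, fun M' _ m' _ _ hM' => ?_, hcen⟩
  let S := Spec (CommRingCat.of k)
  let v : Red.bc (𝟙 S) M' ⟶ Red.bc (𝟙 S) G := (Over.pullback (𝟙 S)).map m'
  haveI : IsMonHom v := inferInstanceAs (IsMonHom ((Over.pullback (𝟙 S)).map m'))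
  obtain ⟨w, hw⟩ := huniv S (𝟙 S) (Red.bc (𝟙 S) M') v (Groth.Agent.SGA3cLib.CentralDescent.isMultTypeFT_bc (𝟙 S) M' hM')
    (fun X x g => by
      obtain ⟨x, rfl⟩ := (Groth.Agent.SGA3cLib.BCPoints.pt (𝟙 S) M' X).surjective x
      obtain ⟨g, rfl⟩ := (Groth.Agent.SGA3cLib.BCPoints.pt (𝟙 S) G X).surjective g
      simp only [v]
      rw [← Groth.Agent.SGA3cLib.BCPoints.pt_comp, ← Groth.Agent.SGA3cLib.BCPoints.pt_mul,
        ← Groth.Agent.SGA3cLib.BCPoints.pt_mul,
        Groth.Agent.NilCentral26.central_of_nilpotent m' hM' hnil _ g x])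
  let α : Over.pullback (𝟙 S) ≅ 𝟭 (Over S) := Over.pullbackId
  have hn : ∀ {X : Over S} (w : X ⟶ G), α.hom.app X ≫ w = (Over.pullback (𝟙 S)).map w ≫ α.hom.app G :=
    fun w => (α.hom.naturality w).symm
  refine ⟨α.inv.app M' ≫ w ≫ α.hom.app M, ?_⟩
  rw [Category.assoc, Category.assoc, hn m, reassoc_of% hw, ← hn m']
  simp

end Groth.Agent.S4149
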