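import Groth.Statements.S4150
import Groth.Agent.AlgGrpAbel26.Main
import Groth.Agent.GrpQ26.Normal

set_option autoImplicit false
set_option linter.style.haveILetI false
set_option backward.isDefEq.respectTransparency.types false
universe u
open CategoryTheory MonoidalCategory CartesianMonoidalCategory MonObj GrpObj AlgebraicGeometry CategoryTheory.Limits
open SGA3

namespace Groth.Agent.S4150

/-- Let k be a field. The category of commutative algebraic k-groups (commutative group objects in
k-schemes whose underlying scheme is of finite type over k, as a full subcategory of commutative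
group objects over Spec k) is an abelian category. -/
theorem result (k : Type u) [Field k] :
    Nonempty (Abelian (ObjectProperty.FullSubcategory
      (fun G : CommGrp (Over (Spec (CommRingCat.of k))) => LocallyOfFiniteType G.X.hom ∧ QuasiCompact G.X.hom))) := by
  let D : Groth.Agent.AlgGrpAbel26.GoodClass k :=
    { P := fun X => LocallyOfFiniteType X.hom ∧ QuasiCompact X.hom
      lft := fun h => h.1
      qc := fun h => h.2
      unit := ⟨inferInstanceAs (LocallyOfFiniteType (𝟙 (Spec (CommRingCat.of k)))),
        inferInstanceAs (QuasiCompact (𝟙 (Spec (CommRingCat.of k))))⟩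
      prod := fun {X Y} hX hY => by
        haveI := hX.1
        haveI := hX.2
        haveI := hY.1
        haveI := hY.2
        exact ⟨inferInstanceAs (LocallyOfFiniteType (pullback.fst X.hom Y.hom ≫ X.hom)),
          inferInstanceAs (QuasiCompact (pullback.fst X.hom Y.hom ≫ X.hom))⟩
      closed := fun {X Z} i hi hX => by
        haveI := hi
        haveI := hX.1
        haveI := hX.2
        exact ⟨by rw [← Over.w i]; infer_instance, by rw [← Over.w i]; infer_instance⟩
      quot := fun G N _ _ _ i _ _ hG hN => by
        haveI := hG.1
        haveI := hG.2
        obtain ⟨Q, gQ, q, hq, hL, hC, hf, hs, -, hker⟩ := Groth.Agent.GrpQ26.exists_quotient_normal i hN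
        exact ⟨Q, gQ, q, hq, ⟨hL, hC⟩, hf, hs, hker⟩ }
  exact ⟨Groth.Agent.AlgGrpAbel26.abelian (D := D)⟩

end Groth.Agent.S4150
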