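import Groth.Statements.S4183
import Groth.Agent.AnLib.Topology

set_option autoImplicit false
open CategoryTheory AlgebraicGeometry Topology TopologicalSpace
open An

namespace Groth.Agent.S4183

/-- The sections of affine space over ℂ are generated by the coordinates. -/
theorem surjective_eval₂ (n : ℕ) :
    Function.Surjective (MvPolynomial.eval₂Hom (An.strHom (𝔸(Fin n; An.SC))) (AffineSpace.coord An.SC)) := by
  intro a
  let e := (AffineSpace.SpecIso (Fin n) (CommRingCat.of ℂ))
  let φ : Γ(Spec (CommRingCat.of (MvPolynomial (Fin n) ℂ)), ⊤) →+* Γ(𝔸(Fin n; An.SC), ⊤) := e.hom.appTop.hom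
  have hφ : Function.Surjective φ := fun b => ⟨e.inv.appTop b, by
    show (e.inv.appTop ≫ e.hom.appTop) b = b
    rw [← Scheme.Hom.comp_appTop, e.hom_inv_id, Scheme.Hom.id_appTop]; rfl⟩
  obtain ⟨b, rfl⟩ := hφ a
  obtain ⟨F, rfl⟩ : ∃ F, (Scheme.ΓSpecIso (CommRingCat.of (MvPolynomial (Fin n) ℂ))).inv F = b :=
    (Scheme.ΓSpecIso (CommRingCat.of (MvPolynomial (Fin n) ℂ))).symm.commRingCatIsoToRingEquiv.surjective b
  refine ⟨F, ?_⟩
  have h := AffineSpace.SpecIso_hom_appTop (n := Fin n) (CommRingCat.of ℂ)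
  show _ = (e.hom.appTop.hom) _
  rw [h]
  show _ = _
  rw [CommRingCat.comp_apply, ← CommRingCat.comp_apply (Scheme.ΓSpecIso (CommRingCat.of (MvPolynomial (Fin n) ℂ))).inv, Iso.inv_hom_id]
  rfl

/-- For affine n-space over ℂ, the map sending a ℂ-point to the values of the n coordinate functions is
a homeomorphism from its space of ℂ-points, with the complex topology of this problem, onto ℂ^n with
its usual topology. -/
theorem result (n : ℕ) :
    IsHomeomorph (fun (x : An.Pts (𝔸(Fin n; An.SC))) (i : Fin n) => x.evTop (AffineSpace.coord An.SC i)) := by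
  have hs := surjective_eval₂ n
  have h := Groth.Agent.AnLib.isClosedEmbedding_coords _ hs
  refine h.isEmbedding.toHomeomorphOfSurjective ?_ |>.isHomeomorph
  intro z
  refine ⟨⟨AffineSpace.homOfVector (𝟙 _) (fun i => (Scheme.ΓSpecIso (CommRingCat.of ℂ)).inv (z i)), AffineSpace.homOfVector_over _ _⟩, funext fun i => ?_⟩
  show (Scheme.ΓSpecIso (CommRingCat.of ℂ)).hom (Scheme.Hom.appLE _ ⊤ ⊤ _ (AffineSpace.coord An.SC i)) = z i
  rw [show Scheme.Hom.appLE (AffineSpace.homOfVector (𝟙 An.SC) (fun i => (Scheme.ΓSpecIso (CommRingCat.of ℂ)).inv (z i))) ⊤ ⊤ _ = Scheme.Hom.appTop _ from (Scheme.Hom.app_eq_appLE _).symm,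
    AffineSpace.homOfVector_appTop_coord, ← CommRingCat.comp_apply, Iso.inv_hom_id]
  rfl

end Groth.Agent.S4183
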