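import Groth.Statements.S4186
import Groth.Agent.AnLib.Basic

set_option autoImplicit false
open CategoryTheory AlgebraicGeometry Topology TopologicalSpace
open An

namespace Groth.Agent.S4186

/-- A scheme locally of finite type over ℂ is nonempty if and only if it has a ℂ-point. -/
theorem result (X : Scheme.{0}) [X.Over An.SC] [LocallyOfFiniteType (X ↘ An.SC)] :
    Nonempty ↥X ↔ Nonempty (An.Pts X) := by
  refine ⟨fun h => ?_, fun ⟨x⟩ => ⟨x.pt⟩⟩
  obtain ⟨x, -⟩ := Groth.Agent.AnLib.exists_pt_mem (X := X) (Z := Set.univ) isClosed_univ.isLocallyClosed Set.univ_nonempty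
  exact ⟨x⟩

end Groth.Agent.S4186
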