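import Groth.Statements.S4201
import Groth.Agent.AnLib.Topology

set_option autoImplicit false
open CategoryTheory AlgebraicGeometry Topology TopologicalSpace
open An

namespace Groth.Agent.S4201

/-- The direction from schemes to spaces: an immersion f : X → Y of schemes locally of finite type over
ℂ induces an embedding X(ℂ) → Y(ℂ) whose image is locally closed. -/
theorem result (X Y : Scheme.{0}) [X.Over An.SC] [LocallyOfFiniteType (X ↘ An.SC)]
    [Y.Over An.SC] [LocallyOfFiniteType (Y ↘ An.SC)] (f : X ⟶ Y) [f.IsOver An.SC] [IsImmersion f] :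
    Topology.IsEmbedding (An.Pts.map f) ∧ IsLocallyClosed (Set.range (An.Pts.map f)) := by
  let g₁ := f.liftCoborder
  let g₂ := f.coborderRange.ι
  letI : f.coborderRange.toScheme.Over An.SC := ⟨g₂ ≫ (Y ↘ An.SC)⟩
  have : g₂.IsOver An.SC := ⟨rfl⟩
  have hg : g₁ ≫ g₂ = f := f.liftCoborder_ι
  have : g₁.IsOver An.SC := ⟨by
    show g₁ ≫ g₂ ≫ (Y ↘ An.SC) = _
    rw [← Category.assoc, hg, comp_over f]⟩
  have : LocallyOfFiniteType (f.coborderRange.toScheme ↘ An.SC) := inferInstanceAs (LocallyOfFiniteType (g₂ ≫ (Y ↘ An.SC)))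
  have e : An.Pts.map f = An.Pts.map g₂ ∘ An.Pts.map g₁ := funext fun x => Subtype.ext (by
    show x.1 ≫ f = (x.1 ≫ g₁) ≫ g₂
    rw [Category.assoc, hg])
  have h₂ := Groth.Agent.AnLib.isOpenEmbedding_map g₂
  have h₁ := Groth.Agent.AnLib.isClosedEmbedding_map g₁
  rw [e]
  refine ⟨h₂.isEmbedding.comp h₁.isEmbedding, ?_⟩
  rw [Set.range_comp]
  exact h₁.isClosed_range.isLocallyClosed.image h₂.isInducing h₂.isOpen_range.isLocallyClosed

end Groth.Agent.S4201
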