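import Groth.Statements.S4205
import Groth.Agent.AnProperH3.Criterion
-- import your own Groth.Agent.* helpers here

set_option autoImplicit false
open CategoryTheory AlgebraicGeometry Topology TopologicalSpace
open An

set_option backward.isDefEq.respectTransparency.types false

namespace Groth.Agent.S4205

/-- Let X be a scheme of finite type over ℂ (locally of finite type and quasi-compact over ℂ, carried as
two instance hypotheses). Then X is proper over ℂ if and only if X(ℂ) with the complex topology is
compact and Hausdorff. -/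
theorem result (X : Scheme.{0}) [X.Over An.SC] [LocallyOfFiniteType (X ↘ An.SC)] [QuasiCompact (X ↘ An.SC)] :
    IsProper (X ↘ An.SC) ↔ CompactSpace (An.Pts X) ∧ T2Space (An.Pts X) := by
  letI : An.SC.Over An.SC := ⟨𝟙 _⟩
  haveI : (X ↘ An.SC).IsOver An.SC := ⟨Category.comp_id _⟩
  haveI : LocallyOfFiniteType (An.SC ↘ An.SC) := inferInstanceAs (LocallyOfFiniteType (𝟙 An.SC))
  have hsub : ∀ a : An.Pts An.SC, a = ⟨𝟙 An.SC, Category.comp_id _⟩ := fun a =>
    Subtype.ext ((Category.comp_id _).symm.trans a.2)
  haveI : Subsingleton (An.Pts An.SC) := ⟨fun a b => (hsub a).trans (hsub b).symm⟩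
  rw [AnProperH3.isProper_iff (X ↘ An.SC), ← Groth.Agent.AnLib.t2Space_iff,
    Groth.Agent.AnLib.isSeparated_iff (X ↘ An.SC)]
  refine and_congr_left fun _ => ⟨fun h => ⟨?_⟩, fun _ => ?_⟩
  · exact h.isCompact_preimage (K := Set.univ) Set.subsingleton_univ.isCompact
  · haveI : T2Space (An.Pts An.SC) := ⟨fun a b h => absurd (Subsingleton.elim a b) h⟩
    exact (An.Pts.continuous_map (X ↘ An.SC)).isProperMap

end Groth.Agent.S4205
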