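import Groth.Statements.S4208
import Groth.Agent.AnLib.EpsSite
import Groth.Agent.AnLib.Connected
import Groth.Agent.FEtLib.EqLocus
import Mathlib.Topology.SeparatedMap

set_option autoImplicit false
open CategoryTheory AlgebraicGeometry Topology TopologicalSpace
open An CategoryTheory.Limits
open Groth.Agent
set_option backward.isDefEq.respectTransparency.types false

namespace Groth.Agent.S4208

theorem universallyInjective_of_injective {A B : Scheme.{0}} [A.Over An.SC] [B.Over An.SC] [LocallyOfFiniteType (A ↘ An.SC)]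
    [LocallyOfFiniteType (B ↘ An.SC)] (f : A ⟶ B) [f.IsOver An.SC] (h : Function.Injective (An.Pts.map f)) :
    UniversallyInjective f := by
  have hf : LocallyOfFiniteType f := by
    have : LocallyOfFiniteType (f ≫ (B ↘ An.SC)) := by rw [comp_over f An.SC]; infer_instance
    exact locallyOfFiniteType_of_comp f (B ↘ An.SC)
  have : LocallyOfFiniteType (pullback f f ↘ An.SC) := inferInstanceAs (LocallyOfFiniteType (pullback.fst f f ≫ (A ↘ An.SC)))
  have hs : (Set.univ : Set ↥(pullback f f)) ⊆ Set.range (pullback.diagonal f) := by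
    refine (AnLib.subset_iff IsConstructible.univ.isLocallyConstructible (AnLib.isLocallyConstructible_range_diagonal f)).1 ?_
    rw [AnLib.range_map_diagonal]
    exact fun z _ => h (An.Pts.map_pullback_condition f f z)
  have : Surjective (pullback.diagonal f) := ⟨fun z => hs (Set.mem_univ z)⟩
  exact (UniversallyInjective.iff_diagonal f).2 this

theorem exists_isClopen_preimage_eq {A : Scheme.{0}} [A.Over An.SC] [LocallyOfFiniteType (A ↘ An.SC)]
    {G : Set (An.Pts A)} (hG : IsClopen G) : ∃ C : Set A, IsClopen C ∧ An.Pts.pt ⁻¹' C = G := by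
  have : IsLocallyNoetherian A := LocallyOfFiniteType.isLocallyNoetherian (A ↘ An.SC)
  let C : Set A := {p | An.Pts.pt ⁻¹' closure {p} ⊆ G}
  have hor : ∀ p : A, ∀ z : An.Pts A, z.pt ∈ closure ({p} : Set A) → z ∈ G → p ∈ C := fun p z hz hzG =>
    (AnLib.isPreconnected_preimage_of_isIrreducible isClosed_closure isIrreducible_singleton.closure).subset_isClopen hG
      ⟨z, hz, hzG⟩
  have hstab : ∀ p q : A, p ⤳ q → (p ∈ C ↔ q ∈ C) := by
    intro p q hpq
    refine ⟨fun hp z hz => hp (hpq.closure_subset hz), fun hq => ?_⟩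
    obtain ⟨z, hz⟩ := AnLib.exists_pt_mem (X := A) (isClosed_closure (s := ({q} : Set A))).isLocallyClosed ⟨q, subset_closure rfl⟩
    exact hor p z (hpq.closure_subset hz) (hq hz)
  refine ⟨C, ⟨isOpen_compl_iff.1 (AnLib.isOpen_of_stable fun p q hpq => not_congr (hstab p q hpq)), AnLib.isOpen_of_stable hstab⟩, ?_⟩
  exact Set.ext fun z => ⟨fun h => h (subset_closure rfl), fun h => hor _ z (subset_closure rfl) h⟩

theorem surjective_map (X : Scheme.{0}) [X.Over An.SC] [LocallyOfFiniteType (X ↘ An.SC)] [Fact An.EtaleLH]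
    (U V : X.Etale) [IsSeparated (V.left ↘ X)] :
    Function.Surjective ((An.eps X).map : (U ⟶ V) → ((An.eps X).obj U ⟶ (An.eps X).obj V)) := by
  intro φ
  have := AnLib.lft_left X U
  have := AnLib.lft_left X V
  have : Etale (U.left ↘ X) := U.prop
  have : Etale (V.left ↘ X) := V.prop
  let u : U.left ⟶ X := U.left ↘ X
  let v : V.left ⟶ X := V.left ↘ X
  have : LocallyOfFiniteType (Limits.pullback u v ↘ An.SC) :=
    inferInstanceAs (LocallyOfFiniteType (pullback.fst u v ≫ (U.left ↘ An.SC)))
  let φf : An.Pts U.left → An.Pts V.left := φ.toFun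
  have hφc : Continuous φf := φ.continuous
  have hφo : ∀ a, An.Pts.map v (φf a) = An.Pts.map u a := φ.over
  let g₁ : An.Pts (Limits.pullback u v) → An.Pts V.left := An.Pts.map (pullback.snd u v)
  let g₂ : An.Pts (Limits.pullback u v) → An.Pts V.left := φf ∘ An.Pts.map (pullback.fst u v)
  have hg : An.Pts.map v ∘ g₁ = An.Pts.map v ∘ g₂ := funext fun z => by
    show An.Pts.map v (g₁ z) = An.Pts.map v (φf _)
    rw [hφo]
    exact (An.Pts.map_pullback_condition u v z).symm
  have hG : IsClopen {z | g₁ z = g₂ z} :=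
    ⟨((AnLib.isSeparated_iff v).1 inferInstance).isClosed_eqLocus (An.Pts.continuous_map _) (hφc.comp (An.Pts.continuous_map _)) hg,
      (((Fact.out : An.EtaleLH) V.left X v).isLocallyInjective).isOpen_eqLocus (An.Pts.continuous_map _) (hφc.comp (An.Pts.continuous_map _)) hg⟩
  obtain ⟨C, hC, hCG⟩ := exists_isClopen_preimage_eq hG
  let W : (Limits.pullback u v).Opens := ⟨C, hC.2⟩
  have : LocallyOfFiniteType (W.toScheme ↘ An.SC) :=
    inferInstanceAs (LocallyOfFiniteType (W.ι ≫ (Limits.pullback u v ↘ An.SC)))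
  let ψ : W.toScheme ⟶ U.left := W.ι ≫ pullback.fst u v
  have : ψ.IsOver An.SC := ⟨by show (W.ι ≫ pullback.fst u v) ≫ _ = W.ι ≫ pullback.fst u v ≫ _; rw [Category.assoc]⟩
  have : Etale ψ := inferInstanceAs (Etale (W.ι ≫ pullback.fst u v))
  have hmem : ∀ w : An.Pts W.toScheme, g₁ (An.Pts.map W.ι w) = g₂ (An.Pts.map W.ι w) := fun w => by
    have : An.Pts.map W.ι w ∈ An.Pts.pt ⁻¹' C := by rw [Set.mem_preimage, An.Pts.pt_map]; exact w.pt.2
    rw [hCG] at this; exact this
  have hψc : ∀ w, An.Pts.map ψ w = An.Pts.map (pullback.fst u v) (An.Pts.map W.ι w) := fun w => An.Pts.map_comp _ _ w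
  have hinj : Function.Injective (An.Pts.map ψ) := by
    intro w w' h
    refine AnLib.map_injective W.ι (Subtype.ext ?_)
    rw [hψc, hψc] at h
    refine pullback.hom_ext (congrArg Subtype.val h) ?_
    refine congrArg Subtype.val (show g₁ (An.Pts.map W.ι w) = g₁ (An.Pts.map W.ι w') from ?_)
    rw [hmem, hmem]
    exact congrArg φf h
  have : UniversallyInjective ψ := universallyInjective_of_injective ψ hinj
  have : IsOpenImmersion ψ := FEtLib.isOpenImmersion_of_etale_universallyInjective ψ
  have hsurj : ∀ a : An.Pts U.left, ∃ w, An.Pts.map ψ w = a := fun a => by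
    let z : An.Pts (Limits.pullback u v) := ⟨pullback.lift a.1 (φf a).1 (congrArg Subtype.val (hφo a)).symm, by
      show _ ≫ pullback.fst u v ≫ _ = _
      rw [pullback.lift_fst_assoc]; exact a.2⟩
    have hzG : z.pt ∈ C := by
      have h1 : An.Pts.map (pullback.fst u v) z = a := Subtype.ext (pullback.lift_fst _ _ _)
      have : z ∈ An.Pts.pt ⁻¹' C := by
        rw [hCG]
        show g₁ z = φf (An.Pts.map (pullback.fst u v) z)
        rw [h1]; exact Subtype.ext (pullback.lift_snd _ _ _)
      exact this
    obtain ⟨w, hw⟩ := AnLib.exists_map_eq_of_isOpenImmersion W.ι z (by rw [Scheme.Opens.range_ι]; exact hzG)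
    exact ⟨w, by rw [hψc, hw]; exact Subtype.ext (pullback.lift_fst _ _ _)⟩
  have : Epi ψ.base := by
    rw [TopCat.epi_iff_surjective]
    intro p
    by_contra hp
    obtain ⟨a, ha⟩ := AnLib.exists_pt_mem (X := U.left) ψ.isOpenEmbedding.isOpen_range.isClosed_compl.isLocallyClosed ⟨p, hp⟩
    obtain ⟨w, rfl⟩ := hsurj a
    exact ha ⟨w.pt, (An.Pts.pt_map ψ w).symm⟩
  have : IsIso ψ := IsOpenImmersion.isIso ψ
  refine ⟨MorphismProperty.Over.homMk (inv ψ ≫ W.ι ≫ pullback.snd u v) ?_ trivial, An.Cl.hom_ext (funext fun a => ?_)⟩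
  · show (inv ψ ≫ W.ι ≫ pullback.snd u v) ≫ v = u
    rw [Category.assoc, Category.assoc, ← pullback.condition, IsIso.inv_comp_eq, ← Category.assoc]
  · obtain ⟨w, hw⟩ := hsurj a
    refine Subtype.ext ?_
    show (a : An.Pts U.left).1 ≫ inv ψ ≫ W.ι ≫ pullback.snd u v = (φf a).1
    have h1 := congrArg Subtype.val (hmem w)
    have h2 : An.Pts.map (pullback.fst u v) (An.Pts.map W.ι w) = a := by rw [← hψc]; exact hw
    simp only [g₁, g₂, Function.comp_apply] at h1
    rw [h2] at h1
    rw [← h1, ← hw]
    simp

theorem faithful (X : Scheme.{0}) [X.Over An.SC] [LocallyOfFiniteType (X ↘ An.SC)] [Fact An.EtaleLH] :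
    (An.eps X).Faithful := ⟨fun {U V} {g h} e => by
  have := AnLib.lft_left X U
  have : Etale V.hom := V.prop
  have w : g.left ≫ V.hom = h.left ≫ V.hom := (MorphismProperty.Over.w g).trans (MorphismProperty.Over.w h).symm
  refine MorphismProperty.Over.Hom.ext (FEtLib.eq_of_eqLocus_eq_top V.hom g.left h.left w (top_unique fun p _ => ?_))
  by_contra hp
  obtain ⟨a, ha⟩ := AnLib.exists_pt_mem (X := U.left)
    (FEtLib.eqLocus V.hom g.left h.left w).2.isClosed_compl.isLocallyClosed ⟨p, hp⟩
  exact ha (FEtLib.mem_of_comp_eq V.hom g.left h.left w a.1 (congrArg Subtype.val (congrFun (congrArg An.Cl.Hom.toFun e) a)) An.cpt)⟩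


/-- For X locally of finite type over ℂ, the functor U ↦ U(ℂ) from etale X-schemes to spaces over X(ℂ)
is faithful, and it is full towards etale X-schemes V that are separated over X: every continuous
map U(ℂ) → V(ℂ) over X(ℂ) is induced by a unique X-morphism U → V. Finite etale X-schemes are
separated over X, so this contains the full faithfulness of the passage from finite etale covers of
X to finite covering spaces of X(ℂ). The statement assumes that every etale morphism of schemes
locally of finite type over ℂ induces a local homeomorphism on ℂ-points (this holds and is stated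
separately). (The published statement asserts fullness for all etale X-schemes V; its published
proof treats affine, hence separated, V, and fullness is stated here for targets separated over X
only.) -/
theorem result (X : Scheme.{0}) [X.Over An.SC] [LocallyOfFiniteType (X ↘ An.SC)]
    [Fact An.EtaleLH] :
    (∀ (U V : X.Etale) [IsSeparated (V.left ↘ X)],
        Function.Surjective ((An.eps X).map : (U ⟶ V) → ((An.eps X).obj U ⟶ (An.eps X).obj V))) ∧
      (An.eps X).Faithful := by
  exact ⟨fun U V _ => surjective_map X U V, faithful X⟩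

end Groth.Agent.S4208
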