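import Groth.Statements.S4212
import Mathlib.CategoryTheory.Sites.DenseSubsite.SheafEquiv

set_option autoImplicit false
universe u
open An

namespace Groth.Agent.S4212

open CategoryTheory TopologicalSpace Topology

variable (T : Type u) [TopologicalSpace T]

instance : (opensToCl T).Full := ⟨fun {U V} f => ⟨homOfLE fun x hx => by
    have h : ((f.toFun ⟨x, hx⟩).1 : T) = x := f.over ⟨x, hx⟩
    exact Eq.subst (motive := fun y => y ∈ V) h (f.toFun ⟨x, hx⟩).2, by
    ext a; exact Subtype.ext (f.over a).symm⟩⟩

instance : (opensToCl T).Faithful := ⟨fun {_ _} _ _ _ => Subsingleton.elim _ _⟩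

instance : (opensToCl T).IsCoverDense (Cl.topology T) := by
  refine ⟨fun A a => ?_⟩
  obtain ⟨W, hW, hWemb⟩ := isLocalHomeomorph_iff_isOpenEmbedding_restrict.1 A.lh a
  obtain ⟨W', hW'W, hW'o, haW'⟩ := mem_nhds_iff.1 hW
  have hemb : IsOpenEmbedding (W'.domRestrict A.p) :=
    hWemb.comp (IsOpenEmbedding.inclusion hW'W (hW'o.preimage continuous_subtype_val))
  let U : Opens T := ⟨Set.range (W'.domRestrict A.p), hemb.isOpen_range⟩
  refine ⟨Cl.restrictOpen A W' hW'o, Cl.restrictOpenι A W' hW'o, ⟨⟨U,
    ⟨fun w => ⟨A.p w.1, w, rfl⟩, (A.lh.continuous.comp continuous_subtype_val).subtype_mk _, fun _ => rfl⟩,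
    ⟨fun y => (hemb.isEmbedding.toHomeomorph.symm y).1,
      continuous_subtype_val.comp hemb.isEmbedding.toHomeomorph.symm.continuous, fun y => ?_⟩, ?_⟩⟩,
    hW'o.isOpenEmbedding_subtypeVal, ⟨a, haW'⟩, rfl⟩
  · exact congrArg Subtype.val (hemb.isEmbedding.toHomeomorph.apply_symm_apply y)
  · ext w
    exact congrArg Subtype.val (hemb.isEmbedding.toHomeomorph.symm_apply_apply w)

instance : (opensToCl T).IsDenseSubsite (Opens.grothendieckTopology T) (Cl.topology T) where
  functorPushforward_mem_iff := fun {U S} => by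
    constructor
    · intro h x hx
      obtain ⟨B, g, ⟨V, i, j, hi, hg⟩, -, b, hb⟩ := h ⟨x, hx⟩
      refine ⟨V, i, hi, ?_⟩
      have h' : (((opensToCl T).map i).toFun (j.toFun b)) = ⟨x, hx⟩ := by
        rw [← hb, hg]; rfl
      exact Eq.subst (motive := fun y => y ∈ V) (congrArg Subtype.val h' : (j.toFun b).1 = x) (j.toFun b).2
    · intro h a
      obtain ⟨V, i, hi, ha⟩ := h a.1 a.2
      exact ⟨(opensToCl T).obj V, (opensToCl T).map i, ⟨V, i, 𝟙 _, hi, (Category.id_comp _).symm⟩,
        IsOpenEmbedding.inclusion i.le (V.2.preimage continuous_subtype_val), ⟨a.1, ha⟩, rfl⟩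

/-- For a topological space T, the topos of the site of local homeomorphisms over T is equivalent to
that of T: restriction of abelian sheaves along the inclusion of the opens of T is an equivalence of
categories. -/
theorem result (T : Type u) [TopologicalSpace T] [An.OpCont T] :
    (An.resOpens T).IsEquivalence := by
  exact inferInstanceAs ((opensToCl T).sheafPushforwardContinuous AddCommGrpCat.{u + 1}
    (Opens.grothendieckTopology T) (Cl.topology T)).IsEquivalence

end Groth.Agent.S4212
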