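import Groth.Statements.S4228
import Groth.Agent.BertiniLib.RelDim

set_option autoImplicit false
open CategoryTheory AlgebraicGeometry
universe u
open An

namespace Groth.Agent.S4228

theorem smoothOfRelDim_Spec {k B : Type u} [Field k] [CommRing B] [Algebra k B] (n : ℕ)
    [h : Algebra.IsStandardSmoothOfRelativeDimension n k B] :
    SmoothOfRelativeDimension n (Spec.map (CommRingCat.ofHom (algebraMap k B))) := by
  rw [HasRingHomProperty.Spec_iff (P := @SmoothOfRelativeDimension n)]
  refine RingHom.locally_of ?_ _
    ((RingHom.isStandardSmoothOfRelativeDimension_algebraMap n).2 h)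
  exact RingHom.isStandardSmoothOfRelativeDimension_respectsIso

theorem span_jets {k A C : Type u} [Field k] [CommRing A] [CommRing C] [Algebra k A] [Algebra k C]
    [Algebra A C] [IsScalarTower k A C] (f : A) [IsLocalization.Away f C] {n : ℕ} (x : Fin n → A)
    (hx : Function.Surjective (MvPolynomial.aeval x : MvPolynomial (Fin n) k →ₐ[k] A)) :
    Submodule.span C (Set.range fun j : Fin (n + 1) =>
      (algebraMap A C (Fin.cases 1 x j),
        KaehlerDifferential.D k C (algebraMap A C (Fin.cases 1 x j)))) = ⊤ := by
  set S := Submodule.span C (Set.range fun j : Fin (n + 1) =>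
      (algebraMap A C (Fin.cases 1 x j),
        KaehlerDifferential.D k C (algebraMap A C (Fin.cases 1 x j))))
  have h10 : ((1 : C), (0 : Ω[C⁄k])) ∈ S :=
    Submodule.subset_span ⟨0, by simp⟩
  have hd : ∀ a : A, ((0 : C), KaehlerDifferential.D k C (algebraMap A C a)) ∈ S := by
    intro a
    obtain ⟨p, rfl⟩ := hx a
    induction p using MvPolynomial.induction_on with
    | C c =>
      rw [MvPolynomial.aeval_C, ← IsScalarTower.algebraMap_apply, Derivation.map_algebraMap]
      exact S.zero_mem
    | add p q hp hq =>
      rw [map_add, map_add, map_add]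
      simpa using S.add_mem hp hq
    | mul_X p i hp =>
      rw [map_mul, MvPolynomial.aeval_X, map_mul, Derivation.leibniz]
      have hi : (algebraMap A C (x i), KaehlerDifferential.D k C (algebraMap A C (x i))) ∈ S :=
        Submodule.subset_span ⟨i.succ, by simp⟩
      have hi' : ((0 : C), KaehlerDifferential.D k C (algebraMap A C (x i))) ∈ S := by
        simpa [Algebra.smul_def] using S.sub_mem hi (S.smul_mem (algebraMap A C (x i)) h10)
      simpa using S.add_mem (S.smul_mem (algebraMap A C (MvPolynomial.aeval x p)) hi')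
        (S.smul_mem (algebraMap A C (x i)) hp)
  have hd' : ∀ c : C, ((0 : C), KaehlerDifferential.D k C c) ∈ S := by
    intro c
    obtain ⟨⟨a, _, N, rfl⟩, ha⟩ := IsLocalization.surj (Submonoid.powers f) c
    dsimp only at ha
    have hu : IsUnit (algebraMap A C (f ^ N)) := by
      rw [map_pow]; exact IsLocalization.Away.algebraMap_pow_isUnit f N
    have := congrArg (KaehlerDifferential.D k C) ha
    rw [Derivation.leibniz] at this
    have h2 : algebraMap A C (f ^ N) • ((0 : C), KaehlerDifferential.D k C c) ∈ S := by
      have h3 := S.sub_mem (hd a) (S.smul_mem c (hd (f ^ N)))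
      rw [← this] at h3
      simpa using h3
    simpa [smul_smul] using S.smul_mem ((hu.unit⁻¹ : Cˣ) : C) h2
  refine eq_top_iff.2 ?_
  rintro ⟨a, w⟩ -
  have hw : ((0 : C), w) ∈ S := by
    have : w ∈ Submodule.span C (Set.range (KaehlerDifferential.D k C)) := by
      rw [KaehlerDifferential.span_range_derivation]; trivial
    induction this using Submodule.span_induction with
    | mem y hy => obtain ⟨c, rfl⟩ := hy; exact hd' c
    | zero => exact S.zero_mem
    | add y z _ _ hy hz => simpa using S.add_mem hy hz
    | smul c y _ hy => simpa using S.smul_mem c hy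
  simpa using S.add_mem (S.smul_mem a h10) hw


/-- In the affine hyperplane case to which the proof reduces (the published statement is for a
projective scheme V ⊆ P^n_k of pure dimension r and a general linear subspace of any dimension,
parametrised by a dense open subset of the Grassmannian; part (ii), hypersurfaces of degree ≥ 2
through a point, is not stated here): let k be an infinite field (for a finite field the condition
below on coefficient vectors could hold at no rational point, so the dense-open formulation is
rendered only for infinite k) and A = k[x_1, …, x_n]/I a quotient of the polynomial ring (V = Spec A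
⊆ A^n_k) such that every irreducible component of V has dimension r. Then there is a nonzero
polynomial g in the n + 1 coefficients such that for every a = (a_0, …, a_n) with g(a) ≠ 0 the
hyperplane a_0 + Σ a_i x_i = 0 cuts V transversally at every point of the hyperplane section where V
is smooth over k: the section Spec (A/(a_0 + Σ a_i x_i)) is smooth over k of relative dimension r −
1 on a neighbourhood of each such point. -/
theorem result (k : Type u) [Field k] [Infinite k] (n r : ℕ) (A : Type u) [CommRing A]
    [Algebra k A] (x : Fin n → A)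
    (hx : Function.Surjective (MvPolynomial.aeval x : MvPolynomial (Fin n) k →ₐ[k] A))
    (hdim : ∀ P ∈ minimalPrimes A, ringKrullDim (A ⧸ P) = r) :
    ∃ g : MvPolynomial (Fin (n + 1)) k, g ≠ 0 ∧
      ∀ a : Fin (n + 1) → k, MvPolynomial.eval a g ≠ 0 →
        ∀ (q : Ideal (A ⧸ Ideal.span {algebraMap k A (a 0) + ∑ i : Fin n, algebraMap k A (a i.succ) * x i}))
          (_ : q.IsPrime),
          (∃ f : A, f ∉ q.comap (Ideal.Quotient.mk _) ∧
            Smooth (Spec.map (CommRingCat.ofHom (algebraMap k (Localization.Away f))))) →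
          ∃ f : A ⧸ Ideal.span {algebraMap k A (a 0) + ∑ i : Fin n, algebraMap k A (a i.succ) * x i},
            f ∉ q ∧ SmoothOfRelativeDimension (r - 1)
              (Spec.map (CommRingCat.ofHom (algebraMap k (Localization.Away f)))) := by
  classical
  have : Algebra.FiniteType k A := Algebra.FiniteType.of_surjective _ hx
  have : IsNoetherianRing A := Algebra.FiniteType.isNoetherianRing k A
  have : Algebra.FinitePresentation k A := Algebra.FinitePresentation.of_finiteType.1 ‹_›
  let Dset : Set A := {f | Nontrivial (Localization.Away f) ∧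
    Algebra.IsStandardSmooth k (Localization.Away f)}
  obtain ⟨T, hT, hspan⟩ :=
    Submodule.fg_span_iff_fg_span_finset_subset Dset |>.1 (IsNoetherian.noetherian (Ideal.span Dset))
  let s : Fin (n + 1) → A := Fin.cases 1 x
  have key : ∀ f ∈ T, ∃ g : MvPolynomial (Fin (n + 1)) k, g ≠ 0 ∧
      ∀ a : Fin (n + 1) → k, MvPolynomial.eval a g ≠ 0 →
        ∀ (q : Ideal (A ⧸ Ideal.span {algebraMap k A (a 0) + ∑ i : Fin n, algebraMap k A (a i.succ) * x i}))
          (_ : q.IsPrime), f ∉ q.comap (Ideal.Quotient.mk _) →
          ∃ f' : A ⧸ Ideal.span {algebraMap k A (a 0) + ∑ i : Fin n, algebraMap k A (a i.succ) * x i},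
            f' ∉ q ∧ Algebra.IsStandardSmoothOfRelativeDimension (r - 1) k (Localization.Away f') := by
    intro f hf
    obtain ⟨hnt, hss⟩ := hT hf
    let C := Localization.Away f
    obtain ⟨ι', σ', _, hfin', ⟨P⟩⟩ := hss.out
    have hP : Algebra.IsStandardSmoothOfRelativeDimension P.dimension k C :=
      ⟨ι', σ', _, hfin', P, rfl⟩
    have hPr : P.dimension = r :=
      BertiniLib.relativeDimension_eq (k := k) (C := C) f hdim
    rw [hPr] at hP
    have : Algebra.IsStandardSmooth k C := hss
    have hfr : Module.finrank C Ω[C⁄k] = r := Module.finrank_eq_of_rank_eq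
      (Algebra.IsStandardSmoothOfRelativeDimension.rank_kaehlerDifferential r)
    let b : Module.Basis (Fin r) C Ω[C⁄k] := Module.finBasisOfFinrankEq C Ω[C⁄k] hfr
    obtain ⟨g, hg0, hg⟩ := BertiniLib.exists_poly_singular (k := k) b
      (fun j => algebraMap A C (s j)) 0 (span_jets f x hx)
    refine ⟨g, hg0, fun a ha => ?_⟩
    set l := algebraMap k A (a 0) + ∑ i : Fin n, algebraMap k A (a i.succ) * x i with hl
    intro q hq hfq
    set Q := q.comap (Ideal.Quotient.mk (Ideal.span {l}))
    have hQp : Q.IsPrime := Ideal.IsPrime.comap _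
    have hd : Disjoint (Submonoid.powers f : Set A) (Q : Set A) := by
      rw [Set.disjoint_left]
      rintro _ ⟨N, rfl⟩ h
      exact hfq (hQp.mem_of_pow_mem N h)
    have hlc : algebraMap A C l = 0 + ∑ j, algebraMap k C (a j) * algebraMap A C (s j) := by
      simp [hl, s, Fin.sum_univ_succ, ← IsScalarTower.algebraMap_apply]
    have hlQ : algebraMap A C l ∈ Q.map (algebraMap A C) :=
      Ideal.mem_map_of_mem _ (by
        show Ideal.Quotient.mk _ l ∈ q
        rw [Ideal.Quotient.eq_zero_iff_mem.2 (Ideal.mem_span_singleton_self l)]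
        exact q.zero_mem)
    obtain ⟨i, hi⟩ : ∃ i, b.repr (KaehlerDifferential.D k C (algebraMap A C l)) i ∉
        Q.map (algebraMap A C) := by
      by_contra h
      push Not at h
      refine ha (hg a _ (IsLocalization.isPrime_of_isPrime_disjoint _ C Q hQp hd) ?_ ?_)
      · exact hlc ▸ hlQ
      · exact fun i => hlc ▸ h i
    exact BertiniLib.exists_standardSmooth_quotient (k := k) (r := r) (C := C) f b l q hfq i hi
  choose! g hg0 hg using key
  refine ⟨∏ f ∈ T, g f, Finset.prod_ne_zero_iff.2 hg0, fun a ha q hq hsm => ?_⟩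
  obtain ⟨f, hfq, hf⟩ := hsm
  rw [map_prod, Finset.prod_ne_zero_iff] at ha
  set Q := q.comap (Ideal.Quotient.mk
    (Ideal.span {algebraMap k A (a 0) + ∑ i : Fin n, algebraMap k A (a i.succ) * x i}))
  have hQp : Q.IsPrime := Ideal.IsPrime.comap _
  have hsm' : Algebra.Smooth k (Localization.Away f) := by
    rw [HasRingHomProperty.Spec_iff (P := @Smooth)] at hf
    exact RingHom.smooth_algebraMap.1 hf
  have hQs : Algebra.IsSmoothAt k Q := Algebra.basicOpen_subset_smoothLocus_iff.2 hsm'.1
    (show (⟨Q, hQp⟩ : PrimeSpectrum A) ∈ PrimeSpectrum.basicOpen f from hfq)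
  obtain ⟨f₀, hf₀, hss⟩ := Algebra.IsSmoothAt.exists_notMem_isStandardSmooth k Q
  have hf₀D : f₀ ∈ Dset := by
    refine ⟨?_, hss⟩
    by_contra hc
    rw [not_nontrivial_iff_subsingleton] at hc
    have h0 : algebraMap A (Localization.Away f₀) 1 = algebraMap A _ 0 := Subsingleton.elim _ _
    obtain ⟨⟨_, N, rfl⟩, hN⟩ := (IsLocalization.eq_iff_exists (Submonoid.powers f₀) _).1 h0
    simp only [mul_one, mul_zero] at hN
    exact hf₀ (hQp.mem_of_pow_mem N (hN ▸ Q.zero_mem))
  obtain ⟨f₁, hf₁, hf₁Q⟩ : ∃ f₁ ∈ T, f₁ ∉ Q := by
    by_contra h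
    push Not at h
    exact hf₀ (((le_of_eq hspan).trans (Ideal.span_le.2 h) : Ideal.span Dset ≤ Q) (Ideal.subset_span hf₀D))
  obtain ⟨f', hf', hss'⟩ := hg f₁ hf₁ a (ha f₁ hf₁) q hq hf₁Q
  exact ⟨f', hf', smoothOfRelDim_Spec (r - 1)⟩

end Groth.Agent.S4228
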