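import Groth.Statements.S4243
import Mathlib.Combinatorics.Nullstellensatz
import Mathlib.FieldTheory.Finite.Basic
-- import your own Groth.Agent.* helpers here

set_option autoImplicit false
open SGA4h

namespace Groth.Agent.S4243

/-- Let k be a finite field with q elements and P a nonzero homogeneous polynomial of degree d in r+1
variables over k. If P vanishes at every point of k^{r+1} (that is, the hypersurface P = 0 in
projective r-space passes through every rational point), then d ≥ q + 1. -/
theorem result (k : Type) [Field k] [Fintype k] (r d : ℕ)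
    (P : MvPolynomial (Fin (r + 1)) k) (hP : P.IsHomogeneous d) (hP0 : P ≠ 0)
    (hvan : ∀ x : Fin (r + 1) → k, MvPolynomial.eval x P = 0) :
    Fintype.card k + 1 ≤ d := by
  classical
  set q := Fintype.card k with hq
  have hq2 : 2 ≤ q := Fintype.one_lt_card
  by_contra hd
  have hd' : d ≤ q := by omega
  let c : Fin (r + 1) → k := fun i => P.coeff (Finsupp.single i q)
  let Q : MvPolynomial (Fin (r + 1)) k := P - ∑ i, MvPolynomial.C (c i) * (MvPolynomial.X i ^ q - MvPolynomial.X i)
  have hQv : ∀ x, MvPolynomial.eval x Q = 0 := fun x => by
    simp [Q, hvan x, hq, FiniteField.pow_card]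
  have hcoef : ∀ e, MvPolynomial.coeff e Q = MvPolynomial.coeff e P -
      ∑ i, c i * ((if Finsupp.single i q = e then 1 else 0) - (if Finsupp.single i 1 = e then 1 else 0)) := fun e => by
    simp [Q, MvPolynomial.coeff_sum, MvPolynomial.coeff_C_mul, MvPolynomial.coeff_X_pow, MvPolynomial.coeff_X']
  have hdeg : ∀ i, Q.degreeOf i < (Finset.univ : Finset k).card := fun i => by
    rw [Finset.card_univ, ← hq]
    refine (MvPolynomial.degreeOf_lt_iff (by omega)).mpr fun e he => ?_
    rw [MvPolynomial.mem_support_iff, hcoef] at he
    by_contra hei
    push Not at hei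
    apply he
    have h1 : ∀ j, Finsupp.single j 1 ≠ e := fun j h => by
      rw [← h] at hei
      by_cases hji : j = i <;> simp [hji] at hei <;> omega
    by_cases hP' : MvPolynomial.coeff e P = 0
    · have h2 : ∀ j, c j * ((if Finsupp.single j q = e then 1 else 0) - (if Finsupp.single j 1 = e then 1 else 0)) = 0 := fun j => by
        by_cases hj : Finsupp.single j q = e
        · simp [c, hj, hP']
        · simp [hj, h1 j]
      simp [hP', h2]
    · have hdeg : e.degree = d := by
        by_contra h
        exact hP' (hP.coeff_eq_zero h)
      have hle : e i ≤ e.degree := Finsupp.le_degree i e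
      have hei' : e i = q := by omega
      have hee : Finsupp.single i q = e := by
        have hsum : e.degree = e i + ∑ j ∈ Finset.univ.erase i, e j := by
          rw [Finsupp.degree_eq_sum, Finset.add_sum_erase _ _ (Finset.mem_univ i)]
        refine Finsupp.ext fun j => ?_
        by_cases hji : j = i
        · subst hji; simp [hei']
        · rw [Finsupp.single_apply, if_neg (Ne.symm hji)]
          have : e j ≤ ∑ j ∈ Finset.univ.erase i, e j :=
            Finset.single_le_sum (fun _ _ => Nat.zero_le _) (Finset.mem_erase.mpr ⟨hji, Finset.mem_univ j⟩)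
          omega
      rw [Finset.sum_eq_single i]
      · simp [c, ← hee, Finsupp.single_left_inj (M := ℕ), Finsupp.single_eq_single_iff, show q ≠ 1 by omega, show ¬ (1 = q) by omega]
      · intro j _ hj
        have : Finsupp.single j q ≠ e := fun h => hj (by
          rw [← hee] at h
          exact Finsupp.single_left_injective (show q ≠ 0 by omega) h)
        simp [this, h1 j]
      · simp
  have hQ : Q = 0 := MvPolynomial.eq_zero_of_eval_zero_at_prod_finset Q (fun _ => Finset.univ) hdeg fun x _ => hQv x
  have hPe : P = ∑ i, MvPolynomial.C (c i) * (MvPolynomial.X i ^ q - MvPolynomial.X i) := sub_eq_zero.mp hQ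
  have hc : ∀ i, c i = 0 := fun i => by
    have h := congrArg (MvPolynomial.coeff (Finsupp.single i 1)) hPe
    simp [MvPolynomial.coeff_sum, MvPolynomial.coeff_C_mul, MvPolynomial.coeff_X_pow, MvPolynomial.coeff_X',
      Finsupp.single_eq_single_iff, show q ≠ 1 by omega] at h
    by_contra hci
    have h1 : (1 : ℕ) = d := by
      by_contra h'
      have := hP.coeff_eq_zero (d := Finsupp.single i 1) (by simpa [Finsupp.degree_single] using h')
      rw [this] at h
      exact hci (by simpa using h.symm)
    have h2 : c i = 0 := hP.coeff_eq_zero (by simp [Finsupp.degree_single]; omega)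
    exact hci h2
  exact hP0 (by rw [hPe]; simp [hc])

end Groth.Agent.S4243
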