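import Groth.Statements.S4256
import Mathlib.NumberTheory.LegendreSymbol.AddCharacter
import Mathlib.Algebra.BigOperators.Ring.Finset
import Mathlib.Tactic.LinearCombination
-- import your own Groth.Agent.* helpers here

set_option autoImplicit false
open scoped BigOperators
open SGA4h

namespace Groth.Agent.S4256

/-- Let k be a finite field, ψ a nontrivial additive character of k with values in a domain R, and n ≥
1. Then the generalised Kloosterman sum with parameter 0, Σ ψ(x_1 + ⋯ + x_n) over all (x_1, …, x_n)
∈ k^n with x_1 ⋯ x_n = 0, equals (-1)^{n-1}. -/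
theorem result (k : Type) [Field k] [Fintype k] [DecidableEq k] (R : Type) [CommRing R] [IsDomain R]
    (ψ : AddChar k R) (hψ : ψ ≠ 1) (n : ℕ) (hn : 1 ≤ n) :
    ∑ x ∈ (Finset.univ : Finset (Fin n → k)).filter (fun x => ∏ i, x i = 0), ψ (∑ i, x i) = (-1) ^ (n - 1) := by
  classical
  have hprod : ∀ x : Fin n → k, ψ (∑ i, x i) = ∏ i, ψ (x i) := fun x => by
    induction (Finset.univ : Finset (Fin n)) using Finset.induction with
    | empty => simp
    | insert i t hi ih => rw [Finset.sum_insert hi, Finset.prod_insert hi, AddChar.map_add_eq_mul, ih]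
  have h0 : ∑ a : k, ψ a = 0 := AddChar.sum_eq_zero_of_ne_one hψ
  have h1 : ∑ a ∈ Finset.univ.erase (0 : k), ψ a = -1 := by
    have := Finset.add_sum_erase Finset.univ (fun a => ψ a) (Finset.mem_univ (0 : k))
    rw [h0, AddChar.map_zero_eq_one] at this
    linear_combination this
  have hall : ∑ x : Fin n → k, ψ (∑ i, x i) = 0 := by
    rw [Finset.sum_congr rfl fun x _ => hprod x, ← Fintype.prod_sum fun (i : Fin n) (a : k) => ψ a]
    simp only [h0, Finset.prod_const, Finset.card_univ, Fintype.card_fin, zero_pow (by omega : n ≠ 0)]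
  have hne : ∑ x ∈ Finset.univ.filter (fun x : Fin n → k => ¬∏ i, x i = 0), ψ (∑ i, x i) = (-1) ^ n := by
    rw [Finset.sum_congr rfl fun x _ => hprod x,
      show Finset.univ.filter (fun x : Fin n → k => ¬∏ i, x i = 0) =
          Fintype.piFinset fun _ : Fin n => Finset.univ.erase (0 : k) by
        ext x; simp [Finset.prod_eq_zero_iff, Fintype.mem_piFinset],
      Finset.sum_prod_piFinset (Finset.univ.erase (0 : k)) fun _ a => ψ a]
    simp [h1]
  have := Finset.sum_filter_add_sum_filter_not Finset.univ (fun x : Fin n → k => ∏ i, x i = 0)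
    (fun x => ψ (∑ i, x i))
  rw [hne, hall] at this
  obtain ⟨m, rfl⟩ := Nat.exists_eq_succ_of_ne_zero (by omega : n ≠ 0)
  rw [pow_succ] at this
  simp only [Nat.succ_sub_one]
  linear_combination this

end Groth.Agent.S4256
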