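import Groth.Statements.S4260
import Groth.Agent.Et18.TraceZero.Finish
-- import your own Groth.Agent.* helpers here

set_option autoImplicit false
universe u
open CategoryTheory CategoryTheory.Limits AlgebraicGeometry Opposite
open scoped BigOperators
open SGA4h

namespace Groth.Agent.S4260

/-- Stated with coefficients a finite field Λ of characteristic invertible in k and a single sheaf: let
k be a finite field, K an algebraic closure, a : X₀ → Spec k finite, and L an etale sheaf of
Λ-modules on X₀ which is constructible. Then Σ_{x ∈ X₀(k)} Tr(F_x, L_x̄) = Σ_i (-1)^i Tr(F^*, H^i(X₀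
⊗_k K, L)), where the right side is computed through the trivial compactification (X₀ is proper over
k). -/
theorem result (k K : Type u) [Field k] [Fintype k] [Field K] [Algebra k K]
    [IsAlgClosed K] [Algebra.IsAlgebraic k K] (Λ : Type) [Field Λ] [Finite Λ] (hΛ : (ringChar Λ : k) ≠ 0)
    [Fact FinFr.PullExact.{u}] {X₀ : Scheme.{u}} (a : X₀ ⟶ Spec (CommRingCat.of k)) [IsFinite a]
    (L : EtLam.Sheaf Λ X₀) (hL : EtLam.IsConstructible L) :
    ∑ᶠ x : FinFr.RatPt a, FinFr.locTrace (K := K) x.1 L =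
      ∑ᶠ i : ℕ, (-1 : Λ) ^ i * LinearMap.trace Λ _ (FinFr.frobC (K := K) (𝟙 X₀) a L i) := by
  let L' := FinFr.extZeroLam (𝟙 X₀) L
  let φ : L'.carrier ≅ L.carrier := (Et18.TraceZero.extZeroIdIso X₀).app L.carrier
  have hφ : ∀ r, L'.act r ≫ φ.hom = φ.hom ≫ L.act r :=
    fun r => (Et18.TraceZero.extZeroIdIso X₀).hom.naturality (L.act r)
  haveI : ∀ y, Finite (Et18.TraceZero.Comp K a L' y) := fun y => by
    have := Et18.TraceZero.finite_stalk_of_constructible hL (Et18.TraceZero.pt a y ≫ FinFr.extπ K a)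
    have h1 : Finite ((EtCoh.stalk (Et18.TraceZero.pt a y ≫ FinFr.extπ K a)).obj L'.carrier) :=
      @Finite.of_injective _ _ this _ (ConcreteCategory.bijective_of_isIso
        ((EtCoh.stalk (Et18.TraceZero.pt a y ≫ FinFr.extπ K a)).map φ.hom)).1
    have h2 := Et18.H0Lift.bijective_toPull _
      ⟨Et18.TraceZero.e₁ k K, Et18.TraceZero.e₁_pt_π a y⟩ L'.carrier
    have h3 := @Finite.of_surjective _ _ h1 _ h2.2
    exact @Finite.of_injective _ _ h3 _ (Et18.TraceZero.gev_bijective (Et18.TraceZero.e₁ k K) _).1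
  haveI : ∀ y, Module.Finite Λ (Et18.TraceZero.Comp K a L' y) := fun y => Module.Finite.of_finite
  refine Eq.trans (finsum_congr fun x => ?_) (Et18.TraceZero.trace_formula a L')
  exact (Et18.TraceZero.galLin_conj (𝟙 (Spec (CommRingCat.of k))) _
    (L := EtLam.pullback x.1 L') (L' := EtLam.pullback x.1 L)
    ((EtCoh.pull x.1).mapIso φ) (Et18.TraceZero.map_iso_compat (L := L') (L' := L) x.1 φ hφ) 0).symm

end Groth.Agent.S4260
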