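import Groth.Statements.S4263
import Groth.Agent.Et18.FrobGal
-- import your own Groth.Agent.* helpers here

set_option autoImplicit false
universe u
open CategoryTheory CategoryTheory.Limits AlgebraicGeometry Opposite
open scoped BigOperators
open SGA4h

namespace Groth.Agent.S4263

/-- For an affine scheme and constant coefficients, pullback along the Frobenius endomorphism equals the
geometric Frobenius on cohomology: let k be a finite field with q elements, K an algebraic
extension, R a k-algebra, X₀ = Spec R, φ_R : R → R the ring endomorphism r ↦ r^q (the Frobenius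
endomorphism F of X₀ is Spec φ_R, a k-morphism), and Λ a coefficient ring. Then for every n the
endomorphism of H^n(X₀ ⊗_k K, Λ) induced by pullback along F × id (using the identifications of the
inverse images of the constant sheaf Λ with Λ) coincides with the geometric Frobenius F^* defined as
transport of structure by the inverse of the arithmetic Frobenius x ↦ x^q of K. -/
theorem result (k K : Type u) [Field k] [Fintype k] [Field K] [Algebra k K]
    [Algebra.IsAlgebraic k K] (Λ : Type) [CommRing Λ] [Fact FinFr.PullExact.{u}]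
    (R : Type u) [CommRing R] [Algebra k R] (φ : R →+* R) (hφ : ∀ r : R, φ r = r ^ Fintype.card k)
    (hw : Spec.map (CommRingCat.ofHom φ) ≫ Spec.map (CommRingCat.ofHom (algebraMap k R)) =
      Spec.map (CommRingCat.ofHom (algebraMap k R))) (n : ℕ)
    (x : EtCoh.H (FinFr.ext K (Spec.map (CommRingCat.ofHom (algebraMap k R))))
      (EtLam.pullback (FinFr.extπ K (Spec.map (CommRingCat.ofHom (algebraMap k R)))) (FinFr.constLam Λ (Spec (CommRingCat.of R)))).carrier n) :
    FinFr.frob (K := K) (Spec.map (CommRingCat.ofHom (algebraMap k R))) (FinFr.constLam Λ (Spec (CommRingCat.of R))) n x =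
      Sheaf.H.map (EtCore.pullConst (FinFr.extπ K (Spec.map (CommRingCat.ofHom (algebraMap k R)))) Λ).inv n
        (FinFr.endConstAdd (Λ := Λ) (FinFr.extHom K (Spec.map (CommRingCat.ofHom (algebraMap k R))) (Spec.map (CommRingCat.ofHom φ)) hw) n
          (Sheaf.H.map (EtCore.pullConst (FinFr.extπ K (Spec.map (CommRingCat.ofHom (algebraMap k R)))) Λ).hom n x)) := by
  classical
  let a := Spec.map (CommRingCat.ofHom (algebraMap k R))
  obtain ⟨p, hp⟩ := CharP.exists k
  obtain ⟨r, hpp, hq⟩ := FiniteField.card k p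
  have : Fact p.Prime := ⟨hpp⟩
  have : CharP K p := charP_of_injective_algebraMap (algebraMap k K).injective p
  let X := FinFr.ext K a
  have : FrobSch.IsCharP (Spec (CommRingCat.of k)) p := inferInstance
  have : FrobSch.IsCharP (Spec (CommRingCat.of K)) p := inferInstance
  have : FrobSch.IsCharP (Spec (CommRingCat.of R)) p := FrobSch.IsCharP.of_hom a p
  have : FrobSch.IsCharP X p := FrobSch.IsCharP.of_hom (FinFr.extStr K a) p
  let σ := FinFr.arith k K
  let A := FinFr.extHom K a (Spec.map (CommRingCat.ofHom φ)) hw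
  have hspec : ∀ (B : Type u) [CommRing B] [FrobSch.IsCharP (Spec (CommRingCat.of B)) p] (ψ : B →+* B),
      (∀ b, ψ b = b ^ p ^ (r : ℕ)) →
      Spec.map (CommRingCat.ofHom ψ) = Groth.Agent.LVFrob.FN p (Spec (CommRingCat.of B)) r := fun B _ _ ψ hψ => by
    refine ext_of_isAffine ?_
    ext s
    rw [Scheme.Hom.appTop, Scheme.Hom.appTop]
    have e := Groth.Agent.LVFrob.FN_appLE p (X := Spec (CommRingCat.of B)) r ⊤ le_rfl s
    rw [Scheme.Hom.appLE, ConcreteCategory.comp_apply] at e
    refine Eq.trans ?_ (e.symm.trans (ConcreteCategory.congr_hom ((Spec (CommRingCat.of B)).presheaf.map_id _) _))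
    refine (Scheme.ΓSpecIso (CommRingCat.of B)).commRingCatIsoToRingEquiv.injective ?_
    change (Scheme.ΓSpecIso (CommRingCat.of B)).hom ((Spec.map (CommRingCat.ofHom ψ)).appTop s) = _
    rw [← ConcreteCategory.comp_apply, Scheme.ΓSpecIso_naturality, map_pow]
    exact hψ _
  have hA : A ≫ FinFr.galAct a σ = Groth.Agent.LVFrob.FN p X r := by
    apply pullback.hom_ext
    · rw [Category.assoc, FinFr.galAct_fst, FinFr.extHom_fst, hspec R φ (fun b => by rw [hφ, hq])]
      exact (Groth.Agent.LVFrob.FN_comm p (FinFr.extπ K a) r).symm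
    · rw [Category.assoc, FinFr.galAct_snd, ← Category.assoc,
        show A ≫ FinFr.extStr K a = FinFr.extStr K a from (pullback.lift_snd _ _ _).trans (Category.comp_id _),
        hspec K (σ : K →+* K) (fun b => by rw [← hq]; rfl)]
      exact (Groth.Agent.LVFrob.FN_comm p (FinFr.extStr K a) r).symm
  have hg : FinFr.galAct a σ ≫ FinFr.galAct a σ.symm = 𝟙 X := by
    apply pullback.hom_ext
    · rw [Category.assoc, FinFr.galAct_fst, FinFr.galAct_fst, Category.id_comp]
    · rw [Category.assoc, FinFr.galAct_snd, ← Category.assoc, FinFr.galAct_snd, Category.assoc, Category.id_comp,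
        ← Spec.map_comp]
      have hc : CommRingCat.ofHom (σ.symm : K →+* K) ≫ CommRingCat.ofHom (σ : K →+* K) = 𝟙 _ := by
        ext z; exact σ.apply_symm_apply z
      rw [hc, Spec.map_id, Category.comp_id]
  have := FinFr.pullExact_out (FinFr.galAct a σ.symm)
  have h1 : FinFr.frob (K := K) a (FinFr.constLam Λ (Spec (CommRingCat.of R))) n x =
      EtCore.HpullVia (FinFr.galAct a σ.symm) (FinFr.extπ K a) (FinFr.extπ K a) (FinFr.galAct_fst a σ.symm)
        (EtCoh.const _ Λ) n x := rfl
  refine h1.trans ((Groth.Agent.Et18.FrobAbs.HpullVia_const _ _ _ n x).trans ?_)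
  refine congrArg (Sheaf.H.map (EtCore.pullConst (FinFr.extπ K a) Λ).inv n) ?_
  let y := Sheaf.H.map (EtCore.pullConst (FinFr.extπ K a) Λ).hom n x
  show FinFr.endConstAdd (Λ := Λ) (FinFr.galAct a σ.symm) n y = FinFr.endConstAdd (Λ := Λ) A n y
  calc FinFr.endConstAdd (Λ := Λ) (FinFr.galAct a σ.symm) n y
      = FinFr.endConstAdd (Λ := Λ) (A ≫ FinFr.galAct a σ) n (FinFr.endConstAdd (Λ := Λ) (FinFr.galAct a σ.symm) n y) := by
        rw [hA, Groth.Agent.Et18.FrobAbs.endConstAdd_FN]
    _ = FinFr.endConstAdd (Λ := Λ) A n y := by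
        rw [← Groth.Agent.Et18.FrobAbs.endConstAdd_comp, Category.assoc, hg, Category.comp_id]

end Groth.Agent.S4263
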