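import Groth.Statements.S4272
import Groth.Agent.AbCubeLib.EffCartierCompl
import Groth.Agent.AbCubeLib.CanonicalSection
import Groth.Agent.FlatMor12.AmpleFamily
import Groth.Agent.MorProj.InvTensor
import Mathlib.AlgebraicGeometry.Limits

set_option autoImplicit false
universe u
open CategoryTheory CategoryTheory.Limits AlgebraicGeometry
attribute [local instance] HasDerivedCategory.standard
open KSix

set_option backward.isDefEq.respectTransparency.types false
set_option backward.isDefEq.respectTransparency false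

namespace Groth.Agent.S4272


/-- An affine open of a Noetherian scheme lies in a dense affine open. -/
theorem exists_dense_affine {X : Scheme.{u}} [IsNoetherian X] {U₀ : X.Opens} (hU₀ : IsAffineOpen U₀)
    {x : X} (hx : x ∈ U₀) : ∃ U : X.Opens, IsAffineOpen U ∧ x ∈ U ∧ Dense (U : Set X) := by
  classical
  let T := {Z : Set X // Z ∈ irreducibleComponents X ∧ ¬ Z ⊆ closure (U₀ : Set X)}
  have hfin : (irreducibleComponents X).Finite := TopologicalSpace.NoetherianSpace.finite_irreducibleComponents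
  haveI : Finite T := (hfin.subset fun Z hZ => hZ.1).to_subtype
  have hW : ∀ Z : T, ∃ W : X.Opens, IsAffineOpen W ∧ (W : Set X).Nonempty ∧ (W : Set X) ⊆ Z.1 ∧
      (∀ Z' ∈ irreducibleComponents X, Z' ≠ Z.1 → Disjoint (W : Set X) Z') ∧
      Disjoint (W : Set X) (closure (U₀ : Set X)) := fun Z => by
    let S := insert (closure (U₀ : Set X)) (irreducibleComponents X \ {Z.1})
    have hS : S.Finite := (hfin.subset Set.sdiff_subset).insert _
    have hcl : IsClosed (⋃₀ S) := hS.isClosed_biUnion (fun t ht => ?_) |> fun h => by rwa [Set.sUnion_eq_biUnion]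
    swap
    · rcases ht with rfl | ht
      · exact isClosed_closure
      · exact isClosed_of_mem_irreducibleComponents _ ht.1
    have hne : ¬ Z.1 ⊆ ⋃₀ S := fun h => by
      obtain ⟨t, ht, hle⟩ := (isIrreducible_iff_sUnion_isClosed.1 Z.2.1.1 hS.toFinset (by
        intro t ht
        rcases hS.mem_toFinset.1 ht with rfl | ht
        · exact isClosed_closure
        · exact isClosed_of_mem_irreducibleComponents _ ht.1) (by rwa [Set.Finite.coe_toFinset]))
      rcases hS.mem_toFinset.1 ht with rfl | ht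
      · exact Z.2.2 hle
      · exact ht.2 ((Z.2.1.2 ht.1.1 hle).antisymm hle)
    obtain ⟨z, hzZ, hz⟩ := Set.not_subset.1 hne
    obtain ⟨W, hW, hzW, hle⟩ := exists_isAffineOpen_mem_and_subset (x := z)
      (U := (⟨(⋃₀ S)ᶜ, hcl.isOpen_compl⟩ : X.Opens)) hz
    refine ⟨W, hW, ⟨z, hzW⟩, fun y hy => ?_, fun Z' hZ' hne' => ?_, ?_⟩
    · by_contra hy'
      exact hle hy ⟨irreducibleComponent y, Or.inr ⟨irreducibleComponent_mem_irreducibleComponents y,
        fun e => hy' ((Set.mem_singleton_iff.1 e) ▸ mem_irreducibleComponent)⟩, mem_irreducibleComponent⟩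
    · exact Set.disjoint_left.2 fun y hy hy' => hle hy ⟨Z', Or.inr ⟨hZ', hne'⟩, hy'⟩
    · exact Set.disjoint_left.2 fun y hy hy' => hle hy ⟨_, Or.inl rfl, hy'⟩
  choose W hWa hWne hWsub hWd hWU using hW
  have hpair : Pairwise fun i j : T => Disjoint (W i) (W j) := fun i j hij =>
    disjoint_iff_inf_le.2 fun y hy => (Set.disjoint_left.1 (hWd i j.1 j.2.1 fun e => hij (Subtype.ext e.symm))
      hy.1 (hWsub j hy.2)).elim
  refine ⟨U₀ ⊔ ⨆ Z, W Z, hU₀.sup_of_disjoint (IsAffineOpen.iSup_of_disjoint hWa hpair) ?_, Or.inl hx, ?_⟩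
  · refine disjoint_iff_inf_le.2 fun y hy => ?_
    obtain ⟨Z, hZ⟩ := TopologicalSpace.Opens.mem_iSup.1 hy.2
    exact (Set.disjoint_left.1 (hWU Z) hZ (subset_closure hy.1)).elim
  · intro y
    by_cases h : irreducibleComponent y ⊆ closure (U₀ : Set X)
    · exact closure_mono (fun z hz => Or.inl hz) (h mem_irreducibleComponent)
    · let Z : T := ⟨_, irreducibleComponent_mem_irreducibleComponents y, h⟩
      have hd : irreducibleComponent y ⊆ closure (irreducibleComponent y ∩ (W Z : Set X)) :=
        subset_closure_inter_of_isPreirreducible_of_isOpen isIrreducible_irreducibleComponent.2 (W Z).2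
          (let ⟨z, hz⟩ := hWne Z; ⟨z, hWsub Z hz, hz⟩)
      exact closure_mono (fun z hz => Or.inr (TopologicalSpace.Opens.mem_iSup.2 ⟨Z, hz.2⟩))
        (hd mem_irreducibleComponent)

/-- A separated Noetherian scheme whose local rings are factorial (unique factorisation domains) is
divisorial, i.e. admits an ample family of invertible modules. -/
theorem result (X : Scheme.{u}) [IsNoetherian X] [X.IsSeparated]
    (hfact : ∀ x : X, ∃ _ : IsDomain (X.presheaf.stalk x), UniqueFactorizationMonoid (X.presheaf.stalk x)) :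
    MoreMor.HasAmpleFamily X := by
  refine Groth.Agent.FlatMor12.AmpleFamily.hasAmpleFamily_of fun x => ?_
  obtain ⟨U₀, hU₀, hxU₀, -⟩ := exists_isAffineOpen_mem_and_subset (X := X) (x := x) (U := ⊤) trivial
  obtain ⟨U, hU, hxU, hdense⟩ := exists_dense_affine hU₀ hxU₀
  obtain ⟨I, hI, hsupp⟩ := Groth.Agent.AbCubeLib.exists_effCartier_compl
    (fun _ _ hV hW => hV.inf hW) hU hdense fun y _ => let ⟨hd, hu⟩ := hfact y; ⟨hd, hu⟩
  obtain ⟨L, ⟨e⟩⟩ := Groth.Agent.VarietyLib.exists_isInverseOf
    (Groth.Agent.FlatMor12.IdealModGen.isInvertible_idealMod I hI)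
  have hL : PicF.IsInvertible L :=
    Groth.Agent.MorProj.isInvertible_of_tensor_iso (Groth.Agent.AmpleLib.tensorComm _ _ ≪≫ e)
  obtain ⟨s, hs⟩ := Groth.Agent.AbCubeLib.exists_section_of_effCartier I hI hL ⟨Groth.Agent.AmpleLib.tensorComm _ _ ≪≫ e⟩
  exact ⟨U, ⟨L, s, hL, TopologicalSpace.Opens.ext (hs.trans (by rw [hsupp, compl_compl]))⟩, hxU, hU⟩

end Groth.Agent.S4272
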