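import Groth.Statements.S6200
import Groth.Agent.DCat.TorSheaf
import Groth.Agent.DCat.LTensorModule
import Groth.Agent.FlatCx12.AmpThick

set_option autoImplicit false
set_option backward.isDefEq.respectTransparency false
set_option backward.defeqAttrib.useBackward true
universe u
open CategoryTheory CategoryTheory.Limits AlgebraicGeometry
attribute [local instance] HasDerivedCategory.standard
open KSix

namespace Groth.Agent.S6200

open Groth.Agent.DCat Groth.Agent.ModStalk HomologicalComplex MonoidalCategory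

/-- Over the identity, the stalk is the stalk. -/
noncomputable def stalkOverIdIso {X : Scheme.{u}} (x : X) :
    DerSch.stalkOver (𝟙 X) x ≅ DerSch.stalkFunctor X x :=
  Functor.isoWhiskerLeft (DerSch.stalkFunctor X x)
    (ModuleCat.restrictScalarsId' ((𝟙 X : X ⟶ X).stalkMap x).hom (by rw [Scheme.Hom.stalkMap_id]; rfl)) ≪≫
    Functor.rightUnitor _

lemma amp_stalk_iff {X : Scheme.{u}} (F : CochainComplex X.Modules ℤ) (a b : ℤ) (x : X) :
    DerSch.HasTorAmplitudeAt (𝟙 X) a b F x ↔
      DRing.HasTorAmplitudeIn (X.presheaf.stalk x) a b (DRing.toD ((stalkK x).obj F)) := by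
  let e := (NatIso.mapHomologicalComplex (stalkOverIdIso x) (ComplexShape.up ℤ)).app F
  exact ⟨fun ⟨E, h1, h2, ⟨i⟩⟩ => ⟨E, h1, h2, ⟨i ≪≫ DerivedCategory.Q.mapIso e⟩⟩,
    fun ⟨E, h1, h2, ⟨i⟩⟩ => ⟨E, h1, h2, ⟨i ≪≫ DerivedCategory.Q.mapIso e.symm⟩⟩⟩

lemma exactAt_of_amp {R : Type u} [CommRing R] {C : DRing.Cx R} {a b i : ℤ}
    (h : DRing.HasTorAmplitudeIn R a b (DRing.toD C)) (hi : i < a ∨ b < i) : C.ExactAt i := by
  obtain ⟨E, hE, -, ⟨e⟩⟩ := h
  rw [← isZero_homology_toD_iff]
  refine IsZero.of_iso ?_ ((DerivedCategory.homologyFunctor (ModuleCat.{u} R) i).mapIso e.symm)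
  rw [isZero_homology_toD_iff]
  exact HomologicalComplex.ExactAt.of_isZero (hE i hi)

/-- For the identity morphism of a scheme: let X be a scheme and E ∈ D⁻(O_X) be given by a cochain
complex F. Then E has tor amplitude in [a, b] in the absolute sense (it is isomorphic in D(O_X) to a
complex of flat O_X-modules placed in [a, b]) if and only if at every point x the complex of stalks
F_x has tor amplitude in [a, b] over the local ring of X at x (tor amplitude relative to the
identity of X, stalkwise form). (The published statement is for a morphism of ringed topoi with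
enough points and tor amplitude over the inverse image of the structure sheaf of the base; this row
is the case of the identity of a scheme.) -/
theorem result {X : Scheme.{u}} (F : CochainComplex X.Modules ℤ) (d : ℤ)
    [(DCoh.toD X F).IsLE d] (a b : ℤ) :
    DCoh.HasFlatAmplitudeIn a b (DCoh.toD X F) ↔ DerSch.HasTorAmplitude (𝟙 X) a b F := by
  constructor
  · rintro ⟨E, hE, hEf, ⟨e⟩⟩ x
    refine Groth.Agent.FlatCx12.AmpThick.amp_congr (𝟙 X) x e ((amp_stalk_iff E a b x).2 ?_)
    exact ⟨(stalkK x).obj E, fun i hi => (DerSch.stalkFunctor X x).map_isZero (hE i hi), fun i => hEf i x, ⟨Iso.refl _⟩⟩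
  intro h
  have hS : ∀ x, DRing.HasTorAmplitudeIn (X.presheaf.stalk x) a b (DRing.toD ((stalkK x).obj F)) :=
    fun x => (amp_stalk_iff F a b x).1 (h x)
  have hex : ∀ i, (i < a ∨ b < i) → F.ExactAt i := fun i hi =>
    Groth.Agent.DCat.exactAt_iff_stalks.1 fun x => exactAt_of_amp (hS x) hi
  by_cases hab : a ≤ b
  swap
  · refine ⟨HomologicalComplex.zero, fun i _ => (isZero_zero X.Modules),
      fun i => isFlat_of_isZero ((isZero_zero X.Modules)), ?_⟩
    haveI : QuasiIso (0 : (HomologicalComplex.zero : CochainComplex X.Modules ℤ) ⟶ F) :=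
      ⟨fun i => (quasiIsoAt_iff_exactAt _ i
        (HomologicalComplex.ExactAt.of_isZero ((isZero_zero X.Modules)))).2
          (hex i (by omega))⟩
    exact ⟨asIso (DerivedCategory.Q.map (0 : (HomologicalComplex.zero : CochainComplex X.Modules ℤ) ⟶ F))⟩
  haveI : F.IsLE b := by
    rw [CochainComplex.isLE_iff]
    exact fun i hi => hex i (Or.inr hi)
  obtain ⟨P, c, hP, hPf, hc, hPb⟩ := exists_kflat_sheaf_le (F.truncLE b) b
    (fun n hn => CochainComplex.isZero_of_isStrictlyLE _ b n hn)
  haveI := hc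
  have e' : DCoh.toD X P ≅ DCoh.toD X F :=
    asIso (DerivedCategory.Q.map c) ≪≫ asIso (DerivedCategory.Q.map (F.ιTruncLE b))
  have hcok : FlatMod.IsFlat (cokernel (P.d (a - 1) a)) := fun x => by
    let σ := DerSch.stalkFunctor X x
    have hS' := ((ShortComplex.exact_cokernel (P.d (a - 1) a))).map σ
    rw [ShortComplex.ShortExact.moduleCat_exact_iff_function_exact] at hS'
    obtain ⟨E, h1, h2, ⟨i⟩⟩ := (amp_stalk_iff P a b x).1 (Groth.Agent.FlatCx12.AmpThick.amp_congr (𝟙 X) x e'.symm (h x))
    refine flat_cokernel_of_exactAt ((stalkK x).obj P) (fun n => hPf n x) a (fun A => ?_)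
      (σ.map (cokernel.π (P.d (a - 1) a))) ((ModuleCat.epi_iff_surjective _).1 inferInstance) hS'
    haveI := hasLTensor A
    exact (isZero_ltensor_iff A ((isKFlatFor_iff_stalks P).1 hP x) (Iso.refl _) (a - 1)).1
      (vanish_of_flatAmp ⟨E, h1, h2, ⟨i⟩⟩ A (Or.inl (by omega)))
  haveI : P.IsGE a := by
    rw [CochainComplex.isGE_iff]
    intro i hi
    rw [← Groth.Agent.DCat.isZero_HD_toD_iff]
    refine IsZero.of_iso ?_ ((DerivedCategory.homologyFunctor X.Modules i).mapIso e')
    exact (Groth.Agent.DCat.isZero_HD_toD_iff F i).2 (hex i (Or.inl hi))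
  haveI : P.IsStrictlyLE b := (CochainComplex.isStrictlyLE_iff _ _).2 hPb
  refine ⟨P.truncGE a, fun i hi => ?_, fun i => ?_, ⟨(asIso (DerivedCategory.Q.map (P.πTruncGE a))).symm ≪≫ e'⟩⟩
  · obtain hi | hi := hi
    · exact CochainComplex.isZero_of_isStrictlyGE _ a i hi
    · exact (hPb i hi).of_iso (P.truncGEXIso a i (by omega))
  · rcases lt_trichotomy i a with hi | rfl | hi
    · exact isFlat_of_isZero (CochainComplex.isZero_of_isStrictlyGE _ a i hi)
    · refine isFlat_of_iso ?_ hcok
      exact IsColimit.coconePointUniqueUpToIso (colimit.isColimit _)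
        (P.opcyclesIsCokernel (i - 1) i (by simp)) ≪≫ (P.truncGEXIsoOpcycles i).symm
    · exact isFlat_of_iso (P.truncGEXIso a i (by omega)).symm (hPf i)

end Groth.Agent.S6200
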