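import Groth.Statements.S4275
import Groth.Agent.DQCoh.PerfectTor
import Groth.Agent.S6200
import Groth.Agent.FlatCx12.AmpFibre
import Groth.Agent.FlatCx12.EmbPush

set_option autoImplicit false
set_option backward.isDefEq.respectTransparency false
set_option backward.defeqAttrib.useBackward true
universe u
open CategoryTheory CategoryTheory.Limits AlgebraicGeometry
attribute [local instance] HasDerivedCategory.standard
open KSix

namespace Groth.Agent.S4275

lemma flat_restrict {A B : Type u} [CommRing A] [CommRing B] (φ : A →+* B) (hφ : φ.Flat) (M : ModuleCat.{u} B)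
    [Module.Flat B M] : Module.Flat A ((ModuleCat.restrictScalars.{u} φ).obj M) := by
  letI := φ.toAlgebra
  haveI : Module.Flat A B := hφ
  letI : Module A M := Module.compHom M φ
  haveI : IsScalarTower A B M := IsScalarTower.of_algebraMap_smul fun _ _ => rfl
  exact (Module.Flat.trans A B M : Module.Flat A M)

/-- For the ringed space underlying a scheme: let E ∈ D(O_X) and m ≤ n. Then E has perfect amplitude in
[m, n] (locally isomorphic to a complex of finite locally free modules placed in degrees [m, n]) if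
and only if E is (m-1)-pseudo-coherent and has tor amplitude in [m, n] (is isomorphic to a complex
of flat modules placed in degrees [m, n]). (The source states this on an arbitrary ringed topos,
with tor amplitude defined through Tor sheaves.) -/
theorem result (X : Scheme.{u}) (E : DCoh.D X) (m n : ℤ) (hmn : m ≤ n) :
    KSix.HasPerfectAmplitudeIn m n E ↔ DCoh.IsPseudoCoherentD (m - 1) E ∧ DCoh.HasFlatAmplitudeIn m n E := by
  constructor
  · intro h
    have hp : DCoh.IsPerfect E := fun x => by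
      obtain ⟨V, hx, hV⟩ := h x
      refine ⟨V, hx, fun F hF => ?_⟩
      obtain ⟨C, hC, hf, hi⟩ := hV F hF
      exact ⟨C, ⟨⟨m, n, hC⟩, hf⟩, hi⟩
    refine ⟨Groth.Agent.DQCoh.psc_of_perfect hp _, ?_⟩
    let F := DerivedCategory.Q.objPreimage E
    let eF : DCoh.toD X F ≅ E := DerivedCategory.Q.objObjPreimageIso E
    have hamp : DerSch.HasTorAmplitude (𝟙 X) m n F := fun x => by
      obtain ⟨V, hx, hV⟩ := h x
      obtain ⟨C, hC, hf, ⟨i⟩⟩ := hV F ⟨eF⟩
      obtain ⟨s⟩ := Groth.Agent.FlatCx12.AmpFibre.nonempty_stalk_restrict (𝟙 X) V.ι F ⟨x, hx⟩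
      obtain ⟨t⟩ := Groth.Agent.FlatCx12.AmpThick.nonempty_stalk_iso (V.ι ≫ 𝟙 X) ⟨x, hx⟩ i
      refine ⟨(DerSch.stalkCxOver (V.ι ≫ 𝟙 X) ⟨x, hx⟩).obj C,
        fun j hj => (DerSch.stalkOver (V.ι ≫ 𝟙 X) ⟨x, hx⟩).map_isZero (hC j hj), fun j => ?_, ⟨(s ≪≫ t).symm⟩⟩
      have h0 : ((V.ι ≫ 𝟙 X : (V : Scheme.{u}) ⟶ X).stalkMap (⟨x, hx⟩ : V)).hom.Flat := Flat.stalkMap _ _
      haveI : Module.Flat _ ((DerSch.stalkFunctor (V : Scheme.{u}) ⟨x, hx⟩).obj (C.X j)) :=
        Groth.Agent.DCat.PullPerf.isFlat_of_finLocFree (hf j) ⟨x, hx⟩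
      exact flat_restrict _ h0 ((DerSch.stalkFunctor (V : Scheme.{u}) ⟨x, hx⟩).obj (C.X j))
    haveI : (DCoh.toD X F).IsLE n := by
      rw [DerivedCategory.isLE_iff]
      intro i hi
      refine (Groth.Agent.DCat.isZero_HD_toD_iff F i).2 (Groth.Agent.DCat.exactAt_iff_stalks.1 fun x => ?_)
      exact Groth.Agent.S6200.exactAt_of_amp ((Groth.Agent.S6200.amp_stalk_iff F m n x).1 (hamp x)) (Or.inr hi)
    obtain ⟨G, hG, hGf, ⟨e⟩⟩ := (Groth.Agent.S6200.result F n m n).2 hamp
    exact ⟨G, hG, hGf, ⟨e ≪≫ eF⟩⟩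
  · rintro ⟨h2, h1⟩ x
    obtain ⟨R, hR, k, _, M₀, α, hx, -, hα⟩ := Groth.Agent.DQCoh.exists_affine_approx h2 x
    haveI := Groth.Agent.DQCoh.preservesFiniteColimits_tilde R
    have hF := Groth.Agent.DQCoh.flatAmp_rd k h1
    have hq : DCoh.IsQCohD ((Groth.Agent.DCat.PerfLocal.rd k).obj E) := fun i => by
      rcases lt_or_ge (m - 1) i with hi | hi
      · haveI := hα.1 i hi
        exact Groth.Agent.Coherent.isQCoh_of_iso (asIso ((DerivedCategory.homologyFunctor _ i).map α))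
          (h := Groth.Agent.DQCoh.isQCohD_tildeD R M₀ i)
      · exact Groth.Agent.Coherent.isQCoh_of_isZero
          (Groth.Agent.DQCoh.isZero_HD_of_flatAmp hF i (Or.inl (by omega)))
    obtain ⟨M, ⟨e⟩⟩ := ((Groth.Agent.DQCoh.tildeD_main R).2.2 _).1 hq
    have hM : DCoh.HasFlatAmplitudeIn m n ((DCoh.tildeD R).obj M) := by
      obtain ⟨F, hF', hf, ⟨eF⟩⟩ := hF
      exact ⟨F, hF', hf, ⟨eF ≪≫ e.symm⟩⟩
    obtain ⟨P, hP, hp, ⟨eP⟩⟩ := Groth.Agent.DRingLib.exists_finiteProjective hmn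
      (Groth.Agent.DQCoh.pc_of_psc_tildeD (Groth.Agent.DCat.PCTriangle.psc_iso e.symm (Groth.Agent.DQCoh.psc_rd k h2)))
      ((Groth.Agent.DQCoh.flatAmp_tildeD_iff M m n).1 hM)
    refine ⟨k.opensRange, hx, fun F ⟨eF⟩ => ?_⟩
    let l := IsOpenImmersion.lift k k.opensRange.ι (by rw [Scheme.Opens.range_ι]; rfl)
    haveI : IsOpenImmersion l :=
      haveI : IsOpenImmersion (l ≫ k) := by rw [IsOpenImmersion.lift_fac]; infer_instance
      IsOpenImmersion.of_comp _ k
    obtain ⟨c⟩ := Groth.Agent.DCat.PerfLocal.rd_comp l k E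
    obtain ⟨c'⟩ := Groth.Agent.FlatCx12.EmbPush.nonempty_rd_congr' (k := l ≫ k) (k' := k.opensRange.ι)
      (IsOpenImmersion.lift_fac _ _ _)
    let T := ((tilde.functor R).mapHomologicalComplex (ComplexShape.up ℤ)).obj P
    have hT := Groth.Agent.DQCoh.strictlyPerfect_tilde hP hp
    refine ⟨((Scheme.Modules.restrictFunctor l).mapHomologicalComplex (ComplexShape.up ℤ)).obj T,
      fun i hi => (Scheme.Modules.restrictFunctor l).map_isZero ((tilde.functor R).map_isZero (hP i hi)),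
      fun i => Groth.Agent.DCat.PerfTensor.isFinLocFree_of_iso ((Scheme.Modules.restrictFunctorIsoPullback l).app _).symm
        (Groth.Agent.DCat.PullPerf.isFinLocFree_pullback l (hT.2 i)), ⟨?_⟩⟩
    exact ((Scheme.Modules.restrictFunctor k.opensRange.ι).mapDerivedCategoryFactors.app F).symm ≪≫
      (Groth.Agent.DCat.PerfLocal.rd k.opensRange.ι).mapIso eF ≪≫ (c'.app E).symm ≪≫ c ≪≫
      (Groth.Agent.DCat.PerfLocal.rd l).mapIso (e.symm ≪≫ (DCoh.tildeD R).mapIso eP.symm ≪≫
        (tilde.functor R).mapDerivedCategoryFactors.app P) ≪≫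
      (Scheme.Modules.restrictFunctor l).mapDerivedCategoryFactors.app T

end Groth.Agent.S4275
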