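import Groth.Statements.S4276
import Groth.Agent.Coherent.CohBC.EulerFamily
import Groth.Agent.EulerLib.FGABridge
-- import your own Groth.Agent.* helpers here

set_option autoImplicit false
universe u
open CategoryTheory CategoryTheory.Limits AlgebraicGeometry
open Pic13

namespace Groth.Agent.S4276

/-- Let k be an algebraically closed field, X a proper k-scheme of dimension ≤ d and L an invertible
O_X-module which is τ-equivalent to zero (some positive power of L is algebraically equivalent to
zero). Then χ(F ⊗ L) = χ(F) for every coherent O_X-module F (Euler characteristics computed in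
degrees ≤ d). -/
theorem result (k : Type u) [Field k] [IsAlgClosed k] (X : Scheme.{u}) [X.Over (Spec (CommRingCat.of k))]
    [IsProper (X ↘ Spec (CommRingCat.of k))] (d : ℕ) (hd : topologicalKrullDim X ≤ d)
    (L : X.Modules) (hL : PicF.IsInvertible L) (hτ : Pic13.IsTauEquivZero k X L) (F : X.Modules) (hF : Coh.IsCoh F) :
    FGA.eulerCharLE k X (CohB1.tensorMod F L) d = FGA.eulerCharLE k X F d := by
  haveI := Groth.Agent.EulerLib.isNoetherian_of_proper (X := X) k
  have hFL := Groth.Agent.EulerLib.isCoh_twist hL hF
  rw [Groth.Agent.EulerLib.eulerCharLE_eq k _ hFL.1 hd, Groth.Agent.EulerLib.eulerCharLE_eq k _ hF.1 hd]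
  have h := Groth.Agent.Coherent.CohBC.chiCl_mul_pow_eq_of_isTauEquivZero k hL hτ hF 1 1
  rw [one_mul, pow_one, Groth.Agent.EulerLib.chiCl_mk] at h
  exact h.trans (Groth.Agent.EulerLib.euler_congr k X
    (Groth.Agent.AmpleLib.tensorComm _ _ ≪≫ Groth.Agent.AmpleLib.unitTensorIso F))

end Groth.Agent.S4276
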