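import Groth.Statements.S4279
import Groth.Agent.PicTau27.Tau
-- import your own Groth.Agent.* helpers here

set_option autoImplicit false
set_option linter.style.haveILetI false
set_option backward.isDefEq.respectTransparency.types false
universe u
open CategoryTheory CategoryTheory.Limits AlgebraicGeometry
open Pic13

namespace Groth.Agent.S4279

open CategoryTheory CategoryTheory.Limits MonObj AlgebraicGeometry in
open Groth.Agent Groth.Agent.EulerLib Groth.Agent.NumTriv23 Groth.Agent.PicTau27 in
/-- Let k be an algebraically closed field, X a proper k-scheme carrying an ample invertible module H,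
and L an invertible O_X-module with inverse L' (L ⊗ L' ≅ O_X). If L^{⊗ m} ⊗ H and L'^{⊗ m} ⊗ H are
ample for every m ≥ 0 (that is, L^{⊗ m}(1) is ample for every integer m), then L is τ-equivalent to
zero. -/
theorem result (k : Type u) [Field k] [IsAlgClosed k] (X : Scheme.{u}) [X.Over (Spec (CommRingCat.of k))]
    [IsProper (X ↘ Spec (CommRingCat.of k))]
    (H : X.Modules) (hH : CohB1.IsAmple H) (L L' : X.Modules) (hL : PicF.IsInvertible L)
    (hLL' : Nonempty (CohB1.tensorMod L L' ≅ Coh.structureModule X))
    (hamp : ∀ m : ℕ, CohB1.IsAmple (CohB1.tensorMod (CohB1.tensorPow L m) H) ∧ CohB1.IsAmple (CohB1.tensorMod (CohB1.tensorPow L' m) H)) :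
    Pic13.IsTauEquivZero k X L := by
  haveI := EulerLib.isNoetherian_of_proper (X := X) k
  obtain ⟨eLL'⟩ := hLL'
  have hL' : PicF.IsInvertible L' :=
    PicLib.PicM.isInvertible_of_tensor hL (AmpleLib.glocus_isInvertible_of_iso eLL'.symm AmpleLib.isInvertible_structureModule)
  have hcc : InvCl.mk L hL * InvCl.mk L' hL' = 1 := by
    rw [InvCl.mk_mul hL hL']
    exact InvCl.mk_eq _ AmpleLib.isInvertible_structureModule eLL'
  have key : ∀ (M : X.Modules) (hM : PicF.IsInvertible M),
      (∀ m : ℕ, CohB1.IsAmple (CohB1.tensorMod (CohB1.tensorPow M m) H)) →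
      ∀ y : X, topologicalKrullDim (closure {y} : Set X) = 1 →
        0 ≤ chiCl k (AssSch12.clM y) (InvCl.mk M hM) - chiCl k (AssSch12.clM y) 1 := fun M hM hm y hy => by
    refine dg_nonneg_of_ample k hH (fun n => ⟨_, hm n, ?_⟩) hy
    rw [← InvCl.mk_mul (AmpleLib.isInvertible_tensorPow hM n) hH.1, InvCl.mk_tensorPow hM]
    exact mul_comm _ _
  refine isTauEquivZero_of_isNum k ⟨H, hH⟩ hL fun y hy => ?_
  have h1 := key L hL (fun m => (hamp m).1) y hy
  have h2 := key L' hL' (fun m => (hamp m).2) y hy
  have h3 := dg_mul k (InvCl.mk L hL) (InvCl.mk L' hL') hy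
  rw [hcc] at h3
  omega

end Groth.Agent.S4279
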