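import Groth.Statements.S4280
import Groth.Agent.S4278
import Groth.Agent.NumTriv23.FieldExt
import Groth.Agent.PicLib.PicMonoid
-- import your own Groth.Agent.* helpers here

set_option autoImplicit false
set_option linter.style.haveILetI false
set_option backward.isDefEq.respectTransparency.types false
universe u
open CategoryTheory CategoryTheory.Limits AlgebraicGeometry
open Pic13

namespace Groth.Agent.S4280

open CategoryTheory CategoryTheory.Limits MonObj AlgebraicGeometry in
open Groth.Agent Groth.Agent.EulerLib Groth.Agent.VarietyLib in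
/-- Let k be an algebraically closed field, X a proper k-scheme carrying an ample invertible module H,
and L an invertible O_X-module, with inverse L', which is τ-equivalent to zero. Then L^{⊗ m} ⊗ H and
L'^{⊗ m} ⊗ H are ample for every m ≥ 0. -/
theorem result (k : Type u) [Field k] [IsAlgClosed k] (X : Scheme.{u}) [X.Over (Spec (CommRingCat.of k))]
    [IsProper (X ↘ Spec (CommRingCat.of k))]
    (H : X.Modules) (hH : CohB1.IsAmple H) (L L' : X.Modules) (hL : PicF.IsInvertible L)
    (hLL' : Nonempty (CohB1.tensorMod L L' ≅ Coh.structureModule X)) (hτ : Pic13.IsTauEquivZero k X L) (m : ℕ) :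
    CohB1.IsAmple (CohB1.tensorMod (CohB1.tensorPow L m) H) ∧ CohB1.IsAmple (CohB1.tensorMod (CohB1.tensorPow L' m) H) := by
  have hnum : Pic13.IsNumEquivZero k X L := S4278.result k X L hL hτ
  have hc := NumTriv23.isNum_of_isNumEquivZero k hL hnum
  obtain ⟨e⟩ := hLL'
  have hL' : PicF.IsInvertible L' := PicLib.PicM.isInvertible_of_tensor hL (AmpleLib.glocus_isInvertible_of_iso e.symm AmpleLib.isInvertible_structureModule)
  have hc' : NumTriv23.IsNum k (InvCl.mk L' hL') := by
    refine NumTriv23.IsNum.of_mul_eq_one k hc ?_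
    exact InvCl.mk_eq (AmpleLib.isInvertible_tensorMod hL hL') AmpleLib.isInvertible_structureModule e
  have key : ∀ (R : X.Modules) (hR : PicF.IsInvertible R), NumTriv23.IsNum k (InvCl.mk R hR) →
      CohB1.IsAmple (CohB1.tensorMod (CohB1.tensorPow R m) H) := by
    intro R hR hn
    have hp := AmpleLib.isInvertible_tensorPow hR m
    have h1 : NumTriv23.IsNum k (InvCl.mk _ hp) := by
      rw [show InvCl.mk _ hp = InvCl.mk R hR ^ m from InvCl.mk_tensorPow hR m]
      exact NumTriv23.IsNum.pow k hn m
    exact AmpleLib.isAmple_of_iso (AmpleLib.tensorComm _ _) (NumTriv23.isAmple_tensor_num k hH hp h1)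
  exact ⟨key L hL hc, key L' hL' hc'⟩

end Groth.Agent.S4280
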