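import Groth.Statements.S4286
import Groth.Agent.Coherent.CohBC.UniformVanish
import Groth.Agent.Coherent.CohBC.EulerFamily
import Groth.Agent.EulerLib.IntPoly
import Groth.Agent.EulerLib.FGABridge
import Groth.Agent.DimLib.ProjDim
import Groth.Agent.SerreDual.Projective
import Groth.Agent.SerreDual.ProjDualAll
import Groth.Agent.Coherent.FormalFunctions
import Groth.Agent.TwistLib.TwistInv
-- import your own Groth.Agent.* helpers here

set_option autoImplicit false
universe u
open CategoryTheory CategoryTheory.Limits AlgebraicGeometry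
open Pic13

namespace Groth.Agent.S4286

/-- (i) implies (iii), over the base S = Spec k with k algebraically closed: let X ⊆ P^n_k be a closed
subscheme and P a bounded family of coherent O_X-modules. Then there is an integer m such that every
member of P is m-regular, and the Hilbert polynomials d ↦ χ(F(d)) of the members of P form a finite
set. -/
theorem result (k : Type u) [Field k] [IsAlgClosed k] (n : ℕ) (X : Scheme.{u}) [X.Over (Spec (CommRingCat.of k))]
    (i : X ⟶ CohB1.ProjSpace n k) [IsClosedImmersion i] (hi : i ≫ CohB1.ProjSpace.toSpec n k = X ↘ Spec (CommRingCat.of k))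
    (P : X.Modules → Prop) (hP : ∀ F, P F → Coh.IsCoh F) (hb : Pic13.IsBounded k X P) :
    (∃ m : ℤ, ∀ F, P F → Pic13.IsMRegular k i F m) ∧
      ∃ s : Finset (Polynomial ℚ), ∀ F, P F → ∃ φ ∈ s, ∀ d : ℤ, (FGA.eulerCharLE k X (Pic13.twistOn k i F d) n : ℚ) = φ.eval (d : ℚ) := by
  classical
  haveI : IsProper (X ↘ Spec (CommRingCat.of k)) := by
    haveI : IsProper (CohB1.ProjSpace.toSpec n k) := Coherent.isProper_projSpace_toSpec n k
    rw [← hi]; infer_instance
  haveI := EulerLib.isNoetherian_of_proper (X := X) k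
  haveI := EulerLib.isSeparated_of_proper (X := X) k
  have hdim : topologicalKrullDim X ≤ n :=
    (i.isEmbedding.toIsInducing.topologicalKrullDim_le).trans (DimLib.PN.topologicalKrullDim_projSpace n k).le
  obtain ⟨T, q, hq, hqc, F, hF, hmem⟩ := hb
  haveI : AlgebraicGeometry.IsNoetherian T :=
    { LocallyOfFiniteType.isLocallyNoetherian q with
      isCompact_univ := (QuasiCompact.compactSpace_of_compactSpace q).isCompact_univ }
  let fT := pullback.snd (X ↘ Spec (CommRingCat.of k)) q
  haveI : IsLocallyNoetherian (Pic13.prodK k X q) := LocallyOfFiniteType.isLocallyNoetherian fT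
  let pr := pullback.fst (X ↘ Spec (CommRingCat.of k)) q
  let O : ℤ → X.Modules := fun m => (Scheme.Modules.pullback i).obj (Twist.twistProjSpace n k m)
  have hO : ∀ m, PicF.IsInvertible (O m) := fun m =>
    PicLoc.isInvertible_pullback i (SerreDual.isInvertible_twist n k m)
  have hO1 : CohB1.IsAmple (O 1) :=
    AmpleLib.isAmple_pullback_of_isAffineHom i (SerreDual.isAmple_projSpace_one n k)
  let g : ℤ → EulerLib.InvCl X := fun m => EulerLib.InvCl.mk (O m) (hO m)
  have hg0 : g 0 = 1 := by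
    obtain ⟨e⟩ := TwistLib.nonempty_twist_zero_iso (𝒜 := CohB1.polyGrading n k)
    exact EulerLib.InvCl.mk_eq _ _ ((Scheme.Modules.pullback i).mapIso e ≪≫ PicLoc.pullbackStructureIso i)
  have hgadd : ∀ a b, g (a + b) = g a * g b := fun a b => by
    obtain ⟨e⟩ := SerreDual.nonempty_twist_tensor n k (rfl : a + b = a + b)
    let e2 : O (a + b) ≅ CohB1.tensorMod (O a) (O b) :=
      (Scheme.Modules.pullback i).mapIso e.symm ≪≫
        DCat.PullTensor.pullTensorIso i (Twist.twistProjSpace n k a) (Twist.twistProjSpace n k b)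
    exact (EulerLib.InvCl.mk_eq _ _ e2).trans (EulerLib.InvCl.mk_mul (hO a) (hO b))
  -- restriction to a slice
  have hsl : ∀ (t : Spec (CommRingCat.of k) ⟶ T) (ht : t ≫ q = 𝟙 _) (N : X.Modules),
      Nonempty ((Scheme.Modules.pullback (Pic13.sliceAt k X q t ht)).obj ((Scheme.Modules.pullback pr).obj N) ≅ N) :=
    fun t ht N => ⟨(Scheme.Modules.pullbackComp _ _).app N ≪≫
      (Scheme.Modules.pullbackCongr (pullback.lift_fst _ _ _)).app N ≪≫ (Scheme.Modules.pullbackId X).app N⟩
  let y₀ : Spec (CommRingCat.of k) := (default : PrimeSpectrum k)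
  haveI : CompactSpace X := QuasiCompact.compactSpace_of_compactSpace (X ↘ Spec (CommRingCat.of k))
  haveI : QuasiSeparatedSpace X := quasiSeparatedSpace_of_quasiSeparated (X ↘ Spec (CommRingCat.of k))
  refine ⟨?_, ?_⟩
  · -- uniform regularity
    have hamp : ∀ (P' W : Scheme.{u}) (g' : P' ⟶ Pic13.prodK k X q) (p : P' ⟶ W) (h : W ⟶ T) [IsAffine W],
        IsPullback g' p fT h →
          CohB1.IsAmple ((Scheme.Modules.pullback g').obj ((Scheme.Modules.pullback pr).obj (O 1))) := by
      intro P' W g' p h _ hsq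
      have hsq' : IsPullback (g' ≫ pr) p (X ↘ Spec (CommRingCat.of k)) (h ≫ q) :=
        hsq.paste_horiz (IsPullback.of_hasPullback _ _)
      haveI : IsAffineHom (g' ≫ pr) :=
        MorphismProperty.of_isPullback (P := @IsAffineHom) hsq'.flip inferInstance
      exact AmpleLib.isAmple_of_iso ((Scheme.Modules.pullbackComp g' pr).app (O 1)).symm
        (AmpleLib.isAmple_pullback_of_isAffineHom (g' ≫ pr) hO1)
    obtain ⟨N, hN⟩ := Coherent.CohBC.exists_uniform_fiberRank_zero fT hF
      (L := (Scheme.Modules.pullback pr).obj (O 1)) (PicLoc.isInvertible_pullback pr (hO 1)) hamp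
    refine ⟨((N + n : ℕ) : ℤ), fun F' hF' p hp => ?_⟩
    have hcoh : Coh.IsCoh (Pic13.twistOn k i F' (((N + n : ℕ) : ℤ) - p)) :=
      EulerLib.isCoh_twist (hO _) (hP F' hF')
    rcases Nat.lt_or_ge n p with hnp | hnp
    · haveI := hcoh.1
      exact EulerLib.subsingleton_HH_of_dim _ hdim hnp
    obtain ⟨t, ht, ⟨eL⟩⟩ := hmem F' hF'
    let σ := Pic13.sliceAt k X q t ht
    let d := N + n - p
    obtain ⟨e0⟩ := hsl t ht (O 1)
    obtain ⟨e1⟩ := EulerLib.nonempty_twist_pullback σ (PicLoc.isInvertible_pullback pr (hO 1)) F d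
    obtain ⟨e2, -⟩ := AmpleLib.exists_pullPowIso σ (PicLoc.isInvertible_pullback pr (hO 1)) d
    obtain ⟨e3, -⟩ := AmpleLib.exists_pullPowIso pr (hO 1) d
    obtain ⟨e4, -⟩ := AmpleLib.exists_pullPowIso i (SerreDual.isInvertible_twist n k 1) d
    obtain ⟨e5⟩ := TwistLib.nonempty_twist_pow_iso (SerreDual.exists_degree_one n k) d
    obtain ⟨e6⟩ := hsl t ht (CohB1.tensorPow (O 1) d)
    let eD : CohB1.tensorPow ((Scheme.Modules.pullback σ).obj ((Scheme.Modules.pullback pr).obj (O 1))) d ≅
        O (((N + n : ℕ) : ℤ) - p) :=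
      e2.symm ≪≫ (Scheme.Modules.pullback σ).mapIso e3.symm ≪≫ e6 ≪≫ e4.symm ≪≫
        (Scheme.Modules.pullback i).mapIso (e5.symm ≪≫ eqToIso (congrArg (Twist.twist (CohB1.polyGrading n k))
          (show (d : ℤ) = ((N + n : ℕ) : ℤ) - p by omega)))
    let eM : (Scheme.Modules.pullback σ).obj (ShStab.twist _ ((Scheme.Modules.pullback pr).obj (O 1)) F d) ≅
        Pic13.twistOn k i F' (((N + n : ℕ) : ℤ) - p) :=
      e1 ≪≫ AmpleLib.tensorIso eL eD
    haveI : Coh.IsQCoh (ShStab.twist _ ((Scheme.Modules.pullback pr).obj (O 1)) F d) :=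
      (EulerLib.isCoh_twist (AmpleLib.isInvertible_tensorPow (PicLoc.isInvertible_pullback pr (hO 1)) d) hF).1
    haveI := hcoh.1
    have h0 := hN d (by omega) p hp (t y₀)
    rw [← Coherent.CohBC.fiberRank_pullback (Coherent.CohBC.isPullback_slice k X q t ht) _ p y₀] at h0
    have h1 : Module.finrank k (Coh.HH X (Pic13.twistOn k i F' (((N + n : ℕ) : ℤ) - p)) p) = 0 := by
      refine Eq.trans ?_ h0
      rw [← Coherent.CohBC.finrank_HH_congr k eM p]
      haveI := ((Coherent.isQCoh_of_iso eM.symm) : Coh.IsQCoh _)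
      exact (Coherent.CohBC.finrank_HH_bc k _ (Coherent.CohBC.residueHom y₀) (X ↘ Spec (CommRingCat.of k))
        ((X ↘ Spec (CommRingCat.of k)).fiberToSpecResidueField y₀) ((X ↘ Spec (CommRingCat.of k)).fiberι y₀)
        (Coherent.CohBC.PerfData.isPullback_fibre y₀) _ _ (Iso.refl _) p).symm
    haveI := Coherent.finite_HH (A := k) hcoh p
    exact Module.finrank_zero_iff.1 h1
  · -- finitely many polynomials
    let G : ℕ → (Pic13.prodK k X q).Modules := fun j => CohB1.tensorMod F ((Scheme.Modules.pullback pr).obj (O j))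
    have hG : ∀ j, Coh.IsCoh (G j) := fun j =>
      EulerLib.isCoh_twist (PicLoc.isInvertible_pullback pr (hO j)) hF
    let V : Set (Fin (n + 1) → ℤ) :=
      Set.univ.pi fun j => Set.range fun s : T => PerfAux.eulerChar fT (G (j : ℕ)) s
    have hV : V.Finite := Set.Finite.pi fun j => Coherent.CohBC.finite_range_eulerChar fT (hG _)
    let I : Set (Polynomial ℚ) :=
      {φ | φ.natDegree ≤ n ∧ ∃ v ∈ V, ∀ j : Fin (n + 1), φ.eval ((j : ℕ) : ℚ) = (v j : ℚ)}
    have hI : I.Finite := by
      refine Set.Finite.of_finite_image (f := fun φ : Polynomial ℚ => fun j : Fin (n + 1) => φ.eval ((j : ℕ) : ℚ))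
        ((hV.image fun v j => (v j : ℚ)).subset ?_) ?_
      · rintro _ ⟨φ, ⟨-, v, hv, hv'⟩, rfl⟩
        exact ⟨v, hv, funext fun j => (hv' j).symm⟩
      · rintro A ⟨hA, -⟩ B ⟨hB, -⟩ h
        refine Polynomial.eq_of_natDegree_lt_card_of_eval_eq A B (f := fun j : Fin (n + 1) => ((j : ℕ) : ℚ))
          (fun a b hab => by simpa [Fin.ext_iff] using hab) (fun j => congrFun h j) ?_
        rw [Fintype.card_fin]
        omega
    refine ⟨hI.toFinset, fun F' hF' => ?_⟩
    obtain ⟨φ, hdeg, hφ⟩ := EulerLib.exists_poly_int k (hP F' hF') hdim g hg0 hgadd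
    have hval : ∀ d : ℤ, FGA.eulerCharLE k X (Pic13.twistOn k i F' d) n = EulerLib.chiCl k F' (g d) := fun d =>
      (EulerLib.eulerCharLE_eq k _ (EulerLib.isCoh_twist (hO d) (hP F' hF')).1 hdim).trans
        (EulerLib.chiCl_mk k F' (hO d)).symm
    refine ⟨φ, ?_, fun d => by rw [hval, hφ]⟩
    obtain ⟨t, ht, ⟨eL⟩⟩ := hmem F' hF'
    rw [Set.Finite.mem_toFinset]
    refine ⟨hdeg, fun j => PerfAux.eulerChar fT (G (j : ℕ)) (t y₀), fun j _ => ⟨t y₀, rfl⟩, fun j => ?_⟩
    obtain ⟨e0⟩ := hsl t ht (O ((j : ℕ) : ℤ))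
    let σ := Pic13.sliceAt k X q t ht
    haveI := (hG j).1
    haveI : Coh.IsQCoh ((Scheme.Modules.pullback σ).obj (G j)) := (ZClosLib.isCoh_pullback σ _ (hG j)).1
    have h : EulerLib.chiCl k F' (g ((j : ℕ) : ℤ)) = PerfAux.eulerChar fT (G j) (t y₀) := by
      rw [← Coherent.CohBC.eulerChar_pullback (Coherent.CohBC.isPullback_slice k X q t ht) (G j) y₀,
        Coherent.CohBC.eulerChar_eq_euler k ((Scheme.Modules.pullback σ).obj (G j)) y₀, EulerLib.chiCl_mk]
      exact EulerLib.euler_congr k X (DCat.PullTensor.pullTensorIso σ F _ ≪≫ AmpleLib.tensorIso eL e0).symm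
    dsimp only
    rw [← h, hφ]
    push_cast
    rfl

end Groth.Agent.S4286
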