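import Groth.Statements.S4288
import Groth.Agent.KSix16.TwistVanish
-- import your own Groth.Agent.* helpers here

set_option linter.style.haveILetI false
set_option backward.isDefEq.respectTransparency false
set_option synthInstance.maxHeartbeats 100000
set_option autoImplicit false
universe u
open CategoryTheory CategoryTheory.Limits AlgebraicGeometry
attribute [local instance] HasDerivedCategory.standard
open KSix

namespace Groth.Agent.S4288

/-- Let Y be an affine scheme, i : X ⟶ P^r_Y a closed immersion, f : X ⟶ Y the composite with the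
projection, L = i^* O(1), and E a bounded below object of D(O_X), acyclic in degrees > a, which is
pseudo-coherent relative to Y (i.e. Ri_*E is pseudo-coherent on P^r_Y). Assuming the derived
functors exist, there is an integer N such that for every n ≥ N the complex Rf_*(E ⊗^L L^{⊗ n}) is
pseudo-coherent on Y and acyclic in degrees > a. (The published statement allows any quasi-compact
base S, Y of finite type over S and a closed immersion into P(F) with F quasi-coherent of finite
type.) -/
theorem result {X Y : Scheme.{u}} [IsAffine Y] (r : ℕ)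
    (i : X ⟶ CohB1.ProjSpaceOver r Y) [IsClosedImmersion i]
    [DCoh.HasRpush i] [DCoh.HasRpush (i ≫ CohB1.ProjSpaceOver.toBase r Y)]
    [∀ n : ℤ, DCoh.HasLTensorMod ((Scheme.Modules.pullback i).obj (Twist.twistOver r Y n))]
    (E : DCoh.D X) (a b : ℤ) [E.IsGE b] [E.IsLE a]
    (hE : ∀ m : ℤ, DCoh.IsPseudoCoherentD m ((DCoh.Rpush i).obj E)) :
    ∃ N : ℤ, ∀ n : ℤ, N ≤ n →
      (∀ m : ℤ, DCoh.IsPseudoCoherentD m ((DCoh.Rpush (i ≫ CohB1.ProjSpaceOver.toBase r Y)).obj
        ((DCoh.LTensorMod ((Scheme.Modules.pullback i).obj (Twist.twistOver r Y n))).obj E))) ∧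
      ((DCoh.Rpush (i ≫ CohB1.ProjSpaceOver.toBase r Y)).obj
        ((DCoh.LTensorMod ((Scheme.Modules.pullback i).obj (Twist.twistOver r Y n))).obj E)).IsLE a := by
  haveI := Groth.Agent.FlatCx12.RelPCChart.preservesFiniteColimits_iso i
  haveI := Groth.Agent.DCat.hasRpush (CohB1.ProjSpaceOver.toBase r Y)
  haveI := Groth.Agent.FlatCx12.EmbPush.preservesFiniteLimits_push i
  obtain ⟨eK⟩ := Groth.Agent.FlatCx12.RelPCThick.nonempty_Rpush_pd i E
  haveI hle : ((DCoh.Rpush i).obj E).IsLE a := by
    rw [DerivedCategory.isLE_iff]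
    intro j hj
    exact (((Scheme.Modules.pushforward i).map_isZero (DerivedCategory.isZero_of_isLE E a j hj)).of_iso
      (Groth.Agent.DCat.SuppOpen.hdMapIso (Scheme.Modules.pushforward i) E j)).of_iso
      ((DerivedCategory.homologyFunctor _ j).mapIso eK)
  obtain ⟨hX, N, hN⟩ := Groth.Agent.KSix16.TwistVanish.exists_twist_isLE r ((DCoh.Rpush i).obj E) hE a
  refine ⟨N, fun n hn => ?_⟩
  let L := Twist.twistOver r Y n
  let M := (Scheme.Modules.pullback i).obj L
  have hL : FlatMod.IsFinLocFree L := Groth.Agent.KPr28.Gen.isFinLocFree_twistOver n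
  have hM : FlatMod.IsFinLocFree M := Groth.Agent.DCat.PullPerf.isFinLocFree_pullback i hL
  haveI := Groth.Agent.Coherent.preservesFiniteLimits_tensE hL
  haveI := Groth.Agent.Coherent.preservesFiniteColimits_tensE hL
  haveI := Groth.Agent.Coherent.preservesFiniteLimits_tensE hM
  haveI := Groth.Agent.Coherent.preservesFiniteColimits_tensE hM
  let E' := (DCoh.LTensorMod M).obj E
  obtain ⟨e₁⟩ := Groth.Agent.KSix16.TwistVanish.nonempty_ltensorMod M E
  obtain ⟨e₂⟩ := Groth.Agent.FlatCx12.RelPCThick.nonempty_Rpush_pd i E'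
  obtain ⟨e₃⟩ := Groth.Agent.FlatCx12.EmbPush.nonempty_mdc_sq (Scheme.Modules.pushforward i) (Groth.Agent.Coherent.tensE L)
    (Groth.Agent.Coherent.tensE M) (Scheme.Modules.pushforward i) (Groth.Agent.Coherent.projIso (f := i) hL) E
  let e : (DCoh.Rpush i).obj E' ≅ (Groth.Agent.Coherent.tensE L).mapDerivedCategory.obj ((DCoh.Rpush i).obj E) :=
    e₂ ≪≫ (Groth.Agent.FlatCx12.EmbPush.pd i).mapIso e₁ ≪≫ e₃.symm ≪≫
      (Groth.Agent.Coherent.tensE L).mapDerivedCategory.mapIso eK.symm
  obtain ⟨hp, hl⟩ := hN n hn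
  refine ⟨Groth.Agent.Dual22Lib.PscPushApps.psc_Rpush_projSpace r i E'
    fun m => Groth.Agent.DCat.PCTriangle.psc_iso e.symm (hp m), ?_⟩
  obtain ⟨β⟩ := Groth.Agent.DCat.nonempty_RpushComp i (CohB1.ProjSpaceOver.toBase r Y)
  haveI := hl
  exact DerivedCategory.TStructure.t.isLE_of_iso ((DCoh.Rpush _).mapIso e.symm ≪≫ β.app E') a

end Groth.Agent.S4288
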