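import Groth.Statements.S4290
import Groth.Agent.HodgeQ27.Irred
-- import your own Groth.Agent.* helpers here

set_option autoImplicit false
set_option linter.style.haveILetI false
set_option backward.isDefEq.respectTransparency.types false
universe u
open CategoryTheory CategoryTheory.Limits AlgebraicGeometry
open Pic13

namespace Groth.Agent.S4290

open CategoryTheory CategoryTheory.Limits AlgebraicGeometry TopologicalSpace in
open Groth.Agent Groth.Agent.Coherent Groth.Agent.PicLib Groth.Agent.AmpleLib Groth.Agent.EulerLib Groth.Agent.AssSch12 Groth.Agent.VarietyLib in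
/-- Let k be an algebraically closed field, X an irreducible proper k-scheme of dimension r = s + 2 ≥ 2
carrying an ample invertible module H, and L an invertible module with (c₁(L)·c₁(H)^{r-1}) = 0 and
(c₁(L)²·c₁(H)^{r-2}) ≥ 0. Then L is numerically equivalent to zero. Intersection numbers are those
of FGA.intNum, which takes inverses H', L' of H, L as arguments. -/
theorem result (k : Type u) [Field k] [IsAlgClosed k] (X : Scheme.{u}) [X.Over (Spec (CommRingCat.of k))]
    [IsProper (X ↘ Spec (CommRingCat.of k))] [IrreducibleSpace X] (s : ℕ) (hdim : topologicalKrullDim X = (s + 2 : ℕ))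
    (H H' L L' : X.Modules) (hH : CohB1.IsAmple H) (hL : PicF.IsInvertible L)
    (hHH' : Nonempty (CohB1.tensorMod H H' ≅ Coh.structureModule X)) (hLL' : Nonempty (CohB1.tensorMod L L' ≅ Coh.structureModule X))
    (horth : FGA.intNum k X (s + 2) (Matrix.vecCons L' (fun _ : Fin (s + 1) => H')) (Coh.structureModule X) = 0)
    (hsq : 0 ≤ FGA.intNum k X (s + 2) (Matrix.vecCons L' (Matrix.vecCons L' (fun _ : Fin s => H'))) (Coh.structureModule X)) :
    Pic13.IsNumEquivZero k X L := by
  haveI := isNoetherian_of_proper (X := X) k
  obtain ⟨e⟩ := hHH'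
  obtain ⟨e'⟩ := hLL'
  have hH' : PicF.IsInvertible H' :=
    PicM.isInvertible_of_tensor hH.1 (glocus_isInvertible_of_iso e.symm isInvertible_structureModule)
  have hL' : PicF.IsInvertible L' :=
    PicM.isInvertible_of_tensor hL (glocus_isInvertible_of_iso e'.symm isInvertible_structureModule)
  set h := InvCl.mk H hH.1
  set l := InvCl.mk L hL
  have hlm : ∀ {M M' : X.Modules} (hM : PicF.IsInvertible M) (hM' : PicF.IsInvertible M'),
      (CohB1.tensorMod M M' ≅ Coh.structureModule X) → InvCl.mk M hM * InvCl.mk M' hM' = 1 := by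
    intro M M' hM hM' ee
    exact (InvCl.mk_mul hM hM').trans (InvCl.mk_eq _ isInvertible_structureModule ee)
  have hd : topologicalKrullDim X ≤ ((s + 2 : ℕ) : WithBot ℕ∞) := hdim.le
  have hdeg : ClDeg (s + 2 + 1) (chiCl k (Coh.structureModule X)) :=
    clDeg_chiCl k (isCoh_structureModule X) (r := s + 2) ((dim_mono (Set.subset_univ _)).trans
      ((IsHomeomorph.topologicalKrullDim_eq _ (Homeomorph.Set.univ X).isHomeomorph).le.trans hd))
  have conv : ∀ (a : Fin (s + 2) → InvCl X) (M : Fin (s + 2) → X.Modules) (hM : ∀ i, PicF.IsInvertible (M i)),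
      (∀ i, a i * InvCl.mk (M i) (hM i) = 1) →
        FGA.intNum k X (s + 2) M (Coh.structureModule X) = interDeg a (chiCl k (Coh.structureModule X)) :=
    fun a M hM hab => (intNum_eq k M hM (isCoh_structureModule X) hd).trans
      (altSum_of_inverse a _ hab hdeg)
  have e1 : interDeg (Fin.cons l (fun _ => h) : Fin (s + 2) → InvCl X) (chiCl k (Coh.structureModule X)) = 0 := by
    refine (conv _ _ (fun i => Fin.cases (motive := fun i => PicF.IsInvertible
      ((Matrix.vecCons L' (fun _ : Fin (s + 1) => H') : Fin (s + 2) → X.Modules) i)) hL' (fun _ => hH') i)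
      fun i => ?_).symm.trans horth
    induction i using Fin.cases with
    | zero => exact hlm hL hL' e'
    | succ i => exact hlm hH.1 hH' e
  have e2 : 0 ≤ interDeg (Fin.cons l (Fin.cons l (fun _ => h)) : Fin (s + 2) → InvCl X) (chiCl k (Coh.structureModule X)) := by
    refine hsq.trans_eq (conv _ _ (fun i => Fin.cases (motive := fun i => PicF.IsInvertible
      ((Matrix.vecCons L' (Matrix.vecCons L' (fun _ : Fin s => H')) : Fin (s + 2) → X.Modules) i)) hL'
        (fun j => Fin.cases (motive := fun j => PicF.IsInvertible
          ((Matrix.vecCons L' (fun _ : Fin s => H') : Fin (s + 1) → X.Modules) j)) hL' (fun _ => hH') j) i)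
      fun i => ?_)
    induction i using Fin.cases with
    | zero => exact hlm hL hL' e'
    | succ i =>
      induction i using Fin.cases with
      | zero => exact hlm hL hL' e'
      | succ i => exact hlm hH.1 hH' e
  exact NumSec27.isNumEquivZero_of_isNum k hL (HodgeQ27.isNum_of_index k hdim H hH l e1 e2)

end Groth.Agent.S4290
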