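import Groth.Statements.S4295
import Groth.Agent.PCohLib.Infinite

open Groth.Agent.PCohLib CategoryTheory CategoryTheory.Limits

set_option autoImplicit false
universe w v u
open CategoryTheory CategoryTheory.Limits
open PCoh

set_option backward.isDefEq.respectTransparency false

namespace Groth.Agent.S4295

/-- Punctual site: let C be an abelian category and C₀ a strictly full additive subcategory (closed
under isomorphisms, containing zero, closed under binary products) which is quasi-stable under
kernels of epimorphisms and quasi-liftable in C. If F ∈ D(C) is C₀-pseudo-coherent (for every n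
isomorphic to a bounded above complex with terms in C₀ from degree n on), then F is isomorphic in
D(C) to the image of one bounded above complex all of whose terms lie in C₀. -/
theorem result {C : Type u} [Category.{v} C] [Abelian C] [HasDerivedCategory.{w} C]
    (P : ObjectProperty C) [P.IsClosedUnderIsomorphisms] [P.ContainsZero] (hsum : ∀ X Y : C, P X → P Y → P (X ⨯ Y))
    (hqs : PCoh.IsQuasiStableUnderKernels P) (hql : PCoh.IsQuasiLiftable P)
    (F : DerivedCategory C) (hF : PCoh.IsPC P F) :
    ∃ E : CochainComplex C ℤ, PCoh.IsStrictPCAll P E ∧ Nonempty (DerivedCategory.Q.obj E ≅ F) := by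
  obtain ⟨K, ⟨e⟩⟩ := exists_rep F
  have hK : PCoh.IsPC P (DerivedCategory.Q.obj K) := fun n => gpc_iso e.symm (hF n)
  obtain ⟨b, hb⟩ := gpc_bounded (hF 0)
  obtain ⟨E, f, hE, hq, -⟩ := exists_strictAll hsum hqs hql hK (b + 1)
    (fun i hi => (hb i (by omega)).of_iso (Hiso e i))
  exact ⟨E, hE, ⟨asIso (DerivedCategory.Q.map f) ≪≫ e⟩⟩

end Groth.Agent.S4295
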