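import Groth.Statements.S4297
import Groth.Agent.PCohLib.Infinite

open Groth.Agent.PCohLib CategoryTheory CategoryTheory.Limits

set_option autoImplicit false
universe w v u
open CategoryTheory CategoryTheory.Limits
open PCoh

set_option backward.isDefEq.respectTransparency false

namespace Groth.Agent.S4297

/-- Punctual site: faithfulness of K⁻(C₀)/(acyclic complexes) ⟶ D(C): let C be an abelian category and
C₀ a strictly full additive subcategory, quasi-stable under kernels of epimorphisms and
quasi-liftable. If two chain maps f, g : E ⟶ E' between bounded above complexes with terms in C₀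
have the same image in D(C), then there are a bounded above complex E'' with terms in C₀ and a
quasi-isomorphism s : E'' ⟶ E such that s ≫ f and s ≫ g are homotopic. -/
theorem result {C : Type u} [Category.{v} C] [Abelian C] [HasDerivedCategory.{w} C]
    (P : ObjectProperty C) [P.IsClosedUnderIsomorphisms] [P.ContainsZero] (hsum : ∀ X Y : C, P X → P Y → P (X ⨯ Y))
    (hqs : PCoh.IsQuasiStableUnderKernels P) (hql : PCoh.IsQuasiLiftable P)
    (E E' : CochainComplex C ℤ) (hE : PCoh.IsStrictPCAll P E) (hE' : PCoh.IsStrictPCAll P E')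
    (f g : E ⟶ E') (hfg : DerivedCategory.Q.map f = DerivedCategory.Q.map g) :
    ∃ (E'' : CochainComplex C ℤ) (s : E'' ⟶ E), PCoh.IsStrictPCAll P E'' ∧ QuasiIso s ∧ Nonempty (Homotopy (s ≫ f) (s ≫ g)) := by
  have h : DerivedCategory.Qh.map ((HomotopyCategory.quotient C (ComplexShape.up ℤ)).map f) =
      DerivedCategory.Qh.map ((HomotopyCategory.quotient C (ComplexShape.up ℤ)).map g) := by
    rw [← cancel_mono ((DerivedCategory.quotientCompQhIso C).hom.app E'),
      DerivedCategory.quotientCompQhIso_hom_naturality, DerivedCategory.quotientCompQhIso_hom_naturality,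
      hfg]
  obtain ⟨X, s, hs, hfac⟩ :=
    (MorphismProperty.map_eq_iff_precomp DerivedCategory.Qh (HomotopyCategory.quasiIso C _) _ _).1 h
  obtain ⟨X, rfl⟩ := HomotopyCategory.quotient_obj_surjective X
  obtain ⟨s, rfl⟩ := (HomotopyCategory.quotient _ _).map_surjective s
  rw [HomotopyCategory.quotient_map_mem_quasiIso_iff] at hs
  haveI : QuasiIso s := by simpa using hs
  obtain ⟨G, v, hG, hv⟩ := exists_strictAll_qis hsum hqs hql hE s
  rw [← Functor.map_comp, ← Functor.map_comp] at hfac
  refine ⟨G, v ≫ s, hG, inferInstance, ⟨?_⟩⟩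
  simp only [Category.assoc]
  exact (HomotopyCategory.homotopyOfEq _ _ hfac).compLeft v

end Groth.Agent.S4297
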