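import Groth.Statements.S4301
import Groth.Agent.PicTau27.Tau
import Groth.Agent.HodgeQ27.Irred
import Groth.Agent.Coherent.CohBC.EulerFamily
import Groth.Agent.MorProj.VeryAmple
import Groth.Agent.VarietyLib.PullClass
import Groth.Agent.WeilLib.Cycles

set_option autoImplicit false
universe u
open CategoryTheory CategoryTheory.Limits AlgebraicGeometry
open Pic13

namespace Groth.Agent.S4301

open Groth.Agent Groth.Agent.EulerLib Groth.Agent.AmpleLib Groth.Agent.PicLib

set_option linter.style.haveILetI false
set_option backward.isDefEq.respectTransparency.types false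


/-- Let S be a Noetherian scheme, i : X ⟶ P^n_S a closed immersion with f : X ⟶ S the composite with the
projection, f flat with integral geometric fibres, and L an invertible O_X-module. Then the set of
points s of S such that L is τ-equivalent to zero on the geometric fibre at s is closed (it is also
open, but only closedness is asserted here). (The published statement is that Pic^τ_{X/S} ⟶
Pic_{X/S} is representable by an open and closed immersion; this is the form reached in its proof.) -/
theorem result {X S : Scheme.{u}} [IsNoetherian S] (n : ℕ)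
    (i : X ⟶ CohB1.ProjSpaceOver n S) [IsClosedImmersion i] [Flat (i ≫ CohB1.ProjSpaceOver.toBase n S)]
    (hint : ∀ (Ω : Type u) [Field Ω] [IsAlgClosed Ω] (σ : Spec (CommRingCat.of Ω) ⟶ S), IsIntegral (pullback (i ≫ CohB1.ProjSpaceOver.toBase n S) σ))
    (L : X.Modules) (hL : PicF.IsInvertible L) :
    IsClosed {s : S | Pic13.IsTauTrivialAt (i ≫ CohB1.ProjSpaceOver.toBase n S) L s} := by
  classical
  let f := i ≫ CohB1.ProjSpaceOver.toBase n S
  haveI : IsProper (CohB1.ProjSpaceOver.toBase n S) := WeilLib.isProper_toBase n S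
  haveI : IsProper f := inferInstanceAs (IsProper (i ≫ CohB1.ProjSpaceOver.toBase n S))
  haveI : Flat f := inferInstanceAs (Flat (i ≫ CohB1.ProjSpaceOver.toBase n S))
  haveI : IsLocallyNoetherian X := LocallyOfFiniteType.isLocallyNoetherian f
  let z : CohB1.ProjSpaceOver n S ⟶ CohB1.ProjSpace n (ULift.{u} ℤ) :=
    pullback.fst (CohB1.ProjSpace.toSpec n (ULift.{u} ℤ)) (specULiftZIsTerminal.from S)
  have hO1 := MorProj.isAmple_twistProjSpace.{u} n
  let A : X.Modules := (Scheme.Modules.pullback (i ≫ z)).obj (Twist.twistProjSpace n (ULift.{u} ℤ) 1)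
  have hA : PicF.IsInvertible A := PicLoc.isInvertible_pullback _ hO1.1
  let l : InvCl X := InvCl.mk L hL
  let h : InvCl X := InvCl.mk A hA
  choose rep hrep erep using fun c : InvCl X => InvCl.exists_rep c
  let E : InvCl X → S → ℤ := fun c s => PerfAux.eulerChar f (rep c) s
  have hfl : ∀ c, FlatMod.IsFinLocFree (rep c) := fun c x =>
    let ⟨U, hx, e'⟩ := PicLib.isFinLocFreeOfRank_one (hrep c) x; ⟨U, 1, hx, e'⟩
  have hlc : ∀ c, IsLocallyConstant (E c) := fun c =>
    Coherent.CohBC.isLocallyConstant_eulerChar f (PicLib.isCoh_of_isInvertible (hrep c))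
      (Coherent.CohBC.isFlatOver_of_isFinLocFree f (hfl c))
  -- the criterion at a geometric point
  have crit : ∀ (Ω : Type u) [Field Ω] [IsAlgClosed Ω] (σ : Spec (CommRingCat.of Ω) ⟶ S) (s : S),
      Set.range σ.base = {s} →
      (@Pic13.IsTauEquivZero Ω _ (pullback f σ) ⟨pullback.snd f σ⟩ ((Scheme.Modules.pullback (pullback.fst f σ)).obj L) ↔
        ∀ a b : ℕ, E (l ^ a * h ^ b) s = E (h ^ b) s) := by
    intro Ω _ _ σ s hs
    letI : (pullback f σ).Over (Spec (CommRingCat.of Ω)) := ⟨pullback.snd f σ⟩
    haveI : IsProper (pullback f σ ↘ Spec (CommRingCat.of Ω)) :=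
      MorphismProperty.pullback_snd (P := @IsProper) _ _ inferInstance
    haveI : AlgebraicGeometry.IsIntegral (pullback f σ) := hint Ω σ
    haveI := isNoetherian_of_proper (X := pullback f σ) Ω
    let g := pullback.fst f σ
    let g' := pullback.fst (CohB1.ProjSpaceOver.toBase n S) σ
    have hbig : IsPullback g (pullback.snd f σ) (i ≫ CohB1.ProjSpaceOver.toBase n S) σ :=
      IsPullback.of_hasPullback _ _
    let j : pullback f σ ⟶ pullback (CohB1.ProjSpaceOver.toBase n S) σ :=
      pullback.lift (g ≫ i) (pullback.snd f σ) (by rw [Category.assoc]; exact pullback.condition)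
    have hj₂ : j ≫ pullback.snd (CohB1.ProjSpaceOver.toBase n S) σ = pullback.snd f σ := pullback.lift_snd _ _ _
    have hsq : IsPullback g j i g' :=
      IsPullback.of_bot (by rw [hj₂]; exact hbig) (pullback.lift_fst _ _ _).symm (IsPullback.of_hasPullback _ _)
    haveI : IsClosedImmersion j := MorphismProperty.of_isPullback (P := @IsClosedImmersion) hsq inferInstance
    haveI : IsAffineHom (g' ≫ z) := MorphismProperty.of_isPullback (P := @IsAffineHom)
      (((IsPullback.of_hasPullback (CohB1.ProjSpaceOver.toBase n S) σ).paste_horiz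
        (IsPullback.of_hasPullback (CohB1.ProjSpace.toSpec n (ULift.{u} ℤ)) (specULiftZIsTerminal.from S))).flip)
      inferInstance
    haveI : IsAffineHom (g ≫ i ≫ z) := by
      rw [← Category.assoc, hsq.w, Category.assoc]
      infer_instance
    let H := (Scheme.Modules.pullback (g ≫ i ≫ z)).obj (Twist.twistProjSpace n (ULift.{u} ℤ) 1)
    have hH : CohB1.IsAmple H := isAmple_pullback_of_isAffineHom _ hO1
    have hh : InvCl.mk H hH.1 = VarietyLib.pullHom g h := by
      rw [VarietyLib.pullHom_mk g hA]
      exact InvCl.mk_eq _ _ ((Scheme.Modules.pullbackComp g (i ≫ z)).app _).symm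
    have hLσ : PicF.IsInvertible ((Scheme.Modules.pullback g).obj L) := PicLoc.isInvertible_pullback g hL
    have hl : InvCl.mk _ hLσ = VarietyLib.pullHom g l := (VarietyLib.pullHom_mk g hL).symm
    have hchi : ∀ c : InvCl X,
        chiCl Ω (Coh.structureModule (pullback f σ)) (VarietyLib.pullHom g c) = E c s := fun c => by
      have hi := hrep c
      haveI : Coh.IsQCoh (rep c) := isQCoh_of_isInvertible hi
      haveI : Coh.IsQCoh ((Scheme.Modules.pullback g).obj (rep c)) :=
        isQCoh_of_isInvertible (PicLoc.isInvertible_pullback g hi)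
      conv_lhs => rw [← erep c, VarietyLib.pullHom_mk g hi]
      rw [chiCl_mk, euler_congr Ω (pullback f σ) (AmpleLib.unitTensorIso ((Scheme.Modules.pullback g).obj (rep c))),
        ← Coherent.CohBC.eulerChar_eq_euler Ω _ (IsLocalRing.closedPoint Ω)]
      refine (Coherent.CohBC.eulerChar_pullback (IsPullback.of_hasPullback f σ) (rep c) _).trans ?_
      exact congrArg (fun s' : S => PerfAux.eulerChar f (rep c) s') (hs.subset ⟨_, rfl⟩)
    have hab : ∀ a b : ℕ, chiCl Ω (Coh.structureModule (pullback f σ)) (InvCl.mk _ hLσ ^ a * InvCl.mk H hH.1 ^ b) =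
          E (l ^ a * h ^ b) s ∧
        chiCl Ω (Coh.structureModule (pullback f σ)) (InvCl.mk H hH.1 ^ b) = E (h ^ b) s := fun a b => by
      rw [hh, hl, ← map_pow, ← map_pow, ← map_mul, hchi, hchi]
      exact ⟨rfl, rfl⟩
    constructor
    · intro hτ a b
      rw [← (hab a b).1, ← (hab a b).2, mul_comm]
      exact Coherent.CohBC.chiCl_mul_pow_eq_of_isTauEquivZero Ω hLσ hτ (Coherent.isCoh_structureModule _) _ a
    · intro he
      refine PicTau27.isTauEquivZero_of_isNum Ω ⟨H, hH⟩ hLσ (HodgeQ27.isNum_of_chiCl_eq Ω H hH _ fun a b => ?_)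
      rw [(hab a b).1, (hab a b).2, he a b]
  have hset : {s : S | Pic13.IsTauTrivialAt f L s} = ⋂ a : ℕ, ⋂ b : ℕ, {s | E (l ^ a * h ^ b) s = E (h ^ b) s} := by
    ext s
    simp only [Set.mem_setOf_eq, Set.mem_iInter]
    constructor
    · intro hτ
      let Ω := AlgebraicClosure (S.residueField s)
      let σ : Spec (CommRingCat.of Ω) ⟶ S :=
        Spec.map (CommRingCat.ofHom (algebraMap (S.residueField s) Ω)) ≫ S.fromSpecResidueField s
      have hσ : Set.range σ.base = {s} := Set.eq_singleton_iff_unique_mem.2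
        ⟨⟨IsLocalRing.closedPoint Ω, Scheme.fromSpecResidueField_apply s _⟩, by
          rintro _ ⟨p, rfl⟩; exact Scheme.fromSpecResidueField_apply s _⟩
      exact (crit Ω σ s hσ).1 (hτ Ω σ hσ)
    · intro he Ω _ _ σ hσ
      exact (crit Ω σ s hσ).2 he
  show IsClosed {s : S | Pic13.IsTauTrivialAt f L s}
  rw [hset]
  exact isClosed_iInter fun a => isClosed_iInter fun b =>
    isClosed_eq (hlc (l ^ a * h ^ b)).continuous (hlc (h ^ b)).continuous

end Groth.Agent.S4301
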