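import Groth.Statements.S4303
import Groth.Agent.Coherent.CohBC.EulerFinite
import Groth.Agent.Coherent.CohBC.EulerFamily
import Groth.Agent.EulerLib.DegClass
import Groth.Agent.EulerLib.FGABridge
import Groth.Agent.Coherent.TensorQcoh
import Groth.Agent.S3233
import Groth.Agent.DCat.PullTensor
import Groth.Agent.PicLib.FormalGen
import Groth.Agent.Coherent.ProperFinite
-- import your own Groth.Agent.* helpers here

set_option autoImplicit false
universe u
open CategoryTheory CategoryTheory.Limits AlgebraicGeometry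
open Pic13

namespace Groth.Agent.S4303

/-- (i) implies (iii), over S = Spec k with k algebraically closed: let X be a proper integral k-scheme
of dimension r = s + 2 ≥ 2 carrying an ample invertible module H with inverse H', and P a family of
invertible O_X-modules. Condition (iii): as L runs through P (with inverse L'), the degree
(c₁(L)·c₁(H)^{r-1}) stays bounded and (c₁(L)²·c₁(H)^{r-2}) stays bounded below; condition (i): P is
bounded. Intersection numbers are those of FGA.intNum, taking the inverse modules as arguments. -/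
theorem result (k : Type u) [Field k] [IsAlgClosed k] (X : Scheme.{u})
    [X.Over (Spec (CommRingCat.of k))] [IsProper (X ↘ Spec (CommRingCat.of k))] [IsIntegral X] (s : ℕ)
    (hdim : topologicalKrullDim X = (s + 2 : ℕ)) (H H' : X.Modules) (hH : CohB1.IsAmple H)
    (hHH' : Nonempty (CohB1.tensorMod H H' ≅ Coh.structureModule X))
    (P : X.Modules → Prop) (hP : ∀ L, P L → PicF.IsInvertible L)
    (hb : Pic13.IsBounded k X P) :
    ∃ B : ℤ, ∀ L L' : X.Modules, P L → Nonempty (CohB1.tensorMod L L' ≅ Coh.structureModule X) →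
      |FGA.intNum k X (s + 2) (Matrix.vecCons L' (fun _ : Fin (s + 1) => H')) (Coh.structureModule X)| ≤ B ∧
      -B ≤ FGA.intNum k X (s + 2) (Matrix.vecCons L' (Matrix.vecCons L' (fun _ : Fin s => H'))) (Coh.structureModule X) := by
  classical
  haveI := EulerLib.isNoetherian_of_proper (X := X) k
  obtain ⟨T, q, hq, hqc, F, hF, hmem⟩ := hb
  haveI : AlgebraicGeometry.IsNoetherian T :=
    { LocallyOfFiniteType.isLocallyNoetherian q with
      isCompact_univ := (QuasiCompact.compactSpace_of_compactSpace q).isCompact_univ }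
  let fT := pullback.snd (X ↘ Spec (CommRingCat.of k)) q
  let pr := pullback.fst (X ↘ Spec (CommRingCat.of k)) q
  haveI : IsLocallyNoetherian (Pic13.prodK k X q) := LocallyOfFiniteType.isLocallyNoetherian fT
  obtain ⟨eH⟩ := hHH'
  have hH' : PicF.IsInvertible H' := Groth.Agent.S3233.isInvertible_of_inverse hH.1 eH
  let O := Coh.structureModule X
  have hO : Coh.IsCoh O := Coherent.isCoh_structureModule X
  let φ₀ : EulerLib.InvCl X → ℤ := EulerLib.chiCl k O
  let h : EulerLib.InvCl X := EulerLib.InvCl.mk H hH.1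
  let y₀ : Spec (CommRingCat.of k) := (default : PrimeSpectrum k)
  -- classes realised by a single family
  let Good : ((L : X.Modules) → P L → EulerLib.InvCl X) → Prop := fun u =>
    ∃ G : (Pic13.prodK k X q).Modules, Coh.IsCoh G ∧ ∀ (L : X.Modules) (hL : P L)
      (t : Spec (CommRingCat.of k) ⟶ T) (ht : t ≫ q = 𝟙 _), Nonempty (Pic13.fibreMod k X q t ht F ≅ L) →
        ∃ (N : X.Modules) (hN : PicF.IsInvertible N), EulerLib.InvCl.mk N hN = u L hL ∧
          Nonempty ((Scheme.Modules.pullback (Pic13.sliceAt k X q t ht)).obj G ≅ N)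
  have hgc : Good fun L hL => EulerLib.InvCl.mk L (hP L hL) :=
    ⟨F, hF, fun L hL t ht he => ⟨L, hP L hL, rfl, he⟩⟩
  have hgN : ∀ (N : X.Modules) (hN : PicF.IsInvertible N), Coh.IsCoh N → Good fun _ _ => EulerLib.InvCl.mk N hN :=
    fun N hN hNc => ⟨(Scheme.Modules.pullback pr).obj N, ZClosLib.isCoh_pullback pr N hNc, fun L hL t ht _ =>
      ⟨N, hN, rfl, ⟨(Scheme.Modules.pullbackComp _ _).app N ≪≫
        (Scheme.Modules.pullbackCongr (pullback.lift_fst _ _ _)).app N ≪≫ (Scheme.Modules.pullbackId X).app N⟩⟩⟩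
  have hgh : Good fun _ _ => h := hgN H hH.1 (PicLib.isCoh_of_isInvertible hH.1)
  have hg1 : Good fun _ _ => 1 := hgN O AmpleLib.isInvertible_structureModule hO
  have hgmul : ∀ {u v}, Good u → Good v → Good fun L hL => u L hL * v L hL := by
    rintro u v ⟨G, hG, hu⟩ ⟨G', hG', hv⟩
    haveI := hG.1
    haveI := hG'.1
    refine ⟨CohB1.tensorMod G G', ⟨Coherent.isQCoh_tensorMod G G', Coherent.isFT_tensorMod G G' hG.2 hG'.2⟩,
      fun L hL t ht he => ?_⟩
    obtain ⟨N, hN, hc, ⟨e⟩⟩ := hu L hL t ht he
    obtain ⟨N', hN', hc', ⟨e'⟩⟩ := hv L hL t ht he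
    exact ⟨CohB1.tensorMod N N', AmpleLib.isInvertible_tensorMod hN hN',
      by rw [← EulerLib.InvCl.mk_mul hN hN', hc, hc'],
      ⟨DCat.PullTensor.pullTensorIso _ G G' ≪≫ AmpleLib.tensorIso e e'⟩⟩
  have hbd : ∀ {u}, Good u → ∃ B : ℤ, ∀ L hL, |φ₀ (u L hL)| ≤ B := by
    rintro u ⟨G, hG, hu⟩
    haveI := hG.1
    obtain ⟨B, hB⟩ := ((Coherent.CohBC.finite_range_eulerChar fT hG).image fun z => |z|).bddAbove
    refine ⟨B, fun L hL => ?_⟩
    obtain ⟨t, ht, he⟩ := hmem L hL
    obtain ⟨N, hN, hc, ⟨e⟩⟩ := hu L hL t ht he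
    haveI : Coh.IsQCoh ((Scheme.Modules.pullback (Pic13.sliceAt k X q t ht)).obj G) :=
      (ZClosLib.isCoh_pullback _ _ hG).1
    refine hB ⟨PerfAux.eulerChar fT G (t y₀), ⟨t y₀, rfl⟩, ?_⟩
    dsimp only
    rw [← Coherent.CohBC.eulerChar_pullback (Coherent.CohBC.isPullback_slice k X q t ht) G y₀,
      Coherent.CohBC.eulerChar_eq_euler k ((Scheme.Modules.pullback (Pic13.sliceAt k X q t ht)).obj G) y₀, ← hc]
    exact congrArg _ (EulerLib.euler_congr k X
      (e ≪≫ (AmpleLib.unitTensorIso N).symm))
  have hbdAlt : ∀ {r : ℕ} (v : Fin r → (L : X.Modules) → P L → EulerLib.InvCl X), (∀ i, Good (v i)) →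
      ∃ B : ℤ, ∀ L hL, |EulerLib.interDeg (fun i => v i L hL) φ₀| ≤ B := by
    intro r v hv
    have hprod : ∀ J : Finset (Fin r), Good fun L hL => ∏ i ∈ J, v i L hL := fun J => by
      induction J using Finset.induction_on with
      | empty => simpa using hg1
      | insert a J ha ih => simpa [Finset.prod_insert ha] using hgmul (hv a) ih
    choose B hB using fun J => hbd (hprod J)
    refine ⟨∑ J : Finset (Fin r), B J, fun L hL => ?_⟩
    rw [EulerLib.interDeg, abs_mul, abs_pow, abs_neg, abs_one, one_pow, one_mul]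
    refine (Finset.abs_sum_le_sum_abs _ _).trans (Finset.sum_le_sum fun J _ => ?_)
    rw [abs_mul, abs_pow, abs_neg, abs_one, one_pow, one_mul]
    exact hB J L hL
  let v₁ : Fin (s + 2) → (L : X.Modules) → P L → EulerLib.InvCl X :=
    Fin.cons (fun L hL => EulerLib.InvCl.mk L (hP L hL)) fun _ _ _ => h
  let v₂ : Fin (s + 2) → (L : X.Modules) → P L → EulerLib.InvCl X :=
    Fin.cons (fun L hL => EulerLib.InvCl.mk L (hP L hL))
      (Fin.cons (fun L hL => EulerLib.InvCl.mk L (hP L hL)) fun _ _ _ => h)
  obtain ⟨B₁, hB₁⟩ := hbdAlt v₁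
    (fun i => by induction i using Fin.cases with
      | zero => exact hgc
      | succ i => exact hgh)
  obtain ⟨B₂, hB₂⟩ := hbdAlt v₂
    (fun i => by
      induction i using Fin.cases with
      | zero => exact hgc
      | succ i =>
        induction i using Fin.cases with
        | zero => exact hgc
        | succ i => exact hgh)
  refine ⟨max B₁ B₂, fun L L' hL ⟨eL⟩ => ?_⟩
  have hL' : PicF.IsInvertible L' := Groth.Agent.S3233.isInvertible_of_inverse (hP L hL) eL
  have hcl : EulerLib.InvCl.mk L (hP L hL) * EulerLib.InvCl.mk L' hL' = 1 :=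
    (EulerLib.InvCl.mk_mul (hP L hL) hL').trans
      (EulerLib.InvCl.mk_eq (AmpleLib.isInvertible_tensorMod (hP L hL) hL') _ eL)
  have hch : h * EulerLib.InvCl.mk H' hH' = 1 :=
    (EulerLib.InvCl.mk_mul hH.1 hH').trans
      (EulerLib.InvCl.mk_eq (AmpleLib.isInvertible_tensorMod hH.1 hH') _ eH)
  have hdeg : EulerLib.ClDeg (s + 2 + 1) φ₀ := EulerLib.finDeg_chiCl k hO
    (((Topology.IsInducing.subtypeVal.topologicalKrullDim_le).trans hdim.le).trans_lt
      (by exact_mod_cast Nat.lt_succ_self (s + 2)))
  have key : ∀ (M : Fin (s + 2) → X.Modules) (hM : ∀ i, PicF.IsInvertible (M i)) (a : Fin (s + 2) → EulerLib.InvCl X),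
      (∀ i, a i * EulerLib.InvCl.mk (M i) (hM i) = 1) →
        FGA.intNum k X (s + 2) M O = EulerLib.interDeg a φ₀ := fun M hM a ha => by
    rw [EulerLib.intNum_eq k M hM hO hdim.le, EulerLib.altSum_of_inverse a _ ha hdeg]
  constructor
  · rw [key (Matrix.vecCons L' fun _ : Fin (s + 1) => H') (fun i => by
        induction i using Fin.cases with
        | zero => exact hL'
        | succ i => exact hH') (fun i => v₁ i L hL)
      (fun i => by induction i using Fin.cases with
        | zero => exact hcl
        | succ i => exact hch)]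
    exact (hB₁ L hL).trans (le_max_left _ _)
  · rw [key (Matrix.vecCons L' (Matrix.vecCons L' fun _ : Fin s => H')) (fun i => by
        induction i using Fin.cases with
        | zero => exact hL'
        | succ i =>
          induction i using Fin.cases with
          | zero => exact hL'
          | succ i => exact hH')
      (fun i => v₂ i L hL)
      (fun i => by
        induction i using Fin.cases with
        | zero => exact hcl
        | succ i =>
          induction i using Fin.cases with
          | zero => exact hcl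
          | succ i => exact hch)]
    exact (neg_le_neg (le_max_right B₁ B₂)).trans (abs_le.1 (hB₂ L hL)).1

end Groth.Agent.S4303
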