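import Groth.Statements.S4305
import Groth.Agent.Coherent.CohBC.EulerFamily
import Groth.Agent.EulerLib.FGABridge
import Groth.Agent.PicLib.PicMonoid
-- import your own Groth.Agent.* helpers here

set_option autoImplicit false
universe u
open CategoryTheory CategoryTheory.Limits AlgebraicGeometry
open Pic13

namespace Groth.Agent.S4305

/-- Let k be an algebraically closed field, X an irreducible proper k-scheme of dimension ≤ d carrying
an ample invertible module H with inverse H', and L an invertible module with inverse L'. Condition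
(v): χ(L^{⊗ m} ⊗ H^{⊗ n}) = χ(H^{⊗ n}) for all integers m, n — written with natural exponents on L,
L', H, H' to cover all signs, Euler characteristics in degrees ≤ d; condition (i): L is τ-equivalent
to zero. -/
theorem result (k : Type u) [Field k] [IsAlgClosed k] (X : Scheme.{u})
    [X.Over (Spec (CommRingCat.of k))] [IsProper (X ↘ Spec (CommRingCat.of k))] [IrreducibleSpace X]
    (d : ℕ) (hd : topologicalKrullDim X ≤ d) (H H' L L' : X.Modules) (hH : CohB1.IsAmple H) (hL : PicF.IsInvertible L)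
    (hHH' : Nonempty (CohB1.tensorMod H H' ≅ Coh.structureModule X)) (hLL' : Nonempty (CohB1.tensorMod L L' ≅ Coh.structureModule X))
    (hτ : Pic13.IsTauEquivZero k X L) :
    ∀ m n : ℕ,
      FGA.eulerCharLE k X (CohB1.tensorMod (CohB1.tensorPow L m) (CohB1.tensorPow H n)) d = FGA.eulerCharLE k X (CohB1.tensorPow H n) d ∧
      FGA.eulerCharLE k X (CohB1.tensorMod (CohB1.tensorPow L m) (CohB1.tensorPow H' n)) d = FGA.eulerCharLE k X (CohB1.tensorPow H' n) d ∧
      FGA.eulerCharLE k X (CohB1.tensorMod (CohB1.tensorPow L' m) (CohB1.tensorPow H n)) d = FGA.eulerCharLE k X (CohB1.tensorPow H n) d ∧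
      FGA.eulerCharLE k X (CohB1.tensorMod (CohB1.tensorPow L' m) (CohB1.tensorPow H' n)) d = FGA.eulerCharLE k X (CohB1.tensorPow H' n) d := by
  have hH' : PicF.IsInvertible H' := Groth.Agent.PicLib.PicM.isInvertible_of_tensor hH.1
    (fun x => let ⟨U, hx, ⟨e⟩⟩ := Groth.Agent.AmpleLib.isInvertible_structureModule x
      ⟨U, hx, ⟨(Scheme.Modules.restrictFunctor U.ι).mapIso hHH'.some ≪≫ e⟩⟩)
  have hL' : PicF.IsInvertible L' := Groth.Agent.PicLib.PicM.isInvertible_of_tensor hL
    (fun x => let ⟨U, hx, ⟨e⟩⟩ := Groth.Agent.AmpleLib.isInvertible_structureModule x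
      ⟨U, hx, ⟨(Scheme.Modules.restrictFunctor U.ι).mapIso hLL'.some ≪≫ e⟩⟩)
  haveI := Groth.Agent.EulerLib.isNoetherian_of_proper (X := X) k
  have hO : Coh.IsCoh (Coh.structureModule X) := Groth.Agent.Coherent.isCoh_structureModule _
  have hinv : Groth.Agent.EulerLib.InvCl.mk L hL * Groth.Agent.EulerLib.InvCl.mk L' hL' = 1 := by
    rw [Groth.Agent.EulerLib.InvCl.mk_mul]
    exact Groth.Agent.EulerLib.InvCl.mk_eq _ _ hLL'.some
  have key : ∀ {N : X.Modules} (hN : PicF.IsInvertible N),
      FGA.eulerCharLE k X N d = Groth.Agent.EulerLib.chiCl k (Coh.structureModule X) (Groth.Agent.EulerLib.InvCl.mk N hN) :=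
    fun {N} hN => by
      rw [Groth.Agent.EulerLib.eulerCharLE_eq k _ (Groth.Agent.Coherent.isCoh_iso
        (Groth.Agent.AmpleLib.unitTensorIso N) (Groth.Agent.EulerLib.isCoh_twist hN hO)).1 hd,
        Groth.Agent.EulerLib.chiCl_mk]
      exact Groth.Agent.EulerLib.euler_congr k X (Groth.Agent.AmpleLib.unitTensorIso N).symm
  have hpos : ∀ (b : Groth.Agent.EulerLib.InvCl X) (m : ℕ),
      Groth.Agent.EulerLib.chiCl k (Coh.structureModule X) (Groth.Agent.EulerLib.InvCl.mk L hL ^ m * b) =
        Groth.Agent.EulerLib.chiCl k (Coh.structureModule X) b := fun b m => by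
    rw [_root_.mul_comm]
    exact Groth.Agent.Coherent.CohBC.chiCl_mul_pow_eq_of_isTauEquivZero k hL hτ hO b m
  have hneg : ∀ (b : Groth.Agent.EulerLib.InvCl X) (m : ℕ),
      Groth.Agent.EulerLib.chiCl k (Coh.structureModule X) (Groth.Agent.EulerLib.InvCl.mk L' hL' ^ m * b) =
        Groth.Agent.EulerLib.chiCl k (Coh.structureModule X) b := fun b m => by
    rw [← hpos (Groth.Agent.EulerLib.InvCl.mk L' hL' ^ m * b) m, ← _root_.mul_assoc, ← mul_pow, hinv, one_pow, one_mul]
  intro m n
  have hp := fun {N : X.Modules} (hN : PicF.IsInvertible N) => Groth.Agent.AmpleLib.isInvertible_tensorPow hN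
  have main : ∀ {P Q : X.Modules} (hP : PicF.IsInvertible P) (hQ : PicF.IsInvertible Q),
      (∀ b, Groth.Agent.EulerLib.chiCl k (Coh.structureModule X) (Groth.Agent.EulerLib.InvCl.mk P hP ^ m * b) =
        Groth.Agent.EulerLib.chiCl k (Coh.structureModule X) b) →
      FGA.eulerCharLE k X (CohB1.tensorMod (CohB1.tensorPow P m) (CohB1.tensorPow Q n)) d =
        FGA.eulerCharLE k X (CohB1.tensorPow Q n) d := fun {P Q} hP hQ h => by
    rw [key (Groth.Agent.AmpleLib.isInvertible_tensorMod (hp hP m) (hp hQ n)), key (hp hQ n),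
      ← Groth.Agent.EulerLib.InvCl.mk_mul (hp hP m) (hp hQ n), Groth.Agent.EulerLib.InvCl.mk_tensorPow hP,
      Groth.Agent.EulerLib.InvCl.mk_tensorPow hQ]
    exact h _
  exact ⟨main hL hH.1 (fun b => hpos b m), main hL hH' (fun b => hpos b m), main hL' hH.1 (fun b => hneg b m),
    main hL' hH' (fun b => hneg b m)⟩

end Groth.Agent.S4305
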