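import Groth.Statements.S4306
import Groth.Agent.HodgeQ27.Irred
import Groth.Agent.PicTau27.Tau
-- import your own Groth.Agent.* helpers here

set_option autoImplicit false
set_option linter.style.haveILetI false
set_option backward.isDefEq.respectTransparency.types false
universe u
open CategoryTheory CategoryTheory.Limits AlgebraicGeometry
open Pic13

namespace Groth.Agent.S4306

open CategoryTheory CategoryTheory.Limits AlgebraicGeometry TopologicalSpace in
open Groth.Agent Groth.Agent.Coherent Groth.Agent.PicLib Groth.Agent.AmpleLib Groth.Agent.EulerLib Groth.Agent.AssSch12 Groth.Agent.VarietyLib in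
/-- Let k be an algebraically closed field, X an irreducible proper k-scheme of dimension ≤ d carrying
an ample invertible module H with inverse H', and L an invertible module with inverse L'. Condition
(v): χ(L^{⊗ m} ⊗ H^{⊗ n}) = χ(H^{⊗ n}) for all integers m, n — written with natural exponents on L,
L', H, H' to cover all signs, Euler characteristics in degrees ≤ d; condition (i): L is τ-equivalent
to zero. -/
theorem result (k : Type u) [Field k] [IsAlgClosed k] (X : Scheme.{u})
    [X.Over (Spec (CommRingCat.of k))] [IsProper (X ↘ Spec (CommRingCat.of k))] [IrreducibleSpace X]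
    (d : ℕ) (hd : topologicalKrullDim X ≤ d) (H H' L L' : X.Modules) (hH : CohB1.IsAmple H) (hL : PicF.IsInvertible L)
    (hHH' : Nonempty (CohB1.tensorMod H H' ≅ Coh.structureModule X)) (hLL' : Nonempty (CohB1.tensorMod L L' ≅ Coh.structureModule X))
    (hv : ∀ m n : ℕ,
      FGA.eulerCharLE k X (CohB1.tensorMod (CohB1.tensorPow L m) (CohB1.tensorPow H n)) d = FGA.eulerCharLE k X (CohB1.tensorPow H n) d ∧
      FGA.eulerCharLE k X (CohB1.tensorMod (CohB1.tensorPow L m) (CohB1.tensorPow H' n)) d = FGA.eulerCharLE k X (CohB1.tensorPow H' n) d ∧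
      FGA.eulerCharLE k X (CohB1.tensorMod (CohB1.tensorPow L' m) (CohB1.tensorPow H n)) d = FGA.eulerCharLE k X (CohB1.tensorPow H n) d ∧
      FGA.eulerCharLE k X (CohB1.tensorMod (CohB1.tensorPow L' m) (CohB1.tensorPow H' n)) d = FGA.eulerCharLE k X (CohB1.tensorPow H' n) d) :
    Pic13.IsTauEquivZero k X L := by
  haveI := isNoetherian_of_proper (X := X) k
  set h := InvCl.mk H hH.1
  refine PicTau27.isTauEquivZero_of_isNum k ⟨H, hH⟩ hL (HodgeQ27.isNum_of_chiCl_eq k H hH _ fun a b => ?_)
  have hT := isInvertible_tensorMod (AmpleLib.isInvertible_tensorPow hL a) (AmpleLib.isInvertible_tensorPow hH.1 b)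
  have hval : ∀ {N : X.Modules} (hN : PicF.IsInvertible N),
      chiCl k (Coh.structureModule X) (InvCl.mk N hN) = FGA.eulerCharLE k X N d := by
    intro N hN
    rw [chiCl_mk, euler_congr k X (AmpleLib.unitTensorIso N),
      eulerCharLE_eq k N (isQCoh_of_isInvertible hN) hd]
  rw [← InvCl.mk_tensorPow hL, ← InvCl.mk_tensorPow hH.1, InvCl.mk_mul, hval, hval]
  exact (hv a b).1

end Groth.Agent.S4306
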