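import Groth.Statements.S4307
import Groth.Agent.S4183
import Groth.Agent.AnLib.Quotient

set_option autoImplicit false
open CategoryTheory AlgebraicGeometry Topology TopologicalSpace
open An Filter
open Groth.Agent

namespace Groth.Agent.S4307

theorem differentiableAt_eval {n : ℕ} (p : MvPolynomial (Fin n) ℂ) (z : Fin n → ℂ) :
    DifferentiableAt ℂ (fun w => MvPolynomial.eval w p) z := by
  induction p using MvPolynomial.induction_on with
  | C c => simp
  | add p q hp hq => simpa only [map_add] using hp.fun_add hq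
  | mul_X p i hp => simpa only [map_mul, MvPolynomial.eval_X] using hp.fun_mul (differentiableAt_apply i z)


/-- A sanity check of the definition of holomorphic functions: for an open set U of complex points of
affine n-space over ℂ and g : U → ℂ, g is holomorphic (satisfies the local predicate An.holPred of
the prelude) if and only if g = G ∘ (coordinates) for some G : ℂ^n → ℂ complex-differentiable on the
image of U in ℂ^n. -/
theorem result (n : ℕ) (U : TopologicalSpace.Opens (An.Pts (𝔸(Fin n; An.SC))))
    (g : U → ℂ) :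
    (An.holPred (𝔸(Fin n; An.SC))).pred g ↔
      ∃ G : (Fin n → ℂ) → ℂ,
        DifferentiableOn ℂ G ((fun (x : An.Pts (𝔸(Fin n; An.SC))) (i : Fin n) =>
          x.evTop (AffineSpace.coord An.SC i)) '' (U : Set (An.Pts (𝔸(Fin n; An.SC))))) ∧
        ∀ x : U, g x = G (fun i => (x : An.Pts (𝔸(Fin n; An.SC))).evTop (AffineSpace.coord An.SC i)) := by
  let X := 𝔸(Fin n; An.SC)
  let s := AffineSpace.coord An.SC (n := Fin n)
  have hs := Groth.Agent.S4183.surjective_eval₂ n
  have hhom : IsHomeomorph (AnLib.coords s) := Groth.Agent.S4183.result n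
  let e := hhom.homeomorph
  constructor
  · intro hg
    classical
    let G : (Fin n → ℂ) → ℂ := fun z => if h : e.symm z ∈ U then g ⟨e.symm z, h⟩ else 0
    have hG : ∀ x : U, g x = G (e x.1) := fun x => by simp [G]
    refine ⟨G, ?_, hG⟩
    rintro _ ⟨x, hx, rfl⟩
    refine DifferentiableAt.differentiableWithinAt ?_
    obtain ⟨V, hxV, i, hV⟩ := hg ⟨x, hx⟩
    have key : ∀ f : V → ℂ, f ∈ An.chartAlg V → ∃ F : (Fin n → ℂ) → ℂ, DifferentiableAt ℂ F (AnLib.coords s x) ∧
        ∀ᶠ z in 𝓝 (AnLib.coords s x), ∀ hz : e.symm z ∈ V, f ⟨e.symm z, hz⟩ = F z := by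
      intro f hf
      induction hf using Algebra.adjoin_induction with
      | algebraMap c => exact ⟨fun _ => c, differentiableAt_const c, Eventually.of_forall fun _ _ => rfl⟩
      | add a b _ _ ha hb =>
        obtain ⟨F, hF, ha⟩ := ha
        obtain ⟨F', hF', hb⟩ := hb
        exact ⟨_, hF.fun_add hF', by filter_upwards [ha, hb] with z h1 h2 hz; simp [h1 hz, h2 hz]⟩
      | mul a b _ _ ha hb =>
        obtain ⟨F, hF, ha⟩ := ha
        obtain ⟨F', hF', hb⟩ := hb
        exact ⟨_, hF.fun_mul hF', by filter_upwards [ha, hb] with z h1 h2 hz; simp [h1 hz, h2 hz]⟩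
      | mem f hf =>
        obtain ⟨W, hW, m, t, V', F, hV', hF, hf⟩ := hf
        choose A H hH hAH using fun j => AnLib.exists_ev_eq_div s hs W (t j) x (hW ⟨x, hxV⟩)
        let q : (Fin n → ℂ) → (Fin m → ℂ) := fun z j => MvPolynomial.eval z (A j) / MvPolynomial.eval z (H j)
        have hev : ∀ᶠ z in 𝓝 (AnLib.coords s x), ∀ j, MvPolynomial.eval z (H j) ≠ 0 :=
          eventually_all.2 fun j => (MvPolynomial.continuous_eval (H j)).continuousAt.eventually_ne (hH j)
        have hval : ∀ z, (∀ j, MvPolynomial.eval z (H j) ≠ 0) → ∀ hz : e.symm z ∈ V,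
            (fun j => Pts.ev (e.symm z) W (hW ⟨_, hz⟩) (t j)) = q z := fun z hz hzV => funext fun j => by
          have h' : AnLib.coords s (e.symm z) = z := e.apply_symm_apply z
          obtain ⟨hzW, h2⟩ := hAH j (e.symm z) (by rw [h']; exact hz j)
          rw [h'] at h2
          exact h2
        have hqx : q (AnLib.coords s x) = fun j => Pts.ev x W (hW ⟨x, hxV⟩) (t j) := funext fun j => by
          obtain ⟨_, h2⟩ := hAH j x (hH j)
          exact h2.symm
        refine ⟨F ∘ q, DifferentiableAt.comp _ ?_ (differentiableAt_pi.2 fun j =>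
          (by
            have hd := differentiableAt_eval (H j) (AnLib.coords s x)
            have hd' := hd.fun_inv (hH j)
            simpa only [q, div_eq_mul_inv] using (differentiableAt_eval (A j) (AnLib.coords s x)).fun_mul hd')), ?_⟩
        · refine hF.differentiableAt (hV'.mem_nhds ?_)
          rw [hqx]; exact (hf ⟨x, hxV⟩).1
        · filter_upwards [hev] with z hz hzV
          show f ⟨e.symm z, hzV⟩ = F (q z)
          rw [(hf ⟨e.symm z, hzV⟩).2, hval z hz hzV]
    obtain ⟨F, hF, hFe⟩ := key _ hV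
    refine hF.congr_of_eventuallyEq ?_
    have hmem : ∀ᶠ z in 𝓝 (AnLib.coords s x), e.symm z ∈ V :=
      e.symm.continuous.continuousAt.preimage_mem_nhds (V.2.mem_nhds (by
        show e.symm (e x) ∈ V
        rw [e.symm_apply_apply]; exact hxV))
    filter_upwards [hFe, hmem] with z hz hzV
    have hU : e.symm z ∈ U := i.le hzV
    show G z = F z
    simp only [G, dif_pos hU]
    exact hz hzV
  · rintro ⟨G, hG, hg⟩
    refine An.holPred_of_chartAlg (Algebra.subset_adjoin ?_)
    refine ⟨⊤, fun _ => trivial, n, s, _, G, ?_, hG, fun x => ⟨⟨x.1, x.2, rfl⟩, hg x⟩⟩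
    exact e.isOpenMap _ U.2

end Groth.Agent.S4307
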