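import Groth.Statements.S4315
import Groth.Agent.AnStalkH3.Etale
import Groth.Agent.AnLib.Morphisms
-- import your own Groth.Agent.* helpers here

set_option autoImplicit false
open CategoryTheory AlgebraicGeometry Topology TopologicalSpace
open An

set_option backward.isDefEq.respectTransparency.types false
open Groth.Agent

namespace Groth.Agent.S4315

variable {X Y : Scheme.{0}} [X.Over An.SC] [Y.Over An.SC]
  [LocallyOfFiniteType (X ↘ An.SC)] [LocallyOfFiniteType (Y ↘ An.SC)] (f : X ⟶ Y) [f.IsOver An.SC]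

theorem mono_of_etale_injective [Etale f] (h : Function.Injective (An.Pts.map f)) : Mono f := by
  haveI : LocallyOfFiniteType f := AnStalkH3.locallyOfFiniteType f
  haveI : LocallyOfFiniteType (Limits.pullback f f ↘ An.SC) :=
    inferInstanceAs (LocallyOfFiniteType (Limits.pullback.fst f f ≫ (X ↘ An.SC)))
  have hs : (Set.univ : Set ↥(Limits.pullback f f)) ⊆ Set.range (Limits.pullback.diagonal f) := by
    refine (AnLib.subset_iff IsConstructible.univ.isLocallyConstructible (AnLib.isLocallyConstructible_range_diagonal f)).1 ?_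
    rw [AnLib.range_map_diagonal]
    exact fun z _ => h (An.Pts.map_pullback_condition f f z)
  haveI : Surjective (Limits.pullback.diagonal f) := ⟨fun z => hs (Set.mem_univ z)⟩
  haveI : IsIso (Limits.pullback.diagonal f) :=
    (isIso_iff_isOpenImmersion_and_surjective _).2 ⟨inferInstance, inferInstance⟩
  exact (Limits.pullback.isIso_diagonal_iff f).1 inferInstance

variable [IsReduced X] [IsReduced Y]

theorem isIso_of (e : An.Pts X ≃ₜ An.Pts Y) (he : ⇑e = An.Pts.map f)
    (hol : An.IsHolMap (⟨e.symm, e.symm.continuous⟩ : C(An.Pts Y, An.Pts X))) : IsIso f := by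
  haveI : LocallyOfFiniteType f := AnStalkH3.locallyOfFiniteType f
  haveI : IsLocallyNoetherian Y := LocallyOfFiniteType.isLocallyNoetherian (Y ↘ An.SC)
  haveI : LocallyOfFinitePresentation f := inferInstance
  have hinj : Function.Injective (An.Pts.map f) := he ▸ e.injective
  haveI : Etale f := by
    refine (AnStalkH3.etale_iff f).2 fun x => ⟨fun σ τ hστ => ?_, fun σ => ?_⟩
    · obtain ⟨U, hU, g, rfl⟩ := AnStalkH3.germAt_surjective σ
      obtain ⟨V, hV, k, rfl⟩ := AnStalkH3.germAt_surjective τ
      rw [AnStalkH3.anStalkMap_germAt, AnStalkH3.anStalkMap_germAt] at hστ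
      obtain ⟨N, hN, hN'⟩ := AnStalkH3.eventually_of_germAt_eq hστ
      have heN : e '' N ∈ 𝓝 (An.Pts.map f x) := by
        rw [← he]
        exact e.isOpenMap.image_mem_nhds hN
      refine AnStalkH3.germAt_ext hU hV heN fun y hy hy' hyN => ?_
      obtain ⟨z, hz, rfl⟩ := hyN
      have hz' : e z = An.Pts.map f z := congrFun he z
      have := hN' z (show An.Pts.map f z ∈ U from hz' ▸ hy) (show An.Pts.map f z ∈ V from hz' ▸ hy') hz
      refine Eq.trans ?_ (this.trans ?_)
      · exact congrArg g.1 (Subtype.ext hz')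
      · exact congrArg k.1 (Subtype.ext hz'.symm)
    · obtain ⟨U, hU, h, rfl⟩ := AnStalkH3.germAt_surjective σ
      have hse : ∀ z, e.symm (An.Pts.map f z) = z := fun z => by rw [← he]; exact e.symm_apply_apply z
      let V : Opens (An.top Y) :=
        (Opens.map (TopCat.ofHom (⟨e.symm, e.symm.continuous⟩ : C(An.Pts Y, An.Pts X)))).obj U
      have hV : An.Pts.map f x ∈ V := show e.symm (An.Pts.map f x) ∈ U from (hse x).symm ▸ hU
      refine ⟨AnStalkH3.germAt V hV ⟨fun y => h.1 ⟨e.symm y.1, y.2⟩, hol U h.1 h.2⟩, ?_⟩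
      rw [AnStalkH3.anStalkMap_germAt]
      exact AnStalkH3.germAt_ext _ _ Filter.univ_mem fun y hy hy' _ => congrArg h.1 (Subtype.ext (hse y))
  haveI := mono_of_etale_injective f hinj
  haveI : IsOpenImmersion f := IsOpenImmersion.of_flat_of_mono f
  haveI : Surjective f := by
    refine ⟨fun y => AnStalkH3.forall_mem_of_open (X := Y) f.isOpenEmbedding.isOpen_range (fun z => ?_) y⟩
    obtain ⟨x, hx⟩ := e.surjective z
    refine ⟨x.pt, ?_⟩
    rw [← hx, congrFun he x, An.Pts.pt_map]
  exact (isIso_iff_isOpenImmersion_and_surjective f).2 ⟨inferInstance, inferInstance⟩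

/-- For X and Y reduced and locally of finite type over ℂ (associated analytic spaces = ℂ-points with
holomorphic functions): a morphism f : X → Y over ℂ is an isomorphism if and only if f^an is, i.e.
if and only if the induced map X(ℂ) → Y(ℂ) is a homeomorphism whose inverse is holomorphic. -/
theorem result (X Y : Scheme.{0}) [X.Over An.SC] [Y.Over An.SC]
    [LocallyOfFiniteType (X ↘ An.SC)] [LocallyOfFiniteType (Y ↘ An.SC)] [IsReduced X] [IsReduced Y]
    (f : X ⟶ Y) [f.IsOver An.SC] :
    IsIso f ↔ ∃ e : An.Pts X ≃ₜ An.Pts Y, (⇑e = An.Pts.map f) ∧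
      An.IsHolMap (⟨e.symm, e.symm.continuous⟩ : C(An.Pts Y, An.Pts X)) := by
  refine ⟨fun hf => ?_, fun ⟨e, he, hol⟩ => isIso_of f e he hol⟩
  haveI : (inv f).IsOver An.SC := ⟨by rw [IsIso.inv_comp_eq]; exact (comp_over f An.SC).symm⟩
  refine ⟨⟨⟨An.Pts.map f, An.Pts.map (inv f), fun x => ?_, fun y => ?_⟩, An.Pts.continuous_map f,
    An.Pts.continuous_map (inv f)⟩, rfl, fun V g hg => An.holPred_comp (inv f) V g hg⟩
  · exact Subtype.ext (by simp [An.Pts.map])
  · exact Subtype.ext (by simp [An.Pts.map])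

end Groth.Agent.S4315
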