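import Groth.Statements.S4337
import Groth.Agent.AdicTop.Basic
import Mathlib.LinearAlgebra.TensorProduct.Quotient
import Mathlib.LinearAlgebra.TensorProduct.RightExactness
import Mathlib.RingTheory.Nakayama

open TensorProduct

set_option autoImplicit false
universe u
open LinTop

namespace Groth.Agent.S4337

/-- Let A be an admissible ring, J an ideal of definition, and u : M -> N a homomorphism of A-modules
with N of finite type. Then u is surjective if and only if u tensored with A/J is surjective. -/
theorem result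
    (A : Type u) [CommRing A] [UniformSpace A] [IsUniformAddGroup A] [IsTopologicalRing A]
    (hA : LinTop.IsAdmissible A) (J : Ideal A) (hJ : LinTop.IsIdealOfDefinition A J)
    (M N : Type u) [AddCommGroup M] [Module A M] [AddCommGroup N] [Module A N] [Module.Finite A N]
    (u : M →ₗ[A] N) :
    Function.Surjective u ↔ Function.Surjective (u.rTensor (A ⧸ J)) := by
  obtain ⟨⟨hlin, -⟩, ht, hc⟩ := hA
  refine ⟨fun h => LinearMap.rTensor_surjective _ h, fun h => ?_⟩
  have hjac : J ≤ (⊥ : Ideal A).jacobson :=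
    Groth.Agent.AdicTop.le_jacobson_bot fun f hf => Groth.Agent.AdicTop.isTopologicallyNilpotent_of_mem hJ hf
  rw [← LinearMap.range_eq_top, eq_top_iff]
  refine Submodule.le_of_le_smul_of_le_jacobson_bot Module.Finite.fg_top hjac fun y _ => ?_
  obtain ⟨t, ht⟩ := h (y ⊗ₜ 1)
  let q : N ⊗[A] (A ⧸ J) →ₗ[A] N ⧸ (J • ⊤ : Submodule A N) :=
    (TensorProduct.tensorQuotEquivQuotSMul N J).toLinearMap
  have hrange : ∀ t : M ⊗[A] (A ⧸ J), q (u.rTensor (A ⧸ J) t) ∈
      Submodule.map (J • ⊤ : Submodule A N).mkQ (LinearMap.range u) := by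
    intro t
    induction t with
    | zero => simp
    | add a b ha hb => rw [map_add, map_add]; exact add_mem ha hb
    | tmul m z =>
      obtain ⟨a, rfl⟩ := Ideal.Quotient.mk_surjective z
      exact ⟨u (a • m), ⟨_, rfl⟩, by simp [q]⟩
  have hy := hrange t
  rw [ht] at hy
  obtain ⟨w, hw, hwy⟩ := hy
  have : q (y ⊗ₜ (1 : A ⧸ J)) = Submodule.Quotient.mk y := by
    show TensorProduct.tensorQuotEquivQuotSMul N J (y ⊗ₜ Ideal.Quotient.mk J 1) = _
    rw [TensorProduct.tensorQuotEquivQuotSMul_tmul_mk, one_smul]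
  rw [this, Submodule.mkQ_apply, Submodule.Quotient.eq] at hwy
  exact Submodule.mem_sup.2 ⟨w, hw, y - w, by simpa using neg_mem hwy, by abel⟩

end Groth.Agent.S4337
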