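import Groth.Statements.S4338
import Groth.Agent.AdicTop.Completion
import Mathlib.RingTheory.AdicCompletion.Basic
import Mathlib.RingTheory.Finiteness.Ideal

set_option autoImplicit false
universe u
open LinTop

namespace Groth.Agent.S4338

/-- For a finitely generated ideal. Let A be an admissible ring and I a finitely generated ideal
contained in an ideal of definition of A. Then A is separated and complete for the I-adic topology.
(The published statement has no finiteness hypothesis on I and is then not correct: the completion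
of a polynomial ring in countably many variables over a field along the ideal generated by the
variables, with its inverse-limit topology, is admissible, the kernel of its projection onto the
field is an ideal of definition, and the ring is not adically complete for that kernel.) -/
theorem result
    (A : Type u) [CommRing A] [UniformSpace A] [IsUniformAddGroup A] [IsTopologicalRing A]
    (hA : LinTop.IsAdmissible A) (J : Ideal A) (hJ : LinTop.IsIdealOfDefinition A J)
    (I : Ideal A) (hI : I.FG) (hIJ : I ≤ J) :
    IsAdicComplete I A := by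
  obtain ⟨⟨hlin, -⟩, ht, hc⟩ := hA
  have hsmall : ∀ U ∈ nhds (0 : A), ∃ k, ((I ^ k).closure : Set A) ⊆ U := by
    intro U hU
    obtain ⟨V, hV, hVU⟩ := Groth.Agent.AdicTop.exists_open_ideal_subset hU
    obtain ⟨k, -, hk⟩ := hJ.2 _ (Groth.Agent.AdicTop.mem_nhds_of_isOpen hV)
    exact ⟨k, fun x hx => hVU (Groth.Agent.AdicTop.closure_le_of_isOpen hV ((Ideal.pow_right_mono hIJ k).trans hk) hx)⟩
  have hzero : ∀ x : A, (∀ k, x ∈ (I ^ k).closure) → x = 0 := by
    intro x hx
    by_contra hne
    obtain ⟨k, hk⟩ := hsmall {x}ᶜ (isOpen_compl_singleton.mem_nhds fun h => hne h.symm)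
    exact hk (hx k) rfl
  have hanti : Antitone fun k => (I ^ k).closure := fun p q h =>
    Groth.Agent.AdicTop.closure_mono (Ideal.pow_le_pow_right h)
  have hlim : ∀ s : ℕ → A, (∀ k, s (k + 1) - s k ∈ I ^ k) → ∃ L, ∀ k, L - s k ∈ (I ^ k).closure :=
    fun s hs => Groth.Agent.AdicTop.exists_limit_of_step (fun k => (I ^ k).closure.toAddSubgroup)
      (fun p q h => hanti h) (fun k => isClosed_closure) hsmall s fun k => Groth.Agent.AdicTop.le_closure _ (hs k)
  refine { haus' := fun x hx => hzero x fun k => ?_, prec' := fun g hg => ?_ }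
  · have := SModEq.zero.1 (hx k)
    rw [smul_eq_mul, Ideal.mul_top] at this
    exact Groth.Agent.AdicTop.le_closure _ this
  have hg' : ∀ p q, p ≤ q → g q - g p ∈ I ^ p := fun p q h => by
    have := SModEq.sub_mem.1 (hg h)
    rw [smul_eq_mul, Ideal.mul_top] at this
    rw [← neg_sub]
    exact neg_mem this
  obtain ⟨L, hL⟩ := hlim g fun k => hg' k (k + 1) k.le_succ
  refine ⟨L, fun n => ?_⟩
  rw [SModEq.sub_mem, smul_eq_mul, Ideal.mul_top]
  obtain ⟨r, a, ha⟩ := Submodule.fg_iff_exists_fin_generating_family.1 (hI.pow (n := n))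
  have hgen : ∀ j, ∀ e ∈ I ^ (n + j), ∃ z : Fin r → A, (∀ i, z i ∈ I ^ j) ∧ e = ∑ i, a i * z i := by
    intro j e he
    rw [pow_add] at he
    refine Submodule.mul_induction_on he (fun b hb w hw => ?_) (fun e e' he he' => ?_)
    · rw [← ha] at hb
      obtain ⟨c, rfl⟩ := (Submodule.mem_span_range_iff_exists_fun A).1 hb
      refine ⟨fun i => c i * w, fun i => Ideal.mul_mem_left _ _ hw, ?_⟩
      rw [Finset.sum_mul]
      exact Finset.sum_congr rfl fun i _ => by simp only [smul_eq_mul]; ring
    · obtain ⟨z, hz, rfl⟩ := he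
      obtain ⟨z', hz', rfl⟩ := he'
      exact ⟨z + z', fun i => add_mem (hz i) (hz' i), by simp [mul_add, Finset.sum_add_distrib]⟩
  choose z hz hze using fun k => hgen k _ (hg' (n + k) (n + (k + 1)) (by omega))
  choose Z hZ using fun i => hlim (fun k => ∑ j ∈ Finset.range k, z j i) fun k => by
    rw [Finset.sum_range_succ, add_sub_cancel_left]
    exact hz k i
  have htel : ∀ k, g (n + k) - g n = ∑ i, a i * ∑ j ∈ Finset.range k, z j i := by
    intro k
    induction k with
    | zero => simp
    | succ k ih =>
      simp only [Finset.sum_range_succ, mul_add, Finset.sum_add_distrib, ← ih, ← hze]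
      abel
  have hLeq : L - g n = ∑ i, a i * Z i := by
    refine sub_eq_zero.1 (hzero _ fun k => ?_)
    rw [show L - g n - ∑ i, a i * Z i = (L - g (n + k)) -
        ∑ i, a i * (Z i - ∑ j ∈ Finset.range k, z j i) by
      simp only [mul_sub, Finset.sum_sub_distrib, ← htel]; abel]
    exact sub_mem (hanti (Nat.le_add_left k n) (hL (n + k)))
      (Submodule.sum_mem _ fun i _ => Ideal.mul_mem_left _ _ (hZ i k))
  rw [← neg_sub, hLeq, ← ha]
  exact neg_mem (Submodule.sum_mem _ fun i _ =>
    Ideal.mul_mem_right _ _ (Submodule.subset_span ⟨i, rfl⟩))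

end Groth.Agent.S4338
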