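import Groth.Statements.S4343
import Mathlib

set_option autoImplicit false
universe u
open RatMapD

open CategoryTheory AlgebraicGeometry TopologicalSpace

namespace Groth.Agent.S4343

theorem spread_unique_lft {X Y S : Scheme.{u}} (sY : Y ⟶ S) [LocallyOfFiniteType sY] {x : X}
    (f g : X ⟶ Y) (hS : f ≫ sY = g ≫ sY) (e : X.fromSpecStalk x ≫ f = X.fromSpecStalk x ≫ g) :
    ∃ (U : X.Opens), x ∈ U ∧ U.ι ≫ f = U.ι ≫ g := by
  have ex : f x = g x := by simpa using congr($e (IsLocalRing.closedPoint _))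
  have H : f.stalkMap x = Y.presheaf.stalkSpecializes (Inseparable.of_eq ex.symm).specializes ≫ g.stalkMap x := by
    apply Spec.map_injective
    rw [← cancel_mono (Y.fromSpecStalk _)]
    simpa [Scheme.SpecMap_stalkSpecializes_fromSpecStalk]
  obtain ⟨_, ⟨W : S.Opens, hW, rfl⟩, hxW, -⟩ :=
    S.isBasis_affineOpens.exists_subset_of_mem_open (Set.mem_univ (sY (f x))) isOpen_univ
  obtain ⟨_, ⟨V : Y.Opens, hV, rfl⟩, hxV, hVW⟩ :=
    Y.isBasis_affineOpens.exists_subset_of_mem_open (show f x ∈ (sY ⁻¹ᵁ W : Set Y) from hxW) (sY ⁻¹ᵁ W).isOpen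
  have hVW' : V ≤ sY ⁻¹ᵁ W := hVW
  obtain ⟨s, hs⟩ := Algebra.FiniteType.out (self := sY.finiteType_appLE hW hV hVW')
  let U₀ : X.Opens := f ⁻¹ᵁ V ⊓ g ⁻¹ᵁ V
  have hx₀ : x ∈ U₀ := ⟨hxV, show g x ∈ V from ex ▸ hxV⟩
  have key : ∀ b : Γ(Y, V), X.presheaf.germ U₀ x hx₀ (f.appLE V U₀ inf_le_left b) = X.presheaf.germ U₀ x hx₀ (g.appLE V U₀ inf_le_right b) := by
    intro b
    have : f.appLE V U₀ inf_le_left ≫ X.presheaf.germ U₀ x hx₀ = g.appLE V U₀ inf_le_right ≫ X.presheaf.germ U₀ x hx₀ := by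
      simp only [Scheme.Hom.appLE, Category.assoc, X.presheaf.germ_res', ← Scheme.Hom.germ_stalkMap, H]
      simp only [TopCat.Presheaf.germ_stalkSpecializes_assoc, Scheme.Hom.germ_stalkMap]
    exact ConcreteCategory.congr_hom this b
  choose W' hxW' i₁ i₂ hW' using fun b : s => X.presheaf.germ_eq x hx₀ hx₀ _ _ (key b)
  obtain ⟨_, ⟨U : X.Opens, -, rfl⟩, hxU, hUle⟩ :=
    X.isBasis_affineOpens.exists_subset_of_mem_open
      (show x ∈ (⋂ b : s, (W' b : Set X)) ∩ (U₀ : Set X) from ⟨Set.mem_iInter.2 fun b => hxW' b, hx₀⟩)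
      ((isOpen_iInter_of_finite fun b => (W' b).isOpen).inter U₀.isOpen)
  have hUV : U ≤ U₀ := fun z hz => (hUle hz).2
  refine ⟨U, hxU, ?_⟩
  rw [← Scheme.Hom.resLE_comp_ι _ (hUV.trans inf_le_left),
    ← Scheme.Hom.resLE_comp_ι _ (hUV.trans inf_le_right)]
  congr 1
  have : IsAffine V := hV
  suffices ∀ (U₁ V₁) (eU : U = U₁) (eV : V = V₁),
      f.appLE V₁ U₁ (eU ▸ eV ▸ hUV.trans inf_le_left) =
        g.appLE V₁ U₁ (eU ▸ eV ▸ hUV.trans inf_le_right) by
    rw [← cancel_mono V.toScheme.isoSpec.hom]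
    simp only [Scheme.isoSpec, asIso_hom, Scheme.toSpecΓ_naturality,
      Scheme.Hom.app_eq_appLE, Scheme.Hom.resLE_appLE]
    congr 2
    apply this <;> simp
  rintro _ _ rfl rfl
  have hC : sY.appLE W V hVW' ≫ f.appLE V U (hUV.trans inf_le_left) = sY.appLE W V hVW' ≫ g.appLE V U (hUV.trans inf_le_right) := by
    rw [Scheme.Hom.appLE_comp_appLE, Scheme.Hom.appLE_comp_appLE]
    congr 1
  have hb : ∀ b : s, f.appLE V U (hUV.trans inf_le_left) b = g.appLE V U (hUV.trans inf_le_right) b := by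
    intro b
    have hle : U ≤ W' b := fun z hz => Set.mem_iInter.1 (hUle hz).1 b
    have h1 := congrArg (X.presheaf.map (homOfLE hle).op) (hW' b)
    simp only [← ConcreteCategory.comp_apply, Category.assoc, Scheme.Hom.appLE, ← Functor.map_comp] at h1 ⊢
    exact h1
  ext y
  let alg := (sY.appLE W V hVW').hom.toAlgebra
  have hy : y ∈ Algebra.adjoin Γ(S, W) (s : Set Γ(Y, V)) := hs ▸ trivial
  induction hy using Algebra.adjoin_induction with
  | mem z hz => exact hb ⟨z, hz⟩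
  | algebraMap r => exact ConcreteCategory.congr_hom hC r
  | add a b _ _ ha hb => simp only [map_add, ha, hb]
  | mul a b _ _ ha hb => simp only [map_mul, ha, hb]

theorem cancel_fromSpecStalkOfMem {X Y : Scheme.{u}} (D : X.Opens) (x : X) (hx : x ∈ D) (a b : D.toScheme ⟶ Y)
    (h : D.fromSpecStalkOfMem x hx ≫ a = D.fromSpecStalkOfMem x hx ≫ b) :
    D.toScheme.fromSpecStalk ⟨x, hx⟩ ≫ a = D.toScheme.fromSpecStalk ⟨x, hx⟩ ≫ b := by
  simp only [Scheme.Opens.fromSpecStalkOfMem, Category.assoc, Spec.map_inv] at h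
  exact (cancel_epi _).1 h

theorem restrict_eq {X Y : Scheme.{u}} (D : X.Opens) (U : D.toScheme.Opens) (hle : D.ι ''ᵁ U ≤ D) (a b : D.toScheme ⟶ Y)
    (h : U.ι ≫ a = U.ι ≫ b) : X.homOfLE hle ≫ a = X.homOfLE hle ≫ b := by
  rw [← cancel_epi (Scheme.Hom.isoImage _ _).hom]
  simp only [← Category.assoc] at h ⊢
  convert! h using 2 <;> rw [← cancel_mono (Scheme.Opens.ι _)] <;> simp


open AlgebraicGeometry in
open CategoryTheory in
/-- Let X, Y be S-schemes with X irreducible and Y locally of finite type over S. Two S-rational maps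
from X to Y to which corresponds the same morphism Spec(O_x) -> Y, x the generic point of X, are
equal. (The published statement has Y of finite type over S; only local finite type is used. X is
not assumed reduced.) -/
theorem result
    (S X Y : Scheme.{u}) [X.Over S] [Y.Over S] [IrreducibleSpace X]
    [LocallyOfFiniteType (Y ↘ S)] (f g : X ⤏ Y) [f.IsOver S] [g.IsOver S]
    (h : f.fromFunctionField = g.fromFunctionField) : f = g := by
  obtain ⟨f, hf, rfl⟩ := f.exists_partialMap_over S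
  obtain ⟨g, hg, rfl⟩ := g.exists_partialMap_over S
  let D := f.domain ⊓ g.domain
  have hD : Dense (D : Set X) := f.dense_domain.inter_of_isOpen_left g.dense_domain f.domain.2
  have hη : genericPoint X ∈ D := by
    obtain ⟨z, hz⟩ := hD.nonempty
    exact (genericPoint_specializes z).mem_open D.2 hz
  have h' : (f.restrict D hD inf_le_left).fromSpecStalkOfMem hη = (g.restrict D hD inf_le_right).fromSpecStalkOfMem hη := by
    rw [Scheme.PartialMap.fromSpecStalkOfMem_restrict, Scheme.PartialMap.fromSpecStalkOfMem_restrict]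
    rw [Scheme.RationalMap.fromFunctionField_toRationalMap, Scheme.RationalMap.fromFunctionField_toRationalMap] at h
    exact h
  have h'' := cancel_fromSpecStalkOfMem D (genericPoint X) hη (X.homOfLE (inf_le_left : D ≤ f.domain) ≫ f.hom)
    (X.homOfLE (inf_le_right : D ≤ g.domain) ≫ g.hom) h'
  have hov : (X.homOfLE (inf_le_left : D ≤ f.domain) ≫ f.hom) ≫ Y ↘ S = (X.homOfLE (inf_le_right : D ≤ g.domain) ≫ g.hom) ≫ Y ↘ S := by
    have a : f.hom ≫ Y ↘ S = f.domain.ι ≫ X ↘ S := (Scheme.PartialMap.isOver_iff (S := S)).1 hf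
    have b : g.hom ≫ Y ↘ S = g.domain.ι ≫ X ↘ S := (Scheme.PartialMap.isOver_iff (S := S)).1 hg
    rw [Category.assoc, Category.assoc, a, b, ← Category.assoc, ← Category.assoc, Scheme.homOfLE_ι, Scheme.homOfLE_ι]
  obtain ⟨U, hU, e⟩ := spread_unique_lft (Y ↘ S) (X := D.toScheme) (x := ⟨genericPoint X, hη⟩) (X.homOfLE (inf_le_left : D ≤ f.domain) ≫ f.hom) (X.homOfLE (inf_le_right : D ≤ g.domain) ≫ g.hom) hov h''
  refine Scheme.PartialMap.toRationalMap_eq_iff.2 ?_
  refine ⟨D.ι ''ᵁ U, (D.ι ''ᵁ U).2.dense ⟨_, _, hU, rfl⟩,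
      ((Set.image_subset_range _ _).trans_eq (Subtype.range_val)).trans inf_le_left,
      ((Set.image_subset_range _ _).trans_eq (Subtype.range_val)).trans inf_le_right, ?_⟩
  have e' := restrict_eq D U (((Set.image_subset_range _ _).trans_eq (Subtype.range_val))) _ _ e
  erw [Scheme.homOfLE_homOfLE_assoc, Scheme.homOfLE_homOfLE_assoc] at e'
  exact e'

end Groth.Agent.S4343
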