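import Groth.Statements.S4344

set_option autoImplicit false
universe u
open RatMapD

namespace Groth.Agent.S4344

section
open CategoryTheory CategoryTheory.Limits AlgebraicGeometry AlgebraicGeometry.Scheme

variable (S : Scheme.{u}) {X Y : Scheme.{u}} [X.Over S] [Y.Over S] (f : X ⤏ Y)

/-- The representatives of a rational map which are S-morphisms. -/
abbrev Reps : Type u := { g : X.PartialMap Y // g.IsOver S ∧ g.toRationalMap = f }

/-- Union of the domains of the S-representatives. -/
noncomputable def overDomain : X.Opens := ⨆ i : Reps S f, i.1.domain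

theorem le_overDomain (i : Reps S f) : i.1.domain ≤ overDomain S f :=
  le_iSup (fun i : Reps S f => i.1.domain) i

/-- The cover of `overDomain`. -/
noncomputable def overCover : (overDomain S f).toScheme.OpenCover where
  I₀ := Reps S f
  X i := i.1.domain.toScheme
  f i := X.homOfLE (le_overDomain S f i)
  mem₀ := by
    rw [presieve₀_mem_precoverage_iff]
    refine ⟨fun x ↦ ?_, fun i => inferInstanceAs (IsOpenImmersion (X.homOfLE (le_overDomain S f i)))⟩
    obtain ⟨i, hi⟩ := TopologicalSpace.Opens.mem_iSup.mp x.2
    refine ⟨i, ⟨x.1, hi⟩, Subtype.ext ?_⟩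
    exact Scheme.homOfLE_apply (X := X) (le_overDomain S f i) (⟨x.1, hi⟩ : i.1.domain)

theorem exists_glue [IsReduced X] [IsSeparated (Y ↘ S)] :
    ∃ g : (overDomain S f).toScheme ⟶ Y, g ≫ (Y ↘ S) = (overDomain S f).ι ≫ (X ↘ S) ∧
      ∀ i : Reps S f, X.homOfLE (le_overDomain S f i) ≫ g = i.1.hom := by
  have hc : ∀ i j : (overCover S f).I₀, pullback.fst ((overCover S f).f i) ((overCover S f).f j) ≫ i.1.hom =
      pullback.snd ((overCover S f).f i) ((overCover S f).f j) ≫ j.1.hom := by
    intro i j
    have := i.2.1
    have := j.2.1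
    refine (cancel_epi (isPullback_opens_inf_le (le_overDomain S f i)
      (le_overDomain S f j)).isoPullback.hom).mp ?_
    erw [IsPullback.isoPullback_hom_fst_assoc, IsPullback.isoPullback_hom_snd_assoc]
    exact (PartialMap.equiv_iff_of_isSeparated (S := S) (f := i.1) (g := j.1)).mp
      (PartialMap.toRationalMap_eq_iff.mp (i.2.2.trans j.2.2.symm))
  refine ⟨(overCover S f).glueMorphisms (fun i => i.1.hom) hc, ?_, fun i => (overCover S f).ι_glueMorphisms _ _ i⟩
  apply (overCover S f).hom_ext
  intro (i : Reps S f)
  refine (Category.assoc _ _ _).symm.trans ((congrArg (· ≫ (Y ↘ S)) ((overCover S f).ι_glueMorphisms _ hc i)).trans ?_)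
  show i.1.hom ≫ (Y ↘ S) = X.homOfLE (le_overDomain S f i) ≫ _
  rw [← Category.assoc, Scheme.homOfLE_ι]
  exact i.2.1.1

end

open AlgebraicGeometry in
open CategoryTheory in
/-- Let X be a reduced S-scheme, Y an S-scheme separated over S and f an S-rational map from X to Y.
There is a representative g of f which is an S-morphism and of which every S-morphism representing f
is a restriction; in particular g is the unique S-morphism of the class of f defined on the largest
open where some S-representative is defined. (The published statement speaks of the domain of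
definition among all representatives; over a base that is not separated that domain can be larger
than the one on which an S-representative exists, and this row takes the latter.) -/
theorem result
    (S X Y : Scheme.{u}) [X.Over S] [Y.Over S] [IsReduced X] [IsSeparated (Y ↘ S)]
    (f : X ⤏ Y) [f.IsOver S] :
    ∃ g : X.PartialMap Y, g.IsOver S ∧ g.toRationalMap = f ∧
      ∀ h : X.PartialMap Y, h.IsOver S → h.toRationalMap = f →
        ∃ hle : h.domain ≤ g.domain, h = g.restrict h.domain h.dense_domain hle := by
  obtain ⟨g₀, hg₀, hf₀⟩ := f.exists_partialMap_over S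
  obtain ⟨g, hg, hres⟩ := exists_glue S f
  have hd : Dense ((overDomain S f : X.Opens) : Set X) :=
    g₀.dense_domain.mono (le_overDomain S f ⟨g₀, hg₀, hf₀⟩)
  refine ⟨⟨overDomain S f, hd, g⟩, ⟨hg⟩, ?_, fun h hh hhf => ?_⟩
  · refine Eq.trans (Scheme.PartialMap.toRationalMap_eq_iff.mpr (Scheme.PartialMap.equiv.symm ?_)) hf₀
    refine ⟨g₀.domain, g₀.dense_domain, le_rfl, le_overDomain S f ⟨g₀, hg₀, hf₀⟩, ?_⟩
    show X.homOfLE _ ≫ g₀.hom = X.homOfLE _ ≫ g
    rw [hres ⟨g₀, hg₀, hf₀⟩, Scheme.homOfLE_rfl, CategoryTheory.Category.id_comp]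
  · refine ⟨le_overDomain S f ⟨h, hh, hhf⟩, ?_⟩
    refine Scheme.PartialMap.ext _ _ rfl ?_
    show h.hom = (X.isoOfEq (rfl : h.domain = h.domain)).hom ≫ X.homOfLE _ ≫ g
    rw [hres ⟨h, hh, hhf⟩]
    simp

end Groth.Agent.S4344
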