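import Groth.Statements.S4345
import Groth.Agent.SchLoc.LocalSub

set_option autoImplicit false
universe u
open SchLoc

namespace Groth.Agent.S4345

/-- Let A and B be subrings of a field R, C the subring generated by A and B, and for a subring E let
L(E) be the set of local subrings E_p of R, p a prime ideal of E. The following are equivalent: (i)
for every local subring Q of R containing A and B, the localizations of A and of B at the traces of
the maximal ideal of Q coincide; (ii) for every prime ideal r of C the localizations of A and B at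
the traces of r coincide; (iii) two members of L(A) and L(B) dominated by a common local subring of
R are equal; (iv) the intersection of L(A) and L(B) is L(C). -/
theorem result
    (R : Type u) [Field R] (A B : Subring R) :
    [ ∀ (Q : LocalSubring R) (hA : A ≤ Q.toSubring) (hB : B ≤ Q.toSubring),
        LocalSubring.ofPrime A ((IsLocalRing.maximalIdeal Q.toSubring).comap (Subring.inclusion hA)) =
          LocalSubring.ofPrime B ((IsLocalRing.maximalIdeal Q.toSubring).comap (Subring.inclusion hB)),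
      ∀ r : PrimeSpectrum ↥(A ⊔ B),
        LocalSubring.ofPrime A (r.asIdeal.comap (Subring.inclusion (le_sup_left : A ≤ A ⊔ B))) =
          LocalSubring.ofPrime B (r.asIdeal.comap (Subring.inclusion (le_sup_right : B ≤ A ⊔ B))),
      ∀ (p : PrimeSpectrum A) (q : PrimeSpectrum B),
        (∃ Q : LocalSubring R, LocalSubring.ofPrime A p.asIdeal ≤ Q ∧ LocalSubring.ofPrime B q.asIdeal ≤ Q) →
          LocalSubring.ofPrime A p.asIdeal = LocalSubring.ofPrime B q.asIdeal,
      Set.range (fun p : PrimeSpectrum A ↦ LocalSubring.ofPrime A p.asIdeal) ∩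
          Set.range (fun q : PrimeSpectrum B ↦ LocalSubring.ofPrime B q.asIdeal) =
        Set.range (fun r : PrimeSpectrum ↥(A ⊔ B) ↦ LocalSubring.ofPrime (A ⊔ B) r.asIdeal) ].TFAE := by
  tfae_have 1 → 2 := fun h r => by
    have hC := LocalSubring.le_ofPrime (A ⊔ B) r.asIdeal
    have := h (LocalSubring.ofPrime (A ⊔ B) r.asIdeal) (le_sup_left.trans hC)
      (le_sup_right.trans hC)
    convert this using 2
    · conv_lhs => rw [← Groth.Agent.SchLoc.ofPrime_comap_eq (A ⊔ B) r.asIdeal, Ideal.comap_comap]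
      rfl
    · conv_lhs => rw [← Groth.Agent.SchLoc.ofPrime_comap_eq (A ⊔ B) r.asIdeal, Ideal.comap_comap]
      rfl
  tfae_have 2 → 3 := fun h p q ⟨Q, hp, hq⟩ => by
    have hA : A ≤ Q.toSubring := (LocalSubring.le_ofPrime A p.asIdeal).trans hp.1
    have hB : B ≤ Q.toSubring := (LocalSubring.le_ofPrime B q.asIdeal).trans hq.1
    have := h ⟨(IsLocalRing.maximalIdeal Q.toSubring).comap (Subring.inclusion (sup_le hA hB)),
      Ideal.IsPrime.comap _⟩
    convert this using 2
    · rw [← Groth.Agent.SchLoc.comap_eq_of_ofPrime_le hp hA, Ideal.comap_comap]; rfl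
    · rw [← Groth.Agent.SchLoc.comap_eq_of_ofPrime_le hq hB, Ideal.comap_comap]; rfl
  tfae_have 3 → 1 := fun h Q hA hB =>
    h ⟨_, Ideal.IsPrime.comap _⟩ ⟨_, Ideal.IsPrime.comap _⟩
      ⟨Q, Groth.Agent.SchLoc.ofPrime_le hA rfl, Groth.Agent.SchLoc.ofPrime_le hB rfl⟩
  tfae_have 3 → 4 := fun h => by
    apply Set.Subset.antisymm
    · rintro L ⟨⟨p, rfl⟩, ⟨q, hq⟩⟩
      simp only at hq
      have hA := LocalSubring.le_ofPrime A p.asIdeal
      have hB : B ≤ (LocalSubring.ofPrime A p.asIdeal).toSubring :=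
        hq ▸ LocalSubring.le_ofPrime B q.asIdeal
      let r : PrimeSpectrum ↥(A ⊔ B) := ⟨(IsLocalRing.maximalIdeal
        (LocalSubring.ofPrime A p.asIdeal).toSubring).comap (Subring.inclusion (sup_le hA hB)),
        Ideal.IsPrime.comap _⟩
      refine ⟨r, le_antisymm (Groth.Agent.SchLoc.ofPrime_le (sup_le hA hB) rfl) ?_⟩
      refine Groth.Agent.SchLoc.ofPrime_le
        (le_sup_left.trans (LocalSubring.le_ofPrime (A ⊔ B) r.asIdeal)) ?_
      conv_rhs => rw [← Groth.Agent.SchLoc.ofPrime_comap_eq A p.asIdeal]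
      have hr := Groth.Agent.SchLoc.ofPrime_comap_eq (A ⊔ B) r.asIdeal
      ext a
      exact (SetLike.ext_iff.mp hr (Subring.inclusion le_sup_left a))
    · rintro L ⟨r, rfl⟩
      have hC := LocalSubring.le_ofPrime (A ⊔ B) r.asIdeal
      let p : PrimeSpectrum A := ⟨(IsLocalRing.maximalIdeal
        (LocalSubring.ofPrime (A ⊔ B) r.asIdeal).toSubring).comap
          (Subring.inclusion (le_sup_left.trans hC)), Ideal.IsPrime.comap _⟩
      let q : PrimeSpectrum B := ⟨(IsLocalRing.maximalIdeal
        (LocalSubring.ofPrime (A ⊔ B) r.asIdeal).toSubring).comap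
          (Subring.inclusion (le_sup_right.trans hC)), Ideal.IsPrime.comap _⟩
      have hp := Groth.Agent.SchLoc.ofPrime_le (P := p.asIdeal) (le_sup_left.trans hC) rfl
      have hq := Groth.Agent.SchLoc.ofPrime_le (P := q.asIdeal) (le_sup_right.trans hC) rfl
      have hpq := h p q ⟨_, hp, hq⟩
      have hA := LocalSubring.le_ofPrime A p.asIdeal
      have hB : B ≤ (LocalSubring.ofPrime A p.asIdeal).toSubring :=
        hpq ▸ LocalSubring.le_ofPrime B q.asIdeal
      have he : LocalSubring.ofPrime A p.asIdeal = LocalSubring.ofPrime (A ⊔ B) r.asIdeal := by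
        refine le_antisymm hp (Groth.Agent.SchLoc.ofPrime_le (sup_le hA hB) ?_)
        conv_rhs => rw [← Groth.Agent.SchLoc.ofPrime_comap_eq (A ⊔ B) r.asIdeal]
        rw [← Groth.Agent.SchLoc.maximal_comap_of_le hp, Ideal.comap_comap]
        rfl
      exact ⟨⟨p, he⟩, ⟨q, hpq.symm.trans he⟩⟩
  tfae_have 4 → 2 := fun h r => by
    obtain ⟨⟨p, hp⟩, ⟨q, hq⟩⟩ : LocalSubring.ofPrime (A ⊔ B) r.asIdeal ∈
        Set.range (fun p : PrimeSpectrum A ↦ LocalSubring.ofPrime A p.asIdeal) ∩
          Set.range (fun q : PrimeSpectrum B ↦ LocalSubring.ofPrime B q.asIdeal) :=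
      h ▸ ⟨r, rfl⟩
    simp only at hp hq
    have hC := LocalSubring.le_ofPrime (A ⊔ B) r.asIdeal
    convert hp.trans hq.symm using 2
    · rw [← Groth.Agent.SchLoc.comap_eq_of_ofPrime_le hp.le (le_sup_left.trans hC)]
      conv_lhs => rw [← Groth.Agent.SchLoc.ofPrime_comap_eq (A ⊔ B) r.asIdeal, Ideal.comap_comap]
      rfl
    · rw [← Groth.Agent.SchLoc.comap_eq_of_ofPrime_le hq.le (le_sup_right.trans hC)]
      conv_lhs => rw [← Groth.Agent.SchLoc.ofPrime_comap_eq (A ⊔ B) r.asIdeal, Ideal.comap_comap]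
      rfl
  tfae_finish

end Groth.Agent.S4345
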