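import Groth.Statements.S4346
import Groth.Agent.SchLoc.Allied

set_option autoImplicit false
universe u
open SchLoc

namespace Groth.Agent.S4346

open AlgebraicGeometry in
/-- On an integral separated scheme distinct points have distinct local rings inside the function field. -/
theorem result (X : Scheme.{u}) [IsIntegral X] [X.IsSeparated] :
    Function.Injective (fun x : X ↦ (algebraMap (X.presheaf.stalk x) X.functionField).range) := by
  intro x y h
  have h' : ∀ b, b ∈ (Groth.Agent.SchLoc.locAt x).toSubring ↔
      b ∈ (Groth.Agent.SchLoc.locAt y).toSubring := fun b => by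
    rw [Groth.Agent.SchLoc.mem_locAt, Groth.Agent.SchLoc.mem_locAt]
    exact SetLike.ext_iff.mp h b
  exact ((Groth.Agent.SchLoc.specializes_of_locAt_subset
      Groth.Agent.SchLoc.noAllied_of_isSeparated fun b hb => (h' b).mp hb).antisymm
    (Groth.Agent.SchLoc.specializes_of_locAt_subset
      Groth.Agent.SchLoc.noAllied_of_isSeparated fun b hb => (h' b).mpr hb)).symm.eq

end Groth.Agent.S4346
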