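import Groth.Statements.S4347
import Groth.Agent.FSchLib.Completion

set_option autoImplicit false
universe u
open AdicRing

namespace Groth.Agent.S4347

/-- The completed ring of fractions of A with denominators in a multiplicative subset being the J-adic
completion of the localization of A at that subset: Let A be a Noetherian ring with the J-adic
topology and S' a multiplicative subset contained in the multiplicative subset S. Then the canonical
map from the completed ring of fractions of A with denominators in S' to the one with denominators
in S is flat. (The published statement assumes A adic, i.e. also separated and complete; that is not
needed for this assertion.) -/
theorem result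
    (A : Type u) [CommRing A] [IsNoetherianRing A] (J : Ideal A) (S' S : Submonoid A) (hS : S' ≤ S)
    (g : Localization S' →+* Localization S)
    (hg : g.comp (algebraMap A (Localization S')) = algebraMap A (Localization S))
    (hJ : (J.map (algebraMap A (Localization S'))).map g ≤ J.map (algebraMap A (Localization S))) :
    (FSch.complMap (J.map (algebraMap A (Localization S'))) (J.map (algebraMap A (Localization S)))
      g hJ).Flat := by
  refine Groth.Agent.FSchLib.flat_complMap _ _ g ?_ ?_
  · letI := g.toAlgebra
    haveI : IsScalarTower A (Localization S') (Localization S) :=
      .of_algebraMap_eq fun a => (RingHom.congr_fun hg a).symm
    haveI : IsLocalization (S.map (algebraMap A (Localization S'))) (Localization S) :=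
      IsLocalization.isLocalization_of_submonoid_le (Localization S') (Localization S) S' S hS
    exact IsLocalization.flat (Localization S) (S.map (algebraMap A (Localization S')))
  · rw [Ideal.map_map, hg]

end Groth.Agent.S4347
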