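import Groth.Statements.S4349
import Groth.Agent.RatFunLib.Basic

set_option autoImplicit false
universe u
open RatFun

namespace Groth.Agent.S4349

open Groth.Agent.RatFunLib

open AlgebraicGeometry in
/-- Second assertion (in the form: sections over a dense open inject into the ring of rational
functions). Let X be a reduced scheme and V a dense open subset of X. The canonical map from the
sections of O_X over V to the ring R(X) of rational functions on X is injective. (The published
statement also assumes X locally integral or locally Noetherian; that hypothesis serves the
quasi-coherence of the sheaf of rational functions and is not needed here.) -/
theorem result (X : Scheme.{u}) [IsReduced X]
    (V : X.Opens) (hV : Dense (V : Set X)) :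
    Function.Injective (RatFun.toRing X V hV) := by
  exact toRing_injective hV

end Groth.Agent.S4349
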