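import Groth.Statements.S4363
import Groth.Agent.AnLib.Pullback

set_option autoImplicit false
universe u v
open RedSep

namespace Groth.Agent.S4363

open CategoryTheory CategoryTheory.Limits AlgebraicGeometry

theorem closure_congr {X : Scheme.{u}} {A A' B B' W W' : X.Opens} (hA : A = A') (hB : B = B') (hW : W = W')
    (a : W ≤ A) (b : W ≤ B) (a' : W' ≤ A') (b' : W' ≤ B') :
    Subring.closure (Set.range (X.presheaf.map (homOfLE a).op).hom ∪ Set.range (X.presheaf.map (homOfLE b).op).hom) = ⊤ ↔
    Subring.closure (Set.range (X.presheaf.map (homOfLE a').op).hom ∪ Set.range (X.presheaf.map (homOfLE b').op).hom) = ⊤ := by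
  subst hA hB hW
  rfl

theorem closedImmersion_iff {X Y : Scheme.{u}} [IsAffine Y] (f : X ⟶ Y) {U V : X.Opens} (hU : IsAffineOpen U)
    (hV : IsAffineOpen V) :
    IsClosedImmersion (pullback.lift (X.homOfLE (inf_le_left : U ⊓ V ≤ U)) (X.homOfLE (inf_le_right : U ⊓ V ≤ V))
        (by simp) : (U ⊓ V : X.Opens).toScheme ⟶ pullback (U.ι ≫ f) (V.ι ≫ f)) ↔
      IsAffineOpen (U ⊓ V) ∧
      Subring.closure (Set.range (X.presheaf.map (homOfLE (inf_le_left : U ⊓ V ≤ U)).op).hom ∪
        Set.range (X.presheaf.map (homOfLE (inf_le_right : U ⊓ V ≤ V)).op).hom) = ⊤ := by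
  haveI : IsAffine U.toScheme := hU
  haveI : IsAffine V.toScheme := hV
  set δ := pullback.lift (X.homOfLE (inf_le_left : U ⊓ V ≤ U)) (X.homOfLE (inf_le_right : U ⊓ V ≤ V))
    (by simp : _ ≫ U.ι ≫ f = _ ≫ V.ι ≫ f) with hδ
  rw [HasAffineProperty.iff_of_isAffine (P := @IsClosedImmersion)]
  refine and_congr Iff.rfl ?_
  have hgen := Groth.Agent.AnLib.closure_range_appTop_eq_top (IsPullback.of_hasPullback (U.ι ≫ f) (V.ι ≫ f))
  have key : δ.appTop.hom.range =
      Subring.closure (Set.range (X.homOfLE (inf_le_left : U ⊓ V ≤ U)).appTop.hom ∪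
        Set.range (X.homOfLE (inf_le_right : U ⊓ V ≤ V)).appTop.hom) := by
    rw [RingHom.range_eq_map, ← hgen, RingHom.map_closure, Set.image_union, ← Set.range_comp, ← Set.range_comp]
    congr 3
    · rw [← pullback.lift_fst (f := U.ι ≫ f) (g := V.ι ≫ f) (X.homOfLE (inf_le_left : U ⊓ V ≤ U))
        (X.homOfLE (inf_le_right : U ⊓ V ≤ V)) (by simp), Scheme.Hom.comp_appTop]
      rfl
    · rw [← pullback.lift_snd (f := U.ι ≫ f) (g := V.ι ≫ f) (X.homOfLE (inf_le_left : U ⊓ V ≤ U))
        (X.homOfLE (inf_le_right : U ⊓ V ≤ V)) (by simp), Scheme.Hom.comp_appTop]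
      rfl
  rw [← RingHom.range_eq_top, key, Scheme.homOfLE_appTop, Scheme.homOfLE_appTop]
  exact closure_congr U.ι_image_top V.ι_image_top (U ⊓ V).ι_image_top _ _ _ _

open AlgebraicGeometry in
open CategoryTheory in
/-- Let Y be an affine scheme, f : X -> Y a morphism and (U i) a cover of X by affine open subschemes.
Then f is separated if and only if, for every pair of indices i, j, the intersection of U i and U j
is an affine open and its ring of sections is generated, as a ring, by the images of the rings of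
sections of U i and of U j under the restriction maps. -/
theorem result
    {X Y : Scheme.{u}} [IsAffine Y] (f : X ⟶ Y) {ι : Type v} (U : ι → X.Opens)
    (hU : ∀ i, IsAffineOpen (U i)) (hcov : ⨆ i, U i = ⊤) :
    IsSeparated f ↔ ∀ i j, IsAffineOpen (U i ⊓ U j) ∧
      Subring.closure (Set.range (X.presheaf.map (homOfLE (inf_le_left : U i ⊓ U j ≤ U i)).op).hom ∪
        Set.range (X.presheaf.map (homOfLE (inf_le_right : U i ⊓ U j ≤ U j)).op).hom) = ⊤ := by
  have step : ∀ i j, IsPullback
      (pullback.lift (X.homOfLE (inf_le_left : U i ⊓ U j ≤ U i)) (X.homOfLE (inf_le_right : U i ⊓ U j ≤ U j)) (by simp) :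
        (U i ⊓ U j : X.Opens).toScheme ⟶ pullback ((U i).ι ≫ f) ((U j).ι ≫ f))
      (U i ⊓ U j).ι (pullback.map ((U i).ι ≫ f) ((U j).ι ≫ f) f f (U i).ι (U j).ι (𝟙 Y) (by simp) (by simp))
      (pullback.diagonal f) := by
    intro i j
    refine IsOpenImmersion.isPullback _ _ _ _ ?_ ?_
    · apply pullback.hom_ext
      · simp only [Category.assoc, pullback.map]
        erw [pullback.diagonal_fst, pullback.lift_fst, pullback.lift_fst_assoc]
        simp
      · simp only [Category.assoc, pullback.map]
        erw [pullback.diagonal_snd, pullback.lift_snd, pullback.lift_snd_assoc]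
        simp
    · ext x
      show (pullback.diagonal f).base x ∈ Set.range _ ↔ x ∈ Set.range (U i ⊓ U j).ι.base
      rw [Scheme.Pullback.range_map, Scheme.Opens.range_ι, Scheme.Opens.range_ι, Scheme.Opens.range_ι,
        Set.mem_inter_iff, Set.mem_preimage, Set.mem_preimage, ← Scheme.Hom.comp_apply, ← Scheme.Hom.comp_apply,
        pullback.diagonal_fst, pullback.diagonal_snd]
      exact Iff.rfl
  constructor
  · intro h i j
    rw [← closedImmersion_iff f (hU i) (hU j)]
    exact MorphismProperty.of_isPullback (P := @IsClosedImmersion) (step i j).flip inferInstance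
  · intro h
    let 𝒰 := X.openCoverOfIsOpenCover U hcov
    refine ⟨IsZariskiLocalAtTarget.of_openCover (Scheme.Pullback.openCoverOfLeftRight 𝒰 𝒰 f f) ?_⟩
    rintro ⟨i, j⟩
    have h1 := (closedImmersion_iff f (hU i) (hU j)).mpr (h i j)
    exact ((MorphismProperty.cancel_left_of_respectsIso (P := @IsClosedImmersion)
      ((step i j).flip.isoPullback.inv) _).mpr h1) |> fun h2 => by
        rw [IsPullback.isoPullback_inv_snd] at h2
        exact h2

end Groth.Agent.S4363
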