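import Groth.Statements.S4369


set_option autoImplicit false
universe u
open AffSch

namespace Groth.Agent.S4369

/-- Let φ : A' -> A be a ring homomorphism such that every f in A can be written f = h φ(f') with h
invertible in A (this holds in particular when φ is surjective). Then the associated continuous map
Spec A -> Spec A' is a homeomorphism onto its image. -/
theorem result
    {A' A : Type u} [CommRing A'] [CommRing A] (φ : A' →+* A)
    (h : ∀ f : A, ∃ (u : Aˣ) (f' : A'), f = (u : A) * φ f') :
    Topology.IsEmbedding (PrimeSpectrum.comap φ) := by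
  have hD : ∀ f : A, ∃ f' : A', ∀ q : PrimeSpectrum A, f ∈ q.asIdeal ↔ φ f' ∈ q.asIdeal := by
    intro f
    obtain ⟨u, f', rfl⟩ := h f
    exact ⟨f', fun q => Ideal.unit_mul_mem_iff_mem _ u.isUnit⟩
  refine ⟨⟨le_antisymm (continuous_iff_le_induced.1 (PrimeSpectrum.continuous_comap φ)) ?_⟩, ?_⟩
  · refine le_of_le_of_eq ?_ PrimeSpectrum.isTopologicalBasis_basic_opens.eq_generateFrom.symm
    apply le_generateFrom
    rintro _ ⟨f, rfl⟩
    obtain ⟨f', hf'⟩ := hD f
    refine ⟨PrimeSpectrum.basicOpen f', PrimeSpectrum.isOpen_basicOpen, Set.ext fun q => ?_⟩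
    exact (hf' q).not.symm
  · intro q q' hq
    refine PrimeSpectrum.ext (Ideal.ext fun f => ?_)
    obtain ⟨f', hf'⟩ := hD f
    rw [hf' q, hf' q']
    exact Iff.of_eq (congrArg (fun r : PrimeSpectrum A' => f' ∈ r.asIdeal) hq)

end Groth.Agent.S4369
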