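import Groth.Statements.S4370
import Groth.Agent.RedSepLib.Immersion

set_option autoImplicit false
universe u
open RedSep

namespace Groth.Agent.S4370

open AlgebraicGeometry in
open CategoryTheory in
/-- Let f : X -> Y be an open immersion and let g : X_red -> Y_red be the morphism of reduced schemes
induced by f, i.e. the morphism between the closed subschemes defined by the nilradicals whose
composite with the inclusion of Y_red in Y is the inclusion of X_red in X followed by f. Then g is
an open immersion. -/
theorem result
    {X Y : Scheme.{u}} (f : X ⟶ Y) [IsOpenImmersion f]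
    (g : X.nilradical.subscheme ⟶ Y.nilradical.subscheme)
    (hg : g ≫ Y.nilradical.subschemeι = X.nilradical.subschemeι ≫ f) :
    IsOpenImmersion g := by
  open AlgebraicGeometry CategoryTheory in
  have : IsReduced Y.nilradical.subscheme := by
    rw [← Scheme.IdealSheafData.vanishingIdeal_top]
    exact Groth.Agent.Props12.isReduced_subscheme_vanishingIdeal _
  open AlgebraicGeometry CategoryTheory in
  have : IsPreimmersion (g ≫ Y.nilradical.subschemeι) := by rw [hg]; infer_instance
  open AlgebraicGeometry CategoryTheory in
  have : IsPreimmersion g := IsPreimmersion.of_comp g Y.nilradical.subschemeι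
  open AlgebraicGeometry CategoryTheory in
  refine Groth.Agent.RedSepLib.isOpenImmersion_of_isOpen_range g ?_
  open AlgebraicGeometry CategoryTheory in
  have hsurj : Function.Surjective X.nilradical.subschemeι := Set.range_eq_univ.mp (by
    rw [Scheme.IdealSheafData.range_subschemeι, ← Scheme.IdealSheafData.vanishingIdeal_top]
    refine Set.eq_univ_of_univ_subset ?_
    exact SetLike.coe_subset_coe.mpr
      (Scheme.IdealSheafData.le_support_iff_le_vanishingIdeal.mpr le_rfl : (⊤ : TopologicalSpace.Closeds X) ≤ _))
  open AlgebraicGeometry CategoryTheory in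
  have : Set.range g = Y.nilradical.subschemeι ⁻¹' Set.range f := by
    ext z
    constructor
    · rintro ⟨w, rfl⟩
      exact ⟨X.nilradical.subschemeι w, by rw [← Scheme.Hom.comp_apply, ← hg, Scheme.Hom.comp_apply]⟩
    · rintro ⟨x, hx⟩
      obtain ⟨w, rfl⟩ := hsurj x
      refine ⟨w, Y.nilradical.subschemeι.isEmbedding.injective ?_⟩
      rw [← Scheme.Hom.comp_apply, hg, Scheme.Hom.comp_apply, hx]
  rw [this]
  exact f.isOpenEmbedding.isOpen_range.preimage Y.nilradical.subschemeι.continuous

end Groth.Agent.S4370
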