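import Groth.Statements.S4371
import Mathlib.Algebra.MvPolynomial.Division
import Mathlib.Algebra.MvPolynomial.NoZeroDivisors
import Mathlib.Tactic.LinearCombination

set_option autoImplicit false
universe u
open RedSep

namespace Groth.Agent.S4371

open AlgebraicGeometry CategoryTheory in
theorem not_isAffineOpen_sup {R : CommRingCat.{u}} [IsDomain R] {x y : R} (hp : Prime x) (hy0 : y ≠ 0)
    (hxy : ¬ x ∣ y) (hne : Ideal.span {x, y} ≠ ⊤) :
    ¬ IsAffineOpen (X := Spec R) (PrimeSpectrum.basicOpen x ⊔ PrimeSpectrum.basicOpen y) := by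
  intro hV
  set V : (Spec R).Opens := PrimeSpectrum.basicOpen x ⊔ PrimeSpectrum.basicOpen y with hVdef
  have hb : ∀ r : R, (Spec R).basicOpen (algebraMap R Γ(Spec R, V) r) =
      V ⊓ PrimeSpectrum.basicOpen r := by
    intro r
    rw [IsAffineOpen.algebraMap_Spec_obj]
    change (Spec R).basicOpen ((Spec R).presheaf.map _ ((Scheme.ΓSpecIso R).inv r)) = _
    rw [Scheme.basicOpen_res, ← basicOpen_eq_of_affine]
  have htop : Ideal.span {algebraMap R Γ(Spec R, V) x, algebraMap R Γ(Spec R, V) y} = ⊤ := by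
    rw [← hV.self_le_iSup_basicOpen_iff]
    intro p hp
    rw [TopologicalSpace.Opens.mem_iSup]
    rcases (show p ∈ PrimeSpectrum.basicOpen x ∨ p ∈ PrimeSpectrum.basicOpen y from hp) with h | h
    · refine ⟨⟨_, Set.mem_insert _ _⟩, ?_⟩
      rw [hb]; exact ⟨hp, h⟩
    · refine ⟨⟨_, Set.mem_insert_of_mem _ rfl⟩, ?_⟩
      rw [hb]; exact ⟨hp, h⟩
  obtain ⟨s, t, hst⟩ := Ideal.mem_span_pair.mp (htop.symm ▸ Submodule.mem_top :
    (1 : Γ(Spec R, V)) ∈ Ideal.span {algebraMap R Γ(Spec R, V) x, algebraMap R Γ(Spec R, V) y})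
  -- compare on the two basic opens
  obtain ⟨Ux, hUx⟩ : ∃ U : (Spec R).Opens, U = PrimeSpectrum.basicOpen x := ⟨_, rfl⟩
  obtain ⟨Uy, hUy⟩ : ∃ U : (Spec R).Opens, U = PrimeSpectrum.basicOpen y := ⟨_, rfl⟩
  obtain ⟨Uxy, hUxy⟩ : ∃ U : (Spec R).Opens, U = PrimeSpectrum.basicOpen (x * y) := ⟨_, rfl⟩
  haveI : IsLocalization.Away x Γ(Spec R, Ux) := by subst hUx; infer_instance
  haveI : IsLocalization.Away y Γ(Spec R, Uy) := by subst hUy; infer_instance
  haveI : IsLocalization.Away (x * y) Γ(Spec R, Uxy) := by subst hUxy; infer_instance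
  have hlx : Ux ≤ V := hUx ▸ le_sup_left
  have hly : Uy ≤ V := hUy ▸ le_sup_right
  have hxy1 : Uxy ≤ Ux := by
    subst hUx; subst hUxy; exact PrimeSpectrum.basicOpen_mul_le_left x y
  have hxy2 : Uxy ≤ Uy := by
    subst hUy; subst hUxy; exact PrimeSpectrum.basicOpen_mul_le_right x y
  let res := fun {U W : (Spec R).Opens} (h : W ≤ U) => ((Spec R).presheaf.map (homOfLE h).op).hom
  have hres_alg : ∀ {U W : (Spec R).Opens} (h : W ≤ U) (r : R),
      res h (algebraMap R Γ(Spec R, U) r) = algebraMap R Γ(Spec R, W) r := by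
    intro U W h r
    change (((Scheme.ΓSpecIso R).inv ≫ (Spec R).presheaf.map (homOfLE le_top).op) ≫
      (Spec R).presheaf.map (homOfLE h).op).hom r = _
    rw [Category.assoc, ← (Spec R).presheaf.map_comp]
    rfl
  have hres_res : ∀ {U W Z : (Spec R).Opens} (h : W ≤ U) (h' : Z ≤ W) (a : Γ(Spec R, U)),
      res h' (res h a) = res (h'.trans h) a := by
    intro U W Z h h' a
    simp only [res, ← CommRingCat.comp_apply, ← (Spec R).presheaf.map_comp]
    rfl
  obtain ⟨m, a, c, ha, hc⟩ : ∃ (m : ℕ) (a c : R),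
      res hlx s * algebraMap R Γ(Spec R, Ux) x ^ m = algebraMap R Γ(Spec R, Ux) a ∧
      res hlx t * algebraMap R Γ(Spec R, Ux) x ^ m = algebraMap R Γ(Spec R, Ux) c := by
    obtain ⟨m₁, a, ha⟩ := IsLocalization.Away.surj (S := Γ(Spec R, Ux)) x (res hlx s)
    obtain ⟨m₂, c, hc⟩ := IsLocalization.Away.surj (S := Γ(Spec R, Ux)) x (res hlx t)
    exact ⟨m₁ + m₂, a * x ^ m₂, c * x ^ m₁, by rw [map_mul, map_pow, ← ha, pow_add]; ring,
      by rw [map_mul, map_pow, ← hc, pow_add]; ring⟩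
  obtain ⟨n, b, d, hbs, hdt⟩ : ∃ (n : ℕ) (b d : R),
      res hly s * algebraMap R Γ(Spec R, Uy) y ^ n = algebraMap R Γ(Spec R, Uy) b ∧
      res hly t * algebraMap R Γ(Spec R, Uy) y ^ n = algebraMap R Γ(Spec R, Uy) d := by
    obtain ⟨m₁, a, ha⟩ := IsLocalization.Away.surj (S := Γ(Spec R, Uy)) y (res hly s)
    obtain ⟨m₂, c, hc⟩ := IsLocalization.Away.surj (S := Γ(Spec R, Uy)) y (res hly t)
    exact ⟨m₁ + m₂, a * y ^ m₂, c * y ^ m₁, by rw [map_mul, map_pow, ← ha, pow_add]; ring,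
      by rw [map_mul, map_pow, ← hc, pow_add]; ring⟩
  have hx0 : x ≠ 0 := hp.ne_zero
  have hxy0 : x * y ≠ 0 := mul_ne_zero hx0 hy0
  have hinj : Function.Injective (algebraMap R Γ(Spec R, Uxy)) :=
    IsLocalization.injective Γ(Spec R, Uxy) (powers_le_nonZeroDivisors_of_noZeroDivisors hxy0)
  have hinjx : Function.Injective (algebraMap R Γ(Spec R, Ux)) :=
    IsLocalization.injective Γ(Spec R, Ux) (powers_le_nonZeroDivisors_of_noZeroDivisors hx0)
  have e1 : a * y ^ n = b * x ^ m := by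
    apply hinj
    have h1 := congrArg (res hxy1) ha
    have h2 := congrArg (res hxy2) hbs
    rw [map_mul, map_pow, hres_res, hres_alg, hres_alg] at h1 h2
    rw [map_mul, map_mul, map_pow, map_pow, ← h1, ← h2]
    ring
  have e2 : c * y ^ n = d * x ^ m := by
    apply hinj
    have h1 := congrArg (res hxy1) hc
    have h2 := congrArg (res hxy2) hdt
    rw [map_mul, map_pow, hres_res, hres_alg, hres_alg] at h1 h2
    rw [map_mul, map_mul, map_pow, map_pow, ← h1, ← h2]
    ring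
  have e3 : a * x + c * y = x ^ m := by
    apply hinjx
    have h := congrArg (res hlx) hst
    rw [map_add, map_mul, map_mul, hres_alg, hres_alg, map_one] at h
    rw [map_add, map_mul, map_mul, map_pow, ← ha, ← hc]
    linear_combination (algebraMap R Γ(Spec R, Ux) x ^ m) * h
  have hnd : ¬ x ∣ y ^ n := fun h => hxy (hp.dvd_of_dvd_pow h)
  obtain ⟨a', rfl⟩ := hp.pow_dvd_of_dvd_mul_right m hnd ⟨b, e1.trans (mul_comm _ _)⟩
  obtain ⟨c', rfl⟩ := hp.pow_dvd_of_dvd_mul_right m hnd ⟨d, e2.trans (mul_comm _ _)⟩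
  have e4 : a' * x + c' * y = 1 := mul_left_cancel₀ (pow_ne_zero m hx0) (by linear_combination e3)
  exact hne ((Ideal.eq_top_iff_one _).mpr (Ideal.mem_span_pair.mpr ⟨a', c', e4⟩))

open AlgebraicGeometry in
open CategoryTheory in
/-- Let K be a field and Y = Spec K[s, t] the affine plane over K. The open subset D(s) ∪ D(t) of Y, the
complement of the closed point s = t = 0, is not affine. -/
theorem result
    (K : Type u) [Field K] :
    ¬ IsAffineOpen (X := Spec (CommRingCat.of (MvPolynomial (Fin 2) K)))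
      (PrimeSpectrum.basicOpen (MvPolynomial.X 0 : MvPolynomial (Fin 2) K) ⊔
        PrimeSpectrum.basicOpen (MvPolynomial.X 1 : MvPolynomial (Fin 2) K)) := by
  haveI : IsDomain (CommRingCat.of (MvPolynomial (Fin 2) K)) :=
    inferInstanceAs (IsDomain (MvPolynomial (Fin 2) K))
  refine not_isAffineOpen_sup (R := CommRingCat.of (MvPolynomial (Fin 2) K))
    MvPolynomial.X_prime (MvPolynomial.X_ne_zero 1) (fun h => ?_) (fun h => ?_)
  · have := MvPolynomial.X_dvd_X.mp h
    simp at this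
  · obtain ⟨a, c, e⟩ := Ideal.mem_span_pair.mp ((Ideal.eq_top_iff_one _).mp h)
    have := congrArg (MvPolynomial.eval (fun _ : Fin 2 => (0 : K))) e
    simp at this

end Groth.Agent.S4371
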