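import Groth.Statements.S4372
import Groth.Agent.RedSepLib.Immersion

set_option autoImplicit false
universe u
open RedSep

namespace Groth.Agent.S4372

open AlgebraicGeometry in
open CategoryTheory in
/-- Let h : Z -> X be an immersion with Z reduced (a reduced subscheme of X), and let W be the reduced
closed subscheme of X whose underlying space is the closure of h(Z). Then Z is an open subscheme of
W: h factors as an open immersion Z -> W followed by the closed immersion W -> X. Stated as the
existence of such a factorization through a reduced scheme W closed-immersed onto the closure of the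
image. -/
theorem result
    {Z X : Scheme.{u}} (h : Z ⟶ X) [IsImmersion h] [IsReduced Z] :
    ∃ (W : Scheme.{u}) (j : Z ⟶ W) (i : W ⟶ X), IsOpenImmersion j ∧ IsClosedImmersion i ∧
      IsReduced W ∧ Set.range i = closure (Set.range h) ∧ j ≫ i = h := by
  open AlgebraicGeometry CategoryTheory in
  let I := Scheme.IdealSheafData.vanishingIdeal (Groth.Agent.Props12.rangeClosure h)
  open AlgebraicGeometry CategoryTheory in
  have : IsReduced I.subscheme := Groth.Agent.Props12.isReduced_subscheme_vanishingIdeal _
  open AlgebraicGeometry CategoryTheory in
  have hle : I.subschemeι.ker ≤ h.ker := by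
    rw [Scheme.IdealSheafData.ker_subschemeι, Groth.Agent.Props12.ker_eq_vanishingIdeal h]
  open AlgebraicGeometry CategoryTheory in
  let j := IsClosedImmersion.lift I.subschemeι h hle
  open AlgebraicGeometry CategoryTheory in
  have hj : j ≫ I.subschemeι = h := IsClosedImmersion.lift_fac _ _ _
  open AlgebraicGeometry CategoryTheory in
  have : IsPreimmersion (j ≫ I.subschemeι) := by rw [hj]; infer_instance
  open AlgebraicGeometry CategoryTheory in
  have : IsPreimmersion j := IsPreimmersion.of_comp j I.subschemeι
  open AlgebraicGeometry CategoryTheory in
  have hr : Set.range I.subschemeι = closure (Set.range h) := by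
    rw [Scheme.IdealSheafData.range_subschemeι]; rfl
  open AlgebraicGeometry CategoryTheory in
  refine ⟨I.subscheme, j, I.subschemeι, ?_, inferInstance, inferInstance, hr, hj⟩
  open AlgebraicGeometry CategoryTheory in
  refine Groth.Agent.RedSepLib.isOpenImmersion_of_isOpen_range j ?_
  open AlgebraicGeometry CategoryTheory in
  have e : Set.range j = I.subschemeι ⁻¹' coborder (Set.range h) := by
    ext z
    constructor
    · rintro ⟨w, rfl⟩
      exact subset_coborder ⟨w, by rw [← hj, Scheme.Hom.comp_apply]⟩
    · intro hz
      have hmem : I.subschemeι z ∈ coborder (Set.range h) ∩ closure (Set.range h) := ⟨hz, hr ▸ ⟨z, rfl⟩⟩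
      rw [coborder_inter_closure] at hmem
      obtain ⟨w, hw⟩ := hmem
      exact ⟨w, I.subschemeι.isEmbedding.injective (by rw [← Scheme.Hom.comp_apply, hj, hw])⟩
  rw [e]
  exact h.isLocallyClosed_range.isOpen_coborder.preimage I.subschemeι.continuous

end Groth.Agent.S4372
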