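import Groth.Statements.S4375
import Groth.Agent.AmpleLib.AffCriterion2

set_option autoImplicit false
universe u
open CategoryTheory CategoryTheory.Limits AlgebraicGeometry
open EGA2

open Groth.Agent.AmpleLib Groth.Agent.PicLib Groth.Agent.Coherent

namespace Groth.Agent.S4375

/-- (c') ⇒ (a): let X be a quasi-compact separated scheme. Suppose that for every n, every
quasi-coherent O_X-module F admitting a monomorphism into the free module O_X^n, and every
epimorphism p : F → F'' onto a quasi-coherent O_X-module, the map induced by p on global sections is
surjective. Then X is affine. (The published statement also allows X to be a scheme whose underlying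
space is Noetherian; this row assumes it quasi-compact and separated.) -/
theorem result (X : Scheme.{u}) [CompactSpace X] [X.IsSeparated]
    (h : ∀ (n : ℕ) (F F'' : X.Modules) (i : F ⟶ FlatMod.freeMod X n) (p : F ⟶ F''),
      Mono i → Epi p → Coh.IsQCoh F → Coh.IsQCoh F'' →
        Function.Surjective (p.val.app (Opposite.op ⊤)).hom) :
    IsAffine X := by
  have : IsAffineOpen (⊤ : X.Opens) := by
    refine isAffineOpen_of_idealSurj isCompact_univ fun Z Z' hle => ?_
    let i : idealOf Z ⟶ FlatMod.freeMod X 1 :=
      kernel.ι (toRedSub Z) ≫ Sigma.ι (fun _ : Fin 1 => Coh.structureModule X) 0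
    have hi : Mono i := mono_of_mono_fac
      (show i ≫ Sigma.desc (fun _ => 𝟙 _) = kernel.ι (toRedSub Z) by simp [i])
    exact h 1 _ _ i (cokernel.π (idealOfLE hle)) hi inferInstance
      (isQCoh_idealOf Z) (isQCoh_cokernel_idealOfLE hle)
  have : IsAffine (⊤ : X.Opens).toScheme := this
  exact IsAffine.of_isIso (Scheme.topIso X).inv

end Groth.Agent.S4375
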