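import Groth.Statements.S4378
import Mathlib.AlgebraicGeometry.Morphisms.Proper

set_option autoImplicit false
universe u
open CategoryTheory CategoryTheory.Limits AlgebraicGeometry
open EGA2

namespace Groth.Agent.S4378

/-- Let q : Y → S be separated and of finite type, and f : X → Y a morphism such that X is also
separated and of finite type over S through f ≫ q. Then f is proper if and only if for every scheme
S' over S the morphism X ×_S S' → Y ×_S S' induced by f is closed (as a map of topological spaces). -/
theorem result {X Y S : Scheme.{u}} (q : Y ⟶ S) (f : X ⟶ Y)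
    [IsSeparated q] [LocallyOfFiniteType q] [QuasiCompact q]
    [IsSeparated (f ≫ q)] [LocallyOfFiniteType (f ≫ q)] [QuasiCompact (f ≫ q)] :
    IsProper f ↔ ∀ (S' : Scheme.{u}) (g : S' ⟶ S),
      IsClosedMap (pullback.map (f ≫ q) g q g f (𝟙 S') (𝟙 S) (Category.comp_id (f ≫ q))
        ((Category.comp_id g).trans (Category.id_comp g).symm)).base := by
  have hsq : ∀ (S' : Scheme.{u}) (g : S' ⟶ S),
      IsPullback (pullback.map (f ≫ q) g q g f (𝟙 S') (𝟙 S) (Category.comp_id (f ≫ q))
        ((Category.comp_id g).trans (Category.id_comp g).symm))
        (pullback.fst (f ≫ q) g) (pullback.fst q g) f := fun S' g => by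
    refine (IsPullback.of_bot ?_ ?_ (IsPullback.of_hasPullback q g)).flip
    · simp only [pullback.lift_snd, Category.comp_id]
      exact IsPullback.of_hasPullback (f ≫ q) g
    · exact (pullback.lift_fst _ _ _).symm
  constructor
  · intro h S' g
    exact h.universally_isClosedMap _ _ _ (hsq S' g)
  · intro H
    have hsep : IsSeparated f := IsSeparated.of_comp f q
    have hloft : LocallyOfFiniteType f := locallyOfFiniteType_of_comp f q
    have huc : UniversallyClosed f := by
      refine ⟨fun X' Y' i₁ g f' hpb => ?_⟩
      let Γg : Y' ⟶ pullback q (g ≫ q) := pullback.lift g (𝟙 Y') (by simp)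
      let j : X' ⟶ pullback (f ≫ q) (g ≫ q) := pullback.lift i₁ f' (by rw [← Category.assoc, ← hpb.w, Category.assoc])
      have hΓ : IsClosedImmersion Γg := by
        have : IsClosedImmersion (Γg ≫ pullback.snd q (g ≫ q)) := by
          rw [pullback.lift_snd]; infer_instance
        exact IsClosedImmersion.of_comp Γg (pullback.snd q (g ≫ q))
      have hj : IsPullback f' j Γg (pullback.map (f ≫ q) (g ≫ q) q (g ≫ q) f (𝟙 Y') (𝟙 S)
          (Category.comp_id (f ≫ q)) ((Category.comp_id _).trans (Category.id_comp _).symm)) := by
        refine IsPullback.of_bot ?_ ?_ (hsq Y' (g ≫ q))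
        · show IsPullback f' (pullback.lift i₁ f' _ ≫ pullback.fst _ _) (pullback.lift g (𝟙 Y') _ ≫ pullback.fst _ _) f
          erw [pullback.lift_fst, pullback.lift_fst]
          exact hpb
        · apply pullback.hom_ext
          · erw [Category.assoc, pullback.lift_fst, Category.assoc, pullback.lift_fst,
              pullback.lift_fst_assoc]
            exact hpb.w
          · erw [Category.assoc, pullback.lift_snd, Category.assoc, pullback.lift_snd,
              pullback.lift_snd_assoc]
      have hjc : IsClosedImmersion j := MorphismProperty.of_isPullback hj hΓ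
      intro C hC
      have h1 : IsClosed (Γg.base '' (f'.base '' C)) := by
        rw [← Set.image_comp]
        have h2 := (H Y' (g ≫ q)) _ (j.isClosedEmbedding.isClosedMap C hC)
        rw [← Set.image_comp] at h2
        have e : ∀ x ∈ C, (⇑Γg.base ∘ ⇑f'.base) x =
            (⇑(pullback.map (f ≫ q) (g ≫ q) q (g ≫ q) f (𝟙 Y') (𝟙 S) (Category.comp_id (f ≫ q))
              ((Category.comp_id _).trans (Category.id_comp _).symm)).base ∘ ⇑j.base) x :=
          fun x _ => congrArg (fun m : X' ⟶ pullback q (g ≫ q) => m x) hj.w
        rw [Set.image_congr e]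
        exact h2
      rw [← Γg.isClosedEmbedding.injective.preimage_image (f'.base '' C)]
      exact h1.preimage Γg.continuous
    exact { }

end Groth.Agent.S4378
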