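import Groth.Statements.S4383
import Groth.Agent.AmpleLib.FTIdeal
import Groth.Agent.AmpleLib.Relative2

set_option autoImplicit false
universe u
open CategoryTheory CategoryTheory.Limits AlgebraicGeometry
open EGA2

open Groth.Agent.AmpleLib Groth.Agent.PicLib Groth.Agent.Coherent

namespace Groth.Agent.S4383

/-- Let X be a quasi-compact separated scheme, f : X → Y a separated quasi-compact morphism and L an
invertible O_X-module. Suppose that for every quasi-coherent submodule J of O_X of finite type there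
is n > 0 such that the canonical morphism f^*(f_*(J ⊗ L^{⊗n})) → J ⊗ L^{⊗n} is an epimorphism. Then
L is ample relative to f. (The published statement also allows X to be a scheme whose underlying
space is Noetherian; this row assumes X quasi-compact and separated.) -/
theorem result {X Y : Scheme.{u}} [CompactSpace X] [X.IsSeparated] (f : X ⟶ Y)
    [IsSeparated f] [QuasiCompact f] (L : X.Modules) (hL : PicF.IsInvertible L)
    (h : ∀ (J : X.Modules) (i : J ⟶ Coh.structureModule X), Mono i → Coh.IsQCoh J → CohB1.IsFT J →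
      ∃ n : ℕ, 0 < n ∧
        Epi ((Scheme.Modules.pullbackPushforwardAdjunction f).counit.app (CohB1.tensorMod J (CohB1.tensorPow L n)))) :
    RelAmple.IsRelAmple f L := by
  refine (isRelAmple_iff _).2 ⟨inferInstance, fun V => ?_⟩
  let P := f ⁻¹ᵁ V.1
  have : CompactSpace (P : Scheme.{u}) := isCompact_iff_compactSpace.1 (isCompact_preimage_affine V.2)
  have : QuasiSeparatedSpace (P : Scheme.{u}) := quasiSeparatedSpace_of_quasiSeparated P.ι
  refine isAmple_iff_affGlocus.2 ⟨PicLoc.isInvertible_pullback _ hL, inferInstance, fun y => ?_⟩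
  obtain ⟨U, hU, hyU, hUP⟩ := exists_isAffineOpen_mem_and_subset (x := P.ι y) (U := P) y.2
  obtain ⟨I, -, hI, hO⟩ := exists_idealMod_compl hU
  obtain ⟨n, hn, hepi⟩ := h _ (ClSub.idealModι I) (mono_idealModι I) hI.1 hI.2
  have hP' := isInvertible_tensorPow hL n
  obtain ⟨V', g, W, hW, hyV', hyW, hg⟩ := exists_gen_of_counit_epi_hom f hP' (twistMul I _)
    (hitsAt_twistMul I hP' (x := P.ι y) (hO.ge hyU))
  obtain ⟨r, hrV', hyr⟩ := V.2.exists_basicOpen_le ⟨f (P.ι y), hyV'⟩ y.2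
  let R : Γ(P.toScheme, ⊤) := P.topIso.inv (f.app V.1 r)
  have hR : P.ι ''ᵁ (P.toScheme.basicOpen R) = f ⁻¹ᵁ Y.basicOpen r := by
    rw [Scheme.preimage_basicOpen, Scheme.image_basicOpen]
    simp only [R, Scheme.Opens.topIso_inv, Scheme.Opens.ι_appIso, Iso.refl_inv]
    rw [← Scheme.basicOpen_res_eq X (f.app V.1 r) (eqToHom (Scheme.Opens.ι_image_top P)).op]
    rfl
  let s : Γ(Coh.structureModule P.toScheme, ⊤) := R
  have hs : glocus (Coh.structureModule P.toScheme) s = P.toScheme.basicOpen R := glocus_structureModule R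
  let D := glocus (Coh.structureModule P.toScheme) s
  have hD : D ≤ P.ι ⁻¹ᵁ (f ⁻¹ᵁ V') := by
    intro w hw
    exact hrV' (hR.le ⟨w, hs.le hw, rfl⟩)
  let N := (Scheme.Modules.pullback P.ι).obj (CohB1.tensorPow L n)
  have hN : PicF.IsInvertible N := PicLoc.isInvertible_pullback _ hP'
  have := isQCoh_of_isInvertible hN
  let g' := (twistMul I (CohB1.tensorPow L n)).app (f ⁻¹ᵁ V') g
  obtain ⟨k, t, ht⟩ := exists_extend N s isInvertible_structureModule (resM N hD (pullSec P.ι g'))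
  have hS := isInvertible_tensorPow (isInvertible_structureModule (X := P.toScheme)) k
  obtain ⟨ePow⟩ := exists_structurePowIso (X := P.toScheme) k
  obtain ⟨e', -⟩ := exists_pullPowIso P.ι hL n
  let e : CohB1.tensorMod N (CohB1.tensorPow (Coh.structureModule P.toScheme) k) ≅
      CohB1.tensorPow ((Scheme.Modules.pullback P.ι).obj L) n :=
    tensorIso (Iso.refl N) ePow ≪≫ tensorComm _ _ ≪≫ unitTensorIso N ≪≫ e'
  refine ⟨n, hn, e.hom.app ⊤ (R • t), ?_, le_top, ?_⟩
  all_goals rw [glocus_map_iso, glocus_smul_eq (isInvertible_tensorMod hN hS), ← hs]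
  · have hyD : y ∈ D := by
      refine hs.ge ?_
      obtain ⟨w, hw, he⟩ := hR.ge (show P.ι y ∈ f ⁻¹ᵁ Y.basicOpen r from hyr)
      exact (Subtype.ext he : w = y) ▸ hw
    let T := D ⊓ P.ι ⁻¹ᵁ W
    refine ⟨(le_glocus_iff t T).2 ?_ ⟨hyD, hyW⟩, hyD⟩
    rw [← resM_resM _ (le_top : D ≤ ⊤) (inf_le_left : T ≤ D), ht, resM_tmul]
    refine isGen_tmul ?_ ((isGen_powSec (isGen_glocus s) k).restrict _)
    rw [resM_resM]
    have hW' := (isGen_pullSec P.ι hg hP').restrict (inf_le_right : T ≤ P.ι ⁻¹ᵁ W)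
    rw [← resM_pullSec P.ι hW, resM_resM] at hW'
    exact hW'
  · have hle : glocus _ t ⊓ D ≤ P.ι ⁻¹ᵁ U := by
      intro w hw
      obtain ⟨W₁, hwW₁, g₁, hg₁⟩ := exists_isGen hP' (P.ι w)
      let W₂ : X.Opens := W₁ ⊓ (f ⁻¹ᵁ V')
      have hg₂ := hg₁.restrict (inf_le_left : W₂ ≤ W₁)
      obtain ⟨z, hz⟩ := (bijective_tmul_gen (M := ClSub.idealMod I) hg₂ W₂ le_rfl).2 (resM _ inf_le_right g)
      simp only [resM_self] at hz
      refine hO.le (basicOpen_idealModι_le I W₂ z ?_)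
      let a : Γ(X, W₂) := (ClSub.idealModι I).app W₂ z
      have ha : resM _ (inf_le_right : W₂ ≤ f ⁻¹ᵁ V') g' = a • resM _ (inf_le_left : W₂ ≤ W₁) g₁ := by
        rw [← app_resM, ← hz, twistMul_tmul]
      let T := D ⊓ P.ι ⁻¹ᵁ W₂
      have hwT : w ∈ T := ⟨hw.2, hwW₁, hD hw.2⟩
      have h1 : resM _ (le_top : T ≤ ⊤) t = res (inf_le_right : T ≤ P.ι ⁻¹ᵁ W₂) (P.ι.app W₂ a) •
          tmul (resM N inf_le_right (pullSec P.ι (resM _ (inf_le_left : W₂ ≤ W₁) g₁)))
            (powSec (resM _ (inf_le_left : T ≤ D) (resM _ le_top s)) k) := by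
        rw [← resM_resM _ (le_top : D ≤ ⊤) (inf_le_left : T ≤ D), ht, resM_tmul, resM_powSec, ← tmul_smul_left,
          resM_resM N hD, ← resM_resM N ((TopologicalSpace.Opens.map P.ι.base).map (homOfLE (inf_le_right : W₂ ≤ f ⁻¹ᵁ V'))).le
            (inf_le_right : T ≤ P.ι ⁻¹ᵁ W₂), resM_pullSec P.ι (inf_le_right : W₂ ≤ f ⁻¹ᵁ V'), ha, pullSec_smul,
          resM_smul]
      have hgen := isGen_tmul ((isGen_pullSec P.ι hg₂ hP').restrict (inf_le_right : T ≤ P.ι ⁻¹ᵁ W₂))
        (isGen_powSec ((isGen_glocus s).restrict (inf_le_left : T ≤ D)) k)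
      have h2 := (glocus_inf t hgen).le ⟨hw.1, hwT⟩
      rw [IsGen.coef_eq _ _ (by rw [resM_self]; exact h1.symm)] at h2
      rw [show res (inf_le_right : T ≤ P.ι ⁻¹ᵁ W₂) (P.ι.app W₂ a) = P.toScheme.presheaf.map (homOfLE (inf_le_right : T ≤ P.ι ⁻¹ᵁ W₂)).op (P.ι.app W₂ a) from rfl,
        Scheme.basicOpen_res, ← Scheme.preimage_basicOpen] at h2
      exact h2.2
    have hU' : IsAffineOpen (P.ι ⁻¹ᵁ U) := hU.preimage_of_isOpenImmersion _ ((Scheme.Opens.opensRange_ι P).symm ▸ hUP)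
    have := isAffineOpen_glocus_inf (isInvertible_tensorMod hN hS) (R • t) hU'
    rwa [glocus_smul_eq (isInvertible_tensorMod hN hS), ← hs, inf_eq_left.2 hle] at this

end Groth.Agent.S4383
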