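import Groth.Statements.S4382
import Groth.Agent.AmpleLib.CounitEpi
import Groth.Agent.S4383

set_option autoImplicit false
universe u
open CategoryTheory CategoryTheory.Limits AlgebraicGeometry
open EGA2

open Groth.Agent.AmpleLib Groth.Agent.PicLib Groth.Agent.Coherent

namespace Groth.Agent.S4382

/-- Let X be a quasi-compact separated scheme, f : X → Y a separated quasi-compact morphism and L an
invertible O_X-module. Then L is ample relative to f if and only if for every quasi-coherent
O_X-module F of finite type there is n₀ > 0 such that for every n ≥ n₀ the canonical morphism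
f^*(f_*(F ⊗ L^{⊗n})) → F ⊗ L^{⊗n} (the counit of the adjunction between f^* and f_*) is an
epimorphism. (The published statement also allows X to be a scheme whose underlying space is
Noetherian; this row assumes X quasi-compact and separated.) -/
theorem result {X Y : Scheme.{u}} [CompactSpace X] [X.IsSeparated] (f : X ⟶ Y)
    [IsSeparated f] [QuasiCompact f] (L : X.Modules) (hL : PicF.IsInvertible L) :
    RelAmple.IsRelAmple f L ↔ ∀ F : X.Modules, Coh.IsQCoh F → CohB1.IsFT F →
      ∃ n₀ : ℕ, 0 < n₀ ∧ ∀ n : ℕ, n₀ ≤ n →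
        Epi ((Scheme.Modules.pullbackPushforwardAdjunction f).counit.app (CohB1.tensorMod F (CohB1.tensorPow L n))) := by
  classical
  constructor
  · intro h F hFq hFt
    rw [isRelAmple_iff] at h
    obtain ⟨t, ht⟩ := isCompact_univ.elim_finite_subcover (fun V : Y.affineOpens => ((f ⁻¹ᵁ V.1 : X.Opens) : Set X))
      (fun V => (f ⁻¹ᵁ V.1).2) fun x _ => by
        obtain ⟨V, hV, hxV, -⟩ := exists_isAffineOpen_mem_and_subset (x := f x) (U := ⊤) trivial
        exact Set.mem_iUnion.2 ⟨⟨V, hV⟩, hxV⟩
    have key : ∀ V : Y.affineOpens, ∃ N : ℕ, ∀ n, N ≤ n →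
        Curv2.IsGloballyGenerated ((CohB1.tensorMod F (CohB1.tensorPow L n)).restrict (f ⁻¹ᵁ V.1).ι) := fun V => by
      let P := f ⁻¹ᵁ V.1
      have hA := h.2 V
      obtain ⟨N, hN⟩ := eventually_globallyGenerated hA _ (isCoh_restrict P.ι F ⟨hFq, hFt⟩)
      refine ⟨N, fun n hn => ?_⟩
      have := isIso_restrictTensorHom P.ι F (CohB1.tensorPow L n) (isInvertible_tensorPow hL n)
      obtain ⟨e, -⟩ := exists_pullPowIso P.ι hL n
      exact globallyGenerated_of_iso
        (tensorIso (Iso.refl _) (e.symm ≪≫ (restrictIsoPullback P.ι _).symm) ≪≫ asIso (restrictTensorHom P.ι F _))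
        (hN n hn)
    choose N hN using key
    refine ⟨t.sup N + 1, Nat.succ_pos _, fun n hn => epi_counit_of_globallyGenerated f _ fun x => ?_⟩
    obtain ⟨V, hVt, hxV⟩ := Set.mem_iUnion₂.1 (ht (Set.mem_univ x))
    exact ⟨V.1, hxV, hN V n ((Finset.le_sup hVt).trans (by omega))⟩
  · intro h
    refine Groth.Agent.S4383.result f L hL fun J i _ hJ hJt => ?_
    obtain ⟨n₀, hn₀, hn⟩ := h J hJ hJt
    exact ⟨n₀, hn₀, hn n₀ le_rfl⟩

end Groth.Agent.S4382
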