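import Groth.Statements.S4387
import Groth.Agent.AmpleLib.Local

set_option autoImplicit false
universe u
open CategoryTheory CategoryTheory.Limits AlgebraicGeometry
open EGA2

open Groth.Agent.AmpleLib Groth.Agent.PicLib Groth.Agent.Coherent

namespace Groth.Agent.S4387

/-- Let f : X → Y be a quasi-compact morphism, L an invertible O_X-module and n > 0 an integer. Then L
is ample relative to f if and only if L^{⊗n} is ample relative to f. -/
theorem result {X Y : Scheme.{u}} (f : X ⟶ Y) [QuasiCompact f] (L : X.Modules)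
    (hL : PicF.IsInvertible L) (n : ℕ) (hn : 0 < n) :
    RelAmple.IsRelAmple f L ↔ RelAmple.IsRelAmple f (CohB1.tensorPow L n) := by
  rw [isRelAmple_iff, isRelAmple_iff]
  refine and_congr_right fun _ ↦ forall_congr' fun V ↦ ?_
  obtain ⟨e, -⟩ := exists_pullPowIso (f ⁻¹ᵁ V.1).ι hL n
  refine ((isAmple_pow_iff (PicLoc.isInvertible_pullback _ hL) n hn).symm).trans ?_
  exact ⟨isAmple_of_iso e.symm, isAmple_of_iso e⟩

end Groth.Agent.S4387
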