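import Groth.Statements.S4388
import Groth.Agent.AmpleLib.Counit

set_option autoImplicit false
universe u
open CategoryTheory CategoryTheory.Limits AlgebraicGeometry
open EGA2

open Groth.Agent.AmpleLib Groth.Agent.PicLib Groth.Agent.Coherent

namespace Groth.Agent.S4388

/-- Let f : X → Y be a quasi-compact morphism, L an O_X-module ample relative to f and L' an invertible
O_X-module such that, for some n > 0, the canonical morphism f^*(f_*(L'^{⊗n})) → L'^{⊗n} (counit of
the adjunction between f^* and f_*) is an epimorphism. Then L ⊗ L' is ample relative to f. -/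
theorem result {X Y : Scheme.{u}} (f : X ⟶ Y) [QuasiCompact f] (L L' : X.Modules)
    (hL : RelAmple.IsRelAmple f L) (hL' : PicF.IsInvertible L') (n : ℕ) (hn : 0 < n)
    (hepi : Epi ((Scheme.Modules.pullbackPushforwardAdjunction f).counit.app (CohB1.tensorPow L' n))) :
    RelAmple.IsRelAmple f (CohB1.tensorMod L L') := by
  have hLi := isInvertible_of_isRelAmple _ hL
  rw [isRelAmple_iff] at hL ⊢
  refine ⟨hL.1, fun V => ?_⟩
  obtain ⟨e⟩ := exists_pullTensorIso (f ⁻¹ᵁ V.1).ι hLi hL'
  refine isAmple_of_iso e.symm ?_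
  obtain ⟨hPi, hc, hP⟩ := isAmple_iff_affGlocus.1 (hL.2 V)
  have := quasiSeparatedSpace_of_affGlocus hPi hP
  refine isAmple_tensor_of_generated (hL.2 V) (PicLoc.isInvertible_pullback _ hL') fun x => ?_
  obtain ⟨c, hc'⟩ := exists_glocus_of_counit_epi f (isInvertible_tensorPow hL' n) V.2 x
  obtain ⟨e', -⟩ := exists_pullPowIso (f ⁻¹ᵁ V.1).ι hL' n
  exact ⟨n, hn, e'.hom.app ⊤ c, by rw [glocus_map_iso]; exact hc'⟩

end Groth.Agent.S4388
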