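import Groth.Statements.S4400
import Groth.Agent.TwistLib.TwistGen

set_option autoImplicit false
universe u
open CategoryTheory CategoryTheory.Limits AlgebraicGeometry
open EGA2


namespace Groth.Agent.S4400

/-- Let S be a ring graded in nonnegative degrees whose irrelevant ideal S_+ is generated by the
degree-one elements, X = Proj S, and M a graded S-module (graded in nonnegative degrees here). Then
for every integer n the O_X-module attached to the shifted module M(n) is isomorphic to the twist
M~(n) = M~ ⊗ O_X(n). (Existence of an isomorphism only; the published isomorphism is the canonical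
one.) -/
theorem result {R A : Type u} [CommRing R] [CommRing A] [Algebra R A] (𝒜 : ℕ → Submodule R A) [GradedAlgebra 𝒜]
    (hgen : (HomogeneousIdeal.irrelevant 𝒜).toIdeal = Ideal.span (𝒜 1 : Set A))
    {M : Type u} [AddCommGroup M] [Module R M] [Module A M] [IsScalarTower R A M] (ℳ : ℕ → Submodule R M) [DirectSum.Decomposition ℳ] [SetLike.GradedSMul 𝒜 ℳ] (n : ℤ) :
    Nonempty (GrTilde.tilde 𝒜 ℳ n ≅ Twist.twistBy 𝒜 (GrTilde.tilde 𝒜 ℳ 0) n) := by
  have hcov : ∀ x : ProjectiveSpectrum 𝒜, ∃ f ∈ 𝒜 1, f ∉ x.asHomogeneousIdeal.toIdeal :=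
    fun x => Groth.Agent.ProjLib.exists_degree_one_notMem 𝒜 hgen x
  have := Groth.Agent.TwistLib.isIso_desc_mulBilin (𝒜 := 𝒜) ℳ (p := 0) (q := n) (zero_add n)
    (m := n) (by simp) hcov
  exact ⟨(asIso (Groth.Agent.TwistLib.mulBilin (𝒜 := 𝒜) ℳ (p := 0) (q := n) (zero_add n)).desc).symm⟩

end Groth.Agent.S4400
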