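import Groth.Statements.S4401
import Groth.Agent.TwistLib.TwistInv

set_option autoImplicit false
universe u
open CategoryTheory CategoryTheory.Limits AlgebraicGeometry
open EGA2

open Groth.Agent.TwistLib Groth.Agent.Coherent

namespace Groth.Agent.S4401

/-- Let S be a ring graded in nonnegative degrees whose irrelevant ideal S_+ is generated by finitely
many elements of degree one, and X = Proj S. Then for every integer n ≥ 0 there exist an integer k
and an epimorphism of O_X-modules O_X^k → O_X(n). -/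
theorem result {R A : Type u} [CommRing R] [CommRing A] [Algebra R A] (𝒜 : ℕ → Submodule R A) [GradedAlgebra 𝒜]
    (s : Finset A) (hs1 : ∀ f ∈ s, f ∈ 𝒜 1)
    (hs : (HomogeneousIdeal.irrelevant 𝒜).toIdeal = Ideal.span (s : Set A)) (n : ℕ) :
    ∃ (k : ℕ) (p : FlatMod.freeMod (Proj 𝒜) k ⟶ Twist.twist 𝒜 (n : ℤ)), Epi p := by
  obtain ⟨I, hI, p, hp⟩ := exists_epi_free_twist s hs1 hs n
  have := Fintype.ofFinite I
  let e := Fintype.equivFin I
  let q : FlatMod.freeMod (Proj 𝒜) (Fintype.card I) ⟶ Twist.twist 𝒜 (n : ℤ) :=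
    Sigma.desc fun i => freeInj (e.symm i) ≫ p
  have hfac : (freeDesc fun j => Sigma.ι (fun _ : Fin (Fintype.card I) => Coh.structureModule (Proj 𝒜)) (e j)) ≫ q = p :=
    freeMod_hom_ext fun j => by
      rw [freeInj_freeDesc_assoc, Sigma.ι_desc, e.symm_apply_apply]
  exact ⟨Fintype.card I, q, epi_of_epi_fac hfac⟩

end Groth.Agent.S4401
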