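import Groth.Statements.S4403
import Groth.Agent.TwistLib.TwistInv
import Groth.Agent.PicLib.PullbackGen
import Groth.Agent.ProjLib.PConeLemmas
import Groth.Agent.Coherent.TwistSections
import Groth.Agent.AmpleLib.Relative2
-- import your own Groth.Agent.* helpers here

set_option autoImplicit false
set_option backward.isDefEq.respectTransparency.types false
universe u
open CategoryTheory CategoryTheory.Limits AlgebraicGeometry
open EGA2

namespace Groth.Agent.S4403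

open AlgebraicGeometry CategoryTheory TopologicalSpace Opposite HomogeneousLocalization
open Groth.Agent.Coherent Groth.Agent.PicLib Groth.Agent.AmpleLib Groth.Agent.TwistLib

/-- A standard chart on sections. -/
theorem awayι_appLE {R A : Type u} [CommRing R] [CommRing A] [Algebra R A] (𝒜 : ℕ → Submodule R A) [GradedAlgebra 𝒜]
    {e : ℕ} (he : 0 < e) {h : A} (hh : h ∈ 𝒜 e) (le) :
    Proj.awayToSection 𝒜 h ≫ (Proj.awayι 𝒜 h hh he).appLE (Proj.basicOpen 𝒜 h) ⊤ le =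
      (Scheme.ΓSpecIso (CommRingCat.of (Away 𝒜 h))).inv := by
  have h1 : (Proj.basicOpenIsoSpec 𝒜 h hh he).hom.appTop ≫ (Proj.basicOpenIsoSpec 𝒜 h hh he).inv.appTop = 𝟙 _ := by
    rw [← Scheme.Hom.comp_appTop, Iso.inv_hom_id, Scheme.Hom.id_appTop]
  rw [← cancel_epi (Scheme.ΓSpecIso (CommRingCat.of (Away 𝒜 h))).hom, Iso.hom_inv_id]
  refine Eq.trans ?_ h1
  simp only [← Proj.basicOpenIsoSpec_inv_ι]
  rw [Scheme.Hom.appTop, Scheme.Hom.appTop, Proj.basicOpenIsoSpec_hom, Proj.basicOpenToSpec_app_top]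
  simp only [Category.assoc]
  congr 2
  rw [Scheme.Hom.comp_appLE, Scheme.Opens.topIso_inv, Scheme.Hom.app_eq_appLE, Scheme.Hom.app_eq_appLE,
    Scheme.Opens.ι_appLE]
  have key : ∀ (U : (Proj.basicOpen 𝒜 h).toScheme.Opens), U = ⊤ →
      ∀ e1 e2 (i : op (Proj.basicOpen 𝒜 h) ⟶ op ((Proj.basicOpen 𝒜 h).ι ''ᵁ U))
        (i' : op (Proj.basicOpen 𝒜 h) ⟶ op ((Proj.basicOpen 𝒜 h).ι ''ᵁ ⊤)),
        (Proj 𝒜).presheaf.map i ≫ (Proj.basicOpenIsoSpec 𝒜 h hh he).inv.appLE U ⊤ e1 =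
          (Proj 𝒜).presheaf.map i' ≫ (Proj.basicOpenIsoSpec 𝒜 h hh he).inv.appLE ⊤ ⊤ e2 := by
    rintro U rfl e1 e2 i i'
    rw [Subsingleton.elim i i']
  exact key _ (Scheme.Opens.ι_preimage_self _) _ _ _ _

variable {R A : Type u} [CommRing R] [CommRing A] [Algebra R A] {𝒜 : ℕ → Submodule R A} [GradedAlgebra 𝒜]
  {B : Type u} [CommRing B] [Algebra R B] {ℬ : ℕ → Submodule R B} [GradedAlgebra ℬ] {φ : 𝒜 →+*ᵍ ℬ}
  {p : (PCone.dom φ : Scheme.{u}) ⟶ Proj 𝒜}

/-- The morphism on sections over standard opens. -/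
theorem app_awayToSection
    (hp : ∀ (d : ℕ) (f : A) (hd : 0 < d) (hf : f ∈ 𝒜 d), PCone.chart φ hf hd ≫ p =
      Spec.map (CommRingCat.ofHom (Away.map φ f)) ≫ Proj.awayι 𝒜 f hf hd)
    {e : ℕ} (he : 0 < e) {h : A} (hh : h ∈ 𝒜 e) (le) :
    Proj.awayToSection 𝒜 h ≫ p.app (Proj.basicOpen 𝒜 h) =
      CommRingCat.ofHom (Away.map φ h) ≫ Proj.awayToSection ℬ (φ h) ≫
        (PCone.dom φ).ι.appLE (Proj.basicOpen ℬ (φ h)) (p ⁻¹ᵁ Proj.basicOpen 𝒜 h) le := by
  haveI := ProjLib.chart_isOpenImmersion φ hh he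
  have hr := ProjLib.preimage_basicOpen_of_chart φ p hp hh he
  have hpre : (⊤ : (Spec (CommRingCat.of (Away ℬ (φ h)))).Opens) ≤ PCone.chart φ hh he ⁻¹ᵁ (p ⁻¹ᵁ Proj.basicOpen 𝒜 h) := by
    rw [hr, Scheme.Hom.preimage_opensRange]
  haveI : IsIso ((PCone.chart φ hh he).appLE (p ⁻¹ᵁ Proj.basicOpen 𝒜 h) ⊤ hpre) := by
    haveI := (PCone.chart φ hh he).isIso_app _ hr.le
    rw [Scheme.Hom.appLE]
    haveI : IsIso (homOfLE hpre) := ⟨homOfLE le_top, rfl, rfl⟩
    infer_instance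
  rw [← cancel_mono ((PCone.chart φ hh he).appLE (p ⁻¹ᵁ Proj.basicOpen 𝒜 h) ⊤ hpre)]
  simp only [Category.assoc, Scheme.Hom.appLE_comp_appLE]
  rw [← Scheme.Hom.comp_appLE]
  simp only [hp, ProjLib.chart_fac]
  rw [awayι_appLE ℬ he (show φ h ∈ ℬ e from φ.2 hh), Scheme.ΓSpecIso_inv_naturality]
  have h2 := awayι_appLE 𝒜 he hh (le := by
    show ⊤ ≤ Proj.awayι 𝒜 h hh he ⁻¹ᵁ Proj.basicOpen 𝒜 h
    rw [← Proj.opensRange_awayι 𝒜 h hh he, Scheme.Hom.preimage_opensRange])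
  rw [← h2, Category.assoc, ← Scheme.Hom.appLE_comp_appLE _ _ _ ⊤ _ _ (show (⊤ : (Spec (CommRingCat.of (Away ℬ (φ h)))).Opens) ≤ _ from le_top),
    Scheme.Hom.appTop, Scheme.Hom.app_eq_appLE]
  rfl

/-- The coefficient `(g/f) ^ m`. -/
def coefAway {f g : A} (hf : f ∈ 𝒜 1) (hg : g ∈ 𝒜 1) (m : ℤ) : Away 𝒜 (f * g) :=
  Away.mk 𝒜 (SetLike.mul_mem_graded hf hg) (m.toNat + (-m).toNat)
    ((g * g) ^ m.toNat * (f * f) ^ (-m).toNat) (by
      have := SetLike.mul_mem_graded (SetLike.pow_mem_graded m.toNat (SetLike.mul_mem_graded hg hg))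
        (SetLike.pow_mem_graded (-m).toNat (SetLike.mul_mem_graded hf hf))
      rw [smul_eq_mul, add_mul]
      simpa using this)

theorem tau_eq {f g : A} (hf : f ∈ 𝒜 1) (hg : g ∈ 𝒜 1) (m : ℤ) (c : Away 𝒜 (f * g))
    (hc : c = coefAway hf hg m) {W : (Proj 𝒜).Opens} (h1 : W ≤ Proj.basicOpen 𝒜 f) (h2 : W ≤ Proj.basicOpen 𝒜 g) :
    resM (Twist.twist 𝒜 (m * (1 : ℕ))) h2 (tau hg m _ le_rfl) =
      (Proj 𝒜).presheaf.map (homOfLE (show W ≤ Proj.basicOpen 𝒜 (f * g) by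
        rw [Proj.basicOpen_mul]; exact le_inf h1 h2)).op (Proj.awayToSection 𝒜 (f * g) c) •
      resM (Twist.twist 𝒜 (m * (1 : ℕ))) h1 (tau hf m _ le_rfl) := by
  subst hc
  refine sectN_ext fun x => ?_
  refine Eq.trans ?_ (oSmul_val _ _ x).symm
  show ((tau hg m _ le_rfl).1 ⟨x.1, h2 x.2⟩).1 = _ * ((tau hf m _ le_rfl).1 ⟨x.1, h1 x.2⟩).1
  refine Eq.trans ?_ (congrArg (· * _) (val_awayToSection_mk (SetLike.mul_mem_graded hf hg) _ _ _
    ⟨x.1, (show W ≤ Proj.basicOpen 𝒜 (f * g) by rw [Proj.basicOpen_mul]; exact le_inf h1 h2) x.2⟩).symm)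
  rw [tau_val, tau_val, Localization.mk_mul]
  refine Localization.mk_eq_mk_iff.2 (Localization.r_iff_exists.2 ⟨1, ?_⟩)
  simp only [Submonoid.coe_mul, Submonoid.coe_one]
  ring

/-- Let φ : S' → S be a homomorphism of rings graded in nonnegative degrees such that the irrelevant
ideal of S' is generated by its degree-one elements, G(φ) ⊆ Proj S the open on which the morphism Φ
: G(φ) → Proj S' induced by φ is defined (Φ is characterised by its restrictions to the standard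
charts), and n an integer. Then Φ^*(O(n)) is isomorphic to the restriction of O(n) from Proj S to
G(φ). (Existence of an isomorphism only; the published one is the canonical map ν.) -/
theorem result {R A : Type u} [CommRing R] [CommRing A] [Algebra R A] (𝒜 : ℕ → Submodule R A) [GradedAlgebra 𝒜]
    {B : Type u} [CommRing B] [Algebra R B] (ℬ : ℕ → Submodule R B) [GradedAlgebra ℬ] (φ : 𝒜 →+*ᵍ ℬ)
    (hgen : (HomogeneousIdeal.irrelevant 𝒜).toIdeal = Ideal.span (𝒜 1 : Set A))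
    (p : (PCone.dom φ : Scheme.{u}) ⟶ Proj 𝒜)
    (hp : ∀ (d : ℕ) (f : A) (hd : 0 < d) (hf : f ∈ 𝒜 d),
        PCone.chart φ hf hd ≫ p =
          Spec.map (CommRingCat.ofHom (HomogeneousLocalization.Away.map φ f)) ≫ Proj.awayι 𝒜 f hf hd)
    (n : ℤ) :
    Nonempty ((Scheme.Modules.pullback p).obj (Twist.twist 𝒜 n) ≅ (Twist.twist ℬ n).restrict (PCone.dom φ).ι) := by
  obtain ⟨m, rfl⟩ : ∃ m : ℤ, n = m * (1 : ℕ) := ⟨n, by simp⟩
  let L := Twist.twist 𝒜 (m * (1 : ℕ))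
  let N := (Twist.twist ℬ (m * (1 : ℕ))).restrict (PCone.dom φ).ι
  let j := (PCone.dom φ).ι
  let U : 𝒜 1 → (PCone.dom φ : Scheme.{u}).Opens := fun f => p ⁻¹ᵁ Proj.basicOpen 𝒜 (f : A)
  have hU : iSup U = ⊤ := eq_top_iff.2 fun x _ => by
    obtain ⟨f, hf, hfx⟩ := covers_of_span_degree_one hgen (p.base x)
    exact Opens.mem_iSup.2 ⟨⟨f, hf⟩, hfx⟩
  have himg : ∀ {e : ℕ} (he : 0 < e) {h : A} (hh : h ∈ 𝒜 e),
      p ⁻¹ᵁ Proj.basicOpen 𝒜 h = j ⁻¹ᵁ Proj.basicOpen ℬ (φ h) := fun he _ hh => by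
    rw [ProjLib.preimage_basicOpen_of_chart φ p hp hh he, ProjLib.chart_opensRange]
  have hle : ∀ f : 𝒜 1, j ''ᵁ U f ≤ Proj.basicOpen ℬ (φ f) := fun f => by
    show j ''ᵁ (p ⁻¹ᵁ _) ≤ _
    rw [himg one_pos f.2, j.image_preimage_eq_opensRange_inf]
    exact inf_le_right
  let s : ∀ f, Γ((Scheme.Modules.pullback p).obj L, U f) := fun f => pullSec p (tau f.2 m _ le_rfl)
  have hs : ∀ f, IsGen _ (U f) (s f) := fun f =>
    isGen_pullSec p (isGen_tau f.2 m) (isInvertible_twist (covers_of_span_degree_one hgen) _)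
  let t : ∀ f, Γ(N, U f) := fun f => ((Twist.twist ℬ (m * (1 : ℕ))).restrictAppIso j _).inv
    (resM _ (hle f) (tau (show φ (f : A) ∈ ℬ 1 from φ.2 f.2) m _ le_rfl))
  have ht : ∀ f, IsGen N (U f) (t f) := fun f W hW => by
    have hb := isGen_tau (show φ (f : A) ∈ ℬ 1 from φ.2 f.2) m (j ''ᵁ W) ((j.image_mono hW).trans (hle f))
    have hb3 := ConcreteCategory.bijective_of_isIso (j.appIso W).inv
    have hb2 := ConcreteCategory.bijective_of_isIso ((Twist.twist ℬ (m * (1 : ℕ))).restrictAppIso j W).hom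
    refine (Function.Bijective.of_comp_iff' hb2 _).1 ?_
    convert hb.comp hb3 using 1
    funext r
    refine (Scheme.Modules.smul_restrictAppIso_hom_apply j _ W r _).trans ?_
    rfl
  obtain ⟨ψ, hψ⟩ := exists_hom_of_gen U hU s hs t (fun i k W hi hk c hc => by
    let h : A := k * i
    have hh : h ∈ 𝒜 2 := SetLike.mul_mem_graded k.2 i.2
    have hWh : W ≤ p ⁻¹ᵁ Proj.basicOpen 𝒜 h := fun y hy => by
      show p.base y ∈ Proj.basicOpen 𝒜 ((k : A) * i)
      rw [Proj.basicOpen_mul]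
      exact ⟨hk hy, hi hy⟩
    let c0 := Proj.awayToSection 𝒜 h (coefAway k.2 i.2 m)
    have hc0 : c = (PCone.dom φ).toScheme.presheaf.map (homOfLE hWh).op (p.app _ c0) := by
      refine ((hs k) W hk).1 (hc.symm.trans ?_)
      have e1 := congrArg (pullSec p) (tau_eq (W := Proj.basicOpen 𝒜 h) k.2 i.2 m _ rfl
        (by rw [show h = (k : A) * i from rfl, Proj.basicOpen_mul]; exact inf_le_left)
        (by rw [show h = (k : A) * i from rfl, Proj.basicOpen_mul]; exact inf_le_right))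
      rw [pullSec_smul, ← resM_pullSec, ← resM_pullSec] at e1
      have e2 := congrArg (resM _ hWh) e1
      rw [resM_smul, resM_resM, resM_resM] at e2
      refine e2.trans ?_
      congr 3
    subst hc0
    have hle2 : p ⁻¹ᵁ Proj.basicOpen 𝒜 h ≤ j ⁻¹ᵁ Proj.basicOpen ℬ (φ h) := (himg two_pos hh).le
    have eA : (p.app _) c0 = j.appLE _ _ hle2 (Proj.awayToSection ℬ (φ h) (Away.map φ h (coefAway k.2 i.2 m))) :=
      ConcreteCategory.congr_hom (app_awayToSection hp two_pos hh hle2) _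
    refine (ConcreteCategory.bijective_of_isIso ((Twist.twist ℬ (m * (1 : ℕ))).restrictAppIso j W).hom).1 ?_
    rw [Scheme.Modules.smul_restrictAppIso_hom_apply]
    show resM (Twist.twist ℬ (m * (1 : ℕ))) ((j.image_mono hi).trans (hle i)) (tau (show φ (i : A) ∈ ℬ 1 from φ.2 i.2) m _ le_rfl) =
      _ • resM (Twist.twist ℬ (m * (1 : ℕ))) ((j.image_mono hk).trans (hle k)) (tau (show φ (k : A) ∈ ℬ 1 from φ.2 k.2) m _ le_rfl)
    refine Eq.trans ?_ (congrArg (fun r => (j.appIso W).inv ((PCone.dom φ).toScheme.presheaf.map (homOfLE hWh).op r) •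
      resM (Twist.twist ℬ (m * (1 : ℕ))) ((j.image_mono hk).trans (hle k)) (tau (show φ (k : A) ∈ ℬ 1 from φ.2 k.2) m _ le_rfl)) eA).symm
    rw [← CommRingCat.comp_apply, ← CommRingCat.comp_apply, Scheme.Hom.appLE_map_assoc,
      Scheme.Hom.appLE_appIso_inv]
    refine sectN_ext fun x => ?_
    refine Eq.trans ?_ (oSmul_val _ _ x).symm
    have hx : x.1 ∈ ProjectiveSpectrum.basicOpen ℬ (φ ((k : A) * i)) :=
      (show j ''ᵁ W ≤ Proj.basicOpen ℬ (φ h) by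
        refine (j.image_mono (hWh.trans hle2)).trans ?_
        rw [j.image_preimage_eq_opensRange_inf]
        exact inf_le_right) x.2
    show ((tau (show φ (i : A) ∈ ℬ 1 from φ.2 i.2) m _ le_rfl).1 ⟨x.1, (j.image_mono hi).trans (hle i) x.2⟩).1 =
      _ * ((tau (show φ (k : A) ∈ ℬ 1 from φ.2 k.2) m _ le_rfl).1 ⟨x.1, (j.image_mono hk).trans (hle k) x.2⟩).1
    rw [coefAway, Away.map_mk]
    refine Eq.trans ?_ (congrArg (· * _) (val_awayToSection_mk _ _ _ _ ⟨x.1, hx⟩).symm)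
    rw [tau_val, tau_val, Localization.mk_mul]
    refine Localization.mk_eq_mk_iff.2 (Localization.r_iff_exists.2 ⟨1, ?_⟩)
    simp only [Submonoid.coe_mul, Submonoid.coe_one, map_mul, map_pow, h]
    ring)
  haveI : IsIso ψ := isIso_of_gens ψ U hU s hs fun f => by rw [hψ f]; exact ht f
  exact ⟨asIso ψ⟩

end Groth.Agent.S4403
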