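import Groth.Statements.S4408
import Groth.Agent.AmpleLib.FTIdeal
import Groth.Agent.AmpleLib.Relative2

set_option autoImplicit false
universe u
open CategoryTheory CategoryTheory.Limits AlgebraicGeometry
open EGA2

open Groth.Agent.AmpleLib Groth.Agent.PicLib Groth.Agent.Coherent

namespace Groth.Agent.S4408

/-- (e') ⇒ (a): let X be a quasi-compact separated scheme such that every quasi-coherent submodule of
finite type of O_X is generated by its global sections. Then X is quasi-affine. (The published
statement also allows X to be a scheme whose underlying space is Noetherian; this row assumes it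
quasi-compact and separated.) -/
theorem result (X : Scheme.{u}) [CompactSpace X] [X.IsSeparated]
    (h : ∀ (J : X.Modules) (i : J ⟶ Coh.structureModule X), Mono i → Coh.IsQCoh J → CohB1.IsFT J →
      Curv2.IsGloballyGenerated J) :
    X.IsQuasiAffine := by
  refine Scheme.IsQuasiAffine.of_forall_exists_mem_basicOpen X fun x => ?_
  obtain ⟨U, hU, hxU, -⟩ := exists_isAffineOpen_mem_and_subset (x := x) (U := ⊤) trivial
  obtain ⟨I, -, hI, hO⟩ := exists_idealMod_compl hU
  obtain ⟨ι, p, hp⟩ := h _ (ClSub.idealModι I) (mono_idealModι I) hI.1 hI.2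
  let p' : Coherent.freeMod X ι ⟶ ClSub.idealMod I := p
  have hp' : Epi p' := hp
  obtain ⟨k, hk⟩ := exists_idealModι_eq_one I
  obtain ⟨i, hi⟩ := exists_mem_glocus_of_epi_free (M := Coh.structureModule X) (x := x) isInvertible_structureModule
    (ClSub.idealModι I) ⟨_, k, hO.ge hxU, hk ▸ isGen_oneSec _⟩ p'
  let r : Γ(X, ⊤) := (ClSub.idealModι I).app ⊤ (p'.app ⊤ (freeBasisVec i ⊤))
  have hle : X.basicOpen r ≤ U := (basicOpen_idealModι_le I ⊤ (p'.app ⊤ (freeBasisVec i ⊤))).trans hO.le
  have hx : x ∈ X.basicOpen r := by rw [← glocus_structureModule r]; exact hi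
  refine ⟨r, ?_, hx⟩
  rw [← inf_eq_right.2 hle, ← Scheme.basicOpen_res X r (homOfLE (le_top : U ≤ ⊤)).op]
  exact hU.basicOpen _

end Groth.Agent.S4408
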