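import Groth.Statements.S4409
import Groth.Agent.AmpleLib.CounitEpi
import Groth.Agent.Coherent.Affineness

set_option autoImplicit false
universe u
open CategoryTheory CategoryTheory.Limits AlgebraicGeometry
open EGA2

open Groth.Agent.AmpleLib Groth.Agent.PicLib Groth.Agent.Coherent

namespace Groth.Agent.S4409

/-- (a) ⇔ (d): let f : X → Y be a quasi-compact morphism. Then f is quasi-affine (the preimage of every
affine open of Y is a quasi-affine scheme) if and only if f is separated and, for every
quasi-coherent O_X-module F, the canonical morphism f^*(f_*(F)) → F (counit of the adjunction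
between f^* and f_*) is an epimorphism. -/
theorem result {X Y : Scheme.{u}} (f : X ⟶ Y) [QuasiCompact f] :
    Mor2.IsQuasiAffine f ↔ (IsSeparated f ∧ ∀ F : X.Modules, Coh.IsQCoh F →
      Epi ((Scheme.Modules.pullbackPushforwardAdjunction f).counit.app F)) := by
  constructor
  · intro h
    refine ⟨?_, fun F hF => epi_counit_of_globallyGenerated f F fun x => ?_⟩
    · refine (IsZariskiLocalAtTarget.iff_of_iSup_eq_top (P := @IsSeparated)
        (fun V : Y.affineOpens => V.1) (iSup_affineOpens_eq_top Y)).2 fun V => ?_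
      have := h.2 V.1 V.2
      have : IsAffine (V.1 : Scheme.{u}) := V.2
      have : IsSeparated ((f ∣_ V.1) ≫ terminal.from (V.1 : Scheme.{u})) := by
        rw [terminal.comp_from]; infer_instance
      exact IsSeparated.of_comp (f ∣_ V.1) (terminal.from _)
    · obtain ⟨V, hV, hxV, -⟩ := exists_isAffineOpen_mem_and_subset (x := f x) (U := ⊤) trivial
      have := h.2 V hV
      have := hF
      exact ⟨V, hxV, globallyGenerated_of_isQuasiAffine _⟩
  · rintro ⟨hsep, hepi⟩
    refine ⟨inferInstance, fun V hV => ?_⟩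
    let P := f ⁻¹ᵁ V
    have hPc : IsCompact (P : Set X) := isCompact_preimage_affine hV
    have : CompactSpace (P : Scheme.{u}) := isCompact_iff_compactSpace.1 hPc
    have hPq : IsQuasiSeparated (P : Set X) := f.isQuasiSeparated_preimage hV.isQuasiSeparated
    refine Scheme.IsQuasiAffine.of_forall_exists_mem_basicOpen _ fun y => ?_
    obtain ⟨U, hU, hyU, hUP⟩ := exists_isAffineOpen_mem_and_subset (x := P.ι y) (U := P) y.2
    let Z : TopologicalSpace.Closeds X := ⟨(U : Set X)ᶜ, U.2.isClosed_compl⟩
    have := isQCoh_idealOf Z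
    obtain ⟨k₁, hk₁⟩ : ∃ k, (kernel.ι (toRedSub Z)).app U k = (1 : Γ(X, U)) :=
      (exists_idealOf_iff Z U 1).2 fun z hz hz' => hz (X.basicOpen_le _ hz')
    have := hepi (idealOf Z) inferInstance
    obtain ⟨V', g, W, hW, hyV', hyW, hg⟩ := exists_gen_of_counit_epi_hom f (M := Coh.structureModule X)
      isInvertible_structureModule (kernel.ι (toRedSub Z)) (x := P.ι y) ⟨U, k₁, hyU, hk₁ ▸ isGen_oneSec U⟩
    obtain ⟨r, hrV', hyr⟩ := hV.exists_basicOpen_le ⟨f (P.ι y), hyV'⟩ y.2
    let h₀ : Γ(X, f ⁻¹ᵁ V') := (kernel.ι (toRedSub Z)).app (f ⁻¹ᵁ V') g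
    have hh₀ : X.basicOpen h₀ ≤ U := fun z hz => by
      by_contra hzU
      exact (exists_idealOf_iff Z _ h₀).1 ⟨g, rfl⟩ z hzU hz
    have hyh₀ : P.ι y ∈ X.basicOpen h₀ := by
      obtain ⟨w, hw⟩ := (hg W le_rfl).2 (oneSec W)
      have hunit : IsUnit (res hW h₀) := by
        simp only [resM_self] at hw
        exact IsUnit.of_mul_eq_one w ((mul_comm _ _).trans hw)
      have := (Scheme.basicOpen_of_isUnit X hunit).ge hyW
      rw [show X.basicOpen (res hW h₀) = W ⊓ X.basicOpen h₀ from Scheme.basicOpen_res X h₀ _] at this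
      exact this.2
    let R : Γ(X, P) := f.app V r
    have hR : X.basicOpen R = f ⁻¹ᵁ Y.basicOpen r := (Scheme.preimage_basicOpen f r).symm
    have hle : X.basicOpen R ≤ f ⁻¹ᵁ V' := hR.le.trans fun z hz => hrV' hz
    have := isLocalization_basicOpen_of_qcqs hPc hPq R
    obtain ⟨⟨t, _, n, rfl⟩, ht⟩ := IsLocalization.surj (Submonoid.powers R) (res hle h₀)
    have hu : IsUnit (res (X.basicOpen_le R) R) :=
      RingedSpace.isUnit_res_basicOpen X.toLocallyRingedSpace.toRingedSpace R
    have hb : X.basicOpen (R * t) = X.basicOpen R ⊓ X.basicOpen h₀ := by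
      rw [Scheme.basicOpen_mul]
      refine le_antisymm ?_ ?_ <;> intro z hz
      · refine ⟨hz.1, ?_⟩
        have h1 : z ∈ X.basicOpen (res (X.basicOpen_le R) t) := by
          rw [show X.basicOpen (res (X.basicOpen_le R) t) = X.basicOpen R ⊓ X.basicOpen t from Scheme.basicOpen_res X t _]
          exact hz
        rw [show res (X.basicOpen_le R) t = _ from ht.symm, Scheme.basicOpen_mul] at h1
        have h2 := h1.1
        rw [show X.basicOpen (res hle h₀) = X.basicOpen R ⊓ X.basicOpen h₀ from Scheme.basicOpen_res X h₀ _] at h2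
        exact h2.2
      · refine ⟨hz.1, ?_⟩
        have h1 : z ∈ X.basicOpen (res (X.basicOpen_le R) t) := by
          rw [show res (X.basicOpen_le R) t = _ from ht.symm, Scheme.basicOpen_mul]
          refine ⟨?_, ?_⟩
          · rw [show X.basicOpen (res hle h₀) = X.basicOpen R ⊓ X.basicOpen h₀ from Scheme.basicOpen_res X h₀ _]
            exact hz
          · refine (Scheme.basicOpen_of_isUnit X ?_).ge hz.1
            rw [map_pow]
            exact hu.pow n
        rw [show X.basicOpen (res (X.basicOpen_le R) t) = X.basicOpen R ⊓ X.basicOpen t from Scheme.basicOpen_res X t _] at h1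
        exact h1.2
    refine ⟨P.topIso.inv (R * t), ?_, ?_⟩
    all_goals
      have himg : P.ι ''ᵁ P.toScheme.basicOpen (P.topIso.inv (R * t)) = X.basicOpen (R * t) :=
        Scheme.Opens.ι_image_basicOpen_topIso_inv P (R * t)
    · rw [← Scheme.Hom.isAffineOpen_iff_of_isOpenImmersion P.ι, himg, hb]
      have : X.basicOpen R ⊓ X.basicOpen h₀ ≤ U := inf_le_right.trans hh₀
      rw [← inf_eq_left.2 this, ← hb, inf_comm, ← Scheme.basicOpen_res X (R * t) (homOfLE (show U ≤ P from fun z hz => hUP hz)).op]
      exact hU.basicOpen _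
    · obtain ⟨w, hw, he⟩ := himg.ge (hb.ge ⟨hR.ge hyr, hyh₀⟩)
      exact (Subtype.ext he : w = y) ▸ hw

end Groth.Agent.S4409
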