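import Groth.Statements.S4410
import Groth.Agent.RelVALib.QAff

set_option autoImplicit false
set_option backward.isDefEq.respectTransparency.types false
universe u
open CategoryTheory CategoryTheory.Limits AlgebraicGeometry
open EGA2

namespace Groth.Agent.S4410

/-- Let Y be a quasi-compact separated scheme and f : X → Y a quasi-affine morphism of finite type. Then
there are a scheme X'', an affine morphism of finite type g : X'' → Y and an immersion j : X → X''
with j ≫ g = f. (The published statement also allows Y to be a scheme whose underlying space is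
Noetherian; this row assumes it quasi-compact and separated. The published statement realises X'' as
the relative spectrum of a quasi-coherent sub-algebra of finite type of f_*O_X, and says every
larger such sub-algebra also works; only the resulting factorisation is stated here.) -/
theorem result {X Y : Scheme.{u}} [CompactSpace Y] [Y.IsSeparated]
    (f : X ⟶ Y) (hf : Mor2.IsQuasiAffine f) [LocallyOfFiniteType f] :
    ∃ (X'' : Scheme.{u}) (g : X'' ⟶ Y) (j : X ⟶ X''), IsAffineHom g ∧ LocallyOfFiniteType g ∧ IsImmersion j ∧ j ≫ g = f := by
  obtain ⟨hqc, hV⟩ := hf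
  have := RelVALib.isSeparated_of_quasiAffine_preimage f hV
  have : CompactSpace X := QuasiCompact.compactSpace_of_compactSpace f
  let A := RelSpec.QCAlg.directImage f
  have := RelVALib.isOpenImmersion_toRelSpec f hV
  obtain ⟨hlim⟩ := H8Lim.Family.isLimit_cone A.π
  have : LocallyOfFiniteType (RelVALib.toRelSpec f ≫ A.π) := by
    rw [RelVALib.toRelSpec_π]; infer_instance
  let h' : X ⟶ (H8Lim.Family.cone A.π).pt := RelVALib.toRelSpec f
  have : IsImmersion h' := inferInstanceAs (IsImmersion (RelVALib.toRelSpec f))
  have : LocallyOfFiniteType (h' ≫ A.π) := ‹LocallyOfFiniteType (RelVALib.toRelSpec f ≫ A.π)›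
  obtain ⟨i, hi⟩ := @H8Lim.exists_isImmersion_comp_π _ _ _ (H8Lim.Family.diagram A.π)
    (H8Lim.Family.cone A.π) hlim _ Y X (H8Lim.Family.diagramπ A.π) A.π
    (fun F => F.unop.toModel_π) h' _ _ _
  exact ⟨_, i.unop.alg.π, _, inferInstance, inferInstance, hi,
    (Category.assoc _ _ _).trans
      ((congrArg (h' ≫ ·) i.unop.toModel_π).trans (RelVALib.toRelSpec_π f))⟩

end Groth.Agent.S4410
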