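import Groth.Statements.S4413
import Groth.Agent.AmpleLib.GenLocus
open Groth.Agent.AmpleLib Groth.Agent.PicLib Groth.Agent.Coherent

set_option autoImplicit false
universe u
open CategoryTheory CategoryTheory.Limits AlgebraicGeometry
open EGA2

namespace Groth.Agent.S4413

/-- Let u : Z → S be a morphism of schemes, L an invertible O_S-module, s : O_S → L a global section of
L and s' the section of u^*(L) corresponding to s, i.e. u^*(s) composed with an isomorphism O_Z ≅
u^*(O_S) (the locus in question does not depend on that choice). Then the open Z_{s'} of Z where s'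
generates u^*(L) is the preimage u⁻¹(S_s) of the open where s generates L. -/
theorem result {Z S : Scheme.{u}} (u : Z ⟶ S) (L : S.Modules) (hL : PicF.IsInvertible L)
    (s : Coh.structureModule S ⟶ L)
    (e : Coh.structureModule Z ≅ (Scheme.Modules.pullback u).obj (Coh.structureModule S)) :
    CohB1.genLocus ((Scheme.Modules.pullback u).obj L) (e.hom ≫ (Scheme.Modules.pullback u).map s) = u ⁻¹ᵁ CohB1.genLocus L s := by
  let one' : Γ((Scheme.Modules.pullback u).obj (Coh.structureModule S), (⊤ : Z.Opens)) := pullSec u (oneSec (⊤ : S.Opens))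
  have hgen : IsGen ((Scheme.Modules.pullback u).obj (Coh.structureModule S)) ⊤ one' :=
    isGen_pullSec u (isGen_oneSec ⊤) isInvertible_structureModule
  have hgen' : IsGen ((Scheme.Modules.pullback u).obj (Coh.structureModule S)) ⊤ (unitVal e.hom ⊤) :=
    (isIso_restrict_iff e.hom ⊤).1 inferInstance
  have hw := hgen.coef_spec le_rfl (unitVal e.hom ⊤)
  rw [resM_self] at hw
  have hu := hgen.isUnit_coef hgen'
  rw [genLocus_eq_glocus, genLocus_eq_glocus]
  let s' : Γ((Scheme.Modules.pullback u).obj L, (⊤ : Z.Opens)) := pullSec u (unitVal s ⊤)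
  have : unitVal (e.hom ≫ (Scheme.Modules.pullback u).map s) ⊤ =
      hgen.coef le_rfl (unitVal e.hom ⊤) • s' := by
    show ((Scheme.Modules.pullback u).map s).app ⊤ (unitVal e.hom ⊤) = _
    conv_lhs => rw [← hw]
    rw [Scheme.Modules.Hom.app_smul]
    exact congrArg (fun v : Γ((Scheme.Modules.pullback u).obj L, (⊤ : Z.Opens)) => hgen.coef le_rfl (unitVal e.hom ⊤) • v) (pullback_map_app_pullSec u s (oneSec (⊤ : S.Opens)))
  rw [this, glocus_smul hu]
  exact glocus_pullSec u hL _

end Groth.Agent.S4413
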