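import Groth.Statements.S4425
import Groth.Agent.RelVALib.QuasiProj

set_option autoImplicit false
set_option backward.isDefEq.respectTransparency.types false
universe u
open CategoryTheory CategoryTheory.Limits AlgebraicGeometry
open EGA2

namespace Groth.Agent.S4425

/-- (a) ⇔ (c): let Y be a quasi-compact separated scheme and f : X → Y a morphism. Then f is
quasi-projective if and only if f is of finite type and there are a quasi-coherent graded
O_Y-algebra 𝒮, generated by its degree-one part with that part of finite type, a relative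
homogeneous spectrum p : P → Y of 𝒮 (given with its charts over affine opens), and an open immersion
j : X → P with dense image such that j ≫ p = f. (The published statement also allows Y whose
underlying space is Noetherian, and adds a third equivalent condition, an immersion into some P(E);
this row assumes Y quasi-compact and separated and states only the equivalence of the other two.) -/
theorem result {X Y : Scheme.{u}} [CompactSpace Y] [Y.IsSeparated] (f : X ⟶ Y) :
    RelProj.IsQuasiProjective f ↔
      (LocallyOfFiniteType f ∧ QuasiCompact f ∧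
        ∃ (𝒮 : RelProj.QCGrAlg Y) (P : Scheme.{u}) (p : P ⟶ Y)
          (chart : ∀ (U : Y.Opens) (hU : IsAffineOpen U), ((p ⁻¹ᵁ U : P.Opens) : Scheme.{u}) ≅ Proj (𝒮.deg U hU))
          (j : X ⟶ P), 𝒮.IsGenDegOne ∧ 𝒮.IsFTDeg 1 ∧ RelProj.IsRelProj 𝒮 p chart ∧
            IsOpenImmersion j ∧ Dense (Set.range j.base) ∧ j ≫ p = f) := by
  constructor
  · intro hf
    have := hf.2.1
    obtain ⟨M, hM⟩ := Groth.Agent.RelVALib.exists_hasBundleImmersion_of_isQuasiProjective (Y := Y) (Or.inl ⟨inferInstance, inferInstance⟩) hf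
    obtain ⟨𝒮, P, p, chart, -, -, i, h1, h2, h3, -, h4, h5, h6, -⟩ := Groth.Agent.RelVALib.HasBundleImmersion.exists_dense_relProj hM
    exact ⟨hf.1, hf.2.1, 𝒮, P, p, chart, i, h1, h2, h3, h4, h5, h6⟩
  · rintro ⟨h1, h2, 𝒮, P, p, chart, i, g1, g2, g3, g4, -, g6⟩
    have hp : RelProj.IsProjective p := ⟨𝒮, P, p, chart, Iso.refl P, g1, g2, g3, Category.id_comp p⟩
    obtain ⟨L, -, E, hft, 𝒯, j, Q, pq, chartq, O1, lam, φ, c, D, hc, hcp, -⟩ := Groth.Agent.RelVALib.exists_bundle_of_isProjective hp
    have hb : Groth.Agent.RelVALib.HasBundleImmersion @IsImmersion f ((Scheme.Modules.pullback (i ≫ c)).obj O1) :=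
      ⟨E, hft, 𝒯, j, Q, pq, chartq, O1, lam, φ, i ≫ c, D, inferInstance, by rw [Category.assoc, hcp, g6], ⟨Iso.refl _⟩⟩
    exact ⟨h1, h2, _, Groth.Agent.RelVALib.isRelAmple_of_isRelVeryAmple f hb.isRelVeryAmple⟩

end Groth.Agent.S4425
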