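import Groth.Statements.S4432
import Mathlib

set_option autoImplicit false
set_option maxHeartbeats 1000000
universe u
open EGA2
open scoped TensorProduct

namespace Groth.Agent.S4432

/-- A root of the characteristic polynomial of a matrix integral over `R` is integral. -/
theorem isIntegral_of_isRoot_charpoly {R L n : Type*} [CommRing R] [CommRing L] [IsDomain L]
    [Algebra R L] [Fintype n] [DecidableEq n] (M : Matrix n n L) (hM : IsIntegral R M) {x : L}
    (hx : M.charpoly.IsRoot x) : IsIntegral R x := by
  obtain ⟨p, hp, h⟩ := hM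
  refine ⟨p, hp, ?_⟩
  obtain ⟨q, hq⟩ := Polynomial.X_sub_C_dvd_sub_C_eval (a := x) (p := p.map (algebraMap R L))
  have h0 : Polynomial.aeval M (p.map (algebraMap R L)) = 0 := by
    rw [Polynomial.aeval_map_algebraMap]; exact h
  have h1 := congrArg (Polynomial.aeval M) hq
  rw [map_sub, map_mul, map_sub, Polynomial.aeval_C, Polynomial.aeval_C, Polynomial.aeval_X, h0,
    zero_sub] at h1
  have hx' : (Matrix.scalar n x - M).det = 0 := by rw [← Matrix.eval_charpoly]; exact hx
  have h2 : (M - algebraMap L (Matrix n n L) x).det = 0 := by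
    rw [← neg_sub, Matrix.det_neg]
    exact mul_eq_zero_of_right _ hx'
  have h3 := congrArg Matrix.det h1
  rw [Matrix.det_mul, h2, zero_mul, Matrix.det_neg, Matrix.algebraMap_eq_diagonal,
    Matrix.det_diagonal] at h3
  obtain h4 | h4 := mul_eq_zero.1 h3
  · exact absurd h4 (pow_ne_zero _ (neg_ne_zero.2 one_ne_zero))
  obtain ⟨i, -, hi⟩ := Finset.prod_eq_zero_iff.1 h4
  rw [Polynomial.eval_map] at hi
  exact hi

/-- The coefficients of the characteristic polynomial of an integral matrix are integral. -/
theorem isIntegral_coeff_charpoly_of_isDomain {R S n : Type*} [CommRing R] [CommRing S] [IsDomain S]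
    [Algebra R S] [Fintype n] [DecidableEq n] (M : Matrix n n S) (hM : IsIntegral R M) (j : ℕ) :
    IsIntegral R (M.charpoly.coeff j) := by
  let L := AlgebraicClosure (FractionRing S)
  let φ : S →ₐ[R] L := IsScalarTower.toAlgHom R S L
  have hφ : Function.Injective φ := by
    show Function.Injective (algebraMap S L)
    rw [IsScalarTower.algebraMap_eq S (FractionRing S) L]
    exact (algebraMap (FractionRing S) L).injective.comp (IsFractionRing.injective S (FractionRing S))
  refine (isIntegral_algHom_iff φ hφ).1 ?_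
  have hc : φ (M.charpoly.coeff j) = (φ.mapMatrix M).charpoly.coeff j := by
    rw [AlgHom.mapMatrix_apply, show (M.map ⇑φ) = M.map ⇑φ.toRingHom from rfl, Matrix.charpoly_map,
      Polynomial.coeff_map]
    rfl
  rw [hc]
  refine Polynomial.isIntegral_coeff_of_factors _
    (by rw [(Matrix.charpoly_monic _).leadingCoeff]; exact isIntegral_one)
    (IsAlgClosed.splits _) (fun x hx => isIntegral_of_isRoot_charpoly _ (hM.map φ.mapMatrix) hx) j

theorem isIntegral_coeff_charpoly {R S n : Type*} [CommRing R] [CommRing S] [IsNoetherianRing S]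
    [IsReduced S] [Algebra R S] [Fintype n] [DecidableEq n] (M : Matrix n n S) (hM : IsIntegral R M)
    (j : ℕ) : IsIntegral R (M.charpoly.coeff j) := by
  classical
  have hfin : (minimalPrimes S).Finite := minimalPrimes.finite_of_isNoetherianRing S
  have : ∀ q ∈ hfin.toFinset, ∃ f : Polynomial R, f.Monic ∧ Polynomial.aeval (M.charpoly.coeff j) f ∈ q := by
    intro q hq
    have := Ideal.minimalPrimes_isPrime (hfin.mem_toFinset.1 hq)
    let π : S →ₐ[R] S ⧸ q := Ideal.Quotient.mkₐ R q
    obtain ⟨f, hf, h⟩ := isIntegral_coeff_charpoly_of_isDomain (π.mapMatrix M) (hM.map π.mapMatrix) j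
    refine ⟨f, hf, Ideal.Quotient.eq_zero_iff_mem.1 ?_⟩
    rw [AlgHom.mapMatrix_apply, show (M.map ⇑π) = M.map ⇑π.toRingHom from rfl, Matrix.charpoly_map,
      Polynomial.coeff_map, ← Polynomial.aeval_def] at h
    exact (Polynomial.aeval_algHom_apply π _ f).symm.trans h
  choose f hf hmem using this
  refine ⟨∏ q : hfin.toFinset, f q.1 q.2, Polynomial.monic_prod_of_monic _ _ fun q _ => hf q.1 q.2, ?_⟩
  rw [← Polynomial.aeval_def, map_prod]
  refine IsReduced.eq_zero _ (mem_nilradical.1 ?_)
  rw [nilradical, ← Ideal.sInf_minimalPrimes, Submodule.mem_sInf]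
  intro q hq
  have hq' : q ∈ hfin.toFinset := hfin.mem_toFinset.2 hq
  show _ ∈ (q : Ideal S)
  exact Ideal.mem_of_dvd _ (Finset.dvd_prod_of_mem _ (Finset.mem_univ (⟨q, hq'⟩ : hfin.toFinset))) (hmem q hq')

/-- Let A be a reduced Noetherian ring, K its total ring of fractions, and E a finitely generated
A-module with K ⊗_A E free over K. The A-subalgebra of K generated by the coefficients of the
characteristic polynomials of v ⊗ 1 (v running through all endomorphisms of E), i.e. by all
elementary symmetric functions of all endomorphisms of E, is a finitely generated A-module. -/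
theorem result (A : Type u) [CommRing A] [IsNoetherianRing A] [IsReduced A]
    (E : Type u) [AddCommGroup E] [Module A E] [Module.Finite A E]
    [Module.Free (FractionRing A) (TensorProduct A (FractionRing A) E)] :
    (Algebra.adjoin A {c : FractionRing A | ∃ (v : E →ₗ[A] E) (j : ℕ),
        c = ((v.baseChange (FractionRing A)).charpoly).coeff j}).toSubmodule.FG := by
  classical
  have : IsNoetherianRing (FractionRing A) :=
    IsLocalization.isNoetherianRing (nonZeroDivisors A) _ inferInstance
  set K := FractionRing A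
  obtain ⟨m, g, hg⟩ := Module.Finite.exists_fin (R := A) (M := Module.End A E)
  let b := Module.Free.chooseBasis K (K ⊗[A] E)
  let ψ : Module.End A E →ₐ[A] Matrix (Module.Free.ChooseBasisIndex K (K ⊗[A] E))
      (Module.Free.ChooseBasisIndex K (K ⊗[A] E)) K :=
    ((LinearMap.toMatrixAlgEquiv b).toAlgHom.restrictScalars A).comp (Module.End.baseChangeHom A K E)
  let R := MvPolynomial (Fin m) A
  let S := MvPolynomial (Fin m) K
  let : Algebra R S := MvPolynomial.algebraMvPolynomial
  have : IsScalarTower A R S := IsScalarTower.of_algebraMap_eq fun a => by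
    show (MvPolynomial.C (algebraMap A K a) : S) = MvPolynomial.map (algebraMap A K) (MvPolynomial.C a)
    rw [MvPolynomial.map_C]
  let Θ : R ⊗[A] Module.End A E →ₐ[R] Matrix (Module.Free.ChooseBasisIndex K (K ⊗[A] E))
      (Module.Free.ChooseBasisIndex K (K ⊗[A] E)) S :=
    Algebra.TensorProduct.lift (Algebra.ofId R _) ((IsScalarTower.toAlgHom A K S).mapMatrix.comp ψ)
      (fun r v => Algebra.commutes r _)
  let G := Θ (∑ i, (MvPolynomial.X i : R) ⊗ₜ[A] g i)
  have hG : IsIntegral R G := (IsIntegral.of_finite R _).map Θ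
  let C : Set K := ⋃ j ∈ Finset.range (G.charpoly.natDegree + 1),
    ((G.charpoly.coeff j).support.image fun d => (G.charpoly.coeff j).coeff d : Finset K)
  have hC : C.Finite := Set.Finite.biUnion (Finset.finite_toSet _) fun j _ => Finset.finite_toSet _
  have hCi : ∀ c ∈ C, IsIntegral A c := by
    intro c hc
    simp only [C, Set.mem_iUnion, Finset.coe_image, Set.mem_image] at hc
    obtain ⟨j, -, d, -, rfl⟩ := hc
    exact MvPolynomial.isIntegral_iff_isIntegral_coeff.1 (isIntegral_coeff_charpoly G hG j) d
  have hle : Algebra.adjoin A {c : K | ∃ (v : E →ₗ[A] E) (j : ℕ),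
      c = ((v.baseChange K).charpoly).coeff j} ≤ Algebra.adjoin A C := by
    refine Algebra.adjoin_le ?_
    rintro _ ⟨v, j, rfl⟩
    have hv : v ∈ Submodule.span A (Set.range g) := hg ▸ trivial
    obtain ⟨a, rfl⟩ := (Submodule.mem_span_range_iff_exists_fun A).1 hv
    let ev : S →+* K := MvPolynomial.eval fun i => algebraMap A K (a i)
    have hΘ : ∀ r v, Θ (r ⊗ₜ[A] v) =
        algebraMap R _ r * (ψ v).map ⇑(algebraMap K S) := fun _ _ => rfl
    have hX : ∀ i, algebraMap R S (MvPolynomial.X i) = MvPolynomial.X i := fun i =>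
      MvPolynomial.map_X _ i
    have hev : G.map ⇑ev = ψ (∑ i, a i • g i) := by
      simp only [G, map_sum, map_smul, hΘ]
      ext p q
      simp only [← Algebra.smul_def, Matrix.map_apply, Matrix.sum_apply, Matrix.smul_apply, map_sum]
      refine Finset.sum_congr rfl fun i _ => ?_
      rw [Algebra.smul_def, hX, map_mul, Algebra.smul_def]
      show MvPolynomial.eval _ (MvPolynomial.X i) * MvPolynomial.eval _ (MvPolynomial.C _) = _
      rw [MvPolynomial.eval_X, MvPolynomial.eval_C]
    have hch : ((∑ i, a i • g i : E →ₗ[A] E).baseChange K).charpoly = G.charpoly.map ev := by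
      rw [← Matrix.charpoly_map, hev]
      exact (LinearMap.charpoly_toMatrix _ b).symm
    rw [hch, Polynomial.coeff_map]
    show MvPolynomial.eval _ _ ∈ Algebra.adjoin A C
    by_cases hj : j ∈ Finset.range (G.charpoly.natDegree + 1)
    · rw [MvPolynomial.eval_eq]
      refine Subalgebra.sum_mem _ fun d hd => Subalgebra.mul_mem _ (Algebra.subset_adjoin ?_)
        (Subalgebra.prod_mem _ fun i _ => Subalgebra.pow_mem _ (Subalgebra.algebraMap_mem _ _) _)
      simp only [C, Set.mem_iUnion, Finset.coe_image, Set.mem_image]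
      exact ⟨j, hj, d, hd, rfl⟩
    · rw [Polynomial.coeff_eq_zero_of_natDegree_lt (by simpa [Finset.mem_range] using hj), map_zero]
      exact Subalgebra.zero_mem _
  have := isNoetherian_of_fg_of_noetherian _ (fg_adjoin_of_finite hC hCi)
  exact Submodule.FG.of_le_of_isNoetherian (Subalgebra.toSubmodule.monotone hle)

end Groth.Agent.S4432
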