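import Groth.Statements.S4435


set_option autoImplicit false
universe u
open CategoryTheory CategoryTheory.Limits AlgebraicGeometry
open EGA2

namespace Groth.Agent.S4435

/-- Let X, S be integral schemes and f : X ⟶ S a dominant morphism. If f is integral, the field of
rational functions of X is algebraic over that of S; if f is finite, it is a finite extension. Here
the extension is given by the stalk map of f at the generic point of X, whose source is the local
ring of S at the generic point of S (f being dominant), i.e. the function field of S. -/
theorem result {X S : Scheme.{u}} [IsIntegral X] [IsIntegral S]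
    (f : X ⟶ S) [IsDominant f] :
    (IsIntegralHom f → (f.stalkMap (genericPoint X)).hom.IsIntegral) ∧
      (IsFinite f → (f.stalkMap (genericPoint X)).hom.Finite) := by
  have hη : f (genericPoint X) = genericPoint S := by
    have h := (genericPoint_spec X).image f.continuous
    rw [Set.image_univ, f.denseRange.closure_range] at h
    exact h.eq (genericPoint_spec S)
  obtain ⟨hF⟩ : Nonempty (IsField (S.presheaf.stalk (f (genericPoint X)))) :=
    ⟨hη.symm ▸ Field.toIsField S.functionField⟩
  let := hF.toField
  let := (f.stalkMap (genericPoint X)).hom.toAlgebra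
  have hint : IsIntegralHom f → (f.stalkMap (genericPoint X)).hom.IsIntegral := by
    intro _ z
    obtain ⟨_, ⟨U, hU, rfl⟩, hU', -⟩ :=
      S.isBasis_affineOpens.exists_subset_of_mem_open (Set.mem_univ (f (genericPoint X))) isOpen_univ
    let V := f ⁻¹ᵁ U
    have hV : IsAffineOpen V := hU.preimage f
    have : Nonempty V := ⟨⟨genericPoint X, hU'⟩⟩
    have := functionField_isFractionRing_of_isAffineOpen X V hV
    obtain ⟨a, b, hb, rfl⟩ := IsFractionRing.div_surjective Γ(X, V) (z : X.functionField)
    have key : ∀ c : Γ(X, V), _root_.IsIntegral (S.presheaf.stalk (f (genericPoint X)))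
        ((X.presheaf.germ V (genericPoint X) hU').hom c : X.functionField) := by
      intro c
      obtain ⟨q, hq, hqc⟩ := f.isIntegral_app U hU c
      refine ⟨q.map (S.presheaf.germ U _ hU').hom, hq.map _, ?_⟩
      rw [Polynomial.eval₂_map]
      have h := congrArg CommRingCat.Hom.hom (Scheme.Hom.germ_stalkMap f U (genericPoint X) hU')
      simp only [CommRingCat.hom_comp] at h
      refine (congrArg (fun r ↦ Polynomial.eval₂ r _ q) h).trans ?_
      rw [← Polynomial.hom_eval₂, hqc, map_zero]
    exact (key a).mul (key b).inv
  refine ⟨hint, fun _ ↦ ?_⟩
  have : Algebra.EssFiniteType (S.presheaf.stalk (f (genericPoint X))) X.functionField :=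
    LocallyOfFiniteType.stalkMap f (genericPoint X)
  have : Algebra.IsIntegral (S.presheaf.stalk (f (genericPoint X))) X.functionField :=
    ⟨hint inferInstance⟩
  exact Algebra.finite_of_essFiniteType_of_isAlgebraic

end Groth.Agent.S4435
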