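import Groth.Statements.S4451
import Groth.Agent.CurveLib.Basic
import Groth.Agent.CurveLib.OverField

set_option autoImplicit false
universe u
open CategoryTheory CategoryTheory.Limits AlgebraicGeometry
attribute [local instance] Curv2.stalkAlgebra
open EGA2

namespace Groth.Agent.S4451

/-- Let X be a normal, complete, irreducible algebraic curve over a field k with field of rational
functions K. The set of local rings of X, as subrings of K, consists of K itself (at the generic
point) and of the valuation rings of K containing k (and distinct from K): every non-generic point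
has such a valuation ring as local ring, and every such valuation ring is the local ring of exactly
one point. -/
theorem result (k : Type u) [Field k] (X : Scheme.{u})
    [X.Over (Spec (CommRingCat.of k))] [IsProper (X ↘ (Spec (CommRingCat.of k)))] [IsIntegral X]
    (hX : ∀ x : X, IsClosed ({x} : Set X) → ringKrullDim (X.presheaf.stalk x) = 1) (hnorm : Pi1.IsNormalScheme X) :
    (∀ x : X, x ≠ genericPoint X → ∃ R : ValuationSubring X.functionField, R ≠ ⊤ ∧
        (R : Set X.functionField) = Set.range (algebraMap (X.presheaf.stalk x) X.functionField)) ∧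
      ∀ R : ValuationSubring X.functionField, R ≠ ⊤ → (∀ c : k, algebraMap k X.functionField c ∈ R) →
        ∃! x : X, (R : Set X.functionField) = Set.range (algebraMap (X.presheaf.stalk x) X.functionField) := by
  let sX := X ↘ Spec (CommRingCat.of k)
  have : JacobsonSpace X := LocallyOfFiniteType.jacobsonSpace sX
  have : IsLocallyNoetherian X := LocallyOfFiniteType.isLocallyNoetherian sX
  have : X.IsSeparated := ⟨by rw [← terminal.comp_from sX]; infer_instance⟩
  have part1 : ∀ x : X, x ≠ genericPoint X → ∃ R : ValuationSubring X.functionField, R ≠ ⊤ ∧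
      (R : Set X.functionField) = Set.range (algebraMap (X.presheaf.stalk x) X.functionField) := fun x hx ↦ by
    have hc : IsClosed ({x} : Set X) := by
      by_contra h
      exact hx (CurveLib.eq_genericPoint_of_not_isClosed hX h)
    have := (hnorm x).2
    exact CurveLib.exists_valuationSubring_eq_range x (hX x hc)
  refine ⟨part1, fun R hR hk ↦ ?_⟩
  let φ : Spec (CommRingCat.of R) ⟶ Spec (CommRingCat.of k) :=
    Spec.map (CommRingCat.ofHom ((algebraMap k X.functionField).codRestrict R.toSubring hk))
  have hφ : Spec.map (CommRingCat.ofHom R.subtype) ≫ φ = X.fromSpecStalk (genericPoint X) ≫ sX := by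
    rw [← Spec.map_comp]
    exact CurveLib.specMap_stalkMap k X (genericPoint X)
  obtain ⟨x, hx1, hx2⟩ := ValExtLib.exists_dominated_of_universallyClosed sX R φ hφ
  have hxη : x ≠ genericPoint X := by
    rintro rfl
    refine hR (eq_top_iff.mpr fun z _ ↦ ?_)
    have h : ((X.presheaf.stalkSpecializes (genericPoint_specializes (genericPoint X))).hom z :
        X.functionField) ∈ R := hx1 z
    have e : ((X.presheaf.stalkSpecializes (genericPoint_specializes (genericPoint X))).hom z :
        X.functionField) = z :=
      ConcreteCategory.congr_hom (X.presheaf.stalkSpecializes_refl (genericPoint X)) z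
    rwa [e] at h
  obtain ⟨R', -, hR'⟩ := part1 x hxη
  have heq : (R : Set X.functionField) = Set.range (algebraMap (X.presheaf.stalk x) X.functionField) := by
    refine Set.Subset.antisymm (fun z hz ↦ ?_) (by rintro _ ⟨a, rfl⟩; exact hx1 a)
    rcases R'.mem_or_inv_mem z with h | h
    · exact hR'.le h
    · obtain ⟨a, ha⟩ := hR'.le h
      by_cases hu : IsUnit a
      · obtain ⟨u, rfl⟩ := hu
        exact ⟨((u⁻¹ : (X.presheaf.stalk x)ˣ) : X.presheaf.stalk x), by
          rw [← inv_inv z, ← ha, map_units_inv]⟩
      · have h1 := hx2 a hu
        rw [ha] at h1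
        have h2 := (R.valuation_le_one_iff z).mpr hz
        rcases eq_or_ne z 0 with rfl | hz0
        · exact ⟨0, map_zero _⟩
        · have h3 := mul_lt_one_of_lt_of_le h1 h2
          rw [← map_mul, inv_mul_cancel₀ hz0, map_one] at h3
          exact absurd h3 (lt_irrefl _)
  exact ⟨x, heq, fun x' h' ↦ CurveLib.eq_of_eq_range R x' x h' heq⟩

end Groth.Agent.S4451
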