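import Groth.Statements.S4453
import Groth.Agent.RelVALib.NormMod
import Groth.Agent.RelVALib.QuasiProj
import Groth.Agent.RelVALib.Projective
import Groth.Agent.MorProj.SepDescent

set_option autoImplicit false
set_option backward.isDefEq.respectTransparency.types false
universe u
open CategoryTheory CategoryTheory.Limits AlgebraicGeometry
open EGA2

namespace Groth.Agent.S4453

/-- Let Y be a quasi-compact separated scheme or a scheme whose underlying space is Noetherian, f : X ⟶
Y a morphism of finite type and g : X' ⟶ X a finite surjective morphism such that the direct image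
of O_{X'} is a finite locally free O_X-module. Then f is projective if and only if f ∘ g is
projective. (The companion assertion, on quasi-projectivity, is the
existence-of-a-relatively-ample-module equivalence stated separately.) -/
theorem result {X X' Y : Scheme.{u}} (f : X ⟶ Y) [LocallyOfFiniteType f]
    [QuasiCompact f] (g : X' ⟶ X) [IsFinite g] [Surjective g]
    (hfree : FlatMod.IsFinLocFree ((Coh.push g).obj (Coh.structureModule X')))
    (hY : (CompactSpace Y ∧ Y.IsSeparated) ∨ TopologicalSpace.NoetherianSpace Y) :
    RelProj.IsProjective f ↔ RelProj.IsProjective (g ≫ f) := by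
  have hf := Groth.Agent.RelVALib.HasFrames.of_isFinLocFree g hfree
  have hY' : (CompactSpace Y ∧ QuasiSeparatedSpace Y) ∨ TopologicalSpace.NoetherianSpace Y :=
    Groth.Agent.RelVALib.compactQS_of_hY hY
  constructor
  · intro h
    have := Groth.Agent.RelVALib.isProper_of_isProjective h
    obtain ⟨-, -, L, hL⟩ := Groth.Agent.RelVALib.isQuasiProjective_of_isProjective h
    have hq : RelProj.IsQuasiProjective (g ≫ f) := ⟨inferInstance, inferInstance, _,
      (Groth.Agent.RelVALib.isRelAmple_iff_pullback g hf f (Groth.Agent.AmpleLib.isInvertible_of_isRelAmple _ hL)).1 hL⟩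
    obtain ⟨L', hL'⟩ := Groth.Agent.RelVALib.exists_hasBundleImmersion_of_isQuasiProjective hY' hq
    exact Groth.Agent.RelVALib.isProjective_of_hasBundleImmersion hL'.closed_of_isProper
  · intro h
    have := Groth.Agent.RelVALib.isProper_of_isProjective h
    have : IsSeparated f := Groth.Agent.MorProj.isSeparated_of_universallyClosed_surjective g f
    have : IsProper f := { toUniversallyClosed := UniversallyClosed.of_comp_surjective g f }
    obtain ⟨-, -, L', hL'⟩ := Groth.Agent.RelVALib.isQuasiProjective_of_isProjective h
    obtain ⟨L, -, hL⟩ := Groth.Agent.RelVALib.exists_isRelAmple_of_comp hf f hL'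
    obtain ⟨L₁, hL₁⟩ := Groth.Agent.RelVALib.exists_hasBundleImmersion_of_isQuasiProjective hY' (f := f) ⟨inferInstance, inferInstance, L, hL⟩
    exact Groth.Agent.RelVALib.isProjective_of_hasBundleImmersion hL₁.closed_of_isProper

end Groth.Agent.S4453
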