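import Groth.Statements.S4455
import Groth.Agent.NormalizationLib.Finite

set_option autoImplicit false
universe u
open CategoryTheory CategoryTheory.Limits AlgebraicGeometry
open EGA2

namespace Groth.Agent.S4455

/-- An integral algebraic curve X over a field k is complete (proper over k) if and only if its
normalization X', with the composite structure morphism X' ⟶ X ⟶ Spec k, is proper over k. (The
quasi-compactness and quasi-separatedness binders on the morphism from the generic point always
hold; they are needed only to form the normalization.) -/
theorem result (k : Type u) [Field k] (X : Scheme.{u})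
    [X.Over (Spec (CommRingCat.of k))] [LocallyOfFiniteType (X ↘ (Spec (CommRingCat.of k)))]
    [QuasiCompact (X ↘ (Spec (CommRingCat.of k)))] [IsSeparated (X ↘ (Spec (CommRingCat.of k)))] [IsIntegral X]
    (hX : ∀ x : X, IsClosed ({x} : Set X) → ringKrullDim (X.presheaf.stalk x) = 1)
    [QuasiCompact (X.fromSpecStalk (genericPoint X))] [QuasiSeparated (X.fromSpecStalk (genericPoint X))] :
    IsProper (X ↘ (Spec (CommRingCat.of k))) ↔ IsProper (Curv2.normalizationι X ≫ (X ↘ (Spec (CommRingCat.of k)))) := by
  let g : Spec (CommRingCat.of X.functionField) ⟶ X := X.fromSpecStalk (genericPoint X)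
  have : QuasiCompact g := inferInstanceAs (QuasiCompact (X.fromSpecStalk (genericPoint X)))
  have : QuasiSeparated g := inferInstanceAs (QuasiSeparated (X.fromSpecStalk (genericPoint X)))
  let φ : X.functionField →+* X.functionField := RingHom.id _
  have hg : g = Spec.map (CommRingCat.ofHom φ) ≫ X.fromSpecStalk (genericPoint X) := by
    rw [CommRingCat.ofHom_id, Spec.map_id]; exact (Category.id_comp _).symm
  have hfin : IsFinite g.fromNormalization :=
    NormalizationLib.isFinite_fromNormalization φ g hg k (X ↘ Spec (CommRingCat.of k))
      (RingHom.Finite.id _)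
  have : IsFinite (Curv2.normalizationι X) := hfin
  refine ⟨fun _ ↦ inferInstance, fun h ↦ ?_⟩
  have : Surjective (Curv2.normalizationι X) :=
    ⟨fun x ↦ (genericPoint_specializes x).mem_closed (Curv2.normalizationι X).isClosedMap.isClosed_range
      ⟨_, NormalizationLib.fromNormalization_genericPoint φ g hg⟩⟩
  have : UniversallyClosed (Curv2.normalizationι X ≫ (X ↘ Spec (CommRingCat.of k))) := inferInstance
  have : UniversallyClosed (X ↘ Spec (CommRingCat.of k)) :=
    UniversallyClosed.of_comp_surjective (Curv2.normalizationι X) _
  exact { }

end Groth.Agent.S4455
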