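import Groth.Statements.S4461
import Groth.Agent.Coherent.FormalFunctions

set_option autoImplicit false
universe u
open Coherent

namespace Groth.Agent.S4461

open AlgebraicGeometry CategoryTheory in
/-- Let A be a Noetherian ring, I an ideal of A, X a scheme proper over Spec A, M a coherent O_X-module
and p ≥ 0. Write R_k for the kernel of H^p(X, M) → H^p(X, M/I^(k+1)M). Then there is k₀ such that
R_(k+1) = I · R_k for all k ≥ k₀; together with the obvious inclusions I · R_k ⊆ R_(k+1) this says
that (R_k) is an I-good filtration of H^p(X, M). -/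
theorem result (A : Type u) [CommRing A] [IsNoetherianRing A]
    (I : Ideal A) (X : Scheme.{u}) [X.Over (Spec (CommRingCat.of A))]
    [IsProper (X ↘ Spec (CommRingCat.of A))] (M : X.Modules) (hM : Coh.IsCoh M) (p : ℕ) :
    ∃ k₀ : ℕ, ∀ k : ℕ, k₀ ≤ k →
      ((Formal.toHHmodPow I M p (k + 1)).ker : Set (Coh.HH X M p)) =
        ((I • Submodule.span A ((Formal.toHHmodPow I M p k).ker : Set (Coh.HH X M p)) :
          Submodule A (Coh.HH X M p)) : Set (Coh.HH X M p)) := by
  obtain ⟨c, hc⟩ := Groth.Agent.Coherent.exists_imPow_succ I hM p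
  refine ⟨c, fun k hk => ?_⟩
  have e : ∀ n, ((Formal.toHHmodPow I M p n).ker : Set (Coh.HH X M p)) =
      (Groth.Agent.Coherent.imPow I M p (n + 1) : Set (Coh.HH X M p)) := fun n =>
    Set.ext fun x => (Groth.Agent.Coherent.mem_imPow_succ_iff I M p n x).symm
  rw [e, e, Submodule.span_eq, hc (k + 1) (by omega)]

end Groth.Agent.S4461
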