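import Groth.Statements.S4462
import Groth.Agent.Coherent.CohBC.ModPow
import Groth.Agent.Coherent.CohBC.Criteria
import Groth.Agent.Coherent.CohBC.UnivExact
import Groth.Agent.Coherent.CohBC.Fibre

set_option autoImplicit false
universe u
open Coherent Groth.Agent.Coherent Groth.Agent.FlatCxLib

namespace Groth.Agent.S4462

open AlgebraicGeometry CategoryTheory in
/-- Second assertion: for a local base: let A be a Noetherian local ring with maximal ideal m and closed
point y, X a scheme proper over Spec A, F a coherent O_X-module flat over Spec A and n ≥ 0 such that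
H^(n+1)(X_y, F_y) = 0, where X_y is the closed fibre and F_y the restriction of F to it. Then for
every p ≥ 0 the canonical map H^n(X, F) → H^n(X, F/m^(p+1)F) is surjective. (For a general locally
Noetherian base the published statement is about the stalk of R^n f_* F at a point; over the local
ring of that point this is the module H^n(X, F) used here.) -/
theorem result (A : Type u) [CommRing A] [IsNoetherianRing A]
    [IsLocalRing A] (X : Scheme.{u}) [X.Over (Spec (CommRingCat.of A))]
    [IsProper (X ↘ Spec (CommRingCat.of A))] (F : X.Modules) (hF : Coh.IsCoh F)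
    (hfl : FlatMod.IsFlatOver (X ↘ Spec (CommRingCat.of A)) F) (n : ℕ)
    (hvan : Subsingleton (CohIII.fiberH (X ↘ Spec (CommRingCat.of A)) F (IsLocalRing.closedPoint A) (n + 1)))
    (p : ℕ) :
    Function.Surjective (Formal.toHHmodPow (IsLocalRing.maximalIdeal A) F n p) := by
  obtain ⟨D⟩ := CohBC.nonempty_perfData F hF hfl
  have : IsLocallyNoetherian X :=
    LocallyOfFiniteType.isLocallyNoetherian (X ↘ Spec (CommRingCat.of A))
  let y : ↥(Spec (CommRingCat.of A)) := IsLocalRing.closedPoint A
  have h0 := D.isZero_T_residue hfl y (n + 1) hvan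
  have hz : ∀ M, CategoryTheory.Limits.IsZero (CohIII.T D.P (-((n + 1 : ℕ) : ℤ)) M) :=
    (CohBC.flat_and_isZero_of_fibres D.P D.finite_flat_P _ (-((n + 1 : ℕ) : ℤ) - 1) (by omega)
      fun m hm => by
        obtain rfl := IsLocalRing.eq_maximalIdeal hm
        have hy : y.asIdeal = IsLocalRing.maximalIdeal A := rfl
        exact h0.of_iso ((CohIII.TFun D.P _).mapIso (X := ModuleCat.of A (A ⧸ y.asIdeal))
          (AlgEquiv.ofBijective (IsScalarTower.toAlgHom A (A ⧸ IsLocalRing.maximalIdeal A) (IsLocalRing.maximalIdeal A).ResidueField)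
            (Ideal.bijective_algebraMap_quotient_residueField (IsLocalRing.maximalIdeal A))).toLinearEquiv.toModuleIso)).2
  have hmono := preservesMono_of_isZero (P := D.P) (-((n + 1 : ℕ) : ℤ)) hz
  have hepi : (CohIII.TFun D.P (-(n : ℤ))).PreservesEpimorphisms :=
    (preservesEpi_iff_flat (-(n : ℤ)) (-((n + 1 : ℕ) : ℤ)) D.flat_P (by omega)).2
      ((preservesMono_iff_flat (-(n : ℤ)) (-((n + 1 : ℕ) : ℤ)) D.flat_P (by omega)).1 hmono)
  have := D.finite
  refine CohBC.surjective_toModPow hF (IsLocalRing.maximalIdeal A) (p + 1) D.W D.hW D.hcov n ?_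
  let g : ModuleCat.of A A ⟶ ModuleCat.of A (A ⧸ (IsLocalRing.maximalIdeal A ^ (p + 1))) :=
    ModuleCat.ofHom (Algebra.linearMap A _)
  have : Epi g := (ModuleCat.epi_iff_surjective _).2 Ideal.Quotient.mk_surjective
  have h2 := @Functor.map_epi _ _ _ _ (CohIII.TFun D.P (-(n : ℤ))) hepi _ _ g ‹_›
  refine (ModuleCat.epi_iff_surjective _).1 ?_
  exact ((MorphismProperty.epimorphisms (ModuleCat.{u} A)).arrow_mk_iso_iff
    (Arrow.isoMk ((D.tIso n).app _) ((D.tIso n).app _) ((D.tIso n).hom.naturality g).symm)).2 h2

end Groth.Agent.S4462
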