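import Groth.Statements.S4464
import Groth.Agent.Coherent.UnibranchCount

set_option autoImplicit false
universe u
open Coherent

namespace Groth.Agent.S4464

open AlgebraicGeometry CategoryTheory in
/-- Let X and Y be locally Noetherian integral schemes, f : X → Y a proper dominant morphism, and
suppose that the algebraic closure of the function field R(Y) in R(X) is purely inseparable over
R(Y): every element of R(X) satisfying a nonzero polynomial over R(Y) has a p^e-th power coming from
R(Y), p being the characteristic exponent. Then for every point y of Y whose local ring is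
unibranch, the fibre X_y is connected and nonempty. -/
theorem result {X Y : Scheme.{u}} [IsIntegral X]
    [IsIntegral Y] [IsLocallyNoetherian X] [IsLocallyNoetherian Y] (f : X ⟶ Y) [IsProper f]
    (hdom : f.base (genericPoint X) ⤳ genericPoint Y)
    (hrad : ∀ x : X.functionField,
      (∃ q : Polynomial Y.functionField, q ≠ 0 ∧
        Polynomial.eval₂ (CohIII.stalkToFunctionField f (genericPoint Y) hdom) x q = 0) →
      ∃ e : ℕ, x ^ (ringExpChar X.functionField ^ e) ∈
        Set.range (CohIII.stalkToFunctionField f (genericPoint Y) hdom))
    (y : Y) (hy : CAlg2.IsUnibranch (Y.presheaf.stalk y)) :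
    ConnectedSpace ↥(f.fiber y) := by
  let _ : Algebra Y.functionField X.functionField :=
    (CohIII.stalkToFunctionField f (genericPoint Y) hdom).toAlgebra
  let L := algebraicClosure Y.functionField X.functionField
  have : Algebra.IsAlgebraic Y.functionField L := algebraicClosure.isAlgebraic _ _
  have : ExpChar Y.functionField (ringExpChar X.functionField) := by
    have := expChar_of_injective_ringHom (algebraMap Y.functionField X.functionField).injective
      (ringExpChar Y.functionField)
    rw [ringExpChar.eq X.functionField (ringExpChar Y.functionField)]
    infer_instance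
  have : IsPurelyInseparable Y.functionField L := by
    rw [isPurelyInseparable_iff_pow_mem Y.functionField (ringExpChar X.functionField)]
    intro x
    obtain ⟨q, hq0, hq⟩ := (mem_algebraicClosure_iff.mp x.2 : IsAlgebraic Y.functionField x.1)
    obtain ⟨e, c, hc⟩ := hrad x.1 ⟨q, hq0, hq⟩
    exact ⟨e, c, Subtype.ext hc⟩
  have h1 := IsPurelyInseparable.finSepDegree_eq_one Y.functionField L
  rw [Field.finSepDegree_eq_of_isAlgClosed _ _ (AlgebraicClosure Y.functionField)] at h1
  have hsub := (Nat.card_eq_one_iff_unique.mp h1).1
  obtain ⟨g, hg⟩ := Coherent.exists_components_to_emb f hdom rfl y hy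
  have : Subsingleton (_root_.ConnectedComponents ↥(f.fiber y)) := hg.subsingleton
  have : Nonempty ↥(f.fiber y) := Coherent.nonempty_fiber_of_dominant f hdom y
  refine connectedSpace_iff_connectedComponent.mpr ⟨Classical.arbitrary _, ?_⟩
  refine Set.eq_univ_iff_forall.mpr fun x => ?_
  have e : (x : _root_.ConnectedComponents ↥(f.fiber y)) =
      (Classical.arbitrary ↥(f.fiber y) : ↥(f.fiber y)) := Subsingleton.elim _ _
  rw [← ConnectedComponents.coe_eq_coe.mp e]
  exact mem_connectedComponent

end Groth.Agent.S4464
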