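import Groth.Prelude.Def_CohB1
import Groth.Prelude.Def_BlowUp2
import Groth.Agent.BlowUpLib.Birational
import Groth.Agent.RelVALib.PnImm
import Groth.Agent.Coherent.ProjSpaceBase
import Groth.Agent.Coherent.ProjSpaceFinite
-- Template for statement S4468 (row 4467; see the milestone table for weights).
-- Copy to Groth/Agent/S4468.lean and replace the sorry. The statement below is byte-identical to the frozen
-- statement Coherent.GrothFrozen.S4468 (Groth/Statements/S4468.lean; the theorem Coherent.birational_projective_isBlowUp);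
-- the grader kernel-checks Groth.Agent.S4468.result against that frozen type. Keep the theorem IN THIS FILE
-- (a `result` declared elsewhere and merely imported here is not credited); helpers may live anywhere
-- under Groth/Agent/.
-- import your own Groth.Agent.* helpers here

set_option autoImplicit false
universe u
open Coherent

namespace Groth.Agent.S4468

open AlgebraicGeometry CategoryTheory in
set_option backward.isDefEq.respectTransparency.types false in
set_option maxHeartbeats 1000000 in
/-- Let k be a field, X and Y integral schemes projective over k (given with closed immersions into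
projective spaces over k) and f : X → Y a birational k-morphism (it sends the generic point of X to
that of Y and induces a bijection between the function fields). Then X is Y-isomorphic to the
blow-up of Y in a closed subscheme: there is a quasi-coherent ideal sheaf I on Y such that f is a
blowing up of Y in I (universal property of the blow-up). -/
theorem result (k : Type u) [Field k] {X Y : Scheme.{u}} [IsIntegral X] [IsIntegral Y]
    (a b : ℕ) (iX : X ⟶ CohB1.ProjSpace a k) [IsClosedImmersion iX] (iY : Y ⟶ CohB1.ProjSpace b k)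
    [IsClosedImmersion iY] (f : X ⟶ Y)
    (hk : f ≫ iY ≫ CohB1.ProjSpace.toSpec b k = iX ≫ CohB1.ProjSpace.toSpec a k)
    (hgen : f.base (genericPoint X) = genericPoint Y)
    (hbir : Function.Bijective (f.residueFieldMap (genericPoint X)).hom) :
    ∃ I : Y.IdealSheafData, BlowUp.IsBlowUp f I := by
  classical
  letI : Algebra (ULift.{u} ℤ) k := ((algebraMap ℤ k).comp ULift.ringEquiv.toRingHom).toAlgebra
  haveI := Coherent.isProper_projSpace_toSpec (n := a) (R := k)
  haveI := Coherent.isProper_projSpace_toSpec (n := b) (R := k)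
  have hP : CohB1.IsAmple (Twist.twistProjSpace b k 1) :=
    TwistLib.G.isAmple_twist_one (𝒜 := CohB1.polyGrading b k)
      (Finset.univ.image MvPolynomial.X) (by
        intro g hg
        obtain ⟨j, -, rfl⟩ := Finset.mem_image.1 hg
        exact MvPolynomial.isHomogeneous_X _ j)
      (by
        rw [Finset.coe_image, Finset.coe_univ, Set.image_univ]
        refine le_antisymm (ProjLib.irrelevant_le_span_X b _) (Ideal.span_le.2 ?_)
        rintro _ ⟨j, rfl⟩
        exact HomogeneousIdeal.mem_irrelevant_of_mem (CohB1.polyGrading b _) Nat.one_pos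
          (MvPolynomial.isHomogeneous_X _ j))
  have hM := AmpleLib.isAmple_pullback_of_isAffineHom iY hP
  let pz : CohB1.ProjSpace a k ⟶ CohB1.ProjSpace a (ULift.{u} ℤ) := Proj.map (Coherent.polyGradedMap a (ULift.{u} ℤ) k) (Coherent.polyGradedMap_irrelevant a (ULift.{u} ℤ) k)
  have sq := Coherent.isPullback_projSpace a (ULift.{u} ℤ) k
  obtain ⟨i, hi1, hi2⟩ : ∃ i : X ⟶ CohB1.ProjSpaceOver a Y,
      i ≫ Limits.pullback.fst _ _ = iX ≫ pz ∧ i ≫ Limits.pullback.snd _ _ = f :=
    ⟨Limits.pullback.lift (iX ≫ pz) f (specULiftZIsTerminal.hom_ext _ _), Limits.pullback.lift_fst _ _ _,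
      Limits.pullback.lift_snd _ _ _⟩
  let q : CohB1.ProjSpaceOver a Y ⟶ CohB1.ProjSpace a k :=
    sq.lift (Limits.pullback.fst (CohB1.ProjSpace.toSpec a (ULift.{u} ℤ)) (specULiftZIsTerminal.from Y))
      (CohB1.ProjSpaceOver.toBase a Y ≫ iY ≫ CohB1.ProjSpace.toSpec b k) (specULiftZIsTerminal.hom_ext _ _)
  have hiq : i ≫ q = iX := by
    refine sq.hom_ext ?_ ?_
    · exact (Category.assoc i q _).trans ((congrArg (i ≫ ·) (sq.lift_fst _ _ _)).trans hi1)
    · refine (Category.assoc i q _).trans ((congrArg (i ≫ ·) (sq.lift_snd _ _ _)).trans ?_)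
      exact ((Category.assoc _ _ _).symm.trans (congrArg (· ≫ _) hi2)).trans hk
  haveI := RelVALib.isProper_toBase a Y
  haveI : IsSeparated (q ≫ CohB1.ProjSpace.toSpec a k) := by
    exact (sq.lift_snd _ _ (specULiftZIsTerminal.hom_ext _ _)).symm ▸ (inferInstance : IsSeparated
      (CohB1.ProjSpaceOver.toBase a Y ≫ iY ≫ CohB1.ProjSpace.toSpec b k))
  haveI : IsSeparated q := IsSeparated.of_comp q (CohB1.ProjSpace.toSpec a k)
  haveI : IsClosedImmersion (i ≫ q) := hiq.symm ▸ ‹IsClosedImmersion iX›
  haveI : IsClosedImmersion i := IsClosedImmersion.of_comp i q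
  subst hi2
  refine BlowUpLib.Birat.exists_isBlowUp_of_birational i hM hgen fun r => ?_
  obtain ⟨σ, hσ⟩ := hbir.2 ((X.residue (genericPoint X)).hom r)
  obtain ⟨τ, rfl⟩ := Y.residue_surjective ((BlowUpLib.Birat.toX i) (genericPoint X)) σ
  refine ⟨τ, ?_⟩
  have h : (X.residue (genericPoint X)).hom (((BlowUpLib.Birat.toX i).stalkMap (genericPoint X)).hom τ) = (X.residue (genericPoint X)).hom r :=
    (ConcreteCategory.congr_hom (Scheme.residue_residueFieldMap (BlowUpLib.Birat.toX i) (genericPoint X)) τ).symm.trans hσ
  have hbi := IsLocalRing.isField_iff_maximalIdeal_eq.1 (Field.toIsField X.functionField)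
  refine sub_eq_zero.1 ?_
  have := (IsLocalRing.residue_eq_zero_iff _).1 ((map_sub (X.residue (genericPoint X)).hom _ _).trans (sub_eq_zero.2 h))
  rw [hbi] at this
  exact this

end Groth.Agent.S4468
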