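import Groth.Statements.S4471
import Groth.Agent.Coherent.ProjSpaceBC
import Groth.Agent.Coherent.RpushVanish
import Groth.Agent.Coherent.RpushStalk

set_option autoImplicit false
set_option backward.isDefEq.respectTransparency false
universe u
open Coherent

namespace Groth.Agent.S4471

open AlgebraicGeometry CategoryTheory in
/-- The case of the trivial bundle of rank r+1, i.e. projective r-space over Y; vanishing assertion. Let
Y be a scheme, r ≥ 0, f : P^r_Y → Y the structure morphism and d an integer. Then R^i f_* O(d) = 0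
(higher direct image of the underlying abelian sheaf of the twisting sheaf) except possibly when i =
0 and d ≥ 0, or i = r and d ≤ -(r+1). -/
theorem result (Y : Scheme.{u}) (r : ℕ) (i : ℕ) (d : ℤ)
    (h : ¬ ((i = 0 ∧ 0 ≤ d) ∨ (i = r ∧ d ≤ -((r : ℤ) + 1)))) :
    Limits.IsZero ((Coh.RpushAb (CohB1.ProjSpaceOver.toBase r Y) i).obj (Coh.toAb (Twist.twistOver r Y d))) := by
  have h₁ := h
  refine Coherent.isZero_rpushAb_of_basis (CohB1.ProjSpaceOver.toBase r Y) {V | IsAffineOpen V}
    Y.isBasis_affineOpens _ i fun V hV => ?_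
  replace hV : IsAffineOpen V := hV
  let f := CohB1.ProjSpaceOver.toBase r Y
  let A := Γ(Y, V)
  let P : Scheme.{u} := (f ⁻¹ᵁ V).toScheme
  letI : P.Over (Spec (CommRingCat.of A)) := ⟨Coherent.toSpecSections f hV⟩
  let φ : ULift.{u} ℤ →+* A := (Int.castRingHom A).comp (ULift.ringEquiv : ULift.{u} ℤ ≃+* ℤ).toRingHom
  let g : P ⟶ CohB1.ProjSpace r (ULift.{u} ℤ) := (f ⁻¹ᵁ V).ι ≫ Limits.pullback.fst _ _
  have hfac : hV.fromSpec ≫ specULiftZIsTerminal.from Y = Spec.map (CommRingCat.ofHom φ) :=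
    specULiftZIsTerminal.hom_ext _ _
  have h : IsPullback g (P ↘ Spec (CommRingCat.of A))
      (CohB1.ProjSpace r (ULift.{u} ℤ) ↘ Spec (CommRingCat.of (ULift.{u} ℤ)))
      (Spec.map (CommRingCat.ofHom φ)) := by
    rw [← hfac]
    exact (Coherent.isPullback_toSpecSections f hV).paste_horiz
      (IsPullback.of_hasPullback (CohB1.ProjSpace.toSpec r (ULift.{u} ℤ)) (specULiftZIsTerminal.from Y))
  have hss := Coherent.subsingleton_HH_twist_bc r d (ULift.{u} ℤ) φ h i (fun hh => h₁ (Or.inl hh)) (fun hh => h₁ (Or.inr hh))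
  let M := Twist.twistOver r Y d
  let e : (Scheme.Modules.pullback g).obj (Twist.twistProjSpace r (ULift.{u} ℤ) d) ≅
      M.restrict (f ⁻¹ᵁ V).ι :=
    ((Scheme.Modules.pullbackComp (f ⁻¹ᵁ V).ι (Limits.pullback.fst _ _)).app _).symm ≪≫
      (AmpleLib.restrictIsoPullback (f ⁻¹ᵁ V).ι M).symm
  have h1 := Coherent.subsingleton_H'_of_iso e i ⊤
    (@Equiv.subsingleton _ _ (Coherent.HHTopEquiv _ i).toEquiv.symm hss)
  exact @Equiv.subsingleton _ _ ((Coherent.H'ModRestrictEquiv (f ⁻¹ᵁ V).ι M ⊤ i).trans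
    (Coherent.H'Congr (Coh.toAb M) i (Scheme.Opens.ι_image_top _))).symm.toEquiv h1

end Groth.Agent.S4471
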