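import Groth.Statements.S4472
import Groth.Agent.S4464
import Groth.Agent.ProjLib.BlowUpBasics
import Groth.Agent.BlowUpLib.Proper
import Groth.Agent.Coherent.BiratCodimTwo

set_option autoImplicit false
universe u
open Coherent

namespace Groth.Agent.S4472

/-- Being unibranch is invariant under isomorphisms of local domains. -/
theorem isUnibranch_of_ringEquiv {A B : Type u} [CommRing A] [IsDomain A] [IsLocalRing A]
    [CommRing B] [IsDomain B] [IsLocalRing B] (e : A ≃+* B) (hA : CAlg2.IsUnibranch A) :
    CAlg2.IsUnibranch B := by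
  let e' : A ≃+* CAlg2.red B :=
    e.trans ((Ideal.quotEquivOfEq (nilradical_eq_zero B)).trans (RingEquiv.quotientBot B)).symm
  have : IsDomain (CAlg2.red B) := e'.symm.injective.isDomain e'.symm.toRingHom
  refine ⟨this, ?_⟩
  let K := FractionRing (CAlg2.red B)
  let _ : Algebra A K := ((algebraMap (CAlg2.red B) K).comp e'.toRingHom).toAlgebra
  have : IsFractionRing A K := by
    have h := IsLocalization.isLocalization_of_base_ringEquiv (nonZeroDivisors (CAlg2.red B)) K e'.symm
    rw [MulEquivClass.map_nonZeroDivisors] at h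
    exact h
  have hloc := Coherent.isLocalRing_integralClosure_of_isUnibranch A K hA
  let φ : integralClosure A K →+* CAlg2.normRed B :=
    (Subalgebra.val (integralClosure A K)).toRingHom.codRestrict
      (integralClosure (CAlg2.red B) K).toSubring fun x => by
        obtain ⟨p, hp, hpx⟩ := x.2
        refine ⟨p.map e'.toRingHom, hp.map _, ?_⟩
        rw [Polynomial.eval₂_map]
        exact hpx
  refine IsLocalRing.of_surjective' φ fun y => ?_
  obtain ⟨p, hp, hpy⟩ := y.2
  refine ⟨⟨y.1, p.map e'.symm.toRingHom, hp.map _, ?_⟩, rfl⟩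
  rw [Polynomial.eval₂_map]
  have : (algebraMap A K).comp e'.symm.toRingHom = algebraMap (CAlg2.red B) K :=
    RingHom.ext fun z => congrArg (algebraMap (CAlg2.red B) K) (e'.apply_symm_apply z)
  rw [this]
  exact hpy

open AlgebraicGeometry CategoryTheory in
/-- Let A be a unibranch Noetherian local domain (a local domain whose integral closure is a local ring)
with maximal ideal m, let 𝔞 be an ideal of definition of A (𝔞 ⊆ m and m^p ⊆ 𝔞 for some p), and let b
: X → Spec A be a blowing up of Spec A in the ideal sheaf defined by 𝔞. Then the fibre of b over the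
closed point is preconnected. Its underlying space is that of Proj of the associated graded ring ⊕
𝔞^i/𝔞^(i+1), so this says that Proj is connected (possibly empty). -/
theorem result (A : Type u) [CommRing A] [IsDomain A]
    [IsNoetherianRing A] [IsLocalRing A] (hA : CAlg2.IsUnibranch A) (𝔞 : Ideal A)
    (hle : 𝔞 ≤ IsLocalRing.maximalIdeal A)
    (hpow : ∃ p : ℕ, IsLocalRing.maximalIdeal A ^ p ≤ 𝔞) {X : Scheme.{u}}
    (b : X ⟶ Spec (CommRingCat.of A))
    (hb : BlowUp.IsBlowUp b
      (Scheme.IdealSheafData.ofIdealTop (𝔞.map (Scheme.ΓSpecIso (CommRingCat.of A)).inv.hom))) :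
    PreconnectedSpace ↥(b.fiber (IsLocalRing.closedPoint A)) := by
  let I := Scheme.IdealSheafData.ofIdealTop (𝔞.map (Scheme.ΓSpecIso (CommRingCat.of A)).inv.hom)
  let S := Spec (CommRingCat.of A)
  have : IsNoetherianRing (CommRingCat.of A : Type u) := ‹IsNoetherianRing A›
  have : IsDomain (CommRingCat.of A : Type u) := ‹IsDomain A›
  have : IsLocallyNoetherian S := inferInstance
  have hI : BlowUp.IsFiniteTypeIdeal I := fun U => by
    have : IsNoetherianRing Γ(S, U.1) := IsLocallyNoetherian.component_noetherian U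
    exact IsNoetherian.noetherian _
  have : IsProper b := BlowUpLib.isProper_of_isBlowUp (I := I) hb hI
  have : IsLocallyNoetherian X := LocallyOfFiniteType.isLocallyNoetherian b
  let W : S.Opens := ⟨(I.support : Set S)ᶜ, I.support.isClosed.isOpen_compl⟩
  have : AlgebraicGeometry.IsNoetherian S := {}
  have : CompactSpace X := QuasiCompact.compactSpace_of_compactSpace b
  have : AlgebraicGeometry.IsNoetherian X := {}
  have hiso : IsIso (b ∣_ W) := ProjLib.isIso_morphismRestrict (I := I) hb W disjoint_compl_right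
  have hdom : IsSchemeTheoreticallyDominant (b ⁻¹ᵁ W).ι := by
    refine ProjLib.isSchemeTheoreticallyDominant_compl_effCartier hb.1 _ ?_
    rw [Scheme.IdealSheafData.support_comap]
    exact subset_rfl
  have hdense : DenseRange (b ⁻¹ᵁ W).ι := (b ⁻¹ᵁ W).ι.denseRange
  rcases (W : Set S).eq_empty_or_nonempty with hW | hW
  · have : IsEmpty X := by
      refine ⟨fun x => ?_⟩
      have hx := hdense x
      rw [Scheme.Opens.range_ι] at hx
      have : ((b ⁻¹ᵁ W : X.Opens) : Set X) = ∅ := by
        show b ⁻¹' (W : Set S) = ∅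
        rw [hW, Set.preimage_empty]
      rw [this, closure_empty] at hx
      exact hx
    have : IsEmpty ↥(b.fiber (IsLocalRing.closedPoint A)) := ⟨fun z => this.false (b.fiberι _ z)⟩
    exact ⟨Set.Subsingleton.isPreconnected fun z => (IsEmpty.false z).elim⟩
  have : Nonempty (W : Scheme.{u}) := ⟨⟨hW.choose, hW.choose_spec⟩⟩
  have : Nonempty ↥(W : S.Opens) := ⟨⟨hW.choose, hW.choose_spec⟩⟩
  have : AlgebraicGeometry.IsIntegral (W : Scheme.{u}) := isIntegral_of_isOpenImmersion W.ι
  have : AlgebraicGeometry.IsIntegral (b ⁻¹ᵁ W : Scheme.{u}) := by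
    have : Nonempty (b ⁻¹ᵁ W : Scheme.{u}) := ⟨(inv (b ∣_ W)) (Classical.arbitrary _)⟩
    exact isIntegral_of_isOpenImmersion (b ∣_ W)
  have : IsReduced X := IsSchemeTheoreticallyDominant.isReduced (b ⁻¹ᵁ W).ι
  have : IrreducibleSpace X := by
    rw [irreducibleSpace_def, Set.top_eq_univ, ← hdense.closure_eq]
    exact ((IrreducibleSpace.isIrreducible_univ (b ⁻¹ᵁ W : Scheme.{u})).image _
      (b ⁻¹ᵁ W).ι.continuous.continuousOn |>.closure |> fun h => by rwa [Set.image_univ] at h)
  have : AlgebraicGeometry.IsIntegral X := isIntegral_of_irreducibleSpace_of_isReduced X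
  obtain ⟨hξ, hbij⟩ := Coherent.birational_of_isIso_morphismRestrict b W hW
  have hd : b.base (genericPoint X) ⤳ genericPoint S := specializes_of_eq hξ
  have hrad : ∀ x : X.functionField, (∃ q : Polynomial S.functionField, q ≠ 0 ∧
      Polynomial.eval₂ (CohIII.stalkToFunctionField b (genericPoint S) hd) x q = 0) →
      ∃ e : ℕ, x ^ (ringExpChar X.functionField ^ e) ∈
        Set.range (CohIII.stalkToFunctionField b (genericPoint S) hd) := fun x _ => by
    refine ⟨0, ?_⟩
    rw [pow_zero, pow_one]
    obtain ⟨t, ht⟩ := hbij.2 x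
    refine ⟨(S.presheaf.stalkSpecializes (specializes_of_eq hξ.symm)).hom t, ?_⟩
    show b.stalkMap _ (S.presheaf.stalkSpecializes hd
      (S.presheaf.stalkSpecializes (specializes_of_eq hξ.symm) t)) = x
    refine Eq.trans (congrArg (b.stalkMap (genericPoint X)) ?_) ht
    rw [← CommRingCat.comp_apply, TopCat.Presheaf.stalkSpecializes_comp,
      TopCat.Presheaf.stalkSpecializes_refl, CommRingCat.id_apply]
  let y : S := IsLocalRing.closedPoint A
  have : IsDomain (S.presheaf.stalk y) := inferInstance
  have hy : CAlg2.IsUnibranch (S.presheaf.stalk y) :=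
    isUnibranch_of_ringEquiv (stalkClosedPointIso (CommRingCat.of A)).commRingCatIsoToRingEquiv.symm hA
  have := S4464.result b hd hrad y hy
  exact ConnectedSpace.toPreconnectedSpace

end Groth.Agent.S4472
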