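import Groth.Statements.S4474
import Groth.Agent.AmpleLib.CounitEpi
import Groth.Agent.S4383

set_option autoImplicit false
universe u
open Coherent

open Groth.Agent.AmpleLib Groth.Agent.PicLib Groth.Agent.Coherent

namespace Groth.Agent.S4474

open AlgebraicGeometry CategoryTheory CategoryTheory.Limits in
/-- Let Y be a Noetherian scheme, f : X → Y a proper morphism, L an invertible O_X-module which is ample
relative to f, and F a coherent O_X-module. Then there is an integer N such that for every n ≥ N the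
canonical morphism f^* f_* (F(n)) → F(n), the counit of the adjunction between f^* and f_*, is an
epimorphism, where F(n) = F ⊗ L^{⊗ n}. -/
theorem result {X Y : Scheme.{u}} (f : X ⟶ Y) [IsNoetherian Y] [IsProper f]
    (L : X.Modules) (hL : PicF.IsInvertible L) (hamp : RelAmple.IsRelAmple f L) (F : X.Modules)
    (hF : Coh.IsCoh F) :
    ∃ N : ℕ, ∀ n : ℕ, N ≤ n →
      Epi ((Scheme.Modules.pullbackPushforwardAdjunction f).counit.app
        (CohB1.tensorMod F (CohB1.tensorPow L n))) := by
  classical
  have : IsLocallyNoetherian X := LocallyOfFiniteType.isLocallyNoetherian f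
  have : CompactSpace X := QuasiCompact.compactSpace_of_compactSpace f
  rw [isRelAmple_iff] at hamp
  obtain ⟨t, ht⟩ := isCompact_univ.elim_finite_subcover
    (fun V : Y.affineOpens => ((f ⁻¹ᵁ V.1 : X.Opens) : Set X))
    (fun V => (f ⁻¹ᵁ V.1).2) fun x _ => by
      obtain ⟨V, hV, hxV, -⟩ := exists_isAffineOpen_mem_and_subset (x := f x) (U := ⊤) trivial
      exact Set.mem_iUnion.2 ⟨⟨V, hV⟩, hxV⟩
  have key : ∀ V : Y.affineOpens, ∃ N : ℕ, ∀ n, N ≤ n → Curv2.IsGloballyGenerated
      ((CohB1.tensorMod F (CohB1.tensorPow L n)).restrict (f ⁻¹ᵁ V.1).ι) := fun V => by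
    let P := f ⁻¹ᵁ V.1
    have : IsAffine V.1.toScheme := V.2
    have : P.toScheme.IsSeparated := ⟨by
      rw [← terminal.comp_from (f ∣_ V.1)]; infer_instance⟩
    have hA := hamp.2 V
    obtain ⟨N, hN⟩ := eventually_globallyGenerated hA _ (isCoh_restrict P.ι F hF)
    refine ⟨N, fun n hn => ?_⟩
    have := isIso_restrictTensorHom P.ι F (CohB1.tensorPow L n) (isInvertible_tensorPow hL n)
    obtain ⟨e, -⟩ := exists_pullPowIso P.ι hL n
    exact globallyGenerated_of_iso
      (tensorIso (Iso.refl _) (e.symm ≪≫ (restrictIsoPullback P.ι _).symm) ≪≫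
        asIso (restrictTensorHom P.ι F _))
      (hN n hn)
  choose N hN using key
  refine ⟨t.sup N, fun n hn => epi_counit_of_globallyGenerated f _ fun x => ?_⟩
  obtain ⟨V, hVt, hxV⟩ := Set.mem_iUnion₂.1 (ht (Set.mem_univ x))
  exact ⟨V.1, hxV, hN V n ((Finset.le_sup hVt).trans hn)⟩

end Groth.Agent.S4474
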