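import Groth.Statements.S4476
import Groth.Agent.Coherent.CohBC.HomLift
import Groth.Agent.Coherent.CohBC.ClosedFibreMono

set_option autoImplicit false
universe u
attribute [local instance] HasDerivedCategory.standard
open Coherent Groth.Agent Groth.Agent.Coherent

namespace Groth.Agent.S4476

open AlgebraicGeometry CategoryTheory in
/-- Over a local base. Let A be a Noetherian local ring with closed point y, X a scheme proper and flat
over Spec A, F and G finite locally free O_X-modules and F_y, G_y their restrictions (module
pullbacks) to the closed fibre X_y. Assume that the internal Hom functor Hom(F_y, −) exists as the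
right adjoint of F_y ⊗ − and that H^1(X_y, Hom(F_y, G_y)) = 0. Then every morphism u₀ : F_y → G_y is
the restriction to X_y of a morphism u : F → G; moreover for every such u, if u₀ is a monomorphism
(resp. an epimorphism) then u is a monomorphism (resp. an epimorphism). (Over a general locally
Noetherian base the published statements give u on the inverse image of a neighbourhood of y; over
the spectrum of a local ring that neighbourhood is the whole base.) -/
theorem result (A : Type u) [CommRing A] [IsNoetherianRing A]
    [IsLocalRing A] (X : Scheme.{u}) [X.Over (Spec (CommRingCat.of A))]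
    [IsProper (X ↘ Spec (CommRingCat.of A))] [Flat (X ↘ Spec (CommRingCat.of A))]
    (F G : X.Modules) (hF : FlatMod.IsFinLocFree F) (hG : FlatMod.IsFinLocFree G)
    [DCoh.HasSheafHom (CohIII.fiberMod (X ↘ Spec (CommRingCat.of A)) F (IsLocalRing.closedPoint A))]
    (h1 : Subsingleton (Coh.HH ((X ↘ Spec (CommRingCat.of A)).fiber (IsLocalRing.closedPoint A))
      ((DCoh.sheafHom (CohIII.fiberMod (X ↘ Spec (CommRingCat.of A)) F (IsLocalRing.closedPoint A))).obj
        (CohIII.fiberMod (X ↘ Spec (CommRingCat.of A)) G (IsLocalRing.closedPoint A))) 1))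
    (u₀ : CohIII.fiberMod (X ↘ Spec (CommRingCat.of A)) F (IsLocalRing.closedPoint A) ⟶
      CohIII.fiberMod (X ↘ Spec (CommRingCat.of A)) G (IsLocalRing.closedPoint A)) :
    (∃ u : F ⟶ G,
      (Scheme.Modules.pullback ((X ↘ Spec (CommRingCat.of A)).fiberι (IsLocalRing.closedPoint A))).map u = u₀) ∧
    ∀ u : F ⟶ G,
      (Scheme.Modules.pullback ((X ↘ Spec (CommRingCat.of A)).fiberι (IsLocalRing.closedPoint A))).map u = u₀ →
        (Mono u₀ → Mono u) ∧ (Epi u₀ → Epi u) := by
  let f := X ↘ Spec (CommRingCat.of A)
  let y := IsLocalRing.closedPoint A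
  let _ : (f.fiber y).Over (Spec (CommRingCat.of ((Spec (CommRingCat.of A)).residueField y))) :=
    CohIII.fiberOver f y
  have hy : ∀ U : (Spec (CommRingCat.of A)).Opens, y ∈ U → U = ⊤ :=
    fun U hU => IsLocalRing.closedPoint_mem_iff U |>.1 hU
  have hqF := CAlgH3.LocFreeFactor.isQCoh_of_finLocFree hF
  have hqG := CAlgH3.LocFreeFactor.isQCoh_of_finLocFree hG
  constructor
  · obtain ⟨U, hyU, t, ht⟩ := CohBC.exists_lift_hom f hF hG y
      ((HHCongr ((Spec (CommRingCat.of A)).residueField y)
        ((sheafHomIso (CohIII.fiberMod f F y)).app (CohIII.fiberMod f G y)).symm 1).toEquiv.subsingleton) u₀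
    obtain rfl := hy U hyU
    refine ⟨CohBC.homOfSec (show Γ(internalHom F G, (⊤ : X.Opens)) from t),
      RelVALib.hom_ext_pullSec _ _ _ fun V _ a => ?_⟩
    rw [DCat.PullTensor.pullback_map_pullSec]
    exact ht V le_top a
  · intro u hu
    subst hu
    exact ⟨fun _ => CohBC.mono_of_mono_closedFibre u f hF hG hy (CohBC.isFlatOver_of_isFinLocFree f hG),
      fun _ => CohBC.epi_of_epi_closedFibre u f hG hy⟩

end Groth.Agent.S4476
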