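import Groth.Statements.S4479
import Groth.Agent.Misc15.GradedCech
-- import your own Groth.Agent.* helpers here

set_option autoImplicit false
universe u
open Koszul3

open Groth.Agent
namespace Groth.Agent.S4479

open AlgebraicGeometry CategoryTheory in
/-- For a graded module concentrated in nonnegative degrees. Let S be a nonnegatively graded ring, f_1,
…, f_r homogeneous elements of S of positive degrees, M a graded S-module, X = Proj S and U ⊆ X the
union of the opens D_+(f_i). Then for every p ≥ 1 the direct sum over all integers n of the groups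
H^p(U, M(n)~|_U) is isomorphic, as an additive group, to the direct-limit Koszul cohomology
H^(p+1)((f), M), the colimit over m of the Koszul cohomologies H^(p+1)(f^m, M) of M as an S-module.
(The source's isomorphism is canonical and of degree 0 for the gradings; only the existence of an
additive isomorphism is asserted.) -/
theorem result {R A : Type u} [CommRing R] [CommRing A]
    [Algebra R A] (𝒜 : ℕ → Submodule R A) [GradedAlgebra 𝒜] (fs : List A)
    (hfs : ∀ a ∈ fs, ∃ d : ℕ, 0 < d ∧ a ∈ 𝒜 d) {M : Type u} [AddCommGroup M] [Module R M] [Module A M]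
    [IsScalarTower R A M] (ℳ : ℕ → Submodule R M) [DirectSum.Decomposition ℳ] [SetLike.GradedSMul 𝒜 ℳ]
    (p : ℕ) (hp : 1 ≤ p) :
    Nonempty (DirectSum ℤ (fun n : ℤ => Coh.HHon (Proj 𝒜) (GrTilde.tilde 𝒜 ℳ n)
        (⨆ i : Fin fs.length, Proj.basicOpen 𝒜 (fs.get i)) p) ≃+
      CohIII.koszulHLim fs (ModuleCat.of A M) (p + 1)) := by
  classical
  obtain ⟨q, rfl⟩ : ∃ q, p = q + 1 := ⟨p - 1, by omega⟩
  choose d hd using fun i : Fin fs.length => hfs (fs.get i) (List.get_mem fs i)
  let φ : MvPolynomial (Fin fs.length) (ULift.{u} ℤ) →+* A :=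
    MvPolynomial.eval₂Hom ((Int.castRingHom _).comp ULift.ringEquiv.toRingHom) fs.get
  let t : ULift.{u} (Fin fs.length) → CommRingCat.of (MvPolynomial (Fin fs.length) (ULift.{u} ℤ)) :=
    fun i => (MvPolynomial.X i.down : MvPolynomial (Fin fs.length) (ULift.{u} ℤ))
  let ts : List (CommRingCat.of (MvPolynomial (Fin fs.length) (ULift.{u} ℤ))) :=
    List.ofFn fun i : Fin fs.length => (MvPolynomial.X i : MvPolynomial (Fin fs.length) (ULift.{u} ℤ))
  have : IsNoetherianRing (ULift.{u} ℤ) := isNoetherianRing_of_ringEquiv ℤ ULift.ringEquiv.symm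
  have : IsNoetherianRing (CommRingCat.of (MvPolynomial (Fin fs.length) (ULift.{u} ℤ))) :=
    inferInstanceAs (IsNoetherianRing (MvPolynomial (Fin fs.length) (ULift.{u} ℤ)))
  have hφ : ∀ i, φ (t i) = fs.get i.down := fun i => MvPolynomial.eval₂_X _ _ _
  have hmap : ts.map φ = fs := by
    simp only [ts, List.map_ofFn]
    exact (List.ofFn_inj.2 (funext fun i => hφ ⟨i⟩)).trans (List.ofFn_get fs)
  have hfam : (fun i => Proj.basicOpen 𝒜 (φ (t i))) = fun i : ULift.{u} (Fin fs.length) => Proj.basicOpen 𝒜 (fs.get i.down) :=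
    funext fun i => by rw [hφ]
  have hU : (⨆ i, Proj.basicOpen 𝒜 (φ (t i))) = ⨆ i : Fin fs.length, Proj.basicOpen 𝒜 (fs.get i) := by
    rw [hfam]
    exact Equiv.ulift.iSup_congr fun _ => rfl
  have hmem : ∀ i, φ (t i) ∈ 𝒜 (d i.down) := fun i => by rw [hφ]; exact (hd i.down).2
  exact Misc15.Koszul.nonempty_graded_koszul ℳ φ ts (Misc15.Koszul.regPow_ofFn fs.length) fs hmap t
    (fun a => List.mem_ofFn.trans ⟨fun ⟨i, hi⟩ => ⟨⟨i⟩, hi⟩, fun ⟨i, hi⟩ => ⟨i.down, hi⟩⟩)
    (fun i => d i.down) (fun i => (hd i.down).1) hmem _ hU q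

end Groth.Agent.S4479
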