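import Groth.Statements.S4481
import Groth.Agent.Coherent.CechQcoh

set_option autoImplicit false
universe u
open Coherent

namespace Groth.Agent.S4481

open AlgebraicGeometry CategoryTheory Opposite in
/-- Let X be a separated scheme, f_1, …, f_n global functions on X such that every open X_{f_i} is
quasi-compact, U the union of the X_{f_i}, and suppose there are sections g_1, …, g_n of O_X over U
with Σ g_i · (f_i|_U) = 1. Then for every quasi-coherent O_X-module G and every p > 0 the Čech
cohomology group of G in degree p with respect to the family of opens (X_{f_i}) is zero. (The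
published statement also covers a scheme whose underlying space is Noetherian, not necessarily
separated; this row treats separated X.) -/
theorem result (X : Scheme.{u}) [X.IsSeparated] (n : ℕ)
    (f : Fin n → Γ(X, ⊤)) (hqc : ∀ i, IsCompact (X.basicOpen (f i) : Set X))
    (g : Fin n → Γ(X, ⨆ i, X.basicOpen (f i)))
    (hg : (Finset.univ.sum fun i => g i *
      (X.presheaf.map (homOfLE (le_top : (⨆ i, X.basicOpen (f i)) ≤ ⊤)).op).hom (f i)) = 1)
    (G : X.Modules) [Coh.IsQCoh G] (p : ℕ) (hp : 0 < p) :
    Limits.IsZero (CohB1.cechH (fun i : ULift.{u} (Fin n) => X.basicOpen (f i.down)) G p) := by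
  refine Groth.Agent.Coherent.isZero_cechH_of_span (fun i : ULift.{u} (Fin n) => f i.down)
    (⨆ i, X.basicOpen (f i)) (fun i => le_iSup (fun i => X.basicOpen (f i)) i.down) ?_ ?_ G p hp
  · rw [TopologicalSpace.Opens.coe_iSup]
    exact isCompact_iUnion hqc
  · let φ := (Scheme.Opens.topIso (⨆ i, X.basicOpen (f i))).inv.hom
    have h1 : φ 1 ∈ Ideal.map φ (Ideal.span (Set.range fun i =>
        X.presheaf.map (homOfLE (le_top : (⨆ i, X.basicOpen (f i)) ≤ ⊤)).op (f i))) := by
      refine Ideal.mem_map_of_mem _ ?_
      rw [← hg]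
      exact Ideal.sum_mem _ fun i _ => Ideal.mul_mem_left _ _ (Ideal.subset_span ⟨i, rfl⟩)
    rw [map_one, Ideal.map_span, ← Set.range_comp] at h1
    rw [Ideal.eq_top_iff_one]
    refine Ideal.span_le.2 ?_ h1
    rintro _ ⟨i, rfl⟩
    refine Ideal.subset_span ⟨ULift.up i, ?_⟩
    refine Eq.trans ?_ (ConcreteCategory.comp_apply _ _ _)
    exact ConcreteCategory.congr_hom
      ((congrArg X.presheaf.map (Subsingleton.elim _ _)).trans (X.presheaf.map_comp _ _)) (f i)

end Groth.Agent.S4481
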