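import Groth.Statements.S4482
import Groth.Agent.Coherent.GrTildeBridge
import Groth.Agent.Coherent.ProjToGlobal
import Groth.Agent.Coherent.RelExact14.ProjExact
import Groth.Agent.TwistLib.G.TF
import Groth.Agent.HenselLib.FormalClopen


set_option autoImplicit false
universe u
open Coherent

set_option backward.isDefEq.respectTransparency false
set_option backward.isDefEq.respectTransparency.types false
set_option linter.style.haveILetI false

namespace Groth.Agent.S4482

open CategoryTheory AlgebraicGeometry Opposite TopologicalSpace Groth.Agent.Coherent Groth.Agent.TwistLib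

variable {A S : Type u} [CommRing A] [CommRing S] [Algebra A S] (𝒜 : ℕ → Submodule A S) [GradedAlgebra 𝒜]
  {M : Type u} [AddCommGroup M] [Module A M] [Module S M] [IsScalarTower A S M] (ℳ : ℕ → Submodule A M)
  [SetLike.GradedSMul 𝒜 ℳ]

/-- `m ↦ m/1` into the global sections, linear over the base. -/
noncomputable def alphaA (n : ℕ) :
    ℳ n →ₗ[A] GA (baseHom A (Proj 𝒜)) (GrTilde.tilde 𝒜 ℳ (n : ℤ)) where
  toFun m := GrTilde.globalOf 𝒜 ℳ m
  map_add' m m' := Subtype.ext (funext fun x => Subtype.ext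
    ((LocalizedModule.mkLinearMap x.1.asHomogeneousIdeal.toIdeal.primeCompl M).map_add (m : M) (m' : M)))
  map_smul' a m := Subtype.ext (funext fun x => Subtype.ext (by
    refine Eq.trans ?_ (GrTilde.coe_smul_val (n : ℤ) x.1 _ _).symm
    refine Eq.trans ?_ (congrArg (· • _) (val_toGlobal_proj 𝒜 a x.1)).symm
    show LocalizedModule.mk (a • (m : M)) _ = Localization.mk (algebraMap A S a) 1 • LocalizedModule.mk (m : M) _
    rw [LocalizedModule.mk_smul_mk, one_mul, algebraMap_smul]))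

end Groth.Agent.S4482

namespace Groth.Agent.S4482

open AlgebraicGeometry CategoryTheory in
/-- Let A be an Artinian local ring, S a graded A-algebra with S_0 the image of A, generated by r+1
elements of degree one spanning S_1, M a finitely generated graded S-module (graded in nonnegative
degrees) and X = Proj S. Then there is N such that for every n ≥ N the Euler characteristic of the
module M(n)~, namely the alternating sum over 0 ≤ j ≤ r of the lengths of the A-modules H^j(X,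
M(n)~), equals the length of the A-module M_n. -/
theorem result {A S : Type u} [CommRing A] [IsArtinianRing A]
    [IsLocalRing A] [CommRing S] [Algebra A S] (𝒜 : ℕ → Submodule A S) [GradedAlgebra 𝒜]
    (h0 : ∀ s ∈ 𝒜 0, s ∈ Set.range (algebraMap A S)) (r : ℕ) (g : Fin (r + 1) → S)
    (hg1 : ∀ i, g i ∈ 𝒜 1) (hspan : Submodule.span A (Set.range g) = 𝒜 1)
    (hgen : Algebra.adjoin A (Set.range g) = ⊤) {M : Type u} [AddCommGroup M] [Module A M] [Module S M]
    [IsScalarTower A S M] [Module.Finite S M] (ℳ : ℕ → Submodule A M) [DirectSum.Decomposition ℳ]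
    [SetLike.GradedSMul 𝒜 ℳ] :
    ∃ N : ℕ, ∀ n : ℕ, N ≤ n →
      ((Finset.range (r + 1)).sum fun j => (-1 : ℤ) ^ j *
          ((Module.length A (Coh.HH (Proj 𝒜) (GrTilde.tilde 𝒜 ℳ (n : ℤ)) j)).toNat : ℤ)) =
        ((Module.length A ↥(ℳ n)).toNat : ℤ) := by
  classical
  haveI : Algebra.FiniteType A S :=
    ⟨⟨Finset.univ.image g, by rw [Finset.coe_image, Finset.coe_univ, Set.image_univ, hgen]⟩⟩
  haveI : IsNoetherianRing S := Algebra.FiniteType.isNoetherianRing A S
  haveI := Coherent.RelExact14.isProper_proj 𝒜 h0 r g hgen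
  haveI : IsLocallyNoetherian (Proj 𝒜) :=
    LocallyOfFiniteType.isLocallyNoetherian ((Proj 𝒜) ↘ Spec (CommRingCat.of A))
  have hs : (HomogeneousIdeal.irrelevant 𝒜).toIdeal = Ideal.span ((Finset.univ.image g : Finset S) : Set S) := by
    rw [Finset.coe_image, Finset.coe_univ, Set.image_univ]
    exact Coherent.RelExact14.irrelevant_eq_span 𝒜 r g hg1 hgen
  have hs1 : ∀ f ∈ Finset.univ.image g, f ∈ 𝒜 1 := fun f hf => by
    obtain ⟨j, -, rfl⟩ := Finset.mem_image.1 hf
    exact hg1 j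
  have hcov : ∀ x : ProjectiveSpectrum 𝒜, ∃ f ∈ 𝒜 1, f ∉ x.asHomogeneousIdeal.toIdeal := fun x => by
    obtain ⟨f, hf, hfx⟩ := TwistLib.exists_notMem_of_span hs x
    exact ⟨f, hs1 f hf, hfx⟩
  have hfg : (HomogeneousIdeal.irrelevant 𝒜).toIdeal.FG := IsNoetherian.noetherian _
  have hF : Coh.IsCoh (GrTilde.tilde 𝒜 ℳ 0) :=
    ⟨TwistLib.isQCoh_tilde ℳ 0, (TwistLib.G.isFT_tilde (𝒜 := 𝒜) (ℳ := ℳ) hfg (n₀ := 0)
      (IsNoetherian.noetherian _) 0 : CohB1.IsFT (GrMod.tilde 𝒜 ℳ 0))⟩
  obtain ⟨N₁, hN₁⟩ := Coherent.Serre.exists_subsingleton_HH_twist A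
    (TwistLib.isAmple_twist_one _ hs1 hs) _ hF
  obtain ⟨N₂, hN₂⟩ := GrSect14.exists_bijective_globalOf 𝒜 ℳ (GrSect14.fg_tail ℳ)
  refine ⟨N₁ + N₂, fun n hn => ?_⟩
  obtain ⟨e⟩ := TwistLib.nonempty_twist_pow_iso (𝒜 := 𝒜) hcov n
  haveI := TwistLib.isIso_desc_mulBilin (𝒜 := 𝒜) ℳ (p := 0) (q := (n : ℤ)) (r := (n : ℤ))
    (zero_add _) (m := (n : ℤ)) (by simp) hcov
  rw [Finset.sum_eq_single 0]
  · rw [pow_zero, one_mul,
      ← LinearEquiv.length_eq ((LinearEquiv.ofBijective (alphaA 𝒜 ℳ n) (hN₂ n (by omega))).trans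
        (HenselLib.FormalClopen.phi (A := A) (GrTilde.tilde 𝒜 ℳ (n : ℤ))))]
  · intro j _ hj
    have : Subsingleton (Coh.HH (Proj 𝒜) (GrTilde.tilde 𝒜 ℳ (n : ℤ)) j) :=
      Coherent.Serre.HH_subsingleton_of_iso A
        (AmpleLib.tensorIso (Iso.refl _) e.symm ≪≫ asIso (TwistLib.mulBilin (𝒜 := 𝒜) ℳ (zero_add (n : ℤ))).desc)
        j (hN₁ n (by omega) j (Nat.pos_of_ne_zero hj))
    rw [Module.length_eq_zero]
    simp
  · simp

end Groth.Agent.S4482
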