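import Groth.Statements.S4483
import Groth.Agent.ProjBundle14.LocalTriv
import Groth.Agent.ProjVanish14.Basic
import Groth.Agent.LocFreeLib.Semilocal
import Groth.Agent.Props12.FinLocFree
import Groth.Agent.EulerLib.Degree

set_option autoImplicit false
universe u
open Coherent

open Groth.Agent
set_option backward.isDefEq.respectTransparency.types false
set_option maxHeartbeats 400000
namespace Groth.Agent.S4483

open Groth.Agent Groth.Agent.Coherent CategoryTheory CategoryTheory.Limits AlgebraicGeometry Opposite TopologicalSpace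

theorem covers_R (r : ℕ) (R : Type u) [CommRing R] (x : ProjectiveSpectrum (CohB1.polyGrading r R)) :
    ∃ f ∈ CohB1.polyGrading r R 1, f ∉ x.asHomogeneousIdeal.toIdeal := by
  obtain ⟨i, hi⟩ := UPLib.exists_degOne_projSpace (R := CommRingCat.of R) r x
  exact ⟨_, MvPolynomial.isHomogeneous_X R i, hi⟩

theorem nonempty_pow_twist (r : ℕ) (R : Type u) [CommRing R] (d : ℤ) : ∀ n : ℕ,
    Nonempty (CohB1.tensorPow (Twist.twistProjSpace r R d) n ≅ Twist.twistProjSpace r R ((n : ℤ) * d))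
  | 0 => by
    obtain ⟨e⟩ := TwistLib.nonempty_twist_zero_iso (𝒜 := CohB1.polyGrading r R)
    rw [Nat.cast_zero, zero_mul]
    exact ⟨e.symm⟩
  | n + 1 => by
    obtain ⟨e⟩ := nonempty_pow_twist r R d n
    obtain ⟨e'⟩ := TwistLib.nonempty_tensor_twist_iso (𝒜 := CohB1.polyGrading r R) (covers_R r R)
      (a := (n : ℤ) * d) (b := d) (c := ((n + 1 : ℕ) : ℤ) * d) (by push_cast; ring)
    exact ⟨AmpleLib.tensorIso e (Iso.refl _) ≪≫ e'⟩

theorem nonempty_pullback_pow {X Y : Scheme.{u}} (g : Y ⟶ X) (L : X.Modules) (N : Y.Modules)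
    (e : (Scheme.Modules.pullback g).obj L ≅ N) : ∀ n : ℕ,
    Nonempty ((Scheme.Modules.pullback g).obj (CohB1.tensorPow L n) ≅ CohB1.tensorPow N n)
  | 0 => ⟨PicLoc.pullbackStructureIso g⟩
  | n + 1 =>
    let ⟨e'⟩ := nonempty_pullback_pow g L N e n
    ⟨DCat.PullTensor.pullTensorIso g (CohB1.tensorPow L n) L ≪≫ AmpleLib.tensorIso e' e⟩

theorem nonempty_inverse_twist (r : ℕ) (R : Type u) [CommRing R] {M : (CohB1.ProjSpace r R).Modules}
    (e : CohB1.tensorMod M (Twist.twistProjSpace r R 1) ≅ Coh.structureModule _) :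
    Nonempty (M ≅ Twist.twistProjSpace r R (-1)) := by
  obtain ⟨e₁⟩ := TwistLib.nonempty_tensor_twist_iso (𝒜 := CohB1.polyGrading r R) (covers_R r R)
    (a := (1 : ℤ)) (b := -1) (c := 0) (by norm_num)
  obtain ⟨e₂⟩ := TwistLib.nonempty_twist_zero_iso (𝒜 := CohB1.polyGrading r R)
  obtain ⟨a⟩ := EulerLib.exists_assocIso' M (Coherent.isInvertible_twistProjSpaceZ r 1 R) (Coherent.isInvertible_twistProjSpaceZ r (-1) R)
  exact ⟨(AmpleLib.unitTensorIso M).symm ≪≫ AmpleLib.tensorComm _ _ ≪≫ AmpleLib.tensorIso (Iso.refl M) (e₁ ≪≫ e₂).symm ≪≫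
    a.symm ≪≫ AmpleLib.tensorIso e (Iso.refl _) ≪≫ AmpleLib.unitTensorIso _⟩

theorem vanish {Y P : Scheme.{u}} {π : P ⟶ Y} {r : ℕ} {E : Y.Modules} (hE : FlatMod.IsFinLocFreeOfRank (r + 1) E)
    {O1 : P.Modules} {q : (Scheme.Modules.pullback π).obj E ⟶ O1} (hP : KRR.IsProjBundle π E O1 q)
    (M : P.Modules) (d : ℤ) (i : ℕ) (h₀ : ¬ (i = 0 ∧ 0 ≤ d)) (hr : ¬ (i = r ∧ d ≤ -((r : ℤ) + 1)))
    (hM : ∀ (R : Type u) [CommRing R] (g : CohB1.ProjSpace r R ⟶ P),
      Nonempty ((Scheme.Modules.pullback g).obj O1 ≅ Twist.twistProjSpace r R 1) →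
        Nonempty ((Scheme.Modules.pullback g).obj M ≅ Twist.twistProjSpace r R d)) :
    IsZero ((Coh.RpushAb π i).obj (Coh.toAb M)) := by
  haveI : Coh.IsQCoh E := LocFreeLib.isQCoh_of_isFinLocFreeOfRank hE
  refine isZero_rpushAb_of_basis π {V | IsAffineOpen V ∧ ∃ W : Y.Opens, V ≤ W ∧
    Nonempty ((Scheme.Modules.restrictFunctor W.ι).obj E ≅ FlatMod.freeMod _ (r + 1))} ?_ _ i ?_
  · rw [Opens.isBasis_iff_nbhd]
    intro O x hx
    obtain ⟨W, hxW, e⟩ := hE x
    obtain ⟨V, hV, hxV, hVW⟩ := Opens.isBasis_iff_nbhd.1 Y.isBasis_affineOpens (show x ∈ O ⊓ W from ⟨hx, hxW⟩)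
    exact ⟨V, ⟨hV, W, hVW.trans inf_le_right, e⟩, hxV, hVW.trans inf_le_left⟩
  rintro V ⟨hV, W, hVW, ⟨e⟩⟩
  obtain ⟨b⟩ := Props12.exists_basis_sections e hVW
  obtain ⟨g, hg, hg1⟩ := ProjBundle14.exists_projSquare hP hV b
  obtain ⟨eM⟩ := hM Γ(Y, V) g hg1
  haveI : IsOpenImmersion g := MorphismProperty.of_isPullback (P := @IsOpenImmersion) hg.flip inferInstance
  have him : g ''ᵁ ⊤ = π ⁻¹ᵁ V := by
    rw [Scheme.Hom.image_top_eq_opensRange]
    refine Opens.ext ?_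
    show Set.range g.base = π.base ⁻¹' (V : Set Y)
    rw [← hV.range_fromSpec, ← hg.isoPullback_hom_fst]
    refine Eq.trans ?_ (Scheme.Pullback.range_fst _ _)
    exact Set.ext fun x => ⟨fun ⟨y, hy⟩ => ⟨hg.isoPullback.hom.base y, hy⟩,
      fun ⟨y, hy⟩ => ⟨hg.isoPullback.inv.base y, by rw [← hy, ← Scheme.Hom.comp_apply, Iso.inv_hom_id_assoc]⟩⟩
  haveI := subsingleton_HH_twist (n := r) (R := Γ(Y, V)) (d := d) i h₀ hr
  haveI := ProjVanish14.subsingleton_HH_of_iso ((Scheme.Modules.restrictFunctorIsoPullback g).app M ≪≫ eM) i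
  exact ((H'Congr _ i him.symm).trans ((H'ModRestrictEquiv g _ ⊤ i).symm.trans
    (HHTopEquiv _ i).symm)).toEquiv.subsingleton

end Groth.Agent.S4483


namespace Groth.Agent.S4483

open AlgebraicGeometry CategoryTheory in
/-- Let Y be a scheme, E a locally free O_Y-module of rank r+1, and (π : P → Y, O(1), q : π^*E → O(1)) a
projective bundle P(E) of E, characterised by its universal property; let L be an O_P-module with L
⊗ O(1) ≅ O_P, playing the role of O(-1). Then the higher direct images R^i π_* O(n) vanish except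
possibly for i = 0, n ≥ 0 and for i = r, n ≤ -(r+1): precisely, R^i π_*(O(1)^{⊗ n}) = 0 for all n ≥
0 and i ≠ 0, and R^i π_*(L^{⊗ m}) = 0 for all m ≥ 1 and all i unless i = r and m ≥ r + 1 (higher
direct images of the underlying abelian sheaves). -/
theorem result {Y P : Scheme.{u}} (π : P ⟶ Y) (r : ℕ)
    (E : Y.Modules) (hE : FlatMod.IsFinLocFreeOfRank (r + 1) E) (O1 : P.Modules)
    (q : (Scheme.Modules.pullback π).obj E ⟶ O1) (hP : KRR.IsProjBundle π E O1 q)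
    (L : P.Modules) (hL : ClSub.IsInverseOf L O1) :
    (∀ (n i : ℕ), i ≠ 0 → Limits.IsZero ((Coh.RpushAb π i).obj (Coh.toAb (CohB1.tensorPow O1 n)))) ∧
    (∀ (m i : ℕ), 1 ≤ m → ¬ (i = r ∧ r + 1 ≤ m) →
      Limits.IsZero ((Coh.RpushAb π i).obj (Coh.toAb (CohB1.tensorPow L m)))) := by
  refine ⟨fun n i hi => vanish hE hP _ (n : ℤ) i (fun h => hi h.1) (fun h => by have := Int.natCast_nonneg n; omega)
      fun R _ g ⟨e⟩ => ?_,
    fun m i hm hne => vanish hE hP _ (-(m : ℤ)) i (fun h => by omega) (fun h => hne ⟨h.1, by omega⟩)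
      fun R _ g ⟨e⟩ => ?_⟩
  · obtain ⟨e'⟩ := nonempty_pullback_pow g O1 _ e n
    obtain ⟨e''⟩ := nonempty_pow_twist r R 1 n
    rw [mul_one] at e''
    exact ⟨e' ≪≫ e''⟩
  · obtain ⟨eL⟩ := hL
    obtain ⟨eI⟩ := nonempty_inverse_twist r R (M := (Scheme.Modules.pullback g).obj L)
      (AmpleLib.tensorIso (Iso.refl _) e.symm ≪≫ (DCat.PullTensor.pullTensorIso g L O1).symm ≪≫
        (Scheme.Modules.pullback g).mapIso eL ≪≫ PicLoc.pullbackStructureIso g)
    obtain ⟨e'⟩ := nonempty_pullback_pow g L _ eI m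
    obtain ⟨e''⟩ := nonempty_pow_twist r R (-1) m
    rw [mul_neg, mul_one] at e''
    exact ⟨e' ≪≫ e''⟩

end Groth.Agent.S4483
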