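import Groth.Statements.S4486
import Groth.Agent.FlatCx12.BC

set_option autoImplicit false
universe u
open FlatCx

namespace Groth.Agent.S4486

open CategoryTheory CategoryTheory.Limits in
/-- For the homological functor T_p(M) = H_p(P ⊗_A M) of a chain complex P of flat modules over a
commutative ring A, which commutes with filtered colimits. Let A be a domain and suppose P_i = 0 for
i < i₀ and that every T_n(A) is a finitely presented A-module. Then for every integer N there is a
nonzero f ∈ A such that, for every p ≤ N, the functor of A_f-modules N ↦ H_p(P_f ⊗_{A_f} N), where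
P_f = P ⊗_A A_f, takes injections to injections and surjections to surjections. -/
theorem result {A : Type u} [CommRing A] [IsDomain A]
    (P : ChainComplex (ModuleCat.{u} A) ℤ) (hP : ∀ i, Module.Flat A (P.X i)) (i₀ : ℤ)
    (hb : ∀ i < i₀, IsZero (P.X i))
    (hfp : ∀ n : ℤ, Module.FinitePresentation A (CohIII.T P n (ModuleCat.of A A))) (N : ℤ) :
    ∃ f : A, f ≠ 0 ∧ ∀ p ≤ N,
      (CohIII.TFun (CohIII.bcCx (algebraMap A (Localization.Away f)) P) p).PreservesMonomorphisms ∧
        (CohIII.TFun (CohIII.bcCx (algebraMap A (Localization.Away f)) P) p).PreservesEpimorphisms := by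
  let H : ℤ → Type u := fun n =>
    Groth.Agent.FlatCxLib.homologyQuot (P.d (n + 1) n).hom (P.d n (n - 1)).hom
  have hfp' : ∀ n, Module.FinitePresentation A
      (Groth.Agent.FlatCxLib.homologyQuot (P.d (n + 1) n).hom (P.d n (n - 1)).hom) := fun n =>
    have : Module.FinitePresentation A ((CohIII.TFun P n).obj (ModuleCat.of A A)) := hfp n
    Module.FinitePresentation.of_equiv (Groth.Agent.FlatCxLib.tAEquiv P (n + 1) n (n - 1) rfl (by omega))
  let U : Set (PrimeSpectrum A) := ⋂ n ∈ Set.Icc i₀ N, Module.freeLocus A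
    (Groth.Agent.FlatCxLib.homologyQuot (P.d (n + 1) n).hom (P.d n (n - 1)).hom)
  have hU : IsOpen U := (Set.finite_Icc i₀ N).isOpen_biInter fun n _ => Module.isOpen_freeLocus
  let η : PrimeSpectrum A := ⟨⊥, Ideal.isPrime_bot⟩
  have hη : η ∈ U := by
    refine Set.mem_iInter₂.mpr fun n _ => ?_
    rw [Module.mem_freeLocus_iff_tensor _ (Localization.AtPrime (⊥ : Ideal A))]
    let _ : Field (Localization.AtPrime (⊥ : Ideal A)) :=
      (IsLocalRing.isField_iff_maximalIdeal_eq.mpr (by
        rw [← Localization.AtPrime.map_eq_maximalIdeal, Ideal.map_bot])).toField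
    infer_instance
  obtain ⟨_, ⟨f, rfl⟩, hf, hfU⟩ :=
    PrimeSpectrum.isTopologicalBasis_basic_opens.exists_subset_of_mem_open hη hU
  refine ⟨f, fun h0 => hf (by rw [h0]; exact zero_mem _), fun p hp => ?_⟩
  have key : ∀ n ≤ N, Module.Flat (Localization.Away f) (TensorProduct A (Localization.Away f)
      (Groth.Agent.FlatCxLib.homologyQuot (P.d (n + 1) n).hom (P.d n (n - 1)).hom)) := by
    intro n hn
    rcases lt_or_ge n i₀ with h | h
    · have := ModuleCat.isZero_iff_subsingleton.mp (hb n h)
      infer_instance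
    · have hsub : ↑(PrimeSpectrum.basicOpen f) ⊆ Module.freeLocus A
          (Groth.Agent.FlatCxLib.homologyQuot (P.d (n + 1) n).hom (P.d n (n - 1)).hom) :=
        fun x hx => Set.mem_iInter₂.mp (hfU hx) n ⟨h, hn⟩
      have := Module.basicOpen_subset_freeLocus_iff.mp hsub
      exact Module.Flat.of_linearEquiv (IsLocalizedModule.isBaseChange (Submonoid.powers f)
        (Localization.Away f) (LocalizedModule.mkLinearMap (Submonoid.powers f) _)).equiv
  have hflat := Groth.Agent.FlatCx12.flat_baseChange_coker_upTo hP i₀ hb (Localization.Away f) N key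
  refine ⟨(Groth.Agent.FlatCxLib.preservesMono_bc_iff P hP (p + 1) p rfl).mpr (hflat p hp),
    (Groth.Agent.FlatCxLib.preservesEpi_bc_iff P hP p (p - 1) (by omega)).mpr ?_⟩
  have h1 := hflat (p - 1) (by omega)
  rwa [sub_add_cancel] at h1

end Groth.Agent.S4486
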