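import Groth.Statements.S4487
import Groth.Agent.FlatCx12.Finite

set_option autoImplicit false
universe u
open FlatCx

namespace Groth.Agent.S4487

open CategoryTheory CategoryTheory.Limits in
/-- The case of the homological functor T_p(M) = H_p(P ⊗_A M) of a chain complex P of flat modules over
a commutative ring A. Let A be Noetherian and suppose P_i = 0 for i < i₀ and that every T_n(A) is a
finitely generated A-module. Then for every integer N there is a dense open subset U of Spec A such
that, for every p ≤ N, the function x ↦ dim_{k(x)} H_p(P ⊗_A k(x)) is locally constant on U. (The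
published statement says constant on U; over the product of two fields, with P the projective module
supported on one factor placed in degree 0, the only dense open set is the whole two-point spectrum
and the ranks there are 1 and 0, so locally constant on U is what holds; the argument produces U as
a disjoint union of opens, one dense in each irreducible component, on each of which the functions
are constant.) -/
theorem result {A : Type u} [CommRing A] [IsNoetherianRing A]
    (P : ChainComplex (ModuleCat.{u} A) ℤ) (hP : ∀ i, Module.Flat A (P.X i)) (i₀ : ℤ)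
    (hb : ∀ i < i₀, IsZero (P.X i))
    (hfg : ∀ n : ℤ, Module.Finite A (CohIII.T P n (ModuleCat.of A A))) (N : ℤ) :
    ∃ U : Set (PrimeSpectrum A), IsOpen U ∧ Dense U ∧
      ∀ p ≤ N, IsLocallyConstant (fun x : U => CohIII.dRank P p x) := by
  classical
  have hfin : (minimalPrimes A).Finite := minimalPrimes.finite_of_isNoetherianRing A
  have hloc : ∀ q ∈ minimalPrimes A, ∃ V : Set (PrimeSpectrum A), IsOpen V ∧
      (∀ hq : q.IsPrime, (⟨q, hq⟩ : PrimeSpectrum A) ∈ V) ∧
      ∀ p ≤ N, ∀ x ∈ V, ∀ᶠ y in nhds x, CohIII.dRank P p y = CohIII.dRank P p x := by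
    intro q hq
    have hqp : q.IsPrime := hq.1.1
    obtain ⟨g, hgI, hgq⟩ : ∃ g, g ∈ ⨅ q' ∈ hfin.toFinset.erase q, q' ∧ g ∉ q := by
      by_contra hne
      push Not at hne
      have h' : ((hfin.toFinset.erase q).inf id) ≤ q := by
        rw [Finset.inf_eq_iInf]
        exact fun g hg => hne g hg
      obtain ⟨q', hq', hle⟩ := hqp.inf_le'.mp h'
      obtain ⟨hne', hq''⟩ := Finset.mem_erase.mp hq'
      have hm : q' ∈ minimalPrimes A := hfin.mem_toFinset.mp hq''
      exact hne' (le_antisymm hle (hq.2 hm.1 hle))
    let B := A ⧸ q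
    have : IsDomain B := Ideal.Quotient.isDomain q
    let Q := CohIII.bcCx (algebraMap A B) P
    have hQ : ∀ i, Module.Flat B (Q.X i) := fun i => Groth.Agent.FlatCxLib.flat_X_bc (algebraMap A B) P hP i
    have hbQ : ∀ i < i₀, IsZero (Q.X i) := fun i hi => (ModuleCat.extendScalars (algebraMap A B)).map_isZero (hb i hi)
    have hH : ∀ n, Module.FinitePresentation B
        (Groth.Agent.FlatCxLib.homologyQuot (Q.d (n + 1) n).hom (Q.d n (n - 1)).hom) := fun n => by
      have h1 := Groth.Agent.FlatCx12.finite_homologyQuot_baseChange hP i₀ hb hfg B (n + 1) n (n - 1)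
        rfl (by omega)
      exact @Module.finitePresentation_of_finite B _ _ _ _ _ h1
    let η : PrimeSpectrum B := ⟨⊥, Ideal.isPrime_bot⟩
    let W : Set (PrimeSpectrum B) := ⋂ n ∈ Set.Icc i₀ N, Module.freeLocus B
      (Groth.Agent.FlatCxLib.homologyQuot (Q.d (n + 1) n).hom (Q.d n (n - 1)).hom)
    have hW : IsOpen W := (Set.finite_Icc i₀ N).isOpen_biInter fun n _ =>
      have := hH n
      Module.isOpen_freeLocus
    have hη : η ∈ W := by
      refine Set.mem_iInter₂.mpr fun n _ => ?_
      have := hH n
      rw [Module.mem_freeLocus_iff_tensor _ (Localization.AtPrime (⊥ : Ideal B))]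
      let _ : Field (Localization.AtPrime (⊥ : Ideal B)) :=
        (IsLocalRing.isField_iff_maximalIdeal_eq.mpr (by
          rw [← Localization.AtPrime.map_eq_maximalIdeal, Ideal.map_bot])).toField
      infer_instance
    obtain ⟨_, ⟨fb, rfl⟩, hfb, hfW⟩ :=
      PrimeSpectrum.isTopologicalBasis_basic_opens.exists_subset_of_mem_open hη hW
    obtain ⟨f, rfl⟩ := Ideal.Quotient.mk_surjective fb
    let C := Localization.Away (algebraMap A B f)
    have key : ∀ n ≤ N, Module.Flat C (TensorProduct B C
        (Groth.Agent.FlatCxLib.homologyQuot (Q.d (n + 1) n).hom (Q.d n (n - 1)).hom)) := by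
      intro n hn
      rcases lt_or_ge n i₀ with h | h
      · have := ModuleCat.isZero_iff_subsingleton.mp (hbQ n h)
        infer_instance
      · have := hH n
        have hsub : ↑(PrimeSpectrum.basicOpen (algebraMap A B f)) ⊆ Module.freeLocus B
            (Groth.Agent.FlatCxLib.homologyQuot (Q.d (n + 1) n).hom (Q.d n (n - 1)).hom) :=
          fun x hx => Set.mem_iInter₂.mp (hfW hx) n ⟨h, hn⟩
        have := Module.basicOpen_subset_freeLocus_iff.mp hsub
        exact Module.Flat.of_linearEquiv (IsLocalizedModule.isBaseChange (Submonoid.powers (algebraMap A B f))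
          C (LocalizedModule.mkLinearMap (Submonoid.powers (algebraMap A B f)) _)).equiv
    have hfl := Groth.Agent.FlatCx12.flat_baseChange_coker_upTo hQ i₀ hbQ C N key
    let R := CohIII.bcCx (algebraMap B C) Q
    have hR : ∀ i, Module.Flat C (R.X i) := fun i => Groth.Agent.FlatCxLib.flat_X_bc (algebraMap B C) Q hQ i
    have hlc : ∀ p ≤ N, IsLocallyConstant (CohIII.dRank R p) := by
      intro p hp
      have := hR (p - 1)
      have h0 := hfl (p - 1) (by omega)
      rw [sub_add_cancel] at h0
      have : Module.Flat C (R.X (p - 1) ⧸ LinearMap.range (R.d p (p - 1)).hom) :=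
        (Groth.Agent.FlatCxLib.preservesEpi_iff_flat p (p - 1) hR (by omega)).mp
          ((Groth.Agent.FlatCxLib.preservesEpi_bc_iff Q hQ p (p - 1) (by omega)).mpr h0)
      have hmono : Module.Flat C (R.X p ⧸ LinearMap.range (R.d (p + 1) p).hom) :=
        (Groth.Agent.FlatCxLib.preservesMono_iff_flat (p + 1) p hR rfl).mp
          ((Groth.Agent.FlatCxLib.preservesMono_bc_iff Q hQ (p + 1) p rfl).mpr (hfl p hp))
      have := (Groth.Agent.FlatCxLib.flat_coker_iff_flat_homology
        (Groth.Agent.FlatCxLib.d_comp_d_hom R (p + 1) p (p - 1))).mp hmono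
      have : Module.FinitePresentation C
          (Groth.Agent.FlatCxLib.homologyQuot (R.d (p + 1) p).hom (R.d p (p - 1)).hom) := by
        obtain ⟨e⟩ := Groth.Agent.FlatCx12.nonempty_homologyQuotEquiv_of_flat
          (Groth.Agent.FlatCxLib.d_comp_d_hom Q (p + 1) p (p - 1)) C
        have := hH p
        have aux : ∀ (φ : B →+* C) (i : Algebra B C), i = φ.toAlgebra →
            letI := i
            Module.FinitePresentation C (Groth.Agent.FlatCxLib.homologyQuot
              ((Q.d (p + 1) p).hom.baseChange C) ((Q.d p (p - 1)).hom.baseChange C)) →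
            Module.FinitePresentation C (Groth.Agent.FlatCxLib.homologyQuot
              ((CohIII.bcCx φ Q).d (p + 1) p).hom ((CohIII.bcCx φ Q).d p (p - 1)).hom) := by
          rintro φ _ rfl h
          exact h
        exact aux (algebraMap B C) inferInstance (Algebra.algebra_ext _ _ fun _ => rfl)
          (Module.FinitePresentation.of_equiv e.symm)
      rw [show CohIII.dRank R p = fun x => Module.rankAtStalk (R := C)
          (Groth.Agent.FlatCxLib.homologyQuot (R.d (p + 1) p).hom (R.d p (p - 1)).hom) x from funext fun x => by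
        rw [Groth.Agent.FlatCx12.dRank_eq_fibreRank hR (p + 1) p (p - 1) rfl (by omega),
          Groth.Agent.FlatCxLib.fibreRank_eq_rankAtStalk]]
      exact Module.isLocallyConstant_rankAtStalk
    let j : PrimeSpectrum C → PrimeSpectrum A :=
      PrimeSpectrum.comap (algebraMap A B) ∘ PrimeSpectrum.comap (algebraMap B C)
    have hj : Topology.IsEmbedding j :=
      (PrimeSpectrum.isClosedEmbedding_comap_of_surjective B (algebraMap A B) Ideal.Quotient.mk_surjective).isEmbedding.comp
        (PrimeSpectrum.localization_away_isOpenEmbedding C (algebraMap A B f)).isEmbedding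
    have hsurj : ∀ x ∈ (PrimeSpectrum.basicOpen (g * f) : Set (PrimeSpectrum A)), ∃ x', j x' = x := by
      intro x hx
      have hxg : g ∉ x.asIdeal := fun h => hx (x.asIdeal.mul_mem_right _ h)
      have hxf : f ∉ x.asIdeal := fun h => hx (x.asIdeal.mul_mem_left _ h)
      have := x.isPrime
      obtain ⟨q', hq', hle⟩ := Ideal.exists_minimalPrimes_le (show (⊥ : Ideal A) ≤ x.asIdeal from bot_le)
      have hqq : q' = q := by
        by_contra hne
        exact hxg (hle ((Submodule.mem_iInf _).mp ((Submodule.mem_iInf _).mp hgI q')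
          (Finset.mem_erase.mpr ⟨hne, hfin.mem_toFinset.mpr hq'⟩)))
      subst hqq
      have hx1 : x ∈ Set.range (PrimeSpectrum.comap (algebraMap A B)) := by
        rw [_root_.range_comap_of_surjective B (algebraMap A B) Ideal.Quotient.mk_surjective,
          PrimeSpectrum.mem_zeroLocus]
        show (RingHom.ker (Ideal.Quotient.mk q') : Set A) ⊆ x.asIdeal
        rw [Ideal.mk_ker]
        exact hle
      obtain ⟨y, rfl⟩ := hx1
      have hy : y ∈ Set.range (PrimeSpectrum.comap (algebraMap B C)) := by
        rw [PrimeSpectrum.localization_away_comap_range C (algebraMap A B f)]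
        exact hxf
      obtain ⟨x', rfl⟩ := hy
      exact ⟨x', rfl⟩
    refine ⟨PrimeSpectrum.basicOpen (g * f), (PrimeSpectrum.basicOpen (g * f)).2, fun _ h => ?_, ?_⟩
    · rcases hqp.mem_or_mem h with h | h
      · exact hgq h
      · exact hfb ((Ideal.Quotient.eq_zero_iff_mem.mpr h).symm ▸ Submodule.zero_mem _)
    · intro p hp x hx
      obtain ⟨x', rfl⟩ := hsurj x hx
      have hd : ∀ z, CohIII.dRank P p (j z) = CohIII.dRank R p z := fun z => by
        rw [Groth.Agent.FlatCxLib.dRank_bcCx, Groth.Agent.FlatCxLib.dRank_bcCx]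
        rfl
      obtain ⟨O, hO, hOeq⟩ := hj.isInducing.isOpen_iff.mp ((hlc p hp) {CohIII.dRank R p x'})
      have hxO : j x' ∈ O := by
        have : x' ∈ j ⁻¹' O := by rw [hOeq]; rfl
        exact this
      filter_upwards [(PrimeSpectrum.basicOpen (g * f)).2.mem_nhds hx, hO.mem_nhds hxO] with y hy hyO
      obtain ⟨y', rfl⟩ := hsurj y hy
      have : y' ∈ j ⁻¹' O := hyO
      rw [hOeq] at this
      rw [hd, hd]
      exact this
  choose V hV hmem hconst using hloc
  refine ⟨⋃ (q) (hq : q ∈ minimalPrimes A), V q hq, isOpen_iUnion fun q => isOpen_iUnion fun hq => hV q hq, ?_, ?_⟩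
  · intro x
    have := x.isPrime
    obtain ⟨q, hq, hle⟩ := Ideal.exists_minimalPrimes_le (show (⊥ : Ideal A) ≤ x.asIdeal from bot_le)
    rw [mem_closure_iff]
    intro O hO hxO
    exact ⟨⟨q, hq.1.1⟩, ((PrimeSpectrum.le_iff_specializes ⟨q, hq.1.1⟩ x).mp hle).mem_open hO hxO,
      Set.mem_iUnion₂.mpr ⟨q, hq, hmem q hq hq.1.1⟩⟩
  · intro p hp
    rw [IsLocallyConstant.iff_eventually_eq]
    rintro ⟨x, hx⟩
    obtain ⟨q, hq, hxq⟩ := Set.mem_iUnion₂.mp hx
    exact (continuous_subtype_val.continuousAt (x := (⟨x, hx⟩ : (⋃ (q) (hq : q ∈ minimalPrimes A), V q hq : Set (PrimeSpectrum A))))).eventually (hconst q hq p hp x hxq)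

end Groth.Agent.S4487
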