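import Groth.Statements.S4488
import Groth.Agent.FlatCx12.BC

set_option autoImplicit false
universe u
open FlatCx

namespace Groth.Agent.S4488

open CategoryTheory CategoryTheory.Limits in
/-- For the homological functor T_q(M) = H_q(P ⊗_A M) of a chain complex P of flat modules over a
commutative local ring A with residue field k. Suppose P_i = 0 for i < i₀ and that every T_n(A) is a
finitely presented A-module, and let p be an integer. If T_q takes injections to injections and
surjections to surjections for every q ≤ p, then dim_{k(x)} T_q(k(x)) = dim_k T_q(k) for every point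
x of Spec A and every q ≤ p. Conversely, if A is reduced and this equality holds at the generic
point of every irreducible component of Spec A (every minimal prime) for every q ≤ p, then T_q takes
injections to injections and surjections to surjections for every q ≤ p. No Noetherian hypothesis on
A. -/
theorem result {A : Type u} [CommRing A] [IsLocalRing A]
    (P : ChainComplex (ModuleCat.{u} A) ℤ) (hP : ∀ i, Module.Flat A (P.X i)) (i₀ : ℤ)
    (hb : ∀ i < i₀, IsZero (P.X i))
    (hfp : ∀ n : ℤ, Module.FinitePresentation A (CohIII.T P n (ModuleCat.of A A))) (p : ℤ) :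
    ((∀ q ≤ p, (CohIII.TFun P q).PreservesMonomorphisms ∧ (CohIII.TFun P q).PreservesEpimorphisms) →
        ∀ (x : PrimeSpectrum A), ∀ q ≤ p, CohIII.dRank P q x = CohIII.dRank P q (IsLocalRing.closedPoint A)) ∧
      (IsReduced A →
        (∀ x : PrimeSpectrum A, x.asIdeal ∈ minimalPrimes A →
          ∀ q ≤ p, CohIII.dRank P q x = CohIII.dRank P q (IsLocalRing.closedPoint A)) →
        ∀ q ≤ p, (CohIII.TFun P q).PreservesMonomorphisms ∧ (CohIII.TFun P q).PreservesEpimorphisms) := by
  have hfl : ∀ q r : ℤ, r + 1 = q → (CohIII.TFun P q).PreservesEpimorphisms →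
      Module.Flat A (P.X r ⧸ LinearMap.range (P.d q r).hom) := fun q r h he =>
    (Groth.Agent.FlatCxLib.preservesEpi_iff_flat q r hP h).mp he
  have hfp' : ∀ n, Module.FinitePresentation A
      (Groth.Agent.FlatCxLib.homologyQuot (P.d (n + 1) n).hom (P.d n (n - 1)).hom) := fun n =>
    have : Module.FinitePresentation A ((CohIII.TFun P n).obj (ModuleCat.of A A)) := hfp n
    Module.FinitePresentation.of_equiv (Groth.Agent.FlatCxLib.tAEquiv P (n + 1) n (n - 1) rfl (by omega))
  constructor
  · intro h x q hq
    have := hP (q - 1)
    have := hfl q (q - 1) (by omega) (h q hq).2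
    have := (Groth.Agent.FlatCxLib.flat_coker_iff_flat_homology
      (Groth.Agent.FlatCxLib.d_comp_d_hom P (q + 1) q (q - 1))).mp
        ((Groth.Agent.FlatCxLib.preservesMono_iff_flat (q + 1) q hP rfl).mp (h q hq).1)
    rw [Groth.Agent.FlatCx12.dRank_eq_fibreRank hP (q + 1) q (q - 1) rfl (by omega),
      Groth.Agent.FlatCx12.dRank_eq_fibreRank hP (q + 1) q (q - 1) rfl (by omega),
      Groth.Agent.FlatCxLib.fibreRank_eq_rankAtStalk, Groth.Agent.FlatCxLib.fibreRank_eq_rankAtStalk]
    exact Module.rankAtStalk_eq_of_le_of_finite_of_flat _ (IsLocalRing.le_maximalIdeal x.isPrime.ne_top)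
  · intro _ h
    have main : ∀ n : ℕ, ∀ q, q < i₀ + (n : ℤ) → q ≤ p →
        Module.Flat A (P.X q ⧸ LinearMap.range (P.d (q + 1) q).hom) := by
      intro n
      induction n with
      | zero =>
        intro q hq _
        have := ModuleCat.isZero_iff_subsingleton.mp (hb q (by omega))
        infer_instance
      | succ n ih =>
        intro q hq hqp
        have := hP (q - 1)
        have h0 := ih (q - 1) (by omega) (by omega)
        rw [sub_add_cancel] at h0
        rw [Groth.Agent.FlatCxLib.flat_coker_iff_flat_homology
          (Groth.Agent.FlatCxLib.d_comp_d_hom P (q + 1) q (q - 1))]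
        generalize hH : Groth.Agent.FlatCxLib.fibreRank (A := A)
          (Groth.Agent.FlatCxLib.homologyQuot (P.d (q + 1) q).hom (P.d q (q - 1)).hom) = r
        have usc : ∀ a b : PrimeSpectrum A, a ≤ b → r a ≤ r b := by
          subst hH
          intro a b hab
          have hu := Groth.Agent.FlatCxLib.upperSemicontinuous_fibreRank (A := A)
            (Groth.Agent.FlatCxLib.homologyQuot (P.d (q + 1) q).hom (P.d q (q - 1)).hom)
          exact Nat.lt_succ_iff.mp (((PrimeSpectrum.le_iff_specializes a b).mp hab).mem_open
            (upperSemicontinuous_iff_isOpen_preimage.mp hu _) (Nat.lt_succ_self _))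
        have hc : ∀ y : PrimeSpectrum A, r y = r (IsLocalRing.closedPoint A) := by
          intro y
          refine le_antisymm (usc _ _ (IsLocalRing.le_maximalIdeal y.isPrime.ne_top)) ?_
          obtain ⟨q', hq', hqy⟩ := Ideal.exists_minimalPrimes_le (show (⊥ : Ideal A) ≤ y.asIdeal from bot_le)
          have hd := h ⟨q', hq'.1.1⟩ hq' q hqp
          rw [Groth.Agent.FlatCx12.dRank_eq_fibreRank hP (q + 1) q (q - 1) rfl (by omega),
            Groth.Agent.FlatCx12.dRank_eq_fibreRank hP (q + 1) q (q - 1) rfl (by omega), hH] at hd
          rw [← hd]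
          exact usc ⟨q', hq'.1.1⟩ y hqy
        subst hH
        have := Groth.Agent.FlatCxLib.free_of_fibreRank_eq
          (Groth.Agent.FlatCxLib.homologyQuot (P.d (q + 1) q).hom (P.d q (q - 1)).hom) _ hc
        infer_instance
    intro q hq
    have h1 := main ((q - i₀).toNat + 1) q (by omega) hq
    have h2 := main ((q - i₀).toNat + 1) (q - 1) (by omega) (by omega)
    rw [sub_add_cancel] at h2
    exact ⟨(Groth.Agent.FlatCxLib.preservesMono_iff_flat (q + 1) q hP rfl).mpr h1,
      (Groth.Agent.FlatCxLib.preservesEpi_iff_flat q (q - 1) hP (by omega)).mpr h2⟩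

end Groth.Agent.S4488
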