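import Groth.Statements.S4489
import Groth.Agent.FlatCxLib.Homology
import Mathlib.RingTheory.Flat.TorsionFree

set_option autoImplicit false
universe u
open FlatCx

namespace Groth.Agent.S4489

open CategoryTheory CategoryTheory.Limits in
/-- For the homological functor T_p(M) = H_p(P ⊗_A M) of a chain complex P of flat modules, stated over
a Dedekind domain A. (The published statement allows A to be a finite product of Dedekind domains,
that is, a Noetherian regular ring of dimension at most 1; this row takes A a Dedekind domain.) Then
T_p takes injections to injections if and only if H_p(P) is a flat A-module; and, with q + 1 = p,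
T_p takes injections to injections and surjections to surjections if and only if H_p(P) and H_q(P)
are both flat. -/
theorem result {A : Type u} [CommRing A] [IsDedekindDomain A]
    (P : ChainComplex (ModuleCat.{u} A) ℤ) (hP : ∀ i, Module.Flat A (P.X i)) (p q : ℤ) (hpq : q + 1 = p) :
    ((CohIII.TFun P p).PreservesMonomorphisms ↔ Module.Flat A (P.homology p)) ∧
      (((CohIII.TFun P p).PreservesMonomorphisms ∧ (CohIII.TFun P p).PreservesEpimorphisms) ↔
        (Module.Flat A (P.homology p) ∧ Module.Flat A (P.homology q))) := by
  have hmono : ∀ n, (CohIII.TFun P n).PreservesMonomorphisms ↔ Module.Flat A (P.homology n) := by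
    intro n
    have := hP (n - 1)
    have := hP n
    rw [Groth.Agent.FlatCxLib.preservesMono_iff_flat (n + 1) n hP rfl,
      ← Module.Flat.equiv_iff (Groth.Agent.FlatCxLib.homologyQuotEquiv P (n + 1) n (n - 1) rfl (by omega))]
    have hfg := Groth.Agent.FlatCxLib.d_comp_d_hom P (n + 1) n (n - 1)
    constructor
    · intro h
      have := (Submodule.isTorsionFree_iff_torsion_eq_bot (R := A)).mpr (IsDedekindDomain.flat_iff_torsion_eq_bot.mp h)
      have := Function.Injective.moduleIsTorsionFree _
        (Groth.Agent.FlatCxLib.homologyToCoker_injective (g := (P.d n (n - 1)).hom) (P.d (n + 1) n).hom)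
        (fun c x => map_smul _ c x)
      infer_instance
    · intro h
      have : Module.IsTorsionFree A (P.X (n - 1)) :=
        (Submodule.isTorsionFree_iff_torsion_eq_bot (R := A)).mpr
          (IsDedekindDomain.flat_iff_torsion_eq_bot.mp (hP (n - 1)))
      have : Module.Flat A (LinearMap.range (P.d n (n - 1)).hom) := inferInstance
      exact Groth.Agent.FlatCxLib.flat_of_exact_mid _ _
        (Groth.Agent.FlatCxLib.exact_homologyToCoker hfg) (fun y => by
          obtain ⟨x, rfl⟩ := (P.d n (n - 1)).hom.surjective_rangeRestrict y
          exact ⟨Submodule.Quotient.mk x, rfl⟩)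
        (Groth.Agent.FlatCxLib.homologyToCoker_injective _)
  refine ⟨hmono p, ?_⟩
  rw [hmono p, Groth.Agent.FlatCxLib.preservesEpi_iff_flat p q hP hpq,
    ← Groth.Agent.FlatCxLib.preservesMono_iff_flat p q hP hpq, hmono q]

end Groth.Agent.S4489
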