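import Groth.Statements.S4491
import Groth.Agent.FlatCxLib.Homology

set_option autoImplicit false
universe u
open FlatCx

namespace Groth.Agent.S4491

open CategoryTheory CategoryTheory.Limits in
/-- For the homological functor T_i(M) = H_i(P ⊗_A M) of a chain complex P of flat modules over a
commutative ring A. Let q + 1 = p and suppose T_p takes surjections to surjections. If
multiplication by f ∈ A is injective on an A-module M, then multiplication by f is injective on
T_q(M). In particular, when A is a domain, T_q(A) is torsion-free. -/
theorem result {A : Type u} [CommRing A]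
    (P : ChainComplex (ModuleCat.{u} A) ℤ) (hP : ∀ i, Module.Flat A (P.X i)) (p q : ℤ) (hpq : q + 1 = p)
    (hex : (CohIII.TFun P p).PreservesEpimorphisms) :
    (∀ (M : ModuleCat.{u} A) (f : A), Function.Injective (fun x : M => f • x) →
        Function.Injective (fun y : CohIII.T P q M => f • y)) ∧
      (IsDomain A → NoZeroSMulDivisors A (CohIII.T P q (ModuleCat.of A A))) := by
  have hflat := (Groth.Agent.FlatCxLib.preservesEpi_iff_flat p q hP hpq).mp hex
  have main : ∀ (M : ModuleCat.{u} A) (f : A), Function.Injective (fun x : M => f • x) →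
      Function.Injective (fun y : CohIII.T P q M => f • y) := by
    intro M f hf
    let l : M →ₗ[A] M := f • LinearMap.id
    have hl := Module.Flat.lTensor_preserves_injective_linearMap
      (M := P.X q ⧸ LinearMap.range (P.d p q).hom) l hf
    intro a b hab
    rw [← sub_eq_zero]
    replace hab : f • (a - b) = 0 := by rw [smul_sub, sub_eq_zero]; exact hab
    generalize a - b = c at hab ⊢
    obtain ⟨⟨z, hz⟩, rfl⟩ := Groth.Agent.FlatCxLib.cls_surjective (CohIII.tensorObj P M) q (q - 1)
      (by omega) c
    rw [← map_smul, Groth.Agent.FlatCxLib.cls_eq_zero_iff (CohIII.tensorObj P M) p q (q - 1) hpq] at hab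
    refine (Groth.Agent.FlatCxLib.cls_eq_zero_iff (CohIII.tensorObj P M) p q (q - 1) hpq (by omega) _).mpr ?_
    have hex := rTensor_exact M (LinearMap.exact_map_mkQ_range (P.d p q).hom) (Submodule.mkQ_surjective _)
    refine (hex z).mp (hl ?_)
    rw [map_zero]
    have h1 : f • ((LinearMap.range (P.d p q).hom).mkQ.rTensor M z) = 0 := by
      rw [← map_smul]
      exact (hex _).mpr hab
    rw [show l.lTensor (P.X q ⧸ LinearMap.range (P.d p q).hom) = f • LinearMap.id by
      rw [LinearMap.lTensor_smul, LinearMap.lTensor_id]]
    exact h1
  refine ⟨main, fun hA => ⟨fun {c x} hcx => ?_⟩⟩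
  rw [or_iff_not_imp_left]
  intro hc
  refine main (ModuleCat.of A A) c (fun a b h => mul_left_cancel₀ hc h) ?_
  simpa using hcx

end Groth.Agent.S4491
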