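import Groth.Statements.S4495

set_option autoImplicit false
universe u
open FlatCx

namespace Groth.Agent.S4495

open CategoryTheory AlgebraicGeometry Opposite in
/-- A locally ringed space Z is connected, in the sense that it is not the disjoint union of two
nonempty open subsets (the empty space being allowed), if and only if every idempotent of the ring
of global sections Γ(Z, O_Z) is 0 or 1 (equivalently, Γ(Z, O_Z) is not isomorphic to a product of
two nonzero rings). -/
theorem result (Z : LocallyRingedSpace.{u}) :
    PreconnectedSpace Z ↔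
      ∀ e : Z.presheaf.obj (op ⊤), IsIdempotentElem e → e = 0 ∨ e = 1 := by
  let R : RingedSpace := Z.toRingedSpace
  constructor
  · intro hc e he
    set D : Set Z := SetLike.coe (R.basicOpen e)
    set D' : Set Z := SetLike.coe (R.basicOpen (1 - e))
    have hcov : ∀ x : Z, x ∈ D ∨ x ∈ D' := fun x => by
      refine (IsLocalRing.isUnit_or_isUnit_one_sub_self ((Z.presheaf.germ ⊤ x trivial) e)).imp
        (fun h => (RingedSpace.mem_top_basicOpen R _ x).mpr h)
        (fun h => (RingedSpace.mem_top_basicOpen R _ x).mpr ?_)
      erw [map_sub, map_one]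
      exact h
    have hdis : ∀ x : Z, x ∈ D → x ∈ D' → False := fun x h1 h2 => by
      have h := ((RingedSpace.mem_top_basicOpen R _ x).mp h1).mul
        ((RingedSpace.mem_top_basicOpen R _ x).mp h2)
      rw [← map_mul, mul_sub, mul_one, he.eq, sub_self, map_zero] at h
      exact not_isUnit_zero h
    have hclop : IsClopen D := by
      refine ⟨⟨?_⟩, (R.basicOpen e).2⟩
      have : Dᶜ = D' := by
        ext x
        exact ⟨fun h => (hcov x).resolve_left h, fun h h' => hdis x h' h⟩
      rw [this]
      exact (R.basicOpen (1 - e)).2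
    rcases isClopen_iff.mp hclop with h | h
    · refine Or.inl ?_
      have hu : IsUnit (1 - e) := R.isUnit_of_isUnit_germ ⊤ (1 - e) fun x _ => by
        have hx : x ∈ D' := (hcov x).resolve_left (h ▸ Set.notMem_empty x)
        exact (RingedSpace.mem_top_basicOpen R _ x).mp hx
      refine hu.mul_left_eq_zero.mp ?_
      rw [mul_sub, mul_one, he.eq, sub_self]
    · refine Or.inr ?_
      have hu : IsUnit e := R.isUnit_of_isUnit_germ ⊤ e fun x _ =>
        (RingedSpace.mem_top_basicOpen R _ x).mp (show x ∈ D from h ▸ Set.mem_univ x)
      exact hu.mul_left_cancel (he.eq.trans (mul_one e).symm)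
  · intro h
    rw [preconnectedSpace_iff_clopen]
    intro s hs
    let U : Bool → TopologicalSpace.Opens Z := fun b => cond b ⟨s, hs.2⟩ ⟨sᶜ, hs.1.isOpen_compl⟩
    have hcov : (⊤ : TopologicalSpace.Opens Z) ≤ iSup U := fun x _ => by
      by_cases hx : x ∈ s
      · exact TopologicalSpace.Opens.mem_iSup.mpr ⟨true, hx⟩
      · exact TopologicalSpace.Opens.mem_iSup.mpr ⟨false, hx⟩
    let sf : ∀ b : Bool, Z.presheaf.obj (op (U b)) := fun b => cond b 1 0
    have hbot : ∀ V : TopologicalSpace.Opens Z, V ≤ ⊥ →
        ∀ p q : Z.presheaf.obj (op V), p = q := fun V hV p q => by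
      refine TopCat.Presheaf.section_ext R.sheaf V p q fun x hx => absurd (hV hx) (by simp)
    have hcomp : TopCat.Presheaf.IsCompatible Z.presheaf U sf := by
      intro i j
      cases i <;> cases j
      · simp [sf]
      · exact hbot (U false ⊓ U true) (fun x (hx : x ∈ sᶜ ∧ x ∈ s) => hx.1 hx.2) _ _
      · exact hbot (U true ⊓ U false) (fun x (hx : x ∈ s ∧ x ∈ sᶜ) => hx.2 hx.1) _ _
      · simp [sf]
    obtain ⟨e, he, -⟩ := R.sheaf.existsUnique_gluing' U ⊤
      (fun b => homOfLE le_top) hcov sf hcomp
    have hid : IsIdempotentElem e := by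
      refine R.sheaf.eq_of_locally_eq' U ⊤ (fun b => homOfLE le_top) hcov _ _ fun b => ?_
      erw [map_mul, he]
      cases b
      · exact mul_zero 0
      · exact one_mul 1
    rcases h e hid with h0 | h1
    · left
      ext x
      refine ⟨fun hx => ?_, fun hx => hx.elim⟩
      exfalso
      have h2 := congrArg (fun z => R.presheaf.germ (U true) x hx z) (he true)
      simp only [h0, sf, cond_true, map_zero, map_one] at h2
      exact zero_ne_one ((map_zero _).symm.trans ((congrArg _ (map_zero _)).symm.trans h2))
    · right
      ext x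
      refine ⟨fun _ => trivial, fun _ => ?_⟩
      by_contra hx
      have h2 := congrArg (fun z => R.presheaf.germ (U false) x hx z) (he false)
      simp only [h1, sf, cond_false, map_zero, map_one] at h2
      exact one_ne_zero ((map_one _).symm.trans ((congrArg _ (map_one _)).symm.trans h2))

end Groth.Agent.S4495
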