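import Groth.Statements.S4496
import Groth.Agent.FlatCx12.Tensor

set_option autoImplicit false
universe u
open FlatCx

namespace Groth.Agent.S4496

open CategoryTheory CategoryTheory.Limits MonoidalCategory in
/-- For the homological functor T_p(M) = H_p(P ⊗_A M) of a chain complex P of flat modules over a
commutative ring A: T_p takes injections to injections and surjections to surjections if and only if
T_p is isomorphic to the functor M ↦ N ⊗_A M for some flat A-module N (which is then isomorphic to
T_p(A)). -/
theorem result {A : Type u} [CommRing A]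
    (P : ChainComplex (ModuleCat.{u} A) ℤ) (hP : ∀ i, Module.Flat A (P.X i)) (p : ℤ) :
    ((CohIII.TFun P p).PreservesMonomorphisms ∧ (CohIII.TFun P p).PreservesEpimorphisms) ↔
      ∃ N : ModuleCat.{u} A, Module.Flat A N ∧ Nonempty (CohIII.TFun P p ≅ tensorLeft N) := by
  constructor
  · intro h
    have hr : p - 1 + 1 = p := by omega
    have := hP (p - 1)
    have hfl := (Groth.Agent.FlatCxLib.preservesEpi_iff_flat p (p - 1) hP hr).mp h.2
    have hm := (Groth.Agent.FlatCxLib.preservesMono_iff_flat (p + 1) p hP rfl).mp h.1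
    exact ⟨_, (Groth.Agent.FlatCxLib.flat_coker_iff_flat_homology
      (Groth.Agent.FlatCxLib.d_comp_d_hom P (p + 1) p (p - 1))).mp hm,
      ⟨Groth.Agent.FlatCx12.TFunIso (p + 1) p (p - 1) hP rfl hr⟩⟩
  · rintro ⟨N, hN, ⟨e⟩⟩
    have h1 : (tensorLeft N).PreservesMonomorphisms := ⟨fun {X Y} φ hφ =>
      (ModuleCat.mono_iff_injective _).mpr (Module.Flat.lTensor_preserves_injective_linearMap (M := N)
        φ.hom ((ModuleCat.mono_iff_injective φ).mp hφ))⟩
    have h2 : (tensorLeft N).PreservesEpimorphisms := ⟨fun {X Y} φ hφ =>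
      (ModuleCat.epi_iff_surjective _).mpr (LinearMap.lTensor_surjective N
        ((ModuleCat.epi_iff_surjective φ).mp hφ))⟩
    exact ⟨Functor.preservesMonomorphisms.of_iso e.symm, Functor.preservesEpimorphisms.of_iso e.symm⟩

end Groth.Agent.S4496
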