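import Groth.Statements.S4498
import Groth.Agent.Coherent.CohBC.Global

set_option autoImplicit false
set_option backward.isDefEq.respectTransparency false
universe u
attribute [local instance] HasDerivedCategory.standard
open Coherent

namespace Groth.Agent.S4498

open AlgebraicGeometry CategoryTheory Opposite in
/-- The global form over an affine base. Let A be a Noetherian ring, X a proper A-scheme with structure
morphism f, and F, F' coherent O_X-modules flat over Spec A. Let η be a natural transformation from
the functor M ↦ Γ(X, f^*(M~) ⊗ F) to the functor M ↦ Γ(X, f^*(M~) ⊗ F') of the A-module M (the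
published statement takes η induced by a homomorphism F → F'; this row allows any natural
transformation, which is all the argument uses). Then the kernel functor M ↦ Ker(η_M) is
corepresentable by a finitely generated A-module R: there are such an R and a natural transformation
ι : Hom_A(R, −) → Γ(X, f^*(−~) ⊗ F) with injective components whose image at every M is exactly the
kernel of η_M. (R is then unique up to unique isomorphism.) -/
theorem result (A : Type u) [CommRing A]
    [IsNoetherianRing A] (X : Scheme.{u}) [X.Over (Spec (CommRingCat.of A))]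
    [IsProper (X ↘ Spec (CommRingCat.of A))] (F F' : X.Modules) (hF : Coh.IsCoh F) (hF' : Coh.IsCoh F')
    (hfl : FlatMod.IsFlatOver (X ↘ Spec (CommRingCat.of A)) F)
    (hfl' : FlatMod.IsFlatOver (X ↘ Spec (CommRingCat.of A)) F')
    (η : CohIII.tensorAFunctor A F ⋙ CohIII.globalSectionsA A ⟶ CohIII.tensorAFunctor A F' ⋙ CohIII.globalSectionsA A) :
    ∃ (R : ModuleCat.{u} A) (ι : (linearCoyoneda A (ModuleCat.{u} A)).obj (op R) ⟶
        CohIII.tensorAFunctor A F ⋙ CohIII.globalSectionsA A),
      Module.Finite A R ∧ (∀ M : ModuleCat.{u} A, Function.Injective (ι.app M).hom) ∧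
        ∀ (M : ModuleCat.{u} A) (x : (CohIII.tensorAFunctor A F ⋙ CohIII.globalSectionsA A).obj M),
          (η.app M).hom x = 0 ↔ ∃ y, (ι.app M).hom y = x := by
  obtain ⟨D⟩ := Groth.Agent.Coherent.CohBC.nonempty_perfData F hF hfl
  obtain ⟨D'⟩ := Groth.Agent.Coherent.CohBC.nonempty_perfData F' hF' hfl'
  obtain ⟨Q, hQ, ⟨e⟩⟩ := D.exists_corep
  obtain ⟨Q', -, ⟨e'⟩⟩ := D'.exists_corep
  obtain ⟨h, hh⟩ := (linearCoyoneda A (ModuleCat.{u} A)).map_surjective (e.inv ≫ η ≫ e'.hom)
  refine ⟨ModuleCat.of A (Q ⧸ LinearMap.range h.unop.hom),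
    (linearCoyoneda A (ModuleCat.{u} A)).map (ModuleCat.ofHom (Submodule.mkQ _)).op ≫ e.inv,
    inferInstance, fun M a b hab => ?_, fun M x => ?_⟩
  · have := (ModuleCat.mono_iff_injective (e.inv.app M)).1 inferInstance hab
    exact ModuleCat.hom_ext (Submodule.linearMap_qext _ (congrArg ModuleCat.Hom.hom this))
  · have key : (e'.hom.app M).hom ((η.app M).hom x) = h.unop ≫ (e.hom.app M).hom x := by
      refine Eq.trans ?_ (LinearMap.congr_fun (congrArg ModuleCat.Hom.hom (congrArg (fun ψ => NatTrans.app ψ M) hh)) _).symm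
      exact congrArg (fun z => (e'.hom.app M).hom ((η.app M).hom z))
        (LinearMap.congr_fun (congrArg ModuleCat.Hom.hom (e.hom_inv_id_app M)) x).symm
    constructor
    · intro hx
      have h0 : h.unop ≫ (e.hom.app M).hom x = 0 := key.symm.trans (by rw [hx, map_zero])
      refine ⟨ModuleCat.ofHom ((LinearMap.range h.unop.hom).liftQ ((e.hom.app M).hom x).hom ?_), ?_⟩
      · rintro _ ⟨q, rfl⟩
        exact LinearMap.congr_fun (congrArg ModuleCat.Hom.hom h0) q
      · refine Eq.trans ?_ (LinearMap.congr_fun (congrArg ModuleCat.Hom.hom (e.hom_inv_id_app M)) x)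
        exact congrArg (e.inv.app M).hom (ModuleCat.hom_ext (Submodule.liftQ_mkQ _ _ _))
    · rintro ⟨y, rfl⟩
      refine (ModuleCat.mono_iff_injective (e'.hom.app M)).1 inferInstance (key.trans ?_)
      rw [map_zero]
      refine (congrArg (fun z => h.unop ≫ z)
        (LinearMap.congr_fun (congrArg ModuleCat.Hom.hom (e.inv_hom_id_app M)) _)).trans ?_
      exact ModuleCat.hom_ext (LinearMap.ext fun q =>
        (congrArg y.hom ((Submodule.Quotient.mk_eq_zero _).2 ⟨q, rfl⟩)).trans (map_zero _))

end Groth.Agent.S4498
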