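import Groth.Statements.S4499
import Groth.Agent.FlatCx11.UCT
import Groth.Agent.CycLib28.SerreTor

set_option autoImplicit false
universe u
attribute [local instance] HasDerivedCategory.standard
open FlatCx

namespace Groth.Agent.S4499

open CategoryTheory CategoryTheory.Limits in
/-- Dimension shift in the first variable along a short exact sequence with flat middle term. -/
theorem nonempty_tor_two_equiv {A : Type u} [CommRing A] {I P C : Type u} [AddCommGroup I] [Module A I]
    [AddCommGroup P] [Module A P] [Module.Flat A P] [AddCommGroup C] [Module A C] (i : I →ₗ[A] P) (q : P →ₗ[A] C)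
    (hi : Function.Injective i) (hiq : Function.Exact i q) (hq : Function.Surjective q)
    (k : Type u) [AddCommGroup k] [Module A k] :
    Nonempty (DRing.Tor A 2 C k ≃ₗ[A] DRing.Tor A 1 I k) := by
  let M := ModuleCat.of A k
  let R := ProjectiveResolution.of M
  let S : ShortComplex (ModuleCat.{u} A) :=
    ShortComplex.mk (ModuleCat.ofHom i) (ModuleCat.ofHom q) (ModuleCat.hom_ext hiq.linearMap_comp_eq_zero)
  have hS : S.ShortExact := { exact := (ShortComplex.moduleCat_exact_iff _).2 fun x hx => (hiq x).1 hx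
                              mono_f := (ModuleCat.mono_iff_injective _).2 hi
                              epi_g := (ModuleCat.epi_iff_surjective _).2 hq }
  have : Module.Flat A S.X₂ := ‹Module.Flat A P›
  have hT := Groth.Agent.TorB16.tSC_shortExact R hS
  let δ := hT.δ 2 1 rfl
  have : Mono δ :=
    (hT.homology_exact₃ 2 1 rfl).mono_g ((Groth.Agent.TorB16.isZero_of_flat R S.X₂ 1).eq_of_src _ _)
  have : Epi δ :=
    (hT.homology_exact₁ 2 1 rfl).epi_f ((Groth.Agent.TorB16.isZero_of_flat R S.X₂ 0).eq_of_tgt _ _)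
  have : IsIso δ := isIso_of_mono_of_epi δ
  obtain ⟨a⟩ := Groth.Agent.TorB16.balance R 2 (ModuleCat.of A C)
  obtain ⟨b⟩ := Groth.Agent.TorB16.balance R 1 (ModuleCat.of A I)
  obtain ⟨c⟩ := Groth.Agent.CycLib28.nonempty_tor_comm 2 (ModuleCat.of A C) M
  obtain ⟨d⟩ := Groth.Agent.CycLib28.nonempty_tor_comm 1 (ModuleCat.of A I) M
  exact ⟨c.trans (a.trans ((asIso δ).toLinearEquiv.trans (b.symm.trans d.symm)))⟩

noncomputable def quotEquivAux {A : Type u} [CommRing A] {X Z T : Type u} [AddCommGroup X] [Module A X] [AddCommGroup Z]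
    [Module A Z] [AddCommGroup T] [Module A T] {Y : Submodule A Z} (θ : X →ₗ[A] Y) (hθ : Function.Surjective θ)
    (p : Submodule A X) (hp : p = LinearMap.ker θ) (e : T ≃ₗ[A] Y) : (X ⧸ p) ≃ₗ[A] T :=
  ((Submodule.quotEquivOfEq _ _ hp).trans (θ.quotKerEquivOfSurjective hθ)).trans e.symm

theorem aux {A : Type u} [CommRing A] {P₁ P₀ : Type u} [AddCommGroup P₁] [Module A P₁] [AddCommGroup P₀] [Module A P₀]
    [Module.Flat A P₁] [Module.Flat A P₀] (d : P₁ →ₗ[A] P₀) (k : Type u) [AddCommGroup k] [Module A k] :
    Nonempty (LinearMap.ker ((LinearMap.ker d).subtype.rTensor k) ≃ₗ[A] DRing.Tor A 2 (P₀ ⧸ LinearMap.range d) k) ∧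
      LinearMap.range ((LinearMap.ker d).subtype.rTensor k) ≤ LinearMap.ker (d.rTensor k) ∧
      Nonempty ((↥(LinearMap.ker (d.rTensor k)) ⧸
          Submodule.comap (LinearMap.ker (d.rTensor k)).subtype
            (LinearMap.range ((LinearMap.ker d).subtype.rTensor k))) ≃ₗ[A]
        DRing.Tor A 1 (P₀ ⧸ LinearMap.range d) k) := by
  have hKP : Function.Exact (LinearMap.ker d).subtype d.rangeRestrict := by
    rw [LinearMap.exact_iff, LinearMap.ker_rangeRestrict, Submodule.range_subtype]
  have hIP : Function.Exact (LinearMap.range d).subtype (LinearMap.range d).mkQ := LinearMap.exact_subtype_mkQ (LinearMap.range d)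
  obtain ⟨e₂⟩ := nonempty_tor_two_equiv (LinearMap.range d).subtype (LinearMap.range d).mkQ Subtype.val_injective hIP (LinearMap.range d).mkQ_surjective k
  obtain ⟨e₁⟩ := Groth.Agent.FlatCx11.nonempty_tor_one_equiv (M := k) hKP d.surjective_rangeRestrict
    Subtype.val_injective
  obtain ⟨e₀⟩ := Groth.Agent.FlatCx11.nonempty_tor_one_equiv (M := k) hIP (LinearMap.range d).mkQ_surjective
    Subtype.val_injective
  have hd : d.rTensor k = (LinearMap.range d).subtype.rTensor k ∘ₗ d.rangeRestrict.rTensor k := by
    rw [← LinearMap.rTensor_comp]; rfl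
  have hex := rTensor_exact k hKP d.surjective_rangeRestrict
  let θ : LinearMap.ker (d.rTensor k) →ₗ[A] LinearMap.ker ((LinearMap.range d).subtype.rTensor k) :=
    (d.rangeRestrict.rTensor k ∘ₗ (LinearMap.ker (d.rTensor k)).subtype).codRestrict _ fun x => by
      show (LinearMap.range d).subtype.rTensor k (d.rangeRestrict.rTensor k x.1) = 0
      have h : d.rTensor k x.1 = 0 := x.2
      exact (LinearMap.congr_fun hd x.1).symm.trans h
  have hθ : Function.Surjective θ := fun y => by
    obtain ⟨x, hx⟩ := LinearMap.rTensor_surjective k d.surjective_rangeRestrict y.1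
    refine ⟨⟨x, ?_⟩, Subtype.ext hx⟩
    rw [LinearMap.mem_ker, hd, LinearMap.comp_apply, hx]
    exact y.2
  have hle : LinearMap.range ((LinearMap.ker d).subtype.rTensor k) ≤ LinearMap.ker (d.rTensor k) := by
    rintro _ ⟨x, rfl⟩
    rw [LinearMap.mem_ker, hd, LinearMap.comp_apply, hex.apply_apply_eq_zero, map_zero]
  refine ⟨⟨?_⟩, hle, ⟨?_⟩⟩
  · exact LinearEquiv.symm (LinearEquiv.trans e₂ e₁)
  have hk : Submodule.comap (LinearMap.ker (d.rTensor k)).subtype (LinearMap.range ((LinearMap.ker d).subtype.rTensor k)) =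
      LinearMap.ker θ := by
    refine Submodule.ext fun x => ⟨fun h => ?_, fun h => ?_⟩
    · exact LinearMap.mem_ker.2 (Subtype.ext ((hex x.1).2 h))
    · exact (hex x.1).1 (congrArg Subtype.val (LinearMap.mem_ker.1 h))
  exact quotEquivAux θ hθ _ hk e₀


/-- Let A be a Noetherian local ring with residue field k, and d : P₁ → P₀ an A-linear map between flat
A-modules, viewed as a two-term chain complex, so that H₁ = Ker d, H₀ = Coker d and H₁ of the
complex tensored with k is Ker(d ⊗ 1_k). Let α : (Ker d) ⊗_A k → P₁ ⊗_A k be the map induced by the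
inclusion Ker d → P₁; its image lies in Ker(d ⊗ 1_k). Then there is an exact sequence 0 →
Tor₂^A(Coker d, k) → (Ker d) ⊗_A k → Ker(d ⊗ 1_k) → Tor₁^A(Coker d, k) → 0 with middle map α, stated
here as: Ker α is isomorphic to Tor₂^A(Coker d, k), and the quotient of Ker(d ⊗ 1_k) by the image of
α is isomorphic to Tor₁^A(Coker d, k) (existence of A-linear isomorphisms only; Tor is Mathlib's,
left derived in the second variable). (In the published statement the cokernel is printed without
its prime, as the module of 0-cycles; the proof is about the cokernel of d.) -/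
theorem result {A : Type u} [CommRing A] [IsNoetherianRing A]
    [IsLocalRing A] {P₁ P₀ : Type u} [AddCommGroup P₁] [Module A P₁] [AddCommGroup P₀] [Module A P₀]
    [Module.Flat A P₁] [Module.Flat A P₀] (d : P₁ →ₗ[A] P₀) :
    Nonempty (LinearMap.ker ((LinearMap.ker d).subtype.rTensor (IsLocalRing.ResidueField A)) ≃ₗ[A]
        DRing.Tor A 2 (P₀ ⧸ LinearMap.range d) (IsLocalRing.ResidueField A)) ∧
      LinearMap.range ((LinearMap.ker d).subtype.rTensor (IsLocalRing.ResidueField A)) ≤
        LinearMap.ker (d.rTensor (IsLocalRing.ResidueField A)) ∧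
      Nonempty ((↥(LinearMap.ker (d.rTensor (IsLocalRing.ResidueField A))) ⧸
          Submodule.comap (LinearMap.ker (d.rTensor (IsLocalRing.ResidueField A))).subtype
            (LinearMap.range ((LinearMap.ker d).subtype.rTensor (IsLocalRing.ResidueField A)))) ≃ₗ[A]
        DRing.Tor A 1 (P₀ ⧸ LinearMap.range d) (IsLocalRing.ResidueField A)) := by
  exact aux d (IsLocalRing.ResidueField A)

end Groth.Agent.S4499
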