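import Groth.Statements.S4500
import Groth.Agent.Coherent.CohBC.HomCorep

set_option autoImplicit false
universe u
attribute [local instance] HasDerivedCategory.standard
open Coherent

namespace Groth.Agent.S4500

open AlgebraicGeometry CategoryTheory CategoryTheory.Limits Opposite in
/-- The global form over an affine base. Let A be a Noetherian ring, X a proper A-scheme with structure
morphism f, F a coherent O_X-module flat over Spec A, and G an O_X-module admitting a presentation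
E₁ → E₀ → G → 0 with E₀, E₁ finite locally free O_X-modules. Then there are a finitely generated
A-module N and an isomorphism of functors of the A-module M between Hom_{O_X}(G, f^*(M~) ⊗ F) and
Hom_A(N, M) (as abelian-group-valued functors). (N is then unique up to unique isomorphism.) -/
theorem result (A : Type u) [CommRing A] [IsNoetherianRing A]
    (X : Scheme.{u}) [X.Over (Spec (CommRingCat.of A))] [IsProper (X ↘ Spec (CommRingCat.of A))]
    (F : X.Modules) (hF : Coh.IsCoh F) (hfl : FlatMod.IsFlatOver (X ↘ Spec (CommRingCat.of A)) F)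
    (G E₀ E₁ : X.Modules) (h₀ : FlatMod.IsFinLocFree E₀) (h₁ : FlatMod.IsFinLocFree E₁)
    (v : E₁ ⟶ E₀) (π : E₀ ⟶ G) [Epi π] (w : v ≫ π = 0) (hex : (ShortComplex.mk v π w).Exact) :
    ∃ N : ModuleCat.{u} A, Module.Finite A N ∧
      Nonempty (CohIII.tensorAFunctor A F ⋙ preadditiveCoyoneda.obj (op G) ≅
        (linearCoyoneda A (ModuleCat.{u} A)).obj (op N) ⋙ forget₂ (ModuleCat.{u} A) AddCommGrpCat.{u}) := by
  obtain ⟨Q₀, hQ₀, c₀, n₀⟩ := Groth.Agent.Coherent.CohBC.exists_corep_hom E₀ F hF hfl h₀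
  obtain ⟨Q₁, -, c₁, n₁⟩ := Groth.Agent.Coherent.CohBC.exists_corep_hom E₁ F hF hfl h₁
  let T := CohIII.tensorAFunctor A F
  let h : Q₁ ⟶ Q₀ := c₁ Q₀ (v ≫ (c₀ Q₀).symm (𝟙 Q₀))
  have key : ∀ (M : ModuleCat.{u} A) (φ : E₀ ⟶ T.obj M), c₁ M (v ≫ φ) = h ≫ c₀ M φ := fun M φ => by
    have e : φ = (c₀ Q₀).symm (𝟙 Q₀) ≫ T.map (c₀ M φ) := by
      apply (c₀ M).injective
      rw [n₀, AddEquiv.apply_symm_apply, Category.id_comp]
    conv_lhs => rw [e, ← Category.assoc, n₁]
  let N : ModuleCat.{u} A := ModuleCat.of A (Q₀ ⧸ LinearMap.range h.hom)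
  let q : Q₀ ⟶ N := ModuleCat.ofHom (Submodule.mkQ _)
  have hq : h ≫ q = 0 := ModuleCat.hom_ext (LinearMap.ext fun x =>
    (Submodule.Quotient.mk_eq_zero _).2 ⟨x, rfl⟩)
  have : Epi q := (ModuleCat.epi_iff_surjective q).2 (Submodule.mkQ_surjective _)
  refine ⟨N, inferInstance, ?_⟩
  have hex' : ∀ (M : ModuleCat.{u} A) (ψ : N ⟶ M), v ≫ (c₀ M).symm (q ≫ ψ) = 0 := fun M ψ => by
    apply (c₁ M).injective
    rw [key, AddEquiv.apply_symm_apply, map_zero, ← Category.assoc, hq, zero_comp]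
  let back : ∀ M : ModuleCat.{u} A, (N ⟶ M) → (G ⟶ T.obj M) := fun M ψ =>
    hex.desc ((c₀ M).symm (q ≫ ψ)) (hex' M ψ)
  have hback : ∀ (M : ModuleCat.{u} A) (ψ : N ⟶ M), c₀ M (π ≫ back M ψ) = q ≫ ψ := fun M ψ => by
    rw [show π ≫ back M ψ = (c₀ M).symm (q ≫ ψ) from hex.g_desc _ _, AddEquiv.apply_symm_apply]
  have hsurj : ∀ (M : ModuleCat.{u} A) (φ : G ⟶ T.obj M), ∃ ψ : N ⟶ M, q ≫ ψ = c₀ M (π ≫ φ) :=
    fun M φ => by
    have h0 : h ≫ c₀ M (π ≫ φ) = 0 := by
      rw [← key, ← Category.assoc, w, zero_comp, map_zero]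
    refine ⟨ModuleCat.ofHom ((LinearMap.range h.hom).liftQ (c₀ M (π ≫ φ)).hom ?_),
      ModuleCat.hom_ext (Submodule.liftQ_mkQ _ _ _)⟩
    rintro _ ⟨x, rfl⟩
    exact LinearMap.congr_fun (congrArg ModuleCat.Hom.hom h0) x
  choose fwd hfwd using hsurj
  let e : ∀ M : ModuleCat.{u} A, (G ⟶ T.obj M) ≃+ (N ⟶ M) := fun M =>
    { toFun := fwd M
      invFun := back M
      left_inv := fun φ => (cancel_epi π).1 ((c₀ M).injective ((hback M _).trans (hfwd M φ)))
      right_inv := fun ψ => (cancel_epi q).1 ((hfwd M _).trans (hback M ψ))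
      map_add' := fun φ φ' => (cancel_epi q).1 (by
        rw [hfwd, Preadditive.comp_add, map_add, ← hfwd, ← hfwd, Preadditive.comp_add]) }
  exact ⟨NatIso.ofComponents (fun M => (e M).toAddCommGrpIso) fun {M M'} g => by
    refine AddCommGrpCat.hom_ext (AddMonoidHom.ext fun φ => ?_)
    show fwd M' (φ ≫ T.map g) = fwd M φ ≫ g
    refine (cancel_epi q).1 ?_
    refine (hfwd M' (φ ≫ T.map g)).trans (Eq.trans ?_ (Category.assoc q (fwd M φ) g))
    refine Eq.trans ?_ (congrArg (· ≫ g) (hfwd M φ)).symm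
    exact ((congrArg (c₀ M') (Category.assoc π φ (T.map g)).symm).trans (n₀ M M' g (π ≫ φ)))⟩

end Groth.Agent.S4500
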