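import Groth.Statements.S4501
import Groth.Agent.FlatCxLib.BaseChange

set_option autoImplicit false
universe u
open FlatCx

namespace Groth.Agent.S4501

open CategoryTheory CategoryTheory.Limits in
/-- The case of finitely generated flat terms. Let A be a Noetherian domain, P a chain complex of
finitely generated flat A-modules, and for a prime y of A let P_y be the base change of P to the
local ring A_y. Then the set U of points y of Spec A such that the functor N ↦ H_p(P_y ⊗_{A_y} N) on
A_y-modules takes injections to injections and surjections to surjections is open and nonempty (it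
contains the generic point). -/
theorem result {A : Type u} [CommRing A] [IsNoetherianRing A] [IsDomain A]
    (P : ChainComplex (ModuleCat.{u} A) ℤ) (hP : ∀ i, Module.Finite A (P.X i) ∧ Module.Flat A (P.X i))
    (p : ℤ) :
    IsOpen {y : PrimeSpectrum A |
        (CohIII.TFun (CohIII.bcCx (algebraMap A (Localization.AtPrime y.asIdeal)) P) p).PreservesMonomorphisms ∧
          (CohIII.TFun (CohIII.bcCx (algebraMap A (Localization.AtPrime y.asIdeal)) P) p).PreservesEpimorphisms} ∧
      {y : PrimeSpectrum A |
        (CohIII.TFun (CohIII.bcCx (algebraMap A (Localization.AtPrime y.asIdeal)) P) p).PreservesMonomorphisms ∧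
          (CohIII.TFun (CohIII.bcCx (algebraMap A (Localization.AtPrime y.asIdeal)) P) p).PreservesEpimorphisms}.Nonempty := by
  have hf := fun i => (hP i).2
  have := (hP p).1
  have := (hP (p - 1)).1
  let C₁ := P.X p ⧸ LinearMap.range (P.d (p + 1) p).hom
  let C₀ := P.X (p - 1) ⧸ LinearMap.range (P.d p (p - 1)).hom
  have : Module.FinitePresentation A C₁ := Module.finitePresentation_of_finite A _
  have : Module.FinitePresentation A C₀ := Module.finitePresentation_of_finite A _
  have h : {y : PrimeSpectrum A |
      (CohIII.TFun (CohIII.bcCx (algebraMap A (Localization.AtPrime y.asIdeal)) P) p).PreservesMonomorphisms ∧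
        (CohIII.TFun (CohIII.bcCx (algebraMap A (Localization.AtPrime y.asIdeal)) P) p).PreservesEpimorphisms}
        = Module.freeLocus A C₁ ∩ Module.freeLocus A C₀ := by
    ext y
    rw [Set.mem_setOf_eq, Set.mem_inter_iff,
      Groth.Agent.FlatCxLib.preservesMono_bc_iff P hf (p + 1) p rfl,
      Groth.Agent.FlatCxLib.preservesEpi_bc_iff P hf p (p - 1) (by omega),
      Module.mem_freeLocus_iff_tensor y (Localization.AtPrime y.asIdeal),
      Module.mem_freeLocus_iff_tensor y (Localization.AtPrime y.asIdeal)]
    exact ⟨fun h => ⟨@Module.free_of_flat_of_isLocalRing _ _ _ _ _ _ _ h.1,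
      @Module.free_of_flat_of_isLocalRing _ _ _ _ _ _ _ h.2⟩,
      fun ⟨_, _⟩ => ⟨inferInstance, inferInstance⟩⟩
  rw [h]
  refine ⟨Module.isOpen_freeLocus.inter Module.isOpen_freeLocus, ⟨⊥, Ideal.isPrime_bot⟩, ?_, ?_⟩ <;>
  · rw [Module.mem_freeLocus_iff_tensor _ (Localization.AtPrime (⊥ : Ideal A))]
    let _ : Field (Localization.AtPrime (⊥ : Ideal A)) :=
      (IsLocalRing.isField_iff_maximalIdeal_eq.mpr (by
        rw [← Localization.AtPrime.map_eq_maximalIdeal, Ideal.map_bot])).toField
    infer_instance

end Groth.Agent.S4501
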