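import Groth.Statements.S4509
import Groth.Agent.FlatCx12.DVR
import Mathlib.RingTheory.Flat.TorsionFree

set_option autoImplicit false
universe u
open FlatCx

namespace Groth.Agent.S4509

open CategoryTheory CategoryTheory.Limits in
/-- The chain of inequalities for the homological functor T_p(M) = H_p(P ⊗_A M) of a chain complex P of
flat modules over a discrete valuation ring A with fraction field K and residue field k, the modules
T_i(A) = H_i(P) being finitely generated: dim_k T_p(k) ≥ dim_k (T_p(A) ⊗_A k) ≥ rank_A T_p(A) =
dim_K T_p(K). Stated as the two inequalities dim_K H_p(P ⊗_A K) ≤ dim_k (k ⊗_A H_p(P)) ≤ dim_k H_p(P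
⊗_A k). -/
theorem result {A : Type u} [CommRing A] [IsDomain A] [IsDiscreteValuationRing A]
    (P : ChainComplex (ModuleCat.{u} A) ℤ) (hP : ∀ i, Module.Flat A (P.X i))
    (hfin : ∀ i, Module.Finite A (P.homology i)) (p : ℤ) :
    Module.finrank (FractionRing A) ((CohIII.bcCx (algebraMap A (FractionRing A)) P).homology p) ≤
        Module.finrank (IsLocalRing.ResidueField A)
          (TensorProduct A (IsLocalRing.ResidueField A) (P.homology p)) ∧
      Module.finrank (IsLocalRing.ResidueField A)
          (TensorProduct A (IsLocalRing.ResidueField A) (P.homology p)) ≤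
        Module.finrank (IsLocalRing.ResidueField A)
          ((CohIII.bcCx (algebraMap A (IsLocalRing.ResidueField A)) P).homology p) := by
  let H := Groth.Agent.FlatCxLib.homologyQuot (P.d (p + 1) p).hom (P.d p (p - 1)).hom
  have hfg := fun n => Groth.Agent.FlatCxLib.d_comp_d_hom P (n + 1) n (n - 1)
  have hfinH : ∀ q p' r : ℤ, p' + 1 = q → r + 1 = p' → Module.Finite A
      (Groth.Agent.FlatCxLib.homologyQuot (P.d q p').hom (P.d p' r).hom) := fun q p' r h1 h2 =>
    have := hfin p'
    Module.Finite.equiv (Groth.Agent.FlatCxLib.homologyQuotEquiv P q p' r h1 h2).symm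
  have := hfinH (p + 1) p (p - 1) rfl (by omega)
  have e : Module.finrank (IsLocalRing.ResidueField A) (TensorProduct A (IsLocalRing.ResidueField A) (P.homology p))
      = Module.finrank (IsLocalRing.ResidueField A) (TensorProduct A (IsLocalRing.ResidueField A) H) :=
    (TensorProduct.AlgebraTensorModule.congr (LinearEquiv.refl (IsLocalRing.ResidueField A) _)
      (Groth.Agent.FlatCxLib.homologyQuotEquiv P (p + 1) p (p - 1) rfl (by omega)).symm).finrank_eq
  rw [e, Groth.Agent.FlatCxLib.finrank_bc_homology P (p + 1) p (p - 1) rfl (by omega),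
    Groth.Agent.FlatCxLib.finrank_bc_homology P (p + 1) p (p - 1) rfl (by omega)]
  constructor
  · rw [Groth.Agent.FlatCx12.finrank_homologyQuot_baseChange_field (hfg p) (FractionRing A)]
    let k := IsLocalRing.ResidueField A
    let w := Module.Free.chooseBasis k (TensorProduct A k H)
    obtain ⟨v, eq⟩ := (TensorProduct.mk_surjective A H k IsLocalRing.residue_surjective).comp_left w
    have hspan : Submodule.span A (Set.range v) = ⊤ :=
      IsLocalRing.span_eq_top_of_tmul_eq_basis _ w (congr_fun eq)
    let φ : (Module.Free.ChooseBasisIndex k (TensorProduct A k H) → A) →ₗ[A] H :=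
      Fintype.linearCombination A v
    have hφ : Function.Surjective φ := by
      rw [← LinearMap.range_eq_top, Fintype.range_linearCombination, hspan]
    refine (LinearMap.finrank_le_finrank_of_surjective (f := φ.baseChange (FractionRing A))
      (LinearMap.lTensor_surjective _ hφ)).trans ?_
    rw [Module.finrank_baseChange, Module.finrank_fintype_fun_eq_card,
      ← Module.finrank_eq_card_chooseBasisIndex]
  · obtain ⟨π, hπ⟩ := IsDiscreteValuationRing.exists_irreducible A
    have hinj : ∀ n, Function.Injective fun x : P.X n => π • x := fun n =>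
      have : Module.IsTorsionFree A (P.X n) :=
        (Submodule.isTorsionFree_iff_torsion_eq_bot (R := A)).mpr
          (IsDedekindDomain.flat_iff_torsion_eq_bot.mp (hP n))
      smul_right_injective _ hπ.ne_zero
    have : Module.Finite A (Groth.Agent.FlatCxLib.homologyQuot (P.d p (p - 1)).hom (P.d (p - 1) (p - 1 - 1)).hom) :=
      hfinH p (p - 1) (p - 1 - 1) (by omega) (by omega)
    obtain ⟨hf, α, hα⟩ := Groth.Agent.FlatCx12.finite_and_finrank_le
      (K := IsLocalRing.ResidueField A) (π := π) (hfg p)
      (Groth.Agent.FlatCxLib.d_comp_d_hom P p (p - 1) (p - 1 - 1)) IsLocalRing.residue_surjective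
      (IsLocalRing.ker_residue.trans hπ.maximalIdeal_eq) (hinj _) (hinj _)
    have := Module.Finite.of_restrictScalars_finite A (IsLocalRing.ResidueField A)
      (Groth.Agent.FlatCxLib.homologyQuot ((P.d (p + 1) p).hom.baseChange (IsLocalRing.ResidueField A))
        ((P.d p (p - 1)).hom.baseChange (IsLocalRing.ResidueField A)))
    exact LinearMap.finrank_le_finrank_of_injective hα

end Groth.Agent.S4509
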