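import Groth.Statements.S4510
import Groth.Agent.Coherent.CohBC.EtaleCriterion
import Groth.Agent.Coherent.CohBC.HomSheaf
import Groth.Agent.PicLib.FiniteSetTriv

set_option autoImplicit false
universe u
attribute [local instance] HasDerivedCategory.standard
open Coherent Groth.Agent Groth.Agent.Coherent

namespace Groth.Agent.S4510

open AlgebraicGeometry CategoryTheory CategoryTheory.Limits in
/-- Over a local base (so that the point y is the closed point and cohomological flatness at y is
exactness of T^A_0). Let A be a Noetherian local ring with maximal ideal m, X a proper and flat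
A-scheme with structure morphism f, y the closed point of Spec A (the point whose prime ideal is m),
and suppose that the ring of global functions Γ(X_y, O_{X_y}) of the closed fibre is an étale
k(y)-algebra (a finite product of finite separable extensions of k(y)). Then O_X is cohomologically
flat over Spec A in degree 0: the functor M ↦ H^0(X, f^*(M~) ⊗ O_X) of the A-module M takes
injections to injections and surjections to surjections. -/
theorem result (A : Type u) [CommRing A]
    [IsNoetherianRing A] [IsLocalRing A] (X : Scheme.{u}) [X.Over (Spec (CommRingCat.of A))]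
    [IsProper (X ↘ Spec (CommRingCat.of A))] [Flat (X ↘ Spec (CommRingCat.of A))]
    (y : ↥(Spec (CommRingCat.of A))) (hy : y.asIdeal = IsLocalRing.maximalIdeal A)
    (het : Algebra.Etale ((Spec (CommRingCat.of A)).residueField y)
      Γ((X ↘ Spec (CommRingCat.of A)).fiber y, ⊤)) :
    (CohIII.tensorAFunctor A (Coh.structureModule X) ⋙ CohIII.HAb X 0).PreservesMonomorphisms ∧
      (CohIII.tensorAFunctor A (Coh.structureModule X) ⋙ CohIII.HAb X 0).PreservesEpimorphisms := by
  obtain rfl : y = IsLocalRing.closedPoint A := PrimeSpectrum.ext hy
  have hL : PicF.IsInvertible (Coh.structureModule X) := PicLoc.isInvertible_structureModule X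
  have hlf : FlatMod.IsFinLocFree (Coh.structureModule X) :=
    fun x => let ⟨U, hx, e⟩ := PicLib.isFinLocFreeOfRank_one hL x; ⟨U, 1, hx, e⟩
  obtain ⟨D⟩ := CohBC.nonempty_perfData (Coh.structureModule X) (CohBC.isCoh_of_isFinLocFree hlf)
    (CohBC.isFlatOver_of_isFinLocFree (X ↘ Spec (CommRingCat.of A)) hlf)
  exact ⟨CohBC.preservesMono_zero D, CohBC.preservesEpi_zero_of_etale D het⟩

end Groth.Agent.S4510
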