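import Groth.Statements.S4511
import Groth.Agent.CAlgH.CompleteLocal
import Groth.Agent.CAlgH.AdicSmoothModel
import Mathlib

set_option backward.isDefEq.respectTransparency.types false

set_option autoImplicit false
universe u
open EGA41

namespace Groth.Agent.S4511

open IsLocalRing in
/-- Let A be a complete Noetherian local ring whose residue field has characteristic p (p = 0 allowed).
The following are equivalent: (a) A contains a field, i.e. there is a ring homomorphism from a field
into A; (b) p·1 = 0 in A; (c) A is isomorphic to a quotient of a power series ring K[[T_1, …, T_n]]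
over a field K. Moreover, when they hold, the surjection in (c) may be chosen with kernel contained
in the square of the maximal ideal of K[[T_1, …, T_n]]. -/
theorem result (A : Type u) [CommRing A] [IsLocalRing A] [IsNoetherianRing A]
    [IsAdicComplete (maximalIdeal A) A] (p : ℕ) [CharP (ResidueField A) p] :
    [∃ (K : Type u) (_ : Field K), Nonempty (K →+* A),
     (p : A) = 0,
     ∃ (K : Type u) (_ : Field K) (n : ℕ) (f : MvPowerSeries (Fin n) K →+* A), Function.Surjective f].TFAE ∧
    ((p : A) = 0 → ∃ (K : Type u) (_ : Field K) (n : ℕ) (f : MvPowerSeries (Fin n) K →+* A),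
      Function.Surjective f ∧ RingHom.ker f ≤ maximalIdeal (MvPowerSeries (Fin n) K) ^ 2) := by
  classical
  have hbc : (p : A) = 0 → ∃ (K : Type u) (_ : Field K) (n : ℕ) (f : MvPowerSeries (Fin n) K →+* A),
      Function.Surjective f ∧ RingHom.ker f ≤ maximalIdeal (MvPowerSeries (Fin n) K) ^ 2 := by
    intro hp0
    obtain ⟨Λ, _, φ, -, hres, hcase⟩ := Groth.Agent.CAlgH.exists_coefficient_ring A
    have hF : IsField Λ := by
      rcases hcase with ⟨hF, -⟩ | ⟨-, -, q, hq, hqm, hq0, -⟩
      · exact hF
      · exfalso
        have hdvd : p ∣ q := (CharP.cast_eq_zero_iff (ResidueField A) p q).1 (by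
          rw [← map_natCast (residue A), residue_eq_zero_iff]; exact hqm)
        obtain ⟨c, rfl⟩ := hdvd
        rw [Nat.cast_mul, hp0, zero_mul] at hq0
        exact hq0 rfl
    letI := hF.toField
    obtain ⟨t, ht, htspan⟩ := Submodule.FG.exists_span_finset_card_eq_spanFinrank (IsNoetherian.noetherian (maximalIdeal A))
    let a : Fin t.card → A := fun i => (t.equivFin.symm i : A)
    have hrange : Set.range a = (t : Set A) := by
      ext y
      exact ⟨fun ⟨i, hi⟩ => hi ▸ (t.equivFin.symm i).2, fun hy => ⟨t.equivFin ⟨y, hy⟩, by simp [a]⟩⟩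
    have ha : Ideal.span (Set.range a) = maximalIdeal A := by rw [hrange]; exact htspan
    have hI : ∀ i, a i ∈ maximalIdeal A := fun i => ha ▸ Ideal.subset_span ⟨i, rfl⟩
    obtain ⟨f, hfC, hfX⟩ := Groth.Agent.CAlgH.exists_mvPowerSeries_eval φ (maximalIdeal A) a hI
    refine ⟨Λ, inferInstance, t.card, f, ?_, fun g hg => ?_⟩
    · refine Groth.Agent.CAlgH.surjective_mvPowerSeries_hom f (maximalIdeal A) (fun i => (hfX i).symm ▸ hI i) ?_
      rw [show (fun i => f (MvPowerSeries.X i)) = a from funext hfX, hfC, ha]
      exact hres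
    · rw [RingHom.mem_ker] at hg
      have hc : MvPowerSeries.constantCoeff g = 0 := by
        by_contra hne
        have h1 := (MvPowerSeries.isUnit_iff_constantCoeff.2 (isUnit_iff_ne_zero.2 hne)).map f
        rw [hg] at h1
        exact not_isUnit_zero h1
      have hX : ∀ h : MvPowerSeries (Fin t.card) Λ, MvPowerSeries.constantCoeff h = 0 →
          h ∈ maximalIdeal (MvPowerSeries (Fin t.card) Λ) := fun h hh hu => by
        rw [MvPowerSeries.isUnit_iff_constantCoeff, hh] at hu
        exact not_isUnit_zero hu
      have hg' : g ∈ Ideal.span (Set.range MvPowerSeries.X) := by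
        rw [← Groth.Agent.CAlgH.AdicSmooth.ker_constantCoeff, RingHom.mem_ker, hc]
      obtain ⟨c, hcg⟩ := (Ideal.mem_span_range_iff_exists_fun).1 hg'
      rw [← hcg, sq]
      refine Ideal.sum_mem _ fun i _ => Ideal.mul_mem_mul ?_ (hX _ (MvPowerSeries.constantCoeff_X i))
      refine hX _ ?_
      by_contra hne
      have hu : IsUnit (f (c i)) := (MvPowerSeries.isUnit_iff_constantCoeff.2 (isUnit_iff_ne_zero.2 hne)).map f
      have hsum := congrArg f hcg
      rw [map_sum, hg] at hsum
      simp only [map_mul, hfX] at hsum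
      have hai : a i ∈ Ideal.span (a '' {i}ᶜ) := by
        rw [← Finset.add_sum_erase _ _ (Finset.mem_univ i)] at hsum
        refine (Ideal.unit_mul_mem_iff_mem _ hu).1 ?_
        rw [eq_neg_of_add_eq_zero_left hsum]
        exact neg_mem (Ideal.sum_mem _ fun j hj =>
          Ideal.mul_mem_left _ _ (Ideal.subset_span ⟨j, by simpa using hj, rfl⟩))
      have hle : maximalIdeal A ≤ Ideal.span (a '' {i}ᶜ) := by
        rw [← ha, Ideal.span_le]
        rintro _ ⟨j, rfl⟩
        by_cases hji : j = i
        · subst hji; exact hai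
        · exact Ideal.subset_span ⟨j, hji, rfl⟩
      have heq : maximalIdeal A = Submodule.span A (a '' {i}ᶜ) :=
        le_antisymm hle (Ideal.span_le.2 (Set.image_subset_iff.2 fun j _ => hI j))
      have hcard := Submodule.spanFinrank_span_le_ncard_of_finite (R := A) ((Set.toFinite ({i}ᶜ : Set (Fin t.card))).image a)
      rw [← heq, ← ht] at hcard
      have h2 := hcard.trans (Set.ncard_image_le (Set.toFinite ({i}ᶜ : Set (Fin t.card))))
      rw [Set.ncard_compl, Set.ncard_singleton, Nat.card_fin] at h2
      have := i.2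
      omega
  refine ⟨?_, hbc⟩
  tfae_have 1 → 2 := fun ⟨K, _, ⟨i⟩⟩ => by
    haveI : CharP K p :=
      (((residue A).comp i).charP_iff ((residue A).comp i).injective p).2 inferInstance
    rw [← map_natCast i, CharP.cast_eq_zero, map_zero]
  tfae_have 2 → 3 := fun h => by
    obtain ⟨K, _, n, f, hf, -⟩ := hbc h
    exact ⟨K, inferInstance, n, f, hf⟩
  tfae_have 3 → 1 := fun ⟨K, _, n, f, _⟩ => ⟨K, inferInstance, ⟨f.comp MvPowerSeries.C⟩⟩
  tfae_finish

end Groth.Agent.S4511
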