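import Groth.Statements.S4513
import Groth.Agent.EGA41Lib.GeomRedInt
import Groth.Agent.CAlgH.AdicSmoothDeriv
import Mathlib

set_option backward.isDefEq.respectTransparency.types false

set_option autoImplicit false
universe u
open EGA41

namespace Groth.Agent.S4513

open IsLocalRing in
/-- Let A be a Noetherian local ring and k a field mapping to A such that A is formally smooth over k
for the adic topology of its maximal ideal (k discrete). Then every field K with k → K → A
(compatible ring maps) is a separable extension of k, i.e. K is geometrically reduced over k. -/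
theorem result {k A K : Type u} [Field k] [CommRing A]
    [IsLocalRing A] [IsNoetherianRing A] [Algebra k A] (h : CAlgX.IsAdicFormallySmooth k A (maximalIdeal A))
    [Field K] [Algebra k K] [Algebra K A] [IsScalarTower k K A] :
    Algebra.IsGeometricallyReduced k K := by
  refine Groth.Agent.EGA41Lib.isGeometricallyReduced_of_injective_int ?_
  let q := Ideal.Quotient.mk (⊤ : Ideal (IsLocalRing.ResidueField A))
  have hsub : Subsingleton (IsLocalRing.ResidueField A ⧸ (⊤ : Ideal (IsLocalRing.ResidueField A))) :=
    Ideal.Quotient.subsingleton_iff.2 rfl
  let φ : A →+* IsLocalRing.ResidueField A := IsLocalRing.residue A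
  have hm : ∀ x ∈ maximalIdeal A ^ 1, φ x = 0 := fun x hx => by
    rw [pow_one] at hx
    exact (IsLocalRing.residue_eq_zero_iff x).2 hx
  let b := Module.Basis.ofVectorSpace k Ω[k⁄ℤ]
  rw [injective_iff_map_eq_zero]
  intro z hz
  refine (Algebra.TensorProduct.basis K b).repr.injective ?_
  rw [map_zero]
  ext j
  -- the derivation of `k` given by the coordinate `j`
  let δ : k →+ IsLocalRing.ResidueField A :=
    ((φ.comp (algebraMap k A)).toAddMonoidHom.comp (b.coord j).toAddMonoidHom).comp
      (KaehlerDifferential.D ℤ k).toLinearMap.toAddMonoidHom
  have hδ : ∀ a c, δ (a * c) = φ (algebraMap k A a) * δ c + φ (algebraMap k A c) * δ a := fun a c => by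
    change φ (algebraMap k A (b.coord j (KaehlerDifferential.D ℤ k (a * c)))) = _
    rw [Derivation.leibniz, map_add, map_smul, map_smul, smul_eq_mul, smul_eq_mul, map_add, map_add,
      map_mul, map_mul, map_mul, map_mul]
    rfl
  obtain ⟨D', hD'1, hD'2, -⟩ := Groth.Agent.CAlgH.AdicSmooth.exists_derivation_step h q
    Ideal.Quotient.mk_surjective φ 1 hm 0 (fun _ _ => Subsingleton.elim _ _) δ hδ
    (fun _ => Subsingleton.elim _ _)
  have hsmul : ∀ (a : K) (x : IsLocalRing.ResidueField A), a • x = φ (algebraMap K A a) * x := fun a x => by
    rw [Algebra.smul_def, IsScalarTower.algebraMap_apply K A (IsLocalRing.ResidueField A)]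
    rfl
  let Dk : Derivation ℤ K (IsLocalRing.ResidueField A) := Derivation.mk'
    (D'.comp (algebraMap K A).toAddMonoidHom).toIntLinearMap
    (fun a c => by
      rw [hsmul, hsmul]
      change D' (algebraMap K A (a * c)) = φ (algebraMap K A a) * D' (algebraMap K A c) +
        φ (algebraMap K A c) * D' (algebraMap K A a)
      rw [map_mul, hD'1])
  have key : ∀ y : TensorProduct k K Ω[k⁄ℤ],
      Dk.liftKaehlerDifferential (KaehlerDifferential.mapBaseChange ℤ k K y) =
        φ (algebraMap K A ((Algebra.TensorProduct.basis K b).repr y j)) := by
    intro y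
    induction y using TensorProduct.induction_on with
    | zero => simp
    | add x y hx hy => simp only [map_add, Finsupp.add_apply, hx, hy]
    | tmul c ω =>
      have hω : ω ∈ Submodule.span k (Set.range (KaehlerDifferential.D ℤ k)) := by
        rw [KaehlerDifferential.span_range_derivation]; trivial
      induction hω using Submodule.span_induction generalizing c with
      | mem x hx =>
        obtain ⟨a, rfl⟩ := hx
        rw [KaehlerDifferential.mapBaseChange_tmul, KaehlerDifferential.map_D, map_smul,
          Derivation.liftKaehlerDifferential_comp_D, Algebra.TensorProduct.basis_repr_tmul]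
        rw [hsmul]
        change φ (algebraMap K A c) * D' (algebraMap K A (algebraMap k K a)) = _
        rw [← IsScalarTower.algebraMap_apply k K A, hD'2, Finsupp.smul_apply, Finsupp.mapRange_apply,
          smul_eq_mul, map_mul, map_mul, ← IsScalarTower.algebraMap_apply k K A]
        rfl
      | zero => simp
      | add x y _ _ hx hy =>
        simp only [TensorProduct.tmul_add, map_add, Finsupp.add_apply, hx c, hy c]
      | smul a x _ hx => rw [← TensorProduct.smul_tmul]; exact hx (a • c)
  have h2 := key z
  rw [hz, map_zero] at h2
  have h3 : (IsLocalRing.residue A).comp (algebraMap K A) ((Algebra.TensorProduct.basis K b).repr z j) = 0 := h2.symm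
  exact (map_eq_zero _).1 h3

end Groth.Agent.S4513
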