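import Groth.Statements.S4514
import Groth.Agent.EGA41Lib.CohenAlgebra
import Mathlib

set_option backward.isDefEq.respectTransparency.types false

set_option autoImplicit false
universe u
open EGA41

namespace Groth.Agent.S4514

open IsLocalRing TensorProduct in
/-- Let A be a Noetherian local ring with residue field k, and let B₀ be a k-algebra which is a complete
regular local ring. Then there exist a complete Noetherian local ring B and a local homomorphism A →
B making B a flat A-module, such that B₀ is k-isomorphic to k ⊗_A B = B/𝔪B. -/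
theorem result {A : Type u} [CommRing A] [IsLocalRing A] [IsNoetherianRing A]
    (B₀ : Type u) [CommRing B₀] [IsRegularLocalRing B₀] [IsAdicComplete (maximalIdeal B₀) B₀]
    [Algebra (ResidueField A) B₀] :
    ∃ (B : Type u) (_ : CommRing B) (_ : IsLocalRing B) (_ : IsNoetherianRing B) (_ : Algebra A B)
      (_ : IsLocalHom (algebraMap A B)),
      IsAdicComplete (maximalIdeal B) B ∧ Module.Flat A B ∧
        Nonempty (ResidueField A ⊗[A] B ≃ₐ[ResidueField A] B₀) := by
  obtain ⟨C, iC, lC, iA, ρ, h1, h2, h3, h4, h5, h6, h7⟩ := Groth.Agent.EGA41Lib.exists_flat_lift_residueField A B₀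
  refine ⟨C, iC, lC, h1, iA, h4, h2, h3, ⟨?_⟩⟩
  letI : Algebra A B₀ := ((algebraMap (ResidueField A) B₀).comp (residue A)).toAlgebra
  haveI : IsScalarTower A (ResidueField A) B₀ := .of_algebraMap_eq fun _ => rfl
  let ρₐ : C →ₐ[A] B₀ :=
    { toRingHom := ρ
      commutes' := fun a => RingHom.congr_fun h7 a }
  let φ : ResidueField A ⊗[A] C →ₐ[ResidueField A] B₀ :=
    Algebra.TensorProduct.lift (Algebra.ofId (ResidueField A) B₀) ρₐ fun _ _ => Commute.all _ _
  have hφ : ∀ c, φ ((1 : ResidueField A) ⊗ₜ[A] c) = ρ c := fun c => by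
    rw [Algebra.TensorProduct.lift_tmul, map_one, one_mul]
    rfl
  refine AlgEquiv.ofBijective φ ⟨?_, fun y => ?_⟩
  · rw [injective_iff_map_eq_zero]
    intro z hz
    obtain ⟨c, rfl⟩ := Groth.Agent.CAlgH.AdicSmooth.includeRight_surjective_of_surjective A (ResidueField A) C residue_surjective z
    rw [Algebra.TensorProduct.includeRight_apply, hφ, ← RingHom.mem_ker, h6] at hz
    have hker := Groth.Agent.CAlgH.AdicSmooth.ker_includeRight_of_surjective A (ResidueField A) C residue_surjective
    have hz' : c ∈ (RingHom.ker (algebraMap A (ResidueField A))).map (algebraMap A C) := by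
      rw [show RingHom.ker (algebraMap A (ResidueField A)) = maximalIdeal A from ker_residue (R := A)]; exact hz
    rw [← hker] at hz'
    exact hz'
  · obtain ⟨c, rfl⟩ := h5 y
    exact ⟨_, hφ c⟩

end Groth.Agent.S4514
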