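import Groth.Statements.S4515
import Groth.Agent.EGA41Lib.Exal
import Mathlib

set_option backward.isDefEq.respectTransparency.types false

set_option autoImplicit false
universe u
open EGA41

namespace Groth.Agent.S4515

/-- Let A be a ring, J an ideal of A, and M, N two A-modules which are Hausdorff for the J-adic
topology; suppose moreover that N is J-adically complete and M is flat. Let u : N → M be A-linear.
If the induced map N/JN → M/JM is bijective (surjectivity and injectivity written out below), then u
is bijective. -/
theorem result {A : Type u} [CommRing A] (J : Ideal A)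
    {M N : Type u} [AddCommGroup M] [Module A M] [AddCommGroup N] [Module A N]
    [IsHausdorff J M] [IsAdicComplete J N] [Module.Flat A M] (u : N →ₗ[A] M)
    (hsurj : ∀ m : M, ∃ n : N, m - u n ∈ (J • ⊤ : Submodule A M))
    (hinj : ∀ n : N, u n ∈ (J • ⊤ : Submodule A M) → n ∈ (J • ⊤ : Submodule A N)) :
    Function.Bijective u := by
  have hmem : ∀ (k : ℕ) (w : M), w ∈ (J ^ k • ⊤ : Submodule A M) →
      ∃ n ∈ (J ^ k • ⊤ : Submodule A N), w - u n ∈ (J ^ (k + 1) • ⊤ : Submodule A M) := by
    intro k w hw
    induction hw using Submodule.smul_induction_on' with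
    | smul r hr m _ =>
      obtain ⟨n, hn⟩ := hsurj m
      refine ⟨r • n, Submodule.smul_mem_smul hr trivial, ?_⟩
      rw [map_smul, ← smul_sub, pow_succ, Submodule.mul_smul]
      exact Submodule.smul_mem_smul hr hn
    | add x _ y _ hx hy =>
      obtain ⟨a, ha, ha'⟩ := hx
      obtain ⟨b, hb, hb'⟩ := hy
      exact ⟨a + b, add_mem ha hb, by rw [map_add, add_sub_add_comm]; exact add_mem ha' hb'⟩
  constructor
  · let ub : (N ⧸ (J • ⊤ : Submodule A N)) →ₗ[A] (M ⧸ (J • ⊤ : Submodule A M)) :=
      Submodule.mapQ _ _ u (fun x hx ↦ by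
        have := Submodule.mem_map_of_mem (f := u) hx
        rw [Submodule.map_smul''] at this
        exact Submodule.smul_mono le_rfl le_top this)
    have hub : Function.Bijective ub := by
      constructor
      · rw [injective_iff_map_eq_zero]
        intro x hx
        obtain ⟨x, rfl⟩ := Submodule.Quotient.mk_surjective _ x
        exact (Submodule.Quotient.mk_eq_zero _).2 (hinj x ((Submodule.Quotient.mk_eq_zero _).1 hx))
      · intro x
        obtain ⟨x, rfl⟩ := Submodule.Quotient.mk_surjective _ x
        obtain ⟨n, hn⟩ := hsurj x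
        exact ⟨Submodule.Quotient.mk n, ((Submodule.Quotient.eq _).2 hn).symm⟩
    let v : M →ₗ[A] (N ⧸ (J • ⊤ : Submodule A N)) :=
      (LinearEquiv.ofBijective ub hub).symm.toLinearMap ∘ₗ (J • ⊤ : Submodule A M).mkQ
    have hv : ∀ x, v (u x) = (J • ⊤ : Submodule A N).mkQ x := fun x ↦
      (LinearEquiv.ofBijective ub hub).symm_apply_apply (Submodule.Quotient.mk x)
    rw [injective_iff_map_eq_zero]
    intro n hn
    refine IsHausdorff.haus (inferInstance : IsHausdorff J N) n fun k ↦ ?_
    rw [SModEq.zero]
    induction k with
    | zero => simp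
    | succ k ih =>
      let I := J ^ k
      let K : Submodule A N := J ^ (k + 1) • ⊤
      let mul : I →ₗ[A] (N ⧸ (J • ⊤ : Submodule A N)) →ₗ[A] (N ⧸ K) :=
        { toFun := fun r ↦ Submodule.mapQ _ _ ((r : A) • LinearMap.id) (fun x hx ↦ by
            rw [Submodule.mem_comap, LinearMap.smul_apply, LinearMap.id_apply]
            have := Submodule.smul_mem_smul r.2 hx
            rwa [← Submodule.mul_smul, ← pow_succ] at this)
          map_add' := fun r r' ↦ by ext; simp [add_smul]
          map_smul' := fun a r ↦ by ext; simp [mul_smul] }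
      let φ : TensorProduct A I M →ₗ[A] N ⧸ K := TensorProduct.lift (mul.compl₂ v)
      have ht : ∀ z ∈ (I • ⊤ : Submodule A N), ∃ t : TensorProduct A I N,
          TensorProduct.lid A N (I.subtype.rTensor N t) = z := by
        intro z hz
        induction hz using Submodule.smul_induction_on' with
        | smul r hr m _ => exact ⟨⟨r, hr⟩ ⊗ₜ m, by simp⟩
        | add x _ y _ hx hy =>
          obtain ⟨a, rfl⟩ := hx
          obtain ⟨b, rfl⟩ := hy
          exact ⟨a + b, by simp⟩
      obtain ⟨t, rfl⟩ := ht n ih
      have h1 : ∀ t, TensorProduct.lid A M (I.subtype.rTensor M (u.lTensor I t)) =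
          u (TensorProduct.lid A N (I.subtype.rTensor N t)) := by
        intro t
        induction t with
        | zero => simp
        | add x y hx hy => simp only [map_add, hx, hy]
        | tmul r x => simp
      have h2 : ∀ t, φ (u.lTensor I t) = K.mkQ (TensorProduct.lid A N (I.subtype.rTensor N t)) := by
        intro t
        induction t with
        | zero => simp
        | add x y hx hy => simp only [map_add, hx, hy]
        | tmul r x => simp [φ, mul, hv]
      have h3 : u.lTensor I t = 0 := by
        apply Module.Flat.rTensor_preserves_injective_linearMap I.subtype Subtype.val_injective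
        apply (TensorProduct.lid A M).injective
        rw [h1, hn, map_zero, map_zero]
      have h4 := h2 t
      rw [h3, map_zero] at h4
      exact (Submodule.Quotient.mk_eq_zero K).1 h4.symm
  · intro w
    choose g hg hg' using hmem
    let step : (k : ℕ) → {x : M // x ∈ (J ^ k • ⊤ : Submodule A M)} →
        {x : M // x ∈ (J ^ (k + 1) • ⊤ : Submodule A M)} := fun k x ↦ ⟨x.1 - u (g k x.1 x.2), hg' k x.1 x.2⟩
    let seq : (k : ℕ) → {x : M // x ∈ (J ^ k • ⊤ : Submodule A M)} := fun k ↦
      Nat.rec ⟨w, by simp⟩ step k
    let part : ℕ → N := fun k ↦ ∑ i ∈ Finset.range k, g i (seq i).1 (seq i).2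
    have hpart : ∀ k, w - u (part k) = (seq k).1 := by
      intro k
      induction k with
      | zero => simp [part, seq]
      | succ k ih =>
        have h1 : part (k + 1) = part k + g k (seq k).1 (seq k).2 := Finset.sum_range_succ _ _
        rw [h1, map_add, ← sub_sub, ih]
    have hcauchy : ∀ {m n : ℕ}, m ≤ n → part m ≡ part n [SMOD (J ^ m • ⊤ : Submodule A N)] := by
      intro m n hmn
      refine SModEq.symm (SModEq.sub_mem.2 ?_)
      rw [show part n = part m + _ from (Finset.sum_range_add_sum_Ico _ hmn).symm, add_sub_cancel_left]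
      refine Submodule.sum_mem _ fun i hi ↦ ?_
      exact Submodule.smul_mono_left (Ideal.pow_le_pow_right (Finset.mem_Ico.1 hi).1) (hg i _ _)
    obtain ⟨L, hL⟩ := IsPrecomplete.prec' (I := J) part hcauchy
    refine ⟨L, sub_eq_zero.1 (IsHausdorff.haus ‹IsHausdorff J M› _ fun k ↦ ?_)⟩
    rw [SModEq.zero]
    have h1 : u L - u (part k) ∈ (J ^ k • ⊤ : Submodule A M) := by
      rw [← map_sub]
      have := SModEq.sub_mem.1 (hL k).symm
      have h2 := Submodule.mem_map_of_mem (f := u) this
      rw [Submodule.map_smul''] at h2
      exact Submodule.smul_mono le_rfl le_top h2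
    have h2 : w - u (part k) ∈ (J ^ k • ⊤ : Submodule A M) := by rw [hpart]; exact (seq k).2
    have := sub_mem h1 h2
    rwa [sub_sub_sub_cancel_right] at this

end Groth.Agent.S4515
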