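import Groth.Statements.S4516
import Groth.Agent.EGA41Lib.PBasisKaehler
import Mathlib

set_option backward.isDefEq.respectTransparency.types false

set_option autoImplicit false
universe u
open EGA41

namespace Groth.Agent.S4516

/-- Let p be a prime, B an A-algebra of characteristic p and A' an A-subalgebra of B contained in
A[B^p]. Then the canonical map between Ω_{B/A} and Ω_{B/A'} is bijective (every A-derivation of B
vanishes on A[B^p]). -/
theorem result (p : ℕ) [Fact p.Prime] {A B : Type u}
    [CommRing A] [CommRing B] [Algebra A B] [CharP B p] (A' : Subalgebra A B)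
    (hA' : A' ≤ EGA41.pPowerSubalgebra p A B) :
    Function.Bijective (KaehlerDifferential.map A A' B B) := by
  refine ⟨?_, KaehlerDifferential.map_surjective A A' B⟩
  rw [injective_iff_map_eq_zero]
  intro ω hω
  obtain ⟨z, rfl⟩ := (KaehlerDifferential.exact_mapBaseChange_map A A' B ω).1 hω
  suffices KaehlerDifferential.mapBaseChange A A' B = 0 by rw [this, LinearMap.zero_apply]
  refine LinearMap.restrictScalars_injective A' (TensorProduct.ext' fun b ξ => ?_)
  have hξ : ξ ∈ Submodule.span A' (Set.range (KaehlerDifferential.D A A')) := by
    rw [KaehlerDifferential.span_range_derivation]; trivial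
  induction hξ using Submodule.span_induction generalizing b with
  | mem x hx =>
    obtain ⟨a, rfl⟩ := hx
    simp only [LinearMap.coe_restrictScalars, KaehlerDifferential.mapBaseChange_tmul, KaehlerDifferential.map_D]
    rw [show algebraMap A' B a = (a : B) from rfl,
      Groth.Agent.EGA41Lib.PB.derivation_eq_zero_of_mem_adjoin_pow _ (hA' a.2), smul_zero,
      LinearMap.zero_apply]
  | zero => simp
  | add x y _ _ hx hy => rw [TensorProduct.tmul_add, map_add, map_add, hx, hy]
  | smul a x _ hx => rw [← TensorProduct.smul_tmul]; exact hx (a • b)

end Groth.Agent.S4516
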