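import Groth.Statements.S4517
import Groth.Agent.EGA41Lib.Exal
import Mathlib

set_option backward.isDefEq.respectTransparency.types false

set_option autoImplicit false
universe u
open EGA41

namespace Groth.Agent.S4517

/-- Let p be a prime, B an A-algebra of characteristic p, and suppose there is s ≥ 0 such that b^(p^s)
lies in the image of A for every b ∈ B. Then the kernel of the multiplication map B ⊗_A B → B is a
nil ideal. -/
theorem result (p : ℕ) [Fact p.Prime] {A B : Type u}
    [CommRing A] [CommRing B] [Algebra A B] [CharP B p] (s : ℕ)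
    (hpow : ∀ b : B, b ^ p ^ s ∈ Set.range (algebraMap A B)) :
    ∀ x ∈ KaehlerDifferential.ideal A B, IsNilpotent x := by
  intro x hx
  cases subsingleton_or_nontrivial (TensorProduct A B B) with
  | inl h => exact ⟨1, Subsingleton.elim _ _⟩
  | inr h =>
    have hp : ((p : ℕ) : TensorProduct A B B) = 0 := by
      rw [← map_natCast (algebraMap B (TensorProduct A B B)), CharP.cast_eq_zero, map_zero]
    have : CharP (TensorProduct A B B) p := by
      obtain ⟨q, hq⟩ := CharP.exists (TensorProduct A B B)
      have hdvd : q ∣ p := (CharP.cast_eq_zero_iff _ q p).1 hp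
      rcases (Nat.dvd_prime (Fact.out (p := p.Prime))).1 hdvd with rfl | rfl
      · exact absurd rfl (CharP.char_ne_one (TensorProduct A B B) 1)
      · exact hq
    suffices KaehlerDifferential.ideal A B ≤ nilradical (TensorProduct A B B) from this hx
    rw [← KaehlerDifferential.span_range_eq_ideal, Ideal.span_le]
    rintro _ ⟨b, rfl⟩
    refine ⟨p ^ s, ?_⟩
    obtain ⟨a, ha⟩ := hpow b
    rw [sub_pow_char_pow, Algebra.TensorProduct.tmul_pow, Algebra.TensorProduct.tmul_pow, one_pow, ← ha,
      Algebra.algebraMap_eq_smul_one, TensorProduct.tmul_smul, ← TensorProduct.smul_tmul', sub_self]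
    exact Submodule.zero_mem _

end Groth.Agent.S4517
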