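import Groth.Statements.S4518
import Groth.Agent.EGA41Lib.PBasisTower
import Groth.Agent.EGA41Lib.PBasisBase
import Mathlib

set_option backward.isDefEq.respectTransparency.types false

set_option autoImplicit false
universe u
open EGA41

namespace Groth.Agent.S4518

/-- Let p be a prime and A → C → B rings of characteristic p with C → B injective and every p-th power
of B in the image of A (so, identifying, B^p ⊆ A ⊆ C ⊆ B up to replacing A by its image); let x be a
family of elements of C and y a family of elements of B. (i) If x is a system of p-generators of C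
over A and y one of B over C, then the family obtained by putting x (viewed in B) and y together is
a system of p-generators of B over A. (ii) If x is a p-basis of C over A, then y is p-independent
over C if and only if the combined family is p-independent over A. (The published statement only
asks B^p ⊆ C and reduces to B^p ⊆ A by enlarging A to A[B^p]; but p-independence of x in C over A
refers to A[C^p], which can be smaller than A[B^p] — for A = 𝔽_p, C = 𝔽_p(t^p) ⊂ B = 𝔽_p(t), x =
(t^p), y = (t), x is a p-basis of C over A and y is p-independent over C while (t^p, t) is not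
p-independent over A — so this row assumes B^p ⊆ A, the case the published proof treats.) -/
theorem result (p : ℕ) [Fact p.Prime] {A C B : Type u} [CommRing A] [CommRing C]
    [CommRing B] [Algebra A C] [Algebra C B] [Algebra A B] [IsScalarTower A C B] [CharP B p]
    (hinj : Function.Injective (algebraMap C B)) (hpow : ∀ b : B, b ^ p ∈ Set.range (algebraMap A B))
    {ι κ : Type u} (x : ι → C) (y : κ → B) :
    (EGA41.IsPGenerating p A x → EGA41.IsPGenerating p C y →
      EGA41.IsPGenerating p A (Sum.elim (fun i => algebraMap C B (x i)) y)) ∧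
    (EGA41.IsPBasis p A x →
      (EGA41.IsPIndependent p C y ↔ EGA41.IsPIndependent p A (Sum.elim (fun i => algebraMap C B (x i)) y))) := by
  have hp : 0 < p := (Fact.out : p.Prime).pos
  have hpowA : ∀ c : C, c ^ p ∈ Set.range (algebraMap A C) := fun c => by
    obtain ⟨a, ha⟩ := hpow (algebraMap C B c)
    exact ⟨a, hinj (by rw [← IsScalarTower.algebraMap_apply, ha, map_pow])⟩
  have hpowC : ∀ b : B, b ^ p ∈ Set.range (algebraMap C B) := fun b => by
    obtain ⟨a, ha⟩ := hpow b
    exact ⟨algebraMap A C a, by rw [← IsScalarTower.algebraMap_apply, ha]⟩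
  refine ⟨fun hx hy => ?_, fun hx => ?_⟩
  · rw [Groth.Agent.EGA41Lib.PB.isPGenerating_iff_adjoin hp hpow]
    exact Groth.Agent.EGA41Lib.PB.adjoin_sum_eq_top x y
      ((Groth.Agent.EGA41Lib.PB.isPGenerating_iff_adjoin hp hpowA).1 hx)
      ((Groth.Agent.EGA41Lib.PB.isPGenerating_iff_adjoin hp hpowC).1 hy)
  let M := EGA41.pPowerSubalgebra p A C
  have hMB : ∀ m : M, algebraMap M B m = algebraMap C B (m : C) := fun _ => rfl
  have hMinj : Function.Injective (algebraMap M B) := hinj.comp Subtype.val_injective
  have hMA : ∀ m : M, ∃ a : A, algebraMap A B a = algebraMap M B m := fun m => by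
    obtain ⟨a, ha⟩ := Algebra.mem_bot.1 ((Groth.Agent.EGA41Lib.PB.pPowerSubalgebra_eq_bot hpowA).le m.2)
    exact ⟨a, by rw [hMB, ← ha, ← IsScalarTower.algebraMap_apply]⟩
  have hAM : ∀ a : A, ∃ m : M, algebraMap M B m = algebraMap A B a := fun a =>
    ⟨⟨algebraMap A C a, Subalgebra.algebraMap_mem _ a⟩, (IsScalarTower.algebraMap_apply A C B a).symm⟩
  have key : ∀ {η : Type u} (z : η → B), EGA41.IsPIndependent p A z ↔
      LinearIndependent M fun e : Groth.Agent.EGA41Lib.PB.Red p η => Groth.Agent.EGA41Lib.PB.mon z e.1 :=
    fun z => (Groth.Agent.EGA41Lib.PB.isPIndependent_iff_coeff hpow).trans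
      (Groth.Agent.EGA41Lib.PB.linearIndependent_iff_coeff _ hMinj hMA hAM).symm
  have key2 : EGA41.IsPIndependent p C y ↔
      LinearIndependent C fun e : Groth.Agent.EGA41Lib.PB.Red p κ => Groth.Agent.EGA41Lib.PB.mon y e.1 :=
    (Groth.Agent.EGA41Lib.PB.isPIndependent_iff_coeff hpowC).trans
      (Groth.Agent.EGA41Lib.PB.linearIndependent_iff_coeff _ hinj (fun c => ⟨c, rfl⟩) (fun c => ⟨c, rfl⟩)).symm
  rw [key, key2]
  exact ⟨Groth.Agent.EGA41Lib.PB.linearIndependent_sum x y hx.1,
    Groth.Agent.EGA41Lib.PB.linearIndependent_of_sum x y hx.2⟩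

end Groth.Agent.S4518
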