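import Groth.Statements.S4520
import Groth.Agent.EGA41Lib.PBasisTower
import Groth.Agent.EGA41Lib.PBasisBase
import Mathlib

set_option backward.isDefEq.respectTransparency.types false

set_option autoImplicit false
universe u
open EGA41

namespace Groth.Agent.S4520

open TensorProduct in
/-- Let p be a prime, B a reduced ring of characteristic p, A a subring with B^p ⊆ A ⊆ B (here A → B
injective with all p-th powers in its image, and R → A → B with image in B the set of p-th powers, R
standing for B^p). Suppose B has a p-basis (x_λ) over A and A has a p-basis over R, and let x'_λ ∈ A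
map to x_λ^p. Then the elements 1 ⊗ d_{A/ℤ}(x'_λ) form a basis of the B-module Υ_{B/A}, the kernel
of B ⊗_A Ω_{A/ℤ} → Ω_{B/ℤ}. (The published statement also identifies Υ_{B/A} with the Frobenius
twist of Ω_{B/A}; this row states only the basis.) -/
theorem result (p : ℕ) [Fact p.Prime] {R A B : Type u} [CommRing R] [CommRing A]
    [CommRing B] [IsReduced B] [Algebra R A] [Algebra A B] [Algebra R B] [IsScalarTower R A B] [CharP B p]
    (hinj : Function.Injective (algebraMap A B)) (hpow : ∀ b : B, b ^ p ∈ Set.range (algebraMap A B))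
    (hR : Set.range (algebraMap R B) = Set.range fun b : B => b ^ p)
    {Λ M : Type u} (x : Λ → B) (hx : EGA41.IsPBasis p A x) (x' : Λ → A) (hx' : ∀ i, algebraMap A B (x' i) = x i ^ p)
    (y : M → A) (hy : EGA41.IsPBasis p R y) :
    ∃ b : Module.Basis Λ B (EGA41.imperfection ℤ A B),
      ∀ i, (b i : B ⊗[A] Ω[A⁄ℤ]) = (1 : B) ⊗ₜ[A] KaehlerDifferential.D ℤ A (x' i) := by
  classical
  have hp : 0 < p := (Fact.out : p.Prime).pos
  haveI : CharP A p := (algebraMap A B).charP hinj p
  have hbot : EGA41.pPowerSubalgebra p R A = ⊥ := Groth.Agent.EGA41Lib.PB.pPowerSubalgebra_eq_bot fun a => by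
    obtain ⟨r, hr⟩ : (algebraMap A B a) ^ p ∈ Set.range (algebraMap R B) := hR ▸ ⟨algebraMap A B a, rfl⟩
    exact ⟨r, hinj (by rw [← IsScalarTower.algebraMap_apply, hr, map_pow])⟩
  let C := EGA41.pPowerSubalgebra p R A
  let MA := Algebra.adjoin ℤ (Set.range fun a : A => a ^ p)
  have hC : ∀ c : C, ∃ b : B, algebraMap A B (c : A) = b ^ p := fun c => by
    obtain ⟨r, hr⟩ := Algebra.mem_bot.1 (hbot.le c.2)
    obtain ⟨b, hb⟩ : algebraMap R B r ∈ Set.range fun b : B => b ^ p := hR ▸ ⟨r, rfl⟩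
    exact ⟨b, by rw [← hr, ← IsScalarTower.algebraMap_apply]; exact hb.symm⟩
  have hpowC : ∀ b : B, ∃ c : C, algebraMap A B (c : A) = b ^ p := fun b => by
    obtain ⟨r, hr⟩ : b ^ p ∈ Set.range (algebraMap R B) := hR ▸ ⟨b, rfl⟩
    exact ⟨⟨algebraMap R A r, Subalgebra.algebraMap_mem _ r⟩, by rw [← IsScalarTower.algebraMap_apply, hr]⟩
  have hroot : ∀ m : MA, ∃ a : A, a ^ p = (m : A) := by
    rintro ⟨m, hm⟩
    induction hm using Algebra.adjoin_induction with
    | mem z hz => exact hz
    | algebraMap n =>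
      exact ⟨(n : A), by
        change (n : A) ^ p = algebraMap ℤ A n
        rw [eq_intCast, ← frobenius_def, map_intCast]⟩
    | add z z' _ _ hz hz' =>
      obtain ⟨a, rfl⟩ := hz
      obtain ⟨a', rfl⟩ := hz'
      exact ⟨a + a', add_pow_char a a' p⟩
    | mul z z' _ _ hz hz' =>
      obtain ⟨a, rfl⟩ := hz
      obtain ⟨a', rfl⟩ := hz'
      exact ⟨a * a', mul_pow a a' p⟩
  have hMC : ∀ m : MA, (m : A) ∈ C := fun m => by
    obtain ⟨a, ha⟩ := hroot m
    exact ha ▸ Algebra.subset_adjoin ⟨a, rfl⟩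
  letI : Algebra MA C :=
    ({ toFun := fun m => ⟨(m : A), hMC m⟩, map_one' := rfl, map_mul' := fun _ _ => rfl,
       map_zero' := rfl, map_add' := fun _ _ => rfl } : MA →+* C).toAlgebra
  haveI : IsScalarTower MA C A := .of_algebraMap_eq fun _ => rfl
  have hxC : ∀ i, x' i ∈ C := fun i => by
    obtain ⟨c, hc⟩ := hpowC (x i)
    have : (c : A) = x' i := hinj (by rw [hc, hx'])
    exact this ▸ c.2
  let u : Λ → C := fun i => ⟨x' i, hxC i⟩
  have hpowA : ∀ b : B, b ^ p ∈ Set.range (algebraMap A B) := hpow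
  have hxind := (Groth.Agent.EGA41Lib.PB.isPIndependent_iff_coeff hpowA).1 hx.1
  have hxgen := (Groth.Agent.EGA41Lib.PB.isPGenerating_iff_adjoin hp hpowA).1 hx.2
  have hu : LinearIndependent MA fun e : Groth.Agent.EGA41Lib.PB.Red p Λ => Groth.Agent.EGA41Lib.PB.mon u e.1 := by
    rw [linearIndependent_iff']
    intro t m hm e he
    choose a ha using hroot
    have h1 : (∑ e ∈ t, algebraMap A B (a (m e)) * Groth.Agent.EGA41Lib.PB.mon x e.1) ^ p = 0 := by
      have h2 := congrArg (fun c : C => algebraMap A B (c : A)) hm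
      simp only [ZeroMemClass.coe_zero, map_zero] at h2
      rw [sum_pow_char, ← h2, AddSubmonoidClass.coe_finset_sum, map_sum]
      refine Finset.sum_congr rfl fun e _ => ?_
      rw [mul_pow, ← map_pow, ha, Algebra.smul_def, Subalgebra.coe_mul, map_mul]
      congr 1
      simp [Groth.Agent.EGA41Lib.PB.mon, Finsupp.prod, u, hx', ← Finset.prod_pow, ← pow_mul, mul_comm p]
    have h3 := hxind t (fun e => a (m e)) (eq_zero_of_pow_eq_zero h1) e he
    refine Subtype.ext ?_
    rw [← ha (m e), hinj (h3.trans (map_zero _).symm), zero_pow hp.ne']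
    rfl
  have hgenC : ∀ c : C, c ∈ Algebra.adjoin MA (Set.range u) := by
    have h : ∀ b : B, ∃ c ∈ Algebra.adjoin MA (Set.range u), algebraMap A B (c : A) = b ^ p := by
      intro b
      have hb : b ∈ Algebra.adjoin A (Set.range x) := hxgen ▸ Algebra.mem_top
      induction hb using Algebra.adjoin_induction with
      | mem z hz =>
        obtain ⟨i, rfl⟩ := hz
        exact ⟨u i, Algebra.subset_adjoin ⟨i, rfl⟩, hx' i⟩
      | algebraMap a =>
        exact ⟨algebraMap MA C ⟨a ^ p, Algebra.subset_adjoin ⟨a, rfl⟩⟩, Subalgebra.algebraMap_mem _ _,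
          map_pow _ _ _⟩
      | add z z' _ _ hz hz' =>
        obtain ⟨c, hc, e1⟩ := hz
        obtain ⟨c', hc', e2⟩ := hz'
        exact ⟨c + c', add_mem hc hc', by rw [Subalgebra.coe_add, map_add, e1, e2, add_pow_char]⟩
      | mul z z' _ _ hz hz' =>
        obtain ⟨c, hc, e1⟩ := hz
        obtain ⟨c', hc', e2⟩ := hz'
        exact ⟨c * c', mul_mem hc hc', by rw [Subalgebra.coe_mul, map_mul, e1, e2, mul_pow]⟩
    intro c
    obtain ⟨b, hb⟩ := hC c
    obtain ⟨c', hc', e⟩ := h b
    have : c = c' := Subtype.ext (hinj (hb.trans e.symm))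
    exact this ▸ hc'
  have hyind : LinearIndependent C fun e : Groth.Agent.EGA41Lib.PB.Red p M => Groth.Agent.EGA41Lib.PB.mon y e.1 := hy.1
  have hygen : Algebra.adjoin C (Set.range y) = ⊤ :=
    (Groth.Agent.EGA41Lib.PB.span_mon_eq_top_iff hp y
      (fun i => ⟨⟨y i ^ p, Algebra.subset_adjoin ⟨y i, rfl⟩⟩, rfl⟩)).1 hy.2
  let w : Λ ⊕ M → A := Sum.elim (fun i => x' i) y
  obtain ⟨bA, hbA⟩ := Groth.Agent.EGA41Lib.PB.exists_basis_kaehler (M := MA) (A := ℤ) (fun m => m.2) w
    (fun i => ⟨⟨w i ^ p, Algebra.subset_adjoin ⟨w i, rfl⟩⟩, rfl⟩)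
    (Groth.Agent.EGA41Lib.PB.linearIndependent_sum u y hu hyind)
    (Groth.Agent.EGA41Lib.PB.adjoin_sum_eq_top u y (_root_.eq_top_iff.2 fun c _ => hgenC c) hygen)
  -- the `p`-basis of `B` over its `p`-th powers
  let v : M ⊕ Λ → B := Sum.elim (fun j => algebraMap A B (y j)) x
  have hpowv : ∀ i, v i ^ p ∈ Set.range (algebraMap C B) := fun i => by
    obtain ⟨c, hc⟩ := hpowC (v i)
    exact ⟨c, hc⟩
  have hxB : LinearIndependent A fun e : Groth.Agent.EGA41Lib.PB.Red p Λ => Groth.Agent.EGA41Lib.PB.mon x e.1 :=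
    Groth.Agent.EGA41Lib.PB.linearIndependent_base hinj hpowA hx.1
  obtain ⟨bB, hbB⟩ := Groth.Agent.EGA41Lib.PB.exists_basis_kaehler (M := C) (A := ℤ)
    (fun c => by
      obtain ⟨b, hb⟩ := hC c
      exact hb.symm ▸ Algebra.subset_adjoin ⟨b, rfl⟩)
    v hpowv (Groth.Agent.EGA41Lib.PB.linearIndependent_sum y x hyind hxB)
    (Groth.Agent.EGA41Lib.PB.adjoin_sum_eq_top y x hygen hxgen)
  let b' := Algebra.TensorProduct.basis B bA
  let f := KaehlerDifferential.mapBaseChange ℤ A B
  have hinl : ∀ i, f (b' (Sum.inl i)) = 0 := fun i => by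
    rw [Algebra.TensorProduct.basis_apply, KaehlerDifferential.mapBaseChange_tmul, one_smul, hbA,
      KaehlerDifferential.map_D]
    change KaehlerDifferential.D ℤ B (algebraMap A B (x' i)) = 0
    rw [hx', Groth.Agent.EGA41Lib.PB.derivation_pow_eq_zero]
  have hinr : ∀ j, f (b' (Sum.inr j)) = bB (Sum.inl j) := fun j => by
    rw [Algebra.TensorProduct.basis_apply, KaehlerDifferential.mapBaseChange_tmul, one_smul, hbA,
      KaehlerDifferential.map_D, hbB]
    rfl
  have hmem : ∀ i, b' (Sum.inl i) ∈ EGA41.imperfection ℤ A B := hinl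
  let g : Λ → EGA41.imperfection ℤ A B := fun i => ⟨b' (Sum.inl i), hmem i⟩
  have hg : LinearIndependent B g :=
    LinearIndependent.of_comp (EGA41.imperfection ℤ A B).subtype (b'.linearIndependent.comp Sum.inl Sum.inl_injective)
  have hspan : ⊤ ≤ Submodule.span B (Set.range g) := by
    rintro ⟨z, hz⟩ -
    have hcoord : ∀ w : TensorProduct A B Ω[A⁄ℤ], ∀ j, bB.repr (f w) (Sum.inl j) = b'.repr w (Sum.inr j) := by
      intro w j
      have hlin : (bB.coord (Sum.inl j)) ∘ₗ f = b'.coord (Sum.inr j) := by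
        refine b'.ext fun i => ?_
        rw [LinearMap.comp_apply]
        cases i with
        | inl i => simp [hinl]
        | inr i => simp [hinr, Finsupp.single_apply]
      exact LinearMap.congr_fun hlin w
    have hzero : ∀ j, b'.repr z (Sum.inr j) = 0 := fun j => by
      rw [← hcoord, show f z = 0 from hz, map_zero, Finsupp.zero_apply]
    have hz' : z ∈ Submodule.span B (b' '' Set.range Sum.inl) := by
      rw [b'.mem_span_image]
      intro i hi
      cases i with
      | inl i => exact ⟨i, rfl⟩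
      | inr j => exact absurd (hzero j) (Finsupp.mem_support_iff.1 hi)
    rw [← Submodule.apply_mem_span_image_iff_mem_span (f := (EGA41.imperfection ℤ A B).subtype) Subtype.val_injective]
    have himg : (EGA41.imperfection ℤ A B).subtype '' Set.range g = b' '' Set.range Sum.inl := by
      rw [← Set.range_comp, ← Set.range_comp]
      rfl
    rw [himg]
    exact hz'
  refine ⟨Module.Basis.mk hg hspan, fun i => ?_⟩
  rw [Module.Basis.mk_apply]
  change b' (Sum.inl i) = _
  rw [Algebra.TensorProduct.basis_apply, hbA]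
  rfl

end Groth.Agent.S4520
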