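import Groth.Statements.S4521
import Groth.Agent.EGA41Lib.PBasisKaehler
import Mathlib

set_option backward.isDefEq.respectTransparency.types false

set_option autoImplicit false
universe u
open EGA41

namespace Groth.Agent.S4521

/-- Let k ⊆ K be fields of characteristic p > 0 and (x_α) a family of elements of K. Then (x_α) is
p-independent over k if and only if, for every α, x_α does not lie in the subfield generated over k
by K^p and the x_β with β ≠ α. -/
theorem result (p : ℕ) [Fact p.Prime] {k K : Type u} [Field k] [Field K]
    [Algebra k K] [CharP K p] {ι : Type u} (x : ι → K) :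
    EGA41.IsPIndependent p k x ↔
      ∀ a : ι, x a ∉ IntermediateField.adjoin k ((Set.range fun y : K => y ^ p) ∪ x '' {b | b ≠ a}) := by
  rw [show EGA41.IsPIndependent p k x ↔
    ∀ a, x a ∉ Algebra.adjoin (EGA41.pPowerSubalgebra p k K) (x '' {b | b ≠ a}) from
    Groth.Agent.EGA41Lib.PB.linearIndependent_iff_forall_not_mem
      (Groth.Agent.EGA41Lib.PB.pow_mem_range_powAlg p k) Subtype.val_injective x]
  refine forall_congr' fun a => not_congr ?_
  constructor
  · generalize x a = t
    intro h
    induction h using Algebra.adjoin_induction with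
    | mem y hy => exact IntermediateField.subset_adjoin k _ (Or.inr hy)
    | algebraMap m =>
      exact IntermediateField.algebra_adjoin_le_adjoin k _
        (Algebra.adjoin_mono Set.subset_union_left m.2)
    | add y y' _ _ hy hy' => exact add_mem hy hy'
    | mul y y' _ _ hy hy' => exact mul_mem hy hy'
  · intro h
    let S := Algebra.adjoin (EGA41.pPowerSubalgebra p k K) (x '' {b | b ≠ a})
    have hS : ∀ b : K, b ^ p ∈ S := fun b =>
      S.algebraMap_mem ⟨b ^ p, Algebra.subset_adjoin ⟨b, rfl⟩⟩
    let F : IntermediateField k K := (S.restrictScalars k).toIntermediateField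
      fun b hb => (Groth.Agent.EGA41Lib.PB.subfieldOf S hS).inv_mem hb
    have hle : IntermediateField.adjoin k ((Set.range fun y : K => y ^ p) ∪ x '' {b | b ≠ a}) ≤ F := by
      rw [IntermediateField.adjoin_le_iff]
      rintro y (⟨b, rfl⟩ | hy)
      · exact hS b
      · exact Algebra.subset_adjoin (R := EGA41.pPowerSubalgebra p k K) hy
    exact hle h

end Groth.Agent.S4521
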