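import Groth.Statements.S4522
import Groth.Agent.EGA41Lib.PSeparable
import Mathlib

set_option backward.isDefEq.respectTransparency.types false

set_option autoImplicit false
universe u
open EGA41

namespace Groth.Agent.S4522

/-- Let L be a field of characteristic p > 0 and K a subfield with L^p ⊆ K ⊆ L (here R → K → L with the
image of R in L the set of p-th powers and every p-th power of L in the image of K). Then the
canonical L-linear map L ⊗_K Ω_{K/L^p} → Ω_{L/L^p} is injective, so that 0 → Ω_{K/L^p} ⊗_K L →
Ω_{L/L^p} → Ω_{L/K} → 0 is exact: the imperfection module of L over K relative to L^p vanishes. -/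
theorem result (p : ℕ) [Fact p.Prime] {R K L : Type u} [Field R] [Field K] [Field L]
    [Algebra R K] [Algebra K L] [Algebra R L] [IsScalarTower R K L] [CharP L p]
    (hR : Set.range (algebraMap R L) = Set.range fun y : L => y ^ p)
    (hK : ∀ y : L, y ^ p ∈ Set.range (algebraMap K L)) :
    Function.Injective (KaehlerDifferential.mapBaseChange R K L) := by
  haveI : CharP K p := (algebraMap K L).charP (algebraMap K L).injective p
  refine Groth.Agent.EGA41Lib.PB.injective_mapBaseChange_of_persist p R fun {κ} v hv => ?_
  have hle : ∀ c ∈ Groth.Agent.EGA41Lib.PB.powAlg p R L, ∃ r : R, algebraMap R L r = c := by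
    intro c hc
    have h1 : Groth.Agent.EGA41Lib.PB.powAlg p R L ≤ ⊥ :=
      Algebra.adjoin_le (by rw [← hR]; exact fun _ h => Algebra.mem_bot.2 h)
    exact Algebra.mem_bot.1 (h1 hc)
  rw [linearIndependent_iff']
  intro t c hc i hi
  choose r hr using fun i => hle _ (c i).2
  let c' : κ → Groth.Agent.EGA41Lib.PB.powAlg p R K :=
    fun i => ⟨algebraMap R K (r i), Subalgebra.algebraMap_mem _ _⟩
  have h1 : ∑ i ∈ t, c' i • v i = 0 := by
    apply (algebraMap K L).injective
    rw [map_zero, map_sum, ← hc]
    refine Finset.sum_congr rfl fun i _ => ?_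
    rw [Subalgebra.smul_def, Subalgebra.smul_def, smul_eq_mul, smul_eq_mul, map_mul,
      ← IsScalarTower.algebraMap_apply R K L, hr]
  have h2 : algebraMap R K (r i) = 0 := congrArg Subtype.val (linearIndependent_iff'.1 hv t c' h1 i hi)
  apply Subtype.ext
  rw [← hr, IsScalarTower.algebraMap_apply R K L, h2, map_zero]
  rfl

end Groth.Agent.S4522
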