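import Groth.Statements.S4523
import Groth.Agent.EGA41Lib.FieldSeparableSmooth
import Mathlib

set_option backward.isDefEq.respectTransparency.types false

set_option autoImplicit false
universe u
open EGA41

namespace Groth.Agent.S4523

/-- Let k ⊆ K be fields. Then K is a separable extension of k if and only if the imperfection module
Υ_{K/k} vanishes, i.e. the canonical map Ω_{k/ℤ} ⊗_k K → Ω_{K/ℤ} is injective, and if and only if
every derivation of k into K extends to a derivation of K into itself. (No hypothesis on the
characteristic.) -/
theorem result {k K : Type u} [Field k] [Field K] [Algebra k K] :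
    (Algebra.IsGeometricallyReduced k K ↔ EGA41.imperfection ℤ k K = ⊥) ∧
    (Algebra.IsGeometricallyReduced k K ↔
      ∀ D : Derivation ℤ k K, ∃ D' : Derivation ℤ K K, ∀ a : k, D' (algebraMap k K a) = D a) := by
  have h1 : Algebra.IsGeometricallyReduced k K ↔
      Function.Injective (KaehlerDifferential.mapBaseChange ℤ k K) := by
    refine ⟨fun _ => Groth.Agent.EGA41Lib.injective_mapBaseChange_of_isGeometricallyReduced ℤ k K, fun h => ?_⟩
    obtain _ | ⟨p, hp, hpk⟩ := CharP.exists' k
    · exact Groth.Agent.EGA41Lib.isGeometricallyReduced_of_charZero k K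
    · haveI : CharP K p := charP_of_injective_algebraMap (algebraMap k K).injective p
      exact Groth.Agent.EGA41Lib.PB.isGeometricallyReduced_of_macLane p
        (Groth.Agent.EGA41Lib.macLane_of_injective_prime ℤ p
          (Groth.Agent.EGA41Lib.exists_pow_eq_algebraMap_int p) h)
  have h2 : Function.Injective (KaehlerDifferential.mapBaseChange ℤ k K) ↔
      EGA41.imperfection ℤ k K = ⊥ := LinearMap.ker_eq_bot.symm
  refine ⟨h1.trans h2, h1.trans ⟨fun h D => ?_, fun h => ?_⟩⟩
  · let f := D.liftKaehlerDifferential.liftBaseChange K
    obtain ⟨g, hg⟩ := (KaehlerDifferential.mapBaseChange ℤ k K).exists_leftInverse_of_injective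
      (LinearMap.ker_eq_bot.2 h)
    refine ⟨(f ∘ₗ g).compDer (KaehlerDifferential.D ℤ K), fun a => ?_⟩
    have := LinearMap.congr_fun hg (TensorProduct.tmul k (1 : K) (KaehlerDifferential.D ℤ k a))
    rw [LinearMap.comp_apply, KaehlerDifferential.mapBaseChange_tmul, one_smul, KaehlerDifferential.map_D] at this
    change f (g (KaehlerDifferential.D ℤ K (algebraMap k K a))) = D a
    rw [this, LinearMap.id_apply, LinearMap.liftBaseChange_tmul, Derivation.liftKaehlerDifferential_comp_D,
      one_smul]
  · rw [injective_iff_map_eq_zero]
    intro z hz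
    by_contra hne
    obtain ⟨φ, hφ⟩ : ∃ φ : Module.Dual K (TensorProduct k K Ω[k⁄ℤ]), φ z ≠ 0 := by
      by_contra! hall; exact hne ((Module.forall_dual_apply_eq_zero_iff K z).1 hall)
    obtain ⟨D', hD'⟩ := h (((φ.restrictScalars k) ∘ₗ TensorProduct.mk k K Ω[k⁄ℤ] 1).compDer
      (KaehlerDifferential.D ℤ k))
    refine hφ ?_
    have key : φ = D'.liftKaehlerDifferential ∘ₗ KaehlerDifferential.mapBaseChange ℤ k K := by
      let b := Submodule.span k (Set.range (KaehlerDifferential.D ℤ k))
      refine LinearMap.restrictScalars_injective k (TensorProduct.ext' fun c ω => ?_)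
      have hω : ω ∈ b := by
        change ω ∈ Submodule.span k (Set.range (KaehlerDifferential.D ℤ k))
        rw [KaehlerDifferential.span_range_derivation]; trivial
      induction hω using Submodule.span_induction generalizing c with
      | mem x hx =>
        obtain ⟨a, rfl⟩ := hx
        simp only [LinearMap.coe_restrictScalars, LinearMap.comp_apply,
          KaehlerDifferential.mapBaseChange_tmul, KaehlerDifferential.map_D, map_smul,
          Derivation.liftKaehlerDifferential_comp_D, hD']
        change φ _ = c • φ _
        rw [← map_smul, TensorProduct.mk_apply, TensorProduct.smul_tmul', smul_eq_mul, mul_one]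
        rfl
      | zero => simp
      | add x y _ _ hx hy => rw [TensorProduct.tmul_add, map_add, map_add, hx, hy]
      | smul a x _ hx => rw [← TensorProduct.smul_tmul]; exact hx (a • c)
    rw [key, LinearMap.comp_apply, hz, map_zero]

end Groth.Agent.S4523
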