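import Groth.Statements.S4524
import Mathlib

set_option autoImplicit false
universe u
open scoped TensorProduct
open EGA41

namespace Groth.Agent.S4524

/-- Let k be a field of characteristic 0 and K an extension of k. Then Ω_{K/k} = 0 if and only if K is
an algebraic extension of k. -/
theorem result {k K : Type u} [Field k] [CharZero k] [Field K] [Algebra k K] :
    Subsingleton (Ω[K⁄k]) ↔ Algebra.IsAlgebraic k K := by
  constructor
  · intro h
    obtain ⟨s, hs⟩ := exists_isTranscendenceBasis k K
    let P := MvPolynomial s k
    let L := IntermediateField.adjoin k (Set.range ((↑) : s → K))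
    let e : FractionRing P ≃ₐ[k] L := hs.1.aevalEquivField
    let : Algebra (FractionRing P) K := ((IntermediateField.val L).comp e.toAlgHom).toRingHom.toAlgebra
    have : IsScalarTower k (FractionRing P) K :=
      IsScalarTower.of_algebraMap_eq fun x ↦ (((IntermediateField.val L).comp e.toAlgHom).commutes x).symm
    have : Algebra.IsAlgebraic L K := hs.isAlgebraic_field
    have : Algebra.IsAlgebraic (FractionRing P) K :=
      Algebra.IsAlgebraic.of_ringHom_of_comp_eq (R := FractionRing P) (S := L) (A := K) (B := K)
        e.toRingEquiv.toRingHom (RingHom.id K) e.surjective Function.injective_id rfl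
    have : CharZero (FractionRing P) := charZero_of_injective_algebraMap (algebraMap k (FractionRing P)).injective
    have : Algebra.IsSeparable (FractionRing P) K := inferInstance
    have : Algebra.FormallyEtale (FractionRing P) K := Algebra.FormallyEtale.of_isSeparable _ _
    have h1 : Subsingleton (K ⊗[FractionRing P] Ω[FractionRing P⁄k]) :=
      (KaehlerDifferential.tensorKaehlerEquivOfFormallyEtale k (FractionRing P) K).injective.subsingleton
    have h2 : Subsingleton Ω[FractionRing P⁄k] :=
      Module.FaithfullyFlat.lTensor_reflects_triviality (FractionRing P) K Ω[FractionRing P⁄k]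
    have h3 : IsEmpty s := ⟨fun a ↦ by
      have h0 : KaehlerDifferential.map k k P (FractionRing P) (KaehlerDifferential.D k P (MvPolynomial.X a)) = 0 :=
        Subsingleton.elim _ _
      have h4 := (IsLocalizedModule.eq_zero_iff (nonZeroDivisors P) (KaehlerDifferential.map k k P (FractionRing P))).mp h0
      obtain ⟨c, hc⟩ := h4
      have h5 := congrArg (fun ω ↦ (KaehlerDifferential.mvPolynomialBasis k s).repr ω a) hc
      simp [Submonoid.smul_def] at h5
      rw [KaehlerDifferential.mvPolynomialBasis_repr_D_X] at h5
      simp at h5⟩
    exact hs.isEmpty_iff_isAlgebraic.mp h3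
  · intro h
    have : Algebra.IsSeparable k K := inferInstance
    have : Algebra.FormallyEtale k K := Algebra.FormallyEtale.of_isSeparable _ _
    infer_instance

end Groth.Agent.S4524

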