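import Groth.Statements.S4526
import Groth.Agent.EGA41Lib.CartierEquality
import Mathlib

set_option backward.isDefEq.respectTransparency.types false

set_option autoImplicit false
universe u
open EGA41

namespace Groth.Agent.S4526

/-- Let k ⊆ K ⊆ L be three fields with L an extension of finite type of k. Then Ω_{L/k} and Ω_{K/k} are
finite-dimensional and rank_L Ω_{L/k} − rank_K Ω_{K/k} ≥ trdeg_K L. (The published statement also
gives the exact value trdeg_K L + d(L/K, k) and an equality criterion; this row states only the
inequality.) -/
theorem result {k K L : Type u} [Field k] [Field K] [Field L]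
    [Algebra k K] [Algebra K L] [Algebra k L] [IsScalarTower k K L] [Algebra.EssFiniteType k L] :
    Module.Finite L (Ω[L⁄k]) ∧ Module.Finite K (Ω[K⁄k]) ∧
      (Cardinal.toNat (Algebra.trdeg K L) : ℤ) ≤ (Module.finrank L (Ω[L⁄k]) : ℤ) - Module.finrank K (Ω[K⁄k]) := by
  haveI : Algebra.EssFiniteType K L := Algebra.EssFiniteType.of_comp k K L
  obtain ⟨d, hd, hΩ, hΥ, hle, -⟩ := Groth.Agent.EGA41Lib.exists_indexProp k K L
  haveI : Module.Finite L (Ω[L⁄k]) := inferInstance
  haveI := hΥ
  let f := KaehlerDifferential.mapBaseChange k K L
  let g := KaehlerDifferential.map k K L L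
  have hex : Function.Exact f g := KaehlerDifferential.exact_mapBaseChange_map k K L
  have hg : Function.Surjective g := KaehlerDifferential.map_surjective k K L
  haveI hT : Module.Finite L (TensorProduct K L (Ω[K⁄k])) := by
    haveI : Module.Finite L (LinearMap.ker f) := hΥ
    haveI : Module.Finite L (TensorProduct K L (Ω[K⁄k]) ⧸ LinearMap.ker f) :=
      Module.Finite.equiv f.quotKerEquivRange.symm
    exact Module.Finite.of_submodule_quotient (LinearMap.ker f)
  haveI hK : Module.Finite K (Ω[K⁄k]) := Module.Finite.of_finite_tensorProduct_of_faithfullyFlat L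
  refine ⟨inferInstance, hK, ?_⟩
  rw [hd, Cardinal.toNat_natCast, ← Module.finrank_baseChange (R := L) (M' := (Ω[K⁄k]))]
  have h1 := LinearMap.finrank_range_add_finrank_ker f
  have h2 := LinearMap.finrank_range_add_finrank_ker g
  have h3 : Module.finrank L (LinearMap.range g) = Module.finrank L (Ω[L⁄K]) := by
    rw [LinearMap.range_eq_top.2 hg, finrank_top]
  have h4 : Module.finrank L (LinearMap.ker g) = Module.finrank L (LinearMap.range f) := by
    rw [LinearMap.exact_iff.1 hex]
  have h5 : Module.finrank L (LinearMap.ker f) = Module.finrank L (EGA41.imperfection k K L) := rfl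
  omega

end Groth.Agent.S4526
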