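import Groth.Statements.S4529
import Groth.Agent.EGA41Lib.RegularPow
import Mathlib

set_option backward.isDefEq.respectTransparency.types false

set_option autoImplicit false
universe u
open EGA41

namespace Groth.Agent.S4529

/-- Let A be a ring, M, N two A-modules with N projective, u : M → N a homomorphism and J an ideal of A;
suppose either (i) J is nilpotent, or (ii) J is contained in the Jacobson radical of A and M is of
finite type. Then u is left invertible if and only if the induced map u₀ : M/JM → N/JN is left
invertible. (A left inverse of u₀ composed with N → N/JN is an A-linear map v : N → M/JM with v ∘ u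
the projection, and conversely; the right-hand side is written in that form.) -/
theorem result {A : Type u} [CommRing A] {M N : Type u} [AddCommGroup M] [Module A M]
    [AddCommGroup N] [Module A N] [Module.Projective A N] (u : M →ₗ[A] N) (J : Ideal A)
    (hJ : IsNilpotent J ∨ (J ≤ (⊥ : Ideal A).jacobson ∧ Module.Finite A M)) :
    (∃ w : N →ₗ[A] M, w ∘ₗ u = LinearMap.id) ↔
      ∃ v : N →ₗ[A] M ⧸ (J • ⊤ : Submodule A M), v ∘ₗ u = (J • ⊤ : Submodule A M).mkQ := by
  constructor
  · rintro ⟨w, hw⟩
    exact ⟨(J • ⊤ : Submodule A M).mkQ ∘ₗ w, by rw [LinearMap.comp_assoc, hw, LinearMap.comp_id]⟩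
  · rintro ⟨v, hv⟩
    obtain ⟨w, hw⟩ := Module.projective_lifting_property (J • ⊤ : Submodule A M).mkQ v (Submodule.mkQ_surjective _)
    let φ : M →ₗ[A] M := w ∘ₗ u
    have hφ : ∀ x, x - φ x ∈ (J • ⊤ : Submodule A M) := fun x ↦ by
      rw [← Submodule.Quotient.eq]
      have h1 := congr($hw (u x))
      have h2 := congr($hv x)
      exact (h1.trans h2).symm
    have hbij : Function.Bijective φ := by
      rcases hJ with hJ | ⟨hJ, hM⟩
      · have hstep : ∀ k, ∀ x ∈ (J ^ k • ⊤ : Submodule A M),
            x - φ x ∈ (J ^ (k + 1) • ⊤ : Submodule A M) := by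
          intro k x hx
          induction hx using Submodule.smul_induction_on' with
          | smul r hr m _ =>
            rw [map_smul, ← smul_sub, pow_succ, Submodule.mul_smul]
            exact Submodule.smul_mem_smul hr (hφ m)
          | add x _ y _ hx hy => rw [map_add, add_sub_add_comm]; exact add_mem hx hy
        obtain ⟨n, hn⟩ := hJ
        let ψ : Module.End A M := 1 - φ
        have hpow : ∀ k x, (ψ ^ k) x ∈ (J ^ k • ⊤ : Submodule A M) := by
          intro k
          induction k with
          | zero => intro x; rw [pow_zero, pow_zero, Ideal.one_eq_top, Submodule.top_smul]; trivial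
          | succ k ih => intro x; rw [pow_succ' ψ]; exact hstep k _ (ih x)
        have hψ : IsNilpotent ψ := ⟨n, LinearMap.ext fun x ↦ by
          have := hpow n x
          rw [hn, Ideal.zero_eq_bot, Submodule.bot_smul, Submodule.mem_bot] at this
          exact this⟩
        have hu : IsUnit (φ : Module.End A M) := by
          have h1 : (φ : Module.End A M) = 1 - ψ := (sub_sub_cancel 1 (φ : Module.End A M)).symm
          rw [h1]; exact hψ.isUnit_one_sub
        exact (Module.End.isUnit_iff _).1 hu
      · refine OrzechProperty.bijective_of_surjective_endomorphism φ (LinearMap.range_eq_top.1 ?_)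
        refine top_le_iff.1 (Submodule.le_of_le_smul_of_le_jacobson_bot Module.Finite.fg_top hJ ?_)
        intro x _
        exact Submodule.mem_sup.2 ⟨φ x, ⟨x, rfl⟩, x - φ x, hφ x, add_sub_cancel _ _⟩
    refine ⟨(LinearEquiv.ofBijective φ hbij).symm.toLinearMap ∘ₗ w, LinearMap.ext fun x ↦ ?_⟩
    exact (LinearEquiv.ofBijective φ hbij).symm_apply_apply x

end Groth.Agent.S4529
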