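import Groth.Statements.S4530
import Groth.Agent.EGA41Lib.LeftInverse
import Mathlib

set_option backward.isDefEq.respectTransparency.types false

set_option autoImplicit false
universe u
open EGA41

namespace Groth.Agent.S4530

open TensorProduct in
/-- Let A be a ring, M an A-module of finite type, N a projective A-module, u : M → N a homomorphism.
For a prime ideal 𝔭 the following are equivalent: (a) u_𝔭 : M_𝔭 → N_𝔭 is left invertible; (b) u ⊗ 1
: M ⊗ k(𝔭) → N ⊗ k(𝔭) is injective; (d) there is f ∉ 𝔭 with u_f : M_f → N_f left invertible.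
Moreover the set of such 𝔭 is open in Spec A. (The published statement also has a determinant
criterion (c); this row omits it.) -/
theorem result {A : Type u} [CommRing A] {M N : Type u} [AddCommGroup M] [Module A M]
    [Module.Finite A M] [AddCommGroup N] [Module A N] [Module.Projective A N] (u : M →ₗ[A] N) :
    (∀ p : PrimeSpectrum A,
      [∃ w : LocalizedModule p.asIdeal.primeCompl N →ₗ[A] LocalizedModule p.asIdeal.primeCompl M,
          w ∘ₗ LocalizedModule.map p.asIdeal.primeCompl u = LinearMap.id,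
       Function.Injective (u.lTensor p.asIdeal.ResidueField),
       ∃ f : A, f ∉ p.asIdeal ∧
          ∃ w : LocalizedModule (Submonoid.powers f) N →ₗ[A] LocalizedModule (Submonoid.powers f) M,
            w ∘ₗ LocalizedModule.map (Submonoid.powers f) u = LinearMap.id].TFAE) ∧
    IsOpen {p : PrimeSpectrum A |
      ∃ w : LocalizedModule p.asIdeal.primeCompl N →ₗ[A] LocalizedModule p.asIdeal.primeCompl M,
        w ∘ₗ LocalizedModule.map p.asIdeal.primeCompl u = LinearMap.id} := by
  have key : ∀ p : PrimeSpectrum A,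
      (∃ w : LocalizedModule p.asIdeal.primeCompl N →ₗ[A]
          LocalizedModule p.asIdeal.primeCompl M, w ∘ₗ LocalizedModule.map p.asIdeal.primeCompl u = LinearMap.id) ↔
        ∃ s ∉ p.asIdeal, Groth.Agent.EGA41Lib.HasLeftInv u s := fun p =>
    Groth.Agent.EGA41Lib.exists_leftInverse_localizedModule_iff u p.asIdeal.primeCompl
  refine ⟨fun p => ?_, ?_⟩
  · tfae_have 1 → 2 := fun h => by
      obtain ⟨s, hs, hw⟩ := (key p).1 h
      exact Groth.Agent.EGA41Lib.injective_lTensor_of_hasLeftInv u hw _
        (isUnit_iff_ne_zero.2 fun h0 => hs (Ideal.algebraMap_residueField_eq_zero.1 h0))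
    tfae_have 2 → 3 := fun h => by
      obtain ⟨s, hs, hw⟩ := Groth.Agent.EGA41Lib.exists_hasLeftInv_of_injective u p.asIdeal h
      exact ⟨s, hs, (Groth.Agent.EGA41Lib.exists_leftInverse_localizedModule_iff u (Submonoid.powers s)).2
        ⟨s, Submonoid.mem_powers s, hw⟩⟩
    tfae_have 3 → 1 := fun ⟨f, hf, h⟩ => by
      obtain ⟨s, ⟨k, hk⟩, hw⟩ := (Groth.Agent.EGA41Lib.exists_leftInverse_localizedModule_iff u (Submonoid.powers f)).1 h
      exact (key p).2 ⟨s, fun hs => hf (p.isPrime.mem_of_pow_mem k (by rw [← hk] at hs; exact hs)), hw⟩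
    tfae_finish
  · rw [show {p : PrimeSpectrum A | ∃ w : LocalizedModule p.asIdeal.primeCompl N →ₗ[A]
        LocalizedModule p.asIdeal.primeCompl M, w ∘ₗ LocalizedModule.map p.asIdeal.primeCompl u = LinearMap.id} =
      ⋃ s ∈ {s | Groth.Agent.EGA41Lib.HasLeftInv u s}, (PrimeSpectrum.basicOpen s : Set (PrimeSpectrum A)) from by
      ext p
      simp only [Set.mem_setOf_eq, key, Set.mem_iUnion, PrimeSpectrum.basicOpen_eq_zeroLocus_compl, Set.mem_compl_iff,
        PrimeSpectrum.mem_zeroLocus, Set.singleton_subset_iff, SetLike.mem_coe]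
      exact ⟨fun ⟨s, hs, hw⟩ => ⟨s, hw, hs⟩, fun ⟨s, hw, hs⟩ => ⟨s, hs, hw⟩⟩]
    exact isOpen_biUnion fun s _ => (PrimeSpectrum.basicOpen s).2

end Groth.Agent.S4530
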