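import Groth.Statements.S4531
import Groth.Agent.EGA41Lib.LeftInverse
import Mathlib

set_option backward.isDefEq.respectTransparency.types false

set_option autoImplicit false
universe u
open EGA41

namespace Groth.Agent.S4531

open TensorProduct in
/-- Let A be a ring, M an A-module of finite type, N a projective A-module and u : M → N a homomorphism.
(i) u is left invertible if and only if u_𝔪 : M_𝔪 → N_𝔪 is left invertible for every maximal ideal 𝔪
of A. (ii) If A' is an A-algebra which is a faithfully flat A-module, u is left invertible if and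
only if u ⊗ 1 : M ⊗_A A' → N ⊗_A A' is left invertible (as an A'-linear map). -/
theorem result {A : Type u} [CommRing A] {M N : Type u} [AddCommGroup M] [Module A M]
    [Module.Finite A M] [AddCommGroup N] [Module A N] [Module.Projective A N] (u : M →ₗ[A] N) :
    ((∃ w : N →ₗ[A] M, w ∘ₗ u = LinearMap.id) ↔
      ∀ (m : Ideal A) [m.IsMaximal],
        ∃ w : LocalizedModule m.primeCompl N →ₗ[A] LocalizedModule m.primeCompl M,
          w ∘ₗ LocalizedModule.map m.primeCompl u = LinearMap.id) ∧
    ∀ (A' : Type u) [CommRing A'] [Algebra A A'] [Module.FaithfullyFlat A A'],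
      (∃ w : N →ₗ[A] M, w ∘ₗ u = LinearMap.id) ↔
        ∃ w : A' ⊗[A] N →ₗ[A'] A' ⊗[A] M, w ∘ₗ u.baseChange A' = LinearMap.id := by
  refine ⟨?_, fun A' _ _ _ => ⟨?_, ?_⟩⟩
  · rw [Groth.Agent.EGA41Lib.exists_leftInverse_iff_forall_maximal]
    constructor
    · intro h m hm
      exact (Groth.Agent.EGA41Lib.exists_leftInverse_localizedModule_iff u m.primeCompl).2 (h m hm)
    · intro h m hm
      exact (Groth.Agent.EGA41Lib.exists_leftInverse_localizedModule_iff u m.primeCompl).1 (h m)
  · rintro ⟨w, hw⟩
    exact ⟨w.baseChange A', by rw [← LinearMap.baseChange_comp, hw, LinearMap.baseChange_id]⟩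
  · rintro ⟨W, hW⟩
    rw [Groth.Agent.EGA41Lib.exists_leftInverse_iff_forall_maximal]
    intro m hm
    refine Groth.Agent.EGA41Lib.exists_hasLeftInv_of_injective u m ?_
    rw [← Module.FaithfullyFlat.lTensor_injective_iff_injective A A']
    let k := m.ResidueField
    have hV : ((W.restrictScalars A).lTensor k) ∘ₗ (u.lTensor A').lTensor k = LinearMap.id := by
      rw [← LinearMap.lTensor_comp, show (W.restrictScalars A) ∘ₗ u.lTensor A' = LinearMap.id from
        LinearMap.ext fun z => LinearMap.congr_fun hW z, LinearMap.lTensor_id]
    have hinj : Function.Injective ((u.lTensor A').lTensor k) :=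
      Function.LeftInverse.injective fun z => LinearMap.congr_fun hV z
    have hcomm : (TensorProduct.leftComm A A' k N).toLinearMap ∘ₗ (u.lTensor k).lTensor A' =
        (u.lTensor A').lTensor k ∘ₗ (TensorProduct.leftComm A A' k M).toLinearMap :=
      TensorProduct.ext' fun x z => by
        induction z with
        | zero => simp
        | tmul y v => simp
        | add y z hy hz => simp only [TensorProduct.tmul_add, map_add, hy, hz]
    intro y z hyz
    refine (TensorProduct.leftComm A A' k M).injective (hinj ?_)
    have h1 := congrArg (TensorProduct.leftComm A A' k N) hyz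
    exact (LinearMap.congr_fun hcomm y).symm.trans (h1.trans (LinearMap.congr_fun hcomm z))

end Groth.Agent.S4531
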