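import Groth.Statements.S4534
import Groth.Agent.EGA41Lib.RegularPow
import Mathlib

set_option backward.isDefEq.respectTransparency.types false

set_option autoImplicit false
universe u
open EGA41

namespace Groth.Agent.S4534

/-- Let A → B → C be continuous homomorphisms of adic rings (A with the 𝔞-adic, B the 𝔟-adic, C the
𝔠-adic topology; continuity: a power of 𝔞 maps into 𝔟 and a power of 𝔟 into 𝔠). If B is formally
smooth over A and C formally smooth over B, then C is formally smooth over A. -/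
theorem result {A B C : Type u} [CommRing A] [CommRing B] [CommRing C] [Algebra A B] [Algebra B C]
    [Algebra A C] [IsScalarTower A B C] (𝔞 : Ideal A) (𝔟 : Ideal B) (𝔠 : Ideal C)
    (hAB : ∃ k : ℕ, (𝔞 ^ k).map (algebraMap A B) ≤ 𝔟) (hBC : ∃ k : ℕ, (𝔟 ^ k).map (algebraMap B C) ≤ 𝔠)
    (hB : EGA41.IsFormallySmoothAdic A 𝔞 B 𝔟) (hC : EGA41.IsFormallySmoothAdic B 𝔟 C 𝔠) :
    EGA41.IsFormallySmoothAdic A 𝔞 C 𝔠 := by
  intro E _ _ J hJ hE u hu
  obtain ⟨kc, hkc⟩ := hu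
  obtain ⟨kb, hkb⟩ := hBC
  have hu0 : ∀ x ∈ 𝔟 ^ (kb * kc), u (algebraMap B C x) = 0 := fun x hx ↦ by
    refine hkc _ (Ideal.pow_right_mono hkb kc ?_)
    rw [← Ideal.map_pow, ← pow_mul]
    exact Ideal.mem_map_of_mem _ hx
  obtain ⟨v, hv⟩ := hB E J hJ hE (u.comp (IsScalarTower.toAlgHom A B C)) ⟨kb * kc, hu0⟩
  let _ : Algebra B E := v.toRingHom.toAlgebra
  have : IsScalarTower A B E := .of_algebraMap_eq fun a ↦ (v.commutes a).symm
  let uB : C →ₐ[B] E ⧸ J :=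
    { u.toRingHom with commutes' := fun b ↦ (congr($hv b)).symm }
  obtain ⟨m, hm⟩ := hJ
  have hbE : ((𝔟 ^ (kb * kc * m)).map (algebraMap B E)) = ⊥ := by
    rw [pow_mul, Ideal.map_pow, eq_bot_iff, ← Ideal.zero_eq_bot, ← hm]
    refine Ideal.pow_right_mono (Ideal.map_le_iff_le_comap.2 fun x hx ↦ ?_) m
    rw [Ideal.mem_comap, ← Ideal.Quotient.eq_zero_iff_mem]
    exact (congr($hv x)).trans (hu0 x hx)
  obtain ⟨w, hw⟩ := hC E J ⟨m, hm⟩ ⟨_, hbE⟩ uB ⟨kc, hkc⟩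
  exact ⟨w.restrictScalars A, AlgHom.ext fun x ↦ congr($hw x)⟩

end Groth.Agent.S4534
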