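import Groth.Statements.S4535
import Groth.Agent.EGA41Lib.RegularPow
import Mathlib

set_option backward.isDefEq.respectTransparency.types false

set_option autoImplicit false
universe u
open EGA41

namespace Groth.Agent.S4535

open TensorProduct in
/-- Let B (𝔟-adic) be formally smooth over A (𝔞-adic) and let A' (𝔞'-adic) be a topological A-algebra (a
power of 𝔞 maps into 𝔞'). Then the A'-algebra A' ⊗_A B, with the tensor product topology, i.e. the
adic topology of the ideal generated by the images of 𝔞' and 𝔟, is formally smooth over A'. -/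
theorem result {A B A' : Type u} [CommRing A] [CommRing B] [CommRing A'] [Algebra A B] [Algebra A A']
    (𝔞 : Ideal A) (𝔟 : Ideal B) (𝔞' : Ideal A') (hAA' : ∃ k : ℕ, (𝔞 ^ k).map (algebraMap A A') ≤ 𝔞')
    (hB : EGA41.IsFormallySmoothAdic A 𝔞 B 𝔟) :
    EGA41.IsFormallySmoothAdic A' 𝔞' (A' ⊗[A] B)
      (𝔞'.map (algebraMap A' (A' ⊗[A] B)) ⊔
        𝔟.map (Algebra.TensorProduct.includeRight : B →ₐ[A] A' ⊗[A] B).toRingHom) := by
  obtain ⟨kk, hkk⟩ := hAA'
  intro C _ _ J hJ hC u hu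
  obtain ⟨k', hk'⟩ := hC
  obtain ⟨k, hk⟩ := hu
  let _ : Algebra A C := ((algebraMap A' C).comp (algebraMap A A')).toAlgebra
  have : IsScalarTower A A' C := .of_algebraMap_eq fun _ ↦ rfl
  let inc : B →ₐ[A] A' ⊗[A] B := Algebra.TensorProduct.includeRight
  obtain ⟨v, hv⟩ := hB C J hJ ⟨kk * k', by
      rw [IsScalarTower.algebraMap_eq A A' C, ← Ideal.map_map, eq_bot_iff, ← hk', pow_mul,
        Ideal.map_pow (algebraMap A A')]
      exact Ideal.map_mono (Ideal.pow_right_mono hkk k')⟩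
    ((u.restrictScalars A).comp inc) ⟨k, fun x hx ↦ by
      refine hk _ (Ideal.pow_right_mono le_sup_right k ?_)
      rw [← Ideal.map_pow]
      exact Ideal.mem_map_of_mem _ hx⟩
  refine ⟨Algebra.TensorProduct.lift (Algebra.ofId A' C) v fun _ _ ↦ Commute.all _ _,
    Algebra.TensorProduct.ext' fun a b ↦ ?_⟩
  have hb : Ideal.Quotient.mk J (v b) = u (1 ⊗ₜ b) := congr($hv b)
  have ha : (a ⊗ₜ[A] b : A' ⊗[A] B) = algebraMap A' (A' ⊗[A] B) a * (1 ⊗ₜ b) := by simp
  simp only [AlgHom.comp_apply, Algebra.TensorProduct.lift_tmul, Ideal.Quotient.mkₐ_eq_mk, map_mul, hb]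
  rw [ha, map_mul, AlgHom.commutes]
  rfl

end Groth.Agent.S4535
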