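import Groth.Statements.S4536
import Groth.Agent.EGA41Lib.RegularPow
import Mathlib

set_option backward.isDefEq.respectTransparency.types false

set_option autoImplicit false
universe u
open EGA41

namespace Groth.Agent.S4536

/-- Let A carry the 𝔞-adic and B the 𝔟-adic topology, A → B being continuous (a power of 𝔞 maps into 𝔟).
Then B is formally smooth over A if and only if for every n the (A/𝔞ⁿ)-algebra B/𝔞ⁿB, with the adic
topology of the image of 𝔟, is formally smooth over the discrete ring A/𝔞ⁿ. -/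
theorem result {A B : Type u} [CommRing A] [CommRing B] [Algebra A B]
    (𝔞 : Ideal A) (𝔟 : Ideal B) (hAB : ∃ k : ℕ, (𝔞 ^ k).map (algebraMap A B) ≤ 𝔟) :
    EGA41.IsFormallySmoothAdic A 𝔞 B 𝔟 ↔
      ∀ n : ℕ, EGA41.IsFormallySmoothAdic (A ⧸ 𝔞 ^ n) ⊥ (B ⧸ (𝔞 ^ n).map (algebraMap A B))
        (𝔟.map (Ideal.Quotient.mk ((𝔞 ^ n).map (algebraMap A B)))) := by
  constructor
  · intro h n C _ _ J hJ _ u hu
    let _ : Algebra A C := ((algebraMap (A ⧸ 𝔞 ^ n) C).comp (Ideal.Quotient.mk _)).toAlgebra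
    have : IsScalarTower A (A ⧸ 𝔞 ^ n) C := .of_algebraMap_eq fun _ ↦ rfl
    let q := Ideal.Quotient.mkₐ A ((𝔞 ^ n).map (algebraMap A B))
    obtain ⟨k, hk⟩ := hu
    obtain ⟨v, hv⟩ := h C J hJ ⟨n, Ideal.map_eq_bot_iff_le_ker _ |>.2 fun a ha ↦ by
        rw [RingHom.mem_ker, IsScalarTower.algebraMap_apply A (A ⧸ 𝔞 ^ n) C]
        change algebraMap (A ⧸ 𝔞 ^ n) C (Ideal.Quotient.mk _ a) = 0
        rw [Ideal.Quotient.eq_zero_iff_mem.2 ha, map_zero]⟩
      ((u.restrictScalars A).comp q) ⟨k, fun x hx ↦ by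
        refine hk _ ?_
        rw [← Ideal.map_pow]
        exact Ideal.mem_map_of_mem _ hx⟩
    have hker : ∀ x ∈ (𝔞 ^ n).map (algebraMap A B), v x = 0 := fun x hx ↦ by
      suffices (𝔞 ^ n).map (algebraMap A B) ≤ RingHom.ker v from this hx
      refine Ideal.map_le_iff_le_comap.2 fun a ha ↦ ?_
      rw [Ideal.mem_comap, RingHom.mem_ker, AlgHom.commutes,
        IsScalarTower.algebraMap_apply A (A ⧸ 𝔞 ^ n) C]
      change algebraMap (A ⧸ 𝔞 ^ n) C (Ideal.Quotient.mk _ a) = 0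
      rw [Ideal.Quotient.eq_zero_iff_mem.2 ha, map_zero]
    let v' := Ideal.Quotient.liftₐ _ v hker
    refine ⟨{ v'.toRingHom with commutes' := fun a ↦ ?_ }, AlgHom.ext fun x ↦ ?_⟩
    · obtain ⟨a, rfl⟩ := Ideal.Quotient.mk_surjective a
      exact (v.commutes a)
    · obtain ⟨x, rfl⟩ := Ideal.Quotient.mk_surjective x
      exact congr($hv x)
  · intro h C _ _ J hJ hC u hu
    obtain ⟨n, hn⟩ := hC
    have hn' : ∀ a ∈ 𝔞 ^ n, algebraMap A C a = 0 := fun a ha ↦ by
      have : algebraMap A C a ∈ (⊥ : Ideal C) := hn ▸ Ideal.mem_map_of_mem _ ha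
      simpa using this
    let _ : Algebra (A ⧸ 𝔞 ^ n) C := (Ideal.Quotient.lift _ (algebraMap A C) hn').toAlgebra
    have : IsScalarTower A (A ⧸ 𝔞 ^ n) C := .of_algebraMap_eq fun _ ↦ rfl
    have hu0 : ∀ x ∈ (𝔞 ^ n).map (algebraMap A B), u x = 0 := fun x hx ↦ by
      suffices (𝔞 ^ n).map (algebraMap A B) ≤ RingHom.ker u from this hx
      refine Ideal.map_le_iff_le_comap.2 fun a ha ↦ ?_
      rw [Ideal.mem_comap, RingHom.mem_ker, AlgHom.commutes, IsScalarTower.algebraMap_apply A C (C ⧸ J),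
        hn' a ha, map_zero]
    let u' := Ideal.Quotient.liftₐ _ u hu0
    obtain ⟨k, hk⟩ := hu
    obtain ⟨v, hv⟩ := h n C J hJ ⟨1, by simp⟩
      { u'.toRingHom with
        commutes' := fun a ↦ by
          obtain ⟨a, rfl⟩ := Ideal.Quotient.mk_surjective a
          exact u.commutes a } ⟨k, fun x hx ↦ by
        rw [← Ideal.map_pow] at hx
        obtain ⟨y, hy, rfl⟩ := (Ideal.mem_map_iff_of_surjective _ Ideal.Quotient.mk_surjective).1 hx
        exact hk y hy⟩
    exact ⟨(v.restrictScalars A).comp (Ideal.Quotient.mkₐ A _), AlgHom.ext fun x ↦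
      congr($hv (Ideal.Quotient.mk _ x))⟩

end Groth.Agent.S4536
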