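import Groth.Statements.S4539
import Groth.Agent.EGA41Lib.FieldSeparableSmooth
import Groth.Agent.EGA41Lib.SymGrPrime
import Groth.Agent.CAlgH.AdicSmooth
import Mathlib

set_option backward.isDefEq.respectTransparency.types false

set_option autoImplicit false
universe u
open EGA41

namespace Groth.Agent.S4539

open IsLocalRing in
/-- Let A be a local ring with residue characteristic p (p = 0 or a prime), P the prime local ring ℤ_(p)
(ℚ if p = 0) and P → A its unique local homomorphism. Then A is a Cohen ring, i.e. a Cohen P-algebra
— Noetherian and complete, flat over P, with pA its maximal ideal (and residue field separable over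
the prime field) — if and only if A is a field of characteristic 0 or a complete discrete valuation
ring of residue characteristic > 0 whose maximal ideal is generated by p·1. -/
theorem result (p : ℕ) [hp : (Ideal.span {(p : ℤ)}).IsPrime]
    {A : Type} [CommRing A] [IsLocalRing A] [CharP (ResidueField A) p]
    [Algebra (Localization.AtPrime (Ideal.span {(p : ℤ)})) A]
    [IsLocalHom (algebraMap (Localization.AtPrime (Ideal.span {(p : ℤ)})) A)] :
    EGA41.IsCohenAlgebra (Localization.AtPrime (Ideal.span {(p : ℤ)})) A ↔ EGA41.IsCohenRingEGA A := by
  classical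
  let P := Localization.AtPrime (Ideal.span {(p : ℤ)})
  have hcp : CharP (ResidueField A) p := inferInstance
  haveI : @IsScalarTower ℤ P A Algebra.toSMul _ _ :=
    IsScalarTower.of_algebraMap_smul (R := ℤ) (A := P) (M := A) fun r x => by rw [eq_intCast, Int.cast_smul_eq_zsmul]
  have hmP : maximalIdeal P = Ideal.span {(p : P)} := by
    rw [← IsLocalization.AtPrime.map_eq_maximalIdeal (Ideal.span {(p : ℤ)}) P, Ideal.map_span, Set.image_singleton,
      map_natCast]
  have hflat : Module.Flat P A ↔ Module.Flat ℤ A := Module.flat_iff_of_isLocalization P (Ideal.span {(p : ℤ)}).primeCompl A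
  have hp1 : p ≠ 1 := fun h => hp.ne_top (by subst h; rw [Nat.cast_one, Ideal.span_singleton_one])
  constructor
  · rintro ⟨-, hN, hc, hF, hm, -⟩
    haveI := hN
    rw [hmP, Ideal.map_span, Set.image_singleton, map_natCast] at hm
    rcases CharP.char_is_prime_or_zero (ResidueField A) p with hpp | hpp
    · right
      have htors : ∀ x : A, (p : A) * x = 0 → x = 0 := fun x hx => by
        haveI := hflat.1 hF
        by_contra hne
        have := smul_eq_zero.1 (show (p : ℤ) • x = 0 by rw [zsmul_eq_mul, Int.cast_natCast]; exact hx)
        rcases this with h | h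
        · exact hpp.ne_zero (Int.natCast_eq_zero.1 h)
        · exact hne h
      have htn : ∀ n (x : A), (p : A) ^ n * x = 0 → x = 0 := fun n => by
        induction n with
        | zero => intro x hx; simpa using hx
        | succ n ih => intro x hx; rw [pow_succ, mul_assoc] at hx; exact htors x (ih _ hx)
      have hex : ∀ x : A, x ≠ 0 → ∃ n u, IsUnit u ∧ x = (p : A) ^ n * u := fun x hx => by
        by_contra! hno
        refine hx (IsHausdorff.haus (hc.toIsHausdorff) x fun n => ?_)
        rw [SModEq.zero, smul_eq_mul, Ideal.mul_top, ← hm, Ideal.span_singleton_pow]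
        induction n with
        | zero => simp
        | succ n ih =>
          obtain ⟨u, hu⟩ := Ideal.mem_span_singleton'.1 ih
          have hu' : u ∈ Ideal.span {(p : A)} := by
            rw [hm]; exact fun h => hno n u h (by rw [← hu, mul_comm])
          obtain ⟨w, hw⟩ := Ideal.mem_span_singleton'.1 hu'
          exact Ideal.mem_span_singleton'.2 ⟨w, by rw [← hu, ← hw, pow_succ]; ring⟩
      haveI : NoZeroDivisors A := ⟨fun {a b} hab => by
        by_contra! hne
        obtain ⟨n, u, hu, rfl⟩ := hex a hne.1
        obtain ⟨m, v, hv, rfl⟩ := hex b hne.2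
        refine (hu.mul hv).ne_zero (htn (n + m) (u * v) ?_)
        rw [← hab]; ring⟩
      haveI : IsDomain A := NoZeroDivisors.to_isDomain A
      have hp0 : (p : A) ≠ 0 := fun h => one_ne_zero (htors 1 (by rw [h, zero_mul]))
      have hnf : ¬ IsField A := fun h => hp0 (by
        rw [← Ideal.mem_bot, ← (IsLocalRing.isField_iff_maximalIdeal_eq.1 h), ← hm]
        exact Ideal.mem_span_singleton_self _)
      haveI : IsDiscreteValuationRing A := ((IsDiscreteValuationRing.TFAE A hnf).out 0 4 rfl rfl).2 ⟨⟨(p : A), hm.symm⟩⟩
      exact ⟨inferInstance, inferInstance, hc, p, hpp, hm.symm⟩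
    · left
      subst hpp
      rw [Nat.cast_zero, Ideal.span_singleton_zero] at hm
      refine ⟨IsLocalRing.isField_iff_maximalIdeal_eq.2 hm.symm, ?_⟩
      haveI := CharP.charP_to_charZero (ResidueField A)
      exact ⟨fun a b hab => Nat.cast_injective (R := ResidueField A)
        (by rw [← map_natCast (residue A), hab, map_natCast])⟩
  · intro h
    have hNP : IsNoetherianRing P := IsLocalization.isNoetherianRing (Ideal.span {(p : ℤ)}).primeCompl P inferInstance
    have hgeo : Algebra.IsGeometricallyReduced (ResidueField P) (ResidueField A) := by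
      haveI : CharP (ResidueField P) p :=
        RingHom.charP (algebraMap (ResidueField P) (ResidueField A)) (RingHom.injective _) p
      have hbot : ∀ x : ResidueField P, x ∈ (⊥ : Subfield (ResidueField P)) := fun x => by
        obtain ⟨y, rfl⟩ := residue_surjective x
        obtain ⟨n, s, rfl⟩ := IsLocalization.exists_mk'_eq (Ideal.span {(p : ℤ)}).primeCompl y
        have h1 := congrArg (residue P) (IsLocalization.mk'_spec P n s)
        rw [map_mul, eq_intCast, map_intCast, eq_intCast, map_intCast] at h1
        have hs : ((s : ℤ) : ResidueField P) ≠ 0 := fun h0 => s.2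
          (Ideal.mem_span_singleton.2 ((CharP.intCast_eq_zero_iff (ResidueField P) p _).1 h0))
        rw [eq_div_of_mul_eq hs h1]
        exact div_mem (intCast_mem _ _) (intCast_mem _ _)
      haveI : PerfectField (ResidueField P) := by
        rcases CharP.char_is_prime_or_zero (ResidueField P) p with hpp | hpp
        · haveI := Fact.mk hpp
          haveI : ExpChar (ResidueField P) p := ExpChar.prime hpp
          have hfix : ∀ x : (⊥ : Subfield (ResidueField P)), (x : ResidueField P) ^ p = x := fun x => by
            induction x using Groth.Agent.EGA41Lib.SymGr.bot_induction with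
            | h1 => simp
            | hadd a b ha hb => push_cast; rw [add_pow_char, ha, hb]
            | hneg a ha => push_cast; rw [← zero_sub, sub_pow_char, ha, zero_pow hpp.ne_zero]
            | hmul a b ha hb => push_cast; rw [mul_pow, ha, hb]
            | hinv a ha => push_cast; rw [inv_pow, ha]
          haveI : PerfectRing (ResidueField P) p := PerfectRing.ofSurjective _ p fun x => ⟨x, hfix ⟨x, hbot x⟩⟩
          exact PerfectRing.toPerfectField _ p
        · subst hpp
          haveI := CharP.charP_to_charZero (ResidueField P)
          exact PerfectField.ofCharZero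
      exact (Groth.Agent.EGA41Lib.formallySmooth_iff_isGeometricallyReduced_field _ _).1
        (Groth.Agent.CAlgH.formallySmooth_of_perfectField_any _ _)
    rcases h with ⟨hF, hC⟩ | ⟨_, _, hc, q, hq, hm⟩
    · haveI := hF.isDomain
      have hmA : maximalIdeal A = ⊥ := IsLocalRing.isField_iff_maximalIdeal_eq.1 hF
      have hinj : Function.Injective (residue A) := by
        rw [RingHom.injective_iff_ker_eq_bot, IsLocalRing.ker_residue, hmA]
      have h0 : CharP (ResidueField A) 0 := ((residue A).charP_iff hinj 0).1 inferInstance
      have hp0 : p = 0 := CharP.eq (ResidueField A) hcp h0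
      subst hp0
      haveI : IsNoetherianRing A := by letI := hF.toField; infer_instance
      haveI := hC
      refine ⟨hNP, inferInstance, Groth.Agent.CAlgH.AdicSmooth.isAdicComplete_of_pow_eq_bot
        (show maximalIdeal A ^ 1 = ⊥ by rw [pow_one, hmA]), ?_, ?_, hgeo⟩
      · exact hflat.2 (Module.Flat.flat_iff_torsion_eq_bot_of_isBezout.2 ((eq_bot_iff).2 fun x ⟨a, ha⟩ => by
          rcases (smul_eq_zero (R := ℤ)).1 (show ((a : ℤ)) • x = 0 from ha) with h | h
          · exact absurd h (nonZeroDivisors.coe_ne_zero a)
          · exact h))
      · rw [hmP, Ideal.map_span, Set.image_singleton, map_natCast, Nat.cast_zero, Ideal.span_singleton_zero, hmA]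
    · have hqp : q = p := by
        have hdvd : p ∣ q := (CharP.cast_eq_zero_iff (ResidueField A) p q).1 (by
          rw [← map_natCast (residue A), residue_eq_zero_iff, hm]; exact Ideal.mem_span_singleton_self _)
        exact ((Nat.dvd_prime hq).1 hdvd).resolve_left hp1 |>.symm
      subst hqp
      haveI : CharZero A := by
        obtain ⟨c, hc'⟩ := CharP.exists A
        rcases CharP.char_is_prime_or_zero A c with h | h
        · exfalso
          have h1 : (c : ResidueField A) = 0 := by rw [← map_natCast (residue A), CharP.cast_eq_zero, map_zero]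
          have h2 := (Nat.prime_dvd_prime_iff_eq hq h).1 ((CharP.cast_eq_zero_iff (ResidueField A) q c).1 h1)
          subst h2
          exact IsDiscreteValuationRing.not_a_field A (by rw [hm, CharP.cast_eq_zero, Ideal.span_singleton_zero])
        · subst h; exact CharP.charP_to_charZero A
      refine ⟨hNP, inferInstance, hc, ?_, ?_, hgeo⟩
      · exact hflat.2 (Module.Flat.flat_iff_torsion_eq_bot_of_isBezout.2 ((eq_bot_iff).2 fun x ⟨a, ha⟩ => by
          rcases (smul_eq_zero (R := ℤ)).1 (show ((a : ℤ)) • x = 0 from ha) with h | h
          · exact absurd h (nonZeroDivisors.coe_ne_zero a)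
          · exact h))
      · rw [hmP, Ideal.map_span, Set.image_singleton, map_natCast, hm]

end Groth.Agent.S4539
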