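import Groth.Statements.S4540
import Groth.Agent.EGA41Lib.AdicBridge
import Groth.Agent.CAlgML.Projective
import Mathlib

set_option backward.isDefEq.respectTransparency.types false

set_option autoImplicit false
universe u
open EGA41

namespace Groth.Agent.S4540

open IsLocalRing TensorProduct in
/-- Let A, B be Noetherian local rings and A → B a local homomorphism making B a formally smooth
A-algebra for the adic topologies of the maximal ideals. Then for every ideal of definition 𝔟 of B,
the (B/𝔟)-module Ω_{B/A} ⊗_B (B/𝔟) is free. -/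
theorem result {A B : Type u} [CommRing A] [IsLocalRing A]
    [IsNoetherianRing A] [CommRing B] [IsLocalRing B] [IsNoetherianRing B] [Algebra A B] [IsLocalHom (algebraMap A B)]
    (h : EGA41.IsFormallySmoothAdic A (maximalIdeal A) B (maximalIdeal B))
    (𝔟 : Ideal B) (hle : 𝔟 ≤ maximalIdeal B) (hpow : ∃ k : ℕ, maximalIdeal B ^ k ≤ 𝔟) :
    Module.Free (B ⧸ 𝔟) ((B ⧸ 𝔟) ⊗[B] Ω[B⁄A]) := by
  haveI := Groth.Agent.EGA41Lib.projective_kaehler_mod Groth.Agent.EGA41Lib.exists_map_pow_maximalIdeal_le h 𝔟 hpow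
  haveI : Nontrivial (B ⧸ 𝔟) := Ideal.Quotient.nontrivial_iff.2
    (fun h' => (maximalIdeal.isMaximal B).ne_top (top_le_iff.1 (h' ▸ hle)))
  haveI : IsLocalRing (B ⧸ 𝔟) := IsLocalRing.of_surjective' (Ideal.Quotient.mk 𝔟) Ideal.Quotient.mk_surjective
  exact Groth.Agent.CAlgML.free_of_projective

end Groth.Agent.S4540
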