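import Groth.Statements.S4545
import Groth.Agent.EGA41Lib.AdmissibleFamily
import Mathlib

set_option backward.isDefEq.respectTransparency.types false

set_option autoImplicit false
universe u
open EGA41

namespace Groth.Agent.S4545

open TensorProduct in
/-- Let K be a field of characteristic p > 0, k₀ a subfield and (k_α) a decreasing filtered family of
subfields of K containing k₀. Then ⋂_α k_α(K^p) = k₀(K^p) if and only if for every extension L of K
such that Υ_{L/K/k₀} has finite rank over L there is an α with k_α admissible for L over K relative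
to k₀, i.e. with Υ_{L/K/k₀} → Υ_{L/K/k_α} injective. (The published statement has two further
equivalent conditions; this row states (a) ⇔ (b).) -/
theorem result (p : ℕ) [Fact p.Prime] {k₀ K : Type u}
    [Field k₀] [Field K] [Algebra k₀ K] [CharP K p]
    {ι : Type u} [Preorder ι] [IsDirected ι (· ≤ ·)] [Nonempty ι] (k : ι → IntermediateField k₀ K) (hk : Antitone k) :
    (⨅ i, k i ⊔ IntermediateField.adjoin k₀ (Set.range fun y : K => y ^ p)) =
        IntermediateField.adjoin k₀ (Set.range fun y : K => y ^ p) ↔
      ∀ (L : Type u) [Field L] [Algebra K L] [Algebra k₀ L] [IsScalarTower k₀ K L],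
        Module.Finite L (EGA41.imperfection k₀ K L) →
          ∃ i, ∀ ω ∈ EGA41.imperfection k₀ K L,
            ((KaehlerDifferential.map k₀ (k i) K K).restrictScalars K).baseChange L ω = 0 → ω = 0 := by
  have hk' : ∀ a b, ∃ c, k c ≤ k a ∧ k c ≤ k b := fun a b => by
    obtain ⟨c, hac, hbc⟩ := exists_ge_ge a b
    exact ⟨c, hk hac, hk hbc⟩
  constructor
  · intro h L _ _ _ _ hfin
    obtain ⟨i, hi⟩ := Groth.Agent.EGA41Lib.exists_stage_injOn (p := p) k hk' h
      (EGA41.imperfection k₀ K L) (Module.Finite.iff_fg.1 hfin)
    exact ⟨i, hi⟩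
  · intro h
    refine le_antisymm (fun x hx => ?_) (le_iInf fun i => le_sup_right)
    by_contra hx0
    have hirr : Irreducible (Polynomial.X ^ p - Polynomial.C x) :=
      X_pow_sub_C_irreducible_of_prime Fact.out fun y hy =>
        hx0 (hy ▸ IntermediateField.subset_adjoin k₀ _ ⟨y, rfl⟩)
    haveI := Fact.mk hirr
    let L := AdjoinRoot (Polynomial.X ^ p - Polynomial.C x)
    haveI : Module.Finite K L :=
      (AdjoinRoot.powerBasis (Polynomial.monic_X_pow_sub_C x (Fact.out : p.Prime).ne_zero).ne_zero).finite
    haveI : Algebra.FinitePresentation K L := Algebra.FinitePresentation.of_finiteType.1 inferInstance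
    haveI : CharP L p := charP_of_injective_algebraMap (algebraMap K L).injective p
    have hfin : Module.Finite L (EGA41.imperfection k₀ K L) := by
      rw [show EGA41.imperfection k₀ K L = LinearMap.range (Algebra.H1Cotangent.δ k₀ K L) from
        LinearMap.exact_iff.1 (Algebra.H1Cotangent.exact_δ_mapBaseChange k₀ K L)]
      infer_instance
    obtain ⟨i, hi⟩ := h L hfin
    have h1 := hi (TensorProduct.tmul K (1 : L) (KaehlerDifferential.D k₀ K x)) (by
        change KaehlerDifferential.mapBaseChange k₀ K L _ = 0
        rw [KaehlerDifferential.mapBaseChange_tmul, KaehlerDifferential.map_D, one_smul]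
        have hroot : algebraMap K L x = (AdjoinRoot.root (Polynomial.X ^ p - Polynomial.C x)) ^ p := by
          have := AdjoinRoot.eval₂_root (Polynomial.X ^ p - Polynomial.C x)
          rw [Polynomial.eval₂_sub, Polynomial.eval₂_X_pow, Polynomial.eval₂_C, sub_eq_zero] at this
          exact this.symm
        rw [hroot, Groth.Agent.EGA41Lib.PB.derivation_pow_eq_zero])
      (by
        rw [LinearMap.baseChange_tmul, LinearMap.restrictScalars_apply, KaehlerDifferential.map_D,
          Algebra.algebraMap_self, RingHom.id_apply,
          (Groth.Agent.EGA41Lib.PB.D_eq_zero_iff_mem p (k i) x).2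
            ((Groth.Agent.EGA41Lib.mem_powField_iff (p := p) (k i) x).1 (SetLike.le_def.1 (iInf_le _ i) hx)),
          TensorProduct.tmul_zero])
    refine hx0 ((Groth.Agent.EGA41Lib.mem_powField₀_iff x).2
      ((Groth.Agent.EGA41Lib.PB.D_eq_zero_iff_mem p k₀ x).1 ?_))
    have hinj := (Algebra.TensorProduct.basis L (Module.Basis.ofVectorSpace K Ω[K⁄k₀])).repr
    refine (Module.Basis.ofVectorSpace K Ω[K⁄k₀]).repr.injective ?_
    rw [map_zero]
    ext j
    have h2 := congrArg (fun z => (Algebra.TensorProduct.basis L (Module.Basis.ofVectorSpace K Ω[K⁄k₀])).repr z j) h1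
    simpa using h2

end Groth.Agent.S4545
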