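import Groth.Statements.S4546
import Groth.Agent.EGA41Lib.AdmissibleFamily
import Mathlib

set_option backward.isDefEq.respectTransparency.types false

set_option autoImplicit false
universe u
open EGA41

namespace Groth.Agent.S4546

/-- Let K be a field of characteristic p > 0, k₀ a subfield, (k_α) a decreasing filtered family of
subfields of K containing k₀ with ⋂_α k_α(K^p) = k₀(K^p). Then for every extension L of K such that
Υ_{L/K/k₀} has finite rank over L, one has ⋂_α k_α(L^p) = k₀(L^p) (the k_α being viewed inside L). -/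
theorem result (p : ℕ) [Fact p.Prime] {k₀ K L : Type u}
    [Field k₀] [Field K] [Field L] [Algebra k₀ K] [Algebra K L] [Algebra k₀ L] [IsScalarTower k₀ K L] [CharP K p] [CharP L p]
    {ι : Type u} [Preorder ι] [IsDirected ι (· ≤ ·)] [Nonempty ι] (k : ι → IntermediateField k₀ K) (hk : Antitone k)
    (h : (⨅ i, k i ⊔ IntermediateField.adjoin k₀ (Set.range fun y : K => y ^ p)) =
      IntermediateField.adjoin k₀ (Set.range fun y : K => y ^ p))
    [Module.Finite L (EGA41.imperfection k₀ K L)] :
    (⨅ i, (k i).map (IsScalarTower.toAlgHom k₀ K L) ⊔ IntermediateField.adjoin k₀ (Set.range fun y : L => y ^ p)) =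
      IntermediateField.adjoin k₀ (Set.range fun y : L => y ^ p) := by
  have hk' : ∀ a b, ∃ c, k c ≤ k a ∧ k c ≤ k b := fun a b => by
    obtain ⟨c, hac, hbc⟩ := exists_ge_ge a b
    exact ⟨c, hk hac, hk hbc⟩
  refine le_antisymm (fun x hx => ?_) (le_iInf fun i => le_sup_right)
  rw [Groth.Agent.EGA41Lib.mem_powField₀_iff, ← Groth.Agent.EGA41Lib.PB.D_eq_zero_iff_mem]
  haveI hT : ∀ i, IsScalarTower k₀ (k i) L := fun i => .of_algebraMap_eq fun c => by
    rw [IsScalarTower.algebraMap_apply k₀ K L]; rfl
  have hDi : ∀ i, KaehlerDifferential.D (k i) L x = 0 := fun i => by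
    rw [Groth.Agent.EGA41Lib.PB.D_eq_zero_iff_mem p]
    let M := Groth.Agent.EGA41Lib.PB.powAlg p (k i) L
    let T : IntermediateField k₀ L := (M.restrictScalars k₀).toIntermediateField fun b hb =>
      (Groth.Agent.EGA41Lib.PB.subfieldOf M (fun b => Algebra.subset_adjoin ⟨b, rfl⟩)).inv_mem hb
    have hle : (k i).map (IsScalarTower.toAlgHom k₀ K L) ⊔
        IntermediateField.adjoin k₀ (Set.range fun y : L => y ^ p) ≤ T := by
      refine sup_le ?_ (IntermediateField.adjoin_le_iff.2 fun y hy => Algebra.subset_adjoin (R := k i) hy)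
      rintro _ ⟨a, ha, rfl⟩
      exact M.algebraMap_mem ⟨a, ha⟩
    exact hle (SetLike.le_def.1 (iInf_le _ i) hx)
  have hK : KaehlerDifferential.D K L x = 0 := by
    obtain ⟨i⟩ := (inferInstance : Nonempty ι)
    have := congrArg (KaehlerDifferential.map (k i) K L L) (hDi i)
    rwa [KaehlerDifferential.map_D, Algebra.algebraMap_self, RingHom.id_apply, map_zero] at this
  obtain ⟨z, hz⟩ := (KaehlerDifferential.exact_mapBaseChange_map k₀ K L (KaehlerDifferential.D k₀ L x)).1 (by
    rw [KaehlerDifferential.map_D, Algebra.algebraMap_self, RingHom.id_apply, hK])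
  obtain ⟨i, hi⟩ := Groth.Agent.EGA41Lib.exists_stage_injOn (p := p) k hk' h
    (EGA41.imperfection k₀ K L ⊔ Submodule.span L {z})
    ((Module.Finite.iff_fg.1 inferInstance).sup (Submodule.fg_span_singleton z))
  obtain ⟨v, hv, hvz⟩ := Groth.Agent.EGA41Lib.exists_mem_dSpan_mapBaseChange_eq (S := k i) (K := K)
    (KaehlerDifferential.D k₀ L x) (by
      rw [KaehlerDifferential.map_D, Algebra.algebraMap_self, RingHom.id_apply, hDi])
  have hzv : z - v ∈ EGA41.imperfection k₀ K L := by
    change KaehlerDifferential.mapBaseChange k₀ K L (z - v) = 0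
    rw [map_sub, hz, hvz, sub_self]
  have hvU : v ∈ EGA41.imperfection k₀ K L ⊔ Submodule.span L {z} := by
    have := Submodule.sub_mem _ (Submodule.mem_sup_right (Submodule.mem_span_singleton_self z))
      (Submodule.mem_sup_left (T := Submodule.span L {z}) hzv)
    rwa [sub_sub_cancel] at this
  have hv0 := hi v hvU (Groth.Agent.EGA41Lib.baseChange_map_eq_zero_of_mem_dSpan hv)
  rw [← hvz, hv0, map_zero]

end Groth.Agent.S4546
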