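import Groth.Statements.S4547
import Groth.Agent.EGA41Lib.LeftInverse
import Mathlib

set_option backward.isDefEq.respectTransparency.types false

set_option autoImplicit false
universe u
open EGA41

namespace Groth.Agent.S4547

open IsLocalRing TensorProduct in
/-- Let A be a local ring with residue field k, M an A-module of finite type, N a projective A-module
and u : M → N a homomorphism. Then u is left invertible if and only if there is a finite system of
generators (x_i) of M such that the elements 1 ⊗ u(x_i) of k ⊗_A N are linearly independent over k;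
and such a system (x_i) is then a basis of M. -/
theorem result {A : Type u} [CommRing A] [IsLocalRing A] {M N : Type u}
    [AddCommGroup M] [Module A M] [Module.Finite A M] [AddCommGroup N] [Module A N] [Module.Projective A N]
    (u : M →ₗ[A] N) :
    ((∃ w : N →ₗ[A] M, w ∘ₗ u = LinearMap.id) ↔
      ∃ (m : ℕ) (x : Fin m → M), Submodule.span A (Set.range x) = ⊤ ∧
        LinearIndependent (ResidueField A) (fun i => (1 : ResidueField A) ⊗ₜ[A] u (x i))) ∧
    ∀ (m : ℕ) (x : Fin m → M), Submodule.span A (Set.range x) = ⊤ →
      LinearIndependent (ResidueField A) (fun i => (1 : ResidueField A) ⊗ₜ[A] u (x i)) →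
        ∃ b : Module.Basis (Fin m) A M, ∀ i, b i = x i := by
  classical
  have hK : ∀ z : IsLocalRing.ResidueField A, ∃ a s : A, algebraMap A (IsLocalRing.ResidueField A) s ≠ 0 ∧
      algebraMap A (IsLocalRing.ResidueField A) s * z = algebraMap A (IsLocalRing.ResidueField A) a := fun z => by
    obtain ⟨a, rfl⟩ := IsLocalRing.residue_surjective z
    exact ⟨a, 1, by simp, by simp⟩
  have hunit : ∀ {s : A}, algebraMap A (IsLocalRing.ResidueField A) s ≠ 0 → IsUnit s := fun {s} hs => by
    by_contra h
    exact hs ((IsLocalRing.residue_eq_zero_iff s).2 h)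
  refine ⟨⟨?_, ?_⟩, ?_⟩
  · rintro ⟨w, hw⟩
    let b := Module.finBasis (IsLocalRing.ResidueField A) (IsLocalRing.ResidueField A ⊗[A] M)
    have hsurj : Function.Surjective (fun y : M => (1 : IsLocalRing.ResidueField A) ⊗ₜ[A] y) :=
      TensorProduct.mk_surjective A M _ IsLocalRing.residue_surjective
    choose x hx using fun i => hsurj (b i)
    refine ⟨_, x, IsLocalRing.span_eq_top_of_tmul_eq_basis x b hx, ?_⟩
    have hinj := Groth.Agent.EGA41Lib.injective_lTensor_of_hasLeftInv u (s := 1) ⟨w, by rw [one_smul, hw]⟩
      (IsLocalRing.ResidueField A) (by simp)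
    have h1 := b.linearIndependent.map' (u.baseChange (IsLocalRing.ResidueField A)) (LinearMap.ker_eq_bot.2 hinj)
    rw [show (fun i => (1 : IsLocalRing.ResidueField A) ⊗ₜ[A] u (x i)) =
      u.baseChange (IsLocalRing.ResidueField A) ∘ b from funext fun i => by
        rw [Function.comp_apply, ← hx, LinearMap.baseChange_tmul]]
    exact h1
  · rintro ⟨m, x, hspan, hli⟩
    obtain ⟨s, hs, w, hw⟩ := Groth.Agent.EGA41Lib.hasLeftInv_of_smul_le_span u (IsLocalRing.ResidueField A) hK x hli 1
      (by simp) (fun y => by rw [hspan]; trivial)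
    obtain ⟨v, rfl⟩ := hunit hs
    exact ⟨(↑v⁻¹ : A) • w, by rw [LinearMap.smul_comp, hw, smul_smul, Units.inv_mul, one_smul]⟩
  · intro m x hspan hli
    obtain ⟨d, C, hd, hC⟩ := Groth.Agent.EGA41Lib.exists_dual_of_linearIndependent u (IsLocalRing.ResidueField A) hK x hli
    have hind : LinearIndependent A x := Fintype.linearIndependent_iff.2 fun c hc i => by
      have h1 := congrArg (fun z => C (u z) i) hc
      simp only [map_sum, map_smul, Finset.sum_apply, Pi.smul_apply, smul_eq_mul, hC, mul_ite, mul_zero,
        Finset.sum_ite_eq, Finset.mem_univ, if_true, map_zero, Pi.zero_apply] at h1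
      exact (hunit hd).mul_left_eq_zero.1 h1
    exact ⟨Module.Basis.mk hind hspan.ge, fun i => Module.Basis.mk_apply hind hspan.ge i⟩

end Groth.Agent.S4547
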