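import Groth.Statements.S4548
import Groth.Agent.EGA41Lib.FrobeniusStage
import Mathlib

set_option backward.isDefEq.respectTransparency.types false

set_option autoImplicit false
universe u
open EGA41

namespace Groth.Agent.S4548

/-- Let k be a field of characteristic p > 0, A = k[[T_1, …, T_r]] and K its field of fractions. Then
there is a decreasing filtered family (A_α) of Noetherian subrings of A (rendered: a nonempty
family, directed downwards for inclusion) such that A is a free A_α-module of finite type for every
α and, K_α denoting the subfield of K generated by A_α (its field of fractions inside K), ⋂_α K_α =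
K^p. -/
theorem result (p : ℕ) [Fact p.Prime] (k : Type u) [Field k] [CharP k p]
    (r : ℕ) :
    ∃ (ι : Type u) (_ : Nonempty ι) (S : ι → Subring (MvPowerSeries (Fin r) k)),
      (∀ a b : ι, ∃ c, S c ≤ S a ⊓ S b) ∧
      (∀ i, IsNoetherianRing (S i) ∧ Module.Free (S i) (MvPowerSeries (Fin r) k) ∧ Module.Finite (S i) (MvPowerSeries (Fin r) k)) ∧
      ((⨅ i, Subfield.closure (algebraMap (MvPowerSeries (Fin r) k) (FractionRing (MvPowerSeries (Fin r) k)) '' (S i)) :
          Set (FractionRing (MvPowerSeries (Fin r) k)))) =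
        Set.range fun x : FractionRing (MvPowerSeries (Fin r) k) => x ^ p := by
  classical
  obtain ⟨ι, hne, Mf, hdir, hM, hint⟩ := EGA41Lib.FS.exists_family p k
  refine ⟨ι, hne, fun i => EGA41Lib.FS.stage p (Mf i) r, fun a b => ?_, fun i => ?_, ?_⟩
  · obtain ⟨c, hca, hcb⟩ := hdir a b
    exact ⟨c, le_inf (EGA41Lib.FS.stage_mono hca) (EGA41Lib.FS.stage_mono hcb)⟩
  · haveI := (hM i).2
    obtain ⟨B, -⟩ := EGA41Lib.FS.exists_basis (p := p) (n := r) (Module.finBasis (Mf i) k)
    exact ⟨EGA41Lib.FS.isNoetherianRing_stage, Module.Free.of_basis B, Module.Finite.of_basis B⟩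
  · ext x
    constructor
    · intro hx
      have hx' : ∀ i, x ∈ EGA41Lib.FS.fracStage p (Mf i) r (FractionRing (MvPowerSeries (Fin r) k)) := fun i =>
        Set.mem_iInter.1 hx i
      exact EGA41Lib.FS.exists_pow_eq_of_forall_mem_fracStage p Mf (fun i => (hM i).1) (fun i => (hM i).2) hint hx'
    · rintro ⟨y, rfl⟩
      exact Set.mem_iInter.2 fun i => EGA41Lib.FS.pow_mem_fracStage (hM i).1 y

end Groth.Agent.S4548
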