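import Groth.Statements.S4549
import Groth.Agent.EGA41Lib.AdmissibleFamily
import Mathlib

set_option backward.isDefEq.respectTransparency.types false

set_option autoImplicit false
universe u
open EGA41

namespace Groth.Agent.S4549

open TensorProduct in
/-- Let K be a field of characteristic p, k₀ a subfield and L an extension of K such that Υ_{L/K/k₀} has
finite rank over L. Then there is a subfield k of K containing k₀(K^p), with [K : k] finite, which
is k₀-admissible for the extension L of K, i.e. such that Υ_{L/K/k₀} → Υ_{L/K/k} is injective. (The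
published statement uses the characteristic exponent and so also covers characteristic 0, where k =
K works; this row treats characteristic p > 0.) -/
theorem result (p : ℕ) [Fact p.Prime] {k₀ K L : Type u} [Field k₀] [Field K] [Field L]
    [Algebra k₀ K] [Algebra K L] [Algebra k₀ L] [IsScalarTower k₀ K L] [CharP K p]
    [Module.Finite L (EGA41.imperfection k₀ K L)] :
    ∃ k : IntermediateField k₀ K, (∀ y : K, y ^ p ∈ k) ∧ Module.Finite k K ∧
      ∀ ω ∈ EGA41.imperfection k₀ K L,
        ((KaehlerDifferential.map k₀ k K K).restrictScalars K).baseChange L ω = 0 → ω = 0 := by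
  classical
  obtain ⟨B, hind, hgen⟩ := Groth.Agent.EGA41Lib.PB.exists_pBasis p k₀ K
  obtain ⟨b, hb⟩ := (Groth.Agent.EGA41Lib.PB.exists_basis_iff p k₀ (Subtype.val : B → K)).1
    ⟨hind, by rwa [Subtype.range_coe]⟩
  obtain ⟨T, hT⟩ := Module.Finite.iff_fg.1 (inferInstance : Module.Finite L (EGA41.imperfection k₀ K L))
  let F : Finset B := T.biUnion fun z => ((Algebra.TensorProduct.basis L b).repr z).support
  let S : Set K := (Set.range fun y : K => y ^ p) ∪ Subtype.val '' {j : B | j ∉ F}
  refine ⟨IntermediateField.adjoin k₀ S, fun y => IntermediateField.subset_adjoin k₀ _ (Or.inl ⟨y, rfl⟩), ?_, ?_⟩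
  · set k := IntermediateField.adjoin k₀ S
    have htop : Algebra.adjoin k ((fun j : B => (j : K)) '' ↑F) = ⊤ := by
      refine _root_.eq_top_iff.2 fun y h' => ?_
      clear h'
      have hy : y ∈ Algebra.adjoin (Groth.Agent.EGA41Lib.PB.powAlg p k₀ K) B := hgen ▸ Algebra.mem_top
      induction hy using Algebra.adjoin_induction with
      | mem z hz =>
        by_cases hzF : (⟨z, hz⟩ : B) ∈ F
        · exact Algebra.subset_adjoin ⟨⟨z, hz⟩, hzF, rfl⟩
        · exact Subalgebra.algebraMap_mem _ (⟨z, IntermediateField.subset_adjoin k₀ _ (Or.inr ⟨⟨z, hz⟩, hzF, rfl⟩)⟩ : k)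
      | algebraMap m =>
        exact Subalgebra.algebraMap_mem _ (⟨(m : K),
          IntermediateField.algebra_adjoin_le_adjoin k₀ _ (Algebra.adjoin_mono Set.subset_union_left m.2)⟩ : k)
      | add z z' _ _ hz hz' => exact add_mem hz hz'
      | mul z z' _ _ hz hz' => exact mul_mem hz hz'
    have hfg := fg_adjoin_of_finite (R := k) (F.finite_toSet.image (fun j : B => (j : K))) fun z _ =>
      IsIntegral.of_pow (Fact.out : p.Prime).pos
        (isIntegral_algebraMap (A := K) (x := (⟨z ^ p, IntermediateField.subset_adjoin k₀ _ (Or.inl ⟨z, rfl⟩)⟩ : k)))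
    rw [htop, Algebra.top_toSubmodule] at hfg
    exact ⟨hfg⟩
  · set k := IntermediateField.adjoin k₀ S
    intro ω hω h0
    have hli : LinearIndependent K fun j : F => KaehlerDifferential.D k K ((j : B) : K) := by
      rw [← Groth.Agent.EGA41Lib.PB.linearIndependent_mon_iff_D p k,
        Groth.Agent.EGA41Lib.PB.linearIndependent_iff_forall_not_mem
          (Groth.Agent.EGA41Lib.PB.pow_mem_range_powAlg p k) Subtype.val_injective]
      intro a ha
      refine (Groth.Agent.EGA41Lib.PB.linearIndependent_iff_forall_not_mem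
        (Groth.Agent.EGA41Lib.PB.pow_mem_range_powAlg p k₀) Subtype.val_injective _).1 hind a.1 ?_
      let T₀ := Algebra.adjoin (Groth.Agent.EGA41Lib.PB.powAlg p k₀ K) ((Subtype.val : B → K) '' {j | j ≠ a.1})
      have hT₀ : ∀ y : K, y ^ p ∈ T₀ := fun y => T₀.algebraMap_mem ⟨y ^ p, Algebra.subset_adjoin ⟨y, rfl⟩⟩
      let T' : IntermediateField k₀ K := (T₀.restrictScalars k₀).toIntermediateField fun y hy =>
        (Groth.Agent.EGA41Lib.PB.subfieldOf T₀ hT₀).inv_mem hy
      have hk : k ≤ T' := IntermediateField.adjoin_le_iff.2 (by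
        rintro y (⟨z, rfl⟩ | ⟨j, hj, rfl⟩)
        · exact hT₀ z
        · exact Algebra.subset_adjoin (R := Groth.Agent.EGA41Lib.PB.powAlg p k₀ K)
            ⟨j, fun hja => hj (hja ▸ a.2), rfl⟩)
      have hpow : ∀ m ∈ Groth.Agent.EGA41Lib.PB.powAlg p k K, m ∈ T₀ := by
        intro m hm
        induction hm using Algebra.adjoin_induction with
        | mem y hy => obtain ⟨z, rfl⟩ := hy; exact hT₀ z
        | algebraMap c => exact hk c.2
        | add y z _ _ hy hz => exact add_mem hy hz
        | mul y z _ _ hy hz => exact mul_mem hy hz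
      change ((a : B) : K) ∈ T₀
      revert ha
      generalize ((a : B) : K) = t
      intro ha
      induction ha using Algebra.adjoin_induction with
      | mem y hy =>
        obtain ⟨j, hj, rfl⟩ := hy
        exact Algebra.subset_adjoin ⟨j.1, fun h => hj (Subtype.ext h), rfl⟩
      | algebraMap m => exact hpow _ m.2
      | add y z _ _ hy hz => exact add_mem hy hz
      | mul y z _ _ hy hz => exact mul_mem hy hz
    refine Groth.Agent.EGA41Lib.eq_zero_of_linearIndependent _ b hb F hli ?_ h0
    have hle : EGA41.imperfection k₀ K L ≤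
        (Finsupp.supported L L (F : Set B)).comap (Algebra.TensorProduct.basis L b).repr.toLinearMap := by
      rw [← hT]
      refine Submodule.span_le.2 fun y hy => ?_
      intro j hj
      exact Finset.mem_biUnion.2 ⟨y, hy, hj⟩
    exact fun j hj => hle hω hj

end Groth.Agent.S4549
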