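import Groth.Statements.S4550
import Groth.Agent.CAlgH.NagataComplete
import Mathlib

set_option backward.isDefEq.respectTransparency.types false

set_option autoImplicit false
universe u
open EGA41

namespace Groth.Agent.S4550

/-- Let k be a field, (k_α) a decreasing filtered family of subfields of k with intersection k₀, and
suppose there is a power q of the characteristic exponent of k with k^q ⊆ k₀. Then, inside k((T_1,
…, T_r)), one has ⋂_α k_α((T_1, …, T_r)) = k₀((T_1, …, T_r)); here F((T)) is the subfield of the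
fraction field of k[[T]] generated by the power series with all coefficients in F. -/
theorem result {k : Type u} [Field k] {ι : Type u} [Nonempty ι] (F : ι → Subfield k)
    (hdir : ∀ a b : ι, ∃ c, F c ≤ F a ⊓ F b) (e : ℕ) (hq : ∀ x : k, x ^ ringExpChar k ^ e ∈ ⨅ i, F i) (r : ℕ) :
    (⨅ i, Subfield.closure (algebraMap (MvPowerSeries (Fin r) k) (FractionRing (MvPowerSeries (Fin r) k)) ''
        {f | ∀ n, MvPowerSeries.coeff n f ∈ F i})) =
      Subfield.closure (algebraMap (MvPowerSeries (Fin r) k) (FractionRing (MvPowerSeries (Fin r) k)) ''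
        {f | ∀ n, MvPowerSeries.coeff n f ∈ ⨅ i, F i}) := by
  classical
  refine le_antisymm (fun x hx => ?_) (le_iInf fun i => Subfield.closure_mono (Set.image_mono fun f hf n => iInf_le F i (hf n)))
  let P := MvPowerSeries (Fin r) k
  let L := FractionRing P
  let k₀ := ⨅ i, F i
  have hpow : ∀ (f : P) (n : Fin r →₀ ℕ), MvPowerSeries.coeff n (f ^ ringExpChar k ^ e) ∈ k₀ := by
    obtain ⟨p, hp⟩ := ExpChar.exists k
    have hpe : ringExpChar k = p := ringExpChar.eq k p
    rw [hpe] at hq ⊢
    cases hp with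
    | zero =>
      intro f n
      have h : ∀ x : k, x ∈ k₀ := fun x => Subfield.mem_iInf.2 (by simpa using hq x)
      exact h _
    | prime hpp =>
      haveI := Fact.mk hpp
      have key : ∀ (e : ℕ) (f : P) (n : Fin r →₀ ℕ), ∃ y : k, MvPowerSeries.coeff n (f ^ p ^ e) = y ^ p ^ e := by
        intro e
        induction e with
        | zero => exact fun f n => ⟨MvPowerSeries.coeff n f, by simp⟩
        | succ e ih =>
          intro f n
          rw [pow_succ, pow_mul, ← MvPowerSeries.map_frobenius_expand p hpp.ne_zero, MvPowerSeries.coeff_map]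
          by_cases h : ∀ i, p ∣ n i
          · obtain ⟨m, rfl⟩ : ∃ m, p • m = n := ⟨n.mapRange (fun a => a / p) (by simp),
              by ext i; simp [(Nat.mul_div_cancel' (h i))]⟩
            obtain ⟨y, hy⟩ := ih f m
            exact ⟨y, by rw [MvPowerSeries.coeff_expand_smul, hy, frobenius_def, ← pow_mul]⟩
          · push_neg at h
            obtain ⟨i, hi⟩ := h
            exact ⟨0, by rw [MvPowerSeries.coeff_expand_of_not_dvd p hpp.ne_zero _ hi, map_zero,
              zero_pow (Nat.mul_ne_zero (pow_ne_zero _ hpp.ne_zero) hpp.ne_zero)]⟩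
      intro f n
      obtain ⟨y, hy⟩ := key e f n
      exact hy ▸ hq y
  obtain ⟨a, b, hb, rfl⟩ := IsFractionRing.div_surjective (A := P) x
  let q := ringExpChar k ^ e
  have hq1 : 1 ≤ q := by
    refine Nat.one_le_pow _ _ (Nat.pos_of_ne_zero ?_)
    obtain ⟨p, hp⟩ := ExpChar.exists k
    rw [ringExpChar.eq k p]
    exact expChar_ne_zero k p
  have hb' : algebraMap P L b ≠ 0 := IsFractionRing.to_map_ne_zero_of_mem_nonZeroDivisors hb
  have hx' : algebraMap P L a / algebraMap P L b = algebraMap P L (a * b ^ (q - 1)) / algebraMap P L (b ^ q) := by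
    rw [map_mul, map_pow, map_pow, div_eq_div_iff hb' (pow_ne_zero _ hb'), mul_assoc, ← pow_succ,
      Nat.sub_add_cancel hq1]
  let h := a * b ^ (q - 1)
  suffices hh : ∀ i n, MvPowerSeries.coeff n h ∈ F i by
    rw [hx']
    exact div_mem (Subfield.subset_closure ⟨_, fun n => Subfield.mem_iInf.2 fun i => hh i n, rfl⟩)
      (Subfield.subset_closure ⟨_, hpow b, rfl⟩)
  intro i
  let S := {f : P | ∀ n, MvPowerSeries.coeff n f ∈ F i}
  have hh : algebraMap P L h ∈ Subfield.closure (algebraMap P L '' S) := by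
    rw [show algebraMap P L h = algebraMap P L a / algebraMap P L b * algebraMap P L (b ^ q) by
      rw [hx', div_mul_cancel₀]; rw [map_pow]; exact pow_ne_zero _ hb']
    exact mul_mem (Subfield.mem_iInf.1 hx i)
      (Subfield.subset_closure ⟨_, fun n => Subfield.mem_iInf.1 (hpow b n) i, rfl⟩)
  let sub : Subring P := (MvPowerSeries.map (F i).subtype).range
  have hsub : ∀ f, f ∈ sub ↔ f ∈ S := fun f => by
    constructor
    · rintro ⟨g, rfl⟩ n
      rw [MvPowerSeries.coeff_map]
      exact (MvPowerSeries.coeff n g).2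
    · intro hf
      exact ⟨fun n => ⟨MvPowerSeries.coeff n f, hf n⟩, MvPowerSeries.ext fun n => by rw [MvPowerSeries.coeff_map]; rfl⟩
  obtain ⟨y, hy, z, hz, hyz⟩ := Subfield.mem_closure_iff.1 hh
  have hle : Subring.closure (algebraMap P L '' S) ≤ sub.map (algebraMap P L) := by
    rw [Subring.closure_le]; rintro _ ⟨f, hf, rfl⟩; exact ⟨f, (hsub f).2 hf, rfl⟩
  obtain ⟨u, hu, rfl⟩ := hle hy
  obtain ⟨v, hv, rfl⟩ := hle hz
  intro n
  by_cases hv0 : v = 0
  · subst hv0
    rw [map_zero, div_zero] at hyz
    rw [show h = 0 from IsFractionRing.injective P L (hyz.symm.trans (map_zero _).symm), map_zero]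
    exact zero_mem _
  have hv' : algebraMap P L v ≠ 0 := fun h0 => hv0 (IsFractionRing.injective P L (h0.trans (map_zero _).symm))
  have huv : u = v * h := IsFractionRing.injective P L (by
    rw [map_mul, ← hyz, mul_div_cancel₀ _ hv'])
  obtain ⟨l, hl⟩ : ∃ l : k →ₗ[F i] F i, l 1 = 1 :=
    Module.Projective.exists_dual_eq_one (K := F i) (V := k) one_ne_zero
  let π : P → P := fun f m => (l (MvPowerSeries.coeff m f) : k)
  have hlF : ∀ c : k, c ∈ F i → (l c : k) = c := fun c hc => by
    have : l ((⟨c, hc⟩ : F i) • (1 : k)) = (⟨c, hc⟩ : F i) • l 1 := map_smul l _ _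
    rw [hl, show (⟨c, hc⟩ : F i) • (1 : k) = c from mul_one c, smul_eq_mul, mul_one] at this
    rw [this]
  have hπ : π (v * h) = v * π h := MvPowerSeries.ext fun m => by
    show (l (MvPowerSeries.coeff m (v * h)) : k) = MvPowerSeries.coeff m (v * π h)
    rw [MvPowerSeries.coeff_mul, MvPowerSeries.coeff_mul, map_sum, AddSubmonoidClass.coe_finsetSum]
    refine Finset.sum_congr rfl fun x _ => ?_
    have : l ((⟨_, (hsub v).1 hv x.1⟩ : F i) • MvPowerSeries.coeff x.2 h) = _ := map_smul l _ _
    exact congrArg Subtype.val this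
  have hfix : π (v * h) = v * h := MvPowerSeries.ext fun m => hlF _ (huv ▸ (hsub u).1 hu m)
  haveI := CAlgH.isDomain_mvPowerSeries_fin r k
  have : π h = h := mul_left_cancel₀ hv0 (hπ.symm.trans hfix)
  rw [← this]
  exact (l (MvPowerSeries.coeff n h)).2

end Groth.Agent.S4550
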