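import Groth.Statements.S4551
import Groth.Agent.CAlgH.AdicSmoothPowerSeries
import Groth.Agent.CAlgH.AdicSmoothField
import Groth.Agent.CAlgH.CompleteLocal
import Groth.Agent.CommAlg6.GeomRedJapanese
import Mathlib

set_option backward.isDefEq.respectTransparency.types false

set_option autoImplicit false
universe u
open EGA41

namespace Groth.Agent.S4551

/-- For every field k (any characteristic) the field of fractions k((T_1, …, T_r)) of the power series
ring k[[T_1, …, T_r]] is a separable extension of k, i.e. it is geometrically reduced over k. -/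
theorem result (k : Type u) [Field k] (r : ℕ) :
    Algebra.IsGeometricallyReduced k (FractionRing (MvPowerSeries (Fin r) k)) := by
  classical
  let S := MvPowerSeries (Fin r) k
  haveI hS : IsRegularLocalRing S := (Groth.Agent.CAlgH.isRegularLocalRing_mvPowerSeries k r).1
  haveI : Algebra.IsGeometricallyReduced k S := Groth.Agent.CommAlg6.isGeometricallyReduced_of_isGeometricallyRegular k S
    (Groth.Agent.CAlgH.AdicSmooth.isGeometricallyRegular_of_adicSmooth
      (Groth.Agent.CAlgH.AdicSmooth.mvPowerSeries_of_isMaximal (IsLocalRing.maximalIdeal S)))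
  let F := FractionRing S
  let K := AlgebraicClosure k
  haveI : IsReduced (TensorProduct k K S) := (Algebra.isGeometricallyReduced_field_iff k S).1 inferInstance
  rw [Algebra.isGeometricallyReduced_field_iff]
  let f : TensorProduct k K S →ₐ[k] TensorProduct k K F :=
    Algebra.TensorProduct.map (AlgHom.id k K) (IsScalarTower.toAlgHom k S F)
  have hf : Function.Injective f :=
    Module.Flat.lTensor_preserves_injective_linearMap (IsScalarTower.toAlgHom k S F).toLinearMap
      (IsFractionRing.injective S F)
  have hden : ∀ z : TensorProduct k K F, ∃ s ∈ nonZeroDivisors S, ∃ w,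
      Algebra.TensorProduct.includeRight (R := k) (A := K) (algebraMap S F s) * z = f w := by
    intro z
    induction z with
    | zero => exact ⟨1, one_mem _, 0, by simp⟩
    | add x y hx hy =>
      obtain ⟨s, hs, w, hw⟩ := hx
      obtain ⟨t, ht, v, hv⟩ := hy
      refine ⟨s * t, mul_mem hs ht, Algebra.TensorProduct.includeRight t * w + Algebra.TensorProduct.includeRight s * v, ?_⟩
      rw [map_add, map_mul, map_mul, map_mul, map_mul, ← hw, ← hv]
      simp only [f, Algebra.TensorProduct.includeRight_apply, Algebra.TensorProduct.map_tmul, map_one,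
        IsScalarTower.coe_toAlgHom']
      ring
    | tmul c x =>
      obtain ⟨a, s, rfl⟩ := IsLocalization.exists_mk'_eq (nonZeroDivisors S) x
      refine ⟨s, s.2, c ⊗ₜ a, ?_⟩
      simp only [f, Algebra.TensorProduct.includeRight_apply, Algebra.TensorProduct.tmul_mul_tmul, one_mul,
        Algebra.TensorProduct.map_tmul, AlgHom.coe_id, id_eq, IsScalarTower.coe_toAlgHom']
      rw [IsLocalization.mk'_spec']
  refine ⟨fun z hz => ?_⟩
  obtain ⟨s, hs, w, hw⟩ := hden z
  have hw0 : IsNilpotent w := by
    obtain ⟨m, hm⟩ := hz
    exact ⟨m, hf (by rw [map_pow, ← hw, mul_pow, hm, mul_zero, map_zero])⟩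
  rw [hw0.eq_zero, map_zero] at hw
  exact ((IsLocalization.map_units F ⟨s, hs⟩).map _).mul_right_eq_zero.1 hw

end Groth.Agent.S4551
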