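import Groth.Statements.S4552
import Groth.Agent.EGA41Lib.FSRelLeftInverse
import Mathlib

set_option backward.isDefEq.respectTransparency.types false

set_option autoImplicit false
universe u
open EGA41

namespace Groth.Agent.S4552

/-- For the 𝔞-adic topology on A and the deduced topology on M: the topological A-module M is formally
projective (for every open ideal 𝔞ⁿ, every pair of (A/𝔞ⁿ)-modules P, Q, every surjection P → Q and
every continuous A-linear map M → Q — here automatically continuous — there is a continuous A-linear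
lift M → P) if and only if it is strictly formally projective, i.e. M/𝔞ⁿM is a projective
(A/𝔞ⁿ)-module for every n. -/
theorem result {A : Type u} [CommRing A] (𝔞 : Ideal A) (M : Type u)
    [AddCommGroup M] [Module A M] :
    (∀ (n : ℕ) (P Q : Type u) [AddCommGroup P] [Module A P] [AddCommGroup Q] [Module A Q],
      (∀ a ∈ 𝔞 ^ n, ∀ y : P, a • y = 0) → (∀ a ∈ 𝔞 ^ n, ∀ y : Q, a • y = 0) →
      ∀ f : P →ₗ[A] Q, Function.Surjective f → ∀ v : M →ₗ[A] Q, ∃ w : M →ₗ[A] P, f ∘ₗ w = v) ↔
    ∀ n : ℕ, Module.Projective (A ⧸ 𝔞 ^ n) (M ⧸ (𝔞 ^ n • ⊤ : Submodule A M)) := by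
  constructor
  · intro h n
    refine Module.Projective.of_lifting_property (fun {P Q} _ _ _ _ f g hf => ?_)
    letI : Module A P := Module.compHom P (Ideal.Quotient.mk (𝔞 ^ n))
    letI : Module A Q := Module.compHom Q (Ideal.Quotient.mk (𝔞 ^ n))
    let f' : P →ₗ[A] Q :=
      { toFun := f, map_add' := map_add f, map_smul' := fun a y => f.map_smul (Ideal.Quotient.mk _ a) y }
    let v : M →ₗ[A] Q :=
      { toFun := fun m => g (Submodule.Quotient.mk m)
        map_add' := fun x y => by rw [Submodule.Quotient.mk_add, map_add]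
        map_smul' := fun a x => by
          rw [← Module.Quotient.mk_smul_mk M (𝔞 ^ n), map_smul]; rfl }
    obtain ⟨w, hw⟩ := h n P Q (fun a ha y => by
        change (Ideal.Quotient.mk (𝔞 ^ n) a) • y = 0
        rw [Ideal.Quotient.eq_zero_iff_mem.2 ha, zero_smul])
      (fun a ha y => by
        change (Ideal.Quotient.mk (𝔞 ^ n) a) • y = 0
        rw [Ideal.Quotient.eq_zero_iff_mem.2 ha, zero_smul]) f' hf v
    have hk : (𝔞 ^ n • ⊤ : Submodule A M) ≤ LinearMap.ker w := by
      refine Submodule.smul_le.2 fun a ha m _ => ?_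
      rw [LinearMap.mem_ker, map_smul]
      change (Ideal.Quotient.mk (𝔞 ^ n) a) • w m = 0
      rw [Ideal.Quotient.eq_zero_iff_mem.2 ha, zero_smul]
    refine ⟨{ toFun := Submodule.liftQ _ w hk, map_add' := map_add _, map_smul' := fun b x => ?_ }, ?_⟩
    · obtain ⟨a, rfl⟩ := Ideal.Quotient.mk_surjective b
      obtain ⟨m, rfl⟩ := Submodule.Quotient.mk_surjective _ x
      rw [Module.Quotient.mk_smul_mk]
      exact w.map_smul a m
    · refine LinearMap.ext fun x => ?_
      obtain ⟨m, rfl⟩ := Submodule.Quotient.mk_surjective _ x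
      exact LinearMap.congr_fun hw m
  · intro h n P Q _ _ _ _ hP hQ f hf v
    have tP : Module.IsTorsionBySet A P ((𝔞 ^ n : Ideal A) : Set A) := fun y a => hP a.1 a.2 y
    have tQ : Module.IsTorsionBySet A Q ((𝔞 ^ n : Ideal A) : Set A) := fun y a => hQ a.1 a.2 y
    letI := tP.module
    letI := tQ.module
    haveI := h n
    let f' : P →ₗ[A ⧸ 𝔞 ^ n] Q :=
      { toFun := f, map_add' := map_add f, map_smul' := fun b y => by
          obtain ⟨a, rfl⟩ := Ideal.Quotient.mk_surjective b
          exact f.map_smul a y }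
    have hk : (𝔞 ^ n • ⊤ : Submodule A M) ≤ LinearMap.ker v := by
      refine Submodule.smul_le.2 fun a ha m _ => ?_
      rw [LinearMap.mem_ker, map_smul, hQ a ha]
    let v' : (M ⧸ (𝔞 ^ n • ⊤ : Submodule A M)) →ₗ[A ⧸ 𝔞 ^ n] Q :=
      { toFun := Submodule.liftQ _ v hk, map_add' := map_add _, map_smul' := fun b x => by
          obtain ⟨a, rfl⟩ := Ideal.Quotient.mk_surjective b
          obtain ⟨m, rfl⟩ := Submodule.Quotient.mk_surjective _ x
          rw [Module.Quotient.mk_smul_mk]
          exact v.map_smul a m }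
    obtain ⟨w, hw⟩ := Module.projective_lifting_property f' v' hf
    refine ⟨{ toFun := fun m => w (Submodule.Quotient.mk m), map_add' := fun x y => by rw [Submodule.Quotient.mk_add, map_add],
              map_smul' := fun a x => ?_ }, ?_⟩
    · rw [← Module.Quotient.mk_smul_mk M (𝔞 ^ n), map_smul]; rfl
    · exact LinearMap.ext fun m => LinearMap.congr_fun hw (Submodule.Quotient.mk m)

end Groth.Agent.S4552
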