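import Groth.Statements.S4555
import Groth.Agent.CAlgH.AdicSmoothPowerSeries
import Groth.Agent.CAlgH.AdicSmoothModel
import Mathlib

set_option backward.isDefEq.respectTransparency.types false

set_option autoImplicit false
universe u
open EGA41

namespace Groth.Agent.S4555

/-- Let A carry the 𝔞-adic topology, B = A[[T_1, …, T_n]] the product topology (the adic topology of 𝔞B
+ (T_1, …, T_n)), and let E be a discrete topological A-algebra (a power of 𝔞 kills E). (i) If f : B
→ E is a continuous A-algebra homomorphism then each f(T_i) is nilpotent. (ii) Conversely, for every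
family (z_i) of nilpotent elements of E there is one and only one continuous A-algebra homomorphism
g : B → E with g(T_i) = z_i for all i. -/
theorem result (A : Type u) [CommRing A] (𝔞 : Ideal A) (n : ℕ) (E : Type u) [CommRing E]
    [Algebra A E] (hE : ∃ k : ℕ, (𝔞 ^ k).map (algebraMap A E) = ⊥) :
    (∀ f : MvPowerSeries (Fin n) A →ₐ[A] E,
      (∃ m : ℕ, ∀ x ∈ (𝔞.map (MvPowerSeries.C : A →+* MvPowerSeries (Fin n) A) ⊔
        RingHom.ker (MvPowerSeries.constantCoeff : MvPowerSeries (Fin n) A →+* A)) ^ m, f x = 0) →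
      ∀ i, IsNilpotent (f (MvPowerSeries.X i))) ∧
    ∀ z : Fin n → E, (∀ i, IsNilpotent (z i)) →
      ∃! g : MvPowerSeries (Fin n) A →ₐ[A] E,
        (∃ m : ℕ, ∀ x ∈ (𝔞.map (MvPowerSeries.C : A →+* MvPowerSeries (Fin n) A) ⊔
          RingHom.ker (MvPowerSeries.constantCoeff : MvPowerSeries (Fin n) A →+* A)) ^ m, g x = 0) ∧
        ∀ i, g (MvPowerSeries.X i) = z i := by
  classical
  have hker : RingHom.ker (MvPowerSeries.constantCoeff : MvPowerSeries (Fin n) A →+* A) =
      Ideal.span (Set.range MvPowerSeries.X) := Groth.Agent.CAlgH.AdicSmooth.ker_constantCoeff A n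
  refine ⟨fun f ⟨m, hm⟩ i => ⟨m, ?_⟩, fun z hz => ?_⟩
  · rw [← map_pow]
    exact hm _ (Ideal.pow_right_mono le_sup_right m
      (Ideal.pow_mem_pow (hker.symm ▸ Ideal.subset_span (Set.mem_range_self i)) m))
  let I := Ideal.span (Set.range z)
  obtain ⟨N, hN⟩ : IsNilpotent I := by
    refine (Ideal.FG.isNilpotent_iff_le_nilradical ⟨Finset.univ.image z, by simp [I]⟩).mpr (Ideal.span_le.mpr ?_)
    rintro _ ⟨i, rfl⟩
    exact hz i
  haveI := Groth.Agent.CAlgH.AdicSmooth.isAdicComplete_of_pow_eq_bot (show I ^ N = ⊥ from hN)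
  obtain ⟨g, hgC, hgX⟩ := Groth.Agent.CAlgH.exists_mvPowerSeries_eval (algebraMap A E) I z
    fun i => Ideal.subset_span ⟨i, rfl⟩
  obtain ⟨k, hk⟩ := hE
  let gA : MvPowerSeries (Fin n) A →ₐ[A] E :=
    { g with
      commutes' := fun a => by
        show g (algebraMap A (MvPowerSeries (Fin n) A) a) = _
        rw [MvPowerSeries.algebraMap_apply, Algebra.algebraMap_self, RingHom.id_apply]
        exact RingHom.congr_fun hgC a }
  refine ⟨gA, ⟨⟨k + N, fun x hx => ?_⟩, hgX⟩, ?_⟩
  · have h1 := Ideal.mem_map_of_mem g hx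
    rw [Ideal.map_pow, Ideal.map_sup, Ideal.map_map, hgC, hker, Ideal.map_span, ← Set.range_comp,
      show g ∘ MvPowerSeries.X = z from funext hgX] at h1
    have h2 := Ideal.sup_pow_add_le_pow_sup_pow h1
    rw [← Ideal.map_pow, hk, show Ideal.span (Set.range z) ^ N = ⊥ from hN, bot_sup_eq, Ideal.mem_bot] at h2
    exact h2
  · rintro g' ⟨-, hg'X⟩
    refine AlgHom.coe_ringHom_injective (Groth.Agent.CAlgH.AdicSmooth.mvPowerSeries_hom_ext_ring _ _
      (RingHom.ext fun a => ?_) (fun i => (hg'X i).trans (hgX i).symm) I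
      (fun i => by rw [show (g' : MvPowerSeries (Fin n) A →+* E) (MvPowerSeries.X i) = z i from hg'X i]; exact Ideal.subset_span ⟨i, rfl⟩) hN)
    show g' (MvPowerSeries.C a) = g (MvPowerSeries.C a)
    rw [show g (MvPowerSeries.C a) = algebraMap A E a from RingHom.congr_fun hgC a,
      show (MvPowerSeries.C a : MvPowerSeries (Fin n) A) = algebraMap A _ a by
        rw [MvPowerSeries.algebraMap_apply, Algebra.algebraMap_self, RingHom.id_apply], AlgHom.commutes]

end Groth.Agent.S4555
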