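import Groth.Statements.S4557
import Groth.Agent.CommAlg6.CompletedKaehler
import Groth.Agent.CommAlg6.CompletedKaehlerRank
import Groth.Agent.CAlgH.PowerSeriesEval
import Mathlib

set_option backward.isDefEq.respectTransparency.types false

set_option autoImplicit false
universe u
open EGA41

namespace Groth.Agent.S4557

open IsLocalRing TensorProduct in
/-- Let A be a complete Noetherian local integral domain, A₀ a subring of A isomorphic to a power series
ring k[[T_1, …, T_r]] over a field k such that A is a finite A₀-algebra and the field of fractions E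
of A is a separable extension of the field of fractions L₀ of A₀ (here: A₀ = k[[T]] → A injective
and finite, A a k-algebra through A₀, and every element of A is a root of a polynomial over A₀ which
is separable over L₀). Then rk_A Ω̂_{A/k} = rk_E (Ω̂_{A/k} ⊗_A E) = dim A = r, where Ω̂_{A/k} is the
𝔪-adic completion of Ω_{A/k}; stated as dim_E (E ⊗_A Ω̂_{A/k}) = r. -/
theorem result (k : Type u) [Field k] (r : ℕ) (A : Type u) [CommRing A]
    [IsDomain A] [IsLocalRing A] [IsNoetherianRing A] [IsAdicComplete (maximalIdeal A) A]
    [Algebra (MvPowerSeries (Fin r) k) A] [Algebra k A] [IsScalarTower k (MvPowerSeries (Fin r) k) A]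
    (hinj : Function.Injective (algebraMap (MvPowerSeries (Fin r) k) A)) [Module.Finite (MvPowerSeries (Fin r) k) A]
    (hsep : ∀ a : A, ∃ P : Polynomial (MvPowerSeries (Fin r) k), Polynomial.aeval a P = 0 ∧
      (P.map (algebraMap (MvPowerSeries (Fin r) k) (FractionRing (MvPowerSeries (Fin r) k)))).Separable) :
    Module.finrank (FractionRing A) (FractionRing A ⊗[A] AdicCompletion (maximalIdeal A) (Ω[A⁄k])) = r := by
  classical
  let R := MvPowerSeries (Fin r) k
  let L := FractionRing R
  let E := FractionRing A
  haveI : IsAdicComplete (maximalIdeal R) R := by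
    rw [Groth.Agent.CAlgH3.maximalIdeal_mvPowerSeries_eq]; exact Groth.Agent.CAlgH.isAdicComplete_mvPowerSeries (Fin r) k
  haveI : IsLocalHom (algebraMap R A) :=
    ((algebraMap_isIntegral_iff).2 (inferInstance : Algebra.IsIntegral R A)).isLocalHom hinj
  haveI : FaithfulSMul R A := (faithfulSMul_iff_algebraMap_injective R A).2 hinj
  haveI : FaithfulSMul R E := (faithfulSMul_iff_algebraMap_injective R E).2
    (by rw [IsScalarTower.algebraMap_eq R A E]; exact (IsFractionRing.injective A E).comp hinj)
  letI : Algebra L E := FractionRing.liftAlgebra R E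
  haveI : IsScalarTower k L E := IsScalarTower.of_algebraMap_eq fun c => by
    rw [IsScalarTower.algebraMap_apply k R L, ← IsScalarTower.algebraMap_apply R L E,
      IsScalarTower.algebraMap_apply R A E, ← IsScalarTower.algebraMap_apply k R A, ← IsScalarTower.algebraMap_apply k A E]
  haveI hres : Module.Finite k (ResidueField A) := by
    obtain ⟨n, v, hv⟩ := Module.Finite.exists_fin (R := R) (M := ResidueField A)
    refine ⟨⟨Finset.univ.image v, eq_top_iff.2 fun z _ => ?_⟩⟩
    obtain ⟨c, hc⟩ := (Submodule.mem_span_range_iff_exists_fun R).1 (hv ▸ Submodule.mem_top : z ∈ Submodule.span R (Set.range v))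
    rw [Finset.coe_image, Finset.coe_univ, Set.image_univ, Submodule.mem_span_range_iff_exists_fun]
    refine ⟨fun i => MvPowerSeries.constantCoeff (c i), hc ▸ Finset.sum_congr rfl fun i _ => ?_⟩
    rw [← algebraMap_smul R (MvPowerSeries.constantCoeff (c i)), ← sub_eq_zero, ← sub_smul, Algebra.smul_def]
    suffices h : algebraMap R (ResidueField A) (algebraMap k R (MvPowerSeries.constantCoeff (c i)) - c i) = 0 by
      rw [h, zero_mul]
    rw [IsScalarTower.algebraMap_apply R A (ResidueField A), IsLocalRing.ResidueField.algebraMap_eq,
      IsLocalRing.residue_eq_zero_iff, IsLocalRing.mem_maximalIdeal, mem_nonunits_iff]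
    intro hu
    have h1 := IsLocalHom.map_nonunit (f := algebraMap R A) _ hu
    rw [MvPowerSeries.isUnit_iff_constantCoeff, map_sub] at h1
    rw [show algebraMap k R (MvPowerSeries.constantCoeff (c i)) = MvPowerSeries.C (MvPowerSeries.constantCoeff (c i)) from rfl,
      MvPowerSeries.constantCoeff_C, sub_self] at h1
    exact not_isUnit_zero h1
  haveI hfinA := Groth.Agent.CommAlg6.finite_cKaehler k A
  let g : Fin r → Groth.Agent.CommAlg6.CKaehler k A := fun i =>
    Groth.Agent.CommAlg6.cD k A (algebraMap R A (MvPowerSeries.X i))
  haveI : Module.Finite R (Groth.Agent.CommAlg6.CKaehler k A) := Module.Finite.trans A _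
  haveI : IsHausdorff (maximalIdeal R) (Groth.Agent.CommAlg6.CKaehler k A) :=
    (Groth.Agent.AdicRing.isAdicComplete_of_finite (maximalIdeal R) _).toIsHausdorff
  have hbase : ∀ f : R, Groth.Agent.CommAlg6.cD k A (algebraMap R A f) =
      ∑ i, algebraMap R A (MvPowerSeries.pderiv k i f) • g i := fun f => by
    let δ : Derivation k R (Groth.Agent.CommAlg6.CKaehler k A) :=
      (Groth.Agent.CommAlg6.cD k A).compAlgebraMap R -
        ∑ i, (LinearMap.toSpanSingleton R (Groth.Agent.CommAlg6.CKaehler k A) (g i)).compDer (MvPowerSeries.pderiv k i)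
    have hδ : ∀ f, δ f = Groth.Agent.CommAlg6.cD k A (algebraMap R A f) -
        ∑ i, algebraMap R A (MvPowerSeries.pderiv k i f) • g i := fun f => by
      show _ - (⇑(∑ i, (LinearMap.toSpanSingleton R (Groth.Agent.CommAlg6.CKaehler k A) (g i)).compDer
        (MvPowerSeries.pderiv k i))) f = _
      rw [← Derivation.coeFnAddMonoidHom_apply, map_sum, Finset.sum_apply]
      congr 1
      exact Finset.sum_congr rfl fun i _ => (algebraMap_smul A (MvPowerSeries.pderiv k i f) (g i)).symm
    have h := Groth.Agent.CommAlg6.derivation_eq_zero_mvPowerSeries δ (fun j => by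
      rw [hδ, Finset.sum_eq_single j (fun i _ hij => by
        rw [MvPowerSeries.pderiv_X, Pi.single_apply, if_neg (fun h => hij h.symm), map_zero, zero_smul])
        (fun h => absurd (Finset.mem_univ j) h), MvPowerSeries.pderiv_X, Pi.single_eq_same, map_one, one_smul, sub_self]) f
    rw [hδ] at h
    exact sub_eq_zero.1 h
  let S := Submodule.span A (Set.range g)
  have haux : ∀ (a : A) (P : Polynomial R), Groth.Agent.CommAlg6.cD k A (Polynomial.aeval a P) -
      Polynomial.aeval a P.derivative • Groth.Agent.CommAlg6.cD k A a ∈ S := fun a P => by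
    induction P using Polynomial.induction_on' with
    | add P Q hP hQ =>
      rw [map_add, map_add, Polynomial.derivative_add, map_add, add_smul, add_sub_add_comm]
      exact add_mem hP hQ
    | monomial n c =>
      rw [Polynomial.derivative_monomial, Polynomial.aeval_monomial, Polynomial.aeval_monomial, Derivation.leibniz,
        Derivation.leibniz_pow, smul_comm (algebraMap R A c), ← smul_assoc (algebraMap R A c), smul_eq_mul,
        map_mul, map_natCast, ← Nat.cast_smul_eq_nsmul A, smul_smul]
      rw [show algebraMap R A c * ↑n * a ^ (n - 1) = ↑n * (algebraMap R A c * a ^ (n - 1)) by ring]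
      rw [add_sub_cancel_left, hbase]
      exact Submodule.smul_mem _ _ (Submodule.sum_mem _ fun i _ => Submodule.smul_mem _ _ (Submodule.subset_span ⟨i, rfl⟩))
  have hroot : ∀ a : A, ∃ c : A, c ≠ 0 ∧ c • Groth.Agent.CommAlg6.cD k A a ∈ S ∧ IsSeparable L (algebraMap A E a) := fun a => by
    obtain ⟨P, hP, hPs⟩ := hsep a
    have h0 : Polynomial.aeval (algebraMap A E a) (P.map (algebraMap R L)) = 0 := by
      rw [Polynomial.aeval_map_algebraMap, Polynomial.aeval_algebraMap_apply, hP, map_zero]
    refine ⟨Polynomial.aeval a P.derivative, fun hz => ?_, ?_, hPs.of_dvd (minpoly.dvd L _ h0)⟩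
    · refine hPs.aeval_derivative_ne_zero h0 ?_
      rw [Polynomial.derivative_map, Polynomial.aeval_map_algebraMap, Polynomial.aeval_algebraMap_apply, hz, map_zero]
    · have h := haux a P
      rwa [hP, map_zero, zero_sub, neg_mem_iff] at h
  haveI : IsDomain R := NoZeroDivisors.to_isDomain R
  haveI : Algebra.IsSeparable L E := ⟨fun x => by
    obtain ⟨a, b, hb, rfl⟩ := IsFractionRing.div_surjective (A := A) x
    have ha : algebraMap A E a ∈ separableClosure L E := mem_separableClosure_iff.2 (hroot a).choose_spec.2.2
    have hb : algebraMap A E b ∈ separableClosure L E := mem_separableClosure_iff.2 (hroot b).choose_spec.2.2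
    exact mem_separableClosure_iff.1 (div_mem ha hb)⟩
  haveI : Algebra.FormallyEtale L E := Algebra.FormallyEtale.of_isSeparable L E
  -- derivations of `A` dual to the variables
  have hder : ∀ i : Fin r, ∃ (d : A) (D : Derivation k A A), d ≠ 0 ∧
      ∀ j, D (algebraMap R A (MvPowerSeries.X j)) = if i = j then d else 0 := fun i => by
    obtain ⟨δL, hδL⟩ := Groth.Agent.CommAlg6.exists_derivation_fractionRing (L := L)
      ((Algebra.linearMap R E).compDer (MvPowerSeries.pderiv k i))
    let DE : Derivation k E E := ((LinearMap.liftBaseChange E δL.liftKaehlerDifferential) ∘ₗ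
      (KaehlerDifferential.tensorKaehlerEquivOfFormallyEtale k L E).symm.toLinearMap).compDer (KaehlerDifferential.D k E)
    have hDE : ∀ f : R, DE (algebraMap R E f) = algebraMap R E (MvPowerSeries.pderiv k i f) := fun f => by
      show LinearMap.liftBaseChange E δL.liftKaehlerDifferential
        ((KaehlerDifferential.tensorKaehlerEquivOfFormallyEtale k L E).symm (KaehlerDifferential.D k E (algebraMap R E f))) = _
      rw [IsScalarTower.algebraMap_apply R L E, KaehlerDifferential.tensorKaehlerEquivOfFormallyEtale_symm_D_algebraMap,
        LinearMap.liftBaseChange_tmul, one_smul, Derivation.liftKaehlerDifferential_comp_D, hδL]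
      rfl
    obtain ⟨n, v, hv⟩ := Module.Finite.exists_fin (R := R) (M := A)
    obtain ⟨⟨d, hd⟩, hd'⟩ := IsLocalization.exist_integer_multiples (nonZeroDivisors A) (Finset.univ : Finset (Fin n))
      (fun j => DE (algebraMap A E (v j)))
    choose w hw using fun j => hd' j (Finset.mem_univ j)
    have hint : ∀ a : A, ∃ z : A, algebraMap A E z = d • DE (algebraMap A E a) := fun a => by
      obtain ⟨c, rfl⟩ := (Submodule.mem_span_range_iff_exists_fun R).1 (hv ▸ Submodule.mem_top : a ∈ Submodule.span R (Set.range v))
      refine ⟨∑ j, (algebraMap R A (c j) * w j + d * algebraMap R A (MvPowerSeries.pderiv k i (c j)) * v j), ?_⟩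
      rw [map_sum, map_sum, map_sum, Finset.smul_sum]
      refine Finset.sum_congr rfl fun j _ => ?_
      rw [Algebra.smul_def (c j), map_mul, DE.leibniz, ← IsScalarTower.algebraMap_apply R A E, hDE, map_add, map_mul,
        map_mul, map_mul, hw, IsScalarTower.algebraMap_apply R A E, IsScalarTower.algebraMap_apply R A E]
      simp only [Algebra.smul_def, smul_eq_mul]
      show _ = algebraMap A E d * _
      simp only [Algebra.algebraMap_self, RingHom.id_apply]
      ring
    choose z hz using hint
    have hE : Function.Injective (algebraMap A E) := IsFractionRing.injective A E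
    let D : Derivation k A A := Derivation.mk'
      { toFun := z
        map_add' := fun a b => hE (by rw [map_add, hz, hz, hz, map_add, map_add, smul_add])
        map_smul' := fun c a => hE (by
          rw [RingHom.id_apply, Algebra.smul_def c (z a), map_mul, hz, hz, ← IsScalarTower.algebraMap_apply k A E,
            Algebra.smul_def c a, map_mul, ← IsScalarTower.algebraMap_apply k A E, ← Algebra.smul_def, ← Algebra.smul_def,
            DE.map_smul, smul_comm]) }
      fun a b => hE (by
        show algebraMap A E (z (a * b)) = algebraMap A E (a * z b + b * z a)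
        rw [map_add, map_mul, map_mul, hz, hz, hz, map_mul, DE.leibniz, smul_add]
        simp only [Algebra.smul_def, smul_eq_mul, Algebra.algebraMap_self, RingHom.id_apply]
        ring)
    refine ⟨d, D, nonZeroDivisors.ne_zero hd, fun j => hE ?_⟩
    show algebraMap A E (z _) = _
    rw [hz, ← IsScalarTower.algebraMap_apply R A E, hDE, MvPowerSeries.pderiv_X, Pi.single_apply]
    by_cases h : i = j
    · subst h; simp [Algebra.smul_def]
    · simp [h, Ne.symm h]
  -- the basis
  let b : Fin r → E ⊗[A] Groth.Agent.CommAlg6.CKaehler k A := fun i => (1 : E) ⊗ₜ[A] g i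
  have hspan : Submodule.span E (Set.range b) = ⊤ := by
    refine eq_top_iff.2 fun y _ => ?_
    induction y using TensorProduct.induction_on with
    | zero => exact zero_mem _
    | add a b ha hb => exact add_mem (ha trivial) (hb trivial)
    | tmul e x =>
      rw [show e ⊗ₜ[A] x = e • ((1 : E) ⊗ₜ[A] x) by rw [TensorProduct.smul_tmul', smul_eq_mul, mul_one]]
      refine Submodule.smul_mem _ _ ?_
      have hx : x ∈ Submodule.span A (Set.range (Groth.Agent.CommAlg6.cD k A)) :=
        (Groth.Agent.CommAlg6.span_range_cD k A).symm ▸ Submodule.mem_top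
      induction hx using Submodule.span_induction with
      | zero => rw [TensorProduct.tmul_zero]; exact zero_mem _
      | add a b _ _ ha hb => rw [TensorProduct.tmul_add]; exact add_mem (ha trivial) (hb trivial)
      | smul c y _ hy => rw [TensorProduct.tmul_smul, ← algebraMap_smul E c]; exact Submodule.smul_mem _ _ (hy trivial)
      | mem y hy =>
        obtain ⟨a, rfl⟩ := hy
        obtain ⟨c, hc, hcS, -⟩ := hroot a
        obtain ⟨co, hco⟩ := (Submodule.mem_span_range_iff_exists_fun A).1 hcS
        have hc' : algebraMap A E c ≠ 0 := fun h => hc (IsFractionRing.injective A E (h.trans (map_zero _).symm))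
        rw [← Submodule.smul_mem_iff _ hc', algebraMap_smul, ← TensorProduct.tmul_smul, ← hco, TensorProduct.tmul_sum]
        refine Submodule.sum_mem _ fun i _ => ?_
        rw [TensorProduct.tmul_smul, ← algebraMap_smul E (co i)]
        exact Submodule.smul_mem _ _ (Submodule.subset_span ⟨i, rfl⟩)
  have hli : LinearIndependent E b := Fintype.linearIndependent_iff.2 fun co hco i => by
    obtain ⟨d, D, hd, hD⟩ := hder i
    obtain ⟨ψ, hψ⟩ := Groth.Agent.CommAlg6.exists_cKaehler_lift k A D
    have h := congrArg (LinearMap.liftBaseChange E ((Algebra.linearMap A E).comp ψ)) hco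
    rw [map_sum, map_zero, Finset.sum_eq_single i (fun j _ hji => ?_) (fun h => absurd (Finset.mem_univ i) h)] at h
    · simp only [b, g, map_smul, LinearMap.liftBaseChange_tmul, one_smul, LinearMap.comp_apply, hψ, hD, if_pos rfl,
        Algebra.linearMap_apply, smul_eq_mul, mul_eq_zero] at h
      rcases h with h | h | h
      · exact h
      · exact absurd h one_ne_zero
      · rw [if_pos trivial] at h
        exact absurd (IsFractionRing.injective A E (h.trans (map_zero _).symm)) hd
    · simp only [b, g, map_smul, LinearMap.liftBaseChange_tmul, one_smul, LinearMap.comp_apply, hψ, hD,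
        if_neg (Ne.symm hji), map_zero, smul_zero]
  have hbasis := Module.finrank_eq_card_basis (Module.Basis.mk hli hspan.ge)
  rw [Fintype.card_fin] at hbasis
  exact hbasis

end Groth.Agent.S4557
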