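import Groth.Statements.S4559
import Groth.Agent.EGA41Lib.UnramifiedAdic
import Mathlib

set_option backward.isDefEq.respectTransparency.types false

set_option autoImplicit false
universe u
open EGA41

namespace Groth.Agent.S4559

/-- Let A be 𝔞-adic and B a topological A-algebra for the 𝔟-adic topology (a power of 𝔞 maps into 𝔟).
Then B is a formally unramified A-algebra (for every homomorphism E → C of discrete A-algebras with
nilpotent kernel and every continuous u : B → C there is at most one continuous lift B → E; here E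
discrete means killed by a power of 𝔞, and one may take C = E/J) if and only if the separated
completion of Ω_{B/A}, i.e. its 𝔟-adic completion, is zero. -/
theorem result {A B : Type u} [CommRing A] [CommRing B] [Algebra A B]
    (𝔞 : Ideal A) (𝔟 : Ideal B) (hAB : ∃ k : ℕ, (𝔞 ^ k).map (algebraMap A B) ≤ 𝔟) :
    (∀ (E : Type u) [CommRing E] [Algebra A E], (∃ k : ℕ, (𝔞 ^ k).map (algebraMap A E) = ⊥) →
      ∀ J : Ideal E, IsNilpotent J → ∀ v₁ v₂ : B →ₐ[A] E,
        (∃ m : ℕ, ∀ x ∈ 𝔟 ^ m, v₁ x = 0) → (∃ m : ℕ, ∀ x ∈ 𝔟 ^ m, v₂ x = 0) →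
        (∀ b : B, Ideal.Quotient.mk J (v₁ b) = Ideal.Quotient.mk J (v₂ b)) → v₁ = v₂) ↔
    Subsingleton (AdicCompletion 𝔟 (Ω[B⁄A])) := by
  rw [Groth.Agent.EGA41Lib.UR.subsingleton_completion_iff]
  exact ⟨Groth.Agent.EGA41Lib.UR.smul_top_eq 𝔞 𝔟 hAB,
    fun h E _ _ _ J hJ v₁ v₂ h₁ _ hv => Groth.Agent.EGA41Lib.UR.eq_of_smul_top 𝔟 h J hJ v₁ v₂ h₁ hv⟩

end Groth.Agent.S4559
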