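import Groth.Statements.S4560
import Groth.Agent.EGA41Lib.UnramifiedAdic
import Mathlib

set_option backward.isDefEq.respectTransparency.types false

set_option autoImplicit false
universe u
open EGA41

namespace Groth.Agent.S4560

/-- Let A be a ring, 𝔪 an ideal of A, B an A-algebra; give A the 𝔪-adic topology and B the topology
deduced from it (the 𝔪B-adic topology), and put A₀ = A/𝔪, B₀ = B/𝔪B. Then B is a formally unramified
A-algebra (for these topologies: E discrete means killed by a power of 𝔪, and continuity of maps B →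
E is then automatic) if and only if Ω_{B₀/A₀} = 0, i.e. B₀ is a formally unramified A₀-algebra. -/
theorem result {A B : Type u} [CommRing A] [CommRing B] [Algebra A B] (𝔪 : Ideal A) :
    (∀ (E : Type u) [CommRing E] [Algebra A E], (∃ k : ℕ, (𝔪 ^ k).map (algebraMap A E) = ⊥) →
      ∀ J : Ideal E, IsNilpotent J → ∀ v₁ v₂ : B →ₐ[A] E,
        (∀ b : B, Ideal.Quotient.mk J (v₁ b) = Ideal.Quotient.mk J (v₂ b)) → v₁ = v₂) ↔
    Subsingleton (Ω[B ⧸ 𝔪.map (algebraMap A B)⁄A ⧸ 𝔪]) := by
  rw [← Groth.Agent.EGA41Lib.UR.smul_top_eq_iff]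
  constructor
  · intro h
    exact Groth.Agent.EGA41Lib.UR.smul_top_eq 𝔪 _ ⟨1, by rw [pow_one]⟩
      fun E _ _ hE J hJ v₁ v₂ _ _ hv => h E hE J hJ v₁ v₂ hv
  · intro h E _ _ hE J hJ v₁ v₂ hv
    obtain ⟨k, hk⟩ := hE
    refine Groth.Agent.EGA41Lib.UR.eq_of_smul_top _ h J hJ v₁ v₂ ⟨k, fun x hx => ?_⟩ hv
    rw [← Ideal.map_pow] at hx
    have h1 := Ideal.mem_map_of_mem v₁.toRingHom hx
    rw [Ideal.map_map, show v₁.toRingHom.comp (algebraMap A B) = algebraMap A E from v₁.comp_algebraMap, hk, Ideal.mem_bot] at h1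
    exact h1

end Groth.Agent.S4560
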