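import Groth.Statements.S4561
import Groth.Agent.EGA41Lib.PBasisField
import Mathlib

set_option backward.isDefEq.respectTransparency.types false

set_option autoImplicit false
universe u
open EGA41

namespace Groth.Agent.S4561

/-- Let k₀ be a field of characteristic p > 0 with [k₀ : k₀^p] < ∞ and K₀ an extension of k₀. Inside
K₀((T_1, …, T_r)) one has (k₀(K₀^p))((T_1, …, T_r)) = k₀(K₀^p((T_1, …, T_r))); here, for a subfield
F of K₀, F((T)) denotes the subfield of the fraction field of K₀[[T]] generated by the power series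
with all coefficients in F. -/
theorem result (p : ℕ) [Fact p.Prime] {k₀ K₀ : Type u} [Field k₀] [Field K₀] [Algebra k₀ K₀] [CharP k₀ p]
    (hfin : Module.Finite (Subfield.closure (Set.range fun x : k₀ => x ^ p)) k₀) (r : ℕ) :
    Subfield.closure (algebraMap (MvPowerSeries (Fin r) K₀) (FractionRing (MvPowerSeries (Fin r) K₀)) ''
        {f | ∀ n, MvPowerSeries.coeff n f ∈
          Subfield.closure (Set.range (algebraMap k₀ K₀) ∪ Set.range fun y : K₀ => y ^ p)}) =
      Subfield.closure
        (Set.range (algebraMap k₀ (FractionRing (MvPowerSeries (Fin r) K₀))) ∪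
          (Subfield.closure (algebraMap (MvPowerSeries (Fin r) K₀) (FractionRing (MvPowerSeries (Fin r) K₀)) ''
            {f | ∀ n, MvPowerSeries.coeff n f ∈ Subfield.closure (Set.range fun y : K₀ => y ^ p)}) :
            Set (FractionRing (MvPowerSeries (Fin r) K₀)))) := by
  classical
  let P := MvPowerSeries (Fin r) K₀
  let L := FractionRing P
  let Kp := Subfield.closure (Set.range fun y : K₀ => y ^ p)
  let L₀ := Subfield.closure (Set.range (algebraMap k₀ K₀) ∪ Set.range fun y : K₀ => y ^ p)
  haveI : CharP K₀ p := charP_of_injective_algebraMap (algebraMap k₀ K₀).injective p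
  have hk : ∀ x : k₀, algebraMap k₀ L x = algebraMap P L (MvPowerSeries.C (algebraMap k₀ K₀ x)) := fun x => by
    rw [IsScalarTower.algebraMap_apply k₀ P L, MvPowerSeries.algebraMap_apply]
  have hp0 : 0 < p := (Fact.out : p.Prime).pos
  refine le_antisymm (Subfield.closure_le.2 ?_) (Subfield.closure_le.2 ?_)
  · rintro _ ⟨f, hf, rfl⟩
    haveI := hfin
    let w := Module.finBasis (Subfield.closure (Set.range fun x : k₀ => x ^ p)) k₀
    have hsp : ∀ c ∈ L₀, c ∈ Submodule.span Kp (Set.range fun j => algebraMap k₀ K₀ (w j)) := by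
      intro c hc
      have hV : ∀ x : k₀, algebraMap k₀ K₀ x ∈ Submodule.span Kp (Set.range fun j => algebraMap k₀ K₀ (w j)) := fun x => by
        rw [← w.sum_repr x, map_sum]
        refine Submodule.sum_mem _ fun j _ => ?_
        have hmem : algebraMap k₀ K₀ (w.repr x j : k₀) ∈ Kp := by
          refine (Subfield.closure_le.2 ?_ : Subfield.closure (Set.range fun x : k₀ => x ^ p) ≤ Kp.comap (algebraMap k₀ K₀))
            (w.repr x j).2
          rintro _ ⟨z, rfl⟩
          show algebraMap k₀ K₀ (z ^ p) ∈ Kp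
          rw [map_pow]
          exact Subfield.subset_closure ⟨_, rfl⟩
        rw [show algebraMap k₀ K₀ (w.repr x j • w j) = (⟨_, hmem⟩ : Kp) • algebraMap k₀ K₀ (w j) from map_mul _ _ _]
        exact Submodule.smul_mem _ _ (Submodule.subset_span ⟨j, rfl⟩)
      let S : Subalgebra Kp K₀ := Algebra.adjoin Kp (Set.range (algebraMap k₀ K₀))
      have hS : Subalgebra.toSubmodule S ≤ Submodule.span Kp (Set.range fun j => algebraMap k₀ K₀ (w j)) := by
        rw [Algebra.adjoin_eq_span,
          show (Submonoid.closure (Set.range (algebraMap k₀ K₀)) : Set K₀) = Set.range (algebraMap k₀ K₀) from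
            congrArg SetLike.coe (Submonoid.closure_eq (MonoidHom.mrange (algebraMap k₀ K₀ : k₀ →* K₀)))]
        exact Submodule.span_le.2 (by rintro _ ⟨x, rfl⟩; exact hV x)
      refine hS ?_
      have hpS : ∀ z : K₀, z ^ p ∈ S := fun z => S.algebraMap_mem ⟨_, Subfield.subset_closure ⟨z, rfl⟩⟩
      refine (Subfield.closure_le.2 ?_ : L₀ ≤ EGA41Lib.PB.subfieldOf S hpS) hc
      rintro z (hz | ⟨y, rfl⟩)
      · exact Algebra.subset_adjoin hz
      · exact hpS y
    choose a ha using fun n => (Submodule.mem_span_range_iff_exists_fun Kp).1 (hsp _ (hf n))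
    let g : Fin (Module.finrank (Subfield.closure (Set.range fun x : k₀ => x ^ p)) k₀) → P := fun j n => (a n j : K₀)
    have hfg : f = ∑ j, g j * MvPowerSeries.C (algebraMap k₀ K₀ (w j)) := MvPowerSeries.ext fun n => by
      rw [map_sum, ← ha n]
      exact Finset.sum_congr rfl fun j _ => by rw [MvPowerSeries.coeff_mul_C]; rfl
    rw [hfg, map_sum]
    refine sum_mem fun j _ => ?_
    rw [map_mul, ← hk]
    exact mul_mem (Subfield.subset_closure (Or.inr (Subfield.subset_closure ⟨_, fun n => (a n j).2, rfl⟩)))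
      (Subfield.subset_closure (Or.inl ⟨_, rfl⟩))
  · rintro z (⟨x, rfl⟩ | hz)
    · refine Subfield.subset_closure ⟨MvPowerSeries.C (algebraMap k₀ K₀ x), fun n => ?_, (hk x).symm⟩
      rw [MvPowerSeries.coeff_C]
      split_ifs
      · exact Subfield.subset_closure (Or.inl ⟨x, rfl⟩)
      · exact zero_mem _
    · refine (Subfield.closure_le.2 ?_ : Subfield.closure (algebraMap P L '' {f | ∀ n, MvPowerSeries.coeff n f ∈ Kp}) ≤ _) hz
      rintro _ ⟨f, hf, rfl⟩
      exact Subfield.subset_closure ⟨f, fun n => Subfield.closure_mono Set.subset_union_right (hf n), rfl⟩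

end Groth.Agent.S4561
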