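import Mathlib.RingTheory.AdicCompletion.Basic
import Mathlib.RingTheory.IntegralClosure.IsIntegralClosure.Basic
import Mathlib.RingTheory.Localization.FractionRing
import Mathlib.RingTheory.LocalRing.MaximalIdeal.Basic
import Mathlib.RingTheory.Noetherian.Defs
import Groth.Agent.CAlgMisc2.LocalFinite
import Groth.Agent.CAlgH.NagataComplete

set_option autoImplicit false
universe u
namespace CAlg
end CAlg
open CAlg

namespace Groth.Agent.S4564

/-- Let A be a complete Noetherian local domain with fraction field K and K' a finite extension of K.
Then the integral closure of A in K' is a local ring, complete for the adic topology of its maximal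
ideal. -/
theorem result {A K' : Type u} [CommRing A]
    [IsDomain A] [IsLocalRing A] [IsNoetherianRing A] [IsAdicComplete (IsLocalRing.maximalIdeal A) A]
    [Field K'] [Algebra A K'] [Algebra (FractionRing A) K'] [IsScalarTower A (FractionRing A) K']
    [FiniteDimensional (FractionRing A) K'] :
    ∃ _ : IsLocalRing (integralClosure A K'),
      IsAdicComplete (IsLocalRing.maximalIdeal (integralClosure A K')) (integralClosure A K') := by
  haveI : Module.Finite A (integralClosure A K') :=
    Groth.Agent.CAlgH.isN2_apply (Groth.Agent.CAlgH.isN2_of_complete_local_domain A) (FractionRing A) K'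
  haveI h : IsLocalRing (integralClosure A K') :=
    Groth.Agent.CAlgMisc2.isLocalRing_of_finite_domain_complete (A := A)
  exact ⟨h, Groth.Agent.CAlgMisc2.isAdicComplete_maximalIdeal_of_finite (A := A)⟩

end Groth.Agent.S4564
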