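import Mathlib.RingTheory.AdicCompletion.Algebra
import Mathlib.RingTheory.IntegralClosure.IsIntegralClosure.Basic
import Mathlib.RingTheory.Localization.FractionRing
import Mathlib.RingTheory.Nilpotent.Defs
import Mathlib.RingTheory.TensorProduct.Basic
import Mathlib.RingTheory.Noetherian.Defs
import Mathlib.RingTheory.LocalRing.MaximalIdeal.Basic
import Groth.Agent.CAlgSmall.EventRedFinite
import Groth.Agent.CAlgH.NagataComplete
import Groth.Agent.Matlis6.CompletionNoetherian
import Groth.Agent.CommAlg6.CompletionEquidim

set_option autoImplicit false
universe u
namespace TensorProduct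
end TensorProduct
open TensorProduct
namespace CAlg
end CAlg
open CAlg

namespace Groth.Agent.S4565

/-- Let A be a Noetherian local domain with fraction field K whose adic completion Â is reduced, R the
total ring of fractions of Â and K' a finite extension of K. If R ⊗_A K' (equal to R ⊗_K K', since K
is a localization of A and the nonzero elements of A are invertible in R) is reduced, then the
integral closure of A in K' is a finitely generated A-module. -/
theorem result {A K' R : Type u}
    [CommRing A] [IsDomain A] [IsLocalRing A] [IsNoetherianRing A]
    (hred : IsReduced (AdicCompletion (IsLocalRing.maximalIdeal A) A))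
    [CommRing R] [Algebra (AdicCompletion (IsLocalRing.maximalIdeal A) A) R]
    [IsFractionRing (AdicCompletion (IsLocalRing.maximalIdeal A) A) R] [Algebra A R]
    [IsScalarTower A (AdicCompletion (IsLocalRing.maximalIdeal A) A) R]
    [Field K'] [Algebra A K'] [Algebra (FractionRing A) K'] [IsScalarTower A (FractionRing A) K']
    [FiniteDimensional (FractionRing A) K'] (h : IsReduced (R ⊗[A] K')) :
    Module.Finite A (integralClosure A K') := by
  let Ah := AdicCompletion (IsLocalRing.maximalIdeal A) A
  haveI : IsNoetherianRing Ah := Groth.Agent.Matlis6.isNoetherianRing_adicCompletion _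
  haveI : IsAdicComplete (IsLocalRing.maximalIdeal Ah) Ah := inferInstanceAs
    (IsAdicComplete (IsLocalRing.maximalIdeal (AdicCompletion (IsLocalRing.maximalIdeal A) A)) _)
  haveI := Groth.Agent.CommAlg6.isLocalHom_completion A
  haveI : Module.FaithfullyFlat A Ah := Module.FaithfullyFlat.of_flat_of_isLocalHom
  have hN := Groth.Agent.CAlgH.isNagata_of_complete_local Ah
  haveI := Groth.Agent.CAlgSmall.EventRed.isReduced_tensor_of_injective (K' := K')
    (IsScalarTower.toAlgHom A Ah R) (IsFractionRing.injective Ah R) h
  exact Groth.Agent.CAlgSmall.EventRed.finite_integralClosure (A := A) (B := Ah) (K' := K')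
    (fun q _ _ => hN.2 q)

end Groth.Agent.S4565
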