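import Mathlib.RingTheory.AdicCompletion.Algebra
import Mathlib.RingTheory.Localization.FractionRing
import Mathlib.RingTheory.Nilpotent.GeometricallyReduced
import Mathlib.RingTheory.Noetherian.Defs
import Mathlib.RingTheory.LocalRing.MaximalIdeal.Basic
import Groth.Prelude.Def_Found
import Groth.Agent.CAlgSmall.EventRedFinite
import Groth.Agent.CAlgH.NagataComplete
import Groth.Agent.Matlis6.CompletionNoetherian
import Groth.Agent.CommAlg6.CompletionEquidim

set_option autoImplicit false
universe u
namespace CAlg
end CAlg
open CAlg

namespace Groth.Agent.S4566

/-- Let A be a Noetherian local domain with fraction field K whose adic completion Â is reduced, and R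
the total ring of fractions of Â with its K-algebra structure. If R is geometrically reduced over K
then A is Japanese (N-2). (The published statement asks R to be a separable K-algebra; what is used
is that K' ⊗_K R is reduced for every finite extension K' of K, which geometric reducedness gives.) -/
theorem result {A R : Type u}
    [CommRing A] [IsDomain A] [IsLocalRing A] [IsNoetherianRing A]
    (hred : IsReduced (AdicCompletion (IsLocalRing.maximalIdeal A) A))
    [CommRing R] [Algebra (AdicCompletion (IsLocalRing.maximalIdeal A) A) R]
    [IsFractionRing (AdicCompletion (IsLocalRing.maximalIdeal A) A) R] [Algebra A R]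
    [IsScalarTower A (AdicCompletion (IsLocalRing.maximalIdeal A) A) R]
    [Algebra (FractionRing A) R] [IsScalarTower A (FractionRing A) R]
    (h : Algebra.IsGeometricallyReduced (FractionRing A) R) :
    CAlg.IsN2 A := by
  intro L _ _ _ _ hfin
  haveI := hfin
  let Ah := AdicCompletion (IsLocalRing.maximalIdeal A) A
  haveI : IsNoetherianRing Ah := Groth.Agent.Matlis6.isNoetherianRing_adicCompletion _
  haveI : IsAdicComplete (IsLocalRing.maximalIdeal Ah) Ah := inferInstanceAs
    (IsAdicComplete (IsLocalRing.maximalIdeal (AdicCompletion (IsLocalRing.maximalIdeal A) A)) _)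
  haveI := Groth.Agent.CommAlg6.isLocalHom_completion A
  haveI : Module.FaithfullyFlat A Ah := Module.FaithfullyFlat.of_flat_of_isLocalHom
  have hN := Groth.Agent.CAlgH.isNagata_of_complete_local Ah
  haveI := h
  haveI : Algebra.IsAlgebraic (FractionRing A) L := Algebra.IsAlgebraic.of_finite _ _
  haveI : IsReduced (TensorProduct (FractionRing A) L R) := inferInstance
  haveI := IsLocalization.tensorProduct_compatibleSMul (nonZeroDivisors A) (FractionRing A) L R
  have hR : IsReduced (TensorProduct A R L) := isReduced_of_injective
    ((Algebra.TensorProduct.equivOfCompatibleSMul A (FractionRing A) A L R).symm.toAlgHom.comp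
      (Algebra.TensorProduct.comm A R L).toAlgHom)
    ((Algebra.TensorProduct.equivOfCompatibleSMul A (FractionRing A) A L R).symm.injective.comp
      (Algebra.TensorProduct.comm A R L).injective)
  haveI := Groth.Agent.CAlgSmall.EventRed.isReduced_tensor_of_injective (K' := L)
    (IsScalarTower.toAlgHom A Ah R) (IsFractionRing.injective Ah R) hR
  exact Groth.Agent.CAlgSmall.EventRed.finite_integralClosure (A := A) (B := Ah) (K' := L)
    (fun q _ _ => hN.2 q)

end Groth.Agent.S4566
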