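import Groth.Statements.S4567
import Groth.Agent.Unibranch5.Local
import Mathlib

set_option autoImplicit false
set_option linter.style.haveILetI false
universe u
open AlgebraicGeometry
open CAlg2

open CategoryTheory AlgebraicGeometry
namespace Groth.Agent.S4567

/-- Let A be a domain with integral closure A' (in its fraction field) and f : Spec A' → Spec A the
canonical morphism. Then f is radicial (universally injective) if and only if every local ring A_p
is geometrically unibranch; when this holds f is a homeomorphism. -/
theorem result {A : Type u} [CommRing A] [IsDomain A] :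
    (UniversallyInjective (Spec.map (CommRingCat.ofHom (algebraMap A (integralClosure A (FractionRing A))))) ↔
      ∀ (p : Ideal A) [p.IsPrime], CAlg2.IsGeomUnibranch (Localization.AtPrime p)) ∧
    ((∀ (p : Ideal A) [p.IsPrime], CAlg2.IsGeomUnibranch (Localization.AtPrime p)) →
      IsHomeomorph (PrimeSpectrum.comap (algebraMap A (integralClosure A (FractionRing A))))) := by
  let K := FractionRing A
  let f : A →+* integralClosure A K := algebraMap A _
  have hUI : UniversallyInjective (Spec.map (CommRingCat.ofHom f)) ↔ Groth.Agent.Unibranch5.HomInj A := by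
    rw [(tfae_universallyInjective (f := Spec.map (CommRingCat.ofHom f))).out 0 1 rfl rfl]
    constructor
    · intro h L _ φ ψ hφψ
      have := @h L _ (Spec.map (CommRingCat.ofHom φ)) (Spec.map (CommRingCat.ofHom ψ))
        (by show Spec.map _ ≫ _ = Spec.map _ ≫ _
            rw [← Spec.map_comp, ← Spec.map_comp, ← CommRingCat.ofHom_comp, ← CommRingCat.ofHom_comp]
            exact congrArg (fun r => Spec.map (CommRingCat.ofHom r)) hφψ)
      exact congrArg CommRingCat.Hom.hom (Spec.map_injective this)
    · intro h L _ g₁ g₂ hg
      obtain ⟨φ, rfl⟩ := Spec.map_surjective g₁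
      obtain ⟨ψ, rfl⟩ := Spec.map_surjective g₂
      change Spec.map φ ≫ _ = Spec.map ψ ≫ _ at hg
      rw [← Spec.map_comp, ← Spec.map_comp] at hg
      rw [CommRingCat.hom_ext (h L φ.hom ψ.hom (congrArg CommRingCat.Hom.hom (Spec.map_injective hg)))]
  have key : (∀ (p : Ideal A) [p.IsPrime], CAlg2.IsGeomUnibranch (Localization.AtPrime p)) ↔
      Groth.Agent.Unibranch5.HomInj A := by
    have hinst : ∀ (p : Ideal A) [p.IsPrime], ∃ (a : Algebra (Localization.AtPrime p) K),
        @IsScalarTower A (Localization.AtPrime p) K _ a.toSMul _ ∧ @IsFractionRing (Localization.AtPrime p) _ K _ a := by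
      intro p _
      letI a := IsLocalization.localizationAlgebraOfSubmonoidLe (Localization.AtPrime p) K p.primeCompl
        (nonZeroDivisors A) p.primeCompl_le_nonZeroDivisors
      haveI := IsLocalization.localization_isScalarTower_of_submonoid_le (Localization.AtPrime p) K p.primeCompl
        (nonZeroDivisors A) p.primeCompl_le_nonZeroDivisors
      exact ⟨a, this, IsFractionRing.isFractionRing_of_isDomain_of_isLocalization p.primeCompl _ _⟩
    constructor
    · intro h L _ φ ψ hφψ
      haveI : (RingHom.ker (φ.comp f)).IsPrime := RingHom.ker_isPrime _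
      obtain ⟨a, h1, h2⟩ := hinst (RingHom.ker (φ.comp f))
      exact @Groth.Agent.Unibranch5.eq_of_isGeomUnibranch A _ _ (RingHom.ker (φ.comp f)) (RingHom.ker_isPrime _) a h1 h2
        (h _) L _ φ ψ hφψ rfl
    · intro h p _
      obtain ⟨a, h1, h2⟩ := hinst p
      exact @Groth.Agent.Unibranch5.isGeomUnibranch_of_homInj A _ _ p _ a h1 h2 h
  refine ⟨hUI.trans key.symm, fun h => ?_⟩
  haveI := hUI.2 (key.1 h)
  have hinj : Function.Injective f := (FaithfulSMul.algebraMap_injective A _)
  haveI : FaithfulSMul A (integralClosure A K) := (faithfulSMul_iff_algebraMap_injective _ _).2 hinj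
  rw [isHomeomorph_iff_continuous_isClosedMap_bijective]
  refine ⟨PrimeSpectrum.continuous_comap _, PrimeSpectrum.isClosedMap_comap_of_isIntegral _ (algebraMap_isIntegral_iff.2 inferInstance),
    (Spec.map (CommRingCat.ofHom f)).injective, fun q => ?_⟩
  obtain ⟨P, -, hP, hPq⟩ := Ideal.exists_ideal_over_prime_of_isIntegral q.asIdeal (⊥ : Ideal (integralClosure A K))
    (by rw [← RingHom.ker_eq_comap_bot, (RingHom.injective_iff_ker_eq_bot _).1 hinj]; exact bot_le)
  exact ⟨⟨P, hP⟩, PrimeSpectrum.ext hPq⟩

end Groth.Agent.S4567
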