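import Mathlib.RingTheory.Ideal.Height
import Mathlib.RingTheory.IntegralClosure.IsIntegralClosure.Basic
import Mathlib.RingTheory.Localization.FractionRing
import Mathlib.RingTheory.Noetherian.Defs
import Mathlib.RingTheory.Finiteness.Defs
import Groth.Agent.CAlgH3.MoriPrimes

set_option autoImplicit false
universe u
namespace CAlg
end CAlg
open CAlg

namespace Groth.Agent.S4568

/-- Let A be a Noetherian domain with fraction field K and A' its integral closure in K. Assume that for
every sub-A-algebra C of A' which is finite over A, every height-one prime of C lies over a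
height-one prime of A. Then A' is the intersection in K of the localizations A'_p over the
height-one primes p of A. -/
theorem result {A : Type u} [CommRing A] [IsDomain A] [IsNoetherianRing A]
    (h : ∀ C : Subalgebra A (FractionRing A), C ≤ integralClosure A (FractionRing A) → Module.Finite A C →
      ∀ (q : Ideal C) [q.IsPrime], q.height = 1 → (q.comap (algebraMap A C)).height = 1) :
    (integralClosure A (FractionRing A) : Set (FractionRing A)) =
      ⋂ (p : PrimeSpectrum A) (_ : p.asIdeal.height = 1),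
        {x : FractionRing A | ∃ s : A, s ∉ p.asIdeal ∧
          algebraMap A (FractionRing A) s * x ∈ integralClosure A (FractionRing A)} := by
  classical
  ext x
  simp only [SetLike.mem_coe, Set.mem_iInter, Set.mem_setOf_eq]
  constructor
  · exact fun hx p _ => ⟨1, fun h1 => p.isPrime.ne_top (p.asIdeal.eq_top_of_isUnit_mem h1 isUnit_one), by simpa using hx⟩
  intro hx
  let K := FractionRing A
  let A' := integralClosure A K
  by_contra hxn
  -- localise at a maximal ideal where `x` stays non-integral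
  let D : Ideal A :=
    { carrier := {s | algebraMap A K s * x ∈ A'}
      zero_mem' := by simp
      add_mem' := fun {a b} ha hb => by
        show algebraMap A K (a + b) * x ∈ A'
        rw [map_add, add_mul]; exact add_mem ha hb
      smul_mem' := fun c a ha => by
        show algebraMap A K (c * a) * x ∈ A'
        rw [map_mul, mul_assoc]; exact mul_mem (A'.algebraMap_mem c) ha }
  obtain ⟨m, hm, hDm⟩ := Ideal.exists_le_maximal D fun e => hxn (by
    have : (1 : A) ∈ D := e ▸ Submodule.mem_top
    simpa [D, A'] using this)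
  let R := Localization.AtPrime m
  have hu : ∀ s : m.primeCompl, IsUnit (algebraMap A K s) := fun s =>
    IsUnit.mk0 _ (IsFractionRing.to_map_ne_zero_of_mem_nonZeroDivisors (m.primeCompl_le_nonZeroDivisors s.2))
  letI : Algebra R K := (IsLocalization.lift hu : R →+* K).toAlgebra
  haveI : IsScalarTower A R K := .of_algebraMap_eq fun a => (IsLocalization.lift_eq hu a).symm
  haveI : IsDomain R := IsLocalization.isDomain_localization m.primeCompl_le_nonZeroDivisors
  haveI : IsFractionRing R K := IsFractionRing.isFractionRing_of_isDomain_of_isLocalization m.primeCompl R K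
  obtain ⟨𝒲, -, hfam, -, -⟩ := CAlgH3.Mori.exists_family R K
  have hxR : x ∉ (integralClosure R K).toSubring := fun hxi => by
    obtain ⟨⟨t, ht⟩, hint⟩ := IsIntegral.exists_multiple_integral_of_isLocalization (R := A) (Rₘ := R) m.primeCompl x hxi
    refine ht (hDm (show algebraMap A K t * x ∈ A' from ?_))
    rwa [← Algebra.smul_def]
  obtain ⟨W, hW, hxW, hess⟩ := hfam.exists_essential hxR
  haveI := hfam.dvr W hW
  have hAR : ∀ r ∈ A', r ∈ (integralClosure R K).toSubring := fun r hr => IsIntegral.tower_top hr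
  have hle : ∀ r ∈ A', W.valuation r ≤ 1 := fun r hr => hfam.le hW (hAR r hr)
  have hunit : ∀ t : A, t ∉ m → W.valuation (algebraMap A K t) = 1 := fun t ht => by
    obtain ⟨u, hu⟩ := IsLocalization.map_units R (⟨t, ht⟩ : m.primeCompl)
    have e1 : algebraMap A K t = algebraMap R K (u : R) := by rw [hu, ← IsScalarTower.algebraMap_apply]
    refine le_antisymm (hle _ (A'.algebraMap_mem t)) ?_
    have h1 := hfam.le hW (show algebraMap R K (↑u⁻¹ : R) ∈ (integralClosure R K).toSubring from (integralClosure R K).algebraMap_mem _)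
    have h2 : W.valuation (algebraMap A K t) * W.valuation (algebraMap R K (↑u⁻¹ : R)) = 1 := by
      rw [← map_mul, e1, ← map_mul, Units.mul_inv, map_one, map_one]
    calc (1 : _) = W.valuation (algebraMap A K t) * W.valuation (algebraMap R K (↑u⁻¹ : R)) := h2.symm
      _ ≤ W.valuation (algebraMap A K t) := mul_le_of_le_one_right' h1
  have hess' : CAlgH3.KrullFamily.Essential A'.toSubring W := by
    intro z hz
    obtain ⟨s, hs, hs1, hsz⟩ := hess z hz
    obtain ⟨⟨t, ht⟩, h1⟩ := IsIntegral.exists_multiple_integral_of_isLocalization (R := A) (Rₘ := R) m.primeCompl s hs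
    obtain ⟨⟨t', ht'⟩, h2⟩ := IsIntegral.exists_multiple_integral_of_isLocalization (R := A) (Rₘ := R) m.primeCompl (s * z) hsz
    simp only [Submonoid.smul_def, Algebra.smul_def] at h1 h2
    refine ⟨algebraMap A K t * algebraMap A K t' * s, ?_, ?_, ?_⟩
    · show _ ∈ A'
      rw [mul_comm (algebraMap A K t), mul_assoc]
      exact mul_mem (A'.algebraMap_mem t') h1
    · simp [hunit t ht, hunit t' ht', hs1]
    · show _ ∈ A'
      have e : algebraMap A K t * algebraMap A K t' * s * z = algebraMap A K t * (algebraMap A K t' * (s * z)) := by ring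
      rw [e]
      exact mul_mem (A'.algebraMap_mem t) h2
  let Q := CAlgH3.Mori.centre A' W hle
  haveI : Q.IsPrime := CAlgH3.Mori.centre_isPrime A' W hle
  have hQmin : ∀ P : Ideal A', P.IsPrime → P ≠ ⊥ → P ≤ Q → Q ≤ P := by
    intro P hP hP0 hPQ u hu
    obtain ⟨t, ht, ht0⟩ := Submodule.exists_mem_ne_zero_of_ne_bot hP0
    exact @CAlgH3.KrullFamily.Essential.mem_of_prime K _ A'.toSubring W _ hess' P hP (fun r hr => hPQ hr) t ht
      (fun e => ht0 (Subtype.ext e)) u hu
  obtain ⟨t₀, ht₀R, ht₀0, ht₀W⟩ := hfam.center W hW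
  have hQ0 : Q ≠ ⊥ := fun e => by
    obtain ⟨⟨t, ht⟩, h1⟩ := IsIntegral.exists_multiple_integral_of_isLocalization (R := A) (Rₘ := R) m.primeCompl t₀ ht₀R
    simp only [Submonoid.smul_def, Algebra.smul_def] at h1
    have h2 : (⟨_, h1⟩ : A') ∈ Q := show W.valuation (algebraMap A K t * t₀) < 1 by rw [map_mul, hunit t ht, one_mul]; exact ht₀W
    rw [e, Ideal.mem_bot] at h2
    exact (mul_ne_zero (IsFractionRing.to_map_ne_zero_of_mem_nonZeroDivisors
      (m.primeCompl_le_nonZeroDivisors ht)) ht₀0) (congrArg Subtype.val h2)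
  let q₀ := Q.comap (algebraMap A A')
  haveI : q₀.IsPrime := Ideal.comap_isPrime _ _
  haveI : Algebra.IsIntegral A A' := inferInstance
  -- separate `Q` from the other primes over `q₀`
  let T := {P : Ideal A' | (P.IsPrime ∧ P.comap (algebraMap A A') = q₀) ∧ P ≠ Q}
  have hT : T.Finite := (CAlgH3.Mori.finite_primes_over A K q₀).subset fun P hP => hP.1
  have hsep : ∀ P ∈ T, ∃ e : A', e ∈ P ∧ e ∉ Q := by
    rintro P ⟨⟨hP, hPq⟩, hne⟩
    by_contra! hh
    exact hne (eq_of_le_of_not_lt hh fun hlt => (Ideal.IsIntegral.comap_lt_comap hlt).ne hPq)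
  choose! e he heQ using hsep
  let C : Subalgebra A K := Algebra.adjoin A ((fun P => (e P : K)) '' T)
  have hCle : C ≤ A' := Algebra.adjoin_le (by rintro _ ⟨P, _, rfl⟩; exact (e P).2)
  haveI : Module.Finite A C := Module.Finite.iff_fg.2
    (fg_adjoin_of_finite (hT.image _) (by rintro _ ⟨P, _, rfl⟩; exact (e P).2))
  let ι : C →+* A' := (Subalgebra.inclusion hCle).toRingHom
  letI : Algebra C A' := ι.toAlgebra
  haveI : IsScalarTower A C A' := .of_algebraMap_eq fun a => rfl
  haveI : Algebra.IsIntegral C A' := Algebra.IsIntegral.tower_top A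
  have hιinj : Function.Injective (algebraMap C A') := Subalgebra.inclusion_injective hCle
  let q := Q.comap (algebraMap C A')
  haveI : q.IsPrime := Ideal.comap_isPrime _ _
  have hq0 : q ≠ ⊥ := fun e => hQ0 (Ideal.eq_bot_of_comap_eq_bot e)
  have hcov : ∀ q' : Ideal C, q'.IsPrime → q' < q → q' = ⊥ := by
    intro q' hq' hlt
    by_contra hne
    obtain ⟨Q'', -, hQ''p, hQ''⟩ := Ideal.exists_ideal_over_prime_of_isIntegral q' (⊥ : Ideal A')
      (by rw [← RingHom.ker_eq_comap_bot, (RingHom.injective_iff_ker_eq_bot _).1 hιinj]; exact bot_le)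
    obtain ⟨Q₃, hQ₃le, hQ₃p, hQ₃⟩ := Ideal.exists_ideal_over_prime_of_isIntegral q Q'' (by rw [hQ'']; exact hlt.le)
    have h3 : Q₃ = Q := by
      by_contra hne'
      have hmem : Q₃ ∈ T := ⟨⟨hQ₃p, by
        rw [IsScalarTower.algebraMap_eq A C A', ← Ideal.comap_comap, hQ₃, Ideal.comap_comap, ← IsScalarTower.algebraMap_eq]⟩, hne'⟩
      let eC : C := ⟨(e Q₃ : K), Algebra.subset_adjoin ⟨Q₃, hmem, rfl⟩⟩
      have h4 : eC ∈ Q₃.comap (algebraMap C A') := he Q₃ hmem
      rw [hQ₃] at h4
      exact heQ Q₃ hmem h4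
    have h5 : Q'' = Q := le_antisymm (h3 ▸ hQ₃le) (hQmin Q'' hQ''p (fun e => hne (by
      rw [← hQ'', e, ← RingHom.ker_eq_comap_bot]; exact (RingHom.injective_iff_ker_eq_bot _).1 hιinj)) (h3 ▸ hQ₃le))
    exact hlt.ne (hQ'' ▸ h5 ▸ rfl)
  have hq1 : q.height = 1 := by
    refine le_antisymm ?_ ?_
    · rw [show (1 : ℕ∞) = ((1 : ℕ) : ℕ∞) from rfl, Ideal.height_le_iff]
      intro q' hq' hlt
      rw [hcov q' hq' hlt, Ideal.height_bot]
      exact zero_lt_one
    · exact Order.one_le_iff_pos.2 (pos_iff_ne_zero.2 fun h0 => hq0 (Ideal.height_eq_zero_iff_eq_bot.1 h0))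
  have hq₀1 := h C hCle inferInstance q hq1
  have hqq : q.comap (algebraMap A C) = q₀ := by
    rw [Ideal.comap_comap, ← IsScalarTower.algebraMap_eq]
  rw [hqq] at hq₀1
  obtain ⟨s, hs, hsx⟩ := hx ⟨q₀, inferInstance⟩ hq₀1
  have hs1 : W.valuation (algebraMap A K s) = 1 := le_antisymm (hle _ (A'.algebraMap_mem s))
    (not_lt.1 fun hlt => hs (show algebraMap A A' s ∈ Q from hlt))
  refine hxW ((W.valuation_le_one_iff x).1 ?_)
  have := hle _ hsx
  rwa [map_mul, hs1, one_mul] at this

end Groth.Agent.S4568
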