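import Mathlib.RingTheory.Localization.AtPrime.Basic
import Mathlib.Algebra.Regular.Basic
import Groth.Agent.CAlgMisc1.Imports

set_option autoImplicit false
universe u
namespace CAlg
end CAlg
open CAlg

namespace Groth.Agent.S4569

/-- Let A be a ring, x a non-zero-divisor of A with p = xA prime. For every n > 0 the inverse image in A
of x^n A_p is x^n A. -/
theorem result {A : Type u} [CommRing A] (x : A)
    (hx : x ∈ nonZeroDivisors A) [(Ideal.span ({x} : Set A)).IsPrime] (n : ℕ) (hn : 0 < n) :
    Ideal.comap (algebraMap A (Localization.AtPrime (Ideal.span ({x} : Set A))))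
      (Ideal.map (algebraMap A (Localization.AtPrime (Ideal.span ({x} : Set A)))) (Ideal.span ({x ^ n} : Set A))) =
      Ideal.span ({x ^ n} : Set A) := by
  refine le_antisymm (fun a ha => ?_) Ideal.le_comap_map
  rw [Ideal.mem_comap, IsLocalization.algebraMap_mem_map_algebraMap_iff (Ideal.span {x}).primeCompl] at ha
  obtain ⟨s, hs, hsa⟩ := ha
  rw [Ideal.mem_span_singleton] at hsa ⊢
  clear hn
  induction n with
  | zero => simp
  | succ n ih =>
    obtain ⟨b, rfl⟩ := ih ((pow_dvd_pow x n.le_succ).trans hsa)
    obtain ⟨c, hc⟩ := hsa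
    have h1 : s * b = x * c := (mul_cancel_left_mem_nonZeroDivisors (pow_mem hx n)).1 (by linear_combination hc)
    have h2 : s * b ∈ Ideal.span {x} := Ideal.mem_span_singleton.2 ⟨c, h1⟩
    obtain ⟨d, rfl⟩ := Ideal.mem_span_singleton.1 (((inferInstance : (Ideal.span {x}).IsPrime).mem_or_mem h2).resolve_left hs)
    exact ⟨d, by ring⟩

end Groth.Agent.S4569
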