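import Groth.Statements.S4575
import Groth.Agent.CAlgH3.RegularCore
import Mathlib

set_option backward.isDefEq.respectTransparency.types false

set_option autoImplicit false
universe u
open IsLocalRing
open EGA41

namespace Groth.Agent.S4575

/-- Let R be a regular local ring with maximal ideal m and n a proper ideal with R/n regular. Then
(n/n²) ⊗_R K → (m/m²) ⊗_R K is injective, K the residue field; stated in the equivalent form n ∩ m²
= m·n (the kernel of n/mn → m/m² is (n ∩ m²)/mn). -/
theorem result {R : Type u} [CommRing R] [IsRegularLocalRing R]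
    (n : Ideal R) (hn : n ≠ ⊤) (hreg : IsRegularRing (R ⧸ n)) :
    n ⊓ maximalIdeal R ^ 2 = maximalIdeal R * n := by
  classical
  haveI : Nontrivial (R ⧸ n) := Ideal.Quotient.nontrivial_iff.2 hn
  haveI : IsLocalRing (R ⧸ n) := IsLocalRing.of_surjective' (Ideal.Quotient.mk n) Ideal.Quotient.mk_surjective
  haveI := hreg
  haveI : IsRegularLocalRing (R ⧸ n) := IsRegularLocalRing.of_isRegularRing_of_isLocalRing _
  obtain ⟨rs, hlen, hm, c, hc, hnc⟩ := Groth.Agent.CAlgH3.exists_sop_of_regular_quotient _ R rfl n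
  refine le_antisymm (fun x hx => ?_) (le_inf Ideal.mul_le_right ?_)
  swap
  · rw [sq]; exact Ideal.mul_mono le_rfl (IsLocalRing.le_maximalIdeal hn)
  obtain ⟨hxn, hx2⟩ := hx
  have hnspan : n = Ideal.span (Set.range fun i : {i : Fin rs.length // (i : ℕ) < c} => rs.get i.1) := by
    refine hnc.trans (congrArg Ideal.span ?_)
    ext y
    show y ∈ rs.take c ↔ _
    constructor
    · intro hy
      obtain ⟨i, hi, rfl⟩ := List.mem_iff_getElem.1 hy
      rw [List.length_take] at hi
      exact ⟨⟨⟨i, by omega⟩, show i < c by omega⟩, by simp [List.getElem_take]⟩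
    · rintro ⟨⟨⟨i, hi⟩, hic⟩, rfl⟩
      exact List.mem_iff_getElem.2 ⟨i, by rw [List.length_take]; change i < c at hic; omega, by simp [List.getElem_take]⟩
  rw [hnspan] at hxn
  obtain ⟨a, ha⟩ := Ideal.mem_span_range_iff_exists_fun.1 hxn
  rw [← ha]
  refine Ideal.sum_mem _ fun i _ => Ideal.mul_mem_mul ?_ (by rw [hnspan]; exact Ideal.subset_span ⟨i, rfl⟩)
  by_contra hu
  have hu' : IsUnit (a i) := by_contra fun h => hu h
  let T : Set R := rs.get '' {i.1}ᶜ
  have hT : ∀ j : Fin rs.length, j ≠ i.1 → rs.get j ∈ Ideal.span T := fun j hj => Ideal.subset_span ⟨j, hj, rfl⟩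
  have hmrange : maximalIdeal R = Ideal.span (Set.range rs.get) := by
    rw [← hm, Ideal.ofList]
    congr 1
    ext y
    simp [List.mem_iff_get]
  have hxi : rs.get i.1 ∈ Ideal.span T ⊔ maximalIdeal R ^ 2 := by
    refine (Ideal.unit_mul_mem_iff_mem _ hu').1 ?_
    rw [show a i * rs.get i.1 = x - ∑ j ∈ Finset.univ.erase i, a j * rs.get j.1 by
      rw [← ha, ← Finset.add_sum_erase _ _ (Finset.mem_univ i), add_sub_cancel_right]]
    refine sub_mem (Ideal.mem_sup_right hx2) (Ideal.mem_sup_left (Ideal.sum_mem _ fun j hj => ?_))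
    exact Ideal.mul_mem_left _ _ (hT _ fun h => (Finset.mem_erase.1 hj).1 (Subtype.ext h))
  have hle : maximalIdeal R ≤ Ideal.span T := by
    refine Submodule.le_of_le_smul_of_le_jacobson_bot (I := maximalIdeal R) (IsNoetherian.noetherian _)
      (IsLocalRing.maximalIdeal_le_jacobson _) ?_
    rw [smul_eq_mul, ← sq]
    conv_lhs => rw [hmrange]
    rw [Ideal.span_le]
    rintro _ ⟨j, rfl⟩
    by_cases hj : j = i.1
    · subst hj; exact hxi
    · exact Ideal.mem_sup_left (hT j hj)
  have heq : maximalIdeal R = Submodule.span R T :=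
    le_antisymm hle (Ideal.span_le.2 (Set.image_subset_iff.2 fun j _ => by
      show rs.get j ∈ maximalIdeal R
      rw [hmrange]; exact Ideal.subset_span ⟨j, rfl⟩))
  have hcard := Submodule.spanFinrank_span_le_ncard_of_finite (R := R) (s := T) (Set.toFinite _)
  rw [← heq, ← hlen] at hcard
  have h2 := hcard.trans (Set.ncard_image_le (Set.toFinite _))
  rw [Set.ncard_compl, Set.ncard_singleton, Nat.card_fin] at h2
  have := i.1.2
  omega

end Groth.Agent.S4575
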