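import Groth.Statements.S4578
import Groth.Agent.EGA41Lib.SmoothQuotientAdic
import Groth.Agent.CAlgH.AdicSmoothGeom
import Mathlib

set_option backward.isDefEq.respectTransparency.types false

set_option autoImplicit false
universe u
open IsLocalRing
open EGA41

namespace Groth.Agent.S4578

/-- Let k₀ be a field, k an extension field of k₀ which is separable (formally smooth) over k₀, C a
k-algebra of finite type and p a prime ideal of C. The following are equivalent: C_p is formally
smooth over k₀ (discrete topologies); C_p is formally smooth over k₀ for the adic topology of its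
maximal ideal; C_f is formally smooth over k₀ for some f ∉ p; C_p is geometrically regular over k₀.
(The published statement adds that the set of primes p having these properties is open in Spec C;
that openness is not stated here.) -/
theorem result {k₀ k C : Type u} [Field k₀] [Field k] [Algebra k₀ k]
    [Algebra.FormallySmooth k₀ k] [CommRing C] [Algebra k C] [Algebra k₀ C] [IsScalarTower k₀ k C]
    [Algebra.FiniteType k C]
    (p : Ideal C) [p.IsPrime] :
    [Algebra.FormallySmooth k₀ (Localization.AtPrime p),
     CAlgX.IsAdicFormallySmooth k₀ (Localization.AtPrime p) (maximalIdeal (Localization.AtPrime p)),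
     ∃ f : C, f ∉ p ∧ Algebra.FormallySmooth k₀ (Localization.Away f),
     CAlg.IsGeometricallyRegular k₀ (Localization.AtPrime p)].TFAE := by
  obtain ⟨n, g, hg⟩ := Algebra.FiniteType.iff_quotient_mvPolynomial''.1 (inferInstance : Algebra.FiniteType k C)
  letI : Algebra (MvPolynomial (Fin n) k) C := g.toRingHom.toAlgebra
  haveI : IsScalarTower k (MvPolynomial (Fin n) k) C := IsScalarTower.of_algebraMap_eq fun x => (g.commutes x).symm
  haveI : IsScalarTower k₀ (MvPolynomial (Fin n) k) C := IsScalarTower.of_algebraMap_eq fun x => by
    rw [IsScalarTower.algebraMap_apply k₀ k C, IsScalarTower.algebraMap_apply k₀ k (MvPolynomial (Fin n) k),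
      ← IsScalarTower.algebraMap_apply k (MvPolynomial (Fin n) k) C]
  haveI : Algebra.FormallySmooth k₀ (MvPolynomial (Fin n) k) := Algebra.FormallySmooth.comp k₀ k _
  have hsurj : Function.Surjective (algebraMap (MvPolynomial (Fin n) k) C) := hg
  haveI : Module.Finite (MvPolynomial (Fin n) k) (RingHom.ker (algebraMap (MvPolynomial (Fin n) k) C)).Cotangent :=
    Module.Finite.of_surjective (RingHom.ker (algebraMap (MvPolynomial (Fin n) k) C)).toCotangent
      (Ideal.toCotangent_surjective _)
  haveI : IsNoetherianRing C := Algebra.FiniteType.isNoetherianRing k C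
  haveI : IsNoetherianRing (Localization.AtPrime p) := IsLocalization.isNoetherianRing p.primeCompl _ inferInstance
  tfae_have 1 → 2 := fun h => Groth.Agent.CAlgH.AdicSmooth.of_formallySmooth
  tfae_have 2 → 1 := fun h => by
    obtain ⟨b, hb, hgood⟩ := Groth.Agent.EGA41Lib.SQL.exists_good_of_injective hsurj p
      (Groth.Agent.EGA41Lib.SQL.injective_of_adicSmooth hsurj p h)
    exact Groth.Agent.EGA41Lib.SQL.formallySmooth_of_good hsurj p.primeCompl (Localization.AtPrime p) b hb hgood
  tfae_have 1 → 3 := fun h => by
    obtain ⟨b, hb, hgood⟩ := Groth.Agent.EGA41Lib.SQL.exists_good_of_formallySmooth (A := k₀) hsurj p.primeCompl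
      (Localization.AtPrime p)
    exact ⟨_, hb, Groth.Agent.EGA41Lib.SQL.formallySmooth_of_good hsurj _
      (Localization.Away (algebraMap (MvPolynomial (Fin n) k) C b)) b (Submonoid.mem_powers _) hgood⟩
  tfae_have 3 → 1 := fun ⟨f, hf, h⟩ => by
    obtain ⟨b, hb, hgood⟩ := Groth.Agent.EGA41Lib.SQL.exists_good_of_formallySmooth (A := k₀) hsurj (Submonoid.powers f)
      (Localization.Away f)
    refine Groth.Agent.EGA41Lib.SQL.formallySmooth_of_good hsurj p.primeCompl (Localization.AtPrime p) b ?_ hgood
    obtain ⟨i, hi⟩ := hb
    exact hi ▸ Submonoid.pow_mem _ (show f ∈ p.primeCompl from hf) i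
  tfae_have 2 → 4 := Groth.Agent.CAlgH.AdicSmooth.isGeometricallyRegular_of_adicSmooth
  tfae_have 4 → 2 := Groth.Agent.CAlgH.AdicSmooth.of_isGeometricallyRegular
  tfae_finish

end Groth.Agent.S4578
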