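import Groth.Statements.S4579
import Groth.Agent.S4578
import Groth.Agent.EGA41Lib.SmoothQuotientAdic
import Groth.Agent.CAlgH.AdicSmoothGeom
import Mathlib

set_option backward.isDefEq.respectTransparency.types false

set_option autoImplicit false
universe u
open EGA41 TensorProduct

namespace Groth.Agent.S4579

/-- Let k₀ be a field, k a separable (formally smooth) extension field of k₀ and C a k-algebra of finite
type. The following are equivalent: C is formally smooth over k₀ (discrete topologies); every C_p, p
prime, is formally smooth over k₀; every C_m, m maximal, is; C is geometrically regular over k₀.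
(Geometric regularity is tested on finite extensions of k₀. The published statement quantifies the
last condition over all extensions k' of k₀; for infinite ones the base change need not be
Noetherian, so it need not be regular in the Noetherian sense, and the printed proof passes through
the local rings as here.) -/
theorem result {k₀ k C : Type u} [Field k₀] [Field k] [Algebra k₀ k]
    [Algebra.FormallySmooth k₀ k] [CommRing C] [Algebra k C] [Algebra k₀ C] [IsScalarTower k₀ k C]
    [Algebra.FiniteType k C] :
    [Algebra.FormallySmooth k₀ C,
     ∀ (p : Ideal C) [p.IsPrime], Algebra.FormallySmooth k₀ (Localization.AtPrime p),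
     ∀ (m : Ideal C) [m.IsMaximal], Algebra.FormallySmooth k₀ (Localization.AtPrime m),
     CAlg.IsGeometricallyRegular k₀ C].TFAE := by
  haveI : IsNoetherianRing C := Algebra.FiniteType.isNoetherianRing k C
  obtain ⟨n, g, hg⟩ := Algebra.FiniteType.iff_quotient_mvPolynomial''.1 (inferInstance : Algebra.FiniteType k C)
  letI : Algebra (MvPolynomial (Fin n) k) C := g.toRingHom.toAlgebra
  haveI : IsScalarTower k (MvPolynomial (Fin n) k) C := IsScalarTower.of_algebraMap_eq fun x => (g.commutes x).symm
  haveI : IsScalarTower k₀ (MvPolynomial (Fin n) k) C := IsScalarTower.of_algebraMap_eq fun x => by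
    rw [IsScalarTower.algebraMap_apply k₀ k C, IsScalarTower.algebraMap_apply k₀ k (MvPolynomial (Fin n) k),
      ← IsScalarTower.algebraMap_apply k (MvPolynomial (Fin n) k) C]
  haveI : Algebra.FormallySmooth k₀ (MvPolynomial (Fin n) k) := Algebra.FormallySmooth.comp k₀ k _
  have hsurj : Function.Surjective (algebraMap (MvPolynomial (Fin n) k) C) := hg
  haveI : Module.Finite (MvPolynomial (Fin n) k) (RingHom.ker (algebraMap (MvPolynomial (Fin n) k) C)).Cotangent :=
    Module.Finite.of_surjective (RingHom.ker (algebraMap (MvPolynomial (Fin n) k) C)).toCotangent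
      (Ideal.toCotangent_surjective _)
  tfae_have 1 → 2 := fun h p _ => by
    haveI : Algebra.FormallySmooth C (Localization.AtPrime p) := Algebra.FormallySmooth.of_isLocalization p.primeCompl
    exact Algebra.FormallySmooth.comp k₀ C _
  tfae_have 2 → 3 := fun h m _ => h m
  tfae_have 3 → 1 := (Groth.Agent.EGA41Lib.SQL.formallySmooth_iff_forall_isMaximal hsurj).2
  tfae_have 1 → 4 := fun h k' _ _ hk' => by
    haveI := hk'
    letI : Algebra C (k' ⊗[k₀] C) := Algebra.TensorProduct.rightAlgebra
    haveI : Module.Finite C (k' ⊗[k₀] C) :=
      Module.Finite.equiv (Algebra.TensorProduct.commRight k₀ C k').toLinearEquiv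
    haveI : IsNoetherianRing (k' ⊗[k₀] C) := IsNoetherianRing.of_finite C (k' ⊗[k₀] C)
    refine Groth.Agent.CAlgH.AdicSmooth.isRegularRing_of_maximals _ fun Q hQ => ?_
    haveI : IsNoetherianRing (Localization.AtPrime Q) := IsLocalization.isNoetherianRing Q.primeCompl _ inferInstance
    haveI : Algebra.FormallySmooth (k' ⊗[k₀] C) (Localization.AtPrime Q) :=
      Algebra.FormallySmooth.of_isLocalization Q.primeCompl
    haveI : Algebra.FormallySmooth k' (Localization.AtPrime Q) := Algebra.FormallySmooth.comp k' (k' ⊗[k₀] C) _
    exact Groth.Agent.CAlgH.AdicSmooth.isRegularLocalRing_of_adicSmooth (k := k')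
      Groth.Agent.CAlgH.AdicSmooth.of_formallySmooth
  tfae_have 4 → 2 := fun h p _ =>
    (((Groth.Agent.S4578.result (k₀ := k₀) (k := k) p).out 3 0).1
      (Groth.Agent.CAlgH.AdicSmooth.isGeometricallyRegular_localization k₀ C h p.primeCompl _))
  tfae_finish

end Groth.Agent.S4579
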