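import Groth.Statements.S4581
import Groth.Agent.S9604
import Groth.Agent.CAlgH.FiniteCompletion
import Groth.Agent.Matlis6.CompletionNoetherian
import Groth.Agent.FSchLib.Completion
import Groth.Agent.AdicRing.Basic
import Mathlib

set_option backward.isDefEq.respectTransparency.types false

set_option autoImplicit false
universe u
open EGA41 TensorProduct

namespace Groth.Agent.S4581

/-- Let A₀ be a semi-local Noetherian ring, A a module-finite A₀-algebra and Â the completion of A for
the adic topology of its Jacobson radical. For the discrete topologies, Â is a formally smooth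
A-algebra relative to A₀. -/
theorem result {A₀ A : Type u} [CommRing A₀]
    [IsNoetherianRing A₀] [Finite (MaximalSpectrum A₀)] [CommRing A] [Algebra A₀ A] [Module.Finite A₀ A] :
    EGA41.IsFormallySmoothRel A₀ A (AdicCompletion (Ideal.jacobson (⊥ : Ideal A)) A) := by
  classical
  let I₀ := Ideal.jacobson (⊥ : Ideal A₀)
  let I := Ideal.jacobson (⊥ : Ideal A)
  haveI : IsNoetherianRing A := IsNoetherianRing.of_finite A₀ A
  -- the two topologies agree
  have hle : I₀.map (algebraMap A₀ A) ≤ I := by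
    rw [Ideal.map_le_iff_le_comap]
    intro x hx
    show algebraMap A₀ A x ∈ I
    refine Ideal.mem_sInf.2 ?_
    rintro n ⟨-, hn⟩
    haveI := hn
    haveI : (n.comap (algebraMap A₀ A)).IsMaximal := Ideal.isMaximal_comap_of_isIntegral_of_isMaximal n
    exact (Ideal.mem_sInf.1 hx ⟨bot_le, this⟩ : x ∈ n.comap (algebraMap A₀ A))
  obtain ⟨d, hd⟩ : ∃ d, I ^ (d + 1) ≤ I₀.map (algebraMap A₀ A) := by
    haveI : IsArtinianRing (A₀ ⧸ I₀) := by
      rw [isArtinianRing_iff_krullDimLE_zero, Ring.krullDimLE_zero_iff]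
      intro P hP
      let Q := P.comap (Ideal.Quotient.mk I₀)
      have hQ : I₀ ≤ Q := fun x hx => by
        show Ideal.Quotient.mk I₀ x ∈ P
        rw [Ideal.Quotient.eq_zero_iff_mem.2 hx]; exact zero_mem _
      haveI : Fintype (MaximalSpectrum A₀) := Fintype.ofFinite _
      have h0 : Finset.univ.inf (fun m : MaximalSpectrum A₀ => m.asIdeal) ≤ Q := fun x hx => hQ (by
        rw [Submodule.mem_finsetInf] at hx
        exact Ideal.mem_sInf.2 fun {m} hm => hx ⟨m, hm.2⟩ (Finset.mem_univ _))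
      obtain ⟨m, -, hm⟩ := (Ideal.IsPrime.inf_le' (Ideal.IsPrime.comap (Ideal.Quotient.mk I₀) (K := P))).1 h0
      have hmQ : m.asIdeal = Q := m.isMaximal.eq_of_le (Ideal.IsPrime.comap (Ideal.Quotient.mk I₀) (K := P)).ne_top hm
      rw [← Ideal.map_comap_of_surjective (Ideal.Quotient.mk I₀) Ideal.Quotient.mk_surjective P]
      haveI : Q.IsMaximal := hmQ ▸ m.isMaximal
      exact Ideal.IsMaximal.map_of_surjective_of_ker_le Ideal.Quotient.mk_surjective (by rw [Ideal.mk_ker]; exact hQ)
    let J₀ := I₀.map (algebraMap A₀ A)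
    haveI : IsScalarTower A₀ (A₀ ⧸ I₀) (A ⧸ J₀) := IsScalarTower.of_algebraMap_eq fun x => rfl
    haveI : Module.Finite (A₀ ⧸ I₀) (A ⧸ J₀) := Module.Finite.of_restrictScalars_finite A₀ _ _
    haveI : IsArtinianRing (A ⧸ J₀) := IsArtinianRing.of_finite (A₀ ⧸ I₀) _
    obtain ⟨d, hd⟩ := IsArtinianRing.isNilpotent_jacobson_bot (R := A ⧸ J₀)
    refine ⟨d, fun x hx => Ideal.Quotient.eq_zero_iff_mem.1 ?_⟩
    have h1 : Ideal.map (Ideal.Quotient.mk J₀) I ≤ Ideal.jacobson ⊥ := by
      refine le_of_le_of_eq ?_ (congrArg Ideal.jacobson (Ideal.map_quotient_self J₀))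
      refine (Ideal.map_mono (Ideal.jacobson_mono (bot_le : ⊥ ≤ J₀))).trans (le_of_eq ?_)
      exact Ideal.map_jacobson_of_surjective Ideal.Quotient.mk_surjective Ideal.mk_ker.le
    have h2 := Ideal.mem_map_of_mem (Ideal.Quotient.mk J₀) hx
    rw [Ideal.map_pow] at h2
    have h3 := (Ideal.pow_le_pow_right d.le_succ).trans (le_of_eq hd) (Ideal.pow_right_mono h1 _ h2)
    simpa using h3
  -- the tensor product
  let S₀ := AdicCompletion I₀ A₀
  haveI : IsNoetherianRing S₀ := Matlis6.isNoetherianRing_adicCompletion _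
  let T := A ⊗[A₀] S₀
  let J : Ideal T := I.map (algebraMap A T)
  haveI : IsAdicComplete J T := by
    letI : Algebra S₀ T := Algebra.TensorProduct.rightAlgebra
    haveI : Module.Finite S₀ T := by
      obtain ⟨G, hG⟩ := (Module.Finite.fg_top : (⊤ : Submodule A₀ A).FG)
      refine ⟨⟨G.image fun g => g ⊗ₜ[A₀] (1 : S₀), eq_top_iff.2 fun z _ => ?_⟩⟩
      rw [Finset.coe_image]
      induction z using TensorProduct.induction_on with
      | zero => exact zero_mem _
      | add a b ha hb => exact add_mem (ha trivial) (hb trivial)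
      | tmul a s =>
        have ha : a ∈ Submodule.span A₀ (G : Set A) := hG ▸ Submodule.mem_top
        induction ha using Submodule.span_induction with
        | mem g hg =>
          rw [show g ⊗ₜ[A₀] s = s • (g ⊗ₜ[A₀] (1 : S₀)) by
            rw [Algebra.smul_def]
            show _ = ((1 : A) ⊗ₜ[A₀] s) * (g ⊗ₜ[A₀] (1 : S₀))
            rw [Algebra.TensorProduct.tmul_mul_tmul, one_mul, mul_one]]
          exact Submodule.smul_mem _ _ (Submodule.subset_span ⟨g, hg, rfl⟩)
        | zero => rw [TensorProduct.zero_tmul]; exact zero_mem _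
        | add x y _ _ hx hy => rw [TensorProduct.add_tmul]; exact add_mem (hx trivial) (hy trivial)
        | smul r x _ hx =>
          rw [← TensorProduct.smul_tmul', ← IsScalarTower.algebraMap_smul S₀ r]
          exact Submodule.smul_mem _ _ (hx trivial)
    haveI : IsAdicComplete (I₀.map (algebraMap A₀ S₀)) S₀ :=
      AdicCompletion.isAdicComplete_self I₀ (IsNoetherian.noetherian _)
    haveI := AdicRing.isAdicComplete_of_finite (I₀.map (algebraMap A₀ S₀)) T
    have h1 : IsAdicComplete ((I₀.map (algebraMap A₀ A)).map (algebraMap A T)) T := by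
      have e : (I₀.map (algebraMap A₀ A)).map (algebraMap A T) = (I₀.map (algebraMap A₀ S₀)).map (algebraMap S₀ T) := by
        rw [Ideal.map_map, Ideal.map_map]
        congr 1
        ext x
        show algebraMap A₀ A x ⊗ₜ[A₀] (1 : S₀) = (1 : A) ⊗ₜ[A₀] algebraMap A₀ S₀ x
        rw [Algebra.algebraMap_eq_smul_one, Algebra.algebraMap_eq_smul_one, TensorProduct.smul_tmul]
      rw [e, IsAdicComplete.map_algebraMap_iff]
      infer_instance
    refine (S9604.result _ J 1 (d + 1) one_pos d.succ_pos ?_ ?_ T).1 h1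
    · rw [pow_one]; exact Ideal.map_mono hle
    · rw [← Ideal.map_pow]; exact Ideal.map_mono hd
  have hI₀T : ∀ (j : ℕ) (x : A₀), x ∈ I₀ ^ j → algebraMap A T (algebraMap A₀ A x) ∈ J ^ j := fun j x hx => by
    show algebraMap A T (algebraMap A₀ A x) ∈ (I.map (algebraMap A T)) ^ j
    rw [← Ideal.map_pow]
    refine Ideal.mem_map_of_mem _ (Ideal.pow_right_mono hle j ?_)
    rw [← Ideal.map_pow]
    exact Ideal.mem_map_of_mem _ hx
  have hsurj : ∀ j (y : T), ∃ r, y - algebraMap A T r ∈ J ^ j := fun j y => by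
    induction y using TensorProduct.induction_on with
    | zero => exact ⟨0, by simp⟩
    | add a b ha hb =>
      obtain ⟨r, hr⟩ := ha
      obtain ⟨r', hr'⟩ := hb
      exact ⟨r + r', by rw [map_add, add_sub_add_comm]; exact add_mem hr hr'⟩
    | tmul a x =>
      obtain ⟨r, hr⟩ : ∃ r : A₀, x - algebraMap A₀ S₀ r ∈ (I₀ ^ j).map (algebraMap A₀ S₀) := by
        obtain ⟨r, hr⟩ := Ideal.Quotient.mk_surjective (AdicCompletion.evalₐ I₀ j x)
        refine ⟨r, ?_⟩
        rw [Ideal.map_pow, ← FSchLib.ker_evalₐ I₀ (IsNoetherian.noetherian _) j, RingHom.mem_ker, map_sub]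
        exact sub_eq_zero.2 (hr.symm.trans ((AdicCompletion.evalₐ I₀ j).commutes r).symm)
      refine ⟨a * algebraMap A₀ A r, ?_⟩
      have h : a ⊗ₜ[A₀] x - algebraMap A T (a * algebraMap A₀ A r) = a ⊗ₜ[A₀] (x - algebraMap A₀ S₀ r) := by
        rw [TensorProduct.tmul_sub]
        congr 1
        show (a * algebraMap A₀ A r) ⊗ₜ[A₀] (1 : S₀) = a ⊗ₜ[A₀] algebraMap A₀ S₀ r
        rw [Algebra.algebraMap_eq_smul_one, Algebra.algebraMap_eq_smul_one, mul_smul_comm, mul_one, TensorProduct.smul_tmul]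
      rw [h]
      have hmem : ((I₀ ^ j).map (algebraMap A₀ S₀)).map (Algebra.TensorProduct.includeRight : S₀ →ₐ[A₀] T).toRingHom ≤ J ^ j := by
        rw [Ideal.map_map, Ideal.map_le_iff_le_comap]
        intro z hz
        show (Algebra.TensorProduct.includeRight : S₀ →ₐ[A₀] T) (algebraMap A₀ S₀ z) ∈ J ^ j
        rw [AlgHom.commutes, IsScalarTower.algebraMap_apply A₀ A T]
        exact hI₀T j z hz
      have h2 : (1 : A) ⊗ₜ[A₀] (x - algebraMap A₀ S₀ r) ∈ J ^ j := hmem (Ideal.mem_map_of_mem _ hr)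
      rw [show a ⊗ₜ[A₀] (x - algebraMap A₀ S₀ r) = (a ⊗ₜ[A₀] (1 : S₀)) * ((1 : A) ⊗ₜ[A₀] (x - algebraMap A₀ S₀ r)) by
        rw [Algebra.TensorProduct.tmul_mul_tmul, mul_one, one_mul]]
      exact Ideal.mul_mem_left _ _ h2
  have hker : ∀ j, (J ^ j).comap (algebraMap A T) = I ^ j := fun j => by
    refine le_antisymm (fun a ha => ?_) (Ideal.map_le_iff_le_comap.1 (Ideal.map_pow (algebraMap A T) I j).le)
    let θ : A₀ ⧸ I₀ ^ j →ₐ[A₀] A ⧸ I ^ j := Ideal.Quotient.liftₐ (I₀ ^ j) (Algebra.ofId A₀ _) fun x hx => by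
      show Ideal.Quotient.mk (I ^ j) (algebraMap A₀ A x) = 0
      rw [Ideal.Quotient.eq_zero_iff_mem]
      refine Ideal.pow_right_mono hle j ?_
      rw [← Ideal.map_pow]
      exact Ideal.mem_map_of_mem _ hx
    let π : T →ₐ[A₀] A ⧸ I ^ j := Algebra.TensorProduct.lift (Ideal.Quotient.mkₐ A₀ (I ^ j))
      (θ.comp ((AdicCompletion.evalₐ I₀ j).restrictScalars A₀)) fun _ _ => Commute.all _ _
    have hπ : ∀ a, π (algebraMap A T a) = Ideal.Quotient.mk (I ^ j) a := fun a => by
      show π (a ⊗ₜ[A₀] (1 : S₀)) = _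
      rw [Algebra.TensorProduct.lift_tmul, map_one, mul_one]
      rfl
    have hJπ : J ^ j ≤ RingHom.ker π := by
      show (I.map (algebraMap A T)) ^ j ≤ _
      rw [← Ideal.map_pow, Ideal.map_le_iff_le_comap]
      intro x hx
      show π (algebraMap A T x) = 0
      rw [hπ, Ideal.Quotient.eq_zero_iff_mem.2 hx]
    rw [← Ideal.Quotient.eq_zero_iff_mem, ← hπ]
    exact hJπ ha
  obtain ⟨e, he⟩ := CAlgH.completion_equiv_of_quotients I J (algebraMap A T) hker hsurj
  intro C _ _ _ _ K hK u₀ ⟨u, hu⟩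
  have hsymm : ∀ r : A₀, e.symm (algebraMap A₀ T r) = algebraMap A₀ (AdicCompletion I A) r := fun r => by
    rw [RingEquiv.symm_apply_eq, IsScalarTower.algebraMap_apply A₀ A (AdicCompletion I A), he,
      ← IsScalarTower.algebraMap_apply]
  let χ : S₀ →ₐ[A₀] C := u.comp
    { toRingHom := e.symm.toRingHom.comp (Algebra.TensorProduct.includeRight : S₀ →ₐ[A₀] T).toRingHom
      commutes' := fun r => by
        show e.symm ((Algebra.TensorProduct.includeRight : S₀ →ₐ[A₀] T) (algebraMap A₀ S₀ r)) = _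
        rw [AlgHom.commutes, hsymm] }
  let w : T →ₐ[A] C := Algebra.TensorProduct.lift (Algebra.ofId A C) χ fun _ _ => Commute.all _ _
  refine ⟨{ toRingHom := w.toRingHom.comp e.toRingHom
            commutes' := fun a => by
              show w (e (algebraMap A (AdicCompletion I A) a)) = _
              rw [he, AlgHom.commutes] }, AlgHom.ext fun z => ?_⟩
  show Ideal.Quotient.mk K (w (e z)) = u₀ z
  suffices h : ∀ y : T, Ideal.Quotient.mk K (w y) = u₀ (e.symm y) by rw [h, e.symm_apply_apply]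
  intro y
  induction y using TensorProduct.induction_on with
  | zero => simp
  | add a b ha hb => rw [map_add, map_add, ha, hb, map_add, map_add]
  | tmul a x =>
    rw [show a ⊗ₜ[A₀] x = algebraMap A T a * (Algebra.TensorProduct.includeRight : S₀ →ₐ[A₀] T) x by
      show _ = (a ⊗ₜ[A₀] (1 : S₀)) * ((1 : A) ⊗ₜ[A₀] x)
      rw [Algebra.TensorProduct.tmul_mul_tmul, mul_one, one_mul]]
    rw [map_mul, map_mul, map_mul, map_mul]
    congr 1
    · rw [AlgHom.commutes, show e.symm (algebraMap A T a) = algebraMap A (AdicCompletion I A) a from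
        e.symm_apply_eq.2 (he a).symm, AlgHom.commutes]
      rfl
    · show Ideal.Quotient.mk K (w ((1 : A) ⊗ₜ[A₀] x)) = _
      rw [Algebra.TensorProduct.lift_tmul, map_one, one_mul]
      exact AlgHom.congr_fun hu _

end Groth.Agent.S4581
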