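import Groth.Statements.S4583
import Groth.Agent.EGA41Lib.FormalFibreSmooth
import Groth.Agent.AdicRing.ComplHom
import Mathlib

set_option backward.isDefEq.respectTransparency.types false

set_option autoImplicit false
universe u
open IsLocalRing
open EGA41

namespace Groth.Agent.S4583

/-- Let A be a complete Noetherian local domain with fraction field K, p a prime of A, B = A_p, q a
prime of the completion B̂ of B with q ∩ B = 0. Then B̂_q is a K-algebra formally smooth over K for
the adic topology of its maximal ideal (the published statement adds that it is then geometrically
regular over K; that consequence is not stated). -/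
theorem result {A : Type u} [CommRing A]
    [IsDomain A] [IsLocalRing A] [IsNoetherianRing A] [IsAdicComplete (maximalIdeal A) A] (p : Ideal A) [p.IsPrime]
    (q : Ideal (AdicCompletion (maximalIdeal (Localization.AtPrime p)) (Localization.AtPrime p))) [q.IsPrime]
    (hq : q.comap (algebraMap (Localization.AtPrime p)
      (AdicCompletion (maximalIdeal (Localization.AtPrime p)) (Localization.AtPrime p))) = ⊥)
    [Algebra A (Localization.AtPrime q)]
    [IsScalarTower A (AdicCompletion (maximalIdeal (Localization.AtPrime p)) (Localization.AtPrime p))
      (Localization.AtPrime q)]
    [Algebra (FractionRing A) (Localization.AtPrime q)] [IsScalarTower A (FractionRing A) (Localization.AtPrime q)] :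
    CAlgX.IsAdicFormallySmooth (FractionRing A) (Localization.AtPrime q) (maximalIdeal (Localization.AtPrime q)) := by
  let B := Localization.AtPrime p

  haveI : IsNoetherianRing B := IsLocalization.isNoetherianRing p.primeCompl _ inferInstance
  haveI : IsDomain B := IsLocalization.isDomain_localization p.primeCompl_le_nonZeroDivisors
  haveI : IsNoetherianRing (AdicCompletion (maximalIdeal B) B) :=
    Groth.Agent.AdicRing.isNoetherianRing_completion _ (IsNoetherian.noetherian _)
  refine Groth.Agent.EGA41Lib.adicSmooth_of_generic_fibre B (AdicCompletion (maximalIdeal B) B) (FractionRing A) q hq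
    (fun r => ?_) (Groth.Agent.CAlgH.formalFibre_bot_complete A p)
  refine RingHom.congr_fun (f := (algebraMap (FractionRing A) (Localization.AtPrime q)).comp (algebraMap B (FractionRing A)))
    (g := (algebraMap (AdicCompletion (maximalIdeal B) B) (Localization.AtPrime q)).comp (algebraMap B (AdicCompletion (maximalIdeal B) B))) ?_ r
  refine IsLocalization.ringHom_ext p.primeCompl (RingHom.ext fun a => ?_)
  simp only [RingHom.comp_apply]
  rw [← IsScalarTower.algebraMap_apply A B (FractionRing A),
    ← IsScalarTower.algebraMap_apply A B (AdicCompletion (maximalIdeal B) B)]
  simp only [Algebra.algebraMap_eq_smul_one]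
  exact (smul_one_smul (FractionRing A) a (1 : Localization.AtPrime q)).trans
    (smul_one_smul (AdicCompletion (maximalIdeal B) B) a (1 : Localization.AtPrime q)).symm

end Groth.Agent.S4583
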