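import Groth.Statements.S4584
import Mathlib

set_option autoImplicit false
set_option backward.isDefEq.respectTransparency.types false
universe u
open AlgebraicGeometry CategoryTheory Topology
open EGA41

namespace Groth.Agent.S4584

/-- Given a scheme X that is quasi-compact and quasi-separated, together with a constructible subset Z
of X, one can find an affine scheme X' with a morphism X' → X of finite presentation whose image
equals Z. -/
theorem result (X : Scheme.{u}) [CompactSpace X]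
    [QuasiSeparatedSpace X] (Z : Set X) (hZ : IsConstructible Z) :
    ∃ (X' : Scheme.{u}) (f : X' ⟶ X), IsAffine X' ∧ LocallyOfFinitePresentation f ∧ QuasiCompact f ∧
      QuasiSeparated f ∧ Set.range f.base = Z := by
  classical
  obtain ⟨t, ht⟩ := isCompact_univ.elim_finite_subcover (fun U : X.affineOpens ↦ (U.1 : Set X))
    (fun U ↦ U.1.isOpen) (fun x _ ↦ by
      obtain ⟨_, ⟨U, hU, rfl⟩, hx, -⟩ := X.isBasis_affineOpens.exists_subset_of_mem_open (Set.mem_univ x) isOpen_univ
      exact Set.mem_iUnion.mpr ⟨⟨U, hU⟩, hx⟩)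
  have hd : ∀ U : t, ∃ S : PrimeSpectrum.ConstructibleSetData Γ(X, U.1.1), S.toSet = U.1.2.fromSpec ⁻¹' Z := fun U ↦
    PrimeSpectrum.exists_constructibleSetData_iff.mpr
      (hZ.isLocallyConstructible.preimage_of_isOpenEmbedding U.1.2.fromSpec.isOpenEmbedding).isConstructible
  choose S hS using hd
  let A := fun p : Σ U : t, S U ↦
    CommRingCat.of (Localization.Away (Ideal.Quotient.mk (Ideal.span (Set.range p.2.1.g)) p.2.1.f))
  let a : ∀ p : Σ U : t, S U, Spec (A p) ⟶ X := fun p ↦
    Spec.map (CommRingCat.ofHom ((algebraMap _ _).comp (Ideal.Quotient.mk (Ideal.span (Set.range p.2.1.g))))) ≫ p.1.1.2.fromSpec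
  have hlfp : ∀ p, LocallyOfFinitePresentation (a p) := fun p ↦ by
    have : LocallyOfFinitePresentation (Spec.map (CommRingCat.ofHom
        ((algebraMap _ (A p)).comp (Ideal.Quotient.mk (Ideal.span (Set.range p.2.1.g)))))) := by
      rw [HasRingHomProperty.Spec_iff (P := @LocallyOfFinitePresentation)]
      refine RingHom.FinitePresentation.comp ?_ (RingHom.FinitePresentation.of_surjective _ Ideal.Quotient.mk_surjective ?_)
      · exact RingHom.finitePresentation_algebraMap.mpr (IsLocalization.Away.finitePresentation (Ideal.Quotient.mk (Ideal.span (Set.range p.2.1.g)) p.2.1.f))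
      · rw [Ideal.mk_ker]
        exact Submodule.fg_span (Set.finite_range _)
    infer_instance
  let f := Limits.Sigma.desc a
  have : LocallyOfFinitePresentation f := IsZariskiLocalAtSource.sigmaDesc hlfp
  refine ⟨_, f, inferInstance, this, inferInstance, inferInstance, ?_⟩
  have hr : ∀ p, Set.range (a p) = p.1.1.2.fromSpec '' p.2.1.toSet := fun p ↦ by
    rw [Scheme.Hom.comp_base, TopCat.coe_comp, Set.range_comp]
    congr 1
    show Set.range (PrimeSpectrum.comap ((algebraMap _ (A p)).comp (Ideal.Quotient.mk (Ideal.span (Set.range p.2.1.g))))) = _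
    rw [PrimeSpectrum.comap_comp, Set.range_comp, PrimeSpectrum.localization_away_comap_range (Localization.Away (Ideal.Quotient.mk (Ideal.span (Set.range p.2.1.g)) p.2.1.f)) (Ideal.Quotient.mk (Ideal.span (Set.range p.2.1.g)) p.2.1.f),
      ← PrimeSpectrum.comap_basicOpen, TopologicalSpace.Opens.coe_comap, ContinuousMap.coe_mk,
      Set.image_preimage_eq_inter_range, range_comap_of_surjective _ _ Ideal.Quotient.mk_surjective,
      PrimeSpectrum.BasicConstructibleSetData.toSet, Set.sdiff_eq_compl_inter, PrimeSpectrum.basicOpen_eq_zeroLocus_compl,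
      Ideal.mk_ker, PrimeSpectrum.zeroLocus_span]
  ext x
  constructor
  · rintro ⟨z, rfl⟩
    obtain ⟨⟨p, w⟩, rfl⟩ := (sigmaMk (fun p ↦ Spec (A p))).surjective z
    rw [sigmaMk_mk, ← Scheme.Hom.comp_apply, Limits.Sigma.ι_desc]
    obtain ⟨q, hq, he⟩ := (hr p).le ⟨w, rfl⟩
    have : q ∈ (S p.1).toSet := Set.mem_iUnion₂.mpr ⟨p.2.1, p.2.2, hq⟩
    rw [hS p.1] at this
    exact he ▸ this
  · intro hx
    obtain ⟨U, hUt, hxU⟩ := Set.mem_iUnion₂.mp (ht (Set.mem_univ x))
    obtain ⟨q, rfl⟩ : x ∈ Set.range U.2.fromSpec := by rwa [U.2.range_fromSpec]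
    have : q ∈ (S ⟨U, hUt⟩).toSet := by rw [hS]; exact hx
    obtain ⟨C, hC, hqC⟩ := Set.mem_iUnion₂.mp this
    obtain ⟨w, hw⟩ := (hr ⟨⟨U, hUt⟩, ⟨C, hC⟩⟩).ge ⟨q, hqC, rfl⟩
    refine ⟨Limits.Sigma.ι (fun p ↦ Spec (A p)) ⟨⟨U, hUt⟩, ⟨C, hC⟩⟩ w, ?_⟩
    rw [← Scheme.Hom.comp_apply, Limits.Sigma.ι_desc, hw]

end Groth.Agent.S4584
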