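import Groth.Statements.S4586
import Groth.Agent.H8ProCons.Image

set_option autoImplicit false
universe u
open AlgebraicGeometry CategoryTheory Topology
open EGA41

namespace Groth.Agent.S4586

/-- Let f : X → Y be surjective and either quasi-compact or locally of finite presentation, E ⊆ Y. Then
E is locally constructible (resp. pro-constructible, resp. ind-constructible) if and only if f⁻¹(E)
is. -/
theorem result {X Y : Scheme.{u}} (f : X ⟶ Y) [Surjective f]
    (hf : QuasiCompact f ∨ LocallyOfFinitePresentation f) (E : Set Y) :
    (IsLocallyConstructible E ↔ IsLocallyConstructible (f.base ⁻¹' E)) ∧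
    (ProCons.IsProConstructible E ↔ ProCons.IsProConstructible (f.base ⁻¹' E)) ∧
    (ProCons.IsIndConstructible E ↔ ProCons.IsIndConstructible (f.base ⁻¹' E)) := by
  have key : (ProCons.IsProConstructible E ↔ ProCons.IsProConstructible (f.base ⁻¹' E)) ∧
      (ProCons.IsIndConstructible E ↔ ProCons.IsIndConstructible (f.base ⁻¹' E)) := by
    have him : ∀ T : Set Y, f '' (f ⁻¹' T) = T := fun T ↦ Set.image_preimage_eq _ f.surjective
    rcases hf with hf | hf
    · refine ⟨⟨H8ProCons.isProConstructible_preimage f, fun h ↦ him E ▸
        H8ProCons.isProConstructible_image f h⟩, ⟨H8ProCons.isIndConstructible_preimage f, fun h ↦ ?_⟩⟩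
      rw [H8ProCons.isIndConstructible_iff_compl, ← him Eᶜ]
      exact H8ProCons.isProConstructible_image f
        (H8ProCons.isIndConstructible_iff_compl.mp h)
    · refine ⟨⟨H8ProCons.isProConstructible_preimage f, fun h ↦ ?_⟩,
        ⟨H8ProCons.isIndConstructible_preimage f, fun h ↦ him E ▸
          H8ProCons.isIndConstructible_image f h⟩⟩
      rw [H8ProCons.isProConstructible_iff_compl, ← him Eᶜ]
      exact H8ProCons.isIndConstructible_image f
        (H8ProCons.isProConstructible_iff_compl.mp h)
  refine ⟨?_, key⟩
  rw [H8ProCons.isLocallyConstructible_iff_ind_and_pro,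
    H8ProCons.isLocallyConstructible_iff_ind_and_pro, key.1, key.2]

end Groth.Agent.S4586
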