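import Groth.Statements.S4587
import Groth.Agent.H8ProCons.MaxPoint

set_option autoImplicit false
universe u
open AlgebraicGeometry CategoryTheory
open EGA41

namespace Groth.Agent.S4587

/-- A morphism of schemes f : X → Y is generizing if and only if, for every irreducible closed subset Y'
of Y, each irreducible component of f⁻¹(Y') has dense image in Y'. -/
theorem result {X Y : Scheme.{u}} (f : X ⟶ Y) :
    GeneralizingMap f.base ↔
      ∀ Y' : Set Y, IsClosed Y' → IsIrreducible Y' →
        ∀ Z ∈ irreducibleComponents ↥(f.base ⁻¹' Y'), closure (f.base '' (Subtype.val '' Z)) = Y' := by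
  refine ⟨fun h Y' hY' hirr Z hZ ↦ ?_, fun h x y' hy' ↦ ?_⟩
  · have hcl := hY'.preimage f.continuous
    have : QuasiSober ↥(f.base ⁻¹' Y') := hcl.isClosedEmbedding_subtypeVal.quasiSober
    have : T0Space ↥(f.base ⁻¹' Y') := Subtype.t0Space
    let z : ↥(f.base ⁻¹' Y') := hZ.1.genericPoint
    have hη := hirr.isGenericPoint_genericPoint hY'
    obtain ⟨x', hx', hfx'⟩ := h (hη.specializes (z.2 : f z.1 ∈ Y'))
    have hx'Y : x' ∈ f.base ⁻¹' Y' := show f x' ∈ Y' by rw [hfx']; exact hη.mem
    have hzx : (⟨x', hx'Y⟩ : ↥(f.base ⁻¹' Y')) = z :=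
      H8ProCons.eq_genericPoint_of_specializes hZ
        (hcl.isClosedEmbedding_subtypeVal.isInducing.specializes_iff.mp hx')
    refine Set.Subset.antisymm (closure_minimal ?_ hY') ?_
    · rintro _ ⟨_, ⟨a, -, rfl⟩, rfl⟩
      exact a.2
    · refine hη.def.ge.trans ?_
      refine closure_mono (Set.singleton_subset_iff.mpr ⟨z.1, ⟨z, ?_, rfl⟩, ?_⟩)
      · exact (hZ.1.isGenericPoint_genericPoint (isClosed_of_mem_irreducibleComponents _ hZ)).mem
      · rw [← hzx]
        exact hfx'
  · have hY' : IsClosed (closure ({y'} : Set Y)) := isClosed_closure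
    have hx : x ∈ f.base ⁻¹' closure {y'} := specializes_iff_mem_closure.mp hy'
    have : QuasiSober ↥(f.base ⁻¹' closure {y'}) :=
      (hY'.preimage f.continuous).isClosedEmbedding_subtypeVal.quasiSober
    have hZ := irreducibleComponent_mem_irreducibleComponents (⟨x, hx⟩ : ↥(f.base ⁻¹' closure {y'}))
    have hgen := hZ.1.isGenericPoint_genericPoint (isClosed_of_mem_irreducibleComponents _ hZ)
    let z : ↥(f.base ⁻¹' closure {y'}) := hZ.1.genericPoint
    refine ⟨z.1, (hgen.specializes mem_irreducibleComponent).map continuous_subtype_val, ?_⟩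
    have hle := h _ hY' isIrreducible_singleton.closure _ hZ
    refine Inseparable.eq (Specializes.antisymm (specializes_iff_closure_subset.mpr ?_)
      (specializes_iff_mem_closure.mpr z.2))
    refine hle.ge.trans ?_
    refine closure_minimal ?_ isClosed_closure
    rintro _ ⟨_, ⟨a, ha, rfl⟩, rfl⟩
    exact ((hgen.specializes ha).map continuous_subtype_val |>.map f.continuous).mem_closure

end Groth.Agent.S4587
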