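import Groth.Statements.S4588
import Groth.Agent.EGA41Lib.EisensteinQuotient
import Mathlib

set_option backward.isDefEq.respectTransparency.types false

set_option autoImplicit false
universe u
open IsLocalRing
open EGA41

namespace Groth.Agent.S4588

/-- Let A be a regular local ring with maximal ideal m and residue field K, and F_i(T_i) = T_i^{d_i} +
Σ_{k<d_i} c_{ik} T_i^k (1 ≤ i ≤ r) monic one-variable polynomials of degrees d_i ≥ 2 with all
non-leading coefficients in m; put A' = A[T_1, …, T_r]/(F_1, …, F_r). Then (i) A' is local with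
residue field K, and (ii) A' is regular if and only if the classes in m/m² of the constant terms
c_{i0} are linearly independent over K. -/
theorem result {A : Type u} [CommRing A]
    [IsRegularLocalRing A] {r : ℕ} (d : Fin r → ℕ) (hd : ∀ i, 2 ≤ d i) (c : Fin r → ℕ → A)
    (hc : ∀ i k, c i k ∈ maximalIdeal A) :
    let F : Fin r → MvPolynomial (Fin r) A := fun i =>
      MvPolynomial.X i ^ d i + (Finset.range (d i)).sum fun k => MvPolynomial.C (c i k) * MvPolynomial.X i ^ k
    IsLocalRing (MvPolynomial (Fin r) A ⧸ Ideal.span (Set.range F)) ∧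
    (∀ (M : Ideal (MvPolynomial (Fin r) A ⧸ Ideal.span (Set.range F))) [M.IsMaximal],
      Function.Surjective ((Ideal.Quotient.mk M).comp (algebraMap A _))) ∧
    (IsRegularRing (MvPolynomial (Fin r) A ⧸ Ideal.span (Set.range F)) ↔
      LinearIndependent (ResidueField A) (fun i => (maximalIdeal A).toCotangent ⟨c i 0, hc i 0⟩)) := by
  classical
  intro F
  open scoped EGA41Lib.EisCot in
  haveI := EGA41Lib.EisCot.isLocalRing_cut (fun i => (EGA41Lib.EisCot.poly (d i) (c i)).coeff 0)
    (fun i => by rw [EGA41Lib.EisCot.poly_coeff _ _ _ (by have := hd i; omega)]; exact hc i 0)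
  have hmon : ∀ i, (EGA41Lib.EisCot.poly (d i) (c i)).Monic := fun i => EGA41Lib.EisCot.poly_monic _ _
  have hdeg : ∀ i, 2 ≤ (EGA41Lib.EisCot.poly (d i) (c i)).natDegree := fun i => by
    rw [EGA41Lib.EisCot.poly_natDegree]; exact hd i
  obtain ⟨hloc, hdata⟩ := EGA41Lib.EisCot.exists_data (fun i => EGA41Lib.EisCot.poly (d i) (c i)) hmon hdeg
    (fun i k hk => by
      rw [EGA41Lib.EisCot.poly_natDegree] at hk
      rw [EGA41Lib.EisCot.poly_coeff _ _ _ hk]; exact hc i k)
  haveI := EGA41Lib.SepQuot.moduleFinite _ hmon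
  have hinj := EGA41Lib.SepQuot.nontrivial _ hmon (fun i => lt_of_lt_of_le two_pos (hdeg i))
  have hreg := (EGA41Lib.isRegularRing_iff_finrank_cotangent hinj).trans hdata.finrank_eq_iff
  have hsurj := hdata.residue_surjective
  have hg : (fun j => (maximalIdeal A).toCotangent ⟨(EGA41Lib.EisCot.poly (d j) (c j)).coeff 0, hdata.g_mem j⟩) =
      fun i => (maximalIdeal A).toCotangent ⟨c i 0, hc i 0⟩ := funext fun j =>
    congrArg _ (Subtype.ext (EGA41Lib.EisCot.poly_coeff (d j) (c j) 0 (by have := hd j; omega)))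
  rw [hg] at hreg
  unfold EGA41Lib.SepQuot.Alg at hloc hsurj hreg
  have heq := EGA41Lib.EisCot.rel_poly d c
  clear hg this hdata hinj
  revert hloc hsurj hreg
  rw [heq]
  intro hloc hreg hsurj
  refine ⟨hloc, fun M hM => ?_, hreg⟩
  obtain rfl := IsLocalRing.eq_maximalIdeal hM
  exact hsurj

end Groth.Agent.S4588
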