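import Mathlib.RingTheory.Flat.FaithfullyFlat.Basic
import Mathlib.RingTheory.Nilpotent.Lemmas
import Mathlib.RingTheory.Localization.FractionRing
import Mathlib.RingTheory.IntegralClosure.IsIntegralClosure.Basic
import Mathlib.RingTheory.Ideal.Quotient.Operations
import Mathlib

set_option autoImplicit false
universe u
namespace CAlg
end CAlg
open CAlg

namespace Groth.Agent.S4590
open Polynomial

/-- Let A be a domain with fraction field K, B a faithfully flat A-algebra, C = B_red and R the total
ring of fractions of C. Then A → C is injective with nonzero elements going to non-zero-divisors, so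
that K embeds in R, and an element of K is integral over C in R if and only if it is integral over
A. -/
theorem result {A B : Type u} [CommRing A] [IsDomain A]
    [CommRing B] [Algebra A B] [Module.FaithfullyFlat A B] :
    Function.Injective (algebraMap A (B ⧸ nilradical B)) ∧
    (∀ a : A, a ≠ 0 → algebraMap A (B ⧸ nilradical B) a ∈ nonZeroDivisors (B ⧸ nilradical B)) ∧
    ∀ (R : Type u) [CommRing R] [Algebra (B ⧸ nilradical B) R] [IsFractionRing (B ⧸ nilradical B) R]
      [Algebra A R] [IsScalarTower A (B ⧸ nilradical B) R] [Algebra (FractionRing A) R]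
      [IsScalarTower A (FractionRing A) R] (x : FractionRing A),
      IsIntegral (B ⧸ nilradical B) (algebraMap (FractionRing A) R x) ↔ IsIntegral A x := by
  classical
  have hAB : Function.Injective (algebraMap A B) := FaithfulSMul.algebraMap_injective A B
  have hnzd : ∀ a : A, a ≠ 0 → ∀ b : B, algebraMap A B a * b = 0 → b = 0 := fun a ha b hb =>
    (Module.Flat.isSMulRegular_of_isRegular (M := B) (IsRegular.of_ne_zero ha)) (by
      show a • b = a • (0 : B)
      rw [smul_zero, Algebra.smul_def, hb])
  have hinj : Function.Injective (algebraMap A (B ⧸ nilradical B)) := by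
    rw [injective_iff_map_eq_zero]
    intro a ha
    rw [IsScalarTower.algebraMap_apply A B (B ⧸ nilradical B), Ideal.Quotient.algebraMap_eq, Ideal.Quotient.eq_zero_iff_mem, mem_nilradical] at ha
    obtain ⟨n, hn⟩ := ha
    exact pow_eq_zero_iff'.1 (hAB (by rw [map_pow, hn, map_zero])) |>.1
  refine ⟨hinj, fun a ha => ?_, ?_⟩
  · rw [mem_nonZeroDivisors_iff_right]
    intro z hz
    obtain ⟨b, rfl⟩ := Ideal.Quotient.mk_surjective z
    rw [IsScalarTower.algebraMap_apply A B (B ⧸ nilradical B), Ideal.Quotient.algebraMap_eq, ← map_mul, Ideal.Quotient.eq_zero_iff_mem, mem_nilradical] at hz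
    obtain ⟨n, hn⟩ := hz
    rw [Ideal.Quotient.eq_zero_iff_mem, mem_nilradical]
    exact ⟨n, hnzd (a ^ n) (pow_ne_zero n ha) _ (by rw [map_pow, mul_comm, ← mul_pow, hn])⟩
  intro R _ _ _ _ _ _ _ x
  constructor
  swap
  · intro hx
    exact (hx.map (IsScalarTower.toAlgHom A (FractionRing A) R)).tower_top
  intro hx
  obtain ⟨P, hPm, hP⟩ := hx
  obtain ⟨a, b, hb, hab⟩ := IsFractionRing.div_surjective (A := A) x
  have hb0 : b ≠ 0 := nonZeroDivisors.ne_zero hb
  let C := B ⧸ nilradical B
  let n := P.natDegree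
  choose c₀ hc₀ using fun i => Ideal.Quotient.mk_surjective (P.coeff i)
  obtain ⟨c, hc, hcn⟩ : ∃ c : ℕ → B, (∀ i, Ideal.Quotient.mk (nilradical B) (c i) = P.coeff i) ∧ c n = 1 := by
    refine ⟨Function.update c₀ n 1, fun i => ?_, Function.update_self ..⟩
    by_cases h : i = n
    · rw [h, Function.update_self, map_one, hPm.coeff_natDegree]
    · rw [Function.update_of_ne h]; exact hc₀ i
  -- the homogenised relation is nilpotent in `B`
  have hxb : algebraMap (FractionRing A) R x * algebraMap A R b = algebraMap A R a := by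
    rw [IsScalarTower.algebraMap_apply A (FractionRing A) R, IsScalarTower.algebraMap_apply A (FractionRing A) R, ← map_mul,
      ← hab, div_mul_cancel₀ _ (IsFractionRing.to_map_ne_zero_of_mem_nonZeroDivisors hb)]
  let t : B := ∑ i ∈ Finset.range (n + 1), c i * (algebraMap A B a) ^ i * (algebraMap A B b) ^ (n - i)
  have ht : IsNilpotent t := by
    rw [← mem_nilradical, ← Ideal.Quotient.eq_zero_iff_mem]
    apply IsFractionRing.injective C R
    have hcast : ∀ y : A, algebraMap C R (Ideal.Quotient.mk (nilradical B) (algebraMap A B y)) = algebraMap A R y := fun y => by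
      rw [IsScalarTower.algebraMap_apply A C R]; rfl
    rw [map_zero, map_sum, map_sum]
    have h0 : (algebraMap A R b) ^ n * P.eval₂ (algebraMap C R) (algebraMap (FractionRing A) R x) = 0 := by
      rw [show P.eval₂ (algebraMap C R) (algebraMap (FractionRing A) R x) = 0 from hP, mul_zero]
    rw [Polynomial.eval₂_eq_sum_range, Finset.mul_sum] at h0
    rw [← h0]
    refine Finset.sum_congr rfl fun i hi => ?_
    rw [Finset.mem_range] at hi
    simp only [map_mul, map_pow, hcast, hc]
    obtain ⟨k, hk⟩ : ∃ k, n = i + k := ⟨n - i, by omega⟩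
    rw [← hxb, hk, Nat.add_sub_cancel_left, pow_add, mul_pow]
    ring
  obtain ⟨N, hN⟩ := ht
  let I : Ideal A := Ideal.span {a, b}
  have haI : a ∈ I := Ideal.subset_span (by simp)
  have hbI : b ∈ I := Ideal.subset_span (by simp)
  let G : ℕ → Ideal B := fun k => (Ideal.span {b} * I ^ (k - 1)).map (algebraMap A B)
  have hmon : ∀ i, i < n → ∀ r : B, r * (algebraMap A B a) ^ i * (algebraMap A B b) ^ (n - i) ∈ G n := fun i hi r => by
    rw [mul_assoc, ← map_pow, ← map_pow, ← map_mul]
    refine Ideal.mul_mem_left _ _ (Ideal.mem_map_of_mem _ ?_)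
    obtain ⟨k, hk⟩ : ∃ k, n = i + (k + 1) := ⟨n - i - 1, by omega⟩
    rw [hk, Nat.add_sub_cancel_left, show i + (k + 1) - 1 = i + k by omega, pow_succ',
      show a ^ i * (b * b ^ k) = b * (a ^ i * b ^ k) by ring, pow_add]
    exact Ideal.mul_mem_mul (Ideal.mem_span_singleton_self b) (Ideal.mul_mem_mul (Ideal.pow_mem_pow haI i) (Ideal.pow_mem_pow hbI k))
  have hu : (algebraMap A B a) ^ n - t ∈ G n := by
    have e : t = (∑ i ∈ Finset.range n, c i * (algebraMap A B a) ^ i * (algebraMap A B b) ^ (n - i)) + (algebraMap A B a) ^ n := by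
      simp [t, Finset.sum_range_succ, hcn]
    rw [e, sub_add_eq_sub_sub_swap, sub_self, zero_sub, neg_mem_iff]
    exact Submodule.sum_mem _ fun i hi => hmon i (Finset.mem_range.1 hi) _
  have ha' : ∀ k, (algebraMap A B a) ^ k ∈ (I ^ k).map (algebraMap A B) := fun k => by
    rw [← map_pow]; exact Ideal.mem_map_of_mem _ (Ideal.pow_mem_pow haI k)
  have hGle : G n ≤ (I ^ n).map (algebraMap A B) := by
    rcases Nat.eq_zero_or_pos n with h0 | h0
    · rw [h0, pow_zero, Ideal.one_eq_top, Ideal.map_top]; exact le_top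
    · refine Ideal.map_mono ?_
      conv_rhs => rw [show n = (n - 1) + 1 by omega, pow_succ']
      exact Ideal.mul_mono_left ((Ideal.span_singleton_le_iff_mem _).2 hbI)
  have ht' : t ∈ (I ^ n).map (algebraMap A B) := by
    have := sub_mem (ha' n) (hGle hu)
    rwa [sub_sub_cancel] at this
  have key : ∀ j : ℕ, 0 < j → ((algebraMap A B a) ^ n) ^ j - t ^ j ∈ G (n * j) := by
    intro j hj
    induction j, hj using Nat.le_induction with
    | base => simpa using hu
    | succ j hj ih =>
      rcases Nat.eq_zero_or_pos n with h0 | h0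
      · have hb1 : ∀ k, G k = (Ideal.span {b} * I ^ (k - 1)).map (algebraMap A B) := fun k => rfl
        have e1 : G n = G (n * (j + 1)) := by simp [hb1, h0]
        have e2 : G (n * j) = G (n * (j + 1)) := by simp [hb1, h0]
        rw [pow_succ ((algebraMap A B a) ^ n) j, pow_succ t j,
          show ((algebraMap A B a) ^ n) ^ j * (algebraMap A B a) ^ n - t ^ j * t =
            (((algebraMap A B a) ^ n) ^ j - t ^ j) * (algebraMap A B a) ^ n + t ^ j * ((algebraMap A B a) ^ n - t) by ring]
        exact add_mem (Ideal.mul_mem_right _ _ (e2 ▸ ih)) (Ideal.mul_mem_left _ _ (e1 ▸ hu))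
      have hj' : 0 < n * j := Nat.mul_pos h0 (by omega)
      have e1 : G (n * (j + 1)) = G (n * j) * (I ^ n).map (algebraMap A B) := by
        show Ideal.map _ _ = Ideal.map _ _ * _
        rw [← Ideal.map_mul, mul_assoc, ← pow_add, show n * j - 1 + n = n * (j + 1) - 1 by rw [Nat.mul_succ]; omega]
      have e2 : G (n * (j + 1)) = G n * (I ^ (n * j)).map (algebraMap A B) := by
        show Ideal.map _ _ = Ideal.map _ _ * _
        rw [← Ideal.map_mul, mul_assoc, ← pow_add, show n - 1 + n * j = n * (j + 1) - 1 by rw [Nat.mul_succ]; omega]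
      rw [pow_succ ((algebraMap A B a) ^ n) j, pow_succ t j,
        show ((algebraMap A B a) ^ n) ^ j * (algebraMap A B a) ^ n - t ^ j * t =
          (((algebraMap A B a) ^ n) ^ j - t ^ j) * (algebraMap A B a) ^ n + t ^ j * ((algebraMap A B a) ^ n - t) by ring]
      refine add_mem (e1 ▸ Ideal.mul_mem_mul ih (ha' n)) (e2 ▸ ?_)
      rw [mul_comm (t ^ j)]
      refine Ideal.mul_mem_mul hu ?_
      rw [pow_mul, Ideal.map_pow]
      exact Ideal.pow_mem_pow ht' j
  have h1 := key (N + 1) (Nat.succ_pos N)
  rw [show t ^ (N + 1) = 0 by rw [pow_succ, hN, zero_mul], sub_zero, ← pow_mul, ← map_pow] at h1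
  set m := n * (N + 1) with hm
  have h2 : a ^ m ∈ Ideal.span {b} * I ^ (m - 1) := by
    have h2 : a ^ m ∈ (G m).comap (algebraMap A B) := h1
    rwa [Ideal.comap_map_eq_self_of_faithfullyFlat] at h2
  obtain ⟨y, hy, hby⟩ := Ideal.mem_span_singleton_mul.1 h2
  have hexp : ∀ k, ∀ y ∈ I ^ k, ∃ Q : A[X], Q.natDegree ≤ k ∧ algebraMap A (FractionRing A) y = (algebraMap A _ b) ^ k * Polynomial.aeval x Q := by
    intro k
    induction k with
    | zero => exact fun y _ => ⟨Polynomial.C y, by simp, by simp⟩
    | succ k ih =>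
      intro y hy
      rw [pow_succ] at hy
      refine Submodule.mul_induction_on hy (fun y hy z hz => ?_) fun y z hy hz => ?_
      · obtain ⟨Q, hQ, hQy⟩ := ih y hy
        obtain ⟨r, s, rfl⟩ := Ideal.mem_span_pair.1 hz
        refine ⟨Q * (Polynomial.C r * Polynomial.X + Polynomial.C s), ?_, ?_⟩
        · exact le_trans Polynomial.natDegree_mul_le (Nat.add_le_add hQ (Polynomial.natDegree_linear_le))
        · have hax : algebraMap A (FractionRing A) a = algebraMap A _ b * x := by
            rw [← hab, mul_div_cancel₀ _ (IsFractionRing.to_map_ne_zero_of_mem_nonZeroDivisors hb)]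
          simp only [map_mul, map_add, Polynomial.aeval_C, Polynomial.aeval_X, hQy, hax]
          ring
      · obtain ⟨Q, hQ, hQy⟩ := hy
        obtain ⟨Q', hQ', hQ'y⟩ := hz
        exact ⟨Q + Q', Polynomial.natDegree_add_le_of_degree_le hQ hQ', by rw [map_add, map_add, hQy, hQ'y, mul_add]⟩
  obtain ⟨Q, hQ, hQy⟩ := hexp (m - 1) y hy
  rcases Nat.eq_zero_or_pos m with hm0 | hm0
  · have hn0 : n = 0 := by
      rcases Nat.mul_eq_zero.1 hm0 with h | h <;> omega
    exfalso
    have hP1 : P = 1 := hPm.natDegree_eq_zero.1 hn0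
    rw [hP1, Polynomial.eval₂_one] at hP
    have hR : Subsingleton R := subsingleton_of_zero_eq_one hP.symm
    have hC : Subsingleton C := (IsFractionRing.injective C R).subsingleton
    exact one_ne_zero (hinj (Subsingleton.elim (α := C) _ _) : (1 : A) = 0)
  refine ⟨Polynomial.X ^ m - Q, Polynomial.monic_X_pow_sub (lt_of_le_of_lt Polynomial.degree_le_natDegree (by exact_mod_cast (show Q.natDegree < m by omega))), ?_⟩
  show Polynomial.aeval x (Polynomial.X ^ m - Q) = 0
  rw [map_sub, map_pow, Polynomial.aeval_X, sub_eq_zero]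
  have hbne : algebraMap A (FractionRing A) b ≠ 0 := IsFractionRing.to_map_ne_zero_of_mem_nonZeroDivisors hb
  apply mul_left_cancel₀ (pow_ne_zero m hbne)
  obtain ⟨l, hl⟩ : ∃ l, m = l + 1 := ⟨m - 1, by omega⟩
  rw [← mul_pow, show algebraMap A (FractionRing A) b * x = algebraMap A (FractionRing A) a by rw [← hab, mul_div_cancel₀ _ hbne], ← map_pow, ← hby, map_mul, hQy, hl, Nat.add_sub_cancel, pow_succ']
  ring

end Groth.Agent.S4590
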