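import Groth.Statements.S4591
import Groth.Agent.H8ProCons.Image

set_option autoImplicit false
universe u
open AlgebraicGeometry
open EGA41

namespace Groth.Agent.S4591

/-- Let X be a quasi-compact scheme, F a pro-constructible subset and (E_i) a family of
ind-constructible subsets covering F. Then some finite subfamily covers F. -/
theorem result (X : Scheme.{u}) [CompactSpace X]
    (F : Set X) (hF : ProCons.IsProConstructible F) {ι : Type u} (E : ι → Set X)
    (hE : ∀ i, ProCons.IsIndConstructible (E i)) (h : F ⊆ ⋃ i, E i) :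
    ∃ J : Finset ι, F ⊆ ⋃ i ∈ J, E i := by
  obtain ⟨J, hJ⟩ := H8ProCons.exists_finite_iInter_subset (E := (∅ : Set X))
    (H8ProCons.isLocallyConstructible_iff_ind_and_pro.mp Topology.IsLocallyConstructible.empty).1
    (fun o : Option ι ↦ o.elim F fun i ↦ (E i)ᶜ)
    (fun o ↦ o.rec hF fun i ↦ H8ProCons.isIndConstructible_iff_compl.mp (hE i))
    (fun z hz ↦ by
      obtain ⟨i, hi⟩ := Set.mem_iUnion.mp (h (Set.mem_iInter.mp hz none))
      exact (Set.mem_iInter.mp hz (some i) hi).elim)
  refine ⟨J.filterMap id (fun a a' b hb hb' ↦ by simp_all), fun z hz ↦ by_contra fun hn ↦ ?_⟩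
  refine Set.notMem_empty z (hJ (Set.mem_iInter₂.mpr fun o ho ↦ ?_))
  cases o with
  | none => exact hz
  | some i =>
    exact fun hi ↦ hn (Set.mem_iUnion₂.mpr ⟨i, (Finset.mem_filterMap _).mpr ⟨_, ho, rfl⟩, hi⟩)

end Groth.Agent.S4591
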