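import Mathlib.CategoryTheory.Limits.ConcreteCategory.Basic
import Mathlib.Algebra.Category.Ring.FilteredColimits
import Groth.Statements.S4592

set_option autoImplicit false
universe u
open CategoryTheory CategoryTheory.Limits
open EGA41

namespace Groth.Agent.S4592

/-- A filtered colimit of commutative rings is the zero ring if and only if some ring of the system is
zero (the clause that all later rings of the system are then zero is not restated). -/
theorem result {I : Type u} [SmallCategory I] [IsFiltered I]
    (D : I ⥤ CommRingCat.{u}) (c : Cocone D) (hc : IsColimit c) :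
    Subsingleton c.pt ↔ ∃ i : I, Subsingleton (D.obj i) := by
  constructor
  · intro h
    obtain ⟨i₀⟩ : Nonempty I := IsFiltered.nonempty
    obtain ⟨k, f, g, hk⟩ := CategoryTheory.Limits.Concrete.isColimit_exists_of_rep_eq D hc
      (1 : D.obj i₀) (0 : D.obj i₀) (@Subsingleton.elim c.pt h _ _)
    refine ⟨k, subsingleton_of_zero_eq_one ?_⟩
    simpa using hk.symm
  · rintro ⟨i, hi⟩
    exact subsingleton_of_zero_eq_one (by
      rw [← map_zero (c.ι.app i).hom, ← map_one (c.ι.app i).hom, Subsingleton.elim (1 : D.obj i) 0])

end Groth.Agent.S4592
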