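import Groth.Statements.S4593

set_option autoImplicit false
universe u
open CategoryTheory CategoryTheory.Limits AlgebraicGeometry
open EGA41

namespace Groth.Agent.S4593

/-- Let B be a ring, (A_i) a filtered system of B-algebras with colimit A. The image of Spec A in Spec B
is the intersection of the images of the Spec A_i. -/
theorem result {I : Type u} [SmallCategory I] [IsFiltered I]
    (B : CommRingCat.{u}) (D : I ⥤ CommRingCat.{u}) (s : (Functor.const I).obj B ⟶ D) (c : Cocone D)
    (hc : IsColimit c) (i₀ : I) :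
    Set.range (Spec.map (s.app i₀ ≫ c.ι.app i₀)).base = ⋂ i : I, Set.range (Spec.map (s.app i)).base := by
  classical
  have hnat : ∀ {i j : I} (f : i ⟶ j), s.app i ≫ D.map f = s.app j := fun f ↦ by
    simpa using (s.naturality f).symm
  have hφ : ∀ i, s.app i ≫ c.ι.app i = s.app i₀ ≫ c.ι.app i₀ := fun i ↦ by
    rw [← c.w (IsFiltered.leftToMax i i₀), ← c.w (IsFiltered.rightToMax i i₀), ← Category.assoc,
      ← Category.assoc, hnat, hnat]
  refine Set.Subset.antisymm ?_ ?_
  · rintro _ ⟨q, rfl⟩
    refine Set.mem_iInter.mpr fun i ↦ ⟨Spec.map (c.ι.app i) q, ?_⟩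
    rw [← Scheme.Hom.comp_apply, ← Spec.map_comp, hφ]
  · intro p hp
    refine (PrimeSpectrum.mem_range_comap_iff (f := (s.app i₀ ≫ c.ι.app i₀).hom) (p := p)).mpr (le_antisymm ?_ Ideal.le_comap_map)
    intro x hx
    have key : ∀ a ∈ p.asIdeal.map (s.app i₀ ≫ c.ι.app i₀).hom,
        ∃ i, ∃ b ∈ p.asIdeal.map (s.app i).hom, (c.ι.app i).hom b = a := by
      intro a ha
      induction ha using Submodule.span_induction with
      | mem a ha =>
        obtain ⟨y, hy, rfl⟩ := ha
        exact ⟨i₀, _, Ideal.mem_map_of_mem _ hy, rfl⟩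
      | zero => exact ⟨i₀, 0, zero_mem _, map_zero _⟩
      | add a a' _ _ iha iha' =>
        obtain ⟨i, b, hb, rfl⟩ := iha
        obtain ⟨i', b', hb', rfl⟩ := iha'
        refine ⟨IsFiltered.max i i', (D.map (IsFiltered.leftToMax i i')).hom b + (D.map (IsFiltered.rightToMax i i')).hom b', ?_, ?_⟩
        · refine add_mem ?_ ?_
          · have := Ideal.mem_map_of_mem (D.map (IsFiltered.leftToMax i i')).hom hb
            rwa [Ideal.map_map, ← CommRingCat.hom_comp, hnat] at this
          · have := Ideal.mem_map_of_mem (D.map (IsFiltered.rightToMax i i')).hom hb'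
            rwa [Ideal.map_map, ← CommRingCat.hom_comp, hnat] at this
        · rw [map_add]
          conv_rhs => rw [← c.w (IsFiltered.leftToMax i i'), ← c.w (IsFiltered.rightToMax i i')]
          rfl
      | smul r a _ iha =>
        obtain ⟨i, b, hb, rfl⟩ := iha
        obtain ⟨k, t, rfl⟩ := Concrete.isColimit_exists_rep D hc r
        refine ⟨IsFiltered.max k i, (D.map (IsFiltered.leftToMax k i)).hom t * (D.map (IsFiltered.rightToMax k i)).hom b, ?_, ?_⟩
        · refine Ideal.mul_mem_left _ _ ?_
          have := Ideal.mem_map_of_mem (D.map (IsFiltered.rightToMax k i)).hom hb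
          rwa [Ideal.map_map, ← CommRingCat.hom_comp, hnat] at this
        · rw [map_mul, smul_eq_mul]
          conv_rhs => rw [← c.w (IsFiltered.leftToMax k i), ← c.w (IsFiltered.rightToMax k i)]
          rfl
    obtain ⟨i, b, hb, hbx⟩ := key _ hx
    have heq : (c.ι.app i).hom b = (c.ι.app i).hom ((s.app i).hom x) := by
      rw [hbx, ← hφ i]; rfl
    obtain ⟨k, f, g, hfg⟩ := Concrete.isColimit_exists_of_rep_eq D hc b ((s.app i).hom x) heq
    have h1 : (D.map f).hom b ∈ p.asIdeal.map (s.app k).hom := by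
      have := Ideal.mem_map_of_mem (D.map f).hom hb
      rwa [Ideal.map_map, ← CommRingCat.hom_comp, hnat] at this
    have h2 : (D.map f).hom b = (s.app k).hom x := by
      refine hfg.trans ?_
      rw [← hnat g]; rfl
    obtain ⟨q, hq⟩ := Set.mem_iInter.mp hp k
    have h3 := (PrimeSpectrum.mem_range_comap_iff (p := p) (f := (s.app k).hom)).mp ⟨q, hq⟩
    rw [h2] at h1
    exact h3.le h1

end Groth.Agent.S4593
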