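import Groth.Statements.S4594
import Mathlib

set_option backward.isDefEq.respectTransparency.types false

set_option autoImplicit false
universe u
open TensorProduct KaehlerDifferential
open EGA41

namespace Groth.Agent.S4594

/-- Let Λ be a ring, A → C a surjection of Λ-algebras with kernel J, C of characteristic p > 0, and π
the class of p·1 in J/J². If C is formally smooth over Λ/pΛ for the discrete topologies, then 0 →
(J/J²)/Cπ → Ω_{A/Λ} ⊗_A C → Ω_{C/Λ} → 0 is exact: the kernel of the conormal map J/J² → Ω_{A/Λ} ⊗_A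
C is the span of π, and the base-change map to Ω_{C/Λ} is surjective with kernel the image of J/J². -/
theorem result {Λ A C : Type u} [CommRing Λ] [CommRing A]
    [CommRing C] [Algebra Λ A] [Algebra A C] [Algebra Λ C] [IsScalarTower Λ A C]
    (hsurj : Function.Surjective (algebraMap A C)) (p : ℕ) [Fact p.Prime] [CharP C p]
    [Algebra (Λ ⧸ Ideal.span {(p : Λ)}) C] [IsScalarTower Λ (Λ ⧸ Ideal.span {(p : Λ)}) C]
    [Algebra.FormallySmooth (Λ ⧸ Ideal.span {(p : Λ)}) C]
    (hp : (p : A) ∈ RingHom.ker (algebraMap A C)) :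
    LinearMap.ker (kerCotangentToTensor Λ A C) =
        Submodule.span A {(RingHom.ker (algebraMap A C)).toCotangent ⟨(p : A), hp⟩} ∧
      LinearMap.range (kerCotangentToTensor Λ A C) = (LinearMap.ker (mapBaseChange Λ A C)).restrictScalars A ∧
      Function.Surjective (mapBaseChange Λ A C) := by
  classical
  refine ⟨le_antisymm (fun z hz => ?_) ?_, KaehlerDifferential.range_kerCotangentToTensor Λ A C hsurj,
    KaehlerDifferential.mapBaseChange_surjective Λ A C hsurj⟩
  swap
  · rw [Submodule.span_le, Set.singleton_subset_iff, SetLike.mem_coe, LinearMap.mem_ker,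
      KaehlerDifferential.kerCotangentToTensor_toCotangent]
    show (1 : C) ⊗ₜ[A] KaehlerDifferential.D Λ A (p : A) = 0
    rw [← map_natCast (algebraMap Λ A) p, Derivation.map_algebraMap, TensorProduct.tmul_zero]
  let J := RingHom.ker (algebraMap A C)
  obtain ⟨x, rfl⟩ := J.toCotangent_surjective z
  rw [LinearMap.mem_ker, KaehlerDifferential.kerCotangentToTensor_toCotangent] at hz
  let S : Ideal A := J ^ 2 ⊔ Ideal.span {(p : A)}
  have hSJ : S ≤ J := sup_le (Ideal.pow_le_self two_ne_zero) ((Ideal.span_singleton_le_iff_mem _).2 hp)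
  let Λ' := Λ ⧸ Ideal.span {(p : Λ)}
  letI : Algebra Λ' (A ⧸ S) := (Ideal.Quotient.lift (Ideal.span {(p : Λ)}) (algebraMap Λ (A ⧸ S)) fun a ha => by
    obtain ⟨c, rfl⟩ := Ideal.mem_span_singleton'.1 ha
    rw [map_mul, map_natCast, ← map_natCast (Ideal.Quotient.mk S),
      Ideal.Quotient.eq_zero_iff_mem.2 (Ideal.mem_sup_right (Ideal.mem_span_singleton_self _)), mul_zero]).toAlgebra
  haveI : IsScalarTower Λ Λ' (A ⧸ S) := IsScalarTower.of_algebraMap_eq fun a => rfl
  let π : (A ⧸ S) →ₐ[Λ'] C :=
    { Ideal.Quotient.lift S (algebraMap A C) (fun a ha => RingHom.mem_ker.1 (hSJ ha)) with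
      commutes' := fun a => by
        obtain ⟨a, rfl⟩ := Ideal.Quotient.mk_surjective a
        show algebraMap A C (algebraMap Λ A a) = algebraMap Λ' C (algebraMap Λ Λ' a)
        rw [← IsScalarTower.algebraMap_apply, ← IsScalarTower.algebraMap_apply] }
  have hπ : Function.Surjective π := fun c => by
    obtain ⟨a, rfl⟩ := hsurj c
    exact ⟨Ideal.Quotient.mk S a, rfl⟩
  have hker : RingHom.ker π.toRingHom = J.map (Ideal.Quotient.mk S) := by
    refine le_antisymm (fun y hy => ?_) (Ideal.map_le_iff_le_comap.2 fun a ha => ha)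
    obtain ⟨a, rfl⟩ := Ideal.Quotient.mk_surjective y
    exact Ideal.mem_map_of_mem _ hy
  let σ : C →ₐ[Λ'] A ⧸ S := Algebra.FormallySmooth.liftOfSurjective (AlgHom.id Λ' C) π hπ ⟨2, by
    show RingHom.ker π.toRingHom ^ 2 = 0
    rw [hker, ← Ideal.map_pow, Ideal.zero_eq_bot, eq_bot_iff, Ideal.map_le_iff_le_comap]
    exact fun a ha => Ideal.Quotient.eq_zero_iff_mem.2 (Ideal.mem_sup_left ha)⟩
  have hσ : ∀ c, π (σ c) = c := Algebra.FormallySmooth.liftOfSurjective_apply _ _ _ _
  have hdiff : ∀ a, Ideal.Quotient.mk S a - σ (algebraMap A C a) ∈ J.map (Ideal.Quotient.mk S) := fun a => by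
    rw [← hker]
    show π (Ideal.Quotient.mk S a - σ (algebraMap A C a)) = 0
    rw [map_sub, hσ]
    exact sub_self _
  have hJJ : ∀ u ∈ J.map (Ideal.Quotient.mk S), ∀ v ∈ J.map (Ideal.Quotient.mk S), u * v = 0 := fun u hu v hv => by
    have h1 := Ideal.mul_mem_mul hu hv
    rw [← Ideal.map_mul, ← sq] at h1
    have h2 : (J ^ 2).map (Ideal.Quotient.mk S) = ⊥ := eq_bot_iff.2 (Ideal.map_le_iff_le_comap.2
      fun a ha => Ideal.Quotient.eq_zero_iff_mem.2 (Ideal.mem_sup_left ha))
    rw [h2] at h1
    exact h1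
  let δ : Derivation Λ A (A ⧸ S) := Derivation.mk'
    { toFun := fun a => Ideal.Quotient.mk S a - σ (algebraMap A C a)
      map_add' := fun a b => by rw [map_add, map_add, map_add]; ring
      map_smul' := fun c a => by
        rw [RingHom.id_apply, Algebra.smul_def c a, map_mul, map_mul, map_mul, ← IsScalarTower.algebraMap_apply Λ A C,
          IsScalarTower.algebraMap_apply Λ Λ' C, AlgHom.commutes, ← IsScalarTower.algebraMap_apply Λ Λ' (A ⧸ S),
          Algebra.smul_def c, show Ideal.Quotient.mk S (algebraMap Λ A c) = algebraMap Λ (A ⧸ S) c from rfl, mul_sub] }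
    fun a b => by
      show Ideal.Quotient.mk S (a * b) - σ (algebraMap A C (a * b)) =
        Ideal.Quotient.mk S a * (Ideal.Quotient.mk S b - σ (algebraMap A C b)) +
          Ideal.Quotient.mk S b * (Ideal.Quotient.mk S a - σ (algebraMap A C a))
      rw [map_mul, map_mul, map_mul]
      linear_combination - hJJ _ (hdiff a) _ (hdiff b)
  have hmem : KaehlerDifferential.D Λ A x ∈ J • (⊤ : Submodule A Ω[A⁄Λ]) := by
    let e : (A ⧸ J) ≃ₗ[A] C := ((Submodule.quotEquivOfEq _ _ (by ext a; rfl)).trans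
      ((Algebra.linearMap A C).quotKerEquivOfSurjective hsurj))
    have h1 : (TensorProduct.quotTensorEquivQuotSMul Ω[A⁄Λ] J)
        ((Submodule.Quotient.mk 1 : A ⧸ J) ⊗ₜ[A] KaehlerDifferential.D Λ A x) = 0 := by
      have h2 : TensorProduct.congr e (LinearEquiv.refl A Ω[A⁄Λ])
          ((Submodule.Quotient.mk 1 : A ⧸ J) ⊗ₜ[A] KaehlerDifferential.D Λ A x) = 0 := by
        rw [TensorProduct.congr_tmul, show e (Submodule.Quotient.mk 1) = (1 : C) from map_one (algebraMap A C),
          LinearEquiv.refl_apply, hz]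
      rw [(TensorProduct.congr e (LinearEquiv.refl A Ω[A⁄Λ])).injective (h2.trans (map_zero _).symm), map_zero]
    erw [TensorProduct.quotTensorEquivQuotSMul_mk_tmul, one_smul, Submodule.Quotient.mk_eq_zero] at h1
    exact h1
  have hrange : ∀ w, δ.liftKaehlerDifferential w ∈ J.map (Ideal.Quotient.mk S) := fun w => by
    have hw : w ∈ Submodule.span A (Set.range (KaehlerDifferential.D Λ A)) := by
      rw [KaehlerDifferential.span_range_derivation]; trivial
    induction hw using Submodule.span_induction with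
    | mem w hw => obtain ⟨a, rfl⟩ := hw; rw [Derivation.liftKaehlerDifferential_comp_D]; exact hdiff a
    | zero => rw [map_zero]; exact zero_mem _
    | add a b _ _ ha hb => rw [map_add]; exact add_mem ha hb
    | smul a b _ hb => rw [map_smul, Algebra.smul_def]; exact Ideal.mul_mem_left _ _ hb
  have hzero : δ.liftKaehlerDifferential (KaehlerDifferential.D Λ A x) = 0 := by
    refine Submodule.smul_induction_on hmem (fun a ha w _ => ?_) fun a b ha hb => by rw [map_add, ha, hb, add_zero]
    rw [map_smul, Algebra.smul_def]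
    exact hJJ _ (Ideal.mem_map_of_mem _ ha) _ (hrange w)
  rw [Derivation.liftKaehlerDifferential_comp_D] at hzero
  have hxS : (x : A) ∈ S := by
    rw [← Ideal.Quotient.eq_zero_iff_mem]
    have h1 : Ideal.Quotient.mk S (x : A) - σ (algebraMap A C x) = 0 := hzero
    rwa [RingHom.mem_ker.1 x.2, map_zero, sub_zero] at h1
  obtain ⟨y, hy, w, hw, hyw⟩ := Submodule.mem_sup.1 hxS
  obtain ⟨c, rfl⟩ := Ideal.mem_span_singleton'.1 hw
  rw [Submodule.mem_span_singleton]
  refine ⟨c, ?_⟩
  rw [← map_smul, Ideal.toCotangent_eq]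
  show c * (p : A) - (x : A) ∈ J ^ 2
  rw [show c * (p : A) - (x : A) = -y by rw [← hyw]; ring]
  exact neg_mem hy

end Groth.Agent.S4594
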