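import Groth.Statements.S4595
import Groth.Agent.EGA41Lib.PPolyCotangent
import Mathlib

set_option backward.isDefEq.respectTransparency.types false

set_option autoImplicit false
universe u
open TensorProduct IsLocalRing
open EGA41

namespace Groth.Agent.S4595

/-- Let A be an Artinian local ring of characteristic p > 0 with maximal ideal m of square zero and
residue field K, f_1, …, f_r ∈ A, and B = A[T_1, …, T_r]/(T_1^p − f_1, …, T_r^p − f_r). Then B is
local, and dim_K m = dim_{K'}(m'/m'²) (m', K' the maximal ideal and residue field of B) if and only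
if the d f_i ⊗ 1 are linearly independent in Ω_A ⊗_A K. -/
theorem result {A : Type u} [CommRing A]
    [IsArtinianRing A] [IsLocalRing A] (hm : maximalIdeal A ^ 2 = ⊥) (p : ℕ) [Fact p.Prime] [CharP A p]
    {r : ℕ} (f : Fin r → A) :
    let B := MvPolynomial (Fin r) A ⧸ Ideal.span (Set.range fun i => MvPolynomial.X i ^ p - MvPolynomial.C (f i))
    ∃ _ : IsLocalRing B,
      (Module.finrank (ResidueField A) (CotangentSpace A) = Module.finrank (ResidueField B) (CotangentSpace B) ↔
        LinearIndependent (ResidueField A) (fun i => (1 : ResidueField A) ⊗ₜ[A] KaehlerDifferential.D ℤ A (f i))) := by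
  classical
  intro B
  haveI : CharP (ResidueField A) p :=
    (CharP.charP_iff_prime_eq_zero Fact.out).2 (by rw [← map_natCast (residue A), CharP.cast_eq_zero A p, map_zero])
  have hp : (p : A) ∈ maximalIdeal A ^ 2 := by rw [CharP.cast_eq_zero A p]; exact zero_mem _
  obtain ⟨hloc, hiff⟩ := EGA41Lib.PPoly.main p hp (fun (_ : Fin r) (_ : Fin p) => (0 : A)) f
  have heq : EGA41Lib.SepQuot.rel (fun i => EGA41Lib.PPoly.poly p (fun _ => (0 : A)) (f i)) =
      Ideal.span (Set.range fun i => MvPolynomial.X i ^ p - MvPolynomial.C (f i)) := by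
    rw [EGA41Lib.PPoly.rel_poly]
    congr 2
    funext i
    simp
  unfold EGA41Lib.SepQuot.Alg at hloc hiff
  revert hloc hiff
  rw [heq]
  intro hloc hiff
  exact ⟨hloc, hiff⟩

end Groth.Agent.S4595
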