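import Groth.Statements.S4596

set_option autoImplicit false
universe u
open AlgebraicGeometry CategoryTheory
open EGA41

namespace Groth.Agent.S4596

/-- If g ∘ f is quasi-compact and f is surjective then g is quasi-compact. -/
theorem result {X Y Z : Scheme.{u}} (f : X ⟶ Y) (g : Y ⟶ Z)
    [QuasiCompact (f ≫ g)] [Surjective f] : QuasiCompact g := by
  constructor
  intro U hU hUc
  rw [← Set.image_preimage_eq (g ⁻¹' U) f.surjective]
  refine IsCompact.image ?_ f.continuous
  exact QuasiCompact.isCompact_preimage (f := f ≫ g) U hU hUc

end Groth.Agent.S4596
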