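import Groth.Statements.S4598
import Groth.Agent.S4597
import Groth.Agent.H8Lim.DescentMore

set_option autoImplicit false
universe u
open AlgebraicGeometry CategoryTheory CategoryTheory.Limits
open EGA41

namespace Groth.Agent.S4598

/-- If g : Y' → Y is quasi-compact and surjective and the base change X ×_Y Y' → Y' of f : X → Y is
quasi-separated, then f is quasi-separated. -/
theorem result {X Y Y' : Scheme.{u}} (f : X ⟶ Y)
    (g : Y' ⟶ Y) [QuasiCompact g] [Surjective g] [QuasiSeparated (pullback.snd f g)] :
    QuasiSeparated f := by
  constructor
  have h := IsPullback.of_hasPullback f g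
  have hd := H8Lim.isPullback_diagonal h
  have hs := H8Lim.isPullback_squareMap h
  have : Surjective (H8Lim.squareMap h) := MorphismProperty.of_isPullback hs.flip ‹Surjective g›
  have : QuasiCompact (H8Lim.squareMap h) := MorphismProperty.of_isPullback hs.flip ‹QuasiCompact g›
  refine (S4597.result (pullback.diagonal f) (H8Lim.squareMap h)).1 inferInstance ?_
  rw [← hd.isoPullback_inv_snd]
  infer_instance

end Groth.Agent.S4598
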