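import Groth.Statements.S4600
import Mathlib

set_option autoImplicit false
universe u
open CategoryTheory CategoryTheory.Limits TensorProduct
open EGA41

namespace Groth.Agent.S4600

/-- Let (A_i) be a filtered system of rings with colimit A and B a finitely presented A-algebra. Then
some stage A_i carries a finitely presented algebra B_i with B isomorphic to A ⊗_{A_i} B_i as
A-algebras (existence of an isomorphism; the base change is along the colimit map A_i → A). -/
theorem result {I : Type u} [SmallCategory I] [IsFiltered I]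
    (D : I ⥤ CommRingCat.{u}) (c : Cocone D) (hc : IsColimit c) (B : Type u) [CommRing B] [Algebra c.pt B]
    [Algebra.FinitePresentation c.pt B] :
    ∃ (i : I) (Bi : Type u) (_ : CommRing Bi) (_ : Algebra (D.obj i) Bi),
      Algebra.FinitePresentation (D.obj i) Bi ∧
      (letI : Algebra (D.obj i) c.pt := (c.ι.app i).hom.toAlgebra
       Nonempty (B ≃ₐ[c.pt] (c.pt ⊗[D.obj i] Bi))) := by
  classical
  let P := Algebra.Presentation.ofFinitePresentation c.pt B
  have hfin : P.coeffs.Finite := P.finite_coeffs
  have : ∀ x : c.pt, ∃ (i : I) (y : D.obj i), (c.ι.app i).hom y = x := fun x ↦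
    Concrete.isColimit_exists_rep D hc x
  choose k y hy using this
  obtain ⟨i, hi⟩ := IsFiltered.sup_objs_exists (hfin.toFinset.image k)
  letI : Algebra (D.obj i) c.pt := (c.ι.app i).hom.toAlgebra
  letI : Algebra (D.obj i) B := ((algebraMap c.pt B).comp (c.ι.app i).hom).toAlgebra
  haveI : IsScalarTower (D.obj i) c.pt B := IsScalarTower.of_algebraMap_eq' rfl
  haveI : P.HasCoeffs (D.obj i) := ⟨fun x hx ↦ by
    obtain ⟨f⟩ := hi (Finset.mem_image.mpr ⟨x, hfin.mem_toFinset.mpr hx, rfl⟩)
    refine ⟨(D.map f).hom (y x), ?_⟩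
    conv_rhs => rw [← hy x, ← c.w f]
    rfl⟩
  exact ⟨i, P.ModelOfHasCoeffs (D.obj i), inferInstance, inferInstance, inferInstance,
    ⟨(P.tensorModelOfHasCoeffsEquiv (D.obj i)).symm⟩⟩

end Groth.Agent.S4600
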