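import Groth.Statements.S4601
import Mathlib
-- import your own Groth.Agent.* helpers here

set_option autoImplicit false
universe u
open TensorProduct
open CAlg

namespace Groth.Agent.S4601

/-- Let A be a domain with fraction field K, B a Noetherian A-algebra which is flat over A, K' an
extension field of K, B₁ = B_red and R its total ring of fractions. For every sub-A-algebra A' of
K', the map (A' ⊗_A B)_red → (K' ⊗_A R)_red is injective, i.e. an element of A' ⊗_A B with nilpotent
image in K' ⊗_A R is nilpotent. -/
theorem result {A B K' R : Type u} [CommRing A]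
    [IsDomain A] [CommRing B] [Algebra A B] [IsNoetherianRing B] [Module.Flat A B]
    [Field K'] [Algebra A K'] [Algebra (FractionRing A) K'] [IsScalarTower A (FractionRing A) K']
    [CommRing R] [Algebra (B ⧸ nilradical B) R] [IsFractionRing (B ⧸ nilradical B) R]
    [Algebra B R] [IsScalarTower B (B ⧸ nilradical B) R] [Algebra A R] [IsScalarTower A B R]
    (A' : Subalgebra A K') (x : ↥A' ⊗[A] B)
    (hx : IsNilpotent (Algebra.TensorProduct.map A'.val (IsScalarTower.toAlgHom A B R) x)) :
    IsNilpotent x := by
  classical
  obtain ⟨n, hn⟩ := hx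
  rw [← map_pow] at hn
  set y : K' ⊗[A] B := Algebra.TensorProduct.map A'.val (AlgHom.id A B) (x ^ n) with hy
  haveI : Module.Flat A K' := Module.Flat.trans A (FractionRing A) K'
  have hsplit : Algebra.TensorProduct.map (AlgHom.id A K') (IsScalarTower.toAlgHom A B R) y = 0 := by
    rw [hy, ← AlgHom.comp_apply, ← Algebra.TensorProduct.map_comp]
    exact hn
  haveI : IsScalarTower A (B ⧸ nilradical B) R := IsScalarTower.of_algebraMap_eq fun a => by
    rw [IsScalarTower.algebraMap_apply A B R, IsScalarTower.algebraMap_apply B (B ⧸ nilradical B) R]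
    rfl
  have hinj : Function.Injective (algebraMap (B ⧸ nilradical B) R) := IsFractionRing.injective _ _
  have h1 : Algebra.TensorProduct.map (AlgHom.id A K') (Ideal.Quotient.mkₐ A (nilradical B)) y = 0 := by
    have hi : Function.Injective (LinearMap.lTensor K' (IsScalarTower.toAlgHom A (B ⧸ nilradical B) R).toLinearMap) :=
      Module.Flat.lTensor_preserves_injective_linearMap _ hinj
    apply hi
    rw [map_zero]
    have : (Algebra.TensorProduct.map (AlgHom.id A K') (IsScalarTower.toAlgHom A (B ⧸ nilradical B) R)).comp
        (Algebra.TensorProduct.map (AlgHom.id A K') (Ideal.Quotient.mkₐ A (nilradical B))) =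
        Algebra.TensorProduct.map (AlgHom.id A K') (IsScalarTower.toAlgHom A B R) := by
      rw [← Algebra.TensorProduct.map_comp]
      congr 1
      refine AlgHom.ext fun b => ?_
      exact (IsScalarTower.algebraMap_apply B (B ⧸ nilradical B) R b).symm
    have h := congrArg (fun φ : K' ⊗[A] B →ₐ[A] K' ⊗[A] R => φ y) this
    simp only [AlgHom.comp_apply] at h
    rw [hsplit] at h
    exact h
  have h2 : y ∈ RingHom.ker (Algebra.TensorProduct.map (AlgHom.id A K') (Ideal.Quotient.mkₐ A (nilradical B))) :=
    RingHom.mem_ker.2 h1
  rw [Algebra.TensorProduct.lTensor_ker _ (Ideal.Quotient.mkₐ_surjective A _)] at h2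
  have h3 : IsNilpotent y := by
    rw [← mem_nilradical]
    refine Ideal.map_le_iff_le_comap.2 ?_ h2
    intro b hb
    rw [← RingHom.ker_coe_toRingHom, Ideal.Quotient.mkₐ_ker] at hb
    rw [Ideal.mem_comap, mem_nilradical]
    exact (mem_nilradical.1 hb).map _
  have hi2 : Function.Injective (Algebra.TensorProduct.map A'.val (AlgHom.id A B)) :=
    Module.Flat.rTensor_preserves_injective_linearMap (M := B) A'.val.toLinearMap Subtype.val_injective
  obtain ⟨k, hk⟩ := h3
  refine ⟨n * k, hi2 ?_⟩
  rw [map_zero, pow_mul, map_pow]
  exact hk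

end Groth.Agent.S4601
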