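import Groth.Statements.S4602
import Groth.Agent.EGA41Lib.FormalFibreSmooth
import Groth.Agent.AdicRing.ComplHom
import Mathlib

set_option backward.isDefEq.respectTransparency.types false

set_option autoImplicit false
universe u
open IsLocalRing
open EGA41

namespace Groth.Agent.S4602

/-- Let A be a regular local ring with fraction field of characteristic zero, B a domain containing A
and module-finite over it, with fraction field L, n a prime of B, C = B_n, q a prime of the
completion Ĉ with q ∩ C = 0. Then Ĉ_q is formally smooth over L for the adic topology of its maximal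
ideal. (Case (ii) of the published statement, in characteristic p with a suitable filtered family of
subrings, is not stated.) -/
theorem result
    {A B : Type u} [CommRing A] [IsRegularLocalRing A] [CharZero A] [CommRing B] [IsDomain B] [Algebra A B]
    [Module.Finite A B] (hinj : Function.Injective (algebraMap A B)) (n : Ideal B) [n.IsPrime]
    (q : Ideal (AdicCompletion (maximalIdeal (Localization.AtPrime n)) (Localization.AtPrime n))) [q.IsPrime]
    (hq : q.comap (algebraMap (Localization.AtPrime n)
      (AdicCompletion (maximalIdeal (Localization.AtPrime n)) (Localization.AtPrime n))) = ⊥)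
    [Algebra B (Localization.AtPrime q)]
    [IsScalarTower B (AdicCompletion (maximalIdeal (Localization.AtPrime n)) (Localization.AtPrime n))
      (Localization.AtPrime q)]
    [Algebra (FractionRing B) (Localization.AtPrime q)] [IsScalarTower B (FractionRing B) (Localization.AtPrime q)] :
    CAlgX.IsAdicFormallySmooth (FractionRing B) (Localization.AtPrime q) (maximalIdeal (Localization.AtPrime q)) := by
  let B₁ := Localization.AtPrime n

  haveI : IsDomain A := Groth.Agent.CAlgH3.isDomain_of_isRegularLocalRing A
  haveI : IsRegularRing A := Groth.Agent.CAlgH3.isRegularRing_of_isRegularLocalRing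
  haveI : FaithfulSMul A B := (faithfulSMul_iff_algebraMap_injective A B).mpr hinj
  haveI : IsNoetherianRing B := Algebra.FiniteType.isNoetherianRing A B
  haveI : IsNoetherianRing B₁ := IsLocalization.isNoetherianRing n.primeCompl _ inferInstance
  haveI : IsDomain B₁ := IsLocalization.isDomain_localization n.primeCompl_le_nonZeroDivisors
  haveI : IsNoetherianRing (AdicCompletion (maximalIdeal B₁) B₁) :=
    Groth.Agent.AdicRing.isNoetherianRing_completion _ (IsNoetherian.noetherian _)
  refine Groth.Agent.EGA41Lib.adicSmooth_of_generic_fibre B₁ (AdicCompletion (maximalIdeal B₁) B₁) (FractionRing B) q hq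
    (fun r => ?_) (Groth.Agent.CAlgH.formalFibre_bot_finite A B n
      (Groth.Agent.CAlgH.formalFibre_bot_regular A (Or.inl inferInstance) _))
  refine RingHom.congr_fun (f := (algebraMap (FractionRing B) (Localization.AtPrime q)).comp (algebraMap B₁ (FractionRing B)))
    (g := (algebraMap (AdicCompletion (maximalIdeal B₁) B₁) (Localization.AtPrime q)).comp (algebraMap B₁ (AdicCompletion (maximalIdeal B₁) B₁))) ?_ r
  refine IsLocalization.ringHom_ext n.primeCompl (RingHom.ext fun a => ?_)
  simp only [RingHom.comp_apply]
  rw [← IsScalarTower.algebraMap_apply B B₁ (FractionRing B),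
    ← IsScalarTower.algebraMap_apply B B₁ (AdicCompletion (maximalIdeal B₁) B₁)]
  simp only [Algebra.algebraMap_eq_smul_one]
  exact (smul_one_smul (FractionRing B) a (1 : Localization.AtPrime q)).trans
    (smul_one_smul (AdicCompletion (maximalIdeal B₁) B₁) a (1 : Localization.AtPrime q)).symm

end Groth.Agent.S4602
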