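import Groth.Statements.S4603
import Groth.Agent.H8ProCons.Image
import Groth.Agent.H8ProCons.MaxPoint

set_option autoImplicit false
universe u
open AlgebraicGeometry CategoryTheory
open EGA41

namespace Groth.Agent.S4603

/-- Let f : X → Y be quasi-compact. The following are equivalent: f is dominant; the fibre of f over
every maximal point of Y (a point with no proper generization, i.e. the generic point of an
irreducible component) is nonempty; every maximal point of Y is the image of a maximal point of X. -/
theorem result {X Y : Scheme.{u}} (f : X ⟶ Y) [QuasiCompact f] :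
    [IsDominant f,
     ∀ y : Y, (∀ y' : Y, y' ⤳ y → y' = y) → y ∈ Set.range f.base,
     ∀ y : Y, (∀ y' : Y, y' ⤳ y → y' = y) → ∃ x : X, (∀ x' : X, x' ⤳ x → x' = x) ∧ f.base x = y].TFAE := by
  open H8ProCons in
  tfae_have 1 → 2 := fun h y hy ↦ by
    obtain ⟨_, ⟨W, hW, rfl⟩, hyW, -⟩ :=
      Y.isBasis_affineOpens.exists_subset_of_mem_open (Set.mem_univ y) isOpen_univ
    have := quasiSeparatedSpace_of_isAffineOpen hW
    have := compactSpace_opens hW.isCompact
    have hp := isProConstructible_image f
      (isLocallyConstructible_iff_ind_and_pro.mp Topology.IsLocallyConstructible.univ).2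
    rw [Set.image_univ] at hp
    have hyc : (⟨y, hyW⟩ : ↥(W : Set Y)) ∈ closure (Subtype.val ⁻¹' Set.range f) :=
      (W.2.isOpenEmbedding_subtypeVal.isOpenMap.preimage_closure_eq_closure_preimage
        continuous_subtype_val _).le (h.denseRange y)
    obtain ⟨z, hz, hzy⟩ := exists_specializes_of_mem_closure
      (isClosed_cons_of_isProConstructible hp hW) hyc
    rw [← hy z.1 (hzy.map continuous_subtype_val)]
    exact hz
  tfae_have 2 → 3 := fun h y hy ↦ by
    obtain ⟨x, rfl⟩ := h y hy
    obtain ⟨x', hx', hmax⟩ := H8ProCons.exists_maximal_specializes x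
    exact ⟨x', hmax, hy _ (hx'.map f.continuous)⟩
  tfae_have 3 → 1 := fun h ↦ ⟨fun y ↦ by
    obtain ⟨y', hy', hmax⟩ := H8ProCons.exists_maximal_specializes y
    obtain ⟨x, -, hx⟩ := h y' hmax
    exact hy'.mem_closed isClosed_closure (subset_closure ⟨x, hx⟩)⟩
  tfae_finish

end Groth.Agent.S4603
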