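import Groth.Statements.S4604
import Groth.Agent.EGA41Lib.EisensteinQuotient
import Mathlib

set_option backward.isDefEq.respectTransparency.types false

set_option autoImplicit false
universe u
open IsLocalRing
open EGA41

namespace Groth.Agent.S4604

/-- (i) and the kernel statement of (ii): let A be a local ring with maximal ideal m of square zero,
F_i(T_i) = T_i^{d_i} + Σ_{k<d_i} c_{ik} T_i^k (1 ≤ i ≤ r) monic of degrees d_i ≥ 2 with non-leading
coefficients in m, and A' = A[T_1, …, T_r]/(F_1, …, F_r). Then A' is local with residue field K, and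
the kernel of m → m'/m'² (m' the maximal ideal of A') is the ideal generated by the constant terms
c_{i0}. -/
theorem result {A : Type u} [CommRing A] [IsLocalRing A]
    (hm : maximalIdeal A ^ 2 = ⊥) {r : ℕ} (d : Fin r → ℕ) (hd : ∀ i, 2 ≤ d i) (c : Fin r → ℕ → A)
    (hc : ∀ i k, c i k ∈ maximalIdeal A) :
    let F : Fin r → MvPolynomial (Fin r) A := fun i =>
      MvPolynomial.X i ^ d i + (Finset.range (d i)).sum fun k => MvPolynomial.C (c i k) * MvPolynomial.X i ^ k
    ∃ _ : IsLocalRing (MvPolynomial (Fin r) A ⧸ Ideal.span (Set.range F)),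
      Function.Surjective ((Ideal.Quotient.mk (maximalIdeal (MvPolynomial (Fin r) A ⧸ Ideal.span (Set.range F)))).comp
        (algebraMap A (MvPolynomial (Fin r) A ⧸ Ideal.span (Set.range F)))) ∧
      maximalIdeal A ⊓ Ideal.comap (algebraMap A (MvPolynomial (Fin r) A ⧸ Ideal.span (Set.range F)))
          (maximalIdeal (MvPolynomial (Fin r) A ⧸ Ideal.span (Set.range F)) ^ 2) =
        Ideal.span (Set.range fun i => c i 0) := by
  classical
  intro F
  open scoped EGA41Lib.EisCot in
  haveI := EGA41Lib.EisCot.isLocalRing_cut (fun i => (EGA41Lib.EisCot.poly (d i) (c i)).coeff 0)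
    (fun i => by rw [EGA41Lib.EisCot.poly_coeff _ _ _ (by have := hd i; omega)]; exact hc i 0)
  obtain ⟨hloc, hdata⟩ := EGA41Lib.EisCot.exists_data (fun i => EGA41Lib.EisCot.poly (d i) (c i))
    (fun i => EGA41Lib.EisCot.poly_monic _ _) (fun i => by rw [EGA41Lib.EisCot.poly_natDegree]; exact hd i)
    (fun i k hk => by
      rw [EGA41Lib.EisCot.poly_natDegree] at hk
      rw [EGA41Lib.EisCot.poly_coeff _ _ _ hk]; exact hc i k)
  have hsurj : Function.Surjective ((residue _).comp (algebraMap A (EGA41Lib.SepQuot.Alg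
    fun i => EGA41Lib.EisCot.poly (d i) (c i)))) := hdata.residue_surjective
  have hcomap := hdata.comap_sq
  have hcut : EGA41Lib.EisCot.cutIdeal (fun i => (EGA41Lib.EisCot.poly (d i) (c i)).coeff 0) =
      Ideal.span (Set.range fun i => c i 0) := by
    rw [EGA41Lib.EisCot.cutIdeal, hm, bot_sup_eq,
      funext fun i => EGA41Lib.EisCot.poly_coeff (d i) (c i) 0 (by have := hd i; omega)]
  rw [hcut] at hcomap
  unfold EGA41Lib.SepQuot.Alg at hloc hsurj hcomap
  have heq := EGA41Lib.EisCot.rel_poly d c
  clear hdata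
  revert hloc hsurj hcomap
  rw [heq]
  intro hloc hsurj hcomap
  exact ⟨hloc, hsurj, hcomap⟩

end Groth.Agent.S4604
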