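import Groth.Statements.S4605
import Groth.Agent.EGA41Lib.PPolyQuotient
import Mathlib

set_option backward.isDefEq.respectTransparency.types false

set_option autoImplicit false
universe u
open IsLocalRing
open EGA41

namespace Groth.Agent.S4605

/-- Let A be a local ring with maximal ideal m of square zero and residue field K of characteristic p >
0, F_i(T_i) = T_i^p + p Σ_{k=1}^{p-1} c_{ik} T_i^{p-k} − f_i (i in a finite index set) with c_{ik},
f_i ∈ A, and suppose the residues of the f_i in K are p-independent over K^p. Then A' = A[T_i]/(F_i)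
is local with maximal ideal m A'. (The identification of the residue field with K(a_i^{1/p}) is not
restated.) -/
theorem result {A : Type u} [CommRing A]
    [IsLocalRing A] (hm : maximalIdeal A ^ 2 = ⊥) (p : ℕ) [Fact p.Prime] [CharP (ResidueField A) p]
    {ι : Type u} [Finite ι] (c : ι → Fin p → A) (f : ι → A)
    (hind : LinearIndependent (↥(frobenius (ResidueField A) p).fieldRange)
      (fun e : {e : ι →₀ ℕ // ∀ i, e i < p} => EGA41.pMonomial (fun i => residue A (f i)) e.1)) :
    let F : ι → MvPolynomial ι A := fun i =>
      MvPolynomial.X i ^ p + (p : MvPolynomial ι A) * (Finset.univ.sum fun j : Fin p =>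
        if (j : ℕ) = 0 then 0 else MvPolynomial.C (c i j) * MvPolynomial.X i ^ (p - (j : ℕ))) - MvPolynomial.C (f i)
    ∃ _ : IsLocalRing (MvPolynomial ι A ⧸ Ideal.span (Set.range F)),
      maximalIdeal (MvPolynomial ι A ⧸ Ideal.span (Set.range F)) =
        (maximalIdeal A).map (algebraMap A (MvPolynomial ι A ⧸ Ideal.span (Set.range F))) := by
  classical
  haveI := Fintype.ofFinite ι
  intro F
  have hI : EGA41Lib.PPoly.Indep p fun i => residue A (f i) := fun r hr => by
    let em : (ι → Fin p) → {e : ι →₀ ℕ // ∀ i, e i < p} := fun e =>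
      ⟨Finsupp.equivFunOnFinite.symm fun i => (e i : ℕ), fun i => (e i).2⟩
    have hem : Function.Injective em := fun e e' h => funext fun i =>
      Fin.ext (DFunLike.congr_fun (congrArg Subtype.val h) i)
    have hli := Fintype.linearIndependent_iff.1 (hind.comp em hem)
      (fun e => (⟨r e ^ p, r e, rfl⟩ : (frobenius (ResidueField A) p).fieldRange)) (by
        refine Eq.trans (Finset.sum_congr rfl fun e _ => ?_) hr
        show r e ^ p * EGA41.pMonomial _ _ = _
        rw [EGA41.pMonomial, Finsupp.prod_fintype _ _ (fun i => pow_zero _)]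
        rfl)
    funext e
    exact (pow_eq_zero_iff (Fact.out : p.Prime).ne_zero).1 (congrArg Subtype.val (hli e))
  obtain ⟨hloc, hmax⟩ := EGA41Lib.PPoly.isLocalRing_of_indep p c f hI
  have heq := EGA41Lib.PPoly.rel_poly p c f
  unfold EGA41Lib.SepQuot.Alg at hloc hmax
  revert hloc hmax
  rw [heq]
  intro hloc hmax
  exact ⟨hloc, hmax _ (maximalIdeal.isMaximal _)⟩

end Groth.Agent.S4605
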