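import Groth.Statements.S4606
import Groth.Agent.EGA41Lib.SmoothQuotientAdic
import Mathlib

set_option backward.isDefEq.respectTransparency.types false

set_option autoImplicit false
universe u
open TensorProduct KaehlerDifferential IsLocalRing
open EGA41

namespace Groth.Agent.S4606

/-- Let B be a Noetherian A-algebra formally smooth for the discrete topologies, B → C a surjection with
kernel J, p a prime of C and q its contraction to A. Then C_p is formally smooth over A_q (A_q
discrete, C_p with the adic topology of its maximal ideal) if and only if κ(p) ⊗ J/J² → κ(p) ⊗ (C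
⊗_B Ω_{B/A}) is injective. (The equivalent variant with the q-adic topology on A_q is not stated.) -/
theorem result {A B C : Type u} [CommRing A]
    [CommRing B] [CommRing C] [Algebra A B] [Algebra B C] [Algebra A C] [IsScalarTower A B C] [IsNoetherianRing B]
    [Algebra.FormallySmooth A B] (hsurj : Function.Surjective (algebraMap B C)) (p : Ideal C) [p.IsPrime]
    [Algebra (Localization.AtPrime (p.comap (algebraMap A C))) (Localization.AtPrime p)]
    [IsScalarTower A (Localization.AtPrime (p.comap (algebraMap A C))) (Localization.AtPrime p)] :
    CAlgX.IsAdicFormallySmooth (Localization.AtPrime (p.comap (algebraMap A C))) (Localization.AtPrime p)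
        (maximalIdeal (Localization.AtPrime p)) ↔
      Function.Injective ((kerCotangentToTensor A B C).lTensor p.ResidueField) := by
  haveI : Module.Finite B (RingHom.ker (algebraMap B C)).Cotangent :=
    Module.Finite.of_surjective (RingHom.ker (algebraMap B C)).toCotangent (Ideal.toCotangent_surjective _)
  constructor
  · intro h
    haveI : Algebra.FormallySmooth A (Localization.AtPrime (p.comap (algebraMap A C))) :=
      Algebra.FormallySmooth.of_isLocalization (p.comap (algebraMap A C)).primeCompl
    exact Groth.Agent.EGA41Lib.SQL.injective_of_adicSmooth hsurj p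
      (Groth.Agent.CAlgH.AdicSmooth.trans (𝔫 := (⊥ : Ideal (Localization.AtPrime (p.comap (algebraMap A C)))))
        (by rw [Ideal.map_bot]; exact bot_le) Groth.Agent.CAlgH.AdicSmooth.of_formallySmooth h)
  · intro h
    obtain ⟨b, hb, hgood⟩ := Groth.Agent.EGA41Lib.SQL.exists_good_of_injective hsurj p h
    haveI : Algebra.FormallySmooth A (Localization.AtPrime p) :=
      Groth.Agent.EGA41Lib.SQL.formallySmooth_of_good hsurj p.primeCompl (Localization.AtPrime p) b hb hgood
    exact Groth.Agent.CAlgH.AdicSmooth.of_isLocalization_base (p.comap (algebraMap A C)).primeCompl _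
      Groth.Agent.CAlgH.AdicSmooth.of_formallySmooth

end Groth.Agent.S4606
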