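import Groth.Statements.S4607
import Mathlib

set_option autoImplicit false
universe u
open TensorProduct
open AlgebraicGeometry CategoryTheory CategoryTheory.Limits
open EGA41

namespace Groth.Agent.S4607

/-- First assertion, case of two factors: for A-algebras A' and A'' the image of Spec(A' ⊗_A A'') in
Spec A is the intersection of the images of Spec A' and Spec A''. -/
theorem result {A A' A'' : Type u} [CommRing A] [CommRing A'] [CommRing A'']
    [Algebra A A'] [Algebra A A''] :
    Set.range (PrimeSpectrum.comap (algebraMap A (A' ⊗[A] A''))) =
      Set.range (PrimeSpectrum.comap (algebraMap A A')) ∩ Set.range (PrimeSpectrum.comap (algebraMap A A'')) := by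
  let f := Spec.map (CommRingCat.ofHom (algebraMap A A'))
  let g := Spec.map (CommRingCat.ofHom (algebraMap A A''))
  have h : Spec.map (CommRingCat.ofHom (algebraMap A (A' ⊗[A] A''))) =
      (pullbackSpecIso A A' A'').inv ≫ pullback.fst f g ≫ f := by
    rw [pullbackSpecIso_inv_fst_assoc]
    rw [← Spec.map_comp, ← CommRingCat.ofHom_comp]
  have := Scheme.Pullback.range_fst_comp f g
  refine Eq.trans ?_ this
  have key : Set.range ((pullback.fst f g ≫ f) : _ ⟶ _) = Set.range (Spec.map (CommRingCat.ofHom (algebraMap A (A' ⊗[A] A'')))) := by
    rw [h]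
    exact ((pullbackSpecIso A A' A'').inv.surjective.range_comp _).symm
  exact key.symm

end Groth.Agent.S4607
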