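import Groth.Statements.S4608

set_option autoImplicit false
universe u
open AlgebraicGeometry CategoryTheory CategoryTheory.Limits
open EGA41

namespace Groth.Agent.S4608

/-- A morphism from a disjoint union X' ⨿ X'' → Y is quasi-compact if and only if its two components
are. -/
theorem result {X' X'' Y : Scheme.{u}} (f' : X' ⟶ Y) (f'' : X'' ⟶ Y) :
    QuasiCompact (coprod.desc f' f'') ↔ QuasiCompact f' ∧ QuasiCompact f'' := by
  have hl : Topology.IsClosedEmbedding (coprod.inl : X' ⟶ X' ⨿ X'') :=
    ⟨Scheme.Hom.isOpenEmbedding _ |>.isEmbedding, by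
      have h := (isCompl_range_inl_inr X' X'').compl_eq
      rw [← isOpen_compl_iff, h]; exact (Scheme.Hom.isOpenEmbedding _).isOpen_range⟩
  have hr : Topology.IsClosedEmbedding (coprod.inr : X'' ⟶ X' ⨿ X'') :=
    ⟨Scheme.Hom.isOpenEmbedding _ |>.isEmbedding, by
      have h := (isCompl_range_inl_inr X' X'').symm.compl_eq
      rw [← isOpen_compl_iff, h]; exact (Scheme.Hom.isOpenEmbedding _).isOpen_range⟩
  have hl' : ∀ x, coprod.desc f' f'' ((coprod.inl : X' ⟶ X' ⨿ X'') x) = f' x := fun x ↦ by
    rw [← Scheme.Hom.comp_apply, coprod.inl_desc]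
  have hr' : ∀ x, coprod.desc f' f'' ((coprod.inr : X'' ⟶ X' ⨿ X'') x) = f'' x := fun x ↦ by
    rw [← Scheme.Hom.comp_apply, coprod.inr_desc]
  constructor
  · intro h
    refine ⟨(quasiCompact_iff_forall_isAffineOpen ..).mpr fun U hU ↦ ?_,
      (quasiCompact_iff_forall_isAffineOpen ..).mpr fun U hU ↦ ?_⟩
    · have := hl.isCompact_preimage ((coprod.desc f' f'').isCompact_preimage (U := U) hU.isCompact)
      convert this using 1
      ext x; simp [hl']
    · have := hr.isCompact_preimage ((coprod.desc f' f'').isCompact_preimage (U := U) hU.isCompact)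
      convert this using 1
      ext x; simp [hr']
  · rintro ⟨h₁, h₂⟩
    refine (quasiCompact_iff_forall_isAffineOpen ..).mpr fun U hU ↦ ?_
    have := ((f'.isCompact_preimage (U := U) hU.isCompact).image hl.continuous).union
      ((f''.isCompact_preimage (U := U) hU.isCompact).image hr.continuous)
    convert this using 1
    ext x
    obtain ⟨(x | x), rfl⟩ := (coprodMk X' X'').surjective x <;>
      simp [coprodMk_inl, coprodMk_inr, hl', hr', hl.injective.eq_iff, hr.injective.eq_iff, inl_ne_inr, inr_ne_inl]

end Groth.Agent.S4608
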