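import Groth.Statements.S4609
import Mathlib

set_option autoImplicit false
set_option backward.isDefEq.respectTransparency.types false
universe u
open AlgebraicGeometry CategoryTheory CategoryTheory.Limits
open EGA41

namespace Groth.Agent.S4609

/-- A morphism from a disjoint union X' ⨿ X'' → Y is quasi-separated if and only if its two components
are. -/
theorem result {X' X'' Y : Scheme.{u}} (f' : X' ⟶ Y) (f'' : X'' ⟶ Y) :
    QuasiSeparated (coprod.desc f' f'') ↔ QuasiSeparated f' ∧ QuasiSeparated f'' := by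
  have hl : Topology.IsClosedEmbedding (coprod.inl : X' ⟶ X' ⨿ X'') :=
    ⟨Scheme.Hom.isOpenEmbedding _ |>.isEmbedding, by
      have h := (isCompl_range_inl_inr X' X'').compl_eq
      rw [← isOpen_compl_iff, h]; exact (Scheme.Hom.isOpenEmbedding _).isOpen_range⟩
  have hr : Topology.IsClosedEmbedding (coprod.inr : X'' ⟶ X' ⨿ X'') :=
    ⟨Scheme.Hom.isOpenEmbedding _ |>.isEmbedding, by
      have h := (isCompl_range_inl_inr X' X'').symm.compl_eq
      rw [← isOpen_compl_iff, h]; exact (Scheme.Hom.isOpenEmbedding _).isOpen_range⟩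
  have hl' : ∀ x, coprod.desc f' f'' ((coprod.inl : X' ⟶ X' ⨿ X'') x) = f' x := fun x ↦ by
    rw [← Scheme.Hom.comp_apply, coprod.inl_desc]
  have hr' : ∀ x, coprod.desc f' f'' ((coprod.inr : X'' ⟶ X' ⨿ X'') x) = f'' x := fun x ↦ by
    rw [← Scheme.Hom.comp_apply, coprod.inr_desc]
  constructor
  · intro h
    exact ⟨coprod.inl_desc f' f'' ▸ inferInstance, coprod.inr_desc f' f'' ▸ inferInstance⟩
  · rintro ⟨h₁, h₂⟩
    rw [HasAffineProperty.eq_targetAffineLocally (P := @QuasiSeparated) (Q := fun X _ _ _ ↦ QuasiSeparatedSpace X)]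
    intro U
    refine (isQuasiSeparated_iff_quasiSeparatedSpace (coprod.desc f' f'' ⁻¹ᵁ U.1 : Set (X' ⨿ X'' : Scheme.{u})) (coprod.desc f' f'' ⁻¹ᵁ U.1).isOpen).mp ?_
    intro A B hA hAo hAc hB hBo hBc
    have hA' : (coprod.inl : X' ⟶ X' ⨿ X'') ⁻¹' A ⊆ (f' ⁻¹ᵁ U.1 : Set X') := by
      intro x hx; show _ ∈ U.1; first | (rw [← hl' x]; exact hA hx) | (rw [← hr' x]; exact hA hx)
    have hB' : (coprod.inl : X' ⟶ X' ⨿ X'') ⁻¹' B ⊆ (f' ⁻¹ᵁ U.1 : Set X') := by
      intro x hx; show _ ∈ U.1; first | (rw [← hl' x]; exact hB hx) | (rw [← hr' x]; exact hB hx)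
    have hA'' : (coprod.inr : X'' ⟶ X' ⨿ X'') ⁻¹' A ⊆ (f'' ⁻¹ᵁ U.1 : Set X'') := by
      intro x hx; show _ ∈ U.1; first | (rw [← hl' x]; exact hA hx) | (rw [← hr' x]; exact hA hx)
    have hB'' : (coprod.inr : X'' ⟶ X' ⨿ X'') ⁻¹' B ⊆ (f'' ⁻¹ᵁ U.1 : Set X'') := by
      intro x hx; show _ ∈ U.1; first | (rw [← hl' x]; exact hB hx) | (rw [← hr' x]; exact hB hx)
    have c1 := (f'.isQuasiSeparated_preimage (U := U.1) U.2.isQuasiSeparated) _ _ hA' (hAo.preimage hl.continuous) (hl.isCompact_preimage hAc) hB' (hBo.preimage hl.continuous) (hl.isCompact_preimage hBc)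
    have c2 := (f''.isQuasiSeparated_preimage (U := U.1) U.2.isQuasiSeparated) _ _ hA'' (hAo.preimage hr.continuous) (hr.isCompact_preimage hAc) hB'' (hBo.preimage hr.continuous) (hr.isCompact_preimage hBc)
    have := (c1.image hl.continuous).union (c2.image hr.continuous)
    convert this using 1
    ext x
    obtain ⟨(x | x), rfl⟩ := (coprodMk X' X'').surjective x <;>
      simp [coprodMk_inl, coprodMk_inr, hl.injective.eq_iff, hr.injective.eq_iff, inl_ne_inr, inr_ne_inl]

end Groth.Agent.S4609
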