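import Groth.Statements.S4610
import Mathlib

set_option backward.isDefEq.respectTransparency.types false

set_option autoImplicit false
universe u
open EGA41

namespace Groth.Agent.S4610

theorem exists_basis {A : Type u} [CommRing A] [Nontrivial A] : ∀ (r : ℕ) (F : Fin r → Polynomial A), (∀ i, (F i).Monic) →
    Nonempty (Module.Basis (Fin (Finset.univ.prod fun i => (F i).natDegree)) A
      (MvPolynomial (Fin r) A ⧸ Ideal.span (Set.range fun i => Polynomial.aeval (MvPolynomial.X i : MvPolynomial (Fin r) A) (F i))))
  | 0, F, _ => by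
    haveI : IsEmpty (Fin 0) := inferInstance
    have h : Ideal.span (Set.range fun i => Polynomial.aeval (MvPolynomial.X i : MvPolynomial (Fin 0) A) (F i)) = ⊥ := by
      rw [Set.range_eq_empty, Ideal.span_empty]
    refine ⟨(Module.Basis.ofEquivFun (ι := Fin 1) ?_).reindex (finCongr (by simp))⟩
    exact ((Ideal.quotientEquivAlgOfEq A h).trans ((AlgEquiv.quotientBot A _).trans
      (MvPolynomial.isEmptyAlgEquiv A (Fin 0)))).toLinearEquiv.trans (LinearEquiv.funUnique (Fin 1) A A).symm
  | r + 1, F, hF => by
    classical
    obtain ⟨b⟩ := exists_basis r (fun i => F i.succ) fun i => hF _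
    let I' := Ideal.span (Set.range fun i => Polynomial.aeval (MvPolynomial.X i : MvPolynomial (Fin r) A) (F i.succ))
    let Q := MvPolynomial (Fin r) A ⧸ I'
    let I := Ideal.span (Set.range fun i => Polynomial.aeval (MvPolynomial.X i : MvPolynomial (Fin (r + 1)) A) (F i))
    let T := MvPolynomial (Fin (r + 1)) A ⧸ I
    let g := (F 0).map (algebraMap A Q)
    have hg : g.Monic := (hF 0).map _
    let xr : Fin (r + 1) → AdjoinRoot g := Fin.cases (AdjoinRoot.root g)
      fun i => algebraMap Q (AdjoinRoot g) (Ideal.Quotient.mk I' (MvPolynomial.X i))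
    have hx : ∀ i, Polynomial.aeval (xr i) (F i) = 0 := fun i => by
      refine Fin.cases ?_ (fun j => ?_) i
      · show Polynomial.aeval (AdjoinRoot.root g) (F 0) = 0
        rw [← Polynomial.aeval_map_algebraMap Q]
        exact AdjoinRoot.aeval_eq g ▸ AdjoinRoot.mk_self
      · show Polynomial.aeval (algebraMap Q (AdjoinRoot g) (Ideal.Quotient.mk I' (MvPolynomial.X j))) (F j.succ) = 0
        rw [Polynomial.aeval_algebraMap_apply, show Ideal.Quotient.mk I' (MvPolynomial.X j) =
          Ideal.Quotient.mkₐ A I' (MvPolynomial.X j) from rfl, Polynomial.aeval_algHom_apply]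
        rw [show Ideal.Quotient.mkₐ A I' (Polynomial.aeval (MvPolynomial.X j) (F j.succ)) = 0 from
          Ideal.Quotient.eq_zero_iff_mem.2 (Ideal.subset_span ⟨j, rfl⟩), map_zero]
    let φt : T →ₐ[A] AdjoinRoot g := Ideal.Quotient.liftₐ I (MvPolynomial.aeval xr) fun a ha => by
      induction ha using Submodule.span_induction with
      | mem a ha =>
        obtain ⟨i, rfl⟩ := ha
        rw [← Polynomial.aeval_algHom_apply, MvPolynomial.aeval_X, hx]
      | zero => exact map_zero _
      | add a b _ _ ha hb => rw [map_add, ha, hb, add_zero]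
      | smul a b _ hb => rw [smul_eq_mul, map_mul, hb, mul_zero]
    let yr : Fin (r + 1) → T := fun i => Ideal.Quotient.mk I (MvPolynomial.X i)
    have hy : ∀ i, Polynomial.aeval (yr i) (F i) = 0 := fun i => by
      show Polynomial.aeval (Ideal.Quotient.mkₐ A I (MvPolynomial.X i)) (F i) = 0
      rw [Polynomial.aeval_algHom_apply]
      exact Ideal.Quotient.eq_zero_iff_mem.2 (Ideal.subset_span ⟨i, rfl⟩)
    let q : Q →ₐ[A] T := Ideal.Quotient.liftₐ I' (MvPolynomial.aeval fun j => yr j.succ) fun a ha => by
      induction ha using Submodule.span_induction with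
      | mem a ha =>
        obtain ⟨i, rfl⟩ := ha
        rw [← Polynomial.aeval_algHom_apply, MvPolynomial.aeval_X, hy]
      | zero => exact map_zero _
      | add a b _ _ ha hb => rw [map_add, ha, hb, add_zero]
      | smul a b _ hb => rw [smul_eq_mul, map_mul, hb, mul_zero]
    have hfr : Polynomial.eval₂ (q : Q →+* T) (yr 0) g = 0 := by
      show Polynomial.eval₂ (q : Q →+* T) (yr 0) ((F 0).map (algebraMap A Q)) = 0
      rw [Polynomial.eval₂_map, show (q : Q →+* T).comp (algebraMap A Q) = algebraMap A T from q.comp_algebraMap]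
      exact hy 0
    let fr : AdjoinRoot g →ₐ[A] T := AdjoinRoot.liftAlgHom g q (yr 0) hfr
    have h1 : fr.comp φt = AlgHom.id A T := by
      refine Ideal.Quotient.algHom_ext A (MvPolynomial.algHom_ext fun i => ?_)
      show fr (MvPolynomial.aeval xr (MvPolynomial.X i)) = yr i
      rw [MvPolynomial.aeval_X]
      refine Fin.cases ?_ (fun j => ?_) i
      · exact AdjoinRoot.lift_root hfr
      · show fr (AdjoinRoot.of g (Ideal.Quotient.mk I' (MvPolynomial.X j))) = yr j.succ
        refine (AdjoinRoot.lift_of hfr).trans ?_
        show MvPolynomial.aeval (fun j => yr j.succ) (MvPolynomial.X j) = _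
        rw [MvPolynomial.aeval_X]
    have hinj : Function.Injective φt := fun a c h => by
      rw [← AlgHom.id_apply (R := A) a, ← AlgHom.id_apply (R := A) c, ← h1, AlgHom.comp_apply, h]; rfl
    have hsurj : Function.Surjective φt := fun z => by
      obtain ⟨P, rfl⟩ := AdjoinRoot.mk_surjective z
      induction P using Polynomial.induction_on' with
      | add a c ha hc =>
        obtain ⟨x, hx⟩ := ha
        obtain ⟨y, hy⟩ := hc
        exact ⟨x + y, by rw [map_add, map_add, hx, hy]⟩
      | monomial n a =>
        obtain ⟨a, rfl⟩ := Ideal.Quotient.mk_surjective a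
        refine ⟨Ideal.Quotient.mk I (MvPolynomial.rename Fin.succ a) * yr 0 ^ n, ?_⟩
        rw [map_mul, map_pow, ← Polynomial.C_mul_X_pow_eq_monomial, map_mul, map_pow, AdjoinRoot.mk_X, AdjoinRoot.mk_C]
        congr 1
        · show MvPolynomial.aeval xr (MvPolynomial.rename Fin.succ a) = _
          rw [MvPolynomial.aeval_rename]
          exact AlgHom.congr_fun (MvPolynomial.algHom_ext (fun j => by
            rw [MvPolynomial.aeval_X]; rfl) : MvPolynomial.aeval (xr ∘ Fin.succ) =
              (IsScalarTower.toAlgHom A Q (AdjoinRoot g)).comp (Ideal.Quotient.mkₐ A I')) a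
        · congr 1
          show MvPolynomial.aeval xr (MvPolynomial.X 0) = _
          rw [MvPolynomial.aeval_X]; rfl
    let e : T ≃ₐ[A] AdjoinRoot g := AlgEquiv.ofBijective φt ⟨hinj, hsurj⟩
    have hprod : Finset.univ.prod (fun i => (F i).natDegree) =
        (F 0).natDegree * Finset.univ.prod (fun i : Fin r => (F i.succ).natDegree) := Fin.prod_univ_succ _
    rcases subsingleton_or_nontrivial Q with hQ | hQ
    · haveI : Subsingleton (AdjoinRoot g) := Module.subsingleton Q _
      haveI : Subsingleton T := e.toEquiv.subsingleton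
      have h0 : Finset.univ.prod (fun i : Fin r => (F i.succ).natDegree) = 0 := by
        by_contra hne
        exact b.ne_zero ⟨0, Nat.pos_of_ne_zero hne⟩ (Subsingleton.elim _ _)
      haveI : IsEmpty (Fin (Finset.univ.prod fun i => (F i).natDegree)) := by rw [hprod, h0, mul_zero]; infer_instance
      exact ⟨Module.Basis.empty T⟩
    · exact ⟨((b.smulTower (AdjoinRoot.powerBasis' hg).basis).reindex (Fintype.equivFinOfCardEq (by
        rw [Fintype.card_prod, Fintype.card_fin, Fintype.card_fin, hprod, AdjoinRoot.powerBasis'_dim,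
          (hF 0).natDegree_map, mul_comm]))).map e.toLinearEquiv.symm⟩

/-- Let A be a nonzero ring and F_1, …, F_r monic one-variable polynomials of degrees d_1, …, d_r; then
A[T_1, …, T_r]/(F_1(T_1), …, F_r(T_r)) is a free A-module of rank ∏ d_i. (The published statement
assumes A local with maximal ideal of square zero and A' local, which this assertion does not use;
its bound [K' : K] ≤ d and part (ii) are not stated.) -/
theorem result {A : Type u} [CommRing A] [Nontrivial A]
    {r : ℕ} (F : Fin r → Polynomial A) (hF : ∀ i, (F i).Monic) :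
    Module.Free A (MvPolynomial (Fin r) A ⧸ Ideal.span (Set.range fun i => Polynomial.aeval (MvPolynomial.X i : MvPolynomial (Fin r) A) (F i))) ∧
      Module.finrank A (MvPolynomial (Fin r) A ⧸ Ideal.span (Set.range fun i => Polynomial.aeval (MvPolynomial.X i : MvPolynomial (Fin r) A) (F i))) =
        Finset.univ.prod fun i => (F i).natDegree := by
  obtain ⟨b⟩ := exists_basis r F hF
  exact ⟨Module.Free.of_basis b, (Module.finrank_eq_card_basis b).trans (Fintype.card_fin _)⟩

end Groth.Agent.S4610
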