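import Groth.Statements.S4611
import Groth.Agent.EGA41Lib.RegularPow
import Mathlib

set_option backward.isDefEq.respectTransparency.types false

set_option autoImplicit false
universe u
open EGA41

namespace Groth.Agent.S4611

/-- A local algebra essentially of finite type over a ring A is A-isomorphic to a quotient of a
localization A[T_1, …, T_n]_q of a polynomial algebra at a prime ideal q; stated as the existence of
a surjective A-algebra map from such a localization. -/
theorem result {A B : Type u} [CommRing A]
    [CommRing B] [IsLocalRing B] [Algebra A B] [Algebra.EssFiniteType A B] :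
    ∃ (n : ℕ) (q : Ideal (MvPolynomial (Fin n) A)) (_ : q.IsPrime)
      (φ : Localization.AtPrime q →ₐ[A] B), Function.Surjective φ := by
  classical
  obtain ⟨σ, hσ⟩ := (Algebra.essFiniteType_iff A B).1 inferInstance
  let e := σ.equivFin
  let ψ : MvPolynomial (Fin σ.card) A →ₐ[A] B := MvPolynomial.aeval fun i => ((e.symm i : σ) : B)
  have hgen : ∀ x ∈ Algebra.adjoin A (σ : Set B), x ∈ ψ.range := by
    intro x hx
    refine Algebra.adjoin_le (fun s hs => ?_) hx
    exact ⟨MvPolynomial.X (e ⟨s, hs⟩), by simp [ψ]⟩
  let q : Ideal (MvPolynomial (Fin σ.card) A) := (IsLocalRing.maximalIdeal B).comap ψ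
  have hq : q.IsPrime := inferInstance
  have hunit : ∀ s : q.primeCompl, IsUnit (ψ s) := fun s => by
    by_contra h
    exact s.2 h
  refine ⟨σ.card, q, hq, IsLocalization.liftAlgHom (f := ψ) hunit, fun b => ?_⟩
  obtain ⟨t, ht, htu, hbt⟩ := hσ b
  obtain ⟨p, hp⟩ := hgen _ hbt
  obtain ⟨r, hr⟩ := hgen _ ht
  have hrq : r ∈ q.primeCompl := fun h => by
    change ψ r ∈ IsLocalRing.maximalIdeal B at h
    rw [show ψ r = t from hr] at h
    exact h htu
  refine ⟨IsLocalization.mk' _ p ⟨r, hrq⟩, ?_⟩
  rw [IsLocalization.liftAlgHom_apply, IsLocalization.lift_mk'_spec]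
  change ψ p = ψ r * b
  rw [show ψ r = t from hr, show ψ p = b * t from hp, mul_comm]

end Groth.Agent.S4611
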