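import Groth.Statements.S4612
import Groth.Agent.EGA41Lib.NagataJacobian
import Mathlib

set_option backward.isDefEq.respectTransparency.types false

set_option autoImplicit false
universe u
open IsLocalRing
open EGA41

namespace Groth.Agent.S4612

/-- Nagata's Jacobian criterion for quotients of power series rings: let k be a field, A = k[[T_1, …,
T_r]], q ⊆ p ideals of A with p prime, B = A/q. Suppose A/p contains a sub-k-algebra isomorphic to a
power series algebra k[[X_1, …, X_s]] over which A/p is finite and such that the fraction field L of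
A/p is a separable extension of the fraction field L' of k[[X_1, …, X_s]]; here this is given as an
injective k-algebra map k[[X_1, …, X_s]] → A/p making A/p a finite module, with fraction fields L',
L and a compatible L'-algebra structure on L. Then the following are equivalent: B_p is formally
smooth over k for the adic topology of its maximal ideal; there are k-derivations D_1, …, D_m of A
into itself and f_1, …, f_m ∈ q generating qA_p with det(D_i f_j) ∉ p; B_p is a regular local ring.
(The published statement remarks that the hypothesis on A/p always holds when k has characteristic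
zero.) -/
theorem result {k : Type u} [Field k] (r : ℕ)
    (q p : Ideal (MvPowerSeries (Fin r) k)) [p.IsPrime] (hqp : q ≤ p) [(p.map (Ideal.Quotient.mk q)).IsPrime]
    (s : ℕ) [Algebra (MvPowerSeries (Fin s) k) (MvPowerSeries (Fin r) k ⧸ p)]
    [IsScalarTower k (MvPowerSeries (Fin s) k) (MvPowerSeries (Fin r) k ⧸ p)]
    [Module.Finite (MvPowerSeries (Fin s) k) (MvPowerSeries (Fin r) k ⧸ p)]
    (hinj : Function.Injective (algebraMap (MvPowerSeries (Fin s) k) (MvPowerSeries (Fin r) k ⧸ p)))
    {L' L : Type u} [Field L'] [Field L]
    [Algebra (MvPowerSeries (Fin s) k) L'] [IsFractionRing (MvPowerSeries (Fin s) k) L']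
    [Algebra (MvPowerSeries (Fin r) k ⧸ p) L] [IsFractionRing (MvPowerSeries (Fin r) k ⧸ p) L]
    [Algebra L' L] [Algebra (MvPowerSeries (Fin s) k) L]
    [IsScalarTower (MvPowerSeries (Fin s) k) (MvPowerSeries (Fin r) k ⧸ p) L]
    [IsScalarTower (MvPowerSeries (Fin s) k) L' L] [Algebra.IsSeparable L' L] :
    [CAlgX.IsAdicFormallySmooth k (Localization.AtPrime (p.map (Ideal.Quotient.mk q)))
        (maximalIdeal (Localization.AtPrime (p.map (Ideal.Quotient.mk q)))),
     ∃ (m : ℕ) (D : Fin m → Derivation k (MvPowerSeries (Fin r) k) (MvPowerSeries (Fin r) k))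
        (f : Fin m → MvPowerSeries (Fin r) k), (∀ i, f i ∈ q) ∧
        q.map (algebraMap (MvPowerSeries (Fin r) k) (Localization.AtPrime p)) =
          Ideal.span (Set.range fun i => algebraMap (MvPowerSeries (Fin r) k) (Localization.AtPrime p) (f i)) ∧
        Matrix.det (Matrix.of fun i j => D i (f j)) ∉ p,
     IsRegularLocalRing (Localization.AtPrime (p.map (Ideal.Quotient.mk q)))].TFAE := by
  classical
  let A := MvPowerSeries (Fin r) k
  let R := MvPowerSeries (Fin s) k
  haveI : IsRegularLocalRing A := (CAlgH.isRegularLocalRing_mvPowerSeries k r).1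
  have hAp : CAlgX.IsAdicFormallySmooth k (Localization.AtPrime p) (maximalIdeal (Localization.AtPrime p)) :=
    CAlgH.AdicSmooth.of_localization_prime (CAlgH.AdicSmooth.mvPowerSeries_of_isMaximal _) p
  haveI : IsNoetherianRing (Localization.AtPrime p) := IsLocalization.isNoetherianRing p.primeCompl _ inferInstance
  haveI : IsRegularLocalRing (Localization.AtPrime p) := CAlgH.AdicSmooth.isRegularLocalRing_of_adicSmooth hAp
  have hsep : ∀ a : A ⧸ p, ∃ P : Polynomial R, Polynomial.aeval a P = 0 ∧
      (P.map (algebraMap R (FractionRing R))).Separable := fun a => by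
    haveI : IsDomain R := NoZeroDivisors.to_isDomain R
    let m := minpoly L' (algebraMap (A ⧸ p) L a)
    obtain ⟨b, hb⟩ := IsLocalization.integerNormalization_map_to_map (nonZeroDivisors R) m
    have hbu : IsUnit (algebraMap R L' (b : R)) := IsLocalization.map_units L' b
    have hQsep : ((IsLocalization.integerNormalization (nonZeroDivisors R) m).map (algebraMap R L')).Separable := by
      rw [hb, ← IsScalarTower.algebraMap_smul L' (b : R) m, Algebra.smul_def, Polynomial.algebraMap_apply, Algebra.algebraMap_self, RingHom.id_apply]
      exact (Algebra.IsSeparable.isSeparable L' (algebraMap (A ⧸ p) L a)).of_dvd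
        ((Polynomial.isUnit_C.2 hbu).mul_left_dvd.2 dvd_rfl)
    refine ⟨IsLocalization.integerNormalization (nonZeroDivisors R) m, ?_, ?_⟩
    · refine IsFractionRing.injective (A ⧸ p) L ?_
      rw [map_zero, ← Polynomial.aeval_algebraMap_apply, ← Polynomial.aeval_map_algebraMap L', hb,
        ← IsScalarTower.algebraMap_smul L' (b : R) m, map_smul, minpoly.aeval, smul_zero]
    · have h := hQsep.map (f := (IsFractionRing.algEquivOfAlgEquiv (K := L') (L := FractionRing R)
        (AlgEquiv.refl : R ≃ₐ[R] R)).toRingEquiv.toRingHom)
      rwa [Polynomial.map_map, show ((IsFractionRing.algEquivOfAlgEquiv (K := L') (L := FractionRing R)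
        (AlgEquiv.refl : R ≃ₐ[R] R)).toRingEquiv.toRingHom).comp (algebraMap R L') = algebraMap R (FractionRing R) from
        RingHom.ext fun x => IsFractionRing.algEquivOfAlgEquiv_algebraMap _ x] at h
  tfae_have 1 → 3 := fun h => by
    haveI : IsNoetherianRing (Localization.AtPrime (p.map (Ideal.Quotient.mk q))) :=
      IsLocalization.isNoetherianRing (p.map (Ideal.Quotient.mk q)).primeCompl _ inferInstance
    exact CAlgH.AdicSmooth.isRegularLocalRing_of_adicSmooth h
  tfae_have 3 → 2 := fun h =>
    EGA41Lib.NJ.exists_det_of_regular p (fun i => MvPowerSeries.pderiv k i)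
      (EGA41Lib.NJ.mem_sq_of_pderiv p hinj hsep) q hqp h
  tfae_have 2 → 1 := by
    rintro ⟨m, D, f, -, hspan, hdet⟩
    exact EGA41Lib.NJ.adicSmooth_of_det q p hqp hAp D f hspan hdet
  tfae_finish

end Groth.Agent.S4612
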