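import Groth.Statements.S4613
import Mathlib

set_option autoImplicit false
set_option backward.isDefEq.respectTransparency.types false
universe u
open AlgebraicGeometry CategoryTheory
open EGA41

namespace Groth.Agent.S4613

/-- For a closed immersion j : X → Y: j is locally of finite presentation if and only if its ideal sheaf
is of finite type, i.e. for every affine open U of Y the kernel of Γ(U, O_Y) → Γ(j⁻¹U, O_X) is
finitely generated. (An immersion with image closed in an open U reduces to this case.) -/
theorem result {X Y : Scheme.{u}} (j : X ⟶ Y)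
    [IsClosedImmersion j] :
    LocallyOfFinitePresentation j ↔ ∀ U : Y.affineOpens, (RingHom.ker (j.app U).hom).FG := by
  constructor
  · intro h U
    have hfp' := HasRingHomProperty.appLE (P := @LocallyOfFinitePresentation) j inferInstance U ⟨_, U.2.preimage j⟩ le_rfl
    rw [← Scheme.Hom.app_eq_appLE] at hfp'
    let := (j.app U).hom.toAlgebra
    have : Algebra.FinitePresentation Γ(Y, U) Γ(X, j ⁻¹ᵁ U) := hfp'
    exact Algebra.FinitePresentation.ker_fG_of_surjective (Algebra.ofId Γ(Y, U) Γ(X, j ⁻¹ᵁ U)) (j.app_surjective U.1 U.2)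
  · intro h
    refine IsZariskiLocalAtTarget.of_iSup_eq_top (fun U : Y.affineOpens ↦ U.1) (iSup_affineOpens_eq_top Y) fun U ↦ ?_
    have : IsAffine (U.1 : Scheme.{u}) := U.2
    have : IsAffine (j ⁻¹ᵁ U.1 : Scheme.{u}) := U.2.preimage j
    rw [HasRingHomProperty.iff_of_isAffine (P := @LocallyOfFinitePresentation)]
    have hU : U.1.ι ''ᵁ (⊤ : TopologicalSpace.Opens (U.1 : Scheme.{u})) = U.1 := U.1.ι_image_top
    let U' : Y.affineOpens := ⟨U.1.ι ''ᵁ ⊤, hU.symm ▸ U.2⟩
    have hfp : (j.app U'.1).hom.FinitePresentation :=
      RingHom.FinitePresentation.of_surjective _ (j.app_surjective U'.1 U'.2) (h U')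
    rw [Scheme.Hom.appTop, morphismRestrict_app]
    exact (RingHom.finitePresentation_respectsIso.cancel_right_isIso _ _).mpr hfp

end Groth.Agent.S4613
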