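import Mathlib.RingTheory.TensorProduct.Basic
import Mathlib.RingTheory.Nilpotent.Lemmas
import Mathlib.RingTheory.Localization.FractionRing
import Mathlib.RingTheory.AdicCompletion.Algebra
import Mathlib.RingTheory.Noetherian.Defs
import Mathlib.RingTheory.LocalRing.MaximalIdeal.Basic
import Mathlib.RingTheory.IntegralClosure.IsIntegralClosure.Basic
import Mathlib.AlgebraicGeometry.Morphisms.UniversallyInjective
import Groth.Agent.CAlgSmall.EventRed
import Groth.Agent.CAlgH.NagataComplete
import Groth.Agent.Matlis6.CompletionNoetherian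
import Groth.Agent.CommAlg6.CompletionEquidim

set_option autoImplicit false
universe u
namespace TensorProduct
end TensorProduct
namespace AlgebraicGeometry
end AlgebraicGeometry
open TensorProduct AlgebraicGeometry
namespace CAlg
end CAlg
open CAlg

namespace Groth.Agent.S4615

/-- Let A be a Noetherian local domain with fraction field K, Â its completion and K' a finite extension
of K; among the sub-A-algebras C of K' finite over A with fraction field K' (whose completions are C
⊗_A Â) there is C_α such that for every such C ⊇ C_α the map (C_α ⊗_A Â)_red → (C ⊗_A Â)_red is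
bijective, and Spec A' → Spec C_α is radicial, A' the integral closure of A in K'. -/
theorem result {A K' : Type u} [CommRing A] [IsDomain A]
    [IsLocalRing A] [IsNoetherianRing A] [Field K'] [Algebra A K'] [Algebra (FractionRing A) K']
    [IsScalarTower A (FractionRing A) K'] [FiniteDimensional (FractionRing A) K'] :
    let Ah := AdicCompletion (IsLocalRing.maximalIdeal A) A
    let P : Subalgebra A K' → Prop := fun C : Subalgebra A K' => Module.Finite A C ∧ ∀ x : K', ∃ a b : C, (b : K') ≠ 0 ∧ x * b = a
    ∃ Cα : Subalgebra A K', P Cα ∧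
      (∀ C : Subalgebra A K', P C → ∀ hle : Cα ≤ C,
        (∀ x : ↥Cα ⊗[A] Ah, IsNilpotent (Algebra.TensorProduct.map (Subalgebra.inclusion hle) (AlgHom.id A Ah) x) →
          IsNilpotent x) ∧
        (∀ y : ↥C ⊗[A] Ah, ∃ x : ↥Cα ⊗[A] Ah,
          IsNilpotent (Algebra.TensorProduct.map (Subalgebra.inclusion hle) (AlgHom.id A Ah) x - y))) ∧
      (∀ hint : Cα ≤ integralClosure A K',
        UniversallyInjective (Spec.map (CommRingCat.ofHom (Subalgebra.inclusion hint).toRingHom))) := by
  intro Ah P'
  haveI : IsNoetherianRing Ah := Groth.Agent.Matlis6.isNoetherianRing_adicCompletion _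
  haveI : IsAdicComplete (IsLocalRing.maximalIdeal Ah) Ah := inferInstanceAs
    (IsAdicComplete (IsLocalRing.maximalIdeal (AdicCompletion (IsLocalRing.maximalIdeal A) A)) _)
  haveI := Groth.Agent.CommAlg6.isLocalHom_completion A
  haveI : Module.FaithfullyFlat A Ah := Module.FaithfullyFlat.of_flat_of_isLocalHom
  have hN := Groth.Agent.CAlgH.isNagata_of_complete_local Ah
  obtain ⟨Cα, hCα, h⟩ := Groth.Agent.CAlgSmall.EventRed.exists_stable (A := A) (B := Ah) (K' := K')
    (fun q _ _ => hN.2 q)
  exact ⟨Cα, hCα, h, fun hint =>
    Groth.Agent.CAlgSmall.EventRed.universallyInjective_inclusion inferInstance Cα hCα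
      (fun C hC hle => (h C hC hle).2) hint⟩

end Groth.Agent.S4615
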