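import Groth.Statements.S4619
import Groth.Agent.FBaseLib.ResidueSplit
-- import your own Groth.Agent.* helpers here

set_option autoImplicit false
set_option backward.isDefEq.respectTransparency.types false
open CategoryTheory AlgebraicGeometry
universe u
open FBase

namespace Groth.Agent.S4619

/-- For a connected scheme: let X be a connected scheme over a field k and x a point of X whose residue
field κ(x) is a primary extension of k, i.e. the separable algebraic closure of k in κ(x) is k
itself (this holds in particular when x is a k-rational point). Then X is geometrically connected
over k. (The published statement concerns the connected component of x in an arbitrary scheme over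
k; this row takes X connected.) -/
theorem result {k : Type u} [Field k] {X : Scheme.{u}}
    [ConnectedSpace X] (f : X ⟶ Spec (CommRingCat.of k)) (x : X)
    (hx : FBase.ResidueFieldProp f x (fun K _ _ => separableClosure k K = ⊥)) :
    GeometricallyConnected f := by
  obtain ⟨φ, hφ, hP⟩ := hx
  letI := φ.toAlgebra
  haveI : ConnectedSpace ↥(Limits.pullback f (Groth.Agent.VarietyLib.sK k (SeparableClosure k))) :=
    VarietyLib.connectedSpace_of_fibre_subsingleton x fun p q hp hq =>
      VarietyLib.fst_injOn_fibre k f x hφ (fun a ha => by
        have h1 : a ∈ separableClosure k (X.residueField x) := mem_separableClosure_iff.2 ha
        rw [hP, IntermediateField.mem_bot] at h1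
        exact h1) hp hq
  exact VarietyLib.geometricallyConnected_of_connectedSpace k f

end Groth.Agent.S4619
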