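import Groth.Statements.S4620
import Groth.Agent.FBaseLib.GeomConn
import Mathlib

set_option backward.isDefEq.respectTransparency.types false

set_option autoImplicit false
open CategoryTheory AlgebraicGeometry
universe u
open FBase

namespace Groth.Agent.S4620

/-- Let X be a scheme over a field k and Y an irreducible component of X which is geometrically
irreducible, i.e. the inverse image of Y in X ⊗_k L is irreducible for every extension field L of k.
Then the connected component of X containing Y is geometrically connected: for every extension field
K of k, the inverse image in X ⊗_k K of the connected component of a point y of Y is connected.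
(Geometric irreducibility and connectedness of a locally closed subset do not depend on the
subscheme structure chosen, and are expressed here through inverse images under the projection.) -/
theorem result {k K : Type u} [Field k] [Field K] [Algebra k K]
    {X : Scheme.{u}} (f : X ⟶ Spec (CommRingCat.of k)) (Y : Set ↥X) (hY : Y ∈ irreducibleComponents ↥X)
    (hgi : ∀ (L : Type u) [Field L] [Algebra k L], IsIrreducible (⇑(FBase.bcπ f L) ⁻¹' Y))
    (y : X) (hy : y ∈ Y) :
    _root_.IsConnected (⇑(FBase.bcπ f K) ⁻¹' connectedComponent y) := by
  let D : TopologicalSpace.Closeds X := ⟨Y, isClosed_of_mem_irreducibleComponents Y hY⟩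
  let I := Scheme.IdealSheafData.vanishingIdeal D
  let ι := I.subschemeι
  have hι : Set.range ι = Y := by
    rw [Scheme.IdealSheafData.range_subschemeι]
    exact congrArg SetLike.coe (show I.support = D from TopologicalSpace.Closeds.ext rfl)
  haveI : GeometricallyConnected (ι ≫ f) := by
    refine ⟨geometrically_iff_of_commRing_of_isClosedUnderIsomorphisms.2 fun L _ _ => ?_⟩
    let s := Spec.map (CommRingCat.ofHom (algebraMap k L))
    let m : Limits.pullback (ι ≫ f) s ⟶ Limits.pullback f s :=
      Limits.pullback.map _ _ _ _ ι (𝟙 _) (𝟙 _) (by simp) (by simp)
    have hm : Set.range m = Limits.pullback.fst f s ⁻¹' Y := by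
      rw [Scheme.Pullback.range_map, hι]
      ext z
      exact ⟨fun hz => hz.1, fun hz => ⟨hz, Set.mem_range.2 ⟨_, rfl⟩⟩⟩
    have hsq : IsPullback (Limits.pullback.fst (ι ≫ f) s) m ι (Limits.pullback.fst f s) :=
      IsPullback.of_bot (by
          rw [Limits.pullback.lift_snd, Category.comp_id]; exact IsPullback.of_hasPullback (ι ≫ f) s)
          (Limits.pullback.lift_fst _ _ _).symm (IsPullback.of_hasPullback f s)
    haveI : IsClosedImmersion m := MorphismProperty.of_isPullback hsq inferInstance
    have h1 : _root_.IsConnected (Set.range m) := hm ▸ (hgi L).isConnected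
    refine connectedSpace_iff_univ.2 ⟨?_, ?_⟩
    · obtain ⟨_, a, -⟩ := h1.nonempty
      exact ⟨a, trivial⟩
    · rw [← m.isClosedEmbedding.isEmbedding.isInducing.isPreconnected_image, Set.image_univ]
      exact h1.isPreconnected
  obtain ⟨d, rfl⟩ := hι.ge hy
  exact FBaseLib.isConnected_preimage_component f ι d

end Groth.Agent.S4620
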