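import Groth.Statements.S4622
import Groth.Agent.H8Lim.GeomConnected
import Groth.Agent.UnivHomeo.Scheme
import Groth.Agent.FBaseLib.Geom
-- import your own Groth.Agent.* helpers here

set_option autoImplicit false
set_option backward.isDefEq.respectTransparency.types false
open CategoryTheory AlgebraicGeometry
universe u
open FBase

namespace Groth.Agent.S4622

/-- Let k be a separably closed field, k' an algebraic closure of k and X a scheme over k. Then the
projection X ⊗_k k' → X is a universal homeomorphism. -/
theorem result {k k' : Type u} [Field k] [IsSepClosed k] [Field k'] [Algebra k k']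
    [IsAlgClosure k k'] {X : Scheme.{u}} (f : X ⟶ Spec (CommRingCat.of k)) :
    FlatMor.IsUnivHomeo (FBase.bcπ f k') := by
  haveI : Algebra.IsAlgebraic k k' := IsAlgClosure.isAlgebraic
  haveI : IsPurelyInseparable k k' := inferInstance
  haveI hu := H8Lim.universallyInjective_algSpec k k'
  haveI : IsIntegralHom (Spec.map (CommRingCat.ofHom (algebraMap k k'))) :=
    IsIntegralHom.SpecMap_iff.2 (algebraMap_isIntegral_iff.2 inferInstance)
  haveI : Surjective (Spec.map (CommRingCat.ofHom (algebraMap k k'))) := FBaseLib.surjective_to_field _
  haveI : UniversallyInjective (FBase.bcπ f k') :=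
    MorphismProperty.pullback_fst (P := @UniversallyInjective) _ _ hu
  haveI : IsIntegralHom (FBase.bcπ f k') := MorphismProperty.pullback_fst (P := @IsIntegralHom) _ _ inferInstance
  haveI : Surjective (FBase.bcπ f k') := MorphismProperty.pullback_fst (P := @Surjective) _ _ inferInstance
  exact UnivHomeo.isUnivHomeo_of_integral_univInjective_surjective _

end Groth.Agent.S4622
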