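import Groth.Statements.S4625
import Groth.Agent.FBaseLib.Geom
import Mathlib

set_option backward.isDefEq.respectTransparency.types false

set_option autoImplicit false
open CategoryTheory AlgebraicGeometry
universe u
open FBase

namespace Groth.Agent.S4625

/-- Let X be a scheme over a field k and K an extension field of k. Then X is geometrically connected
over k if and only if X ⊗_k K, with its structure of K-scheme, is geometrically connected over K. -/
theorem result {k K : Type u} [Field k] [Field K] [Algebra k K]
    {X : Scheme.{u}} (f : X ⟶ Spec (CommRingCat.of k)) :
    GeometricallyConnected f ↔ GeometricallyConnected (FBase.bcStr f K) := by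
  refine ⟨fun h => MorphismProperty.pullback_snd f _ h, fun h => ?_⟩
  haveI : Surjective (Spec.map (CommRingCat.ofHom (algebraMap k K))) := FBaseLib.surjective_to_field _
  exact ⟨FBaseLib.geometrically_of_surjective (P := fun Z : Scheme.{u} => ConnectedSpace Z)
    (fun A B h hs _ (_ : ConnectedSpace A) => FlatMor12.connectedSpace_of_surjective h) f _
    h.geometrically_connectedSpace⟩

end Groth.Agent.S4625
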