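import Groth.Statements.S4626
import Groth.Agent.FBaseLib.Geom
import Mathlib

set_option backward.isDefEq.respectTransparency.types false

set_option autoImplicit false
open CategoryTheory AlgebraicGeometry
universe u
open FBase

namespace Groth.Agent.S4626

/-- Let X be a scheme over a field k and K an extension field of k. Then X is geometrically reduced over
k if and only if X ⊗_k K, with its structure of K-scheme, is geometrically reduced over K. -/
theorem result {k K : Type u} [Field k] [Field K] [Algebra k K]
    {X : Scheme.{u}} (f : X ⟶ Spec (CommRingCat.of k)) :
    GeometricallyReduced f ↔ GeometricallyReduced (FBase.bcStr f K) := by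
  refine ⟨fun h => MorphismProperty.pullback_snd f _ h, fun h => ?_⟩
  haveI : Surjective (Spec.map (CommRingCat.ofHom (algebraMap k K))) := FBaseLib.surjective_to_field _
  exact ⟨FBaseLib.geometrically_of_surjective (P := AlgebraicGeometry.IsReduced)
    (fun A B h hs hf (_ : AlgebraicGeometry.IsReduced A) => FlatMor12.isReduced_of_flat_surjective h) f _
    h.geometrically_isReduced⟩

end Groth.Agent.S4626
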