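import Groth.Statements.S4634
import Groth.Agent.Desc19b.QuasiFlat

set_option autoImplicit false
open CategoryTheory AlgebraicGeometry
universe u
open FDesc

namespace Groth.Agent.S4634

/-- Let f : X → Y be a quasi-flat quasi-compact morphism and F a closed subset of X which is saturated
for f, i.e. F = f⁻¹(f(F)). Then F is the inverse image of the closure of f(F). -/
theorem result {X Y : Scheme.{u}} (f : X ⟶ Y) (hf : FDesc.IsQuasiFlat f)
    [QuasiCompact f] (F : Set ↥X) (hF : IsClosed F) (hsat : ⇑f ⁻¹' (⇑f '' F) = F) :
    ⇑f ⁻¹' closure (⇑f '' F) = F := by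
  exact Groth.Agent.Desc19b.preimage_closure_image_of_saturated f (Groth.Agent.Desc19b.generalizingMap_of_isQuasiFlat hf) hF hsat

end Groth.Agent.S4634
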