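import Groth.Statements.S4640
import Mathlib.RingTheory.Flat.TorsionFree
import Mathlib.RingTheory.Localization.BaseChange

set_option autoImplicit false
universe u
open FDesc

set_option backward.isDefEq.respectTransparency.types false
set_option backward.isDefEq.respectTransparency false

namespace Groth.Agent.S4640


open TensorProduct in
/-- Let A be a Dedekind domain with fraction field K, M an A-module and P' a K-submodule of K ⊗_A M. Let
φ : M → (K ⊗_A M)/P' be m ↦ class of 1 ⊗ m. Then a submodule Q of M equals ker φ if and only if M/Q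
is a flat A-module and the kernel of the induced surjection K ⊗_A M → K ⊗_A (M/Q) is P'. Thus M/ker
φ is the unique flat quotient of M with generic fibre (K ⊗_A M)/P'. (The published statement takes A
Noetherian, regular and of dimension 1; a field is allowed here, where the statement is immediate.) -/
theorem result {A K : Type u} [CommRing A] [IsDedekindDomain A] [Field K]
    [Algebra A K] [IsFractionRing A K] {M : Type u} [AddCommGroup M] [Module A M]
    (P' : Submodule K (K ⊗[A] M)) (Q : Submodule A M) :
    Q = LinearMap.ker ((P'.restrictScalars A).mkQ ∘ₗ TensorProduct.mk A K M 1) ↔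
      (Module.Flat A (M ⧸ Q) ∧ LinearMap.ker (Q.mkQ.baseChange K) = P') := by
  classical
  let N := M ⧸ Q
  have : IsLocalizedModule (nonZeroDivisors A) (TensorProduct.mk A K M 1) :=
    (isLocalizedModule_iff_isBaseChange (nonZeroDivisors A) K _).2 (TensorProduct.isBaseChange A M K)
  have : IsLocalizedModule (nonZeroDivisors A) (TensorProduct.mk A K (M ⧸ Q) 1) :=
    (isLocalizedModule_iff_isBaseChange (nonZeroDivisors A) K _).2 (TensorProduct.isBaseChange A (M ⧸ Q) K)
  set ψ := TensorProduct.mk A K M 1 with hψ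
  set β := Q.mkQ.baseChange K with hβ
  have hsmul : ∀ (s : nonZeroDivisors A) (x : K ⊗[A] M) (P : Submodule K (K ⊗[A] M)),
      (s : A) • x ∈ P ↔ x ∈ P := by
    intro s x P
    rw [← algebraMap_smul K (s : A) x]
    exact P.smul_mem_iff (IsFractionRing.to_map_ne_zero_of_mem_nonZeroDivisors s.2)
  have hd : ∀ m : M, β (ψ m) = TensorProduct.mk A K (M ⧸ Q) 1 (Submodule.Quotient.mk m) := fun m => rfl
  have hmem : ∀ m, m ∈ LinearMap.ker ((P'.restrictScalars A).mkQ ∘ₗ ψ) ↔ ψ m ∈ P' := fun m => by
    simp [Submodule.Quotient.mk_eq_zero]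
  constructor
  · intro hQ
    have hflat : Module.Flat A (M ⧸ Q) := by
      rw [IsDedekindDomain.flat_iff_torsion_eq_bot, eq_bot_iff]
      rintro x ⟨s, hs⟩
      obtain ⟨m, rfl⟩ := Submodule.Quotient.mk_surjective Q x
      change (s : A) • (Submodule.Quotient.mk m : M ⧸ Q) = 0 at hs
      rw [← Submodule.Quotient.mk_smul, Submodule.Quotient.mk_eq_zero, hQ, hmem, map_smul, hsmul] at hs
      rw [Submodule.mem_bot, Submodule.Quotient.mk_eq_zero, hQ, hmem]
      exact hs
    refine ⟨hflat, ?_⟩
    ext x
    obtain ⟨⟨m, s⟩, hms⟩ := IsLocalizedModule.surj (nonZeroDivisors A) ψ x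
    rw [← hsmul s x, ← hsmul s x P']
    rw [show (s : A) • x = ψ m from hms, LinearMap.mem_ker, hd, IsLocalizedModule.eq_zero_iff (nonZeroDivisors A)]
    constructor
    · rintro ⟨t, ht⟩
      rw [Submonoid.smul_def, ← Submodule.Quotient.mk_smul, Submodule.Quotient.mk_eq_zero, hQ, hmem, map_smul,
        hsmul] at ht
      exact ht
    · intro h
      exact ⟨1, by rw [one_smul, Submodule.Quotient.mk_eq_zero, hQ, hmem]; exact h⟩
  · rintro ⟨hflat, hker⟩
    ext m
    rw [hmem, ← hker, LinearMap.mem_ker, hd, IsLocalizedModule.eq_zero_iff (nonZeroDivisors A)]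
    constructor
    · intro h
      exact ⟨1, by rw [one_smul, Submodule.Quotient.mk_eq_zero]; exact h⟩
    · rintro ⟨t, ht⟩
      have ht' : (Submodule.Quotient.mk m : M ⧸ Q) ∈ Submodule.torsion A (M ⧸ Q) := ⟨t, ht⟩
      rw [(IsDedekindDomain.flat_iff_torsion_eq_bot).1 hflat, Submodule.mem_bot, Submodule.Quotient.mk_eq_zero] at ht'
      exact ht'

end Groth.Agent.S4640
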