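import Groth.Statements.S4643
import Groth.Agent.DimLib.BaseChange

set_option autoImplicit false
open CategoryTheory AlgebraicGeometry
universe u
open FBase

namespace Groth.Agent.S4643

lemma iSup_add_iSup_le {ι κ : Type*} (a : ι → ℕ) (b : κ → ℕ) (D : WithBot ℕ∞)
    (h : ∀ i j, ((a i + b j : ℕ) : WithBot ℕ∞) ≤ D) :
    (⨆ i, (a i : WithBot ℕ∞)) + (⨆ j, (b j : WithBot ℕ∞)) ≤ D := by
  rcases isEmpty_or_nonempty ι with hi | ⟨⟨i₀⟩⟩
  · rw [iSup_of_empty, WithBot.bot_add]; exact bot_le
  rcases isEmpty_or_nonempty κ with hj | ⟨⟨j₀⟩⟩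
  · rw [iSup_of_empty (fun j : κ => (b j : WithBot ℕ∞)), WithBot.add_bot]; exact bot_le
  induction D using WithBot.recBotCoe with
  | bot => exact absurd (h i₀ j₀) (by simp)
  | coe D =>
    induction D using ENat.recTopCoe with
    | top => exact le_top
    | coe n =>
      have hn : ∀ i j, a i + b j ≤ n := fun i j => by have := h i j; norm_cast at this
      have hba : BddAbove (Set.range a) := ⟨n, by rintro _ ⟨i, rfl⟩; have := hn i j₀; omega⟩
      have hbb : BddAbove (Set.range b) := ⟨n, by rintro _ ⟨j, rfl⟩; have := hn i₀ j; omega⟩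
      have : Nonempty ι := ⟨i₀⟩
      have : Nonempty κ := ⟨j₀⟩
      obtain ⟨i, hi⟩ := Nat.sSup_mem (Set.range_nonempty a) hba
      obtain ⟨j, hj⟩ := Nat.sSup_mem (Set.range_nonempty b) hbb
      calc (⨆ i, (a i : WithBot ℕ∞)) + (⨆ j, (b j : WithBot ℕ∞)) ≤ (a i : WithBot ℕ∞) + b j :=
            add_le_add (iSup_le fun i' => by rw [hi]; exact_mod_cast le_csSup hba ⟨i', rfl⟩)
              (iSup_le fun j' => by rw [hj]; exact_mod_cast le_csSup hbb ⟨j', rfl⟩)
        _ ≤ _ := by exact_mod_cast hn i j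


open CategoryTheory.Limits in
/-- Let X and Y be schemes locally of finite type over a field k. Then the dimension of X ×_k Y is the
sum of the dimensions of X and Y (Krull dimensions of the underlying spaces, valued in WithBot ℕ∞,
the empty scheme having dimension ⊥). -/
theorem result {k : Type u} [Field k] {X Y : Scheme.{u}}
    (f : X ⟶ Spec (CommRingCat.of k)) (g : Y ⟶ Spec (CommRingCat.of k)) [LocallyOfFiniteType f] [LocallyOfFiniteType g] :
    topologicalKrullDim ↥(pullback f g) = topologicalKrullDim ↥X + topologicalKrullDim ↥Y := by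
  open Groth.Agent.DimLib in
  rw [topologicalKrullDim_eq_iSup (pullback.fst f g ≫ f), topologicalKrullDim_eq_iSup f, topologicalKrullDim_eq_iSup g]
  refine le_antisymm (iSup_le fun z => ?_) (iSup_add_iSup_le _ _ _ fun x y => ?_)
  · refine le_trans ?_ (add_le_add (le_iSup (fun x : X => (ptDim f x : WithBot ℕ∞)) (pullback.fst f g z))
      (le_iSup (fun y : Y => (ptDim g y : WithBot ℕ∞)) (pullback.snd f g z)))
    exact_mod_cast ptDim_product_le f g z
  · obtain ⟨z, -, -, e⟩ := exists_product_point f g x y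
    rw [← e]
    exact le_iSup (fun z => (ptDim (pullback.fst f g ≫ f) z : WithBot ℕ∞)) z

end Groth.Agent.S4643
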