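import Groth.Statements.S4644
import Groth.Agent.DimLib.Nowhere

set_option autoImplicit false
open CategoryTheory AlgebraicGeometry
universe u
open FBase

namespace Groth.Agent.S4644

/-- Let Y be a nonempty scheme locally of finite type over a field k whose irreducible components all
have the same dimension, and let Z be a locally closed subset of Y (the underlying set of a
subscheme). Then Z is nowhere dense in Y if and only if dim Z < dim Y. (For Y empty the left side
holds and the right side fails, so Y is taken nonempty; dimensions are Krull dimensions of the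
underlying spaces.) -/
theorem result {k : Type u} [Field k] {Y : Scheme.{u}} [Nonempty ↥Y]
    (g : Y ⟶ Spec (CommRingCat.of k)) [LocallyOfFiniteType g]
    (heq : ∀ T ∈ irreducibleComponents ↥Y, topologicalKrullDim ↥T = topologicalKrullDim ↥Y)
    (Z : Set ↥Y) (hZ : IsLocallyClosed Z) :
    IsNowhereDense Z ↔ topologicalKrullDim ↥Z < topologicalKrullDim ↥Y := by
  open Groth.Agent.DimLib in
  obtain ⟨y₀⟩ := ‹Nonempty ↥Y›
  obtain ⟨η₀, -, h₀⟩ := exists_maximal_specializes y₀
  have hd : ∀ η : Y, (∀ z, z ⤳ η → η = z) → (ptDim g η : WithBot ℕ∞) = topologicalKrullDim ↥Y :=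
    (forall_components_iff g (fun e => e = topologicalKrullDim ↥Y)).1 heq
  rw [← hd η₀ h₀, topologicalKrullDim_locallyClosed_eq_iSup g hZ]
  constructor
  · intro hnd
    have hlt : ∀ z ∈ Z, ptDim g z < ptDim g η₀ := by
      intro z hz
      obtain ⟨η, hη, hmax⟩ := exists_maximal_specializes z
      have hne : η ≠ z := fun e =>
        notMem_of_maximal_of_interior_eq_empty g isClosed_closure hnd hmax (subset_closure (e ▸ hz))
      have h1 := ptDim_lt_of_specializes g hη hne
      have h2 : ptDim g η = ptDim g η₀ := by exact_mod_cast (hd η hmax).trans (hd η₀ h₀).symm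
      omega
    rcases Z.eq_empty_or_nonempty with rfl | ⟨z₀, hz₀⟩
    · rw [iSup_of_empty]; exact WithBot.bot_lt_coe _
    have := hlt z₀ hz₀
    calc _ ≤ ((ptDim g η₀ - 1 : ℕ) : WithBot ℕ∞) :=
          iSup_le fun z => by have := hlt z.1 z.2; exact_mod_cast (by omega : ptDim g z.1 ≤ ptDim g η₀ - 1)
      _ < _ := by exact_mod_cast (by omega : ptDim g η₀ - 1 < ptDim g η₀)
  · intro hlt
    by_contra hnd
    obtain ⟨η, hη, hmax⟩ := exists_maximal_mem_of_interior_nonempty hZ
      (Set.nonempty_iff_ne_empty.2 hnd)
    refine absurd hlt (not_lt.2 ?_)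
    rw [hd η₀ h₀, ← hd η hmax]
    exact le_iSup (fun x : Z => (ptDim g x.1 : WithBot ℕ∞)) ⟨η, hη⟩

end Groth.Agent.S4644
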