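import Groth.Statements.S4645
import Groth.Agent.FBaseLib.ResidueSplit
-- import your own Groth.Agent.* helpers here

set_option autoImplicit false
set_option backward.isDefEq.respectTransparency.types false
open CategoryTheory AlgebraicGeometry
universe u
open FBase

namespace Groth.Agent.S4645

/-- Let X be a scheme over a field k with finitely many connected components, each of which contains a
point x such that the separable algebraic closure of k in κ(x) has finite degree over k. Then there
is a finite separable extension k'' of k such that all connected components of X ⊗_k k'' are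
geometrically connected over k'': for every extension field K of k'' and every point x' of X ⊗_k
k'', the inverse image in (X ⊗_k k'') ⊗_{k''} K of the connected component of x' is connected. -/
theorem result {k : Type u} [Field k] {X : Scheme.{u}}
    (f : X ⟶ Spec (CommRingCat.of k)) [Finite (_root_.ConnectedComponents ↥X)]
    (hx : ∀ c : _root_.ConnectedComponents ↥X, ∃ x : X, _root_.ConnectedComponents.mk x = c ∧
      FBase.ResidueFieldProp f x (fun K _ _ => FiniteDimensional k (separableClosure k K))) :
    ∃ (k'' : Type u) (_ : Field k'') (_ : Algebra k k''), FiniteDimensional k k'' ∧ Algebra.IsSeparable k k'' ∧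
      ∀ (K : Type u) [Field K] [Algebra k'' K] (x' : ↥(FBase.bc f k'')),
        _root_.IsConnected (⇑(FBase.bcπ (FBase.bcStr f k'') K) ⁻¹' connectedComponent x') := by
  choose x hxc φ hφ hfin using hx
  let alg : ∀ c, Algebra k (X.residueField (x c)) := fun c => (φ c).toAlgebra
  haveI : ∀ c, FiniteDimensional k (separableClosure k (X.residueField (x c))) := hfin
  haveI : ∀ c, Algebra.IsSeparable k (separableClosure k (X.residueField (x c))) := fun c =>
    separableClosure.isSeparable _ _
  obtain ⟨L, iF, iA, h1, h2, hL⟩ :=
    FBaseLib.ResidueSplit.exists_galois_splitting (k := k) fun c => separableClosure k (X.residueField (x c))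
  refine ⟨L, iF, iA, h1, h2, fun K _ _ x' => ?_⟩
  let π := Limits.pullback.fst f (Groth.Agent.VarietyLib.sK k L)
  let c : _root_.ConnectedComponents ↥X := ConnectedComponents.mk (π x')
  have hmem : x c ∈ connectedComponent (π x') := ConnectedComponents.coe_eq_coe'.1 (hxc c)
  rw [← VarietyLib.image_connectedComponent_fst' k f L x'] at hmem
  obtain ⟨p, hp, hpx⟩ := hmem
  have h := FBaseLib.ResidueSplit.isConnected_preimage f (x c) (hφ c) L (hL c) p hpx K
  rw [← connectedComponent_eq hp] at h
  exact h

end Groth.Agent.S4645
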