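import Groth.Statements.S4646
import Groth.Agent.FBaseLib.ResidueSplit
-- import your own Groth.Agent.* helpers here

set_option autoImplicit false
set_option backward.isDefEq.respectTransparency.types false
open CategoryTheory AlgebraicGeometry
universe u
open FBase

namespace Groth.Agent.S4646

/-- Let X be a scheme over a field k having finitely many irreducible components, such that for the
generic point x of each irreducible component the separable algebraic closure of k in κ(x) has
finite degree over k. Then there is a finite separable extension L of k such that all irreducible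
components of X ⊗_k L are geometrically irreducible over L: for every extension field K of L and
every irreducible component Z' of X ⊗_k L, the inverse image of Z' in (X ⊗_k L) ⊗_L K is
irreducible. (No finite-type hypothesis on X.) -/
theorem result {k : Type u} [Field k] {X : Scheme.{u}}
    (f : X ⟶ Spec (CommRingCat.of k)) [Finite ↥(irreducibleComponents ↥X)]
    (hx : ∀ (Z : Set ↥X) (hZ : Z ∈ irreducibleComponents ↥X),
      FBase.ResidueFieldProp f hZ.1.genericPoint (fun K _ _ => FiniteDimensional k (separableClosure k K))) :
    ∃ (L : Type u) (_ : Field L) (_ : Algebra k L), FiniteDimensional k L ∧ Algebra.IsSeparable k L ∧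
      ∀ (K : Type u) [Field K] [Algebra L K] (Z' : Set ↥(FBase.bc f L)), Z' ∈ irreducibleComponents ↥(FBase.bc f L) →
        IsIrreducible (⇑(FBase.bcπ (FBase.bcStr f L) K) ⁻¹' Z') := by
  let ι := ↥(irreducibleComponents ↥X)
  have hx' : ∀ Z : ι, _ := fun Z => hx Z.1 Z.2
  choose φ hφ hfin using hx'
  let alg : ∀ Z : ι, Algebra k (X.residueField Z.2.1.genericPoint) := fun Z => (φ Z).toAlgebra
  haveI : ∀ Z : ι, FiniteDimensional k (separableClosure k (X.residueField Z.2.1.genericPoint)) := hfin
  haveI : ∀ Z : ι, Algebra.IsSeparable k (separableClosure k (X.residueField Z.2.1.genericPoint)) := fun Z =>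
    separableClosure.isSeparable _ _
  obtain ⟨L, iF, iA, h1, h2, hL⟩ :=
    FBaseLib.ResidueSplit.exists_galois_splitting (k := k)
      fun Z : ι => separableClosure k (X.residueField Z.2.1.genericPoint)
  refine ⟨L, iF, iA, h1, h2, fun K _ _ Z' hZ' => ?_⟩
  haveI := h1
  let π := Limits.pullback.fst f (Groth.Agent.VarietyLib.sK k L)
  obtain ⟨p, hp, rfl⟩ : ∃ p ∈ genericPoints ↥(Limits.pullback f (Groth.Agent.VarietyLib.sK k L)), closure {p} = Z' :=
    VarietyLib.exists_genericPoint_of_component hZ'
  have hgen := VarietyLib.generalizing_genericPoints (VarietyLib.generalizingMap_fst k f L) hp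
  let Z : ι := ⟨closure {π p}, (genericPoints.component ⟨π p, hgen⟩).2⟩
  have e : π p = Z.2.1.genericPoint := by
    have h3 := Z.2.1.isGenericPoint_genericPoint isClosed_closure
    exact IsGenericPoint.eq isGenericPoint_closure h3
  exact FBaseLib.ResidueSplit.isIrreducible_preimage f _ (hφ Z) L (hL Z) p e K

end Groth.Agent.S4646
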