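import Groth.Statements.S4647
import Groth.Agent.H8Top.SchemeComponents

set_option autoImplicit false
open CategoryTheory AlgebraicGeometry
universe u
open FDesc

set_option backward.isDefEq.respectTransparency.types false
set_option backward.isDefEq.respectTransparency false

namespace Groth.Agent.S4647


/-- Let f : X → Y be a faithfully flat (flat and surjective) morphism. If all local rings of X are
domains (in particular if X is locally integral) and the underlying space of Y is locally
Noetherian, then Y is locally integral: every point of Y has an open neighbourhood which is an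
integral scheme. -/
theorem result {X Y : Scheme.{u}} (f : X ⟶ Y) [Flat f] [Surjective f]
    (hX : ∀ x : X, IsDomain ↑(X.presheaf.stalk x))
    (hY : ∀ y : Y, ∃ U : Y.Opens, y ∈ U ∧ TopologicalSpace.NoetherianSpace ↥U) (y : Y) :
    ∃ U : Y.Opens, y ∈ U ∧ IsIntegral (U : Scheme.{u}) := by
  have hdom : ∀ z : Y, IsDomain (Y.presheaf.stalk z) := by
    intro z
    obtain ⟨x, rfl⟩ := f.surjective z
    haveI := hX x
    algebraize [(f.stalkMap x).hom]
    have : Module.FaithfullyFlat (Y.presheaf.stalk (f x)) (X.presheaf.stalk x) :=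
      @Module.FaithfullyFlat.of_flat_of_isLocalHom _ _ _ _ _ _ _
        (Flat.stalkMap f x) (f.toLRSHom.prop x)
    exact (‹RingHom.FaithfullyFlat _›.injective).isDomain (f.stalkMap x).hom
  haveI : ∀ z : Y, _root_.IsReduced (Y.presheaf.stalk z) := fun z => haveI := hdom z; inferInstance
  haveI : IsReduced Y := isReduced_of_isReduced_stalk Y
  obtain ⟨U, hyU, hU⟩ := hY y
  haveI := hU
  let V : Scheme.{u} := U
  haveI : TopologicalSpace.NoetherianSpace ↥V := hU
  have hprime : (nilradical (V.presheaf.stalk (⟨y, hyU⟩ : U))).IsPrime := by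
    haveI := hdom y
    haveI : IsDomain (V.presheaf.stalk (⟨y, hyU⟩ : U)) :=
      Function.Injective.isDomain (U.stalkIso ⟨y, hyU⟩).hom.hom
        (U.stalkIso ⟨y, hyU⟩).commRingCatIsoToRingEquiv.injective
    rw [nilradical_eq_zero]
    exact Ideal.isPrime_bot
  rw [H8Top.nilradical_stalk_isPrime_iff] at hprime
  let Z₀ := irreducibleComponent (⟨y, hyU⟩ : V)
  let C : Set V := ⋃ Z ∈ (irreducibleComponents V \ {Z₀}), Z
  have hC : IsClosed C := (TopologicalSpace.NoetherianSpace.finite_irreducibleComponents.subset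
    Set.sdiff_subset).isClosed_biUnion fun Z hZ => isClosed_of_mem_irreducibleComponents Z hZ.1
  have hsub : Cᶜ ⊆ Z₀ := by
    intro z hz
    by_contra hzZ
    refine hz (Set.mem_biUnion (x := irreducibleComponent z) ⟨irreducibleComponent_mem_irreducibleComponents z, ?_⟩
      mem_irreducibleComponent)
    intro h
    exact hzZ ((Set.mem_singleton_iff.1 h) ▸ mem_irreducibleComponent)
  have hy : (⟨y, hyU⟩ : V) ∈ Cᶜ := by
    intro h
    obtain ⟨Z, ⟨hZ, hne⟩, hyZ⟩ := Set.mem_iUnion₂.1 h
    exact hne (hprime Z hZ _ (irreducibleComponent_mem_irreducibleComponents _) hyZ mem_irreducibleComponent)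
  let W : Y.Opens := U.ι ''ᵁ ⟨Cᶜ, hC.isOpen_compl⟩
  have hyW : y ∈ W := ⟨⟨y, hyU⟩, hy, rfl⟩
  refine ⟨W, hyW, ?_⟩
  have hirr : IsIrreducible (W : Set Y) :=
    IsIrreducible.image ⟨⟨_, hy⟩, isIrreducible_irreducibleComponent.isPreirreducible.open_subset
      hC.isOpen_compl hsub⟩ _ U.ι.continuous.continuousOn
  haveI : IrreducibleSpace ↥(W : Scheme.{u}) := Subtype.irreducibleSpace hirr
  haveI : IsReduced (W : Scheme.{u}) := isReduced_of_isOpenImmersion W.ι
  exact isIntegral_of_irreducibleSpace_of_isReduced _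

end Groth.Agent.S4647
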