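import Groth.Statements.S4648
import Groth.Agent.Desc19b.QuasiFlat

set_option autoImplicit false
open CategoryTheory AlgebraicGeometry
universe u
open FDesc

namespace Groth.Agent.S4648

/-- Let f : X → Y be a quasi-flat, surjective and quasi-compact morphism and Z a subset of Y. Then Z is
a locally closed pro-constructible subset of Y if and only if f⁻¹(Z) is a locally closed
pro-constructible subset of X. -/
theorem result {X Y : Scheme.{u}} (f : X ⟶ Y)
    (hf : FDesc.IsQuasiFlat f) [Surjective f] [QuasiCompact f] (Z : Set ↥Y) :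
    (IsLocallyClosed Z ∧ ProCons.IsProConstructible Z) ↔
      (IsLocallyClosed (⇑f ⁻¹' Z) ∧ ProCons.IsProConstructible (⇑f ⁻¹' Z)) := by
  have hg := Groth.Agent.Desc19b.generalizingMap_of_isQuasiFlat hf
  refine ⟨fun h => ⟨h.1.preimage f.continuous, Groth.Agent.H8ProCons.isProConstructible_preimage f h.2⟩, fun h => ?_⟩
  have hZ : ProCons.IsProConstructible Z := by
    have := Groth.Agent.H8ProCons.isProConstructible_image f h.2
    rwa [Set.image_preimage_eq _ f.surjective] at this
  refine ⟨?_, hZ⟩
  have hpre := Groth.Agent.Desc19b.preimage_closure_of_generalizing f hg hZ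
  have hq := Groth.Agent.Desc19b.isQuotientMap_of_generalizing f hg
  have hcl : IsClosed (closure Z \ Z) := by
    rw [← hq.isClosed_preimage, Set.preimage_sdiff, hpre, ← compl_compl (closure (⇑f ⁻¹' Z) \ ⇑f ⁻¹' Z), isClosed_compl_iff]
    exact h.1.isOpen_coborder
  exact isLocallyClosed_iff_isOpen_coborder.2 hcl.isOpen_compl

end Groth.Agent.S4648
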