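import Groth.Statements.S4652
import Groth.Agent.Props12.FinLocFree
import Groth.Agent.EGA43.FibDepth.LociScheme
import Groth.Agent.AmpleLib.Relative

set_option autoImplicit false
open CategoryTheory AlgebraicGeometry
universe u
open FDesc

set_option backward.isDefEq.respectTransparency.types false
set_option backward.isDefEq.respectTransparency false

namespace Groth.Agent.S4652


/-- Let X be a scheme, F a finitely presented O_X-module and x a point of X. Then F_x is a flat module
over the local ring O_{X,x} if and only if x has an open neighbourhood U such that the restriction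
of F to U is finite locally free. -/
theorem result {X : Scheme.{u}} (F : X.Modules) (hF : CohB1.IsFP F) (x : X) :
    FlatMod.IsFlatAt F x ↔ ∃ U : X.Opens, x ∈ U ∧ FlatMod.IsFinLocFree ((Scheme.Modules.pullback U.ι).obj F) := by
  haveI : Coh.IsQCoh F := EGA43.FibDepth.isQCoh_of_isFP F hF
  constructor
  · intro h
    haveI : Module.Flat (X.presheaf.stalk x) (F.presheaf.stalk x) := h
    haveI : SheafOfModules.IsFinitePresentation (R := X.ringCatSheaf) F := hF
    haveI := Props12.finite_stalk_of_isFT F (inferInstance : CohB1.IsFT F) x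
    obtain ⟨U, n, hx, ⟨e⟩⟩ := Props12.exists_nhd_free F hF x Module.free_of_flat_of_isLocalRing
    refine ⟨U, hx, fun y => ⟨⊤, n, trivial, ⟨?_⟩⟩⟩
    haveI := (Scheme.Modules.pullbackPushforwardAdjunction (⊤ : (U : Scheme.{u}).Opens).ι).leftAdjoint_preservesColimits
    exact (Scheme.Modules.restrictFunctorIsoPullback (⊤ : (U : Scheme.{u}).Opens).ι).app _ ≪≫
      (Scheme.Modules.pullback _).mapIso (((Scheme.Modules.restrictFunctorIsoPullback U.ι).app F).symm ≪≫ e) ≪≫
      Limits.PreservesCoproduct.iso (Scheme.Modules.pullback _) _ ≪≫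
      Limits.Sigma.mapIso fun _ => (AmpleLib.exists_pullStructureIso (⊤ : (U : Scheme.{u}).Opens).ι).some
  · rintro ⟨U, hx, hU⟩
    obtain ⟨V, n, hxV, ⟨e⟩⟩ := hU ⟨x, hx⟩
    let e' : ((F.restrict U.ι).restrict V.ι) ≅ FlatMod.freeMod V.toScheme n :=
      (Scheme.Modules.restrictFunctor V.ι).mapIso ((Scheme.Modules.restrictFunctorIsoPullback U.ι).app F) ≪≫ e
    obtain ⟨W, hW, hxW, hWV⟩ := TopologicalSpace.Opens.isBasis_iff_nbhd.mp (U : Scheme.{u}).isBasis_affineOpens hxV
    obtain ⟨b⟩ := Props12.exists_basis_sections e' hWV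
    let _ := Module.compHom Γ(F, U.ι ''ᵁ W) (U.ι.appIso W).inv.hom
    let l : Γ(F.restrict U.ι, W) ≃ₗ[Γ(U.toScheme, W)] Γ(F, U.ι ''ᵁ W) :=
      { (F.restrictAppIso U.ι W).addCommGroupIsoToAddEquiv with
        map_smul' := fun r m => by
          change (F.restrictAppIso U.ι _).hom (r • m) = _
          exact Scheme.Modules.smul_restrictAppIso_hom_apply U.ι F W r m }
    let b₁ : Module.Basis (Fin n) Γ(X, U.ι ''ᵁ W) Γ(F, U.ι ''ᵁ W) :=
      (b.map l).mapCoeffs (U.ι.appIso W).symm.commRingCatIsoToRingEquiv fun _ _ => rfl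
    haveI := Module.Free.of_basis b₁
    haveI : Module.Flat Γ(X, U.ι ''ᵁ W) Γ(F, U.ι ''ᵁ W) := Module.Flat.of_free
    exact Props12.flat_stalk_of_flat_sections F (hW.image_of_isOpenImmersion U.ι) ⟨⟨x, hx⟩, hxW, rfl⟩

end Groth.Agent.S4652
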