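import Groth.Statements.S4653
import Groth.Agent.CAlgH3.FlatSupportMaximal

set_option autoImplicit false
open CategoryTheory AlgebraicGeometry
universe u
open FDesc

namespace Groth.Agent.S4653

/-- Let f : X → Y be a morphism of schemes, F a quasi-coherent O_X-module of finite type which is flat
over Y, E a quasi-coherent O_Y-module of finite type, and x a point of X with image y. Then x is a
maximal point of the support of f^*E ⊗ F (a point of the support admitting no proper generization in
it) if and only if y is a maximal point of Supp E and x, viewed in the fibre f⁻¹(y), is a maximal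
point of the support of the restriction of F to that fibre. -/
theorem result {X Y : Scheme.{u}} (f : X ⟶ Y) (F : X.Modules) (hF : Coh.IsCoh F)
    (hfl : FlatMod.IsFlatOver f F) (E : Y.Modules) (hE : Coh.IsCoh E) (x : X) :
    (x ∈ CohB1.support (CohB1.tensorMod ((Scheme.Modules.pullback f).obj E) F) ∧
        ∀ z ∈ CohB1.support (CohB1.tensorMod ((Scheme.Modules.pullback f).obj E) F), z ⤳ x → z = x) ↔
      ((f x ∈ CohB1.support E ∧ ∀ w ∈ CohB1.support E, w ⤳ f x → w = f x) ∧
        (f.asFiber x ∈ CohB1.support ((Scheme.Modules.pullback (f.fiberι (f x))).obj F) ∧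
          ∀ z ∈ CohB1.support ((Scheme.Modules.pullback (f.fiberι (f x))).obj F), z ⤳ f.asFiber x → z = f.asFiber x)) := by
  have hFt : CohB1.IsFT F := hF.2
  have hEt : CohB1.IsFT E := hE.2
  have hsupp : CohB1.support (CohB1.tensorMod ((Scheme.Modules.pullback f).obj E) F) =
      f.base ⁻¹' CohB1.support E ∩ CohB1.support F := by
    rw [SuppTensor.support_tensorMod _ _ (haveI : Coh.IsQCoh E := hE.1; EGA43.InjFibre.isQCoh_pullback _ _)
      (Coherent.isFT_pullback_qcoh _ hE.1 hEt) hF.1 hFt, Coherent.support_pullback_qcoh _ hE.1 hEt]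
  have hfib : CohB1.support ((Scheme.Modules.pullback (f.fiberι (f x))).obj F) =
      (f.fiberι (f x)).base ⁻¹' CohB1.support F := Coherent.support_pullback_qcoh _ hF.1 hFt
  rw [hsupp, hfib]
  constructor
  · rintro ⟨⟨hxE, hxF⟩, hmax⟩
    refine ⟨⟨hxE, fun w hwE hw => ?_⟩, ⟨?_, fun z hz hzx => ?_⟩⟩
    · obtain ⟨z, hzx, rfl, hzF⟩ := CAlgH3.FlatSupportMaximal.exists_gen f hF.1 hFt (hfl x) hxF hw
      rw [hmax z ⟨hwE, hzF⟩ hzx]
    · rw [Set.mem_preimage, Scheme.Hom.fiberι_asFiber]; exact hxF
    · apply (f.fiberι (f x)).isEmbedding.injective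
      rw [Scheme.Hom.fiberι_asFiber]
      refine hmax _ ⟨?_, hz⟩ ?_
      · rw [Set.mem_preimage]
        have : f ((f.fiberι (f x)) z) = f x := by
          have : (f.fiberι (f x)) z ∈ Set.range (f.fiberι (f x)) := ⟨z, rfl⟩
          rw [Scheme.Hom.range_fiberι] at this
          exact this
        exact this.symm ▸ hxE
      · have := hzx.map (f.fiberι (f x)).continuous
        rwa [Scheme.Hom.fiberι_asFiber] at this
  · rintro ⟨⟨hxE, hmaxE⟩, ⟨hxF, hmaxF⟩⟩
    rw [Set.mem_preimage, Scheme.Hom.fiberι_asFiber] at hxF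
    refine ⟨⟨hxE, hxF⟩, fun z hz hzx => ?_⟩
    have hfz : f z = f x := hmaxE _ hz.1 (hzx.map f.continuous)
    obtain ⟨z', rfl⟩ : z ∈ Set.range (f.fiberι (f x)) := by rw [Scheme.Hom.range_fiberι]; exact hfz
    rw [hmaxF z' hz.2 ((f.fiberι (f x)).isEmbedding.isInducing.specializes_iff.1
      (by rw [Scheme.Hom.fiberι_asFiber]; exact hzx)), Scheme.Hom.fiberι_asFiber]

end Groth.Agent.S4653
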