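import Groth.Statements.S4657
import Groth.Agent.AssSch12.OpenRestrict

set_option autoImplicit false
open CategoryTheory AlgebraicGeometry
universe u
open AssSch

namespace Groth.Agent.S4657

/-- Let X be a locally Noetherian scheme, U an open subset of X and F a coherent O_X-module such that U
∩ Supp F is dense in Supp F. Then F is a reduced module if and only if its restriction to U is a
reduced module and F has no embedded associated points. -/
theorem result {X : Scheme.{u}} [IsLocallyNoetherian X] (U : X.Opens) (F : X.Modules)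
    (hF : Coh.IsCoh F) (hdense : CohB1.support F ⊆ closure ((U : Set ↥X) ∩ CohB1.support F)) :
    AssSch.IsReducedMod F ↔ AssSch.IsReducedMod ((Scheme.Modules.pullback U.ι).obj F) ∧ AssSch.NoEmbedded F := by
  open Groth.Agent.AssSch12 in
  constructor
  · rintro ⟨hne, hlen⟩
    refine ⟨⟨fun a ha b hb hs => U.ι.isEmbedding.injective ?_, fun a ha => ?_⟩, hne⟩
    · exact hne _ ((ass_restrict_iff U F a).1.1 ha) _ ((ass_restrict_iff U F b).1.1 hb)
        (hs.map U.ι.continuous)
    · rw [(ass_restrict_iff U F a).2]
      exact hlen _ ((ass_restrict_iff U F a).1.1 ha)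
  · rintro ⟨⟨-, hlen⟩, hne⟩
    refine ⟨hne, fun x hx => ?_⟩
    have hxU := ass_subset_of_dense U F hF hdense hne hx
    obtain ⟨z, rfl⟩ : x ∈ Set.range U.ι := by rw [Scheme.Opens.range_ι]; exact hxU
    rw [← (ass_restrict_iff U F z).2]
    exact hlen z ((ass_restrict_iff U F z).1.2 hx)

end Groth.Agent.S4657
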