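import Groth.Statements.S4663
import Groth.Agent.DimLib.BaseChange

set_option autoImplicit false
open CategoryTheory AlgebraicGeometry
universe u
open FBase

namespace Groth.Agent.S4663

/-- Let X be a scheme locally of finite type over a field k, K an extension field of k, and Z an
irreducible closed subset of X. Then every irreducible component of the inverse image of Z in X ⊗_k
K has the same dimension as Z (Krull dimensions of the underlying topological spaces, valued in
WithBot ℕ∞). (In the published statement Z is a cycle associated to a quasi-coherent O_X-module,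
with its reduced subscheme structure, and the components are those of Z ⊗_k K; such cycles are
exactly the irreducible closed subsets of X, and Z ⊗_k K has the inverse image of Z as underlying
space.) -/
theorem result {k K : Type u} [Field k] [Field K] [Algebra k K]
    {X : Scheme.{u}} (f : X ⟶ Spec (CommRingCat.of k)) [LocallyOfFiniteType f]
    (Z : Set ↥X) (hZc : IsClosed Z) (hZi : IsIrreducible Z)
    (W : Set ↥(⇑(FBase.bcπ f K) ⁻¹' Z)) (hW : W ∈ irreducibleComponents ↥(⇑(FBase.bcπ f K) ⁻¹' Z)) :
    topologicalKrullDim ↥W = topologicalKrullDim ↥Z := by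
  open Groth.Agent.DimLib in
  obtain ⟨η, hη⟩ := QuasiSober.sober hZi hZc
  rw [topologicalKrullDim_eq_ptDim_of_isGenericPoint f hη]
  have : Flat (bcFst f K) := inferInstanceAs (Flat (Limits.pullback.fst _ _))
  refine (forall_components_subset_iff (Groth.Agent.DimLib.bcStr f K) (S := bcFst f K ⁻¹' Z)
    (hZc.preimage (bcFst f K).continuous).isLocallyClosed (fun e => e = (ptDim f η : WithBot ℕ∞))).2
    (fun z hz hmax => ?_) W hW
  obtain ⟨z', hz', he⟩ := Flat.generalizingMap (f := bcFst f K) (hη.specializes hz)
  obtain rfl := hmax z' (by show bcFst f K z' ∈ Z; rw [he]; exact hη.mem) hz'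
  rw [ptDim_bc_eq_of_maximal f K (fun w hw e => hmax w (by show bcFst f K w ∈ Z; rw [e]; exact hz) hw), he]

end Groth.Agent.S4663
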