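import Groth.Statements.S4673
import Groth.Agent.DimLib.BaseChange

set_option autoImplicit false
open CategoryTheory AlgebraicGeometry
universe u
open FBase

namespace Groth.Agent.S4673

/-- Let X be a scheme locally of finite type over a field k and K an extension field of k. Then the set
of dimensions of the irreducible components of X ⊗_k K is equal to the set of dimensions of the
irreducible components of X (Krull dimensions of the underlying spaces, valued in WithBot ℕ∞). -/
theorem result {k K : Type u} [Field k] [Field K] [Algebra k K]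
    {X : Scheme.{u}} (f : X ⟶ Spec (CommRingCat.of k)) [LocallyOfFiniteType f] :
    (fun Z : Set ↥(FBase.bc f K) => topologicalKrullDim ↥Z) '' irreducibleComponents ↥(FBase.bc f K) =
      (fun Z : Set ↥X => topologicalKrullDim ↥Z) '' irreducibleComponents ↥X := by
  open Groth.Agent.DimLib in
  have : Flat (bcFst f K) := inferInstanceAs (Flat (Limits.pullback.fst _ _))
  change (fun Z : Set ↥(Limits.pullback f (Spec.map (CommRingCat.ofHom (algebraMap k K)))) => topologicalKrullDim ↥Z) ''
    irreducibleComponents ↥(Limits.pullback f (Spec.map (CommRingCat.ofHom (algebraMap k K)))) = _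
  ext D
  constructor
  · rintro ⟨Z, hZ, rfl⟩
    obtain ⟨ζ, hζ, hmax⟩ := exists_genericPoint_of_mem_components hZ
    refine ⟨_, closure_mem_components (isMax_apply_of_flat (bcFst f K) hmax), ?_⟩
    dsimp only
    rw [topologicalKrullDim_eq_ptDim_of_isGenericPoint f isGenericPoint_closure,
      topologicalKrullDim_eq_ptDim_of_isGenericPoint (Groth.Agent.DimLib.bcStr f K) hζ,
      ptDim_bc_eq_of_maximal f K (fun w hw _ => hmax w hw)]
  · rintro ⟨Z, hZ, rfl⟩
    obtain ⟨ξ, hξ, hmax⟩ := exists_genericPoint_of_mem_components hZ
    obtain ⟨z, hz, e⟩ := exists_bc_point f K ξ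
    obtain ⟨ζ, hζ, hζmax⟩ := exists_maximal_specializes z
    have hx : bcFst f K ζ = ξ := (hmax _ (hz ▸ hζ.map (bcFst f K).continuous)).symm
    refine ⟨_, closure_mem_components hζmax, ?_⟩
    dsimp only
    rw [topologicalKrullDim_eq_ptDim_of_isGenericPoint f hξ,
      topologicalKrullDim_eq_ptDim_of_isGenericPoint (Groth.Agent.DimLib.bcStr f K) isGenericPoint_closure,
      ptDim_bc_eq_of_maximal f K (fun w hw _ => hζmax w hw), hx]

end Groth.Agent.S4673
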