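import Groth.Statements.S4675
import Mathlib.Algebra.Module.Submodule.Equiv
import Mathlib.Algebra.Module.Submodule.Ker

set_option autoImplicit false
universe u v
open FDesc

namespace Groth.Agent.S4675

/-- Let B be a ring, not necessarily commutative, and V, W two left B-modules which are isomorphic. For
a B-linear map u : V → W the following are equivalent: every B-linear map V → W can be written
uniquely as u ∘ c with c a B-linear endomorphism of V (that is, u is a basis of Hom_B(V, W) for its
right module structure over End_B(V)); u is bijective. -/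
theorem result {B : Type u} [Ring B] {V W : Type v} [AddCommGroup V] [AddCommGroup W]
    [Module B V] [Module B W] (e : V ≃ₗ[B] W) (u : V →ₗ[B] W) :
    (∀ v : V →ₗ[B] W, ∃! c : V →ₗ[B] V, v = u ∘ₗ c) ↔ Function.Bijective u := by
  constructor
  · intro h
    obtain ⟨c, hc, -⟩ := h e.toLinearMap
    refine ⟨?_, fun w => ⟨c (e.symm w), by simpa using (LinearMap.congr_fun hc (e.symm w)).symm⟩⟩
    obtain ⟨c0, hc0, huniq⟩ := h 0
    intro x y hxy
    let d : V →ₗ[B] V := c ∘ₗ e.symm.toLinearMap ∘ₗ u - LinearMap.id
    have hd : u ∘ₗ d = 0 := by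
      ext z
      have := LinearMap.congr_fun hc (e.symm (u z))
      simp at this
      simp [d, ← this]
    have hd0 : d = 0 := (huniq d hd.symm).trans (huniq 0 (by simp)).symm
    have h1 := LinearMap.congr_fun hd0 x
    have h2 := LinearMap.congr_fun hd0 y
    simp [d, sub_eq_zero] at h1 h2
    rw [← h1, ← h2, hxy]
  · intro h v
    refine ⟨(LinearEquiv.ofBijective u h).symm.toLinearMap ∘ₗ v, ?_, fun c hc => ?_⟩
    · ext x; exact ((LinearEquiv.ofBijective u h).apply_symm_apply (v x)).symm
    · ext x; apply h.1
      exact (LinearMap.congr_fun hc x).symm.trans ((LinearEquiv.ofBijective u h).apply_symm_apply (v x)).symm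

end Groth.Agent.S4675
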