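import Groth.Statements.S4678
import Groth.Agent.Desc19b.FlatOverBC
import Groth.Agent.ModStalk.Tensor

set_option autoImplicit false
open CategoryTheory AlgebraicGeometry
universe u
open FDesc

namespace Groth.Agent.S4678

open CategoryTheory.Limits in
/-- Let f : X → Y, g : Y' → Y and h : Y' → Z be morphisms of schemes, X' = X ×_Y Y' with projections p :
X' → X and q : X' → Y', and x' a point of X'. Let F be a quasi-coherent O_X-module which is flat
over Y at p(x') and G' a quasi-coherent O_{Y'}-module which is flat over Z at q(x'). Then the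
O_{X'}-module p^*F ⊗ q^*G' is flat over Z at x', for the structure morphism q followed by h. -/
theorem result {X Y Y' Z : Scheme.{u}} (f : X ⟶ Y) (g : Y' ⟶ Y) (h : Y' ⟶ Z)
    (F : X.Modules) (hF : Coh.IsQCoh F) (G' : Y'.Modules) (hG' : Coh.IsQCoh G') (x' : ↥(pullback f g))
    (hFx : FlatMod.IsFlatOverAt f F (pullback.fst f g x')) (hGy : FlatMod.IsFlatOverAt h G' (pullback.snd f g x')) :
    FlatMod.IsFlatOverAt (pullback.snd f g ≫ h) (CohB1.tensorMod ((Scheme.Modules.pullback (pullback.fst f g)).obj F) ((Scheme.Modules.pullback (pullback.snd f g)).obj G')) x' := by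
  let x := pullback.fst f g x'
  let y' := pullback.snd f g x'
  let M' := (Scheme.Modules.pullback (pullback.fst f g)).obj F
  let N' := (Scheme.Modules.pullback (pullback.snd f g)).obj G'
  have hM : FlatMod.IsFlatOverAt (pullback.snd f g) M' x' :=
    Groth.Agent.Desc19b.isFlatOverAt_baseChange f _ _ g (IsPullback.of_hasPullback f g) F x' hFx
  let T := CohB1.tensorMod M' N'
  letI : Algebra (Y'.presheaf.stalk y') ((pullback f g).presheaf.stalk x') := ((pullback.snd f g).stalkMap x').hom.toAlgebra
  letI : Algebra (Z.presheaf.stalk (h y')) (Y'.presheaf.stalk y') := (h.stalkMap y').hom.toAlgebra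
  letI : Algebra (Z.presheaf.stalk (h y')) ((pullback f g).presheaf.stalk x') := ((pullback.snd f g ≫ h).stalkMap x').hom.toAlgebra
  haveI : IsScalarTower (Z.presheaf.stalk (h y')) (Y'.presheaf.stalk y') ((pullback f g).presheaf.stalk x') := .of_algebraMap_eq fun r => by
    show ((pullback.snd f g ≫ h).stalkMap x').hom r = ((pullback.snd f g).stalkMap x').hom ((h.stalkMap y').hom r)
    rw [Scheme.Hom.stalkMap_comp]
    rfl
  letI := FlatMod.moduleStalkOver (pullback.snd f g) M' x'
  letI := FlatMod.moduleStalkOver h G' y'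
  letI : Module (Z.presheaf.stalk (h y')) (M'.presheaf.stalk x') := FlatMod.moduleStalkOver (pullback.snd f g ≫ h) M' x'
  haveI : IsScalarTower (Y'.presheaf.stalk y') ((pullback f g).presheaf.stalk x') (M'.presheaf.stalk x') := .of_algebraMap_smul fun _ _ => rfl
  haveI : IsScalarTower (Z.presheaf.stalk (h y')) ((pullback f g).presheaf.stalk x') (M'.presheaf.stalk x') := .of_algebraMap_smul fun _ _ => rfl
  haveI : IsScalarTower (Z.presheaf.stalk (h y')) (Y'.presheaf.stalk y') (M'.presheaf.stalk x') := .of_algebraMap_smul fun r m => by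
    show algebraMap (Y'.presheaf.stalk y') ((pullback f g).presheaf.stalk x') (algebraMap (Z.presheaf.stalk (h y')) (Y'.presheaf.stalk y') r) • m = algebraMap (Z.presheaf.stalk (h y')) ((pullback f g).presheaf.stalk x') r • m
    rw [← IsScalarTower.algebraMap_apply]
  haveI : IsScalarTower (Z.presheaf.stalk (h y')) (Y'.presheaf.stalk y') (G'.presheaf.stalk y') := .of_algebraMap_smul fun _ _ => rfl
  haveI : Module.Flat (Y'.presheaf.stalk y') (M'.presheaf.stalk x') := hM
  haveI : Module.Flat (Z.presheaf.stalk (h y')) (G'.presheaf.stalk y') := hGy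
  haveI := Groth.Agent.Desc19b.flat_tensor_of_flat_flat (C := Z.presheaf.stalk (h y')) (B := Y'.presheaf.stalk y') (M'.presheaf.stalk x') (G'.presheaf.stalk y')
  let eN : N'.presheaf.stalk x' ≃ₗ[(pullback f g).presheaf.stalk x'] TensorProduct (Y'.presheaf.stalk y') ((pullback f g).presheaf.stalk x') (G'.presheaf.stalk y') :=
    ((Groth.Agent.ModStalk.pullbackStalkIso (pullback.snd f g) x').app G').toLinearEquiv
  let eT : T.presheaf.stalk x' ≃ₗ[(pullback f g).presheaf.stalk x'] TensorProduct ((pullback f g).presheaf.stalk x') (M'.presheaf.stalk x') (N'.presheaf.stalk x') :=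
    (Groth.Agent.ModStalk.stalkTensorIso x' M' N').toLinearEquiv
  let e := eT.trans ((TensorProduct.AlgebraTensorModule.congr (LinearEquiv.refl _ _) eN).trans (TensorProduct.AlgebraTensorModule.cancelBaseChange (Y'.presheaf.stalk y') ((pullback f g).presheaf.stalk x') ((pullback f g).presheaf.stalk x') (M'.presheaf.stalk x') (G'.presheaf.stalk y')))
  letI : Module (Z.presheaf.stalk (h y')) (T.presheaf.stalk x') := FlatMod.moduleStalkOver (pullback.snd f g ≫ h) T x'
  haveI : IsScalarTower (Z.presheaf.stalk (h y')) ((pullback f g).presheaf.stalk x') (T.presheaf.stalk x') := .of_algebraMap_smul fun _ _ => rfl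
  show Module.Flat (Z.presheaf.stalk (h y')) (T.presheaf.stalk x')
  exact Module.Flat.of_linearEquiv (e.restrictScalars (Z.presheaf.stalk (h y')))

end Groth.Agent.S4678
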