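import Groth.Statements.S4679
import Groth.Agent.RelPerfH3.TensorFF
import Groth.Agent.S4678
import Groth.Agent.S4680

set_option autoImplicit false
open CategoryTheory AlgebraicGeometry
universe u
open FDesc

set_option backward.isDefEq.respectTransparency false
set_option backward.isDefEq.respectTransparency.types false

namespace Groth.Agent.S4679

open CategoryTheory.Limits in
/-- Let f : X → Y, g : Y' → Y and h : Y' → Z be morphisms of schemes and X' = X ×_Y Y' with projections
p : X' → X, q : X' → Y'. Call a quasi-coherent module M on a scheme T faithfully flat relative to a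
morphism t : T → B when M is flat over B and for every point b of B there is a point u of T over b
with M_u ⊗ κ(b) ≠ 0. Let F be a quasi-coherent O_X-module which is faithfully flat relative to Y and
G' a quasi-coherent O_{Y'}-module. Then G' is flat over Z if and only if p^*F ⊗ q^*G' is flat over Z
(for q followed by h); and G' is faithfully flat relative to Z if and only if p^*F ⊗ q^*G' is
faithfully flat relative to Z. -/
theorem result {X Y Y' Z : Scheme.{u}} (f : X ⟶ Y) (g : Y' ⟶ Y)
    (h : Y' ⟶ Z) (F : X.Modules) (hF : Coh.IsQCoh F) (hFfl : FlatMod.IsFlatOver f F)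
    (hFff : ∀ y : ↥Y, ∃ x : ↥X, f x = y ∧
      letI := FlatMod.moduleStalkOver f F x
      IsLocalRing.maximalIdeal (Y.presheaf.stalk (f x)) • (⊤ : Submodule (Y.presheaf.stalk (f x)) (F.presheaf.stalk x)) ≠ ⊤)
    (G' : Y'.Modules) (hG' : Coh.IsQCoh G') :
    (FlatMod.IsFlatOver h G' ↔ FlatMod.IsFlatOver (pullback.snd f g ≫ h) (CohB1.tensorMod ((Scheme.Modules.pullback (pullback.fst f g)).obj F) ((Scheme.Modules.pullback (pullback.snd f g)).obj G'))) ∧
    ((FlatMod.IsFlatOver h G' ∧ ∀ z : ↥Z, ∃ y' : ↥Y', h y' = z ∧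
        letI := FlatMod.moduleStalkOver h G' y'
        IsLocalRing.maximalIdeal (Z.presheaf.stalk (h y')) • (⊤ : Submodule (Z.presheaf.stalk (h y')) (G'.presheaf.stalk y')) ≠ ⊤) ↔
      (FlatMod.IsFlatOver (pullback.snd f g ≫ h) (CohB1.tensorMod ((Scheme.Modules.pullback (pullback.fst f g)).obj F) ((Scheme.Modules.pullback (pullback.snd f g)).obj G')) ∧
        ∀ z : ↥Z, ∃ x' : ↥(pullback f g), (pullback.snd f g ≫ h) x' = z ∧
          letI := FlatMod.moduleStalkOver (pullback.snd f g ≫ h) (CohB1.tensorMod ((Scheme.Modules.pullback (pullback.fst f g)).obj F) ((Scheme.Modules.pullback (pullback.snd f g)).obj G')) x'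
          IsLocalRing.maximalIdeal (Z.presheaf.stalk ((pullback.snd f g ≫ h) x')) •
            (⊤ : Submodule (Z.presheaf.stalk ((pullback.snd f g ≫ h) x')) ((CohB1.tensorMod ((Scheme.Modules.pullback (pullback.fst f g)).obj F) ((Scheme.Modules.pullback (pullback.snd f g)).obj G')).presheaf.stalk x')) ≠ ⊤)) := by
  obtain ⟨h1, h2⟩ := Groth.Agent.S4680.result f g F hF hFfl hFff
  let q := Limits.pullback.snd f g
  let M := (Scheme.Modules.pullback (Limits.pullback.fst f g)).obj F
  have key := fun x' => RelPerfH3.TensorFF.tensor_pullback_iff q h M G' x'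
  have hfwd : FlatMod.IsFlatOver h G' → FlatMod.IsFlatOver (q ≫ h) (CohB1.tensorMod M ((Scheme.Modules.pullback q).obj G')) :=
    fun hG x' => Groth.Agent.S4678.result f g h F hF G' hG' x' (hFfl _) (hG _)
  have hback : FlatMod.IsFlatOver (q ≫ h) (CohB1.tensorMod M ((Scheme.Modules.pullback q).obj G')) → FlatMod.IsFlatOver h G' := by
    intro hT y'
    obtain ⟨x', rfl, hne⟩ := h2 y'
    exact ((key x').1 (h1 x') hne).1 (hT x')
  refine ⟨⟨hfwd, hback⟩, ⟨fun ⟨hG, hz⟩ => ⟨hfwd hG, fun z => ?_⟩, fun ⟨hT, hz⟩ => ⟨hback hT, fun z => ?_⟩⟩⟩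
  · obtain ⟨y', rfl, hG0⟩ := hz z
    obtain ⟨x', rfl, hne⟩ := h2 y'
    exact ⟨x', rfl, ((key x').1 (h1 x') hne).2 hG0⟩
  · obtain ⟨x', rfl, hT0⟩ := hz z
    exact ⟨q x', rfl, (key x').2 hT0⟩

end Groth.Agent.S4679
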