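import Groth.Statements.S4681
import Mathlib.RingTheory.Flat.FaithfullyFlat.Basic

set_option autoImplicit false
open CategoryTheory AlgebraicGeometry
universe u
open FDesc

namespace Groth.Agent.S4681

/-- Let f : X → Y and g : Y → Z be morphisms of schemes and F a quasi-coherent O_X-module which is
faithfully flat relative to Y: flat over Y, and for every point y of Y there is a point x over y
with F_x ⊗ κ(y) ≠ 0. Then g is flat and surjective (faithfully flat) if and only if F is faithfully
flat relative to Z for the morphism f followed by g: flat over Z, and for every point z of Z there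
is a point x of X over z with F_x ⊗ κ(z) ≠ 0. -/
theorem result {X Y Z : Scheme.{u}} (f : X ⟶ Y) (g : Y ⟶ Z)
    (F : X.Modules) (hF : Coh.IsQCoh F) (hFfl : FlatMod.IsFlatOver f F)
    (hFff : (∀ y : ↥Y, ∃ x : ↥X, f x = y ∧
      letI := FlatMod.moduleStalkOver f F x
      IsLocalRing.maximalIdeal (Y.presheaf.stalk (f x)) • (⊤ : Submodule (Y.presheaf.stalk (f x)) (F.presheaf.stalk x)) ≠ ⊤)) :
    (Flat g ∧ Surjective g) ↔
      (FlatMod.IsFlatOver (f ≫ g) F ∧
        (∀ z : ↥Z, ∃ x : ↥X, (f ≫ g) x = z ∧
      letI := FlatMod.moduleStalkOver (f ≫ g) F x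
      IsLocalRing.maximalIdeal (Z.presheaf.stalk ((f ≫ g) x)) • (⊤ : Submodule (Z.presheaf.stalk ((f ≫ g) x)) (F.presheaf.stalk x)) ≠ ⊤)) := by
  have ff : ∀ y : Y, ∃ x : X, f x = y ∧ (letI := FlatMod.moduleStalkOver f F x; Module.FaithfullyFlat (Y.presheaf.stalk (f x)) (F.presheaf.stalk x)) := fun y => by
    obtain ⟨x, hx, hne⟩ := hFff y
    refine ⟨x, hx, ?_⟩
    letI := FlatMod.moduleStalkOver f F x
    haveI : Module.Flat (Y.presheaf.stalk (f x)) (F.presheaf.stalk x) := hFfl x
    exact ⟨fun {m} hm => by rw [IsLocalRing.eq_maximalIdeal hm]; exact hne⟩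
  constructor
  · rintro ⟨_, _⟩
    refine ⟨fun x => ?_, fun z => ?_⟩
    · letI : Algebra (Z.presheaf.stalk (g (f x))) (Y.presheaf.stalk (f x)) := (g.stalkMap (f x)).hom.toAlgebra
      letI := FlatMod.moduleStalkOver f F x
      letI : Module (Z.presheaf.stalk (g (f x))) (F.presheaf.stalk x) := FlatMod.moduleStalkOver (f ≫ g) F x
      haveI : IsScalarTower (Z.presheaf.stalk (g (f x))) (Y.presheaf.stalk (f x)) (F.presheaf.stalk x) := IsScalarTower.of_algebraMap_smul fun r n => by
        show (f.stalkMap x).hom ((g.stalkMap _).hom r) • n = ((f ≫ g).stalkMap x).hom r • n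
        rw [Scheme.Hom.stalkMap_comp]
        rfl
      haveI : Module.Flat (Y.presheaf.stalk (f x)) (F.presheaf.stalk x) := hFfl x
      haveI : Module.Flat (Z.presheaf.stalk (g (f x))) (Y.presheaf.stalk (f x)) := Flat.stalkMap g _
      show Module.Flat (Z.presheaf.stalk (g (f x))) (F.presheaf.stalk x)
      exact Module.Flat.trans (Z.presheaf.stalk (g (f x))) (Y.presheaf.stalk (f x)) (F.presheaf.stalk x)
    · obtain ⟨y, rfl⟩ := g.surjective z
      obtain ⟨x, rfl, hne⟩ := hFff y
      refine ⟨x, rfl, fun htop => hne ?_⟩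
      letI := FlatMod.moduleStalkOver f F x
      letI : Module (Z.presheaf.stalk (g (f x))) (F.presheaf.stalk x) := FlatMod.moduleStalkOver (f ≫ g) F x
      rw [eq_top_iff]
      intro n _
      have hn : n ∈ IsLocalRing.maximalIdeal (Z.presheaf.stalk (g (f x))) • (⊤ : Submodule (Z.presheaf.stalk (g (f x))) (F.presheaf.stalk x)) :=
        @Submodule.eq_top_iff' (Z.presheaf.stalk ((f ≫ g) x)) (F.presheaf.stalk x) _ _ (FlatMod.moduleStalkOver (f ≫ g) F x) _ |>.1 htop n
      refine Submodule.smul_induction_on hn (fun r hr m _ => ?_) (fun a b ha hb => add_mem ha hb)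
      have e : r • m = (g.stalkMap (f x)).hom r • m := by
        show ((f ≫ g).stalkMap x).hom r • m = (f.stalkMap x).hom ((g.stalkMap (f x)).hom r) • m
        rw [Scheme.Hom.stalkMap_comp]
        rfl
      rw [e]
      exact Submodule.smul_mem_smul (map_nonunit _ r hr) Submodule.mem_top
  · rintro ⟨h1, h2⟩
    refine ⟨Flat.of_stalkMap g fun y => ?_, ⟨fun z => ?_⟩⟩
    · obtain ⟨x, rfl, hffx⟩ := ff y
      letI : Algebra (Z.presheaf.stalk (g (f x))) (Y.presheaf.stalk (f x)) := (g.stalkMap (f x)).hom.toAlgebra
      letI := FlatMod.moduleStalkOver f F x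
      letI : Module (Z.presheaf.stalk (g (f x))) (F.presheaf.stalk x) := FlatMod.moduleStalkOver (f ≫ g) F x
      haveI : IsScalarTower (Z.presheaf.stalk (g (f x))) (Y.presheaf.stalk (f x)) (F.presheaf.stalk x) := IsScalarTower.of_algebraMap_smul fun r n => by
        show (f.stalkMap x).hom ((g.stalkMap _).hom r) • n = ((f ≫ g).stalkMap x).hom r • n
        rw [Scheme.Hom.stalkMap_comp]
        rfl
      haveI := hffx
      haveI : Module.Flat (Z.presheaf.stalk (g (f x))) (F.presheaf.stalk x) := h1 x
      show Module.Flat (Z.presheaf.stalk (g (f x))) (Y.presheaf.stalk (f x))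
      rw [Module.Flat.iff_lTensor_preserves_injective_linearMap]
      intro P Q _ _ _ _ v hv
      have hN := Module.Flat.lTensor_preserves_injective_linearMap (M := F.presheaf.stalk x) v hv
      let R := Z.presheaf.stalk (g (f x))
      let B := Y.presheaf.stalk (f x)
      let M := F.presheaf.stalk x
      have h3 : (TensorProduct.AlgebraTensorModule.lTensor B M v) = (TensorProduct.AlgebraTensorModule.cancelBaseChange R B B M Q).toLinearMap ∘ₗ ((TensorProduct.AlgebraTensorModule.lTensor B B v).lTensor M) ∘ₗ (TensorProduct.AlgebraTensorModule.cancelBaseChange R B B M P).symm.toLinearMap := by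
        ext b n
        show b ⊗ₜ v n = (TensorProduct.AlgebraTensorModule.cancelBaseChange R B B M Q) (((TensorProduct.AlgebraTensorModule.lTensor B B v).lTensor M) (b ⊗ₜ ((1 : B) ⊗ₜ n)))
        simp only [LinearMap.lTensor_tmul, TensorProduct.AlgebraTensorModule.lTensor_tmul]
        erw [TensorProduct.AlgebraTensorModule.cancelBaseChange_tmul]
        rw [one_smul]
      have h4 : Function.Injective (TensorProduct.AlgebraTensorModule.lTensor B M v) := hN
      rw [h3] at h4
      simp only [LinearMap.coe_comp, LinearEquiv.coe_coe] at h4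
      have h6 : Function.Injective ((TensorProduct.AlgebraTensorModule.lTensor B B v).lTensor M) :=
        (Function.Injective.of_comp_right (Function.Injective.of_comp h4) (LinearEquiv.surjective _))
      exact (Module.FaithfullyFlat.lTensor_injective_iff_injective B M (TensorProduct.AlgebraTensorModule.lTensor B B v)).1 h6
    · obtain ⟨x, rfl, -⟩ := h2 z
      exact ⟨f x, rfl⟩

end Groth.Agent.S4681
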