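import Groth.Statements.S4682
import Groth.Agent.FBaseLib.Geom
import Groth.Agent.Props12.KerReduced
-- import your own Groth.Agent.* helpers here

set_option autoImplicit false
set_option backward.isDefEq.respectTransparency.types false
open CategoryTheory AlgebraicGeometry
universe u
open FBase

namespace Groth.Agent.S4682

/-- Let Y be a scheme over a field K', let K be an extension field of K' which is separable over K'
(Spec K → Spec K' is geometrically reduced), let g : Y ⊗_{K'} K → Y be the projection and T a closed
subset of Y ⊗_{K'} K. Then T is defined over K' as a closed subset, that is T = g⁻¹(T') for some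
closed subset T' of Y, if and only if the reduced closed subscheme of Y ⊗_{K'} K with support T is
defined over K', that is, there is a quasi-coherent ideal sheaf of O_Y whose inverse image in Y
⊗_{K'} K is the vanishing ideal sheaf of T. -/
theorem result {K' K : Type u} [Field K'] [Field K] [Algebra K' K]
    {Y : Scheme.{u}} (fY : Y ⟶ Spec (CommRingCat.of K'))
    [GeometricallyReduced (Spec.map (CommRingCat.ofHom (algebraMap K' K)))]
    (T : TopologicalSpace.Closeds ↥(FBase.bc fY K)) :
    (∃ T' : TopologicalSpace.Closeds ↥Y, (T : Set ↥(FBase.bc fY K)) = ⇑(FBase.bcπ fY K) ⁻¹' (T' : Set ↥Y)) ↔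
      ∃ J : Y.IdealSheafData, J.comap (FBase.bcπ fY K) = Scheme.IdealSheafData.vanishingIdeal T := by
  let s := Spec.map (CommRingCat.ofHom (algebraMap K' K))
  constructor
  · rintro ⟨T', hT'⟩
    let J := Scheme.IdealSheafData.vanishingIdeal T'
    haveI : AlgebraicGeometry.IsReduced J.subscheme := Props12.isReduced_subscheme_vanishingIdeal _
    haveI : AlgebraicGeometry.IsReduced (Limits.pullback s (J.subschemeι ≫ fY)) :=
      FBaseLib.isReduced_pullback s (J.subschemeι ≫ fY)
    let e : (J.comap (FBase.bcπ fY K)).subscheme ≅ Limits.pullback s (J.subschemeι ≫ fY) :=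
      J.comapIso _ ≪≫ Limits.pullbackSymmetry _ _ ≪≫ Limits.pullbackRightPullbackFstIso fY s J.subschemeι ≪≫
        Limits.pullbackSymmetry _ _
    let I := J.comap (FBase.bcπ fY K)
    haveI : AlgebraicGeometry.IsReduced I.subscheme := isReduced_of_isOpenImmersion e.hom
    refine ⟨J, ?_⟩
    have h1 : I = Scheme.IdealSheafData.vanishingIdeal
        (TopologicalSpace.Closeds.closure (I.subschemeι '' (⊤ : TopologicalSpace.Closeds ↥I.subscheme))) := by
      rw [← Scheme.IdealSheafData.map_vanishingIdeal, Scheme.IdealSheafData.vanishingIdeal_top,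
        Scheme.nilradical_eq_bot, Scheme.IdealSheafData.map_bot, Scheme.IdealSheafData.ker_subschemeι]
    rw [show J.comap (FBase.bcπ fY K) = I from rfl, h1]
    congr 1
    ext1
    rw [TopologicalSpace.Closeds.coe_closure, TopologicalSpace.Closeds.coe_top, Set.image_univ,
      Scheme.IdealSheafData.range_subschemeι, I.support.isClosed.closure_eq, hT',
      Scheme.IdealSheafData.support_comap]
    rfl
  · rintro ⟨J, hJ⟩
    refine ⟨J.support, ?_⟩
    have h := congrArg Scheme.IdealSheafData.support hJ
    rw [Scheme.IdealSheafData.support_comap] at h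
    rw [show (T : Set ↥(FBase.bc fY K)) = ((Scheme.IdealSheafData.vanishingIdeal T).support : Set _) from
      (Scheme.IdealSheafData.coe_support_vanishingIdeal T).symm, ← h]
    rfl

end Groth.Agent.S4682
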