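import Groth.Statements.S4685
import Groth.Agent.AssSch12.FlatBase

set_option autoImplicit false
open CategoryTheory AlgebraicGeometry
universe u
open AssSch

namespace Groth.Agent.S4685

open CategoryTheory.Limits in
/-- Let f : X → S and g : Y → S be morphisms of schemes with X, Y and X ×_S Y locally Noetherian, F a
quasi-coherent O_X-module without embedded associated points, and G a quasi-coherent O_Y-module,
flat over S, whose restriction to every fibre g⁻¹(s) has no embedded associated points. Then F ⊗_S G
(the tensor product on X ×_S Y of the pull-backs of F and G along the two projections) has no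
embedded associated points. (The published statement assumes only X, the fibres of g and the schemes
Spec κ(x) ×_S Spec κ(y) locally Noetherian; this row assumes Y and X ×_S Y locally Noetherian, which
implies all of these, so that associated points are those whose maximal ideal is the annihilator of
an element of the stalk.) -/
theorem result {X Y S : Scheme.{u}} (f : X ⟶ S) (g : Y ⟶ S)
    [IsLocallyNoetherian X] [IsLocallyNoetherian Y] [IsLocallyNoetherian (pullback f g)]
    (F : X.Modules) (hF : Coh.IsQCoh F) (G : Y.Modules) (hG : Coh.IsQCoh G) (hGfl : FlatMod.IsFlatOver g G)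
    (hFne : AssSch.NoEmbedded F)
    (hGne : ∀ s : ↥S, AssSch.NoEmbedded ((Scheme.Modules.pullback (g.fiberι s)).obj G)) :
    AssSch.NoEmbedded (CohB1.tensorMod ((Scheme.Modules.pullback (pullback.fst f g)).obj F) ((Scheme.Modules.pullback (pullback.snd f g)).obj G)) := by
  open Groth.Agent.AssSch12 in
  intro z₂ h₂ z₁ h₁ hs
  obtain ⟨hx₁, hy₁, -⟩ := (mem_ass_two_iff f g z₁ F G (hGfl _)).1 h₁
  obtain ⟨hx₂, hy₂, hb₂⟩ := (mem_ass_two_iff f g z₂ F G (hGfl _)).1 h₂
  have hx := hFne _ hx₂ _ hx₁ (hs.map (pullback.fst f g).continuous)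
  obtain ⟨q₂, e₂⟩ : pullback.snd f g z₂ ∈ Set.range (g.fiberι (f (pullback.fst f g z₂))) :=
    (g.range_fiberι _).ge (fst_snd_eq f g z₂).symm
  obtain ⟨q₁, e₁⟩ : pullback.snd f g z₁ ∈ Set.range (g.fiberι (f (pullback.fst f g z₂))) :=
    (g.range_fiberι _).ge ((fst_snd_eq f g z₁).symm.trans (congrArg f hx.symm))
  have hq := hGne _ q₂ ((mem_ass_fiber_iff g G _ q₂).2 (by rw [e₂]; exact hy₂))
    q₁ ((mem_ass_fiber_iff g G _ q₁).2 (by rw [e₁]; exact hy₁))
    ((g.fiberι _).isEmbedding.isInducing.specializes_iff.1
      (by rw [e₁, e₂]; exact hs.map (pullback.snd f g).continuous))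
  have hy : pullback.snd f g z₁ = pullback.snd f g z₂ := by rw [← e₁, ← e₂, hq]
  exact (eq_of_specializes_pullback f g hs hx.symm hy hb₂).symm

end Groth.Agent.S4685
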