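import Groth.Statements.S4692
import Groth.Agent.EGA4Dim6.GenericFibre
import Groth.Agent.CAlgSmall.DimFormulaBounds
import Groth.Agent.EGA43.DimFormula.Levels

set_option autoImplicit false
universe u
open EGA4

namespace Groth.Agent.S4692

open AlgebraicGeometry CategoryTheory in
/-- Let Y be a locally Noetherian scheme all of whose local rings are universally catenary, X an
irreducible scheme, f : X → Y a morphism locally of finite type and n a natural number. If every
fibre of f has dimension at least n then dim X ≥ dim Y + n; if every fibre has dimension exactly n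
then dim X = dim Y + n. (The empty scheme has dimension ⊥, so either hypothesis forces f to be
surjective.) -/
theorem result {X Y : Scheme.{u}} (f : X ⟶ Y) [IsLocallyNoetherian Y]
    [LocallyOfFiniteType f] [IrreducibleSpace X] (hY : ∀ y : Y, CAlg.IsUniversallyCatenary (Y.presheaf.stalk y))
    (n : ℕ) :
    ((∀ y : Y, (n : WithBot ℕ∞) ≤ topologicalKrullDim (f.fiber y)) →
        topologicalKrullDim Y + n ≤ topologicalKrullDim X) ∧
      ((∀ y : Y, topologicalKrullDim (f.fiber y) = n) →
        topologicalKrullDim X = topologicalKrullDim Y + n) := by
  open Groth.Agent.EGA4Dim6 in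
  have key : (∀ y : Y, (n : WithBot ℕ∞) ≤ topologicalKrullDim (f.fiber y)) →
      topologicalKrullDim Y + n ≤ topologicalKrullDim X := by
    intro h
    haveI : Nonempty X := IrreducibleSpace.toNonempty
    have hsurj : Function.Surjective f.base := fun y => by
      by_contra hy
      have := le_bot_iff.1 ((h y).trans ((Groth.Agent.FlatMorDim.fiber_dim_le_bot_iff f y).2 hy))
      exact absurd this (by simp)
    haveI : IsDominant f := ⟨hsurj.denseRange⟩
    haveI : IrreducibleSpace Y :=
      { toPreirreducibleSpace := ⟨by
          have := ((IrreducibleSpace.isIrreducible_univ (↥X)).image f.base f.continuous.continuousOn).isPreirreducible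
          rwa [Set.image_univ, hsurj.range_eq] at this⟩
        toNonempty := Nonempty.map f.base inferInstance }
    have hn := h (genericPoint Y)
    rw [trdAt_generic f] at hn
    rw [dim_eq f hY]
    gcongr
    rw [Groth.Agent.DimLib.topologicalKrullDim_eq_krullDim, Order.krullDim_eq_iSup_coheight]
    exact iSup_le fun y => le_iSup₂_of_le y (hsurj y) (ringKrullDim_stalk_eq_coheight y).ge
  refine ⟨key, fun h => le_antisymm ?_ (key fun y => (h y).ge)⟩
  exact Groth.Agent.CAlgSmall.topologicalKrullDim_le_add f n fun ξ _ =>
    (Groth.Agent.FlatMorDim.fiber_dim_le_iff f (f ξ) n).1 (h (f ξ)).le ξ rfl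

end Groth.Agent.S4692
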