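import Groth.Statements.S4693
import Groth.Agent.CommAlg6.FlatLocalModule

set_option autoImplicit false
universe u
open EGA4

namespace Groth.Agent.S4693

/-- Let A → B be a local homomorphism of Noetherian local rings such that the closed fibre ring B/m_A B
has Krull dimension 0 (that is, m_A B is an ideal of definition of B). Then dim B ≤ dim A. If
moreover some finite B-module which is flat over A has support equal to all of Spec B (for instance
if B is flat over A), then dim B = dim A. -/
theorem result (A B : Type u) [CommRing A] [CommRing B] [IsNoetherianRing A]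
    [IsNoetherianRing B] [IsLocalRing A] [IsLocalRing B] [Algebra A B] [IsLocalHom (algebraMap A B)]
    (h0 : ringKrullDim (EGA4.FibRing A B) = 0) :
    ringKrullDim B ≤ ringKrullDim A ∧
      (∀ (N : Type u) [AddCommGroup N] [Module B N] [Module A N] [IsScalarTower A B N] [Module.Finite B N]
          [Module.Flat A N], Module.support B N = Set.univ → ringKrullDim B = ringKrullDim A) := by
  have hz : ((IsLocalRing.maximalIdeal B).map (Ideal.Quotient.mk (EGA4.mB A B))).height = 0 := by
    haveI : IsLocalRing (EGA4.FibRing A B) := .of_surjective' _ Ideal.Quotient.mk_surjective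
    have h := IsLocalRing.maximalIdeal_height_eq_ringKrullDim (R := EGA4.FibRing A B)
    rw [h0, ← WithBot.coe_zero, WithBot.coe_inj, ← IsLocalRing.map_maximalIdeal_of_surjective
      (Ideal.Quotient.mk (EGA4.mB A B)) Ideal.Quotient.mk_surjective] at h
    exact h
  haveI : (IsLocalRing.maximalIdeal B).LiesOver (IsLocalRing.maximalIdeal A) :=
    ⟨(Groth.Agent.CommAlg6.under_eq_maximalIdeal (A := A)
      Groth.Agent.CommAlg6.map_maximalIdeal_le).symm⟩
  have hle : ringKrullDim B ≤ ringKrullDim A := by
    rw [← IsLocalRing.maximalIdeal_height_eq_ringKrullDim,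
      ← IsLocalRing.maximalIdeal_height_eq_ringKrullDim, WithBot.coe_le_coe]
    have h := Ideal.height_le_height_add_of_liesOver (IsLocalRing.maximalIdeal A)
      (IsLocalRing.maximalIdeal B)
    rw [show (Ideal.map (algebraMap A B) (IsLocalRing.maximalIdeal A)) = EGA4.mB A B from rfl, hz,
      add_zero] at h
    exact h
  refine ⟨hle, fun N _ _ _ _ _ _ hsupp => le_antisymm hle ?_⟩
  haveI : Nontrivial N := by
    rcases subsingleton_or_nontrivial N with h | h
    · exact absurd (hsupp ▸ Set.mem_univ (IsLocalRing.closedPoint B))
        (by rw [Module.support_eq_empty_iff.2 h]; simp)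
    · exact h
  have h := Groth.Agent.CommAlg6.supportDim_tensor_eq (A := A) (B := B) N A
  rw [Module.supportDim_self_eq_ringKrullDim,
    Module.supportDim_eq_of_equiv (TensorProduct.AlgebraTensorModule.rid A B N)] at h
  have hN : Module.supportDim B N = ringKrullDim B := by
    rw [Module.supportDim, hsupp]
    exact Order.krullDim_eq_of_orderIso OrderIso.Set.univ
  rw [hN] at h
  rw [h]
  refine le_add_of_nonneg_right ?_
  haveI : Nontrivial (N ⧸ ((IsLocalRing.maximalIdeal A).map (algebraMap A B) •
      (⊤ : Submodule B N))) := by
    refine Submodule.Quotient.nontrivial_iff.2 ?_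
    exact fun h => Groth.Agent.LocCoh.smul_top_ne_top_of_nontrivial (R := B) N
      (IsLocalRing.maximalIdeal.isMaximal B).ne_top (top_le_iff.1 (h.ge.trans
        (Submodule.smul_mono Groth.Agent.CommAlg6.map_maximalIdeal_le le_rfl)))
  haveI := Module.nonempty_support_iff (R := B) (M := N ⧸ ((IsLocalRing.maximalIdeal A).map
    (algebraMap A B) • (⊤ : Submodule B N))) |>.2 inferInstance |>.to_subtype
  exact Order.krullDim_nonneg

end Groth.Agent.S4693
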