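import Groth.Statements.S4694
import Groth.Agent.CommAlg6.FlatLocalModule

set_option autoImplicit false
universe u
open EGA4

namespace Groth.Agent.S4694

open TensorProduct in
/-- Let A → B be a local homomorphism of Noetherian local rings, M a finite A-module and N a nonzero
finite B-module, flat over A, whose closed-fibre module N/m_A N has finite length. Then the depth of
the B-module N ⊗_A M equals the depth of the A-module M. (The companion equality of codepths in the
published item is not restated.) -/
theorem result {A B M N : Type u} [CommRing A] [CommRing B]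
    [IsNoetherianRing A] [IsNoetherianRing B] [IsLocalRing A] [IsLocalRing B] [Algebra A B]
    [IsLocalHom (algebraMap A B)] [AddCommGroup M] [Module A M] [Module.Finite A M]
    [AddCommGroup N] [Module B N] [Module A N] [IsScalarTower A B N] [Module.Finite B N] [Nontrivial N]
    [Module.Flat A N] (hN : IsFiniteLength B (EGA4.FibMod A B N)) :
    LocCoh.depth B (N ⊗[A] M) = LocCoh.depth A M := by
  rw [Groth.Agent.CommAlg6.depth_tensor_eq N M]
  haveI : Nontrivial (EGA4.FibMod A B N) := by
    refine Submodule.Quotient.nontrivial_iff.2 ?_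
    exact fun h => Groth.Agent.LocCoh.smul_top_ne_top_of_nontrivial (R := B) N
      (IsLocalRing.maximalIdeal.isMaximal B).ne_top (top_le_iff.1 (h.ge.trans
        (Submodule.smul_mono Groth.Agent.CommAlg6.map_maximalIdeal_le le_rfl)))
  obtain ⟨-, hart⟩ := isFiniteLength_iff_isNoetherian_isArtinian.1 hN
  suffices h0 : LocCoh.depth B (EGA4.FibMod A B N) = 0 by
    rw [show LocCoh.depth B (N ⧸ ((IsLocalRing.maximalIdeal A).map (algebraMap A B) •
      (⊤ : Submodule B N))) = 0 from h0, add_zero]
  by_contra hne
  obtain ⟨z, hz, hreg⟩ := Groth.Agent.CAlgH3.exists_regular_of_one_le_depth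
    (M := EGA4.FibMod A B N) (Order.one_le_iff_pos.2 (pos_iff_ne_zero.2 hne))
  haveI := Groth.Agent.CAlgH3.nontrivial_quotSMulTop (M := EGA4.FibMod A B N) hz
  have hsurj : Function.Surjective (LinearMap.lsmul B (EGA4.FibMod A B N) z) :=
    IsArtinian.surjective_of_injective_endomorphism _ hreg
  refine not_subsingleton (QuotSMulTop z (EGA4.FibMod A B N)) ⟨fun a b => ?_⟩
  obtain ⟨a, rfl⟩ := Submodule.Quotient.mk_surjective _ a
  obtain ⟨b, rfl⟩ := Submodule.Quotient.mk_surjective _ b
  rw [Submodule.Quotient.eq]
  obtain ⟨w, hw⟩ := hsurj (a - b)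
  rw [← hw]
  exact Submodule.smul_mem_pointwise_smul w z ⊤ trivial

end Groth.Agent.S4694
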