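import Groth.Statements.S4696
import Groth.Agent.CommAlg6.GeomFib
import Groth.Agent.CommAlg6.CompletionMap

set_option autoImplicit false
universe u
open EGA4

namespace Groth.Agent.S4696

/-- Case of normal morphisms, affine form: let A → B → C be homomorphisms of Noetherian rings. If A → B
and B → C are normal (flat, with geometrically normal fibres) then the composite A → C is normal. -/
theorem result (A B C : Type u) [CommRing A] [CommRing B] [CommRing C] [IsNoetherianRing A]
    [IsNoetherianRing B] [IsNoetherianRing C] [Algebra A B] [Algebra B C] [Algebra A C] [IsScalarTower A B C]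
    (hAB : EGA4.IsNormalHom A B) (hBC : EGA4.IsNormalHom B C) : EGA4.IsNormalHom A C := by
  haveI := hAB.1
  haveI := hBC.1
  refine ⟨Module.Flat.trans A B C, Groth.Agent.CommAlg6.geomNormal_fibres_iff.2 fun K _ _ hK => ?_⟩
  haveI := Groth.Agent.CommAlg6.isNoetherianRing_resFinite (B := B) hK
  haveI := Groth.Agent.CommAlg6.isNoetherianRing_resFinite (B := C) hK
  obtain ⟨h1, h2⟩ := Groth.Agent.CommAlg6.isNormalRing_iff_R1_S2.1
    (Groth.Agent.CommAlg6.geomNormal_fibres_iff.1 hAB.2 K hK)
  rw [Groth.Agent.CommAlg6.isNormalRing_iff_R1_S2]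
  refine ⟨Groth.Agent.CommAlg6.hasRk_fibre_comp (B := B) 1 hK h1 fun L _ _ hL => ?_,
    Groth.Agent.CommAlg6.hasSk_fibre_comp (B := B) 2 hK h2 fun L _ _ hL => ?_⟩
  all_goals haveI := Groth.Agent.CommAlg6.isNoetherianRing_resFinite (B := C) hL
  · exact (Groth.Agent.CommAlg6.isNormalRing_iff_R1_S2.1
      (Groth.Agent.CommAlg6.geomNormal_fibres_iff.1 hBC.2 L hL)).1
  · exact (Groth.Agent.CommAlg6.isNormalRing_iff_R1_S2.1
      (Groth.Agent.CommAlg6.geomNormal_fibres_iff.1 hBC.2 L hL)).2

end Groth.Agent.S4696
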