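import Groth.Statements.S4701
import Groth.Agent.S4700

set_option autoImplicit false
universe u
open EGA4

namespace Groth.Agent.S4701

/-- Let A be a Noetherian ring. The regular locus of every quotient ring A/I is open in its spectrum if
and only if, for every prime ideal p, the regular locus of the domain A/p contains a nonempty open
subset of Spec(A/p). (The published statement quantifies over all subschemes of Spec A; open
subschemes of the closed ones add nothing, so closed subschemes are used here.) -/
theorem result (A : Type u) [CommRing A] [IsNoetherianRing A] :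
    (∀ I : Ideal A, IsOpen (EGA4.regLocus (A ⧸ I))) ↔
      ∀ (p : Ideal A) [p.IsPrime],
        ∃ U : Set (PrimeSpectrum (A ⧸ p)), IsOpen U ∧ U.Nonempty ∧ U ⊆ EGA4.regLocus (A ⧸ p) := by
  refine ⟨fun h p hp => ⟨_, h p, ⟨⟨⊥, Ideal.isPrime_bot⟩, ?_⟩, subset_rfl⟩, fun h I => ?_⟩
  · have hbot : IsField (Localization.AtPrime (⊥ : Ideal (A ⧸ p))) := by
      have : IsLocalization (nonZeroDivisors (A ⧸ p)) (Localization.AtPrime (⊥ : Ideal (A ⧸ p))) :=
        (show (⊥ : Ideal (A ⧸ p)).primeCompl = nonZeroDivisors (A ⧸ p) by
          ext x; simp [Ideal.primeCompl]) ▸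
          (Localization.isLocalization : IsLocalization (⊥ : Ideal (A ⧸ p)).primeCompl
            (Localization.AtPrime (⊥ : Ideal (A ⧸ p))))
      exact (IsFractionRing.toField (A ⧸ p) (K := Localization.AtPrime (⊥ : Ideal (A ⧸ p)))).toIsField
    letI := hbot.toField
    exact (inferInstance : IsRegularLocalRing (Localization.AtPrime (⊥ : Ideal (A ⧸ p))))
  · refine S4700.result (A ⧸ I) fun P _ => ?_
    let p := P.asIdeal.comap (Ideal.Quotient.mk I)
    obtain ⟨U, hU, hne, hsub⟩ := h p
    let e : (A ⧸ I) ⧸ P.asIdeal ≃+* A ⧸ p :=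
      (Ideal.quotEquivOfEq (Ideal.map_comap_of_surjective _ Ideal.Quotient.mk_surjective P.asIdeal).symm).trans
        ((DoubleQuot.quotQuotEquivQuotSup I p).trans
          (Ideal.quotEquivOfEq (sup_eq_right.mpr fun x hx => by
            show Ideal.Quotient.mk I x ∈ P.asIdeal
            rw [Ideal.Quotient.eq_zero_iff_mem.mpr hx]; exact zero_mem _)))
    refine ⟨PrimeSpectrum.comapEquiv e.symm '' U, ?_, hne.image _, ?_⟩
    · exact (PrimeSpectrum.homeomorphOfRingEquiv e.symm).isOpenMap U hU
    · rintro _ ⟨q, hq, rfl⟩
      haveI : IsRegularLocalRing (Localization.AtPrime q.asIdeal) := hsub hq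
      refine IsRegularLocalRing.of_ringEquiv
        (IsLocalization.ringEquivOfRingEquiv (M := q.asIdeal.primeCompl)
          (T := (PrimeSpectrum.comapEquiv e.symm q).asIdeal.primeCompl)
          (Localization.AtPrime q.asIdeal)
          (Localization.AtPrime (PrimeSpectrum.comapEquiv e.symm q).asIdeal) e.symm ?_)
      ext x
      constructor
      · rintro ⟨y, hy, rfl⟩
        exact fun h => hy (by simpa using! h)
      · intro hx
        exact ⟨e x, fun h => hx (by simpa using! h), e.symm_apply_apply x⟩

end Groth.Agent.S4701
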