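import Groth.Statements.S4702
import Groth.Agent.EGA4Dim6.GenericFibre
import Groth.Agent.EGA43.DimFormula.Sets

set_option autoImplicit false
universe u
open EGA4

namespace Groth.Agent.S4702

open AlgebraicGeometry CategoryTheory in
/-- Let Y be an irreducible locally Noetherian scheme of dimension 1, X an irreducible scheme and f : X
→ Y a dominant morphism of finite type. Then for every point y in the image of f, every irreducible
component of the fibre of f at y has dimension equal to the dimension of the generic fibre. -/
theorem result {X Y : Scheme.{u}} (f : X ⟶ Y) [IsLocallyNoetherian Y]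
    [IrreducibleSpace Y] [IrreducibleSpace X] (hY : topologicalKrullDim Y = 1) [LocallyOfFiniteType f]
    [QuasiCompact f] (hf : DenseRange f.base) (y : Y) (hy : y ∈ Set.range f.base)
    (Z : Set ↥(f.fiber y)) (hZ : Z ∈ irreducibleComponents ↥(f.fiber y)) :
    topologicalKrullDim Z = topologicalKrullDim ↥(f.fiber (genericPoint Y)) := by
  open Groth.Agent FlatMorWeight EGA43.DimFormula EGA4Dim6 in
  haveI : IsDominant f := ⟨hf⟩
  haveI := LocallyOfFiniteType.isLocallyNoetherian f
  rw [trdAt_generic f]
  obtain ⟨x, hxy, hmax, hx⟩ := (mem_dims_iff f y (topologicalKrullDim ↥Z)).1 ⟨Z, hZ, rfl⟩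
  subst hxy
  rw [← hx]
  norm_cast
  have hgen := EGA43.Unibranch.map_genericPoint_of_isDominant f
  by_cases hη : f x = genericPoint Y
  · rw [hmax (genericPoint X) (genericPoint_specializes x) (hgen.trans hη.symm)]
  have hne : genericPoint X ≠ x := fun e => hη (e ▸ hgen)
  have h0 : fibDim f x = 0 := (fibDim_eq_zero_iff f x).2 hmax
  have h1 := trdAt_le_of_specializes f (genericPoint_specializes x)
  have h2 := le_formula f (genericPoint_specializes x)
  rw [hgen, dimAt_eq_cod_of_irreducible, dimAt_eq_cod_of_irreducible] at h2
  have h3 := cod_pos (genericPoint_specializes x) hne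
  rw [dimAt_eq_cod_of_irreducible] at h3
  have h4 : dimAt (f x) ≤ 1 := by
    have := (stalk_dim_le_dim (f x)).trans hY.le
    rw [dimAt_eq] at this
    exact_mod_cast this
  omega

end Groth.Agent.S4702
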