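import Groth.Statements.S4704
import Groth.Agent.CommAlg6.GeomFib
import Groth.Agent.CommAlg6.CompletionMap

set_option autoImplicit false
universe u
open EGA4

namespace Groth.Agent.S4704

/-- Let A → A' be a local homomorphism of Noetherian local rings which is regular (flat, with
geometrically regular fibres). If the completion map of A' is regular (the formal fibres of A' are
geometrically regular), then the completion map of A is regular. -/
theorem result (A A' : Type u) [CommRing A] [CommRing A'] [IsNoetherianRing A]
    [IsNoetherianRing A'] [IsLocalRing A] [IsLocalRing A'] [Algebra A A'] [IsLocalHom (algebraMap A A')]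
    (hf : CAlg.IsRegularHom A A') (hA' : CAlg.IsRegularHom A' (EGA4.Cpl A')) :
    CAlg.IsRegularHom A (EGA4.Cpl A) := by
  haveI := hf.1
  obtain ⟨_, hT, _⟩ := Groth.Agent.CommAlg6.exists_algebra_completion A A'
  haveI := hA'.1
  refine ⟨AdicCompletion.flat_of_isNoetherian _, fun p _ =>
    ⟨Groth.Agent.CommAlg6.isNoetherianRing_fiber p, fun k' _ _ hk' => ?_⟩⟩
  letI : Algebra A k' := Algebra.compHom k' (algebraMap A p.ResidueField)
  haveI : IsScalarTower A p.ResidueField k' := .of_algebraMap_eq fun _ => rfl
  have hK : Groth.Agent.CommAlg6.IsResFinite A k' :=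
    ⟨p, inferInstance, inferInstance, inferInstance, hk'⟩
  haveI := Groth.Agent.CommAlg6.isNoetherianRing_resFinite (B := EGA4.Cpl A) hK
  haveI := Groth.Agent.CommAlg6.isNoetherianRing_resFinite (B := A') hK
  haveI : IsRegularRing (TensorProduct A k' (EGA4.Cpl A)) := by
    rw [Groth.Agent.CommAlg6.isRegularRing_iff_forall_hasRk]
    intro k
    refine Groth.Agent.CommAlg6.hasRk_fibre_descend (C := EGA4.Cpl A') k hK
      (Groth.Agent.CommAlg6.hasRk_fibre_comp (B := A') k hK
        (Groth.Agent.CommAlg6.isRegularRing_iff_forall_hasRk.1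
          (Groth.Agent.CommAlg6.isRegularRing_resFinite hf k' hK) k) fun L _ _ hL => ?_)
    haveI := Groth.Agent.CommAlg6.isNoetherianRing_resFinite (B := EGA4.Cpl A') hL
    exact Groth.Agent.CommAlg6.isRegularRing_iff_forall_hasRk.1
      (Groth.Agent.CommAlg6.isRegularRing_resFinite hA' L hL) k
  exact IsRegularRing.of_ringEquiv (R := TensorProduct A k' (EGA4.Cpl A))
    (Algebra.TensorProduct.cancelBaseChange A p.ResidueField k' k' (EGA4.Cpl A)).toRingEquiv.symm

end Groth.Agent.S4704
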