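import Groth.Statements.S4705
import Groth.Agent.CommAlg6.GeomFib
import Groth.Agent.CommAlg6.CompletionMap

set_option autoImplicit false
universe u
open EGA4

namespace Groth.Agent.S4705

/-- Let A → A' be a flat local homomorphism of Noetherian local rings all of whose fibre rings k(p) ⊗_A
A' are geometrically reduced over k(p). If the completion map of A' is regular (the formal fibres of
A' are geometrically regular), then the formal fibres of A are geometrically reduced. -/
theorem result (A A' : Type u) [CommRing A] [CommRing A']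
    [IsNoetherianRing A] [IsNoetherianRing A'] [IsLocalRing A] [IsLocalRing A'] [Algebra A A']
    [IsLocalHom (algebraMap A A')] [Module.Flat A A']
    (hf : ∀ (p : Ideal A) [p.IsPrime], Algebra.IsGeometricallyReduced p.ResidueField (p.Fiber A'))
    (hA' : CAlg.IsRegularHom A' (EGA4.Cpl A')) : EGA4.HasGeomReducedFormalFibres A := by
  obtain ⟨_, hT, _⟩ := Groth.Agent.CommAlg6.exists_algebra_completion A A'
  haveI := hA'.1
  refine Groth.Agent.CommAlg6.geomReduced_fibres_iff.2 fun K _ _ hK => ?_
  haveI := Groth.Agent.CommAlg6.isNoetherianRing_resFinite (B := EGA4.Cpl A) hK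
  haveI := Groth.Agent.CommAlg6.isNoetherianRing_resFinite (B := A') hK
  obtain ⟨h1, h2⟩ := Groth.Agent.CommAlg6.isReduced_iff_R0_S1.1
    (Groth.Agent.CommAlg6.geomReduced_fibres_iff.1 hf K hK)
  rw [Groth.Agent.CommAlg6.isReduced_iff_R0_S1]
  refine ⟨Groth.Agent.CommAlg6.hasRk_fibre_descend (C := EGA4.Cpl A') 0 hK
    (Groth.Agent.CommAlg6.hasRk_fibre_comp (B := A') 0 hK h1 fun L _ _ hL => ?_),
    Groth.Agent.CommAlg6.hasSk_fibre_descend (C := EGA4.Cpl A') 1 hK
    (Groth.Agent.CommAlg6.hasSk_fibre_comp (B := A') 1 hK h2 fun L _ _ hL => ?_)⟩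
  all_goals haveI := Groth.Agent.CommAlg6.isRegularRing_resFinite hA' L hL
  · exact Groth.Agent.CommAlg6.isRegularRing_iff_forall_hasRk.1 ‹_› 0
  · exact Groth.Agent.CommAlg6.isCMRing_of_isRegularRing 1

end Groth.Agent.S4705
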