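import Groth.Statements.S4706
import Groth.Agent.CommAlg6.GeomFib
import Groth.Agent.CommAlg6.CompletionMap

set_option autoImplicit false
universe u
open EGA4

namespace Groth.Agent.S4706

/-- Let A → A' be a local homomorphism of Noetherian local rings which is normal (flat, with
geometrically normal fibres). If the completion map of A' is regular (the formal fibres of A' are
geometrically regular), then the formal fibres of A are geometrically normal. -/
theorem result (A A' : Type u) [CommRing A] [CommRing A']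
    [IsNoetherianRing A] [IsNoetherianRing A'] [IsLocalRing A] [IsLocalRing A'] [Algebra A A']
    [IsLocalHom (algebraMap A A')] (hf : EGA4.IsNormalHom A A') (hA' : CAlg.IsRegularHom A' (EGA4.Cpl A')) :
    EGA4.HasGeomNormalFormalFibres A := by
  haveI := hf.1
  obtain ⟨_, hT, _⟩ := Groth.Agent.CommAlg6.exists_algebra_completion A A'
  haveI := hA'.1
  refine Groth.Agent.CommAlg6.geomNormal_fibres_iff.2 fun K _ _ hK => ?_
  haveI := Groth.Agent.CommAlg6.isNoetherianRing_resFinite (B := EGA4.Cpl A) hK
  haveI := Groth.Agent.CommAlg6.isNoetherianRing_resFinite (B := A') hK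
  obtain ⟨h1, h2⟩ := Groth.Agent.CommAlg6.isNormalRing_iff_R1_S2.1
    (Groth.Agent.CommAlg6.geomNormal_fibres_iff.1 hf.2 K hK)
  rw [Groth.Agent.CommAlg6.isNormalRing_iff_R1_S2]
  refine ⟨Groth.Agent.CommAlg6.hasRk_fibre_descend (C := EGA4.Cpl A') 1 hK
    (Groth.Agent.CommAlg6.hasRk_fibre_comp (B := A') 1 hK h1 fun L _ _ hL => ?_),
    Groth.Agent.CommAlg6.hasSk_fibre_descend (C := EGA4.Cpl A') 2 hK
    (Groth.Agent.CommAlg6.hasSk_fibre_comp (B := A') 2 hK h2 fun L _ _ hL => ?_)⟩
  all_goals haveI := Groth.Agent.CommAlg6.isRegularRing_resFinite hA' L hL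
  · exact Groth.Agent.CommAlg6.isRegularRing_iff_forall_hasRk.1 ‹_› 1
  · exact Groth.Agent.CommAlg6.isCMRing_of_isRegularRing 2

end Groth.Agent.S4706
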