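import Groth.Statements.S4707
import Groth.Agent.CommAlg6.NormalHomIntClosure

set_option autoImplicit false
universe u
open EGA4 TensorProduct

namespace Groth.Agent.S4707

open TensorProduct in
/-- Let A be a Noetherian ring and A' a Noetherian A-algebra such that A → A' is a normal homomorphism
(flat, with geometrically normal fibres). Let B → C be a homomorphism of A-algebras and D the
integral closure of B in C. Then the integral closure in A' ⊗_A C of the image of A' ⊗_A B is the
image of A' ⊗_A D. (No finiteness is assumed on B or C.) -/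
theorem result (A A' : Type u) [CommRing A] [CommRing A']
    [IsNoetherianRing A] [IsNoetherianRing A'] [Algebra A A'] (h : EGA4.IsNormalHom A A')
    (B C : Type u) [CommRing B] [CommRing C] [Algebra A B] [Algebra A C] [Algebra B C] [IsScalarTower A B C] :
    (integralClosure
          ↥(Algebra.TensorProduct.map (AlgHom.id A' A') (IsScalarTower.toAlgHom A B C)).range (A' ⊗[A] C) :
        Set (A' ⊗[A] C)) =
      Set.range (Algebra.TensorProduct.map (AlgHom.id A' A')
        ((integralClosure B C).val.restrictScalars A)) := by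
  classical
  haveI := h.1
  let ψ := Algebra.TensorProduct.map (AlgHom.id A' A') (IsScalarTower.toAlgHom A B C)
  let D := integralClosure B C
  let g := Algebra.TensorProduct.map (AlgHom.id A' A') (D.val.restrictScalars A)
  change (integralClosure ψ.range (A' ⊗[A] C) : Set (A' ⊗[A] C)) = Set.range g
  refine Set.Subset.antisymm (fun z hz => ?_) ?_
  · obtain ⟨p, hp, hpz⟩ := (hz : IsIntegral ψ.range z)
    have hlift : p.map (algebraMap ψ.range (A' ⊗[A] C)) ∈ Polynomial.lifts ψ.toRingHom := by
      rw [Polynomial.lifts_iff_coeff_lifts]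
      intro i
      rw [Polynomial.coeff_map]
      exact (p.coeff i).2
    obtain hsub | hnt := subsingleton_or_nontrivial (A' ⊗[A] C)
    · exact ⟨0, Subsingleton.elim _ _⟩
    haveI : Nontrivial (A' ⊗[A] B) := RingHom.domain_nontrivial ψ.toRingHom
    obtain ⟨q, hq, -, hqm⟩ := Polynomial.lifts_and_degree_eq_and_monic hlift (hp.map _)
    obtain ⟨B0, hB0, hco⟩ := Groth.Agent.CommAlg6.NormalTensor.exists_fg_finset (A := A) (A' := A')
      ((Finset.range (q.natDegree + 1)).image q.coeff)
    haveI : Algebra.FiniteType A B0 := B0.fg_iff_finiteType.1 hB0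
    haveI : IsNoetherianRing B0 := Algebra.FiniteType.isNoetherianRing A B0
    let e : (B0 ⊗[A] A') ⊗[B0] C ≃+* A' ⊗[A] C :=
      ((Algebra.TensorProduct.comm B0 (B0 ⊗[A] A') C).toRingEquiv.trans
        (Algebra.TensorProduct.cancelBaseChange A B0 C C A').toRingEquiv).trans
        (Algebra.TensorProduct.comm A C A').toRingEquiv
    have he : ∀ (b : B0) (a : A') (c : C), e ((b ⊗ₜ a) ⊗ₜ c) = a ⊗ₜ ((b : B) • c) := fun b a c => by
      simp [e]; rfl
    have hred : ∀ (κ : Type u) [Field κ] [Algebra B0 κ], IsReduced ((B0 ⊗[A] A') ⊗[B0] κ) := fun κ _ _ => by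
      letI : Algebra A κ := ((algebraMap B0 κ).comp (algebraMap A B0)).toAlgebra
      haveI : IsScalarTower A B0 κ := .of_algebraMap_eq fun _ => rfl
      haveI := Groth.Agent.CommAlg6.NormalHomTensor.isReduced_tensor_field A A' h κ
      let e' : (B0 ⊗[A] A') ⊗[B0] κ ≃+* A' ⊗[A] κ :=
        ((Algebra.TensorProduct.comm B0 (B0 ⊗[A] A') κ).toRingEquiv.trans
          (Algebra.TensorProduct.cancelBaseChange A B0 κ κ A').toRingEquiv).trans
          (Algebra.TensorProduct.comm A κ A').toRingEquiv
      exact isReduced_of_injective e' e'.injective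
    have hint : IsIntegral (B0 ⊗[A] A') (e.symm z) := by
      refine RingHom.IsIntegralElem.of_comp_eq (T := (B0 ⊗[A] A') ⊗[B0] C) (f := ψ.toRingHom) (fun i hi => hco _ (Finset.mem_image.2 ⟨i, Finset.mem_range.2 (by omega), rfl⟩)) hqm ?_ e (fun b a => ?_)
      · rw [← Polynomial.eval_map, hq, Polynomial.eval_map]; exact hpz
      · rw [Algebra.TensorProduct.algebraMap_apply, Algebra.algebraMap_self, RingHom.id_apply, he]
        simp [ψ, Algebra.smul_def]
    obtain ⟨w, hw⟩ := Groth.Agent.CommAlg6.NormalHomTensor.mem_range_integralClosure hred C _ hint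
    rw [← e.apply_symm_apply z, ← hw]
    clear hw
    induction w using TensorProduct.induction_on with
    | zero => exact ⟨0, by simp⟩
    | tmul u c =>
      induction u using TensorProduct.induction_on with
      | zero => exact ⟨0, by simp⟩
      | tmul b a =>
        refine ⟨a ⊗ₜ ⟨(b : B) • (c : C), ?_⟩, ?_⟩
        · have hc : IsIntegral B (c : C) := IsIntegral.tower_top (R := B0) c.2
          exact hc.smul (b : B)
        · rw [LinearMap.lTensor_tmul]
          exact (he b a (c : C)).symm
      | add u v hu hv =>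
        obtain ⟨x, hx⟩ := hu; obtain ⟨y, hy⟩ := hv
        exact ⟨x + y, by rw [map_add, hx, hy, TensorProduct.add_tmul, map_add, map_add]⟩
    | add u v hu hv =>
      obtain ⟨x, hx⟩ := hu; obtain ⟨y, hy⟩ := hv
      exact ⟨x + y, by rw [map_add, hx, hy, map_add, map_add]⟩
  · rintro _ ⟨w, rfl⟩
    show IsIntegral ψ.range (g w)
    induction w using TensorProduct.induction_on with
    | zero => rw [map_zero]; exact isIntegral_zero
    | tmul a c =>
      obtain ⟨p, hp, hpc⟩ := (c.2 : IsIntegral B (c : C))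
      let φ : B →+* ψ.range := ψ.rangeRestrict.toRingHom.comp (Algebra.TensorProduct.includeRight : B →ₐ[A] A' ⊗[A] B).toRingHom
      have h1 : IsIntegral ψ.range ((1 : A') ⊗ₜ[A] (c : C)) := by
        refine ⟨p.map φ, hp.map _, ?_⟩
        have h2 := congrArg (Algebra.TensorProduct.includeRight : C →ₐ[A] A' ⊗[A] C).toRingHom hpc
        rw [map_zero, Polynomial.hom_eval₂] at h2
        rw [Polynomial.eval₂_map]
        exact (congrArg (fun f => Polynomial.eval₂ f _ p) (RingHom.ext fun b => by simp [φ, ψ])).trans h2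
      have h3 : g (a ⊗ₜ c) = algebraMap ψ.range (A' ⊗[A] C) ⟨ψ (a ⊗ₜ 1), a ⊗ₜ 1, rfl⟩ * ((1 : A') ⊗ₜ[A] (c : C)) := by
        show g (a ⊗ₜ c) = ψ (a ⊗ₜ 1) * _
        simp [g, ψ]
      rw [h3]
      exact isIntegral_algebraMap.mul h1
    | add u v hu hv => rw [map_add]; exact hu.add hv
where
  RingHom.IsIntegralElem.of_comp_eq {A A' B C : Type u} [CommRing A] [CommRing A'] [CommRing B] [CommRing C]
      [Algebra A A'] [Algebra A B] [Algebra A C] {B0 : Subalgebra A B} {z : A' ⊗[A] C} {q : Polynomial (A' ⊗[A] B)}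
      [Nontrivial (A' ⊗[A] B)]
      (hco : ∀ i ≤ q.natDegree, q.coeff i ∈ Set.range
        (Algebra.TensorProduct.map (AlgHom.id A A') B0.val)) (hqm : q.Monic)
      {f : A' ⊗[A] B →+* A' ⊗[A] C} (hqz : Polynomial.eval₂ f z q = 0)
      {T : Type u} [CommRing T] [Algebra (B0 ⊗[A] A') T] (e : T ≃+* A' ⊗[A] C)
      (he : ∀ (b : B0) (a : A'), e (algebraMap (B0 ⊗[A] A') T (b ⊗ₜ a)) = f (a ⊗ₜ (b : B))) :
      IsIntegral (B0 ⊗[A] A') (e.symm z) := by
    classical
    let ι : B0 ⊗[A] A' →+* A' ⊗[A] B := ((Algebra.TensorProduct.map (AlgHom.id A A') B0.val).comp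
      (Algebra.TensorProduct.comm A B0 A').toAlgHom).toRingHom
    have hl : q ∈ Polynomial.lifts ι := by
      rw [Polynomial.lifts_iff_coeff_lifts]
      intro i
      by_cases hi : i ≤ q.natDegree
      · obtain ⟨w, hw⟩ := hco i hi
        exact ⟨(Algebra.TensorProduct.comm A B0 A').symm w, by simp [ι, hw]⟩
      · exact ⟨0, by rw [map_zero, Polynomial.coeff_eq_zero_of_natDegree_lt (not_le.1 hi)]⟩
    obtain ⟨r, hr, -, hrm⟩ := Polynomial.lifts_and_degree_eq_and_monic hl hqm
    have hcomp : f.comp ι = e.toRingHom.comp (algebraMap (B0 ⊗[A] A') T) := by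
      refine RingHom.ext fun v => ?_
      induction v using TensorProduct.induction_on with
      | zero => simp
      | tmul b a => simp [ι, he]
      | add u v hu hv => rw [map_add, map_add, hu, hv]
    refine ⟨r, hrm, e.injective ?_⟩
    show e.toRingHom _ = e 0
    rw [map_zero, Polynomial.hom_eval₂]
    show Polynomial.eval₂ _ (e (e.symm z)) r = 0
    rw [e.apply_symm_apply, ← hcomp, ← Polynomial.eval₂_map, hr, hqz]

end Groth.Agent.S4707
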