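import Groth.Statements.S4714
import Groth.Agent.DimLib.Sub

set_option autoImplicit false
universe u
open EGA4

namespace Groth.Agent.S4714

open Groth.Agent.DimLib CategoryTheory AlgebraicGeometry in
lemma notMem_of_maximal {k : Type u} [Field k] {X : Scheme.{u}} (p : X ⟶ Spec (CommRingCat.of k))
    [LocallyOfFiniteType p] {S : Set X} (hS : IsClosed S) (hi : interior S = ∅) {η : X}
    (hη : ∀ z, z ⤳ η → η = z) : η ∉ S := by
  intro hmem
  obtain ⟨V, hV, hηV, -⟩ := TopologicalSpace.Opens.isBasis_iff_nbhd.1 X.isBasis_affineOpens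
    (show η ∈ (⊤ : X.Opens) from trivial)
  have : IsAffine (V : Scheme.{u}) := hV
  have : IsLocallyNoetherian X := LocallyOfFiniteType.isLocallyNoetherian p
  have : AlgebraicGeometry.IsNoetherian (V : Scheme.{u}) := {}
  let a : (V : Scheme.{u}) := ⟨η, hηV⟩
  have ha : ∀ z, z ⤳ a → a = z := fun z hz => (Scheme.Opens.ι V).isEmbedding.injective (hη _ (hz.map (Scheme.Opens.ι V).continuous))
  obtain ⟨a', U, ha', hU, haU, hUZ, -⟩ := exists_component_data (closure_mem_components ha)
  have hsub : (Scheme.Opens.ι V) '' U ⊆ S := by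
    rintro _ ⟨u, hu, rfl⟩
    exact ((specializes_iff_mem_closure.2 (hUZ hu)).map (Scheme.Opens.ι V).continuous).mem_closed hS hmem
  have h := interior_maximal hsub ((Scheme.Opens.ι V).isOpenEmbedding.isOpenMap U hU)
  rw [hi] at h
  exact h ⟨a', haU, rfl⟩

open Groth.Agent.DimLib CategoryTheory AlgebraicGeometry in
lemma iSup_add_one_le {ι : Type*} (a : ι → ℕ) (D : WithBot ℕ∞) (h : ∀ i, (a i : WithBot ℕ∞) + 1 ≤ D) :
    (⨆ i, (a i : WithBot ℕ∞)) + 1 ≤ D := by
  rcases isEmpty_or_nonempty ι with he | ⟨⟨i₀⟩⟩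
  · rw [iSup_of_empty, WithBot.bot_add]; exact bot_le
  induction D using WithBot.recBotCoe with
  | bot => have := h i₀; norm_cast at this
  | coe D =>
    induction D using ENat.recTopCoe with
    | top => exact le_top
    | coe n =>
      refine (iSup_add_le_iff a 1 n).2 fun i => ?_
      have := h i
      norm_cast at this


open AlgebraicGeometry CategoryTheory in
/-- For a section of the structure sheaf: let X be a scheme locally of finite type over a field k and f
a global section of O_X whose zero locus Y is nowhere dense in X. Then dim Y + 1 ≤ dim X. If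
moreover some irreducible component of X has dimension equal to dim X and Y meets every such
component, then dim Y + 1 = dim X. (The published statement is for a section of an invertible sheaf;
the existence of a component of maximal dimension, implicit in the published wording, is made a
hypothesis of the equality clause.) -/
theorem result (k : Type u) [Field k] (X : Scheme.{u}) (p : X ⟶ Spec (CommRingCat.of k))
    [LocallyOfFiniteType p] (f : Γ(X, ⊤)) (hY : interior (X.zeroLocus (U := ⊤) {f}) = ∅) :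
    topologicalKrullDim (X.zeroLocus (U := ⊤) {f}) + 1 ≤ topologicalKrullDim X ∧
      ((∃ Z ∈ irreducibleComponents (X : Type u), topologicalKrullDim Z = topologicalKrullDim X) →
        (∀ Z ∈ irreducibleComponents (X : Type u), topologicalKrullDim Z = topologicalKrullDim X →
          (Z ∩ X.zeroLocus (U := ⊤) {f}).Nonempty) →
        topologicalKrullDim (X.zeroLocus (U := ⊤) {f}) + 1 = topologicalKrullDim X) := by
  open Groth.Agent.DimLib in
  have hcl : IsClosed (X.zeroLocus (U := ⊤) {f}) := by
    rw [X.zeroLocus_def]; exact isClosed_biInter fun _ _ => (X.basicOpen _).2.isClosed_compl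
  have hmem : ∀ z, z ∈ X.zeroLocus (U := ⊤) {f} ↔ z ∉ X.basicOpen f := fun z => by
    rw [X.zeroLocus_def]; simp
  have h1 : topologicalKrullDim (X.zeroLocus (U := ⊤) {f}) + 1 ≤ topologicalKrullDim X := by
    rw [topologicalKrullDim_closed_eq_iSup p hcl]
    refine iSup_add_one_le _ _ fun z => ?_
    obtain ⟨η, hη, hmax⟩ := exists_maximal_specializes z.1
    have hne : η ≠ z.1 := fun e => notMem_of_maximal p hcl hY hmax (e ▸ z.2)
    have := ptDim_lt_of_specializes p hη hne
    refine le_trans ?_ (ptDim_le_topologicalKrullDim p η)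
    exact_mod_cast this
  refine ⟨h1, fun ⟨Z, hZ, hZd⟩ hmeet => le_antisymm h1 ?_⟩
  obtain ⟨y, hyZ, hy⟩ := hmeet Z hZ hZd
  obtain ⟨η, hη, hmax⟩ := exists_genericPoint_of_mem_components hZ
  rw [← hZd, topologicalKrullDim_eq_ptDim_of_isGenericPoint p hη, topologicalKrullDim_closed_eq_iSup p hcl]
  obtain ⟨z, hz, hzy, hzmax⟩ := exists_maximal_mem p (S := closure {η} ∩ X.zeroLocus (U := ⊤) {f}) (η := η)
    ⟨hη.def.symm ▸ hyZ, hy⟩ (fun w hw _ => specializes_iff_mem_closure.2 hw.1)
  obtain ⟨V, hV, hzV, -⟩ := TopologicalSpace.Opens.isBasis_iff_nbhd.1 X.isBasis_affineOpens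
    (show z ∈ (⊤ : X.Opens) from trivial)
  let g := X.presheaf.map (homOfLE (le_top : V ≤ ⊤)).op f
  have hg : ∀ w ∈ V, (w ∈ X.basicOpen g ↔ w ∈ X.basicOpen f) := fun w hw => by
    rw [Scheme.basicOpen_res]
    exact ⟨fun h => h.2, fun h => ⟨hw, h⟩⟩
  have key := ptDim_le_add_of_minimal_zero p hV {g} (specializes_iff_mem_closure.2 hz.1) hzV
    (fun r hr => by rw [Finset.mem_singleton.1 hr, hg z hzV]; exact (hmem z).1 hz.2)
    (fun w h1 h2 hw hr => (hzmax w ⟨specializes_iff_mem_closure.1 h1,
      (hmem w).2 fun hb => hr g (Finset.mem_singleton_self g) ((hg w hw).2 hb)⟩ h2).symm)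
  rw [Finset.card_singleton] at key
  calc ((ptDim p η : ℕ) : WithBot ℕ∞) ≤ ((ptDim p z + 1 : ℕ) : WithBot ℕ∞) := by exact_mod_cast key
    _ ≤ _ := by
      push_cast
      exact add_le_add (le_iSup (fun x : X.zeroLocus (U := ⊤) {f} => (ptDim p x.1 : WithBot ℕ∞)) ⟨z, hz.2⟩) le_rfl

end Groth.Agent.S4714
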