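import Groth.Statements.S4717
import Groth.Agent.CommAlg6.DimMaps

set_option autoImplicit false
universe u
open EGA4

namespace Groth.Agent.S4717

open AlgebraicGeometry CategoryTheory in
/-- Let f : X → Y be a finite morphism of locally Noetherian schemes. Then dim X equals the dimension of
the image f(X); in particular if f is surjective then dim X = dim Y. -/
theorem result {X Y : Scheme.{u}} (f : X ⟶ Y) [IsLocallyNoetherian X] [IsLocallyNoetherian Y]
    [IsFinite f] :
    topologicalKrullDim X = topologicalKrullDim (Set.range f.base) ∧
      (Function.Surjective f.base → topologicalKrullDim X = topologicalKrullDim Y) := by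
  have hcl : IsClosedMap f.base := f.isClosedMap
  haveI : QuasiSober (Set.range f.base) :=
    (IsClosed.isClosedEmbedding_subtypeVal hcl.isClosed_range).quasiSober
  have h1 : topologicalKrullDim X = topologicalKrullDim (Set.range f.base) := by
    refine le_antisymm
      (CommAlg6.topologicalKrullDim_le_of_fibres (f := Set.rangeFactorization f.base)
        f.continuous.rangeFactorization
        fun x x' h e => CommAlg6.eq_of_specializes_of_locallyQuasiFinite f h (congrArg Subtype.val e))
      (CommAlg6.topologicalKrullDim_le_of_specializingMap (f := Set.rangeFactorization f.base)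
        Set.rangeFactorization_surjective ?_)
    refine IsClosedMap.specializingMap ?_
    intro C hC
    rw [(IsClosed.isClosedEmbedding_subtypeVal hcl.isClosed_range).isClosed_iff_image_isClosed,
      Set.image_image]
    exact hcl C hC
  refine ⟨h1, fun hs => h1.trans ?_⟩
  rw [Set.range_eq_univ.mpr hs]
  exact IsHomeomorph.topologicalKrullDim_eq _ (Homeomorph.Set.univ Y).isHomeomorph

end Groth.Agent.S4717
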