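import Groth.Statements.S4718
import Groth.Agent.InvLib.DepthLocalize
import Groth.Agent.CommAlg6.SupportDimSurj
-- import your own Groth.Agent.* helpers here

set_option autoImplicit false
universe u
open EGA4

namespace Groth.Agent.S4718

/-- Let A be a Noetherian local ring, B a Noetherian ring, A → B a ring homomorphism and M a nonzero
B-module which is finite as an A-module. Then M is a Cohen–Macaulay A-module if and only if, for all
primes q of B lying over the maximal ideal of A and belonging to the support of M, the B_q-module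
M_q is Cohen–Macaulay and all these modules M_q have the same dimension. -/
theorem result (A B : Type u) [CommRing A] [CommRing B]
    [IsNoetherianRing A] [IsLocalRing A] [IsNoetherianRing B] [Algebra A B]
    (M : Type u) [AddCommGroup M] [Module B M] [Module A M] [IsScalarTower A B M] [Module.Finite A M]
    [Nontrivial M] :
    LocCoh.IsCohenMacaulayModule A M ↔
      (∀ q ∈ {q : PrimeSpectrum B | q.asIdeal.comap (algebraMap A B) = IsLocalRing.maximalIdeal A ∧
          q ∈ Module.support B M},
        LocCoh.IsCohenMacaulayModule (Localization.AtPrime q.asIdeal) (LocalizedModule q.asIdeal.primeCompl M)) ∧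
      (∀ q ∈ {q : PrimeSpectrum B | q.asIdeal.comap (algebraMap A B) = IsLocalRing.maximalIdeal A ∧
          q ∈ Module.support B M},
        ∀ q' ∈ {q : PrimeSpectrum B | q.asIdeal.comap (algebraMap A B) = IsLocalRing.maximalIdeal A ∧
          q ∈ Module.support B M},
          Module.supportDim (Localization.AtPrime q.asIdeal) (LocalizedModule q.asIdeal.primeCompl M) =
            Module.supportDim (Localization.AtPrime q'.asIdeal) (LocalizedModule q'.asIdeal.primeCompl M)) := by
  classical
  let m := IsLocalRing.maximalIdeal A
  let S := {q : PrimeSpectrum B | q.asIdeal.comap (algebraMap A B) = IsLocalRing.maximalIdeal A ∧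
          q ∈ Module.support B M}
  obtain ⟨hsd, hdp⟩ := InvLib.supportDim_depth_eq (A := A) (B := B) M m
  have hu : ∀ s : m.primeCompl, IsUnit (s : A) := fun s => IsLocalRing.notMem_maximalIdeal.1 s.2
  have hsurj : Function.Surjective (algebraMap A (Localization.AtPrime m)) := by
    intro z
    obtain ⟨a, s, rfl⟩ := IsLocalization.exists_mk'_eq m.primeCompl z
    refine ⟨a * ↑(hu s).unit⁻¹, ?_⟩
    rw [IsLocalization.eq_mk'_iff_mul_eq, ← map_mul, mul_assoc, IsUnit.val_inv_mul, mul_one]
  haveI : IsLocalizedModule m.primeCompl (LinearMap.id : M →ₗ[A] M) :=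
    { map_units := fun s => (hu s).map (algebraMap A (Module.End A M))
      surj := fun y => ⟨(y, 1), by simp⟩
      exists_of_eq := fun {x y} hxy => ⟨1, by simpa using hxy⟩ }
  let e : LocalizedModule m.primeCompl M ≃ₗ[A] M :=
    IsLocalizedModule.linearEquiv m.primeCompl (LocalizedModule.mkLinearMap m.primeCompl M) LinearMap.id
  rw [CommAlg6.supportDim_of_surjective hsurj (LocalizedModule m.primeCompl M),
    Module.supportDim_eq_of_equiv e] at hsd
  rw [CAlgH3.depth_of_surjective hsurj (LocalizedModule m.primeCompl M), CAlgH3.depth_congr e] at hdp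
  haveI : Module.Finite B M := Module.Finite.of_restrictScalars_finite A B M
  have hle : ∀ q : PrimeSpectrum B, q ∈ S →
      ((LocCoh.depth (Localization.AtPrime q.asIdeal) (LocalizedModule q.asIdeal.primeCompl M) : ℕ∞) : WithBot ℕ∞) ≤
      Module.supportDim (Localization.AtPrime q.asIdeal) (LocalizedModule q.asIdeal.primeCompl M) := by
    intro q hq
    haveI : Nontrivial (LocalizedModule q.asIdeal.primeCompl M) := Module.mem_support_iff.1 hq.2
    haveI : Module.Finite (Localization.AtPrime q.asIdeal) (LocalizedModule q.asIdeal.primeCompl M) :=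
      Module.Finite.of_isLocalizedModule q.asIdeal.primeCompl (LocalizedModule.mkLinearMap q.asIdeal.primeCompl M)
    exact CAlgH3.depth_le_supportDim
  have hne : ∃ q, q ∈ S := by
    by_contra h
    push Not at h
    have h0 : Module.supportDim A M = ⊥ := by
      rw [hsd]; exact le_bot_iff.1 (iSup₂_le fun q hq => absurd hq (h q))
    exact absurd h0 ((Module.supportDim_ne_bot_iff_nontrivial A M).2 inferInstance)
  unfold LocCoh.IsCohenMacaulayModule
  constructor
  · intro hCM
    have key : ∀ q ∈ S, Module.supportDim (Localization.AtPrime q.asIdeal) (LocalizedModule q.asIdeal.primeCompl M) =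
        Module.supportDim A M ∧
        ((LocCoh.depth (Localization.AtPrime q.asIdeal) (LocalizedModule q.asIdeal.primeCompl M) : ℕ∞) : WithBot ℕ∞) =
        Module.supportDim A M := by
      intro q hq
      have h1 : Module.supportDim (Localization.AtPrime q.asIdeal) (LocalizedModule q.asIdeal.primeCompl M) ≤
          Module.supportDim A M := hsd ▸ le_iSup₂_of_le q hq le_rfl
      have h2 : Module.supportDim A M ≤
          ((LocCoh.depth (Localization.AtPrime q.asIdeal) (LocalizedModule q.asIdeal.primeCompl M) : ℕ∞) : WithBot ℕ∞) := by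
        rw [hCM, WithBot.coe_le_coe, hdp]
        exact iInf₂_le q hq
      exact ⟨le_antisymm h1 (h2.trans (hle q hq)), le_antisymm ((hle q hq).trans h1) h2⟩
    exact ⟨fun q hq => (key q hq).1.trans (key q hq).2.symm, fun q hq q' hq' => (key q hq).1.trans (key q' hq').1.symm⟩
  · rintro ⟨hcm, heq⟩
    obtain ⟨q₀, hq₀⟩ := hne
    have h1 : Module.supportDim A M =
        Module.supportDim (Localization.AtPrime q₀.asIdeal) (LocalizedModule q₀.asIdeal.primeCompl M) := by
      rw [hsd]
      exact le_antisymm (iSup₂_le fun q hq => (heq q hq q₀ hq₀).le) (le_iSup₂_of_le q₀ hq₀ le_rfl)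
    have h2 : LocCoh.depth A M =
        LocCoh.depth (Localization.AtPrime q₀.asIdeal) (LocalizedModule q₀.asIdeal.primeCompl M) := by
      rw [hdp]
      refine le_antisymm (iInf₂_le q₀ hq₀) (le_iInf₂ fun q hq => ?_)
      rw [← WithBot.coe_le_coe (α := ℕ∞), ← hcm q hq, ← hcm q₀ hq₀, heq q hq q₀ hq₀]
    rw [h1, h2]
    exact hcm q₀ hq₀

end Groth.Agent.S4718
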