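import Groth.Statements.S4720
import Groth.Agent.Pure6.Basic

set_option autoImplicit false
universe u
open EGA4

namespace Groth.Agent.S4720

/-- Let A be a Noetherian ring, Z a subset of Spec A stable under specialization, M an A-module and N a
submodule of M. If M is Z-pure, so is N; conversely, if N and M/N are Z-pure, so is M. -/
theorem result (A : Type u) [CommRing A] [IsNoetherianRing A]
    (Z : Set (PrimeSpectrum A)) (hZ : StableUnderSpecialization Z) (M : Type u) [AddCommGroup M] [Module A M]
    (N : Submodule A M) :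
    (EGA4.IsPureAlong Z M → EGA4.IsPureAlong Z ↥N) ∧
      (EGA4.IsPureAlong Z ↥N → EGA4.IsPureAlong Z (M ⧸ N) → EGA4.IsPureAlong Z M) := by
  simp only [Pure6.isPureAlong_iff]
  refine ⟨fun h J hJ n hn => ?_, fun hN hQ J hJ m hm => ?_⟩
  · refine Subtype.ext (h J hJ n fun p hp => ?_)
    obtain ⟨s, hs, hsn⟩ := hn p hp
    exact ⟨s, hs, congrArg Subtype.val hsn⟩
  · have hq : N.mkQ m = 0 := hQ J hJ _ fun p hp => by
      obtain ⟨s, hs, hsm⟩ := hm p hp
      exact ⟨s, hs, by rw [← map_smul, hsm, map_zero]⟩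
    rw [Submodule.mkQ_apply, Submodule.Quotient.mk_eq_zero] at hq
    have := hN J hJ ⟨m, hq⟩ fun p hp => by
      obtain ⟨s, hs, hsm⟩ := hm p hp
      exact ⟨s, hs, Subtype.ext hsm⟩
    exact congrArg Subtype.val this

end Groth.Agent.S4720
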