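import Groth.Statements.S4721
import Groth.Agent.CAlgH3.ConnDepthTwo
import Groth.Agent.CAlgH3.Depth

set_option autoImplicit false
universe u
open EGA4

namespace Groth.Agent.S4721

/-- Let A be a Noetherian ring whose spectrum is connected and d a natural number such that for every
prime p of height at least d the local ring A_p has depth at least 2. Then for any two distinct
minimal primes p', p'' of A there is a finite chain of minimal primes starting at p' and ending at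
p'' such that any two consecutive members are both contained in a prime ideal of height at most d −
1 (the spectrum is connected in codimension at most d − 1). -/
theorem result (A : Type u) [CommRing A] [IsNoetherianRing A]
    [ConnectedSpace (PrimeSpectrum A)] (d : ℕ)
    (h : ∀ (p : Ideal A) [p.IsPrime], (d : ℕ∞) ≤ p.height →
      (2 : ℕ∞) ≤ LocCoh.depth (Localization.AtPrime p) (Localization.AtPrime p))
    (p' p'' : Ideal A) (hp' : p' ∈ minimalPrimes A) (hp'' : p'' ∈ minimalPrimes A) (hne : p' ≠ p'') :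
    ∃ (n : ℕ) (c : Fin (n + 1) → Ideal A), c 0 = p' ∧ c (Fin.last n) = p'' ∧ (∀ i, c i ∈ minimalPrimes A) ∧
      ∀ i : Fin n, ∃ (q : Ideal A) (_ : q.IsPrime),
        c i.castSucc ≤ q ∧ c i.succ ≤ q ∧ q.height + 1 ≤ (d : ℕ∞) := by
  classical
  let R : Ideal A → Ideal A → Prop := fun a b =>
    b ∈ minimalPrimes A ∧ ∃ (q : Ideal A) (_ : q.IsPrime), a ≤ q ∧ b ≤ q ∧ q.height + 1 ≤ (d : ℕ∞)
  -- primes reachable from `p'`
  let S : Set (Ideal A) := {p | ∃ (n : ℕ) (c : Fin (n + 1) → Ideal A), c 0 = p' ∧ c (Fin.last n) = p ∧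
    (∀ i, c i ∈ minimalPrimes A) ∧ ∀ i : Fin n, ∃ (q : Ideal A) (_ : q.IsPrime),
      c i.castSucc ≤ q ∧ c i.succ ≤ q ∧ q.height + 1 ≤ (d : ℕ∞)}
  suffices hS : p'' ∈ S by exact hS
  by_contra hnot
  have hS0 : p' ∈ S := ⟨0, fun _ => p', rfl, rfl, fun _ => hp', fun i => i.elim0⟩
  have hstep : ∀ a ∈ S, ∀ b ∈ minimalPrimes A, b ∉ S → ∀ (q : Ideal A) [q.IsPrime], a ≤ q → b ≤ q →
      (d : ℕ∞) ≤ q.height := by
    intro a ha b hb hbS q _ haq hbq
    by_contra hlt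
    obtain ⟨n, c, h0, hl, hmin, hlink⟩ := ha
    refine hbS ⟨n + 1, Fin.snoc c b, ?_, Fin.snoc_last _ _, ?_, ?_⟩
    · rw [show (0 : Fin (n + 2)) = (0 : Fin (n + 1)).castSucc from rfl, Fin.snoc_castSucc, h0]
    · intro i
      refine Fin.lastCases ?_ (fun j => ?_) i
      · rw [Fin.snoc_last]; exact hb
      · rw [Fin.snoc_castSucc]; exact hmin j
    · intro i
      refine Fin.lastCases ?_ (fun j => ?_) i
      · refine ⟨q, inferInstance, ?_, ?_, ENat.add_one_le_iff (ne_top_of_lt (not_le.1 hlt)) |>.2 (not_le.1 hlt)⟩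
        · rw [Fin.snoc_castSucc, hl]; exact haq
        · rw [Fin.succ_last, Fin.snoc_last]; exact hbq
      · obtain ⟨q', hq', h1, h2, h3⟩ := hlink j
        refine ⟨q', hq', ?_, ?_, h3⟩
        · rw [Fin.snoc_castSucc]; exact h1
        · rw [Fin.succ_castSucc, Fin.snoc_castSucc]; exact h2
  let Z₁ : Set (PrimeSpectrum A) := ⋃ p ∈ minimalPrimes A ∩ S, PrimeSpectrum.zeroLocus (p : Set A)
  let Z₂ : Set (PrimeSpectrum A) := ⋃ p ∈ minimalPrimes A \ S, PrimeSpectrum.zeroLocus (p : Set A)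
  have hc₁ : IsClosed Z₁ := ((minimalPrimes.finite_of_isNoetherianRing A).inter_of_left S).isClosed_biUnion
    fun p _ => PrimeSpectrum.isClosed_zeroLocus _
  have hc₂ : IsClosed Z₂ := ((minimalPrimes.finite_of_isNoetherianRing A).sdiff).isClosed_biUnion
    fun p _ => PrimeSpectrum.isClosed_zeroLocus _
  have hcov : ∀ x : PrimeSpectrum A, x ∈ Z₁ ∪ Z₂ := by
    intro x
    obtain ⟨p, hp, hpx⟩ := Ideal.exists_minimalPrimes_le (I := (⊥ : Ideal A)) (J := x.asIdeal) bot_le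
    by_cases hpS : p ∈ S
    · exact Or.inl (Set.mem_biUnion ⟨hp, hpS⟩ hpx)
    · exact Or.inr (Set.mem_biUnion ⟨hp, hpS⟩ hpx)
  have hdepth : ∀ x ∈ Z₁ ∩ Z₂, (2 : ℕ∞) ≤ LocCoh.depth (Localization.AtPrime x.asIdeal) (Localization.AtPrime x.asIdeal) := by
    rintro x ⟨hx₁, hx₂⟩
    obtain ⟨a, ⟨-, haS⟩, hax⟩ := Set.mem_iUnion₂.1 hx₁
    obtain ⟨b, ⟨hb, hbS⟩, hbx⟩ := Set.mem_iUnion₂.1 hx₂
    exact h x.asIdeal (hstep a haS b hb hbS x.asIdeal hax hbx)
  let X := AlgebraicGeometry.Spec (CommRingCat.of A)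
  haveI : AlgebraicGeometry.IsLocallyNoetherian X := inferInstance
  let U : X.Opens := ⟨(Z₁ ∩ Z₂)ᶜ, (hc₁.inter hc₂).isOpen_compl⟩
  have hU : ∀ x : X, x ∉ (U : Set X) → (2 : ℕ∞) ≤ LocCoh.depth (X.presheaf.stalk x) (X.presheaf.stalk x) := by
    intro x hx
    let e : Localization.AtPrime x.asIdeal ≃+* (X.presheaf.stalk x : Type u) :=
      (AlgebraicGeometry.StructureSheaf.stalkIso A x).toRingEquiv
    rw [← _root_.Groth.Agent.CAlgH3.depth_ringEquiv e]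
    exact hdepth x (not_not.1 hx)
  haveI : ConnectedSpace X := inferInstanceAs (ConnectedSpace (PrimeSpectrum A))
  let x₁ : X := ⟨p', hp'.1.1⟩
  have hpre := _root_.Groth.Agent.CAlgH3.ConnDepthTwo.isPreconnected_inter U hU x₁
  rw [PreconnectedSpace.connectedComponent_eq_univ, Set.univ_inter] at hpre
  have key : ∀ (p : Ideal A) (hp : p ∈ minimalPrimes A) (T : Set (Ideal A)),
      (⟨p, hp.1.1⟩ : PrimeSpectrum A) ∈ ⋃ q ∈ minimalPrimes A ∩ T, PrimeSpectrum.zeroLocus (q : Set A) → p ∈ T := by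
    intro p hp T hx
    obtain ⟨q, ⟨hq, hqT⟩, hqx⟩ := Set.mem_iUnion₂.1 hx
    rwa [le_antisymm (hp.2 hq.1 hqx) hqx]
  let x₂ : X := ⟨p'', hp''.1.1⟩
  have h₁ : x₁ ∈ Z₁ := Set.mem_biUnion ⟨hp', hS0⟩ (show ((p' : Ideal A) : Set A) ⊆ p' from subset_rfl)
  have h₁' : x₁ ∉ Z₂ := fun hx => key p' hp' Sᶜ hx hS0
  have h₂ : x₂ ∈ Z₂ := Set.mem_biUnion ⟨hp'', hnot⟩ (show ((p'' : Ideal A) : Set A) ⊆ p'' from subset_rfl)
  have h₂' : x₂ ∉ Z₁ := fun hx => hnot (key p'' hp'' S hx)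
  obtain ⟨y, hyU, hy⟩ := hpre Z₂ᶜ Z₁ᶜ hc₂.isOpen_compl hc₁.isOpen_compl
    (fun y hy => not_and_or.1 (fun hh => hy ⟨hh.2, hh.1⟩))
    ⟨x₁, fun hh => h₁' hh.2, h₁'⟩ ⟨x₂, fun hh => h₂' hh.1, h₂'⟩
  exact (hcov y).elim hy.2 hy.1

end Groth.Agent.S4721
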