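import Groth.Statements.S4722
import Mathlib.RingTheory.Ideal.AssociatedPrime.Localization

set_option autoImplicit false
universe u
open EGA4

namespace Groth.Agent.S4722

open Submodule in
private theorem exists_filtration {A : Type u} [CommRing A] [IsNoetherianRing A] {M : Type u}
    [AddCommGroup M] [Module A M] [Module.Finite A M] (p : Ideal A) [hpp : p.IsPrime]
    (hrad : p ≤ (Module.annihilator A M).radical) (N : Submodule A M)
    (hN : ∀ s ∉ p, ∀ m : M, s • m ∈ N → m ∈ N) :
    ∃ (m : ℕ) (F : Fin (m + 1) → Submodule A M), Antitone F ∧ F 0 = ⊤ ∧ F (Fin.last m) = N ∧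
      ∀ i : Fin m, ∃ g : (↥(F i.castSucc) ⧸ Submodule.comap (F i.castSucc).subtype (F i.succ)) →ₗ[A] (A ⧸ p),
        Function.Injective g := by
  induction N using WellFoundedGT.induction with
  | _ N ih =>
  by_cases hNt : N = ⊤
  · subst hNt
    exact ⟨0, fun _ => ⊤, fun _ _ _ => le_rfl, rfl, rfl, fun i => i.elim0⟩
  haveI : Nontrivial (M ⧸ N) := Submodule.Quotient.nontrivial_iff.mpr hNt
  obtain ⟨q, hq⟩ := associatedPrimes.nonempty A (M ⧸ N)
  obtain ⟨hqp, y, hy⟩ := (isAssociatedPrime_iff (R := A)).mp hq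
  obtain ⟨x, rfl⟩ := N.mkQ_surjective y
  have hmem : ∀ a, a ∈ q ↔ a • x ∈ N := fun a => by
    rw [hy, mem_colon_singleton, mem_bot, ← map_smul, mkQ_apply, Quotient.mk_eq_zero]
  have hxN : x ∉ N := fun h => hqp.ne_top ((Ideal.eq_top_iff_one _).mpr ((hmem 1).mpr (by rwa [one_smul])))
  have hqeq : q = p := by
    refine le_antisymm (fun a ha => ?_) (fun a ha => ?_)
    · by_contra hap
      exact hxN (hN a hap x ((hmem a).mp ha))
    · obtain ⟨k, hk⟩ := hrad ha
      refine hqp.mem_of_pow_mem k ((hmem _).mpr ?_)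
      rw [Module.mem_annihilator.mp hk x]
      exact N.zero_mem
  rw [hqeq] at hmem
  -- saturation of `N + A x`
  let P : Submodule A M :=
    { carrier := {m | ∃ s ∉ p, ∃ a : A, s • m - a • x ∈ N}
      zero_mem' := ⟨1, (Ideal.ne_top_iff_one p).mp hpp.ne_top, 0, by simp⟩
      add_mem' := by
        rintro m m' ⟨s, hs, a, h⟩ ⟨s', hs', a', h'⟩
        refine ⟨s * s', fun hh => (hpp.mem_or_mem hh).elim hs hs', s' * a + s * a', ?_⟩
        have h' := N.add_mem (N.smul_mem s' h) (N.smul_mem s h')
        convert h' using 1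
        module
      smul_mem' := by
        rintro c m ⟨s, hs, a, h⟩
        refine ⟨s, hs, c * a, ?_⟩
        have h' := N.smul_mem c h
        convert h' using 1
        module }
  have hNP : N ≤ P := fun m hm => ⟨1, (Ideal.ne_top_iff_one p).mp hpp.ne_top, 0, by simpa⟩
  have hxP : x ∈ P := ⟨1, (Ideal.ne_top_iff_one p).mp hpp.ne_top, 1, by simp⟩
  have hlt : N < P := lt_of_le_of_ne hNP fun h => hxN (h ▸ hxP)
  have hPsat : ∀ s ∉ p, ∀ m : M, s • m ∈ P → m ∈ P := by
    rintro s hs m ⟨s', hs', a, h⟩
    exact ⟨s' * s, fun hh => (hpp.mem_or_mem hh).elim hs' hs, a, by rwa [mul_smul]⟩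
  obtain ⟨n, F, hF, hF0, hFl, hg⟩ := ih P hlt hPsat
  -- one multiplier for all of `P`
  have hmult : ∃ S : A, S ∉ p ∧ ∀ m ∈ P, ∃ a : A, S • m - a • x ∈ N := by
    obtain ⟨T, hT⟩ := IsNoetherian.noetherian P
    have key : ∀ T : Finset M, (T : Set M) ⊆ P →
        ∃ S : A, S ∉ p ∧ ∀ m ∈ span A (T : Set M), ∃ a : A, S • m - a • x ∈ N := by
      classical
      intro T
      induction T using Finset.induction with
      | empty =>
        exact fun _ => ⟨1, (Ideal.ne_top_iff_one p).mp hpp.ne_top, fun m hm => ⟨0, by simp_all⟩⟩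
      | insert t T _ iht =>
        intro hsub
        obtain ⟨S, hS, hSm⟩ := iht fun z hz => hsub (by simp [hz])
        obtain ⟨s, hs, b, hb⟩ := hsub (show t ∈ (↑(insert t T) : Set M) by simp)
        refine ⟨S * s, fun hh => (hpp.mem_or_mem hh).elim hS hs, fun m hm => ?_⟩
        rw [Finset.coe_insert, mem_span_insert] at hm
        obtain ⟨c, z, hz, rfl⟩ := hm
        obtain ⟨a, ha⟩ := hSm z hz
        refine ⟨S * c * b + s * a, ?_⟩
        have h' := N.add_mem (N.smul_mem (S * c) hb) (N.smul_mem s ha)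
        convert h' using 1
        module
    obtain ⟨S, hS, h⟩ := key T (by rw [← hT]; exact subset_span)
    exact ⟨S, hS, fun m hm => h m (hT.symm ▸ hm)⟩
  obtain ⟨S, hS, hSm⟩ := hmult
  choose a ha using fun m : P => hSm m.1 m.2
  have huniq : ∀ (m : P) (b : A), S • m.1 - b • x ∈ N → Ideal.Quotient.mk p b = Ideal.Quotient.mk p (a m) := by
    intro m b hb
    rw [Ideal.Quotient.eq, hmem, sub_smul]
    have h' := N.sub_mem (ha m) hb
    convert h' using 1
    module
  let φ : P →ₗ[A] A ⧸ p :=
    { toFun := fun m => Ideal.Quotient.mk p (a m)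
      map_add' := fun m m' => by
        rw [← map_add]
        refine (huniq (m + m') (a m + a m') ?_).symm
        have h' := N.add_mem (ha m) (ha m')
        convert h' using 1
        simp only [Submodule.coe_add]
        module
      map_smul' := fun c m => by
        refine (huniq (c • m) (c * a m) ?_).symm.trans ?_
        · have h' := N.smul_mem c (ha m)
          convert h' using 1
          simp only [Submodule.coe_smul]
          module
        · rfl }
  have hker : LinearMap.ker φ = N.comap P.subtype := by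
    ext m
    rw [LinearMap.mem_ker, show φ m = Ideal.Quotient.mk p (a m) from rfl,
      Ideal.Quotient.eq_zero_iff_mem, hmem, mem_comap, subtype_apply]
    refine ⟨fun h => hN S hS _ ?_, fun h => ?_⟩
    · have h' := N.add_mem (ha m) h
      simpa using h'
    · have h' := N.sub_mem (N.smul_mem S h) (ha m)
      simpa using h'
  refine ⟨n + 1, Fin.snoc F N, ?_, ?_, ?_, ?_⟩
  · rw [Fin.antitone_iff_succ_le]
    intro i
    induction i using Fin.lastCases with
    | last => rw [Fin.succ_last, Fin.snoc_last, Fin.snoc_castSucc, hFl]; exact hNP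
    | cast j =>
      rw [Fin.succ_castSucc, Fin.snoc_castSucc, Fin.snoc_castSucc]
      exact hF (Fin.castSucc_le_succ j)
  · rw [← Fin.castSucc_zero, Fin.snoc_castSucc, hF0]
  · rw [Fin.snoc_last]
  · intro i
    induction i using Fin.lastCases with
    | last =>
      rw [Fin.succ_last, Fin.snoc_last, Fin.snoc_castSucc, hFl]
      exact ⟨(N.comap P.subtype).liftQ φ hker.ge,
        LinearMap.ker_eq_bot.mp (Submodule.ker_liftQ_eq_bot _ _ _ hker.le)⟩
    | cast j =>
      rw [Fin.succ_castSucc, Fin.snoc_castSucc, Fin.snoc_castSucc]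
      exact hg j


/-- Let A be a Noetherian ring and M a finite A-module whose set of associated primes is a single prime
p. Then M has a finite decreasing filtration by submodules M = M_0 ⊇ M_1 ⊇ ⋯ ⊇ M_m = 0 such that
each quotient M_h/M_{h+1} is isomorphic to a submodule of A/p (i.e. embeds A-linearly into A/p). -/
theorem result (A : Type u) [CommRing A] [IsNoetherianRing A]
    (M : Type u) [AddCommGroup M] [Module A M] [Module.Finite A M] (p : Ideal A)
    (hp : associatedPrimes A M = {p}) :
    ∃ (m : ℕ) (F : Fin (m + 1) → Submodule A M), Antitone F ∧ F 0 = ⊤ ∧ F (Fin.last m) = ⊥ ∧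
      ∀ i : Fin m, ∃ g : (↥(F i.castSucc) ⧸ Submodule.comap (F i.castSucc).subtype (F i.succ)) →ₗ[A] (A ⧸ p),
        Function.Injective g := by
  haveI hpp : p.IsPrime := IsAssociatedPrime.isPrime (show p ∈ associatedPrimes A M by rw [hp]; rfl)
  refine exists_filtration p ?_ ⊥ fun s hs m hm => ?_
  · rw [Ideal.radical_eq_sInf]
    refine le_sInf fun q ⟨hq, hqp⟩ => ?_
    haveI := hqp
    obtain ⟨r, hr, hrq⟩ := Ideal.exists_minimalPrimes_le hq
    have := Module.associatedPrimes.minimalPrimes_annihilator_subset_associatedPrimes (R := A) (M := M) hr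
    rw [hp, Set.mem_singleton_iff] at this
    exact this ▸ hrq
  · rw [Submodule.mem_bot] at hm ⊢
    by_contra hne
    apply hs
    have : s ∈ ⋃ q ∈ associatedPrimes A M, (q : Set A) := by
      rw [biUnion_associatedPrimes_eq_zero_divisors A M]
      exact ⟨m, hne, hm⟩
    simpa [hp] using this

end Groth.Agent.S4722
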