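import Groth.Statements.S4726
import Groth.Agent.CAlgH.FlatModel

set_option autoImplicit false
universe u
open EGA4

namespace Groth.Agent.S4726

open TensorProduct in
/-- Let (A_i) be a directed system of commutative rings with direct limit A and M a finitely presented
A-module. Then there exist an index i and a finitely presented A_i-module M_i such that M is
isomorphic, as an A-module, to A ⊗_{A_i} M_i (A being an A_i-algebra through the canonical map). -/
theorem result (ι : Type u) [Preorder ι] [Nonempty ι] [IsDirectedOrder ι]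
    (G : ι → Type u) [∀ i, CommRing (G i)] (f : ∀ i j, i ≤ j → G i →+* G j)
    [DirectedSystem G (fun i j h ↦ f i j h)] (M : Type u) [AddCommGroup M]
    [Module (Ring.DirectLimit G (fun i j h ↦ f i j h)) M]
    [Module.FinitePresentation (Ring.DirectLimit G (fun i j h ↦ f i j h)) M] :
    ∃ (i : ι) (Mi : Type u) (_ : AddCommGroup Mi) (_ : Module (G i) Mi), Module.FinitePresentation (G i) Mi ∧
      letI : Algebra (G i) (Ring.DirectLimit G (fun i j h ↦ f i j h)) :=
        (Ring.DirectLimit.of G (fun i j h ↦ f i j h) i).toAlgebra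
      Nonempty (M ≃ₗ[Ring.DirectLimit G (fun i j h ↦ f i j h)] (Ring.DirectLimit G (fun i j h ↦ f i j h)) ⊗[G i] Mi) := by
  classical
  let A := Ring.DirectLimit G (fun i j h ↦ f i j h)
  obtain ⟨k, K, eM, hK⟩ := Module.FinitePresentation.exists_fin A M
  obtain ⟨l, w, hw⟩ := Submodule.fg_iff_exists_fin_generating_family.1 hK
  choose i x hx using fun p : Fin l × Fin k => Ring.DirectLimit.exists_of (w p.1 p.2)
  obtain ⟨i0, hi0⟩ := Finite.exists_le i
  let of0 := Ring.DirectLimit.of G (fun i j h ↦ f i j h) i0
  letI : Algebra (G i0) A := of0.toAlgebra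
  let w₀ : Fin l → Fin k → G i0 := fun a b => f (i (a, b)) i0 (hi0 (a, b)) (x (a, b))
  obtain ⟨g, hg⟩ := Groth.Agent.CAlgH.FlatModel.exists_isBaseChange_coker (S := A) w₀ K (by
    rw [← hw]
    congr 1
    refine congrArg Set.range (funext fun a => funext fun b => ?_)
    show w a b = of0 (f (i (a, b)) i0 (hi0 (a, b)) (x (a, b)))
    rw [← hx (a, b)]
    exact (Ring.DirectLimit.of_f (f := fun i j h ↦ f i j h) (hi0 (a, b)) (x (a, b))).symm)
  refine ⟨i0, (Fin k → G i0) ⧸ Submodule.span (G i0) (Set.range w₀), inferInstance, inferInstance,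
    Module.finitePresentation_of_surjective _ (Submodule.mkQ_surjective _) (by
      rw [Submodule.ker_mkQ]; exact Submodule.fg_span (Set.finite_range _)), ⟨eM.trans hg.equiv.symm⟩⟩

end Groth.Agent.S4726
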