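import Groth.Statements.S4728
import Groth.Agent.CommAlg6.GeomFib
import Groth.Agent.CommAlg6.FibreLocal

set_option autoImplicit false
universe u
open EGA4

namespace Groth.Agent.S4728

/-- Let A be a Noetherian local domain of dimension 1 with maximal ideal m, A' a Noetherian local ring
and A → A' a local homomorphism which is normal (flat, with geometrically normal fibres). Then the
ideal m A' of A' is prime and the local ring of A' at m A' has dimension 1. (The remaining clauses
of the published item, describing A' inside its total ring of fractions, are not restated.) -/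
theorem result (A A' : Type u) [CommRing A] [CommRing A']
    [IsNoetherianRing A] [IsNoetherianRing A'] [IsLocalRing A] [IsLocalRing A'] [IsDomain A]
    (hA : ringKrullDim A = 1) [Algebra A A'] [IsLocalHom (algebraMap A A')] (h : EGA4.IsNormalHom A A') :
    ((IsLocalRing.maximalIdeal A).map (algebraMap A A')).IsPrime ∧
      ((IsLocalRing.maximalIdeal A).map (algebraMap A A')).height = 1 := by
  let m := IsLocalRing.maximalIdeal A
  let J := m.map (algebraMap A A')
  haveI := h.1
  haveI : Nontrivial (A' ⧸ J) := Ideal.Quotient.nontrivial_iff.2 fun e =>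
    (IsLocalRing.maximalIdeal.isMaximal A').ne_top
      (top_le_iff.1 (e ▸ IsLocalRing.map_maximalIdeal_le (algebraMap A A')))
  haveI : IsLocalRing (A' ⧸ J) := .of_surjective' _ Ideal.Quotient.mk_surjective
  haveI : Algebra.IsIntegral A (A ⧸ m) := inferInstance
  letI := Ideal.Quotient.field m
  have hK : Groth.Agent.CommAlg6.IsResFinite A (A ⧸ m) := by
    let e : (A ⧸ m) ≃ₐ[A] m.ResidueField := AlgEquiv.ofBijective
      (IsScalarTower.toAlgHom A (A ⧸ m) m.ResidueField) m.bijective_algebraMap_quotient_residueField
    letI : Algebra m.ResidueField (A ⧸ m) := e.symm.toAlgHom.toRingHom.toAlgebra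
    haveI : IsScalarTower A m.ResidueField (A ⧸ m) :=
      .of_algebraMap_eq fun a => (e.symm.commutes a).symm
    exact ⟨m, inferInstance, inferInstance, inferInstance,
      Module.Finite.of_surjective (Algebra.linearMap m.ResidueField (A ⧸ m)) e.symm.surjective⟩
  have hn : EGA4.IsNormalRing (A' ⧸ J) := by
    have h' := Groth.Agent.CommAlg6.geomNormal_fibres_iff.1 h.2 (A ⧸ m) hK
    exact Groth.Agent.CommAlg6.isNormalRing_of_ringEquiv
      ((Algebra.TensorProduct.comm A (A ⧸ m) A').toRingEquiv.trans
        (Algebra.TensorProduct.quotIdealMapEquivTensorQuot A' m).symm.toRingEquiv) h'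
  obtain ⟨hd, -⟩ := hn (IsLocalRing.maximalIdeal (A' ⧸ J))
  haveI : IsDomain (A' ⧸ J) :=
    (IsLocalization.atUnits (A' ⧸ J) (IsLocalRing.maximalIdeal (A' ⧸ J)).primeCompl
      (S := Localization.AtPrime (IsLocalRing.maximalIdeal (A' ⧸ J)))
      (fun x hx => IsLocalRing.notMem_maximalIdeal.1 hx)).toRingEquiv.toMulEquiv.isDomain
  haveI hp : J.IsPrime := (Ideal.Quotient.isDomain_iff_prime J).1 inferInstance
  refine ⟨hp, ?_⟩
  haveI : J.LiesOver m := ⟨((IsLocalRing.maximalIdeal.isMaximal A).eq_of_le
    (Ideal.IsPrime.ne_top inferInstance) Ideal.le_comap_map)⟩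
  rw [Ideal.height_eq_height_add_of_liesOver_of_hasGoingDown m J]
  rw [Ideal.map_quotient_self, Ideal.height_bot, add_zero, ← WithBot.coe_inj,
    IsLocalRing.maximalIdeal_height_eq_ringKrullDim, hA]
  rfl

end Groth.Agent.S4728
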