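import Groth.Statements.S4731

set_option autoImplicit false
universe u
open EGA4

namespace Groth.Agent.S4731

private theorem isNoetherian_of_quotient {S Q : Type*} [CommRing S] [AddCommGroup Q] [Module S Q]
    (c : Ideal S) [Module (S ⧸ c) Q] [IsScalarTower S (S ⧸ c) Q] [IsNoetherian (S ⧸ c) Q] :
    IsNoetherian S Q := by
  refine ⟨fun N => ?_⟩
  let N' : Submodule (S ⧸ c) Q :=
    { N with
      smul_mem' := fun z x hx => by
        obtain ⟨s, rfl⟩ := Ideal.Quotient.mk_surjective z
        rw [show Ideal.Quotient.mk c s = algebraMap S (S ⧸ c) s from rfl, algebraMap_smul]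
        exact N.smul_mem s hx }
  obtain ⟨T, hT⟩ := IsNoetherian.noetherian N'
  refine ⟨T, ?_⟩
  calc Submodule.span S (T : Set Q)
      = (Submodule.span (S ⧸ c) (T : Set Q)).restrictScalars S :=
        (Submodule.restrictScalars_span S (S ⧸ c) Ideal.Quotient.mk_surjective _).symm
    _ = N := by rw [hT]; rfl


/-- Let S → R be an injective homomorphism of commutative rings making R a finite S-module, with R
Noetherian; let c be the conductor of S in R, the ideal of those s in S with s R contained in (the
image of) S. If S/c is Noetherian, then every increasing sequence of ideals of S contained in c is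
eventually constant. -/
theorem result (S R : Type u) [CommRing S] [CommRing R] [Algebra S R]
    [FaithfulSMul S R] [IsNoetherianRing R] [Module.Finite S R] (c : Ideal S)
    (hc : ∀ s : S, s ∈ c ↔ ∀ r : R, ∃ s' : S, algebraMap S R s' = algebraMap S R s * r)
    [IsNoetherianRing (S ⧸ c)] (a : ℕ →o Ideal S) (ha : ∀ n, a n ≤ c) :
    ∃ N : ℕ, ∀ n, N ≤ n → a n = a N := by
  classical
  have inj : Function.Injective (algebraMap S R) := FaithfulSMul.algebraMap_injective S R
  let A : ℕ → Submodule S R := fun n => Submodule.map (Algebra.linearMap S R) (a n)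
  have hA : Monotone A := fun i j h => Submodule.map_mono (a.monotone h)
  let J : ℕ →o Ideal R := ⟨fun n => (a n).map (algebraMap S R), fun i j h => Ideal.map_mono (a.monotone h)⟩
  obtain ⟨N₀, hN₀⟩ := monotone_stabilizes_iff_noetherian.mpr ‹IsNoetherianRing R› J
  let B : Submodule S R := (J N₀).restrictScalars S
  haveI : Module.Finite S B :=
    Module.Finite.of_fg (Submodule.FG.restrictScalars (IsNoetherian.noetherian (J N₀)))
  haveI : IsNoetherian (S ⧸ c) (↥B ⧸ c • (⊤ : Submodule S B)) := by
    haveI : Module.Finite (S ⧸ c) (↥B ⧸ c • (⊤ : Submodule S B)) :=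
      Module.Finite.of_restrictScalars_finite S _ _
    infer_instance
  haveI := isNoetherian_of_quotient c (Q := ↥B ⧸ c • (⊤ : Submodule S B))
  let D : ℕ →o Submodule S (↥B ⧸ c • (⊤ : Submodule S B)) :=
    ⟨fun n => ((A n).comap B.subtype).map (Submodule.mkQ _),
      fun i j h => Submodule.map_mono (Submodule.comap_mono (hA h))⟩
  obtain ⟨N₁, hN₁⟩ := monotone_stabilizes_iff_noetherian.mpr
    ‹IsNoetherian S (↥B ⧸ c • (⊤ : Submodule S B))› D
  have hAB : ∀ n, A n ≤ B := by
    intro n x hx
    obtain ⟨s, hs, rfl⟩ := hx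
    have h1 : algebraMap S R s ∈ J (max n N₀) :=
      Ideal.mem_map_of_mem _ (a.monotone (le_max_left n N₀) hs)
    rw [← hN₀ _ (le_max_right n N₀)] at h1
    exact h1
  -- `c • B` lies in every late `A n`
  have hcB : ∀ n, N₀ ≤ n → (c • B : Submodule S R) ≤ A n := by
    intro n hn
    refine Submodule.smul_le.mpr fun t ht x hx => ?_
    have hx' : x ∈ Ideal.map (algebraMap S R) (a n) := by
      have : x ∈ J N₀ := hx
      rwa [hN₀ n hn] at this
    rw [Algebra.smul_def]
    clear hx
    induction hx' using Submodule.span_induction generalizing t with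
    | mem y hy =>
      obtain ⟨s, hs, rfl⟩ := hy
      exact ⟨t * s, Ideal.mul_mem_left _ _ hs, by simp⟩
    | zero => rw [mul_zero]; exact (A n).zero_mem
    | add y z _ _ h1 h2 => rw [mul_add]; exact (A n).add_mem (h1 t ht) (h2 t ht)
    | smul r y _ h1 =>
      obtain ⟨v, hv⟩ := (hc t).mp ht r
      have hvc : v ∈ c := (hc v).mpr fun r' => by
        obtain ⟨v', hv'⟩ := (hc t).mp ht (r * r')
        exact ⟨v', by rw [hv', hv, mul_assoc]⟩
      have := h1 v hvc
      rwa [hv, mul_assoc, ← smul_eq_mul r y] at this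
  refine ⟨max N₀ N₁, fun n hn => le_antisymm (fun s hs => ?_) (a.monotone hn)⟩
  have hm : algebraMap S R s ∈ A n := ⟨s, hs, rfl⟩
  have h2 : Submodule.mkQ (c • (⊤ : Submodule S B)) ⟨algebraMap S R s, hAB n hm⟩ ∈ D n :=
    Submodule.mem_map_of_mem hm
  rw [← hN₁ n ((le_max_right _ _).trans hn), hN₁ _ (le_max_right N₀ N₁)] at h2
  obtain ⟨y, hy, hyeq⟩ := h2
  rw [Submodule.mkQ_apply, Submodule.mkQ_apply, Submodule.Quotient.eq] at hyeq
  have hd : (y : R) - algebraMap S R s ∈ (c • B : Submodule S R) := by
    have h3 := Submodule.mem_map_of_mem (f := B.subtype) hyeq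
    rw [Submodule.map_smul'', Submodule.map_top, Submodule.range_subtype] at h3
    exact h3
  have h4 : algebraMap S R s ∈ A (max N₀ N₁) := by
    have := (A (max N₀ N₁)).sub_mem hy (hcB _ (le_max_left _ _) hd)
    simpa using this
  obtain ⟨s', hs', he⟩ := h4
  rwa [← inj he]

end Groth.Agent.S4731
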