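import Groth.Statements.S4732
import Mathlib.RingTheory.RegularLocalRing.Polynomial

set_option autoImplicit false
universe u
open EGA4

namespace Groth.Agent.S4732

open AlgebraicGeometry CategoryTheory in
/-- Let k be a field, X a scheme locally of finite type over k and x a point of X. Then there are an
open neighbourhood U of x, a k-scheme Y all of whose local rings are regular, and an immersion U → Y
compatible with the structure morphisms to Spec k. -/
theorem result (k : Type u) [Field k] {X : Scheme.{u}}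
    (f : X ⟶ Spec (CommRingCat.of k)) [LocallyOfFiniteType f] (x : X) :
    ∃ (U : X.Opens) (_ : x ∈ U) (Y : Scheme.{u}) (g : Y ⟶ Spec (CommRingCat.of k)) (i : (U : Scheme.{u}) ⟶ Y),
      IsImmersion i ∧ i ≫ g = U.ι ≫ f ∧ ∀ y : Y, IsRegularLocalRing (Y.presheaf.stalk y) := by
  obtain ⟨_, ⟨U, hU, rfl⟩, hxU, -⟩ :=
    X.isBasis_affineOpens.exists_subset_of_mem_open (Set.mem_univ x) isOpen_univ
  haveI : IsAffine (U : Scheme.{u}) := hU
  let φ := Spec.preimage (hU.isoSpec.inv ≫ Scheme.Opens.ι U ≫ f)
  have hφeq : Spec.map φ = hU.isoSpec.inv ≫ Scheme.Opens.ι U ≫ f := Spec.map_preimage _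
  have hφ : φ.hom.FiniteType := (HasRingHomProperty.Spec_iff (P := @LocallyOfFiniteType)).mp
    (hφeq ▸ inferInstance)
  algebraize [φ.hom]
  obtain ⟨n, g, hg⟩ := Algebra.FiniteType.iff_quotient_mvPolynomial''.mp
    (inferInstance : Algebra.FiniteType k Γ(X, U))
  refine ⟨U, hxU, Spec (CommRingCat.of (MvPolynomial (Fin n) k)),
    Spec.map (CommRingCat.ofHom MvPolynomial.C),
    hU.isoSpec.hom ≫ Spec.map (CommRingCat.ofHom g.toRingHom), ?_, ?_, fun y => ?_⟩
  · haveI := IsClosedImmersion.spec_of_surjective (CommRingCat.ofHom g.toRingHom) hg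
    infer_instance
  · rw [Category.assoc, ← Spec.map_comp, ← Iso.eq_inv_comp, ← hφeq]
    congr 1
    ext a
    exact g.commutes a
  · haveI : y.asIdeal.IsPrime := y.2
    haveI : IsRegularLocalRing (Localization.AtPrime y.asIdeal) :=
      IsRegularRing.isRegularLocalRing_localization (R := MvPolynomial (Fin n) k) y.asIdeal
    exact IsRegularLocalRing.of_ringEquiv
      (Spec.stalkIso (CommRingCat.of (MvPolynomial (Fin n) k)) y).commRingCatIsoToRingEquiv.symm

end Groth.Agent.S4732
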