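import Groth.Statements.S4734
import Groth.Agent.CAlgH.DepthAlongStratum
import Groth.Agent.CommAlg6.AtPrime
-- import your own Groth.Agent.* helpers here

set_option autoImplicit false
universe u
open EGA4

namespace Groth.Agent.S4734

section
open IsLocalRing TensorProduct Function

theorem depth_eq_of_normallyFlat {R : Type u} [CommRing R] [IsNoetherianRing R] [IsLocalRing R]
    (P : Ideal R) (hP : P ≤ maximalIdeal R) (N : ℕ) (hN : P ^ N = ⊥) (Q : Type u) [AddCommGroup Q] [Module R Q]
    [Module.Finite R Q] [Nontrivial Q] (hQ : EGA4.IsNormallyFlat P Q) :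
    _root_.LocCoh.depth R Q = _root_.LocCoh.depth R (R ⧸ P) := by
  haveI : Nontrivial (R ⧸ P) := Ideal.Quotient.nontrivial_iff.2 fun h =>
    (maximalIdeal.isMaximal R).ne_top (top_le_iff.1 (h ▸ hP))
  haveI : IsLocalRing (R ⧸ P) := .of_surjective' (Ideal.Quotient.mk P) Ideal.Quotient.mk_surjective
  have hs : Surjective (algebraMap R (R ⧸ P)) := Ideal.Quotient.mk_surjective
  obtain ⟨t, ht⟩ := CAlgH3.exists_depth_eq_natCast (R := R) (M := R ⧸ P)
  have hpc : ∀ k, Nontrivial (CAlgH.NormallyFlatDim.Pc P Q k) →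
      _root_.LocCoh.depth R (CAlgH.NormallyFlatDim.Pc P Q k) = t := by
    intro k _
    haveI : Module.Flat (R ⧸ P) (CAlgH.NormallyFlatDim.Pc P Q k) := hQ k
    haveI : Module.Finite (R ⧸ P) (CAlgH.NormallyFlatDim.Pc P Q k) := Module.Finite.of_restrictScalars_finite R _ _
    haveI : Module.Free (R ⧸ P) (CAlgH.NormallyFlatDim.Pc P Q k) := Module.free_of_flat_of_isLocalRing
    rw [← CAlgH3.depth_of_surjective hs, CAlgH3.depth_free, CAlgH3.depth_of_surjective hs, ht]
  have key : ∀ k, _root_.LocCoh.depth R (Q ⧸ (P ^ (k + 1) • (⊤ : Submodule R Q))) = t := by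
    intro k
    induction k with
    | zero =>
      let e : CAlgH.NormallyFlatDim.Pc P Q 0 ≃ₗ[R] Q ⧸ (P ^ (0 + 1) • (⊤ : Submodule R Q)) :=
        LinearEquiv.ofBijective (CAlgH.NormallyFlatDim.ι P Q 0) ⟨CAlgH.NormallyFlatDim.injective_ι P Q 0, fun z => by
          haveI : Subsingleton (Q ⧸ (P ^ 0 • (⊤ : Submodule R Q))) := by
            rw [Submodule.Quotient.subsingleton_iff, pow_zero, one_smul]
          exact (CAlgH.NormallyFlatDim.exact_ι_π P Q 0 z).1 (Subsingleton.elim _ _)⟩
      haveI : Nontrivial (Q ⧸ (P ^ (0 + 1) • (⊤ : Submodule R Q))) := by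
        refine Submodule.Quotient.nontrivial_iff.2 ?_
        exact fun h => LocCoh.smul_top_ne_top_of_nontrivial (R := R) Q (maximalIdeal.isMaximal R).ne_top
          (top_le_iff.1 (h.ge.trans (Submodule.smul_mono (by rw [zero_add, pow_one]; exact hP) le_rfl)))
      rw [← CAlgH3.depth_congr e]
      exact hpc 0 e.toEquiv.nontrivial
    | succ k ih =>
      rcases subsingleton_or_nontrivial (CAlgH.NormallyFlatDim.Pc P Q (k + 1)) with h0 | h0
      · have hinj : Injective (CAlgH.NormallyFlatDim.π P Q (k + 1)) := by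
          rw [← LinearMap.ker_eq_bot, eq_bot_iff]
          intro z hz
          obtain ⟨w, rfl⟩ := (CAlgH.NormallyFlatDim.exact_ι_π P Q (k + 1) z).1 hz
          rw [Subsingleton.elim w 0, map_zero]; exact Submodule.zero_mem _
        rw [CAlgH3.depth_congr (LinearEquiv.ofBijective _ ⟨hinj, CAlgH.NormallyFlatDim.surjective_π P Q (k + 1)⟩), ih]
      · exact CAlgH.DepthAlongStratum.depth_eq_of_exact _ _ (CAlgH.NormallyFlatDim.injective_ι P Q (k + 1))
          (CAlgH.NormallyFlatDim.surjective_π P Q (k + 1)) (CAlgH.NormallyFlatDim.exact_ι_π P Q (k + 1))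
          (hpc (k + 1) h0) ih.ge
  have h1 := key N
  rw [ht, ← h1]
  exact CAlgH3.depth_congr ((Submodule.quotEquivOfEqBot _ (by rw [pow_succ, hN, Ideal.bot_mul, Submodule.bot_smul])).symm)

theorem depth_dim_eq (A : Type u) [CommRing A] [IsNoetherianRing A] (I : Ideal A) (hI : IsNilpotent I) (M : Type u)
    [AddCommGroup M] [Module A M] [Module.Finite A M] (hsupp : Module.support A M = Set.univ)
    (hM : EGA4.IsNormallyFlat I M) (p : Ideal A) [p.IsPrime] :
    Module.supportDim (Localization.AtPrime p) (LocalizedModule p.primeCompl M) =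
      Module.supportDim (Localization.AtPrime p) (LocalizedModule p.primeCompl (A ⧸ I)) ∧
    _root_.LocCoh.depth (Localization.AtPrime p) (LocalizedModule p.primeCompl M) =
      _root_.LocCoh.depth (Localization.AtPrime p) (LocalizedModule p.primeCompl (A ⧸ I)) := by
  obtain ⟨N, hN⟩ := hI
  let R := Localization.AtPrime p
  let P := I.map (algebraMap A R)
  haveI : IsNoetherianRing R := IsLocalization.isNoetherianRing p.primeCompl R inferInstance
  haveI : Module.Finite R (LocalizedModule p.primeCompl M) :=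
    Module.Finite.of_isLocalizedModule p.primeCompl (LocalizedModule.mkLinearMap p.primeCompl M)
  have hall : ∀ q : PrimeSpectrum A, q ∈ Module.support A (A ⧸ I) := fun q => by
    rw [Module.mem_support_iff_of_finite, Ideal.annihilator_quotient]
    exact fun x hx => q.2.mem_of_pow_mem N (by
      have := Ideal.pow_mem_pow hx N
      rw [hN] at this
      rw [show x ^ N = 0 from this]; exact q.asIdeal.zero_mem)
  have h1 : Module.support R (LocalizedModule p.primeCompl M) = Set.univ := Set.eq_univ_of_forall fun P' =>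
    (CommAlg6.mem_support_localizedModule (q := p) (M := M) P').2 (hsupp ▸ Set.mem_univ _)
  have h2 : Module.support R (LocalizedModule p.primeCompl (A ⧸ I)) = Set.univ := Set.eq_univ_of_forall fun P' =>
    (CommAlg6.mem_support_localizedModule (q := p) (M := A ⧸ I) P').2 (hall _)
  refine ⟨by rw [Module.supportDim, Module.supportDim, h1, h2], ?_⟩
  obtain ⟨e⟩ := CAlgH.DepthAlongStratum.nonempty_equiv_quot p I
  rw [CAlgH3.depth_congr e]
  haveI : Nontrivial (LocalizedModule p.primeCompl M) :=
    Module.mem_support_iff.1 (show (⟨p, ‹_›⟩ : PrimeSpectrum A) ∈ Module.support A M by rw [hsupp]; trivial)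
  refine depth_eq_of_normallyFlat P ?_ N (by
    show (I.map (algebraMap A R)) ^ N = ⊥
    rw [← Ideal.map_pow, show I ^ N = ⊥ from hN, Ideal.map_bot]) _ ?_
  · refine Ideal.map_le_iff_le_comap.2 ?_
    rw [show (maximalIdeal R).comap (algebraMap A R) = p from IsLocalization.AtPrime.comap_maximalIdeal R p]
    intro x hx
    have := hall ⟨p, ‹_›⟩
    rw [Module.mem_support_iff_of_finite, Ideal.annihilator_quotient] at this
    exact this hx
  · intro k
    obtain ⟨ek⟩ := CAlgH.GenericNormallyFlat.nonempty_equiv I p.primeCompl R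
      (LocalizedModule.mkLinearMap p.primeCompl M) k
    let D := A ⧸ I
    let Z := CAlgH.GenericNormallyFlat.Pc I M k
    let g : D ⊗[A] Z →ₗ[D] Z := LinearMap.liftBaseChange D (LinearMap.id : Z →ₗ[A] Z)
    have hg1 : ∀ z, g ((1 : D) ⊗ₜ z) = z := fun z => by simp [g]
    have hg2 : ∀ t : D ⊗[A] Z, ∃ z, t = (1 : D) ⊗ₜ z := by
      intro t
      induction t with
      | zero => exact ⟨0, by simp⟩
      | tmul d z =>
        obtain ⟨a, rfl⟩ := Ideal.Quotient.mk_surjective d
        exact ⟨a • z, by rw [← TensorProduct.smul_tmul, Algebra.smul_def, mul_one]; rfl⟩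
      | add x y hx hy =>
        obtain ⟨a, rfl⟩ := hx
        obtain ⟨b, rfl⟩ := hy
        exact ⟨a + b, by rw [TensorProduct.tmul_add]⟩
    have hgb : Bijective g := by
      refine ⟨fun x y hxy => ?_, fun z => ⟨_, hg1 z⟩⟩
      obtain ⟨a, rfl⟩ := hg2 x
      obtain ⟨b, rfl⟩ := hg2 y
      rw [hg1, hg1] at hxy
      rw [hxy]
    haveI : Module.Flat D Z := hM k
    haveI hD : Module.Flat D (D ⊗[A] Z) := Module.Flat.of_linearEquiv (LinearEquiv.ofBijective g hgb)
    let R' := R ⧸ P
    letI : Algebra D R' := (Ideal.quotientMap P (algebraMap A R) Ideal.le_comap_map).toAlgebra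
    haveI : IsScalarTower A D R' := .of_algebraMap_eq fun x => rfl
    haveI : Module.Flat R' (R' ⊗[A] Z) :=
      Module.Flat.of_linearEquiv (AlgebraTensorModule.cancelBaseChange A D R' R' Z).symm
    exact Module.Flat.of_linearEquiv ek.symm

end
/-- Let A be a Noetherian ring, I a nilpotent ideal of A and M a finite A-module whose support is all of
Spec A and which is normally flat along I. Then for every prime p of A: M satisfies Serre's
condition (S_n) at p if and only if the A-module A/I does; and the codepth of M_p is at most n if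
and only if the codepth of the A_p-module (A/I)_p is at most n (codepth written additively as dim ≤
depth + n). -/
theorem result (n : ℕ) (A : Type u) [CommRing A] [IsNoetherianRing A]
    (I : Ideal A) (hI : IsNilpotent I) (M : Type u) [AddCommGroup M] [Module A M] [Module.Finite A M]
    (hsupp : Module.support A M = Set.univ) (hM : EGA4.IsNormallyFlat I M) (p : Ideal A) [p.IsPrime] :
    (EGA4.HasSkAt n A M p ↔ EGA4.HasSkAt n A (A ⧸ I) p) ∧
      (Module.supportDim (Localization.AtPrime p) (LocalizedModule p.primeCompl M) ≤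
          ((LocCoh.depth (Localization.AtPrime p) (LocalizedModule p.primeCompl M) : ℕ∞) : WithBot ℕ∞) + n ↔
        Module.supportDim (Localization.AtPrime p) (LocalizedModule p.primeCompl (A ⧸ I)) ≤
          ((LocCoh.depth (Localization.AtPrime p) (LocalizedModule p.primeCompl (A ⧸ I)) : ℕ∞) : WithBot ℕ∞) + n) := by
  refine ⟨?_, ?_⟩
  · rw [CommAlg6.hasSkAt_iff, CommAlg6.hasSkAt_iff]
    refine forall_congr' fun r => forall_congr' fun _ => forall_congr' fun _ => ?_
    obtain ⟨h1, h2⟩ := depth_dim_eq A I hI M hsupp hM r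
    rw [h1, h2]
  · obtain ⟨h1, h2⟩ := depth_dim_eq A I hI M hsupp hM p
    rw [h1, h2]

end Groth.Agent.S4734
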