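import Groth.Statements.S4739
import Groth.Agent.CAlgH.GRingMaximal
import Groth.Agent.CommAlg6.CompletionEquidim
-- import your own Groth.Agent.* helpers here

set_option autoImplicit false
universe u
open EGA4

namespace Groth.Agent.S4739

open IsLocalRing TensorProduct

open TensorProduct in
/-- Let A → B be a local homomorphism of Noetherian local rings and Â the completion of A, and suppose
B' = B ⊗_A Â is Noetherian. Then for every prime ideal n' of B' lying over the maximal ideal of B
and containing the image of the maximal ideal of A through Â (that is, lying over the maximal ideal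
m_A Â of Â), the completion of B and the completion of the local ring B'_{n'} are isomorphic
(existence of a ring isomorphism only). -/
theorem result (A B : Type u) [CommRing A] [CommRing B] [IsNoetherianRing A]
    [IsNoetherianRing B] [IsLocalRing A] [IsLocalRing B] [Algebra A B] [IsLocalHom (algebraMap A B)]
    [IsNoetherianRing (B ⊗[A] EGA4.Cpl A)] (n' : Ideal (B ⊗[A] EGA4.Cpl A)) [n'.IsPrime]
    (h1 : n'.comap (algebraMap B (B ⊗[A] EGA4.Cpl A)) = IsLocalRing.maximalIdeal B)
    (h2 : (IsLocalRing.maximalIdeal A).map
        ((Algebra.TensorProduct.includeRight.toRingHom : EGA4.Cpl A →+* B ⊗[A] EGA4.Cpl A).comp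
          (algebraMap A (EGA4.Cpl A))) ≤ n') :
    Nonempty (EGA4.Cpl B ≃+* EGA4.Cpl (Localization.AtPrime n')) := by
  let Ah := EGA4.Cpl A
  let B' := B ⊗[A] Ah
  let D := Localization.AtPrime n'
  haveI : IsLocalHom (algebraMap A Ah) := _root_.Groth.Agent.CommAlg6.isLocalHom_completion A
  haveI : Module.Flat A Ah := AdicCompletion.flat_of_isNoetherian _
  let mB := (maximalIdeal B).map (algebraMap B B')
  have hAB : (maximalIdeal A).map (algebraMap A B) ≤ maximalIdeal B :=
    ((local_hom_TFAE (algebraMap A B)).out 0 2 rfl rfl).1 inferInstance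
  have hA' : (maximalIdeal A).map (algebraMap A B') ≤ mB := by
    rw [IsScalarTower.algebraMap_eq A B B', ← Ideal.map_map]
    exact Ideal.map_mono hAB
  have hAh : ∀ z : Ah, ∃ a : A, z - algebraMap A Ah a ∈ (maximalIdeal A).map (algebraMap A Ah) := fun z => by
    obtain ⟨a, ha⟩ := Ideal.Quotient.mk_surjective (AdicCompletion.evalOneₐ (maximalIdeal A) z)
    refine ⟨a, ?_⟩
    rw [← AdicCompletion.ker_evalOneₐ_eq_map _ (IsNoetherian.noetherian _), RingHom.mem_ker, map_sub, sub_eq_zero]
    exact ha.symm.trans (AlgHom.commutes _ a).symm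
  have hrep : ∀ x : B', ∃ b : B, x - algebraMap B B' b ∈ mB := fun x => by
    induction x using TensorProduct.induction_on with
    | zero => exact ⟨0, by simp⟩
    | tmul b z =>
      obtain ⟨a, ha⟩ := hAh z
      refine ⟨a • b, ?_⟩
      have h3 := Ideal.mem_map_of_mem (Algebra.TensorProduct.includeRight : Ah →ₐ[A] B').toRingHom ha
      rw [Ideal.map_map, show (Algebra.TensorProduct.includeRight : Ah →ₐ[A] B').toRingHom.comp (algebraMap A Ah) =
        algebraMap A B' from RingHom.ext (Algebra.TensorProduct.includeRight : Ah →ₐ[A] B').commutes] at h3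
      have h4 := mB.mul_mem_left (b ⊗ₜ[A] (1 : Ah)) (hA' h3)
      rw [show algebraMap B B' (a • b) = b ⊗ₜ[A] algebraMap A Ah a by
        rw [Algebra.TensorProduct.algebraMap_apply, Algebra.algebraMap_self, RingHom.id_apply, TensorProduct.smul_tmul,
          Algebra.algebraMap_eq_smul_one], ← TensorProduct.tmul_sub]
      rwa [show (b ⊗ₜ[A] (1 : Ah)) * (Algebra.TensorProduct.includeRight : Ah →ₐ[A] B').toRingHom (z - algebraMap A Ah a) =
        b ⊗ₜ[A] (z - algebraMap A Ah a) from (Algebra.TensorProduct.tmul_mul_tmul _ _ _ _).trans (by rw [mul_one, one_mul])] at h4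
    | add x y hx hy =>
      obtain ⟨b, hb⟩ := hx
      obtain ⟨c, hc⟩ := hy
      exact ⟨b + c, by rw [map_add, add_sub_add_comm]; exact add_mem hb hc⟩
  have hle : mB ≤ n' := Ideal.map_le_iff_le_comap.2 h1.ge
  have heq : n' = mB := by
    refine le_antisymm (fun x hx => ?_) hle
    obtain ⟨b, hb⟩ := hrep x
    have hbn : algebraMap B B' b ∈ n' := by
      have := sub_mem hx (hle hb)
      rwa [sub_sub_cancel] at this
    have hbm : b ∈ maximalIdeal B := h1 ▸ (hbn : b ∈ n'.comap (algebraMap B B'))
    have := add_mem hb (Ideal.mem_map_of_mem (algebraMap B B') hbm)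
    rwa [sub_add_cancel] at this
  haveI : IsNoetherianRing D := IsLocalization.isNoetherianRing n'.primeCompl _ inferInstance
  haveI : IsLocalHom (algebraMap B D) := ((local_hom_TFAE (algebraMap B D)).out 0 2 rfl rfl).2 (by
    rw [IsScalarTower.algebraMap_eq B B' D, ← Ideal.map_map, show (maximalIdeal B).map (algebraMap B B') = n' from heq.symm,
      Localization.AtPrime.map_eq_maximalIdeal])
  haveI : Module.Flat B D := Module.Flat.trans B B' D
  have hm : (maximalIdeal B).map (algebraMap B D) = maximalIdeal D := by
    rw [IsScalarTower.algebraMap_eq B B' D, ← Ideal.map_map, show (maximalIdeal B).map (algebraMap B B') = n' from heq.symm,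
      Localization.AtPrime.map_eq_maximalIdeal]
  have hk : Function.Surjective (IsLocalRing.ResidueField.map (algebraMap B D)) := fun (w : ResidueField D) => by
    obtain ⟨y, rfl⟩ := residue_surjective w
    obtain ⟨x, ⟨s, hs⟩, rfl⟩ := IsLocalization.exists_mk'_eq n'.primeCompl y
    obtain ⟨b, hb⟩ := hrep x
    obtain ⟨c, hc⟩ := hrep s
    have hc0 : residue B c ≠ 0 := fun h0 => hs (by
      rw [heq]
      have := add_mem hc (Ideal.mem_map_of_mem (algebraMap B B') ((residue_eq_zero_iff c).1 h0))
      rwa [sub_add_cancel] at this)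
    have key : ∀ (z : B') (d : B), z - algebraMap B B' d ∈ mB →
        ResidueField.map (algebraMap B D) (residue B d) = residue D (algebraMap B' D z) := fun z d h => by
      rw [ResidueField.map_residue, IsScalarTower.algebraMap_apply B B' D]
      have h5 : residue D (algebraMap B' D (z - algebraMap B B' d)) = 0 := by
        rw [residue_eq_zero_iff, ← Localization.AtPrime.map_eq_maximalIdeal]
        exact Ideal.mem_map_of_mem _ (heq ▸ h)
      conv_rhs => rw [← sub_add_cancel z (algebraMap B B' d), map_add, map_add, h5, zero_add]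
    refine ⟨residue B b / residue B c, ?_⟩
    rw [map_div₀, key x b hb, key s c hc, div_eq_iff (by
      rw [← key s c hc]; exact (map_ne_zero _).2 hc0), ← map_mul, IsLocalization.mk'_spec]
  obtain ⟨_, _, _⟩ := _root_.Groth.Agent.CommAlg6.exists_algebra_completion B D
  exact ⟨RingEquiv.ofBijective _ (_root_.Groth.Agent.CAlgH.completion_map_bijective B D hm hk (algebraMap _ _)
    (by rw [← IsScalarTower.algebraMap_eq, ← IsScalarTower.algebraMap_eq]))⟩

end Groth.Agent.S4739
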