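import Groth.Statements.S4741
import Groth.Agent.CommAlg6.FlatEquidim
import Mathlib.AlgebraicGeometry.Morphisms.Flat

set_option autoImplicit false
universe u
open EGA4

namespace Groth.Agent.S4741

open CategoryTheory AlgebraicGeometry

/-- A prime minimal in the fibre has height at most that of the prime below. -/
theorem exists_prime_height_le {A B : Type u} [CommRing A] [CommRing B] [IsNoetherianRing A] [IsNoetherianRing B]
    [Algebra A B] (p : Ideal A) [p.IsPrime] (q₀ : Ideal B) [q₀.IsPrime] (h : q₀.comap (algebraMap A B) = p) :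
    ∃ Q : Ideal B, ∃ _ : Q.IsPrime, Q.comap (algebraMap A B) = p ∧ Q.height ≤ p.height := by
  obtain ⟨Q, hQ, hQq⟩ := Ideal.exists_minimalPrimes_le (Ideal.map_le_iff_le_comap.2 h.ge : p.map (algebraMap A B) ≤ q₀)
  haveI := hQ.1.1
  have hQp : Q.comap (algebraMap A B) = p :=
    le_antisymm ((Ideal.comap_mono hQq).trans h.le) (Ideal.map_le_iff_le_comap.1 hQ.1.2)
  haveI : Q.LiesOver p := ⟨hQp.symm⟩
  refine ⟨Q, inferInstance, hQp, (Ideal.height_le_height_add_of_liesOver p Q).trans ?_⟩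
  rw [Groth.Agent.CommAlg6.height_map_mk_eq_zero hQ, add_zero]

theorem dim_fromSpec {X : Scheme.{u}} {V : X.Opens} (hV : IsAffineOpen V) (z : PrimeSpectrum Γ(X, V))
    (hz : hV.fromSpec z ∈ V) : ringKrullDim (X.presheaf.stalk (hV.fromSpec z)) = z.asIdeal.height := by
  letI := TopCat.Presheaf.algebra_section_stalk X.presheaf (⟨hV.fromSpec z, hz⟩ : V)
  have h := hV.isLocalization_stalk' z hz
  exact @IsLocalization.AtPrime.ringKrullDim_eq_height _ _ z.asIdeal _ (X.presheaf.stalk (hV.fromSpec z)) _ _ h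

theorem le_dim_of_flat {X Y : Scheme.{u}} (f : X ⟶ Y) [Flat f] [IsLocallyNoetherian X] [IsLocallyNoetherian Y] (x : X) :
    ringKrullDim (Y.presheaf.stalk (f.base x)) ≤ ringKrullDim (X.presheaf.stalk x) := by
  obtain ⟨_, ⟨U, hU, rfl⟩, hyU, -⟩ := Y.isBasis_affineOpens.exists_subset_of_mem_open (Set.mem_univ (f.base x)) isOpen_univ
  obtain ⟨_, ⟨V, hV, rfl⟩, hxV, hVU⟩ := X.isBasis_affineOpens.exists_subset_of_mem_open (a := x)
    (show x ∈ f ⁻¹ᵁ U from hyU) (f ⁻¹ᵁ U).2
  letI : Algebra Γ(Y, U) Γ(X, V) := (f.appLE U V hVU).hom.toAlgebra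
  haveI : IsNoetherianRing Γ(X, V) := IsLocallyNoetherian.component_noetherian ⟨V, hV⟩
  haveI : IsNoetherianRing Γ(Y, U) := IsLocallyNoetherian.component_noetherian ⟨U, hU⟩
  haveI : Module.Flat Γ(Y, U) Γ(X, V) := Flat.flat_appLE f hU hV hVU
  let q := hV.primeIdealOf ⟨x, hxV⟩
  let p := hU.primeIdealOf ⟨f x, hVU hxV⟩
  have hqp : q.comap (f.appLE U V hVU).hom = p := IsAffineOpen.comap_primeIdealOf_appLE U hU V hV hVU hxV
  haveI : q.asIdeal.LiesOver p.asIdeal := ⟨(congrArg PrimeSpectrum.asIdeal hqp).symm⟩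
  have hx : hV.fromSpec q = x := hV.fromSpec_primeIdealOf _
  have hy : hU.fromSpec p = f.base x := hU.fromSpec_primeIdealOf _
  rw [← hy]
  conv_rhs => rw [← hx]
  rw [dim_fromSpec hU p (hy ▸ hyU), dim_fromSpec hV q (hx ▸ hxV),
    Ideal.height_eq_height_add_of_liesOver_of_hasGoingDown p.asIdeal q.asIdeal]
  exact_mod_cast le_self_add

theorem exists_point_dim_le {X Y : Scheme.{u}} (f : X ⟶ Y) [IsLocallyNoetherian X] [IsLocallyNoetherian Y] (x₀ : X) :
    ∃ x, f.base x = f.base x₀ ∧ ringKrullDim (X.presheaf.stalk x) ≤ ringKrullDim (Y.presheaf.stalk (f.base x₀)) := by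
  obtain ⟨_, ⟨U, hU, rfl⟩, hyU, -⟩ := Y.isBasis_affineOpens.exists_subset_of_mem_open (Set.mem_univ (f.base x₀)) isOpen_univ
  obtain ⟨_, ⟨V, hV, rfl⟩, hxV, hVU⟩ := X.isBasis_affineOpens.exists_subset_of_mem_open (a := x₀)
    (show x₀ ∈ f ⁻¹ᵁ U from hyU) (f ⁻¹ᵁ U).2
  letI : Algebra Γ(Y, U) Γ(X, V) := (f.appLE U V hVU).hom.toAlgebra
  haveI : IsNoetherianRing Γ(X, V) := IsLocallyNoetherian.component_noetherian ⟨V, hV⟩
  haveI : IsNoetherianRing Γ(Y, U) := IsLocallyNoetherian.component_noetherian ⟨U, hU⟩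
  let q := hV.primeIdealOf ⟨x₀, hxV⟩
  let p := hU.primeIdealOf ⟨f x₀, hVU hxV⟩
  have hqp : q.comap (f.appLE U V hVU).hom = p := IsAffineOpen.comap_primeIdealOf_appLE U hU V hV hVU hxV
  obtain ⟨Q, _, hQp, hQh⟩ := exists_prime_height_le p.asIdeal q.asIdeal (congrArg PrimeSpectrum.asIdeal hqp)
  let z : PrimeSpectrum Γ(X, V) := ⟨Q, ‹_›⟩
  have hz : hV.fromSpec z ∈ V := by
    have : hV.fromSpec z ∈ Set.range hV.fromSpec := ⟨z, rfl⟩
    rwa [hV.range_fromSpec] at this
  have hy : hU.fromSpec p = f.base x₀ := hU.fromSpec_primeIdealOf _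
  refine ⟨hV.fromSpec z, ?_, ?_⟩
  · have h := congrArg (fun g => g.base z) (IsAffineOpen.SpecMap_appLE_fromSpec f hU hV hVU)
    rw [← hy]
    refine h.symm.trans (congrArg hU.fromSpec.base ?_)
    exact PrimeSpectrum.ext hQp
  · rw [dim_fromSpec hV z hz, ← hy, dim_fromSpec hU p (hy ▸ hyU)]
    exact_mod_cast hQh


open AlgebraicGeometry CategoryTheory in
/-- Suppose X and Y are locally Noetherian schemes, f : X → Y is a morphism that is surjective, and Z is
a closed subset of Y. Then codim(f⁻¹(Z), X) ≤ codim(Z, Y), where the codimension of a closed subset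
means the infimum over its points of the dimensions of the local rings there; when f is in addition
flat, these two codimensions coincide. (In the published version the equality part assumes f
quasi-flat; here f is taken to be flat.) -/
theorem result {X Y : Scheme.{u}} (f : X ⟶ Y) [IsLocallyNoetherian X]
    [IsLocallyNoetherian Y] (hf : Function.Surjective f.base) (Z : Set Y) (hZ : IsClosed Z) :
    (⨅ x ∈ f.base ⁻¹' Z, ringKrullDim (X.presheaf.stalk x)) ≤ ⨅ y ∈ Z, ringKrullDim (Y.presheaf.stalk y) ∧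
      (Flat f → (⨅ x ∈ f.base ⁻¹' Z, ringKrullDim (X.presheaf.stalk x)) = ⨅ y ∈ Z, ringKrullDim (Y.presheaf.stalk y)) := by
  have key : (⨅ x ∈ f.base ⁻¹' Z, ringKrullDim (X.presheaf.stalk x)) ≤ ⨅ y ∈ Z, ringKrullDim (Y.presheaf.stalk y) := by
    refine le_iInf₂ fun y hy => ?_
    obtain ⟨x₀, rfl⟩ := hf y
    obtain ⟨x, hx, hle⟩ := exists_point_dim_le f x₀
    exact (iInf₂_le x (show f.base x ∈ Z from hx.symm ▸ hy)).trans hle
  exact ⟨key, fun hflat => le_antisymm key (le_iInf₂ fun x hx =>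
    (iInf₂_le (f.base x) hx).trans (haveI := hflat; le_dim_of_flat f x))⟩

end Groth.Agent.S4741
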