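import Groth.Statements.S4742
import Groth.Agent.CommAlg6.CatenaryLift

set_option autoImplicit false
universe u
open EGA4

namespace Groth.Agent.S4742

/-- Let A be a Noetherian local ring which is equidimensional and catenary, t an element of A belonging
to a system of parameters (dim A/tA + 1 = dim A), and Z a set of prime ideals of A stable under
specialization. Write X = Spec A, X₀ = V(t), X₁ = X ∖ X₀ and Z₀ = Z ∩ X₀, Z₁ = Z ∩ X₁. Then
codim(Z₀, X₀) ≤ codim(Z, X) ≤ codim(Z₁, X₁), where each codimension is the infimum of the heights of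
the primes concerned, heights for Z₀ being taken in A/tA. -/
theorem result (A : Type u) [CommRing A] [IsNoetherianRing A] [IsLocalRing A]
    (hA : EGA4.IsEquidim A) (hA' : CAlg.IsCatenary A) (t : A)
    (ht : ringKrullDim (A ⧸ Ideal.span {t}) + 1 = ringKrullDim A) (Z : Set (PrimeSpectrum A))
    (hZ : StableUnderSpecialization Z) :
    (⨅ p ∈ {p ∈ Z | t ∈ p.asIdeal}, (p.asIdeal.map (Ideal.Quotient.mk (Ideal.span {t}))).height) ≤
        ⨅ p ∈ Z, p.asIdeal.height ∧
      (⨅ p ∈ Z, p.asIdeal.height) ≤ ⨅ p ∈ {p ∈ Z | t ∉ p.asIdeal}, p.asIdeal.height := by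
  classical
  refine ⟨le_iInf₂ fun p hp => ?_, le_iInf₂ fun p hp => iInf₂_le p hp.1⟩
  have htm : t ∈ IsLocalRing.maximalIdeal A := by
    by_contra h
    rw [IsLocalRing.mem_maximalIdeal, mem_nonunits_iff, not_not] at h
    haveI : Subsingleton (A ⧸ Ideal.span {t}) :=
      Ideal.Quotient.subsingleton_iff.2 (Ideal.span_singleton_eq_top.2 h)
    rw [ringKrullDim_eq_bot_of_subsingleton, WithBot.bot_add] at ht
    exact ringKrullDim_ne_bot ht.symm
  have hmin : ∀ P ∈ minimalPrimes A, t ∉ P := by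
    intro P hP htP
    haveI := hP.1.1
    have h1 : ringKrullDim A ≤ ringKrullDim (A ⧸ Ideal.span {t}) := by
      rw [← hA P hP, ← ringKrullDim_eq_of_ringEquiv
        (DoubleQuot.quotQuotEquivQuotOfLE ((Ideal.span_singleton_le_iff_mem P).2 htP))]
      exact ringKrullDim_quotient_le _
    have h2 : ringKrullDim (A ⧸ Ideal.span {t}) + 1 ≤ ringKrullDim (A ⧸ Ideal.span {t}) := by
      rw [ht]; exact h1
    haveI : IsLocalRing (A ⧸ Ideal.span {t}) :=
      haveI : Nontrivial (A ⧸ Ideal.span {t}) := Ideal.Quotient.nontrivial_iff.2 fun h =>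
        (IsLocalRing.maximalIdeal.isMaximal A).ne_top
          (top_le_iff.1 (h ▸ (Ideal.span_singleton_le_iff_mem _).2 htm))
      .of_surjective' _ Ideal.Quotient.mk_surjective
    rw [← IsLocalRing.maximalIdeal_height_eq_ringKrullDim, ← WithBot.coe_one, ← WithBot.coe_add,
      WithBot.coe_le_coe] at h2
    obtain ⟨n, hn⟩ := ENat.ne_top_iff_exists.1 (Ideal.height_ne_top
      (IsLocalRing.maximalIdeal.isMaximal (A ⧸ Ideal.span {t})).ne_top)
    rw [← hn] at h2
    norm_cast at h2
    omega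
  have key : ∀ q : Ideal A, q.IsPrime → t ∈ q →
      (q.map (Ideal.Quotient.mk (Ideal.span {t}))).height + 1 ≤ q.height := by
    intro q hq htq
    haveI := hq
    have hle := (Ideal.span_singleton_le_iff_mem q).2 htq
    haveI := Groth.Agent.LocCoh.isPrime_map_mk hle
    obtain ⟨l, hl, hlen⟩ := Ideal.exists_ltSeries_length_eq_height
      (q.map (Ideal.Quotient.mk (Ideal.span {t})))
    let f : PrimeSpectrum (A ⧸ Ideal.span {t}) → PrimeSpectrum A :=
      PrimeSpectrum.comap (Ideal.Quotient.mk (Ideal.span {t}))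
    have hf : StrictMono f := fun a b hab => lt_of_le_of_ne (Ideal.comap_mono hab.le) fun e =>
      hab.ne (PrimeSpectrum.comap_injective_of_surjective _ Ideal.Quotient.mk_surjective e)
    obtain ⟨P, hP, hPle⟩ :=
      Ideal.exists_minimalPrimes_le (bot_le : (⊥ : Ideal A) ≤ (l.map f hf).head.asIdeal)
    have hth : t ∈ (l.map f hf).head.asIdeal := by
      rw [LTSeries.head_map]
      change Ideal.Quotient.mk (Ideal.span {t}) t ∈ l.head.asIdeal
      rw [Ideal.Quotient.eq_zero_iff_mem.2 (Ideal.mem_span_singleton_self t)]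
      exact zero_mem _
    have hlt : (⟨P, hP.1.1⟩ : PrimeSpectrum A) < (l.map f hf).head :=
      lt_of_le_of_ne hPle fun e => hmin P hP (by
        have := congrArg PrimeSpectrum.asIdeal e
        exact this.symm.le hth)
    let l' := RelSeries.cons (l.map f hf) ⟨P, hP.1.1⟩ hlt
    have hlast : l'.last = ⟨q, hq⟩ := by
      simp only [l', RelSeries.last_cons, LTSeries.last_map]
      rw [hl]
      exact PrimeSpectrum.ext (Groth.Agent.LocCoh.comap_map_mk hle)
    have h3 := Order.length_le_height (p := l') (x := (⟨q, hq⟩ : PrimeSpectrum A)) hlast.le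
    rw [← PrimeSpectrum.height_eq_orderHeight] at h3
    refine le_trans ?_ h3
    rw [← hlen]
    simp [l']
  by_cases htp : t ∈ p.asIdeal
  · exact (iInf₂_le p ⟨hp, htp⟩).trans (le_self_add.trans (key p.asIdeal p.2 htp))
  · obtain ⟨q, hq, hpq, htq, hq1⟩ := Groth.Agent.CommAlg6.exists_hq_eq_one p.asIdeal htm htp
    haveI := hq
    have hqZ : (⟨q, hq⟩ : PrimeSpectrum A) ∈ Z :=
      hZ ((PrimeSpectrum.le_iff_specializes p ⟨q, hq⟩).1 hpq.le) hp
    have hh := Groth.Agent.CommAlg6.height_add_hq_eq hA' hA hpq.le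
    rw [hq1] at hh
    have h4 := key q hq htq
    rw [← hh, ENat.add_le_add_iff_right ENat.one_ne_top] at h4
    exact (iInf₂_le (⟨q, hq⟩ : PrimeSpectrum A) ⟨hqZ, htq⟩).trans h4

end Groth.Agent.S4742
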