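import Groth.Statements.S4743
import Groth.Agent.CAlgH.ReducedFormalFibres

set_option autoImplicit false
universe u
open EGA4

namespace Groth.Agent.S4743

open TensorProduct in
/-- For the property 'geometrically reduced', case of a local ring: let A be a Noetherian local ring
with completion Â. Then the formal fibres of A are geometrically reduced if and only if, for every
finite A-algebra B which is a domain and every prime ideal q of B ⊗_A Â whose contraction to B is
zero, the local ring of B ⊗_A Â at q is reduced. (The published statement is for semi-local rings;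
this row takes A local.) -/
theorem result (A : Type u) [CommRing A] [IsNoetherianRing A]
    [IsLocalRing A] :
    EGA4.HasGeomReducedFormalFibres A ↔
      ∀ (B : Type u) [CommRing B] [IsDomain B] [Algebra A B] [Module.Finite A B]
        (q : Ideal (B ⊗[A] EGA4.Cpl A)) [q.IsPrime],
        q.comap (algebraMap B (B ⊗[A] EGA4.Cpl A)) = ⊥ → IsReduced (Localization.AtPrime q) := by
  constructor
  · intro h B _ _ _ _ q _ _
    haveI := _root_.Groth.Agent.CAlgH.ReducedFibres.isReduced_completion_tensor_reduced
      (_root_.Groth.Agent.CommAlg6.isNagata_of_geomReducedFormalFibres A h) B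
    haveI : IsReduced (B ⊗[A] EGA4.Cpl A) :=
      isReduced_of_injective (Algebra.TensorProduct.comm A B (EGA4.Cpl A)).toRingHom (AlgEquiv.injective _)
    exact isReduced_localizationPreserves q.primeCompl (Localization.AtPrime q) inferInstance
  · intro h
    refine _root_.Groth.Agent.CAlgH.ReducedFibres.hasGeomReducedFormalFibres_of_localizations A fun D _ _ _ _ q _ hq => ?_
    let c := (Algebra.TensorProduct.comm A D (EGA4.Cpl A)).toRingEquiv
    let q' := q.comap c.toRingHom
    haveI : q'.IsPrime := Ideal.comap_isPrime _ _
    haveI := h D q' (by
      rw [Ideal.comap_comap]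
      refine Eq.trans ?_ hq
      refine congrArg (fun f => Ideal.comap f q) (RingHom.ext fun d => ?_)
      show Algebra.TensorProduct.comm A D (EGA4.Cpl A) (d ⊗ₜ[A] (1 : EGA4.Cpl A)) = (1 : EGA4.Cpl A) ⊗ₜ[A] d
      rw [Algebra.TensorProduct.comm_tmul])
    let e := Localization.localRingEquiv q c (I := q') rfl
    exact isReduced_of_injective e.symm.toRingHom e.symm.injective

end Groth.Agent.S4743
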