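import Groth.Statements.S4744
import Groth.Agent.CommAlg6.GeomFib
import Groth.Agent.CommAlg6.CompletionMap

set_option autoImplicit false
universe u
open EGA4

namespace Groth.Agent.S4744

/-- Let A → A' be a flat local homomorphism of Noetherian local rings all of whose fibre rings k(p) ⊗_A
A' are Cohen–Macaulay. If the completion map of A' is regular (the formal fibres of A' are
geometrically regular), then the formal fibres of A are Cohen–Macaulay. -/
theorem result (A A' : Type u) [CommRing A] [CommRing A'] [IsNoetherianRing A]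
    [IsNoetherianRing A'] [IsLocalRing A] [IsLocalRing A'] [Algebra A A'] [IsLocalHom (algebraMap A A')]
    [Module.Flat A A'] (hf : ∀ (p : Ideal A) [p.IsPrime], LocCoh.IsCohenMacaulayRing (p.Fiber A'))
    (hA' : CAlg.IsRegularHom A' (EGA4.Cpl A')) : EGA4.HasCMFormalFibres A := by
  obtain ⟨_, hT, _⟩ := Groth.Agent.CommAlg6.exists_algebra_completion A A'
  intro p _
  haveI : IsNoetherianRing (formalFibre A p) := Groth.Agent.CommAlg6.isNoetherianRing_fiber p
  haveI := hA'.1
  rw [Groth.Agent.CommAlg6.isCMRing_iff_forall_hasSk]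
  intro n
  haveI : IsNoetherianRing (p.Fiber A') := Groth.Agent.CommAlg6.isNoetherianRing_fiber p
  have hp := Groth.Agent.CommAlg6.isResFinite_residueField p
  refine Groth.Agent.CommAlg6.hasSk_fibre_descend (C := EGA4.Cpl A') n hp ?_
  refine Groth.Agent.CommAlg6.hasSk_fibre_comp (B := A') n hp
    (Groth.Agent.CommAlg6.isCMRing_iff_forall_hasSk.1 (hf p) n) fun L _ _ hL => ?_
  haveI := Groth.Agent.CommAlg6.isRegularRing_resFinite hA' L hL
  exact Groth.Agent.CommAlg6.isCMRing_of_isRegularRing n

end Groth.Agent.S4744
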