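import Groth.Statements.S4745
import Groth.Agent.CommAlg6.GeomNormalFibres

set_option autoImplicit false
universe u
open EGA4

namespace Groth.Agent.S4745

/-- The case of the property 'normal': let A → B be a local homomorphism of Noetherian local rings
making B a flat A-module, such that the residue field of B is a finite extension of the residue
field k of A, and such that the formal fibres of A are geometrically normal. If the k-algebra k ⊗_A
B̂, where B̂ is the completion of B, is geometrically normal over k, then every fibre of A → B is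
geometrically normal, that is, A → B is a normal homomorphism. -/
theorem result (A B : Type u) [CommRing A] [CommRing B]
    [IsNoetherianRing A] [IsNoetherianRing B] [IsLocalRing A] [IsLocalRing B] [Algebra A B]
    [IsLocalHom (algebraMap A B)] [Module.Flat A B]
    [Module.Finite (IsLocalRing.ResidueField A) (IsLocalRing.ResidueField B)]
    (hA : EGA4.HasGeomNormalFormalFibres A)
    (h : EGA4.IsGeomNormal (IsLocalRing.maximalIdeal A).ResidueField
      ((IsLocalRing.maximalIdeal A).Fiber (EGA4.Cpl B))) :
    EGA4.IsNormalHom A B := by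
  obtain ⟨_, hT, hff⟩ := Groth.Agent.CommAlg6.exists_algebra_completion A B
  haveI := hT
  haveI := hff
  haveI : IsNoetherianRing (EGA4.Cpl A) := Groth.Agent.Matlis6.isNoetherianRing_adicCompletion _
  haveI : IsNoetherianRing (EGA4.Cpl B) := Groth.Agent.Matlis6.isNoetherianRing_adicCompletion _
  haveI : Module.Flat A (EGA4.Cpl A) := inferInstance
  haveI : Module.FaithfullyFlat B (EGA4.Cpl B) := Module.FaithfullyFlat.of_flat_of_isLocalHom
  haveI : IsLocalHom (algebraMap (EGA4.Cpl A) (EGA4.Cpl B)) :=
    ((IsLocalRing.local_hom_TFAE _).out 0 2 rfl rfl).2 (by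
      rw [AdicCompletion.maximalIdeal_eq_map, Ideal.map_map, ← IsScalarTower.algebraMap_eq,
        IsScalarTower.algebraMap_eq A B (EGA4.Cpl B), ← Ideal.map_map, AdicCompletion.maximalIdeal_eq_map]
      exact Ideal.map_mono (IsLocalRing.map_maximalIdeal_le _))
  have hcpl : EGA4.IsNormalHom (EGA4.Cpl A) (EGA4.Cpl B) :=
    Groth.Agent.CommAlg6.geomNormal_fibres_of_closed _ _ (Groth.Agent.CAlgH.isNagata_of_complete_local _)
      (Groth.Agent.CAlgH.isGRing_complete _) (Groth.Agent.CommAlg6.isUniversallyCatenary_of_complete_local _)
      (Groth.Agent.CommAlg6.normClosed_completion (Groth.Agent.CommAlg6.normClosed_of_isGeomNormal A (EGA4.Cpl B) h))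
  exact Groth.Agent.CommAlg6.isNormalHom_descend (C := EGA4.Cpl B)
    (Groth.Agent.CommAlg6.isNormalHom_comp (B := EGA4.Cpl A) ⟨inferInstance, hA⟩ hcpl)

end Groth.Agent.S4745
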