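import Groth.Statements.S4747
import Groth.Agent.CommAlg6.CMFibresComplete
import Groth.Agent.CommAlg6.CompletionMap

set_option autoImplicit false
universe u
open EGA4

namespace Groth.Agent.S4747

open TensorProduct in
/-- For the property 'Cohen–Macaulay': let A → B be a local homomorphism of Noetherian local rings
making B a flat A-module, such that the residue field of B is a finite extension of the residue
field k of A, and such that the formal fibres of A are Cohen–Macaulay. If for every finite extension
k' of k the ring k' ⊗_k (k ⊗_A B̂) is Cohen–Macaulay (B̂ the completion of B), then for every prime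
p of A and every finite extension K of k(p) the ring K ⊗_{k(p)} (k(p) ⊗_A B) is Cohen–Macaulay; in
particular all fibres of A → B are Cohen–Macaulay. -/
theorem result (A B : Type u) [CommRing A] [CommRing B]
    [IsNoetherianRing A] [IsNoetherianRing B] [IsLocalRing A] [IsLocalRing B] [Algebra A B]
    [IsLocalHom (algebraMap A B)] [Module.Flat A B]
    [Module.Finite (IsLocalRing.ResidueField A) (IsLocalRing.ResidueField B)]
    (hA : EGA4.HasCMFormalFibres A)
    (h : ∀ (k' : Type u) [Field k'] [Algebra (IsLocalRing.maximalIdeal A).ResidueField k'],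
      Module.Finite (IsLocalRing.maximalIdeal A).ResidueField k' →
        LocCoh.IsCohenMacaulayRing (k' ⊗[(IsLocalRing.maximalIdeal A).ResidueField]
          ((IsLocalRing.maximalIdeal A).Fiber (EGA4.Cpl B)))) :
    ∀ (p : Ideal A) [p.IsPrime] (K : Type u) [Field K] [Algebra p.ResidueField K],
      Module.Finite p.ResidueField K → LocCoh.IsCohenMacaulayRing (K ⊗[p.ResidueField] (p.Fiber B)) := by
  intro p _ K _ _ hK
  letI : Algebra A K := Algebra.compHom K (algebraMap A p.ResidueField)
  haveI : IsScalarTower A p.ResidueField K := .of_algebraMap_eq fun _ => rfl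
  have hres : Groth.Agent.CommAlg6.IsResFinite A K := ⟨p, inferInstance, inferInstance, inferInstance, hK⟩
  haveI := Groth.Agent.CommAlg6.isNoetherianRing_resFinite (B := B) hres
  let eB := (Algebra.TensorProduct.cancelBaseChange A p.ResidueField K K B).toRingEquiv
  haveI := isNoetherianRing_of_ringEquiv _ eB.symm
  rw [Groth.Agent.CommAlg6.isCMRing_iff_forall_hasSk]
  intro n
  refine Groth.Agent.CommAlg6.hasSk_of_ringEquiv (R := K ⊗[A] B) eB.symm ?_
  let Ah := EGA4.Cpl A
  let Bh := EGA4.Cpl B
  obtain ⟨_, hT, _⟩ := Groth.Agent.CommAlg6.exists_algebra_completion A B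
  haveI := Groth.Agent.CommAlg6.isLocalHom_completion B
  haveI : IsLocalHom (algebraMap A Bh) := by
    rw [IsScalarTower.algebraMap_eq A B Bh]; infer_instance
  haveI : Module.Flat B Bh := AdicCompletion.flat_of_isNoetherian _
  haveI : Module.FaithfullyFlat B Bh := Module.FaithfullyFlat.of_flat_of_isLocalHom
  refine Groth.Agent.CommAlg6.hasSk_fibre_descend (C := Bh) n hres ?_
  refine Groth.Agent.CommAlg6.hasSk_fibre_comp (B := Ah) n hres ?_ fun L _ _ hL => ?_
  · let eA := (Algebra.TensorProduct.cancelBaseChange A p.ResidueField K K Ah).toRingEquiv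
    haveI := Groth.Agent.CommAlg6.isNoetherianRing_resFinite (B := Ah) hres
    haveI : IsNoetherianRing (EGA4.formalFibre A p) := Groth.Agent.CommAlg6.isNoetherianRing_fiber p
    haveI := isNoetherianRing_of_ringEquiv _ eA.symm
    exact Groth.Agent.CommAlg6.hasSk_of_ringEquiv eA
      (Groth.Agent.CommAlg6.hasSk_field_of_hasSk p.ResidueField K (EGA4.formalFibre A p) n
        (Groth.Agent.CommAlg6.isCMRing_iff_forall_hasSk.1 (hA p) n))
  let m := IsLocalRing.maximalIdeal A
  haveI : Module.Flat A Bh := Module.Flat.trans A B Bh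
  haveI : IsLocalHom (algebraMap Ah Bh) :=
    ((IsLocalRing.local_hom_TFAE (algebraMap Ah Bh)).out 0 2 rfl rfl).2 (by
      rw [AdicCompletion.maximalIdeal_eq_map, Ideal.map_map, ← IsScalarTower.algebraMap_eq]
      exact IsLocalRing.map_maximalIdeal_le (algebraMap A Bh))
  haveI : IsAdicComplete (IsLocalRing.maximalIdeal Ah) Ah := inferInstance
  haveI : IsAdicComplete (IsLocalRing.maximalIdeal Bh) Bh := inferInstance
  haveI : Module.Finite A (IsLocalRing.ResidueField A) := inferInstance
  haveI : Module.Finite A (IsLocalRing.ResidueField B) := Module.Finite.trans (IsLocalRing.ResidueField A) _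
  haveI : Module.Finite A (IsLocalRing.ResidueField Bh) := by
    let g : IsLocalRing.ResidueField B →+* IsLocalRing.ResidueField Bh :=
      IsLocalRing.ResidueField.map (algebraMap B Bh)
    let g' : IsLocalRing.ResidueField B →ₐ[A] IsLocalRing.ResidueField Bh :=
      { g with
        commutes' := fun a => by
          rw [IsScalarTower.algebraMap_apply A B (IsLocalRing.ResidueField B),
            IsScalarTower.algebraMap_apply A B (IsLocalRing.ResidueField Bh)]
          rfl }
    refine Module.Finite.of_surjective g'.toLinearMap fun y => ?_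
    obtain ⟨z, rfl⟩ := IsLocalRing.residue_surjective y
    obtain ⟨b, hb⟩ := Ideal.Quotient.mk_surjective (AdicCompletion.evalOneₐ (IsLocalRing.maximalIdeal B) z)
    refine ⟨IsLocalRing.residue B b, ?_⟩
    show g (IsLocalRing.residue B b) = _
    rw [IsLocalRing.ResidueField.map_residue]
    refine (Ideal.Quotient.eq).2 ?_
    rw [AdicCompletion.maximalIdeal_eq_map,
      ← AdicCompletion.ker_evalOneₐ_eq_map _ (IsNoetherian.noetherian _), RingHom.mem_ker, map_sub, sub_eq_zero]
    exact (AlgHom.commutes _ _).trans hb
  haveI : Module.Finite Ah (IsLocalRing.ResidueField Bh) :=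
    Module.Finite.of_restrictScalars_finite A Ah (IsLocalRing.ResidueField Bh)
  refine Groth.Agent.CommAlg6.hasSk_resFinite_of_closed_fibre Ah Bh ?_ L hL n
  have hJ : (IsLocalRing.maximalIdeal Ah).map (algebraMap Ah Bh) = m.map (algebraMap A Bh) := by
    rw [AdicCompletion.maximalIdeal_eq_map, Ideal.map_map, ← IsScalarTower.algebraMap_eq]
  haveI := h m.ResidueField inferInstance
  haveI : LocCoh.IsCohenMacaulayRing (m.Fiber Bh) :=
    Groth.Agent.CAlgH3.isCohenMacaulayRing_of_ringEquiv (R := m.ResidueField ⊗[m.ResidueField] m.Fiber Bh)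
      (Algebra.TensorProduct.lid m.ResidueField (m.Fiber Bh)).toRingEquiv
  exact Groth.Agent.CAlgH3.isCohenMacaulayRing_of_ringEquiv (R := m.Fiber Bh)
    (((Algebra.TensorProduct.congr
      (AlgEquiv.ofBijective (IsScalarTower.toAlgHom A (A ⧸ m) m.ResidueField)
        m.bijective_algebraMap_quotient_residueField).symm
      (AlgEquiv.refl (R := A) (A₁ := Bh))).toRingEquiv.trans
      ((Algebra.TensorProduct.comm A (A ⧸ m) Bh).toRingEquiv.trans
        (Algebra.TensorProduct.quotIdealMapEquivTensorQuot Bh m).symm.toRingEquiv)).trans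
      (Ideal.quotEquivOfEq hJ.symm))

end Groth.Agent.S4747
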