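import Groth.Statements.S4749
import Groth.Agent.CommAlg6.GeomNormalBase

set_option autoImplicit false
universe u
open EGA4

namespace Groth.Agent.S4749

open TensorProduct in
/-- Case of normal morphisms, affine form: let A → B be a homomorphism of Noetherian rings and A' a
Noetherian A-algebra, and assume that B or A' is of finite type over A. If A → B is normal then the
base change A' → A' ⊗_A B is normal; the converse holds when A' is faithfully flat over A. -/
theorem result (A B A' : Type u) [CommRing A] [CommRing B] [CommRing A']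
    [IsNoetherianRing A] [IsNoetherianRing B] [IsNoetherianRing A'] [Algebra A B] [Algebra A A']
    (hft : Algebra.FiniteType A B ∨ Algebra.FiniteType A A') :
    (EGA4.IsNormalHom A B → EGA4.IsNormalHom A' (A' ⊗[A] B)) ∧
      (Module.FaithfullyFlat A A' → EGA4.IsNormalHom A' (A' ⊗[A] B) → EGA4.IsNormalHom A B) := by
  haveI hN : IsNoetherianRing (A' ⊗[A] B) := by
    rcases hft with h | h
    · exact Algebra.FiniteType.isNoetherianRing A' _
    · haveI : IsNoetherianRing (B ⊗[A] A') := Algebra.FiniteType.isNoetherianRing B _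
      exact isNoetherianRing_of_ringEquiv _ (Algebra.TensorProduct.comm A B A').toRingEquiv
  refine ⟨fun h => ?_, fun hff h => ?_⟩
  · haveI := h.1
    refine ⟨inferInstance, Groth.Agent.CommAlg6.geomNormal_fibres_iff.2 fun K _ _ hK => ?_⟩
    letI : Algebra A K := Algebra.compHom K (algebraMap A A')
    haveI : IsScalarTower A A' K := .of_algebraMap_eq fun _ => rfl
    haveI := Groth.Agent.CommAlg6.isNoetherianRing_resFinite (B := A' ⊗[A] B) hK
    let e := (Algebra.TensorProduct.cancelBaseChange A A' K K B).toRingEquiv
    haveI := isNoetherianRing_of_ringEquiv _ e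
    exact Groth.Agent.CommAlg6.isNormalRing_of_ringEquiv e.symm
      (Groth.Agent.CommAlg6.isNormalRing_normalHom_field h K)
  · haveI := h.1
    refine ⟨Module.Flat.of_flat_tensorProduct A B A',
      Groth.Agent.CommAlg6.geomNormal_fibres_iff.2 fun K _ _ hK => ?_⟩
    haveI : Nontrivial (A' ⊗[A] K) := Module.FaithfullyFlat.lTensor_nontrivial A A' K
    obtain ⟨m, hm⟩ := Ideal.exists_maximal (A' ⊗[A] K)
    let L := m.ResidueField
    letI : Algebra K L := ((algebraMap (A' ⊗[A] K) L).comp
      (Algebra.TensorProduct.includeRight : K →ₐ[A] A' ⊗[A] K).toRingHom).toAlgebra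
    haveI : IsScalarTower A K L := .of_algebraMap_eq fun a => by
      show algebraMap A L a = algebraMap (A' ⊗[A] K) L
        (Algebra.TensorProduct.includeRight (algebraMap A K a))
      rw [AlgHom.commutes, ← IsScalarTower.algebraMap_apply]
    have hL : Groth.Agent.CommAlg6.IsResFinite A' L := hK.residueField m
    haveI : IsScalarTower A A' L := .of_algebraMap_eq fun a => by
      rw [IsScalarTower.algebraMap_apply A (A' ⊗[A] K) L,
        IsScalarTower.algebraMap_apply A' (A' ⊗[A] K) L, ← IsScalarTower.algebraMap_apply A A']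
    haveI := Groth.Agent.CommAlg6.isNoetherianRing_resFinite (B := A' ⊗[A] B) hL
    haveI := Groth.Agent.CommAlg6.isNoetherianRing_resFinite (B := B) hK
    let e := (Algebra.TensorProduct.cancelBaseChange A A' L L B).toRingEquiv
    haveI := isNoetherianRing_of_ringEquiv _ e
    have hLn : EGA4.IsNormalRing (L ⊗[A] B) := Groth.Agent.CommAlg6.isNormalRing_of_ringEquiv e
      (Groth.Agent.CommAlg6.geomNormal_fibres_iff.1 h.2 L hL)
    let e' : L ⊗[A] B ≃+* (K ⊗[A] B) ⊗[K] L :=
      ((Algebra.TensorProduct.cancelBaseChange A K L L B).toRingEquiv.symm).trans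
        (Algebra.TensorProduct.comm K L (K ⊗[A] B)).toRingEquiv
    haveI := isNoetherianRing_of_ringEquiv _ e'
    exact Groth.Agent.CommAlg6.isNormalRing_descend (G' := (K ⊗[A] B) ⊗[K] L)
      (Groth.Agent.CommAlg6.isNormalRing_of_ringEquiv e' hLn)

end Groth.Agent.S4749
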