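import Groth.Statements.S4751
import Groth.Agent.CommAlg6.FibreAt

set_option autoImplicit false
universe u
open EGA4

namespace Groth.Agent.S4751

/-- Let A → B → C be homomorphisms of Noetherian rings such that B → C is faithfully flat with (S_n)
fibres and the composite A → C is flat with (S_n) fibres. Then A → B is flat with (S_n) fibres. -/
theorem result (n : ℕ) (A B C : Type u) [CommRing A] [CommRing B] [CommRing C]
    [IsNoetherianRing A] [IsNoetherianRing B] [IsNoetherianRing C] [Algebra A B] [Algebra B C] [Algebra A C]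
    [IsScalarTower A B C] [Module.FaithfullyFlat B C] [Module.Flat A C]
    (hBC : ∀ (q : Ideal B) [q.IsPrime], LocCoh.HasSk n (q.Fiber C) (q.Fiber C))
    (hAC : ∀ (p : Ideal A) [p.IsPrime], LocCoh.HasSk n (p.Fiber C) (p.Fiber C)) :
    Module.Flat A B ∧ ∀ (p : Ideal A) [p.IsPrime], LocCoh.HasSk n (p.Fiber B) (p.Fiber B) := by
  refine ⟨Groth.Agent.FlatCrit.flat_of_flat_of_faithfullyFlat (M := C), ?_⟩
  haveI : Module.Flat A B := Groth.Agent.FlatCrit.flat_of_flat_of_faithfullyFlat (M := C)
  rw [Groth.Agent.CommAlg6.forall_hasSk_fiber_iff]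
  intro q _
  obtain ⟨r, hr, hrq, h0, hd0⟩ := Groth.Agent.CommAlg6.exists_minimal_over (B := C) q
  haveI := hr
  subst hrq
  haveI := Groth.Agent.CommAlg6.isLocalRing_fibLocRing (A := A) (r.comap (algebraMap B C))
  haveI := Groth.Agent.CommAlg6.isLocalRing_fibLocRing (A := A) r
  obtain ⟨h1, h2⟩ := Groth.Agent.CommAlg6.local_fibre_trans (A := A) (B := B) r
  have h := (Groth.Agent.CommAlg6.forall_hasSk_fiber_iff n).1 hAC r
  rw [h1, h2, h0, hd0, add_zero, add_zero] at h
  exact h

end Groth.Agent.S4751
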