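import Groth.Statements.S4752
import Groth.Agent.CommAlg6.GeomFib
import Groth.Agent.CommAlg6.CompletionMap

set_option autoImplicit false
universe u
open EGA4

namespace Groth.Agent.S4752

/-- Case of reduced morphisms, affine form: let A → B → C be homomorphisms of Noetherian rings, both
flat and with geometrically reduced fibres. Then the composite A → C is flat with geometrically
reduced fibres. -/
theorem result (A B C : Type u) [CommRing A] [CommRing B] [CommRing C] [IsNoetherianRing A]
    [IsNoetherianRing B] [IsNoetherianRing C] [Algebra A B] [Algebra B C] [Algebra A C] [IsScalarTower A B C]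
    [Module.Flat A B] [Module.Flat B C]
    (hAB : ∀ (p : Ideal A) [p.IsPrime], Algebra.IsGeometricallyReduced p.ResidueField (p.Fiber B))
    (hBC : ∀ (q : Ideal B) [q.IsPrime], Algebra.IsGeometricallyReduced q.ResidueField (q.Fiber C)) :
    Module.Flat A C ∧ ∀ (p : Ideal A) [p.IsPrime], Algebra.IsGeometricallyReduced p.ResidueField (p.Fiber C) := by
  refine ⟨Module.Flat.trans A B C, Groth.Agent.CommAlg6.geomReduced_fibres_iff.2 fun K _ _ hK => ?_⟩
  haveI := Groth.Agent.CommAlg6.isNoetherianRing_resFinite (B := B) hK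
  haveI := Groth.Agent.CommAlg6.isNoetherianRing_resFinite (B := C) hK
  obtain ⟨h1, h2⟩ := Groth.Agent.CommAlg6.isReduced_iff_R0_S1.1
    (Groth.Agent.CommAlg6.geomReduced_fibres_iff.1 hAB K hK)
  rw [Groth.Agent.CommAlg6.isReduced_iff_R0_S1]
  refine ⟨Groth.Agent.CommAlg6.hasRk_fibre_comp (B := B) 0 hK h1 fun L _ _ hL => ?_,
    Groth.Agent.CommAlg6.hasSk_fibre_comp (B := B) 1 hK h2 fun L _ _ hL => ?_⟩
  all_goals haveI := Groth.Agent.CommAlg6.isNoetherianRing_resFinite (B := C) hL
  · exact (Groth.Agent.CommAlg6.isReduced_iff_R0_S1.1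
      (Groth.Agent.CommAlg6.geomReduced_fibres_iff.1 hBC L hL)).1
  · exact (Groth.Agent.CommAlg6.isReduced_iff_R0_S1.1
      (Groth.Agent.CommAlg6.geomReduced_fibres_iff.1 hBC L hL)).2

end Groth.Agent.S4752
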