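import Groth.Statements.S4753
import Groth.Agent.CommAlg6.GeomFib
import Groth.Agent.CommAlg6.CompletionMap

set_option autoImplicit false
universe u
open EGA4

namespace Groth.Agent.S4753

/-- Case of reduced morphisms, affine form: let A → B → C be homomorphisms of Noetherian rings such that
B → C is faithfully flat with geometrically reduced fibres and the composite A → C is flat with
geometrically reduced fibres. Then A → B is flat with geometrically reduced fibres. -/
theorem result (A B C : Type u) [CommRing A] [CommRing B] [CommRing C]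
    [IsNoetherianRing A] [IsNoetherianRing B] [IsNoetherianRing C] [Algebra A B] [Algebra B C] [Algebra A C]
    [IsScalarTower A B C] [Module.FaithfullyFlat B C] [Module.Flat A C]
    (hBC : ∀ (q : Ideal B) [q.IsPrime], Algebra.IsGeometricallyReduced q.ResidueField (q.Fiber C))
    (hAC : ∀ (p : Ideal A) [p.IsPrime], Algebra.IsGeometricallyReduced p.ResidueField (p.Fiber C)) :
    Module.Flat A B ∧ ∀ (p : Ideal A) [p.IsPrime], Algebra.IsGeometricallyReduced p.ResidueField (p.Fiber B) := by
  refine ⟨Groth.Agent.FlatCrit.flat_of_flat_of_faithfullyFlat (R := A) (S := B) (M := C), ?_⟩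
  refine Groth.Agent.CommAlg6.geomReduced_fibres_iff.2 fun K _ _ hK => ?_
  haveI := Groth.Agent.CommAlg6.isNoetherianRing_resFinite (B := B) hK
  haveI := Groth.Agent.CommAlg6.isNoetherianRing_resFinite (B := C) hK
  obtain ⟨h1, h2⟩ := Groth.Agent.CommAlg6.isReduced_iff_R0_S1.1
    (Groth.Agent.CommAlg6.geomReduced_fibres_iff.1 hAC K hK)
  rw [Groth.Agent.CommAlg6.isReduced_iff_R0_S1]
  exact ⟨Groth.Agent.CommAlg6.hasRk_fibre_descend (C := C) 0 hK h1,
    Groth.Agent.CommAlg6.hasSk_fibre_descend (C := C) 1 hK h2⟩

end Groth.Agent.S4753
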