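import Groth.Statements.S4756
import Groth.Agent.CommAlg6.FibreLocalization

set_option autoImplicit false
universe u
open EGA4

namespace Groth.Agent.S4756

/-- Let A → B be a normal homomorphism of Noetherian rings (flat, with geometrically normal fibres) and
S a multiplicative subset of A. Then the induced homomorphism S⁻¹A → S⁻¹B (arbitrary localizations
at S and at its image) is normal. -/
theorem result (A B : Type u) [CommRing A] [CommRing B] [IsNoetherianRing A] [IsNoetherianRing B]
    [Algebra A B] (h : EGA4.IsNormalHom A B) (S : Submonoid A)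
    (A' B' : Type u) [CommRing A'] [CommRing B'] [Algebra A A'] [Algebra B B'] [Algebra A' B'] [Algebra A B']
    [IsScalarTower A A' B'] [IsScalarTower A B B'] [IsLocalization S A']
    [IsLocalization (Algebra.algebraMapSubmonoid B S) B'] :
    EGA4.IsNormalHom A' B' := by
  haveI := h.1
  refine ⟨Groth.Agent.CommAlg6.flat_of_isLocalization (B := B) S,
    Groth.Agent.CommAlg6.geomNormal_fibres_iff.2 fun K _ _ hK => ?_⟩
  letI : Algebra A K := Algebra.compHom K (algebraMap A A')
  haveI : IsScalarTower A A' K := .of_algebraMap_eq fun _ => rfl
  obtain ⟨e⟩ := Groth.Agent.CommAlg6.tensor_localization_equiv (A' := A') (B := B) (B' := B') S K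
  exact Groth.Agent.CommAlg6.isNormalRing_of_ringEquiv e.symm
    (Groth.Agent.CommAlg6.geomNormal_fibres_iff.1 h.2 K (hK.of_isLocalization S))

end Groth.Agent.S4756
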