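import Groth.Statements.S4763
import Groth.Agent.H8Lim.Constructible

set_option autoImplicit false
universe u
open CategoryTheory AlgebraicGeometry
open Lim8

namespace Groth.Agent.S4763

/-- Let S = lim S_i be a cofiltered limit of schemes with affine transition maps and let i be an index.
The canonical projection S ⟶ S_i is dominant if and only if every transition map S_j ⟶ S_i is
dominant. -/
theorem result {I : Type u} [SmallCategory I] [IsCofiltered I]
    (D : I ⥤ Scheme.{u}) (c : Limits.Cone D) (hc : Limits.IsLimit c)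
    [∀ (i j : I) (f : i ⟶ j), IsAffineHom (D.map f)] (i : I) :
    IsDominant (c.π.app i) ↔ ∀ (j : I) (φ : j ⟶ i), IsDominant (D.map φ) := by
  have : ∀ {i j : I} (f : i ⟶ j), IsAffineHom (D.map f) := fun f ↦ inferInstance
  refine ⟨fun h j φ ↦ ⟨?_⟩, fun h ↦ ⟨?_⟩⟩
  · refine h.denseRange.mono ?_
    rintro _ ⟨p, rfl⟩
    exact ⟨c.π.app j p, by rw [← Scheme.Hom.comp_apply, c.w φ]⟩
  · refine dense_iff_inter_open.mpr fun U hU ⟨x, hx⟩ ↦ ?_
    obtain ⟨_, ⟨V, hV : IsAffineOpen V, rfl⟩, hxV, hVU⟩ :=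
      (D.obj i).isBasis_affineOpens.exists_subset_of_mem_open hx hU
    by_contra hne
    obtain ⟨j, φ, hj⟩ := H8Lim.exists_forall_map_notMem hc hV.isCompact
      Topology.IsLocallyConstructible.univ isClosed_univ
      (fun p hp _ _ ↦ hne ⟨_, hVU hp, p, rfl⟩)
    obtain ⟨y, hy, z, rfl⟩ := dense_iff_inter_open.mp (h j φ).denseRange _ V.2 ⟨x, hxV⟩
    exact hj z hy trivial trivial

end Groth.Agent.S4763
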