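import Groth.Statements.S4766
import Groth.Agent.H8Lim.TopologicalProps
import Groth.Agent.Desc19.Topology

set_option autoImplicit false
universe u
open CategoryTheory AlgebraicGeometry
open Lim8

namespace Groth.Agent.S4766

/-- Let S = lim S_i be a cofiltered limit of schemes with affine transition maps and let i be an index
such that the projection S ⟶ S_j is surjective for every j over i. Then the projection S ⟶ S_i is
universally open if and only if every transition map S_j ⟶ S_i is universally open. This is the case
of universally open morphisms. -/
theorem result {I : Type u} [SmallCategory I] [IsCofiltered I]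
    (D : I ⥤ Scheme.{u}) (c : Limits.Cone D) (hc : Limits.IsLimit c)
    [∀ (i j : I) (f : i ⟶ j), IsAffineHom (D.map f)] (i : I)
    (hs : ∀ (j : I) (φ : j ⟶ i), Surjective (c.π.app j)) :
    UniversallyOpen (c.π.app i) ↔ ∀ (j : I) (φ : j ⟶ i), UniversallyOpen (D.map φ) := by
  have : ∀ {i j : I} (f : i ⟶ j), IsAffineHom (D.map f) := fun f ↦ inferInstance
  refine ⟨fun h j φ ↦ ?_, H8Lim.universallyOpen_π hc i hs⟩
  have := hs j φ
  have : UniversallyOpen (c.π.app j ≫ D.map φ) := by rw [c.w]; exact h
  exact Desc19.universallyOpen_of_comp_surjective (c.π.app j) (D.map φ)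

end Groth.Agent.S4766
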