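import Groth.Statements.S4772
import Groth.Agent.H8Lim.TopologicalProps

set_option autoImplicit false
universe u
open CategoryTheory AlgebraicGeometry
open Lim8

namespace Groth.Agent.S4772

/-- Let S = lim S_i be a cofiltered limit of schemes whose transition maps are affine and dominant, some
stage S_{i₀} being quasi-compact. Then S is connected (in particular nonempty) if and only if there
is an index i over i₀ such that S_j is connected for every j over i. -/
theorem result {I : Type u} [SmallCategory I] [IsCofiltered I]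
    (D : I ⥤ Scheme.{u}) (c : Limits.Cone D) (hc : Limits.IsLimit c)
    [∀ (i j : I) (f : i ⟶ j), IsAffineHom (D.map f)] (i₀ : I)
    [CompactSpace (D.obj i₀)] (hd : ∀ (i j : I) (φ : i ⟶ j), IsDominant (D.map φ)) :
    ConnectedSpace c.pt ↔ ∃ (i : I) (_ : i ⟶ i₀), ∀ (j : I) (_ : j ⟶ i), ConnectedSpace (D.obj j) := by
  have : ∀ {i j : I} (f : i ⟶ j), IsAffineHom (D.map f) := fun f ↦ inferInstance
  refine ⟨fun h ↦ ⟨i₀, 𝟙 i₀, fun j _ ↦ H8Lim.connectedSpace_obj hc hd j⟩, fun ⟨i, φ, h⟩ ↦ ?_⟩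
  have := H8Lim.compactSpace_obj_of_hom (D := D) φ
  have hne : Nonempty c.pt := H8Lim.nonempty_pt hc i fun j ψ ↦ (h j ψ).toNonempty
  have : PreconnectedSpace c.pt := by
    by_contra hp
    obtain ⟨l, θ, hl⟩ := H8Lim.exists_not_preconnected hc i hp fun j ψ V V' _ _ h0 ↦ ⟨j, 𝟙 j, by
      by_contra hne'
      obtain ⟨q, hq⟩ := H8Lim.exists_π_app_mem hc hd j (D.map (𝟙 j) ⁻¹ᵁ (V ⊓ V'))
        (TopologicalSpace.Opens.ne_bot_iff_nonempty _ |>.mp hne')
      have : q ∈ c.π.app j ⁻¹ᵁ (V ⊓ V') := by simpa using hq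
      rw [h0] at this
      exact this⟩
    exact hl l (𝟙 l) (h l θ).toPreconnectedSpace
  exact { toNonempty := hne }

end Groth.Agent.S4772
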