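import Groth.Statements.S4774
import Groth.Agent.H8Lim.Stalk

set_option autoImplicit false
universe u
open CategoryTheory AlgebraicGeometry
open Lim8

namespace Groth.Agent.S4774

/-- Let S = lim S_i be a cofiltered limit of schemes with affine transition maps. If S is not reduced,
then there is an index i such that S_j is not reduced for every index j over i. -/
theorem result {I : Type u} [SmallCategory I] [IsCofiltered I]
    (D : I ⥤ Scheme.{u}) (c : Limits.Cone D) (hc : Limits.IsLimit c)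
    [∀ (i j : I) (f : i ⟶ j), IsAffineHom (D.map f)] (h : ¬ IsReduced c.pt) :
    ∃ (i : I), ∀ (j : I) (_ : j ⟶ i), ¬ IsReduced (D.obj j) := by
  have : ∀ {i j : I} (f : i ⟶ j), IsAffineHom (D.map f) := fun f ↦ inferInstance
  obtain ⟨s, hs⟩ : ∃ s : c.pt, ¬ _root_.IsReduced (c.pt.presheaf.stalk s) := by
    by_contra! h'
    exact h (isReduced_of_isReduced_stalk _)
  obtain ⟨y, ⟨n, hn⟩, hy⟩ : ∃ y : c.pt.presheaf.stalk s, IsNilpotent y ∧ y ≠ 0 := by
    by_contra! h'
    exact hs ⟨h'⟩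
  obtain ⟨i₀⟩ := IsCofiltered.nonempty (C := I)
  obtain ⟨j, -, x, rfl⟩ := H8Lim.exists_stalkMap_π_eq hc s i₀ y
  rw [← map_pow] at hn
  obtain ⟨k, ψ, hk⟩ := H8Lim.exists_stalkTrans_eq_zero hc s _ hn
  refine ⟨k, fun m φ hred ↦ hy ?_⟩
  have : IsReduced (D.obj m) := hred
  have h0 : H8Lim.stalkTrans s (φ ≫ ψ) x = 0 := IsNilpotent.eq_zero ⟨n, by
    rw [← map_pow, ← H8Lim.stalkTrans_comp, CommRingCat.comp_apply, hk, map_zero]⟩
  rw [← H8Lim.stalkMap_stalkTrans_apply s (φ ≫ ψ), h0, map_zero]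

end Groth.Agent.S4774
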