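import Groth.Statements.S4775
import Groth.Agent.H8Lim.Stalk
import Groth.Agent.H8Lim.Constructible

set_option autoImplicit false
universe u
open CategoryTheory AlgebraicGeometry
open Lim8

namespace Groth.Agent.S4775

/-- Let S = lim S_i be a cofiltered limit of schemes whose transition maps are affine, flat and
surjective. Then S is reduced if and only if every S_i is reduced. -/
theorem result {I : Type u} [SmallCategory I] [IsCofiltered I]
    (D : I ⥤ Scheme.{u}) (c : Limits.Cone D) (hc : Limits.IsLimit c)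
    [∀ (i j : I) (f : i ⟶ j), IsAffineHom (D.map f)]
    (hf : ∀ (i j : I) (φ : i ⟶ j), Flat (D.map φ) ∧ Surjective (D.map φ)) :
    IsReduced c.pt ↔ ∀ (i : I), IsReduced (D.obj i) := by
  have : ∀ {i j : I} (f : i ⟶ j), IsAffineHom (D.map f) := fun f ↦ inferInstance
  obtain ⟨i₀⟩ := IsCofiltered.nonempty (C := I)
  refine ⟨fun h i ↦ ?_, fun h ↦ H8Lim.isReduced_pt_of_forall hc i₀ fun j _ ↦ h j⟩
  have := H8Lim.flat_π hc i fun j φ ↦ (hf j i φ).1
  have hsurj : ∀ t : D.obj i, ∃ s : c.pt, c.π.app i s = t := fun t ↦ by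
    have : t ∈ Set.range (c.π.app i) := by
      rw [H8Lim.range_π_eq hc i]
      simp only [Set.mem_iInter]
      exact fun j φ ↦ (hf j i φ).2.1 t
    exact this
  have : ∀ t : D.obj i, _root_.IsReduced ((D.obj i).presheaf.stalk t) := fun t ↦ by
    obtain ⟨s, rfl⟩ := hsurj t
    let : Algebra ((D.obj i).presheaf.stalk (c.π.app i s)) (c.pt.presheaf.stalk s) :=
      ((c.π.app i).stalkMap s).hom.toAlgebra
    have hfl : ((c.π.app i).stalkMap s).hom.Flat := Flat.stalkMap (c.π.app i) s
    have : Module.Flat ((D.obj i).presheaf.stalk (c.π.app i s)) (c.pt.presheaf.stalk s) := hfl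
    have : IsLocalHom (algebraMap ((D.obj i).presheaf.stalk (c.π.app i s)) (c.pt.presheaf.stalk s)) :=
      inferInstanceAs (IsLocalHom ((c.π.app i).stalkMap s).hom)
    have hff := Module.FaithfullyFlat.of_flat_of_isLocalHom
      (A := (D.obj i).presheaf.stalk (c.π.app i s)) (B := c.pt.presheaf.stalk s)
    exact isReduced_of_injective
      (algebraMap ((D.obj i).presheaf.stalk (c.π.app i s)) (c.pt.presheaf.stalk s))
      (FaithfulSMul.algebraMap_injective _ _)
  exact isReduced_of_isReduced_stalk _

end Groth.Agent.S4775
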