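import Groth.Statements.S4776
import Groth.Agent.H8Lim.TopologicalProps
import Groth.Agent.S4775

set_option autoImplicit false
universe u
open CategoryTheory AlgebraicGeometry
open Lim8

namespace Groth.Agent.S4776

/-- Let S = lim S_i be a cofiltered limit of schemes whose transition maps are affine, flat and
surjective, some stage S_{i₀} being quasi-compact, and assume that the underlying topological space
of S is Noetherian. Then S is integral if and only if there is an index i over i₀ such that S_j is
integral for every j over i. (The published statement carries neither the quasi-compactness nor the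
Noetherian hypothesis; its proof combines the reducedness criterion with the irreducibility
criterion for limits, and the latter is proved only under these two hypotheses, so they are assumed
here.) -/
theorem result {I : Type u} [SmallCategory I] [IsCofiltered I]
    (D : I ⥤ Scheme.{u}) (c : Limits.Cone D) (hc : Limits.IsLimit c)
    [∀ (i j : I) (f : i ⟶ j), IsAffineHom (D.map f)] (i₀ : I)
    [CompactSpace (D.obj i₀)] [TopologicalSpace.NoetherianSpace c.pt]
    (hf : ∀ (i j : I) (φ : i ⟶ j), Flat (D.map φ) ∧ Surjective (D.map φ)) :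
    IsIntegral c.pt ↔ ∃ (i : I) (_ : i ⟶ i₀), ∀ (j : I) (_ : j ⟶ i), IsIntegral (D.obj j) := by
  have : ∀ {i j : I} (f : i ⟶ j), IsAffineHom (D.map f) := fun f ↦ inferInstance
  have hd : ∀ (i j : I) (φ : i ⟶ j), IsDominant (D.map φ) := fun i j φ ↦
    have := (hf i j φ).2
    inferInstance
  simp only [isIntegral_iff_irreducibleSpace_and_isReduced]
  refine ⟨fun ⟨h, h'⟩ ↦ ⟨i₀, 𝟙 i₀, fun j _ ↦ ⟨H8Lim.irreducibleSpace_obj hc hd j,
    (S4775.result D c hc hf).mp h' j⟩⟩, fun ⟨i, φ, h⟩ ↦ ⟨?_, ?_⟩⟩
  · have := H8Lim.compactSpace_obj_of_hom (D := D) φ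
    exact H8Lim.irreducibleSpace_pt_of_forall hc hd i fun j ψ ↦ (h j ψ).1
  · exact H8Lim.isReduced_pt_of_forall hc i fun j ψ ↦ (h j ψ).2

end Groth.Agent.S4776
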