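import Groth.Statements.S4778
import Groth.Agent.H8Lim.LimitPreservingLFP
import Mathlib

set_option backward.isDefEq.respectTransparency.types false

set_option autoImplicit false
universe u
open CategoryTheory AlgebraicGeometry
open Lim8

namespace Groth.Agent.S4778

/-- Let f : X ⟶ S be a morphism of schemes. Suppose that for every affine open U of S and every
projective system (Z_λ) of U-schemes indexed by a nonempty directed preordered set, with every Z_λ
an affine scheme, the functor Hom_S(-, X) takes the limit of the system to the colimit of the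
Hom_S(Z_λ, X) (the canonical map from the colimit is bijective). Then f is locally of finite
presentation. -/
theorem result {X S : Scheme.{u}} (f : X ⟶ S)
    (h : ∀ (U : S.Opens), IsAffineOpen U →
      ∀ (J : Type u) [Preorder J] [IsDirected J (· ≤ ·)] [Nonempty J] (Z : Jᵒᵖ ⥤ Over (U : Scheme.{u})),
      (∀ j, IsAffine (Z.obj j).left) →
      Limits.PreservesColimit (Z ⋙ Over.map U.ι).op (yoneda.obj (Over.mk f))) :
    LocallyOfFinitePresentation f := by
  refine H8Lim.locallyOfFinitePresentation_of_lifts fun V hV J _ _ _ B cc hcc r g hg => ?_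
  have hnat : ∀ {a b : Jᵒᵖ} (m : a ⟶ b), Spec.map (B.map m.unop) ≫ Spec.map (r.app b.unop) =
      Spec.map (r.app a.unop) := fun {a b} m => by
    rw [← Spec.map_comp, ← r.naturality m.unop]
    exact congrArg Spec.map (Category.id_comp _)
  let Z : Jᵒᵖ ⥤ Over (V : Scheme.{u}) :=
    { obj := fun a => Over.mk (Y := Spec (B.obj a.unop)) (Spec.map (r.app a.unop) ≫ hV.isoSpec.inv)
      map := fun {a b} m => Over.homMk (Spec.map (B.map m.unop)) (by
        show Spec.map (B.map m.unop) ≫ Spec.map (r.app b.unop) ≫ hV.isoSpec.inv = _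
        rw [← Category.assoc, hnat m]
        rfl)
      map_id := fun a => Over.OverMorphism.ext (by simp)
      map_comp := fun m m' => Over.OverMorphism.ext (by simp) }
  have := h V hV J Z fun a => inferInstanceAs (IsAffine (Spec _))
  obtain ⟨j₀⟩ := (inferInstance : Nonempty J)
  let cZ : Limits.Cone (Z ⋙ Over.map V.ι) :=
    { pt := Over.mk (g ≫ f)
      π :=
        { app := fun a => Over.homMk (Spec.map (cc.ι.app a.unop)) (by
            show Spec.map (cc.ι.app a.unop) ≫ (Spec.map (r.app a.unop) ≫ hV.isoSpec.inv) ≫ V.ι = g ≫ f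
            rw [hg a.unop, Category.assoc, hV.isoSpec_inv_ι])
          naturality := fun a b m => Over.OverMorphism.ext (by
            show 𝟙 _ ≫ Spec.map (cc.ι.app b.unop) = Spec.map (cc.ι.app a.unop) ≫ Spec.map (B.map m.unop)
            rw [Category.id_comp, ← Spec.map_comp, cc.w]) } }
  have : IsConnected Jᵒᵖ := IsCofiltered.isConnected _
  have hcZ : Limits.IsLimit cZ :=
    Limits.isLimitOfReflects (Over.forget S) (Limits.isLimitOfPreserves Scheme.Spec hcc.op)
  obtain ⟨j, gj, hj⟩ := Limits.Types.jointly_surjective_of_isColimit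
    (Limits.isColimitOfPreserves (yoneda.obj (Over.mk f)) hcZ.op)
    (show cZ.pt ⟶ Over.mk f from Over.homMk g rfl)
  refine ⟨j.unop.unop, gj.left, ?_, congr(Over.Hom.left $hj)⟩
  refine (Over.w gj).trans ?_
  show (Spec.map (r.app j.unop.unop) ≫ hV.isoSpec.inv) ≫ V.ι = _
  rw [Category.assoc, hV.isoSpec_inv_ι]

end Groth.Agent.S4778
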