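import Groth.Statements.S4781
import Groth.Agent.H8Coh.ComponentDims
-- import your own Groth.Agent.* helpers here

set_option autoImplicit false
set_option backward.isDefEq.respectTransparency.types false
universe u
open CategoryTheory AlgebraicGeometry
open Cons9

namespace Groth.Agent.S4781

/-- Let S be a Noetherian irreducible scheme with generic point η, let X be an irreducible scheme and f
: X ⟶ S a dominant morphism of finite type. Then there is an open neighbourhood U of η in S such
that, for every s ∈ U, all irreducible components of the fibre f⁻¹(s) have dimension equal to dim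
f⁻¹(η). Fibres are taken as subspaces of X and dimensions are topological Krull dimensions. -/
theorem result {X S : Scheme.{u}} (f : X ⟶ S)
    [IsNoetherian S] [IrreducibleSpace S] [IrreducibleSpace X] [IsDominant f]
    [LocallyOfFiniteType f] [QuasiCompact f] :
    ∃ U : S.Opens, genericPoint S ∈ U ∧ ∀ s ∈ U, ∀ T ∈ irreducibleComponents ↥(⇑f ⁻¹' {s}),
      topologicalKrullDim ↥T = topologicalKrullDim ↥(⇑f ⁻¹' {genericPoint S}) := by
  have : LocallyOfFinitePresentation f := inferInstance
  let η := genericPoint S
  let ξ := genericPoint X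
  have hξ : f ξ = η := by
    refine (IsGenericPoint.eq ?_ (genericPoint_spec S))
    have h : f '' closure {ξ} ⊆ closure {f ξ} := by
      simpa using image_closure_subset_closure_image f.continuous (s := ({ξ} : Set X))
    rw [genericPoint_closure, Set.image_univ] at h
    exact isGenericPoint_def.2 (Set.univ_subset_iff.1
      ((IsDominant.denseRange (f := f)).closure_eq.ge.trans (closure_minimal h isClosed_closure)))
  have hirr : IrreducibleSpace ↥(⇑f ⁻¹' {η}) := by
    have hd : DenseRange (fun _ : PUnit.{1} => (⟨ξ, hξ⟩ : ↥(⇑f ⁻¹' {η}))) := by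
      intro z
      rw [Set.range_const, closure_subtype, Set.image_singleton]
      show (z : X) ∈ closure {ξ}
      rw [genericPoint_closure]
      trivial
    exact
      { isPreirreducible_univ := by
          rw [← hd.closure_eq, Set.range_const]
          exact isIrreducible_singleton.closure.isPreirreducible
        toNonempty := ⟨⟨ξ, hξ⟩⟩ }
  let D := fun s : S => (fun T : Set ↥(Set.univ ∩ ⇑f ⁻¹' {s}) => topologicalKrullDim ↥T) ''
        irreducibleComponents ↥(Set.univ ∩ ⇑f ⁻¹' {s})
  have hsing : D η = {topologicalKrullDim ↥(⇑f ⁻¹' {η})} := by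
    simp only [D]
    rw [Set.univ_inter, irreducibleComponents_eq_singleton, Set.image_singleton]
    congr 1
    exact (Homeomorph.Set.univ _).isHomeomorph.topologicalKrullDim_eq
  have hE := H8Coh.ComponentDims.isLocallyConstructible_setOf_dims_eq f Set.univ
    Topology.IsLocallyConstructible.univ (fun s => isClosed_univ.isLocallyClosed) (D η)
  obtain ⟨V, hV, hηV, -⟩ := exists_isAffineOpen_mem_and_subset (x := η) (U := ⊤) trivial
  let E : Set (PrimeSpectrum Γ(S, V)) := hV.fromSpec ⁻¹' {s | D s = D η}
  have hEc : Topology.IsConstructible E :=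
    EGA43.Cons.isConstructible_preimage_fromSpec hE hV
  have hv : hV.fromSpec (hV.primeIdealOf ⟨η, hηV⟩) = η := hV.fromSpec_primeIdealOf ⟨η, hηV⟩
  have hint := EGA43.FibDepth.mem_interior_of_isConstructible hEc (p := hV.primeIdealOf ⟨η, hηV⟩)
    fun p' hp' => by
      have h1 : hV.fromSpec p' ⤳ η :=
        hv ▸ ((PrimeSpectrum.le_iff_specializes _ _).1 hp').map hV.fromSpec.continuous
      show D (hV.fromSpec p') = D η
      rw [(h1.antisymm ((genericPoint_spec S).specializes trivial)).eq]
  refine ⟨hV.fromSpec ''ᵁ ⟨interior E, isOpen_interior⟩, ⟨_, hint, hv⟩, ?_⟩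
  rintro _ ⟨p, hp, rfl⟩ T hT
  have hp' : D (hV.fromSpec p) = D η := interior_subset (s := E) hp
  rw [hsing] at hp'
  simp only [D] at hp'
  rw [Set.univ_inter] at hp'
  exact hp'.le ⟨T, hT, rfl⟩

end Groth.Agent.S4781
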