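import Groth.Statements.S4786
import Groth.Agent.H8Lim.ProConsLimit
import Mathlib

set_option backward.isDefEq.respectTransparency.types false

set_option autoImplicit false
universe u
open CategoryTheory AlgebraicGeometry
open Lim8

namespace Groth.Agent.S4786

/-- Let S = lim S_i be a cofiltered limit of schemes whose transition maps are affine and flat, let
S_{i₁} be a quasi-compact stage, and let Z' and Z'' be pro-constructible subsets of S_{i₁} such that
the closure of Z' is constructible. Then the preimage of Z'' in S is contained in the closure of the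
preimage of Z' in S if and only if there is an index j over i₁ such that the preimage of Z'' in S_j
is contained in the closure of the preimage of Z' in S_j. -/
theorem result {I : Type u} [SmallCategory I] [IsCofiltered I]
    (D : I ⥤ Scheme.{u}) (c : Limits.Cone D) (hc : Limits.IsLimit c)
    [∀ (i j : I) (f : i ⟶ j), IsAffineHom (D.map f)] (i₁ : I) [CompactSpace (D.obj i₁)]
    (hfl : ∀ (i j : I) (φ : i ⟶ j), Flat (D.map φ))
    (Z' Z'' : Set (D.obj i₁)) (hZ' : ProCons.IsProConstructible Z') (hZ'' : ProCons.IsProConstructible Z'')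
    (hcl : Topology.IsConstructible (closure Z')) :
    (⇑(c.π.app i₁) ⁻¹' Z'' : Set c.pt) ⊆ closure (⇑(c.π.app i₁) ⁻¹' Z' : Set c.pt) ↔
      ∃ (j : I) (φ : j ⟶ i₁), ⇑(D.map φ) ⁻¹' Z'' ⊆ closure (⇑(D.map φ) ⁻¹' Z') := by
  have : ∀ {i j : I} (g : i ⟶ j), IsAffineHom (D.map g) := fun g ↦ inferInstance
  have := H8Lim.flat_π hc i₁ fun j φ ↦ hfl _ _ φ
  rw [← H8Lim.preimage_closure_of_flat (c.π.app i₁) hZ']
  constructor
  · intro h
    obtain ⟨j, φ, hj⟩ := H8Lim.exists_preimage_subset_of_isProConstructible hc hZ'' hcl h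
    have := hfl _ _ φ
    exact ⟨j, φ, by rwa [← H8Lim.preimage_closure_of_flat (D.map φ) hZ']⟩
  · rintro ⟨j, φ, h⟩ x hx
    have := hfl _ _ φ
    rw [← H8Lim.preimage_closure_of_flat (D.map φ) hZ'] at h
    rw [Set.mem_preimage, ← H8Lim.π_app_apply (D := D) φ x] at hx ⊢
    exact h hx

end Groth.Agent.S4786
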