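import Groth.Statements.S4787
import Groth.Agent.H8Lim.ProConsLimit
import Groth.Agent.H8Lim.Constructible
import Mathlib

set_option backward.isDefEq.respectTransparency.types false

set_option autoImplicit false
universe u
open CategoryTheory AlgebraicGeometry
open Lim8

namespace Groth.Agent.S4787

/-- Let S = lim S_i be a cofiltered limit of schemes with affine transition maps, some stage S_{i₀}
being quasi-compact. For every index let E_i be a pro-constructible and F_i an ind-constructible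
subset of S_i such that, for every transition map S_i ⟶ S_j, E_i lies in the preimage of E_j and F_i
contains the preimage of F_j. Put E = ⋂ (preimage of E_i in S) and F = ⋃ (preimage of F_i in S).
Then E ⊆ F if and only if there is an index i over i₀ such that E_j ⊆ F_j for every j over i. -/
theorem result {I : Type u} [SmallCategory I] [IsCofiltered I]
    (D : I ⥤ Scheme.{u}) (c : Limits.Cone D) (hc : Limits.IsLimit c)
    [∀ (i j : I) (f : i ⟶ j), IsAffineHom (D.map f)] (i₀ : I)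
    [CompactSpace (D.obj i₀)] (E F : ∀ i : I, Set (D.obj i))
    (hE : ∀ i, ProCons.IsProConstructible (E i)) (hF : ∀ i, ProCons.IsIndConstructible (F i))
    (hEm : ∀ (i j : I) (φ : i ⟶ j), E i ⊆ ⇑(D.map φ) ⁻¹' E j)
    (hFm : ∀ (i j : I) (φ : i ⟶ j), ⇑(D.map φ) ⁻¹' F j ⊆ F i) :
    (⋂ i, ⇑(c.π.app i) ⁻¹' E i : Set c.pt) ⊆ (⋃ i, ⇑(c.π.app i) ⁻¹' F i : Set c.pt) ↔
      ∃ (i : I) (_ : i ⟶ i₀), ∀ (j : I) (_ : j ⟶ i), E j ⊆ F j := by
  have : ∀ {i j : I} (g : i ⟶ j), IsAffineHom (D.map g) := fun g ↦ inferInstance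
  have hpi : ∀ {j i : I} (φ : j ⟶ i) (x : c.pt), D.map φ (c.π.app j x) = c.π.app i x :=
    fun φ x ↦ H8Lim.π_app_apply (D := D) φ x
  constructor
  swap
  · rintro ⟨i, -, h⟩ x hx
    exact Set.mem_iUnion.mpr ⟨i, h i (𝟙 i) (Set.mem_iInter.mp hx i)⟩
  intro h
  by_contra H
  push_neg at H
  -- the counterexamples
  let G : ∀ j : I, Set (D.obj j) := fun j ↦ E j ∩ (F j)ᶜ
  have hGne : ∀ j, (j ⟶ i₀) → (G j).Nonempty := fun j φ ↦ by
    obtain ⟨k, ψ, hk⟩ := H j φ
    obtain ⟨x, hxE, hxF⟩ := Set.not_subset.mp hk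
    exact ⟨D.map ψ x, hEm _ _ ψ hxE, fun hF' ↦ hxF (hFm _ _ ψ hF')⟩
  have hGm : ∀ {k j : I} (φ : k ⟶ j) (x : D.obj k), x ∈ G k → D.map φ x ∈ G j := fun φ x hx ↦
    ⟨hEm _ _ φ hx.1, fun hF' ↦ hx.2 (hFm _ _ φ hF')⟩
  have hGp : ∀ j, ProCons.IsProConstructible (G j) := fun j ↦ by
    refine H8ProCons.isProConstructible_of_forall_isClosed_cons fun x ↦ ?_
    obtain ⟨_, ⟨W, hW, rfl⟩, hxW, -⟩ :=
      (D.obj j).isBasis_affineOpens.exists_subset_of_mem_open (Set.mem_univ x) isOpen_univ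
    exact ⟨W, hW, hxW, @IsClosed.inter _ _ _ (constructibleTopology _)
      (H8ProCons.isClosed_cons_of_isProConstructible (hE j) hW)
      (H8ProCons.isClosed_cons_of_isProConstructible
        (H8ProCons.isIndConstructible_iff_compl.mp (hF j)) hW)⟩
  have hne : ∀ j, (j ⟶ i₀) → (c.π.app j ⁻¹' G j).Nonempty := fun j φ ↦ by
    by_contra he
    have : CompactSpace (D.obj j) := H8Lim.compactSpace_obj_of_hom φ
    obtain ⟨k, ψ, hk⟩ := H8Lim.exists_preimage_subset_of_isProConstructible hc (hGp j)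
      (C := ∅) Topology.IsConstructible.empty (by simp [Set.not_nonempty_iff_eq_empty.mp he])
    obtain ⟨x, hx⟩ := hGne k (ψ ≫ φ)
    simpa using hk (hGm ψ x hx)
  have hempty : ∀ x : c.pt, ¬ ∀ j : Over i₀, c.π.app j.left x ∈ G j.left := fun x hx ↦ by
    have hE' : x ∈ ⋂ i, c.π.app i ⁻¹' E i := Set.mem_iInter.mpr fun i ↦ by
      have := hGm (IsCofiltered.minToLeft i i₀) _
        (hx (Over.mk (IsCofiltered.minToRight i i₀)))
      simp only [Over.mk_left] at this; erw [hpi] at this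
      exact this.1
    obtain ⟨i, hi⟩ := Set.mem_iUnion.mp (h hE')
    have := hGm (IsCofiltered.minToLeft i i₀) _ (hx (Over.mk (IsCofiltered.minToRight i i₀)))
    erw [hpi] at this
    exact this.2 hi
  have := H8Lim.compactSpace_pt hc (i := i₀)
  let 𝒰 := c.pt.affineCover.finiteSubcover
  have hloc : ∀ k, ∃ j : Over i₀, (𝒰.f k) ⁻¹' (c.π.app j.left ⁻¹' G j.left) = ∅ := fun k ↦ by
    have : IsAffine (𝒰.X k) := inferInstanceAs (IsAffine (Spec _))
    obtain ⟨J, hJ⟩ := H8ProCons.exists_finite_iInter_subset (X := 𝒰.X k) (E := ∅)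
      (fun x ↦ ⟨Set.univ, isOpen_univ, trivial, ∅, by simp, by simp⟩)
      (fun j : Over i₀ ↦ (𝒰.f k) ⁻¹' (c.π.app j.left ⁻¹' G j.left))
      (fun j ↦ H8ProCons.isProConstructible_preimage _
        (H8ProCons.isProConstructible_preimage _ (hGp _)))
      (fun y hy ↦ hempty _ (Set.mem_iInter.mp hy))
    obtain ⟨m, hm⟩ := IsCofiltered.inf_objs_exists J
    refine ⟨m, Set.eq_empty_iff_forall_notMem.mpr fun y hy ↦ hJ (a := y) ?_⟩
    simp only [Set.mem_iInter]
    intro j hj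
    obtain ⟨g⟩ := hm hj
    have := hGm g.left _ hy
    rwa [hpi] at this
  choose j hj using hloc
  cases nonempty_fintype 𝒰.I₀
  classical
  obtain ⟨m, hm⟩ := IsCofiltered.inf_objs_exists (Finset.univ.image j)
  obtain ⟨x, hx⟩ := hne m.left m.hom
  obtain ⟨k, y, rfl⟩ := 𝒰.exists_eq x
  obtain ⟨g⟩ := hm (Finset.mem_image_of_mem j (Finset.mem_univ k))
  have h2 := hGm g.left _ hx
  rw [hpi] at h2
  exact (Set.eq_empty_iff_forall_notMem.mp (hj k) y) h2

end Groth.Agent.S4787
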