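import Groth.Statements.S4795
import Groth.Agent.H8Lim.DescentMore
import Groth.Agent.H8Lim.Constructible
import Groth.Agent.EGA43.Limit.Immersions
import Mathlib

set_option backward.isDefEq.respectTransparency.types false

set_option autoImplicit false
universe u
open CategoryTheory AlgebraicGeometry
open Lim8

namespace Groth.Agent.S4795

/-- Let S = lim S_i be a cofiltered limit of schemes with affine transition maps and S_{i₀} a
quasi-compact quasi-separated stage; let X₀ and Y₀ be schemes of finite presentation over S_{i₀},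
and let X, Y be their base changes along S ⟶ S_{i₀} (base changes are expressed by pullback
squares). Then X and Y are isomorphic over S if and only if, for some index j over i₀, the base
changes X_j and Y_j of X₀ and Y₀ along S_j ⟶ S_{i₀} are isomorphic over S_j. -/
theorem result {I : Type u} [SmallCategory I] [IsCofiltered I]
    (D : I ⥤ Scheme.{u}) (c : Limits.Cone D) (hc : Limits.IsLimit c)
    [∀ (i j : I) (f : i ⟶ j), IsAffineHom (D.map f)] (i₀ : I)
    [CompactSpace (D.obj i₀)] [QuasiSeparatedSpace (D.obj i₀)]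
    {X₀ Y₀ : Scheme.{u}} (a₀ : X₀ ⟶ D.obj i₀) (b₀ : Y₀ ⟶ D.obj i₀)
    [LocallyOfFinitePresentation a₀] [QuasiCompact a₀] [QuasiSeparated a₀]
    [LocallyOfFinitePresentation b₀] [QuasiCompact b₀] [QuasiSeparated b₀]
    {X Y : Scheme.{u}} (a : X ⟶ c.pt) (b : Y ⟶ c.pt) (qX : X ⟶ X₀) (qY : Y ⟶ Y₀)
    (hX : IsPullback qX a a₀ (c.π.app i₀)) (hY : IsPullback qY b b₀ (c.π.app i₀)) :
    (∃ e : X ≅ Y, e.hom ≫ b = a) ↔
      ∃ (j : I) (φ : j ⟶ i₀) (Xj Yj : Scheme.{u}) (aj : Xj ⟶ D.obj j) (bj : Yj ⟶ D.obj j)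
        (pX : Xj ⟶ X₀) (pY : Yj ⟶ Y₀), IsPullback pX aj a₀ (D.map φ) ∧ IsPullback pY bj b₀ (D.map φ) ∧
        ∃ e : Xj ≅ Yj, e.hom ≫ bj = aj := by
  have : ∀ {i j : I} (g : i ⟶ j), IsAffineHom (D.map g) := fun g ↦ inferInstance
  -- squares over a stage
  have sqd : ∀ {Z₀ Z : Scheme.{u}} {z₀ : Z₀ ⟶ D.obj i₀} {z : Z ⟶ c.pt} {q : Z ⟶ Z₀}
      (hZ : IsPullback q z z₀ (c.π.app i₀)) {j : I} {φ : j ⟶ i₀} {Zj : Scheme.{u}}
      {zj : Zj ⟶ D.obj j} {p : Zj ⟶ Z₀} (hj : IsPullback p zj z₀ (D.map φ)),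
      ∃ r : Z ⟶ Zj, r ≫ p = q ∧ IsPullback r z zj (c.π.app j) := by
    intro Z₀ Z z₀ z q hZ j φ Zj zj p hj
    have hw : q ≫ z₀ = (z ≫ c.π.app j) ≫ D.map φ := by rw [Category.assoc, c.w, hZ.w]
    refine ⟨hj.lift q _ hw, hj.lift_fst _ _ _, IsPullback.of_right ?_ (hj.lift_snd _ _ _) hj⟩
    rw [hj.lift_fst, c.w]
    exact hZ
  constructor
  · rintro ⟨e, he⟩
    have : CompactSpace X₀ := QuasiCompact.compactSpace_of_compactSpace a₀
    have : QuasiSeparatedSpace X₀ := quasiSeparatedSpace_of_quasiSeparated a₀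
    let t : H8Lim.stage D a₀ ⟶ (Functor.const _).obj (D.obj i₀) :=
      { app := fun j ↦ H8Lim.stageFst D a₀ j ≫ a₀
        naturality := fun j k g ↦ by simp }
    obtain ⟨j, g, hg, hgt⟩ := Scheme.exists_π_app_comp_eq_of_locallyOfFinitePresentation
      (H8Lim.stage D a₀) t b₀ (H8Lim.stageCone a₀ c qX a hX)
      (H8Lim.isLimitStageCone a₀ qX a hX hc) (e.hom ≫ qY) (by
        apply NatTrans.ext
        funext k
        change H8Lim.stageProj a₀ c qX a hX k ≫ H8Lim.stageFst D a₀ k ≫ a₀ = (e.hom ≫ qY) ≫ b₀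
        rw [H8Lim.stageProj_fst_assoc, hX.w, Category.assoc, hY.w, reassoc_of% he])
    let ej : (H8Lim.stage D a₀).obj j ⟶ (H8Lim.stage D b₀).obj j :=
      (H8Lim.isPullback_stage D b₀ j).lift g (H8Lim.stageSnd D a₀ j)
        (by rw [hgt]; exact (H8Lim.isPullback_stage D a₀ j).w)
    obtain ⟨rX, hrX, sX⟩ := sqd hX (H8Lim.isPullback_stage D a₀ j)
    obtain ⟨rY, hrY, sY⟩ := sqd hY (H8Lim.isPullback_stage D b₀ j)
    have heX : rX = H8Lim.stageProj a₀ c qX a hX j := by
      apply (H8Lim.isPullback_stage D a₀ j).hom_ext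
      · rw [hrX, H8Lim.stageProj_fst]
      · rw [H8Lim.stageProj_snd, sX.w]
    have hw : rX ≫ ej = e.hom ≫ rY := by
      apply (H8Lim.isPullback_stage D b₀ j).hom_ext
      · rw [Category.assoc, Category.assoc, IsPullback.lift_fst, hrY, heX]
        exact hg
      · rw [Category.assoc, Category.assoc, IsPullback.lift_snd, sY.w, sX.w, reassoc_of% he]
    have sqE : IsPullback rX e.hom ej rY := by
      refine IsPullback.of_bot ?_ hw sY
      rw [he, IsPullback.lift_snd]
      exact sX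
    have : CompactSpace ((H8Lim.stage D b₀).obj j) := by
      have : CompactSpace Y₀ := QuasiCompact.compactSpace_of_compactSpace b₀
      infer_instance
    have hs1 : LocallyOfFinitePresentation (H8Lim.stageSnd D b₀ j) :=
      MorphismProperty.of_isPullback (H8Lim.isPullback_stage D b₀ j) inferInstance
    have hs2 : QuasiSeparated (H8Lim.stageSnd D b₀ j) :=
      MorphismProperty.of_isPullback (H8Lim.isPullback_stage D b₀ j) inferInstance
    have hc1 : LocallyOfFinitePresentation (ej ≫ H8Lim.stageSnd D b₀ j) := by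
      rw [IsPullback.lift_snd]
      exact MorphismProperty.of_isPullback (H8Lim.isPullback_stage D a₀ j) inferInstance
    have hc2 : QuasiCompact (ej ≫ H8Lim.stageSnd D b₀ j) := by
      rw [IsPullback.lift_snd]
      exact MorphismProperty.of_isPullback (H8Lim.isPullback_stage D a₀ j) inferInstance
    have hc3 : QuasiSeparated (ej ≫ H8Lim.stageSnd D b₀ j) := by
      rw [IsPullback.lift_snd]
      exact MorphismProperty.of_isPullback (H8Lim.isPullback_stage D a₀ j) inferInstance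
    have hQ : LocallyOfFinitePresentation ej :=
      EGA43.Limit.locallyOfFinitePresentation_of_comp ej (H8Lim.stageSnd D b₀ j)
    have hqc : QuasiCompact ej := QuasiCompact.of_comp ej (H8Lim.stageSnd D b₀ j)
    have hqs : QuasiSeparated ej := QuasiSeparated.of_comp ej (H8Lim.stageSnd D b₀ j)
    obtain ⟨k, φ, Xk, Yk, fk, gk, pY, pX, hYk, hXk, hfk⟩ :=
      H8Lim.descends_isIso.exists_stage hc sY sqE hQ (inferInstanceAs (IsIso e.hom))
    have : IsIso fk := hfk
    refine ⟨k, φ ≫ j.hom, Xk, Yk, fk ≫ gk, gk, pX ≫ H8Lim.stageFst D a₀ j,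
      pY ≫ H8Lim.stageFst D b₀ j, ?_, ?_, asIso fk, by simp⟩
    · rw [Functor.map_comp]
      have := hXk.paste_vert hYk
      rw [IsPullback.lift_snd] at this
      exact this.paste_horiz (H8Lim.isPullback_stage D a₀ j)
    · rw [Functor.map_comp]
      exact hYk.paste_horiz (H8Lim.isPullback_stage D b₀ j)
  · rintro ⟨j, φ, Xj, Yj, aj, bj, pX, pY, hXj, hYj, e, he⟩
    obtain ⟨rX, -, sX⟩ := sqd hX hXj
    obtain ⟨rY, -, sY⟩ := sqd hY hYj
    have sX' : IsPullback (rX ≫ e.hom) a bj (c.π.app j) := by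
      refine sX.of_iso (Iso.refl X) e (Iso.refl _) (Iso.refl _) ?_ ?_ ?_ ?_ <;> simp [he]
    exact ⟨sX'.isoIsPullback _ _ sY, sX'.isoIsPullback_hom_snd _ _ sY⟩

end Groth.Agent.S4795
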