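import Groth.Statements.S4801
import Groth.Agent.H8Coh.FibreExact
-- import your own Groth.Agent.* helpers here

set_option autoImplicit false
set_option backward.isDefEq.respectTransparency.types false
universe u
open TensorProduct
open Cons9

namespace Groth.Agent.S4801

/-- Let R be an integral domain with fraction field K, B an R-algebra of finite presentation, F, G, H
three B-modules of finite presentation and u : F → G, v : G → H homomorphisms of B-modules such that
the generic fibre sequence K ⊗_R F → K ⊗_R G → K ⊗_R H is exact. Then there is a nonzero f ∈ R such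
that, for every prime ideal p of R with f ∉ p, the fibre sequence κ(p) ⊗_R F → κ(p) ⊗_R G → κ(p) ⊗_R
H is exact. Affine form: S = Spec R, X = Spec B with B a finitely presented R-algebra, the modules
finitely presented B-modules, and the fibre of a module M at a prime p taken as κ(p) ⊗_R M; the
published statement, for a morphism of finite presentation and quasi-coherent modules of finite
presentation, is local on S and on X and reduces to this one. -/
theorem result {R B : Type u} [CommRing R] [IsDomain R]
    [CommRing B] [Algebra R B] [Algebra.FinitePresentation R B]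
    {F G H : Type u} [AddCommGroup F] [Module B F] [Module R F] [IsScalarTower R B F] [Module.FinitePresentation B F]
    [AddCommGroup G] [Module B G] [Module R G] [IsScalarTower R B G] [Module.FinitePresentation B G]
    [AddCommGroup H] [Module B H] [Module R H] [IsScalarTower R B H] [Module.FinitePresentation B H]
    (u : F →ₗ[B] G) (v : G →ₗ[B] H)
    (hgen : Function.Exact ((u.restrictScalars R).baseChange (FractionRing R)) ((v.restrictScalars R).baseChange (FractionRing R))) :
    ∃ f : R, f ≠ 0 ∧ ∀ p : PrimeSpectrum R, f ∉ p.asIdeal →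
      Function.Exact ((u.restrictScalars R).baseChange p.asIdeal.ResidueField) ((v.restrictScalars R).baseChange p.asIdeal.ResidueField) := by
  let p₀ : PrimeSpectrum R := ⟨⊥, Ideal.isPrime_bot⟩
  let Q := p₀.asIdeal.ResidueField
  have hinj : Function.Injective (algebraMap R Q) := (injective_iff_map_eq_zero _).2 fun r hr =>
    (Submodule.mem_bot R).1 (Ideal.algebraMap_residueField_eq_zero.1 hr)
  let φ : FractionRing R →ₐ[R] Q := IsFractionRing.liftAlgHom (g := Algebra.ofId R Q) hinj
  have hφ : Function.Surjective φ := fun z => by
    obtain ⟨a, s, hs, rfl⟩ := IsFractionRing.div_surjective (R ⧸ p₀.asIdeal) z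
    obtain ⟨a, rfl⟩ := Ideal.Quotient.mk_surjective a
    obtain ⟨s, rfl⟩ := Ideal.Quotient.mk_surjective s
    refine ⟨algebraMap R _ a / algebraMap R _ s, ?_⟩
    rw [map_div₀, AlgHom.commutes, AlgHom.commutes]
    rfl
  let e := AlgEquiv.ofBijective φ ⟨RingHom.injective φ.toRingHom, hφ⟩
  have hp₀ : p₀ ∈ {p : PrimeSpectrum R | Function.Exact ((u.restrictScalars R).baseChange p.asIdeal.ResidueField)
      ((v.restrictScalars R).baseChange p.asIdeal.ResidueField)} := by
    refine Function.Exact.of_ladder_linearEquiv_of_exact (e₁ := TensorProduct.congr e.toLinearEquiv (.refl R F))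
      (e₂ := TensorProduct.congr e.toLinearEquiv (.refl R G)) (e₃ := TensorProduct.congr e.toLinearEquiv (.refl R H))
      (f₁₂ := (u.restrictScalars R).lTensor (FractionRing R)) (f₂₃ := (v.restrictScalars R).lTensor (FractionRing R))
      (g₁₂ := (u.restrictScalars R).lTensor Q) (g₂₃ := (v.restrictScalars R).lTensor Q) ?_ ?_ hgen <;>
      exact TensorProduct.ext' fun a x => by simp
  obtain ⟨S, hS⟩ := PrimeSpectrum.exists_constructibleSetData_iff.2
    (H8Coh.FibreExact.isConstructible_setOf_fibre_exact (R := R) u v)
  rw [← hS] at hp₀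
  obtain ⟨D, hg, hD, hf⟩ : ∃ D, Set.range D.g ⊆ p₀.asIdeal ∧ D ∈ S ∧ D.f ∉ p₀.asIdeal := by
    simpa [PrimeSpectrum.ConstructibleSetData.toSet, PrimeSpectrum.BasicConstructibleSetData.toSet] using hp₀
  refine ⟨D.f, fun h0 => hf (h0 ▸ p₀.asIdeal.zero_mem), fun p hp => ?_⟩
  have hmem : p ∈ S.toSet := by
    simp only [PrimeSpectrum.ConstructibleSetData.toSet, Set.mem_iUnion]
    refine ⟨D, hD, fun x hx => ?_, fun h => hp (h rfl)⟩
    rw [(Submodule.mem_bot R).1 (hg hx)]
    exact zero_mem _
  rw [hS] at hmem
  exact hmem

end Groth.Agent.S4801
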