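import Groth.Statements.S4807
import Groth.Agent.H8Lim.NormalizationImmersion
import Mathlib

set_option backward.isDefEq.respectTransparency.types false

set_option autoImplicit false
universe u
open CategoryTheory AlgebraicGeometry
open Lim8

namespace Groth.Agent.S4807

/-- Let Y be a quasi-compact quasi-separated scheme and f : X ⟶ Y a separated morphism of finite type.
Let X' be the relative normalization of Y in X, the spectrum of the integral closure of O_Y in
f_*O_X, with its canonical morphism g : X ⟶ X'. Then f admits a factorization X ⟶ Y' ⟶ Y into an
immersion followed by a finite morphism if and only if g is an immersion. -/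
theorem result {X Y : Scheme.{u}} (f : X ⟶ Y)
    [CompactSpace Y] [QuasiSeparatedSpace Y] [IsSeparated f] [LocallyOfFiniteType f] [QuasiCompact f] :
    (∃ (Y' : Scheme.{u}) (f' : X ⟶ Y') (u : Y' ⟶ Y), IsImmersion f' ∧ IsFinite u ∧ f' ≫ u = f) ↔
      IsImmersion f.toNormalization := by
  constructor
  · rintro ⟨Y', f', u, hf', hu, e⟩
    have : IsImmersion (f.toNormalization ≫ f.normalizationDesc f' u e.symm) := by
      rw [Scheme.Hom.toNormalization_normalizationDesc]; exact hf'
    exact IsImmersion.of_comp f.toNormalization (f.normalizationDesc f' u e.symm)
  · intro hg
    have : CompactSpace X := QuasiCompact.compactSpace_of_compactSpace f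
    have : LocallyOfFiniteType (f.toNormalization ≫ f.fromNormalization) := by
      rw [Scheme.Hom.toNormalization_fromNormalization]; infer_instance
    obtain ⟨Y', f', u, hf', hu, e⟩ :=
      Groth.Agent.H8Lim.exists_immersion_finite_of_integral (h := f.fromNormalization) f.toNormalization
    exact ⟨Y', f', u, hf', hu, e.trans f.toNormalization_fromNormalization⟩

end Groth.Agent.S4807
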