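import Groth.Statements.S4815
import Groth.Agent.H8Lim.SchemeDescent
import Groth.Agent.H8Lim.DescentMore
import Mathlib

set_option backward.isDefEq.respectTransparency.types false

set_option autoImplicit false
universe u
open CategoryTheory AlgebraicGeometry
open Lim8

namespace Groth.Agent.S4815

/-- Let S = lim S_i be a cofiltered limit of schemes with affine transition maps and S_{i₀} a
quasi-compact quasi-separated stage. Then every subscheme of finite presentation of S, that is every
immersion ι : Z ⟶ S which is locally of finite presentation and quasi-compact, is the base change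
along S ⟶ S_j of an immersion of finite presentation Z_j ⟶ S_j, for some index j over i₀ (the base
change is expressed by a pullback square). -/
theorem result {I : Type u} [SmallCategory I] [IsCofiltered I]
    (D : I ⥤ Scheme.{u}) (c : Limits.Cone D) (hc : Limits.IsLimit c)
    [∀ (i j : I) (f : i ⟶ j), IsAffineHom (D.map f)] (i₀ : I)
    [CompactSpace (D.obj i₀)] [QuasiSeparatedSpace (D.obj i₀)]
    {Z : Scheme.{u}} (ι : Z ⟶ c.pt) [IsImmersion ι] [LocallyOfFinitePresentation ι] [QuasiCompact ι] :
    ∃ (j : I) (_ : j ⟶ i₀) (Zj : Scheme.{u}) (ιj : Zj ⟶ D.obj j) (q : Z ⟶ Zj),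
      IsImmersion ιj ∧ LocallyOfFinitePresentation ιj ∧ QuasiCompact ιj ∧ IsPullback q ι ιj (c.π.app j) := by
  have haff : ∀ {i j : I} (f : i ⟶ j), IsAffineHom (D.map f) := fun f => by infer_instance
  let E := Over.forget i₀ ⋙ D
  have : ∀ {a b : Over i₀} (φ : a ⟶ b), IsAffineHom (E.map φ) := fun φ => haff φ.left
  have : ∀ a : Over i₀, IsAffineHom (D.map a.hom) := fun a => haff _
  have : ∀ a : Over i₀, CompactSpace (E.obj a) := fun a =>
    QuasiCompact.compactSpace_of_compactSpace (D.map a.hom)
  have : ∀ a : Over i₀, QuasiSeparatedSpace (E.obj a) := fun a =>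
    quasiSeparatedSpace_of_quasiSeparated (D.map a.hom)
  have hcE : Limits.IsLimit (c.whisker (Over.forget i₀)) :=
    (Functor.Initial.isLimitWhiskerEquiv (Over.forget i₀) c).symm hc
  obtain ⟨j, Zj, h, q, h1, h2, h3, sq⟩ := H8Lim.exists_stage_scheme hcE ι
  have := h1; have := h2; have := h3
  obtain ⟨k, ψ, hψ⟩ := H8Lim.descends_isImmersion E (c.whisker (Over.forget i₀)) hcE
    (fun φ => haff φ.left) j h (inferInstanceAs (LocallyOfFiniteType h)) ι q sq
    (inferInstanceAs (IsImmersion ι))
  have hw : (c.whisker (Over.forget i₀)).π.app k ≫ E.map ψ = (c.whisker (Over.forget i₀)).π.app j :=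
    (c.whisker (Over.forget i₀)).w ψ
  refine ⟨k.left, k.hom, _, Limits.pullback.snd h (E.map ψ),
    Limits.pullback.lift q (ι ≫ (c.whisker (Over.forget i₀)).π.app k)
      (by rw [sq.w, Category.assoc, hw]), hψ, MorphismProperty.pullback_snd h (E.map ψ) h1, MorphismProperty.pullback_snd h (E.map ψ) h2, ?_⟩
  refine IsPullback.of_right ?_ (Limits.pullback.lift_snd _ _ _)
    (IsPullback.of_hasPullback h (E.map ψ))
  rw [Limits.pullback.lift_fst]
  erw [hw]
  exact sq

end Groth.Agent.S4815
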