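import Groth.Statements.S4816
import Groth.Agent.H8Lim.DescentMore

set_option autoImplicit false
universe u
open CategoryTheory AlgebraicGeometry
open Lim8

namespace Groth.Agent.S4816

open CategoryTheory.Limits in
/-- Let S = lim S_i be a cofiltered limit of schemes with affine transition maps and S_{i₀} a
quasi-compact stage; let ι₁ : Z₁ ⟶ S_{i₀} and ι₂ : Z₂ ⟶ S_{i₀} be two subschemes of finite
presentation of S_{i₀} (immersions which are locally of finite presentation and quasi-compact), with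
base changes Z₁ ×_{S_{i₀}} T ⟶ T to T = S and to T = S_j. Then Z₁ ×_{S_{i₀}} S is a subscheme of Z₂
×_{S_{i₀}} S (its immersion into S factors through that of Z₂ ×_{S_{i₀}} S) if and only if, for some
index j over i₀, Z₁ ×_{S_{i₀}} S_j is a subscheme of Z₂ ×_{S_{i₀}} S_j. -/
theorem result {I : Type u} [SmallCategory I] [IsCofiltered I]
    (D : I ⥤ Scheme.{u}) (c : Limits.Cone D) (hc : Limits.IsLimit c)
    [∀ (i j : I) (f : i ⟶ j), IsAffineHom (D.map f)] (i₀ : I) [CompactSpace (D.obj i₀)]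
    {Z₁ Z₂ : Scheme.{u}} (ι₁ : Z₁ ⟶ D.obj i₀) (ι₂ : Z₂ ⟶ D.obj i₀)
    [IsImmersion ι₁] [LocallyOfFinitePresentation ι₁] [QuasiCompact ι₁]
    [IsImmersion ι₂] [LocallyOfFinitePresentation ι₂] [QuasiCompact ι₂] :
    (∃ k : pullback ι₁ (c.π.app i₀) ⟶ pullback ι₂ (c.π.app i₀),
        k ≫ pullback.snd ι₂ (c.π.app i₀) = pullback.snd ι₁ (c.π.app i₀)) ↔
      ∃ (j : I) (φ : j ⟶ i₀) (k : pullback ι₁ (D.map φ) ⟶ pullback ι₂ (D.map φ)),
        k ≫ pullback.snd ι₂ (D.map φ) = pullback.snd ι₁ (D.map φ) := by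
  have : ∀ {i j : I} (f : i ⟶ j), IsAffineHom (D.map f) := fun f ↦ inferInstance
  have : CompactSpace Z₁ := QuasiCompact.compactSpace_of_compactSpace ι₁
  constructor
  · rintro ⟨k, hk⟩
    let h₀ := pullback.fst ι₁ ι₂
    let f := pullback.snd h₀ (pullback.fst ι₁ (c.π.app i₀))
    have : Mono h₀ := inferInstance
    have hf : IsIso f := by
      let s : pullback ι₁ (c.π.app i₀) ⟶ pullback h₀ (pullback.fst ι₁ (c.π.app i₀)) :=
        pullback.lift (pullback.lift (pullback.fst _ _) (k ≫ pullback.fst _ _) (by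
          rw [Category.assoc, pullback.condition, pullback.condition, reassoc_of% hk])) (𝟙 _) ((pullback.lift_fst _ _ _).trans (Category.id_comp _).symm)
      have : IsSplitEpi f := ⟨⟨⟨s, pullback.lift_snd _ _ _⟩⟩⟩
      exact isIso_of_mono_of_isSplitEpi f
    obtain ⟨j, φ, Xj, Yj, fj, gj, pY, pX, hY, hX, (hfj : IsIso fj)⟩ :=
      H8Lim.descends_isIso.exists_stage hc (IsPullback.of_hasPullback ι₁ (c.π.app i₀))
        (IsPullback.of_hasPullback h₀ (pullback.fst ι₁ (c.π.app i₀))) (Q := @LocallyOfFinitePresentation)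
        inferInstance hf
    refine ⟨j, φ, pullback.lift (hY.isoPullback.inv ≫ inv fj ≫ pX ≫ pullback.snd ι₁ ι₂) (pullback.snd _ _) ?_,
      pullback.lift_snd _ _ _⟩
    have h1 : pX ≫ pullback.snd ι₁ ι₂ ≫ ι₂ = fj ≫ gj ≫ D.map φ := by
      rw [← pullback.condition, ← hY.w]; exact hX.w_assoc ι₁
    simp [h1]
  · rintro ⟨j, φ, k, hk⟩
    let m : pullback ι₁ (c.π.app i₀) ⟶ pullback ι₁ (D.map φ) :=
      pullback.lift (pullback.fst _ _) (pullback.snd _ _ ≫ c.π.app j) (by
        rw [Category.assoc, c.w]; exact pullback.condition)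
    refine ⟨pullback.lift (m ≫ k ≫ pullback.fst _ _) (pullback.snd _ _) ?_, pullback.lift_snd _ _ _⟩
    simp only [Category.assoc, pullback.condition, reassoc_of% hk]
    erw [pullback.lift_snd_assoc, Category.assoc, c.w]

end Groth.Agent.S4816
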