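import Groth.Statements.S4821
import Mathlib

set_option backward.isDefEq.respectTransparency.types false

set_option autoImplicit false
universe u
open Cons9

namespace Groth.Agent.S4821

/-- Let A be an integral domain with fraction field K, and (P_i) a finite family of polynomials in
A[T_1, …, T_m], generating an ideal 𝔞; for a point s of Spec A write 𝔞_s for the ideal of κ(s)[T_1,
…, T_m] generated by the images of the P_i. If the zero locus of 𝔞_η in affine m-space over K = κ(η)
is empty, that is if 𝔞_η is the unit ideal, then there is an open neighbourhood D(f) (f ≠ 0) of the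
generic point such that 𝔞_s is the unit ideal (its zero locus is empty) for every s in D(f). -/
theorem result {A : Type u} [CommRing A] [IsDomain A] {m : ℕ}
    (P : Finset (MvPolynomial (Fin m) A))
    (hη : Ideal.span ((MvPolynomial.map (algebraMap A (FractionRing A))) '' (P : Set (MvPolynomial (Fin m) A))) = ⊤) :
    ∃ f : A, f ≠ 0 ∧ ∀ p : PrimeSpectrum A, f ∉ p.asIdeal →
      Ideal.span ((MvPolynomial.map (algebraMap A p.asIdeal.ResidueField)) '' (P : Set (MvPolynomial (Fin m) A))) = ⊤ := by
  classical
  letI := MvPolynomial.algebraMvPolynomial (σ := Fin m) (R := A) (S := FractionRing A)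
  let M := (nonZeroDivisors A).map (MvPolynomial.C (σ := Fin m) : A →+* MvPolynomial (Fin m) A)
  have : IsLocalization M (MvPolynomial (Fin m) (FractionRing A)) :=
    MvPolynomial.isLocalization (nonZeroDivisors A) (FractionRing A)
  let I := Ideal.span (P : Set (MvPolynomial (Fin m) A))
  have hI : I.map (algebraMap (MvPolynomial (Fin m) A) (MvPolynomial (Fin m) (FractionRing A))) = ⊤ := by
    rw [Ideal.map_span]
    exact hη
  obtain ⟨x, hxI, hxM⟩ : ∃ x, x ∈ I ∧ x ∈ M := by
    by_contra hne
    push Not at hne
    exact (IsLocalization.map_algebraMap_ne_top_iff_disjoint M _ I).mpr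
      (Set.disjoint_left.mpr fun x hx hx' => hne x hx' hx) hI
  obtain ⟨f, hf, rfl⟩ := Submonoid.mem_map.mp hxM
  refine ⟨f, nonZeroDivisors.ne_zero hf, fun p hp => ?_⟩
  rw [← Ideal.map_span]
  refine Ideal.eq_top_of_isUnit_mem _ (Ideal.mem_map_of_mem _ hxI) ?_
  rw [MvPolynomial.map_C]
  refine (IsUnit.mk0 _ ?_).map MvPolynomial.C
  rwa [ne_eq, Ideal.algebraMap_residueField_eq_zero]

end Groth.Agent.S4821
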