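import Groth.Statements.S4823
import Groth.Agent.FEtStein.AlgClosedEquiv
import Groth.Agent.H8Lim.ModHomDescent

set_option autoImplicit false
open CategoryTheory AlgebraicGeometry
universe u
open Cons9 Opposite
open Groth.Agent.FEtStein

set_option backward.isDefEq.respectTransparency.types false

namespace Groth.Agent.S4823

open CategoryTheory.Limits in
/-- Let k be a field, Ω an algebraically closed extension field of k, X a scheme of finite type over k
and F, G two coherent O_X-modules (quasi-coherent of finite presentation). If the pullbacks of F and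
G to X ⊗_k Ω are isomorphic, then there is a finite extension k' of k such that the pullbacks of F
and G to X ⊗_k k' are already isomorphic (base changes are the chosen fibre products with Spec of
the extension, and the modules are pulled back along the first projection). -/
theorem result {k : Type u} [Field k] {X : Scheme.{u}}
    (p : X ⟶ Spec (CommRingCat.of k)) [LocallyOfFiniteType p] [QuasiCompact p]
    (F G : X.Modules) [Coh.IsQCoh F] [Coh.IsQCoh G] (hF : CohB1.IsFP F) (hG : CohB1.IsFP G)
    (Ω : Type u) [Field Ω] [Algebra k Ω] [IsAlgClosed Ω]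
    (e : (Scheme.Modules.pullback (pullback.fst p (Spec.map (CommRingCat.ofHom (algebraMap k Ω))))).obj F ≅
      (Scheme.Modules.pullback (pullback.fst p (Spec.map (CommRingCat.ofHom (algebraMap k Ω))))).obj G) :
    ∃ (k' : Type u) (_ : Field k') (_ : Algebra k k') (_ : Module.Finite k k'),
      Nonempty ((Scheme.Modules.pullback (pullback.fst p (Spec.map (CommRingCat.ofHom (algebraMap k k'))))).obj F ≅
        (Scheme.Modules.pullback (pullback.fst p (Spec.map (CommRingCat.ofHom (algebraMap k k'))))).obj G) := by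
  classical
  haveI : CompactSpace X := QuasiCompact.compactSpace_of_compactSpace p
  haveI : IsLocallyNoetherian X := LocallyOfFiniteType.isLocallyNoetherian p
  haveI : QuasiSeparatedSpace X := inferInstance
  obtain ⟨hc⟩ := nonempty_isLimit_fgCone (K := Ω) p
  let i : (Finset Ω)ᵒᵖ := op ∅
  let q : (fgX (K := Ω) p).obj i ⟶ X := pullback.fst p (bsA k i.unop)
  haveI := EGA43.InjFibre.isQCoh_pullback q F
  haveI := EGA43.InjFibre.isQCoh_pullback q G
  have hF' : CohB1.IsFP ((Scheme.Modules.pullback q).obj F) := Desc19b.ModStFib.isFP_pullback q F hF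
  have hG' : CohB1.IsFP ((Scheme.Modules.pullback q).obj G) := Desc19b.ModStFib.isFP_pullback q G hG
  have hiso : Nonempty ((Scheme.Modules.pullback ((fgCone (K := Ω) p).π.app i)).obj ((Scheme.Modules.pullback q).obj F) ≅
      (Scheme.Modules.pullback ((fgCone (K := Ω) p).π.app i)).obj ((Scheme.Modules.pullback q).obj G)) :=
    ⟨(Scheme.Modules.pullbackComp _ q).app F ≪≫ (Scheme.Modules.pullbackCongr (fgπ_fst p i)).app F ≪≫ e ≪≫
      ((Scheme.Modules.pullbackCongr (fgπ_fst p i)).app G).symm ≪≫ ((Scheme.Modules.pullbackComp _ q).app G).symm⟩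
  obtain ⟨j, φ, ⟨ej⟩⟩ := (H8Lim.nonempty_iso_iff_eventually hc _ _ hF' hG').1 hiso
  let A := Algebra.adjoin k ((j.unop : Finset Ω) : Set Ω)
  obtain ⟨m, hm⟩ := Ideal.exists_maximal A
  letI := Ideal.Quotient.field m
  haveI : Algebra.FiniteType k A := (Subalgebra.fg_iff_finiteType _).mp (Subalgebra.fg_adjoin_finset _)
  haveI : Algebra.FiniteType k (A ⧸ m) :=
    .of_surjective (Ideal.Quotient.mkₐ k m) Ideal.Quotient.mk_surjective
  haveI : Module.Finite k (A ⧸ m) := finite_of_finite_type_of_isJacobsonRing k (A ⧸ m)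
  refine ⟨A ⧸ m, inferInstance, inferInstance, inferInstance, ?_⟩
  let σ : Spec (CommRingCat.of (A ⧸ m)) ⟶ Spec (CommRingCat.of A) :=
    Spec.map (CommRingCat.ofHom (Ideal.Quotient.mk m))
  let ρ : pullback p (Spec.map (CommRingCat.ofHom (algebraMap k (A ⧸ m)))) ⟶ (fgX (K := Ω) p).obj j :=
    pullback.lift (pullback.fst _ _) (pullback.snd _ _ ≫ σ) (by
      have hσ : σ ≫ bsA k j.unop = Spec.map (CommRingCat.ofHom (algebraMap k (A ⧸ m))) := by
        exact (Spec.map_comp _ _).symm.trans rfl
      rw [Category.assoc]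
      exact (pullback.condition).trans (congrArg (pullback.snd _ _ ≫ ·) hσ.symm))
  have hρ : ρ ≫ (fgX (K := Ω) p).map φ ≫ q = pullback.fst _ _ := by
    have h1 : (fgX (K := Ω) p).map φ ≫ q = pullback.fst p (bsA k j.unop) := pullback.lift_fst _ _ _
    refine (congrArg (ρ ≫ ·) h1).trans ?_
    exact pullback.lift_fst _ _ _
  let E : ∀ H : X.Modules, (Scheme.Modules.pullback ρ).obj ((Scheme.Modules.pullback ((fgX (K := Ω) p).map φ)).obj
      ((Scheme.Modules.pullback q).obj H)) ≅ (Scheme.Modules.pullback (pullback.fst p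
        (Spec.map (CommRingCat.ofHom (algebraMap k (A ⧸ m)))))).obj H := fun H =>
    (Scheme.Modules.pullback ρ).mapIso ((Scheme.Modules.pullbackComp _ q).app H) ≪≫
      (Scheme.Modules.pullbackComp ρ _).app H ≪≫ (Scheme.Modules.pullbackCongr hρ).app H
  exact ⟨(E F).symm ≪≫ (Scheme.Modules.pullback ρ).mapIso ej ≪≫ E G⟩

end Groth.Agent.S4823
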